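import Mathlib

/-!
# Sheaves of modules: colimits and separators
-/

namespace Groth.Agent.Helper3.SheafModLib

open CategoryTheory CategoryTheory.Limits

universe u

variable {C : Type u} [SmallCategory C] {J : GrothendieckTopology C}

lemma toSheaf_preservesLimits (R : Sheaf J RingCat.{u}) :
    PreservesLimitsOfSize.{u, u} (SheafOfModules.toSheaf.{u} R) := by
  have : PreservesLimitsOfSize.{u, u}
      (SheafOfModules.toSheaf.{u} R ⋙ sheafToPresheaf J AddCommGrpCat.{u}) :=
    (inferInstance : PreservesLimitsOfSize.{u, u}
      (SheafOfModules.forget.{u} R ⋙ PresheafOfModules.toPresheaf R.obj))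
  exact preservesLimits_of_reflects_of_preserves _ (sheafToPresheaf _ _)

lemma toSheaf_preservesColimits (R : Sheaf J RingCat.{u}) :
    PreservesColimitsOfSize.{u, u} (SheafOfModules.toSheaf.{u} R) := by
  constructor
  intro K _
  constructor
  intro D
  let S := PresheafOfModules.sheafification.{u} (𝟙 R.obj)
  let e' : D ≅ (D ⋙ SheafOfModules.forget R) ⋙ S :=
    Functor.isoWhiskerLeft D
      (asIso (PresheafOfModules.sheafificationAdjunction (𝟙 R.obj)).counit).symm
  have h0 : PreservesColimit ((D ⋙ SheafOfModules.forget R) ⋙ S)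
      (SheafOfModules.toSheaf.{u} R) := by
    have h1 : PreservesColimit (D ⋙ SheafOfModules.forget R)
        (S ⋙ SheafOfModules.toSheaf.{u} R) :=
      (inferInstance : PreservesColimit (D ⋙ SheafOfModules.forget R)
        (PresheafOfModules.toPresheaf R.obj ⋙ presheafToSheaf J AddCommGrpCat.{u}))
    let c := colimit.cocone (D ⋙ SheafOfModules.forget R)
    have hc : IsColimit c := colimit.isColimit _
    have hSc : IsColimit (S.mapCocone c) := isColimitOfPreserves S hc
    refine preservesColimit_of_preserves_colimit_cocone hSc ?_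
    exact IsColimit.ofIsoColimit
      (isColimitOfPreserves (S ⋙ SheafOfModules.toSheaf.{u} R) hc)
      (Cocone.ext (Iso.refl _) (by intro j; simp))
  exact preservesColimit_of_iso_diagram _ e'.symm

lemma toSheaf_reflectsColimits (R : Sheaf J RingCat.{u}) :
    ReflectsColimitsOfSize.{u, u} (SheafOfModules.toSheaf.{u} R) := by
  have := toSheaf_preservesColimits R
  exact reflectsColimits_of_reflectsIsomorphisms

/-- a small separating family of sheaves of modules -/
noncomputable def sep (R : Sheaf J RingCat.{u}) : ObjectProperty (SheafOfModules.{u} R) :=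
  .ofObj (fun X : C => (PresheafOfModules.sheafification.{u} (𝟙 R.obj)).obj
    ((PresheafOfModules.free R.obj).obj (yoneda.obj X)))

instance (R : Sheaf J RingCat.{u}) : ObjectProperty.Small.{u} (sep R) := by
  dsimp [sep]
  infer_instance

lemma sep_isSeparating (R : Sheaf J RingCat.{u}) : (sep R).IsSeparating := by
  intro M N f g h
  let adj := PresheafOfModules.sheafificationAdjunction.{u} (𝟙 R.obj)
  have hfaith : (SheafOfModules.forget.{u} R ⋙ PresheafOfModules.restrictScalars (𝟙 R.obj)).Faithful :=
    inferInstance
  apply (SheafOfModules.forget.{u} R ⋙ PresheafOfModules.restrictScalars (𝟙 R.obj)).map_injective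
  apply PresheafOfModules.freeYoneda.isSeparating R.obj
  rintro _ ⟨X⟩ p
  have h1 := h _ ⟨X⟩ ((adj.homEquiv _ _).symm p)
  have h2 := congrArg (adj.homEquiv _ _) h1
  rw [Adjunction.homEquiv_naturality_right, Adjunction.homEquiv_naturality_right,
    Equiv.apply_symm_apply] at h2
  exact h2

instance wellPowered (R : Sheaf J RingCat.{u}) : WellPowered.{u} (SheafOfModules.{u} R) :=
  wellPowered_of_isDetecting (sep_isSeparating R).isDetecting

instance wellPowered_op (R : Sheaf J RingCat.{u}) : WellPowered.{u} (SheafOfModules.{u} R)ᵒᵖ :=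
  inferInstance

/-- special adjoint functor theorem for sheaves of modules -/
theorem isLeftAdjoint_of_preservesColimits (R : Sheaf J RingCat.{u})
    {D : Type*} [Category.{u} D] (F : SheafOfModules.{u} R ⥤ D)
    [PreservesColimitsOfSize.{u, u} F] : F.IsLeftAdjoint :=
  isLeftAdjoint_of_preservesColimits_of_isSeparating (sep_isSeparating R) F

end Groth.Agent.Helper3.SheafModLib
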