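import Mathlib
set_option linter.style.haveILetI false
set_option linter.unusedSectionVars false
set_option linter.unusedVariables false

namespace Groth.Agent.Helper3.ProjNoeth
open AlgebraicGeometry CategoryTheory DirectSum

universe u

/-- A Noetherian `ℕ`-graded ring is of finite type over its degree-zero part. -/
theorem finiteType_of_isNoetherianRing {A σ : Type*} [CommRing A] [SetLike σ A]
    [AddSubgroupClass σ A] (𝒜 : ℕ → σ) [GradedRing 𝒜] [IsNoetherianRing A] :
    Algebra.FiniteType (𝒜 0) A := by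
  classical
  have hfg : (HomogeneousIdeal.irrelevant 𝒜).toIdeal.FG := IsNoetherian.noetherian _
  rw [HomogeneousIdeal.irrelevant_eq_span] at hfg
  obtain ⟨s, hs, hspan⟩ := (Submodule.fg_span_iff_fg_span_finset_subset _).mp hfg
  refine ⟨⟨s, ?_⟩⟩
  set B := Algebra.adjoin (𝒜 0) (s : Set A) with hB
  have key : ∀ n, ∀ a ∈ 𝒜 n, a ∈ B := by
    intro n
    induction n using Nat.strong_induction_on with
    | _ n ih =>
      intro a ha
      rcases Nat.eq_zero_or_pos n with rfl | hn
      · exact Subalgebra.algebraMap_mem B ⟨a, ha⟩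
      · have ha' : a ∈ Ideal.span (s : Set A) := by
          have h1 : a ∈ Ideal.span (⋃ i, ⋃ (_ : i > 0), (𝒜 i : Set A)) :=
            Ideal.subset_span (Set.mem_iUnion₂.mpr ⟨n, hn, ha⟩)
          rw [Ideal.span, hspan] at h1
          exact h1
        obtain ⟨c, -, hc⟩ := Submodule.mem_span_finset.mp ha'
        have h2 : a = ∑ x ∈ s, (decompose 𝒜 (c x • x) n : A) := by
          have h3 : (decompose 𝒜 a n : A) = a := DirectSum.decompose_of_mem_same 𝒜 ha
          rw [← h3, ← hc, DirectSum.decompose_sum, DFinsupp.finset_sum_apply,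
            AddSubmonoidClass.coe_finset_sum]
        rw [h2]
        refine sum_mem fun x hx => ?_
        obtain ⟨i, hi, hxi⟩ := Set.mem_iUnion₂.mp (hs hx)
        rw [smul_eq_mul]
        by_cases hle : i ≤ n
        · rw [DirectSum.coe_decompose_mul_of_right_mem_of_le 𝒜 hxi hle]
          exact mul_mem (ih (n - i) (by omega) _ (decompose 𝒜 (c x) (n - i)).2)
            (Algebra.subset_adjoin hx)
        · rw [DirectSum.coe_decompose_mul_of_right_mem_of_not_le 𝒜 hxi hle]
          exact zero_mem _
  rw [eq_top_iff]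
  intro a _
  rw [← DirectSum.sum_support_decompose 𝒜 a]
  exact sum_mem fun n _ => key n _ (decompose 𝒜 a n).2

theorem main {R A : Type u} [CommRing R] [CommRing A] [Algebra R A] (𝒜 : ℕ → Submodule R A)
    [GradedAlgebra 𝒜] [IsNoetherianRing A] : IsNoetherian (Proj 𝒜) := by
  haveI : Algebra.FiniteType (𝒜 0) A := finiteType_of_isNoetherianRing 𝒜
  haveI : IsNoetherianRing (𝒜 0) := inferInstance
  haveI : IsLocallyNoetherian (Proj 𝒜) :=
    LocallyOfFiniteType.isLocallyNoetherian (Proj.toSpecZero 𝒜)
  haveI : CompactSpace (Proj 𝒜) :=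
    QuasiCompact.compactSpace_of_compactSpace (Proj.toSpecZero 𝒜)
  exact {}

end Groth.Agent.Helper3.ProjNoeth
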