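import Mathlib
import Groth.Prelude.Def_DRing2

/-! Helper library for `DRing` rows: K-projective lifting, Hom vanishing, cones, shifts. -/

set_option autoImplicit false
universe u
open CategoryTheory CategoryTheory.Limits

namespace Groth.Agent.Helper3.DRingLib

attribute [local instance] HasDerivedCategory.standard

variable {A : Type u} [CommRing A]

lemma isStrictlyLE_of_vanishesAbove (P : DRing.Cx A) (b : ℤ) (h : DRing.VanishesAbove P b) :
    P.IsStrictlyLE b := by
  rw [CochainComplex.isStrictlyLE_iff]
  exact h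

lemma isStrictlyLE_of_vanishesOutside (P : DRing.Cx A) (a b : ℤ) (h : DRing.VanishesOutside P a b) :
    P.IsStrictlyLE b := by
  rw [CochainComplex.isStrictlyLE_iff]
  exact fun i hi => h i (Or.inr hi)

lemma isStrictlyGE_of_vanishesOutside (P : DRing.Cx A) (a b : ℤ) (h : DRing.VanishesOutside P a b) :
    P.IsStrictlyGE a := by
  rw [CochainComplex.isStrictlyGE_iff]
  exact fun i hi => h i (Or.inl hi)

lemma projective_obj (M : ModuleCat.{u} A) (h : Module.Projective A M) : Projective M :=
  (IsProjective.iff_projective (R := A) (P := M)).mp h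

lemma isKProjective_of_vanishesAbove (P : DRing.Cx A) (b : ℤ) (h : DRing.VanishesAbove P b)
    (hp : ∀ i, Module.Projective A (P.X i)) : P.IsKProjective := by
  have := isStrictlyLE_of_vanishesAbove P b h
  have : ∀ n, Projective (P.X n) := fun n => projective_obj _ (hp n)
  exact CochainComplex.isKProjective_of_projective P b

/-- Morphisms in `D(A)` out of a K-projective complex lift to chain maps. -/
lemma exists_Q_map_eq (P L : DRing.Cx A) [P.IsKProjective] (f : DRing.toD P ⟶ DRing.toD L) :
    ∃ φ : P ⟶ L, DerivedCategory.Q.map φ = f := by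
  obtain ⟨g, hg⟩ := (CochainComplex.IsKProjective.Qh_map_bijective P
    ((HomotopyCategory.quotient _ _).obj L)).surjective
      ((DerivedCategory.quotientCompQhIso _).hom.app P ≫ f ≫
        (DerivedCategory.quotientCompQhIso _).inv.app L)
  obtain ⟨φ, rfl⟩ := (HomotopyCategory.quotient _ _).map_surjective g
  refine ⟨φ, ?_⟩
  have := DerivedCategory.quotientCompQhIso_hom_naturality φ
  rw [hg] at this
  simpa using this.symm

/-- Chain maps out of a K-projective complex which agree in `D(A)` are homotopic. -/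
lemma homotopy_of_Q_map_eq (P L : DRing.Cx A) [P.IsKProjective] (φ ψ : P ⟶ L)
    (h : DerivedCategory.Q.map φ = DerivedCategory.Q.map ψ) : Nonempty (Homotopy φ ψ) := by
  have h2 : DerivedCategory.Qh.map ((HomotopyCategory.quotient _ _).map φ) =
      DerivedCategory.Qh.map ((HomotopyCategory.quotient _ _).map ψ) := by
    have h1 := DerivedCategory.quotientCompQhIso_hom_naturality φ
    have h1' := DerivedCategory.quotientCompQhIso_hom_naturality ψ
    rw [← cancel_mono ((DerivedCategory.quotientCompQhIso _).hom.app L), h1, h1', h]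
  have := (CochainComplex.IsKProjective.Qh_map_bijective P
    ((HomotopyCategory.quotient _ _).obj L)).injective h2
  exact ⟨HomotopyCategory.homotopyOfEq _ _ this⟩

lemma isLE_of_HD (K : Dual.D A) (n : ℤ) (h : ∀ i, n < i → Subsingleton (Dual.HD A K i)) :
    K.IsLE n := by
  rw [DerivedCategory.isLE_iff]
  intro i hi
  have := h i hi
  exact ModuleCat.isZero_of_subsingleton _

lemma isGE_of_HD (K : Dual.D A) (n : ℤ) (h : ∀ i, i < n → Subsingleton (Dual.HD A K i)) :
    K.IsGE n := by
  rw [DerivedCategory.isGE_iff]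
  intro i hi
  have := h i hi
  exact ModuleCat.isZero_of_subsingleton _

lemma subsingleton_HD_of_isLE (K : Dual.D A) (n : ℤ) [K.IsLE n] (i : ℤ) (hi : n < i) :
    Subsingleton (Dual.HD A K i) :=
  ModuleCat.subsingleton_of_isZero (K.isZero_of_isLE n i hi)

lemma subsingleton_HD_of_isGE (K : Dual.D A) (n : ℤ) [K.IsGE n] (i : ℤ) (hi : i < n) :
    Subsingleton (Dual.HD A K i) :=
  ModuleCat.subsingleton_of_isZero (K.isZero_of_isGE n i hi)

/-- A morphism from a K-projective complex vanishing in degrees `< a` to an object of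
`D^{≤ a-1}` is zero. -/
lemma hom_eq_zero_of_isLE (P : DRing.Cx A) [P.IsKProjective] (a : ℤ)
    (hP : ∀ i, i < a → IsZero (P.X i)) (K : Dual.D A) (n : ℤ) (hn : n < a) [K.IsLE n]
    (f : DRing.toD P ⟶ K) : f = 0 := by
  obtain ⟨K', hK', ⟨e⟩⟩ := K.exists_iso_Q_obj_of_isLE n
  obtain ⟨φ, hφ⟩ := exists_Q_map_eq P K' (f ≫ e.hom)
  have hφ0 : φ = 0 := by
    apply HomologicalComplex.hom_ext
    intro i
    by_cases hi : i < a
    · exact (hP i hi).eq_of_src _ _
    · exact (K'.isZero_of_isStrictlyLE n i (by omega)).eq_of_tgt _ _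
  rw [← cancel_mono e.hom, ← hφ, hφ0, Functor.map_zero, zero_comp]

end Groth.Agent.Helper3.DRingLib
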