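import Mathlib
import Groth.Prelude.Def_DRing2
import Groth.Agent.Helper3.DRing1

/-! Helper library for `DRing` rows: cones, shifts and two-out-of-three. -/

set_option autoImplicit false
universe u
open CategoryTheory CategoryTheory.Limits

namespace Groth.Agent.Helper3.DRingLib

attribute [local instance] HasDerivedCategory.standard

variable {A : Type u} [CommRing A]

open Pretriangulated in
/-- The third vertex of a distinguished triangle whose first two vertices are represented by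
complexes `E1` (K-projective) and `E2` is represented by a mapping cone. -/
lemma exists_cone_iso (T : Triangle (Dual.D A)) (hT : T ∈ distTriang _) (E1 E2 : DRing.Cx A)
    [E1.IsKProjective] (e1 : DRing.toD E1 ≅ T.obj₁) (e2 : DRing.toD E2 ≅ T.obj₂) :
    ∃ φ : E1 ⟶ E2, Nonempty (DRing.toD (CochainComplex.mappingCone φ) ≅ T.obj₃) := by
  obtain ⟨φ, hφ⟩ := exists_Q_map_eq E1 E2 (e1.hom ≫ T.mor₁ ≫ e2.inv)
  refine ⟨φ, ⟨?_⟩⟩
  have hT' := DerivedCategory.mappingCone_triangle_distinguished φ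
  have e := isoTriangleOfIso₁₂ _ T hT' hT e1 e2 (by
    change DerivedCategory.Q.map φ ≫ e2.hom = _
    rw [hφ, Category.assoc, Category.assoc, Iso.inv_hom_id, Category.comp_id]
    rfl)
  exact Triangle.π₃.mapIso e

/-- The linear equivalence between a term of the mapping cone and a product. -/
noncomputable def coneXEquiv {E1 E2 : DRing.Cx A} (φ : E1 ⟶ E2) (i : ℤ) :
    (CochainComplex.mappingCone φ).X i ≃ₗ[A] (E1.X (i + 1) × E2.X i) :=
  ((HomologicalComplex.homotopyCofiber.XIsoBiprod φ i (i + 1) rfl) ≪≫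
    ModuleCat.biprodIsoProd _ _).toLinearEquiv

lemma cone_vanishesAbove {E1 E2 : DRing.Cx A} (φ : E1 ⟶ E2) (b : ℤ)
    (h1 : DRing.VanishesAbove E1 (b + 1)) (h2 : DRing.VanishesAbove E2 b) :
    DRing.VanishesAbove (CochainComplex.mappingCone φ) b := by
  intro i hi
  rw [CochainComplex.mappingCone.isZero_X_iff]
  exact ⟨h1 _ (by omega), h2 _ hi⟩

lemma cone_vanishesOutside {E1 E2 : DRing.Cx A} (φ : E1 ⟶ E2) (a b : ℤ)
    (h1 : DRing.VanishesOutside E1 (a + 1) (b + 1)) (h2 : DRing.VanishesOutside E2 a b) :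
    DRing.VanishesOutside (CochainComplex.mappingCone φ) a b := by
  intro i hi
  rw [CochainComplex.mappingCone.isZero_X_iff]
  exact ⟨h1 _ (by omega), h2 _ hi⟩

lemma cone_termwiseFiniteFree {E1 E2 : DRing.Cx A} (φ : E1 ⟶ E2)
    (h1 : DRing.TermwiseFiniteFree E1) (h2 : DRing.TermwiseFiniteFree E2) :
    DRing.TermwiseFiniteFree (CochainComplex.mappingCone φ) := by
  intro i
  obtain ⟨f1, g1⟩ := h1 (i + 1)
  obtain ⟨f2, g2⟩ := h2 i
  exact ⟨Module.Finite.equiv (coneXEquiv φ i).symm, Module.Free.of_equiv (coneXEquiv φ i).symm⟩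

lemma cone_termwiseFiniteProjective {E1 E2 : DRing.Cx A} (φ : E1 ⟶ E2)
    (h1 : DRing.TermwiseFiniteProjective E1) (h2 : DRing.TermwiseFiniteProjective E2) :
    DRing.TermwiseFiniteProjective (CochainComplex.mappingCone φ) := by
  intro i
  obtain ⟨f1, g1⟩ := h1 (i + 1)
  obtain ⟨f2, g2⟩ := h2 i
  exact ⟨Module.Finite.equiv (coneXEquiv φ i).symm,
    Module.Projective.of_equiv (coneXEquiv φ i).symm⟩

theorem flat_prod {R : Type u} [CommRing R] (M : Type u) (M' : Type u) [AddCommGroup M]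
    [Module R M] [AddCommGroup M'] [Module R M'] [Module.Flat R M] [Module.Flat R M'] :
    Module.Flat R (M × M') := by
  rw [Module.Flat.iff_lTensor_preserves_injective_linearMap]
  intro N N' _ _ _ _ f hf
  have h1 := Module.Flat.lTensor_preserves_injective_linearMap (M := M) f hf
  have h2 := Module.Flat.lTensor_preserves_injective_linearMap (M := M') f hf
  have key : (TensorProduct.prodLeft R R M M' N').toLinearMap ∘ₗ (f.lTensor (M × M')) =
      (LinearMap.prodMap (f.lTensor M) (f.lTensor M')) ∘ₗ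
        (TensorProduct.prodLeft R R M M' N).toLinearMap := by
    apply TensorProduct.ext'
    rintro ⟨x, y⟩ n
    simp [TensorProduct.prodLeft_tmul]
  have : Function.Injective
      ((TensorProduct.prodLeft R R M M' N').toLinearMap ∘ₗ (f.lTensor (M × M'))) := by
    rw [key]
    exact (Function.Injective.prodMap h1 h2).comp (TensorProduct.prodLeft R R M M' N).injective
  rw [LinearMap.coe_comp] at this
  exact Function.Injective.of_comp this

lemma cone_termwiseFlat {E1 E2 : DRing.Cx A} (φ : E1 ⟶ E2)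
    (h1 : DRing.TermwiseFlat E1) (h2 : DRing.TermwiseFlat E2) :
    DRing.TermwiseFlat (CochainComplex.mappingCone φ) := by
  intro i
  have := h1 (i + 1)
  have := h2 i
  have := flat_prod (R := A) (E1.X (i + 1)) (E2.X i)
  exact Module.Flat.of_linearEquiv (coneXEquiv φ i)

/-! ### shifts -/

lemma shift_vanishesAbove (E : DRing.Cx A) (b n : ℤ) (h : DRing.VanishesAbove E b) :
    DRing.VanishesAbove (E⟦n⟧) (b - n) := by
  intro i hi
  exact h (i + n) (by omega)

lemma shift_vanishesOutside (E : DRing.Cx A) (a b n : ℤ) (h : DRing.VanishesOutside E a b) :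
    DRing.VanishesOutside (E⟦n⟧) (a - n) (b - n) := by
  intro i hi
  exact h (i + n) (by omega)

lemma shift_termwiseFiniteFree (E : DRing.Cx A) (n : ℤ) (h : DRing.TermwiseFiniteFree E) :
    DRing.TermwiseFiniteFree (E⟦n⟧) := fun i => h (i + n)

lemma shift_termwiseFiniteProjective (E : DRing.Cx A) (n : ℤ)
    (h : DRing.TermwiseFiniteProjective E) :
    DRing.TermwiseFiniteProjective (E⟦n⟧) := fun i => h (i + n)

lemma shift_termwiseFlat (E : DRing.Cx A) (n : ℤ) (h : DRing.TermwiseFlat E) :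
    DRing.TermwiseFlat (E⟦n⟧) := fun i => h (i + n)

/-- `toD (E⟦n⟧) ≅ (toD E)⟦n⟧`. -/
noncomputable def toDShiftIso (E : DRing.Cx A) (n : ℤ) :
    DRing.toD (E⟦n⟧) ≅ (DRing.toD E)⟦n⟧ :=
  (DerivedCategory.Q.commShiftIso n).app E

lemma isPerfect_of_iso {K L : Dual.D A} (e : K ≅ L) (h : DRing.IsPerfect A K) :
    DRing.IsPerfect A L := by
  obtain ⟨E, a, b, h1, h2, ⟨e'⟩⟩ := h
  exact ⟨E, a, b, h1, h2, ⟨e' ≪≫ e⟩⟩

lemma isPseudoCoherent'_of_iso {K L : Dual.D A} (e : K ≅ L) (h : DRing.IsPseudoCoherent' A K) :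
    DRing.IsPseudoCoherent' A L := by
  obtain ⟨E, b, h1, h2, ⟨e'⟩⟩ := h
  exact ⟨E, b, h1, h2, ⟨e' ≪≫ e⟩⟩

lemma hasTorAmplitudeIn_of_iso {K L : Dual.D A} (e : K ≅ L) (a b : ℤ)
    (h : DRing.HasTorAmplitudeIn A a b K) : DRing.HasTorAmplitudeIn A a b L := by
  obtain ⟨E, h1, h2, ⟨e'⟩⟩ := h
  exact ⟨E, h1, h2, ⟨e' ≪≫ e⟩⟩

lemma isPerfect_shift {K : Dual.D A} (n : ℤ) (h : DRing.IsPerfect A K) :
    DRing.IsPerfect A (K⟦n⟧) := by
  obtain ⟨E, a, b, h1, h2, ⟨e'⟩⟩ := h
  exact ⟨E⟦n⟧, a - n, b - n, shift_vanishesOutside E a b n h1,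
    shift_termwiseFiniteProjective E n h2,
    ⟨toDShiftIso E n ≪≫ (shiftFunctor (Dual.D A) n).mapIso e'⟩⟩

lemma isPseudoCoherent'_shift {K : Dual.D A} (n : ℤ) (h : DRing.IsPseudoCoherent' A K) :
    DRing.IsPseudoCoherent' A (K⟦n⟧) := by
  obtain ⟨E, b, h1, h2, ⟨e'⟩⟩ := h
  exact ⟨E⟦n⟧, b - n, shift_vanishesAbove E b n h1,
    shift_termwiseFiniteFree E n h2,
    ⟨toDShiftIso E n ≪≫ (shiftFunctor (Dual.D A) n).mapIso e'⟩⟩

lemma hasTorAmplitudeIn_shift {K : Dual.D A} (a b n : ℤ) (h : DRing.HasTorAmplitudeIn A a b K) :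
    DRing.HasTorAmplitudeIn A (a - n) (b - n) (K⟦n⟧) := by
  obtain ⟨E, h1, h2, ⟨e'⟩⟩ := h
  exact ⟨E⟦n⟧, shift_vanishesOutside E a b n h1,
    shift_termwiseFlat E n h2,
    ⟨toDShiftIso E n ≪≫ (shiftFunctor (Dual.D A) n).mapIso e'⟩⟩

lemma vanishesOutside_mono (E : DRing.Cx A) {a b a' b' : ℤ} (ha : a' ≤ a) (hb : b ≤ b')
    (h : DRing.VanishesOutside E a b) : DRing.VanishesOutside E a' b' :=
  fun i hi => h i (by omega)

open Pretriangulated in
/-- cone of perfect is perfect -/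
lemma isPerfect_obj₃ (T : Triangle (Dual.D A)) (hT : T ∈ distTriang _)
    (h1 : DRing.IsPerfect A T.obj₁) (h2 : DRing.IsPerfect A T.obj₂) :
    DRing.IsPerfect A T.obj₃ := by
  obtain ⟨E1, a1, b1, v1, p1, ⟨e1⟩⟩ := h1
  obtain ⟨E2, a2, b2, v2, p2, ⟨e2⟩⟩ := h2
  haveI : E1.IsKProjective := isKProjective_of_vanishesAbove E1 b1
    (fun i hi => v1 i (Or.inr hi)) (fun i => (p1 i).2)
  obtain ⟨φ, ⟨e3⟩⟩ := exists_cone_iso T hT E1 E2 e1 e2
  refine ⟨_, min (a1 - 1) a2, max (b1 - 1) b2, ?_, cone_termwiseFiniteProjective φ p1 p2, ⟨e3⟩⟩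
  apply cone_vanishesOutside
  · exact vanishesOutside_mono E1 (by omega) (by omega) v1
  · exact vanishesOutside_mono E2 (by omega) (by omega) v2

open Pretriangulated in
lemma isPseudoCoherent'_obj₃ (T : Triangle (Dual.D A)) (hT : T ∈ distTriang _)
    (h1 : DRing.IsPseudoCoherent' A T.obj₁) (h2 : DRing.IsPseudoCoherent' A T.obj₂) :
    DRing.IsPseudoCoherent' A T.obj₃ := by
  obtain ⟨E1, b1, v1, p1, ⟨e1⟩⟩ := h1
  obtain ⟨E2, b2, v2, p2, ⟨e2⟩⟩ := h2
  haveI : E1.IsKProjective := isKProjective_of_vanishesAbove E1 b1 v1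
    (fun i => by have := (p1 i).2; infer_instance)
  obtain ⟨φ, ⟨e3⟩⟩ := exists_cone_iso T hT E1 E2 e1 e2
  refine ⟨_, max (b1 - 1) b2, ?_, cone_termwiseFiniteFree φ p1 p2, ⟨e3⟩⟩
  apply cone_vanishesAbove
  · exact fun i hi => v1 i (by omega)
  · exact fun i hi => v2 i (by omega)

open Pretriangulated in
lemma isPerfect_obj₂ (T : Triangle (Dual.D A)) (hT : T ∈ distTriang _)
    (h1 : DRing.IsPerfect A T.obj₁) (h3 : DRing.IsPerfect A T.obj₃) :
    DRing.IsPerfect A T.obj₂ :=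
  isPerfect_obj₃ T.invRotate (inv_rot_of_distTriang _ hT) (isPerfect_shift (-1) h3) h1

open Pretriangulated in
lemma isPerfect_obj₁ (T : Triangle (Dual.D A)) (hT : T ∈ distTriang _)
    (h2 : DRing.IsPerfect A T.obj₂) (h3 : DRing.IsPerfect A T.obj₃) :
    DRing.IsPerfect A T.obj₁ := by
  have := isPerfect_obj₃ T.rotate (rot_of_distTriang _ hT) h2 h3
  exact isPerfect_of_iso ((shiftFunctorCompIsoId _ (1 : ℤ) (-1) (by simp)).app T.obj₁)
    (isPerfect_shift (-1) this)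

open Pretriangulated in
lemma isPseudoCoherent'_obj₂ (T : Triangle (Dual.D A)) (hT : T ∈ distTriang _)
    (h1 : DRing.IsPseudoCoherent' A T.obj₁) (h3 : DRing.IsPseudoCoherent' A T.obj₃) :
    DRing.IsPseudoCoherent' A T.obj₂ :=
  isPseudoCoherent'_obj₃ T.invRotate (inv_rot_of_distTriang _ hT)
    (isPseudoCoherent'_shift (-1) h3) h1

open Pretriangulated in
lemma isPseudoCoherent'_obj₁ (T : Triangle (Dual.D A)) (hT : T ∈ distTriang _)
    (h2 : DRing.IsPseudoCoherent' A T.obj₂) (h3 : DRing.IsPseudoCoherent' A T.obj₃) :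
    DRing.IsPseudoCoherent' A T.obj₁ := by
  have := isPseudoCoherent'_obj₃ T.rotate (rot_of_distTriang _ hT) h2 h3
  exact isPseudoCoherent'_of_iso ((shiftFunctorCompIsoId _ (1 : ℤ) (-1) (by simp)).app T.obj₁)
    (isPseudoCoherent'_shift (-1) this)

end Groth.Agent.Helper3.DRingLib
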