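import Mathlib
import Groth.Prelude.Def_DRing2
import Groth.Agent.Helper3.DRing1

/-! Peeling the top term off a bounded-above complex: a distinguished triangle
`(K^b)[-b] → K → σ_{≤ b-1} K → `. -/

set_option autoImplicit false
universe u
open CategoryTheory CategoryTheory.Limits

namespace Groth.Agent.Helper3.DRingLib

attribute [local instance] HasDerivedCategory.standard

variable {A : Type u} [CommRing A]

open HomologicalComplex ComplexShape Pretriangulated

/-- stupid truncation `σ_{≤ n}`. -/
noncomputable abbrev sigmaLE (K : DRing.Cx A) (n : ℤ) : DRing.Cx A :=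
  K.stupidTrunc (embeddingUpIntLE n)

lemma hasLift_id (K : DRing.Cx A) (n : ℤ) :
    (embeddingUpIntLE n).HasLift (𝟙 (K.restriction (embeddingUpIntLE n))) :=
  fun _ hj => (hj.false_of_isTruncLE).elim

/-- the projection `K → σ_{≤ n} K`. -/
noncomputable def piLE (K : DRing.Cx A) (n : ℤ) : K ⟶ sigmaLE K n :=
  (embeddingUpIntLE n).liftExtend (𝟙 (K.restriction (embeddingUpIntLE n))) (hasLift_id K n)

lemma isZero_sigmaLE_X (K : DRing.Cx A) (n i : ℤ) (hi : n < i) : IsZero ((sigmaLE K n).X i) :=
  K.isZero_stupidTrunc_X _ i ((notMem_range_embeddingUpIntLE_iff n i).mpr hi)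

lemma isIso_piLE_f (K : DRing.Cx A) (n i : ℤ) (hi : i ≤ n) : IsIso ((piLE K n).f i) := by
  have h : (embeddingUpIntLE n).f (n - i).toNat = i := by
    simp only [embeddingUpIntLE_f]
    omega
  exact ((embeddingUpIntLE n).isIso_liftExtend_f_iff _ (hasLift_id K n) h).mpr
    (by dsimp; infer_instance)

/-- the inclusion of the top term. -/
noncomputable def iotaTop (K : DRing.Cx A) (b : ℤ) (hK : DRing.VanishesAbove K b) :
    (HomologicalComplex.single (ModuleCat.{u} A) (up ℤ) b).obj (K.X b) ⟶ K :=
  mkHomFromSingle (𝟙 (K.X b)) (fun k hk => (hK k (by simp at hk; omega)).eq_of_tgt _ _)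

lemma iotaTop_piLE (K : DRing.Cx A) (b : ℤ) (hK : DRing.VanishesAbove K b) :
    iotaTop K b hK ≫ piLE K (b - 1) = 0 := by
  refine HomologicalComplex.hom_ext _ _ (fun i => ?_)
  by_cases hi : i = b
  · subst hi
    exact (isZero_sigmaLE_X K (i - 1) i (by omega)).eq_of_tgt _ _
  · exact (isZero_single_obj_X (up ℤ) b (K.X b) i hi).eq_of_src _ _

/-- the short complex `K^b[-b] → K → σ_{≤ b-1}K`. -/
noncomputable def peelSC (K : DRing.Cx A) (b : ℤ) (hK : DRing.VanishesAbove K b) :
    ShortComplex (DRing.Cx A) :=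
  ShortComplex.mk (iotaTop K b hK) (piLE K (b - 1)) (iotaTop_piLE K b hK)

lemma peelSC_shortExact (K : DRing.Cx A) (b : ℤ) (hK : DRing.VanishesAbove K b) :
    (peelSC K b hK).ShortExact := by
  apply HomologicalComplex.shortExact_of_degreewise_shortExact
  intro i
  by_cases hi : i = b
  · subst hi
    have hz : IsZero (((peelSC K i hK).map (eval _ _ i)).X₃) :=
      isZero_sigmaLE_X K (i - 1) i (by omega)
    have hiso : IsIso ((peelSC K i hK).map (eval _ _ i)).f := by
      change IsIso ((iotaTop K i hK).f i)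
      rw [iotaTop, mkHomFromSingle_f]
      infer_instance
    exact
      { exact := by
          rw [ShortComplex.exact_iff_epi _ (hz.eq_of_tgt _ _)]
          infer_instance
        mono_f := inferInstance
        epi_g := ⟨fun _ _ _ => hz.eq_of_src _ _⟩ }
  · have hz : IsZero (((peelSC K b hK).map (eval _ _ i)).X₁) :=
      isZero_single_obj_X (up ℤ) b (K.X b) i hi
    have hiso : IsIso ((peelSC K b hK).map (eval _ _ i)).g := by
      change IsIso ((piLE K (b - 1)).f i)
      by_cases hib : i ≤ b - 1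
      · exact isIso_piLE_f K (b - 1) i hib
      · exact ⟨0, (hK i (by omega)).eq_of_src _ _,
          (isZero_sigmaLE_X K (b - 1) i (by omega)).eq_of_src _ _⟩
    exact
      { exact := by
          rw [ShortComplex.exact_iff_mono _ (hz.eq_of_src _ _)]
          infer_instance
        mono_f := ⟨fun _ _ _ => hz.eq_of_tgt _ _⟩
        epi_g := inferInstance }

/-- Peeling the top term: the distinguished triangle. -/
theorem exists_peel_top (K : DRing.Cx A) (b : ℤ) (hK : DRing.VanishesAbove K b) :
    ∃ (K' : DRing.Cx A) (π : K ⟶ K')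
      (ι : (DerivedCategory.singleFunctor (ModuleCat.{u} A) b).obj (K.X b) ⟶ DRing.toD K)
      (δ : DRing.toD K' ⟶ ((DerivedCategory.singleFunctor (ModuleCat.{u} A) b).obj (K.X b))⟦(1 : ℤ)⟧),
      DRing.VanishesAbove K' (b - 1) ∧ (∀ i, i ≤ b - 1 → IsIso (π.f i)) ∧
        Triangle.mk ι (DerivedCategory.Q.map π) δ ∈ distTriang _ :=
  ⟨sigmaLE K (b - 1), piLE K (b - 1), DerivedCategory.Q.map (iotaTop K b hK),
    DerivedCategory.triangleOfSESδ (peelSC_shortExact K b hK),
    fun i hi => isZero_sigmaLE_X K (b - 1) i hi, fun i hi => isIso_piLE_f K (b - 1) i hi,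
    DerivedCategory.triangleOfSES_distinguished (peelSC_shortExact K b hK)⟩

end Groth.Agent.Helper3.DRingLib
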