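import Mathlib
import Groth.Prelude.Def_DRing2
import Groth.Agent.Helper3.DRing1
import Groth.Agent.Helper3.DRingCone
import Groth.Agent.Helper3.DRingPeel

/-! Objects of `D(A)` represented by bounded complexes of finite free modules. -/

set_option autoImplicit false
universe u
open CategoryTheory CategoryTheory.Limits

namespace Groth.Agent.Helper3.DRingLib

attribute [local instance] HasDerivedCategory.standard

variable {A : Type u} [CommRing A]

open Pretriangulated DerivedCategory ZeroObject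

/-- `K` is represented by a complex of finite free modules vanishing outside `[a,b]`. -/
def IsBFF (a b : ℤ) (K : Dual.D A) : Prop :=
  ∃ E : DRing.Cx A, DRing.VanishesOutside E a b ∧ DRing.TermwiseFiniteFree E ∧
    Nonempty (DRing.toD E ≅ K)

lemma IsBFF.of_iso {a b : ℤ} {K L : Dual.D A} (e : K ≅ L) (h : IsBFF a b K) : IsBFF a b L := by
  obtain ⟨E, h1, h2, ⟨e'⟩⟩ := h
  exact ⟨E, h1, h2, ⟨e' ≪≫ e⟩⟩

lemma IsBFF.mono {a b a' b' : ℤ} {K : Dual.D A} (ha : a' ≤ a) (hb : b ≤ b') (h : IsBFF a b K) :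
    IsBFF a' b' K := by
  obtain ⟨E, h1, h2, ⟨e'⟩⟩ := h
  exact ⟨E, vanishesOutside_mono E ha hb h1, h2, ⟨e'⟩⟩

lemma IsBFF.shift {a b : ℤ} {K : Dual.D A} (n : ℤ) (h : IsBFF a b K) :
    IsBFF (a - n) (b - n) (K⟦n⟧) := by
  obtain ⟨E, h1, h2, ⟨e'⟩⟩ := h
  exact ⟨E⟦n⟧, shift_vanishesOutside E a b n h1, shift_termwiseFiniteFree E n h2,
    ⟨toDShiftIso E n ≪≫ (shiftFunctor (Dual.D A) n).mapIso e'⟩⟩

lemma IsBFF.shift' {a b a' b' : ℤ} {K : Dual.D A} (n : ℤ) (h : IsBFF a b K)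
    (ha : a' = a - n) (hb : b' = b - n) : IsBFF a' b' (K⟦n⟧) := by
  subst ha hb
  exact h.shift n

lemma IsBFF.isKProjective {a b : ℤ} (E : DRing.Cx A) (h1 : DRing.VanishesOutside E a b)
    (h2 : DRing.TermwiseFiniteFree E) : E.IsKProjective :=
  isKProjective_of_vanishesAbove E b (fun i hi => h1 i (Or.inr hi))
    (fun i => by have := (h2 i).2; infer_instance)

lemma IsBFF.obj₃ {a b : ℤ} (T : Triangle (Dual.D A)) (hT : T ∈ distTriang _)
    (h1 : IsBFF (a + 1) (b + 1) T.obj₁) (h2 : IsBFF a b T.obj₂) : IsBFF a b T.obj₃ := by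
  obtain ⟨E1, v1, p1, ⟨e1⟩⟩ := h1
  obtain ⟨E2, v2, p2, ⟨e2⟩⟩ := h2
  have : E1.IsKProjective := IsBFF.isKProjective E1 v1 p1
  obtain ⟨φ, ⟨e3⟩⟩ := exists_cone_iso T hT E1 E2 e1 e2
  exact ⟨_, cone_vanishesOutside φ a b v1 v2, cone_termwiseFiniteFree φ p1 p2, ⟨e3⟩⟩

lemma IsBFF.obj₂ {a b : ℤ} (T : Triangle (Dual.D A)) (hT : T ∈ distTriang _)
    (h1 : IsBFF a b T.obj₁) (h3 : IsBFF a b T.obj₃) : IsBFF a b T.obj₂ :=
  IsBFF.obj₃ T.invRotate (inv_rot_of_distTriang _ hT)
    (h3.shift' (-1) (by omega) (by omega)) h1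

lemma termwiseFiniteFree_of_isZero (E : DRing.Cx A) (h : ∀ i, IsZero (E.X i)) :
    DRing.TermwiseFiniteFree E := by
  intro i
  have := ModuleCat.subsingleton_of_isZero (h i)
  exact ⟨Module.Finite.of_finite, Module.Free.of_subsingleton A _⟩

lemma IsBFF.of_isZero {a b : ℤ} {K : Dual.D A} (h : IsZero K) : IsBFF a b K := by
  refine ⟨0, fun i _ => ?_, termwiseFiniteFree_of_isZero _ (fun i => ?_), ⟨?_⟩⟩
  · exact Functor.map_isZero (HomologicalComplex.eval _ _ i) (isZero_zero _)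
  · exact Functor.map_isZero (HomologicalComplex.eval _ _ i) (isZero_zero _)
  · exact (Functor.map_isZero DerivedCategory.Q (isZero_zero _)).iso h

lemma IsBFF.single (b : ℤ) (F : ModuleCat.{u} A) [Module.Finite A F] [Module.Free A F] :
    IsBFF b b ((DerivedCategory.singleFunctor (ModuleCat.{u} A) b).obj F) := by
  refine ⟨(HomologicalComplex.single _ _ b).obj F, fun i hi => ?_, fun i => ?_, ⟨Iso.refl _⟩⟩
  · exact HomologicalComplex.isZero_single_obj_X _ _ _ _ (by omega)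
  · by_cases hi : i = b
    · subst hi
      let e : ((HomologicalComplex.single (ModuleCat.{u} A) (ComplexShape.up ℤ) i).obj F).X i ≃ₗ[A] F :=
        (HomologicalComplex.singleObjXSelf (ComplexShape.up ℤ) i F).toLinearEquiv
      exact ⟨Module.Finite.equiv e.symm, Module.Free.of_equiv e.symm⟩
    · have := ModuleCat.subsingleton_of_isZero
        (HomologicalComplex.isZero_single_obj_X (ComplexShape.up ℤ) b F i hi)
      exact ⟨Module.Finite.of_finite, Module.Free.of_subsingleton A _⟩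

/-- Peeling off the top term. -/
lemma IsBFF.peel {a b : ℤ} {K : Dual.D A} (h : IsBFF a b K) :
    ∃ (F : ModuleCat.{u} A) (K' : Dual.D A)
      (ι : (DerivedCategory.singleFunctor (ModuleCat.{u} A) b).obj F ⟶ K) (π : K ⟶ K')
      (δ : K' ⟶ ((DerivedCategory.singleFunctor (ModuleCat.{u} A) b).obj F)⟦(1 : ℤ)⟧),
      Module.Finite A F ∧ Module.Free A F ∧ IsBFF a (b - 1) K' ∧
        Triangle.mk ι π δ ∈ distTriang _ := by
  obtain ⟨E, v, p, ⟨e⟩⟩ := h
  obtain ⟨E', π, ι, δ, v', hπ, hT⟩ := exists_peel_top E b (fun i hi => v i (Or.inr hi))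
  refine ⟨E.X b, DRing.toD E', ι ≫ e.hom, e.inv ≫ DerivedCategory.Q.map π, δ, (p b).1, (p b).2,
    ⟨E', ?_, ?_, ⟨Iso.refl _⟩⟩, ?_⟩
  · intro i hi
    by_cases hib : i ≤ b - 1
    · have := hπ i hib
      exact (v i (Or.inl (by omega))).of_iso (asIso (π.f i)).symm
    · exact v' i (by omega)
  · intro i
    by_cases hib : i ≤ b - 1
    · have := hπ i hib
      let e' : E.X i ≃ₗ[A] E'.X i := (asIso (π.f i)).toLinearEquiv
      obtain ⟨f1, f2⟩ := p i
      exact ⟨Module.Finite.equiv e', Module.Free.of_equiv e'⟩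
    · have := ModuleCat.subsingleton_of_isZero (v' i (by omega))
      exact ⟨Module.Finite.of_finite, Module.Free.of_subsingleton A _⟩
  · refine isomorphic_distinguished _ hT _ ?_
    exact Triangle.isoMk _ _ (Iso.refl _) e.symm (Iso.refl _)
      (by
        change (ι ≫ e.hom) ≫ e.inv = 𝟙 _ ≫ ι
        rw [Category.assoc, Iso.hom_inv_id, Category.comp_id, Category.id_comp])
      (by
        change (e.inv ≫ DerivedCategory.Q.map π) ≫ 𝟙 _ = e.inv ≫ DerivedCategory.Q.map π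
        rw [Category.comp_id])
      (by
        change δ ≫ (shiftFunctor (Dual.D A) (1 : ℤ)).map (𝟙 _) = 𝟙 _ ≫ δ
        rw [CategoryTheory.Functor.map_id, Category.comp_id, Category.id_comp])

end Groth.Agent.Helper3.DRingLib
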