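import Mathlib
import Groth.Prelude.Def_DRing2
import Groth.Agent.Helper3.DRing1
import Groth.Agent.Helper3.DRingCone
import Groth.Agent.Helper3.DRingBFF
import Groth.Agent.Helper3.DRingApprox

/-! `m`-pseudo-coherence in `D(A)`: normal form and two-out-of-three. -/

set_option autoImplicit false
universe u
open CategoryTheory CategoryTheory.Limits

namespace Groth.Agent.Helper3.DRingLib

attribute [local instance] HasDerivedCategory.standard

variable {A : Type u} [CommRing A]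

open Pretriangulated DerivedCategory ZeroObject

/-- Reformulation of `m`-pseudo-coherence. -/
lemma isPseudoCoherent_iff (m : ℤ) (K : Dual.D A) :
    DRing.IsPseudoCoherent A m K ↔
      ∃ (X : Dual.D A) (a b : ℤ) (α : X ⟶ K), IsBFF a b X ∧ IsApprox m α := by
  constructor
  · rintro ⟨E, a, b, α, h1, h2, h3, h4⟩
    exact ⟨DRing.toD E, a, b, α, ⟨E, h1, h2, ⟨Iso.refl _⟩⟩, h3, h4⟩
  · rintro ⟨X, a, b, α, ⟨E, h1, h2, ⟨e⟩⟩, h⟩
    have := (isApprox_of_isIso m e.hom).comp h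
    exact ⟨E, a, b, e.hom ≫ α, h1, h2, this.1, this.2⟩

lemma isPseudoCoherent_of_iso {m : ℤ} {K L : Dual.D A} (e : K ≅ L)
    (h : DRing.IsPseudoCoherent A m K) : DRing.IsPseudoCoherent A m L := by
  rw [isPseudoCoherent_iff] at h ⊢
  obtain ⟨X, a, b, α, h1, h2⟩ := h
  exact ⟨X, a, b, α ≫ e.hom, h1, h2.comp (isApprox_of_isIso m e.hom)⟩

lemma isPseudoCoherent_of_le {m m' : ℤ} {K : Dual.D A} (hm : m ≤ m')
    (h : DRing.IsPseudoCoherent A m K) : DRing.IsPseudoCoherent A m' K := by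
  rw [isPseudoCoherent_iff] at h ⊢
  obtain ⟨X, a, b, α, h1, h2⟩ := h
  exact ⟨X, a, b, α, h1, h2.of_le hm⟩

lemma isPseudoCoherent_shift {m : ℤ} {K : Dual.D A} (n m' : ℤ) (hm' : n + m' = m)
    (h : DRing.IsPseudoCoherent A m K) : DRing.IsPseudoCoherent A m' (K⟦n⟧) := by
  rw [isPseudoCoherent_iff] at h ⊢
  obtain ⟨X, a, b, α, h1, h2⟩ := h
  exact ⟨X⟦n⟧, a - n, b - n, α⟦n⟧', h1.shift n, (isApprox_shift_iff α n m m' hm').mpr h2⟩

lemma isPseudoCoherent_shift_iff {m : ℤ} {K : Dual.D A} (n m' : ℤ) (hm' : n + m' = m) :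
    DRing.IsPseudoCoherent A m' (K⟦n⟧) ↔ DRing.IsPseudoCoherent A m K := by
  refine ⟨fun h => ?_, isPseudoCoherent_shift n m' hm'⟩
  have := isPseudoCoherent_shift (-n) m (by omega) h
  exact isPseudoCoherent_of_iso ((shiftFunctorCompIsoId _ n (-n) (by omega)).app K) this

lemma isZero_toD_of_isZero (E : DRing.Cx A) (h : ∀ i, IsZero (E.X i)) : IsZero (DRing.toD E) := by
  have : IsZero E := by
    rw [IsZero.iff_id_eq_zero]
    refine HomologicalComplex.hom_ext _ _ (fun i => ?_)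
    exact (h i).eq_of_src _ _
  exact Functor.map_isZero _ this

lemma IsBFF.isLE {a b : ℤ} {X : Dual.D A} (h : IsBFF a b X) : X.IsLE b := by
  obtain ⟨E, h1, h2, ⟨e⟩⟩ := h
  have := isStrictlyLE_of_vanishesOutside E a b h1
  have : (DRing.toD E).IsLE b := inferInstanceAs ((DerivedCategory.Q.obj E).IsLE b)
  exact TStructure.t.isLE_of_iso e b

lemma IsBFF.isZero_of_lt {a b : ℤ} {X : Dual.D A} (h : IsBFF a b X) (hab : b < a) : IsZero X := by
  obtain ⟨E, h1, h2, ⟨e⟩⟩ := h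
  refine (isZero_toD_of_isZero E (fun i => h1 i ?_)).of_iso e.symm
  omega

/-- an approximation by an object of `D^{≤ m-1}` can be replaced by zero. -/
lemma exists_approx_of_isLE (m : ℤ) {K X : Dual.D A} (α : X ⟶ K) [X.IsLE (m - 1)]
    (h : IsApprox m α) :
    ∃ (X' : Dual.D A) (b' : ℤ) (α' : X' ⟶ K), IsBFF m b' X' ∧ IsApprox m α' := by
  refine ⟨0, m, 0, IsBFF.of_isZero (isZero_zero _), ?_⟩
  have hK : ∀ i, m ≤ i → IsZero ((homologyFunctor (ModuleCat.{u} A) i).obj K) := by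
    intro i hi
    have := h.epi i hi
    have hz : IsZero ((homologyFunctor (ModuleCat.{u} A) i).obj X) :=
      X.isZero_of_isLE (m - 1) i (by omega)
    rw [IsZero.iff_id_eq_zero, ← cancel_epi ((homologyFunctor (ModuleCat.{u} A) i).map α)]
    exact hz.eq_of_src _ _
  apply isApprox_of_epi_mono
  · intro i hi
    exact ⟨fun _ _ _ => (hK i hi).eq_of_src _ _⟩
  · intro i hi
    have hz : IsZero ((homologyFunctor (ModuleCat.{u} A) i).obj (0 : Dual.D A)) :=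
      Functor.map_isZero _ (isZero_zero _)
    exact ⟨fun _ _ _ => hz.eq_of_tgt _ _⟩

/-- Normal form: an `m`-approximation by a bounded finite free complex may be taken
with terms in degrees `≥ m`. -/
lemma exists_approx_normal (m : ℤ) (n : ℕ) : ∀ (K X : Dual.D A) (a b : ℤ) (α : X ⟶ K),
    b < a + n → IsBFF a b X → IsApprox m α →
    ∃ (X' : Dual.D A) (b' : ℤ) (α' : X' ⟶ K), IsBFF m b' X' ∧ IsApprox m α' := by
  induction n with
  | zero =>
    intro K X a b α hab hX hα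
    have hz : IsZero X := hX.isZero_of_lt (by simpa using hab)
    have : X.IsLE (m - 1) := TStructure.t.isLE_of_isZero hz _
    exact exists_approx_of_isLE m α hα
  | succ n ih =>
    intro K X a b α hab hX hα
    by_cases hbm : b < m
    · have := hX.isLE
      have : X.IsLE (m - 1) := TStructure.t.isLE_of_le X b (m - 1) (by omega)
      exact exists_approx_of_isLE m α hα
    · obtain ⟨F, X₁, ι, π, δ, hF1, hF2, hX₁, hT₁⟩ := hX.peel
      obtain ⟨K₁, q, r, hT₂⟩ := distinguished_cocone_triangle (ι ≫ α)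
      obtain ⟨c, hc1, hc2⟩ := complete_distinguished_triangle_morphism _ _ hT₁ hT₂ (𝟙 _) α
        (Category.id_comp (ι ≫ α)).symm
      let φ : Triangle.mk ι π δ ⟶ Triangle.mk (ι ≫ α) q r :=
        { hom₁ := 𝟙 _, hom₂ := α, hom₃ := c, comm₁ := (Category.id_comp (ι ≫ α)).symm, comm₂ := hc1, comm₃ := hc2 }
      have hc : IsApprox m c :=
        IsApprox.third _ _ hT₁ hT₂ φ m (isApprox_of_isIso _ (𝟙 _)) hα
      obtain ⟨X₁', b₁', α₁', hX₁', hα₁'⟩ := ih K₁ X₁ a (b - 1) c (by push_cast at hab; omega) hX₁ hc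
      obtain ⟨X', f, p, hT₃⟩ := distinguished_cocone_triangle₂ (α₁' ≫ r)
      obtain ⟨α', hα'1, hα'2⟩ := complete_distinguished_triangle_morphism₂ _ _ hT₃ hT₂ (𝟙 _) α₁'
        (by
          change (α₁' ≫ r) ≫ (shiftFunctor (Dual.D A) (1 : ℤ)).map (𝟙 _) = α₁' ≫ r
          rw [CategoryTheory.Functor.map_id, Category.comp_id])
      let ψ : Triangle.mk f p (α₁' ≫ r) ⟶ Triangle.mk (ι ≫ α) q r :=
        { hom₁ := 𝟙 _, hom₂ := α', hom₃ := α₁', comm₁ := hα'1, comm₂ := hα'2,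
          comm₃ := by
            change (α₁' ≫ r) ≫ (shiftFunctor (Dual.D A) (1 : ℤ)).map (𝟙 _) = α₁' ≫ r
            rw [CategoryTheory.Functor.map_id, Category.comp_id] }
      have hα' : IsApprox m α' :=
        IsApprox.mid _ _ hT₃ hT₂ ψ m (isApprox_of_isIso _ (𝟙 _)) hα₁'
      refine ⟨X', max b b₁', α', ?_, hα'⟩
      have hS : IsBFF b b ((DerivedCategory.singleFunctor (ModuleCat.{u} A) b).obj F) :=
        IsBFF.single b F
      exact IsBFF.obj₂ _ hT₃ (hS.mono (by omega) (le_max_left _ _))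
        (hX₁'.mono le_rfl (le_max_right _ _))

lemma exists_normal_of_isPseudoCoherent {m : ℤ} {K : Dual.D A}
    (h : DRing.IsPseudoCoherent A m K) :
    ∃ (X : Dual.D A) (b : ℤ) (α : X ⟶ K), IsBFF m b X ∧ IsApprox m α := by
  rw [isPseudoCoherent_iff] at h
  obtain ⟨X, a, b, α, h1, h2⟩ := h
  exact exists_approx_normal m (b - a + 1).toNat K X a b α (by omega) h1 h2

/-- Extensions of `m`-pseudo-coherent objects are `m`-pseudo-coherent. -/
theorem isPseudoCoherent_obj₂ (T : Triangle (Dual.D A)) (hT : T ∈ distTriang _) (m : ℤ)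
    (h1 : DRing.IsPseudoCoherent A m T.obj₁) (h3 : DRing.IsPseudoCoherent A m T.obj₃) :
    DRing.IsPseudoCoherent A m T.obj₂ := by
  rw [isPseudoCoherent_iff] at h1
  obtain ⟨X₁, a₁, b₁, α₁, hX₁, hα₁⟩ := h1
  obtain ⟨X₃, b₃, α₃, hX₃, hα₃⟩ := exists_normal_of_isPseudoCoherent h3
  obtain ⟨C₁, β₁, γ₁, hT₁⟩ := distinguished_cocone_triangle α₁
  have hC₁ : C₁.IsLE (m - 1) := (isApprox_iff_isLE _ hT₁ m).mp hα₁
  -- the obstruction vanishes
  have hC₁' : (C₁⟦(1 : ℤ)⟧).IsLE (m - 2) := TStructure.t.isLE_shift C₁ (m - 1) 1 (m - 2) (by omega)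
  have hobs : (α₃ ≫ T.mor₃) ≫ β₁⟦(1 : ℤ)⟧' = 0 := by
    obtain ⟨E, v, p, ⟨e⟩⟩ := hX₃
    have : E.IsKProjective := IsBFF.isKProjective E v p
    rw [← cancel_epi e.hom, comp_zero]
    exact hom_eq_zero_of_isLE E m (fun i hi => v i (Or.inl hi)) _ (m - 2) (by omega) _
  -- lift
  obtain ⟨(g' : X₃ ⟶ X₁⟦(1 : ℤ)⟧), hg'⟩ := Triangle.coyoneda_exact₃ _
    (rot_of_distTriang _ (rot_of_distTriang _ hT₁)) (α₃ ≫ T.mor₃)
    (by
      change (α₃ ≫ T.mor₃) ≫ (-(β₁⟦(1 : ℤ)⟧')) = 0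
      rw [Preadditive.comp_neg, hobs, neg_zero])
  have hg : (-g') ≫ α₁⟦(1 : ℤ)⟧' = α₃ ≫ T.mor₃ := by
    refine Eq.trans ?_ hg'.symm
    change (-g') ≫ α₁⟦(1 : ℤ)⟧' = g' ≫ (-(α₁⟦(1 : ℤ)⟧'))
    exact (Preadditive.neg_comp _ _).trans (Preadditive.comp_neg _ _).symm
  obtain ⟨X₂, f, p, hT₂⟩ := distinguished_cocone_triangle₂ (-g')
  obtain ⟨α₂, hα₂1, hα₂2⟩ := complete_distinguished_triangle_morphism₂ _ _ hT₂ hT α₁ α₃ hg
  let ψ : Triangle.mk f p (-g') ⟶ T :=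
    { hom₁ := α₁, hom₂ := α₂, hom₃ := α₃, comm₁ := hα₂1, comm₂ := hα₂2, comm₃ := hg }
  have hα₂ : IsApprox m α₂ := IsApprox.mid _ _ hT₂ hT ψ m hα₁ hα₃
  rw [isPseudoCoherent_iff]
  refine ⟨X₂, min a₁ m, max b₁ b₃, α₂, ?_, hα₂⟩
  exact IsBFF.obj₂ _ hT₂ (hX₁.mono (min_le_left _ _) (le_max_left _ _))
    (hX₃.mono (min_le_right _ _) (le_max_right _ _))

/-- Stacks 15.64.2 (1) -/
theorem isPseudoCoherent_obj₃ (T : Triangle (Dual.D A)) (hT : T ∈ distTriang _) (m : ℤ)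
    (h1 : DRing.IsPseudoCoherent A (m + 1) T.obj₁) (h2 : DRing.IsPseudoCoherent A m T.obj₂) :
    DRing.IsPseudoCoherent A m T.obj₃ :=
  isPseudoCoherent_obj₂ T.rotate (rot_of_distTriang _ hT) m h2
    (isPseudoCoherent_shift 1 m (by omega) h1)

/-- Stacks 15.64.2 (3) -/
theorem isPseudoCoherent_obj₁ (T : Triangle (Dual.D A)) (hT : T ∈ distTriang _) (m : ℤ)
    (h2 : DRing.IsPseudoCoherent A (m + 1) T.obj₂) (h3 : DRing.IsPseudoCoherent A m T.obj₃) :
    DRing.IsPseudoCoherent A (m + 1) T.obj₁ :=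
  isPseudoCoherent_obj₂ T.invRotate (inv_rot_of_distTriang _ hT) (m + 1)
    (isPseudoCoherent_shift (-1) (m + 1) (by omega) h3) h2

end Groth.Agent.Helper3.DRingLib
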