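import Mathlib
import Groth.Prelude.Def_DRing2
import Groth.Prelude.Def_DDual2
import Groth.Agent.Helper3.DRing1
import Groth.Agent.Helper3.DRingCone
import Groth.Agent.Helper3.DRingBFF
import Groth.Agent.Helper3.DRingApprox
import Groth.Agent.Helper3.DRingPC

/-! Flat base change on derived categories of modules. -/

set_option autoImplicit false
universe u
open CategoryTheory CategoryTheory.Limits TensorProduct

namespace Groth.Agent.Helper3.DRingLib

attribute [local instance] HasDerivedCategory.standard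

open Pretriangulated DerivedCategory ZeroObject

section Equiv

variable {A B : Type u} [CommRing A] [CommRing B] [Algebra A B]

/-- `B` with the `A`-module structure coming from `restrictScalars` is `B`. -/
def restrictSelfEquiv :
    ((ModuleCat.restrictScalars (algebraMap A B)).obj (ModuleCat.of B B)) ≃ₗ[A] B where
  toFun x := x
  invFun x := x
  left_inv _ := rfl
  right_inv _ := rfl
  map_add' _ _ := rfl
  map_smul' a x := by
    rw [ModuleCat.restrictScalars.smul_def]
    exact (Algebra.smul_def (A := B) a x).symm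

/-- auxiliary `A`-linear equivalence. -/
noncomputable def extendScalarsEquivAux (M : ModuleCat.{u} A) :
    (((ModuleCat.restrictScalars (algebraMap A B)).obj (ModuleCat.of B B)) ⊗[A] M) ≃ₗ[A]
      B ⊗[A] M :=
  TensorProduct.congr (restrictSelfEquiv (A := A) (B := B)) (LinearEquiv.refl A M)

lemma extendScalarsEquivAux_smul (M : ModuleCat.{u} A) (s : B)
    (x : (ModuleCat.extendScalars (algebraMap A B)).obj M) :
    extendScalarsEquivAux (B := B) M (s • x) = s • extendScalarsEquivAux (B := B) M x := by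
  refine TensorProduct.induction_on (motive := fun x => extendScalarsEquivAux (B := B) M
    (@HSMul.hSMul B ((ModuleCat.extendScalars (algebraMap A B)).obj M) _ _ s x) =
      s • extendScalarsEquivAux (B := B) M x) x ?_ ?_ ?_
  · refine (congrArg (extendScalarsEquivAux (B := B) M)
      (smul_zero (A := ((ModuleCat.extendScalars (algebraMap A B)).obj M)) s)).trans ?_
    exact (map_zero (extendScalarsEquivAux (B := B) M)).trans ((smul_zero s).symm.trans
      (congrArg (s • ·) (map_zero (extendScalarsEquivAux (B := B) M)).symm))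
  · intro s' m
    refine (congrArg (extendScalarsEquivAux (B := B) M)
      (ModuleCat.ExtendScalars.smul_tmul (f := algebraMap A B) s s' m)).trans ?_
    simp only [extendScalarsEquivAux, TensorProduct.congr_tmul, LinearEquiv.refl_apply]
    rw [TensorProduct.smul_tmul']
    rfl
  · intro a b ha hb
    refine (congrArg (extendScalarsEquivAux (B := B) M)
      (smul_add (A := ((ModuleCat.extendScalars (algebraMap A B)).obj M)) s a b)).trans ?_
    refine (map_add (extendScalarsEquivAux (B := B) M) _ _).trans ?_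
    refine (congrArg₂ (· + ·) ha hb).trans ?_
    rw [← smul_add, ← map_add]

/-- `(extendScalars (algebraMap A B)).obj M` is `B ⊗[A] M`. -/
noncomputable def extendScalarsEquiv (M : ModuleCat.{u} A) :
    ((ModuleCat.extendScalars (algebraMap A B)).obj M) ≃ₗ[B] B ⊗[A] M :=
  { toFun := fun x => extendScalarsEquivAux (B := B) M x
    invFun := fun y => (extendScalarsEquivAux (B := B) M).symm y
    left_inv := fun x => (extendScalarsEquivAux (B := B) M).symm_apply_apply x
    right_inv := fun y => (extendScalarsEquivAux (B := B) M).apply_symm_apply y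
    map_add' := fun x y => map_add (extendScalarsEquivAux (B := B) M) x y
    map_smul' := fun s x => extendScalarsEquivAux_smul M s x }

end Equiv

section BC

variable (A B : Type u) [CommRing A] [CommRing B] [Algebra A B]

/-- extension of scalars along `A → B`. -/
noncomputable abbrev bcF : ModuleCat.{u} A ⥤ ModuleCat.{u} B :=
  ModuleCat.extendScalars.{u, u, u} (algebraMap A B)

/-- termwise extension of scalars on complexes. -/
noncomputable abbrev bcCx : DRing.Cx A ⥤ DRing.Cx B :=
  (bcF A B).mapHomologicalComplex (ComplexShape.up ℤ)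

variable {A}

lemma bcCx_isZero_X (E : DRing.Cx A) (i : ℤ) (h : IsZero (E.X i)) :
    IsZero (((bcCx A B).obj E).X i) :=
  Functor.map_isZero (bcF A B) h

lemma bcCx_vanishesAbove (E : DRing.Cx A) (b : ℤ) (h : DRing.VanishesAbove E b) :
    DRing.VanishesAbove ((bcCx A B).obj E) b := fun i hi => bcCx_isZero_X B E i (h i hi)

lemma bcCx_vanishesOutside (E : DRing.Cx A) (a b : ℤ) (h : DRing.VanishesOutside E a b) :
    DRing.VanishesOutside ((bcCx A B).obj E) a b := fun i hi => bcCx_isZero_X B E i (h i hi)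

lemma bcCx_termwiseFiniteFree (E : DRing.Cx A) (h : DRing.TermwiseFiniteFree E) :
    DRing.TermwiseFiniteFree ((bcCx A B).obj E) := by
  intro i
  obtain ⟨h1, h2⟩ := h i
  let e := extendScalarsEquiv (B := B) (E.X i)
  exact ⟨Module.Finite.equiv e.symm, Module.Free.of_equiv e.symm⟩

lemma bcCx_termwiseFiniteProjective (E : DRing.Cx A) (h : DRing.TermwiseFiniteProjective E) :
    DRing.TermwiseFiniteProjective ((bcCx A B).obj E) := by
  intro i
  obtain ⟨h1, h2⟩ := h i
  let e := extendScalarsEquiv (B := B) (E.X i)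
  exact ⟨Module.Finite.equiv e.symm, Module.Projective.of_equiv e.symm⟩

lemma bcCx_termwiseFlat (E : DRing.Cx A) (h : DRing.TermwiseFlat E) :
    DRing.TermwiseFlat ((bcCx A B).obj E) := by
  intro i
  have := h i
  let e := extendScalarsEquiv (B := B) (E.X i)
  exact Module.Flat.of_linearEquiv e

variable (A) [Module.Flat A B]

instance preservesFiniteLimits_bcF : PreservesFiniteLimits (bcF A B) :=
  ModuleCat.preservesFiniteLimits_extendScalars_of_flat
    ((RingHom.flat_algebraMap_iff).mpr inferInstance)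

/-- flat base change on derived categories. -/
noncomputable abbrev bcD : Dual.D A ⥤ Dual.D B := (bcF A B).mapDerivedCategory

variable {A}

/-- `bcD (toD E) ≅ toD (bcCx E)`. -/
noncomputable def bcDToD (E : DRing.Cx A) :
    (bcD A B).obj (DRing.toD E) ≅ DRing.toD ((bcCx A B).obj E) :=
  (bcF A B).mapDerivedCategoryFactors.app E

/-- `bcD (M[0]) ≅ (B ⊗ M)[0]`. -/
noncomputable def bcDInD (M : Type u) [AddCommGroup M] [Module A M] :
    (bcD A B).obj (Dual.inD A M) ≅ Dual.inD B (B ⊗[A] M) :=
  ((bcF A B).mapDerivedCategorySingleFunctor 0).app (ModuleCat.of A M) ≪≫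
    (DerivedCategory.singleFunctor (ModuleCat.{u} B) 0).mapIso
      (extendScalarsEquiv (B := B) (ModuleCat.of A M)).toModuleIso

lemma bcD_isLE (X : Dual.D A) (n : ℤ) [X.IsLE n] : ((bcD A B).obj X).IsLE n := by
  obtain ⟨K', hK', ⟨e⟩⟩ := X.exists_iso_Q_obj_of_isLE n
  have h1 : ((bcCx A B).obj K').IsStrictlyLE n := by
    rw [CochainComplex.isStrictlyLE_iff]
    intro i hi
    exact bcCx_isZero_X B K' i (K'.isZero_of_isStrictlyLE n i hi)
  have h2 : (DRing.toD ((bcCx A B).obj K')).IsLE n := inferInstance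
  exact TStructure.t.isLE_of_iso (((bcD A B).mapIso e) ≪≫ bcDToD B K').symm n

lemma bcD_isBFF {a b : ℤ} {X : Dual.D A} (h : IsBFF a b X) : IsBFF a b ((bcD A B).obj X) := by
  obtain ⟨E, hv, hf, ⟨e⟩⟩ := h
  exact ⟨(bcCx A B).obj E, bcCx_vanishesOutside B E a b hv, bcCx_termwiseFiniteFree B E hf,
    ⟨(bcDToD B E).symm ≪≫ (bcD A B).mapIso e⟩⟩

lemma bcD_isApprox {m : ℤ} {X K : Dual.D A} (α : X ⟶ K) (h : IsApprox m α) :
    IsApprox m ((bcD A B).map α) := by
  obtain ⟨C, p, d, hT⟩ := distinguished_cocone_triangle α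
  have hC : C.IsLE (m - 1) := (isApprox_iff_isLE _ hT m).mp h
  have hT' := (bcD A B).map_distinguished _ hT
  have hC' : ((bcD A B).obj C).IsLE (m - 1) := bcD_isLE B C (m - 1)
  exact (isApprox_iff_isLE _ hT' m).mpr hC'

theorem bcD_isPseudoCoherent {m : ℤ} {K : Dual.D A} (h : DRing.IsPseudoCoherent A m K) :
    DRing.IsPseudoCoherent B m ((bcD A B).obj K) := by
  rw [isPseudoCoherent_iff] at h ⊢
  obtain ⟨X, a, b, α, hX, hα⟩ := h
  exact ⟨_, a, b, (bcD A B).map α, bcD_isBFF B hX, bcD_isApprox B α hα⟩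

theorem bcD_isPseudoCoherent' {K : Dual.D A} (h : DRing.IsPseudoCoherent' A K) :
    DRing.IsPseudoCoherent' B ((bcD A B).obj K) := by
  obtain ⟨E, b, hv, hf, ⟨e⟩⟩ := h
  exact ⟨(bcCx A B).obj E, b, bcCx_vanishesAbove B E b hv, bcCx_termwiseFiniteFree B E hf,
    ⟨(bcDToD B E).symm ≪≫ (bcD A B).mapIso e⟩⟩

theorem bcD_isPerfect {K : Dual.D A} (h : DRing.IsPerfect A K) :
    DRing.IsPerfect B ((bcD A B).obj K) := by
  obtain ⟨E, a, b, hv, hf, ⟨e⟩⟩ := h
  exact ⟨(bcCx A B).obj E, a, b, bcCx_vanishesOutside B E a b hv,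
    bcCx_termwiseFiniteProjective B E hf, ⟨(bcDToD B E).symm ≪≫ (bcD A B).mapIso e⟩⟩

theorem bcD_hasTorAmplitudeIn {a b : ℤ} {K : Dual.D A} (h : DRing.HasTorAmplitudeIn A a b K) :
    DRing.HasTorAmplitudeIn B a b ((bcD A B).obj K) := by
  obtain ⟨E, hv, hf, ⟨e⟩⟩ := h
  exact ⟨(bcCx A B).obj E, bcCx_vanishesOutside B E a b hv,
    bcCx_termwiseFlat B E hf, ⟨(bcDToD B E).symm ≪≫ (bcD A B).mapIso e⟩⟩

end BC

end Groth.Agent.Helper3.DRingLib
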