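import Mathlib
import Groth.Prelude.Def_DRing2
import Groth.Agent.Helper3.DRing1

/-! Finiteness of the top cohomology of bounded complexes of finite projective modules. -/

set_option autoImplicit false
universe u
open CategoryTheory CategoryTheory.Limits

namespace Groth.Agent.Helper3.DRingLib

attribute [local instance] HasDerivedCategory.standard

variable {A : Type u} [CommRing A]

/-- If `f : M → N` is a surjection onto a projective module, then `ker f` is a retract of `M`. -/
lemma ker_finite_projective_of_surjective {M N : Type u} [AddCommGroup M] [Module A M]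
    [AddCommGroup N] [Module A N] (f : M →ₗ[A] N) (hf : Function.Surjective f)
    [Module.Projective A N] [Module.Finite A M] [Module.Projective A M] :
    Module.Finite A (LinearMap.ker f) ∧ Module.Projective A (LinearMap.ker f) := by
  obtain ⟨s, hs⟩ := Module.projective_lifting_property f LinearMap.id hf
  have hs' : ∀ y, f (s y) = y := fun y => congr($hs y)
  let r : M →ₗ[A] LinearMap.ker f :=
    (LinearMap.id - s ∘ₗ f).codRestrict _ (fun x => by simp [hs'])
  have hr : r ∘ₗ (LinearMap.ker f).subtype = LinearMap.id := by
    ext ⟨x, hx⟩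
    have hx' : f x = 0 := hx
    simp [r, hx']
  have hsurj : Function.Surjective r := fun y => ⟨(LinearMap.ker f).subtype y, congr($hr y)⟩
  exact ⟨Module.Finite.of_surjective r hsurj,
    Module.Projective.of_split (LinearMap.ker f).subtype r hr⟩

lemma ker_finite_projective_of_exact (S : ShortComplex (ModuleCat.{u} A)) (hS : S.Exact)
    [Module.Projective A (LinearMap.ker S.g.hom)] [Module.Finite A S.X₁]
    [Module.Projective A S.X₁] :
    Module.Finite A (LinearMap.ker S.f.hom) ∧ Module.Projective A (LinearMap.ker S.f.hom) := by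
  have hsurj := (S.exact_iff_surjective_moduleCatToCycles).mp hS
  have := ker_finite_projective_of_surjective S.moduleCatToCycles hsurj
  have hk : LinearMap.ker S.moduleCatToCycles = LinearMap.ker S.f.hom :=
    LinearMap.ker_codRestrict _ _ _
  rwa [hk] at this

/-- In a bounded above complex of finite projective modules which is exact in degrees `> m`,
the modules of cycles in degrees `≥ m` are finite projective. -/
lemma cycles_finite_projective (E : DRing.Cx A) (hE : DRing.TermwiseFiniteProjective E) (b : ℤ)
    (hb : DRing.VanishesAbove E b) (m : ℤ) (hex : ∀ i, m < i → E.ExactAt i) (n : ℕ) :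
    ∀ j, m ≤ j → b + 1 - j ≤ n →
      Module.Finite A (LinearMap.ker (E.d j (j + 1)).hom) ∧
        Module.Projective A (LinearMap.ker (E.d j (j + 1)).hom) := by
  have hzero : ∀ j, b < j → Module.Finite A (LinearMap.ker (E.d j (j + 1)).hom) ∧
        Module.Projective A (LinearMap.ker (E.d j (j + 1)).hom) := by
    intro j hj
    have := ModuleCat.subsingleton_of_isZero (hb j hj)
    exact ⟨Module.Finite.of_finite, Module.Projective.of_free⟩
  induction n with
  | zero =>
    intro j _ hj
    exact hzero j (by omega)
  | succ n ih =>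
    intro j hmj hj
    by_cases hjb : b < j
    · exact hzero j hjb
    · obtain ⟨h1, h2⟩ := ih (j + 1) (by omega) (by push_cast at hj; omega)
      have hex' := hex (j + 1) (by omega)
      rw [HomologicalComplex.exactAt_iff' E j (j + 1) (j + 1 + 1) (by simp) (by simp)] at hex'
      obtain ⟨f1, f2⟩ := hE j
      have f1' : Module.Finite A (E.sc' j (j + 1) (j + 1 + 1)).X₁ := f1
      have f2' : Module.Projective A (E.sc' j (j + 1) (j + 1 + 1)).X₁ := f2
      have h2' : Module.Projective A (LinearMap.ker (E.sc' j (j + 1) (j + 1 + 1)).g.hom) := h2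
      exact ker_finite_projective_of_exact (E.sc' j (j + 1) (j + 1 + 1)) hex'

/-- `H^i(toD E) ≅ E.homology i`. -/
noncomputable def homologyToDIso (E : DRing.Cx A) (i : ℤ) :
    (DerivedCategory.homologyFunctor (ModuleCat.{u} A) i).obj (DRing.toD E) ≅ E.homology i :=
  (DerivedCategory.homologyFunctorFactors (ModuleCat.{u} A) i).app E

lemma exactAt_of_isZero (E : DRing.Cx A) (i : ℤ)
    (h : IsZero ((DerivedCategory.homologyFunctor (ModuleCat.{u} A) i).obj (DRing.toD E))) :
    E.ExactAt i := by
  rw [HomologicalComplex.exactAt_iff_isZero_homology]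
  exact h.of_iso (homologyToDIso E i).symm

/-- explicit model of the homology of a complex of modules. -/
noncomputable def homologyIsoQuot (E : DRing.Cx A) (i : ℤ) :
    E.homology i ≅ (E.sc' (i - 1) i (i + 1)).moduleCatLeftHomologyData.H :=
  (E.homologyIsoSc' (i - 1) i (i + 1) (by simp) (by simp)) ≪≫
    (E.sc' (i - 1) i (i + 1)).moduleCatHomologyIso

lemma finite_of_iso {M N : ModuleCat.{u} A} (e : M ≅ N) (h : Module.Finite A M) :
    Module.Finite A N :=
  Module.Finite.equiv e.toLinearEquiv

lemma finitePresentation_of_iso {M N : ModuleCat.{u} A} (e : M ≅ N)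
    (h : Module.FinitePresentation A M) : Module.FinitePresentation A N :=
  Module.FinitePresentation.of_equiv e.toLinearEquiv

/-- Finiteness of the top cohomology. -/
theorem finite_homology_of_exact_above (E : DRing.Cx A) (hE : DRing.TermwiseFiniteProjective E)
    (b : ℤ) (hb : DRing.VanishesAbove E b) (m : ℤ)
    (hex : ∀ i, m < i →
      IsZero ((DerivedCategory.homologyFunctor (ModuleCat.{u} A) i).obj (DRing.toD E))) :
    Module.Finite A ((DerivedCategory.homologyFunctor (ModuleCat.{u} A) m).obj (DRing.toD E)) := by
  obtain ⟨h1, h2⟩ := cycles_finite_projective E hE b hb m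
    (fun i hi => exactAt_of_isZero E i (hex i hi)) (b + 1 - m).toNat m le_rfl (by omega)
  have h1' : Module.Finite A (LinearMap.ker (E.sc' (m - 1) m (m + 1)).g.hom) := h1
  refine finite_of_iso ((homologyToDIso E m) ≪≫ homologyIsoQuot E m).symm ?_
  change Module.Finite A (LinearMap.ker (E.sc' (m - 1) m (m + 1)).g.hom ⧸
    LinearMap.range (E.sc' (m - 1) m (m + 1)).moduleCatToCycles)
  infer_instance

/-- Finite presentation of the top cohomology. -/
theorem finitePresentation_homology_of_exact_above (E : DRing.Cx A)
    (hE : DRing.TermwiseFiniteProjective E)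
    (b : ℤ) (hb : DRing.VanishesAbove E b) (m : ℤ)
    (hex : ∀ i, m < i →
      IsZero ((DerivedCategory.homologyFunctor (ModuleCat.{u} A) i).obj (DRing.toD E))) :
    Module.FinitePresentation A
      ((DerivedCategory.homologyFunctor (ModuleCat.{u} A) m).obj (DRing.toD E)) := by
  obtain ⟨h1, h2⟩ := cycles_finite_projective E hE b hb m
    (fun i hi => exactAt_of_isZero E i (hex i hi)) (b + 1 - m).toNat m le_rfl (by omega)
  have h1' : Module.Finite A (LinearMap.ker (E.sc' (m - 1) m (m + 1)).g.hom) := h1
  have h2' : Module.Projective A (LinearMap.ker (E.sc' (m - 1) m (m + 1)).g.hom) := h2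
  have h3 : Module.Finite A (E.sc' (m - 1) m (m + 1)).X₁ := (hE (m - 1)).1
  refine finitePresentation_of_iso ((homologyToDIso E m) ≪≫ homologyIsoQuot E m).symm ?_
  change Module.FinitePresentation A (LinearMap.ker (E.sc' (m - 1) m (m + 1)).g.hom ⧸
    LinearMap.range (E.sc' (m - 1) m (m + 1)).moduleCatToCycles)
  have := Module.finitePresentation_of_projective A
    (LinearMap.ker (E.sc' (m - 1) m (m + 1)).g.hom)
  refine Module.finitePresentation_of_surjective
    (LinearMap.range (E.sc' (m - 1) m (m + 1)).moduleCatToCycles).mkQ
    (Submodule.mkQ_surjective _) ?_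
  rw [Submodule.ker_mkQ]
  exact (Module.Finite.iff_fg.mp (Module.Finite.range _))

end Groth.Agent.Helper3.DRingLib
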