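import Mathlib
import Groth.Prelude.Def_DRing2
import Groth.Prelude.Def_DDual2
import Groth.Agent.Helper3.DRingBC
import Groth.Agent.Helper3.DRingFin

/-! Restriction of scalars on derived categories of modules. -/

set_option autoImplicit false
universe u
open CategoryTheory CategoryTheory.Limits

namespace Groth.Agent.Helper3.DRingLib

attribute [local instance] HasDerivedCategory.standard

open Pretriangulated DerivedCategory ZeroObject

section Restr

variable {A B : Type u} [CommRing A] [CommRing B] (φ : A →+* B)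

/-- restriction of scalars along `φ`. -/
noncomputable abbrev rF : ModuleCat.{u} B ⥤ ModuleCat.{u} A := ModuleCat.restrictScalars.{u} φ

/-- termwise restriction of scalars on complexes. -/
noncomputable abbrev rCx : DRing.Cx B ⥤ DRing.Cx A :=
  (rF φ).mapHomologicalComplex (ComplexShape.up ℤ)

/-- `restrictD (toD E) ≅ toD (rCx E)`. -/
noncomputable def rDToD (E : DRing.Cx B) :
    (DRing.restrictD φ).obj (DRing.toD E) ≅ DRing.toD ((rCx φ).obj E) :=
  (rF φ).mapDerivedCategoryFactors.app E

/-- `restrictD (M[n]) ≅ (M_A)[n]`. -/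
noncomputable def rDSingle (n : ℤ) (M : ModuleCat.{u} B) :
    (DRing.restrictD φ).obj ((DerivedCategory.singleFunctor (ModuleCat.{u} B) n).obj M) ≅
      (DerivedCategory.singleFunctor (ModuleCat.{u} A) n).obj ((rF φ).obj M) :=
  ((rF φ).mapDerivedCategorySingleFunctor n).app M

lemma preservesHomology_rF : (rF φ).PreservesHomology := by
  have h1 : PreservesFiniteLimits (rF φ) := inferInstance
  have h2 : PreservesFiniteColimits (rF φ) := inferInstance
  have := ((Functor.exact_tfae (rF φ)).out 3 2)
  exact this.mp ⟨h1, h2⟩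

/-- Restriction of scalars commutes with homology. -/
noncomputable def rHomologyIso (K : DRing.Cx B) (p : ℤ) :
    ((rCx φ).obj K).homology p ≅ (rF φ).obj (K.homology p) :=
  haveI := preservesHomology_rF φ
  (K.sc p).mapHomologyIso (rF φ)

/-- `H^p(restrictD K) ≅ H^p(K)` restricted. -/
noncomputable def rDHDIso (K : Dual.D B) (p : ℤ) :
    (homologyFunctor (ModuleCat.{u} A) p).obj ((DRing.restrictD φ).obj K) ≅
      (rF φ).obj ((homologyFunctor (ModuleCat.{u} B) p).obj K) :=
  let K' : DRing.Cx B := DerivedCategory.Q.objPreimage K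
  let e : DRing.toD K' ≅ K := DerivedCategory.Q.objObjPreimageIso K
  (homologyFunctor (ModuleCat.{u} A) p).mapIso ((DRing.restrictD φ).mapIso e.symm ≪≫ rDToD φ K') ≪≫
    homologyToDIso _ p ≪≫ rHomologyIso φ K' p ≪≫
    (rF φ).mapIso ((homologyToDIso K' p).symm ≪≫ (homologyFunctor (ModuleCat.{u} B) p).mapIso e)

lemma subsingleton_HD_rD_iff (K : Dual.D B) (p : ℤ) :
    Subsingleton (Dual.HD A ((DRing.restrictD φ).obj K) p) ↔ Subsingleton (Dual.HD B K p) := by
  have e := (rDHDIso φ K p).toLinearEquiv.toEquiv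
  constructor
  · intro h
    exact (show (Dual.HD B K p) ≃ _ from e.symm).subsingleton
  · intro h
    exact (show _ ≃ (Dual.HD B K p) from e).subsingleton

lemma rD_isLE_iff (K : Dual.D B) (n : ℤ) : ((DRing.restrictD φ).obj K).IsLE n ↔ K.IsLE n := by
  constructor
  · intro h
    apply isLE_of_HD
    intro i hi
    exact (subsingleton_HD_rD_iff φ K i).mp (subsingleton_HD_of_isLE _ n i hi)
  · intro h
    apply isLE_of_HD
    intro i hi
    exact (subsingleton_HD_rD_iff φ K i).mpr (subsingleton_HD_of_isLE _ n i hi)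

lemma rD_isGE_iff (K : Dual.D B) (n : ℤ) : ((DRing.restrictD φ).obj K).IsGE n ↔ K.IsGE n := by
  constructor
  · intro h
    apply isGE_of_HD
    intro i hi
    exact (subsingleton_HD_rD_iff φ K i).mp (subsingleton_HD_of_isGE _ n i hi)
  · intro h
    apply isGE_of_HD
    intro i hi
    exact (subsingleton_HD_rD_iff φ K i).mpr (subsingleton_HD_of_isGE _ n i hi)

lemma rD_isApprox {m : ℤ} {X K : Dual.D B} (α : X ⟶ K) (h : IsApprox m α) :
    IsApprox m ((DRing.restrictD φ).map α) := by
  obtain ⟨C, p, d, hT⟩ := distinguished_cocone_triangle α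
  have hC : C.IsLE (m - 1) := (isApprox_iff_isLE _ hT m).mp h
  have hT' := (DRing.restrictD φ).map_distinguished _ hT
  have hC' : ((DRing.restrictD φ).obj C).IsLE (m - 1) := (rD_isLE_iff φ C (m - 1)).mpr hC
  exact (isApprox_iff_isLE _ hT' m).mpr hC'

end Restr

end Groth.Agent.Helper3.DRingLib
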