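import Mathlib
import Groth.Prelude.Def_DRing2
import Groth.Agent.Helper3.DRing1

/-! Dévissage along cohomology for objects of `D(A)` with bounded cohomology. -/

set_option autoImplicit false
universe u
open CategoryTheory CategoryTheory.Limits

namespace Groth.Agent.Helper3.DRingLib

attribute [local instance] HasDerivedCategory.standard

variable {A : Type u} [CommRing A]

open Pretriangulated DerivedCategory

/-- `single_m(M) ≅ M[0]⟦-m⟧` -/
noncomputable def singleShiftIso (M : ModuleCat.{u} A) (m : ℤ) :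
    ((singleFunctor (ModuleCat.{u} A) 0).obj M)⟦-m⟧ ≅ (singleFunctor (ModuleCat.{u} A) m).obj M :=
  ((singleFunctors (ModuleCat.{u} A)).shiftIso (-m) m 0 (by omega)).app M

/-- An object concentrated in one cohomological degree `m` is `H^m[-m]`. -/
lemma exists_iso_single_HD (Z : Dual.D A) (m : ℤ) [Z.IsGE m] [Z.IsLE m] :
    Nonempty (Z ≅ (Dual.inD A (Dual.HD A Z m))⟦-m⟧) := by
  obtain ⟨Y, ⟨eY⟩⟩ := exists_iso_singleFunctor_obj_of_isGE_of_isLE Z m
  let eH : Y ≅ (homologyFunctor (ModuleCat.{u} A) m).obj Z :=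
    ((singleFunctorCompHomologyFunctorIso (ModuleCat.{u} A) m).app Y).symm ≪≫
      ((homologyFunctor (ModuleCat.{u} A) m).mapIso eY).symm
  exact ⟨eY ≪≫ (singleFunctor (ModuleCat.{u} A) m).mapIso eH ≪≫ (singleShiftIso _ m).symm⟩

/-- For a distinguished triangle `X → K → Y` with `X ∈ D^{≤n}`, `Y ∈ D^{≥n+1}`:
`H^i(X) ≅ H^i(K)` for `i ≤ n`. -/
lemma isIso_HD_mor₁ (T : Triangle (Dual.D A)) (hT : T ∈ distTriang _) (n : ℤ)
    [T.obj₃.IsGE (n + 1)] (i : ℤ) (hi : i ≤ n) :
    IsIso ((homologyFunctor (ModuleCat.{u} A) i).map T.mor₁) := by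
  have hm : Mono ((homologyFunctor (ModuleCat.{u} A) i).map T.mor₁) :=
    (HomologySequence.mono_homologyMap_mor₁_iff _ hT (i - 1) i (by omega)).mpr
      ((T.obj₃.isZero_of_isGE (n + 1) (i - 1) (by omega)).eq_of_src _ _)
  have he : Epi ((homologyFunctor (ModuleCat.{u} A) i).map T.mor₁) :=
    (HomologySequence.epi_homologyMap_mor₁_iff _ hT i).mpr
      ((T.obj₃.isZero_of_isGE (n + 1) i (by omega)).eq_of_tgt _ _)
  exact isIso_of_mono_of_epi _

/-- `H^i(K) ≅ H^i(Y)` for `i ≥ n+1`. -/
lemma isIso_HD_mor₂ (T : Triangle (Dual.D A)) (hT : T ∈ distTriang _) (n : ℤ)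
    [T.obj₁.IsLE n] (i : ℤ) (hi : n + 1 ≤ i) :
    IsIso ((homologyFunctor (ModuleCat.{u} A) i).map T.mor₂) := by
  have hm : Mono ((homologyFunctor (ModuleCat.{u} A) i).map T.mor₂) :=
    (HomologySequence.mono_homologyMap_mor₂_iff _ hT i).mpr
      ((T.obj₁.isZero_of_isLE n i (by omega)).eq_of_src _ _)
  have he : Epi ((homologyFunctor (ModuleCat.{u} A) i).map T.mor₂) :=
    (HomologySequence.epi_homologyMap_mor₂_iff _ hT i (i + 1) rfl).mpr
      ((T.obj₁.isZero_of_isLE n (i + 1) (by omega)).eq_of_tgt _ _)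
  exact isIso_of_mono_of_epi _

/-- Dévissage: a property of objects of `D(A)` stable under isomorphisms, shifts and extensions
holds for every object with bounded cohomology as soon as it holds for all `H^i(K)[0]`. -/
theorem devissage_homology (P : Dual.D A → Prop)
    (hiso : ∀ {K L : Dual.D A}, (K ≅ L) → P K → P L)
    (hshift : ∀ (K : Dual.D A) (n : ℤ), P K → P (K⟦n⟧))
    (hext : ∀ T : Triangle (Dual.D A), T ∈ distTriang _ → P T.obj₁ → P T.obj₃ → P T.obj₂)
    (n : ℕ) : ∀ (K : Dual.D A) (a : ℤ) [K.IsGE a] [K.IsLE (a + n)],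
      (∀ i : ℤ, P (Dual.inD A (Dual.HD A K i))) → P K := by
  induction n with
  | zero =>
    intro K a _ _ h
    have : K.IsLE a := by simpa using (inferInstance : K.IsLE (a + (0 : ℕ)))
    obtain ⟨e⟩ := exists_iso_single_HD K a
    exact hiso e.symm (hshift _ _ (h a))
  | succ n ih =>
    intro K a _ _ h
    set b : ℤ := a + (n + 1 : ℕ) with hb
    obtain ⟨X, Y, hX, hY, f, g, δ, hT⟩ := TStructure.t.exists_triangle K (b - 1) b (by omega)
    have iX : X.IsLE (b - 1) := ⟨hX⟩
    have iY : Y.IsGE b := ⟨hY⟩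
    have iY' : (Triangle.mk f g δ).obj₃.IsGE ((b - 1) + 1) := by
      have : b - 1 + 1 = b := by omega
      rw [this]; exact iY
    have iX' : (Triangle.mk f g δ).obj₁.IsLE (b - 1) := iX
    -- X is ≥ a
    have iXa : X.IsGE a := by
      rw [DerivedCategory.isGE_iff]
      intro i hi
      have : IsIso ((homologyFunctor (ModuleCat.{u} A) i).map f) :=
        isIso_HD_mor₁ _ hT (b - 1) i (by omega)
      exact (K.isZero_of_isGE a i hi).of_iso (asIso ((homologyFunctor (ModuleCat.{u} A) i).map f))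
    have iXn : X.IsLE (a + n) := by
      have : a + (n : ℤ) = b - 1 := by rw [hb]; push_cast; omega
      rw [this]; exact iX
    -- Y is ≤ b
    have iYb : Y.IsLE b := by
      rw [DerivedCategory.isLE_iff]
      intro i hi
      have : IsIso ((homologyFunctor (ModuleCat.{u} A) i).map g) :=
        isIso_HD_mor₂ _ hT (b - 1) i (by omega)
      exact (K.isZero_of_isLE b i hi).of_iso
        (asIso ((homologyFunctor (ModuleCat.{u} A) i).map g)).symm
    have hPX : P X := by
      apply ih X a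
      intro i
      by_cases hi : i ≤ b - 1
      · have : IsIso ((homologyFunctor (ModuleCat.{u} A) i).map f) :=
          isIso_HD_mor₁ _ hT (b - 1) i hi
        exact hiso ((singleFunctor (ModuleCat.{u} A) 0).mapIso
          (asIso ((homologyFunctor (ModuleCat.{u} A) i).map f)).symm) (h i)
      · have hz : IsZero ((homologyFunctor (ModuleCat.{u} A) i).obj X) :=
          X.isZero_of_isLE (b - 1) i (by omega)
        have hz' : IsZero ((homologyFunctor (ModuleCat.{u} A) (a - 1)).obj K) :=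
          K.isZero_of_isGE a (a - 1) (by omega)
        exact hiso ((singleFunctor (ModuleCat.{u} A) 0).mapIso (hz'.iso hz)) (h (a - 1))
    have hPY : P Y := by
      obtain ⟨e⟩ := exists_iso_single_HD Y b
      have : IsIso ((homologyFunctor (ModuleCat.{u} A) b).map g) :=
        isIso_HD_mor₂ _ hT (b - 1) b (by omega)
      refine hiso e.symm (hshift _ _ ?_)
      exact hiso ((singleFunctor (ModuleCat.{u} A) 0).mapIso
        (asIso ((homologyFunctor (ModuleCat.{u} A) b).map g))) (h b)
    exact hext _ hT hPX hPY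

/-- Version with a cohomological boundedness hypothesis. -/
theorem devissage_homology' (P : Dual.D A → Prop)
    (hiso : ∀ {K L : Dual.D A}, (K ≅ L) → P K → P L)
    (hshift : ∀ (K : Dual.D A) (n : ℤ), P K → P (K⟦n⟧))
    (hext : ∀ T : Triangle (Dual.D A), T ∈ distTriang _ → P T.obj₁ → P T.obj₃ → P T.obj₂)
    (K : Dual.D A) (hb : ∃ a b : ℤ, ∀ i : ℤ, (i < a ∨ b < i) → Subsingleton (Dual.HD A K i))
    (h : ∀ i : ℤ, P (Dual.inD A (Dual.HD A K i))) : P K := by
  obtain ⟨a, b, hab⟩ := hb
  have i1 : K.IsGE a := isGE_of_HD K a (fun i hi => hab i (Or.inl hi))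
  have i2 : K.IsLE (a + (b - a).toNat) := by
    apply isLE_of_HD
    intro i hi
    exact hab i (Or.inr (by omega))
  exact devissage_homology P hiso hshift hext (b - a).toNat K a h

end Groth.Agent.Helper3.DRingLib
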