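import Mathlib
import Groth.Prelude.Def_DRing2
import Groth.Agent.Helper3.DRing1
import Groth.Agent.Helper3.DRingCone
import Groth.Agent.Helper3.DRingBFF
import Groth.Agent.Helper3.DRingApprox
import Groth.Agent.Helper3.DRingPC
import Groth.Agent.Helper3.DRingDev

/-! `m`-pseudo-coherence: criteria in terms of cohomology modules. -/

set_option autoImplicit false
universe u
open CategoryTheory CategoryTheory.Limits

namespace Groth.Agent.Helper3.DRingLib

attribute [local instance] HasDerivedCategory.standard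

variable {A : Type u} [CommRing A]

open Pretriangulated DerivedCategory ZeroObject

lemma isIso_of_isZero' {C : Type*} [Category C] [HasZeroMorphisms C] {X Y : C} (f : X ⟶ Y)
    (hX : IsZero X) (hY : IsZero Y) : IsIso f :=
  ⟨0, hX.eq_of_src _ _, hY.eq_of_src _ _⟩

lemma IsBFF.hom_eq_zero {a b : ℤ} {X : Dual.D A} (h : IsBFF a b X) (K : Dual.D A) (n : ℤ)
    (hn : n < a) [K.IsLE n] (f : X ⟶ K) : f = 0 := by
  obtain ⟨E, v, p, ⟨e⟩⟩ := h
  have : E.IsKProjective := IsBFF.isKProjective E v p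
  rw [← cancel_epi e.hom, comp_zero]
  exact hom_eq_zero_of_isLE E a (fun i hi => v i (Or.inl hi)) _ n hn _

lemma isPseudoCoherent_of_isBFF {a b : ℤ} {K : Dual.D A} (h : IsBFF a b K) (m : ℤ) :
    DRing.IsPseudoCoherent A m K := by
  rw [isPseudoCoherent_iff]
  exact ⟨K, a, b, 𝟙 K, h, isApprox_of_isIso m _⟩

lemma isPseudoCoherent_of_isLE (K : Dual.D A) (m : ℤ) [K.IsLE (m - 1)] :
    DRing.IsPseudoCoherent A m K := by
  rw [isPseudoCoherent_iff]
  obtain ⟨X', b', α', h1, h2⟩ := exists_approx_of_isLE m (𝟙 K) (isApprox_of_isIso m _)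
  exact ⟨X', m, b', α', h1, h2⟩

/-- An object of `D^{≤ m}` with finitely generated `H^m` admits an `m`-approximation by a finite
free module placed in degree `m`. -/
theorem exists_single_approx (K : Dual.D A) (m : ℤ) [K.IsLE m]
    (h : Module.Finite A (Dual.HD A K m)) :
    ∃ (n : ℕ) (α : (Dual.inD A (Fin n → A))⟦-m⟧ ⟶ K), IsApprox m α := by
  obtain ⟨X, Y, hX, hY, f, g, δ, hT⟩ := TStructure.t.exists_triangle K (m - 1) m (by omega)
  have iX : X.IsLE (m - 1) := ⟨hX⟩
  have iY : Y.IsGE m := ⟨hY⟩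
  have iX' : (Triangle.mk f g δ).obj₁.IsLE (m - 1) := iX
  have hg : ∀ i, m ≤ i → IsIso ((homologyFunctor (ModuleCat.{u} A) i).map g) :=
    fun i hi => isIso_HD_mor₂ _ hT (m - 1) i (by omega)
  have iYm : Y.IsLE m := by
    rw [DerivedCategory.isLE_iff]
    intro i hi
    have := hg i hi.le
    exact (K.isZero_of_isLE m i hi).of_iso
      (asIso ((homologyFunctor (ModuleCat.{u} A) i).map g)).symm
  obtain ⟨e⟩ := exists_iso_single_HD Y m
  obtain ⟨n, p, hp⟩ := Module.Finite.exists_fin' A (Dual.HD A K m)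
  have hgm := hg m le_rfl
  let p' : ModuleCat.of A (Fin n → A) ⟶ ModuleCat.of A (Dual.HD A Y m) :=
    ModuleCat.ofHom p ≫ (homologyFunctor (ModuleCat.{u} A) m).map g
  have hp' : Epi p' := by
    have : Epi (ModuleCat.ofHom p) := (ModuleCat.epi_iff_surjective _).mpr hp
    exact epi_comp _ _
  let s := (singleFunctor (ModuleCat.{u} A) 0).map p'
  let φ : (Dual.inD A (Fin n → A))⟦-m⟧ ⟶ Y := s⟦-m⟧' ≫ e.inv
  have hXF : IsBFF m m ((Dual.inD A (Fin n → A))⟦-m⟧) :=
    (IsBFF.single 0 (ModuleCat.of A (Fin n → A))).shift' (-m) (by omega) (by omega)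
  have iX1 : (X⟦(1 : ℤ)⟧).IsLE (m - 2) := TStructure.t.isLE_shift X (m - 1) 1 (m - 2) (by omega)
  have hφδ : φ ≫ δ = 0 := hXF.hom_eq_zero (X⟦(1 : ℤ)⟧) (m - 2) (by omega) _
  obtain ⟨(α : (Dual.inD A (Fin n → A))⟦-m⟧ ⟶ K), hα⟩ := Triangle.coyoneda_exact₃ _ hT φ hφδ
  refine ⟨n, α, ?_⟩
  have iXF := hXF.isLE
  refine ⟨fun i hi => isIso_of_isZero' _ (((Dual.inD A (Fin n → A))⟦-m⟧).isZero_of_isLE m i hi) (K.isZero_of_isLE m i hi), ?_⟩
  have h1 : (homologyFunctor (ModuleCat.{u} A) m).map α ≫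
      (homologyFunctor (ModuleCat.{u} A) m).map g =
        (homologyFunctor (ModuleCat.{u} A) m).map (s⟦-m⟧') ≫
          (homologyFunctor (ModuleCat.{u} A) m).map e.inv := by
    rw [← Functor.map_comp, ← Functor.map_comp]
    congr 1
    exact hα.symm
  have h2 : Epi ((homologyFunctor (ModuleCat.{u} A) m).map (s⟦-m⟧')) := by
    rw [epi_homology_shift_iff s (-m) m 0 (by omega)]
    exact (epi_map_iff_of_natIso (singleFunctorCompHomologyFunctorIso (ModuleCat.{u} A) 0) p').mpr hp'
  have h3 : Epi ((homologyFunctor (ModuleCat.{u} A) m).map α ≫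
      (homologyFunctor (ModuleCat.{u} A) m).map g) := by
    rw [h1]
    exact epi_comp _ _
  have h4 : (homologyFunctor (ModuleCat.{u} A) m).map α =
      ((homologyFunctor (ModuleCat.{u} A) m).map α ≫
        (homologyFunctor (ModuleCat.{u} A) m).map g) ≫
          inv ((homologyFunctor (ModuleCat.{u} A) m).map g) := by simp
  rw [h4]
  exact epi_comp _ _

lemma isBFF_inD_shift (n : ℕ) (m : ℤ) : IsBFF m m ((Dual.inD A (Fin n → A))⟦-m⟧) :=
  (IsBFF.single 0 (ModuleCat.of A (Fin n → A))).shift' (-m) (by omega) (by omega)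

/-- An object of `D^{≤ m}` with finitely generated `H^m` is `m`-pseudo-coherent. -/
theorem isPseudoCoherent_of_isLE_of_finite (K : Dual.D A) (m : ℤ) [K.IsLE m]
    (h : Module.Finite A (Dual.HD A K m)) : DRing.IsPseudoCoherent A m K := by
  obtain ⟨n, α, hα⟩ := exists_single_approx K m h
  rw [isPseudoCoherent_iff]
  exact ⟨_, m, m, α, isBFF_inD_shift n m, hα⟩

/-- `H^0(M[0]) ≅ M`. -/
noncomputable def HDinDIso (M : ModuleCat.{u} A) :
    (homologyFunctor (ModuleCat.{u} A) 0).obj ((singleFunctor (ModuleCat.{u} A) 0).obj M) ≅ M :=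
  (singleFunctorCompHomologyFunctorIso (ModuleCat.{u} A) 0).app M

theorem isPseudoCoherent_inD_of_finite (N : Type u) [AddCommGroup N] [Module A N]
    [Module.Finite A N] : DRing.IsPseudoCoherent A 0 (Dual.inD A N) := by
  apply isPseudoCoherent_of_isLE_of_finite
  exact Module.Finite.equiv (HDinDIso (ModuleCat.of A N)).symm.toLinearEquiv

theorem isPseudoCoherent_inD_of_finitePresentation (N : Type u) [AddCommGroup N] [Module A N]
    [Module.FinitePresentation A N] : DRing.IsPseudoCoherent A (-1) (Dual.inD A N) := by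
  obtain ⟨n, p, hp⟩ := Module.Finite.exists_fin' A N
  have hker : (LinearMap.ker p).FG := Module.FinitePresentation.fg_ker p hp
  have : Module.Finite A (LinearMap.ker p) := Module.Finite.iff_fg.mpr hker
  have hS := LinearMap.shortExact_shortComplexKer hp
  have hT := hS.singleTriangle_distinguished
  have h1 : DRing.IsPseudoCoherent A (-1 + 1) hS.singleTriangle.obj₁ := by
    rw [show (-1 : ℤ) + 1 = 0 from by norm_num]
    exact isPseudoCoherent_inD_of_finite (LinearMap.ker p)
  have h2 : DRing.IsPseudoCoherent A (-1) hS.singleTriangle.obj₂ :=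
    isPseudoCoherent_of_isBFF (IsBFF.single 0 (ModuleCat.of A (Fin n → A))) (-1)
  exact isPseudoCoherent_obj₃ _ hT (-1) h1 h2

/-- `single_j(N)` for a finitely presented module `N` is `(j-1)`-pseudo-coherent. -/
theorem isPseudoCoherent_single_of_finitePresentation (N : ModuleCat.{u} A)
    [Module.FinitePresentation A N] (j m : ℤ) (hm : j - 1 ≤ m) :
    DRing.IsPseudoCoherent A m ((singleFunctor (ModuleCat.{u} A) j).obj N) := by
  have h := isPseudoCoherent_inD_of_finitePresentation (A := A) N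
  have h' := isPseudoCoherent_shift (-j) (j - 1) (by omega) h
  exact isPseudoCoherent_of_le hm (isPseudoCoherent_of_iso (singleShiftIso N j) h')

/-- Stacks 15.64.6 (066B-like): if `H^i(K) = 0` for `i > m + 1`, `H^{m+1}(K)` is finitely
presented and `H^m(K)` is finite then `K` is `m`-pseudo-coherent. -/
theorem isPseudoCoherent_of_homology (K : Dual.D A) (m : ℤ)
    (hvan : ∀ i : ℤ, m + 1 < i → Subsingleton (Dual.HD A K i))
    (hfp : Module.FinitePresentation A (Dual.HD A K (m + 1)))
    (hfin : Module.Finite A (Dual.HD A K m)) : DRing.IsPseudoCoherent A m K := by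
  have iK : K.IsLE (m + 1) := isLE_of_HD K (m + 1) hvan
  obtain ⟨X, Y, hX, hY, f, g, δ, hT⟩ := TStructure.t.exists_triangle K m (m + 1) (by omega)
  have iX : X.IsLE m := ⟨hX⟩
  have iY : Y.IsGE (m + 1) := ⟨hY⟩
  have iX' : (Triangle.mk f g δ).obj₁.IsLE m := iX
  have iY' : (Triangle.mk f g δ).obj₃.IsGE (m + 1) := iY
  have hg : ∀ i, m + 1 ≤ i → IsIso ((homologyFunctor (ModuleCat.{u} A) i).map g) :=
    fun i hi => isIso_HD_mor₂ _ hT m i hi
  have hf : ∀ i, i ≤ m → IsIso ((homologyFunctor (ModuleCat.{u} A) i).map f) :=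
    fun i hi => isIso_HD_mor₁ _ hT m i hi
  have iYm : Y.IsLE (m + 1) := by
    rw [DerivedCategory.isLE_iff]
    intro i hi
    have := hg i hi.le
    exact (K.isZero_of_isLE (m + 1) i hi).of_iso
      (asIso ((homologyFunctor (ModuleCat.{u} A) i).map g)).symm
  -- X is m-pseudo-coherent
  have hXpc : DRing.IsPseudoCoherent A m X := by
    apply isPseudoCoherent_of_isLE_of_finite
    have := hf m le_rfl
    exact Module.Finite.equiv
      (asIso ((homologyFunctor (ModuleCat.{u} A) m).map f)).symm.toLinearEquiv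
  -- Y is m-pseudo-coherent
  have hYpc : DRing.IsPseudoCoherent A m Y := by
    obtain ⟨e⟩ := exists_iso_single_HD Y (m + 1)
    have := hg (m + 1) le_rfl
    have hfpY : Module.FinitePresentation A (Dual.HD A Y (m + 1)) :=
      Module.FinitePresentation.of_equiv
        (asIso ((homologyFunctor (ModuleCat.{u} A) (m + 1)).map g)).toLinearEquiv
    have h := isPseudoCoherent_inD_of_finitePresentation (A := A) (Dual.HD A Y (m + 1))
    have h' := isPseudoCoherent_shift (-(m + 1)) m (by omega) h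
    exact isPseudoCoherent_of_iso e.symm h'
  exact isPseudoCoherent_obj₂ _ hT m hXpc hYpc

end Groth.Agent.Helper3.DRingLib
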