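import Mathlib
import Groth.Prelude.Def_DRing2
import Groth.Agent.Helper3.DRing1
import Groth.Agent.Helper3.DRingCone
import Groth.Agent.Helper3.DRingBFF
import Groth.Agent.Helper3.DRingApprox
import Groth.Agent.Helper3.DRingPC
import Groth.Agent.Helper3.DRingPC2
import Groth.Agent.Helper3.DRingFin
import Groth.Agent.Helper3.DRingDev

/-! Construction of a bounded above complex of finite free modules representing an object of
`D(A)` which is `m`-pseudo-coherent for every `m`. -/

set_option autoImplicit false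
universe u
open CategoryTheory CategoryTheory.Limits

namespace Groth.Agent.Helper3.DRingLib

attribute [local instance] HasDerivedCategory.standard

open Pretriangulated DerivedCategory ZeroObject CochainComplex HomComplex

section HEP

variable {C : Type*} [Category C] [Preadditive C] [HasBinaryBiproducts C]

/-- homotopy extension property for the inclusion into a mapping cone -/
lemma exists_hom_of_homotopy_inr {F G K : CochainComplex C ℤ} (φ : F ⟶ G)
    (a : mappingCone φ ⟶ K) (β : G ⟶ K) (h : Homotopy (mappingCone.inr φ ≫ a) β) :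
    ∃ a' : mappingCone φ ⟶ K, mappingCone.inr φ ≫ a' = β ∧ Nonempty (Homotopy a a') := by
  let η : Cochain G K (-1) := Cochain.ofHomotopy h
  have hη : δ (-1) 0 η = Cochain.ofHom (mappingCone.inr φ ≫ a) - Cochain.ofHom β := δ_ofHomotopy h
  let H : Cochain (mappingCone φ) K (-1) := (mappingCone.snd φ).comp η (zero_add (-1))
  let z : Cocycle (mappingCone φ) K 0 :=
    Cocycle.mk (Cochain.ofHom a - δ (-1) 0 H) 1 (zero_add 1) (by simp [δ_δ])
  refine ⟨Cocycle.homOf z, ?_, ⟨(Cochain.equivHomotopy _ _).symm ⟨H, ?_⟩⟩⟩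
  · apply (Cocycle.equivHom _ _).injective
    ext : 1
    simp only [Cocycle.equivHom_apply, Cocycle.ofHom_coe, Cochain.ofHom_comp,
      Cocycle.cochain_ofHom_homOf_eq_coe]
    change (Cochain.ofHom (mappingCone.inr φ)).comp (Cochain.ofHom a - δ (-1) 0 H) (zero_add 0) = _
    rw [Cochain.comp_sub, ← δ_ofHom_comp]
    have : (Cochain.ofHom (mappingCone.inr φ)).comp H (zero_add (-1)) = η := by
      dsimp only [H]
      rw [← Cochain.comp_assoc_of_first_is_zero_cochain, mappingCone.inr_snd, Cochain.id_comp]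
    rw [this, hη, ← Cochain.ofHom_comp]
    abel
  · simp only [Cocycle.cochain_ofHom_homOf_eq_coe]
    change Cochain.ofHom a = δ (-1) 0 H + (Cochain.ofHom a - δ (-1) 0 H)
    abel

end HEP

variable {A : Type u} [CommRing A]

lemma Q_map_eq_of_homotopy {P L : DRing.Cx A} (φ ψ : P ⟶ L) (h : Homotopy φ ψ) :
    DerivedCategory.Q.map φ = DerivedCategory.Q.map ψ := by
  have h1 := DerivedCategory.quotientCompQhIso_hom_naturality φ
  have h2 := DerivedCategory.quotientCompQhIso_hom_naturality ψ
  rw [HomotopyCategory.eq_of_homotopy φ ψ h] at h1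
  rw [← cancel_epi ((DerivedCategory.quotientCompQhIso _).hom.app P), ← h1, ← h2]

/-- The top cohomology of an `m`-pseudo-coherent object of `D^{≤ m}` is finite. -/
theorem finite_HD_of_isPseudoCoherent (K : Dual.D A) (m : ℤ) [K.IsLE m]
    (hK : DRing.IsPseudoCoherent A m K) : Module.Finite A (Dual.HD A K m) := by
  obtain ⟨E, a, b, α, v, ff, hiso, hepi⟩ := hK
  have hE : DRing.TermwiseFiniteProjective E := fun i => by
    obtain ⟨h1, h2⟩ := ff i
    exact ⟨h1, inferInstance⟩
  have hb : DRing.VanishesAbove E b := fun i hi => v i (Or.inr hi)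
  have hex : ∀ i, m < i →
      IsZero ((DerivedCategory.homologyFunctor (ModuleCat.{u} A) i).obj (DRing.toD E)) := by
    intro i hi
    have := hiso i hi
    exact (K.isZero_of_isLE m i hi).of_iso
      (asIso ((DerivedCategory.homologyFunctor (ModuleCat.{u} A) i).map α))
  have := finite_homology_of_exact_above E hE b hb m hex
  exact Module.Finite.of_surjective
    ((DerivedCategory.homologyFunctor (ModuleCat.{u} A) m).map α).hom
    ((ModuleCat.epi_iff_surjective _).mp hepi)

lemma single_vanishesOutside (F : ModuleCat.{u} A) (j : ℤ) :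
    DRing.VanishesOutside ((HomologicalComplex.single (ModuleCat.{u} A) (ComplexShape.up ℤ) j).obj F)
      j j := fun i hi =>
  HomologicalComplex.isZero_single_obj_X _ _ _ _ (by omega)

lemma single_termwiseFiniteFree (F : ModuleCat.{u} A) [Module.Finite A F] [Module.Free A F]
    (j : ℤ) : DRing.TermwiseFiniteFree
      ((HomologicalComplex.single (ModuleCat.{u} A) (ComplexShape.up ℤ) j).obj F) := by
  intro i
  by_cases hi : i = j
  · subst hi
    let e : ((HomologicalComplex.single (ModuleCat.{u} A) (ComplexShape.up ℤ) i).obj F).X i ≃ₗ[A] F :=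
      (HomologicalComplex.singleObjXSelf (ComplexShape.up ℤ) i F).toLinearEquiv
    exact ⟨Module.Finite.equiv e.symm, Module.Free.of_equiv e.symm⟩
  · have := ModuleCat.subsingleton_of_isZero
      (HomologicalComplex.isZero_single_obj_X (ComplexShape.up ℤ) j F i hi)
    exact ⟨Module.Finite.of_finite, Module.Free.of_subsingleton A _⟩

/-- A stage of the construction: a complex of finite free modules in degrees `[b-n+1, b]`
with a `(b-n+1)`-approximation to `K'`. -/
structure Stage (K' : DRing.Cx A) (b : ℤ) (n : ℕ) where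
  E : DRing.Cx A
  α : E ⟶ K'
  vanish : DRing.VanishesOutside E (b - n + 1) b
  ff : DRing.TermwiseFiniteFree E
  approx : IsApprox (b - n + 1) (DerivedCategory.Q.map α)

lemma isIso_inr_f {F G : DRing.Cx A} (φ : F ⟶ G) (i : ℤ) (hF : IsZero (F.X (i + 1))) :
    IsIso ((mappingCone.inr φ).f i) := by
  refine ⟨(mappingCone.snd φ).v i i (add_zero i), by simp, ?_⟩
  have h := mappingCone.id_X φ i (i + 1) rfl
  have hz : (mappingCone.fst φ).1.v i (i + 1) rfl = 0 := hF.eq_of_tgt _ _
  rw [hz, zero_comp, zero_add] at h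
  exact h

theorem exists_step (K' : DRing.Cx A) (b : ℤ)
    (hK : ∀ m : ℤ, DRing.IsPseudoCoherent A m (DRing.toD K')) (n : ℕ) (s : Stage K' b n) :
    ∃ (s' : Stage K' b (n + 1)) (j : s.E ⟶ s'.E), j ≫ s'.α = s.α ∧
      ∀ i : ℤ, i ≠ b - n → IsIso (j.f i) := by
  obtain ⟨m, hm⟩ : ∃ m : ℤ, m = b - n := ⟨_, rfl⟩
  have hm1 : b - (n : ℤ) + 1 = m + 1 := by omega
  have hm2 : b - ((n + 1 : ℕ) : ℤ) + 1 = m := by push_cast; omega
  have happ : IsApprox (m + 1) (DerivedCategory.Q.map s.α) := hm1 ▸ s.approx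
  have hvan : DRing.VanishesOutside s.E (m + 1) b := hm1 ▸ s.vanish
  have hEn : IsBFF (m + 1) b (DRing.toD s.E) := ⟨s.E, hvan, s.ff, ⟨Iso.refl _⟩⟩
  obtain ⟨X, f, h, hT₂⟩ := distinguished_cocone_triangle₁ (DerivedCategory.Q.map s.α)
  have hX1 : (X⟦(1 : ℤ)⟧).IsLE m := by
    have := (isApprox_iff_isLE _ (rot_of_distTriang _ hT₂) (m + 1)).mp happ
    have h' : m + 1 - 1 = m := by omega
    rw [h'] at this
    exact this
  have hX : X.IsLE (m + 1) := (TStructure.t.isLE_shift_iff X (m + 1) 1 m (by omega)).mp hX1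
  have hXpc : DRing.IsPseudoCoherent A (m + 1) X :=
    isPseudoCoherent_obj₁ _ hT₂ m (isPseudoCoherent_of_isBFF hEn (m + 1)) (hK m)
  have hfin : Module.Finite A (Dual.HD A X (m + 1)) := finite_HD_of_isPseudoCoherent X (m + 1) hXpc
  obtain ⟨k, g, hg⟩ := exists_single_approx X (m + 1) hfin
  let F : ModuleCat.{u} A := ModuleCat.of A (Fin k → A)
  let S : DRing.Cx A := (HomologicalComplex.single (ModuleCat.{u} A) (ComplexShape.up ℤ) (m + 1)).obj F
  let e : DRing.toD S ≅ (Dual.inD A (Fin k → A))⟦-(m + 1)⟧ := (singleShiftIso F (m + 1)).symm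
  let g' : DRing.toD S ⟶ X := e.hom ≫ g
  have hg' : IsApprox (m + 1) g' := (isApprox_of_isIso _ e.hom).comp hg
  have hSv : DRing.VanishesOutside S (m + 1) (m + 1) := single_vanishesOutside F (m + 1)
  have hSff : DRing.TermwiseFiniteFree S := single_termwiseFiniteFree F (m + 1)
  have : S.IsKProjective := IsBFF.isKProjective S hSv hSff
  obtain ⟨ũ, hũ⟩ := exists_Q_map_eq S s.E (g' ≫ f)
  have hT₁ := DerivedCategory.mappingCone_triangle_distinguished ũ
  have hE'v : DRing.VanishesOutside (mappingCone ũ) m b :=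
    cone_vanishesOutside ũ m b (vanishesOutside_mono S le_rfl (by omega) hSv)
      (vanishesOutside_mono s.E (by omega) le_rfl hvan)
  have hE'ff : DRing.TermwiseFiniteFree (mappingCone ũ) := cone_termwiseFiniteFree ũ hSff s.ff
  obtain ⟨(c : DRing.toD (mappingCone ũ) ⟶ DRing.toD K'), hc1, hc2⟩ :=
    complete_distinguished_triangle_morphism _ _ hT₁ hT₂ g' (𝟙 _)
    (by
      change DerivedCategory.Q.map ũ ≫ 𝟙 _ = g' ≫ f
      rw [Category.comp_id, hũ])
  have : (mappingCone ũ).IsKProjective := IsBFF.isKProjective _ hE'v hE'ff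
  obtain ⟨a, ha⟩ := exists_Q_map_eq (mappingCone ũ) K' c
  have : s.E.IsKProjective := IsBFF.isKProjective _ hvan s.ff
  have hc1' : DerivedCategory.Q.map (mappingCone.inr ũ) ≫ c = DerivedCategory.Q.map s.α := by
    exact hc1.trans (Category.id_comp _)
  obtain ⟨hh⟩ := homotopy_of_Q_map_eq s.E K' (mappingCone.inr ũ ≫ a) s.α
    (by rw [Functor.map_comp, ha, hc1'])
  obtain ⟨α', hα'1, ⟨hα'2⟩⟩ := exists_hom_of_homotopy_inr ũ a s.α hh
  have hQ : DerivedCategory.Q.map α' = c := by
    rw [← ha]
    exact (Q_map_eq_of_homotopy _ _ hα'2).symm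
  let φ : (DerivedCategory.Q.mapTriangle.obj (CochainComplex.mappingCone.triangle ũ)) ⟶
      Triangle.mk f (DerivedCategory.Q.map s.α) h :=
    { hom₁ := g'
      hom₂ := 𝟙 _
      hom₃ := c
      comm₁ := by
        change DerivedCategory.Q.map ũ ≫ 𝟙 _ = g' ≫ f
        rw [Category.comp_id, hũ]
      comm₂ := hc1
      comm₃ := hc2 }
  have hid : IsApprox m φ.hom₂ := by
    have : IsIso φ.hom₂ := (inferInstance : IsIso (𝟙 (DRing.toD s.E)))
    exact isApprox_of_isIso _ _
  have hc : IsApprox m c := IsApprox.third _ _ hT₁ hT₂ φ m hg' hid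
  refine ⟨⟨mappingCone ũ, α', hm2 ▸ hE'v, hE'ff, ?_⟩, mappingCone.inr ũ, hα'1, ?_⟩
  · rw [hm2, hQ]
    exact hc
  · intro i hi
    apply isIso_inr_f
    exact HomologicalComplex.isZero_single_obj_X _ _ _ _ (by omega)

section Sequence

variable (K' : DRing.Cx A) (b : ℤ)
  (hK : ∀ m : ℤ, DRing.IsPseudoCoherent A m (DRing.toD K')) (hb : (DRing.toD K').IsLE b)

/-- the initial stage: the zero complex. -/
noncomputable def stage0 (hb : (DRing.toD K').IsLE b) : Stage K' b 0 where
  E := 0
  α := 0
  vanish := fun i _ => Functor.map_isZero (HomologicalComplex.eval _ _ i) (isZero_zero _)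
  ff := termwiseFiniteFree_of_isZero _
    (fun i => Functor.map_isZero (HomologicalComplex.eval _ _ i) (isZero_zero _))
  approx := by
    have hz : IsZero (DRing.toD (0 : DRing.Cx A)) :=
      Functor.map_isZero DerivedCategory.Q (isZero_zero _)
    apply isApprox_of_epi_mono
    · intro i hi
      have : IsZero ((homologyFunctor (ModuleCat.{u} A) i).obj (DRing.toD K')) :=
        (DRing.toD K').isZero_of_isLE b i (by simp at hi; omega)
      exact ⟨fun _ _ _ => this.eq_of_src _ _⟩
    · intro i hi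
      have : IsZero ((homologyFunctor (ModuleCat.{u} A) i).obj (DRing.toD (0 : DRing.Cx A))) :=
        Functor.map_isZero _ hz
      exact ⟨fun _ _ _ => this.eq_of_tgt _ _⟩

/-- the sequence of stages. -/
noncomputable def stage : (n : ℕ) → Stage K' b n
  | 0 => stage0 K' b hb
  | (n + 1) => (exists_step K' b hK n (stage n)).choose

/-- the transition maps. -/
noncomputable def jmap (n : ℕ) : (stage K' b hK hb n).E ⟶ (stage K' b hK hb (n + 1)).E :=
  (exists_step K' b hK n (stage K' b hK hb n)).choose_spec.choose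

lemma jmap_α (n : ℕ) :
    jmap K' b hK hb n ≫ (stage K' b hK hb (n + 1)).α = (stage K' b hK hb n).α :=
  (exists_step K' b hK n (stage K' b hK hb n)).choose_spec.choose_spec.1

lemma isIso_jmap_f (n : ℕ) (i : ℤ) (hi : i ≠ b - n) : IsIso ((jmap K' b hK hb n).f i) :=
  (exists_step K' b hK n (stage K' b hK hb n)).choose_spec.choose_spec.2 i hi

/-- the inductive system of stages. -/
noncomputable def stageFunctor : ℕ ⥤ DRing.Cx A :=
  Functor.ofSequence (X := fun n => (stage K' b hK hb n).E) (jmap K' b hK hb)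

lemma isIso_stageFunctor_map_f (q : ℤ) (n₀ : ℕ) (hq : b - n₀ < q) (k : ℕ) :
    IsIso (((stageFunctor K' b hK hb).map (homOfLE (Nat.le_add_right n₀ k))).f q) := by
  induction k with
  | zero =>
    have : homOfLE (Nat.le_add_right n₀ 0) = 𝟙 n₀ := Subsingleton.elim _ _
    rw [this, CategoryTheory.Functor.map_id]
    exact (inferInstance : IsIso (𝟙 (((stageFunctor K' b hK hb).obj n₀).X q)))
  | succ k ih =>
    have : homOfLE (Nat.le_add_right n₀ (k + 1)) =
        homOfLE (Nat.le_add_right n₀ k) ≫ homOfLE (Nat.le_add_right (n₀ + k) 1) :=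
      Subsingleton.elim _ _
    rw [this, Functor.map_comp, HomologicalComplex.comp_f]
    have h2 : IsIso (((stageFunctor K' b hK hb).map
        (homOfLE (Nat.le_add_right (n₀ + k) 1))).f q) := by
      have := Functor.ofSequence_map_homOfLE_succ (jmap K' b hK hb) (n₀ + k)
      change (stageFunctor K' b hK hb).map _ = _ at this
      rw [this]
      exact isIso_jmap_f K' b hK hb (n₀ + k) q (by push_cast; omega)
    infer_instance

lemma isEventuallyConstantFrom (q : ℤ) (n₀ : ℕ) (hq : b - n₀ < q) :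
    (stageFunctor K' b hK hb ⋙ HomologicalComplex.eval _ _ q).IsEventuallyConstantFrom n₀ := by
  intro j f
  obtain ⟨k, rfl⟩ := Nat.exists_eq_add_of_le (leOfHom f)
  obtain rfl : f = homOfLE (Nat.le_add_right n₀ k) := Subsingleton.elim _ _
  exact isIso_stageFunctor_map_f K' b hK hb q n₀ hq k

/-- the cocone over the system given by the approximations. -/
noncomputable def stageCocone : Cocone (stageFunctor K' b hK hb) where
  pt := K'
  ι := NatTrans.ofSequence (fun n => (stage K' b hK hb n).α) (fun n => by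
    have := Functor.ofSequence_map_homOfLE_succ (jmap K' b hK hb) n
    change (stageFunctor K' b hK hb).map _ = _ at this
    rw [this]
    exact (jmap_α K' b hK hb n).trans (Category.comp_id _).symm)

end Sequence

section Final

variable (K' : DRing.Cx A) (b : ℤ)
  (hK : ∀ m : ℤ, DRing.IsPseudoCoherent A m (DRing.toD K')) (hb : (DRing.toD K').IsLE b)

open HomologicalComplex

/-- the colimit of the stages. -/
noncomputable def resE : DRing.Cx A := colimit (stageFunctor K' b hK hb)

noncomputable def resι (n : ℕ) : (stage K' b hK hb n).E ⟶ resE K' b hK hb :=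
  colimit.ι (stageFunctor K' b hK hb) n

noncomputable def resα : resE K' b hK hb ⟶ K' :=
  colimit.desc (stageFunctor K' b hK hb) (stageCocone K' b hK hb)

lemma resι_resα (n : ℕ) : resι K' b hK hb n ≫ resα K' b hK hb = (stage K' b hK hb n).α :=
  colimit.ι_desc (stageCocone K' b hK hb) n

lemma isIso_resι_f (q : ℤ) (n₀ : ℕ) (hq : b - n₀ < q) : IsIso ((resι K' b hK hb n₀).f q) :=
  (isEventuallyConstantFrom K' b hK hb q n₀ hq).isIso_ι_of_isColimit
    (isColimitOfPreserves (eval _ _ q) (colimit.isColimit (stageFunctor K' b hK hb)))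

lemma quasiIsoAt_resι (q : ℤ) (n : ℕ) (hq : b - n < q - 1) :
    QuasiIsoAt (resι K' b hK hb n) q := by
  rw [quasiIsoAt_iff' _ (q - 1) q (q + 1) (by simp) (by simp)]
  let φ := (shortComplexFunctor' (ModuleCat.{u} A) (ComplexShape.up ℤ) (q - 1) q (q + 1)).map
    (resι K' b hK hb n)
  have : IsIso φ.τ₁ := isIso_resι_f K' b hK hb (q - 1) n hq
  have : IsIso φ.τ₂ := isIso_resι_f K' b hK hb q n (by omega)
  have : IsIso φ.τ₃ := isIso_resι_f K' b hK hb (q + 1) n (by omega)
  exact ShortComplex.quasiIso_of_epi_of_isIso_of_mono φ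

lemma quasiIsoAt_of_isIso_homology {P L : DRing.Cx A} (f : P ⟶ L) (q : ℤ)
    (h : IsIso ((DerivedCategory.homologyFunctor (ModuleCat.{u} A) q).map
      (DerivedCategory.Q.map f))) : QuasiIsoAt f q := by
  rw [quasiIsoAt_iff_isIso_homologyMap]
  exact (NatIso.isIso_map_iff (DerivedCategory.homologyFunctorFactors (ModuleCat.{u} A) q) f).mp h

lemma quasiIso_resα : QuasiIso (resα K' b hK hb) := by
  refine ⟨fun q => ?_⟩
  obtain ⟨n, hn⟩ : ∃ n : ℕ, b - n < q - 1 := ⟨(b - q + 2).toNat, by omega⟩
  have h1 := quasiIsoAt_resι K' b hK hb q n hn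
  have h2 : QuasiIsoAt (resι K' b hK hb n ≫ resα K' b hK hb) q := by
    rw [resι_resα]
    exact quasiIsoAt_of_isIso_homology _ q ((stage K' b hK hb n).approx.1 q (by omega))
  exact quasiIsoAt_of_comp_left (resι K' b hK hb n) (resα K' b hK hb) q

lemma resE_vanishesAbove : DRing.VanishesAbove (resE K' b hK hb) b := by
  intro q hq
  have := isIso_resι_f K' b hK hb q 0 (by simpa using hq)
  exact ((stage K' b hK hb 0).vanish q (Or.inr hq)).of_iso
    (asIso ((resι K' b hK hb 0).f q)).symm

lemma resE_termwiseFiniteFree : DRing.TermwiseFiniteFree (resE K' b hK hb) := by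
  intro q
  obtain ⟨n, hn⟩ : ∃ n : ℕ, b - n < q := ⟨(b - q + 1).toNat, by omega⟩
  have := isIso_resι_f K' b hK hb q n hn
  let e : (stage K' b hK hb n).E.X q ≃ₗ[A] (resE K' b hK hb).X q :=
    (asIso ((resι K' b hK hb n).f q)).toLinearEquiv
  obtain ⟨h1, h2⟩ := (stage K' b hK hb n).ff q
  exact ⟨Module.Finite.equiv e, Module.Free.of_equiv e⟩

end Final

lemma exists_isLE_of_isPseudoCoherent {m : ℤ} {K : Dual.D A} (h : DRing.IsPseudoCoherent A m K) :
    ∃ b : ℤ, K.IsLE b := by
  obtain ⟨E, a, b, α, v, ff, hiso, hepi⟩ := h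
  refine ⟨max m b, ?_⟩
  rw [DerivedCategory.isLE_iff]
  intro i hi
  have := hiso i (by omega)
  have hE : (DRing.toD E).IsLE b := (IsBFF.isLE ⟨E, v, ff, ⟨Iso.refl _⟩⟩)
  exact ((DRing.toD E).isZero_of_isLE b i (by omega)).of_iso
    (asIso ((DerivedCategory.homologyFunctor (ModuleCat.{u} A) i).map α)).symm

/-- An object which is `m`-pseudo-coherent for every `m` is represented by a bounded above complex
of finite free modules. -/
theorem isPseudoCoherent'_of_forall (K : Dual.D A)
    (hK : ∀ m : ℤ, DRing.IsPseudoCoherent A m K) : DRing.IsPseudoCoherent' A K := by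
  let K' : DRing.Cx A := DerivedCategory.Q.objPreimage K
  let e : DRing.toD K' ≅ K := DerivedCategory.Q.objObjPreimageIso K
  obtain ⟨b, hb⟩ := exists_isLE_of_isPseudoCoherent (hK 0)
  have hb' : (DRing.toD K').IsLE b := TStructure.t.isLE_of_iso e.symm b
  have hK' : ∀ m : ℤ, DRing.IsPseudoCoherent A m (DRing.toD K') :=
    fun m => isPseudoCoherent_of_iso e.symm (hK m)
  have := quasiIso_resα K' b hK' hb'
  have hiso : IsIso (DerivedCategory.Q.map (resα K' b hK' hb')) :=
    (DerivedCategory.isIso_Q_map_iff_quasiIso (ModuleCat.{u} A) _).mpr this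
  exact ⟨resE K' b hK' hb', b, resE_vanishesAbove K' b hK' hb',
    resE_termwiseFiniteFree K' b hK' hb',
    ⟨asIso (DerivedCategory.Q.map (resα K' b hK' hb')) ≪≫ e⟩⟩

end Groth.Agent.Helper3.DRingLib
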