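import Mathlib
import Groth.Prelude.Def_DRing2
import Groth.Agent.Helper3.DRing1
import Groth.Agent.Helper3.DRingCone
import Groth.Agent.Helper3.DRingApprox
import Groth.Agent.Helper3.DRingDev
import Groth.Agent.Helper3.DRingPC2
import Groth.Agent.Helper3.DRingRes

/-! Bounded above projective resolutions of complexes of modules whose image in `D(A)` is
bounded above. -/

set_option autoImplicit false
universe u
open CategoryTheory CategoryTheory.Limits

namespace Groth.Agent.Helper3.DRingLib

attribute [local instance] HasDerivedCategory.standard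

open Pretriangulated DerivedCategory ZeroObject CochainComplex HomComplex

variable {A : Type u} [CommRing A]

lemma single_termwiseProjective (F : ModuleCat.{u} A) [Module.Projective A F] (j : ℤ) (i : ℤ) :
    Module.Projective A
      (((HomologicalComplex.single (ModuleCat.{u} A) (ComplexShape.up ℤ) j).obj F).X i) := by
  by_cases hi : i = j
  · subst hi
    let e : ((HomologicalComplex.single (ModuleCat.{u} A) (ComplexShape.up ℤ) i).obj F).X i ≃ₗ[A] F :=
      (HomologicalComplex.singleObjXSelf (ComplexShape.up ℤ) i F).toLinearEquiv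
    exact Module.Projective.of_equiv e.symm
  · have := ModuleCat.subsingleton_of_isZero
      (HomologicalComplex.isZero_single_obj_X (ComplexShape.up ℤ) j F i hi)
    infer_instance

lemma cone_termwiseProjective {E1 E2 : DRing.Cx A} (φ : E1 ⟶ E2)
    (h1 : ∀ i, Module.Projective A (E1.X i)) (h2 : ∀ i, Module.Projective A (E2.X i)) (i : ℤ) :
    Module.Projective A ((CochainComplex.mappingCone φ).X i) := by
  have := h1 (i + 1)
  have := h2 i
  exact Module.Projective.of_equiv (coneXEquiv φ i).symm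

/-- An object of `D^{≤ m}` admits an `m`-approximation by a projective module placed in
degree `m`. -/
theorem exists_single_approx_proj (K : Dual.D A) (m : ℤ) [K.IsLE m] :
    ∃ (F : ModuleCat.{u} A) (_ : Module.Projective A F)
      (α : ((DerivedCategory.singleFunctor (ModuleCat.{u} A) 0).obj F)⟦-m⟧ ⟶ K), IsApprox m α := by
  obtain ⟨X, Y, hX, hY, f, g, δ, hT⟩ := TStructure.t.exists_triangle K (m - 1) m (by omega)
  have iX : X.IsLE (m - 1) := ⟨hX⟩
  have iY : Y.IsGE m := ⟨hY⟩
  have iX' : (Triangle.mk f g δ).obj₁.IsLE (m - 1) := iX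
  have hg : ∀ i, m ≤ i → IsIso ((homologyFunctor (ModuleCat.{u} A) i).map g) :=
    fun i hi => isIso_HD_mor₂ _ hT (m - 1) i (by omega)
  have iYm : Y.IsLE m := by
    rw [DerivedCategory.isLE_iff]
    intro i hi
    have := hg i hi.le
    exact (K.isZero_of_isLE m i hi).of_iso
      (asIso ((homologyFunctor (ModuleCat.{u} A) i).map g)).symm
  obtain ⟨e⟩ := exists_iso_single_HD Y m
  let H : ModuleCat.{u} A := (homologyFunctor (ModuleCat.{u} A) m).obj K
  let F : ModuleCat.{u} A := Projective.over H
  have hFp : Projective F := inferInstance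
  have hF : Module.Projective A F := (IsProjective.iff_projective (R := A) (P := F)).mpr hFp
  let p : F ⟶ H := Projective.π H
  have hp : Epi p := inferInstance
  have hgm := hg m le_rfl
  let p' : F ⟶ ModuleCat.of A (Dual.HD A Y m) :=
    p ≫ (homologyFunctor (ModuleCat.{u} A) m).map g
  have hp' : Epi p' := epi_comp _ _
  let s := (DerivedCategory.singleFunctor (ModuleCat.{u} A) 0).map p'
  let φ : ((DerivedCategory.singleFunctor (ModuleCat.{u} A) 0).obj F)⟦-m⟧ ⟶ Y := s⟦-m⟧' ≫ e.inv
  -- the source as a single complex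
  let S : DRing.Cx A := (HomologicalComplex.single (ModuleCat.{u} A) (ComplexShape.up ℤ) m).obj F
  let eS : ((DerivedCategory.singleFunctor (ModuleCat.{u} A) 0).obj F)⟦-m⟧ ≅ DRing.toD S := singleShiftIso F m
  have hSv : DRing.VanishesOutside S m m := single_vanishesOutside F m
  have hSK : S.IsKProjective :=
    isKProjective_of_vanishesAbove S m (fun i hi => hSv i (Or.inr hi))
      (single_termwiseProjective F m)
  have iX1 : (X⟦(1 : ℤ)⟧).IsLE (m - 2) := TStructure.t.isLE_shift X (m - 1) 1 (m - 2) (by omega)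
  have hφδ : φ ≫ δ = 0 := by
    have h0 : eS.inv ≫ (φ ≫ δ) = 0 :=
      hom_eq_zero_of_isLE S m (fun i hi => hSv i (Or.inl hi)) (X⟦(1 : ℤ)⟧) (m - 2) (by omega) _
    rw [← cancel_epi eS.inv, h0, comp_zero]
  obtain ⟨(α : ((DerivedCategory.singleFunctor (ModuleCat.{u} A) 0).obj F)⟦-m⟧ ⟶ K), hα⟩ :=
    Triangle.coyoneda_exact₃ _ hT φ hφδ
  refine ⟨F, hF, α, ?_⟩
  have iXF : (((DerivedCategory.singleFunctor (ModuleCat.{u} A) 0).obj F)⟦-m⟧).IsLE m := by
    have : (DRing.toD S).IsLE m := by
      have := isStrictlyLE_of_vanishesOutside S m m hSv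
      infer_instance
    exact TStructure.t.isLE_of_iso eS.symm m
  refine ⟨fun i hi => isIso_of_isZero' _
    ((((DerivedCategory.singleFunctor (ModuleCat.{u} A) 0).obj F)⟦-m⟧).isZero_of_isLE m i hi)
    (K.isZero_of_isLE m i hi), ?_⟩
  have h1 : (homologyFunctor (ModuleCat.{u} A) m).map α ≫
      (homologyFunctor (ModuleCat.{u} A) m).map g =
        (homologyFunctor (ModuleCat.{u} A) m).map (s⟦-m⟧') ≫
          (homologyFunctor (ModuleCat.{u} A) m).map e.inv := by
    rw [← Functor.map_comp, ← Functor.map_comp]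
    congr 1
    exact hα.symm
  have h2 : Epi ((homologyFunctor (ModuleCat.{u} A) m).map (s⟦-m⟧')) := by
    rw [epi_homology_shift_iff s (-m) m 0 (by omega)]
    exact (epi_map_iff_of_natIso (singleFunctorCompHomologyFunctorIso (ModuleCat.{u} A) 0) p').mpr hp'
  have h3 : Epi ((homologyFunctor (ModuleCat.{u} A) m).map α ≫
      (homologyFunctor (ModuleCat.{u} A) m).map g) := by
    rw [h1]
    exact epi_comp _ _
  have h4 : (homologyFunctor (ModuleCat.{u} A) m).map α =
      ((homologyFunctor (ModuleCat.{u} A) m).map α ≫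
        (homologyFunctor (ModuleCat.{u} A) m).map g) ≫
          inv ((homologyFunctor (ModuleCat.{u} A) m).map g) := by simp
  rw [h4]
  exact epi_comp _ _

/-- A stage of the construction: a complex of projective modules in degrees `[b-n+1, b]`
with a `(b-n+1)`-approximation to `K'`. -/
structure StageP (K' : DRing.Cx A) (b : ℤ) (n : ℕ) where
  E : DRing.Cx A
  α : E ⟶ K'
  vanish : DRing.VanishesOutside E (b - n + 1) b
  proj : ∀ i : ℤ, Module.Projective A (E.X i)
  approx : IsApprox (b - n + 1) (DerivedCategory.Q.map α)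

theorem exists_stepP (K' : DRing.Cx A) (b : ℤ) (n : ℕ) (s : StageP K' b n) :
    ∃ (s' : StageP K' b (n + 1)) (j : s.E ⟶ s'.E), j ≫ s'.α = s.α ∧
      ∀ i : ℤ, i ≠ b - n → IsIso (j.f i) := by
  obtain ⟨m, hm⟩ : ∃ m : ℤ, m = b - n := ⟨_, rfl⟩
  have hm1 : b - (n : ℤ) + 1 = m + 1 := by omega
  have hm2 : b - ((n + 1 : ℕ) : ℤ) + 1 = m := by push_cast; omega
  have happ : IsApprox (m + 1) (DerivedCategory.Q.map s.α) := hm1 ▸ s.approx
  have hvan : DRing.VanishesOutside s.E (m + 1) b := hm1 ▸ s.vanish
  obtain ⟨X, f, h, hT₂⟩ := distinguished_cocone_triangle₁ (DerivedCategory.Q.map s.α)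
  have hX1 : (X⟦(1 : ℤ)⟧).IsLE m := by
    have := (isApprox_iff_isLE _ (rot_of_distTriang _ hT₂) (m + 1)).mp happ
    have h' : m + 1 - 1 = m := by omega
    rw [h'] at this
    exact this
  have hX : X.IsLE (m + 1) := (TStructure.t.isLE_shift_iff X (m + 1) 1 m (by omega)).mp hX1
  obtain ⟨F, hF, g, hg⟩ := exists_single_approx_proj X (m + 1)
  let S : DRing.Cx A := (HomologicalComplex.single (ModuleCat.{u} A) (ComplexShape.up ℤ) (m + 1)).obj F
  let e : DRing.toD S ≅ ((DerivedCategory.singleFunctor (ModuleCat.{u} A) 0).obj F)⟦-(m + 1)⟧ :=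
    (singleShiftIso F (m + 1)).symm
  let g' : DRing.toD S ⟶ X := e.hom ≫ g
  have hg' : IsApprox (m + 1) g' := (isApprox_of_isIso _ e.hom).comp hg
  have hSv : DRing.VanishesOutside S (m + 1) (m + 1) := single_vanishesOutside F (m + 1)
  have hSp : ∀ i, Module.Projective A (S.X i) := single_termwiseProjective F (m + 1)
  have : S.IsKProjective :=
    isKProjective_of_vanishesAbove S (m + 1) (fun i hi => hSv i (Or.inr hi)) hSp
  obtain ⟨ũ, hũ⟩ := exists_Q_map_eq S s.E (g' ≫ f)
  have hT₁ := DerivedCategory.mappingCone_triangle_distinguished ũ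
  have hE'v : DRing.VanishesOutside (mappingCone ũ) m b :=
    cone_vanishesOutside ũ m b (vanishesOutside_mono S le_rfl (by omega) hSv)
      (vanishesOutside_mono s.E (by omega) le_rfl hvan)
  have hE'p : ∀ i, Module.Projective A ((mappingCone ũ).X i) :=
    cone_termwiseProjective ũ hSp s.proj
  obtain ⟨(c : DRing.toD (mappingCone ũ) ⟶ DRing.toD K'), hc1, hc2⟩ :=
    complete_distinguished_triangle_morphism _ _ hT₁ hT₂ g' (𝟙 _)
    (by
      change DerivedCategory.Q.map ũ ≫ 𝟙 _ = g' ≫ f
      rw [Category.comp_id, hũ])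
  have : (mappingCone ũ).IsKProjective :=
    isKProjective_of_vanishesAbove _ b (fun i hi => hE'v i (Or.inr hi)) hE'p
  obtain ⟨a, ha⟩ := exists_Q_map_eq (mappingCone ũ) K' c
  have : s.E.IsKProjective :=
    isKProjective_of_vanishesAbove _ b (fun i hi => hvan i (Or.inr hi)) s.proj
  have hc1' : DerivedCategory.Q.map (mappingCone.inr ũ) ≫ c = DerivedCategory.Q.map s.α := by
    exact hc1.trans (Category.id_comp _)
  obtain ⟨hh⟩ := homotopy_of_Q_map_eq s.E K' (mappingCone.inr ũ ≫ a) s.α
    (by rw [Functor.map_comp, ha, hc1'])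
  obtain ⟨α', hα'1, ⟨hα'2⟩⟩ := exists_hom_of_homotopy_inr ũ a s.α hh
  have hQ : DerivedCategory.Q.map α' = c := by
    rw [← ha]
    exact (Q_map_eq_of_homotopy _ _ hα'2).symm
  let φ : (DerivedCategory.Q.mapTriangle.obj (CochainComplex.mappingCone.triangle ũ)) ⟶
      Triangle.mk f (DerivedCategory.Q.map s.α) h :=
    { hom₁ := g'
      hom₂ := 𝟙 _
      hom₃ := c
      comm₁ := by
        change DerivedCategory.Q.map ũ ≫ 𝟙 _ = g' ≫ f
        rw [Category.comp_id, hũ]
      comm₂ := hc1
      comm₃ := hc2 }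
  have hid : IsApprox m φ.hom₂ := by
    have : IsIso φ.hom₂ := (inferInstance : IsIso (𝟙 (DRing.toD s.E)))
    exact isApprox_of_isIso _ _
  have hc : IsApprox m c := IsApprox.third _ _ hT₁ hT₂ φ m hg' hid
  refine ⟨⟨mappingCone ũ, α', hm2 ▸ hE'v, hE'p, ?_⟩, mappingCone.inr ũ, hα'1, ?_⟩
  · rw [hm2, hQ]
    exact hc
  · intro i hi
    apply isIso_inr_f
    exact HomologicalComplex.isZero_single_obj_X _ _ _ _ (by omega)

section SequenceP

variable (K' : DRing.Cx A) (b : ℤ) (hb : (DRing.toD K').IsLE b)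

/-- the initial stage: the zero complex. -/
noncomputable def stageP0 (hb : (DRing.toD K').IsLE b) : StageP K' b 0 where
  E := 0
  α := 0
  vanish := fun i _ => Functor.map_isZero (HomologicalComplex.eval _ _ i) (isZero_zero _)
  proj := fun i => by
    have := ModuleCat.subsingleton_of_isZero
      (Functor.map_isZero (HomologicalComplex.eval (ModuleCat.{u} A) (ComplexShape.up ℤ) i)
        (isZero_zero _))
    change Module.Projective A ((HomologicalComplex.eval (ModuleCat.{u} A)
      (ComplexShape.up ℤ) i).obj 0)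
    infer_instance
  approx := by
    have hz : IsZero (DRing.toD (0 : DRing.Cx A)) :=
      Functor.map_isZero DerivedCategory.Q (isZero_zero _)
    apply isApprox_of_epi_mono
    · intro i hi
      have : IsZero ((homologyFunctor (ModuleCat.{u} A) i).obj (DRing.toD K')) :=
        (DRing.toD K').isZero_of_isLE b i (by simp at hi; omega)
      exact ⟨fun _ _ _ => this.eq_of_src _ _⟩
    · intro i hi
      have : IsZero ((homologyFunctor (ModuleCat.{u} A) i).obj (DRing.toD (0 : DRing.Cx A))) :=
        Functor.map_isZero _ hz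
      exact ⟨fun _ _ _ => this.eq_of_tgt _ _⟩

/-- the sequence of stages. -/
noncomputable def stageP : (n : ℕ) → StageP K' b n
  | 0 => stageP0 K' b hb
  | (n + 1) => (exists_stepP K' b n (stageP n)).choose

/-- the transition maps. -/
noncomputable def jmapP (n : ℕ) : (stageP K' b hb n).E ⟶ (stageP K' b hb (n + 1)).E :=
  (exists_stepP K' b n (stageP K' b hb n)).choose_spec.choose

lemma jmapP_α (n : ℕ) :
    jmapP K' b hb n ≫ (stageP K' b hb (n + 1)).α = (stageP K' b hb n).α :=
  (exists_stepP K' b n (stageP K' b hb n)).choose_spec.choose_spec.1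

lemma isIso_jmapP_f (n : ℕ) (i : ℤ) (hi : i ≠ b - n) : IsIso ((jmapP K' b hb n).f i) :=
  (exists_stepP K' b n (stageP K' b hb n)).choose_spec.choose_spec.2 i hi

/-- the inductive system of stages. -/
noncomputable def stageFunctorP : ℕ ⥤ DRing.Cx A :=
  Functor.ofSequence (X := fun n => (stageP K' b hb n).E) (jmapP K' b hb)

lemma isIso_stageFunctorP_map_f (q : ℤ) (n₀ : ℕ) (hq : b - n₀ < q) (k : ℕ) :
    IsIso (((stageFunctorP K' b hb).map (homOfLE (Nat.le_add_right n₀ k))).f q) := by
  induction k with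
  | zero =>
    have : homOfLE (Nat.le_add_right n₀ 0) = 𝟙 n₀ := Subsingleton.elim _ _
    rw [this, CategoryTheory.Functor.map_id]
    exact (inferInstance : IsIso (𝟙 (((stageFunctorP K' b hb).obj n₀).X q)))
  | succ k ih =>
    have : homOfLE (Nat.le_add_right n₀ (k + 1)) =
        homOfLE (Nat.le_add_right n₀ k) ≫ homOfLE (Nat.le_add_right (n₀ + k) 1) :=
      Subsingleton.elim _ _
    rw [this, Functor.map_comp, HomologicalComplex.comp_f]
    have h2 : IsIso (((stageFunctorP K' b hb).map
        (homOfLE (Nat.le_add_right (n₀ + k) 1))).f q) := by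
      have := Functor.ofSequence_map_homOfLE_succ (jmapP K' b hb) (n₀ + k)
      change (stageFunctorP K' b hb).map _ = _ at this
      rw [this]
      exact isIso_jmapP_f K' b hb (n₀ + k) q (by push_cast; omega)
    infer_instance

lemma isEventuallyConstantFromP (q : ℤ) (n₀ : ℕ) (hq : b - n₀ < q) :
    (stageFunctorP K' b hb ⋙ HomologicalComplex.eval _ _ q).IsEventuallyConstantFrom n₀ := by
  intro j f
  obtain ⟨k, rfl⟩ := Nat.exists_eq_add_of_le (leOfHom f)
  obtain rfl : f = homOfLE (Nat.le_add_right n₀ k) := Subsingleton.elim _ _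
  exact isIso_stageFunctorP_map_f K' b hb q n₀ hq k

/-- the cocone over the system given by the approximations. -/
noncomputable def stageCoconeP : Cocone (stageFunctorP K' b hb) where
  pt := K'
  ι := NatTrans.ofSequence (fun n => (stageP K' b hb n).α) (fun n => by
    have := Functor.ofSequence_map_homOfLE_succ (jmapP K' b hb) n
    change (stageFunctorP K' b hb).map _ = _ at this
    rw [this]
    exact (jmapP_α K' b hb n).trans (Category.comp_id _).symm)

open HomologicalComplex

/-- the colimit of the stages. -/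
noncomputable def resPE : DRing.Cx A := colimit (stageFunctorP K' b hb)

noncomputable def resPι (n : ℕ) : (stageP K' b hb n).E ⟶ resPE K' b hb :=
  colimit.ι (stageFunctorP K' b hb) n

noncomputable def resPα : resPE K' b hb ⟶ K' :=
  colimit.desc (stageFunctorP K' b hb) (stageCoconeP K' b hb)

lemma resPι_resPα (n : ℕ) : resPι K' b hb n ≫ resPα K' b hb = (stageP K' b hb n).α :=
  colimit.ι_desc (stageCoconeP K' b hb) n

lemma isIso_resPι_f (q : ℤ) (n₀ : ℕ) (hq : b - n₀ < q) : IsIso ((resPι K' b hb n₀).f q) :=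
  (isEventuallyConstantFromP K' b hb q n₀ hq).isIso_ι_of_isColimit
    (isColimitOfPreserves (eval _ _ q) (colimit.isColimit (stageFunctorP K' b hb)))

lemma quasiIsoAt_resPι (q : ℤ) (n : ℕ) (hq : b - n < q - 1) :
    QuasiIsoAt (resPι K' b hb n) q := by
  rw [quasiIsoAt_iff' _ (q - 1) q (q + 1) (by simp) (by simp)]
  let φ := (shortComplexFunctor' (ModuleCat.{u} A) (ComplexShape.up ℤ) (q - 1) q (q + 1)).map
    (resPι K' b hb n)
  have : IsIso φ.τ₁ := isIso_resPι_f K' b hb (q - 1) n hq
  have : IsIso φ.τ₂ := isIso_resPι_f K' b hb q n (by omega)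
  have : IsIso φ.τ₃ := isIso_resPι_f K' b hb (q + 1) n (by omega)
  exact ShortComplex.quasiIso_of_epi_of_isIso_of_mono φ

lemma quasiIso_resPα : QuasiIso (resPα K' b hb) := by
  refine ⟨fun q => ?_⟩
  obtain ⟨n, hn⟩ : ∃ n : ℕ, b - n < q - 1 := ⟨(b - q + 2).toNat, by omega⟩
  have h1 := quasiIsoAt_resPι K' b hb q n hn
  have h2 : QuasiIsoAt (resPι K' b hb n ≫ resPα K' b hb) q := by
    rw [resPι_resPα]
    exact quasiIsoAt_of_isIso_homology _ q ((stageP K' b hb n).approx.1 q (by omega))
  exact quasiIsoAt_of_comp_left (resPι K' b hb n) (resPα K' b hb) q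

lemma resPE_vanishesAbove : DRing.VanishesAbove (resPE K' b hb) b := by
  intro q hq
  have := isIso_resPι_f K' b hb q 0 (by simpa using hq)
  exact ((stageP K' b hb 0).vanish q (Or.inr hq)).of_iso
    (asIso ((resPι K' b hb 0).f q)).symm

lemma resPE_projective (q : ℤ) : Module.Projective A ((resPE K' b hb).X q) := by
  obtain ⟨n, hn⟩ : ∃ n : ℕ, b - n < q := ⟨(b - q + 1).toNat, by omega⟩
  have := isIso_resPι_f K' b hb q n hn
  let e : (stageP K' b hb n).E.X q ≃ₗ[A] (resPE K' b hb).X q :=
    (asIso ((resPι K' b hb n).f q)).toLinearEquiv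
  have := (stageP K' b hb n).proj q
  exact Module.Projective.of_equiv e

end SequenceP

/-- A complex whose image in `D(A)` lies in `D^{≤ b}` admits a quasi-isomorphism from a complex
of projective modules vanishing above `b`. -/
theorem exists_projective_resolution (K' : DRing.Cx A) (b : ℤ) (hb : (DRing.toD K').IsLE b) :
    ∃ (P : DRing.Cx A) (α : P ⟶ K'), DRing.VanishesAbove P b ∧
      (∀ i : ℤ, Module.Projective A (P.X i)) ∧ QuasiIso α :=
  ⟨resPE K' b hb, resPα K' b hb, resPE_vanishesAbove K' b hb, resPE_projective K' b hb,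
    quasiIso_resPα K' b hb⟩

/-- An object of `D^{≤ b}` is represented by a complex of projective modules vanishing
above `b`. -/
theorem exists_projective_rep (K : Dual.D A) (b : ℤ) [K.IsLE b] :
    ∃ (P : DRing.Cx A), DRing.VanishesAbove P b ∧
      (∀ i : ℤ, Module.Projective A (P.X i)) ∧ Nonempty (DRing.toD P ≅ K) := by
  let K' : DRing.Cx A := DerivedCategory.Q.objPreimage K
  let e : DRing.toD K' ≅ K := DerivedCategory.Q.objObjPreimageIso K
  have hb' : (DRing.toD K').IsLE b := TStructure.t.isLE_of_iso e.symm b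
  obtain ⟨P, α, h1, h2, h3⟩ := exists_projective_resolution K' b hb'
  have hiso : IsIso (DerivedCategory.Q.map α) :=
    (DerivedCategory.isIso_Q_map_iff_quasiIso (ModuleCat.{u} A) _).mpr h3
  exact ⟨P, h1, h2, ⟨asIso (DerivedCategory.Q.map α) ≪≫ e⟩⟩

end Groth.Agent.Helper3.DRingLib
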