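import Mathlib
import Groth.Prelude.Def_DRing2
import Groth.Agent.Helper3.DRing1

/-! Flatness lemmas and: an acyclic bounded above complex of flat modules stays acyclic after
tensoring with any module. -/

set_option autoImplicit false
universe u
open CategoryTheory CategoryTheory.Limits MonoidalCategory TensorProduct

namespace Groth.Agent.Helper3.DRingLib

section LinearAlgebra

variable {R : Type u} [CommRing R]

/-- If `0 → M → N → P → 0` is exact with `P` flat, then `M ⊗ Q → N ⊗ Q` is injective. -/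
lemma rTensor_injective_of_flat_coker {M N P : Type u} [AddCommGroup M] [AddCommGroup N]
    [AddCommGroup P] [Module R M] [Module R N] [Module R P] [Module.Flat R P]
    (f : M →ₗ[R] N) (g : N →ₗ[R] P) (hf : Function.Injective f) (hg : Function.Surjective g)
    (H : Function.Exact f g) (Q : Type u) [AddCommGroup Q] [Module R Q] :
    Function.Injective (f.rTensor Q) :=
  (LinearMap.lTensor_inj_iff_rTensor_inj Q f).mp
    (LinearMap.lTensor_injective_of_exact_of_flat g hg f hf H Q)

/-- If `0 → M → N → P → 0` is exact with `N` and `P` flat, then `M` is flat. -/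
lemma flat_of_exact {M N P : Type u} [AddCommGroup M] [AddCommGroup N]
    [AddCommGroup P] [Module R M] [Module R N] [Module R P] [Module.Flat R N] [Module.Flat R P]
    (f : M →ₗ[R] N) (g : N →ₗ[R] P) (hf : Function.Injective f) (hg : Function.Surjective g)
    (H : Function.Exact f g) : Module.Flat R M := by
  rw [Module.Flat.iff_rTensor_preserves_injective_linearMap]
  intro Q' Q _ _ _ _ φ hφ
  have h1 : Function.Injective (f.lTensor Q') :=
    LinearMap.lTensor_injective_of_exact_of_flat g hg f hf H Q'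
  have h2 : Function.Injective (φ.rTensor N) :=
    Module.Flat.rTensor_preserves_injective_linearMap φ hφ
  have h3 : (φ.rTensor N) ∘ₗ (f.lTensor Q') = (f.lTensor Q) ∘ₗ (φ.rTensor M) := by
    rw [LinearMap.rTensor_comp_lTensor, LinearMap.lTensor_comp_rTensor]
  have h4 : Function.Injective ((f.lTensor Q) ∘ₗ (φ.rTensor M)) := by
    rw [← h3]
    exact h2.comp h1
  exact Function.Injective.of_comp h4

/-- If `0 → B → X → C → 0` is exact with `X` flat and `B ⊗ Q → X ⊗ Q` injective for all `Q`, then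
`C` is flat. -/
lemma flat_of_rTensor_injective {B X C : Type u} [AddCommGroup B] [AddCommGroup X]
    [AddCommGroup C] [Module R B] [Module R X] [Module R C] [Module.Flat R X]
    (ι : B →ₗ[R] X) (π : X →ₗ[R] C) (hπ : Function.Surjective π)
    (H : Function.Exact ι π)
    (hinj : ∀ (Q : Type u) [AddCommGroup Q] [Module R Q], Function.Injective (ι.rTensor Q)) :
    Module.Flat R C := by
  rw [Module.Flat.iff_lTensor_preserves_injective_linearMap]
  intro Q' Q _ _ _ _ φ hφ
  rw [← LinearMap.ker_eq_bot, LinearMap.ker_eq_bot']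
  intro x hx
  let ψ : Q →ₗ[R] (Q ⧸ LinearMap.range φ) := (LinearMap.range φ).mkQ
  have hψ : Function.Surjective ψ := Submodule.mkQ_surjective _
  have hφψ : Function.Exact φ ψ := LinearMap.exact_map_mkQ_range φ
  obtain ⟨p, rfl⟩ := LinearMap.rTensor_surjective Q' hπ x
  have e1 : (π.rTensor Q) ((φ.lTensor X) p) = 0 := by
    have : (π.rTensor Q) ∘ₗ (φ.lTensor X) = (φ.lTensor C) ∘ₗ (π.rTensor Q') := by
      rw [LinearMap.rTensor_comp_lTensor, LinearMap.lTensor_comp_rTensor]
    have := congr($this p)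
    simp only [LinearMap.comp_apply] at this
    rw [this, hx]
  obtain ⟨β, hβ⟩ := (rTensor_exact Q H hπ ((φ.lTensor X) p)).mp e1
  have e2 : (ι.rTensor (Q ⧸ LinearMap.range φ)) ((ψ.lTensor B) β) = 0 := by
    have h : (ι.rTensor (Q ⧸ LinearMap.range φ)) ∘ₗ (ψ.lTensor B) =
        (ψ.lTensor X) ∘ₗ (ι.rTensor Q) := by
      rw [LinearMap.rTensor_comp_lTensor, LinearMap.lTensor_comp_rTensor]
    have h' := congr($h β)
    simp only [LinearMap.comp_apply] at h'
    rw [h', hβ]
    have h2 : (ψ.lTensor X) ∘ₗ (φ.lTensor X) = 0 := by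
      rw [← LinearMap.lTensor_comp, hφψ.linearMap_comp_eq_zero, LinearMap.lTensor_zero]
    exact congr($h2 p)
  have e3 : (ψ.lTensor B) β = 0 := by
    apply hinj (Q ⧸ LinearMap.range φ)
    rw [e2, map_zero]
  obtain ⟨β', hβ'⟩ := (lTensor_exact B hφψ hψ β).mp e3
  have e4 : (φ.lTensor X) ((ι.rTensor Q') β') = (φ.lTensor X) p := by
    have h : (φ.lTensor X) ∘ₗ (ι.rTensor Q') = (ι.rTensor Q) ∘ₗ (φ.lTensor B) := by
      rw [LinearMap.rTensor_comp_lTensor, LinearMap.lTensor_comp_rTensor]
    have h' := congr($h β')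
    simp only [LinearMap.comp_apply] at h'
    rw [h', hβ', hβ]
  have e5 : (ι.rTensor Q') β' = p :=
    Module.Flat.lTensor_preserves_injective_linearMap φ hφ e4
  rw [← e5]
  have h : (π.rTensor Q') ∘ₗ (ι.rTensor Q') = 0 := by
    rw [← LinearMap.rTensor_comp, H.linearMap_comp_eq_zero, LinearMap.rTensor_zero]
  exact congr($h β')

/-- Let `M₀ → M₁ → M₂` be a complex with `M₂` flat which stays exact at `M₁` after tensoring with
any module. Then the cokernel of `M₁ → M₂` is flat. -/
lemma flat_coker_of_exact_tensor {M₀ M₁ M₂ : Type u} [AddCommGroup M₀] [AddCommGroup M₁]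
    [AddCommGroup M₂] [Module R M₀] [Module R M₁] [Module R M₂] [Module.Flat R M₂]
    (d₀ : M₀ →ₗ[R] M₁) (d₁ : M₁ →ₗ[R] M₂) (hd : d₁ ∘ₗ d₀ = 0)
    (hex : ∀ (Q : Type u) [AddCommGroup Q] [Module R Q] (y : M₁ ⊗[R] Q),
      (d₁.rTensor Q) y = 0 → ∃ z, (d₀.rTensor Q) z = y) :
    Module.Flat R (M₂ ⧸ LinearMap.range d₁) := by
  refine flat_of_rTensor_injective (LinearMap.range d₁).subtype (LinearMap.range d₁).mkQ
    (Submodule.mkQ_surjective _) ?_ ?_
  · have := LinearMap.exact_subtype_mkQ (LinearMap.range d₁)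
    exact this
  · intro Q _ _
    rw [← LinearMap.ker_eq_bot, LinearMap.ker_eq_bot']
    intro β hβ
    have hq : Function.Surjective d₁.rangeRestrict := LinearMap.surjective_rangeRestrict d₁
    obtain ⟨y, rfl⟩ := LinearMap.rTensor_surjective Q hq β
    have h1 : (LinearMap.range d₁).subtype ∘ₗ d₁.rangeRestrict = d₁ := LinearMap.ext fun _ => rfl
    have h2 : (d₁.rTensor Q) y = 0 := by
      rw [← hβ, ← h1, LinearMap.rTensor_comp]
      rfl
    obtain ⟨z, rfl⟩ := hex Q y h2
    have h3 : d₁.rangeRestrict ∘ₗ d₀ = 0 := by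
      apply LinearMap.ext
      intro x
      apply Subtype.ext
      exact congr($hd x)
    have h4 : (d₁.rangeRestrict.rTensor Q) ∘ₗ (d₀.rTensor Q) = 0 := by
      rw [← LinearMap.rTensor_comp, h3, LinearMap.rTensor_zero]
    exact congr($h4 z)

end LinearAlgebra

section Complexes

variable {A : Type u} [CommRing A]

lemma exactAt_iff_forall (P : DRing.Cx A) (i j k : ℤ) (hij : i + 1 = j) (hjk : j + 1 = k) :
    P.ExactAt j ↔ ∀ x : P.X j, (P.d j k).hom x = 0 → ∃ y : P.X i, (P.d i j).hom y = x := by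
  rw [HomologicalComplex.exactAt_iff' P i j k (by simp [← hij]) (by simp [← hjk]),
    ShortComplex.moduleCat_exact_iff]
  rfl

lemma tensorCx_d_hom (P : DRing.Cx A) (N : ModuleCat.{u} A) (i j : ℤ) :
    ((DRing.tensorCx P N).d i j).hom = (P.d i j).hom.rTensor N := rfl

/-- cycles of a complex of modules, as a submodule. -/
def Zc (P : DRing.Cx A) (i : ℤ) : Submodule A (P.X i) := LinearMap.ker (P.d i (i + 1)).hom

/-- the differential, corestricted to the cycles. -/
def qc (P : DRing.Cx A) (i : ℤ) : P.X i →ₗ[A] Zc P (i + 1) :=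
  (P.d i (i + 1)).hom.codRestrict (Zc P (i + 1)) (fun x => by
    change (P.d (i + 1) (i + 1 + 1)).hom ((P.d i (i + 1)).hom x) = 0
    rw [← LinearMap.comp_apply, ← ModuleCat.hom_comp, P.d_comp_d]
    rfl)

lemma subtype_comp_qc (P : DRing.Cx A) (i : ℤ) :
    (Zc P (i + 1)).subtype ∘ₗ qc P i = (P.d i (i + 1)).hom := LinearMap.ext fun _ => rfl

lemma qc_surjective (P : DRing.Cx A) (i : ℤ) (hex : P.ExactAt (i + 1)) :
    Function.Surjective (qc P i) := by
  rintro ⟨z, hz⟩
  obtain ⟨y, hy⟩ := (exactAt_iff_forall P i (i + 1) (i + 1 + 1) rfl rfl).mp hex z hz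
  exact ⟨y, Subtype.ext hy⟩

lemma exact_subtype_qc (P : DRing.Cx A) (i : ℤ) :
    Function.Exact (Zc P i).subtype (qc P i) := by
  intro x
  constructor
  · intro hx
    have : (P.d i (i + 1)).hom x = 0 := congr_arg Subtype.val hx
    exact ⟨⟨x, this⟩, rfl⟩
  · rintro ⟨⟨y, hy⟩, rfl⟩
    exact Subtype.ext hy

lemma flat_Zc (P : DRing.Cx A) (b : ℤ) (hb : DRing.VanishesAbove P b)
    (hflat : DRing.TermwiseFlat P) (hex : ∀ i, P.ExactAt i) (i : ℤ) :
    Module.Flat A (Zc P i) := by
  have key : ∀ (n : ℕ) (i : ℤ), i = b + 1 - n → Module.Flat A (Zc P i) := by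
    intro n
    induction n with
    | zero =>
      intro i hi
      have : Subsingleton (P.X i) := ModuleCat.subsingleton_of_isZero (hb i (by simp at hi; omega))
      have : Subsingleton (Zc P i) := ⟨fun x y => Subtype.ext (Subsingleton.elim _ _)⟩
      infer_instance
    | succ n ih =>
      intro i hi
      have h1 : Module.Flat A (Zc P (i + 1)) := ih (i + 1) (by push_cast at hi; omega)
      have h2 : Module.Flat A (P.X i) := hflat i
      exact flat_of_exact (Zc P i).subtype (qc P i) (Submodule.subtype_injective _)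
        (qc_surjective P i (hex _)) (exact_subtype_qc P i)
  by_cases hi : i ≤ b + 1
  · exact key (b + 1 - i).toNat i (by omega)
  · have : Subsingleton (P.X i) := ModuleCat.subsingleton_of_isZero (hb i (by omega))
    have : Subsingleton (Zc P i) := ⟨fun x y => Subtype.ext (Subsingleton.elim _ _)⟩
    infer_instance

/-- An acyclic bounded above complex of flat modules stays acyclic after tensoring with any
module. -/
theorem exactAt_tensorCx_of_acyclic (P : DRing.Cx A) (b : ℤ) (hb : DRing.VanishesAbove P b)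
    (hflat : DRing.TermwiseFlat P) (hex : ∀ i, P.ExactAt i) (N : ModuleCat.{u} A) (j : ℤ) :
    (DRing.tensorCx P N).ExactAt j := by
  obtain ⟨i, rfl⟩ : ∃ i, j = i + 1 := ⟨j - 1, by omega⟩
  rw [exactAt_iff_forall (DRing.tensorCx P N) i (i + 1) (i + 1 + 1) rfl rfl]
  have main : ∀ x : (P.X (i + 1)) ⊗[A] N, ((P.d (i + 1) (i + 1 + 1)).hom.rTensor N) x = 0 →
      ∃ y : (P.X i) ⊗[A] N, ((P.d i (i + 1)).hom.rTensor N) y = x := by
    intro x hx
    have hZ := flat_Zc P b hb hflat hex
    have hflatZ : Module.Flat A (Zc P (i + 1 + 1 + 1)) := hZ _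
    -- ι_{k} ⊗ N is injective
    have hinj : Function.Injective ((Zc P (i + 1 + 1)).subtype.rTensor N) :=
      rTensor_injective_of_flat_coker (Zc P (i + 1 + 1)).subtype (qc P (i + 1 + 1))
        (Submodule.subtype_injective _) (qc_surjective P _ (hex _)) (exact_subtype_qc P _) N
    have h1 : ((qc P (i + 1)).rTensor N) x = 0 := by
      apply hinj
      rw [map_zero, ← LinearMap.comp_apply, ← LinearMap.rTensor_comp, subtype_comp_qc]
      exact hx
    obtain ⟨w, hw⟩ := (rTensor_exact N (exact_subtype_qc P (i + 1))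
      (qc_surjective P _ (hex _)) x).mp h1
    obtain ⟨y, hy⟩ := LinearMap.rTensor_surjective N (qc_surjective P i (hex _)) w
    refine ⟨y, ?_⟩
    rw [← subtype_comp_qc, LinearMap.rTensor_comp, LinearMap.comp_apply, hy, hw]
  exact main

end Complexes

end Groth.Agent.Helper3.DRingLib
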