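import Mathlib
import Groth.Prelude.Def_DRing2
import Groth.Agent.Helper3.DRing1
import Groth.Agent.Helper3.DRingCone
import Groth.Agent.Helper3.DRingFin
import Groth.Agent.Helper3.DRingResP
import Groth.Agent.Helper3.DRingTor1

/-! Quasi-isomorphisms between bounded above complexes of flat modules are preserved by
tensor products; independence of `H^i(P ⊗ N)` of the bounded above flat representative. -/

set_option autoImplicit false
universe u
open CategoryTheory CategoryTheory.Limits MonoidalCategory

namespace Groth.Agent.Helper3.DRingLib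

attribute [local instance] HasDerivedCategory.standard

open Pretriangulated DerivedCategory ZeroObject CochainComplex

variable {A : Type u} [CommRing A]

/-- termwise tensor product with `N`, as a functor on complexes. -/
noncomputable abbrev tens (N : ModuleCat.{u} A) : DRing.Cx A ⥤ DRing.Cx A :=
  (tensorRight N).mapHomologicalComplex (ComplexShape.up ℤ)

lemma tens_obj (N : ModuleCat.{u} A) (P : DRing.Cx A) : (tens N).obj P = DRing.tensorCx P N := rfl

lemma isZero_toD_iff_acyclic (K : DRing.Cx A) : IsZero (DRing.toD K) ↔ ∀ i, K.ExactAt i := by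
  constructor
  · intro h i
    exact exactAt_of_isZero K i (Functor.map_isZero _ h)
  · intro h
    have : IsIso (0 : DRing.toD K ⟶ 0) := by
      rw [DerivedCategory.isIso_iff]
      intro n
      have h1 : IsZero ((homologyFunctor (ModuleCat.{u} A) n).obj (DRing.toD K)) := by
        have := h n
        rw [HomologicalComplex.exactAt_iff_isZero_homology] at this
        exact this.of_iso (homologyToDIso K n)
      have h2 : IsZero ((homologyFunctor (ModuleCat.{u} A) n).obj (0 : Dual.D A)) :=
        Functor.map_isZero _ (isZero_zero _)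
      exact ⟨0, h1.eq_of_src _ _, h2.eq_of_src _ _⟩
    exact (isZero_zero _).of_iso (asIso (0 : DRing.toD K ⟶ 0))

lemma quasiIso_iff_acyclic_cone {P Q : DRing.Cx A} (φ : P ⟶ Q) :
    QuasiIso φ ↔ ∀ i, (mappingCone φ).ExactAt i := by
  rw [← isZero_toD_iff_acyclic, ← DerivedCategory.isIso_Q_map_iff_quasiIso]
  have hT := DerivedCategory.mappingCone_triangle_distinguished φ
  exact (Triangle.isZero₃_iff_isIso₁ _ hT).symm

/-- A quasi-isomorphism between bounded above complexes of flat modules stays a
quasi-isomorphism after tensoring with any module. -/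
theorem quasiIso_tens {P Q : DRing.Cx A} (φ : P ⟶ Q) (b b' : ℤ)
    (hP : DRing.VanishesAbove P b) (hQ : DRing.VanishesAbove Q b')
    (fP : DRing.TermwiseFlat P) (fQ : DRing.TermwiseFlat Q) (hφ : QuasiIso φ)
    (N : ModuleCat.{u} A) : QuasiIso ((tens N).map φ) := by
  have hc : ∀ i, (mappingCone φ).ExactAt i := (quasiIso_iff_acyclic_cone φ).mp hφ
  have hv : DRing.VanishesAbove (mappingCone φ) (max b b') :=
    cone_vanishesAbove φ _ (fun i hi => hP i (by omega)) (fun i hi => hQ i (by omega))
  have hf : DRing.TermwiseFlat (mappingCone φ) := cone_termwiseFlat φ fP fQ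
  have h1 := exactAt_tensorCx_of_acyclic (mappingCone φ) _ hv hf hc N
  rw [quasiIso_iff_acyclic_cone]
  intro i
  have e := mappingCone.mapHomologicalComplexIso φ (tensorRight N)
  have h2 : ((tens N).obj (mappingCone φ)).ExactAt i := h1 i
  rw [HomologicalComplex.exactAt_iff_isZero_homology] at h2 ⊢
  exact h2.of_iso ((HomologicalComplex.homologyFunctor _ _ i).mapIso e).symm

/-- The vanishing of `H^i(P ⊗ N)` for a bounded above complex of flat modules only depends on
the image of `P` in `D(A)`. -/
theorem exactAt_tensorCx_iff_of_iso {P P' : DRing.Cx A} (b b' : ℤ)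
    (hP : DRing.VanishesAbove P b) (hP' : DRing.VanishesAbove P' b')
    (fP : DRing.TermwiseFlat P) (fP' : DRing.TermwiseFlat P')
    (e : DRing.toD P ≅ DRing.toD P') (N : ModuleCat.{u} A) (i : ℤ) :
    (DRing.tensorCx P N).ExactAt i ↔ (DRing.tensorCx P' N).ExactAt i := by
  have hb : (DRing.toD P).IsLE b := by
    have := isStrictlyLE_of_vanishesAbove P b hP
    infer_instance
  obtain ⟨G, α, hG, pG, hα⟩ := exists_projective_resolution P b hb
  have fG : DRing.TermwiseFlat G := fun i => by
    have := pG i
    infer_instance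
  have : G.IsKProjective := isKProjective_of_vanishesAbove G b hG pG
  obtain ⟨ψ, hψ⟩ := exists_Q_map_eq G P' (DerivedCategory.Q.map α ≫ e.hom)
  have hψq : QuasiIso ψ := by
    rw [← DerivedCategory.isIso_Q_map_iff_quasiIso, hψ]
    have : IsIso (DerivedCategory.Q.map α) :=
      (DerivedCategory.isIso_Q_map_iff_quasiIso (ModuleCat.{u} A) _).mpr hα
    infer_instance
  have h1 := quasiIso_tens α b b hG hP fG fP hα N
  have h2 := quasiIso_tens ψ b b' hG hP' fG fP' hψq N
  have q1 : QuasiIsoAt ((tens N).map α) i := h1.quasiIsoAt i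
  have q2 : QuasiIsoAt ((tens N).map ψ) i := h2.quasiIsoAt i
  have h1' := _root_.exactAt_iff_of_quasiIsoAt ((tens N).map α) i
  have h2' := _root_.exactAt_iff_of_quasiIsoAt ((tens N).map ψ) i
  exact h1'.symm.trans h2'

end Groth.Agent.Helper3.DRingLib
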