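import Mathlib
import Groth.Prelude.Def_DRing2
import Groth.Agent.Helper3.DRing1
import Groth.Agent.Helper3.DRingCone
import Groth.Agent.Helper3.DRingPeel
import Groth.Agent.Helper3.DRingDev

/-! Induction on the length of a bounded complex via peeling off the top term. -/

set_option autoImplicit false
universe u
open CategoryTheory CategoryTheory.Limits

namespace Groth.Agent.Helper3.DRingLib

attribute [local instance] HasDerivedCategory.standard

variable {A : Type u} [CommRing A]

open Pretriangulated DerivedCategory ZeroObject

lemma isZero_toD_of_isZero' (E : DRing.Cx A) (h : ∀ i, IsZero (E.X i)) :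
    IsZero (DRing.toD E) := by
  have : IsZero E := by
    rw [IsZero.iff_id_eq_zero]
    refine HomologicalComplex.hom_ext _ _ (fun i => ?_)
    exact (h i).eq_of_src _ _
  exact Functor.map_isZero _ this

/-- Induction principle: a property of objects of `D(A)` stable under isomorphisms and
extensions, which holds for zero objects, holds for a bounded complex as soon as it holds for all
its terms (placed in their degrees). -/
theorem induction_on_bounded (P : Dual.D A → Prop)
    (hiso : ∀ {K L : Dual.D A}, (K ≅ L) → P K → P L)
    (hzero : ∀ K : Dual.D A, IsZero K → P K)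
    (hext : ∀ T : Triangle (Dual.D A), T ∈ distTriang _ → P T.obj₁ → P T.obj₃ → P T.obj₂)
    (n : ℕ) : ∀ (K : DRing.Cx A) (a b : ℤ), b < a + n → DRing.VanishesOutside K a b →
      (∀ i : ℤ, P ((singleFunctor (ModuleCat.{u} A) i).obj (K.X i))) → P (DRing.toD K) := by
  induction n with
  | zero =>
    intro K a b hab hK _
    exact hzero _ (isZero_toD_of_isZero' K (fun i => hK i (by simp at hab; omega)))
  | succ n ih =>
    intro K a b hab hK h
    obtain ⟨K', π, ι, δ, v', hπ, hT⟩ := exists_peel_top K b (fun i hi => hK i (Or.inr hi))
    have hK' : DRing.VanishesOutside K' a (b - 1) := by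
      intro i hi
      by_cases hib : i ≤ b - 1
      · have := hπ i hib
        exact (hK i (Or.inl (by omega))).of_iso (asIso (π.f i)).symm
      · exact v' i (by omega)
    have h' : ∀ i : ℤ, P ((singleFunctor (ModuleCat.{u} A) i).obj (K'.X i)) := by
      intro i
      by_cases hib : i ≤ b - 1
      · have := hπ i hib
        exact hiso ((singleFunctor (ModuleCat.{u} A) i).mapIso (asIso (π.f i))) (h i)
      · exact hzero _ (Functor.map_isZero _ (v' i (by omega)))
    have := ih K' a (b - 1) (by push_cast at hab; omega) hK' h'
    exact hext _ hT (h b) this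

theorem induction_on_bounded' (P : Dual.D A → Prop)
    (hiso : ∀ {K L : Dual.D A}, (K ≅ L) → P K → P L)
    (hzero : ∀ K : Dual.D A, IsZero K → P K)
    (hext : ∀ T : Triangle (Dual.D A), T ∈ distTriang _ → P T.obj₁ → P T.obj₃ → P T.obj₂)
    (K : DRing.Cx A) (a b : ℤ) (hK : DRing.VanishesOutside K a b)
    (h : ∀ i : ℤ, P ((singleFunctor (ModuleCat.{u} A) i).obj (K.X i))) : P (DRing.toD K) :=
  induction_on_bounded P hiso hzero hext (b - a + 1).toNat K a b (by omega) hK h

lemma isPerfect_of_isZero (K : Dual.D A) (h : IsZero K) : DRing.IsPerfect A K := by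
  refine ⟨0, 0, 0, fun i _ => ?_, fun i => ?_, ⟨?_⟩⟩
  · exact Functor.map_isZero (HomologicalComplex.eval _ _ i) (isZero_zero _)
  · have : IsZero ((0 : DRing.Cx A).X i) :=
      Functor.map_isZero (HomologicalComplex.eval _ _ i) (isZero_zero _)
    have := ModuleCat.subsingleton_of_isZero this
    exact ⟨Module.Finite.of_finite, Module.Projective.of_free⟩
  · exact (Functor.map_isZero DerivedCategory.Q (isZero_zero _)).iso h

/-- A bounded complex all of whose terms are perfect modules is perfect. -/
theorem isPerfect_of_termwise (K : DRing.Cx A) (a b : ℤ) (hK : DRing.VanishesOutside K a b)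
    (h : ∀ i : ℤ, DRing.IsPerfectModule A (K.X i)) : DRing.IsPerfect A (DRing.toD K) := by
  refine induction_on_bounded' (DRing.IsPerfect A) (fun e h => isPerfect_of_iso e h)
    isPerfect_of_isZero (fun T hT h1 h3 => isPerfect_obj₂ T hT h1 h3) K a b hK (fun i => ?_)
  exact isPerfect_of_iso (singleShiftIso (K.X i) i) (isPerfect_shift (-i) (h i))

end Groth.Agent.Helper3.DRingLib
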