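import Mathlib
import Groth.Prelude.Def_DRing2
import Groth.Agent.Helper3.DRingRes
import Groth.Agent.Helper3.DRingPeel2

/-! Pseudo-coherence: termwise and cohomological criteria, comparison of the two definitions. -/

set_option autoImplicit false
universe u
open CategoryTheory CategoryTheory.Limits

namespace Groth.Agent.Helper3.DRingLib

attribute [local instance] HasDerivedCategory.standard

open Pretriangulated DerivedCategory ZeroObject

variable {A : Type u} [CommRing A]

lemma isPseudoCoherent_of_isZero (K : Dual.D A) (h : IsZero K) (m : ℤ) :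
    DRing.IsPseudoCoherent A m K :=
  isPseudoCoherent_of_isBFF (IsBFF.of_isZero (a := 0) (b := 0) h) m

/-- A bounded above complex whose term in degree `i` is an `(m-i)`-pseudo-coherent module is
`m`-pseudo-coherent. -/
theorem isPseudoCoherent_of_termwise (m : ℤ) (n : ℕ) : ∀ (K : DRing.Cx A) (b : ℤ),
    b < m + n → DRing.VanishesAbove K b →
    (∀ i : ℤ, DRing.IsPseudoCoherent A (m - i) (Dual.inD A (K.X i))) →
    DRing.IsPseudoCoherent A m (DRing.toD K) := by
  induction n with
  | zero =>
    intro K b hbm hb _
    have := isStrictlyLE_of_vanishesAbove K b hb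
    have h1 : (DRing.toD K).IsLE b := inferInstanceAs ((DerivedCategory.Q.obj K).IsLE b)
    have : (DRing.toD K).IsLE (m - 1) :=
      TStructure.t.isLE_of_le _ b (m - 1) (by simp at hbm; omega)
    exact isPseudoCoherent_of_isLE _ m
  | succ n ih =>
    intro K b hbm hb h
    obtain ⟨K', π, ι, δ, v', hπ, hT⟩ := exists_peel_top K b hb
    have h' : ∀ i : ℤ, DRing.IsPseudoCoherent A (m - i) (Dual.inD A (K'.X i)) := by
      intro i
      by_cases hib : i ≤ b - 1
      · have := hπ i hib
        exact isPseudoCoherent_of_iso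
          ((singleFunctor (ModuleCat.{u} A) 0).mapIso (asIso (π.f i))) (h i)
      · exact isPseudoCoherent_of_isZero _ (Functor.map_isZero _ (v' i (by omega))) _
    have hK' := ih K' (b - 1) (by push_cast at hbm; omega) v' h'
    have h1 : DRing.IsPseudoCoherent A m ((singleFunctor (ModuleCat.{u} A) b).obj (K.X b)) :=
      isPseudoCoherent_of_iso (singleShiftIso (K.X b) b)
        (isPseudoCoherent_shift (-b) m (by omega) (h b))
    exact isPseudoCoherent_obj₂ _ hT m h1 hK'

theorem isPseudoCoherent_of_termwise' (m : ℤ) (K : DRing.Cx A) (b : ℤ)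
    (hb : DRing.VanishesAbove K b)
    (h : ∀ i : ℤ, DRing.IsPseudoCoherent A (m - i) (Dual.inD A (K.X i))) :
    DRing.IsPseudoCoherent A m (DRing.toD K) :=
  isPseudoCoherent_of_termwise m (b - m + 1).toNat K b (by omega) hb h

/-- finite projective modules are `m`-pseudo-coherent for every `m`. -/
theorem isPseudoCoherent_inD_of_finite_projective (n : ℕ) :
    ∀ (P : Type u) [AddCommGroup P] [Module A P] [Module.Finite A P] [Module.Projective A P],
      DRing.IsPseudoCoherent A (-(n : ℤ)) (Dual.inD A P) := by
  induction n with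
  | zero =>
    intro P _ _ _ _
    simpa using isPseudoCoherent_inD_of_finite (A := A) P
  | succ n ih =>
    intro P _ _ _ _
    obtain ⟨k, p, hp⟩ := Module.Finite.exists_fin' A P
    obtain ⟨s, hs⟩ := Module.projective_lifting_property p LinearMap.id hp
    -- ker p is finite projective
    have hkp := ker_finite_projective_of_surjective p hp
    have := hkp.1
    have := hkp.2
    have hS := LinearMap.shortExact_shortComplexKer hp
    have hT := hS.singleTriangle_distinguished
    have h1 : DRing.IsPseudoCoherent A (-((n + 1 : ℕ) : ℤ) + 1) hS.singleTriangle.obj₁ := by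
      have : -((n + 1 : ℕ) : ℤ) + 1 = -(n : ℤ) := by push_cast; omega
      rw [this]
      exact ih (LinearMap.ker p)
    have h2 : DRing.IsPseudoCoherent A (-((n + 1 : ℕ) : ℤ)) hS.singleTriangle.obj₂ :=
      isPseudoCoherent_of_isBFF (IsBFF.single 0 (ModuleCat.of A (Fin k → A))) _
    exact isPseudoCoherent_obj₃ _ hT _ h1 h2

theorem isPseudoCoherent_inD_of_finite_projective' (P : Type u) [AddCommGroup P] [Module A P]
    [Module.Finite A P] [Module.Projective A P] (m : ℤ) :
    DRing.IsPseudoCoherent A m (Dual.inD A P) :=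
  isPseudoCoherent_of_le (show -((-m).toNat : ℤ) ≤ m by omega)
    (isPseudoCoherent_inD_of_finite_projective (-m).toNat P)

/-- A bounded above complex of finite projective modules is `m`-pseudo-coherent for all `m`. -/
theorem isPseudoCoherent_of_termwiseFiniteProjective (E : DRing.Cx A) (b : ℤ)
    (hb : DRing.VanishesAbove E b) (hE : DRing.TermwiseFiniteProjective E) (m : ℤ) :
    DRing.IsPseudoCoherent A m (DRing.toD E) := by
  apply isPseudoCoherent_of_termwise' m E b hb
  intro i
  obtain ⟨h1, h2⟩ := hE i
  exact isPseudoCoherent_inD_of_finite_projective' (E.X i) _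

theorem isPseudoCoherent_of_isPseudoCoherent' {K : Dual.D A} (h : DRing.IsPseudoCoherent' A K)
    (m : ℤ) : DRing.IsPseudoCoherent A m K := by
  obtain ⟨E, b, hb, ff, ⟨e⟩⟩ := h
  refine isPseudoCoherent_of_iso e (isPseudoCoherent_of_termwiseFiniteProjective E b hb ?_ m)
  intro i
  obtain ⟨h1, h2⟩ := ff i
  exact ⟨h1, inferInstance⟩

theorem isPseudoCoherent'_iff_forall (K : Dual.D A) :
    DRing.IsPseudoCoherent' A K ↔ ∀ m : ℤ, DRing.IsPseudoCoherent A m K :=
  ⟨fun h m => isPseudoCoherent_of_isPseudoCoherent' h m, isPseudoCoherent'_of_forall K⟩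

end Groth.Agent.Helper3.DRingLib
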