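import Mathlib
import Groth.Prelude.Def_DRing2
import Groth.Agent.Helper3.DRingPC3

/-! Pseudo-coherence over Noetherian rings; cohomological criteria. -/

set_option autoImplicit false
universe u
open CategoryTheory CategoryTheory.Limits

namespace Groth.Agent.Helper3.DRingLib

attribute [local instance] HasDerivedCategory.standard

open Pretriangulated DerivedCategory ZeroObject

variable {A : Type u} [CommRing A]

/-- Over a Noetherian ring, finite modules are `m`-pseudo-coherent for every `m`. -/
theorem isPseudoCoherent_inD_of_finite_noetherian [IsNoetherianRing A] (n : ℕ) :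
    ∀ (M : Type u) [AddCommGroup M] [Module A M] [Module.Finite A M],
      DRing.IsPseudoCoherent A (-(n : ℤ)) (Dual.inD A M) := by
  induction n with
  | zero =>
    intro M _ _ _
    simpa using isPseudoCoherent_inD_of_finite (A := A) M
  | succ n ih =>
    intro M _ _ _
    obtain ⟨k, p, hp⟩ := Module.Finite.exists_fin' A M
    have hS := LinearMap.shortExact_shortComplexKer hp
    have hT := hS.singleTriangle_distinguished
    have h1 : DRing.IsPseudoCoherent A (-((n + 1 : ℕ) : ℤ) + 1) hS.singleTriangle.obj₁ := by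
      have : -((n + 1 : ℕ) : ℤ) + 1 = -(n : ℤ) := by push_cast; omega
      rw [this]
      exact ih (LinearMap.ker p)
    have h2 : DRing.IsPseudoCoherent A (-((n + 1 : ℕ) : ℤ)) hS.singleTriangle.obj₂ :=
      isPseudoCoherent_of_isBFF (IsBFF.single 0 (ModuleCat.of A (Fin k → A))) _
    exact isPseudoCoherent_obj₃ _ hT _ h1 h2

theorem isPseudoCoherent_inD_of_finite_noetherian' [IsNoetherianRing A] (M : Type u)
    [AddCommGroup M] [Module A M] [Module.Finite A M] (m : ℤ) :
    DRing.IsPseudoCoherent A m (Dual.inD A M) :=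
  isPseudoCoherent_of_le (show -((-m).toNat : ℤ) ≤ m by omega)
    (isPseudoCoherent_inD_of_finite_noetherian (-m).toNat M)

/-- The cohomology modules of a complex of finite modules over a Noetherian ring are finite. -/
lemma finite_HD_toD_of_noetherian [IsNoetherianRing A] (E : DRing.Cx A)
    (hE : ∀ i, Module.Finite A (E.X i)) (i : ℤ) :
    Module.Finite A (Dual.HD A (DRing.toD E) i) := by
  have := hE i
  refine finite_of_iso ((homologyToDIso E i) ≪≫ homologyIsoQuot E i).symm ?_
  change Module.Finite A (LinearMap.ker (E.sc' (i - 1) i (i + 1)).g.hom ⧸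
    LinearMap.range (E.sc' (i - 1) i (i + 1)).moduleCatToCycles)
  have : Module.Finite A (E.sc' (i - 1) i (i + 1)).X₂ := hE i
  have : IsNoetherian A (E.sc' (i - 1) i (i + 1)).X₂ := isNoetherian_of_isNoetherianRing_of_finite A _
  infer_instance

/-- A property of objects stable under isomorphisms, shifts, extensions holds for `τ_{≥ m}`-type
objects; packaged criterion: if `K ∈ D^{≤ b}` and `H^i(K)[0]` is pseudo-coherent (all levels) for
`i ≥ m`, then `K` is `m`-pseudo-coherent. -/
theorem isPseudoCoherent_of_HD_forall (K : Dual.D A) (b m : ℤ) [K.IsLE b]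
    (h : ∀ i : ℤ, m ≤ i → ∀ m' : ℤ, DRing.IsPseudoCoherent A m' (Dual.inD A (Dual.HD A K i))) :
    DRing.IsPseudoCoherent A m K := by
  obtain ⟨X, Y, hX, hY, f, g, δ, hT⟩ := TStructure.t.exists_triangle K (m - 1) m (by omega)
  have iX : X.IsLE (m - 1) := ⟨hX⟩
  have iY : Y.IsGE m := ⟨hY⟩
  have iX' : (Triangle.mk f g δ).obj₁.IsLE (m - 1) := iX
  have hg : ∀ i, m ≤ i → IsIso ((homologyFunctor (ModuleCat.{u} A) i).map g) :=
    fun i hi => isIso_HD_mor₂ _ hT (m - 1) i (by omega)
  have hYb : ∀ i : ℤ, (i < m ∨ b < i) → Subsingleton (Dual.HD A Y i) := by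
    rintro i (hi | hi)
    · exact subsingleton_HD_of_isGE Y m i hi
    · by_cases him : m ≤ i
      · have := hg i him
        have hz : IsZero ((homologyFunctor (ModuleCat.{u} A) i).obj Y) :=
          (K.isZero_of_isLE b i hi).of_iso
            (asIso ((homologyFunctor (ModuleCat.{u} A) i).map g)).symm
        exact ModuleCat.subsingleton_of_isZero hz
      · exact subsingleton_HD_of_isGE Y m i (by omega)
  have hY : ∀ m' : ℤ, DRing.IsPseudoCoherent A m' Y := by
    refine devissage_homology' (fun Z => ∀ m' : ℤ, DRing.IsPseudoCoherent A m' Z)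
      (fun e h m' => isPseudoCoherent_of_iso e (h m'))
      (fun Z n h m' => isPseudoCoherent_shift n m' rfl (h (n + m')))
      (fun T hT h1 h3 m' => isPseudoCoherent_obj₂ T hT m' (h1 m') (h3 m')) Y ⟨m, b, hYb⟩ ?_
    intro i m'
    by_cases him : m ≤ i
    · have := hg i him
      exact isPseudoCoherent_of_iso ((singleFunctor (ModuleCat.{u} A) 0).mapIso
        (asIso ((homologyFunctor (ModuleCat.{u} A) i).map g))) (h i him m')
    · have := subsingleton_HD_of_isGE Y m i (by omega)
      apply isPseudoCoherent_of_isZero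
      exact Functor.map_isZero _ (ModuleCat.isZero_of_subsingleton _)
  exact isPseudoCoherent_obj₂ _ hT m (isPseudoCoherent_of_isLE X m) (hY m)

/-- If `K ∈ D^{≤ b}` and `H^i(K)` is an `(m-i)`-pseudo-coherent module for every `i`, then `K` is
`m`-pseudo-coherent. -/
theorem isPseudoCoherent_of_HD (m : ℤ) (n : ℕ) : ∀ (K : Dual.D A) (b : ℤ), b < m + n → K.IsLE b →
    (∀ i : ℤ, DRing.IsPseudoCoherent A (m - i) (Dual.inD A (Dual.HD A K i))) →
    DRing.IsPseudoCoherent A m K := by
  induction n with
  | zero =>
    intro K b hbm hb _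
    have : K.IsLE (m - 1) := TStructure.t.isLE_of_le _ b (m - 1) (by simp at hbm; omega)
    exact isPseudoCoherent_of_isLE _ m
  | succ n ih =>
    intro K b hbm hb h
    obtain ⟨X, Y, hX, hY, f, g, δ, hT⟩ := TStructure.t.exists_triangle K (b - 1) b (by omega)
    have iX : X.IsLE (b - 1) := ⟨hX⟩
    have iY : Y.IsGE b := ⟨hY⟩
    have iX' : (Triangle.mk f g δ).obj₁.IsLE (b - 1) := iX
    have iY' : (Triangle.mk f g δ).obj₃.IsGE (b - 1 + 1) := by
      have : b - 1 + 1 = b := by omega
      rw [this]; exact iY
    have hg : ∀ i, b ≤ i → IsIso ((homologyFunctor (ModuleCat.{u} A) i).map g) :=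
      fun i hi => isIso_HD_mor₂ _ hT (b - 1) i (by omega)
    have hf : ∀ i, i ≤ b - 1 → IsIso ((homologyFunctor (ModuleCat.{u} A) i).map f) :=
      fun i hi => isIso_HD_mor₁ _ hT (b - 1) i hi
    have iYb : Y.IsLE b := by
      rw [DerivedCategory.isLE_iff]
      intro i hi
      have := hg i hi.le
      exact (K.isZero_of_isLE b i hi).of_iso
        (asIso ((homologyFunctor (ModuleCat.{u} A) i).map g)).symm
    have hXpc : DRing.IsPseudoCoherent A m X := by
      apply ih X (b - 1) (by push_cast at hbm; omega) iX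
      intro i
      by_cases hi : i ≤ b - 1
      · have := hf i hi
        exact isPseudoCoherent_of_iso ((singleFunctor (ModuleCat.{u} A) 0).mapIso
          (asIso ((homologyFunctor (ModuleCat.{u} A) i).map f)).symm) (h i)
      · have := subsingleton_HD_of_isLE X (b - 1) i (by omega)
        apply isPseudoCoherent_of_isZero
        exact Functor.map_isZero _ (ModuleCat.isZero_of_subsingleton _)
    have hYpc : DRing.IsPseudoCoherent A m Y := by
      obtain ⟨e⟩ := exists_iso_single_HD Y b
      have := hg b le_rfl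
      have h1 : DRing.IsPseudoCoherent A (m - b) (Dual.inD A (Dual.HD A Y b)) :=
        isPseudoCoherent_of_iso ((singleFunctor (ModuleCat.{u} A) 0).mapIso
          (asIso ((homologyFunctor (ModuleCat.{u} A) b).map g))) (h b)
      exact isPseudoCoherent_of_iso e.symm (isPseudoCoherent_shift (-b) m (by omega) h1)
    exact isPseudoCoherent_obj₂ _ hT m hXpc hYpc

theorem isPseudoCoherent_of_HD' (m : ℤ) (K : Dual.D A) (b : ℤ) [K.IsLE b]
    (h : ∀ i : ℤ, DRing.IsPseudoCoherent A (m - i) (Dual.inD A (Dual.HD A K i))) :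
    DRing.IsPseudoCoherent A m K :=
  isPseudoCoherent_of_HD m (b - m + 1).toNat K b (by omega) inferInstance h

end Groth.Agent.Helper3.DRingLib
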