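import Mathlib
import Groth.Prelude.Def_DRing2
import Groth.Agent.Helper3.DRingPC4

/-! Retracts of `m`-pseudo-coherent objects are `m`-pseudo-coherent. -/

set_option autoImplicit false
universe u
open CategoryTheory CategoryTheory.Limits

namespace Groth.Agent.Helper3.DRingLib

attribute [local instance] HasDerivedCategory.standard

open Pretriangulated DerivedCategory ZeroObject

variable {A : Type u} [CommRing A]

lemma isLE_of_retract {K Z : Dual.D A} (i : K ⟶ Z) (r : Z ⟶ K) (hir : i ≫ r = 𝟙 K) (b : ℤ)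
    [Z.IsLE b] : K.IsLE b := by
  rw [DerivedCategory.isLE_iff]
  intro j hj
  have hz : IsZero ((homologyFunctor (ModuleCat.{u} A) j).obj Z) := Z.isZero_of_isLE b j hj
  rw [IsZero.iff_id_eq_zero, ← CategoryTheory.Functor.map_id, ← hir, Functor.map_comp]
  rw [hz.eq_of_tgt ((homologyFunctor (ModuleCat.{u} A) j).map i) 0, zero_comp]

lemma IsBFF.biprod {a b : ℤ} {X Y : Dual.D A} (hX : IsBFF a b X) (hY : IsBFF a b Y) :
    IsBFF a b (X ⊞ Y) :=
  IsBFF.obj₂ _ (binaryBiproductTriangle_distinguished X Y) hX hY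

lemma exists_single_approx' (K : Dual.D A) (m : ℤ) [K.IsLE m]
    (h : Module.Finite A (Dual.HD A K m)) :
    ∃ (X : Dual.D A) (α : X ⟶ K), IsBFF m m X ∧ IsApprox m α := by
  obtain ⟨n, α, hα⟩ := exists_single_approx K m h
  exact ⟨_, α, isBFF_inD_shift n m, hα⟩

/-- Retracts of `m`-pseudo-coherent objects are `m`-pseudo-coherent. -/
theorem isPseudoCoherent_of_retract (m : ℤ) (n : ℕ) : ∀ (K Z : Dual.D A) (b : ℤ) (i : K ⟶ Z)
    (r : Z ⟶ K), i ≫ r = 𝟙 K → Z.IsLE b → b < m + n → DRing.IsPseudoCoherent A m Z →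
    DRing.IsPseudoCoherent A m K := by
  induction n with
  | zero =>
    intro K Z b i r hir hZb hbm _
    have := isLE_of_retract i r hir b
    have : K.IsLE (m - 1) := TStructure.t.isLE_of_le _ b (m - 1) (by simp at hbm; omega)
    exact isPseudoCoherent_of_isLE _ m
  | succ n ih =>
    intro K Z b i r hir hZb hbm hZ
    have hKb := isLE_of_retract i r hir b
    by_cases hbm' : b < m
    · have : K.IsLE (m - 1) := TStructure.t.isLE_of_le _ b (m - 1) (by omega)
      exact isPseudoCoherent_of_isLE _ m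
    have hZfin : Module.Finite A (Dual.HD A Z b) :=
      finite_HD_of_isPseudoCoherent Z b (isPseudoCoherent_of_le (by omega) hZ)
    have hKfin : Module.Finite A (Dual.HD A K b) := by
      refine Module.Finite.of_surjective ((homologyFunctor (ModuleCat.{u} A) b).map r).hom ?_
      intro x
      refine ⟨((homologyFunctor (ModuleCat.{u} A) b).map i).hom x, ?_⟩
      have : (homologyFunctor (ModuleCat.{u} A) b).map i ≫
          (homologyFunctor (ModuleCat.{u} A) b).map r = 𝟙 _ := by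
        rw [← Functor.map_comp, hir, CategoryTheory.Functor.map_id]
      exact congr($this x)
    obtain ⟨XK, gK, hXK, hgK⟩ := exists_single_approx' K b hKfin
    obtain ⟨XZ, gZ, hXZ, hgZ⟩ := exists_single_approx' Z b hZfin
    obtain ⟨K₁, pK, dK, hTK⟩ := distinguished_cocone_triangle gK
    have hK₁ : K₁.IsLE (b - 1) := (isApprox_iff_isLE _ hTK b).mp hgK
    let g' : XK ⊞ XZ ⟶ Z := biprod.desc (gK ≫ i) gZ
    have hX : IsBFF b b (XK ⊞ XZ) := hXK.biprod hXZ
    have hXle := hX.isLE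
    have hg' : IsApprox b g' := by
      refine ⟨fun j hj => isIso_of_isZero' _ ((XK ⊞ XZ).isZero_of_isLE b j hj)
        (Z.isZero_of_isLE b j hj), ?_⟩
      have h1 : (homologyFunctor (ModuleCat.{u} A) b).map (biprod.inr : XZ ⟶ XK ⊞ XZ) ≫
          (homologyFunctor (ModuleCat.{u} A) b).map g' =
          (homologyFunctor (ModuleCat.{u} A) b).map gZ := by
        rw [← Functor.map_comp, biprod.inr_desc]
      have := hgZ.2
      rw [← h1] at this
      exact epi_of_epi ((homologyFunctor (ModuleCat.{u} A) b).map (biprod.inr : XZ ⟶ XK ⊞ XZ))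
        ((homologyFunctor (ModuleCat.{u} A) b).map g')
    obtain ⟨Z₁, pZ, dZ, hTZ⟩ := distinguished_cocone_triangle g'
    have hZ₁ : Z₁.IsLE (b - 1) := (isApprox_iff_isLE _ hTZ b).mp hg'
    have hZ₁pc : DRing.IsPseudoCoherent A m Z₁ :=
      isPseudoCoherent_obj₃ _ hTZ m (isPseudoCoherent_of_isBFF hX (m + 1)) hZ
    -- the lift t
    have hobs : (gZ ≫ r) ≫ pK = 0 := hXZ.hom_eq_zero K₁ (b - 1) (by omega) _
    obtain ⟨(t : XZ ⟶ XK), ht⟩ := Triangle.coyoneda_exact₂ _ hTK (gZ ≫ r) hobs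
    have ht' : gZ ≫ r = t ≫ gK := ht
    let p : XK ⊞ XZ ⟶ XK := biprod.desc (𝟙 _) t
    have hp : g' ≫ r = p ≫ gK := by
      apply biprod.hom_ext'
      · rw [biprod.inl_desc_assoc, biprod.inl_desc_assoc, Category.assoc, hir, Category.comp_id,
          Category.id_comp]
      · rw [biprod.inr_desc_assoc, biprod.inr_desc_assoc]
        exact ht'
    have hinl : gK ≫ i = biprod.inl ≫ g' := (biprod.inl_desc _ _).symm
    obtain ⟨(c : K₁ ⟶ Z₁), hc1, hc2⟩ :=
      complete_distinguished_triangle_morphism _ _ hTK hTZ biprod.inl i hinl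
    obtain ⟨(c' : Z₁ ⟶ K₁), hc'1, hc'2⟩ :=
      complete_distinguished_triangle_morphism _ _ hTZ hTK p r hp
    have hc1' : pK ≫ c = i ≫ pZ := hc1
    have hc2' : dK ≫ (biprod.inl : XK ⟶ XK ⊞ XZ)⟦(1 : ℤ)⟧' = c ≫ dZ := hc2
    have hc'1' : pZ ≫ c' = r ≫ pK := hc'1
    have hc'2' : dZ ≫ p⟦(1 : ℤ)⟧' = c' ≫ dK := hc'2
    have hinlp : (biprod.inl : XK ⟶ XK ⊞ XZ) ≫ p = 𝟙 XK := biprod.inl_desc _ _
    let φ : Triangle.mk gK pK dK ⟶ Triangle.mk gK pK dK :=
      { hom₁ := 𝟙 XK
        hom₂ := 𝟙 K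
        hom₃ := c ≫ c'
        comm₁ := by
          change gK ≫ 𝟙 K = 𝟙 XK ≫ gK
          rw [Category.comp_id, Category.id_comp]
        comm₂ := by
          change pK ≫ c ≫ c' = 𝟙 K ≫ pK
          rw [← Category.assoc, hc1', Category.assoc, hc'1', ← Category.assoc, hir]
        comm₃ := by
          change dK ≫ (𝟙 XK)⟦(1 : ℤ)⟧' = (c ≫ c') ≫ dK
          rw [Category.assoc, ← hc'2', ← Category.assoc, ← hc2', Category.assoc,
            ← Functor.map_comp, hinlp] }
    have h1 : IsIso φ.hom₁ := (inferInstance : IsIso (𝟙 XK))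
    have h2 : IsIso φ.hom₂ := (inferInstance : IsIso (𝟙 K))
    have h3 : IsIso (c ≫ c') := isIso₃_of_isIso₁₂ φ hTK hTK h1 h2
    have hK₁pc : DRing.IsPseudoCoherent A m K₁ :=
      ih K₁ Z₁ (b - 1) c (c' ≫ inv (c ≫ c')) (by rw [← Category.assoc, IsIso.hom_inv_id]) hZ₁
        (by push_cast at hbm; omega) hZ₁pc
    exact isPseudoCoherent_obj₂ _ hTK m (isPseudoCoherent_of_isBFF hXK m) hK₁pc

theorem isPseudoCoherent_of_retract' (m : ℤ) {K Z : Dual.D A} (i : K ⟶ Z) (r : Z ⟶ K)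
    (hir : i ≫ r = 𝟙 K) (hZ : DRing.IsPseudoCoherent A m Z) : DRing.IsPseudoCoherent A m K := by
  obtain ⟨b, hb⟩ := exists_isLE_of_isPseudoCoherent hZ
  exact isPseudoCoherent_of_retract m (b - m + 1).toNat K Z b i r hir hb (by omega) hZ

end Groth.Agent.Helper3.DRingLib
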