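import Mathlib
import Groth.Prelude.Def_DRing2
import Groth.Agent.Helper3.DRing1
import Groth.Agent.Helper3.DRingCone
import Groth.Agent.Helper3.DRingFin
import Groth.Agent.Helper3.DRingResP
import Groth.Agent.Helper3.DRingTor1
import Groth.Agent.Helper3.DRingTor2

/-! Intrinsic lower tor-amplitude bound `IsTorGE` and the characterization
`HasTorAmplitudeIn a b K ↔ K.IsLE b ∧ IsTorGE a K`. -/

set_option autoImplicit false
universe u
open CategoryTheory CategoryTheory.Limits MonoidalCategory TensorProduct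

namespace Groth.Agent.Helper3.DRingLib

attribute [local instance] HasDerivedCategory.standard

open Pretriangulated DerivedCategory ZeroObject CochainComplex

variable {A : Type u} [CommRing A]

/-- `K` has tor-amplitude `≥ a`: it is represented by a bounded above complex `P` of flat modules
such that `H^i(P ⊗ N) = 0` for all `i < a` and all modules `N`. -/
def IsTorGE (a : ℤ) (K : Dual.D A) : Prop :=
  ∃ (P : DRing.Cx A) (b : ℤ), DRing.VanishesAbove P b ∧ DRing.TermwiseFlat P ∧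
    Nonempty (DRing.toD P ≅ K) ∧
    ∀ (N : ModuleCat.{u} A) (i : ℤ), i < a → (DRing.tensorCx P N).ExactAt i

lemma IsTorGE.forall_rep {a : ℤ} {K : Dual.D A} (h : IsTorGE a K) (P : DRing.Cx A) (b : ℤ)
    (hP : DRing.VanishesAbove P b) (fP : DRing.TermwiseFlat P) (e : DRing.toD P ≅ K)
    (N : ModuleCat.{u} A) (i : ℤ) (hi : i < a) : (DRing.tensorCx P N).ExactAt i := by
  obtain ⟨P₀, b₀, hP₀, fP₀, ⟨e₀⟩, hv⟩ := h
  exact (exactAt_tensorCx_iff_of_iso b₀ b hP₀ hP fP₀ fP (e₀ ≪≫ e.symm) N i).mp (hv N i hi)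

lemma IsTorGE.of_iso {a : ℤ} {K L : Dual.D A} (e : K ≅ L) (h : IsTorGE a K) : IsTorGE a L := by
  obtain ⟨P₀, b₀, hP₀, fP₀, ⟨e₀⟩, hv⟩ := h
  exact ⟨P₀, b₀, hP₀, fP₀, ⟨e₀ ≪≫ e⟩, hv⟩

lemma IsTorGE.of_le {a a' : ℤ} {K : Dual.D A} (h : IsTorGE a K) (ha : a' ≤ a) : IsTorGE a' K := by
  obtain ⟨P₀, b₀, hP₀, fP₀, e₀, hv⟩ := h
  exact ⟨P₀, b₀, hP₀, fP₀, e₀, fun N i hi => hv N i (by omega)⟩

lemma IsTorGE.exists_isLE {a : ℤ} {K : Dual.D A} (h : IsTorGE a K) : ∃ b : ℤ, K.IsLE b := by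
  obtain ⟨P₀, b₀, hP₀, fP₀, ⟨e₀⟩, hv⟩ := h
  have := isStrictlyLE_of_vanishesAbove P₀ b₀ hP₀
  have : (DRing.toD P₀).IsLE b₀ := inferInstance
  exact ⟨b₀, TStructure.t.isLE_of_iso e₀ b₀⟩

lemma exactAt_of_isZero_X (P : DRing.Cx A) (i : ℤ) (h : IsZero (P.X i)) : P.ExactAt i := by
  rw [exactAt_iff_forall P (i - 1) i (i + 1) (by omega) rfl]
  intro x _
  have := ModuleCat.subsingleton_of_isZero h
  exact ⟨0, Subsingleton.elim _ _⟩

lemma tensorCx_isZero_X (P : DRing.Cx A) (N : ModuleCat.{u} A) (i : ℤ) (h : IsZero (P.X i)) :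
    IsZero ((DRing.tensorCx P N).X i) :=
  Functor.map_isZero (tensorRight N) h

lemma isTorGE_of_hasTorAmplitudeIn {a b : ℤ} {K : Dual.D A}
    (h : DRing.HasTorAmplitudeIn A a b K) : IsTorGE a K := by
  obtain ⟨E, hv, hf, he⟩ := h
  exact ⟨E, b, fun i hi => hv i (Or.inr hi), hf, he, fun N i hi =>
    exactAt_of_isZero_X _ i (tensorCx_isZero_X E N i (hv i (Or.inl hi)))⟩

lemma isLE_of_hasTorAmplitudeIn {a b : ℤ} {K : Dual.D A}
    (h : DRing.HasTorAmplitudeIn A a b K) : K.IsLE b := by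
  obtain ⟨E, hv, hf, ⟨e⟩⟩ := h
  have := isStrictlyLE_of_vanishesOutside E a b hv
  have : (DRing.toD E).IsLE b := inferInstance
  exact TStructure.t.isLE_of_iso e b

/-- exactness of `P ⊗ A` gives exactness of `P`. -/
lemma exactAt_of_exactAt_tensorCx_unit (P : DRing.Cx A) (i : ℤ)
    (h : (DRing.tensorCx P (ModuleCat.of A A)).ExactAt i) : P.ExactAt i := by
  rw [exactAt_iff_forall _ (i - 1) i (i + 1) (by omega) rfl] at h ⊢
  intro x hx
  have h' : ∀ t : (P.X i) ⊗[A] A, ((P.d i (i + 1)).hom.rTensor A) t = 0 →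
      ∃ y : (P.X (i - 1)) ⊗[A] A, ((P.d (i - 1) i).hom.rTensor A) y = t := h
  obtain ⟨y, hy⟩ := h' (x ⊗ₜ[A] (1 : A)) (by
    rw [LinearMap.rTensor_tmul, hx, TensorProduct.zero_tmul])
  refine ⟨TensorProduct.rid A _ y, ?_⟩
  have nat : ∀ t : (P.X (i - 1)) ⊗[A] A, (P.d (i - 1) i).hom (TensorProduct.rid A _ t) =
      TensorProduct.rid A _ (((P.d (i - 1) i).hom.rTensor A) t) := by
    intro t
    induction t using TensorProduct.induction_on with
    | zero => simp
    | tmul m r => simp [LinearMap.rTensor_tmul, TensorProduct.rid_tmul]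
    | add a b ha hb => simp only [map_add, ha, hb]
  rw [nat, hy, TensorProduct.rid_tmul, one_smul]

lemma IsTorGE.isGE {a : ℤ} {K : Dual.D A} (h : IsTorGE a K) : K.IsGE a := by
  obtain ⟨P₀, b₀, hP₀, fP₀, ⟨e₀⟩, hv⟩ := h
  have h1 : P₀.IsGE a := by
    rw [CochainComplex.isGE_iff]
    intro i hi
    exact exactAt_of_exactAt_tensorCx_unit P₀ i (hv _ i hi)
  have : (DRing.toD P₀).IsGE a := inferInstance
  exact TStructure.t.isGE_of_iso e₀ a

/-- `opcycles` of a complex of modules is the quotient by the image of the differential. -/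
noncomputable def opcyclesIsoQuot (P : DRing.Cx A) (i j : ℤ) (hij : i + 1 = j) :
    P.opcycles j ≅ ModuleCat.of A (P.X j ⧸ LinearMap.range (P.d i j).hom) :=
  IsColimit.coconePointUniqueUpToIso (P.opcyclesIsCokernel i j (by simp [← hij]))
    (ModuleCat.cokernelIsColimit (P.d i j))

/-- The key flatness statement: if `P ⊗ N` is exact at `a - 1` for all `N` and `P^a` is flat,
then the cokernel of `P^{a-1} → P^a` is flat. -/
theorem flat_coker_of_exactAt_tensorCx (P : DRing.Cx A) (a : ℤ) (hf : Module.Flat A (P.X a))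
    (h : ∀ N : ModuleCat.{u} A, (DRing.tensorCx P N).ExactAt (a - 1)) :
    Module.Flat A (P.X a ⧸ LinearMap.range (P.d (a - 1) a).hom) := by
  refine flat_coker_of_exact_tensor (P.d (a - 1 - 1) (a - 1)).hom (P.d (a - 1) a).hom ?_ ?_
  · rw [← ModuleCat.hom_comp, P.d_comp_d]
    rfl
  · intro Q _ _ y hy
    have := h (ModuleCat.of A Q)
    rw [exactAt_iff_forall _ (a - 1 - 1) (a - 1) a (by omega) (by omega)] at this
    exact this y hy

/-- An object of `D^{≤ b}` of tor-amplitude `≥ a` is represented by a complex of flat modules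
vanishing outside `[a, b]`. -/
theorem hasTorAmplitudeIn_of_isTorGE {a b : ℤ} (hab : a ≤ b) {K : Dual.D A} [K.IsLE b]
    (h : IsTorGE a K) : DRing.HasTorAmplitudeIn A a b K := by
  obtain ⟨P, hP, pP, ⟨e⟩⟩ := exists_projective_rep K b
  have fP : DRing.TermwiseFlat P := fun i => by
    have := pP i
    infer_instance
  have hex := h.forall_rep P b hP fP e
  have hGE : P.IsGE a := by
    rw [CochainComplex.isGE_iff]
    intro i hi
    exact exactAt_of_exactAt_tensorCx_unit P i (hex _ i hi)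
  have hq : QuasiIso (P.πTruncGE a) := inferInstance
  have hiso : IsIso (DerivedCategory.Q.map (P.πTruncGE a)) :=
    (DerivedCategory.isIso_Q_map_iff_quasiIso (ModuleCat.{u} A) _).mpr hq
  have hflatC : Module.Flat A (P.X a ⧸ LinearMap.range (P.d (a - 1) a).hom) :=
    flat_coker_of_exactAt_tensorCx P a (fP a) (fun N => hex N (a - 1) (by omega))
  refine ⟨P.truncGE a, ?_, ?_, ⟨(asIso (DerivedCategory.Q.map (P.πTruncGE a))).symm ≪≫ e⟩⟩
  · intro i hi
    rcases hi with hi | hi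
    · exact (P.truncGE a).isZero_of_isStrictlyGE a i hi
    · exact (hP i hi).of_iso (P.truncGEXIso a i (by omega))
  · intro i
    by_cases h1 : i < a
    · have := ModuleCat.subsingleton_of_isZero ((P.truncGE a).isZero_of_isStrictlyGE a i h1)
      infer_instance
    · by_cases h2 : i = a
      · subst h2
        let e1 := (P.truncGEXIsoOpcycles i) ≪≫ opcyclesIsoQuot P (i - 1) i (by omega)
        exact Module.Flat.of_linearEquiv e1.toLinearEquiv
      · have := fP i
        exact Module.Flat.of_linearEquiv (P.truncGEXIso a i (by omega)).toLinearEquiv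

/-- The characterization of tor-amplitude. -/
theorem hasTorAmplitudeIn_iff {a b : ℤ} (hab : a ≤ b) (K : Dual.D A) :
    DRing.HasTorAmplitudeIn A a b K ↔ K.IsLE b ∧ IsTorGE a K :=
  ⟨fun h => ⟨isLE_of_hasTorAmplitudeIn h, isTorGE_of_hasTorAmplitudeIn h⟩,
    fun ⟨_, h2⟩ => hasTorAmplitudeIn_of_isTorGE hab h2⟩

end Groth.Agent.Helper3.DRingLib
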