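import Mathlib
import Groth.Prelude.Def_DRing2
import Groth.Agent.Helper3.DRing1
import Groth.Agent.Helper3.DRingCone
import Groth.Agent.Helper3.DRingFin
import Groth.Agent.Helper3.DRingResP
import Groth.Agent.Helper3.DRingTor1
import Groth.Agent.Helper3.DRingTor2
import Groth.Agent.Helper3.DRingTor3

/-! `IsTorGE` and shifts, distinguished triangles. -/

set_option autoImplicit false
universe u
open CategoryTheory CategoryTheory.Limits MonoidalCategory TensorProduct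

namespace Groth.Agent.Helper3.DRingLib

attribute [local instance] HasDerivedCategory.standard

open Pretriangulated DerivedCategory ZeroObject CochainComplex

variable {A : Type u} [CommRing A]

lemma exactAt_shift_iff (K : DRing.Cx A) (n a a' : ℤ) (h : n + a = a') :
    (K⟦n⟧).ExactAt a ↔ K.ExactAt a' := by
  rw [HomologicalComplex.exactAt_iff_isZero_homology, HomologicalComplex.exactAt_iff_isZero_homology]
  exact (((HomologicalComplex.homologyFunctor (ModuleCat.{u} A) (ComplexShape.up ℤ) 0).shiftIso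
    n a a' h).app K).isZero_iff

lemma exactAt_tensorCx_shift_iff (P : DRing.Cx A) (N : ModuleCat.{u} A) (n a a' : ℤ)
    (h : n + a = a') :
    (DRing.tensorCx (P⟦n⟧) N).ExactAt a ↔ (DRing.tensorCx P N).ExactAt a' := by
  rw [← exactAt_shift_iff (DRing.tensorCx P N) n a a' h]
  have e : (tens N).obj (P⟦n⟧) ≅ ((tens N).obj P)⟦n⟧ := ((tens N).commShiftIso n).app P
  rw [HomologicalComplex.exactAt_iff_isZero_homology, HomologicalComplex.exactAt_iff_isZero_homology]
  exact ((HomologicalComplex.homologyFunctor _ _ a).mapIso e).isZero_iff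

lemma IsTorGE.shift {a : ℤ} {K : Dual.D A} (h : IsTorGE a K) (n a' : ℤ) (ha : n + a' = a) :
    IsTorGE a' (K⟦n⟧) := by
  obtain ⟨P, b, hP, fP, ⟨e⟩, hv⟩ := h
  refine ⟨P⟦n⟧, b - n, shift_vanishesAbove P b n hP, shift_termwiseFlat P n fP,
    ⟨toDShiftIso P n ≪≫ (CategoryTheory.shiftFunctor (Dual.D A) n).mapIso e⟩, fun N i hi => ?_⟩
  rw [exactAt_tensorCx_shift_iff P N n i (n + i) rfl]
  exact hv N _ (by omega)

lemma isTorGE_shift_iff {a : ℤ} {K : Dual.D A} (n a' : ℤ) (ha : n + a' = a) :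
    IsTorGE a' (K⟦n⟧) ↔ IsTorGE a K := by
  refine ⟨fun h => ?_, fun h => h.shift n a' ha⟩
  have := h.shift (-n) a (by omega)
  exact this.of_iso ((shiftEquiv (Dual.D A) n).unitIso.symm.app K)

lemma isTorGE_of_isZero {K : Dual.D A} (h : IsZero K) (a : ℤ) : IsTorGE a K := by
  refine ⟨0, 0, fun i _ => ?_, fun i => ?_, ⟨?_⟩, fun N i _ => ?_⟩
  · exact Functor.map_isZero (HomologicalComplex.eval _ _ i) (isZero_zero _)
  · have := ModuleCat.subsingleton_of_isZero
      (Functor.map_isZero (HomologicalComplex.eval (ModuleCat.{u} A) (ComplexShape.up ℤ) i)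
        (isZero_zero _))
    change Module.Flat A ((HomologicalComplex.eval (ModuleCat.{u} A)
      (ComplexShape.up ℤ) i).obj 0)
    infer_instance
  · exact (Functor.map_isZero DerivedCategory.Q (isZero_zero _)).iso h
  · apply exactAt_of_isZero_X
    apply tensorCx_isZero_X
    exact Functor.map_isZero (HomologicalComplex.eval _ _ i) (isZero_zero _)

/-- the cone of a morphism of bounded above flat complexes. -/
lemma isTorGE_cone {P₁ P₂ : DRing.Cx A} (f : P₁ ⟶ P₂) (b₁ b₂ : ℤ)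
    (h₁ : DRing.VanishesAbove P₁ b₁) (h₂ : DRing.VanishesAbove P₂ b₂)
    (f₁ : DRing.TermwiseFlat P₁) (f₂ : DRing.TermwiseFlat P₂) (a : ℤ)
    (t₁ : IsTorGE (a + 1) (DRing.toD P₁)) (t₂ : IsTorGE a (DRing.toD P₂)) :
    IsTorGE a (DRing.toD (mappingCone f)) := by
  refine ⟨mappingCone f, max b₁ b₂, cone_vanishesAbove f _ (fun i hi => h₁ i (by omega))
    (fun i hi => h₂ i (by omega)), cone_termwiseFlat f f₁ f₂, ⟨Iso.refl _⟩, fun N i hi => ?_⟩
  have e := mappingCone.mapHomologicalComplexIso f (tensorRight N)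
  have hT := DerivedCategory.mappingCone_triangle_distinguished ((tens N).map f)
  have z₂ : IsZero ((homologyFunctor (ModuleCat.{u} A) i).obj (DRing.toD ((tens N).obj P₂))) := by
    have := t₂.forall_rep P₂ b₂ h₂ f₂ (Iso.refl _) N i hi
    rw [HomologicalComplex.exactAt_iff_isZero_homology] at this
    exact this.of_iso (homologyToDIso _ i)
  have z₁ : IsZero ((homologyFunctor (ModuleCat.{u} A) (i + 1)).obj
      (DRing.toD ((tens N).obj P₁))) := by
    have := t₁.forall_rep P₁ b₁ h₁ f₁ (Iso.refl _) N (i + 1) (by omega)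
    rw [HomologicalComplex.exactAt_iff_isZero_homology] at this
    exact this.of_iso (homologyToDIso _ (i + 1))
  have hex := DerivedCategory.HomologySequence.exact₃ _ hT i (i + 1) rfl
  have z₃ : IsZero ((homologyFunctor (ModuleCat.{u} A) i).obj
      (DRing.toD (mappingCone ((tens N).map f)))) :=
    hex.isZero_of_both_zeros (z₂.eq_of_src _ _) (z₁.eq_of_tgt _ _)
  have h3 : (mappingCone ((tens N).map f)).ExactAt i := exactAt_of_isZero _ i z₃
  change ((tens N).obj (mappingCone f)).ExactAt i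
  rw [HomologicalComplex.exactAt_iff_isZero_homology] at h3 ⊢
  exact h3.of_iso ((HomologicalComplex.homologyFunctor _ _ i).mapIso e)

/-- third vertex of a distinguished triangle. -/
theorem IsTorGE.obj₃ (T : Triangle (Dual.D A)) (hT : T ∈ distTriang _) (a : ℤ)
    (h₁ : IsTorGE (a + 1) T.obj₁) (h₂ : IsTorGE a T.obj₂) : IsTorGE a T.obj₃ := by
  obtain ⟨b₁, hb₁⟩ := h₁.exists_isLE
  obtain ⟨b₂, hb₂⟩ := h₂.exists_isLE
  obtain ⟨P₁, v₁, p₁, ⟨e₁⟩⟩ := exists_projective_rep T.obj₁ b₁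
  obtain ⟨P₂, v₂, p₂, ⟨e₂⟩⟩ := exists_projective_rep T.obj₂ b₂
  have f₁ : DRing.TermwiseFlat P₁ := fun i => by
    have := p₁ i
    infer_instance
  have f₂ : DRing.TermwiseFlat P₂ := fun i => by
    have := p₂ i
    infer_instance
  have : P₁.IsKProjective := isKProjective_of_vanishesAbove P₁ b₁ v₁ p₁
  obtain ⟨φ, ⟨e₃⟩⟩ := exists_cone_iso T hT P₁ P₂ e₁ e₂
  exact (isTorGE_cone φ b₁ b₂ v₁ v₂ f₁ f₂ a (h₁.of_iso e₁.symm) (h₂.of_iso e₂.symm)).of_iso e₃

/-- first vertex of a distinguished triangle. -/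
theorem IsTorGE.obj₁ (T : Triangle (Dual.D A)) (hT : T ∈ distTriang _) (a : ℤ)
    (h₂ : IsTorGE (a + 1) T.obj₂) (h₃ : IsTorGE a T.obj₃) : IsTorGE (a + 1) T.obj₁ := by
  have := IsTorGE.obj₃ T.rotate (rot_of_distTriang _ hT) a h₂ h₃
  exact (isTorGE_shift_iff (K := T.obj₁) 1 a (by omega)).mp this

/-- second vertex of a distinguished triangle. -/
theorem IsTorGE.obj₂ (T : Triangle (Dual.D A)) (hT : T ∈ distTriang _) (a : ℤ)
    (h₁ : IsTorGE a T.obj₁) (h₃ : IsTorGE a T.obj₃) : IsTorGE a T.obj₂ := by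
  have h₁' : IsTorGE (a - 1) (T.obj₁⟦(1 : ℤ)⟧) := h₁.shift 1 (a - 1) (by omega)
  have := IsTorGE.obj₃ T.rotate.rotate (rot_of_distTriang _ (rot_of_distTriang _ hT)) (a - 1)
    (by
      have : a - 1 + 1 = a := by omega
      rw [this]
      exact h₃) h₁'
  exact (isTorGE_shift_iff (K := T.obj₂) 1 (a - 1) (by omega)).mp this

lemma hasTorAmplitudeIn_of_isZero {K : Dual.D A} (h : IsZero K) (a b : ℤ) :
    DRing.HasTorAmplitudeIn A a b K := by
  refine ⟨0, fun i _ => ?_, fun i => ?_, ⟨?_⟩⟩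
  · exact Functor.map_isZero (HomologicalComplex.eval _ _ i) (isZero_zero _)
  · have := ModuleCat.subsingleton_of_isZero
      (Functor.map_isZero (HomologicalComplex.eval (ModuleCat.{u} A) (ComplexShape.up ℤ) i)
        (isZero_zero _))
    change Module.Flat A ((HomologicalComplex.eval (ModuleCat.{u} A)
      (ComplexShape.up ℤ) i).obj 0)
    infer_instance
  · exact (Functor.map_isZero DerivedCategory.Q (isZero_zero _)).iso h

/-- The characterization of tor-amplitude, without assumption on `a`, `b`. -/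
theorem hasTorAmplitudeIn_iff' (a b : ℤ) (K : Dual.D A) :
    DRing.HasTorAmplitudeIn A a b K ↔ K.IsLE b ∧ IsTorGE a K := by
  refine ⟨fun h => ⟨isLE_of_hasTorAmplitudeIn h, isTorGE_of_hasTorAmplitudeIn h⟩, ?_⟩
  rintro ⟨h1, h2⟩
  by_cases hab : a ≤ b
  · exact hasTorAmplitudeIn_of_isTorGE hab h2
  · have := h2.isGE
    exact hasTorAmplitudeIn_of_isZero (TStructure.t.isZero K b a (by omega)) a b

theorem hasTorAmplitudeIn_obj₃ (T : Triangle (Dual.D A)) (hT : T ∈ distTriang _) (a b : ℤ)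
    (h₁ : DRing.HasTorAmplitudeIn A (a + 1) (b + 1) T.obj₁)
    (h₂ : DRing.HasTorAmplitudeIn A a b T.obj₂) : DRing.HasTorAmplitudeIn A a b T.obj₃ := by
  rw [hasTorAmplitudeIn_iff'] at h₁ h₂ ⊢
  obtain ⟨l₁, t₁⟩ := h₁
  obtain ⟨l₂, t₂⟩ := h₂
  refine ⟨?_, IsTorGE.obj₃ T hT a t₁ t₂⟩
  have : (T.obj₁⟦(1 : ℤ)⟧).IsLE b := TStructure.t.isLE_shift T.obj₁ (b + 1) 1 b (by omega)
  exact TStructure.t.isLE₂ T.rotate (rot_of_distTriang _ hT) b l₂ this

theorem hasTorAmplitudeIn_obj₂ (T : Triangle (Dual.D A)) (hT : T ∈ distTriang _) (a b : ℤ)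
    (h₁ : DRing.HasTorAmplitudeIn A a b T.obj₁)
    (h₃ : DRing.HasTorAmplitudeIn A a b T.obj₃) : DRing.HasTorAmplitudeIn A a b T.obj₂ := by
  rw [hasTorAmplitudeIn_iff'] at h₁ h₃ ⊢
  obtain ⟨l₁, t₁⟩ := h₁
  obtain ⟨l₃, t₃⟩ := h₃
  exact ⟨TStructure.t.isLE₂ T hT b l₁ l₃, IsTorGE.obj₂ T hT a t₁ t₃⟩

theorem hasTorAmplitudeIn_obj₁ (T : Triangle (Dual.D A)) (hT : T ∈ distTriang _) (a b : ℤ)
    (h₂ : DRing.HasTorAmplitudeIn A (a + 1) (b + 1) T.obj₂)
    (h₃ : DRing.HasTorAmplitudeIn A a b T.obj₃) :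
    DRing.HasTorAmplitudeIn A (a + 1) (b + 1) T.obj₁ := by
  rw [hasTorAmplitudeIn_iff'] at h₂ h₃ ⊢
  obtain ⟨l₂, t₂⟩ := h₂
  obtain ⟨l₃, t₃⟩ := h₃
  refine ⟨?_, IsTorGE.obj₁ T hT a t₂ t₃⟩
  have : (T.obj₃⟦(-1 : ℤ)⟧).IsLE (b + 1) := TStructure.t.isLE_shift T.obj₃ b (-1) (b + 1) (by omega)
  exact TStructure.t.isLE₂ T.invRotate (inv_rot_of_distTriang _ hT) (b + 1) this l₂

end Groth.Agent.Helper3.DRingLib
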