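import Mathlib
import Groth.Prelude.Def_DRing2
import Groth.Agent.Helper3.DRingTor4
import Groth.Agent.Helper3.DRingPC5

/-! `IsTorGE` and retracts. -/

set_option autoImplicit false
universe u
open CategoryTheory CategoryTheory.Limits MonoidalCategory TensorProduct

namespace Groth.Agent.Helper3.DRingLib

attribute [local instance] HasDerivedCategory.standard

open Pretriangulated DerivedCategory ZeroObject CochainComplex

variable {A : Type u} [CommRing A]

theorem IsTorGE.of_retract {a : ℤ} {K Z : Dual.D A} (i : K ⟶ Z) (r : Z ⟶ K)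
    (hir : i ≫ r = 𝟙 K) (h : IsTorGE a Z) : IsTorGE a K := by
  obtain ⟨b, hb⟩ := h.exists_isLE
  have hKb : K.IsLE b := isLE_of_retract i r hir b
  obtain ⟨PK, vK, pK, ⟨eK⟩⟩ := exists_projective_rep K b
  obtain ⟨PZ, vZ, pZ, ⟨eZ⟩⟩ := exists_projective_rep Z b
  have fK : DRing.TermwiseFlat PK := fun i => by
    have := pK i
    infer_instance
  have fZ : DRing.TermwiseFlat PZ := fun i => by
    have := pZ i
    infer_instance
  have : PK.IsKProjective := isKProjective_of_vanishesAbove PK b vK pK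
  have : PZ.IsKProjective := isKProjective_of_vanishesAbove PZ b vZ pZ
  obtain ⟨ι, hι⟩ := exists_Q_map_eq PK PZ (eK.hom ≫ i ≫ eZ.inv)
  obtain ⟨ρ, hρ⟩ := exists_Q_map_eq PZ PK (eZ.hom ≫ r ≫ eK.inv)
  obtain ⟨hh⟩ := homotopy_of_Q_map_eq PK PK (ι ≫ ρ) (𝟙 PK) (by
    rw [Functor.map_comp, hι, hρ, CategoryTheory.Functor.map_id]
    simp only [Category.assoc, Iso.inv_hom_id_assoc]
    rw [← Category.assoc i r, hir, Category.id_comp, Iso.hom_inv_id])
  refine ⟨PK, b, vK, fK, ⟨eK⟩, fun N j hj => ?_⟩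
  have hh' : Homotopy ((tens N).map (ι ≫ ρ)) ((tens N).map (𝟙 PK)) :=
    (tensorRight N).mapHomotopy hh
  have e1 := Q_map_eq_of_homotopy _ _ hh'
  rw [Functor.map_comp, CategoryTheory.Functor.map_id, Functor.map_comp,
    CategoryTheory.Functor.map_id] at e1
  have hz : IsZero ((homologyFunctor (ModuleCat.{u} A) j).obj (DRing.toD ((tens N).obj PZ))) := by
    have := h.forall_rep PZ b vZ fZ eZ N j hj
    rw [HomologicalComplex.exactAt_iff_isZero_homology] at this
    exact this.of_iso (homologyToDIso _ j)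
  apply exactAt_of_isZero
  change IsZero ((homologyFunctor (ModuleCat.{u} A) j).obj (DRing.toD ((tens N).obj PK)))
  rw [IsZero.iff_id_eq_zero, ← CategoryTheory.Functor.map_id, ← e1, Functor.map_comp]
  rw [hz.eq_of_tgt ((homologyFunctor (ModuleCat.{u} A) j).map
    (DerivedCategory.Q.map ((tens N).map ι))) 0, zero_comp]

theorem hasTorAmplitudeIn_of_retract {a b : ℤ} {K Z : Dual.D A} (i : K ⟶ Z) (r : Z ⟶ K)
    (hir : i ≫ r = 𝟙 K) (h : DRing.HasTorAmplitudeIn A a b Z) :
    DRing.HasTorAmplitudeIn A a b K := by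
  rw [hasTorAmplitudeIn_iff'] at h ⊢
  obtain ⟨l, t⟩ := h
  exact ⟨isLE_of_retract i r hir b, t.of_retract i r hir⟩

end Groth.Agent.Helper3.DRingLib
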