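import Mathlib
import Groth.Prelude.Def_DRing2
import Groth.Agent.Helper3.DRingTor5
import Groth.Agent.Helper3.DRingPC3
import Groth.Agent.Helper3.DRingPeel2

/-! Pseudo-coherent complexes of finite tor dimension are perfect. -/

set_option autoImplicit false
universe u
open CategoryTheory CategoryTheory.Limits MonoidalCategory TensorProduct

namespace Groth.Agent.Helper3.DRingLib

attribute [local instance] HasDerivedCategory.standard

open Pretriangulated DerivedCategory ZeroObject CochainComplex

variable {A : Type u} [CommRing A]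

/-- a pseudo-coherent object of `D^{≤ b}` is represented by a complex of finite free modules
vanishing above `b`. -/
theorem exists_finiteFree_rep_of_isLE (K : Dual.D A) (b : ℤ) [K.IsLE b]
    (hK : ∀ m : ℤ, DRing.IsPseudoCoherent A m K) :
    ∃ E : DRing.Cx A, DRing.VanishesAbove E b ∧ DRing.TermwiseFiniteFree E ∧
      Nonempty (DRing.toD E ≅ K) := by
  let K' : DRing.Cx A := DerivedCategory.Q.objPreimage K
  let e : DRing.toD K' ≅ K := DerivedCategory.Q.objObjPreimageIso K
  have hb' : (DRing.toD K').IsLE b := TStructure.t.isLE_of_iso e.symm b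
  have hK' : ∀ m : ℤ, DRing.IsPseudoCoherent A m (DRing.toD K') :=
    fun m => isPseudoCoherent_of_iso e.symm (hK m)
  have := quasiIso_resα K' b hK' hb'
  have hiso : IsIso (DerivedCategory.Q.map (resα K' b hK' hb')) :=
    (DerivedCategory.isIso_Q_map_iff_quasiIso (ModuleCat.{u} A) _).mpr this
  exact ⟨resE K' b hK' hb', resE_vanishesAbove K' b hK' hb',
    resE_termwiseFiniteFree K' b hK' hb',
    ⟨asIso (DerivedCategory.Q.map (resα K' b hK' hb')) ≪≫ e⟩⟩

/-- A pseudo-coherent object of `D^{≤ b}` of tor-amplitude `≥ a` is represented by a complex of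
finite projective modules vanishing outside `[a, b]`, free in degrees `> a`. -/
theorem exists_finiteProjective_rep_of_isTorGE {a b : ℤ} (hab : a ≤ b) {K : Dual.D A} [K.IsLE b]
    (hK : ∀ m : ℤ, DRing.IsPseudoCoherent A m K) (h : IsTorGE a K) :
    ∃ E : DRing.Cx A, DRing.VanishesOutside E a b ∧ DRing.TermwiseFiniteProjective E ∧
      Nonempty (DRing.toD E ≅ K) := by
  obtain ⟨P, hP, ffP, ⟨e⟩⟩ := exists_finiteFree_rep_of_isLE K b hK
  have fP : DRing.TermwiseFlat P := fun i => by
    obtain ⟨h1, h2⟩ := ffP i
    infer_instance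
  have hex := h.forall_rep P b hP fP e
  have hGE : P.IsGE a := by
    rw [CochainComplex.isGE_iff]
    intro i hi
    exact exactAt_of_exactAt_tensorCx_unit P i (hex _ i hi)
  have hq : QuasiIso (P.πTruncGE a) := inferInstance
  have hiso : IsIso (DerivedCategory.Q.map (P.πTruncGE a)) :=
    (DerivedCategory.isIso_Q_map_iff_quasiIso (ModuleCat.{u} A) _).mpr hq
  have hflatC : Module.Flat A (P.X a ⧸ LinearMap.range (P.d (a - 1) a).hom) :=
    flat_coker_of_exactAt_tensorCx P a (fP a) (fun N => hex N (a - 1) (by omega))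
  have hfpC : Module.FinitePresentation A (P.X a ⧸ LinearMap.range (P.d (a - 1) a).hom) := by
    obtain ⟨h1, h2⟩ := ffP a
    obtain ⟨h3, h4⟩ := ffP (a - 1)
    have : Module.FinitePresentation A (P.X a) := Module.finitePresentation_of_projective _ _
    refine Module.finitePresentation_of_surjective (LinearMap.range (P.d (a - 1) a).hom).mkQ
      (Submodule.mkQ_surjective _) ?_
    rw [Submodule.ker_mkQ, LinearMap.range_eq_map]
    exact (Module.Finite.fg_top).map _
  have hprojC : Module.Projective A (P.X a ⧸ LinearMap.range (P.d (a - 1) a).hom) :=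
    Module.Flat.projective_of_finitePresentation
  refine ⟨P.truncGE a, ?_, ?_, ⟨(asIso (DerivedCategory.Q.map (P.πTruncGE a))).symm ≪≫ e⟩⟩
  · intro i hi
    rcases hi with hi | hi
    · exact (P.truncGE a).isZero_of_isStrictlyGE a i hi
    · exact (hP i hi).of_iso (P.truncGEXIso a i (by omega))
  · intro i
    by_cases h1 : i < a
    · have := ModuleCat.subsingleton_of_isZero ((P.truncGE a).isZero_of_isStrictlyGE a i h1)
      exact ⟨inferInstance, inferInstance⟩
    · by_cases h2 : i = a
      · subst h2
        let e1 := (P.truncGEXIsoOpcycles i) ≪≫ opcyclesIsoQuot P (i - 1) i (by omega)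
        exact ⟨Module.Finite.equiv e1.toLinearEquiv.symm,
          Module.Projective.of_equiv e1.toLinearEquiv.symm⟩
      · obtain ⟨h3, h4⟩ := ffP i
        let e2 := (P.truncGEXIso a i (by omega))
        exact ⟨Module.Finite.equiv e2.toLinearEquiv.symm,
          Module.Projective.of_equiv e2.toLinearEquiv.symm⟩

/-- Stacks 15.74.2: perfect = pseudo-coherent + finite tor dimension. -/
theorem isPerfect_iff_pc_and_torDim (K : Dual.D A) :
    DRing.IsPerfect A K ↔ DRing.IsPseudoCoherent' A K ∧ DRing.HasFiniteTorDimCx A K := by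
  constructor
  · rintro ⟨E, a, b, hv, hfp, ⟨e⟩⟩
    refine ⟨?_, a, b, E, hv, fun i => ?_, ⟨e⟩⟩
    · rw [isPseudoCoherent'_iff_forall]
      intro m
      exact isPseudoCoherent_of_iso e
        (isPseudoCoherent_of_termwiseFiniteProjective E b (fun i hi => hv i (Or.inr hi)) hfp m)
    · obtain ⟨h1, h2⟩ := hfp i
      infer_instance
  · rintro ⟨hpc, a, b, ht⟩
    rw [isPseudoCoherent'_iff_forall] at hpc
    rw [hasTorAmplitudeIn_iff'] at ht
    obtain ⟨l, t⟩ := ht
    by_cases hab : a ≤ b
    · obtain ⟨E, hv, hfp, he⟩ := exists_finiteProjective_rep_of_isTorGE hab hpc t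
      exact ⟨E, a, b, hv, hfp, he⟩
    · have := t.isGE
      exact isPerfect_of_isZero K (TStructure.t.isZero K b a (by omega))

end Groth.Agent.Helper3.DRingLib
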