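import Mathlib
import Groth.Prelude.Def_DRing2
import Groth.Agent.Helper3.DRingTor6

/-! Retracts of perfect objects; perfect amplitude. -/

set_option autoImplicit false
universe u
open CategoryTheory CategoryTheory.Limits MonoidalCategory TensorProduct

namespace Groth.Agent.Helper3.DRingLib

attribute [local instance] HasDerivedCategory.standard

open Pretriangulated DerivedCategory ZeroObject CochainComplex

variable {A : Type u} [CommRing A]

theorem isPseudoCoherent'_of_retract {K Z : Dual.D A} (i : K ⟶ Z) (r : Z ⟶ K)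
    (hir : i ≫ r = 𝟙 K) (h : DRing.IsPseudoCoherent' A Z) : DRing.IsPseudoCoherent' A K := by
  rw [isPseudoCoherent'_iff_forall] at h ⊢
  exact fun m => isPseudoCoherent_of_retract' m i r hir (h m)

theorem isPerfect_of_retract {K Z : Dual.D A} (i : K ⟶ Z) (r : Z ⟶ K)
    (hir : i ≫ r = 𝟙 K) (h : DRing.IsPerfect A Z) : DRing.IsPerfect A K := by
  rw [isPerfect_iff_pc_and_torDim] at h ⊢
  obtain ⟨h1, a, b, h2⟩ := h
  exact ⟨isPseudoCoherent'_of_retract i r hir h1, a, b, hasTorAmplitudeIn_of_retract i r hir h2⟩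

/-- Truncating a bounded above flat complex which is tensor-exact below `a` and finite
projective in degrees `≥ a - 1`. -/
theorem truncGE_finiteProjective (P : DRing.Cx A) (a b : ℤ) (hP : DRing.VanishesAbove P b)
    (fP : DRing.TermwiseFlat P)
    (hfin : ∀ i : ℤ, a - 1 ≤ i → Module.Finite A (P.X i) ∧ Module.Projective A (P.X i))
    (hex : ∀ (N : ModuleCat.{u} A) (i : ℤ), i < a → (DRing.tensorCx P N).ExactAt i) :
    ∃ E : DRing.Cx A, DRing.VanishesOutside E a b ∧ DRing.TermwiseFiniteProjective E ∧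
      Nonempty (DRing.toD E ≅ DRing.toD P) := by
  have hGE : P.IsGE a := by
    rw [CochainComplex.isGE_iff]
    intro i hi
    exact exactAt_of_exactAt_tensorCx_unit P i (hex _ i hi)
  have hq : QuasiIso (P.πTruncGE a) := inferInstance
  have hiso : IsIso (DerivedCategory.Q.map (P.πTruncGE a)) :=
    (DerivedCategory.isIso_Q_map_iff_quasiIso (ModuleCat.{u} A) _).mpr hq
  have hflatC : Module.Flat A (P.X a ⧸ LinearMap.range (P.d (a - 1) a).hom) :=
    flat_coker_of_exactAt_tensorCx P a (fP a) (fun N => hex N (a - 1) (by omega))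
  have hfpC : Module.FinitePresentation A (P.X a ⧸ LinearMap.range (P.d (a - 1) a).hom) := by
    obtain ⟨h1, h2⟩ := hfin a (by omega)
    obtain ⟨h3, h4⟩ := hfin (a - 1) le_rfl
    have : Module.FinitePresentation A (P.X a) := Module.finitePresentation_of_projective _ _
    refine Module.finitePresentation_of_surjective (LinearMap.range (P.d (a - 1) a).hom).mkQ
      (Submodule.mkQ_surjective _) ?_
    rw [Submodule.ker_mkQ, LinearMap.range_eq_map]
    exact (Module.Finite.fg_top).map _
  have hprojC : Module.Projective A (P.X a ⧸ LinearMap.range (P.d (a - 1) a).hom) :=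
    Module.Flat.projective_of_finitePresentation
  refine ⟨P.truncGE a, ?_, ?_, ⟨(asIso (DerivedCategory.Q.map (P.πTruncGE a))).symm⟩⟩
  · intro i hi
    rcases hi with hi | hi
    · exact (P.truncGE a).isZero_of_isStrictlyGE a i hi
    · by_cases hia : a < i
      · exact (hP i hi).of_iso (P.truncGEXIso a i hia)
      · by_cases hia' : i = a
        · subst hia'
          have hz : IsZero (P.X i) := hP i hi
          have := ModuleCat.subsingleton_of_isZero hz
          let e1 := (P.truncGEXIsoOpcycles i) ≪≫ opcyclesIsoQuot P (i - 1) i (by omega)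
          have : Subsingleton ((P.truncGE i).X i) := e1.toLinearEquiv.toEquiv.subsingleton
          exact ModuleCat.isZero_of_subsingleton _
        · exact (P.truncGE a).isZero_of_isStrictlyGE a i (by omega)
  · intro i
    by_cases h1 : i < a
    · have := ModuleCat.subsingleton_of_isZero ((P.truncGE a).isZero_of_isStrictlyGE a i h1)
      exact ⟨inferInstance, inferInstance⟩
    · by_cases h2 : i = a
      · subst h2
        let e1 := (P.truncGEXIsoOpcycles i) ≪≫ opcyclesIsoQuot P (i - 1) i (by omega)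
        exact ⟨Module.Finite.equiv e1.toLinearEquiv.symm,
          Module.Projective.of_equiv e1.toLinearEquiv.symm⟩
      · obtain ⟨h3, h4⟩ := hfin i (by omega)
        let e2 := (P.truncGEXIso a i (by omega))
        exact ⟨Module.Finite.equiv e2.toLinearEquiv.symm,
          Module.Projective.of_equiv e2.toLinearEquiv.symm⟩

/-- An `(m-1)`-pseudo-coherent object of tor-amplitude `≥ m` is perfect. -/
theorem isPerfect_of_pc_of_isTorGE {m : ℤ} {K : Dual.D A}
    (hpc : DRing.IsPseudoCoherent A (m - 1) K) (t : IsTorGE m K) : DRing.IsPerfect A K := by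
  obtain ⟨X, b, α, hX, hα⟩ := exists_normal_of_isPseudoCoherent hpc
  obtain ⟨E, hv, hff, ⟨eX⟩⟩ := hX
  obtain ⟨Y, f, h, hT⟩ := distinguished_cocone_triangle₁ α
  have hY1 : (Y⟦(1 : ℤ)⟧).IsLE (m - 1 - 1) :=
    (isApprox_iff_isLE _ (rot_of_distTriang _ hT) (m - 1)).mp hα
  have hY : Y.IsLE (m - 1) :=
    (TStructure.t.isLE_shift_iff Y (m - 1) 1 (m - 1 - 1) (by omega)).mp hY1
  obtain ⟨G, vG, pG, ⟨eG⟩⟩ := exists_projective_rep Y (m - 1)
  have : G.IsKProjective := isKProjective_of_vanishesAbove G (m - 1) vG pG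
  obtain ⟨φ, ⟨e₃⟩⟩ := exists_cone_iso (Triangle.mk f α h) hT G E eG eX
  have e₃' : DRing.toD (mappingCone φ) ≅ K := e₃
  obtain ⟨c, hc1, hc2⟩ : ∃ c : ℤ, b ≤ c ∧ m - 2 ≤ c := ⟨max b (m - 2), by omega, by omega⟩
  have vP : DRing.VanishesAbove (mappingCone φ) c :=
    cone_vanishesAbove φ c (fun i hi => vG i (by omega)) (fun i hi => hv i (Or.inr (by omega)))
  have fG : DRing.TermwiseFlat G := fun i => by
    have := pG i
    infer_instance
  have fE : DRing.TermwiseFlat E := fun i => by
    obtain ⟨h1, h2⟩ := hff i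
    infer_instance
  have fP : DRing.TermwiseFlat (mappingCone φ) := cone_termwiseFlat φ fG fE
  have hfin : ∀ i : ℤ, m - 1 ≤ i → Module.Finite A ((mappingCone φ).X i) ∧
      Module.Projective A ((mappingCone φ).X i) := by
    intro i hi
    have : Subsingleton (G.X (i + 1)) := ModuleCat.subsingleton_of_isZero (vG (i + 1) (by omega))
    obtain ⟨h1, h2⟩ := hff i
    exact ⟨Module.Finite.equiv (coneXEquiv φ i).symm,
      Module.Projective.of_equiv (coneXEquiv φ i).symm⟩
  obtain ⟨E', hv', hfp', ⟨e'⟩⟩ := truncGE_finiteProjective (mappingCone φ) m c vP fP hfin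
    (t.forall_rep (mappingCone φ) c vP fP e₃')
  exact ⟨E', m, c, hv', hfp', ⟨e' ≪≫ e₃'⟩⟩

/-- perfect amplitude: Stacks 0658-like. -/
theorem pc_and_torAmp_iff_finiteProjective (K : Dual.D A) (m n : ℤ) (hmn : m ≤ n) :
    (DRing.IsPseudoCoherent A (m - 1) K ∧ DRing.HasTorAmplitudeIn A m n K) ↔
      ∃ E : DRing.Cx A, DRing.VanishesOutside E m n ∧ DRing.TermwiseFiniteProjective E ∧
        Nonempty (DRing.toD E ≅ K) := by
  constructor
  · rintro ⟨hpc, ht⟩
    rw [hasTorAmplitudeIn_iff'] at ht
    obtain ⟨l, t⟩ := ht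
    have hperf := isPerfect_of_pc_of_isTorGE hpc t
    have hpc' := ((isPerfect_iff_pc_and_torDim K).mp hperf).1
    rw [isPseudoCoherent'_iff_forall] at hpc'
    exact exists_finiteProjective_rep_of_isTorGE hmn hpc' t
  · rintro ⟨E, hv, hfp, ⟨e⟩⟩
    refine ⟨isPseudoCoherent_of_iso e
      (isPseudoCoherent_of_termwiseFiniteProjective E n (fun i hi => hv i (Or.inr hi)) hfp _),
      E, hv, fun i => ?_, ⟨e⟩⟩
    obtain ⟨h1, h2⟩ := hfp i
    infer_instance

end Groth.Agent.Helper3.DRingLib
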