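import Mathlib
import Groth.Prelude.Def_DRing2
import Groth.Agent.Helper3.DRingTor7
import Groth.Agent.Helper3.DRingDev

/-! Graded dévissage; tor-amplitude from terms or from cohomology. -/

set_option autoImplicit false
universe u
open CategoryTheory CategoryTheory.Limits

namespace Groth.Agent.Helper3.DRingLib

attribute [local instance] HasDerivedCategory.standard

open Pretriangulated DerivedCategory ZeroObject

variable {A : Type u} [CommRing A]

/-- Graded dévissage: a property of objects of `D(A)` stable under isomorphisms and extensions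
and true for zero objects holds for every object with bounded cohomology as soon as it holds
for all `H^i(K)[-i]`. -/
theorem devissage_homology_graded (P : Dual.D A → Prop)
    (hiso : ∀ {K L : Dual.D A}, (K ≅ L) → P K → P L)
    (hzero : ∀ K : Dual.D A, IsZero K → P K)
    (hext : ∀ T : Triangle (Dual.D A), T ∈ distTriang _ → P T.obj₁ → P T.obj₃ → P T.obj₂)
    (n : ℕ) : ∀ (K : Dual.D A) (a : ℤ) [K.IsGE a] [K.IsLE (a + n)],
      (∀ i : ℤ, P ((Dual.inD A (Dual.HD A K i))⟦-i⟧)) → P K := by
  induction n with
  | zero =>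
    intro K a _ _ h
    have : K.IsLE a := by simpa using (inferInstance : K.IsLE (a + (0 : ℕ)))
    obtain ⟨e⟩ := exists_iso_single_HD K a
    exact hiso e.symm (h a)
  | succ n ih =>
    intro K a _ _ h
    set b : ℤ := a + (n + 1 : ℕ) with hb
    obtain ⟨X, Y, hX, hY, f, g, δ, hT⟩ := TStructure.t.exists_triangle K (b - 1) b (by omega)
    have iX : X.IsLE (b - 1) := ⟨hX⟩
    have iY : Y.IsGE b := ⟨hY⟩
    have iY' : (Triangle.mk f g δ).obj₃.IsGE ((b - 1) + 1) := by
      have : b - 1 + 1 = b := by omega
      rw [this]; exact iY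
    have iX' : (Triangle.mk f g δ).obj₁.IsLE (b - 1) := iX
    have iXa : X.IsGE a := by
      rw [DerivedCategory.isGE_iff]
      intro i hi
      have : IsIso ((homologyFunctor (ModuleCat.{u} A) i).map f) :=
        isIso_HD_mor₁ _ hT (b - 1) i (by omega)
      exact (K.isZero_of_isGE a i hi).of_iso (asIso ((homologyFunctor (ModuleCat.{u} A) i).map f))
    have iXn : X.IsLE (a + n) := by
      have : a + (n : ℤ) = b - 1 := by rw [hb]; push_cast; omega
      rw [this]; exact iX
    have iYb : Y.IsLE b := by
      rw [DerivedCategory.isLE_iff]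
      intro i hi
      have : IsIso ((homologyFunctor (ModuleCat.{u} A) i).map g) :=
        isIso_HD_mor₂ _ hT (b - 1) i (by omega)
      exact (K.isZero_of_isLE b i hi).of_iso
        (asIso ((homologyFunctor (ModuleCat.{u} A) i).map g)).symm
    have hPX : P X := by
      apply ih X a
      intro i
      by_cases hi : i ≤ b - 1
      · have : IsIso ((homologyFunctor (ModuleCat.{u} A) i).map f) :=
          isIso_HD_mor₁ _ hT (b - 1) i hi
        exact hiso ((shiftFunctor (Dual.D A) (-i)).mapIso
          ((singleFunctor (ModuleCat.{u} A) 0).mapIso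
          (asIso ((homologyFunctor (ModuleCat.{u} A) i).map f)).symm)) (h i)
      · have hz : IsZero ((homologyFunctor (ModuleCat.{u} A) i).obj X) :=
          X.isZero_of_isLE (b - 1) i (by omega)
        apply hzero
        exact Functor.map_isZero _ (Functor.map_isZero _ hz)
    have hPY : P Y := by
      obtain ⟨e⟩ := exists_iso_single_HD Y b
      have : IsIso ((homologyFunctor (ModuleCat.{u} A) b).map g) :=
        isIso_HD_mor₂ _ hT (b - 1) b (by omega)
      refine hiso e.symm ?_
      exact hiso ((shiftFunctor (Dual.D A) (-b)).mapIso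
        ((singleFunctor (ModuleCat.{u} A) 0).mapIso
        (asIso ((homologyFunctor (ModuleCat.{u} A) b).map g)))) (h b)
    exact hext _ hT hPX hPY

theorem devissage_homology_graded' (P : Dual.D A → Prop)
    (hiso : ∀ {K L : Dual.D A}, (K ≅ L) → P K → P L)
    (hzero : ∀ K : Dual.D A, IsZero K → P K)
    (hext : ∀ T : Triangle (Dual.D A), T ∈ distTriang _ → P T.obj₁ → P T.obj₃ → P T.obj₂)
    (K : Dual.D A) (hb : ∃ a b : ℤ, ∀ i : ℤ, (i < a ∨ b < i) → Subsingleton (Dual.HD A K i))
    (h : ∀ i : ℤ, P ((Dual.inD A (Dual.HD A K i))⟦-i⟧)) : P K := by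
  obtain ⟨a, b, hab⟩ := hb
  have i1 : K.IsGE a := isGE_of_HD K a (fun i hi => hab i (Or.inl hi))
  have i2 : K.IsLE (a + (b - a).toNat) := by
    apply isLE_of_HD
    intro i hi
    exact hab i (Or.inr (by omega))
  exact devissage_homology_graded P hiso hzero hext (b - a).toNat K a h

lemma hasTorAmplitudeIn_shift' {K : Dual.D A} (a b i : ℤ)
    (h : DRing.HasTorAmplitudeIn A (a - i) (b - i) K) :
    DRing.HasTorAmplitudeIn A a b (K⟦-i⟧) := by
  have := hasTorAmplitudeIn_shift (a - i) (b - i) (-i) h
  have h1 : a - i - -i = a := by omega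
  have h2 : b - i - -i = b := by omega
  rw [h1, h2] at this
  exact this

/-- Stacks 15.66.7-like: tor-amplitude from the terms of a bounded complex. -/
theorem hasTorAmplitudeIn_of_termwise (a b : ℤ) (K : DRing.Cx A) (c d : ℤ)
    (hcd : DRing.VanishesOutside K c d)
    (hK : ∀ i : ℤ, DRing.HasTorAmplitudeIn A (a - i) (b - i) (Dual.inD A (K.X i))) :
    DRing.HasTorAmplitudeIn A a b (DRing.toD K) := by
  refine induction_on_bounded' (DRing.HasTorAmplitudeIn A a b)
    (fun e h => hasTorAmplitudeIn_of_iso e a b h)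
    (fun _ h => hasTorAmplitudeIn_of_isZero h a b)
    (fun T hT h1 h3 => hasTorAmplitudeIn_obj₂ T hT a b h1 h3) K c d hcd (fun i => ?_)
  exact hasTorAmplitudeIn_of_iso (singleShiftIso (K.X i) i) a b
    (hasTorAmplitudeIn_shift' a b i (hK i))

/-- Stacks 15.66.9-like: tor-amplitude from the cohomology modules. -/
theorem hasTorAmplitudeIn_of_homology (a b : ℤ) (K : Dual.D A)
    (hb : ∃ c d : ℤ, ∀ i : ℤ, (i < c ∨ d < i) → Subsingleton (Dual.HD A K i))
    (hK : ∀ i : ℤ, DRing.HasTorAmplitudeIn A (a - i) (b - i) (Dual.inD A (Dual.HD A K i))) :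
    DRing.HasTorAmplitudeIn A a b K :=
  devissage_homology_graded' (DRing.HasTorAmplitudeIn A a b)
    (fun e h => hasTorAmplitudeIn_of_iso e a b h)
    (fun _ h => hasTorAmplitudeIn_of_isZero h a b)
    (fun T hT h1 h3 => hasTorAmplitudeIn_obj₂ T hT a b h1 h3) K hb
    (fun i => hasTorAmplitudeIn_shift' a b i (hK i))

end Groth.Agent.Helper3.DRingLib
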