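import Mathlib
import Groth.Prelude.Def_DRing2
import Groth.Prelude.Def_DDual2
import Groth.Agent.Helper3.DRingBC
import Groth.Agent.Helper3.DRingTor8

/-! Descent of tor-amplitude along jointly faithfully flat families. -/

set_option autoImplicit false
universe u
open CategoryTheory CategoryTheory.Limits TensorProduct MonoidalCategory

namespace Groth.Agent.Helper3.DRingLib

attribute [local instance] HasDerivedCategory.standard

open Pretriangulated DerivedCategory ZeroObject

section Single

variable {A : Type u} (B : Type u) [CommRing A] [CommRing B] [Algebra A B] [Module.Flat A B]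

lemma preservesHomology_bcF : (bcF A B).PreservesHomology := by
  have h1 : PreservesFiniteLimits (bcF A B) := inferInstance
  have h2 : PreservesFiniteColimits (bcF A B) := inferInstance
  have := ((Functor.exact_tfae (bcF A B)).out 3 2)
  exact this.mp ⟨h1, h2⟩

/-- Flat base change commutes with homology. -/
noncomputable def bcHomologyIso (K : DRing.Cx A) (p : ℤ) :
    ((bcCx A B).obj K).homology p ≅ (bcF A B).obj (K.homology p) :=
  haveI := preservesHomology_bcF (A := A) B
  (K.sc p).mapHomologyIso (bcF A B)

lemma bcCx_exactAt_iff (K : DRing.Cx A) (p : ℤ) :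
    ((bcCx A B).obj K).ExactAt p ↔ Subsingleton (B ⊗[A] (K.homology p)) := by
  rw [HomologicalComplex.exactAt_iff_isZero_homology, (bcHomologyIso B K p).isZero_iff]
  constructor
  · intro h
    have := ModuleCat.subsingleton_of_isZero h
    exact (extendScalarsEquiv (B := B) (K.homology p)).symm.toEquiv.subsingleton
  · intro h
    have : Subsingleton ((bcF A B).obj (K.homology p)) :=
      (extendScalarsEquiv (B := B) (K.homology p)).toEquiv.subsingleton
    exact ModuleCat.isZero_of_subsingleton _

/-- compatibility of base change with termwise tensor products. -/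
noncomputable def bcCxTensorIso (P : DRing.Cx A) (N : ModuleCat.{u} A) :
    DRing.tensorCx ((bcCx A B).obj P) ((bcF A B).obj N) ≅ (bcCx A B).obj (DRing.tensorCx P N) :=
  HomologicalComplex.Hom.isoOfComponents
    (fun i => Functor.Monoidal.μIso (bcF A B) (P.X i) N)
    (fun i j _ => (Functor.LaxMonoidal.μ_natural_left (bcF A B) (P.d i j) N).symm)

end Single

section Family

variable (A : Type u) [CommRing A] {J : Type*} (B : J → Type u) [∀ j, CommRing (B j)]
  [∀ j, Algebra A (B j)] [∀ j, Module.Flat A (B j)]

/-- the family `B j` is jointly faithful. -/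
def JointlyFaithful : Prop :=
  ∀ (M : Type u) [AddCommGroup M] [Module A M], (∀ j, Subsingleton (B j ⊗[A] M)) → Subsingleton M

variable {A B}

lemma exactAt_of_forall_bcCx (hB : JointlyFaithful A B) (K : DRing.Cx A) (p : ℤ)
    (h : ∀ j, ((bcCx A (B j)).obj K).ExactAt p) : K.ExactAt p := by
  rw [HomologicalComplex.exactAt_iff_isZero_homology]
  have := hB (K.homology p) (fun j => (bcCx_exactAt_iff (B j) K p).mp (h j))
  exact ModuleCat.isZero_of_subsingleton _

lemma isLE_of_forall_bcCx (hB : JointlyFaithful A B) (K : DRing.Cx A) (b : ℤ)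
    (h : ∀ j, (DRing.toD ((bcCx A (B j)).obj K)).IsLE b) : (DRing.toD K).IsLE b := by
  have : K.IsLE b := by
    rw [CochainComplex.isLE_iff]
    intro i hi
    apply exactAt_of_forall_bcCx hB K i
    intro j
    have := h j
    exact exactAt_of_isZero _ i ((DRing.toD ((bcCx A (B j)).obj K)).isZero_of_isLE b i hi)
  infer_instance

/-- descent of the lower tor-amplitude bound. -/
theorem isTorGE_of_forall_bcCx (hB : JointlyFaithful A B) (K : DRing.Cx A) (a b : ℤ)
    (hb : (DRing.toD K).IsLE b)
    (h : ∀ j, IsTorGE a (DRing.toD ((bcCx A (B j)).obj K))) : IsTorGE a (DRing.toD K) := by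
  obtain ⟨P, α, vP, pP, hα⟩ := exists_projective_resolution K b hb
  have fP : DRing.TermwiseFlat P := fun i => by
    have := pP i
    infer_instance
  have hiso : IsIso (DerivedCategory.Q.map α) :=
    (DerivedCategory.isIso_Q_map_iff_quasiIso (ModuleCat.{u} A) _).mpr hα
  refine ⟨P, b, vP, fP, ⟨asIso (DerivedCategory.Q.map α)⟩, fun N i hi => ?_⟩
  apply exactAt_of_forall_bcCx hB
  intro j
  -- base change of the resolution
  have e1 : DRing.toD ((bcCx A (B j)).obj P) ≅ DRing.toD ((bcCx A (B j)).obj K) :=
    (bcDToD (B j) P).symm ≪≫ (bcD A (B j)).mapIso (asIso (DerivedCategory.Q.map α)) ≪≫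
      bcDToD (B j) K
  have h1 := (h j).forall_rep ((bcCx A (B j)).obj P) b (bcCx_vanishesAbove (B j) P b vP)
    (bcCx_termwiseFlat (B j) P fP) e1 ((bcF A (B j)).obj N) i hi
  have e2 := bcCxTensorIso (B j) P N
  rw [HomologicalComplex.exactAt_iff_isZero_homology] at h1 ⊢
  exact h1.of_iso ((HomologicalComplex.homologyFunctor _ _ i).mapIso e2).symm

theorem hasTorAmplitudeIn_of_forall_bcCx (hB : JointlyFaithful A B) (K : DRing.Cx A) (a b : ℤ)
    (h : ∀ j, DRing.HasTorAmplitudeIn (B j) a b (DRing.toD ((bcCx A (B j)).obj K))) :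
    DRing.HasTorAmplitudeIn A a b (DRing.toD K) := by
  rw [hasTorAmplitudeIn_iff']
  have hb : (DRing.toD K).IsLE b :=
    isLE_of_forall_bcCx hB K b (fun j => ((hasTorAmplitudeIn_iff' a b _).mp (h j)).1)
  exact ⟨hb, isTorGE_of_forall_bcCx hB K a b hb
    (fun j => ((hasTorAmplitudeIn_iff' a b _).mp (h j)).2)⟩

end Family

section Instances

variable {A : Type u} [CommRing A]

lemma jointlyFaithful_of_faithfullyFlat (B : Type u) [CommRing B] [Algebra A B]
    [Module.FaithfullyFlat A B] : JointlyFaithful A (fun _ : Unit => B) := by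
  intro M _ _ h
  exact (Module.FaithfullyFlat.subsingleton_tensorProduct_iff_right A B).mp (h ())

lemma jointlyFaithful_away {r : ℕ} (f : Fin r → A) (hf : Ideal.span (Set.range f) = ⊤) :
    JointlyFaithful A (fun i : Fin r => Localization.Away (f i)) := by
  intro M _ _ h
  refine ⟨fun x y => ?_⟩
  suffices hz : ∀ m : M, m = 0 by rw [hz x, hz y]
  intro m
  have : m ∈ (⊥ : Submodule A M) := by
    apply Submodule.mem_of_span_eq_top_of_smul_pow_mem _ (Set.range f) hf
    rintro ⟨_, i, rfl⟩
    have h0 : TensorProduct.mk A (Localization.Away (f i)) M 1 m = 0 := by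
      have := h i
      exact Subsingleton.elim _ _
    obtain ⟨⟨_, n, rfl⟩, hc⟩ := (IsLocalizedModule.eq_zero_iff (Submonoid.powers (f i))
      (TensorProduct.mk A (Localization.Away (f i)) M 1)).mp h0
    refine ⟨n, ?_⟩
    have hc' : (f i ^ n) • m = 0 := hc
    simp [hc']
  simpa using this

end Instances

end Groth.Agent.Helper3.DRingLib
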