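import Mathlib
import Groth.Prelude.Def_DRing2
import Groth.Prelude.Def_DDual2
import Groth.Agent.Helper3.DRingBC2
import Groth.Agent.Helper3.DRingPC5

/-! Descent of pseudo-coherence and perfectness along jointly faithfully flat families. -/

set_option autoImplicit false
universe u
open CategoryTheory CategoryTheory.Limits TensorProduct MonoidalCategory

namespace Groth.Agent.Helper3.DRingLib

attribute [local instance] HasDerivedCategory.standard

open Pretriangulated DerivedCategory ZeroObject

section Single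

variable {A : Type u} (B : Type u) [CommRing A] [CommRing B] [Algebra A B] [Module.Flat A B]

/-- `H^p(bcD K) ≅ B ⊗ H^p(K)` as `B`-modules. -/
lemma nonempty_HD_bcD_equiv (K : Dual.D A) (p : ℤ) :
    Nonempty (Dual.HD B ((bcD A B).obj K) p ≃ₗ[B] B ⊗[A] (Dual.HD A K p)) := by
  let K' : DRing.Cx A := DerivedCategory.Q.objPreimage K
  let e : DRing.toD K' ≅ K := DerivedCategory.Q.objObjPreimageIso K
  let e1 : (homologyFunctor (ModuleCat.{u} B) p).obj ((bcD A B).obj K) ≅
      (bcF A B).obj (K'.homology p) :=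
    (homologyFunctor (ModuleCat.{u} B) p).mapIso ((bcD A B).mapIso e.symm ≪≫ bcDToD B K') ≪≫
      homologyToDIso _ p ≪≫ bcHomologyIso B K' p
  let e2 : K'.homology p ≅ (homologyFunctor (ModuleCat.{u} A) p).obj K :=
    (homologyToDIso K' p).symm ≪≫ (homologyFunctor (ModuleCat.{u} A) p).mapIso e
  exact ⟨e1.toLinearEquiv ≪≫ₗ extendScalarsEquiv (B := B) (K'.homology p) ≪≫ₗ
    (TensorProduct.AlgebraTensorModule.congr (LinearEquiv.refl B B) e2.toLinearEquiv)⟩

end Single

section Family

variable (A : Type u) [CommRing A] {J : Type*} (B : J → Type u) [∀ j, CommRing (B j)]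
  [∀ j, Algebra A (B j)] [∀ j, Module.Flat A (B j)]

/-- finiteness descends along the family. -/
def JointlyFinite : Prop :=
  ∀ (M : Type u) [AddCommGroup M] [Module A M],
    (∀ j, Module.Finite (B j) (B j ⊗[A] M)) → Module.Finite A M

variable {A B}

lemma isLE_of_forall_bcD (hB : JointlyFaithful A B) (K : Dual.D A) (b : ℤ)
    (h : ∀ j, ((bcD A (B j)).obj K).IsLE b) : K.IsLE b := by
  apply isLE_of_HD
  intro i hi
  apply hB
  intro j
  obtain ⟨e⟩ := nonempty_HD_bcD_equiv (B j) K i
  have := h j
  have := subsingleton_HD_of_isLE ((bcD A (B j)).obj K) b i hi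
  exact e.symm.toEquiv.subsingleton

theorem isPseudoCoherent_of_forall_bcD_aux (hF : JointlyFinite A B)
    (m : ℤ) (n : ℕ) : ∀ (K : Dual.D A) (b : ℤ), K.IsLE b → b < m + n →
    (∀ j, DRing.IsPseudoCoherent (B j) m ((bcD A (B j)).obj K)) →
    DRing.IsPseudoCoherent A m K := by
  induction n with
  | zero =>
    intro K b hb hbm _
    have : K.IsLE (m - 1) := TStructure.t.isLE_of_le _ b (m - 1) (by simp at hbm; omega)
    exact isPseudoCoherent_of_isLE _ m
  | succ n ih =>
    intro K b hb hbm h
    by_cases hbm' : b < m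
    · have : K.IsLE (m - 1) := TStructure.t.isLE_of_le _ b (m - 1) (by omega)
      exact isPseudoCoherent_of_isLE _ m
    have hfin : Module.Finite A (Dual.HD A K b) := by
      apply hF
      intro j
      obtain ⟨e⟩ := nonempty_HD_bcD_equiv (B j) K b
      have : ((bcD A (B j)).obj K).IsLE b := bcD_isLE (B j) K b
      have := finite_HD_of_isPseudoCoherent ((bcD A (B j)).obj K) b
        (isPseudoCoherent_of_le (by omega) (h j))
      exact Module.Finite.equiv e
    obtain ⟨X, α, hX, hα⟩ := exists_single_approx' K b hfin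
    obtain ⟨K₁, p, d, hT⟩ := distinguished_cocone_triangle α
    have hK₁ : K₁.IsLE (b - 1) := (isApprox_iff_isLE _ hT b).mp hα
    have hK₁pc : DRing.IsPseudoCoherent A m K₁ := by
      apply ih K₁ (b - 1) hK₁ (by push_cast at hbm; omega)
      intro j
      have hT' := (bcD A (B j)).map_distinguished _ hT
      exact isPseudoCoherent_obj₃ _ hT' m
        (isPseudoCoherent_of_isBFF (bcD_isBFF (B j) hX) (m + 1)) (h j)
    exact isPseudoCoherent_obj₂ _ hT m (isPseudoCoherent_of_isBFF hX m) hK₁pc

theorem isPseudoCoherent_of_forall_bcD [Finite J] (hB : JointlyFaithful A B)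
    (hF : JointlyFinite A B) (m : ℤ) (K : Dual.D A)
    (h : ∀ j, DRing.IsPseudoCoherent (B j) m ((bcD A (B j)).obj K)) :
    DRing.IsPseudoCoherent A m K := by
  choose bj hbj using fun j => exists_isLE_of_isPseudoCoherent (h j)
  obtain ⟨b, hb⟩ := Finite.exists_le bj
  have hKb : K.IsLE b := by
    apply isLE_of_forall_bcD hB
    intro j
    have := hbj j
    exact TStructure.t.isLE_of_le _ (bj j) b (hb j)
  exact isPseudoCoherent_of_forall_bcD_aux hF m (b - m + 1).toNat K b hKb (by omega) h

theorem isPseudoCoherent_of_forall_bcCx [Finite J] (hB : JointlyFaithful A B)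
    (hF : JointlyFinite A B) (m : ℤ) (K : DRing.Cx A)
    (h : ∀ j, DRing.IsPseudoCoherent (B j) m (DRing.toD ((bcCx A (B j)).obj K))) :
    DRing.IsPseudoCoherent A m (DRing.toD K) :=
  isPseudoCoherent_of_forall_bcD hB hF m _
    (fun j => isPseudoCoherent_of_iso (bcDToD (B j) K).symm (h j))

end Family

section Instances

variable {A : Type u} [CommRing A]

lemma jointlyFinite_of_faithfullyFlat (B : Type u) [CommRing B] [Algebra A B]
    [Module.FaithfullyFlat A B] : JointlyFinite A (fun _ : Unit => B) := by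
  intro M _ _ h
  have := h ()
  exact Module.Finite.of_finite_tensorProduct_of_faithfullyFlat B

lemma jointlyFinite_away {r : ℕ} (f : Fin r → A) (hf : Ideal.span (Set.range f) = ⊤) :
    JointlyFinite A (fun i : Fin r => Localization.Away (f i)) := by
  intro M _ _ h
  refine Module.Finite.of_localizationSpan' (Set.range f) hf
    (Mₚ := fun g => Localization.Away g.val ⊗[A] M)
    (Rₚ := fun g => Localization.Away g.val)
    (fun g => TensorProduct.mk A (Localization.Away g.val) M 1) ?_
  rintro ⟨_, i, rfl⟩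
  exact h i

end Instances

section Perfect

variable {A : Type u} [CommRing A] {J : Type*} {B : J → Type u} [∀ j, CommRing (B j)]
  [∀ j, Algebra A (B j)] [∀ j, Module.Flat A (B j)]

lemma hasTorAmplitudeIn_mono {R : Type u} [CommRing R] {a b a' b' : ℤ} {K : Dual.D R}
    (ha : a' ≤ a) (hb : b ≤ b') (h : DRing.HasTorAmplitudeIn R a b K) :
    DRing.HasTorAmplitudeIn R a' b' K := by
  obtain ⟨E, hv, hf, he⟩ := h
  exact ⟨E, vanishesOutside_mono E ha hb hv, hf, he⟩

theorem isPerfect_of_forall_bcCx [Finite J] (hB : JointlyFaithful A B)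
    (hF : JointlyFinite A B) (K : DRing.Cx A)
    (h : ∀ j, DRing.IsPerfect (B j) (DRing.toD ((bcCx A (B j)).obj K))) :
    DRing.IsPerfect A (DRing.toD K) := by
  rw [isPerfect_iff_pc_and_torDim]
  have h' := fun j => (isPerfect_iff_pc_and_torDim _).mp (h j)
  constructor
  · rw [isPseudoCoherent'_iff_forall]
    intro m
    exact isPseudoCoherent_of_forall_bcCx hB hF m K
      (fun j => (isPseudoCoherent'_iff_forall _).mp (h' j).1 m)
  · choose aj bj hab using fun j => (h' j).2
    obtain ⟨b, hb⟩ := Finite.exists_le bj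
    obtain ⟨a, ha⟩ := Finite.exists_ge aj
    exact ⟨a, b, hasTorAmplitudeIn_of_forall_bcCx hB K a b
      (fun j => hasTorAmplitudeIn_mono (ha j) (hb j) (hab j))⟩

end Perfect

end Groth.Agent.Helper3.DRingLib
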