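import Mathlib
import Groth.Prelude.Def_ega3
import Groth.Agent.Lead.KoszulFunB
import Groth.Agent.Lead.KoszulFunC

set_option autoImplicit false
set_option linter.style.haveILetI false
set_option linter.unusedSectionVars false
set_option linter.unusedVariables false
set_option linter.style.haveILetI false
set_option linter.unusedSectionVars false
set_option linter.unusedVariables false

/-!
# The functor `X ↦ X ⊗[R] N` on `S`-modules, for an `R`-algebra `S`
-/

namespace Groth.Agent.Helper3.KzRelA
open CategoryTheory MonoidalCategory TensorProduct Limits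

universe u
variable (R S : Type u) [CommRing R] [CommRing S] [Algebra R S]

/-- the `R`-module structure on an `S`-module -/
@[reducible] def modR (X : ModuleCat.{u} S) : Module R X := Module.compHom X (algebraMap R S)

attribute [local instance] modR

lemma tower (X : ModuleCat.{u} S) : IsScalarTower R S X :=
  ⟨fun r s x => by
    show (r • s) • x = algebraMap R S r • (s • x)
    rw [Algebra.smul_def, mul_smul]⟩

attribute [local instance] tower

variable (N : Type u) [AddCommGroup N] [Module R N]

/-- `X ↦ X ⊗[R] N` with `S` acting on the left factor -/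
noncomputable def G : ModuleCat.{u} S ⥤ ModuleCat.{u} S where
  obj X := ModuleCat.of S (X ⊗[R] N)
  map f := ModuleCat.ofHom (TensorProduct.AlgebraTensorModule.map f.hom LinearMap.id)
  map_id X := by
    ext : 1
    exact TensorProduct.AlgebraTensorModule.map_id
  map_comp f g := by
    ext : 1
    apply TensorProduct.AlgebraTensorModule.ext
    intro x n
    rfl


instance : (G R S N).Additive where
  map_add {X Y f g} := by
    ext : 1
    apply TensorProduct.AlgebraTensorModule.ext
    intro x n
    show (f.hom + g.hom) x ⊗ₜ[R] n = f.hom x ⊗ₜ[R] n + g.hom x ⊗ₜ[R] n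
    rw [LinearMap.add_apply, TensorProduct.add_tmul]

open Groth.Agent.Lead.KoszulFunB in
lemma compat_G (s : S) : Compat (G R S N) s s := by
  intro X
  ext : 1
  apply TensorProduct.AlgebraTensorModule.ext
  intro x n
  rfl

open Groth.Agent.Lead.KoszulFunB in
lemma forall₂_G (l : List S) : List.Forall₂ (Compat (G R S N)) l l := by
  induction l with
  | nil => exact List.Forall₂.nil
  | cons a l ih => exact List.Forall₂.cons (compat_G R S N a) ih

/-- restriction of `X ⊗[R] N` to `R` is the tensor product of the restriction -/
noncomputable def resIso (X : ModuleCat.{u} S) :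
    (ModuleCat.restrictScalars (algebraMap R S)).obj ((G R S N).obj X) ≅
      (ModuleCat.restrictScalars (algebraMap R S)).obj X ⊗ ModuleCat.of R N :=
  LinearEquiv.toModuleIso
    { toFun := fun t => t
      invFun := fun t => t
      left_inv := fun _ => rfl
      right_inv := fun _ => rfl
      map_add' := fun _ _ => rfl
      map_smul' := fun r t => by
        show algebraMap R S r • (t : X ⊗[R] N) = r • (t : X ⊗[R] N)
        exact IsScalarTower.algebraMap_smul S r t }


lemma resIso_naturality {X Y : ModuleCat.{u} S} (f : X ⟶ Y) :
    (ModuleCat.restrictScalars (algebraMap R S)).map ((G R S N).map f) ≫ (resIso R S N Y).hom =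
      (resIso R S N X).hom ≫
        ((ModuleCat.restrictScalars (algebraMap R S)).map f ▷ ModuleCat.of R N) := by
  ext t
  show (TensorProduct.AlgebraTensorModule.map f.hom LinearMap.id) (t : X ⊗[R] N) =
    (LinearMap.rTensor N (((ModuleCat.restrictScalars (algebraMap R S)).map f).hom)) t
  induction t using TensorProduct.induction_on with
  | zero =>
    exact (map_zero (TensorProduct.AlgebraTensorModule.map f.hom LinearMap.id)).trans
      (map_zero (LinearMap.rTensor N
        (((ModuleCat.restrictScalars (algebraMap R S)).map f).hom))).symm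
  | tmul x n => rfl
  | add a b ha hb =>
    exact (map_add (TensorProduct.AlgebraTensorModule.map f.hom LinearMap.id) a b).trans
      ((congrArg₂ (· + ·) ha hb).trans
        (map_add (LinearMap.rTensor N
          (((ModuleCat.restrictScalars (algebraMap R S)).map f).hom)) a b).symm)

/-- dictionary: restriction of the complex `K ⊗[R] N` is the tensored restriction -/
noncomputable def dict {ι : Type} {c : ComplexShape ι} (K : HomologicalComplex (ModuleCat.{u} S) c) :
    ((ModuleCat.restrictScalars (algebraMap R S)).mapHomologicalComplex c).obj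
      (((G R S N).mapHomologicalComplex c).obj K) ≅
    CohIII.tensorObj (((ModuleCat.restrictScalars (algebraMap R S)).mapHomologicalComplex c).obj K)
      (ModuleCat.of R N) :=
  HomologicalComplex.Hom.isoOfComponents (fun i => resIso R S N (K.X i))
    (fun i j _ => (resIso_naturality R S N (K.d i j)).symm)


lemma bridge_aux (m : Unit → Module R S) (t : @IsScalarTower R S S _ _ (m ()).toSMul)
    (h : m () = Algebra.toModule) :
    Nonempty ((letI := m (); haveI := t; ModuleCat.of S (S ⊗[R] N)) ≅ ModuleCat.of S (S ⊗[R] N)) := by
  obtain ⟨m', hm'⟩ : ∃ m' : Module R S, m' = m () := ⟨_, rfl⟩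
  revert t
  rw [← hm'] at h ⊢
  subst h
  intro t
  exact ⟨Iso.refl _⟩

/-- the value of `G` on the ring itself, with the standard instances -/
lemma nonempty_bridge : Nonempty ((G R S N).obj (ModuleCat.of S S) ≅ ModuleCat.of S (S ⊗[R] N)) := by
  refine bridge_aux R S N (fun _ => modR R S (ModuleCat.of S S)) (tower R S (ModuleCat.of S S)) ?_
  refine Module.ext' _ _ ?_
  intro r x
  exact (Algebra.smul_def r x).symm

open Groth.Agent.Lead.KoszulFunB Groth.Agent.Lead.KoszulFunC CohIII in
/-- dictionary for Koszul complexes: `K(S; l)|_R ⊗[R] N ≅ K(S ⊗[R] N; l)|_R` -/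
theorem nonempty_koszul_dict (l : List S) :
    Nonempty (((ModuleCat.restrictScalars (algebraMap R S)).mapHomologicalComplex
        (ComplexShape.up ℤ)).obj (koszulCx (ModuleCat.of S (S ⊗[R] N)) l) ≅
      CohIII.tensorObj (((ModuleCat.restrictScalars (algebraMap R S)).mapHomologicalComplex
        (ComplexShape.up ℤ)).obj (koszulCx (ModuleCat.of S S) l)) (ModuleCat.of R N)) := by
  obtain ⟨e⟩ := nonempty_map_koszulCx_iso (F := G R S N) l l (forall₂_G R S N l)
    (ModuleCat.of S S)
  obtain ⟨b⟩ := nonempty_bridge R S N
  have e2 := e ≪≫ kIso b l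
  exact ⟨(((ModuleCat.restrictScalars (algebraMap R S)).mapHomologicalComplex
    (ComplexShape.up ℤ)).mapIso e2).symm ≪≫ dict R S N (koszulCx (ModuleCat.of S S) l)⟩

end Groth.Agent.Helper3.KzRelA
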