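import Mathlib
import Groth.Prelude.Def_ega3
import Groth.Agent.Helper1.TorFlat
import Groth.Agent.Helper1.FlatCxBC2
import Groth.Agent.Helper3.DRingCone

set_option autoImplicit false
set_option linter.style.haveILetI false
set_option linter.unusedSectionVars false
set_option linter.unusedVariables false
set_option linter.style.haveILetI false
set_option linter.unusedSectionVars false
set_option linter.unusedVariables false

/-!
# Complexes of flat modules concentrated in degrees `≤ 0`: tensor-exactness and the
nilpotent lifting criterion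
-/

namespace Groth.Agent.Helper3.KzRelB
open CategoryTheory MonoidalCategory Limits Groth.Agent.Helper1.FlatCx Groth.Agent.Helper1.TorLib

universe u
variable {R : Type u} [CommRing R] (P : CochainComplex (ModuleCat.{u} R) ℤ)

section LemmaT
variable (hP : ∀ i, Module.Flat R (P.X i)) (hex : ∀ i : ℤ, i < 0 → P.ExactAt i)
  (h0 : Module.Flat R (P.opcycles 0))

include hP hex h0 in
lemma flat_opcycles_neg (n : ℕ) : Module.Flat R (P.opcycles (-(n : ℤ))) := by
  induction n with
  | zero => simpa using h0
  | succ n ih =>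
    refine flat_opcycles_of_exactAt P (-((n + 1 : ℕ) : ℤ)) (-(n : ℤ)) ?_ (hP _) ih (hex _ ?_)
    · show -((n + 1 : ℕ) : ℤ) + 1 = -(n : ℤ)
      push_cast
      ring
    · push_cast
      omega

include hP hex h0 in
/-- a complex of flat modules which is a resolution of a flat module stays exact after any
tensor product -/
theorem isZero_T (i : ℤ) (hi : i < 0) (M : ModuleCat.{u} R) :
    IsZero ((CohIII.TFun P i).obj M) := by
  obtain ⟨n, rfl⟩ : ∃ n : ℕ, i = -((n + 1 : ℕ) : ℤ) := ⟨(-i - 1).toNat, by omega⟩
  refine isZero_T_of_flat_opcycles P (-((n + 1 : ℕ) : ℤ)) (-(n : ℤ)) ?_ (hP _)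
    (flat_opcycles_neg P hP hex h0 n) (hex _ hi) M
  show -((n + 1 : ℕ) : ℤ) + 1 = -(n : ℤ)
  push_cast
  ring

end LemmaT


section Nilpotent
variable {A : Type u} [CommRing A] (J : Ideal A) (P : CochainComplex (ModuleCat.{u} A) ℤ)

/-- the module is killed by the ideal -/
def KilledBy (I : Ideal A) (N : ModuleCat.{u} A) : Prop := ∀ a ∈ I, ∀ n : N, a • n = 0

variable (hP : ∀ i, Module.Flat A (P.X i))

/-- the short exact sequence `0 → JN → N → N/JN → 0` -/
noncomputable def sesJ (N : ModuleCat.{u} A) : ShortComplex (ModuleCat.{u} A) :=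
  ShortComplex.mk (ModuleCat.ofHom (J • (⊤ : Submodule A N)).subtype)
    (ModuleCat.ofHom (J • (⊤ : Submodule A N)).mkQ) (by
      ext x
      exact (Submodule.Quotient.mk_eq_zero _).2 x.2)

lemma sesJ_shortExact (N : ModuleCat.{u} A) : (sesJ J N).ShortExact := by
  haveI : Mono (sesJ J N).f :=
    (ModuleCat.mono_iff_injective _).2 (J • (⊤ : Submodule A N)).injective_subtype
  haveI : Epi (sesJ J N).g :=
    (ModuleCat.epi_iff_surjective _).2 (J • (⊤ : Submodule A N)).mkQ_surjective
  refine ShortComplex.ShortExact.mk' ?_ inferInstance inferInstance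
  rw [ShortComplex.moduleCat_exact_iff_range_eq_ker]
  show LinearMap.range (J • (⊤ : Submodule A N)).subtype = LinearMap.ker (J • (⊤ : Submodule A N)).mkQ
  rw [Submodule.range_subtype, Submodule.ker_mkQ]

include hP in
lemma isZero_T_of_killedBy_pow
    (h1 : ∀ N : ModuleCat.{u} A, KilledBy J N → ∀ i : ℤ, i < 0 → IsZero ((CohIII.TFun P i).obj N)) :
    ∀ (k : ℕ) (N : ModuleCat.{u} A), KilledBy (J ^ k) N → ∀ i : ℤ, i < 0 →
      IsZero ((CohIII.TFun P i).obj N) := by
  intro k
  induction k with
  | zero =>
    intro N hN i hi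
    have hz : IsZero N := by
      haveI : Subsingleton N := ⟨fun x y => by
        have hx := hN 1 (by rw [pow_zero, Ideal.one_eq_top]; exact Submodule.mem_top) x
        have hy := hN 1 (by rw [pow_zero, Ideal.one_eq_top]; exact Submodule.mem_top) y
        rw [one_smul] at hx hy
        rw [hx, hy]⟩
      exact ModuleCat.isZero_of_subsingleton N
    exact (CohIII.TFun P i).map_isZero hz
  | succ k ih =>
    intro N hN i hi
    have hS := sesJ_shortExact J N
    have hex := exact₂ P hP hS i
    have hk1 : KilledBy (J ^ k) (sesJ J N).X₁ := by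
      intro a ha (x : ↥(J • (⊤ : Submodule A N)))
      show a • x = 0
      apply Subtype.ext
      show a • (x : N) = 0
      have hx : (x : N) ∈ J • (⊤ : Submodule A N) := x.2
      refine Submodule.smul_induction_on hx ?_ ?_
      · intro r hr n _
        rw [smul_smul]
        exact hN _ (by rw [pow_succ]; exact Ideal.mul_mem_mul ha hr) n
      · intro x y hx hy
        rw [smul_add, hx, hy, add_zero]
    have hk2 : KilledBy J (sesJ J N).X₃ := by
      intro a ha (x : N ⧸ J • (⊤ : Submodule A N))
      show a • x = 0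
      obtain ⟨n, rfl⟩ := Submodule.Quotient.mk_surjective _ x
      rw [← Submodule.Quotient.mk_smul, Submodule.Quotient.mk_eq_zero]
      exact Submodule.smul_mem_smul ha Submodule.mem_top
    have z1 := ih _ hk1 i hi
    have z3 := h1 _ hk2 i hi
    exact hex.isZero_of_both_zeros (z1.eq_of_src _ _) (z3.eq_of_tgt _ _)

include hP in
/-- nilpotent lifting criterion: if `P ⊗ N` is exact in negative degrees for all `N` killed by the
nilpotent ideal `J`, then `P` is exact in negative degrees and `H⁰(P)` is flat -/
theorem main (hJ : IsNilpotent J) (hb : ∀ i : ℤ, 0 < i → IsZero (P.X i))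
    (h1 : ∀ N : ModuleCat.{u} A, KilledBy J N → ∀ i : ℤ, i < 0 → IsZero ((CohIII.TFun P i).obj N)) :
    (∀ i : ℤ, i < 0 → IsZero (P.homology i)) ∧ Module.Flat A (P.homology 0) := by
  obtain ⟨n, hn⟩ := hJ
  have hall : ∀ (N : ModuleCat.{u} A) (i : ℤ), i < 0 → IsZero ((CohIII.TFun P i).obj N) := by
    intro N i hi
    refine isZero_T_of_killedBy_pow J P hP h1 n N ?_ i hi
    intro a ha x
    rw [hn] at ha
    have : a = 0 := ha
    rw [this, zero_smul]
  refine ⟨fun i hi => (hall _ i hi).of_iso (TAIso' P i).symm, ?_⟩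
  have hepi : (CohIII.TFun P (-1)).PreservesEpimorphisms :=
    ⟨fun {M N} f _ => ⟨fun g h _ => (hall N (-1) (by norm_num)).eq_of_src g h⟩⟩
  have hmono : (CohIII.TFun P 0).PreservesMonomorphisms :=
    (preservesEpi_iff_preservesMono P hP (-1) 0 (by simp)).1 hepi
  have hflat : Module.Flat A (P.opcycles 0) :=
    (preservesMono_iff_flat_opcycles P 0 1 (by simp) (hP 1)).1 hmono
  haveI : IsIso (P.homologyι 0) :=
    P.isIso_homologyι 0 1 (by simp) ((hb 1 (by norm_num)).eq_of_tgt _ _)
  exact Module.Flat.of_linearEquiv (asIso (P.homologyι 0)).toLinearEquiv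

end Nilpotent

end Groth.Agent.Helper3.KzRelB
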