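import Mathlib
import Groth.Prelude.Def_ega3
import Groth.Prelude.Def_LCI2
import Groth.Agent.Lead.KoszulFunE
import Groth.Agent.Helper3.KzRelA
import Groth.Agent.Helper3.KzRelB
import Groth.Agent.Helper3.DRingCone

set_option autoImplicit false
set_option linter.style.haveILetI false
set_option linter.unusedSectionVars false
set_option linter.unusedVariables false
set_option linter.style.haveILetI false
set_option linter.unusedSectionVars false
set_option linter.unusedVariables false

/-!
# Koszul complexes over a flat algebra: tensor-exactness relative to the base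
-/

namespace Groth.Agent.Helper3.KzRelC
open CategoryTheory MonoidalCategory Limits TensorProduct CohIII
open Groth.Agent.Lead.KoszulFunB Groth.Agent.Lead.KoszulFunC Groth.Agent.Helper1.Koszul
open Groth.Agent.Helper3.KzRelA Groth.Agent.Helper3.KzRelB

universe u

section flatTerms
variable {S : Type u} [CommRing S]

/-- the terms of the Koszul complex of a flat module are flat -/
theorem flat_koszulCx (M : ModuleCat.{u} S) [Module.Flat S M] : ∀ (l : List S) (i : ℤ),
    Module.Flat S ((koszulCx M l).X i)
  | [], i => by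
    by_cases hi : i = 0
    · subst hi
      exact Module.Flat.of_linearEquiv
        (HomologicalComplex.singleObjXSelf (ComplexShape.up ℤ) (0 : ℤ) M).toLinearEquiv
    · haveI : Subsingleton ((koszulCx M []).X i) :=
        ModuleCat.subsingleton_of_isZero
          (HomologicalComplex.isZero_single_obj_X (ComplexShape.up ℤ) 0 M i hi)
      infer_instance
  | f :: l, i => by
    have h : DRing.TermwiseFlat (koszulCx M l) := fun j => flat_koszulCx M l j
    exact Groth.Agent.Helper3.DRingLib.cone_termwiseFlat (f • 𝟙 (koszulCx M l)) h h i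

variable (R : Type u) [CommRing R] [Algebra R S]

lemma flat_restrict [Module.Flat R S] (X : ModuleCat.{u} S) [Module.Flat S X] :
    Module.Flat R ((ModuleCat.restrictScalars (algebraMap R S)).obj X) := by
  letI := modR R S X
  haveI := tower R S X
  exact Module.Flat.trans R S X

end flatTerms


section lemmaT
variable (R S : Type u) [CommRing R] [CommRing S] [Algebra R S] [Module.Flat R S] (l : List S)

/-- the Koszul complex of `l`, restricted to the base ring -/
noncomputable abbrev PR : CochainComplex (ModuleCat.{u} R) ℤ :=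
  ((ModuleCat.restrictScalars (algebraMap R S)).mapHomologicalComplex (ComplexShape.up ℤ)).obj
    (koszulCx (ModuleCat.of S S) l)

lemma flat_PR (j : ℤ) : Module.Flat R ((PR R S l).X j) := by
  haveI := flat_koszulCx (ModuleCat.of S S) l j
  exact flat_restrict R ((koszulCx (ModuleCat.of S S) l).X j)

lemma isZero_PR_X (j : ℤ) (hj : 0 < j) : IsZero ((PR R S l).X j) :=
  (ModuleCat.restrictScalars (algebraMap R S)).map_isZero (isZero_X_of_pos _ l j hj)

/-- `H⁰` of the restricted Koszul complex is `S/(l)` -/
lemma nonempty_opcycles_zero_equiv :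
    Nonempty ((PR R S l).opcycles 0 ≃ₗ[R] (S ⧸ Ideal.ofList l)) := by
  haveI : IsIso ((PR R S l).homologyι 0) :=
    (PR R S l).isIso_homologyι 0 1 (by simp) ((isZero_PR_X R S l 1 (by norm_num)).eq_of_tgt _ _)
  have e1 := (asIso ((PR R S l).homologyι 0)).symm ≪≫
    mapHomologyIso (ModuleCat.restrictScalars (algebraMap R S)) (koszulCx (ModuleCat.of S S) l) 0
  obtain ⟨e2⟩ := nonempty_homology_zero_equiv S l
  have h1 : Ideal.ofList l • (⊤ : Submodule S S) = Ideal.ofList l := by
    rw [smul_eq_mul, Ideal.mul_top]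
  let e3 : ((koszulCx (ModuleCat.of S S) l).homology 0) ≃ₗ[S] (S ⧸ Ideal.ofList l) :=
    e2.trans (Submodule.quotEquivOfEq _ _ h1)
  let e4 : ((ModuleCat.restrictScalars (algebraMap R S)).obj
      ((koszulCx (ModuleCat.of S S) l).homology 0)) ≃ₗ[R] (S ⧸ Ideal.ofList l) :=
    { toFun := fun x => e3 x
      invFun := fun y => e3.symm y
      left_inv := e3.left_inv
      right_inv := e3.right_inv
      map_add' := e3.map_add
      map_smul' := fun r x => by
        have h := e3.map_smul (algebraMap R S r)
          (x : (koszulCx (ModuleCat.of S S) l).homology 0)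
        exact h.trans (algebraMap_smul S r _) }
  exact ⟨e1.toLinearEquiv.trans e4⟩

variable (hreg : ∀ i : ℤ, i ≠ 0 → IsZero ((koszulCx (ModuleCat.of S S) l).homology i))
  (hflat : Module.Flat R (S ⧸ Ideal.ofList l))

include hreg hflat in
/-- a Koszul-regular sequence in a flat algebra with flat quotient stays Koszul-regular on
`S ⊗[R] N` for every `R`-module `N` -/
theorem isZero_koszul_tensor (N : Type u) [AddCommGroup N] [Module R N] (i : ℤ) (hi : i < 0) :
    IsZero ((koszulCx (ModuleCat.of S (S ⊗[R] N)) l).homology i) := by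
  have hex : ∀ j : ℤ, j < 0 → (PR R S l).ExactAt j := by
    intro j hj
    rw [HomologicalComplex.exactAt_iff_isZero_homology]
    exact isZero_homology_map (ModuleCat.restrictScalars (algebraMap R S)) _ j (hreg j hj.ne)
  have h0 : Module.Flat R ((PR R S l).opcycles 0) := by
    obtain ⟨e⟩ := nonempty_opcycles_zero_equiv R S l
    exact Module.Flat.of_linearEquiv e
  have hT := isZero_T (PR R S l) (flat_PR R S l) hex h0 i hi (ModuleCat.of R N)
  obtain ⟨d⟩ := nonempty_koszul_dict R S N l
  have h2 : IsZero ((((ModuleCat.restrictScalars (algebraMap R S)).mapHomologicalComplex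
      (ComplexShape.up ℤ)).obj (koszulCx (ModuleCat.of S (S ⊗[R] N)) l)).homology i) :=
    IsZero.of_iso hT ((HomologicalComplex.homologyFunctor _ _ i).mapIso d)
  exact isZero_homology_of_map (ModuleCat.restrictScalars (algebraMap R S)) _ i h2

end lemmaT


section P4
variable (A B : Type u) [CommRing A] [CommRing B] [Algebra A B] (J : Ideal A)
  (N : Type u) [AddCommGroup N] [Module A N] [Module (A ⧸ J) N] [IsScalarTower A (A ⧸ J) N]

lemma smul_eq_zero_of_mem (j : A) (hj : j ∈ J) (n : N) : j • n = 0 := by
  rw [← algebraMap_smul (A ⧸ J) j n]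
  have : algebraMap A (A ⧸ J) j = 0 := Ideal.Quotient.eq_zero_iff_mem.2 hj
  rw [this, zero_smul]

lemma tmul_eq_zero_of_mem (c : B) (hc : c ∈ J.map (algebraMap A B)) (n : N) :
    c ⊗ₜ[A] n = 0 := by
  induction hc using Submodule.span_induction with
  | mem x hx =>
    obtain ⟨j, hj, rfl⟩ := hx
    rw [Algebra.algebraMap_eq_smul_one, TensorProduct.smul_tmul, smul_eq_zero_of_mem A J N j hj,
      TensorProduct.tmul_zero]
  | zero => rw [TensorProduct.zero_tmul]
  | add x y _ _ hx hy => rw [TensorProduct.add_tmul, hx, hy, add_zero]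
  | smul b x _ hx =>
    rw [smul_eq_mul, ← smul_eq_mul, ← TensorProduct.smul_tmul', hx, smul_zero]

/-- the reduction map `B ⊗[A] N → (B/JB) ⊗[A] N` for `N` killed by `J` -/
noncomputable def redMap : B ⊗[A] N →ₗ[B] (B ⧸ J.map (algebraMap A B)) ⊗[A] N :=
  TensorProduct.AlgebraTensorModule.map
    (Submodule.mkQ (J.map (algebraMap A B)) : B →ₗ[B] B ⧸ J.map (algebraMap A B))
    (LinearMap.id : N →ₗ[A] N)

lemma redMap_surjective : Function.Surjective (redMap A B J N) := by
  intro y
  induction y using TensorProduct.induction_on with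
  | zero => exact ⟨0, map_zero _⟩
  | tmul b n =>
    obtain ⟨b, rfl⟩ := Submodule.Quotient.mk_surjective _ b
    exact ⟨b ⊗ₜ n, rfl⟩
  | add x y hx hy =>
    obtain ⟨x', rfl⟩ := hx
    obtain ⟨y', rfl⟩ := hy
    exact ⟨x' + y', map_add _ _ _⟩

lemma rTensor_subtype_eq_zero
    (y : ((J.map (algebraMap A B)).restrictScalars A) ⊗[A] N) :
    LinearMap.rTensor N ((J.map (algebraMap A B)).restrictScalars A).subtype y = 0 := by
  induction y using TensorProduct.induction_on with
  | zero => exact map_zero _
  | tmul c n =>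
    rw [LinearMap.rTensor_tmul]
    exact tmul_eq_zero_of_mem A B J N c.1 c.2 n
  | add a b ha hb =>
    rw [map_add, ha, hb]
    exact add_zero _

lemma rTensor_mkQ_eq (t : B ⊗[A] N) :
    LinearMap.rTensor N ((J.map (algebraMap A B)).restrictScalars A).mkQ t = redMap A B J N t := by
  induction t using TensorProduct.induction_on with
  | zero => exact (map_zero _).trans (map_zero _).symm
  | tmul b n => rfl
  | add a b ha hb =>
    exact (map_add _ a b).trans ((congrArg₂ (· + ·) ha hb).trans (map_add _ a b).symm)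

lemma redMap_injective : Function.Injective (redMap A B J N) := by
  rw [injective_iff_map_eq_zero]
  intro x hx
  have hex := rTensor_exact N
    (LinearMap.exact_subtype_mkQ ((J.map (algebraMap A B)).restrictScalars A))
    (Submodule.mkQ_surjective _)
  have hx' : LinearMap.rTensor N ((J.map (algebraMap A B)).restrictScalars A).mkQ x = 0 :=
    (rTensor_mkQ_eq A B J N x).trans hx
  obtain ⟨y, rfl⟩ := (hex x).1 hx'
  exact rTensor_subtype_eq_zero A B J N y


/-- `B ⊗[A] N ≃ (B/JB) ⊗[A/J] N` for an `A/J`-module `N` -/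
noncomputable def p4Equiv : B ⊗[A] N ≃ₗ[B] (B ⧸ J.map (algebraMap A B)) ⊗[A ⧸ J] N :=
  haveI : TensorProduct.CompatibleSMul A (A ⧸ J) (B ⧸ J.map (algebraMap A B)) N :=
    TensorProduct.CompatibleSMul.of_algebraMap_surjective _ _ Ideal.Quotient.mk_surjective
  (LinearEquiv.ofBijective (redMap A B J N)
    ⟨redMap_injective A B J N, redMap_surjective A B J N⟩).trans
    (TensorProduct.equivOfCompatibleSMul (A ⧸ J) A B (B ⧸ J.map (algebraMap A B)) N)

/-- the same in `ModuleCat B` -/
noncomputable def p4Iso : ModuleCat.of B (B ⊗[A] N) ≅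
    (ModuleCat.restrictScalars (Ideal.Quotient.mk (J.map (algebraMap A B)))).obj
      (ModuleCat.of (B ⧸ J.map (algebraMap A B))
        ((B ⧸ J.map (algebraMap A B)) ⊗[A ⧸ J] N)) :=
  LinearEquiv.toModuleIso
    { toFun := fun x => p4Equiv A B J N x
      invFun := fun y => (p4Equiv A B J N).symm y
      left_inv := (p4Equiv A B J N).left_inv
      right_inv := (p4Equiv A B J N).right_inv
      map_add' := (p4Equiv A B J N).map_add
      map_smul' := fun b x => by
        have h := (p4Equiv A B J N).map_smul b x
        exact h.trans (algebraMap_smul (B ⧸ J.map (algebraMap A B)) b _).symm }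

end P4


section main
variable (A B : Type u) [CommRing A] [CommRing B] [Algebra A B] [Module.Flat A B] (J : Ideal A)
  (rs : List B)

/-- exactness of the Koszul complex on `B ⊗[A] N` for `N` killed by `J` -/
theorem isZero_T_of_killedBy
    (hreg : LCI.IsKoszulRegularSeq (B ⧸ J.map (algebraMap A B))
      (rs.map (Ideal.Quotient.mk (J.map (algebraMap A B)))))
    (hflat : Module.Flat (A ⧸ J) ((B ⧸ J.map (algebraMap A B)) ⧸
      Ideal.ofList (rs.map (Ideal.Quotient.mk (J.map (algebraMap A B))))))
    (N : ModuleCat.{u} A) (hN : KilledBy J N) (i : ℤ) (hi : i < 0) :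
    IsZero ((CohIII.TFun (PR A B rs) i).obj N) := by
  have hN' : Module.IsTorsionBySet A N (J : Set A) := by
    intro n a
    exact hN a.1 a.2 n
  letI : Module (A ⧸ J) N := hN'.module
  haveI : IsScalarTower A (A ⧸ J) N := hN'.isScalarTower
  haveI : Module.Flat (A ⧸ J) (B ⧸ J.map (algebraMap A B)) :=
    Module.Flat.of_linearEquiv (Algebra.TensorProduct.quotIdealMapEquivQuotTensor B J).toLinearEquiv
  rw [isKoszulRegularSeq_iff] at hreg
  have z1 := isZero_koszul_tensor (A ⧸ J) (B ⧸ J.map (algebraMap A B))
    (rs.map (Ideal.Quotient.mk (J.map (algebraMap A B)))) hreg hflat N i hi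
  obtain ⟨e2⟩ := nonempty_map_koszulCx_iso _ _
    (Groth.Agent.Lead.KoszulFunE.forall₂_map (Ideal.Quotient.mk (J.map (algebraMap A B))) rs)
    (ModuleCat.of (B ⧸ J.map (algebraMap A B)) ((B ⧸ J.map (algebraMap A B)) ⊗[A ⧸ J] N))
  have z2 := (isZero_homology_map
    (ModuleCat.restrictScalars (Ideal.Quotient.mk (J.map (algebraMap A B)))) _ i z1).of_iso
    ((HomologicalComplex.homologyFunctor _ _ i).mapIso e2).symm
  have z3 : IsZero ((koszulCx (ModuleCat.of B (B ⊗[A] N)) rs).homology i) :=
    z2.of_iso ((HomologicalComplex.homologyFunctor _ _ i).mapIso (kIso (p4Iso A B J N) rs))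
  have z4 := isZero_homology_map (ModuleCat.restrictScalars (algebraMap A B)) _ i z3
  obtain ⟨d⟩ := nonempty_koszul_dict A B N rs
  exact z4.of_iso ((HomologicalComplex.homologyFunctor _ _ i).mapIso d).symm

/-- **Lifting Koszul-regularity and flatness along a nilpotent thickening.** -/
theorem main_nilpotent (hJ : IsNilpotent J)
    (hreg : LCI.IsKoszulRegularSeq (B ⧸ J.map (algebraMap A B))
      (rs.map (Ideal.Quotient.mk (J.map (algebraMap A B)))))
    (hflat : Module.Flat (A ⧸ J) ((B ⧸ J.map (algebraMap A B)) ⧸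
      Ideal.ofList (rs.map (Ideal.Quotient.mk (J.map (algebraMap A B)))))) :
    LCI.IsKoszulRegularSeq B rs ∧ Module.Flat A (B ⧸ Ideal.ofList rs) := by
  obtain ⟨h1, h2⟩ := Groth.Agent.Helper3.KzRelB.main J (PR A B rs) (flat_PR A B rs) hJ
    (isZero_PR_X A B rs) (fun N hN i hi => isZero_T_of_killedBy A B J rs hreg hflat N hN i hi)
  constructor
  · rw [isKoszulRegularSeq_iff]
    intro i hi
    rcases lt_or_gt_of_ne hi with hlt | hgt
    · exact isZero_homology_of_map (ModuleCat.restrictScalars (algebraMap A B)) _ i (h1 i hlt)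
    · exact isZero_homology_of_isZero_X i (isZero_X_of_pos _ rs i hgt)
  · obtain ⟨e⟩ := nonempty_opcycles_zero_equiv A B rs
    haveI : IsIso ((PR A B rs).homologyι 0) :=
      (PR A B rs).isIso_homologyι 0 1 (by simp)
        ((isZero_PR_X A B rs 1 (by norm_num)).eq_of_tgt _ _)
    haveI : Module.Flat A ((PR A B rs).opcycles 0) :=
      Module.Flat.of_linearEquiv (asIso ((PR A B rs).homologyι 0)).toLinearEquiv.symm
    exact Module.Flat.of_linearEquiv e.symm

end main

end Groth.Agent.Helper3.KzRelC
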