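import Mathlib
import Groth.Prelude.Def_ega3
import Groth.Prelude.Def_LCI2
import Groth.Agent.Helper1.TorBalance
import Groth.Agent.Lead.KoszulFunE
import Groth.Agent.Helper3.KzRelC

set_option autoImplicit false
set_option linter.style.haveILetI false
set_option linter.unusedSectionVars false
set_option linter.unusedVariables false
set_option linter.style.haveILetI false
set_option linter.unusedSectionVars false
set_option linter.unusedVariables false

/-!
# `Tor` against a quotient by a Koszul-regular sequence, via the Koszul complex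
-/

namespace Groth.Agent.Helper3.KzTor
open CategoryTheory MonoidalCategory Limits TensorProduct CohIII
open Groth.Agent.Helper1.TorLib

universe u

variable {A : Type u} [CommRing A]

section general
variable (K : CochainComplex (ModuleCat.{u} A) ℤ)

/-- re-indexing of a cochain complex as a chain complex in non-negative degrees -/
noncomputable abbrev res : ChainComplex (ModuleCat.{u} A) ℕ :=
  K.restriction ComplexShape.embeddingDownNat

noncomputable def resHomologyIso (n : ℕ) :
    (res K).homology (n + 1) ≅ K.homology (-((n : ℤ) + 1)) :=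
  K.restrictionHomologyIso ComplexShape.embeddingDownNat (n + 2) (n + 1) n
    (by simp) (by simp) (i' := -((n : ℤ) + 2)) (j' := -((n : ℤ) + 1)) (k' := -(n : ℤ))
    (by simp) (by simp) (by simp) (by simp; ring) (by simp)

lemma res_exactAt (hex : ∀ i : ℤ, i < 0 → K.ExactAt i) (n : ℕ) : (res K).ExactAt (n + 1) := by
  rw [HomologicalComplex.exactAt_iff_isZero_homology]
  have h := hex (-((n : ℤ) + 1)) (by omega)
  rw [HomologicalComplex.exactAt_iff_isZero_homology] at h
  exact h.of_iso (resHomologyIso K n)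

noncomputable def flatRes (hflat : ∀ i, Module.Flat A (K.X i))
    (hex : ∀ i : ℤ, i < 0 → K.ExactAt i) : FlatResolution ((res K).opcycles 0) where
  complex := res K
  flat := fun i => hflat _
  exact := res_exactAt K hex
  iso := Iso.refl _

noncomputable def resTensorIso (N : ModuleCat.{u} A) :
    tensorObj (res K) N ≅ res (tensorObj K N) :=
  HomologicalComplex.Hom.isoOfComponents (fun i => Iso.refl _) (by
    intro i j hij
    simp
    rfl)

theorem nonempty_tor_iso (hflat : ∀ i, Module.Flat A (K.X i))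
    (hex : ∀ i : ℤ, i < 0 → K.ExactAt i) (N : ModuleCat.{u} A) (n : ℕ) :
    Nonempty (((Tor (ModuleCat.{u} A) (n + 1)).obj ((res K).opcycles 0)).obj N ≅
      (tensorObj K N).homology (-((n : ℤ) + 1))) := by
  obtain ⟨e⟩ := FlatResolution.nonempty_tor_iso_left (flatRes K hflat hex) (N := N) (n + 1)
  exact ⟨e ≪≫ (HomologicalComplex.homologyFunctor _ _ (n + 1)).mapIso (resTensorIso K N) ≪≫
    resHomologyIso (tensorObj K N) n⟩

noncomputable def opcyclesZeroIso (h1 : IsZero (K.X 1)) : (res K).opcycles 0 ≅ K.homology 0 :=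
  haveI : IsIso (K.homologyι 0) := K.isIso_homologyι 0 1 (by simp) (h1.eq_of_tgt _ _)
  K.restrictionOpcyclesIso ComplexShape.embeddingDownNat 1 0 (by simp) (i' := -1) (j' := 0)
    (by simp) (by simp) (by simp) ≪≫ (asIso (K.homologyι 0)).symm

/-- `Tor_{n+1}(H⁰K, N) ≅ H^{-(n+1)}(K ⊗ N)` for a complex of flats in degrees `≤ 0` exact off `0` -/
theorem nonempty_tor_homology_iso (hflat : ∀ i, Module.Flat A (K.X i))
    (hex : ∀ i : ℤ, i < 0 → K.ExactAt i) (h1 : IsZero (K.X 1)) (N : ModuleCat.{u} A) (n : ℕ) :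
    Nonempty (((Tor (ModuleCat.{u} A) (n + 1)).obj (K.homology 0)).obj N ≅
      (tensorObj K N).homology (-((n : ℤ) + 1))) := by
  obtain ⟨e⟩ := nonempty_tor_iso K hflat hex N n
  exact ⟨(((Tor (ModuleCat.{u} A) (n + 1)).mapIso (opcyclesZeroIso K h1)).app N).symm ≪≫ e⟩

end general

section koszul
open Groth.Agent.Lead.KoszulFunB Groth.Agent.Lead.KoszulFunC Groth.Agent.Helper1.Koszul

lemma compat_tensorRight (N : ModuleCat.{u} A) (a : A) :
    Compat (tensorRight N) a a := by
  intro X
  ext : 1
  apply TensorProduct.ext'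
  intro x n
  rfl

lemma forall₂_tensorRight (N : ModuleCat.{u} A) (l : List A) :
    List.Forall₂ (Compat (tensorRight N)) l l := by
  induction l with
  | nil => exact List.Forall₂.nil
  | cons a l ih => exact List.Forall₂.cons (compat_tensorRight N a) ih

/-- `K(l; A) ⊗ N ≅ K(l; N)` -/
theorem nonempty_tensor_koszul_iso (l : List A) (N : ModuleCat.{u} A) :
    Nonempty (tensorObj (koszulCx (ModuleCat.of A A) l) N ≅ koszulCx N l) := by
  obtain ⟨e⟩ := nonempty_map_koszulCx_iso (F := tensorRight N) l l (forall₂_tensorRight N l)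
    (ModuleCat.of A A)
  exact ⟨e ≪≫ kIso (λ_ N) l⟩

/-- `H⁰` of the Koszul complex is `A/(l)` -/
theorem nonempty_homology_zero_iso (l : List A) :
    Nonempty ((koszulCx (ModuleCat.of A A) l).homology 0 ≅
      ModuleCat.of A (A ⧸ Ideal.ofList l)) := by
  obtain ⟨e⟩ := nonempty_homology_zero_equiv A l
  have h1 : Ideal.ofList l • (⊤ : Submodule A A) = Ideal.ofList l := by
    rw [smul_eq_mul, Ideal.mul_top]
  exact ⟨(e.trans (Submodule.quotEquivOfEq _ _ h1)).toModuleIso⟩

/-- **Tor against `A/(l)` for a Koszul-regular sequence is Koszul homology** -/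
theorem nonempty_tor_quot_iso (l : List A) (hl : LCI.IsKoszulRegularSeq A l)
    (N : ModuleCat.{u} A) (n : ℕ) :
    Nonempty (((Tor (ModuleCat.{u} A) (n + 1)).obj (ModuleCat.of A (A ⧸ Ideal.ofList l))).obj N ≅
      (koszulCx N l).homology (-((n : ℤ) + 1))) := by
  rw [isKoszulRegularSeq_iff] at hl
  have hex : ∀ i : ℤ, i < 0 → (koszulCx (ModuleCat.of A A) l).ExactAt i := by
    intro i hi
    rw [HomologicalComplex.exactAt_iff_isZero_homology]
    exact hl i hi.ne
  obtain ⟨e1⟩ := nonempty_tor_homology_iso (koszulCx (ModuleCat.of A A) l)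
    (fun i => Groth.Agent.Helper3.KzRelC.flat_koszulCx (ModuleCat.of A A) l i) hex
    (isZero_X_of_pos _ l 1 (by norm_num)) N n
  obtain ⟨e2⟩ := nonempty_homology_zero_iso l
  obtain ⟨e3⟩ := nonempty_tensor_koszul_iso l N
  exact ⟨(((Tor (ModuleCat.{u} A) (n + 1)).mapIso e2).app N).symm ≪≫ e1 ≪≫
    (HomologicalComplex.homologyFunctor _ _ _).mapIso e3⟩

variable {A' : Type u} [CommRing A'] [Algebra A A']

/-- `A'` as an `A`-module, two ways -/
noncomputable def algEquiv : A' ≃ₗ[A]
    ((ModuleCat.restrictScalars.{u} (algebraMap A A')).obj (ModuleCat.of A' A')) where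
  toFun := fun t => t
  invFun := fun t => t
  left_inv := fun _ => rfl
  right_inv := fun _ => rfl
  map_add' := fun _ _ => rfl
  map_smul' := fun r t => Algebra.smul_def r (t : A')

noncomputable def algIso : ModuleCat.of A A' ≅
    (ModuleCat.restrictScalars.{u} (algebraMap A A')).obj (ModuleCat.of A' A') :=
  (algEquiv (A := A) (A' := A')).toModuleIso

/-- Koszul homology of `A'` over `A` vanishes when the image sequence is Koszul-regular -/
theorem isZero_koszul_algebra (l : List A)
    (hl' : LCI.IsKoszulRegularSeq A' (l.map (algebraMap A A'))) (i : ℤ) (hi : i ≠ 0) :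
    IsZero ((koszulCx (ModuleCat.of A A') l).homology i) := by
  rw [isKoszulRegularSeq_iff] at hl'
  obtain ⟨e⟩ := nonempty_map_koszulCx_iso (F := ModuleCat.restrictScalars.{u} (algebraMap A A'))
    (l.map (algebraMap A A')) l (Groth.Agent.Lead.KoszulFunE.forall₂_map (algebraMap A A') l)
    (ModuleCat.of A' A')
  have h1 := isZero_homology_map (ModuleCat.restrictScalars.{u} (algebraMap A A')) _ i (hl' i hi)
  have h2 := h1.of_iso ((HomologicalComplex.homologyFunctor _ _ i).mapIso e.symm)
  exact h2.of_iso ((HomologicalComplex.homologyFunctor _ _ i).mapIso (kIso algIso l))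

/-- **`Tor_i(A/(l), A') = 0` for `i ≥ 1`** when `l` and its image in `A'` are Koszul-regular -/
theorem isZero_tor_quot_algebra (l : List A) (hl : LCI.IsKoszulRegularSeq A l)
    (hl' : LCI.IsKoszulRegularSeq A' (l.map (algebraMap A A'))) (i : ℕ) (hi : 1 ≤ i) :
    IsZero (((Tor (ModuleCat.{u} A) i).obj (ModuleCat.of A (A ⧸ Ideal.ofList l))).obj
      (ModuleCat.of A A')) := by
  obtain ⟨n, rfl⟩ : ∃ n, i = n + 1 := ⟨i - 1, by omega⟩
  obtain ⟨e⟩ := nonempty_tor_quot_iso l hl (ModuleCat.of A A') n
  exact (isZero_koszul_algebra l hl' _ (by omega)).of_iso e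

end koszul

end Groth.Agent.Helper3.KzTor
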