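import Mathlib
import Groth.Prelude.Def_DRing2
import Groth.Prelude.Def_DDual2
import Groth.Prelude.Def_LCI2
import Groth.Agent.Helper3.DRingBC3
import Groth.Agent.Helper3.DRingCone
import Groth.Agent.Helper3.DRingFin
import Groth.Agent.Helper3.DRingPC2
import Groth.Agent.Helper3.KzTor
import Groth.Agent.Lead.KoszulFunC

/-! The quotient by a Koszul-regular sequence is a perfect module (Koszul resolution). -/

set_option autoImplicit false
set_option linter.style.haveILetI false
set_option linter.unusedSectionVars false
set_option linter.unusedVariables false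
set_option linter.style.haveILetI false
set_option linter.unusedSectionVars false
set_option linter.unusedVariables false
universe u
open CategoryTheory CategoryTheory.Limits TensorProduct

namespace Groth.Agent.Helper3.KPerfA

attribute [local instance] HasDerivedCategory.standard

open Groth.Agent.Helper3.DRingLib DerivedCategory

variable {A : Type u} [CommRing A]

lemma single_vanishesOutside (M : ModuleCat.{u} A) :
    DRing.VanishesOutside ((CochainComplex.singleFunctor (ModuleCat.{u} A) 0).obj M) 0 0 := by
  intro i hi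
  exact HomologicalComplex.isZero_single_obj_X _ _ _ _ (by omega)

lemma single_termwiseFiniteFree (F : ModuleCat.{u} A) [Module.Finite A F] [Module.Free A F] :
    DRing.TermwiseFiniteFree ((CochainComplex.singleFunctor (ModuleCat.{u} A) 0).obj F) := by
  intro i
  by_cases hi : i = 0
  · subst hi
    let e : ((HomologicalComplex.single (ModuleCat.{u} A) (ComplexShape.up ℤ) 0).obj F).X 0 ≃ₗ[A] F :=
      (HomologicalComplex.singleObjXSelf (ComplexShape.up ℤ) 0 F).toLinearEquiv
    exact ⟨Module.Finite.equiv e.symm, Module.Free.of_equiv e.symm⟩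
  · have : Subsingleton (((CochainComplex.singleFunctor (ModuleCat.{u} A) 0).obj F).X i) :=
      ModuleCat.subsingleton_of_isZero
        (HomologicalComplex.isZero_single_obj_X (ComplexShape.up ℤ) 0 F i hi)
    exact ⟨Module.Finite.of_finite, Module.Free.of_subsingleton A _⟩

lemma koszul_vanishesOutside (l : List A) :
    DRing.VanishesOutside (Koszul.koszul A l) (-(l.length : ℤ)) 0 := by
  induction l with
  | nil => exact single_vanishesOutside _
  | cons f l ih =>
    show DRing.VanishesOutside (CochainComplex.mappingCone (f • 𝟙 (Koszul.koszul A l))) _ _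
    apply cone_vanishesOutside
    · exact vanishesOutside_mono _ (by simp) (by omega) ih
    · exact vanishesOutside_mono _ (by simp) le_rfl ih

lemma koszul_termwiseFiniteFree (l : List A) : DRing.TermwiseFiniteFree (Koszul.koszul A l) := by
  induction l with
  | nil => exact single_termwiseFiniteFree (ModuleCat.of A A)
  | cons f l ih =>
    show DRing.TermwiseFiniteFree (CochainComplex.mappingCone (f • 𝟙 (Koszul.koszul A l)))
    exact cone_termwiseFiniteFree _ ih ih

/-- a complex with homology concentrated in degree `0` is its `H^0` in the derived category -/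
theorem nonempty_toD_iso_of_homology (K : DRing.Cx A)
    (h : ∀ i : ℤ, i ≠ 0 → IsZero (K.homology i)) :
    Nonempty (DRing.toD K ≅ (singleFunctor (ModuleCat.{u} A) 0).obj (K.homology 0)) := by
  have hsub : ∀ i : ℤ, i ≠ 0 → Subsingleton (Dual.HD A (DRing.toD K) i) := fun i hi =>
    ModuleCat.subsingleton_of_isZero ((h i hi).of_iso (homologyToDIso K i))
  haveI : (DRing.toD K).IsLE 0 := isLE_of_HD _ 0 (fun i hi => hsub i (by omega))
  haveI : (DRing.toD K).IsGE 0 := isGE_of_HD _ 0 (fun i hi => hsub i (by omega))
  obtain ⟨Y, ⟨e⟩⟩ := exists_iso_singleFunctor_obj_of_isGE_of_isLE (DRing.toD K) 0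
  have eY : Y ≅ K.homology 0 :=
    (HDinDIso Y).symm ≪≫ (homologyFunctor (ModuleCat.{u} A) 0).mapIso e.symm ≪≫ homologyToDIso K 0
  exact ⟨e ≪≫ (singleFunctor (ModuleCat.{u} A) 0).mapIso eY⟩

/-- the quotient by a Koszul-regular sequence is a perfect module -/
theorem isPerfect_quot_of_kreg (l : List A) (hl : LCI.IsKoszulRegularSeq A l) :
    DRing.IsPerfect A (Dual.inD A (A ⧸ Ideal.ofList l)) := by
  obtain ⟨e⟩ := nonempty_toD_iso_of_homology (Koszul.koszul A l) hl
  have e0' : Nonempty ((Koszul.koszul A l).homology 0 ≅ ModuleCat.of A (A ⧸ Ideal.ofList l)) := by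
    rw [Groth.Agent.Lead.KoszulFunC.koszul_eq]
    exact Groth.Agent.Helper3.KzTor.nonempty_homology_zero_iso l
  obtain ⟨e0⟩ := e0'
  refine ⟨Koszul.koszul A l, -(l.length : ℤ), 0, koszul_vanishesOutside l, ?_,
    ⟨e ≪≫ (singleFunctor (ModuleCat.{u} A) 0).mapIso e0⟩⟩
  intro i
  obtain ⟨h1, h2⟩ := koszul_termwiseFiniteFree l i
  exact ⟨h1, inferInstance⟩

end Groth.Agent.Helper3.KPerfA
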