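import Mathlib

set_option autoImplicit false
set_option linter.style.haveILetI false
set_option linter.unusedSectionVars false
set_option linter.unusedVariables false
set_option linter.style.haveILetI false
set_option linter.unusedSectionVars false
set_option linter.unusedVariables false

/-!
# Mapping cones: homotopic maps have isomorphic cones; iterated cones can be swapped
-/

namespace Groth.Agent.Helper3.KzCone
open CategoryTheory Category Limits CochainComplex HomologicalComplex HomComplex mappingCone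

variable {C : Type*} [Category C] [Preadditive C] [HasBinaryBiproducts C]

section htpy
variable {F G : CochainComplex C ℤ} (φ₁ φ₂ : F ⟶ G) (γ : Cochain F G (-1))

/-- the map of cones induced by a homotopy cochain -/
noncomputable def htpyMap (hγ : δ (-1) 0 γ = Cochain.ofHom φ₁ - Cochain.ofHom φ₂) :
    mappingCone φ₁ ⟶ mappingCone φ₂ :=
  desc φ₁ (inl φ₂ + γ.comp (Cochain.ofHom (inr φ₂)) (add_zero _)) (inr φ₂) (by
    rw [δ_add, δ_inl, δ_comp_zero_cochain _ _ _ (neg_add_cancel 1), hγ]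
    simp)

set_option backward.isDefEq.respectTransparency false in
lemma htpyMap_comp (hγ : δ (-1) 0 γ = Cochain.ofHom φ₁ - Cochain.ofHom φ₂)
    (hγ' : δ (-1) 0 (-γ) = Cochain.ofHom φ₂ - Cochain.ofHom φ₁) :
    htpyMap φ₁ φ₂ γ hγ ≫ htpyMap φ₂ φ₁ (-γ) hγ' = 𝟙 _ := by
  ext n
  simp [ext_from_iff _ (n + 1) n rfl, htpyMap]

/-- homotopic maps have isomorphic cones -/
noncomputable def htpyIso (hγ : δ (-1) 0 γ = Cochain.ofHom φ₁ - Cochain.ofHom φ₂) :
    mappingCone φ₁ ≅ mappingCone φ₂ where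
  hom := htpyMap φ₁ φ₂ γ hγ
  inv := htpyMap φ₂ φ₁ (-γ) (by rw [δ_neg, hγ, neg_sub])
  hom_inv_id := htpyMap_comp φ₁ φ₂ γ hγ _
  inv_hom_id := by
    have := htpyMap_comp φ₂ φ₁ (-γ) (by rw [δ_neg, hγ, neg_sub]) (by rw [neg_neg]; exact hγ)
    simpa only [neg_neg] using this

/-- homotopic maps have isomorphic cones -/
noncomputable def isoOfHomotopy (H : Homotopy φ₁ φ₂) : mappingCone φ₁ ≅ mappingCone φ₂ :=
  htpyIso φ₁ φ₂ (Cochain.ofHomotopy H) (δ_ofHomotopy H)

end htpy

section swap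
variable {K : CochainComplex C ℤ} (φ ψ : K ⟶ K) (comm : φ ≫ ψ = ψ ≫ φ)

/-- the endomorphism of `cone φ` induced by `ψ` -/
noncomputable abbrev E : mappingCone φ ⟶ mappingCone φ := mappingCone.map φ φ ψ ψ comm

lemma inr_E : ψ ≫ inr φ = inr φ ≫ E φ ψ comm := by
  simp [E, mappingCone.map]

/-- auxiliary -/
noncomputable def swapβ : mappingCone ψ ⟶ mappingCone (E φ ψ comm) :=
  mappingCone.map ψ (E φ ψ comm) (inr φ) (inr φ) (inr_E φ ψ comm)

/-- auxiliary -/
noncomputable def swapα : Cochain (mappingCone ψ) (mappingCone (E φ ψ comm)) (-1) :=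
  descCochain ψ (-((inl φ).comp (inl (E φ ψ comm)) (show (-1 : ℤ) + (-1) = -2 by decide)))
    ((inl φ).comp (Cochain.ofHom (inr (E φ ψ comm))) (add_zero (-1)))
    (show (-2 : ℤ) + 1 = -1 by decide)

set_option backward.isDefEq.respectTransparency false in
lemma swap_eq : δ (-1) 0 (swapα φ ψ comm) =
    Cochain.ofHom (E ψ φ comm.symm ≫ swapβ φ ψ comm) := by
  ext p
  rw [δ_v (-1) 0 (neg_add_cancel 1) _ p p (add_zero p) (p - 1) (p + 1) rfl rfl]
  rw [ext_from_iff _ (p + 1) _ rfl, ext_to_iff _ _ (p + 1) rfl, ext_to_iff _ _ (p + 1) rfl]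
  simp [swapα, swapβ, E, mappingCone.map,
    Cochain.comp_v _ _ (show (-1 : ℤ) + (-1) = -2 by decide) (p + 1) p (p - 1) (by lia) (by lia),
    Cochain.comp_v _ _ (show (-1 : ℤ) + (-1) = -2 by decide) (p + 2) (p + 1) p (by lia) (by lia),
    inl_v_d_assoc ψ (p + 1) p (p + 2) (by lia) (by lia),
    inl_v_d φ (p + 1) p (p + 2) (by lia) (by lia),
    inl_v_d_assoc φ p (p - 1) (p + 1) (by lia) (by lia)]

/-- the swap map between iterated cones -/
noncomputable def swapMap : mappingCone (E ψ φ comm.symm) ⟶ mappingCone (E φ ψ comm) :=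
  desc (E ψ φ comm.symm) (swapα φ ψ comm) (swapβ φ ψ comm) (swap_eq φ ψ comm)

set_option backward.isDefEq.respectTransparency false in
lemma swapMap_comp : swapMap φ ψ comm ≫ swapMap ψ φ comm.symm = 𝟙 _ := by
  ext n
  rw [ext_from_iff _ (n + 1) _ rfl, ext_from_iff _ (n + 1) _ rfl, ext_from_iff _ (n + 2) _ (by lia)]
  simp [swapMap, swapα, swapβ, E, mappingCone.map,
    Cochain.comp_v _ _ (show (-1 : ℤ) + (-1) = -2 by decide) (n + 2) (n + 1) n (by lia) (by lia)]


/-- iterated cones of commuting endomorphisms can be swapped -/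
noncomputable def swapIso : mappingCone (E ψ φ comm.symm) ≅ mappingCone (E φ ψ comm) where
  hom := swapMap φ ψ comm
  inv := swapMap ψ φ comm.symm
  hom_inv_id := swapMap_comp φ ψ comm
  inv_hom_id := swapMap_comp ψ φ comm.symm

end swap

section linear
variable {R : Type*} [Ring R] [Linear R C] {K : CochainComplex C ℤ}

lemma smul_id_comm {K L : CochainComplex C ℤ} (a : R) (g : K ⟶ L) :
    (a • 𝟙 K) ≫ g = g ≫ (a • 𝟙 L) := by
  rw [Linear.smul_comp, Linear.comp_smul, Category.id_comp, Category.comp_id]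

set_option backward.isDefEq.respectTransparency false in
lemma E_smul (a : R) (φ : K ⟶ K) :
    E φ (a • 𝟙 K) (smul_id_comm a φ).symm = a • 𝟙 (mappingCone φ) := by
  ext n
  rw [ext_from_iff _ (n + 1) n rfl]
  simp [E, mappingCone.map]

/-- swapping two scalars in an iterated cone -/
noncomputable def swapSmulIso (a b : R) (hab : a * b = b * a) :
    mappingCone (a • 𝟙 (mappingCone (b • 𝟙 K))) ≅ mappingCone (b • 𝟙 (mappingCone (a • 𝟙 K))) := by
  have comm : (a • 𝟙 K) ≫ (b • 𝟙 K) = (b • 𝟙 K) ≫ (a • 𝟙 K) := by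
    simp only [Linear.smul_comp, Linear.comp_smul, Category.id_comp, smul_smul, hab]
  have h1 : E (b • 𝟙 K) (a • 𝟙 K) comm.symm = a • 𝟙 _ := E_smul a (b • 𝟙 K)
  have h2 : E (a • 𝟙 K) (b • 𝟙 K) comm = b • 𝟙 _ := E_smul b (a • 𝟙 K)
  exact eqToIso (by rw [h1]) ≪≫ swapIso (a • 𝟙 K) (b • 𝟙 K) comm ≪≫ eqToIso (by rw [h2])

end linear

end Groth.Agent.Helper3.KzCone
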