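import Mathlib
import Groth.Prelude.Def_ega3
import Groth.Prelude.Def_LCI2
import Groth.Agent.Helper1.KoszulBasic
import Groth.Agent.Lead.KoszulFunC
import Groth.Agent.Helper3.KzCone

set_option autoImplicit false
set_option linter.style.haveILetI false
set_option linter.unusedSectionVars false
set_option linter.unusedVariables false
set_option linter.style.haveILetI false
set_option linter.unusedSectionVars false
set_option linter.unusedVariables false

/-!
# Koszul complexes: invariance under permutations and change of generators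

For the iterated-cone Koszul complex `CohIII.koszulCx M l` (and `Koszul.koszul A l`):
* `permIso`: `l ~ l'` gives an isomorphism of Koszul complexes;
* `headIso`: the head may be modified by an element of the ideal spanned by the tail;
* `vanish_iff_of_span_eq`: if `f`, `g` span the same ideal, then vanishing of the Koszul
  cohomology of `f` below degree `-s` is equivalent to vanishing for `g` below `-t`,
  whenever `s + |g| = t + |f|`;
* `isKoszulRegularSeq_of_span_eq`: Koszul-regularity only depends on the ideal and the length.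
-/

namespace Groth.Agent.Helper3.KoszulGen
open CategoryTheory Category Limits CochainComplex HomologicalComplex HomComplex CohIII
open Groth.Agent.Helper1.Koszul Groth.Agent.Helper3.KzCone

universe u
variable {A : Type u} [CommRing A] (M : ModuleCat.{u} A)

/-- permuting the sequence gives an isomorphic Koszul complex -/
theorem permIso {l l' : List A} (h : l.Perm l') : Nonempty (koszulCx M l ≅ koszulCx M l') := by
  induction h with
  | nil => exact ⟨Iso.refl _⟩
  | cons a _ ih =>
    obtain ⟨e⟩ := ih
    exact ⟨Groth.Agent.Lead.KoszulFunA.coneIso _ _ e e (Groth.Agent.Helper1.Koszul.smul_id_comm a e.hom)⟩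
  | swap a b l =>
    exact ⟨swapSmulIso b a (mul_comm b a)⟩
  | trans _ _ ih1 ih2 =>
    obtain ⟨e1⟩ := ih1
    obtain ⟨e2⟩ := ih2
    exact ⟨e1 ≪≫ e2⟩

/-- cons is functorial for isomorphisms -/
theorem consIso (a : A) {l l' : List A} (h : Nonempty (koszulCx M l ≅ koszulCx M l')) :
    Nonempty (koszulCx M (a :: l) ≅ koszulCx M (a :: l')) := by
  obtain ⟨e⟩ := h
  exact ⟨Groth.Agent.Lead.KoszulFunA.coneIso _ _ e e (Groth.Agent.Helper1.Koszul.smul_id_comm a e.hom)⟩

/-- the head of the sequence may be modified by an element of the ideal of the tail -/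
theorem headIso (a a' : A) (l : List A) (h : a - a' ∈ Ideal.span {x | x ∈ l}) :
    Nonempty (koszulCx M (a :: l) ≅ koszulCx M (a' :: l)) := by
  obtain ⟨H⟩ := span_le_nullIdeal M l h
  have H' : Homotopy (a • 𝟙 (koszulCx M l)) (a' • 𝟙 (koszulCx M l)) :=
    (Homotopy.ofEq (by rw [← add_smul, sub_add_cancel])).trans
      ((H.add (Homotopy.refl (a' • 𝟙 (koszulCx M l)))).trans (Homotopy.ofEq (zero_add _)))
  exact ⟨isoOfHomotopy _ _ H'⟩

/-- vanishing of the cone of zero -/
theorem isZero_cone_zero (K : CochainComplex (ModuleCat.{u} A) ℤ) (n m : ℤ) (h : n + 1 = m) :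
    IsZero ((mappingCone ((0 : A) • 𝟙 K)).homology n) ↔
      IsZero (K.homology n) ∧ IsZero (K.homology m) := by
  simp only [ModuleCat.isZero_iff_subsingleton]
  constructor
  · intro hs
    constructor
    · refine ⟨fun y y' => ?_⟩
      have key : ∀ y : K.homology n, y = 0 := by
        intro y
        obtain ⟨x, hx⟩ := exists_of_ι_eq_zero K (0 : A) n y (Subsingleton.elim _ _)
        rw [← hx, zero_smul]
      rw [key y, key y']
    · refine ⟨fun z z' => ?_⟩
      have key : ∀ z : K.homology m, z = 0 := by
        intro z
        obtain ⟨y, hy⟩ := exists_of_smul_eq_zero K (0 : A) n m h z (zero_smul _ _)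
        rw [← hy, Subsingleton.elim y 0, map_zero]
      rw [key z, key z']
  · rintro ⟨h1, h2⟩
    refine ⟨fun y y' => ?_⟩
    have key : ∀ y : (mappingCone ((0 : A) • 𝟙 K)).homology n, y = 0 := by
      intro y
      obtain ⟨x, hx⟩ := exists_of_bd_eq_zero K (0 : A) n m h y (Subsingleton.elim _ _)
      rw [← hx, Subsingleton.elim x 0, map_zero]
    rw [key y, key y']

/-- the cohomology of `K` vanishes in degrees `< -s` -/
def Vanish (K : CochainComplex (ModuleCat.{u} A) ℤ) (s : ℤ) : Prop :=
  ∀ i : ℤ, i < -s → IsZero (K.homology i)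

theorem vanish_of_iso {K L : CochainComplex (ModuleCat.{u} A) ℤ} (h : Nonempty (K ≅ L)) (s : ℤ) :
    Vanish K s ↔ Vanish L s := by
  obtain ⟨e⟩ := h
  constructor
  · intro hK i hi
    exact (hK i hi).of_iso ((HomologicalComplex.homologyFunctor _ _ i).mapIso e.symm)
  · intro hL i hi
    exact (hL i hi).of_iso ((HomologicalComplex.homologyFunctor _ _ i).mapIso e)

theorem vanish_cons_zero (l : List A) (s : ℤ) :
    Vanish (koszulCx M (0 :: l)) (s + 1) ↔ Vanish (koszulCx M l) s := by
  constructor
  · intro h i hi
    exact ((isZero_cone_zero (koszulCx M l) (i - 1) i (by omega)).1 (h (i - 1) (by omega))).2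
  · intro h i hi
    exact (isZero_cone_zero (koszulCx M l) i (i + 1) rfl).2 ⟨h i (by omega), h (i + 1) (by omega)⟩

theorem vanish_replicate (l : List A) (s : ℤ) : ∀ r : ℕ,
    Vanish (koszulCx M (List.replicate r 0 ++ l)) (s + r) ↔ Vanish (koszulCx M l) s
  | 0 => by simp
  | r + 1 => by
    rw [List.replicate_succ, List.cons_append]
    have := vanish_cons_zero M (List.replicate r 0 ++ l) (s + r)
    rw [← vanish_replicate l s r, ← this]
    push_cast
    rw [add_assoc]

/-- entries in front may be replaced by zeros if they lie in the ideal of the tail -/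
theorem tailIso (l : List A) : ∀ u : List A, (∀ x ∈ u, x ∈ Ideal.span {x | x ∈ l}) →
    Nonempty (koszulCx M (u ++ l) ≅ koszulCx M (List.replicate u.length 0 ++ l))
  | [], _ => ⟨Iso.refl _⟩
  | a :: u, h => by
    have ih := tailIso l u (fun x hx => h x (List.mem_cons_of_mem _ hx))
    obtain ⟨e1⟩ := consIso M a ih
    have hmem : a - 0 ∈ Ideal.span {x | x ∈ List.replicate u.length 0 ++ l} := by
      rw [sub_zero]
      refine Ideal.span_mono ?_ (h a List.mem_cons_self)
      intro x hx
      exact List.mem_append_right _ hx
    obtain ⟨e2⟩ := headIso M a 0 (List.replicate u.length 0 ++ l) hmem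
    exact ⟨e1 ≪≫ e2⟩

/-- sequences spanning the same ideal have Koszul cohomology vanishing in the same range,
up to the shift by the difference of the lengths -/
theorem vanish_iff_of_span_eq (f g : List A)
    (hspan : Ideal.span {x | x ∈ f} = Ideal.span {x | x ∈ g}) (s t : ℤ)
    (hst : s + g.length = t + f.length) :
    Vanish (koszulCx M f) s ↔ Vanish (koszulCx M g) t := by
  rw [← vanish_replicate M f s g.length, ← vanish_replicate M g t f.length, hst]
  have h1 : Nonempty (koszulCx M (g ++ f) ≅ koszulCx M (List.replicate g.length 0 ++ f)) :=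
    tailIso M f g (fun x hx => hspan ▸ Ideal.subset_span hx)
  have h2 : Nonempty (koszulCx M (f ++ g) ≅ koszulCx M (List.replicate f.length 0 ++ g)) :=
    tailIso M g f (fun x hx => hspan ▸ Ideal.subset_span hx)
  have h3 : Nonempty (koszulCx M (g ++ f) ≅ koszulCx M (f ++ g)) := permIso M List.perm_append_comm
  rw [← vanish_of_iso h1, ← vanish_of_iso h2, vanish_of_iso h3]

/-- acyclicity off degree zero in terms of `Vanish` -/
theorem acyclic_iff_vanish (l : List A) :
    (∀ i : ℤ, i ≠ 0 → IsZero ((koszulCx M l).homology i)) ↔ Vanish (koszulCx M l) 0 := by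
  constructor
  · intro h i hi
    exact h i (by omega)
  · intro h i hi
    rcases lt_or_gt_of_ne hi with hi | hi
    · exact h i (by omega)
    · exact isZero_homology_of_isZero_X i (isZero_X_of_pos M l i hi)

/-- acyclicity off degree zero of the Koszul complex on `M` only depends on the ideal spanned and
the length of the sequence -/
theorem acyclic_iff_of_span_eq (f g : List A) (hlen : f.length = g.length)
    (hspan : Ideal.span {x | x ∈ f} = Ideal.span {x | x ∈ g}) :
    (∀ i : ℤ, i ≠ 0 → IsZero ((koszulCx M f).homology i)) ↔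
      (∀ i : ℤ, i ≠ 0 → IsZero ((koszulCx M g).homology i)) := by
  rw [acyclic_iff_vanish, acyclic_iff_vanish]
  exact vanish_iff_of_span_eq M f g hspan 0 0 (by rw [hlen])

/-- Koszul-regularity only depends on the ideal spanned and the length of the sequence -/
theorem isKoszulRegularSeq_iff_of_span_eq (f g : List A) (hlen : f.length = g.length)
    (hspan : Ideal.span {x | x ∈ f} = Ideal.span {x | x ∈ g}) :
    LCI.IsKoszulRegularSeq A f ↔ LCI.IsKoszulRegularSeq A g := by
  rw [Groth.Agent.Lead.KoszulFunC.isKoszulRegularSeq_iff,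
    Groth.Agent.Lead.KoszulFunC.isKoszulRegularSeq_iff]
  exact acyclic_iff_of_span_eq _ f g hlen hspan

theorem isKoszulRegularSeq_of_span_eq (f g : List A) (hlen : f.length = g.length)
    (hspan : Ideal.span {x | x ∈ f} = Ideal.span {x | x ∈ g})
    (h : LCI.IsKoszulRegularSeq A f) : LCI.IsKoszulRegularSeq A g :=
  (isKoszulRegularSeq_iff_of_span_eq f g hlen hspan).1 h

/-- Koszul-regularity is invariant under permutations -/
theorem isKoszulRegularSeq_of_perm {f g : List A} (h : f.Perm g)
    (hf : LCI.IsKoszulRegularSeq A f) : LCI.IsKoszulRegularSeq A g := by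
  refine isKoszulRegularSeq_of_span_eq f g h.length_eq ?_ hf
  congr 1
  ext x
  exact h.mem_iff

/-- the Koszul complexes `Koszul.koszul` of permuted sequences are isomorphic -/
theorem koszul_permIso {l l' : List A} (h : l.Perm l') :
    Nonempty (Koszul.koszul A l ≅ Koszul.koszul A l') := by
  rw [Groth.Agent.Lead.KoszulFunC.koszul_eq, Groth.Agent.Lead.KoszulFunC.koszul_eq]
  exact permIso _ h

end Groth.Agent.Helper3.KoszulGen
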