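import Mathlib
import Groth.Prelude.Def_ega3
import Groth.Prelude.Def_LCI2
import Groth.Agent.Lead.KoszulFunE

set_option autoImplicit false
set_option linter.style.haveILetI false
set_option linter.unusedSectionVars false
set_option linter.unusedVariables false
set_option linter.style.haveILetI false
set_option linter.unusedSectionVars false
set_option linter.unusedVariables false

/-!
# Cancellation for Koszul-regular sequences along a quotient
-/

namespace Groth.Agent.Helper3.KzCancel
open CategoryTheory Limits CochainComplex HomologicalComplex HomComplex CohIII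
open Groth.Agent.Lead.KoszulFunA Groth.Agent.Lead.KoszulFunB Groth.Agent.Lead.KoszulFunC
open Groth.Agent.Lead.KoszulFunD Groth.Agent.Lead.KoszulFunE Groth.Agent.Helper1.Koszul

universe u
variable {A B : Type u} [CommRing A] [CommRing B]

/-- if `f` is Koszul-regular with `H⁰ K(f) ≅ N`, then the Koszul cohomology of `g ++ f`
is that of `g` on `N` -/
theorem concat_iff (f g : List A)
    (hf : ∀ i : ℤ, i ≠ 0 → IsZero ((koszulCx (ModuleCat.of A A) f).homology i))
    (N : ModuleCat.{u} A) (e0 : (koszulCx (ModuleCat.of A A) f).homology 0 ≅ N) (i : ℤ) :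
    IsZero ((koszulCx (ModuleCat.of A A) (g ++ f)).homology i) ↔
      IsZero ((koszulCx N g).homology i) := by
  obtain ⟨M, ψ, hψ, ⟨eM⟩⟩ := exists_quasiIso_single (koszulCx (ModuleCat.of A A) f)
    (fun n hn => isZero_X_of_pos _ f n hn) hf
  have h1 := quasiIso_kCmap ψ hψ g
  have e2 : (koszulCx M g).homology i ≅ (koszulCx N g).homology i :=
    (HomologicalComplex.homologyFunctor _ _ i).mapIso (kIso (eM.symm ≪≫ e0) g)
  have e1 : (kC (koszulCx (ModuleCat.of A A) f) g).homology i ≅
      (kC ((HomologicalComplex.single (ModuleCat.{u} A) (ComplexShape.up ℤ) 0).obj M) g).homology i :=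
    asIso (homologyMap (kCmap ψ g) i)
  rw [← isZero_homology_congr (kC_koszulCx (ModuleCat.of A A) f g) i,
    e1.isZero_iff, isZero_homology_congr (kC_single M g) i, e2.isZero_iff]

variable (φ : A →+* B)

/-- Koszul-regular sequences cancel along a quotient by a Koszul-regular sequence -/
theorem isKoszulRegularSeq_map_iff (hφ : Function.Surjective φ) (f g : List A)
    (hker : RingHom.ker φ = Ideal.ofList f) (hf : LCI.IsKoszulRegularSeq A f) :
    LCI.IsKoszulRegularSeq B (g.map φ) ↔ LCI.IsKoszulRegularSeq A (g ++ f) := by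
  rw [isKoszulRegularSeq_iff] at hf
  rw [isKoszulRegularSeq_iff, isKoszulRegularSeq_iff]
  obtain ⟨e0⟩ := nonempty_homology_zero_iso φ hφ f hker
  obtain ⟨e⟩ := nonempty_map_koszulCx_iso _ _ (forall₂_map φ g) (ModuleCat.of B B)
  refine forall_congr' fun i => imp_congr_right fun hi => ?_
  rw [concat_iff f g hf _ e0 i]
  constructor
  · intro h
    exact (isZero_homology_map (ModuleCat.restrictScalars.{u} φ)
      (koszulCx (ModuleCat.of B B) (g.map φ)) i h).of_iso
      ((HomologicalComplex.homologyFunctor _ _ i).mapIso e).symm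
  · intro h
    refine isZero_homology_of_map (ModuleCat.restrictScalars.{u} φ) _ i ?_
    exact h.of_iso ((HomologicalComplex.homologyFunctor _ _ i).mapIso e)

theorem isKoszulRegularSeq_of_append (hφ : Function.Surjective φ) (f g : List A)
    (hker : RingHom.ker φ = Ideal.ofList f) (hf : LCI.IsKoszulRegularSeq A f)
    (hgf : LCI.IsKoszulRegularSeq A (g ++ f)) : LCI.IsKoszulRegularSeq B (g.map φ) :=
  (isKoszulRegularSeq_map_iff φ hφ f g hker hf).2 hgf

end Groth.Agent.Helper3.KzCancel
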