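import Mathlib

set_option autoImplicit false
set_option linter.style.haveILetI false
set_option linter.unusedSectionVars false
set_option linter.unusedVariables false
set_option linter.style.haveILetI false
set_option linter.unusedSectionVars false
set_option linter.unusedVariables false

/-!
# An exchange lemma for generators of an ideal near a prime
-/

namespace Groth.Agent.Helper3.KzExch

variable {R : Type*} [CommRing R]

/-- saturation of an ideal with respect to the powers of `s` -/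
def sat (s : R) (W : Ideal R) : Ideal R where
  carrier := {x | ∃ e : ℕ, s ^ e * x ∈ W}
  zero_mem' := ⟨0, by simp⟩
  add_mem' := by
    rintro x y ⟨e, hx⟩ ⟨e', hy⟩
    refine ⟨e + e', ?_⟩
    have : s ^ (e + e') * (x + y) = s ^ e' * (s ^ e * x) + s ^ e * (s ^ e' * y) := by ring
    rw [this]
    exact W.add_mem (W.mul_mem_left _ hx) (W.mul_mem_left _ hy)
  smul_mem' := by
    rintro c x ⟨e, hx⟩
    refine ⟨e, ?_⟩
    have : s ^ e * (c • x) = c * (s ^ e * x) := by rw [smul_eq_mul]; ring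
    rw [this]
    exact W.mul_mem_left _ hx

lemma mem_sat {s : R} {W : Ideal R} {x : R} : x ∈ sat s W ↔ ∃ e : ℕ, s ^ e * x ∈ W := Iff.rfl

lemma le_sat (s : R) (W : Ideal R) : W ≤ sat s W := fun x hx => ⟨0, by simpa using hx⟩

lemma sat_mono (s : R) {W W' : Ideal R} (h : W ≤ W') : sat s W ≤ sat s W' :=
  fun x ⟨e, hx⟩ => ⟨e, h hx⟩

lemma mem_sat_of_mul_mem {c s x : R} {W : Ideal R} (n : ℕ) (h : c ∣ s ^ n)
    (hx : c * x ∈ sat s W) : x ∈ sat s W := by
  obtain ⟨a, ha⟩ := hx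
  obtain ⟨t, ht⟩ := h
  refine ⟨a + n, ?_⟩
  have : s ^ (a + n) * x = t * (s ^ a * (c * x)) := by rw [pow_add, ht]; ring
  rw [this]
  exact W.mul_mem_left _ ha

lemma sat_sat_le {s s' : R} (h : s ∣ s') (W : Ideal R) : sat s (sat s' W) ≤ sat s' W := by
  rintro x ⟨e, hx⟩
  exact mem_sat_of_mul_mem e (pow_dvd_pow_of_dvd h e) hx

lemma sat_le_of_dvd {s s' : R} (h : s ∣ s') (W : Ideal R) : sat s W ≤ sat s' W :=
  (sat_mono s (le_sat s' W)).trans (sat_sat_le h W)

/-- the first `j` indices -/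
def ini (m j : ℕ) : Finset (Fin m) := Finset.univ.filter (fun i => i.val < j)

lemma mem_ini {m j : ℕ} {i : Fin m} : i ∈ ini m j ↔ i.val < j := by simp [ini]

section
variable {m N : ℕ} (q : Ideal R) [q.IsPrime] (J : Ideal R) (hJq : J ≤ q)
  (f : Fin m → R) (hf : ∀ i, f i ∈ J)
  (hLI : ∀ c : Fin m → R, ∑ i, c i * f i ∈ q * J → ∀ i, c i ∈ q)
  (H : Fin N → R) (hH : ∀ k, H k ∈ J)

include hJq hf hLI hH in
theorem exchange_step (j : ℕ) (hj : j < m) (s : R) (hs : s ∉ q) (T : Finset (Fin N))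
    (hT : J ≤ sat s (Ideal.span (f '' ↑(ini m j) ∪ H '' ↑T))) :
    ∃ k₀ ∈ T, ∃ c : R, c ∉ q ∧
      J ≤ sat (s * c) (Ideal.span (f '' ↑(ini m (j + 1)) ∪ H '' ↑(T.erase k₀))) := by
  classical
  let i₀ : Fin m := ⟨j, hj⟩
  obtain ⟨e, he⟩ := hT (hf i₀)
  rw [Ideal.span_union, Submodule.mem_sup] at he
  obtain ⟨u, hu, v, hv, huv⟩ := he
  have hu' := hu
  rw [Ideal.span, Submodule.mem_span_image_finset_iff_exists_fun'] at hu hv
  obtain ⟨b, hb⟩ := hu
  obtain ⟨c, hc⟩ := hv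
  simp only [smul_eq_mul] at hb hc
  -- some coefficient is a unit at `q`
  have hex : ∃ k₀ ∈ T, c k₀ ∉ q := by
    by_contra hcon
    push Not at hcon
    have hvq : v ∈ q * J := by
      rw [← hc]
      exact Ideal.sum_mem _ fun k hk => Ideal.mul_mem_mul (hcon k hk) (hH k)
    let b' : Fin m → R := fun i => if i ∈ ini m j then b i else 0
    have hb' : ∑ i, b' i * f i = u := by
      rw [← hb, ← Finset.sum_subset (Finset.subset_univ (ini m j))]
      · exact Finset.sum_congr rfl fun i hi => by simp only [b', if_pos hi]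
      · intro i _ hi
        simp only [b', if_neg hi, zero_mul]
    let cc : Fin m → R := Pi.single i₀ (s ^ e) - b'
    have hsum : ∑ i, cc i * f i = v := by
      simp only [cc, Pi.sub_apply, sub_mul, Finset.sum_sub_distrib, hb']
      rw [Finset.sum_eq_single i₀]
      · rw [Pi.single_eq_same, ← huv]; ring
      · intro i _ hi
        rw [Pi.single_eq_of_ne hi, zero_mul]
      · intro h
        exact absurd (Finset.mem_univ _) h
    have h1 := hLI cc (hsum ▸ hvq) i₀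
    have hi₀ : i₀ ∉ ini m j := by
      rw [mem_ini]
      exact lt_irrefl j
    simp only [cc, Pi.sub_apply, Pi.single_eq_same, b', if_neg hi₀, sub_zero] at h1
    exact hs (Ideal.IsPrime.mem_of_pow_mem inferInstance e h1)
  obtain ⟨k₀, hk₀, hck₀⟩ := hex
  refine ⟨k₀, hk₀, c k₀, hck₀, ?_⟩
  set W' := Ideal.span (f '' ↑(ini m (j + 1)) ∪ H '' ↑(T.erase k₀)) with hW'
  have hini : ini m j ⊆ ini m (j + 1) := by
    intro i hi
    rw [mem_ini] at hi ⊢
    omega
  have hfW : ∀ i ∈ ini m (j + 1), f i ∈ W' := fun i hi =>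
    Ideal.subset_span (Or.inl ⟨i, hi, rfl⟩)
  have hHW : ∀ k ∈ T.erase k₀, H k ∈ W' := fun k hk =>
    Ideal.subset_span (Or.inr ⟨k, hk, rfl⟩)
  have huW : u ∈ W' := by
    rw [← hb]
    exact Ideal.sum_mem _ fun i hi => W'.mul_mem_left _ (hfW i (hini hi))
  have hk₀W : H k₀ ∈ sat (s * c k₀) W' := by
    refine mem_sat_of_mul_mem (c := c k₀) 1 (by rw [pow_one]; exact dvd_mul_left _ _) ?_
    apply le_sat
    have h2 : c k₀ * H k₀ = s ^ e * f i₀ - u - ∑ k ∈ T.erase k₀, c k * H k := by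
      rw [← huv, ← hc, ← Finset.add_sum_erase T _ hk₀]
      ring
    rw [h2]
    refine W'.sub_mem (W'.sub_mem (W'.mul_mem_left _ (hfW i₀ ?_)) huW) ?_
    · rw [mem_ini]
      exact Nat.lt_succ_self j
    · exact Ideal.sum_mem _ fun k hk => W'.mul_mem_left _ (hHW k hk)
  have hW : Ideal.span (f '' ↑(ini m j) ∪ H '' ↑T) ≤ sat (s * c k₀) W' := by
    rw [Ideal.span_le]
    rintro x (⟨i, hi, rfl⟩ | ⟨k, hk, rfl⟩)
    · exact le_sat _ _ (hfW i (hini hi))
    · by_cases hkk : k = k₀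
      · rw [hkk]
        exact hk₀W
      · exact le_sat _ _ (hHW k (Finset.mem_erase.2 ⟨hkk, hk⟩))
  exact hT.trans ((sat_mono s hW).trans (sat_sat_le (dvd_mul_right s (c k₀)) W'))

include hJq hf hLI hH in
theorem exchange_aux (s₀ : R) (hs₀ : s₀ ∉ q)
    (h₀ : J ≤ sat s₀ (Ideal.span (Set.range H))) : ∀ j : ℕ, j ≤ m →
    ∃ s, s ∉ q ∧ s₀ ∣ s ∧ ∃ T : Finset (Fin N), T.card + j = N ∧
      J ≤ sat s (Ideal.span (f '' ↑(ini m j) ∪ H '' ↑T))
  | 0, _ => by
    refine ⟨s₀, hs₀, dvd_rfl, Finset.univ, by simp, h₀.trans (sat_mono s₀ (Ideal.span_mono ?_))⟩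
    rintro x ⟨k, rfl⟩
    exact Or.inr ⟨k, Finset.mem_coe.2 (Finset.mem_univ k), rfl⟩
  | j + 1, hj => by
    obtain ⟨s, hs, hs₀s, T, hcard, hT⟩ := exchange_aux s₀ hs₀ h₀ j (by omega)
    obtain ⟨k₀, hk₀, c, hc, hJ⟩ := exchange_step q J hJq f hf hLI H hH j (by omega) s hs T hT
    refine ⟨s * c, ?_, hs₀s.trans (dvd_mul_right s c), T.erase k₀, ?_, hJ⟩
    · intro h
      rcases Ideal.IsPrime.mem_or_mem inferInstance h with h | h
      · exact hs h
      · exact hc h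
    · rw [Finset.card_erase_of_mem hk₀]
      have : 0 < T.card := Finset.card_pos.2 ⟨k₀, hk₀⟩
      omega

include hJq hf hLI hH in
/-- the exchange lemma -/
theorem exchange (s₀ : R) (hs₀ : s₀ ∉ q)
    (h₀ : J ≤ sat s₀ (Ideal.span (Set.range H))) :
    ∃ s, s ∉ q ∧ s₀ ∣ s ∧ ∃ T : Finset (Fin N), T.card + m = N ∧
      J ≤ sat s (Ideal.span (Set.range f ∪ H '' ↑T)) := by
  obtain ⟨s, hs, hs₀s, T, hcard, hT⟩ := exchange_aux q J hJq f hf hLI H hH s₀ hs₀ h₀ m le_rfl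
  refine ⟨s, hs, hs₀s, T, hcard, hT.trans (sat_mono s (Ideal.span_mono ?_))⟩
  rintro x (⟨i, _, rfl⟩ | h)
  · exact Or.inl ⟨i, rfl⟩
  · exact Or.inr h

end

end Groth.Agent.Helper3.KzExch
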