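import Mathlib
import Groth.Prelude.Def_ega3
import Groth.Prelude.Def_LCI2
import Groth.Agent.Lead.KoszulFunC
import Groth.Agent.Helper3.KoszulGen

set_option autoImplicit false
set_option linter.style.haveILetI false
set_option linter.unusedSectionVars false
set_option linter.unusedVariables false
set_option linter.style.haveILetI false
set_option linter.unusedSectionVars false
set_option linter.unusedVariables false

/-!
# Koszul-regular ideals: flexible localizations
-/

namespace Groth.Agent.Helper3.KzLoc
open Groth.Agent.Lead.KoszulFunC

universe u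
variable {A B : Type u} [CommRing A] [CommRing B]

/-- Koszul-regular sequences are preserved by flat ring maps -/
theorem kreg_map_of_flat (ψ : A →+* B) (hψ : ψ.Flat) (l : List A)
    (h : LCI.IsKoszulRegularSeq A l) : LCI.IsKoszulRegularSeq B (l.map ψ) := by
  letI : Algebra A B := ψ.toAlgebra
  haveI : Module.Flat A B := hψ
  exact isKoszulRegularSeq_of_flat l h

/-- Koszul-regular sequences are preserved by ring isomorphisms -/
theorem kreg_map_ringEquiv (e : A ≃+* B) (l : List A)
    (h : LCI.IsKoszulRegularSeq A l) : LCI.IsKoszulRegularSeq B (l.map e) :=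
  kreg_map_of_flat e.toRingHom (RingHom.Flat.of_bijective e.bijective) l h

/-- the set of members of a mapped list -/
lemma setOf_mem_map {X Y : Type*} (f : X → Y) (l : List X) :
    {y | y ∈ l.map f} = f '' {x | x ∈ l} := by
  ext y
  simp only [List.mem_map, Set.mem_setOf_eq, Set.mem_image]

lemma span_map_list (ψ : A →+* B) (l : List A) :
    Ideal.span {y | y ∈ l.map ψ} = (Ideal.span {x | x ∈ l}).map ψ := by
  rw [setOf_mem_map, Ideal.map_span]

/-- the local condition in `LCI.IsKoszulRegularIdeal` at a prime -/
def LocKReg (I : Ideal A) (p : Ideal A) : Prop :=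
  ∃ g : A, g ∉ p ∧ ∃ l : List (Localization.Away g),
    LCI.IsKoszulRegularSeq (Localization.Away g) l ∧
      I.map (algebraMap A (Localization.Away g)) = Ideal.span {x | x ∈ l}

lemma isKoszulRegularIdeal_iff (I : Ideal A) : LCI.IsKoszulRegularIdeal I ↔
    ∀ p : PrimeSpectrum A, I ≤ p.asIdeal → LocKReg I p.asIdeal := Iff.rfl

/-- flexible introduction rule -/
theorem locKReg_of_isLocalization (I p : Ideal A) (g : A) (hg : g ∉ p)
    (T : Type u) [CommRing T] [Algebra A T] [IsLocalization.Away g T] (l : List T)
    (hl : LCI.IsKoszulRegularSeq T l)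
    (hI : I.map (algebraMap A T) = Ideal.span {x | x ∈ l}) : LocKReg I p := by
  let e : T ≃ₐ[A] Localization.Away g :=
    IsLocalization.algEquiv (Submonoid.powers g) T (Localization.Away g)
  refine ⟨g, hg, l.map e.toRingEquiv, kreg_map_ringEquiv e.toRingEquiv l hl, ?_⟩
  have h1 : (e.toRingEquiv : T →+* Localization.Away g).comp (algebraMap A T) =
      algebraMap A (Localization.Away g) := by
    ext a
    exact e.commutes a
  have h2 := span_map_list (e.toRingEquiv : T →+* Localization.Away g) l
  have h3 : (l.map (e.toRingEquiv : T →+* Localization.Away g)) = l.map e.toRingEquiv := rfl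
  rw [← h3, h2, ← hI, Ideal.map_map, h1]

/-- refinement of the localization -/
theorem kreg_away_mul (G s : A) (T : Type u) [CommRing T] [Algebra A T] [IsLocalization.Away G T]
    (T' : Type u) [CommRing T'] [Algebra A T'] [IsLocalization.Away (G * s) T'] (l : List A)
    (h : LCI.IsKoszulRegularSeq T (l.map (algebraMap A T))) :
    LCI.IsKoszulRegularSeq T' (l.map (algebraMap A T')) := by
  let Q := Localization.Away (algebraMap A T s)
  have h1 : LCI.IsKoszulRegularSeq Q ((l.map (algebraMap A T)).map (algebraMap T Q)) :=
    isKoszulRegularSeq_of_flat _ h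
  haveI : IsLocalization.Away (G * s) Q := inferInstance
  let e : Q ≃ₐ[A] T' := IsLocalization.algEquiv (Submonoid.powers (G * s)) Q T'
  have h2 := kreg_map_ringEquiv e.toRingEquiv _ h1
  have h3 : ((l.map (algebraMap A T)).map (algebraMap T Q)).map e.toRingEquiv =
      l.map (algebraMap A T') := by
    rw [List.map_map, List.map_map]
    refine List.map_congr_left fun a _ => ?_
    simp only [Function.comp_apply]
    rw [← IsScalarTower.algebraMap_apply A T Q]
    exact e.commutes a
  rwa [h3] at h2

section awayMap
variable {R P : Type u} [CommRing R] [CommRing P] (ev : R →+* P) (hev : Function.Surjective ev)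
  (G : R) (T : Type u) [CommRing T] [Algebra R T] [IsLocalization.Away G T]
  (P' : Type u) [CommRing P'] [Algebra P P'] [IsLocalization.Away (ev G) P']

include hev in
lemma awayMap_surjective : Function.Surjective (IsLocalization.Away.map T P' ev G) := by
  rw [IsLocalization.Away.map_surjective_iff]
  intro a
  obtain ⟨b, rfl⟩ := hev a
  exact ⟨b, 0, by simp⟩

lemma awayMap_comp : (IsLocalization.Away.map T P' ev G).comp (algebraMap R T) =
    (algebraMap P P').comp ev := by
  ext x
  simp [IsLocalization.Away.map]

lemma ker_awayMap : RingHom.ker (IsLocalization.Away.map T P' ev G) =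
    (RingHom.ker ev).map (algebraMap R T) :=
  IsLocalization.ker_map (S := T) P' ev (Submonoid.map_powers ev G)

include hev in
lemma comap_awayMap (K : Ideal P) :
    (K.comap ev).map (algebraMap R T) =
      (K.map (algebraMap P P')).comap (IsLocalization.Away.map T P' ev G) := by
  have h1 : K.map (algebraMap P P') =
      ((K.comap ev).map (algebraMap R T)).map (IsLocalization.Away.map T P' ev G) := by
    rw [Ideal.map_map, awayMap_comp, ← Ideal.map_map, Ideal.map_comap_of_surjective ev hev]
  rw [h1, Ideal.comap_map_of_surjective _ (awayMap_surjective ev hev G T P'),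
    ← RingHom.ker_eq_comap_bot, ker_awayMap]
  refine le_antisymm le_sup_left (sup_le le_rfl (Ideal.map_mono ?_))
  intro x hx
  rw [Ideal.mem_comap, (RingHom.mem_ker).1 hx]
  exact K.zero_mem

end awayMap

end Groth.Agent.Helper3.KzLoc
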