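import Mathlib
import Groth.Prelude.Def_ega3
import Groth.Prelude.Def_LCI2
import Groth.Agent.Lead.KoszulFunE
import Groth.Agent.Helper3.KoszulGen
import Groth.Agent.Helper3.KzCancel
import Groth.Agent.Helper3.KzLoc
import Groth.Agent.Helper3.KzExch

set_option autoImplicit false
set_option linter.style.haveILetI false
set_option linter.unusedSectionVars false
set_option linter.unusedVariables false
set_option linter.style.haveILetI false
set_option linter.unusedSectionVars false
set_option linter.unusedVariables false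

/-!
# Koszul-regular ideals along a surjection with Koszul-regular kernel
-/

namespace Groth.Agent.Helper3.KzUpDown
open Groth.Agent.Lead.KoszulFunC Groth.Agent.Lead.KoszulFunE
open Groth.Agent.Helper3.KzLoc Groth.Agent.Helper3.KzExch Groth.Agent.Helper3.KoszulGen
open Groth.Agent.Helper3.KzCancel

universe u
variable {R P : Type u} [CommRing R] [CommRing P] (ev : R →+* P) (hev : Function.Surjective ev)

include hev in
/-- going up: the preimage of a locally Koszul-regular ideal under a surjection with
Koszul-regular kernel is locally Koszul-regular -/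
theorem up (f : List R) (hker : RingHom.ker ev = Ideal.ofList f)
    (hf : LCI.IsKoszulRegularSeq R f) (K p : Ideal P) (h : LocKReg K p) :
    LocKReg (K.comap ev) (p.comap ev) := by
  obtain ⟨g, hg, l, hl, hI⟩ := h
  obtain ⟨G, rfl⟩ := hev g
  let T := Localization.Away G
  let P' := Localization.Away (ev G)
  let φ : T →+* P' := IsLocalization.Away.map T P' ev G
  have hφ : Function.Surjective φ := awayMap_surjective ev hev G T P'
  let l' : List T := l.map (Function.surjInv hφ)
  have hl' : l'.map φ = l := by
    rw [List.map_map]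
    conv_rhs => rw [← List.map_id l]
    refine List.map_congr_left fun a _ => ?_
    exact Function.surjInv_eq hφ a
  let fT : List T := f.map (algebraMap R T)
  have hfT : LCI.IsKoszulRegularSeq T fT := isKoszulRegularSeq_of_flat f hf
  have hkerφ : RingHom.ker φ = Ideal.ofList fT := by
    rw [ker_awayMap ev G T P', hker, Ideal.map_ofList]
  have happ : LCI.IsKoszulRegularSeq T (l' ++ fT) :=
    isKoszulRegularSeq_append φ hφ fT l' hkerφ hfT (hl'.symm ▸ hl)
  refine ⟨G, hg, l' ++ fT, happ, ?_⟩
  rw [comap_awayMap ev hev G T P' K, hI]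
  change Ideal.comap φ (Ideal.ofList l) = Ideal.ofList (l' ++ fT)
  rw [← hl', ← Ideal.map_ofList, Ideal.comap_map_of_surjective φ hφ, ← RingHom.ker_eq_comap_bot,
    hkerφ, Ideal.ofList_append]

section down
variable {m : ℕ} (fv : Fin m → R) (hker : RingHom.ker ev = Ideal.ofList (List.ofFn fv))
  (hf : LCI.IsKoszulRegularSeq R (List.ofFn fv))

lemma map_eq_of_le_sat (s' s : R) (hdvd : s' ∣ s) (T' : Type u) [CommRing T'] [Algebra R T']
    [IsLocalization.Away s T'] (W J : Ideal R) (h1 : W ≤ J) (h2 : J ≤ sat s' W) :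
    W.map (algebraMap R T') = J.map (algebraMap R T') := by
  refine le_antisymm (Ideal.map_mono h1) ?_
  rw [Ideal.map_le_iff_le_comap]
  intro x hx
  obtain ⟨e, he⟩ := h2 hx
  rw [Ideal.mem_comap]
  have hu : IsUnit (algebraMap R T' (s' ^ e)) := by
    rw [map_pow]
    exact (IsLocalization.Away.isUnit_of_dvd s hdvd).pow e
  have := Ideal.mem_map_of_mem (algebraMap R T') he
  rw [map_mul] at this
  exact (Ideal.unit_mul_mem_iff_mem _ hu).1 this

/-- clearing denominators of a generating list -/
lemma exists_clear (G : R) (J : Ideal R) (h : List (Localization.Away G))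
    (hJ : J.map (algebraMap R (Localization.Away G)) = Ideal.ofList h) :
    ∃ H : Fin h.length → R, (∀ k, H k ∈ J) ∧
      Ideal.ofList ((List.ofFn H).map (algebraMap R (Localization.Away G))) = Ideal.ofList h := by
  have key : ∀ k : Fin h.length, ∃ a : R, a ∈ J ∧ ∃ e : ℕ,
      h[k] * algebraMap R (Localization.Away G) (G ^ e) = algebraMap R (Localization.Away G) a := by
    intro k
    have hk : h[k] ∈ J.map (algebraMap R (Localization.Away G)) := by
      rw [hJ]
      exact Ideal.subset_span (List.getElem_mem k.2)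
    rw [IsLocalization.mem_map_algebraMap_iff (Submonoid.powers G)] at hk
    obtain ⟨⟨⟨a, ha⟩, ⟨_, e, rfl⟩⟩, hx⟩ := hk
    exact ⟨a, ha, e, hx⟩
  choose H hHJ e he using key
  refine ⟨H, hHJ, ?_⟩
  have hu : ∀ k, IsUnit (algebraMap R (Localization.Away G) (G ^ e k)) := fun k => by
    rw [map_pow]
    exact (IsLocalization.Away.algebraMap_isUnit G).pow _
  apply le_antisymm
  · rw [Ideal.span_le]
    intro x hx
    simp only [List.map_ofFn, Set.mem_setOf_eq, List.mem_ofFn, Function.comp_apply] at hx
    obtain ⟨k, rfl⟩ := hx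
    rw [← he k]
    exact Ideal.mul_mem_right _ _ (Ideal.subset_span (List.getElem_mem k.2))
  · rw [Ideal.span_le]
    intro x hx
    obtain ⟨k, hk, rfl⟩ := List.getElem_of_mem hx
    have h1 : algebraMap R (Localization.Away G) (H ⟨k, hk⟩) ∈
        Ideal.ofList ((List.ofFn H).map (algebraMap R (Localization.Away G))) := by
      apply Ideal.subset_span
      simp only [List.map_ofFn, Set.mem_setOf_eq, List.mem_ofFn, Function.comp_apply]
      exact ⟨⟨k, hk⟩, rfl⟩
    rw [← he ⟨k, hk⟩] at h1
    exact (Ideal.mul_unit_mem_iff_mem _ (hu ⟨k, hk⟩)).1 h1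

lemma ofList_ofFn_map {S : Type*} [CommRing S] {N : ℕ} (H : Fin N → R) (ψ : R →+* S) :
    Ideal.ofList ((List.ofFn H).map ψ) = (Ideal.span (Set.range H)).map ψ := by
  rw [Ideal.map_span]
  refine congrArg Ideal.span ?_
  ext y
  simp only [List.map_ofFn, Set.mem_setOf_eq, List.mem_ofFn, Function.comp_apply, Set.mem_image,
    Set.mem_range]
  constructor
  · rintro ⟨k, rfl⟩
    exact ⟨H k, ⟨k, rfl⟩, rfl⟩
  · rintro ⟨_, ⟨k, rfl⟩, rfl⟩
    exact ⟨k, rfl⟩

include hev hker hf in
/-- going down: if the preimage `J` of `K` under a surjection with Koszul-regular kernel `(f)` is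
locally Koszul-regular at a prime `q`, and the `f i` are linearly independent in `J / q J`,
then `K` is locally Koszul-regular at the image prime. -/
theorem down (K p : Ideal P) [p.IsPrime] (hKp : K ≤ p)
    (hLI : ∀ c : Fin m → R, ∑ i, c i * fv i ∈ (p.comap ev) * (K.comap ev) →
      ∀ i, c i ∈ p.comap ev)
    (h : LocKReg (K.comap ev) (p.comap ev)) : LocKReg K p := by
  classical
  set J := K.comap ev with hJdef
  set q := p.comap ev with hqdef
  haveI : q.IsPrime := Ideal.comap_isPrime ev p
  have hJq : J ≤ q := Ideal.comap_mono hKp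
  have hkerJ : RingHom.ker ev ≤ J := by
    intro x hx
    rw [hJdef, Ideal.mem_comap, (RingHom.mem_ker).1 hx]
    exact K.zero_mem
  have hfJ : ∀ i, fv i ∈ J := by
    intro i
    apply hkerJ
    rw [hker]
    exact Ideal.subset_span ((List.mem_ofFn' fv (fv i)).2 ⟨i, rfl⟩)
  obtain ⟨G, hG, hl, hhl, hJG⟩ := h
  replace hJG : J.map (algebraMap R (Localization.Away G)) = Ideal.ofList hl := hJG
  obtain ⟨H, hHJ, hspanH⟩ := exists_clear G J hl hJG
  have hHreg : LCI.IsKoszulRegularSeq (Localization.Away G)
      ((List.ofFn H).map (algebraMap R (Localization.Away G))) :=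
    isKoszulRegularSeq_of_span_eq hl _ (by simp) hspanH.symm hhl
  have h₀ : J ≤ sat G (Ideal.span (Set.range H)) := by
    intro x hx
    have h1 : algebraMap R (Localization.Away G) x ∈
        (Ideal.span (Set.range H)).map (algebraMap R (Localization.Away G)) := by
      rw [← ofList_ofFn_map, hspanH, ← hJG]
      exact Ideal.mem_map_of_mem _ hx
    rw [IsLocalization.algebraMap_mem_map_algebraMap_iff (Submonoid.powers G)] at h1
    obtain ⟨_, ⟨e, rfl⟩, he⟩ := h1
    exact ⟨e, he⟩
  obtain ⟨s, hs, ⟨s₁, rfl⟩, T, hcard, hJT⟩ := exchange q J hJq fv hfJ hLI H hHJ G hG h₀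
  let T' := Localization.Away (G * s₁)
  have hHreg' : LCI.IsKoszulRegularSeq T' ((List.ofFn H).map (algebraMap R T')) :=
    kreg_away_mul G s₁ (Localization.Away G) T' _ hHreg
  let L : List R := T.toList.map H ++ List.ofFn fv
  have hLlen : L.length = (List.ofFn H).length := by
    simp only [L, List.length_append, List.length_map, Finset.length_toList, List.length_ofFn]
    exact hcard
  have hHspan : Ideal.ofList ((List.ofFn H).map (algebraMap R T')) =
      J.map (algebraMap R T') := by
    rw [ofList_ofFn_map]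
    refine map_eq_of_le_sat G (G * s₁) (dvd_mul_right G s₁) T' _ J ?_ h₀
    rw [Ideal.span_le]
    rintro _ ⟨k, rfl⟩
    exact hHJ k
  have hLset : {x | x ∈ L} = Set.range fv ∪ H '' ↑T := by
    ext x
    simp only [L, List.mem_append, List.mem_map, Finset.mem_toList, List.mem_ofFn,
      Set.mem_setOf_eq, Set.mem_union, Set.mem_range, Set.mem_image, Finset.mem_coe]
    exact Or.comm
  have hLspan : Ideal.ofList (L.map (algebraMap R T')) = J.map (algebraMap R T') := by
    rw [← Ideal.map_ofList]
    change (Ideal.span {x | x ∈ L}).map _ = _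
    rw [hLset]
    refine map_eq_of_le_sat (G * s₁) (G * s₁) dvd_rfl T' _ J ?_ hJT
    rw [Ideal.span_le]
    rintro _ (⟨i, rfl⟩ | ⟨k, _, rfl⟩)
    · exact hfJ i
    · exact hHJ k
  have hLreg : LCI.IsKoszulRegularSeq T' (L.map (algebraMap R T')) :=
    isKoszulRegularSeq_of_span_eq _ _ (by simp only [List.length_map, hLlen])
      (hHspan.trans hLspan.symm) hHreg'
  let P' := Localization.Away (ev (G * s₁))
  let φ : T' →+* P' := IsLocalization.Away.map T' P' ev (G * s₁)
  have hφ : Function.Surjective φ := awayMap_surjective ev hev (G * s₁) T' P'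
  let fT : List T' := (List.ofFn fv).map (algebraMap R T')
  have hkerφ : RingHom.ker φ = Ideal.ofList fT := by
    rw [ker_awayMap ev (G * s₁) T' P', hker, Ideal.map_ofList]
  have hfT : LCI.IsKoszulRegularSeq T' fT := isKoszulRegularSeq_of_flat _ hf
  let gl : List T' := (T.toList.map H).map (algebraMap R T')
  have hLgl : L.map (algebraMap R T') = gl ++ fT := by
    simp only [L, gl, fT, List.map_append]
  have hcancel : LCI.IsKoszulRegularSeq P' (gl.map φ) :=
    isKoszulRegularSeq_of_append φ hφ fT gl hkerφ hfT (hLgl ▸ hLreg)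
  refine ⟨ev (G * s₁), hs, gl.map φ, hcancel, ?_⟩
  have h1 : K.map (algebraMap P P') = (J.map (algebraMap R T')).map φ := by
    rw [Ideal.map_map, awayMap_comp ev (G * s₁) T' P', ← Ideal.map_map, hJdef,
      Ideal.map_comap_of_surjective ev hev]
  rw [h1, ← hLspan, hLgl, Ideal.map_ofList, List.map_append, Ideal.ofList_append]
  have h2 : Ideal.ofList (fT.map φ) = ⊥ := by
    rw [← Ideal.map_ofList, ← hkerφ]
    exact (Ideal.map_eq_bot_iff_le_ker φ).2 le_rfl
  rw [h2, sup_bot_eq]

end down

end Groth.Agent.Helper3.KzUpDown
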