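import Mathlib
import Groth.Prelude.Def_ega3
import Groth.Prelude.Def_LCI2
import Groth.Agent.Helper3.KzUpDown

set_option autoImplicit false
set_option linter.style.haveILetI false
set_option linter.unusedSectionVars false
set_option linter.unusedVariables false
set_option linter.style.haveILetI false
set_option linter.unusedSectionVars false
set_option linter.unusedVariables false

/-!
# Koszul-regular ideals: preimages under surjections with Koszul-regular kernel, ring isomorphisms
-/

namespace Groth.Agent.Helper3.KzIdeal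
open Groth.Agent.Helper3.KzLoc Groth.Agent.Helper3.KzUpDown

universe u
variable {R P : Type u} [CommRing R] [CommRing P] (ev : R →+* P) (hev : Function.Surjective ev)

include hev in
theorem up_ideal (f : List R) (hker : RingHom.ker ev = Ideal.ofList f)
    (hf : LCI.IsKoszulRegularSeq R f) (K : Ideal P) (hK : LCI.IsKoszulRegularIdeal K) :
    LCI.IsKoszulRegularIdeal (K.comap ev) := by
  intro q hq
  have hkerq : RingHom.ker ev ≤ q.asIdeal := by
    refine le_trans ?_ hq
    intro x hx
    rw [Ideal.mem_comap, (RingHom.mem_ker).1 hx]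
    exact K.zero_mem
  haveI hp : (Ideal.map ev q.asIdeal).IsPrime := Ideal.map_isPrime_of_surjective hev hkerq
  have hcomap : (Ideal.map ev q.asIdeal).comap ev = q.asIdeal := by
    rw [Ideal.comap_map_of_surjective ev hev, ← RingHom.ker_eq_comap_bot]
    exact sup_eq_left.2 hkerq
  have hKp : K ≤ Ideal.map ev q.asIdeal := by
    rw [← Ideal.map_comap_of_surjective ev hev K]
    exact Ideal.map_mono hq
  have h1 := hK ⟨Ideal.map ev q.asIdeal, hp⟩ hKp
  have h2 := up ev hev f hker hf K _ h1
  rw [hcomap] at h2
  exact h2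

include hev in
theorem down_ideal {m : ℕ} (fv : Fin m → R)
    (hker : RingHom.ker ev = Ideal.ofList (List.ofFn fv))
    (hf : LCI.IsKoszulRegularSeq R (List.ofFn fv)) (K : Ideal P)
    (hLI : ∀ p : Ideal P, p.IsPrime → K ≤ p → ∀ c : Fin m → R,
      ∑ i, c i * fv i ∈ (p.comap ev) * (K.comap ev) → ∀ i, c i ∈ p.comap ev)
    (hJ : LCI.IsKoszulRegularIdeal (K.comap ev)) : LCI.IsKoszulRegularIdeal K := by
  intro p hp
  haveI := p.isPrime
  exact down ev hev fv hker hf K p.asIdeal hp (hLI p.asIdeal p.isPrime hp)
    (hJ ⟨p.asIdeal.comap ev, Ideal.comap_isPrime ev p.asIdeal⟩ (Ideal.comap_mono hp))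

/-- Koszul-regular ideals are preserved by ring isomorphisms -/
theorem map_ringEquiv {R₁ R₂ : Type u} [CommRing R₁] [CommRing R₂] (σ : R₁ ≃+* R₂)
    (J : Ideal R₁) (hJ : LCI.IsKoszulRegularIdeal J) :
    LCI.IsKoszulRegularIdeal (J.map (σ : R₁ →+* R₂)) := by
  intro q hq
  have hq1 : J ≤ q.asIdeal.comap (σ : R₁ →+* R₂) := Ideal.map_le_iff_le_comap.1 hq
  obtain ⟨g, hg, l, hl, hI⟩ := hJ ⟨q.asIdeal.comap (σ : R₁ →+* R₂), Ideal.comap_isPrime _ _⟩ hq1
  letI : Algebra R₂ (Localization.Away g) :=
    ((algebraMap R₁ (Localization.Away g)).comp σ.symm.toRingHom).toAlgebra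
  have hloc : IsLocalization ((Submonoid.powers g).map σ) (Localization.Away g) :=
    IsLocalization.isLocalization_of_base_ringEquiv (Submonoid.powers g) (Localization.Away g) σ
  haveI : IsLocalization.Away (σ g) (Localization.Away g) := by
    have : (Submonoid.powers g).map σ = Submonoid.powers (σ g) := Submonoid.map_powers σ g
    rw [this] at hloc
    exact hloc
  refine locKReg_of_isLocalization _ _ (σ g) hg (Localization.Away g) l hl ?_
  rw [← hI, Ideal.map_map]
  congr 1
  ext x
  simp [RingHom.algebraMap_toAlgebra]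

end Groth.Agent.Helper3.KzIdeal
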