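import Mathlib
import Groth.Prelude.Def_ega3
import Groth.Prelude.Def_LCI2
import Groth.Agent.Helper1.KoszulReg
import Groth.Agent.Helper3.KzIdeal

set_option autoImplicit false
set_option linter.style.haveILetI false
set_option linter.unusedSectionVars false
set_option linter.unusedVariables false
set_option linter.style.haveILetI false
set_option linter.unusedSectionVars false
set_option linter.unusedVariables false

/-!
# Koszul-regular ideals and localization away from an element
-/

namespace Groth.Agent.Helper3.KzAway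
open Polynomial Groth.Agent.Helper3.KzLoc Groth.Agent.Helper3.KzIdeal

universe u
variable {P : Type u} [CommRing P]

/-- the local condition can be checked after localizing away from an element outside the prime -/
theorem locKReg_of_away (G : P) (PG : Type u) [CommRing PG] [Algebra P PG]
    [IsLocalization.Away G PG] (K q : Ideal P)
    (h : LocKReg (K.map (algebraMap P PG)) (q.map (algebraMap P PG))) (hG : G ∉ q)
    [q.IsPrime] : LocKReg K q := by
  obtain ⟨g', hg', l, hl, hI⟩ := h
  obtain ⟨k, y, hy⟩ := IsLocalization.Away.surj G g' (S := PG)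
  have hu : IsUnit (algebraMap P PG G ^ k) := (IsLocalization.Away.algebraMap_isUnit G).pow k
  have hassoc : Associated g' (algebraMap P PG y) := ⟨hu.unit, by rw [IsUnit.unit_spec, hy]⟩
  haveI : IsLocalization.Away (algebraMap P PG y) (Localization.Away g') :=
    IsLocalization.Away.of_associated hassoc
  haveI : IsLocalization.Away (G * y) (Localization.Away g') :=
    IsLocalization.Away.mul' PG (Localization.Away g') G y
  have hy' : y ∉ q := by
    intro hyq
    apply hg'
    have h1 : algebraMap P PG y ∈ q.map (algebraMap P PG) := Ideal.mem_map_of_mem _ hyq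
    rw [← hy] at h1
    exact (Ideal.mul_unit_mem_iff_mem _ hu).1 h1
  have hGy : G * y ∉ q := by
    intro h
    rcases Ideal.IsPrime.mem_or_mem inferInstance h with h | h
    · exact hG h
    · exact hy' h
  refine locKReg_of_isLocalization K q (G * y) hGy (Localization.Away g') l hl ?_
  rw [IsScalarTower.algebraMap_eq P PG (Localization.Away g'), ← Ideal.map_map]
  exact hI

section adjoin
variable (G : P)

/-- the polynomial `G X - 1` -/
noncomputable abbrev fG : P[X] := C G * X - 1

lemma isSMulRegular_fG : IsSMulRegular P[X] (fG G) := by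
  intro F F' hFF'
  rw [← sub_eq_zero]
  have h0 : fG G * (F - F') = 0 := by
    simp only [smul_eq_mul] at hFF'
    rw [mul_sub, hFF', sub_self]
  set D := F - F'
  ext k
  rw [coeff_zero]
  induction k with
  | zero =>
    have := congrArg (fun p => coeff p 0) h0
    simp only [fG, sub_mul, one_mul, coeff_sub, mul_assoc, coeff_C_mul, coeff_X_mul_zero, mul_zero,
      zero_sub, coeff_zero, neg_eq_zero] at this
    exact this
  | succ k ih =>
    have := congrArg (fun p => coeff p (k + 1)) h0
    simp only [fG, sub_mul, one_mul, coeff_sub, mul_assoc, coeff_C_mul, coeff_X_mul, ih, mul_zero,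
      zero_sub, coeff_zero, neg_eq_zero] at this
    exact this

lemma kreg_fG : LCI.IsKoszulRegularSeq P[X] (List.ofFn (fun _ : Fin 1 => fG G)) := by
  rw [Groth.Agent.Lead.KoszulFunC.isKoszulRegularSeq_iff]
  have hw : RingTheory.Sequence.IsWeaklyRegular P[X] (List.ofFn (fun _ : Fin 1 => fG G)) := by
    rw [List.ofFn_succ, List.ofFn_zero, RingTheory.Sequence.isWeaklyRegular_singleton_iff]
    exact isSMulRegular_fG G
  exact Groth.Agent.Helper1.Koszul.isZero_homology_of_isWeaklyRegular _ _ hw

lemma ker_mk_fG : RingHom.ker (AdjoinRoot.mk (fG G)) =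
    Ideal.ofList (List.ofFn (fun _ : Fin 1 => fG G)) := by
  have h1 : {x | x ∈ List.ofFn (fun _ : Fin 1 => fG G)} = {fG G} := by
    ext x
    simp
  change _ = Ideal.span _
  rw [h1]
  ext x
  rw [RingHom.mem_ker, AdjoinRoot.mk_eq_zero, Ideal.mem_span_singleton]

lemma isUnit_mk_C : IsUnit (AdjoinRoot.mk (fG G) (C G)) := by
  refine IsUnit.of_mul_eq_one (AdjoinRoot.mk (fG G) X) ?_
  rw [← map_mul, ← sub_eq_zero, ← map_one (AdjoinRoot.mk (fG G)), ← map_sub]
  exact AdjoinRoot.mk_self

/-- the linear independence condition for `G X - 1` -/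
lemma li (K p : Ideal (AdjoinRoot (fG G))) [p.IsPrime] (hKp : K ≤ p) (c : Fin 1 → P[X])
    (hc : ∑ i, c i * (fun _ : Fin 1 => fG G) i ∈
      (p.comap (AdjoinRoot.mk (fG G))) * (K.comap (AdjoinRoot.mk (fG G)))) (j : Fin 1) :
    c j ∈ p.comap (AdjoinRoot.mk (fG G)) := by
  have key : ∀ F ∈ (p.comap (AdjoinRoot.mk (fG G))) * (K.comap (AdjoinRoot.mk (fG G))),
      AdjoinRoot.mk (fG G) (derivative F) ∈ p := by
    intro F hF
    refine Submodule.mul_induction_on hF ?_ ?_
    · intro q hq J hJ
      rw [derivative_mul, map_add, map_mul, map_mul]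
      exact p.add_mem (p.mul_mem_left _ (hKp hJ)) (p.mul_mem_right _ hq)
    · intro x y hx hy
      rw [derivative_add, map_add]
      exact p.add_mem hx hy
  have h1 := key _ hc
  rw [Fin.sum_univ_one, derivative_mul, map_add, map_mul, map_mul] at h1
  have h2 : AdjoinRoot.mk (fG G) (fG G) = 0 := AdjoinRoot.mk_self
  have h3 : derivative (fG G) = C G := by
    simp [fG]
  rw [h2, mul_zero, zero_add, h3] at h1
  have hj : j = 0 := Subsingleton.elim _ _
  rw [hj, Ideal.mem_comap]
  exact (Ideal.mul_unit_mem_iff_mem _ (isUnit_mk_C G)).1 h1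

theorem adjoin_down (K : Ideal (AdjoinRoot (fG G)))
    (hJ : LCI.IsKoszulRegularIdeal (K.comap (AdjoinRoot.mk (fG G)))) :
    LCI.IsKoszulRegularIdeal K :=
  down_ideal _ AdjoinRoot.mk_surjective _ (ker_mk_fG G) (kreg_fG G) K
    (fun p hp hKp c hc j => by haveI := hp; exact li G K p hKp c hc j) hJ

end adjoin

end Groth.Agent.Helper3.KzAway
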