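import Mathlib
import Groth.Prelude.Def_DRing2
import Groth.Prelude.Def_DDual2
import Groth.Agent.Helper3.DRingRestr
import Groth.Agent.Helper3.DRingPeel2
import Groth.Agent.Helper3.DRingPC5
import Groth.Agent.Helper3.DRingPC3
import Groth.Agent.Helper3.DRingRes

/-! Restriction of scalars: pseudo-coherence of restricted finite free modules. -/

set_option autoImplicit false
universe u
open CategoryTheory CategoryTheory.Limits

namespace Groth.Agent.Helper3.DRingLib

attribute [local instance] HasDerivedCategory.standard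

open Pretriangulated DerivedCategory ZeroObject

section FFInd

variable {B : Type u} [CommRing B]

/-- Induction principle for finite free modules. -/
theorem finite_free_induction (P : ModuleCat.{u} B → Prop)
    (hiso : ∀ {M N : ModuleCat.{u} B}, (M ≅ N) → P M → P N)
    (hzero : ∀ M : ModuleCat.{u} B, IsZero M → P M)
    (hext : ∀ S : ShortComplex (ModuleCat.{u} B), S.ShortExact → P S.X₁ → P S.X₃ → P S.X₂)
    (hB : P (ModuleCat.of B B)) (M : ModuleCat.{u} B) [Module.Finite B M] [Module.Free B M] :
    P M := by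
  have hprod : ∀ (X Y : Type u) [AddCommGroup X] [Module B X] [AddCommGroup Y] [Module B Y],
      P (ModuleCat.of B X) → P (ModuleCat.of B Y) → P (ModuleCat.of B (X × Y)) := by
    intro X Y _ _ _ _ hX hY
    let S : ShortComplex (ModuleCat.{u} B) :=
      ShortComplex.mk (ModuleCat.ofHom (LinearMap.inl B X Y)) (ModuleCat.ofHom (LinearMap.snd B X Y))
        (by ext x; rfl)
    have hS : S.ShortExact := by
      refine ModuleCat.shortComplex_shortExact S ?_ ?_ ?_
      · exact (LinearMap.exact_iff).mpr (LinearMap.range_inl B X Y).symm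
      · exact LinearMap.inl_injective
      · exact LinearMap.snd_surjective
    exact hext S hS hX hY
  have hfin : ∀ n : ℕ, P (ModuleCat.of B (Fin n → B)) := by
    intro n
    induction n with
    | zero =>
      apply hzero
      exact ModuleCat.isZero_of_subsingleton _
    | succ n ih =>
      have h1 := hprod B (Fin n → B) hB ih
      exact hiso (Fin.consLinearEquiv B (fun _ : Fin (n + 1) => B)).toModuleIso h1
  let b := Module.Free.chooseBasis B M
  let e : M ≃ₗ[B] (Fin (Fintype.card (Module.Free.ChooseBasisIndex B M)) → B) :=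
    b.equivFun ≪≫ₗ (LinearEquiv.funCongrLeft B B (Fintype.equivFin _).symm)
  exact hiso e.symm.toModuleIso (hfin _)

end FFInd

section PC

variable {A B : Type u} [CommRing A] [CommRing B] [Algebra A B]

/-- the restricted single module of a short exact sequence gives a distinguished triangle. -/
lemma restr_single_ext (P : Dual.D A → Prop)
    (hext : ∀ T : Triangle (Dual.D A), T ∈ distTriang _ → P T.obj₁ → P T.obj₃ → P T.obj₂)
    (S : ShortComplex (ModuleCat.{u} B)) (hS : S.ShortExact)
    (h1 : P ((singleFunctor (ModuleCat.{u} A) 0).obj ((rF (algebraMap A B)).obj S.X₁)))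
    (h3 : P ((singleFunctor (ModuleCat.{u} A) 0).obj ((rF (algebraMap A B)).obj S.X₃))) :
    P ((singleFunctor (ModuleCat.{u} A) 0).obj ((rF (algebraMap A B)).obj S.X₂)) := by
  have hS' : (S.map (rF (algebraMap A B))).ShortExact := hS.map_of_exact _
  exact hext _ hS'.singleTriangle_distinguished h1 h3

/-- A triangulated property of objects of `D(A)` holding for `B[0]` holds for the restriction
of every bounded complex of finite free `B`-modules. -/
theorem restr_bff_induction (P : Dual.D A → Prop)
    (hiso : ∀ {K L : Dual.D A}, (K ≅ L) → P K → P L)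
    (hzero : ∀ K : Dual.D A, IsZero K → P K)
    (hext : ∀ T : Triangle (Dual.D A), T ∈ distTriang _ → P T.obj₁ → P T.obj₃ → P T.obj₂)
    (hshift : ∀ (K : Dual.D A) (n : ℤ), P K → P (K⟦n⟧))
    (hB : P (Dual.inD A B)) {a b : ℤ} {X : Dual.D B} (hX : IsBFF a b X) :
    P ((DRing.restrictD (algebraMap A B)).obj X) := by
  obtain ⟨E, hv, hff, ⟨e⟩⟩ := hX
  refine hiso ((DRing.restrictD (algebraMap A B)).mapIso e) ?_
  refine induction_on_bounded' (fun K => P ((DRing.restrictD (algebraMap A B)).obj K))
    (fun e h => hiso ((DRing.restrictD (algebraMap A B)).mapIso e) h)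
    (fun K hK => hzero _ (Functor.map_isZero _ hK))
    (fun T hT h1 h3 => hext _ ((DRing.restrictD (algebraMap A B)).map_distinguished _ hT) h1 h3)
    E a b hv (fun i => ?_)
  obtain ⟨h1, h2⟩ := hff i
  -- the module case
  have hmod : P ((singleFunctor (ModuleCat.{u} A) 0).obj ((rF (algebraMap A B)).obj (E.X i))) := by
    refine finite_free_induction
      (fun M => P ((singleFunctor (ModuleCat.{u} A) 0).obj ((rF (algebraMap A B)).obj M)))
      (fun e h => hiso ((singleFunctor (ModuleCat.{u} A) 0).mapIso
        ((rF (algebraMap A B)).mapIso e)) h)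
      (fun M hM => hzero _ (Functor.map_isZero _ (Functor.map_isZero _ hM)))
      (fun S hS h1 h3 => restr_single_ext P hext S hS h1 h3) ?_ (E.X i)
    exact hiso ((singleFunctor (ModuleCat.{u} A) 0).mapIso
      (restrictSelfEquiv (A := A) (B := B)).toModuleIso.symm) hB
  refine hiso ((DRing.restrictD (algebraMap A B)).mapIso (singleShiftIso (E.X i) i)) ?_
  refine hiso (((DRing.restrictD (algebraMap A B)).commShiftIso (-i)).symm.app _) ?_
  exact hshift _ _ (hiso (rDSingle (algebraMap A B) 0 (E.X i)).symm hmod)

end PC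

section PC2

variable {A B : Type u} [CommRing A] [CommRing B] [Algebra A B]

omit [CommRing B] [Algebra A B] in
lemma isPseudoCoherent'_of_isZero (K : Dual.D A) (h : IsZero K) :
    DRing.IsPseudoCoherent' A K := by
  obtain ⟨E, h1, h2, ⟨e⟩⟩ := IsBFF.of_isZero (a := 0) (b := 0) h
  exact ⟨E, 0, fun i hi => h1 i (Or.inr hi), h2, ⟨e⟩⟩

theorem rD_isPseudoCoherent'_of_isBFF (hB : DRing.IsPseudoCoherent' A (Dual.inD A B)) {a b : ℤ}
    {X : Dual.D B} (hX : IsBFF a b X) :
    DRing.IsPseudoCoherent' A ((DRing.restrictD (algebraMap A B)).obj X) :=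
  restr_bff_induction (DRing.IsPseudoCoherent' A) (fun e h => isPseudoCoherent'_of_iso e h)
    isPseudoCoherent'_of_isZero (fun T hT h1 h3 => isPseudoCoherent'_obj₂ T hT h1 h3)
    (fun _ n h => isPseudoCoherent'_shift n h) hB hX

/-- `m`-pseudo-coherence from an approximation by an `m`-pseudo-coherent object. -/
lemma isPseudoCoherent_of_isApprox {m : ℤ} {X K : Dual.D A} (α : X ⟶ K) (hα : IsApprox m α)
    (hX : DRing.IsPseudoCoherent A m X) : DRing.IsPseudoCoherent A m K := by
  obtain ⟨C, p, d, hT⟩ := distinguished_cocone_triangle α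
  have hC : C.IsLE (m - 1) := (isApprox_iff_isLE _ hT m).mp hα
  exact isPseudoCoherent_obj₂ _ hT m hX (isPseudoCoherent_of_isLE C m)

/-- Restriction along `A → B` with `B` pseudo-coherent over `A` preserves `m`-pseudo-coherence. -/
theorem rD_isPseudoCoherent (hB : DRing.IsPseudoCoherent' A (Dual.inD A B)) {m : ℤ} {K : Dual.D B}
    (h : DRing.IsPseudoCoherent B m K) :
    DRing.IsPseudoCoherent A m ((DRing.restrictD (algebraMap A B)).obj K) := by
  rw [isPseudoCoherent_iff] at h
  obtain ⟨X, a, b, α, hX, hα⟩ := h
  exact isPseudoCoherent_of_isApprox _ (rD_isApprox (algebraMap A B) α hα)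
    (isPseudoCoherent_of_isPseudoCoherent' (rD_isPseudoCoherent'_of_isBFF hB hX) m)

lemma finite_HD_of_finite_HD_rD (K : Dual.D B) (p : ℤ)
    (h : Module.Finite A (Dual.HD A ((DRing.restrictD (algebraMap A B)).obj K) p)) :
    Module.Finite B (Dual.HD B K p) := by
  have h1 : Module.Finite A ((rF (algebraMap A B)).obj
      ((homologyFunctor (ModuleCat.{u} B) p).obj K)) :=
    Module.Finite.equiv (rDHDIso (algebraMap A B) K p).toLinearEquiv
  obtain ⟨s, hs⟩ := h1.fg_top
  let s' : Finset ((homologyFunctor (ModuleCat.{u} B) p).obj K) := s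
  have key : ∀ x : (rF (algebraMap A B)).obj ((homologyFunctor (ModuleCat.{u} B) p).obj K),
      x ∈ Submodule.span A (s : Set ((rF (algebraMap A B)).obj
        ((homologyFunctor (ModuleCat.{u} B) p).obj K))) →
      (show (homologyFunctor (ModuleCat.{u} B) p).obj K from x) ∈
        Submodule.span B (s' : Set ((homologyFunctor (ModuleCat.{u} B) p).obj K)) := by
    intro x hx
    induction hx using Submodule.span_induction with
    | mem y hy => exact Submodule.subset_span hy
    | zero => exact Submodule.zero_mem _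
    | add y z _ _ hy hz => exact Submodule.add_mem _ hy hz
    | smul c y _ hy =>
      have : c • y = (algebraMap A B c) •
          (show (homologyFunctor (ModuleCat.{u} B) p).obj K from y) :=
        ModuleCat.restrictScalars.smul_def (algebraMap A B) c y
      rw [this]
      exact Submodule.smul_mem _ _ hy
  refine ⟨⟨s', ?_⟩⟩
  rw [eq_top_iff]
  intro x _
  exact key x (by rw [hs]; trivial)

theorem isPseudoCoherent_of_rD_aux (hB : DRing.IsPseudoCoherent' A (Dual.inD A B))
    (m : ℤ) (n : ℕ) : ∀ (K : Dual.D B) (b : ℤ), K.IsLE b → b < m + n →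
    DRing.IsPseudoCoherent A m ((DRing.restrictD (algebraMap A B)).obj K) →
    DRing.IsPseudoCoherent B m K := by
  induction n with
  | zero =>
    intro K b hb hbm _
    have : K.IsLE (m - 1) := TStructure.t.isLE_of_le _ b (m - 1) (by simp at hbm; omega)
    exact isPseudoCoherent_of_isLE _ m
  | succ n ih =>
    intro K b hb hbm h
    by_cases hbm' : b < m
    · have : K.IsLE (m - 1) := TStructure.t.isLE_of_le _ b (m - 1) (by omega)
      exact isPseudoCoherent_of_isLE _ m
    have hfin : Module.Finite B (Dual.HD B K b) := by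
      apply finite_HD_of_finite_HD_rD (A := A)
      have : ((DRing.restrictD (algebraMap A B)).obj K).IsLE b :=
        (rD_isLE_iff (algebraMap A B) K b).mpr hb
      exact finite_HD_of_isPseudoCoherent _ b (isPseudoCoherent_of_le (by omega) h)
    obtain ⟨X, α, hX, hα⟩ := exists_single_approx' K b hfin
    obtain ⟨K₁, p, d, hT⟩ := distinguished_cocone_triangle α
    have hK₁ : K₁.IsLE (b - 1) := (isApprox_iff_isLE _ hT b).mp hα
    have hK₁pc : DRing.IsPseudoCoherent B m K₁ := by
      apply ih K₁ (b - 1) hK₁ (by push_cast at hbm; omega)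
      have hT' := (DRing.restrictD (algebraMap A B)).map_distinguished _ hT
      exact isPseudoCoherent_obj₃ _ hT' m
        (isPseudoCoherent_of_isPseudoCoherent' (rD_isPseudoCoherent'_of_isBFF hB hX) (m + 1)) h
    exact isPseudoCoherent_obj₂ _ hT m (isPseudoCoherent_of_isBFF hX m) hK₁pc

theorem isPseudoCoherent_of_rD (hB : DRing.IsPseudoCoherent' A (Dual.inD A B)) (m : ℤ)
    (K : Dual.D B)
    (h : DRing.IsPseudoCoherent A m ((DRing.restrictD (algebraMap A B)).obj K)) :
    DRing.IsPseudoCoherent B m K := by
  obtain ⟨b, hb⟩ := exists_isLE_of_isPseudoCoherent h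
  have hKb : K.IsLE b := (rD_isLE_iff (algebraMap A B) K b).mp hb
  exact isPseudoCoherent_of_rD_aux hB m (b - m + 1).toNat K b hKb (by omega) h

theorem isPseudoCoherent_rD_iff (hB : DRing.IsPseudoCoherent' A (Dual.inD A B)) (m : ℤ)
    (K : Dual.D B) :
    DRing.IsPseudoCoherent B m K ↔
      DRing.IsPseudoCoherent A m ((DRing.restrictD (algebraMap A B)).obj K) :=
  ⟨fun h => rD_isPseudoCoherent hB h, fun h => isPseudoCoherent_of_rD hB m K h⟩

theorem isPseudoCoherent'_rD_iff (hB : DRing.IsPseudoCoherent' A (Dual.inD A B))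
    (K : Dual.D B) :
    DRing.IsPseudoCoherent' B K ↔
      DRing.IsPseudoCoherent' A ((DRing.restrictD (algebraMap A B)).obj K) := by
  rw [isPseudoCoherent'_iff_forall, isPseudoCoherent'_iff_forall]
  exact forall_congr' (fun m => isPseudoCoherent_rD_iff hB m K)

end PC2

end Groth.Agent.Helper3.DRingLib
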