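import Mathlib
import Groth.Prelude.Def_DRing2
import Groth.Prelude.Def_DDual2
import Groth.Agent.Helper3.DRingRestr2

/-! Restriction of scalars along a composition, and ring maps along which pseudo-coherence
can be tested. -/

set_option autoImplicit false
universe u
open CategoryTheory CategoryTheory.Limits

namespace Groth.Agent.Helper3.DRingLib

attribute [local instance] HasDerivedCategory.standard

open Pretriangulated DerivedCategory ZeroObject

section Comp

variable {A B C : Type u} [CommRing A] [CommRing B] [CommRing C] (φ : A →+* B) (ψ : B →+* C)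

/-- termwise restriction along a composition. -/
noncomputable def rCxComp (K : DRing.Cx C) :
    (rCx (ψ.comp φ)).obj K ≅ (rCx φ).obj ((rCx ψ).obj K) :=
  HomologicalComplex.Hom.isoOfComponents
    (fun i => ModuleCat.restrictScalarsComp'App φ ψ _ rfl (K.X i))
    (fun i j _ => by
      exact (ModuleCat.restrictScalarsComp'App_hom_naturality φ ψ _ rfl (K.d i j)).symm)

/-- restriction along a composition, on objects of the derived category. -/
noncomputable def rDComp (K : Dual.D C) :
    (DRing.restrictD (ψ.comp φ)).obj K ≅ (DRing.restrictD φ).obj ((DRing.restrictD ψ).obj K) :=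
  let K' : DRing.Cx C := DerivedCategory.Q.objPreimage K
  let e : DRing.toD K' ≅ K := DerivedCategory.Q.objObjPreimageIso K
  (DRing.restrictD (ψ.comp φ)).mapIso e.symm ≪≫ rDToD (ψ.comp φ) K' ≪≫
    DerivedCategory.Q.mapIso (rCxComp φ ψ K') ≪≫ (rDToD φ ((rCx ψ).obj K')).symm ≪≫
    (DRing.restrictD φ).mapIso ((rDToD ψ K').symm ≪≫ (DRing.restrictD ψ).mapIso e)

end Comp

section Good

/-- A ring map `φ : A → B` along which `m`-pseudo-coherence can be tested. -/
def GoodHom {A B : Type u} [CommRing A] [CommRing B] (φ : A →+* B) : Prop :=
  ∀ (C : Type u) [CommRing C] (ψ : B →+* C) (K : Dual.D C) (m : ℤ),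
    DRing.IsPseudoCoherent A m ((DRing.restrictD (ψ.comp φ)).obj K) ↔
      DRing.IsPseudoCoherent B m ((DRing.restrictD ψ).obj K)

lemma GoodHom.comp {A B B' : Type u} [CommRing A] [CommRing B] [CommRing B']
    {φ : A →+* B} {φ' : B →+* B'} (h : GoodHom φ) (h' : GoodHom φ') : GoodHom (φ'.comp φ) :=
  fun C _ ψ K m => by rw [← RingHom.comp_assoc, h C (ψ.comp φ') K m, h' C ψ K m]

theorem goodHom_algebraMap {A B : Type u} [CommRing A] [CommRing B] [Algebra A B]
    (hB : DRing.IsPseudoCoherent' A (Dual.inD A B)) : GoodHom (algebraMap A B) := by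
  intro C _ ψ K m
  rw [isPseudoCoherent_rD_iff hB m ((DRing.restrictD ψ).obj K)]
  constructor
  · intro h
    exact isPseudoCoherent_of_iso (rDComp (algebraMap A B) ψ K) h
  · intro h
    exact isPseudoCoherent_of_iso (rDComp (algebraMap A B) ψ K).symm h

theorem goodHom_of_finite_projective {A B : Type u} [CommRing A] [CommRing B] [Algebra A B]
    [Module.Finite A B] [Module.Projective A B] : GoodHom (algebraMap A B) := by
  apply goodHom_algebraMap
  rw [isPseudoCoherent'_iff_forall]
  intro m
  exact isPseudoCoherent_inD_of_finite_projective' B m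

theorem goodHom_ringEquiv {A B : Type u} [CommRing A] [CommRing B] (e : A ≃+* B) :
    GoodHom e.toRingHom := by
  letI : Algebra A B := e.toRingHom.toAlgebra
  let l : A ≃ₗ[A] B :=
    { e.toAddEquiv with
      map_smul' := fun a x => by
        change e (a * x) = e a * e x
        exact map_mul e a x }
  haveI : Module.Finite A B := Module.Finite.equiv l
  haveI : Module.Projective A B := Module.Projective.of_equiv l
  exact goodHom_of_finite_projective (A := A) (B := B)

end Good

section Poly

open Polynomial

theorem goodHom_evalRingHom {B : Type u} [CommRing B] (b : B) :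
    GoodHom (Polynomial.evalRingHom b) := by
  letI : Algebra B[X] B := (Polynomial.evalRingHom b).toAlgebra
  have halg : ∀ r : B[X], algebraMap B[X] B r = r.eval b := fun r => rfl
  apply goodHom_algebraMap (A := B[X]) (B := B)
  rw [isPseudoCoherent'_iff_forall]
  intro m
  let p : B[X] →ₗ[B[X]] B := Algebra.linearMap B[X] B
  have hp : Function.Surjective p := fun y => ⟨C y, by
    change algebraMap B[X] B (C y) = y
    rw [halg, eval_C]⟩
  let g : B[X] →ₗ[B[X]] LinearMap.ker p :=
    LinearMap.codRestrict (LinearMap.ker p) (LinearMap.toSpanSingleton B[X] B[X] (X - C b))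
      (fun r => by
        rw [LinearMap.mem_ker]
        change algebraMap B[X] B (r • (X - C b)) = 0
        rw [halg, smul_eq_mul, eval_mul, eval_sub, eval_X, eval_C, sub_self, mul_zero])
  have hg : Function.Bijective g := by
    constructor
    · intro r r' h
      have h1 : r * (X - C b) = r' * (X - C b) := congrArg Subtype.val h
      exact (monic_X_sub_C b).isRegular.right h1
    · rintro ⟨q, hq⟩
      rw [LinearMap.mem_ker] at hq
      have hq' : q.IsRoot b := hq
      obtain ⟨r, hr⟩ := dvd_iff_isRoot.mpr hq'
      refine ⟨r, Subtype.ext ?_⟩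
      change r * (X - C b) = q
      rw [hr, mul_comm]
  let l : B[X] ≃ₗ[B[X]] LinearMap.ker p := LinearEquiv.ofBijective g hg
  haveI : Module.Finite B[X] (LinearMap.ker p) := Module.Finite.equiv l
  haveI : Module.Projective B[X] (LinearMap.ker p) := Module.Projective.of_equiv l
  have hS := LinearMap.shortExact_shortComplexKer hp
  have hT := hS.singleTriangle_distinguished
  have h1 : DRing.IsPseudoCoherent B[X] (m + 1) hS.singleTriangle.obj₁ :=
    isPseudoCoherent_inD_of_finite_projective' (LinearMap.ker p) (m + 1)
  have h2 : DRing.IsPseudoCoherent B[X] m hS.singleTriangle.obj₂ :=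
    isPseudoCoherent_inD_of_finite_projective' B[X] m
  exact isPseudoCoherent_obj₃ _ hT m h1 h2

end Poly

section MvPoly

theorem goodHom_mvEval : ∀ (k : ℕ) (B : Type u) [CommRing B] (b : Fin k → B),
    GoodHom (MvPolynomial.eval b) := by
  intro k
  induction k with
  | zero =>
    intro B _ b
    have h : MvPolynomial.eval b = (MvPolynomial.isEmptyRingEquiv B (Fin 0)).toRingHom := by
      apply MvPolynomial.ringHom_ext
      · intro r
        have h1 : (MvPolynomial.isEmptyRingEquiv B (Fin 0)).toRingHom (MvPolynomial.C r) = r := by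
          change (MvPolynomial.isEmptyRingEquiv B (Fin 0)) (MvPolynomial.C r) = r
          rw [← MvPolynomial.isEmptyRingEquiv_symm_apply (R := B) (σ := Fin 0) r,
            RingEquiv.apply_symm_apply]
        rw [h1, MvPolynomial.eval_C]
      · intro i
        exact i.elim0
    rw [h]
    exact goodHom_ringEquiv _
  | succ k ih =>
    intro B _ b
    have h : MvPolynomial.eval b =
        ((MvPolynomial.eval (Fin.tail b)).comp
          (Polynomial.evalRingHom (MvPolynomial.C (b 0)))).comp
          (MvPolynomial.finSuccEquiv B k).toRingEquiv.toRingHom := by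
      apply MvPolynomial.ringHom_ext
      · intro r
        change _ = MvPolynomial.eval (Fin.tail b) (Polynomial.eval (MvPolynomial.C (b 0))
          (MvPolynomial.finSuccEquiv B k (MvPolynomial.C r)))
        rw [MvPolynomial.finSuccEquiv_apply]
        simp
      · intro i
        change _ = MvPolynomial.eval (Fin.tail b) (Polynomial.eval (MvPolynomial.C (b 0))
          (MvPolynomial.finSuccEquiv B k (MvPolynomial.X i)))
        refine Fin.cases ?_ (fun j => ?_) i
        · rw [MvPolynomial.finSuccEquiv_X_zero]
          simp
        · rw [MvPolynomial.finSuccEquiv_X_succ]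
          simp [Fin.tail]
    rw [h]
    exact (goodHom_ringEquiv _).comp ((goodHom_evalRingHom _).comp (ih _ _))

end MvPoly

end Groth.Agent.Helper3.DRingLib
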