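import Mathlib
import Groth.Prelude.Def_DRing2
import Groth.Prelude.Def_DDual2
import Groth.Prelude.Def_DerCA
import Groth.Agent.Helper3.DRingRestrComp
import Groth.Agent.S6983

/-! Pseudo-coherence relative to a base ring: reduction to a fixed presentation. -/

set_option autoImplicit false
universe u
open CategoryTheory CategoryTheory.Limits

namespace Groth.Agent.Helper3.DRingLib

attribute [local instance] HasDerivedCategory.standard

open Pretriangulated DerivedCategory ZeroObject

section RelPC

variable {R A : Type u} [CommRing R] [CommRing A] [Algebra R A]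

theorem relPC_iff_via {n : ℕ} (α : MvPolynomial (Fin n) R →ₐ[R] A) (hα : Function.Surjective α)
    (m : ℤ) (K : Dual.D A) :
    DerCA.IsRelPseudoCoherent R A m K ↔ DerCA.IsRelPseudoCoherentVia α m K := by
  constructor
  · rintro ⟨k, β, hβ, h⟩
    exact (Groth.Agent.S6983.result β hβ α hα K m).mp h
  · intro h
    exact ⟨n, α, hα, h⟩

theorem relPCAll_iff_via {n : ℕ} (α : MvPolynomial (Fin n) R →ₐ[R] A)
    (hα : Function.Surjective α) (K : Dual.D A) :
    DerCA.IsRelPseudoCoherentAll R A K ↔ ∀ m : ℤ, DerCA.IsRelPseudoCoherentVia α m K :=
  forall_congr' (fun m => relPC_iff_via α hα m K)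

theorem exists_presentation (R A : Type u) [CommRing R] [CommRing A] [Algebra R A]
    [Algebra.FiniteType R A] :
    ∃ (n : ℕ) (α : MvPolynomial (Fin n) R →ₐ[R] A), Function.Surjective α :=
  Algebra.FiniteType.iff_quotient_mvPolynomial''.mp inferInstance

end RelPC

section Fin

variable {A B : Type u} [CommRing A] [CommRing B]

lemma finite_rF_iff (φ : A →+* B) (hφ : Function.Surjective φ) (M : ModuleCat.{u} B) :
    Module.Finite A ((rF φ).obj M) ↔ Module.Finite B M := by
  constructor
  · intro h1
    obtain ⟨s, hs⟩ := h1.fg_top
    let s' : Finset M := s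
    have key : ∀ x : (rF φ).obj M,
        x ∈ Submodule.span A (s : Set ((rF φ).obj M)) →
        (show M from x) ∈ Submodule.span B (s' : Set M) := by
      intro x hx
      induction hx using Submodule.span_induction with
      | mem y hy => exact Submodule.subset_span hy
      | zero => exact Submodule.zero_mem _
      | add y z _ _ hy hz => exact Submodule.add_mem _ hy hz
      | smul c y _ hy =>
        have : c • y = (φ c) • (show M from y) := ModuleCat.restrictScalars.smul_def φ c y
        rw [this]
        exact Submodule.smul_mem _ _ hy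
    refine ⟨⟨s', ?_⟩⟩
    rw [eq_top_iff]
    intro x _
    exact key x (by rw [hs]; trivial)
  · intro h1
    obtain ⟨s, hs⟩ := h1.fg_top
    let s' : Finset ((rF φ).obj M) := s
    have key : ∀ x : M, x ∈ Submodule.span B (s : Set M) →
        (show (rF φ).obj M from x) ∈ Submodule.span A (s' : Set ((rF φ).obj M)) := by
      intro x hx
      induction hx using Submodule.span_induction with
      | mem y hy => exact Submodule.subset_span hy
      | zero => exact Submodule.zero_mem _
      | add y z _ _ hy hz => exact Submodule.add_mem _ hy hz
      | smul c y _ hy =>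
        obtain ⟨a, rfl⟩ := hφ c
        have : (φ a) • y = a • (show (rF φ).obj M from y) :=
          (ModuleCat.restrictScalars.smul_def φ a (show (rF φ).obj M from y)).symm
        rw [this]
        exact Submodule.smul_mem _ _ hy
    refine ⟨⟨s', ?_⟩⟩
    rw [eq_top_iff]
    intro x _
    exact key x (by rw [hs]; trivial)

lemma finite_HD_rD_iff (φ : A →+* B) (hφ : Function.Surjective φ) (K : Dual.D B) (p : ℤ) :
    Module.Finite A (Dual.HD A ((DRing.restrictD φ).obj K) p) ↔ Module.Finite B (Dual.HD B K p) := by
  rw [← finite_rF_iff φ hφ]
  constructor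
  · intro h
    exact Module.Finite.equiv (rDHDIso φ K p).toLinearEquiv
  · intro h
    exact Module.Finite.equiv (rDHDIso φ K p).symm.toLinearEquiv

end Fin

end Groth.Agent.Helper3.DRingLib
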