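import Mathlib

set_option autoImplicit false
set_option linter.style.haveILetI false
set_option linter.unusedSectionVars false
set_option linter.unusedVariables false
set_option linter.style.haveILetI false
set_option linter.unusedSectionVars false
set_option linter.unusedVariables false

/-!
# Relations among generators: independence modulo an ideal, minimal generators, flat local maps
-/

namespace Groth.Agent.Helper3.FFDesc
open IsLocalRing

universe u

section rel
variable {R : Type u} [CommRing R]

/-- every relation among the `f i` has coefficients in `𝔪` -/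
def Rel {n : ℕ} (f : Fin n → R) (𝔪 : Ideal R) : Prop :=
  ∀ a : Fin n → R, ∑ i, a i * f i = 0 → ∀ i, a i ∈ 𝔪

lemma Rel.mono {n : ℕ} {f : Fin n → R} {𝔪 𝔪' : Ideal R} (h : Rel f 𝔪) (hle : 𝔪 ≤ 𝔪') :
    Rel f 𝔪' := fun a ha i => hle (h a ha i)

/-- two generating families of the same ideal, the first one independent modulo a maximal ideal -/
theorem card_le {n m : ℕ} (f : Fin n → R) (g : Fin m → R) (𝔪 : Ideal R) [h𝔪 : 𝔪.IsMaximal]
    (hfg : Ideal.span (Set.range f) = Ideal.span (Set.range g)) (hf : Rel f 𝔪) : n ≤ m := by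
  classical
  have h1 : ∀ i, ∃ c : Fin m → R, ∑ j, c j * g j = f i := fun i => by
    have : f i ∈ Ideal.span (Set.range g) := hfg ▸ Ideal.subset_span ⟨i, rfl⟩
    exact (Ideal.mem_span_range_iff_exists_fun).mp this
  have h2 : ∀ j, ∃ d : Fin n → R, ∑ k, d k * f k = g j := fun j => by
    have : g j ∈ Ideal.span (Set.range f) := hfg ▸ Ideal.subset_span ⟨j, rfl⟩
    exact (Ideal.mem_span_range_iff_exists_fun).mp this
  choose C hC using h1
  choose D hD using h2
  let MC : Matrix (Fin n) (Fin m) R := Matrix.of C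
  let MD : Matrix (Fin m) (Fin n) R := Matrix.of D
  let E : Matrix (Fin n) (Fin n) R := MC * MD - 1
  have key : ∀ i k, E i k ∈ 𝔪 := by
    intro i
    apply hf (fun k => E i k)
    have : ∑ k, E i k * f k = ∑ k, (MC * MD) i k * f k - f i := by
      simp only [E, Matrix.sub_apply, sub_mul, Finset.sum_sub_distrib, Matrix.one_apply, ite_mul,
        one_mul, zero_mul, Finset.sum_ite_eq, Finset.mem_univ, if_true]
    rw [this, sub_eq_zero]
    simp only [Matrix.mul_apply, MC, MD, Matrix.of_apply, Finset.sum_mul]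
    rw [Finset.sum_comm]
    rw [← hC i]
    refine Finset.sum_congr rfl fun j _ => ?_
    rw [← hD j, Finset.mul_sum]
    refine Finset.sum_congr rfl fun k _ => ?_
    ring
  letI : Field (R ⧸ 𝔪) := Ideal.Quotient.field 𝔪
  let π := Ideal.Quotient.mk 𝔪
  have hprod : (MC.map π) * (MD.map π) = 1 := by
    have h3 : E.map π = 0 := by
      ext i k
      simp only [Matrix.map_apply, Matrix.zero_apply]
      exact Ideal.Quotient.eq_zero_iff_mem.mpr (key i k)
    have h4 : E.map π = (MC.map π) * (MD.map π) - 1 := by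
      show (MC * MD - 1).map π = _
      rw [Matrix.map_sub (f := π) (map_sub π), Matrix.map_mul, Matrix.map_one π (map_zero π) (map_one π)]
    rw [h4, sub_eq_zero] at h3
    exact h3
  have h5 : ((1 : Matrix (Fin n) (Fin n) (R ⧸ 𝔪))).rank = n := by
    rw [Matrix.rank_one, Fintype.card_fin]
  calc n = ((1 : Matrix (Fin n) (Fin n) (R ⧸ 𝔪))).rank := h5.symm
    _ = ((MC.map π) * (MD.map π)).rank := by rw [hprod]
    _ ≤ (MC.map π).rank := Matrix.rank_mul_le_left _ _
    _ ≤ Fintype.card (Fin m) := Matrix.rank_le_card_width _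
    _ = m := Fintype.card_fin m

theorem card_eq {n m : ℕ} (f : Fin n → R) (g : Fin m → R) (𝔪 : Ideal R) [h𝔪 : 𝔪.IsMaximal]
    (hfg : Ideal.span (Set.range f) = Ideal.span (Set.range g)) (hf : Rel f 𝔪) (hg : Rel g 𝔪) :
    n = m :=
  le_antisymm (card_le f g 𝔪 hfg hf) (card_le g f 𝔪 hfg.symm hg)

end rel

section mingen
variable {R : Type u} [CommRing R] [IsLocalRing R]

/-- a finitely generated ideal of a local ring has a generating family which is independent
modulo the maximal ideal -/
theorem exists_min_gen (K : Ideal R) (hK : K.FG) :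
    ∃ (n : ℕ) (f : Fin n → R), Ideal.span (Set.range f) = K ∧ Rel f (maximalIdeal R) := by
  classical
  have hex : ∃ n : ℕ, ∃ f : Fin n → R, Ideal.span (Set.range f) = K := by
    obtain ⟨s, hs⟩ := hK
    refine ⟨s.card, fun i => (s.equivFin.symm i : R), ?_⟩
    rw [← hs]
    congr 1
    ext x
    constructor
    · rintro ⟨i, rfl⟩
      exact (s.equivFin.symm i).2
    · intro hx
      exact ⟨s.equivFin ⟨x, hx⟩, by simp⟩
  obtain ⟨n, ⟨f, hf⟩, hmin⟩ : ∃ n, (∃ f : Fin n → R, Ideal.span (Set.range f) = K) ∧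
      ∀ m < n, ¬ ∃ f : Fin m → R, Ideal.span (Set.range f) = K :=
    ⟨Nat.find hex, Nat.find_spec hex, fun m hm => Nat.find_min hex hm⟩
  refine ⟨n, f, hf, ?_⟩
  intro a ha i0
  by_contra hi0
  have hu : IsUnit (a i0) := by
    by_contra h
    exact hi0 ((IsLocalRing.mem_maximalIdeal _).mpr h)
  obtain ⟨k, rfl⟩ : ∃ k, n = k + 1 := ⟨n - 1, by have := i0.pos; omega⟩
  apply hmin k (by omega)
  refine ⟨fun j => f (i0.succAbove j), ?_⟩
  rw [← hf]
  apply le_antisymm
  · apply Ideal.span_mono
    rintro _ ⟨j, rfl⟩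
    exact ⟨_, rfl⟩
  · rw [Ideal.span_le]
    rintro _ ⟨i, rfl⟩
    by_cases hi : i = i0
    · subst hi
      rw [Fin.sum_univ_succAbove _ i] at ha
      obtain ⟨u, hu'⟩ := hu
      have : f i = -(↑u⁻¹ : R) * ∑ j, a (i.succAbove j) * f (i.succAbove j) := by
        have h1 : a i * f i = -∑ j, a (i.succAbove j) * f (i.succAbove j) :=
          eq_neg_of_add_eq_zero_left ha
        rw [← hu'] at h1
        calc f i = (↑u⁻¹ : R) * ((u : R) * f i) := by rw [← mul_assoc, Units.inv_mul, one_mul]
          _ = _ := by rw [h1]; ring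
      show f i ∈ _
      rw [this]
      apply Ideal.mul_mem_left
      apply Ideal.sum_mem
      intro j _
      exact Ideal.mul_mem_left _ _ (Ideal.subset_span ⟨j, rfl⟩)
    · obtain ⟨j, rfl⟩ := Fin.exists_succAbove_eq hi
      exact Ideal.subset_span ⟨j, rfl⟩

end mingen

section flat
variable {R S : Type u} [CommRing R] [CommRing S] [IsLocalRing R] [IsLocalRing S]

/-- independence modulo the maximal ideal is preserved by flat local homomorphisms -/
theorem rel_map_of_flat (Λ : R →+* S) (hΛ : Λ.Flat) [IsLocalHom Λ] {n : ℕ} (f : Fin n → R)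
    (hf : Rel f (maximalIdeal R)) : Rel (fun i => Λ (f i)) (maximalIdeal S) := by
  letI := Λ.toAlgebra
  haveI : Module.Flat R S := hΛ
  intro b hb i
  obtain ⟨k, a, y, hy, ha⟩ := Module.Flat.isTrivialRelation_of_sum_smul_eq_zero
    (R := R) (M := S) (f := f) (x := b) (by
      rw [← hb]
      refine Finset.sum_congr rfl fun i _ => ?_
      rw [Algebra.smul_def, mul_comm]
      rfl)
  rw [hy i]
  apply Ideal.sum_mem
  intro j _
  rw [Algebra.smul_def]
  apply Ideal.mul_mem_right
  have h2 : a i j ∈ maximalIdeal R := by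
    apply hf (fun i => a i j) _ i
    rw [← ha j]
    refine Finset.sum_congr rfl fun i _ => mul_comm _ _
  exact map_nonunit Λ _ h2

end flat

end Groth.Agent.Helper3.FFDesc
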