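import Mathlib
import Groth.Agent.Helper3.FFDesc1

set_option autoImplicit false
set_option linter.style.haveILetI false
set_option linter.unusedSectionVars false
set_option linter.unusedVariables false
set_option linter.style.haveILetI false
set_option linter.unusedSectionVars false
set_option linter.unusedVariables false

/-!
# Classes of "regular" finite sequences and their behaviour at the local rings of a flat map
-/

namespace Groth.Agent.Helper3.FFDesc
open IsLocalRing

universe u

/-- a property of finite sequences of ring elements which behaves like Koszul-regularity or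
quasi-regularity -/
structure RegClass where
  /-- the property -/
  P : ∀ (R : Type u) [CommRing R], List R → Prop
  indep : ∀ {R : Type u} [CommRing R] (l l' : List R), l.length = l'.length →
    Ideal.ofList l = Ideal.ofList l' → P R l → P R l'
  flat : ∀ {R S : Type u} [CommRing R] [CommRing S] (φ : R →+* S), φ.Flat →
    ∀ l : List R, P R l → P S (l.map φ)
  descent : ∀ {R S : Type u} [CommRing R] [CommRing S] (φ : R →+* S), φ.FaithfullyFlat →
    ∀ l : List R, P S (l.map φ) → P R l
  locglob : ∀ {R : Type u} [CommRing R] (l : List R),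
    (∀ (𝔭 : Ideal R) [𝔭.IsPrime],
      P (Localization.AtPrime 𝔭) (l.map (algebraMap R (Localization.AtPrime 𝔭)))) → P R l
  rel : ∀ {R : Type u} [CommRing R] {n : ℕ} (f : Fin n → R), P R (List.ofFn f) →
    Rel f (Ideal.span (Set.range f))
  unit : ∀ {R : Type u} [CommRing R] (l : List R), Ideal.ofList l = ⊤ → P R l

lemma ofList_ofFn {S : Type u} [CommRing S] {r : ℕ} (f : Fin r → S) :
    Ideal.ofList (List.ofFn f) = Ideal.span (Set.range f) := by
  show Ideal.span {x | x ∈ List.ofFn f} = Ideal.span (Set.range f)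
  congr 1
  ext x
  simp [List.mem_ofFn]

lemma ofList_eq_span_get {S : Type u} [CommRing S] (l : List S) :
    Ideal.ofList l = Ideal.span (Set.range l.get) := by
  show Ideal.span {x | x ∈ l} = _
  rw [Set.range_list_get]

variable (C : RegClass.{u})

/-- at the prime `𝔭`, the ideal `K` is generated by a `C`-regular sequence of length `r` -/
def LocReg {R : Type u} [CommRing R] (r : ℕ) (K : Ideal R) (𝔭 : Ideal R) [𝔭.IsPrime] : Prop :=
  ∃ f : Fin r → Localization.AtPrime 𝔭, C.P _ (List.ofFn f) ∧
    K.map (algebraMap R (Localization.AtPrime 𝔭)) = Ideal.span (Set.range f)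

section A
variable {R : Type u} [CommRing R]

/-- from a basic open neighbourhood to the local ring -/
theorem locReg_of_away (K : Ideal R) (𝔮 : Ideal R) [𝔮.IsPrime] (g : R) (hg : g ∉ 𝔮)
    (l : List (Localization.Away g)) (hl : C.P _ l)
    (hK : K.map (algebraMap R (Localization.Away g)) = Ideal.span {x | x ∈ l}) :
    LocReg C l.length K 𝔮 := by
  have hu : IsUnit (algebraMap R (Localization.AtPrime 𝔮) g) :=
    IsLocalization.map_units (Localization.AtPrime 𝔮) (⟨g, hg⟩ : 𝔮.primeCompl)
  let ψ : Localization.Away g →+* Localization.AtPrime 𝔮 := IsLocalization.Away.lift g hu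
  have hψ : ψ.comp (algebraMap R (Localization.Away g)) = algebraMap R (Localization.AtPrime 𝔮) :=
    IsLocalization.Away.lift_comp g hu
  have hflat : ψ.Flat := by
    letI := ψ.toAlgebra
    haveI : IsScalarTower R (Localization.Away g) (Localization.AtPrime 𝔮) :=
      IsScalarTower.of_algebraMap_eq fun x => (RingHom.congr_fun hψ x).symm
    show Module.Flat (Localization.Away g) (Localization.AtPrime 𝔮)
    rw [Module.flat_iff_of_isLocalization (Localization.Away g) (Submonoid.powers g)]
    exact IsLocalization.flat (Localization.AtPrime 𝔮) 𝔮.primeCompl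
  refine ⟨fun i => ψ (l.get i), ?_, ?_⟩
  · have h1 : List.ofFn (fun i => ψ (l.get i)) = l.map ψ := by
      conv_rhs => rw [← List.ofFn_get l, List.map_ofFn]
      rfl
    rw [h1]
    exact C.flat ψ hflat l hl
  · rw [← hψ, ← Ideal.map_map, hK, Ideal.map_span]
    congr 1
    ext x
    constructor
    · rintro ⟨y, hy, rfl⟩
      obtain ⟨i, rfl⟩ := List.mem_iff_get.mp hy
      exact ⟨i, rfl⟩
    · rintro ⟨i, rfl⟩
      exact ⟨l.get i, List.get_mem l i, rfl⟩

/-- the length is determined by the ideal at a prime containing it -/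
theorem locReg_card (K : Ideal R) (𝔮 : Ideal R) [𝔮.IsPrime] (hK : K ≤ 𝔮) (r r' : ℕ)
    (h : LocReg C r K 𝔮) (h' : LocReg C r' K 𝔮) : r = r' := by
  obtain ⟨f, hf, hKf⟩ := h
  obtain ⟨f', hf', hKf'⟩ := h'
  have hle : K.map (algebraMap R (Localization.AtPrime 𝔮)) ≤
      maximalIdeal (Localization.AtPrime 𝔮) := by
    rw [← Localization.AtPrime.map_eq_maximalIdeal]
    exact Ideal.map_mono hK
  refine card_eq f f' (maximalIdeal (Localization.AtPrime 𝔮)) (hKf.symm.trans hKf')
    ((C.rel f hf).mono (hKf ▸ hle)) ((C.rel f' hf').mono (hKf' ▸ hle))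

end A

section C
variable {A B : Type u} [CommRing A] [CommRing B] (φ : A →+* B) (hφ : φ.Flat) (I : Ideal A)
  (𝔮 : Ideal B) [𝔮.IsPrime]

lemma map_map_eq : (I.map φ).map (algebraMap B (Localization.AtPrime 𝔮)) =
    (I.map (algebraMap A (Localization.AtPrime (𝔮.comap φ)))).map
      (Localization.localRingHom (𝔮.comap φ) 𝔮 φ rfl) := by
  rw [Ideal.map_map, Ideal.map_map]
  congr 1
  ext x
  simp [Localization.localRingHom_to_map]

include hφ in
/-- ascent along a flat map -/
theorem locReg_map (r : ℕ) (h : LocReg C r I (𝔮.comap φ)) : LocReg C r (I.map φ) 𝔮 := by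
  obtain ⟨f, hf, hIf⟩ := h
  set Λ := Localization.localRingHom (𝔮.comap φ) 𝔮 φ rfl with hΛ
  refine ⟨fun i => Λ (f i), ?_, ?_⟩
  · have : List.ofFn (fun i => Λ (f i)) = (List.ofFn f).map Λ := by
      rw [List.map_ofFn]
      rfl
    rw [this]
    exact C.flat Λ (hφ.localRingHom 𝔮 (𝔮.comap φ) rfl) _ hf
  · rw [map_map_eq, hIf, Ideal.map_span, ← Set.range_comp]
    rfl

include hφ in
/-- descent along a flat map -/
theorem locReg_comap (r : ℕ) (hI : I ≤ 𝔮.comap φ) (h : LocReg C r (I.map φ) 𝔮) :
    LocReg C r I (𝔮.comap φ) := by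
  obtain ⟨f', hf', hIf'⟩ := h
  set Λ := Localization.localRingHom (𝔮.comap φ) 𝔮 φ rfl with hΛ
  have hΛflat : Λ.Flat := hφ.localRingHom 𝔮 (𝔮.comap φ) rfl
  haveI : IsLocalHom Λ := Localization.isLocalHom_localRingHom (𝔮.comap φ) 𝔮 φ rfl
  have hΛff : Λ.FaithfullyFlat := by
    letI := Λ.toAlgebra
    haveI : Module.Flat (Localization.AtPrime (𝔮.comap φ)) (Localization.AtPrime 𝔮) := hΛflat
    haveI : IsLocalHom (algebraMap (Localization.AtPrime (𝔮.comap φ)) (Localization.AtPrime 𝔮)) :=
      ‹IsLocalHom Λ›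
    exact Module.FaithfullyFlat.of_flat_of_isLocalHom
  set I𝔭 := I.map (algebraMap A (Localization.AtPrime (𝔮.comap φ))) with hI𝔭
  have hJ : I𝔭.map Λ = Ideal.span (Set.range f') := by
    rw [← hIf']
    exact (map_map_eq φ I 𝔮).symm
  have hfg : I𝔭.FG := by
    letI := Λ.toAlgebra
    haveI : Module.FaithfullyFlat (Localization.AtPrime (𝔮.comap φ)) (Localization.AtPrime 𝔮) :=
      hΛff
    apply Ideal.FG.of_FG_map_of_faithfullyFlat (S := Localization.AtPrime 𝔮)
    show (I𝔭.map Λ).FG
    rw [hJ]
    exact Submodule.fg_span (Set.finite_range f')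
  obtain ⟨n, f, hf, hrel⟩ := exists_min_gen I𝔭 hfg
  have hrel' := rel_map_of_flat Λ hΛflat f hrel
  have hspan : Ideal.span (Set.range (fun i => Λ (f i))) = Ideal.span (Set.range f') := by
    rw [← hJ, ← hf, Ideal.map_span, ← Set.range_comp]
    rfl
  have hle : Ideal.span (Set.range f') ≤ maximalIdeal (Localization.AtPrime 𝔮) := by
    rw [← hIf', ← Localization.AtPrime.map_eq_maximalIdeal]
    exact Ideal.map_mono (Ideal.map_le_iff_le_comap.mpr hI)
  have hn : n = r := card_eq _ f' (maximalIdeal _) hspan hrel' ((C.rel f' hf').mono hle)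
  subst hn
  refine ⟨f, ?_, hf.symm⟩
  apply C.descent Λ hΛff
  rw [List.map_ofFn]
  refine C.indep (List.ofFn f') _ (by simp) ?_ hf'
  rw [ofList_ofFn, ofList_ofFn]
  exact hspan.symm

end C

end Groth.Agent.Helper3.FFDesc
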