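import Mathlib
import Groth.Agent.Helper3.FFDesc2

set_option autoImplicit false
set_option linter.style.haveILetI false
set_option linter.unusedSectionVars false
set_option linter.unusedVariables false
set_option linter.style.haveILetI false
set_option linter.unusedSectionVars false
set_option linter.unusedVariables false

/-!
# Faithfully flat descent of ideals locally generated by regular sequences (abstract form)
-/

namespace Groth.Agent.Helper3.FFDesc
open IsLocalRing

universe u

section aux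
variable {A : Type u} [CommRing A]

/-- an ideal which is locally finitely generated around every prime containing it is finitely
generated -/
theorem fg_of_loc (J : Ideal A)
    (h : ∀ 𝔮 : Ideal A, 𝔮.IsPrime → J ≤ 𝔮 → ∃ g : A, g ∉ 𝔮 ∧
      (J.map (algebraMap A (Localization.Away g))).FG) : J.FG := by
  let t : Set A := {g | (J.map (algebraMap A (Localization.Away g))).FG}
  refine Ideal.fg_of_localizationSpan t ?_ (fun g => g.2)
  by_contra hne
  obtain ⟨𝔪, h𝔪, hle⟩ := Ideal.exists_le_maximal _ hne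
  have hsub : t ⊆ 𝔪 := fun g hg => hle (Ideal.subset_span hg)
  by_cases hJ : J ≤ 𝔪
  · obtain ⟨g, hg, hfg⟩ := h 𝔪 h𝔪.isPrime hJ
    exact hg (hsub hfg)
  · obtain ⟨j, hjJ, hj⟩ := Set.not_subset.mp hJ
    apply hj
    apply hsub
    show (J.map (algebraMap A (Localization.Away j))).FG
    have : J.map (algebraMap A (Localization.Away j)) = ⊤ := by
      apply Ideal.eq_top_of_isUnit_mem _ (Ideal.mem_map_of_mem _ hjJ)
      exact IsLocalization.Away.algebraMap_isUnit j
    rw [this]
    exact ⟨{1}, by simp⟩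

variable (𝔭 : Ideal A) [𝔭.IsPrime] (I : Ideal A)

/-- generators of `I A_𝔭` may be taken in `I` -/
theorem exists_lift {r : ℕ} (f : Fin r → Localization.AtPrime 𝔭)
    (hf : I.map (algebraMap A (Localization.AtPrime 𝔭)) = Ideal.span (Set.range f)) :
    ∃ a : Fin r → A, (∀ i, a i ∈ I) ∧
      Ideal.span (Set.range fun i => algebraMap A (Localization.AtPrime 𝔭) (a i)) =
        Ideal.span (Set.range f) := by
  have h1 : ∀ i, ∃ x : I × 𝔭.primeCompl,
      f i * algebraMap A (Localization.AtPrime 𝔭) x.2 = algebraMap A _ x.1 := fun i => by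
    have : f i ∈ I.map (algebraMap A (Localization.AtPrime 𝔭)) := hf ▸ Ideal.subset_span ⟨i, rfl⟩
    exact (IsLocalization.mem_map_algebraMap_iff 𝔭.primeCompl _).mp this
  choose x hx using h1
  refine ⟨fun i => ((x i).1 : A), fun i => (x i).1.2, ?_⟩
  apply le_antisymm
  · rw [Ideal.span_le]
    rintro _ ⟨i, rfl⟩
    show algebraMap A _ ((x i).1 : A) ∈ _
    rw [← hx i]
    exact Ideal.mul_mem_right _ _ (Ideal.subset_span ⟨i, rfl⟩)
  · rw [Ideal.span_le]
    rintro _ ⟨i, rfl⟩
    have hu : IsUnit (algebraMap A (Localization.AtPrime 𝔭) (x i).2) :=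
      IsLocalization.map_units _ (x i).2
    show f i ∈ Ideal.span _
    rw [← Ideal.mul_unit_mem_iff_mem _ hu, hx i]
    exact Ideal.subset_span ⟨i, rfl⟩

/-- if `I` is finitely generated and `a` generates `I A_𝔭`, then `a` generates `I` after
inverting some `t ∉ 𝔭` -/
theorem exists_mul_mem (hI : I.FG) {r : ℕ} (a : Fin r → A)
    (ha : Ideal.span (Set.range fun i => algebraMap A (Localization.AtPrime 𝔭) (a i)) =
      I.map (algebraMap A (Localization.AtPrime 𝔭))) :
    ∃ t : A, t ∉ 𝔭 ∧ ∀ x ∈ I, t * x ∈ Ideal.span (Set.range a) := by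
  classical
  obtain ⟨s, hs⟩ := hI
  have hmap : (Ideal.span (Set.range a)).map (algebraMap A (Localization.AtPrime 𝔭)) =
      I.map (algebraMap A (Localization.AtPrime 𝔭)) := by
    rw [← ha, Ideal.map_span, ← Set.range_comp]
    rfl
  have h1 : ∀ x ∈ s, ∃ t ∈ 𝔭.primeCompl, t * x ∈ Ideal.span (Set.range a) := by
    intro x hx
    have hxI : x ∈ I := hs ▸ Ideal.subset_span hx
    have h2 : algebraMap A (Localization.AtPrime 𝔭) x ∈
        (Ideal.span (Set.range a)).map (algebraMap A (Localization.AtPrime 𝔭)) := by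
      rw [hmap]
      exact Ideal.mem_map_of_mem _ hxI
    rw [← IsLocalization.mk'_one (M := 𝔭.primeCompl) (Localization.AtPrime 𝔭) x,
      IsLocalization.mk'_mem_map_algebraMap_iff] at h2
    exact h2
  choose! t ht htx using h1
  refine ⟨∏ x ∈ s, t x, ?_, ?_⟩
  · have : ∏ x ∈ s, t x ∈ 𝔭.primeCompl := Submonoid.prod_mem _ ht
    exact this
  · intro x hx
    have hle : I ≤ Submodule.comap (LinearMap.mulLeft A (∏ x ∈ s, t x))
        (Ideal.span (Set.range a)) := by
      rw [← hs, Ideal.span, Submodule.span_le]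
      intro y hy
      show (∏ x ∈ s, t x) * y ∈ Ideal.span (Set.range a)
      rw [← Finset.mul_prod_erase s t hy, mul_right_comm]
      exact Ideal.mul_mem_right _ _ (htx y hy)
    exact hle hx

/-- the image of `I` in an algebra where `t` becomes invertible -/
theorem map_eq_of_unit {S : Type u} [CommRing S] (ψ : A →+* S) {r : ℕ} (a : Fin r → A)
    (ha : ∀ i, a i ∈ I) (t : A) (ht : ∀ x ∈ I, t * x ∈ Ideal.span (Set.range a))
    (hu : IsUnit (ψ t)) : I.map ψ = Ideal.span (Set.range fun i => ψ (a i)) := by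
  have h1 : Ideal.span (Set.range fun i => ψ (a i)) = (Ideal.span (Set.range a)).map ψ := by
    rw [Ideal.map_span, ← Set.range_comp]
    rfl
  rw [h1]
  apply le_antisymm
  · rw [Ideal.map_le_iff_le_comap]
    intro x hx
    rw [Ideal.mem_comap, ← Ideal.unit_mul_mem_iff_mem _ hu, ← map_mul]
    exact Ideal.mem_map_of_mem _ (ht x hx)
  · apply Ideal.map_mono
    rw [Ideal.span_le]
    rintro _ ⟨i, rfl⟩
    exact ha i

end aux

section main
variable (C : RegClass.{u})

/-- `K` is locally (on basic opens around the primes containing it) generated by a `C`-regular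
sequence -/
def LocGen {R : Type u} [CommRing R] (K : Ideal R) : Prop :=
  ∀ 𝔮 : PrimeSpectrum R, K ≤ 𝔮.asIdeal → ∃ g : R, g ∉ 𝔮.asIdeal ∧
    ∃ l : List (Localization.Away g), C.P _ l ∧
      K.map (algebraMap R (Localization.Away g)) = Ideal.span {x | x ∈ l}

/-- the locus where `K` is the unit ideal or generated by a `C`-regular sequence of length `r` -/
def U {R : Type u} [CommRing R] (K : Ideal R) (r : ℕ) : Set (PrimeSpectrum R) :=
  {𝔮 | K ≤ 𝔮.asIdeal → LocReg C r K 𝔮.asIdeal}

theorem isOpen_U {R : Type u} [CommRing R] (K : Ideal R) (h : LocGen C K) (r : ℕ) :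
    IsOpen (U C K r) := by
  rw [isOpen_iff_forall_mem_open]
  intro 𝔮 h𝔮
  by_cases hK : K ≤ 𝔮.asIdeal
  · obtain ⟨g, hg, l, hl, hKl⟩ := h 𝔮 hK
    have h1 := locReg_of_away C K 𝔮.asIdeal g hg l hl hKl
    have hr : r = l.length := locReg_card C K 𝔮.asIdeal hK _ _ (h𝔮 hK) h1
    refine ⟨PrimeSpectrum.basicOpen g, ?_, (PrimeSpectrum.basicOpen g).isOpen, hg⟩
    intro 𝔮' h𝔮' _
    rw [hr]
    exact locReg_of_away C K 𝔮'.asIdeal g h𝔮' l hl hKl
  · obtain ⟨j, hjK, hj⟩ := Set.not_subset.mp hK
    refine ⟨PrimeSpectrum.basicOpen j, ?_, (PrimeSpectrum.basicOpen j).isOpen, hj⟩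
    intro 𝔮' h𝔮' hK'
    exact absurd (hK' hjK) h𝔮'

variable {A B : Type u} [CommRing A] [CommRing B] [Algebra A B] [Module.FaithfullyFlat A B]
  (I : Ideal A)

theorem preimage_U (r : ℕ) :
    PrimeSpectrum.comap (algebraMap A B) ⁻¹' (U C I r) = U C (I.map (algebraMap A B)) r := by
  have hflat : (algebraMap A B).Flat := RingHom.flat_algebraMap_iff.mpr inferInstance
  ext 𝔮
  constructor
  · intro h hJ
    exact locReg_map C _ hflat I 𝔮.asIdeal r (h (Ideal.map_le_iff_le_comap.mp hJ))
  · intro h hI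
    exact locReg_comap C _ hflat I 𝔮.asIdeal r hI (h (Ideal.map_le_iff_le_comap.mpr hI))

theorem isOpen_U_base (h : LocGen C (I.map (algebraMap A B))) (r : ℕ) : IsOpen (U C I r) := by
  have hflat : (algebraMap A B).Flat := RingHom.flat_algebraMap_iff.mpr inferInstance
  have hq := PrimeSpectrum.isQuotientMap_of_generalizingMap (f := algebraMap A B)
    PrimeSpectrum.comap_surjective_of_faithfullyFlat (RingHom.Flat.generalizingMap_comap hflat)
  rw [← hq.isOpen_preimage, preimage_U]
  exact isOpen_U C _ h r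

/-- **faithfully flat descent of ideals locally generated by `C`-regular sequences** -/
theorem main (h : LocGen C (I.map (algebraMap A B))) : LocGen C I := by
  have hflat : (algebraMap A B).Flat := RingHom.flat_algebraMap_iff.mpr inferInstance
  intro 𝔭 hI
  obtain ⟨𝔮, rfl⟩ := PrimeSpectrum.comap_surjective_of_faithfullyFlat (A := A) (B := B) 𝔭
  have hJ : I.map (algebraMap A B) ≤ 𝔮.asIdeal := Ideal.map_le_iff_le_comap.mpr hI
  obtain ⟨g, hg, l₀, hl₀, hJl₀⟩ := h 𝔮 hJ
  have h1 : LocReg C l₀.length (I.map (algebraMap A B)) 𝔮.asIdeal :=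
    locReg_of_away C _ 𝔮.asIdeal g hg l₀ hl₀ hJl₀
  have h2 : LocReg C l₀.length I (𝔮.asIdeal.comap (algebraMap A B)) :=
    locReg_comap C _ hflat I 𝔮.asIdeal _ hI h1
  have hopen := isOpen_U_base C I h l₀.length
  have hmem : PrimeSpectrum.comap (algebraMap A B) 𝔮 ∈ U C I l₀.length := fun _ => h2
  obtain ⟨_, ⟨h₁, rfl⟩, hh₁, hsub⟩ :=
    PrimeSpectrum.isTopologicalBasis_basic_opens.exists_subset_of_mem_open hmem hopen
  have hJfg : (I.map (algebraMap A B)).FG := by
    apply fg_of_loc
    intro 𝔮' h𝔮' hJ'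
    obtain ⟨g, hg, l, _, hl⟩ := h ⟨𝔮', h𝔮'⟩ hJ'
    refine ⟨g, hg, ?_⟩
    rw [hl]
    exact Submodule.fg_span (List.finite_toSet l)
  have hIfg : I.FG := Ideal.FG.of_FG_map_of_faithfullyFlat hJfg
  obtain ⟨f, hf, hIf⟩ := h2
  obtain ⟨a, haI, ha⟩ := exists_lift _ I f hIf
  obtain ⟨t, ht, htx⟩ := exists_mul_mem _ I hIfg a (ha.trans hIf.symm)
  have hh₁' : h₁ ∉ 𝔮.asIdeal.comap (algebraMap A B) := hh₁
  refine ⟨h₁ * t, ?_, (List.ofFn a).map (algebraMap A _), ?_, ?_⟩
  · intro hc
    rcases (Ideal.IsPrime.mem_or_mem inferInstance hc) with hc | hc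
    · exact hh₁' hc
    · exact ht hc
  · apply C.locglob
    intro 𝔓 _
    have h𝔭' : h₁ * t ∉ 𝔓.comap (algebraMap A (Localization.Away (h₁ * t))) := fun hc =>
      (Ideal.IsPrime.ne_top inferInstance) (Ideal.eq_top_of_isUnit_mem 𝔓 hc
        (IsLocalization.Away.algebraMap_isUnit _))
    have h₁' : h₁ ∉ 𝔓.comap (algebraMap A (Localization.Away (h₁ * t))) :=
      fun hc => h𝔭' (Ideal.mul_mem_right _ _ hc)
    have ht' : t ∉ 𝔓.comap (algebraMap A (Localization.Away (h₁ * t))) :=
      fun hc => h𝔭' (Ideal.mul_mem_left _ _ hc)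
    have hspan := map_eq_of_unit I (algebraMap A (Localization.AtPrime
      (𝔓.comap (algebraMap A (Localization.Away (h₁ * t)))))) a haI t htx
      (IsLocalization.map_units _
        (⟨t, ht'⟩ : (𝔓.comap (algebraMap A (Localization.Away (h₁ * t)))).primeCompl))
    have hP' : C.P (Localization.AtPrime (𝔓.comap (algebraMap A (Localization.Away (h₁ * t)))))
        (List.ofFn fun i => algebraMap A _ (a i)) := by
      by_cases hI' : I ≤ 𝔓.comap (algebraMap A (Localization.Away (h₁ * t)))
      · obtain ⟨f'', hf'', hIf''⟩ :=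
          hsub (show (⟨𝔓.comap (algebraMap A (Localization.Away (h₁ * t))), inferInstance⟩ :
            PrimeSpectrum A) ∈ PrimeSpectrum.basicOpen h₁ from h₁') hI'
        refine C.indep (List.ofFn f'') _ (by simp) ?_ hf''
        rw [ofList_ofFn, ofList_ofFn, ← hIf'', hspan]
      · apply C.unit
        rw [ofList_ofFn, ← hspan]
        obtain ⟨j, hjI, hj⟩ := Set.not_subset.mp hI'
        exact Ideal.eq_top_of_isUnit_mem _ (Ideal.mem_map_of_mem _ hjI)
          (IsLocalization.map_units _
            (⟨j, hj⟩ : (𝔓.comap (algebraMap A (Localization.Away (h₁ * t)))).primeCompl))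
    have hΛ : (Localization.localRingHom (𝔓.comap (algebraMap A (Localization.Away (h₁ * t)))) 𝔓
        (algebraMap A (Localization.Away (h₁ * t))) rfl).Flat :=
      (RingHom.flat_algebraMap_iff.mpr
        (IsLocalization.flat _ (Submonoid.powers (h₁ * t)))).localRingHom 𝔓 _ rfl
    have h3 := C.flat _ hΛ _ hP'
    rw [List.map_ofFn] at h3
    rw [List.map_ofFn, List.map_ofFn]
    convert h3 using 2
    funext i
    simp [Localization.localRingHom_to_map]
  · have hu : IsUnit (algebraMap A (Localization.Away (h₁ * t)) t) := by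
      have := IsLocalization.Away.algebraMap_isUnit (S := Localization.Away (h₁ * t)) (h₁ * t)
      rw [map_mul] at this
      exact isUnit_of_mul_isUnit_right this
    have hspan := map_eq_of_unit I (algebraMap A (Localization.Away (h₁ * t))) a haI t htx hu
    rw [hspan, List.map_ofFn]
    have := ofList_ofFn (fun i => algebraMap A (Localization.Away (h₁ * t)) (a i))
    exact this.symm

end main

end Groth.Agent.Helper3.FFDesc
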