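import Mathlib
import Groth.Prelude.Def_ega3
import Groth.Prelude.Def_LCI2
import Groth.Prelude.Def_CAlgX
import Groth.Agent.Lead.KoszulH1

set_option autoImplicit false
set_option linter.style.haveILetI false
set_option linter.unusedSectionVars false
set_option linter.unusedVariables false
set_option linter.style.haveILetI false
set_option linter.unusedSectionVars false
set_option linter.unusedVariables false

/-!
# The conormal module of a Koszul-regular sequence is free on the classes of the sequence
-/

namespace Groth.Agent.Helper3.KzCot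

universe u
variable {R : Type u} [CommRing R]

/-- relations among an `H_1`-regular sequence have coefficients in any ideal containing the
sequence -/
theorem coeff_mem_of_isH1Regular {c : ℕ} (φ : Fin c → R) (h : CAlgX.IsH1Regular φ) (I : Ideal R)
    (hφ : ∀ i, φ i ∈ I) (a : Fin c → R) (ha : ∑ i, a i * φ i = 0) (i : Fin c) : a i ∈ I := by
  classical
  have h1 := h a ha
  have hle : Submodule.span R {v : Fin c → R | ∃ i j : Fin c,
      v = Pi.single i (φ j) - Pi.single j (φ i)} ≤ Submodule.pi Set.univ (fun _ => I) := by
    rw [Submodule.span_le]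
    rintro _ ⟨k, l, rfl⟩
    intro m _
    simp only [Pi.sub_apply]
    refine I.sub_mem ?_ ?_
    · by_cases hm : m = k
      · rw [hm, Pi.single_eq_same]; exact hφ l
      · rw [Pi.single_eq_of_ne hm]; exact I.zero_mem
    · by_cases hm : m = l
      · rw [hm, Pi.single_eq_same]; exact hφ k
      · rw [Pi.single_eq_of_ne hm]; exact I.zero_mem
  exact hle h1 i (Set.mem_univ i)

/-- relations among a Koszul-regular sequence `List.ofFn φ` have coefficients in any ideal
containing the sequence -/
theorem coeff_mem_of_kreg {r : ℕ} (φ : Fin r → R)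
    (hφ : LCI.IsKoszulRegularSeq R (List.ofFn φ)) (I : Ideal R) (hI : ∀ i, φ i ∈ I)
    (a : Fin r → R) (ha : ∑ i, a i * φ i = 0) (i : Fin r) : a i ∈ I := by
  have h1 := Groth.Agent.Lead.KoszulH1.isH1Regular_of_isKoszulRegularSeq _ hφ
  have hlen : (List.ofFn φ).length = r := List.length_ofFn
  let e : Fin (List.ofFn φ).length ≃ Fin r := finCongr hlen
  have hget : ∀ j, (List.ofFn φ).get j = φ (e j) := by
    intro j
    simp only [List.get_eq_getElem, List.getElem_ofFn, e, finCongr_apply]
    rfl
  have h2 := coeff_mem_of_isH1Regular (List.ofFn φ).get h1 I (fun j => by rw [hget]; exact hI _)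
    (fun j => a (e j)) (by
      rw [← ha, ← Equiv.sum_comp e]
      exact Finset.sum_congr rfl fun j _ => by rw [hget]) (e.symm i)
  simpa using h2

theorem main {I : Ideal R} (hI : I ≠ ⊤)
    (r : ℕ) (f : Fin r → I) (hf : LCI.IsKoszulRegularSeq R (List.ofFn (fun i => (f i : R))))
    (hfI : Ideal.span (Set.range (fun i => (f i : R))) = I) :
    ∃ b : Module.Basis (Fin r) (R ⧸ I) I.Cotangent, ∀ i, b i = I.toCotangent (f i) := by
  classical
  let v : Fin r → I.Cotangent := fun i => I.toCotangent (f i)
  -- every element of `I` is a combination of the `f i`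
  have hcomb : ∀ x : I, ∃ a : Fin r → R, x = ∑ i, a i • f i := by
    intro x
    have hx : (x : R) ∈ Ideal.span (Set.range (fun i => (f i : R))) := by rw [hfI]; exact x.2
    rw [Ideal.span, Submodule.mem_span_range_iff_exists_fun] at hx
    obtain ⟨a, ha⟩ := hx
    refine ⟨a, Subtype.ext ?_⟩
    rw [← ha]
    simp
  have hli : LinearIndependent (R ⧸ I) v := by
    rw [Fintype.linearIndependent_iff]
    intro g hg i
    choose a ha using fun i => Ideal.Quotient.mk_surjective (g i)
    have h1 : I.toCotangent (∑ i, a i • f i) = 0 := by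
      rw [map_sum, ← hg]
      refine Finset.sum_congr rfl fun i _ => ?_
      rw [map_smul, ← ha i]
      rfl
    rw [Ideal.toCotangent_eq_zero] at h1
    have h2 : ((∑ i, a i • f i : I) : R) ∈ I • Submodule.span R (Set.range (fun i => (f i : R))) := by
      have : I • Submodule.span R (Set.range (fun i => (f i : R))) = I ^ 2 := by
        change I • Ideal.span _ = _
        rw [hfI, smul_eq_mul, pow_two]
      rw [this]
      exact h1
    rw [Submodule.mem_ideal_smul_span_iff_exists_sum] at h2
    obtain ⟨b, hb, hsum⟩ := h2
    rw [Finsupp.sum_fintype _ _ (fun i => by simp)] at hsum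
    have h3 : ∑ i, (a i - b i) * (f i : R) = 0 := by
      simp only [sub_mul, Finset.sum_sub_distrib]
      rw [sub_eq_zero]
      have : ((∑ i, a i • f i : I) : R) = ∑ i, a i * (f i : R) := by simp
      rw [← this, ← hsum]
      simp
    have h4 := coeff_mem_of_kreg (fun i => (f i : R)) hf I (fun i => (f i).2) _ h3 i
    have h5 : a i ∈ I := by
      have := I.add_mem h4 (hb i)
      simpa using this
    rw [← ha i]
    exact Ideal.Quotient.eq_zero_iff_mem.2 h5
  have hsp : ⊤ ≤ Submodule.span (R ⧸ I) (Set.range v) := by
    rintro y -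
    obtain ⟨x, rfl⟩ := Ideal.toCotangent_surjective I y
    obtain ⟨a, rfl⟩ := hcomb x
    rw [map_sum]
    refine Submodule.sum_mem _ fun i _ => ?_
    rw [map_smul]
    have : a i • I.toCotangent (f i) = (Ideal.Quotient.mk I (a i)) • I.toCotangent (f i) := rfl
    rw [this]
    exact Submodule.smul_mem _ _ (Submodule.subset_span ⟨i, rfl⟩)
  exact ⟨Module.Basis.mk hli hsp, fun i => Module.Basis.mk_apply hli hsp i⟩

end Groth.Agent.Helper3.KzCot
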