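import Mathlib
import Groth.Prelude.Def_ega3
import Groth.Prelude.Def_LCI2
import Groth.Agent.Helper3.FFDesc3
import Groth.Agent.Helper3.KzTor
import Groth.Agent.Helper3.KzLoc
import Groth.Agent.Helper3.KzCot
import Groth.Agent.Helper3.KoszulGen

set_option autoImplicit false
set_option linter.style.haveILetI false
set_option linter.unusedSectionVars false
set_option linter.unusedVariables false
set_option linter.style.haveILetI false
set_option linter.unusedSectionVars false
set_option linter.unusedVariables false

/-!
# Faithfully flat descent of Koszul-regular ideals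
-/

namespace Groth.Agent.Helper3.FFDescK
open CategoryTheory Limits CohIII
open Groth.Agent.Lead.KoszulFunB Groth.Agent.Lead.KoszulFunC Groth.Agent.Helper1.Koszul
open Groth.Agent.Helper3.FFDesc

universe u

section descent
variable {R S : Type u} [CommRing R] [CommRing S]

/-- a functor reflecting isomorphisms reflects zero objects -/
lemma isZero_of_reflects {C D : Type*} [Category C] [Category D] [Preadditive C] [Preadditive D]
    (F : C ⥤ D) [F.Additive] [F.ReflectsIsomorphisms] (Z : C) (h : IsZero (F.obj Z)) :
    IsZero Z := by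
  haveI : IsIso (F.map (0 : Z ⟶ Z)) := by
    rw [F.map_zero]
    exact ⟨0, h.eq_of_src _ _, h.eq_of_src _ _⟩
  haveI : IsIso (0 : Z ⟶ Z) := isIso_of_reflects_iso _ F
  rw [IsZero.iff_id_eq_zero]
  calc 𝟙 Z = (0 : Z ⟶ Z) ≫ inv (0 : Z ⟶ Z) := (IsIso.hom_inv_id _).symm
    _ = 0 := zero_comp

/-- the cohomology of the base-changed Koszul complex -/
theorem nonempty_homology_iso [Algebra R S] [Module.Flat R S] (l : List R) (i : ℤ) :
    Nonempty ((koszulCx (ModuleCat.of S S) (l.map (algebraMap R S))).homology i ≅
      (ModuleCat.extendScalars.{u, u, u} (algebraMap R S)).obj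
        ((koszulCx (ModuleCat.of R R) l).homology i)) := by
  haveI : PreservesFiniteLimits (ModuleCat.extendScalars.{u, u, u} (algebraMap R S)) :=
    ModuleCat.preservesFiniteLimits_extendScalars_of_flat
      ((RingHom.flat_algebraMap_iff).mpr inferInstance)
  haveI : PreservesFiniteColimits (ModuleCat.extendScalars.{u, u, u} (algebraMap R S)) :=
    inferInstance
  obtain ⟨e⟩ := nonempty_map_koszulCx_iso l _ (forall₂_map (B := S) l) (ModuleCat.of R R)
  have e2 := e ≪≫ kIso (extendScalarsUnitIso (A := R) (B := S)) (l.map (algebraMap R S))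
  exact ⟨((HomologicalComplex.homologyFunctor _ _ i).mapIso e2).symm ≪≫
    mapHomologyIso (ModuleCat.extendScalars.{u, u, u} (algebraMap R S)) _ i⟩

theorem kreg_descent (φ : R →+* S) (hφ : φ.FaithfullyFlat) (l : List R)
    (h : LCI.IsKoszulRegularSeq S (l.map φ)) : LCI.IsKoszulRegularSeq R l := by
  letI := φ.toAlgebra
  haveI : Module.Flat R S := hφ.flat
  have h' : LCI.IsKoszulRegularSeq S (l.map (algebraMap R S)) := h
  rw [isKoszulRegularSeq_iff] at h' ⊢
  intro i hi
  obtain ⟨e⟩ := nonempty_homology_iso (S := S) l i
  haveI := ModuleCat.reflectsIsomorphisms_extendScalars_of_faithfullyFlat.{u}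
    (f := algebraMap R S) hφ
  exact isZero_of_reflects (ModuleCat.extendScalars.{u, u, u} (algebraMap R S)) _
    ((h' i hi).of_iso e.symm)

end descent

section locglob
variable {R : Type u} [CommRing R]

/-- if the extension of scalars of `Z` to a localization vanishes, every element of `Z` is killed
by an element of the submonoid -/
theorem exists_smul_eq_zero_of_isZero (S : Type u) [CommRing S] [Algebra R S] (M : Submonoid R)
    [IsLocalization M S] (Z : ModuleCat.{u} R)
    (h : IsZero ((ModuleCat.extendScalars.{u, u, u} (algebraMap R S)).obj Z)) (z : Z) :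
    ∃ c ∈ M, c • z = 0 := by
  haveI : Subsingleton (TensorProduct R
      ↑((ModuleCat.restrictScalars (algebraMap R S)).obj (ModuleCat.of S S)) ↑Z) :=
    ModuleCat.subsingleton_of_isZero h
  let e := TensorProduct.congr (Groth.Agent.Helper3.KzTor.algEquiv (A := R) (A' := S)).symm
    (LinearEquiv.refl R Z)
  haveI : Subsingleton (TensorProduct R S Z) := e.symm.toEquiv.subsingleton
  haveI : IsLocalizedModule M (TensorProduct.mk R S Z 1) :=
    (isLocalizedModule_iff_isBaseChange M S _).mpr (TensorProduct.isBaseChange R Z S)
  have h1 : TensorProduct.mk R S Z 1 z = 0 := Subsingleton.elim _ _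
  obtain ⟨c, hc⟩ := (IsLocalizedModule.eq_zero_iff M (TensorProduct.mk R S Z 1)).mp h1
  exact ⟨c, c.2, hc⟩

/-- a module whose extensions of scalars to all local rings vanish is zero -/
theorem isZero_of_forall_localization (Z : ModuleCat.{u} R)
    (h : ∀ (𝔭 : Ideal R) [𝔭.IsPrime], IsZero ((ModuleCat.extendScalars.{u, u, u}
      (algebraMap R (Localization.AtPrime 𝔭))).obj Z)) : IsZero Z := by
  haveI : Subsingleton Z := by
    refine ⟨fun z z' => ?_⟩
    have key : ∀ z : Z, z = 0 := by
      intro z
      let ann : Ideal R :=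
        { carrier := {a | a • z = 0}
          zero_mem' := zero_smul _ _
          add_mem' := fun {a b} ha hb => by
            show (a + b) • z = 0
            rw [add_smul, ha, hb, add_zero]
          smul_mem' := fun c a ha => by
            show (c • a) • z = 0
            rw [smul_assoc, ha, smul_zero] }
      by_cases htop : ann = ⊤
      · have : (1 : R) ∈ ann := htop ▸ Submodule.mem_top
        have h1 : (1 : R) • z = 0 := this
        rwa [one_smul] at h1
      · obtain ⟨𝔪, h𝔪, hle⟩ := Ideal.exists_le_maximal ann htop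
        haveI := h𝔪.isPrime
        obtain ⟨c, hc, hcz⟩ := exists_smul_eq_zero_of_isZero (Localization.AtPrime 𝔪)
          𝔪.primeCompl Z (h 𝔪) z
        exact absurd (hle hcz) hc
    rw [key z, key z']
  exact ModuleCat.isZero_of_subsingleton _

theorem kreg_locglob (l : List R)
    (h : ∀ (𝔭 : Ideal R) [𝔭.IsPrime], LCI.IsKoszulRegularSeq (Localization.AtPrime 𝔭)
      (l.map (algebraMap R (Localization.AtPrime 𝔭)))) : LCI.IsKoszulRegularSeq R l := by
  rw [isKoszulRegularSeq_iff]
  intro i hi
  apply isZero_of_forall_localization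
  intro 𝔭 _
  haveI : Module.Flat R (Localization.AtPrime 𝔭) := IsLocalization.flat _ 𝔭.primeCompl
  obtain ⟨e⟩ := nonempty_homology_iso (S := Localization.AtPrime 𝔭) l i
  exact (((isKoszulRegularSeq_iff _).mp (h 𝔭)) i hi).of_iso e.symm

theorem kreg_unit (l : List R) (h : Ideal.ofList l = ⊤) : LCI.IsKoszulRegularSeq R l := by
  rw [isKoszulRegularSeq_iff]
  intro i _
  haveI : Subsingleton ((koszulCx (ModuleCat.of R R) l).homology i) := by
    refine ⟨fun z z' => ?_⟩
    have key : ∀ z : (koszulCx (ModuleCat.of R R) l).homology i, z = 0 := fun z => by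
      have := smul_homology_eq_zero (ModuleCat.of R R) l 1 (by
        have : (1 : R) ∈ Ideal.ofList l := h ▸ Submodule.mem_top
        exact this) i z
      rwa [one_smul] at this
    rw [key z, key z']
  exact ModuleCat.isZero_of_subsingleton _

end locglob

/-- the class of Koszul-regular sequences -/
def kregClass : RegClass.{u} where
  P R _ l := LCI.IsKoszulRegularSeq R l
  indep l l' hlen hspan h :=
    Groth.Agent.Helper3.KoszulGen.isKoszulRegularSeq_of_span_eq l l' hlen hspan h
  flat φ hφ l h := Groth.Agent.Helper3.KzLoc.kreg_map_of_flat φ hφ l h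
  descent φ hφ l h := kreg_descent φ hφ l h
  locglob l h := kreg_locglob l h
  rel f hf a ha i := Groth.Agent.Helper3.KzCot.coeff_mem_of_kreg f hf _
    (fun j => Ideal.subset_span (Set.mem_range_self j)) a ha i
  unit l h := kreg_unit l h

/-- **faithfully flat descent of Koszul-regular ideals** -/
theorem main (A B : Type u) [CommRing A] [CommRing B] [Algebra A B]
    [Module.FaithfullyFlat A B] (I : Ideal A)
    (h : LCI.IsKoszulRegularIdeal (Ideal.map (algebraMap A B) I)) :
    LCI.IsKoszulRegularIdeal I :=
  FFDesc.main kregClass I h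

end Groth.Agent.Helper3.FFDescK
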