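import Mathlib
import Groth.Prelude.Def_DRing2
import Groth.Prelude.Def_DDual2
import Groth.Prelude.Def_LCI2
import Groth.Agent.Helper3.DRingBC3
import Groth.Agent.Helper3.KPerfA
import Groth.Agent.Helper3.FFDescK

/-! The quotient by a Koszul-regular ideal is a perfect module (local-global). -/

set_option autoImplicit false
set_option linter.style.haveILetI false
set_option linter.unusedSectionVars false
set_option linter.unusedVariables false
set_option linter.style.haveILetI false
set_option linter.unusedSectionVars false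
set_option linter.unusedVariables false
universe u
open CategoryTheory CategoryTheory.Limits TensorProduct

namespace Groth.Agent.Helper3.KPerfB

attribute [local instance] HasDerivedCategory.standard

open Groth.Agent.Helper3.DRingLib DerivedCategory

variable {P : Type u} [CommRing P]

/-- a finite basic-open cover of `Spec P` on whose members a Koszul-regular ideal is generated by
a Koszul-regular sequence -/
theorem exists_cover (I : Ideal P) (hI : LCI.IsKoszulRegularIdeal I) :
    ∃ (r : ℕ) (g : Fin r → P), Ideal.span (Set.range g) = ⊤ ∧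
      ∀ j, ∃ l : List (Localization.Away (g j)), LCI.IsKoszulRegularSeq _ l ∧
        I.map (algebraMap P (Localization.Away (g j))) = Ideal.ofList l := by
  classical
  let S : Set P := {g | ∃ l : List (Localization.Away g), LCI.IsKoszulRegularSeq _ l ∧
        I.map (algebraMap P (Localization.Away g)) = Ideal.ofList l}
  have hS : Ideal.span S = ⊤ := by
    by_contra hne
    obtain ⟨m, hm, hle⟩ := Ideal.exists_le_maximal _ hne
    by_cases hIm : I ≤ m
    · obtain ⟨g, hg, l, hl, hIl⟩ := hI ⟨m, hm.isPrime⟩ hIm
      exact hg (hle (Ideal.subset_span ⟨l, hl, hIl⟩))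
    · obtain ⟨g, hgI, hgm⟩ := Set.not_subset.mp hIm
      apply hgm
      apply hle
      apply Ideal.subset_span
      have htop : I.map (algebraMap P (Localization.Away g)) = ⊤ := by
        apply Ideal.eq_top_of_isUnit_mem _ (Ideal.mem_map_of_mem _ hgI)
        exact IsLocalization.Away.algebraMap_isUnit g
      have h1 : Ideal.ofList [(1 : Localization.Away g)] = ⊤ := by
        rw [Ideal.eq_top_iff_one]
        exact Ideal.subset_span (by simp)
      exact ⟨[1], Groth.Agent.Helper3.FFDescK.kreg_unit _ h1, htop.trans h1.symm⟩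
  obtain ⟨s, hsS, hs⟩ := (Ideal.span_eq_top_iff_finite S).mp hS
  refine ⟨s.toList.length, fun i => s.toList.get i, ?_, fun j => ?_⟩
  · rw [Set.range_list_get]
    convert hs using 2
    ext x
    simp
  · have : s.toList.get j ∈ s := by
      rw [← Finset.mem_toList]
      exact List.get_mem _ _
    exact hsS this

/-- the quotient by a Koszul-regular ideal is a perfect module -/
theorem isPerfect_quot (I : Ideal P) (hI : LCI.IsKoszulRegularIdeal I) :
    DRing.IsPerfect P (Dual.inD P (P ⧸ I)) := by
  obtain ⟨r, g, hg, hl⟩ := exists_cover I hI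
  let K : DRing.Cx P := (CochainComplex.singleFunctor (ModuleCat.{u} P) 0).obj (ModuleCat.of P (P ⧸ I))
  have e : DRing.toD K ≅ Dual.inD P (P ⧸ I) :=
    ((singleFunctorIsoCompQ (ModuleCat.{u} P) 0).app (ModuleCat.of P (P ⧸ I))).symm
  refine isPerfect_of_iso e ?_
  refine isPerfect_of_forall_bcCx (jointlyFaithful_away g hg) (jointlyFinite_away g hg) K ?_
  intro j
  obtain ⟨l, hkl, hIl⟩ := hl j
  let B := Localization.Away (g j)
  have e1 : DRing.toD ((bcCx P B).obj K) ≅ Dual.inD B (B ⊗[P] (P ⧸ I)) :=
    (bcDToD B K).symm ≪≫ (bcD P B).mapIso e ≪≫ bcDInD B (P ⧸ I)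
  have e2 : (B ⊗[P] (P ⧸ I)) ≃ₗ[B] (B ⧸ Ideal.ofList l) :=
    (Algebra.TensorProduct.quotIdealMapEquivTensorQuot B I).symm.toLinearEquiv ≪≫ₗ
      Submodule.quotEquivOfEq _ _ hIl
  have e3 : Dual.inD B (B ⊗[P] (P ⧸ I)) ≅ Dual.inD B (B ⧸ Ideal.ofList l) :=
    (singleFunctor (ModuleCat.{u} B) 0).mapIso e2.toModuleIso
  exact isPerfect_of_iso (e1 ≪≫ e3).symm (Groth.Agent.Helper3.KPerfA.isPerfect_quot_of_kreg l hkl)

end Groth.Agent.Helper3.KPerfB
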