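import Mathlib
import Groth.Prelude.Def_DRing2
import Groth.Agent.Helper3.DRing1

/-! `Hom_{D(A)}(N[0], I[i])` for a K-injective complex `I` in terms of maps `N → I^i`. -/

set_option autoImplicit false
universe u
open CategoryTheory CategoryTheory.Limits

namespace Groth.Agent.Helper3.DRingLib

attribute [local instance] HasDerivedCategory.standard

open CochainComplex.HomComplex

variable {A : Type u} [CommRing A]

/-- Morphisms in `D(A)` into a K-injective complex lift to chain maps. -/
lemma exists_Q_map_eq_of_isKInjective (L I : DRing.Cx A) [I.IsKInjective]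
    (f : DRing.toD L ⟶ DRing.toD I) : ∃ φ : L ⟶ I, DerivedCategory.Q.map φ = f := by
  obtain ⟨g, hg⟩ := (CochainComplex.IsKInjective.Qh_map_bijective
    ((HomotopyCategory.quotient _ _).obj L) I).surjective
      ((DerivedCategory.quotientCompQhIso _).hom.app L ≫ f ≫
        (DerivedCategory.quotientCompQhIso _).inv.app I)
  obtain ⟨φ, rfl⟩ := (HomotopyCategory.quotient _ _).map_surjective g
  refine ⟨φ, ?_⟩
  have := DerivedCategory.quotientCompQhIso_hom_naturality φ
  rw [hg] at this
  simpa using this.symm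

/-- Chain maps into a K-injective complex which agree in `D(A)` are homotopic. -/
lemma homotopy_of_Q_map_eq_of_isKInjective (L I : DRing.Cx A) [I.IsKInjective] (φ ψ : L ⟶ I)
    (h : DerivedCategory.Q.map φ = DerivedCategory.Q.map ψ) : Nonempty (Homotopy φ ψ) := by
  have h2 : DerivedCategory.Qh.map ((HomotopyCategory.quotient _ _).map φ) =
      DerivedCategory.Qh.map ((HomotopyCategory.quotient _ _).map ψ) := by
    have h1 := DerivedCategory.quotientCompQhIso_hom_naturality φ
    have h1' := DerivedCategory.quotientCompQhIso_hom_naturality ψ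
    rw [← cancel_mono ((DerivedCategory.quotientCompQhIso _).hom.app I), h1, h1', h]
  have := (CochainComplex.IsKInjective.Qh_map_bijective
    ((HomotopyCategory.quotient _ _).obj L) I).injective h2
  exact ⟨HomotopyCategory.homotopyOfEq _ _ this⟩

/-- The cocycle attached to `f : N → I^i` with `f ≫ d = 0`. -/
noncomputable def extCocycleI (I : DRing.Cx A) (N : ModuleCat.{u} A) (i : ℤ)
    (f : N ⟶ I.X i) (hf : f ≫ I.d i (i + 1) = 0) :
    Cocycle ((CochainComplex.singleFunctor (ModuleCat.{u} A) 0).obj N) I i :=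
  Cocycle.fromSingleMk f (zero_add i) (i + 1) rfl hf

/-- The morphism `N[0] → I[i]` in `D(A)` attached to `f : N → I^i` with `f ≫ d = 0`. -/
noncomputable def extRepI (I : DRing.Cx A) (N : ModuleCat.{u} A) (i : ℤ)
    (f : N ⟶ I.X i) (hf : f ≫ I.d i (i + 1) = 0) :
    (DerivedCategory.singleFunctor (ModuleCat.{u} A) 0).obj N ⟶ (DRing.toD I)⟦i⟧ :=
  (DerivedCategory.singleFunctorIsoCompQ (ModuleCat.{u} A) 0).hom.app N ≫
    DerivedCategory.Q.map (Cocycle.equivHomShift.symm (extCocycleI I N i f hf)) ≫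
      (DerivedCategory.Q.commShiftIso i).hom.app I

lemma extRepI_surjective (I : DRing.Cx A) [I.IsKInjective] (N : ModuleCat.{u} A) (i : ℤ)
    (e : (DerivedCategory.singleFunctor (ModuleCat.{u} A) 0).obj N ⟶ (DRing.toD I)⟦i⟧) :
    ∃ (f : N ⟶ I.X i) (hf : f ≫ I.d i (i + 1) = 0), extRepI I N i f hf = e := by
  haveI : (I⟦i⟧).IsKInjective := (CochainComplex.isKInjective_shift_iff I i).mpr inferInstance
  obtain ⟨φ, hφ⟩ := exists_Q_map_eq_of_isKInjective _ (I⟦i⟧)
    ((DerivedCategory.singleFunctorIsoCompQ (ModuleCat.{u} A) 0).inv.app N ≫ e ≫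
      (DerivedCategory.Q.commShiftIso i).inv.app I)
  obtain ⟨f, hf, h⟩ := Cocycle.fromSingleMk_surjective (Cocycle.equivHomShift φ) i (zero_add i)
    (i + 1) rfl
  refine ⟨f, hf, ?_⟩
  dsimp only [extRepI, extCocycleI]
  rw [h, AddEquiv.symm_apply_apply, hφ]
  simp

lemma extRepI_eq_zero_iff (I : DRing.Cx A) [I.IsKInjective] (N : ModuleCat.{u} A) (i : ℤ)
    (f : N ⟶ I.X i) (hf : f ≫ I.d i (i + 1) = 0) :
    extRepI I N i f hf = 0 ↔ ∃ h : N ⟶ I.X (i - 1), h ≫ I.d (i - 1) i = f := by
  haveI : (I⟦i⟧).IsKInjective := (CochainComplex.isKInjective_shift_iff I i).mpr inferInstance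
  rw [← Cocycle.fromSingleMk_mem_coboundaries_iff f (zero_add i) (i + 1) rfl hf (i - 1) (by omega),
    ← CohomologyClass.toHom_mk_eq_zero_iff, CohomologyClass.toHom_mk]
  dsimp only [extRepI, extCocycleI]
  constructor
  · intro h
    have h1 : DerivedCategory.Q.map (Cocycle.equivHomShift.symm
        (Cocycle.fromSingleMk f (zero_add i) (i + 1) rfl hf)) = DerivedCategory.Q.map 0 := by
      rw [Functor.map_zero,
        ← cancel_epi ((DerivedCategory.singleFunctorIsoCompQ (ModuleCat.{u} A) 0).hom.app N),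
        ← cancel_mono ((DerivedCategory.Q.commShiftIso i).hom.app I), Category.assoc, h,
        comp_zero, zero_comp]
    obtain ⟨H⟩ := homotopy_of_Q_map_eq_of_isKInjective _ (I⟦i⟧) _ _ h1
    rw [HomotopyCategory.eq_of_homotopy _ _ H, Functor.map_zero]
  · intro h
    have h2 : DerivedCategory.Q.map (Cocycle.equivHomShift.symm
        (Cocycle.fromSingleMk f (zero_add i) (i + 1) rfl hf)) = 0 := by
      have := DerivedCategory.quotientCompQhIso_hom_naturality (C := ModuleCat.{u} A)
        (Cocycle.equivHomShift.symm (Cocycle.fromSingleMk f (zero_add i) (i + 1) rfl hf))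
      rw [h, Functor.map_zero, zero_comp] at this
      rw [← cancel_epi ((DerivedCategory.quotientCompQhIso (ModuleCat.{u} A)).hom.app
        ((CochainComplex.singleFunctor (ModuleCat.{u} A) 0).obj N)), ← this, comp_zero]
    rw [h2, zero_comp, comp_zero]

lemma extRepI_zero (I : DRing.Cx A) [I.IsKInjective] (N : ModuleCat.{u} A) (i : ℤ) :
    extRepI I N i 0 (by rw [zero_comp]) = 0 := by
  rw [extRepI_eq_zero_iff]
  exact ⟨0, by rw [zero_comp]⟩

end Groth.Agent.Helper3.DRingLib
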