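import Mathlib
import Groth.Prelude.Def_DRing2
import Groth.Agent.Helper3.DRing1
import Groth.Agent.Helper3.DRingCone

/-! Finite injective dimension in `D(A)`: permanence under isomorphisms, shifts and cones. -/

set_option autoImplicit false
universe u
open CategoryTheory CategoryTheory.Limits

namespace Groth.Agent.Helper3.DRingLib

attribute [local instance] HasDerivedCategory.standard

variable {A : Type u} [CommRing A]

open Pretriangulated DerivedCategory ZeroObject

lemma injective_obj (M : ModuleCat.{u} A) (h : Module.Injective A M) : Injective M :=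
  (Module.injective_iff_injective_object A M).mp h

lemma injective_module (M : ModuleCat.{u} A) (h : Injective M) : Module.Injective A M :=
  (Module.injective_iff_injective_object A M).mpr h

lemma isKInjective_of_termwiseInjective (E : DRing.Cx A) (a b : ℤ)
    (v : DRing.VanishesOutside E a b) (h : DRing.TermwiseInjective E) : E.IsKInjective := by
  have := isStrictlyGE_of_vanishesOutside E a b v
  have : ∀ n, Injective (E.X n) := fun n => injective_obj _ (h n)
  exact CochainComplex.isKInjective_of_injective E a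

/-- Morphisms in `D(A)` into a K-injective complex lift to chain maps. -/
lemma exists_Q_map_eq_inj (P L : DRing.Cx A) [L.IsKInjective] (f : DRing.toD P ⟶ DRing.toD L) :
    ∃ φ : P ⟶ L, DerivedCategory.Q.map φ = f := by
  obtain ⟨g, hg⟩ := (CochainComplex.IsKInjective.Qh_map_bijective
    ((HomotopyCategory.quotient _ _).obj P) L).surjective
      ((DerivedCategory.quotientCompQhIso _).hom.app P ≫ f ≫
        (DerivedCategory.quotientCompQhIso _).inv.app L)
  obtain ⟨φ, rfl⟩ := (HomotopyCategory.quotient _ _).map_surjective g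
  refine ⟨φ, ?_⟩
  have := DerivedCategory.quotientCompQhIso_hom_naturality φ
  rw [hg] at this
  simpa using this.symm

lemma exists_cone_iso_inj (T : Triangle (Dual.D A)) (hT : T ∈ distTriang _) (E1 E2 : DRing.Cx A)
    [E2.IsKInjective] (e1 : DRing.toD E1 ≅ T.obj₁) (e2 : DRing.toD E2 ≅ T.obj₂) :
    ∃ φ : E1 ⟶ E2, Nonempty (DRing.toD (CochainComplex.mappingCone φ) ≅ T.obj₃) := by
  obtain ⟨φ, hφ⟩ := exists_Q_map_eq_inj E1 E2 (e1.hom ≫ T.mor₁ ≫ e2.inv)
  refine ⟨φ, ⟨?_⟩⟩
  have hT' := DerivedCategory.mappingCone_triangle_distinguished φ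
  have e := isoTriangleOfIso₁₂ _ T hT' hT e1 e2 (by
    change DerivedCategory.Q.map φ ≫ e2.hom = _
    rw [hφ, Category.assoc, Category.assoc, Iso.inv_hom_id, Category.comp_id]
    rfl)
  exact Triangle.π₃.mapIso e

lemma cone_termwiseInjective {E1 E2 : DRing.Cx A} (φ : E1 ⟶ E2)
    (h1 : DRing.TermwiseInjective E1) (h2 : DRing.TermwiseInjective E2) :
    DRing.TermwiseInjective (CochainComplex.mappingCone φ) := by
  intro i
  apply injective_module
  have := injective_obj _ (h1 (i + 1))
  have := injective_obj _ (h2 i)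
  exact Injective.of_iso (HomologicalComplex.homotopyCofiber.XIsoBiprod φ i (i + 1) rfl).symm
    inferInstance

lemma shift_termwiseInjective (E : DRing.Cx A) (n : ℤ) (h : DRing.TermwiseInjective E) :
    DRing.TermwiseInjective (E⟦n⟧) := fun i => h (i + n)

lemma hasFiniteInjDim_of_iso {K L : Dual.D A} (e : K ≅ L) (h : DRing.HasFiniteInjDim A K) :
    DRing.HasFiniteInjDim A L := by
  obtain ⟨a, b, E, h1, h2, ⟨e'⟩⟩ := h
  exact ⟨a, b, E, h1, h2, ⟨e' ≪≫ e⟩⟩

lemma hasFiniteInjDim_shift {K : Dual.D A} (n : ℤ) (h : DRing.HasFiniteInjDim A K) :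
    DRing.HasFiniteInjDim A (K⟦n⟧) := by
  obtain ⟨a, b, E, h1, h2, ⟨e'⟩⟩ := h
  exact ⟨a - n, b - n, E⟦n⟧, shift_vanishesOutside E a b n h1, shift_termwiseInjective E n h2,
    ⟨toDShiftIso E n ≪≫ (shiftFunctor (Dual.D A) n).mapIso e'⟩⟩

lemma hasFiniteInjDim_of_isZero (K : Dual.D A) (h : IsZero K) : DRing.HasFiniteInjDim A K := by
  refine ⟨0, 0, 0, fun i _ => ?_, fun i => ?_, ⟨?_⟩⟩
  · exact Functor.map_isZero (HomologicalComplex.eval _ _ i) (isZero_zero _)
  · apply injective_module
    have : IsZero ((0 : DRing.Cx A).X i) :=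
      Functor.map_isZero (HomologicalComplex.eval _ _ i) (isZero_zero _)
    exact Injective.of_iso ((isZero_zero _).iso this) inferInstance
  · exact (Functor.map_isZero DerivedCategory.Q (isZero_zero _)).iso h

lemma hasFiniteInjDim_obj₃ (T : Triangle (Dual.D A)) (hT : T ∈ distTriang _)
    (h1 : DRing.HasFiniteInjDim A T.obj₁) (h2 : DRing.HasFiniteInjDim A T.obj₂) :
    DRing.HasFiniteInjDim A T.obj₃ := by
  obtain ⟨a1, b1, E1, v1, p1, ⟨e1⟩⟩ := h1
  obtain ⟨a2, b2, E2, v2, p2, ⟨e2⟩⟩ := h2
  have : E2.IsKInjective := isKInjective_of_termwiseInjective E2 a2 b2 v2 p2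
  obtain ⟨φ, ⟨e3⟩⟩ := exists_cone_iso_inj T hT E1 E2 e1 e2
  refine ⟨min (a1 - 1) a2, max (b1 - 1) b2, _, ?_, cone_termwiseInjective φ p1 p2, ⟨e3⟩⟩
  apply cone_vanishesOutside
  · exact vanishesOutside_mono E1 (by omega) (by omega) v1
  · exact vanishesOutside_mono E2 (by omega) (by omega) v2

lemma hasFiniteInjDim_obj₂ (T : Triangle (Dual.D A)) (hT : T ∈ distTriang _)
    (h1 : DRing.HasFiniteInjDim A T.obj₁) (h3 : DRing.HasFiniteInjDim A T.obj₃) :
    DRing.HasFiniteInjDim A T.obj₂ :=
  hasFiniteInjDim_obj₃ T.invRotate (inv_rot_of_distTriang _ hT) (hasFiniteInjDim_shift (-1) h3) h1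

end Groth.Agent.Helper3.DRingLib
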