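import Mathlib
import Groth.Prelude.Def_DRing2
import Groth.Agent.Helper3.DRingExtI
import Groth.Agent.Helper3.DRingInj
import Groth.Agent.Helper3.DRingDev
import Groth.Agent.Helper3.DRingTor1
import Groth.Agent.Helper3.DRingFin

/-! Injective amplitude via `Ext` vanishing. -/

set_option autoImplicit false
universe u
open CategoryTheory CategoryTheory.Limits CategoryTheory.Pretriangulated

namespace Groth.Agent.Helper3.DRingLib

attribute [local instance] HasDerivedCategory.standard

open DerivedCategory CochainComplex.HomComplex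

variable {A : Type u} [CommRing A]

/-- Vanishing of all maps `A[0] → K'[i]` forces exactness of `K'` in degree `i`. -/
theorem exactAt_of_hom_inD_eq_zero (K' : DRing.Cx A) (i : ℤ)
    (h : ∀ e : (singleFunctor (ModuleCat.{u} A) 0).obj (ModuleCat.of A A) ⟶ (DRing.toD K')⟦i⟧,
      e = 0) : K'.ExactAt i := by
  rw [exactAt_iff_forall K' (i - 1) i (i + 1) (by omega) rfl]
  intro x hx
  let S : DRing.Cx A := (CochainComplex.singleFunctor (ModuleCat.{u} A) i).obj (ModuleCat.of A A)
  let φ : S ⟶ K' := HomologicalComplex.mkHomFromSingle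
    (ModuleCat.ofHom (LinearMap.toSpanSingleton A (K'.X i) x)) (by
      intro k hk
      have hk' : i + 1 = k := hk
      subst hk'
      apply ModuleCat.hom_ext
      apply LinearMap.ext_ring
      change (K'.d i (i + 1)).hom ((1 : A) • x) = 0
      rw [one_smul, hx])
  have hSproj : S.IsKProjective := by
    have hS : ∀ k : ℤ, Module.Projective A (S.X k) := by
      intro k
      by_cases hk : k = i
      · subst hk
        exact Module.Projective.of_equiv
          (HomologicalComplex.singleObjXSelf (ComplexShape.up ℤ) k (ModuleCat.of A A)).toLinearEquiv.symm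
      · have hz : IsZero (S.X k) := HomologicalComplex.isZero_single_obj_X _ _ _ _ hk
        have := ModuleCat.subsingleton_of_isZero hz
        infer_instance
    exact isKProjective_of_vanishesAbove S i
      (fun k hk => HomologicalComplex.isZero_single_obj_X _ _ _ _ (by omega)) hS
  -- `Q.map φ = 0`
  have hQ : DerivedCategory.Q.map φ = 0 := by
    let eS : ((singleFunctor (ModuleCat.{u} A) 0).obj (ModuleCat.of A A))⟦-i⟧ ≅ DRing.toD S :=
      singleShiftIso (ModuleCat.of A A) i ≪≫
        (DerivedCategory.singleFunctorIsoCompQ (ModuleCat.{u} A) i).app (ModuleCat.of A A)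
    have h1 : eS.hom ≫ DerivedCategory.Q.map φ = 0 := by
      apply (shiftFunctor (Dual.D A) i).map_injective
      rw [Functor.map_zero]
      have h2 := h ((shiftFunctorCompIsoId (Dual.D A) (-i) i (by omega)).inv.app _ ≫
        (eS.hom ≫ DerivedCategory.Q.map φ)⟦i⟧')
      rw [← cancel_epi ((shiftFunctorCompIsoId (Dual.D A) (-i) i (by omega)).inv.app
        ((singleFunctor (ModuleCat.{u} A) 0).obj (ModuleCat.of A A))), comp_zero]
      exact h2
    rw [← cancel_epi eS.hom, h1, comp_zero]
  obtain ⟨H⟩ := homotopy_of_Q_map_eq S K' φ 0 (by rw [hQ, Functor.map_zero])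
  have hc := H.comm i
  have hSz : IsZero (S.X (i + 1)) := HomologicalComplex.isZero_single_obj_X _ _ _ _ (by omega)
  have hd : dNext i H.hom = 0 := by
    rw [dNext_eq H.hom (show (ComplexShape.up ℤ).Rel i (i + 1) from rfl)]
    rw [hSz.eq_of_tgt (S.d i (i + 1)) 0, zero_comp]
  have hp : prevD i H.hom = H.hom i (i - 1) ≫ K'.d (i - 1) i :=
    prevD_eq H.hom (show (ComplexShape.up ℤ).Rel (i - 1) i by simp)
  rw [hd, hp, HomologicalComplex.zero_f, zero_add, add_zero] at hc
  have hφ : φ.f i = (HomologicalComplex.singleObjXSelf (ComplexShape.up ℤ) i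
      (ModuleCat.of A A)).hom ≫ ModuleCat.ofHom (LinearMap.toSpanSingleton A (K'.X i) x) :=
    HomologicalComplex.mkHomFromSingle_f _ _
  let e := HomologicalComplex.singleObjXSelf (ComplexShape.up ℤ) i (ModuleCat.of A A)
  have hx' : (φ.f i).hom (e.inv.hom (1 : A)) = x := by
    rw [hφ]
    change (LinearMap.toSpanSingleton A (K'.X i) x) (e.hom.hom (e.inv.hom (1 : A))) = x
    have h4 : e.hom.hom (e.inv.hom (1 : A)) = (1 : A) := by
      have h5 := congrArg (fun ψ => ψ.hom (1 : A)) e.inv_hom_id
      exact h5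
    rw [h4]
    exact one_smul A x
  refine ⟨(H.hom i (i - 1)).hom (e.inv.hom (1 : A)), ?_⟩
  rw [← hx', hc]
  rfl

/-- `cycles` of a complex of modules is the kernel of the differential. -/
noncomputable def cyclesIsoKer (P : DRing.Cx A) (i j : ℤ) (hij : i + 1 = j) :
    P.cycles i ≅ ModuleCat.of A (LinearMap.ker (P.d i j).hom) :=
  IsLimit.conePointUniqueUpToIso (P.cyclesIsKernel i j (by simp [← hij]))
    (ModuleCat.kernelIsLimit (P.d i j))

lemma isKInjective_of_vanishesBelow (E : DRing.Cx A) (a : ℤ) (hE : ∀ i : ℤ, i < a → IsZero (E.X i))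
    (hinj : ∀ i : ℤ, Module.Injective A (E.X i)) : E.IsKInjective := by
  have : E.IsStrictlyGE a := by
    rw [CochainComplex.isStrictlyGE_iff]
    exact hE
  have : ∀ n, Injective (E.X n) := fun n => injective_obj _ (hinj n)
  exact CochainComplex.isKInjective_of_injective E a

/-- Bounded below objects of `D(A)` have injective resolutions. -/
theorem exists_injective_rep (K : Dual.D A) (a : ℤ) [K.IsGE a] :
    ∃ (E : DRing.Cx A), (∀ i : ℤ, i < a → IsZero (E.X i)) ∧
      (∀ i : ℤ, Module.Injective A (E.X i)) ∧ Nonempty (DRing.toD E ≅ K) := by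
  obtain ⟨K', hK', ⟨e⟩⟩ := K.exists_iso_Q_obj_of_isGE a
  obtain ⟨L, i, hi, hL, hL'⟩ :=
    CochainComplex.Plus.modelCategoryQuillen.exists_quasiIso_injective K' a
  have hiso : IsIso (DerivedCategory.Q.map i) :=
    (DerivedCategory.isIso_Q_map_iff_quasiIso (ModuleCat.{u} A) _).mpr hi
  exact ⟨L, fun j hj => L.isZero_of_isStrictlyGE a j hj, fun j => injective_module _ (hL j),
    ⟨(asIso (DerivedCategory.Q.map i)).symm ≪≫ e.symm⟩⟩

/-- Baer's criterion applied to the cycles of a K-injective complex of injectives. -/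
theorem injective_ker_of_hom_eq_zero (E : DRing.Cx A) [E.IsKInjective]
    (hinj : ∀ i : ℤ, Module.Injective A (E.X i)) (b n : ℤ) (hbn : b + 1 = n)
    (h : ∀ (J : Ideal A) (e : (singleFunctor (ModuleCat.{u} A) 0).obj (ModuleCat.of A (A ⧸ J)) ⟶
      (DRing.toD E)⟦n⟧), e = 0) :
    Module.Injective A (LinearMap.ker (E.d b n).hom) := by
  subst hbn
  apply Module.Baer.injective
  intro J g
  -- extend to `A → E^b`
  have hEb : Module.Baer A (E.X b) := Module.Baer.of_injective (hinj b)
  obtain ⟨g₂, hg₂⟩ := hEb J ((LinearMap.ker (E.d b (b + 1)).hom).subtype ∘ₗ g)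
  -- `d ∘ g₂` kills `J`
  have hker : J ≤ LinearMap.ker ((E.d b (b + 1)).hom ∘ₗ g₂) := by
    intro x hx
    rw [LinearMap.mem_ker, LinearMap.comp_apply, hg₂ x hx]
    exact (g ⟨x, hx⟩).2
  let hq : (A ⧸ J) →ₗ[A] E.X (b + 1) := J.liftQ ((E.d b (b + 1)).hom ∘ₗ g₂) hker
  have hq_mk : ∀ x : A, hq (Submodule.Quotient.mk x) = (E.d b (b + 1)).hom (g₂ x) := fun x => rfl
  have hcoc : ModuleCat.ofHom hq ≫ E.d (b + 1) (b + 1 + 1) = 0 := by
    apply ModuleCat.hom_ext
    apply LinearMap.ext
    intro y
    obtain ⟨x, rfl⟩ := Submodule.Quotient.mk_surjective _ y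
    change (E.d (b + 1) (b + 1 + 1)).hom (hq (Submodule.Quotient.mk x)) = 0
    rw [hq_mk]
    have h2 := E.d_comp_d b (b + 1) (b + 1 + 1)
    have h3 := congrArg (fun ψ => ψ.hom (g₂ x)) h2
    exact h3
  have h0 := h J (extRepI E (ModuleCat.of A (A ⧸ J)) (b + 1) (ModuleCat.ofHom hq) hcoc)
  rw [extRepI_eq_zero_iff] at h0
  obtain ⟨h', hh'⟩ := h0
  have hb1 : b + 1 - 1 = b := by omega
  -- transport `h'` to a map `A/J → E^b`
  obtain ⟨k, hk⟩ : ∃ k : (A ⧸ J) →ₗ[A] E.X b, ∀ y, (E.d b (b + 1)).hom (k y) = hq y := by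
    have : ∀ (c : ℤ) (hc : c = b) (h'' : ModuleCat.of A (A ⧸ J) ⟶ E.X c),
        h'' ≫ E.d c (b + 1) = ModuleCat.ofHom hq →
        ∃ k : (A ⧸ J) →ₗ[A] E.X b, ∀ y, (E.d b (b + 1)).hom (k y) = hq y := by
      intro c hc h'' hh''
      subst hc
      refine ⟨h''.hom, fun y => ?_⟩
      have := congrArg (fun ψ => ψ.hom y) hh''
      exact this
    exact this (b + 1 - 1) hb1 h' hh'
  let g' : A →ₗ[A] E.X b := g₂ - k ∘ₗ J.mkQ
  have hg'ker : ∀ x : A, g' x ∈ LinearMap.ker (E.d b (b + 1)).hom := by
    intro x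
    rw [LinearMap.mem_ker]
    change (E.d b (b + 1)).hom (g₂ x - k (Submodule.Quotient.mk x)) = 0
    rw [map_sub, hk, hq_mk, sub_self]
  refine ⟨LinearMap.codRestrict _ g' hg'ker, fun x hx => ?_⟩
  apply Subtype.ext
  change g₂ x - k (Submodule.Quotient.mk x) = (g ⟨x, hx⟩ : E.X b)
  have hx0 : (Submodule.Quotient.mk x : A ⧸ J) = 0 := (Submodule.Quotient.mk_eq_zero J).mpr hx
  rw [hx0, map_zero, sub_zero, hg₂ x hx]
  rfl

lemma injective_of_iso' {M N : ModuleCat.{u} A} (e : M ≅ N) (h : Module.Injective A M) :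
    Module.Injective A N :=
  injective_module _ (Injective.of_iso e (injective_obj _ h))

lemma injective_of_isZero' {M : ModuleCat.{u} A} (h : IsZero M) : Module.Injective A M :=
  injective_module _ h.injective

/-- The truncation `τ_{≤b}E` of a bounded below complex of injectives with injective
`ker(E^b → E^{b+1})` is a complex of injectives in `[a, b]`. -/
lemma truncLE_injective (E : DRing.Cx A) (a : ℤ) (hE : ∀ i : ℤ, i < a → IsZero (E.X i))
    (hinj : ∀ i : ℤ, Module.Injective A (E.X i)) (b n : ℤ) (hbn : b + 1 = n)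
    (hker : Module.Injective A (LinearMap.ker (E.d b n).hom)) :
    DRing.VanishesOutside (E.truncLE b) a b ∧
      ∀ i : ℤ, Module.Injective A ((E.truncLE b).X i) := by
  let eb : (E.truncLE b).X b ≅ ModuleCat.of A (LinearMap.ker (E.d b n).hom) :=
    E.truncLEXIsoCycles b ≪≫ cyclesIsoKer E b n hbn
  constructor
  · intro i hi
    rcases hi with hi | hi
    · by_cases h1 : i < b
      · exact (hE i hi).of_iso (E.truncLEXIso b i h1)
      · by_cases h2 : i = b
        · subst h2
          have hz : IsZero (E.X i) := hE i hi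
          have := ModuleCat.subsingleton_of_isZero hz
          have : Subsingleton (LinearMap.ker (E.d i n).hom) :=
            ⟨fun x y => Subtype.ext (Subsingleton.elim _ _)⟩
          have : Subsingleton ((E.truncLE i).X i) := eb.toLinearEquiv.toEquiv.subsingleton
          exact ModuleCat.isZero_of_subsingleton _
        · exact (E.truncLE b).isZero_of_isStrictlyLE b i (by omega)
    · exact (E.truncLE b).isZero_of_isStrictlyLE b i hi
  · intro i
    by_cases h1 : b < i
    · exact injective_of_isZero' ((E.truncLE b).isZero_of_isStrictlyLE b i h1)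
    · by_cases h2 : i = b
      · subst h2
        exact injective_of_iso' eb.symm hker
      · exact injective_of_iso' (E.truncLEXIso b i (by omega)).symm (hinj i)

/-- Core of the injective amplitude criterion. -/
theorem exists_injective_rep_of_ext (K : Dual.D A) (a b : ℤ)
    (h : ∀ (J : Ideal A) (i : ℤ), (i < a ∨ b < i) →
      ∀ e : (singleFunctor (ModuleCat.{u} A) 0).obj (ModuleCat.of A (A ⧸ J)) ⟶ K⟦i⟧, e = 0) :
    ∃ E : DRing.Cx A, DRing.VanishesOutside E a b ∧ (∀ i : ℤ, Module.Injective A (E.X i)) ∧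
      Nonempty (DRing.toD E ≅ K) := by
  -- cohomology vanishes outside `[a, b]`
  have hHD : ∀ i : ℤ, (i < a ∨ b < i) → Subsingleton (Dual.HD A K i) := by
    intro i hi
    let K' : DRing.Cx A := DerivedCategory.Q.objPreimage K
    let e : DRing.toD K' ≅ K := DerivedCategory.Q.objObjPreimageIso K
    have hz : IsZero ((DerivedCategory.homologyFunctor (ModuleCat.{u} A) i).obj (DRing.toD K')) := by
      have hex : K'.ExactAt i := by
        apply exactAt_of_hom_inD_eq_zero
        intro x
        let l : A ≃ₗ[A] (A ⧸ (⊥ : Ideal A)) := (Submodule.quotEquivOfEqBot ⊥ rfl).symm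
        have h0 := h ⊥ i hi
          ((singleFunctor (ModuleCat.{u} A) 0).map l.symm.toModuleIso.hom ≫ x ≫ e.hom⟦i⟧')
        have h1 : x ≫ e.hom⟦i⟧' = 0 := by
          rw [← cancel_epi ((singleFunctor (ModuleCat.{u} A) 0).map l.symm.toModuleIso.hom), h0,
            comp_zero]
        rw [← cancel_mono (e.hom⟦i⟧'), h1, zero_comp]
      rw [HomologicalComplex.exactAt_iff_isZero_homology] at hex
      exact hex.of_iso (homologyToDIso K' i)
    exact ModuleCat.subsingleton_of_isZero
      (hz.of_iso ((DerivedCategory.homologyFunctor (ModuleCat.{u} A) i).mapIso e.symm))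
  haveI : K.IsGE a := isGE_of_HD K a (fun i hi => hHD i (Or.inl hi))
  obtain ⟨E, hEa, hEinj, ⟨eE⟩⟩ := exists_injective_rep K a
  haveI : E.IsKInjective := isKInjective_of_vanishesBelow E a hEa hEinj
  have hker : Module.Injective A (LinearMap.ker (E.d b (b + 1)).hom) := by
    apply injective_ker_of_hom_eq_zero E hEinj b (b + 1) rfl
    intro J x
    have h0 := h J (b + 1) (Or.inr (by omega)) (x ≫ eE.hom⟦b + 1⟧')
    rw [← cancel_mono (eE.hom⟦b + 1⟧'), h0, zero_comp]
  obtain ⟨h1, h2⟩ := truncLE_injective E a hEa hEinj b (b + 1) rfl hker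
  have hEle : E.IsLE b := by
    rw [CochainComplex.isLE_iff]
    intro i hi
    apply exactAt_of_isZero
    have := hHD i (Or.inr hi)
    have hz : IsZero ((DerivedCategory.homologyFunctor (ModuleCat.{u} A) i).obj K) :=
      ModuleCat.isZero_of_subsingleton _
    exact hz.of_iso ((DerivedCategory.homologyFunctor (ModuleCat.{u} A) i).mapIso eE)
  have hq : QuasiIso (E.ιTruncLE b) := (E.quasiIso_ιTruncLE_iff b).mpr hEle
  have hiso : IsIso (DerivedCategory.Q.map (E.ιTruncLE b)) :=
    (DerivedCategory.isIso_Q_map_iff_quasiIso (ModuleCat.{u} A) _).mpr hq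
  exact ⟨E.truncLE b, h1, h2, ⟨asIso (DerivedCategory.Q.map (E.ιTruncLE b)) ≪≫ eE⟩⟩

end Groth.Agent.Helper3.DRingLib
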