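import Mathlib
import Groth.Prelude.Def_DRing2
import Groth.Prelude.Def_DDual2
import Groth.Prelude.Def_LCI2
import Groth.Prelude.Def_MoreMor
import Groth.Agent.Helper3.KPerfB
import Groth.Agent.Helper3.DRingTor6
import Groth.Agent.Helper3.DRingRestr
import Groth.Agent.Helper6.TorAmpRestr
import Groth.Agent.Helper6.TorAmpBridge2

/-! lci ring maps are perfect. -/

set_option autoImplicit false
set_option linter.style.haveILetI false
set_option linter.unusedSectionVars false
set_option linter.unusedVariables false
set_option linter.style.haveILetI false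
set_option linter.unusedSectionVars false
set_option linter.unusedVariables false
universe u
open CategoryTheory CategoryTheory.Limits TensorProduct

namespace Groth.Agent.Helper3.KPerfC

attribute [local instance] HasDerivedCategory.standard

open Groth.Agent.Helper3.DRingLib DerivedCategory

variable {A B : Type u} [CommRing A] [CommRing B] [Algebra A B]

/-- a module over a flat `A`-algebra `P` which is perfect over `P` has finite tor dimension
over `A` -/
theorem hasFiniteTorDim_of_isPerfect {P : Type u} [CommRing P] [Algebra A P] [Module.Flat A P]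
    (M : Type u) [AddCommGroup M] [Module P M] [Module A M] [IsScalarTower A P M]
    (a b : ℤ) (h : DRing.HasTorAmplitudeIn P a b (Dual.inD P M)) : DRing.HasFiniteTorDim A M := by
  have hP : DRing.HasTorAmplitudeIn A (-((0 : ℕ) : ℤ)) 0 (Dual.inD A P) :=
    ((Groth.Agent.Helper6.TorAmpBridge.main2 P 0).1).mp
      (((Groth.Agent.Helper6.TorAmpBridge.main2 P 0).2).mpr inferInstance)
  have h1 := Groth.Agent.Helper6.TorAmpRestr.main (A := A) (B := P) 0 hP _ a b h
  let eM : ((rF (algebraMap A P)).obj (ModuleCat.of P M)) ≃ₗ[A] M :=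
    { toFun := fun m => m
      invFun := fun m => m
      map_add' := fun _ _ => rfl
      map_smul' := fun c m => by
        show ((algebraMap A P c) • (show M from m) : M) = (c • (show M from m) : M)
        rw [algebraMap_smul]
      left_inv := fun _ => rfl
      right_inv := fun _ => rfl }
  have e1 : (DRing.restrictD (algebraMap A P)).obj (Dual.inD P M) ≅ Dual.inD A M :=
    rDSingle (algebraMap A P) 0 (ModuleCat.of P M) ≪≫
      (singleFunctor (ModuleCat.{u} A) 0).mapIso eM.toModuleIso
  have h2 := hasTorAmplitudeIn_of_iso e1 _ _ h1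
  rw [hasTorAmplitudeIn_iff'] at h2
  obtain ⟨d, hd⟩ : ∃ d : ℕ, -(d : ℤ) ≤ a - ((0 : ℕ) : ℤ) := ⟨(-a).toNat, by simp; omega⟩
  refine ⟨d, Groth.Agent.Helper6.TorAmpBridge.hasTorDimLE_of_hasTorAmplitudeIn d M ?_⟩
  rw [hasTorAmplitudeIn_iff']
  exact ⟨inferInstance, h2.2.of_le hd⟩

theorem main (h : LCI.IsLCI A B) : MoreMor.IsPerfectHom A B := by
  obtain ⟨hft, n, f, hf, hK⟩ := h
  letI : Algebra (MvPolynomial (Fin n) A) B := f.toRingHom.toAlgebra
  haveI : IsScalarTower A (MvPolynomial (Fin n) A) B := IsScalarTower.of_algebraMap_eq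
    (fun a => (f.commutes a).symm)
  have hperf : DRing.IsPerfect (MvPolynomial (Fin n) A) (Dual.inD (MvPolynomial (Fin n) A) B) := by
    have h0 := Groth.Agent.Helper3.KPerfB.isPerfect_quot _ hK
    have hker : RingHom.ker f.toRingHom =
        LinearMap.ker (Algebra.linearMap (MvPolynomial (Fin n) A) B) := by
      ext x
      rfl
    let e : (MvPolynomial (Fin n) A ⧸ RingHom.ker f.toRingHom) ≃ₗ[MvPolynomial (Fin n) A] B :=
      Submodule.quotEquivOfEq _ _ hker ≪≫ₗ
        LinearMap.quotKerEquivOfSurjective (Algebra.linearMap (MvPolynomial (Fin n) A) B) hf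
    exact isPerfect_of_iso ((singleFunctor (ModuleCat.{u} _) 0).mapIso e.toModuleIso) h0
  rw [isPerfect_iff_pc_and_torDim] at hperf
  obtain ⟨hpc, a, b, hab⟩ := hperf
  exact ⟨⟨n, f, hf, hpc⟩, hasFiniteTorDim_of_isPerfect B a b hab⟩

end Groth.Agent.Helper3.KPerfC
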