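import Mathlib
import Groth.Prelude.Def_DRing2
import Groth.Prelude.Def_DDual2
import Groth.Prelude.Def_MoreMor
import Groth.Agent.Helper3.KPerfC
import Groth.Agent.Helper3.DRingPC4
import Groth.Agent.Helper3.DRingPC3
import Groth.Agent.Helper1.RegBound
import Groth.Agent.Helper6.TorAmpPd

/-! finite type algebras over regular rings of finite dimension are perfect. -/

set_option autoImplicit false
set_option linter.style.haveILetI false
set_option linter.unusedSectionVars false
set_option linter.unusedVariables false
set_option linter.style.haveILetI false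
set_option linter.unusedSectionVars false
set_option linter.unusedVariables false
universe u
open CategoryTheory CategoryTheory.Limits TensorProduct

namespace Groth.Agent.Helper3.KPerfE

attribute [local instance] HasDerivedCategory.standard

open Groth.Agent.Helper3.DRingLib DerivedCategory

lemma exists_nat_ge {x : WithBot ℕ∞} (h : x < ⊤) : ∃ d : ℕ, x ≤ d := by
  induction x using WithBot.recBotCoe with
  | bot => exact ⟨0, bot_le⟩
  | coe x =>
    have hx : x ≠ ⊤ := by
      rintro rfl
      exact lt_irrefl _ h
    obtain ⟨d, rfl⟩ := ENat.ne_top_iff_exists.mp hx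
    exact ⟨d, le_rfl⟩

theorem main (A B : Type u) [CommRing A] [CommRing B] [Algebra A B]
    [IsRegularRing A] (hdim : ringKrullDim A < ⊤) [Algebra.FiniteType A B] :
    MoreMor.IsPerfectHom A B := by
  obtain ⟨n, φ, hφ⟩ := Algebra.FiniteType.iff_quotient_mvPolynomial''.mp
    (inferInstance : Algebra.FiniteType A B)
  letI : Algebra (MvPolynomial (Fin n) A) B := φ.toRingHom.toAlgebra
  haveI : IsScalarTower A (MvPolynomial (Fin n) A) B := IsScalarTower.of_algebraMap_eq
    (fun a => (φ.commutes a).symm)
  have hfin : Module.Finite (MvPolynomial (Fin n) A) B :=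
    Module.Finite.of_surjective (Algebra.linearMap (MvPolynomial (Fin n) A) B) hφ
  have hpc : DRing.IsPseudoCoherent' (MvPolynomial (Fin n) A)
      (Dual.inD (MvPolynomial (Fin n) A) B) := by
    rw [isPseudoCoherent'_iff_forall]
    intro m
    exact isPseudoCoherent_inD_of_finite_noetherian' B m
  -- finite Krull dimension of the polynomial ring
  obtain ⟨d, hd⟩ := exists_nat_ge hdim
  obtain ⟨D, hD⟩ : ∃ D : ℕ, ringKrullDim (MvPolynomial (Fin n) A) ≤ D := by
    refine ⟨d + n, ?_⟩
    rw [MvPolynomial.ringKrullDim_of_isNoetherianRing]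
    simp only [Nat.card_eq_fintype_card, Fintype.card_fin]
    push_cast
    exact add_le_add_left hd _
  have hpd := Groth.Agent.Helper1.RegBound.hasProjectiveDimensionLT_of_regular_of_dim_le
    (A := MvPolynomial (Fin n) A) (fun m => inferInstance) D hD B
  have hta := Groth.Agent.Helper6.TorAmpPd.hasTorAmplitudeIn_of_pd D _ hpd
  exact ⟨⟨n, φ, hφ, hpc⟩, Groth.Agent.Helper3.KPerfC.hasFiniteTorDim_of_isPerfect B _ _ hta⟩

end Groth.Agent.Helper3.KPerfE
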