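import Mathlib
import Groth.Prelude.Def_CAlgX
import Groth.Prelude.Def_PP16
import Groth.Agent.Helper3.FFDesc3
import Groth.Agent.Lead.QRegFlat

set_option autoImplicit false
set_option linter.style.haveILetI false
set_option linter.unusedSectionVars false
set_option linter.unusedVariables false
set_option linter.style.haveILetI false
set_option linter.unusedSectionVars false
set_option linter.unusedVariables false

/-!
# Faithfully flat descent of quasi-regular ideals
-/

namespace Groth.Agent.Helper3.FFDescQ
open MvPolynomial CAlgX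
open Groth.Agent.Helper3.FFDesc

universe u

section basic
variable {R : Type u} [CommRing R]

theorem mem_of_sum_eq_zero {n : ℕ} (f : Fin n → R) (hq : CAlgX.IsQuasiRegular f)
    (c : Fin n → R) (hc : ∑ i, c i * f i = 0) (i : Fin n) :
    c i ∈ Ideal.span (Set.range f) := by
  classical
  have hP : (∑ j, C (c j) * X j : MvPolynomial (Fin n) R).IsHomogeneous 1 := by
    refine MvPolynomial.IsHomogeneous.sum _ _ _ fun j _ => ?_
    have := (isHomogeneous_C (Fin n) (c j)).mul (isHomogeneous_X R j)
    rwa [zero_add] at this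
  have hev : MvPolynomial.eval f (∑ j, C (c j) * X j : MvPolynomial (Fin n) R) = 0 := by
    rw [map_sum, ← hc]
    refine Finset.sum_congr rfl fun j _ => ?_
    rw [map_mul, eval_C, eval_X]
  have h := hq 1 _ hP (by rw [hev]; exact Ideal.zero_mem _) (Finsupp.single i 1)
  have hcoeff : (∑ j, C (c j) * X j : MvPolynomial (Fin n) R).coeff (Finsupp.single i 1) = c i := by
    rw [coeff_sum, Finset.sum_eq_single i]
    · rw [coeff_C_mul, coeff_X, if_pos rfl, mul_one]
    · intro j _ hji
      rw [coeff_C_mul, coeff_X, if_neg, mul_zero]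
      intro h
      exact hji ((Finsupp.single_left_inj one_ne_zero).mp h)
    · intro h; exact absurd (Finset.mem_univ i) h
  rwa [hcoeff] at h

/-- linear substitution -/
noncomputable def lin {r s : ℕ} (M : Matrix (Fin r) (Fin s) R) (i : Fin r) :
    MvPolynomial (Fin s) R := ∑ j, C (M i j) * X j

lemma lin_isHomogeneous {r s : ℕ} (M : Matrix (Fin r) (Fin s) R) (i : Fin r) :
    (lin M i).IsHomogeneous 1 := by
  refine MvPolynomial.IsHomogeneous.sum _ _ _ fun j _ => ?_
  have := (isHomogeneous_C (Fin s) (M i j)).mul (isHomogeneous_X R j)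
  rwa [zero_add] at this

lemma eval_lin {r s : ℕ} (M : Matrix (Fin r) (Fin s) R) (g : Fin s → R) (i : Fin r) :
    eval g (lin M i) = ∑ j, M i j * g j := by
  simp [lin]

lemma map_lin {S : Type u} [CommRing S] (π : R →+* S) {r s : ℕ} (M : Matrix (Fin r) (Fin s) R)
    (i : Fin r) : map π (lin M i) = lin (M.map π) i := by
  simp [lin]

lemma lin_comp {r s t : ℕ} (M : Matrix (Fin r) (Fin s) R) (N : Matrix (Fin s) (Fin t) R)
    (i : Fin r) : bind₁ (lin N) (lin M i) = lin (M * N) i := by
  simp only [lin, map_sum, map_mul, bind₁_C_right, bind₁_X_right, Matrix.mul_apply,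
    Finset.mul_sum, Finset.sum_mul]
  rw [Finset.sum_comm]
  refine Finset.sum_congr rfl fun k _ => Finset.sum_congr rfl fun j _ => ?_
  rw [mul_assoc]

lemma lin_one {r : ℕ} (i : Fin r) : lin (1 : Matrix (Fin r) (Fin r) R) i = X i := by
  classical
  simp [lin, Matrix.one_apply]

end basic

section indep
variable {R : Type u} [CommRing R]

/-- quasi-regularity only depends on the ideal and the number of generators -/
theorem indep {r : ℕ} (f g : Fin r → R)
    (hfg : Ideal.span (Set.range f) = Ideal.span (Set.range g)) (hg : IsQuasiRegular g) :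
    IsQuasiRegular f := by
  classical
  have h1 : ∀ i, ∃ c : Fin r → R, ∑ j, c j * g j = f i := fun i => by
    have : f i ∈ Ideal.span (Set.range g) := hfg ▸ Ideal.subset_span ⟨i, rfl⟩
    exact (Ideal.mem_span_range_iff_exists_fun).mp this
  have h2 : ∀ j, ∃ d : Fin r → R, ∑ k, d k * f k = g j := fun j => by
    have : g j ∈ Ideal.span (Set.range f) := hfg ▸ Ideal.subset_span ⟨j, rfl⟩
    exact (Ideal.mem_span_range_iff_exists_fun).mp this
  choose Cc hC using h1
  choose Dd hD using h2
  let MC : Matrix (Fin r) (Fin r) R := Matrix.of Cc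
  let MD : Matrix (Fin r) (Fin r) R := Matrix.of Dd
  set K := Ideal.span (Set.range g) with hK
  let π := Ideal.Quotient.mk K
  let E : Matrix (Fin r) (Fin r) R := MD * MC - 1
  have key : ∀ j l, E j l ∈ K := by
    intro j
    apply mem_of_sum_eq_zero g hg (fun l => E j l)
    have : ∑ l, E j l * g l = ∑ l, (MD * MC) j l * g l - g j := by
      simp only [E, Matrix.sub_apply, sub_mul, Finset.sum_sub_distrib, Matrix.one_apply, ite_mul,
        one_mul, zero_mul, Finset.sum_ite_eq, Finset.mem_univ, if_true]
    rw [this, sub_eq_zero]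
    simp only [Matrix.mul_apply, MC, MD, Matrix.of_apply, Finset.sum_mul]
    rw [Finset.sum_comm]
    rw [← hD j]
    refine Finset.sum_congr rfl fun k _ => ?_
    rw [← hC k, Finset.mul_sum]
    refine Finset.sum_congr rfl fun l _ => ?_
    ring
  have hDC : (MD.map π) * (MC.map π) = 1 := by
    have h3 : E.map π = 0 := by
      ext i k
      simp only [Matrix.map_apply, Matrix.zero_apply]
      exact Ideal.Quotient.eq_zero_iff_mem.mpr (key i k)
    have h4 : E.map π = (MD.map π) * (MC.map π) - 1 := by
      show (MD * MC - 1).map π = _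
      rw [Matrix.map_sub (f := π) (map_sub π), Matrix.map_mul,
        Matrix.map_one π (map_zero π) (map_one π)]
    rw [h4, sub_eq_zero] at h3
    exact h3
  have hCD : (MC.map π) * (MD.map π) = 1 := _root_.mul_eq_one_comm.mp hDC
  intro n P hP hev d
  rw [hfg] at hev ⊢
  let Q := bind₁ (lin MC) P
  have hQhom : Q.IsHomogeneous n := by
    have := hP.aeval (lin MC) (lin_isHomogeneous MC)
    rwa [one_mul] at this
  have hQev : eval g Q = eval f P := by
    show eval g (bind₁ (lin MC) P) = _
    have := eval₂Hom_bind₁ (RingHom.id R) g (lin MC) P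
    have hfun : (fun i => eval₂Hom (RingHom.id R) g (lin MC i)) = f := by
      funext i
      exact (eval_lin MC g i).trans (hC i)
    rw [show (eval g : MvPolynomial (Fin r) R →+* R) = eval₂Hom (RingHom.id R) g from rfl, this,
      hfun]
    rfl
  have hQc : ∀ e, Q.coeff e ∈ K := hg n Q hQhom (hQev ▸ hev)
  have hQ0 : map π Q = 0 := by
    ext e
    rw [coeff_map, coeff_zero]
    exact Ideal.Quotient.eq_zero_iff_mem.mpr (hQc e)
  have hP0 : map π P = 0 := by
    have h5 : bind₁ (lin (MD.map π)) (map π Q) = map π P := by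
      have h6 : map π Q = bind₁ (lin (MC.map π)) (map π P) := by
        show map π (bind₁ (lin MC) P) = _
        rw [map_bind₁]
        have hfun : (fun i => map π (lin MC i)) = lin (MC.map π) := funext (map_lin π MC)
        rw [hfun]
      rw [h6, bind₁_bind₁]
      have h7 : (fun i => bind₁ (lin (MD.map π)) (lin (MC.map π) i)) = X := by
        funext i
        rw [lin_comp, hCD, lin_one]
      rw [h7, bind₁_X_left]
      rfl
    rw [← h5, hQ0, map_zero]
  have h8 := congr_arg (coeff d) hP0
  rw [coeff_map, coeff_zero] at h8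
  exact Ideal.Quotient.eq_zero_iff_mem.mp h8

end indep

section cls
variable {R : Type u} [CommRing R]

lemma isQuasiRegular_cast {n m : ℕ} (h : n = m) (f : Fin n → R) (g : Fin m → R)
    (hfg : ∀ i, f i = g (Fin.cast h i)) : IsQuasiRegular f ↔ IsQuasiRegular g := by
  subst h
  have : f = g := funext hfg
  subst this
  rfl

/-- quasi-regularity of a list, in terms of any function enumerating it -/
lemma qr_list_iff (l : List R) {n : ℕ} (f : Fin n → R) (h : l = List.ofFn f) :
    IsQuasiRegular l.get ↔ IsQuasiRegular f := by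
  subst h
  exact isQuasiRegular_cast (List.length_ofFn) _ _ (fun i => by
    simp only [List.get_eq_getElem, List.getElem_ofFn]
    rfl)

lemma map_eq_ofFn {S : Type u} [CommRing S] (φ : R →+* S) (l : List R) :
    l.map φ = List.ofFn (fun i => φ (l.get i)) := by
  conv_lhs => rw [← List.ofFn_get l, List.map_ofFn]
  rfl

/-- the common computation for descent and the local-global principle -/
theorem coeff_mem_map {S : Type u} [CommRing S] (φ : R →+* S) {n : ℕ} (f : Fin n → R)
    (hφf : IsQuasiRegular (fun i => φ (f i))) (k : ℕ) (P : MvPolynomial (Fin n) R)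
    (hP : P.IsHomogeneous k) (hev : eval f P ∈ Ideal.span (Set.range f) ^ (k + 1))
    (d : Fin n →₀ ℕ) : φ (P.coeff d) ∈ (Ideal.span (Set.range f)).map φ := by
  have hspan : Ideal.span (Set.range fun i => φ (f i)) = (Ideal.span (Set.range f)).map φ := by
    rw [Ideal.map_span, ← Set.range_comp]
    rfl
  have h1 : eval (fun i => φ (f i)) (map φ P) = φ (eval f P) := by
    rw [eval_map]
    have := eval₂_comp_left φ (RingHom.id R) f P
    rw [RingHom.comp_id] at this
    exact this.symm
  have h2 := hφf k (map φ P) (hP.map φ) (by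
    rw [h1, hspan, ← Ideal.map_pow]
    exact Ideal.mem_map_of_mem _ hev) d
  rwa [coeff_map, hspan] at h2

theorem descent {S : Type u} [CommRing S] (φ : R →+* S) (hφ : φ.FaithfullyFlat) {n : ℕ}
    (f : Fin n → R) (hφf : IsQuasiRegular (fun i => φ (f i))) : IsQuasiRegular f := by
  intro k P hP hev d
  have h1 := coeff_mem_map φ f hφf k P hP hev d
  letI := φ.toAlgebra
  haveI : Module.FaithfullyFlat R S := hφ
  have h2 : P.coeff d ∈ ((Ideal.span (Set.range f)).map (algebraMap R S)).comap (algebraMap R S) :=
    h1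
  rwa [Ideal.comap_map_eq_self_of_faithfullyFlat] at h2

theorem locglob {n : ℕ} (f : Fin n → R)
    (h : ∀ (𝔭 : Ideal R) [𝔭.IsPrime],
      IsQuasiRegular (fun i => algebraMap R (Localization.AtPrime 𝔭) (f i))) :
    IsQuasiRegular f := by
  intro k P hP hev d
  apply Ideal.mem_of_localization_maximal
  intro 𝔪 h𝔪
  haveI := h𝔪.isPrime
  exact coeff_mem_map (algebraMap R (Localization.AtPrime 𝔪)) f (h 𝔪) k P hP hev d

theorem flat {S : Type u} [CommRing S] (φ : R →+* S) (hφ : φ.Flat) {n : ℕ}
    (f : Fin n → R) (hf : IsQuasiRegular f) : IsQuasiRegular (fun i => φ (f i)) := by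
  letI := φ.toAlgebra
  haveI : Module.Flat R S := hφ
  exact Groth.Agent.Lead.QRegFlat.isQuasiRegular_of_flat f hf

end cls

/-- the class of quasi-regular sequences -/
def qregClass : RegClass.{u} where
  P R _ l := IsQuasiRegular l.get
  indep l l' hlen hspan h := by
    rw [ofList_eq_span_get, ofList_eq_span_get] at hspan
    have h1 : IsQuasiRegular (fun i => l'.get (Fin.cast hlen i)) := by
      refine indep _ l.get ?_ h
      rw [hspan]
      congr 1
      ext x
      constructor
      · rintro ⟨i, rfl⟩
        exact ⟨_, rfl⟩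
      · rintro ⟨i, rfl⟩
        exact ⟨Fin.cast hlen.symm i, by simp⟩
    exact (isQuasiRegular_cast hlen _ l'.get (fun i => rfl)).mp h1
  flat φ hφ l h := by
    rw [qr_list_iff (l.map φ) (fun i => φ (l.get i)) (map_eq_ofFn φ l)]
    exact flat φ hφ l.get h
  descent φ hφ l h := by
    rw [qr_list_iff (l.map φ) (fun i => φ (l.get i)) (map_eq_ofFn φ l)] at h
    exact descent φ hφ l.get h
  locglob l h := by
    apply locglob
    intro 𝔭 _
    have := h 𝔭
    rwa [qr_list_iff (l.map _) (fun i => algebraMap _ (Localization.AtPrime 𝔭) (l.get i))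
      (map_eq_ofFn _ l)] at this
  rel f hf a ha i := by
    rw [qr_list_iff (List.ofFn f) f rfl] at hf
    exact mem_of_sum_eq_zero f hf a ha i
  unit l h := by
    intro k P hP hev d
    rw [← ofList_eq_span_get, h]
    exact Submodule.mem_top

/-- **faithfully flat descent of quasi-regular ideals** -/
theorem main (A B : Type u) [CommRing A] [CommRing B]
    [Algebra A B] [Module.FaithfullyFlat A B] (I : Ideal A)
    (h : PP16.IsLocallyQuasiRegular B (Ideal.map (algebraMap A B) I)) :
    PP16.IsLocallyQuasiRegular A I := by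
  have h1 : LocGen qregClass (I.map (algebraMap A B)) := by
    intro 𝔮 hJ
    obtain ⟨g, hg, r, f, hf, hspan⟩ := h 𝔮.asIdeal hJ
    refine ⟨g, hg, List.ofFn f, (qr_list_iff _ f rfl).mpr hf, ?_⟩
    rw [← hspan]
    exact (ofList_ofFn f).symm
  have h2 := FFDesc.main qregClass I h1
  intro P _ hI
  obtain ⟨g, hg, l, hl, hspan⟩ := h2 ⟨P, inferInstance⟩ hI
  refine ⟨g, hg, l.length, l.get, hl, ?_⟩
  rw [hspan]
  exact (ofList_eq_span_get l).symm

end Groth.Agent.Helper3.FFDescQ
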