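import Mathlib
import Groth.Prelude.Def_CAlgX
import Groth.Agent.Helper3.FFDesc3
import Groth.Agent.Helper3.FFDescQ
import Groth.Agent.Lead.H1RegA

set_option autoImplicit false
set_option linter.style.haveILetI false
set_option linter.unusedSectionVars false
set_option linter.unusedVariables false
set_option linter.style.haveILetI false
set_option linter.unusedSectionVars false
set_option linter.unusedVariables false

/-!
# The class of `H_1`-regular sequences
-/

namespace Groth.Agent.Helper3.FFDescH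
open CAlgX Matrix Groth.Agent.Helper3.FFDesc

universe u

section basic
variable {R : Type u} [CommRing R] {c : ℕ}

/-- the generating family of trivial relations -/
def gen (f : Fin c → R) (p : Fin c × Fin c) : Fin c → R :=
  Pi.single p.1 (f p.2) - Pi.single p.2 (f p.1)

/-- the submodule of trivial relations -/
def T (f : Fin c → R) : Submodule R (Fin c → R) :=
  Submodule.span R {v | ∃ i j : Fin c, v = Pi.single i (f j) - Pi.single j (f i)}

lemma T_eq (f : Fin c → R) : T f = Submodule.span R (Set.range (gen f)) := by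
  unfold T
  congr 1
  ext v
  constructor
  · rintro ⟨i, j, rfl⟩
    exact ⟨(i, j), rfl⟩
  · rintro ⟨p, rfl⟩
    exact ⟨p.1, p.2, rfl⟩

lemma sum_gen (f : Fin c → R) (C : Matrix (Fin c) (Fin c) R) :
    ∑ p : Fin c × Fin c, C p.1 p.2 • gen f p = (C - Cᵀ) *ᵥ f := by
  funext k
  simp only [Finset.sum_apply, Pi.smul_apply, gen, Pi.sub_apply, smul_eq_mul, Matrix.mulVec,
    dotProduct, Matrix.sub_apply, Matrix.transpose_apply, Fintype.sum_prod_type, mul_sub,
    Finset.sum_sub_distrib, sub_mul]
  congr 1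
  · rw [Finset.sum_eq_single k]
    · simp
    · intro i _ hik
      simp [Pi.single_eq_of_ne (Ne.symm hik)]
    · simp
  · rw [Finset.sum_comm]
    rw [Finset.sum_eq_single k]
    · simp
    · intro i _ hik
      simp [Pi.single_eq_of_ne (Ne.symm hik)]
    · simp

lemma mem_T_iff (f : Fin c → R) (a : Fin c → R) :
    a ∈ T f ↔ ∃ C : Matrix (Fin c) (Fin c) R, a = (C - Cᵀ) *ᵥ f := by
  rw [T_eq, Submodule.mem_span_range_iff_exists_fun]
  constructor
  · rintro ⟨d, rfl⟩
    exact ⟨Matrix.of fun i j => d (i, j), sum_gen f (Matrix.of fun i j => d (i, j))⟩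
  · rintro ⟨C, rfl⟩
    exact ⟨fun p => C p.1 p.2, sum_gen f C⟩

lemma h1_iff (f : Fin c → R) :
    IsH1Regular f ↔ ∀ a : Fin c → R, ∑ i, a i * f i = 0 → a ∈ T f := Iff.rfl

theorem rel (f : Fin c → R) (hf : IsH1Regular f) : Rel f (Ideal.span (Set.range f)) := by
  intro a ha k
  obtain ⟨C, rfl⟩ := (mem_T_iff f a).mp (hf a ha)
  simp only [Matrix.mulVec, dotProduct]
  exact Ideal.sum_mem _ fun j _ => Ideal.mul_mem_left _ _ (Ideal.subset_span ⟨j, rfl⟩)

theorem unit (f : Fin c → R) (h : Ideal.span (Set.range f) = ⊤) : IsH1Regular f := by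
  intro a ha
  have h1 : (1 : R) ∈ Ideal.span (Set.range f) := by
    rw [h]
    trivial
  obtain ⟨d, hd⟩ := (Ideal.mem_span_range_iff_exists_fun).mp h1
  show a ∈ T f
  rw [mem_T_iff]
  refine ⟨Matrix.of fun k l => a k * d l, ?_⟩
  funext k
  simp only [Matrix.mulVec, dotProduct, Matrix.sub_apply, Matrix.transpose_apply, Matrix.of_apply,
    sub_mul, Finset.sum_sub_distrib]
  have e1 : ∑ l, a k * d l * f l = a k := by
    have : ∑ l, a k * d l * f l = a k * ∑ l, d l * f l := by
      rw [Finset.mul_sum]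
      refine Finset.sum_congr rfl fun l _ => ?_
      ring
    rw [this, hd, mul_one]
  have e2 : ∑ l, a l * d k * f l = 0 := by
    have : ∑ l, a l * d k * f l = d k * ∑ l, a l * f l := by
      rw [Finset.mul_sum]
      refine Finset.sum_congr rfl fun l _ => ?_
      ring
    rw [this, ha, mul_zero]
  rw [e1, e2, sub_zero]

/-- change of generators by an invertible matrix -/
theorem indep_of_inv (f g : Fin c → R) (M P : Matrix (Fin c) (Fin c) R)
    (hg : g = M *ᵥ f) (hf' : f = P *ᵥ g) (hMP : M * P = 1) (hf : IsH1Regular f) :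
    IsH1Regular g := by
  intro b hb
  have hb' : b ⬝ᵥ g = 0 := hb
  have h1 : (b ᵥ* M) ⬝ᵥ f = 0 := by
    rw [← Matrix.dotProduct_mulVec, ← hg]
    exact hb'
  obtain ⟨C, hC⟩ := (mem_T_iff f _).mp (hf (b ᵥ* M) h1)
  show b ∈ T g
  rw [mem_T_iff]
  refine ⟨Pᵀ * C * P, ?_⟩
  have h2 : b = (b ᵥ* M) ᵥ* P := by
    rw [Matrix.vecMul_vecMul, hMP, Matrix.vecMul_one]
  rw [h2, hC]
  conv_lhs => rw [hf']
  rw [← Matrix.mulVec_transpose, Matrix.mulVec_mulVec, Matrix.mulVec_mulVec]
  congr 1
  rw [Matrix.transpose_mul, Matrix.transpose_mul, Matrix.transpose_transpose]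
  simp only [Matrix.mul_sub, Matrix.sub_mul, Matrix.mul_assoc]

lemma isH1Regular_cast {n m : ℕ} (h : n = m) (f : Fin n → R) (g : Fin m → R)
    (hfg : ∀ i, f i = g (Fin.cast h i)) : IsH1Regular f ↔ IsH1Regular g := by
  subst h
  have : f = g := funext hfg
  subst this
  rfl

lemma h1_list_iff (l : List R) {n : ℕ} (f : Fin n → R) (h : l = List.ofFn f) :
    IsH1Regular l.get ↔ IsH1Regular f := by
  subst h
  exact isH1Regular_cast (List.length_ofFn) _ _ (fun i => by
    simp only [List.get_eq_getElem, List.getElem_ofFn]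
    rfl)

end basic

section bc
variable {R S : Type u} [CommRing R] [CommRing S] {c : ℕ}

theorem flat (φ : R →+* S) (hφ : φ.Flat) (f : Fin c → R) (hf : IsH1Regular f) :
    IsH1Regular (fun i => φ (f i)) := by
  letI := φ.toAlgebra
  haveI : Module.Flat R S := hφ
  exact Groth.Agent.Lead.H1RegA.isH1Regular_of_flat f hf

lemma gen_map (φ : R →+* S) (f : Fin c → R) (p : Fin c × Fin c) :
    gen (fun i => φ (f i)) p = fun k => φ (gen f p k) := by
  funext k
  simp only [gen, Pi.sub_apply, map_sub, Pi.single_apply]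
  congr 1 <;> split_ifs <;> simp

open TensorProduct in
theorem descent (φ : R →+* S) (hφ : φ.FaithfullyFlat) (f : Fin c → R)
    (hφf : IsH1Regular (fun i => φ (f i))) : IsH1Regular f := by
  letI := φ.toAlgebra
  haveI : Module.FaithfullyFlat R S := hφ
  intro a ha
  have h1 : ∑ i, φ (a i) * φ (f i) = 0 := by
    rw [← map_zero φ, ← ha, map_sum]
    simp only [map_mul]
  obtain ⟨C, hC⟩ := (mem_T_iff _ _).mp (hφf (fun i => φ (a i)) h1)
  rw [← sum_gen] at hC
  let e := Algebra.TensorProduct.piScalarRight R S S (Fin c)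
  have he : ∀ v : Fin c → R, e ((1 : S) ⊗ₜ[R] v) = fun i => φ (v i) := by
    intro v
    funext i
    show v i • (1 : S) = φ (v i)
    rw [Algebra.smul_def, mul_one]
    rfl
  have h2 : (1 : S) ⊗ₜ[R] a = ∑ p : Fin c × Fin c, (C p.1 p.2) ⊗ₜ[R] gen f p := by
    apply e.injective
    rw [he, map_sum, hC]
    refine Finset.sum_congr rfl fun p _ => ?_
    have h3 : (C p.1 p.2) ⊗ₜ[R] gen f p = (C p.1 p.2) • ((1 : S) ⊗ₜ[R] gen f p) := by
      rw [TensorProduct.smul_tmul', smul_eq_mul, mul_one]
    rw [h3, map_smul, he, gen_map]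
  have h3 : (1 : S) ⊗ₜ[R] ((T f).mkQ a) = 0 := by
    have h4 := congrArg (LinearMap.lTensor S (T f).mkQ) h2
    rw [LinearMap.lTensor_tmul, map_sum] at h4
    rw [h4]
    refine Finset.sum_eq_zero fun p _ => ?_
    rw [LinearMap.lTensor_tmul]
    have h5 : (T f).mkQ (gen f p) = 0 := by
      rw [Submodule.mkQ_apply, Submodule.Quotient.mk_eq_zero, T_eq]
      exact Submodule.subset_span ⟨p, rfl⟩
    rw [h5, TensorProduct.tmul_zero]
  have h4 := (Module.FaithfullyFlat.one_tmul_eq_zero_iff R _ (A := S) ((T f).mkQ a)).mp h3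
  rw [Submodule.mkQ_apply, Submodule.Quotient.mk_eq_zero] at h4
  exact h4

end bc

section loc
variable {R : Type u} [CommRing R] {c : ℕ}

theorem locglob (f : Fin c → R)
    (h : ∀ (𝔭 : Ideal R) [𝔭.IsPrime],
      IsH1Regular (fun i => algebraMap R (Localization.AtPrime 𝔭) (f i))) :
    IsH1Regular f := by
  classical
  intro a ha
  show a ∈ T f
  let J : Ideal R := (T f).comap (LinearMap.toSpanSingleton R (Fin c → R) a)
  have hJ : ∀ s, s ∈ J ↔ s • a ∈ T f := fun s => by
    simp only [J, Submodule.mem_comap, LinearMap.toSpanSingleton_apply]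
  suffices J = ⊤ by
    have h1 : (1 : R) ∈ J := by
      rw [this]
      trivial
    rw [hJ, one_smul] at h1
    exact h1
  by_contra hne
  obtain ⟨𝔪, h𝔪, hle⟩ := Ideal.exists_le_maximal J hne
  haveI := h𝔪.isPrime
  set φ := algebraMap R (Localization.AtPrime 𝔪) with hφ
  have h1 : ∑ i, φ (a i) * φ (f i) = 0 := by
    rw [← map_zero φ, ← ha, map_sum]
    simp only [map_mul]
  obtain ⟨C, hC⟩ := (mem_T_iff _ _).mp (h 𝔪 (fun i => φ (a i)) h1)
  obtain ⟨b, hb⟩ := IsLocalization.exist_integer_multiples_of_finite 𝔪.primeCompl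
    (fun p : Fin c × Fin c => C p.1 p.2)
  choose C₀ hC₀ using hb
  let D : Matrix (Fin c) (Fin c) R := Matrix.of fun i j => C₀ (i, j)
  have key : ∀ k, φ ((b : R) * a k - ((D - Dᵀ) *ᵥ f) k) = 0 := by
    intro k
    have h2 := congrFun hC k
    simp only [Matrix.mulVec, dotProduct, Matrix.sub_apply, Matrix.transpose_apply] at h2 ⊢
    rw [map_sub, map_mul, h2, map_sum, Finset.mul_sum, sub_eq_zero]
    refine Finset.sum_congr rfl fun l _ => ?_
    rw [map_mul, map_sub]
    have e1 : φ (D k l) = φ (b : R) * C k l := by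
      have := hC₀ (k, l)
      rw [Algebra.smul_def] at this
      exact this
    have e2 : φ (D l k) = φ (b : R) * C l k := by
      have := hC₀ (l, k)
      rw [Algebra.smul_def] at this
      exact this
    rw [e1, e2]
    ring
  have key2 : ∀ k, ∃ u : 𝔪.primeCompl, (u : R) * ((b : R) * a k - ((D - Dᵀ) *ᵥ f) k) = 0 :=
    fun k => (IsLocalization.map_eq_zero_iff 𝔪.primeCompl _ _).mp (key k)
  choose u hu using key2
  let U : 𝔪.primeCompl := ∏ k, u k
  have hU : ∀ k, (U : R) * ((b : R) * a k - ((D - Dᵀ) *ᵥ f) k) = 0 := by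
    intro k
    have h3 : (U : R) = (∏ k' ∈ Finset.univ.erase k, (u k' : R)) * u k := by
      rw [Finset.prod_erase_mul _ _ (Finset.mem_univ k)]
      simp only [U, Submonoid.coe_finset_prod]
    rw [h3, mul_assoc, hu k, mul_zero]
  have hmem : ((U : R) * (b : R)) ∈ J := by
    rw [hJ, mem_T_iff]
    refine ⟨(U : R) • D, ?_⟩
    funext k
    have h4 := hU k
    rw [mul_sub, sub_eq_zero] at h4
    simp only [Pi.smul_apply, smul_eq_mul]
    rw [mul_assoc, h4, Matrix.transpose_smul, ← smul_sub, Matrix.smul_mulVec]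
    rfl
  exact (U * b).2 (hle hmem)

/-- `H_1`-regularity only depends on the ideal and the number of generators -/
theorem indep (f g : Fin c → R) (hfg : Ideal.span (Set.range f) = Ideal.span (Set.range g))
    (hf : IsH1Regular f) : IsH1Regular g := by
  classical
  have h2 : ∀ j, ∃ d : Fin c → R, ∑ k, d k * f k = g j := fun j => by
    have : g j ∈ Ideal.span (Set.range f) := hfg ▸ Ideal.subset_span ⟨j, rfl⟩
    exact (Ideal.mem_span_range_iff_exists_fun).mp this
  have h1 : ∀ i, ∃ d : Fin c → R, ∑ j, d j * g j = f i := fun i => by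
    have : f i ∈ Ideal.span (Set.range g) := hfg ▸ Ideal.subset_span ⟨i, rfl⟩
    exact (Ideal.mem_span_range_iff_exists_fun).mp this
  choose Mm hM using h2
  choose Nn hN using h1
  let M : Matrix (Fin c) (Fin c) R := Matrix.of Mm
  let N : Matrix (Fin c) (Fin c) R := Matrix.of Nn
  have hg : g = M *ᵥ f := funext fun j => (hM j).symm
  have hf' : f = N *ᵥ g := funext fun i => (hN i).symm
  set I := Ideal.span (Set.range f) with hI
  have key : ∀ i k, (N * M - 1) i k ∈ I := by
    intro i
    apply rel f hf (fun k => (N * M - 1) i k)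
    have h3 : ∑ k, (N * M - 1) i k * f k = ((N * M - 1) *ᵥ f) i := rfl
    rw [h3, Matrix.sub_mulVec, Matrix.one_mulVec, ← Matrix.mulVec_mulVec, ← hg, ← hf']
    simp
  apply locglob
  intro 𝔭 _
  set φ := algebraMap R (Localization.AtPrime 𝔭) with hφ
  have hφf := flat φ (RingHom.flat_algebraMap_iff.mpr (IsLocalization.flat _ 𝔭.primeCompl)) f hf
  have hgφ : (fun i => φ (g i)) = (M.map φ) *ᵥ (fun i => φ (f i)) := by
    funext j
    rw [hg]
    simp only [Matrix.mulVec, dotProduct, map_sum, map_mul, Matrix.map_apply]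
  by_cases hle : I ≤ 𝔭
  · have hdet : (N * M).det - 1 ∈ I := by
      have h3 : (N * M).map (Ideal.Quotient.mk I) = 1 := by
        ext i k
        have h4 := key i k
        rw [Matrix.sub_apply, ← Ideal.Quotient.eq] at h4
        rw [Matrix.map_apply, h4]
        simp only [Matrix.one_apply]
        split_ifs <;> simp
      rw [← Ideal.Quotient.eq, RingHom.map_det, map_one]
      show ((N * M).map (Ideal.Quotient.mk I)).det = 1
      rw [h3, Matrix.det_one]
    have hMdet : M.det ∉ 𝔭 := by
      intro hc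
      have h4 : (N * M).det ∈ 𝔭 := by
        rw [Matrix.det_mul]
        exact Ideal.mul_mem_left _ _ hc
      have h5 : (1 : R) ∈ 𝔭 := by
        have := Ideal.sub_mem _ h4 (hle hdet)
        simpa using this
      exact (Ideal.IsPrime.ne_top inferInstance) ((Ideal.eq_top_iff_one _).mpr h5)
    have hunit : IsUnit (M.map φ).det := by
      have h6 : (M.map φ).det = φ M.det := (RingHom.map_det φ M).symm
      rw [h6]
      exact IsLocalization.map_units _ (⟨M.det, hMdet⟩ : 𝔭.primeCompl)
    refine indep_of_inv (fun i => φ (f i)) (fun i => φ (g i)) (M.map φ) (M.map φ)⁻¹ hgφ ?_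
      (Matrix.mul_nonsing_inv _ hunit) hφf
    rw [hgφ, Matrix.mulVec_mulVec, Matrix.nonsing_inv_mul _ hunit, Matrix.one_mulVec]
  · apply unit
    obtain ⟨x, hxI, hx⟩ := Set.not_subset.mp hle
    have h7 : Ideal.span (Set.range fun i => φ (g i)) = I.map φ := by
      rw [hfg, Ideal.map_span, ← Set.range_comp]
      rfl
    rw [h7]
    exact Ideal.eq_top_of_isUnit_mem _ (Ideal.mem_map_of_mem _ hxI)
      (IsLocalization.map_units _ (⟨x, hx⟩ : 𝔭.primeCompl))

end loc

/-- the class of `H_1`-regular sequences -/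
def h1Class : RegClass.{u} where
  P R _ l := IsH1Regular l.get
  indep l l' hlen hspan h := by
    rw [ofList_eq_span_get, ofList_eq_span_get] at hspan
    have h1 : IsH1Regular (fun i => l'.get (Fin.cast hlen i)) := by
      refine indep l.get _ ?_ h
      rw [hspan]
      congr 1
      ext x
      constructor
      · rintro ⟨i, rfl⟩
        exact ⟨Fin.cast hlen.symm i, by simp⟩
      · rintro ⟨i, rfl⟩
        exact ⟨_, rfl⟩
    exact (isH1Regular_cast hlen _ l'.get (fun i => rfl)).mp h1
  flat φ hφ l h := by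
    rw [h1_list_iff (l.map φ) (fun i => φ (l.get i)) (FFDescQ.map_eq_ofFn φ l)]
    exact flat φ hφ l.get h
  descent φ hφ l h := by
    rw [h1_list_iff (l.map φ) (fun i => φ (l.get i)) (FFDescQ.map_eq_ofFn φ l)] at h
    exact descent φ hφ l.get h
  locglob l h := by
    apply locglob
    intro 𝔭 _
    have := h 𝔭
    rwa [h1_list_iff (l.map _) (fun i => algebraMap _ (Localization.AtPrime 𝔭) (l.get i))
      (FFDescQ.map_eq_ofFn _ l)] at this
  rel f hf a ha i := by
    rw [h1_list_iff (List.ofFn f) f rfl] at hf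
    exact rel f hf a ha i
  unit l h := by
    apply unit
    rw [← ofList_eq_span_get, h]

end Groth.Agent.Helper3.FFDescH
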