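import Mathlib
import Groth.Agent.Helper3.FFDesc3

set_option autoImplicit false
set_option linter.style.haveILetI false
set_option linter.unusedSectionVars false
set_option linter.unusedVariables false
set_option linter.style.haveILetI false
set_option linter.unusedSectionVars false
set_option linter.unusedVariables false

/-!
# Descent of ideals locally generated by regular sequences along a finite jointly surjective
family of flat ring maps
-/

namespace Groth.Agent.Helper3.FFDescS
open Groth.Agent.Helper3.FFDesc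

universe u

variable (C : RegClass.{u})

section transport
variable {R : Type u} [CommRing R]

/-- transport of a `C`-regular generating sequence along a ring isomorphism -/
lemma transport {S S' : Type u} [CommRing S] [CommRing S'] (e : S ≃+* S') (K : Ideal S)
    (l : List S) (hl : C.P S l) (hK : K = Ideal.ofList l) :
    C.P S' (l.map e) ∧ K.map (e : S →+* S') = Ideal.ofList (l.map e) := by
  refine ⟨C.flat (e : S →+* S') (RingHom.Flat.of_bijective e.bijective) l hl, ?_⟩
  rw [hK, Ideal.map_ofList]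
  rfl

/-- `LocGen` can be checked with any localization away from an element -/
theorem locGen_of_away (K : Ideal R)
    (h : ∀ 𝔮 : PrimeSpectrum R, K ≤ 𝔮.asIdeal → ∃ g : R, g ∉ 𝔮.asIdeal ∧
      ∃ (S : Type u) (_ : CommRing S) (_ : Algebra R S) (_ : IsLocalization.Away g S)
        (l : List S), C.P S l ∧ K.map (algebraMap R S) = Ideal.ofList l) : LocGen C K := by
  intro 𝔮 h𝔮
  obtain ⟨g, hg, S, _, _, _, l, hl, hK⟩ := h 𝔮 h𝔮
  refine ⟨g, hg, ?_⟩
  let e : S ≃ₐ[R] Localization.Away g :=
    IsLocalization.algEquiv (Submonoid.powers g) S (Localization.Away g)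
  obtain ⟨h1, h2⟩ := transport C e.toRingEquiv _ l hl hK
  refine ⟨l.map e, h1, ?_⟩
  show _ = Ideal.ofList (l.map e)
  have h3 : Ideal.ofList (l.map e) = Ideal.ofList (l.map e.toRingEquiv) := rfl
  rw [h3, ← h2, Ideal.map_map]
  congr 1
  ext x
  exact (e.commutes x).symm

/-- `LocGen` gives generators in any localization away from a suitable element -/
theorem away_of_locGen (K : Ideal R) (h : LocGen C K) (𝔮 : PrimeSpectrum R)
    (h𝔮 : K ≤ 𝔮.asIdeal) :
    ∃ g : R, g ∉ 𝔮.asIdeal ∧ ∀ (S : Type u) [CommRing S] [Algebra R S]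
      [IsLocalization.Away g S], ∃ l : List S, C.P S l ∧
        K.map (algebraMap R S) = Ideal.ofList l := by
  obtain ⟨g, hg, l, hl, hK⟩ := h 𝔮 h𝔮
  refine ⟨g, hg, fun S _ _ _ => ?_⟩
  let e : Localization.Away g ≃ₐ[R] S :=
    IsLocalization.algEquiv (Submonoid.powers g) (Localization.Away g) S
  obtain ⟨h1, h2⟩ := transport C e.toRingEquiv _ l hl hK
  refine ⟨l.map e, h1, ?_⟩
  have h3 : Ideal.ofList (l.map e) = Ideal.ofList (l.map e.toRingEquiv) := rfl
  rw [h3, ← h2, Ideal.map_map]
  congr 1
  ext x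
  exact (e.commutes x).symm

end transport

section pi
variable {ι : Type} [Fintype ι] [DecidableEq ι] (B : ι → Type u) [∀ i, CommRing (B i)]

/-- a localization of a factor away from `f` is a localization of the product away from
`Pi.single j f` -/
lemma isLocalization_away_pi (j : ι) (f : B j) (S : Type u) [CommRing S] [Algebra (B j) S]
    [IsLocalization.Away f S] :
    letI : Algebra (Π i, B i) S := ((algebraMap (B j) S).comp (Pi.evalRingHom B j)).toAlgebra
    IsLocalization.Away (Pi.single j f : Π i, B i) S := by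
  letI : Algebra (Π i, B i) S := ((algebraMap (B j) S).comp (Pi.evalRingHom B j)).toAlgebra
  have halg : ∀ x : Π i, B i, algebraMap (Π i, B i) S x = algebraMap (B j) S (x j) := fun x => rfl
  refine (isLocalization_iff _ _).mpr ⟨?_, ?_, ?_⟩
  · rintro ⟨_, n, rfl⟩
    rw [halg]
    show IsUnit ((algebraMap (B j) S) ((Pi.single j f ^ n : Π i, B i) j))
    rw [Pi.pow_apply, Pi.single_eq_same, map_pow]
    exact (IsLocalization.Away.algebraMap_isUnit f).pow n
  · intro z
    obtain ⟨⟨b, ⟨_, n, rfl⟩⟩, hb⟩ := IsLocalization.surj (Submonoid.powers f) z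
    refine ⟨⟨Pi.single j b, ⟨Pi.single j f ^ n, n, rfl⟩⟩, ?_⟩
    show z * algebraMap (Π i, B i) S (Pi.single j f ^ n) = algebraMap (Π i, B i) S (Pi.single j b)
    rw [halg, halg, Pi.pow_apply, Pi.single_eq_same, Pi.single_eq_same]
    exact hb
  · intro x y hxy
    rw [halg, halg] at hxy
    obtain ⟨⟨_, n, rfl⟩, hc⟩ := IsLocalization.exists_of_eq (M := Submonoid.powers f) hxy
    refine ⟨⟨Pi.single j f ^ (n + 1), n + 1, rfl⟩, ?_⟩
    funext i
    by_cases hij : i = j
    · subst hij
      simp only [Pi.mul_apply, Pi.pow_apply, Pi.single_eq_same]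
      rw [pow_succ', mul_assoc, mul_assoc]
      congr 1
    · simp only [Pi.mul_apply, Pi.pow_apply, Pi.single_eq_of_ne hij]
      rw [zero_pow (Nat.succ_ne_zero n), zero_mul, zero_mul]

variable {A : Type u} [CommRing A] (φ : ∀ i, A →+* B i) (I : Ideal A)

/-- `LocGen` for a finite product -/
theorem locGen_pi (h : ∀ j, LocGen C (I.map (φ j))) : LocGen C (I.map (Pi.ringHom φ)) := by
  apply locGen_of_away
  intro 𝔮 h𝔮
  obtain ⟨⟨j, 𝔮j⟩, rfl⟩ := (PrimeSpectrum.sigmaToPi_bijective B).2 𝔮
  have hle : I.map (φ j) ≤ 𝔮j.asIdeal := by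
    rw [Ideal.map_le_iff_le_comap]
    intro a ha
    have h1 : Pi.ringHom φ a ∈ (PrimeSpectrum.sigmaToPi B ⟨j, 𝔮j⟩).asIdeal :=
      h𝔮 (Ideal.mem_map_of_mem _ ha)
    exact h1
  obtain ⟨g, hg, hS⟩ := away_of_locGen C _ (h j) 𝔮j hle
  refine ⟨Pi.single j g, ?_, ?_⟩
  · intro hc
    apply hg
    have h1 : (Pi.single j g : Π i, B i) j ∈ 𝔮j.asIdeal := hc
    rwa [Pi.single_eq_same] at h1
  · obtain ⟨l, hl, hK⟩ := hS (Localization.Away g)
    letI : Algebra (Π i, B i) (Localization.Away g) :=
      ((algebraMap (B j) (Localization.Away g)).comp (Pi.evalRingHom B j)).toAlgebra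
    refine ⟨Localization.Away g, inferInstance, inferInstance,
      isLocalization_away_pi B j g (Localization.Away g), l, hl, ?_⟩
    rw [← hK, Ideal.map_map, Ideal.map_map]
    rfl

/-- a finite jointly surjective family of flat maps gives a faithfully flat map to the product -/
theorem faithfullyFlat_pi (hflat : ∀ j, (φ j).Flat)
    (hsurj : ∀ 𝔭 : PrimeSpectrum A, ∃ (j : ι) (𝔮 : PrimeSpectrum (B j)),
      PrimeSpectrum.comap (φ j) 𝔮 = 𝔭) : (Pi.ringHom φ).FaithfullyFlat := by
  rw [RingHom.FaithfullyFlat.iff_flat_and_comap_surjective]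
  constructor
  · letI := (Pi.ringHom φ).toAlgebra
    show Module.Flat A (Π i, B i)
    letI : ∀ i, Algebra A (B i) := fun i => (φ i).toAlgebra
    haveI : ∀ i, Module.Flat A (B i) := fun i => hflat i
    have e : (Π₀ i, B i) ≃ₗ[A] (Π i, B i) := DFinsupp.linearEquivFunOnFintype
    have hmod : (Pi.module ι B A : Module A (Π i, B i)) = Algebra.toModule := by
      ext a x
      rfl
    have h1 : @Module.Flat A (Π i, B i) _ _ (Pi.module ι B A) := Module.Flat.of_linearEquiv e.symm
    rw [hmod] at h1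
    exact h1
  · intro 𝔭
    obtain ⟨j, 𝔮, rfl⟩ := hsurj 𝔭
    refine ⟨PrimeSpectrum.comap (Pi.evalRingHom B j) 𝔮, ?_⟩
    rw [← PrimeSpectrum.comap_comp_apply]
    rfl

/-- **descent along a finite jointly surjective family of flat ring maps** -/
theorem main_family (hflat : ∀ j, (φ j).Flat)
    (hsurj : ∀ 𝔭 : PrimeSpectrum A, ∃ (j : ι) (𝔮 : PrimeSpectrum (B j)),
      PrimeSpectrum.comap (φ j) 𝔮 = 𝔭)
    (h : ∀ j, LocGen C (I.map (φ j))) : LocGen C I := by
  letI := (Pi.ringHom φ).toAlgebra
  haveI : Module.FaithfullyFlat A (Π i, B i) := faithfullyFlat_pi B φ hflat hsurj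
  exact FFDesc.main C I (locGen_pi C B φ I h)

end pi

end Groth.Agent.Helper3.FFDescS
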