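import Mathlib
import Groth.Prelude.Def_RegImm
import Groth.Agent.Helper3.FFDescS1
import Groth.Agent.Lead.RelBCb
import Groth.Agent.Lead.OmegaCnD
import Groth.Agent.Helper8.RegSeqE

set_option autoImplicit false
set_option linter.style.haveILetI false
set_option linter.unusedSectionVars false
set_option linter.unusedVariables false
set_option linter.style.haveILetI false
set_option linter.unusedSectionVars false
set_option linter.unusedVariables false

/-!
# fpqc descent of regular immersions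
-/

namespace Groth.Agent.Helper3.FFDescS
open CategoryTheory Limits AlgebraicGeometry TopologicalSpace
open Groth.Agent.Helper3.FFDesc Groth.Agent.Lead

universe u

variable (C : RegClass.{u}) (k : RegImm.Kind)
  (hk : ∀ (R : Type u) [CommRing R] (l : List R), k.Seq R l ↔ C.P R l)

section charts
variable {X Y : Scheme.{u}}

lemma primeIdealOf_fromSpec {U : X.Opens} (hU : IsAffineOpen U) (𝔭 : PrimeSpectrum Γ(X, U))
    (h : hU.fromSpec 𝔭 ∈ U) : hU.primeIdealOf ⟨hU.fromSpec 𝔭, h⟩ = 𝔭 := by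
  apply hU.fromSpec.isOpenEmbedding.injective
  rw [hU.fromSpec_primeIdealOf]

lemma fromSpec_mem {U : X.Opens} (hU : IsAffineOpen U) (𝔭 : PrimeSpectrum Γ(X, U)) :
    hU.fromSpec 𝔭 ∈ U := by
  have : hU.fromSpec 𝔭 ∈ Set.range hU.fromSpec := ⟨𝔭, rfl⟩
  rw [hU.range_fromSpec] at this
  exact this

lemma mem_basicOpen_iff {U : X.Opens} (hU : IsAffineOpen U) (𝔭 : PrimeSpectrum Γ(X, U))
    (f : Γ(X, U)) : hU.fromSpec 𝔭 ∈ X.basicOpen f ↔ f ∉ 𝔭.asIdeal := by
  have h1 : hU.fromSpec 𝔭 ∈ X.basicOpen f ↔ 𝔭 ∈ hU.fromSpec ⁻¹ᵁ X.basicOpen f := Iff.rfl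
  rw [h1, hU.fromSpec_preimage_basicOpen]
  rfl

include hk in
/-- the kernel of a closed-immersion chart of a regular immersion is locally generated by
regular sequences -/
theorem locGen_of_regImm (i : Y ⟶ X) (hi : RegImm.IsRegularImmersion k i) (U : X.Opens)
    (hU : IsAffineOpen U) [IsClosedImmersion (i ∣_ U)] :
    LocGen C (RingHom.ker (i.app U).hom) := by
  apply locGen_of_away
  intro 𝔮 h𝔮
  obtain ⟨hV, hsurj⟩ := H1RegB.affine_of_restrict_closed i hU
  have hsurj' : Function.Surjective (i.app U).hom := hsurj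
  have h1 : 𝔮 ∈ Set.range (PrimeSpectrum.comap (i.app U).hom) := by
    rw [range_comap_of_surjective _ _ hsurj']
    exact h𝔮
  obtain ⟨𝔯, rfl⟩ := h1
  set y : Y := hV.fromSpec 𝔯 with hy
  have hpt : i y = hU.fromSpec (PrimeSpectrum.comap (i.app U).hom 𝔯) := by
    have h2 := IsAffineOpen.SpecMap_appLE_fromSpec i hU hV (le_refl _)
    have h3 := congrArg (fun φ => φ 𝔯) h2
    simp only [Scheme.Hom.comp_apply] at h3
    rw [Scheme.Hom.appLE_eq_app] at h3
    exact h3.symm
  obtain ⟨V', hyV', hcV', rs, hrs, hker⟩ := hi.2 y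
  haveI := hcV'
  have hxU : i y ∈ U := by
    rw [hpt]
    exact fromSpec_mem hU _
  obtain ⟨f, g, hfg, hxf⟩ := exists_basicOpen_le_affine_inter hU V'.2 (i y) ⟨hxU, hyV'⟩
  have hW : IsAffineOpen (X.basicOpen f) := hU.basicOpen f
  have hWV' : X.basicOpen f ≤ V'.1 := by
    rw [hfg]
    exact X.basicOpen_le g
  obtain ⟨hcW, hseq, hkerW⟩ := RelBCb.kind_restrict k i V'.2 hW hWV' rs hrs hker y hxf
  refine ⟨f, ?_, Γ(X, X.basicOpen f), inferInstance, inferInstance,
    hU.isLocalization_basicOpen f, _, (hk _ _).mp hseq, ?_⟩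
  · rw [← mem_basicOpen_iff hU]
    rw [← hpt]
    exact hxf
  · rw [← hkerW]
    exact KoszulGeoA.ker_restrict i hU hW (X.basicOpen_le f)

include hk in
/-- from local generation of the kernel of a chart to regularity of the immersion at a point -/
theorem regImmAt_of_locGen (i : Y ⟶ X) (U : X.Opens) (hU : IsAffineOpen U)
    [IsClosedImmersion (i ∣_ U)] (h : LocGen C (RingHom.ker (i.app U).hom)) (y : Y)
    (hy : i y ∈ U) : RegImm.IsRegularImmersionAt k i y := by
  set 𝔭 := hU.primeIdealOf ⟨i y, hy⟩ with h𝔭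
  have hfs : hU.fromSpec 𝔭 = i y := hU.fromSpec_primeIdealOf ⟨i y, hy⟩
  have hle : RingHom.ker (i.app U).hom ≤ 𝔭.asIdeal := by
    intro a ha
    by_contra hc
    have h1 : i y ∈ X.basicOpen a := by
      rw [← hfs, mem_basicOpen_iff hU]
      exact hc
    have h2 : y ∈ i ⁻¹ᵁ X.basicOpen a := h1
    rw [Scheme.preimage_basicOpen] at h2
    have h3 : (i.app U).hom a = 0 := ha
    have h4 : Y.basicOpen ((i.app U).hom a) = ⊥ := by
      rw [h3]
      exact Scheme.basicOpen_zero _ _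
    rw [h4] at h2
    exact h2
  obtain ⟨g, hg, hS⟩ := away_of_locGen C _ h 𝔭 hle
  haveI := hU.isLocalization_basicOpen g
  obtain ⟨l, hl, hK⟩ := hS Γ(X, X.basicOpen g)
  have hW : IsAffineOpen (X.basicOpen g) := hU.basicOpen g
  refine ⟨⟨X.basicOpen g, hW⟩, ?_, KoszulGeoA.isClosedImmersion_restrict_of_le i
    (X.basicOpen_le g), l, (hk _ _).mpr hl, ?_⟩
  · show i y ∈ X.basicOpen g
    rw [← hfs, mem_basicOpen_iff hU]
    exact hg
  · rw [← hK]
    exact (KoszulGeoA.ker_restrict i hU hW (X.basicOpen_le g)).symm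

end charts

section cover
variable {X X' : Scheme.{u}}

/-- a finite affine cover of the inverse image of an affine open under a quasi-compact map -/
theorem exists_cover (g : X' ⟶ X) [QuasiCompact g] (U : X.Opens) (hU : IsAffineOpen U) :
    ∃ (n : ℕ) (U' : Fin n → X'.Opens), (∀ j, IsAffineOpen (U' j)) ∧ (∀ j, U' j ≤ g ⁻¹ᵁ U) ∧
      ∀ x' : X', g x' ∈ U → ∃ j, x' ∈ U' j := by
  have hc : IsCompact (g ⁻¹ᵁ U : Set X') := g.isCompact_preimage hU.isCompact
  obtain ⟨s, hs, hsU⟩ := isCompact_iff_finite_and_eq_biUnion_affineOpens.mp hc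
  haveI : Finite s := hs
  obtain ⟨n, ⟨e⟩⟩ := Finite.exists_equiv_fin s
  refine ⟨n, fun j => ((e.symm j).1 : X'.Opens), fun j => (e.symm j).1.2, fun j => ?_,
    fun x' hx' => ?_⟩
  · rw [hsU]
    exact le_iSup₂_of_le (e.symm j).1 (e.symm j).2 le_rfl
  · have h1 : x' ∈ g ⁻¹ᵁ U := hx'
    rw [hsU] at h1
    simp only [Opens.mem_iSup] at h1
    obtain ⟨V, hV, hx'V⟩ := h1
    refine ⟨e ⟨V, hV⟩, ?_⟩
    show x' ∈ ((e.symm (e ⟨V, hV⟩)).1 : X'.Opens)
    rw [Equiv.symm_apply_apply]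
    exact hx'V

end cover

section main
variable {X Y X' Y' : Scheme.{u}}

include hk in
/-- descent of local generation of the kernel of a chart along a flat surjective quasi-compact
base change -/
theorem descent_chart (i : Y ⟶ X) (g : X' ⟶ X) [Flat g] [Surjective g] [QuasiCompact g]
    (i' : Y' ⟶ X') (g' : Y' ⟶ Y) (hsq : IsPullback g' i' i g)
    (hi' : RegImm.IsRegularImmersion k i') (U : X.Opens) (hU : IsAffineOpen U)
    [IsClosedImmersion (i ∣_ U)] : LocGen C (RingHom.ker (i.app U).hom) := by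
  obtain ⟨n, U', hU', hle, hcov⟩ := exists_cover g U hU
  refine main_family C (fun j => Γ(X', U' j)) (fun j => (g.appLE U (U' j) (hle j)).hom) _
    (fun j => ?_) (fun 𝔭 => ?_) (fun j => ?_)
  · exact HasRingHomProperty.appLE (P := @Flat) g inferInstance ⟨U, hU⟩ ⟨U' j, hU' j⟩ (hle j)
  · obtain ⟨x', hx'⟩ := g.surjective (hU.fromSpec 𝔭)
    have hx'U : g x' ∈ U := by
      rw [hx']
      exact fromSpec_mem hU 𝔭
    obtain ⟨j, hj⟩ := hcov x' hx'U
    refine ⟨j, (hU' j).primeIdealOf ⟨x', hj⟩, ?_⟩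
    have h1 := IsAffineOpen.comap_primeIdealOf_appLE (f := g) U hU (U' j) (hU' j) (hle j) hj
    rw [h1]
    have h2 : hU.primeIdealOf ⟨g x', hle j hj⟩ = hU.primeIdealOf ⟨hU.fromSpec 𝔭, fromSpec_mem hU 𝔭⟩ := by
      congr 1
      exact Subtype.ext hx'
    rw [h2, primeIdealOf_fromSpec]
  · obtain ⟨hcl, hker⟩ := RelBCb.baseChange_chart' i g i' g' hsq U hU (U' j) (hU' j) (hle j)
    haveI := hcl
    rw [← hker]
    exact locGen_of_regImm C k hk i' hi' (U' j) (hU' j)

include hk in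
/-- **fpqc descent of regular immersions** (for the kinds given by a `RegClass`) -/
theorem main (i : Y ⟶ X) [IsImmersion i] (g : X' ⟶ X) [Flat g] [Surjective g] [QuasiCompact g]
    (i' : Y' ⟶ X') (g' : Y' ⟶ Y) (hsq : IsPullback g' i' i g)
    (hi' : RegImm.IsRegularImmersion k i') : RegImm.IsRegularImmersion k i := by
  refine ⟨inferInstance, fun y => ?_⟩
  have h1 : i y ∈ i.coborderRange := subset_coborder ⟨y, rfl⟩
  obtain ⟨_, ⟨U, hU : IsAffineOpen U, rfl⟩, hyU, hUle⟩ :=
    X.isBasis_affineOpens.exists_subset_of_mem_open h1 i.coborderRange.isOpen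
  have hUle' : U ≤ i.coborderRange := hUle
  obtain ⟨hV, hsurj⟩ := OmegaCnD.affine_of_le_coborderRange i hU hUle'
  haveI : IsClosedImmersion (i ∣_ U) :=
    Groth.Agent.Helper8.RegSeqE.isClosedImmersion_restrict_of_surjective i hU hV hsurj
  exact regImmAt_of_locGen C k hk i U hU (descent_chart C k hk i g i' g' hsq hi' U hU) y hyU

end main

end Groth.Agent.Helper3.FFDescS
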