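import Mathlib
import Groth.Prelude.Def_ega3
import Groth.Prelude.Def_LCI2
import Groth.Agent.Helper1.KoszulReg
import Groth.Agent.Helper1.KoszulPoly2
import Groth.Agent.Helper3.KzIdeal

set_option autoImplicit false
set_option linter.style.haveILetI false
set_option linter.unusedSectionVars false
set_option linter.unusedVariables false
set_option linter.style.haveILetI false
set_option linter.unusedSectionVars false
set_option linter.unusedVariables false

/-!
# Koszul-regular ideals and evaluation maps of polynomial rings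
-/

namespace Groth.Agent.Helper3.KzPoly
open MvPolynomial Groth.Agent.Helper3.KzLoc Groth.Agent.Helper3.KzIdeal

universe u
variable {S : Type u} [CommRing S] {m : ℕ} (h : Fin m → S)

/-- the shift automorphism `X j ↦ X j + C (h j)` -/
noncomputable def shift : MvPolynomial (Fin m) S ≃ₐ[S] MvPolynomial (Fin m) S :=
  AlgEquiv.ofAlgHom (aeval fun j => X j + C (h j)) (aeval fun j => X j - C (h j))
    (by ext j; simp) (by ext j; simp)

@[simp] lemma shift_X (j : Fin m) : shift h (X j) = X j + C (h j) := by simp [shift]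

@[simp] lemma shift_symm_X (j : Fin m) : (shift h).symm (X j) = X j - C (h j) := by simp [shift]

lemma aeval_eq_comp_shift :
    (aeval h : MvPolynomial (Fin m) S →ₐ[S] S) =
      (aeval (0 : Fin m → S)).comp (shift h : MvPolynomial (Fin m) S →ₐ[S] MvPolynomial (Fin m) S) := by
  ext j
  simp

lemma setOf_mem_ofFn {α : Type*} (f : Fin m → α) : {x | x ∈ List.ofFn f} = Set.range f := by
  ext x
  simp [List.mem_ofFn']

lemma ker_aeval_zero :
    RingHom.ker (aeval (0 : Fin m → S) : MvPolynomial (Fin m) S →ₐ[S] S).toRingHom =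
      Ideal.ofList (List.ofFn (fun j : Fin m => (X j : MvPolynomial (Fin m) S))) := by
  change _ = Ideal.span _
  rw [setOf_mem_ofFn]
  ext F
  have h1 := mem_pow_idealOfVars_iff' (σ := Fin m) (R := S) 1 F
  rw [pow_one] at h1
  change _ ↔ F ∈ idealOfVars (Fin m) S
  rw [h1, RingHom.mem_ker]
  change aeval (0 : Fin m → S) F = 0 ↔ _
  rw [aeval_zero]
  simp only [Algebra.algebraMap_self, RingHom.id_apply, Nat.lt_one_iff]
  constructor
  · intro hF x hx
    have : x = 0 := by
      ext i
      have := Finsupp.le_degree i x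
      rw [hx] at this
      simpa using this
    rw [this]
    exact hF
  · intro hF
    exact hF 0 (by simp)

lemma ker_aeval :
    RingHom.ker (aeval h : MvPolynomial (Fin m) S →ₐ[S] S).toRingHom =
      Ideal.ofList (List.ofFn (fun j : Fin m => (X j - C (h j) : MvPolynomial (Fin m) S))) := by
  have h1 : (aeval h : MvPolynomial (Fin m) S →ₐ[S] S).toRingHom =
      (aeval (0 : Fin m → S) : MvPolynomial (Fin m) S →ₐ[S] S).toRingHom.comp
        ((shift h).toRingEquiv : MvPolynomial (Fin m) S →+* MvPolynomial (Fin m) S) := by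
    rw [aeval_eq_comp_shift]
    rfl
  rw [h1, ← RingHom.comap_ker, ker_aeval_zero, Ideal.comap_coe, ← Ideal.map_symm, ← Ideal.map_coe,
    Ideal.map_ofList, List.map_ofFn]
  congr 2
  funext j
  simp

lemma kreg_X : LCI.IsKoszulRegularSeq (MvPolynomial (Fin m) S)
    (List.ofFn (fun j : Fin m => (X j : MvPolynomial (Fin m) S))) := by
  rw [Groth.Agent.Lead.KoszulFunC.isKoszulRegularSeq_iff]
  have hw := Groth.Agent.Helper1.KoszulPoly.isWeaklyRegular_X_pow (A := S) m 1
  simp only [pow_one] at hw
  exact Groth.Agent.Helper1.Koszul.isZero_homology_of_isWeaklyRegular _ _ hw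

lemma kreg_X_sub_C : LCI.IsKoszulRegularSeq (MvPolynomial (Fin m) S)
    (List.ofFn (fun j : Fin m => (X j - C (h j) : MvPolynomial (Fin m) S))) := by
  have := kreg_map_ringEquiv (shift h).symm.toRingEquiv _ (kreg_X (S := S) (m := m))
  rw [List.map_ofFn] at this
  convert this using 2
  funext j
  simp

lemma aeval_surjective : Function.Surjective (aeval h : MvPolynomial (Fin m) S →ₐ[S] S) :=
  fun s => ⟨C s, by simp⟩

/-- the linear independence condition for the `X j - C (h j)` -/
lemma li (K p : Ideal S) (hKp : K ≤ p) (c : Fin m → MvPolynomial (Fin m) S)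
    (hc : ∑ i, c i * (X i - C (h i)) ∈
      (p.comap (aeval h : MvPolynomial (Fin m) S →ₐ[S] S).toRingHom) *
        (K.comap (aeval h : MvPolynomial (Fin m) S →ₐ[S] S).toRingHom)) (j : Fin m) :
    c j ∈ p.comap (aeval h : MvPolynomial (Fin m) S →ₐ[S] S).toRingHom := by
  classical
  have key : ∀ F ∈ (p.comap (aeval h : MvPolynomial (Fin m) S →ₐ[S] S).toRingHom) *
      (K.comap (aeval h : MvPolynomial (Fin m) S →ₐ[S] S).toRingHom),
      aeval h (pderiv j F) ∈ p := by
    intro F hF
    refine Submodule.mul_induction_on hF ?_ ?_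
    · intro q hq G hG
      rw [Derivation.leibniz, map_add, smul_eq_mul, smul_eq_mul, map_mul, map_mul]
      exact p.add_mem (p.mul_mem_right _ hq) (p.mul_mem_right _ (hKp hG))
    · intro x y hx hy
      rw [map_add, map_add]
      exact p.add_mem hx hy
  have h1 := key _ hc
  have h2 : aeval h (pderiv j (∑ i, c i * (X i - C (h i)))) = aeval h (c j) := by
    rw [map_sum, map_sum, Finset.sum_eq_single j]
    · rw [Derivation.leibniz, map_sub, pderiv_X_self, pderiv_C, sub_zero, map_add, smul_eq_mul,
        smul_eq_mul, map_mul, map_mul, map_one, mul_one, map_sub, aeval_X, aeval_C]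
      simp
    · intro i _ hij
      rw [Derivation.leibniz, map_sub, pderiv_X_of_ne hij, pderiv_C, sub_zero, map_add,
        smul_eq_mul, smul_eq_mul, map_mul, map_mul, map_zero, mul_zero, map_sub, aeval_X, aeval_C]
      simp
    · intro hj
      exact absurd (Finset.mem_univ j) hj
  rw [h2] at h1
  exact h1

theorem poly_up (K : Ideal S) (hK : LCI.IsKoszulRegularIdeal K) :
    LCI.IsKoszulRegularIdeal (K.comap (aeval h : MvPolynomial (Fin m) S →ₐ[S] S).toRingHom) :=
  up_ideal _ (aeval_surjective h) _ (ker_aeval h) (kreg_X_sub_C h) K hK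

theorem poly_down (K : Ideal S)
    (hJ : LCI.IsKoszulRegularIdeal
      (K.comap (aeval h : MvPolynomial (Fin m) S →ₐ[S] S).toRingHom)) :
    LCI.IsKoszulRegularIdeal K :=
  down_ideal _ (aeval_surjective h) _ (ker_aeval h) (kreg_X_sub_C h) K
    (fun p _ hKp c hc j => li h K p hKp c hc j) hJ

end Groth.Agent.Helper3.KzPoly
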