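import Mathlib
import Groth.Prelude.Def_CAlgX
import Groth.Agent.Helper3.FFDescH
import Groth.Agent.Helper3.FFDescQ
import Groth.Agent.Helper7.QRReg

set_option autoImplicit false
set_option linter.style.haveILetI false
set_option linter.unusedSectionVars false
set_option linter.unusedVariables false
set_option linter.style.haveILetI false
set_option linter.unusedSectionVars false
set_option linter.unusedVariables false

/-!
# Passing to the quotient by part of an `H₁`-regular or quasi-regular sequence
-/

namespace Groth.Agent.Helper3.RegCancel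
open Groth.Agent.Helper3.FFDesc CAlgX

universe u

/-- the class passes to the quotient by the first element of a sequence -/
def Cancel1 (C : RegClass.{u}) : Prop :=
  ∀ {T : Type u} [CommRing T] (f₀ : T) (l : List T), C.P T (f₀ :: l) →
    C.P (T ⧸ Ideal.span {f₀}) (l.map (Ideal.Quotient.mk (Ideal.span {f₀})))

/-- cancelling a final segment which generates the kernel of a surjection -/
theorem cancel (C : RegClass.{u}) (hC : Cancel1 C) : ∀ (n : ℕ) {T P' : Type u} [CommRing T]
    [CommRing P'] (φ : T →+* P') (hφ : Function.Surjective φ) (fT gl : List T),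
    fT.length = n → RingHom.ker φ = Ideal.ofList fT → C.P T (gl ++ fT) → C.P P' (gl.map φ) := by
  intro n
  induction n with
  | zero =>
    intro T P' _ _ φ hφ fT gl hlen hker h
    obtain rfl : fT = [] := List.length_eq_zero_iff.mp hlen
    rw [List.append_nil] at h
    have hinj : Function.Injective φ := by
      rw [RingHom.injective_iff_ker_eq_bot, hker, Ideal.ofList_nil]
    exact C.flat φ (RingHom.Flat.of_bijective ⟨hinj, hφ⟩) gl h
  | succ n ih =>
    intro T P' _ _ φ hφ fT gl hlen hker h
    obtain ⟨f₀, fT', rfl⟩ : ∃ f₀ fT', fT = f₀ :: fT' := by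
      cases fT with
      | nil => simp at hlen
      | cons a t => exact ⟨a, t, rfl⟩
    have hlen' : fT'.length = n := by simpa using hlen
    let π := Ideal.Quotient.mk (Ideal.span {f₀})
    have hf₀ : ∀ a ∈ Ideal.span {f₀}, φ a = 0 := by
      intro a ha
      rw [← RingHom.mem_ker, hker]
      refine Ideal.span_mono ?_ ha
      rintro x rfl
      exact List.mem_cons_self
    let φ' : (T ⧸ Ideal.span {f₀}) →+* P' := Ideal.Quotient.lift (Ideal.span {f₀}) φ hf₀
    have hφ'π : ∀ x, φ' (π x) = φ x := fun x => Ideal.Quotient.lift_mk _ _ _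
    have hφ' : Function.Surjective φ' := fun y => by
      obtain ⟨x, rfl⟩ := hφ y
      exact ⟨π x, hφ'π x⟩
    have hπf₀ : π f₀ = 0 := Ideal.Quotient.eq_zero_iff_mem.2 (Ideal.subset_span rfl)
    have hker' : RingHom.ker φ' = Ideal.ofList (fT'.map π) := by
      have h1 : RingHom.ker φ' = (RingHom.ker φ).map π := Ideal.ker_quotient_lift _ hf₀
      rw [h1, hker, Ideal.map_ofList, List.map_cons, Ideal.ofList_cons, hπf₀]
      simp
    have h2 : C.P T (f₀ :: (gl ++ fT')) := by
      refine C.indep _ _ (by simp only [List.length_append, List.length_cons]; omega) ?_ h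
      rw [Ideal.ofList_append, Ideal.ofList_cons, Ideal.ofList_cons, Ideal.ofList_append]
      exact sup_left_comm _ _ _
    have h3 := hC f₀ (gl ++ fT') h2
    rw [List.map_append] at h3
    have h4 := ih φ' hφ' (fT'.map π) (gl.map π) (by simpa using hlen') hker' h3
    rw [List.map_map] at h4
    have h5 : gl.map (⇑φ' ∘ ⇑(Ideal.Quotient.mk (Ideal.span {f₀}))) = gl.map φ :=
      List.map_congr_left fun a _ => hφ'π a
    rwa [h5] at h4

section H1
variable {T : Type u} [CommRing T]

open Groth.Agent.Helper3.FFDescH in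
/-- the tail of an `H₁`-regular sequence is `H₁`-regular modulo the first element -/
theorem h1_tail {n : ℕ} (f : Fin (n + 1) → T) (hf : IsH1Regular f) :
    IsH1Regular (fun i : Fin n => Ideal.Quotient.mk (Ideal.span {f 0}) (f i.succ)) := by
  classical
  set π := Ideal.Quotient.mk (Ideal.span {f 0}) with hπ
  have hπ0 : π (f 0) = 0 := Ideal.Quotient.eq_zero_iff_mem.2 (Ideal.subset_span rfl)
  intro bb hbb
  choose b hb using fun i => Ideal.Quotient.mk_surjective (I := Ideal.span {f 0}) (bb i)
  have h1 : ∑ i, b i * f i.succ ∈ Ideal.span {f 0} := by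
    rw [← Ideal.Quotient.eq_zero_iff_mem, map_sum, ← hbb]
    refine Finset.sum_congr rfl fun i _ => ?_
    rw [map_mul, hb]
  obtain ⟨c, hc⟩ := Ideal.mem_span_singleton'.mp h1
  let a : Fin (n + 1) → T := Fin.cons (-c) b
  have ha : ∑ i, a i * f i = 0 := by
    rw [Fin.sum_univ_succ]
    simp only [a, Fin.cons_zero, Fin.cons_succ]
    rw [← hc]
    ring
  obtain ⟨A, hA⟩ := (mem_T_iff f a).mp (hf a ha)
  show bb ∈ FFDescH.T _
  rw [mem_T_iff]
  refine ⟨Matrix.of fun i j => π (A i.succ j.succ), ?_⟩
  funext i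
  have h2 : b i = ((A - A.transpose).mulVec f) i.succ := by
    rw [← hA]
    simp only [a, Fin.cons_succ]
  rw [← hb i, h2]
  simp only [Matrix.mulVec, dotProduct, Matrix.sub_apply, Matrix.transpose_apply,
    Matrix.of_apply]
  rw [Fin.sum_univ_succ, map_add, map_mul, hπ0, mul_zero, zero_add, map_sum]
  refine Finset.sum_congr rfl fun j _ => ?_
  rw [map_mul, map_sub]

end H1

lemma cons_eq_ofFn {T : Type u} (f₀ : T) (l : List T) :
    f₀ :: l = List.ofFn (Fin.cons f₀ l.get : Fin (l.length + 1) → T) := by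
  rw [List.ofFn_succ]
  simp

lemma map_eq_ofFn' {T S : Type u} (φ : T → S) (l : List T) :
    l.map φ = List.ofFn (fun i => φ (l.get i)) := by
  conv_lhs => rw [← List.ofFn_get l, List.map_ofFn]
  rfl

theorem cancel1_h1 : Cancel1 FFDescH.h1Class.{u} := by
  intro T _ f₀ l h
  have h' : IsH1Regular (f₀ :: l).get := h
  show IsH1Regular (l.map (Ideal.Quotient.mk (Ideal.span {f₀}))).get
  rw [FFDescH.h1_list_iff _ _ (cons_eq_ofFn f₀ l)] at h'
  rw [FFDescH.h1_list_iff _ _ (map_eq_ofFn' (Ideal.Quotient.mk (Ideal.span {f₀})) l)]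
  exact h1_tail (Fin.cons f₀ l.get) h'

theorem cancel1_quasi : Cancel1 FFDescQ.qregClass.{u} := by
  intro T _ f₀ l h
  have h' : IsQuasiRegular (f₀ :: l).get := h
  show IsQuasiRegular (l.map (Ideal.Quotient.mk (Ideal.span {f₀}))).get
  rw [FFDescQ.qr_list_iff _ _ (cons_eq_ofFn f₀ l)] at h'
  rw [FFDescQ.qr_list_iff _ _ (map_eq_ofFn' (Ideal.Quotient.mk (Ideal.span {f₀})) l)]
  exact Groth.Agent.Helper7.QRReg.isQuasiRegular_tail (Fin.cons f₀ l.get) h'

end Groth.Agent.Helper3.RegCancel
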