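import Mathlib
import Groth.Agent.Helper3.FFDescS1
import Groth.Agent.Helper3.KzUpDown
import Groth.Agent.Helper3.RegCancel

set_option autoImplicit false
set_option linter.style.haveILetI false
set_option linter.unusedSectionVars false
set_option linter.unusedVariables false
set_option linter.style.haveILetI false
set_option linter.unusedSectionVars false
set_option linter.unusedVariables false

/-!
# Ideals locally generated by regular sequences of a class: going down along a surjection
-/

namespace Groth.Agent.Helper3.RegDown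
open Groth.Agent.Helper3.FFDesc Groth.Agent.Helper3.FFDescS Groth.Agent.Helper3.KzLoc
  Groth.Agent.Helper3.KzExch Groth.Agent.Helper3.KzUpDown Groth.Agent.Helper3.RegCancel

universe u

variable (C : RegClass.{u})

section basic
variable {R : Type u} [CommRing R]

/-- the local condition in `LocGen` at a prime -/
def LocGenAt (K p : Ideal R) : Prop :=
  ∃ g : R, g ∉ p ∧ ∃ l : List (Localization.Away g), C.P _ l ∧
    K.map (algebraMap R (Localization.Away g)) = Ideal.span {x | x ∈ l}

lemma locGen_iff (K : Ideal R) :
    LocGen C K ↔ ∀ 𝔮 : PrimeSpectrum R, K ≤ 𝔮.asIdeal → LocGenAt C K 𝔮.asIdeal := Iff.rfl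

/-- refinement of the localization -/
theorem away_mul (G s : R) (T : Type u) [CommRing T] [Algebra R T] [IsLocalization.Away G T]
    (T' : Type u) [CommRing T'] [Algebra R T'] [IsLocalization.Away (G * s) T'] (l : List R)
    (h : C.P T (l.map (algebraMap R T))) : C.P T' (l.map (algebraMap R T')) := by
  let Q := Localization.Away (algebraMap R T s)
  have h1 : C.P Q ((l.map (algebraMap R T)).map (algebraMap T Q)) :=
    C.flat (algebraMap T Q) (RingHom.flat_algebraMap_iff.mpr
      (IsLocalization.flat Q (Submonoid.powers (algebraMap R T s)))) _ h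
  haveI : IsLocalization.Away (G * s) Q := inferInstance
  let e : Q ≃ₐ[R] T' := IsLocalization.algEquiv (Submonoid.powers (G * s)) Q T'
  have h2 := C.flat (e.toRingEquiv : Q →+* T') (RingHom.Flat.of_bijective e.bijective) _ h1
  have h3 : ((l.map (algebraMap R T)).map (algebraMap T Q)).map (e.toRingEquiv : Q →+* T') =
      l.map (algebraMap R T') := by
    rw [List.map_map, List.map_map]
    refine List.map_congr_left fun a _ => ?_
    simp only [Function.comp_apply]
    rw [← IsScalarTower.algebraMap_apply R T Q]
    exact e.commutes a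
  rwa [h3] at h2

end basic

section down
variable {R P : Type u} [CommRing R] [CommRing P] (ev : R →+* P) (hev : Function.Surjective ev)
  {m : ℕ} (fv : Fin m → R) (hfv : ∀ i, fv i ∈ RingHom.ker ev)

include hev hfv in
/-- going down: if the preimage `J` of `K` under a surjection is locally generated by a
`C`-regular sequence at a prime `q`, the kernel is generated near `q` by the `fv i`, and these
are linearly independent in `J / q J`, then `K` is locally generated by a `C`-regular sequence
at the image prime. -/
theorem downC (hC : Cancel1 C) (K p : Ideal P) [p.IsPrime] (hKp : K ≤ p)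
    (t : R) (ht : t ∉ p.comap ev) (htx : ∀ x ∈ RingHom.ker ev, t * x ∈ Ideal.span (Set.range fv))
    (hLI : ∀ c : Fin m → R, ∑ i, c i * fv i ∈ (p.comap ev) * (K.comap ev) →
      ∀ i, c i ∈ p.comap ev)
    (h : LocGenAt C (K.comap ev) (p.comap ev)) : LocGenAt C K p := by
  classical
  set J := K.comap ev with hJdef
  set q := p.comap ev with hqdef
  haveI : q.IsPrime := Ideal.comap_isPrime ev p
  have hJq : J ≤ q := Ideal.comap_mono hKp
  have hkerJ : RingHom.ker ev ≤ J := by
    intro x hx
    rw [hJdef, Ideal.mem_comap, (RingHom.mem_ker).1 hx]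
    exact K.zero_mem
  have hfJ : ∀ i, fv i ∈ J := fun i => hkerJ (hfv i)
  obtain ⟨G, hG, hl, hhl, hJG⟩ := h
  replace hJG : J.map (algebraMap R (Localization.Away G)) = Ideal.ofList hl := hJG
  obtain ⟨H, hHJ, hspanH⟩ := exists_clear G J hl hJG
  have hHreg : C.P (Localization.Away G)
      ((List.ofFn H).map (algebraMap R (Localization.Away G))) :=
    C.indep hl _ (by simp) hspanH.symm hhl
  have h₀ : J ≤ sat G (Ideal.span (Set.range H)) := by
    intro x hx
    have h1 : algebraMap R (Localization.Away G) x ∈
        (Ideal.span (Set.range H)).map (algebraMap R (Localization.Away G)) := by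
      rw [← ofList_ofFn_map, hspanH, ← hJG]
      exact Ideal.mem_map_of_mem _ hx
    rw [IsLocalization.algebraMap_mem_map_algebraMap_iff (Submonoid.powers G)] at h1
    obtain ⟨_, ⟨e, rfl⟩, he⟩ := h1
    exact ⟨e, he⟩
  obtain ⟨s, hs, ⟨s₁, rfl⟩, T, hcard, hJT⟩ := exchange q J hJq fv hfJ hLI H hHJ G hG h₀
  have hs' : G * (s₁ * t) ∉ q := by
    rw [← mul_assoc]
    intro hc
    rcases Ideal.IsPrime.mem_or_mem inferInstance hc with hc | hc
    · exact hs hc
    · exact ht hc
  let T' := Localization.Away (G * (s₁ * t))
  have hHreg' : C.P T' ((List.ofFn H).map (algebraMap R T')) :=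
    away_mul C G (s₁ * t) (Localization.Away G) T' _ hHreg
  let L : List R := T.toList.map H ++ List.ofFn fv
  have hLlen : L.length = (List.ofFn H).length := by
    simp only [L, List.length_append, List.length_map, Finset.length_toList, List.length_ofFn]
    exact hcard
  have hHspan : Ideal.ofList ((List.ofFn H).map (algebraMap R T')) =
      J.map (algebraMap R T') := by
    rw [ofList_ofFn_map]
    refine map_eq_of_le_sat G (G * (s₁ * t)) (dvd_mul_right G _) T' _ J ?_ h₀
    rw [Ideal.span_le]
    rintro _ ⟨k, rfl⟩
    exact hHJ k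
  have hLset : {x | x ∈ L} = Set.range fv ∪ H '' ↑T := by
    ext x
    simp only [L, List.mem_append, List.mem_map, Finset.mem_toList, List.mem_ofFn,
      Set.mem_setOf_eq, Set.mem_union, Set.mem_range, Set.mem_image, Finset.mem_coe]
    exact Or.comm
  have hLspan : Ideal.ofList (L.map (algebraMap R T')) = J.map (algebraMap R T') := by
    rw [← Ideal.map_ofList]
    change (Ideal.span {x | x ∈ L}).map _ = _
    rw [hLset]
    refine map_eq_of_le_sat (G * s₁) (G * (s₁ * t)) ⟨t, by ring⟩ T' _ J ?_ hJT
    rw [Ideal.span_le]
    rintro _ (⟨i, rfl⟩ | ⟨k, _, rfl⟩)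
    · exact hfJ i
    · exact hHJ k
  have hLreg : C.P T' (L.map (algebraMap R T')) :=
    C.indep _ _ (by simp only [List.length_map, hLlen])
      (hHspan.trans hLspan.symm) hHreg'
  let P' := Localization.Away (ev (G * (s₁ * t)))
  let φ : T' →+* P' := IsLocalization.Away.map T' P' ev (G * (s₁ * t))
  have hφ : Function.Surjective φ := awayMap_surjective ev hev (G * (s₁ * t)) T' P'
  let fT : List T' := (List.ofFn fv).map (algebraMap R T')
  have hut : IsUnit (algebraMap R T' t) :=
    IsLocalization.Away.isUnit_of_dvd (G * (s₁ * t)) ⟨G * s₁, by ring⟩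
  have hkerφ : RingHom.ker φ = Ideal.ofList fT := by
    rw [ker_awayMap ev (G * (s₁ * t)) T' P',
      map_eq_of_unit (RingHom.ker ev) (algebraMap R T') fv hfv t htx hut]
    simp only [fT]
    rw [ofList_ofFn_map, Ideal.map_span, ← Set.range_comp]
    rfl
  let gl : List T' := (T.toList.map H).map (algebraMap R T')
  have hLgl : L.map (algebraMap R T') = gl ++ fT := by
    simp only [L, gl, fT, List.map_append]
  have hcancel : C.P P' (gl.map φ) :=
    cancel C hC _ φ hφ fT gl rfl hkerφ (hLgl ▸ hLreg)
  refine ⟨ev (G * (s₁ * t)), hs', gl.map φ, hcancel, ?_⟩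
  have h1 : K.map (algebraMap P P') = (J.map (algebraMap R T')).map φ := by
    rw [Ideal.map_map, awayMap_comp ev (G * (s₁ * t)) T' P', ← Ideal.map_map, hJdef,
      Ideal.map_comap_of_surjective ev hev]
  rw [h1, ← hLspan, hLgl, Ideal.map_ofList, List.map_append, Ideal.ofList_append]
  have h2 : Ideal.ofList (fT.map φ) = ⊥ := by
    rw [← Ideal.map_ofList, ← hkerφ]
    exact (Ideal.map_eq_bot_iff_le_ker φ).2 le_rfl
  rw [h2, sup_bot_eq]

end down

end Groth.Agent.Helper3.RegDown
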