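import Mathlib
import Groth.Agent.Helper3.RegDownA

set_option autoImplicit false
set_option linter.style.haveILetI false
set_option linter.unusedSectionVars false
set_option linter.unusedVariables false
set_option linter.style.haveILetI false
set_option linter.unusedSectionVars false
set_option linter.unusedVariables false

/-!
# Ideals locally generated by regular sequences of a class: going down along a surjection with
finitely generated kernel, under fibrewise injectivity of the conormal map
-/

namespace Groth.Agent.Helper3.RegDown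
open Groth.Agent.Helper3.FFDesc Groth.Agent.Helper3.RegCancel IsLocalRing

universe u

section lift
variable {A : Type u} [CommRing A] (𝔭 : Ideal A) [𝔭.IsPrime] (I : Ideal A)

/-- generators of `I A_𝔭` are unit multiples of images of elements of `I` -/
theorem exists_lift' {r : ℕ} (f : Fin r → Localization.AtPrime 𝔭)
    (hf : I.map (algebraMap A (Localization.AtPrime 𝔭)) = Ideal.span (Set.range f)) :
    ∃ (a : Fin r → A) (s : Fin r → A), (∀ i, a i ∈ I) ∧ (∀ i, s i ∉ 𝔭) ∧
      ∀ i, f i * algebraMap A (Localization.AtPrime 𝔭) (s i) = algebraMap A _ (a i) := by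
  have h1 : ∀ i, ∃ x : I × 𝔭.primeCompl,
      f i * algebraMap A (Localization.AtPrime 𝔭) x.2 = algebraMap A _ x.1 := fun i => by
    have : f i ∈ I.map (algebraMap A (Localization.AtPrime 𝔭)) := hf ▸ Ideal.subset_span ⟨i, rfl⟩
    exact (IsLocalization.mem_map_algebraMap_iff 𝔭.primeCompl _).mp this
  choose x hx using h1
  exact ⟨fun i => ((x i).1 : A), fun i => ((x i).2 : A), fun i => (x i).1.2, fun i => (x i).2.2, hx⟩

/-- elements of `q * (a)` -/
theorem exists_of_mem_mul_span (q : Ideal A) {r : ℕ} (a : Fin r → A) (y : A)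
    (hy : y ∈ q * Ideal.span (Set.range a)) :
    ∃ m : Fin r → A, (∀ i, m i ∈ q) ∧ y = ∑ i, m i * a i := by
  refine Submodule.mul_induction_on hy ?_ ?_
  · intro π hπ x hx
    obtain ⟨d, rfl⟩ := (Ideal.mem_span_range_iff_exists_fun).mp hx
    refine ⟨fun i => π * d i, fun i => Ideal.mul_mem_right _ _ hπ, ?_⟩
    rw [Finset.mul_sum]
    exact Finset.sum_congr rfl fun i _ => (mul_assoc _ _ _).symm
  · rintro x y ⟨m, hm, rfl⟩ ⟨m', hm', rfl⟩
    refine ⟨fun i => m i + m' i, fun i => q.add_mem (hm i) (hm' i), ?_⟩
    rw [← Finset.sum_add_distrib]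
    exact Finset.sum_congr rfl fun i _ => (add_mul _ _ _).symm

end lift

variable (C : RegClass.{u})

/-- **going down** along a surjection with finitely generated kernel -/
theorem main (hC : Cancel1 C) {R P : Type u} [CommRing R] [CommRing P] (ev : R →+* P)
    (hev : Function.Surjective ev) (hfg : (RingHom.ker ev).FG) (K : Ideal P)
    (hb : ∀ q : Ideal R, q.IsPrime → K.comap ev ≤ q → ∀ x ∈ RingHom.ker ev,
      x ∈ q * K.comap ev → x ∈ q * RingHom.ker ev)
    (h : LocGen C (K.comap ev)) : LocGen C K := by
  intro 𝔭 hK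
  haveI := 𝔭.isPrime
  set q := 𝔭.asIdeal.comap ev with hq
  haveI hqp : q.IsPrime := Ideal.comap_isPrime ev 𝔭.asIdeal
  have hIq : K.comap ev ≤ q := Ideal.comap_mono hK
  set J₀ := RingHom.ker ev with hJ₀
  have hfgq : (J₀.map (algebraMap R (Localization.AtPrime q))).FG := hfg.map _
  obtain ⟨n, f, hf, hrel⟩ := exists_min_gen _ hfgq
  obtain ⟨a, s, haJ, hs, has⟩ := exists_lift' q J₀ f hf.symm
  have hus : ∀ i, IsUnit (algebraMap R (Localization.AtPrime q) (s i)) := fun i =>
    IsLocalization.map_units (Localization.AtPrime q) (⟨s i, hs i⟩ : q.primeCompl)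
  have hspan : Ideal.span (Set.range fun i => algebraMap R (Localization.AtPrime q) (a i)) =
      J₀.map (algebraMap R (Localization.AtPrime q)) := by
    rw [← hf]
    apply le_antisymm
    · rw [Ideal.span_le]
      rintro _ ⟨i, rfl⟩
      show algebraMap R _ (a i) ∈ _
      rw [← has i]
      exact Ideal.mul_mem_right _ _ (Ideal.subset_span ⟨i, rfl⟩)
    · rw [Ideal.span_le]
      rintro _ ⟨i, rfl⟩
      show f i ∈ Ideal.span _
      rw [← Ideal.mul_unit_mem_iff_mem _ (hus i), has i]
      exact Ideal.subset_span ⟨i, rfl⟩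
  obtain ⟨t, ht, htx⟩ := exists_mul_mem q J₀ hfg a hspan
  have hrel' : Rel (fun i => algebraMap R (Localization.AtPrime q) (a i))
      (maximalIdeal (Localization.AtPrime q)) := by
    intro c hc i
    have h1 : ∑ i, (c i * algebraMap R (Localization.AtPrime q) (s i)) * f i = 0 := by
      rw [← hc]
      refine Finset.sum_congr rfl fun i _ => ?_
      show _ = c i * algebraMap R (Localization.AtPrime q) (a i)
      rw [← has i]
      ring
    have h2 := hrel _ h1 i
    rcases Ideal.IsPrime.mem_or_mem (Ideal.IsMaximal.isPrime' _) h2 with h3 | h3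
    · exact h3
    · exact absurd (hus i) ((IsLocalRing.mem_maximalIdeal _).mp h3)
  have hLI : ∀ c : Fin n → R, ∑ i, c i * a i ∈ q * K.comap ev → ∀ i, c i ∈ q := by
    intro c hc i
    have hxJ : ∑ i, c i * a i ∈ J₀ := Ideal.sum_mem _ fun i _ => Ideal.mul_mem_left _ _ (haJ i)
    have h1 := hb q hqp hIq _ hxJ hc
    have h2 : t * ∑ i, c i * a i ∈ q * Ideal.span (Set.range a) := by
      refine Submodule.mul_induction_on h1 ?_ ?_
      · intro π hπ x hx
        have : t * (π * x) = π * (t * x) := by ring
        rw [this]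
        exact Ideal.mul_mem_mul hπ (htx x hx)
      · intro x y hx hy
        rw [mul_add]
        exact Ideal.add_mem _ hx hy
    obtain ⟨m, hm, hme⟩ := exists_of_mem_mul_span q a _ h2
    have h3 : ∑ i, algebraMap R (Localization.AtPrime q) (t * c i - m i) *
        algebraMap R (Localization.AtPrime q) (a i) = 0 := by
      simp only [← map_mul, ← map_sum]
      rw [← map_zero (algebraMap R (Localization.AtPrime q))]
      congr 1
      simp only [sub_mul, Finset.sum_sub_distrib]
      rw [← hme, Finset.mul_sum, sub_eq_zero]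
      exact Finset.sum_congr rfl fun i _ => mul_assoc _ _ _
    have h4 := hrel' _ h3 i
    rw [IsLocalization.AtPrime.to_map_mem_maximal_iff (Localization.AtPrime q) q] at h4
    have h5 : t * c i ∈ q := by
      have := q.add_mem h4 (hm i)
      simpa using this
    rcases Ideal.IsPrime.mem_or_mem hqp h5 with h6 | h6
    · exact absurd h6 ht
    · exact h6
  exact downC C ev hev a haJ hC K 𝔭.asIdeal hK t ht htx hLI (h ⟨q, hqp⟩ hIq)

end Groth.Agent.Helper3.RegDown
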