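import Mathlib
import Groth.Agent.Helper3.FFDescS1
import Groth.Agent.Helper3.RegDownA

set_option autoImplicit false
set_option linter.style.haveILetI false
set_option linter.unusedSectionVars false
set_option linter.unusedVariables false
set_option linter.style.haveILetI false
set_option linter.unusedSectionVars false
set_option linter.unusedVariables false

/-!
# Ideals locally generated by regular sequences: flat base change, and the idempotent of an
unramified algebra with a retraction
-/

namespace Groth.Agent.Helper3.SmKregA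
open Groth.Agent.Helper3.FFDesc Groth.Agent.Helper3.FFDescS Groth.Agent.Helper3.RegDown
open scoped TensorProduct

universe u

section idem
variable {R S : Type u} [CommRing R] [CommRing S] [Algebra R S]
  [Algebra.FormallyUnramified R S] [Algebra.EssFiniteType R S]

/-- **The idempotent of an unramified algebra with a retraction.** If `R → S` is unramified and
`J` is an ideal of `S` with `R → S/J` surjective, there is `t ≡ 1 mod J` with
`t J ⊆ (J ∩ R) S`. -/
theorem exists_idem (J : Ideal S) (hsurj : ∀ s : S, ∃ r : R, s - algebraMap R S r ∈ J) :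
    ∃ t : S, t - 1 ∈ J ∧ ∀ x ∈ J, t * x ∈ (J.comap (algebraMap R S)).map (algebraMap R S) := by
  set I₁ : Ideal R := J.comap (algebraMap R S) with hI₁
  set I₁S : Ideal S := I₁.map (algebraMap R S) with hI₁S
  have hle : I₁S ≤ J := Ideal.map_comap_le
  -- the ring map `f₀ : R → S/J`
  let f₀ : R →+* S ⧸ J := (Ideal.Quotient.mk J).comp (algebraMap R S)
  have hf₀ : Function.Surjective f₀ := by
    intro z
    obtain ⟨s, rfl⟩ := Ideal.Quotient.mk_surjective z
    obtain ⟨r, hr⟩ := hsurj s
    exact ⟨r, (Ideal.Quotient.eq.mpr hr).symm⟩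
  have hker : ∀ r : R, f₀ r = 0 ↔ r ∈ I₁ := fun r => by
    change Ideal.Quotient.mk J (algebraMap R S r) = 0 ↔ _
    rw [Ideal.Quotient.eq_zero_iff_mem]
    rfl
  -- `g₀ : R → S / I₁S` factors through `f₀`
  let g₀ : R →+* S ⧸ I₁S := (Ideal.Quotient.mk I₁S).comp (algebraMap R S)
  have hg₀ : ∀ r : R, f₀ r = 0 → g₀ r = 0 := fun r hr => by
    change Ideal.Quotient.mk I₁S (algebraMap R S r) = 0
    rw [Ideal.Quotient.eq_zero_iff_mem]
    exact Ideal.mem_map_of_mem _ ((hker r).mp hr)
  let ρ : S ⧸ J →+* S ⧸ I₁S := RingHom.liftOfSurjective f₀ hf₀ ⟨g₀, fun r hr => hg₀ r hr⟩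
  have hρ : ∀ r : R, ρ (f₀ r) = g₀ r := fun r =>
    RingHom.liftOfRightInverse_comp_apply f₀ _ _ ⟨g₀, fun r hr => hg₀ r hr⟩ r
  let lam : S →+* S ⧸ I₁S := ρ.comp (Ideal.Quotient.mk J)
  have hlam_alg : ∀ r : R, lam (algebraMap R S r) = algebraMap R (S ⧸ I₁S) r := fun r => hρ r
  let lamA : S →ₐ[R] S ⧸ I₁S := { lam with commutes' := hlam_alg }
  let Θ : S ⊗[R] S →ₐ[R] S ⧸ I₁S :=
    Algebra.TensorProduct.productMap lamA (Ideal.Quotient.mkₐ R I₁S)
  have hΘ : ∀ s s' : S, Θ (s ⊗ₜ[R] s') = lam s * Ideal.Quotient.mk I₁S s' := fun s s' => by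
    simp [Θ, lamA]
  have hlamJ : ∀ x ∈ J, lam x = 0 := fun x hx => by
    change ρ (Ideal.Quotient.mk J x) = 0
    rw [Ideal.Quotient.eq_zero_iff_mem.mpr hx, map_zero]
  have hfac : ∀ s : S, Ideal.Quotient.factor hle (lam s) = Ideal.Quotient.mk J s := fun s => by
    obtain ⟨r, hr⟩ := hsurj s
    have h1 : Ideal.Quotient.mk J s = f₀ r := Ideal.Quotient.eq.mpr hr
    change Ideal.Quotient.factor hle (ρ (Ideal.Quotient.mk J s)) = _
    rw [h1, hρ]
    rfl
  have hfacΘ : ∀ z : S ⊗[R] S, Ideal.Quotient.factor hle (Θ z) =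
      Ideal.Quotient.mk J (Algebra.TensorProduct.lmul' R z) := by
    intro z
    induction z using TensorProduct.induction_on with
    | zero => simp
    | tmul s s' =>
      rw [hΘ, map_mul, hfac, Algebra.TensorProduct.lmul'_apply_tmul, map_mul]
      rfl
    | add x y hx hy => rw [map_add, map_add, hx, hy, map_add, map_add]
  set T := Algebra.FormallyUnramified.elem R S with hT
  obtain ⟨t, ht⟩ := Ideal.Quotient.mk_surjective (Θ T)
  refine ⟨t, ?_, fun x hx => ?_⟩
  · rw [← Ideal.Quotient.eq]
    have h1 : Ideal.Quotient.mk J t = Ideal.Quotient.factor hle (Ideal.Quotient.mk I₁S t) := rfl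
    rw [h1, ht, hfacΘ, Algebra.FormallyUnramified.lmul_elem]
  · rw [← Ideal.Quotient.eq_zero_iff_mem, map_mul, ht, mul_comm]
    have h1 : Ideal.Quotient.mk I₁S x = Θ ((1 : S) ⊗ₜ[R] x - x ⊗ₜ[R] (1 : S)) := by
      rw [map_sub, hΘ, hΘ, hlamJ x hx, map_one, map_one, one_mul, zero_mul, sub_zero]
    rw [h1, ← map_mul, Algebra.FormallyUnramified.one_tmul_sub_tmul_one_mul_elem, map_zero]

end idem

section basechange
variable (C : RegClass.{u})

/-- flat base change of ideals locally generated by `C`-regular sequences -/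
theorem locGen_map {R S : Type u} [CommRing R] [CommRing S] (φ : R →+* S) (hφ : φ.Flat)
    (K : Ideal R) (h : LocGen C K) : LocGen C (K.map φ) := by
  apply locGen_of_away
  intro 𝔮 h𝔮
  have hK : K ≤ (𝔮.asIdeal.comap φ) := Ideal.map_le_iff_le_comap.mp h𝔮
  obtain ⟨g, hg, l, hl, hKl⟩ := h ⟨𝔮.asIdeal.comap φ, inferInstance⟩ hK
  refine ⟨φ g, hg, Localization.Away (φ g), inferInstance, inferInstance, inferInstance,
    l.map (IsLocalization.Away.map (Localization.Away g) (Localization.Away (φ g)) φ g), ?_, ?_⟩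
  · exact C.flat _
      (RingHom.Flat.isStableUnderBaseChange.localizationPreserves.away φ g _ _ hφ) l hl
  · have h1 : (algebraMap S (Localization.Away (φ g))).comp φ =
        (IsLocalization.Away.map (Localization.Away g) (Localization.Away (φ g)) φ g).comp
          (algebraMap R (Localization.Away g)) := (IsLocalization.map_comp _).symm
    rw [Ideal.map_map, h1, ← Ideal.map_map, hKl]
    exact Ideal.map_ofList _ l

/-- if `K ⊆ J` and `t J ⊆ K` for some `t ≡ 1 mod J`, then `J` is locally generated by a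
`C`-regular sequence as soon as `K` is. -/
theorem locGen_of_mul_mem {S : Type u} [CommRing S] (K J : Ideal S) (hle : K ≤ J) (t : S)
    (ht1 : t - 1 ∈ J) (ht : ∀ x ∈ J, t * x ∈ K) (h : LocGen C K) : LocGen C J := by
  apply locGen_of_away
  intro 𝔮 h𝔮
  have htq : t ∉ 𝔮.asIdeal := fun hc =>
    𝔮.isPrime.ne_top ((Ideal.eq_top_iff_one _).mpr (by
      have := 𝔮.asIdeal.sub_mem hc (h𝔮 ht1)
      simpa using this))
  obtain ⟨g, hg, l, hl, hKl⟩ := h 𝔮 (hle.trans h𝔮)
  let T := Localization.Away g
  let Q := Localization.Away (algebraMap S T t)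
  haveI : IsLocalization.Away (g * t) Q := inferInstance
  refine ⟨g * t, 𝔮.isPrime.mul_notMem hg htq, Q, inferInstance, inferInstance, inferInstance,
    l.map (algebraMap T Q), ?_, ?_⟩
  · exact C.flat (algebraMap T Q) (RingHom.flat_algebraMap_iff.mpr
      (IsLocalization.flat Q (Submonoid.powers (algebraMap S T t)))) l hl
  · have hJK : J.map (algebraMap S Q) = K.map (algebraMap S Q) := by
      apply le_antisymm
      · rw [Ideal.map_le_iff_le_comap]
        intro x hx
        rw [Ideal.mem_comap]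
        have hu : IsUnit (algebraMap S Q t) := by
          have := IsLocalization.Away.algebraMap_isUnit (S := Q) (g * t)
          rw [map_mul] at this
          exact isUnit_of_mul_isUnit_right this
        obtain ⟨u, hu'⟩ := hu
        have h2 : algebraMap S Q x = ↑u⁻¹ * algebraMap S Q (t * x) := by
          rw [map_mul, ← hu', ← mul_assoc, Units.inv_mul, one_mul]
        rw [h2]
        exact Ideal.mul_mem_left _ _ (Ideal.mem_map_of_mem _ (ht x hx))
      · exact Ideal.map_mono hle
    rw [hJK, IsScalarTower.algebraMap_eq S T Q, ← Ideal.map_map, hKl]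
    exact Ideal.map_ofList _ l

end basechange

end Groth.Agent.Helper3.SmKregA
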