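import Mathlib
import Groth.Agent.Helper3.SmKregA

set_option autoImplicit false
set_option linter.style.haveILetI false
set_option linter.unusedSectionVars false
set_option linter.unusedVariables false
set_option linter.style.haveILetI false
set_option linter.unusedSectionVars false
set_option linter.unusedVariables false

/-!
# Descent of `LocGen` along a flat map which is an isomorphism on the closed subschemes
-/

namespace Groth.Agent.Helper3.SmKregB
open Groth.Agent.Helper3.FFDesc Groth.Agent.Helper3.FFDescS Groth.Agent.Helper3.RegDown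
  Groth.Agent.Helper3.SmKregA

universe u

variable (C : RegClass.{u})

section fam
variable {R S : Type u} [CommRing R] [CommRing S] [Algebra R S] {m : ℕ} (t : S) (a : Fin m → R)

/-- the family of rings `S_t`, `R_{a k}` -/
def Bfam : Option (Fin m) → Type u
  | none => Localization.Away t
  | some k => Localization.Away (a k)

noncomputable instance : ∀ o, CommRing (Bfam t a o)
  | none => inferInstanceAs (CommRing (Localization.Away t))
  | some k => inferInstanceAs (CommRing (Localization.Away (a k)))

/-- the family of ring maps `R → S_t`, `R → R_{a k}` -/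
noncomputable def φfam : ∀ o, R →+* Bfam t a o
  | none => ((algebraMap S (Localization.Away t)).comp (algebraMap R S) : R →+* Localization.Away t)
  | some k => (algebraMap R (Localization.Away (a k)) : R →+* Localization.Away (a k))

end fam

variable {R S : Type u} [CommRing R] [CommRing S] [Algebra R S] [Module.Flat R S]

/-- descent: if `R → S` is flat, `R → S/J` is surjective, `t ≡ 1 mod J` and
`t J ⊆ (J ∩ R) S`, with `J ∩ R` finitely generated, then `J ∩ R` is locally generated by a
`C`-regular sequence as soon as `J` is. -/
theorem locGen_comap (J : Ideal S) (hsurj : ∀ s : S, ∃ r : R, s - algebraMap R S r ∈ J)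
    (t : S) (ht1 : t - 1 ∈ J)
    (ht : ∀ x ∈ J, t * x ∈ (J.comap (algebraMap R S)).map (algebraMap R S))
    (hfg : (J.comap (algebraMap R S)).FG) (h : LocGen C J) :
    LocGen C (J.comap (algebraMap R S)) := by
  classical
  set I₁ : Ideal R := J.comap (algebraMap R S) with hI₁
  obtain ⟨m, a, ha⟩ := Submodule.fg_iff_exists_fin_generating_family.mp hfg
  have haI : ∀ k, a k ∈ I₁ := fun k => ha ▸ Ideal.subset_span ⟨k, rfl⟩
  refine main_family C (Bfam t a) (φfam t a) I₁ ?_ ?_ ?_
  · rintro (_ | k)
    · change ((algebraMap S (Localization.Away t)).comp (algebraMap R S)).Flat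
      exact RingHom.Flat.comp (RingHom.flat_algebraMap_iff.mpr inferInstance)
        (RingHom.flat_algebraMap_iff.mpr
          (IsLocalization.flat (Localization.Away t) (Submonoid.powers t)))
    · change (algebraMap R (Localization.Away (a k))).Flat
      exact RingHom.flat_algebraMap_iff.mpr
        (IsLocalization.flat (Localization.Away (a k)) (Submonoid.powers (a k)))
  · intro 𝔭
    by_cases hp : I₁ ≤ 𝔭.asIdeal
    · -- the prime of `S_t` over `𝔭`
      let f₀ : R →+* S ⧸ J := (Ideal.Quotient.mk J).comp (algebraMap R S)
      have hf₀ : Function.Surjective f₀ := by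
        intro z
        obtain ⟨s, rfl⟩ := Ideal.Quotient.mk_surjective z
        obtain ⟨r, hr⟩ := hsurj s
        exact ⟨r, (Ideal.Quotient.eq.mpr hr).symm⟩
      have hker : RingHom.ker f₀ = I₁ := by
        ext r
        rw [RingHom.mem_ker]
        change Ideal.Quotient.mk J (algebraMap R S r) = 0 ↔ _
        rw [Ideal.Quotient.eq_zero_iff_mem]
        rfl
      haveI hprime : (𝔭.asIdeal.map f₀).IsPrime :=
        Ideal.map_isPrime_of_surjective hf₀ (hker ▸ hp)
      let 𝔮 : Ideal S := (𝔭.asIdeal.map f₀).comap (Ideal.Quotient.mk J)
      haveI h𝔮 : 𝔮.IsPrime := Ideal.comap_isPrime _ _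
      have hJ𝔮 : J ≤ 𝔮 := by
        intro x hx
        show x ∈ Ideal.comap _ _
        rw [Ideal.mem_comap, Ideal.Quotient.eq_zero_iff_mem.mpr hx]
        exact Ideal.zero_mem _
      have h𝔮c : 𝔮.comap (algebraMap R S) = 𝔭.asIdeal := by
        change (𝔭.asIdeal.map f₀).comap f₀ = _
        rw [Ideal.comap_map_of_surjective f₀ hf₀, ← RingHom.ker_eq_comap_bot, hker]
        exact sup_eq_left.mpr hp
      have ht𝔮 : t ∉ 𝔮 := fun hc =>
        h𝔮.ne_top ((Ideal.eq_top_iff_one _).mpr (by
          have := 𝔮.sub_mem hc (hJ𝔮 ht1)
          simpa using this))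
      have hdisj : Disjoint (Submonoid.powers t : Set S) (𝔮 : Set S) := by
        rw [Ideal.disjoint_powers_iff_notMem _ h𝔮.isRadical]
        exact ht𝔮
      haveI hQ : (𝔮.map (algebraMap S (Localization.Away t))).IsPrime :=
        IsLocalization.isPrime_of_isPrime_disjoint (Submonoid.powers t) _ 𝔮 h𝔮 hdisj
      refine ⟨none, ⟨𝔮.map (algebraMap S (Localization.Away t)), hQ⟩, ?_⟩
      apply PrimeSpectrum.ext
      change (𝔮.map (algebraMap S (Localization.Away t))).comap
        ((algebraMap S (Localization.Away t)).comp (algebraMap R S)) = 𝔭.asIdeal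
      have h3 : (𝔮.map (algebraMap S (Localization.Away t))).comap
          (algebraMap S (Localization.Away t)) = 𝔮 :=
        IsLocalization.comap_map_of_isPrime_disjoint (Submonoid.powers t) _ h𝔮 hdisj
      rw [← Ideal.comap_comap, h3, h𝔮c]
    · obtain ⟨k, hk⟩ : ∃ k, a k ∉ 𝔭.asIdeal := by
        by_contra hc
        push Not at hc
        apply hp
        rw [← ha, Ideal.span_le]
        rintro _ ⟨k, rfl⟩
        exact hc k
      have hdisj : Disjoint (Submonoid.powers (a k) : Set R) (𝔭.asIdeal : Set R) := by
        rw [Ideal.disjoint_powers_iff_notMem _ 𝔭.isPrime.isRadical]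
        exact hk
      haveI hQ : (𝔭.asIdeal.map (algebraMap R (Localization.Away (a k)))).IsPrime :=
        IsLocalization.isPrime_of_isPrime_disjoint (Submonoid.powers (a k)) _ _ 𝔭.isPrime hdisj
      refine ⟨some k, ⟨𝔭.asIdeal.map (algebraMap R (Localization.Away (a k))), hQ⟩, ?_⟩
      apply PrimeSpectrum.ext
      change (𝔭.asIdeal.map (algebraMap R (Localization.Away (a k)))).comap
        (algebraMap R (Localization.Away (a k))) = 𝔭.asIdeal
      exact IsLocalization.comap_map_of_isPrime_disjoint (Submonoid.powers (a k)) _ 𝔭.isPrime hdisj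
  · rintro (_ | k)
    · change LocGen C (I₁.map ((algebraMap S (Localization.Away t)).comp (algebraMap R S)))
      rw [← Ideal.map_map]
      have hJK : (I₁.map (algebraMap R S)).map (algebraMap S (Localization.Away t)) =
          J.map (algebraMap S (Localization.Away t)) := by
        apply le_antisymm
        · exact Ideal.map_mono Ideal.map_comap_le
        · rw [Ideal.map_le_iff_le_comap]
          intro x hx
          rw [Ideal.mem_comap]
          obtain ⟨u, hu'⟩ := IsLocalization.Away.algebraMap_isUnit (S := Localization.Away t) t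
          have h2 : algebraMap S (Localization.Away t) x =
              ↑u⁻¹ * algebraMap S (Localization.Away t) (t * x) := by
            rw [map_mul, ← hu', ← mul_assoc, Units.inv_mul, one_mul]
          rw [h2]
          exact Ideal.mul_mem_left _ _ (Ideal.mem_map_of_mem _ (ht x hx))
      rw [hJK]
      exact locGen_map C _ (RingHom.flat_algebraMap_iff.mpr
        (IsLocalization.flat (Localization.Away t) (Submonoid.powers t))) J h
    · change LocGen C (I₁.map (algebraMap R (Localization.Away (a k))))
      intro 𝔮 h𝔮
      exfalso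
      apply 𝔮.isPrime.ne_top
      apply Ideal.eq_top_of_isUnit_mem _ (h𝔮 (Ideal.mem_map_of_mem _ (haI k)))
      exact IsLocalization.Away.algebraMap_isUnit (a k)

end Groth.Agent.Helper3.SmKregB
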