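import Mathlib
import Groth.Agent.Helper3.SmKregB
import Groth.Agent.Helper3.KzPoly
import Groth.Agent.Helper3.RegDownB
import Groth.Agent.Helper3.FFDescK

set_option autoImplicit false
set_option linter.style.haveILetI false
set_option linter.unusedSectionVars false
set_option linter.unusedVariables false
set_option linter.style.haveILetI false
set_option linter.unusedSectionVars false
set_option linter.unusedVariables false

/-!
# Regular ideals and étale coordinates
-/

namespace Groth.Agent.Helper3.SmKregC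
open Groth.Agent.Helper3.FFDesc Groth.Agent.Helper3.FFDescS Groth.Agent.Helper3.RegDown
  Groth.Agent.Helper3.SmKregA Groth.Agent.Helper3.SmKregB Groth.Agent.Helper3.RegCancel
open MvPolynomial

universe u

variable (Cl : RegClass.{u})

section etale
variable {R S : Type u} [CommRing R] [CommRing S] [Algebra R S] [Algebra.Etale R S]

lemma fg_of_locGen {T : Type u} [CommRing T] (J : Ideal T) (h : LocGen Cl J) : J.FG := by
  apply fg_of_loc
  intro 𝔮 h𝔮 hJ
  obtain ⟨g, hg, l, _, hl⟩ := h ⟨𝔮, h𝔮⟩ hJ
  refine ⟨g, hg, ?_⟩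
  rw [hl]
  exact Submodule.fg_span (List.finite_toSet l)

lemma comap_fg (J : Ideal S) (hsurj : ∀ s : S, ∃ r : R, s - algebraMap R S r ∈ J) (hJ : J.FG) :
    (J.comap (algebraMap R S)).FG := by
  haveI : Algebra.FinitePresentation R (S ⧸ J) := Algebra.FinitePresentation.quotient hJ
  have hs : Function.Surjective (Algebra.ofId R (S ⧸ J)) := by
    intro z
    obtain ⟨s, rfl⟩ := Ideal.Quotient.mk_surjective z
    obtain ⟨r, hr⟩ := hsurj s
    exact ⟨r, (Ideal.Quotient.eq.mpr hr).symm⟩
  have := Algebra.FinitePresentation.ker_fG_of_surjective (Algebra.ofId R (S ⧸ J)) hs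
  convert this using 1
  ext r
  rw [Ideal.mem_comap, RingHom.mem_ker]
  change _ ↔ Ideal.Quotient.mk J (algebraMap R S r) = 0
  rw [Ideal.Quotient.eq_zero_iff_mem]

/-- for an étale algebra `R → S` and an ideal `J` of `S` with `R → S/J` surjective, `J` is locally
generated by a `C`-regular sequence iff `J ∩ R` is -/
theorem etale_iff (J : Ideal S) (hsurj : ∀ s : S, ∃ r : R, s - algebraMap R S r ∈ J) :
    LocGen Cl J ↔ LocGen Cl (J.comap (algebraMap R S)) := by
  obtain ⟨t, ht1, ht⟩ := exists_idem J hsurj
  constructor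
  · intro h
    exact locGen_comap Cl J hsurj t ht1 ht (comap_fg J hsurj (fg_of_locGen Cl J h)) h
  · intro h
    exact locGen_of_mul_mem Cl _ J Ideal.map_comap_le t ht1 ht
      (locGen_map Cl _ (RingHom.flat_algebraMap_iff.mpr inferInstance) _ h)

end etale

section poly
variable {A B Q : Type u} [CommRing A] [CommRing B] [CommRing Q] {n : ℕ}
  [Algebra (MvPolynomial (Fin n) A) B] [Algebra.Etale (MvPolynomial (Fin n) A) B]
  (π : A →+* Q) (hπ : Function.Surjective π) (πB : B →+* Q)
  (hcomp : ∀ a, πB (algebraMap (MvPolynomial (Fin n) A) B (C a)) = π a)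

include hπ hcomp in
lemma exists_eval : ∃ h : Fin n → A,
    (RingHom.ker πB).comap (algebraMap (MvPolynomial (Fin n) A) B) =
      (RingHom.ker π).comap (aeval h : MvPolynomial (Fin n) A →ₐ[A] A).toRingHom := by
  choose h hh using fun i : Fin n => hπ (πB (algebraMap (MvPolynomial (Fin n) A) B (X i)))
  refine ⟨h, ?_⟩
  have key : πB.comp (algebraMap (MvPolynomial (Fin n) A) B) =
      π.comp (aeval h : MvPolynomial (Fin n) A →ₐ[A] A).toRingHom := by
    apply MvPolynomial.ringHom_ext
    · intro a
      simp [hcomp]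
    · intro i
      simp [hh]
  rw [RingHom.comap_ker, RingHom.comap_ker, key]

include hπ hcomp in
lemma hsurj' : ∀ s : B, ∃ r : MvPolynomial (Fin n) A,
    s - algebraMap (MvPolynomial (Fin n) A) B r ∈ RingHom.ker πB := by
  intro s
  obtain ⟨a, ha⟩ := hπ (πB s)
  refine ⟨C a, ?_⟩
  rw [RingHom.mem_ker, map_sub, hcomp, ha, sub_self]

include hπ hcomp in
/-- **Koszul-regular ideals and étale coordinates** -/
theorem kreg_iff : LCI.IsKoszulRegularIdeal (RingHom.ker π) ↔
    LCI.IsKoszulRegularIdeal (RingHom.ker πB) := by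
  obtain ⟨h, hh⟩ := exists_eval π hπ πB hcomp
  have h1 := etale_iff Groth.Agent.Helper3.FFDescK.kregClass (RingHom.ker πB) (hsurj' π hπ πB hcomp)
  rw [hh] at h1
  constructor
  · intro hK
    exact h1.mpr (KzPoly.poly_up h _ hK)
  · intro hK
    exact KzPoly.poly_down h _ (h1.mp hK)

include hπ hcomp in
/-- going down for a general class with cancellation -/
theorem down_generic (hC : Cancel1 Cl) (hK : LocGen Cl (RingHom.ker πB)) :
    LocGen Cl (RingHom.ker π) := by
  obtain ⟨h, hh⟩ := exists_eval π hπ πB hcomp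
  have h1 := (etale_iff Cl (RingHom.ker πB) (hsurj' π hπ πB hcomp)).mp hK
  rw [hh] at h1
  refine RegDown.main Cl hC (aeval h : MvPolynomial (Fin n) A →ₐ[A] A).toRingHom
    (KzPoly.aeval_surjective h) ?_ _ ?_ h1
  · rw [KzPoly.ker_aeval]
    exact Submodule.fg_span (List.finite_toSet _)
  · intro q hq hle x hx hxq
    -- `q = p.comap ev`
    set ev := (aeval h : MvPolynomial (Fin n) A →ₐ[A] A).toRingHom with hev
    have hkq : RingHom.ker ev ≤ q := by
      refine le_trans ?_ hle
      intro y hy
      rw [Ideal.mem_comap, (RingHom.mem_ker).1 hy]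
      exact Ideal.zero_mem _
    haveI hp : (q.map ev).IsPrime := Ideal.map_isPrime_of_surjective (KzPoly.aeval_surjective h) hkq
    have hqc : (q.map ev).comap ev = q := by
      rw [Ideal.comap_map_of_surjective ev (KzPoly.aeval_surjective h), ← RingHom.ker_eq_comap_bot]
      exact sup_eq_left.mpr hkq
    have hKp : RingHom.ker π ≤ q.map ev := by
      rw [← Ideal.map_comap_of_surjective ev (KzPoly.aeval_surjective h) (RingHom.ker π)]
      exact Ideal.map_mono hle
    rw [KzPoly.ker_aeval] at hx
    have hx' : x ∈ Ideal.span (Set.range fun j : Fin n => (X j - C (h j) : MvPolynomial (Fin n) A)) := by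
      have h2 : Ideal.ofList (List.ofFn fun j : Fin n => (X j - C (h j) : MvPolynomial (Fin n) A)) =
          Ideal.span (Set.range fun j : Fin n => (X j - C (h j) : MvPolynomial (Fin n) A)) :=
        ofList_ofFn _
      rwa [h2] at hx
    obtain ⟨c, rfl⟩ := (Ideal.mem_span_range_iff_exists_fun).mp hx'
    have hc : ∀ j, c j ∈ q := by
      intro j
      have := KzPoly.li h (RingHom.ker π) (q.map ev) hKp c (by rw [hqc]; exact hxq) j
      rwa [hqc] at this
    refine Ideal.sum_mem _ fun j _ => Ideal.mul_mem_mul (hc j) ?_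
    rw [KzPoly.ker_aeval]
    exact Ideal.subset_span (by simp [List.mem_ofFn])

end poly

end Groth.Agent.Helper3.SmKregC
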