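import Mathlib
import Groth.Agent.Helper3.SmKregC

set_option autoImplicit false
set_option linter.style.haveILetI false
set_option linter.unusedSectionVars false
set_option linter.unusedVariables false
set_option linter.style.haveILetI false
set_option linter.unusedSectionVars false
set_option linter.unusedVariables false

/-!
# Regular ideals and smooth ring maps
-/

namespace Groth.Agent.Helper3.SmKregD
open Groth.Agent.Helper3.FFDesc Groth.Agent.Helper3.FFDescS Groth.Agent.Helper3.RegDown
  Groth.Agent.Helper3.SmKregA Groth.Agent.Helper3.SmKregB Groth.Agent.Helper3.SmKregC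
  Groth.Agent.Helper3.RegCancel Groth.Agent.Helper3.KzLoc

universe u

variable (Cl : RegClass.{u})

/-- `LocGen` is local: it can be checked on basic open neighbourhoods of the primes containing the
ideal -/
theorem locGen_of_forall_away {S : Type u} [CommRing S] (K : Ideal S)
    (h : ∀ q : Ideal S, q.IsPrime → K ≤ q → ∃ g : S, g ∉ q ∧
      ∃ (T : Type u) (_ : CommRing T) (_ : Algebra S T) (_ : IsLocalization.Away g T),
        LocGen Cl (K.map (algebraMap S T))) : LocGen Cl K := by
  apply locGen_of_away
  intro 𝔮 h𝔮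
  obtain ⟨g, hg, T, _, _, _, hT⟩ := h 𝔮.asIdeal 𝔮.isPrime h𝔮
  have hdisj : Disjoint (Submonoid.powers g : Set S) (𝔮.asIdeal : Set S) := by
    rw [Ideal.disjoint_powers_iff_notMem _ 𝔮.isPrime.isRadical]
    exact hg
  haveI hQ : (𝔮.asIdeal.map (algebraMap S T)).IsPrime :=
    IsLocalization.isPrime_of_isPrime_disjoint (Submonoid.powers g) _ _ 𝔮.isPrime hdisj
  have hcm : (𝔮.asIdeal.map (algebraMap S T)).comap (algebraMap S T) = 𝔮.asIdeal :=
    IsLocalization.comap_map_of_isPrime_disjoint (Submonoid.powers g) _ 𝔮.isPrime hdisj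
  obtain ⟨g₂, hg₂, l, hl, hKl⟩ := hT ⟨𝔮.asIdeal.map (algebraMap S T), hQ⟩ (Ideal.map_mono h𝔮)
  set x := (IsLocalization.Away.sec g g₂).1 with hx
  have hass : Associated (algebraMap S T x) g₂ := IsLocalization.Away.associated_sec_fst g g₂
  haveI : IsLocalization.Away (g * x) (Localization.Away g₂) :=
    IsLocalization.Away.mul_of_associated g x g₂ hass
  have hxq : x ∉ 𝔮.asIdeal := by
    intro hc
    apply hg₂
    have h1 : algebraMap S T x ∈ 𝔮.asIdeal.map (algebraMap S T) := Ideal.mem_map_of_mem _ hc
    obtain ⟨u, hu⟩ := hass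
    rw [← hu]
    exact Ideal.mul_mem_right _ _ h1
  refine ⟨g * x, 𝔮.isPrime.mul_notMem hg hxq, Localization.Away g₂, inferInstance, inferInstance,
    inferInstance, l, hl, ?_⟩
  rw [IsScalarTower.algebraMap_eq S T (Localization.Away g₂), ← Ideal.map_map, hKl]

section smooth
variable {A A'' Q : Type u} [CommRing A] [CommRing A''] [CommRing Q]
  (φ : A →+* A'') (hφ : φ.Smooth) (π : A →+* Q) (hπ : Function.Surjective π)
  (π'' : A'' →+* Q) (hπ'' : Function.Surjective π'') (hcomp : ∀ x, π'' (φ x) = π x)

include hφ hπ hπ'' hcomp in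
/-- local étale coordinates around a prime containing `ker π''` -/
theorem exists_local (q'' : Ideal A'') [q''.IsPrime] (hq : RingHom.ker π'' ≤ q'') :
    ∃ (a : A) (g : A''), a ∉ q''.comap φ ∧ g ∉ q'' ∧
      ∃ (B : Type u) (_ : CommRing B) (_ : Algebra A'' B) (_ : IsLocalization.Away g B),
        (LCI.IsKoszulRegularIdeal ((RingHom.ker π).map (algebraMap A (Localization.Away a))) ↔
          LCI.IsKoszulRegularIdeal ((RingHom.ker π'').map (algebraMap A'' B))) ∧
        ∀ Cl : RegClass.{u}, Cancel1 Cl → LocGen Cl ((RingHom.ker π'').map (algebraMap A'' B)) →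
          LocGen Cl ((RingHom.ker π).map (algebraMap A (Localization.Away a))) := by
  letI := φ.toAlgebra
  haveI : Algebra.Smooth A A'' := hφ
  haveI : Algebra.IsSmoothAt A q'' := inferInstance
  obtain ⟨s, hs, hstd⟩ := Algebra.IsSmoothAt.exists_notMem_isStandardSmooth A q''
  obtain ⟨a, ha⟩ := hπ (π'' s)
  have hφalg : ∀ x, algebraMap A A'' x = φ x := fun x => rfl
  -- the prime of `Q`
  haveI hp : (q''.map π'').IsPrime := Ideal.map_isPrime_of_surjective hπ'' hq
  have hqc : (q''.map π'').comap π'' = q'' := by
    rw [Ideal.comap_map_of_surjective π'' hπ'', ← RingHom.ker_eq_comap_bot]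
    exact sup_eq_left.mpr hq
  have hsq : π'' s ∉ q''.map π'' := fun hc => hs (by rw [← hqc]; exact hc)
  have haq : a ∉ q''.comap φ := by
    intro hc
    apply hsq
    rw [← ha, ← hcomp]
    exact Ideal.mem_map_of_mem _ hc
  let T := Localization.Away s
  let f : A →+* T := algebraMap A T
  have hf : f.IsStandardSmooth := RingHom.isStandardSmooth_algebraMap.mpr hstd
  let Aa := Localization.Away a
  let B := Localization.Away (f a)
  have hfa : f a = algebraMap A'' T (φ a) := IsScalarTower.algebraMap_apply A A'' T a
  haveI hBaway : IsLocalization.Away (s * φ a) B := by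
    have : IsLocalization.Away (algebraMap A'' T (φ a)) B := by
      rw [← hfa]; infer_instance
    exact IsLocalization.Away.mul' T B s (φ a)
  let φa : Aa →+* B := IsLocalization.Away.map Aa B f a
  have hφa : φa.IsStandardSmooth :=
    RingHom.isStandardSmooth_localizationPreserves.away f a Aa B hf
  set g := s * φ a with hg
  have hgq : g ∉ q'' := Ideal.IsPrime.mul_notMem inferInstance hs haq
  have hπg : π'' g = π a * π a := by rw [hg, map_mul, hcomp, ha]
  let Q' := Localization.Away (π'' g)
  haveI hQ'a : IsLocalization.Away (π a) Q' := by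
    have hu : IsUnit (algebraMap Q Q' (π a)) := by
      have h0 := IsLocalization.Away.algebraMap_isUnit (S := Q') (π'' g)
      have h1 : algebraMap Q Q' (π'' g) = algebraMap Q Q' (π a) * algebraMap Q Q' (π a) := by
        rw [← map_mul]
        exact congrArg (algebraMap Q Q') hπg
      rw [h1] at h0
      exact isUnit_of_mul_isUnit_left h0
    refine IsLocalization.of_le (M := Submonoid.powers (π'' g)) (Submonoid.powers (π a)) ?_ ?_
    · rintro _ ⟨k, rfl⟩
      show (π'' g) ^ k ∈ Submonoid.powers (π a)
      rw [hπg]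
      exact ⟨2 * k, by ring⟩
    · rintro _ ⟨k, rfl⟩
      rw [map_pow]
      exact hu.pow k
  let πa : Aa →+* Q' := IsLocalization.Away.map Aa Q' π a
  let πB : B →+* Q' := IsLocalization.Away.map B Q' π'' g
  have hπa : Function.Surjective πa := awayMap_surjective π hπ a Aa Q'
  have hkera : RingHom.ker πa = (RingHom.ker π).map (algebraMap A Aa) := ker_awayMap π a Aa Q'
  have hkerB : RingHom.ker πB = (RingHom.ker π'').map (algebraMap A'' B) :=
    ker_awayMap π'' g B Q'
  have hcompa : ∀ y : Aa, πB (φa y) = πa y := by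
    have : πB.comp φa = πa := by
      apply IsLocalization.ringHom_ext (Submonoid.powers a)
      ext x
      have h1 : φa (algebraMap A Aa x) = algebraMap T B (f x) := by
        simp [φa, IsLocalization.Away.map]
      have h2 : algebraMap T B (f x) = algebraMap A'' B (φ x) := by
        rw [show f x = algebraMap A'' T (φ x) from IsScalarTower.algebraMap_apply A A'' T x,
          ← IsScalarTower.algebraMap_apply A'' T B]
      have h3 : πB (algebraMap A'' B (φ x)) = algebraMap Q Q' (π'' (φ x)) := by
        simp [πB, IsLocalization.Away.map]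
      have h4 : πa (algebraMap A Aa x) = algebraMap Q Q' (π x) := by
        simp [πa, IsLocalization.Away.map]
      simp only [RingHom.coe_comp, Function.comp_apply]
      rw [h1, h2, h3, h4, hcomp]
    intro y
    exact congr($this y)
  obtain ⟨n, ψ, hψC, hψ⟩ := hφa.exists_etale_mvPolynomial
  letI algψ : Algebra (MvPolynomial (Fin n) Aa) B := ψ.toAlgebra
  haveI : Algebra.Etale (MvPolynomial (Fin n) Aa) B := hψ
  have hc : ∀ y : Aa, πB (algebraMap (MvPolynomial (Fin n) Aa) B (MvPolynomial.C y)) = πa y := by
    intro y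
    have : algebraMap (MvPolynomial (Fin n) Aa) B (MvPolynomial.C y) = φa y := congr($hψC y)
    rw [this, hcompa]
  refine ⟨a, g, haq, hgq, B, inferInstance, inferInstance, hBaway, ?_, ?_⟩
  · rw [← hkera, ← hkerB]
    exact kreg_iff πa hπa πB hc
  · intro Cl hCl h
    rw [← hkera]
    rw [← hkerB] at h
    exact down_generic Cl πa hπa πB hc hCl h

include hφ hπ hπ'' hcomp in
/-- **Koszul-regular ideals and smooth ring maps** -/
theorem kreg_iff_smooth : LCI.IsKoszulRegularIdeal (RingHom.ker π) ↔
    LCI.IsKoszulRegularIdeal (RingHom.ker π'') := by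
  constructor
  · intro h
    show LocGen Groth.Agent.Helper3.FFDescK.kregClass _
    apply locGen_of_forall_away
    intro q'' hq'' hle
    obtain ⟨a, g, ha, hg, B, _, _, _, hiff, -⟩ := exists_local φ hφ π hπ π'' hπ'' hcomp q'' hle
    refine ⟨g, hg, B, inferInstance, inferInstance, inferInstance, hiff.mp ?_⟩
    exact locGen_map Groth.Agent.Helper3.FFDescK.kregClass _ (RingHom.flat_algebraMap_iff.mpr
      (IsLocalization.flat (Localization.Away a) (Submonoid.powers a))) _ h
  · intro h
    show LocGen Groth.Agent.Helper3.FFDescK.kregClass _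
    apply locGen_of_forall_away
    intro p hp hle
    haveI hp' : (p.map π).IsPrime := Ideal.map_isPrime_of_surjective hπ hle
    have hpc : (p.map π).comap π = p := by
      rw [Ideal.comap_map_of_surjective π hπ, ← RingHom.ker_eq_comap_bot]
      exact sup_eq_left.mpr hle
    let q'' : Ideal A'' := (p.map π).comap π''
    haveI : q''.IsPrime := Ideal.comap_isPrime _ _
    have hle'' : RingHom.ker π'' ≤ q'' := by
      intro x hx
      show π'' x ∈ p.map π
      rw [(RingHom.mem_ker).mp hx]
      exact Ideal.zero_mem _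
    have hq''c : q''.comap φ = p := by
      rw [← hpc]
      ext x
      simp only [Ideal.mem_comap, q'', hcomp]
    obtain ⟨a, g, ha, hg, B, _, _, _, hiff, -⟩ := exists_local φ hφ π hπ π'' hπ'' hcomp q'' hle''
    refine ⟨a, hq''c ▸ ha, Localization.Away a, inferInstance, inferInstance, inferInstance,
      hiff.mpr ?_⟩
    exact locGen_map Groth.Agent.Helper3.FFDescK.kregClass _ (RingHom.flat_algebraMap_iff.mpr
      (IsLocalization.flat B (Submonoid.powers g))) _ h

include hφ hπ hπ'' hcomp in
/-- going down along a smooth ring map, for a class with cancellation -/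
theorem down_smooth (hCl : Cancel1 Cl) (h : LocGen Cl (RingHom.ker π'')) :
    LocGen Cl (RingHom.ker π) := by
  apply locGen_of_forall_away
  intro p hp hle
  haveI hp' : (p.map π).IsPrime := Ideal.map_isPrime_of_surjective hπ hle
  have hpc : (p.map π).comap π = p := by
    rw [Ideal.comap_map_of_surjective π hπ, ← RingHom.ker_eq_comap_bot]
    exact sup_eq_left.mpr hle
  let q'' : Ideal A'' := (p.map π).comap π''
  haveI : q''.IsPrime := Ideal.comap_isPrime _ _
  have hle'' : RingHom.ker π'' ≤ q'' := by
    intro x hx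
    show π'' x ∈ p.map π
    rw [(RingHom.mem_ker).mp hx]
    exact Ideal.zero_mem _
  have hq''c : q''.comap φ = p := by
    rw [← hpc]
    ext x
    simp only [Ideal.mem_comap, q'', hcomp]
  obtain ⟨a, g, ha, hg, B, _, _, _, -, hdown⟩ := exists_local φ hφ π hπ π'' hπ'' hcomp q'' hle''
  refine ⟨a, hq''c ▸ ha, Localization.Away a, inferInstance, inferInstance, inferInstance,
    hdown Cl hCl ?_⟩
  exact locGen_map _ _ (RingHom.flat_algebraMap_iff.mpr
    (IsLocalization.flat B (Submonoid.powers g))) _ h

end smooth

end Groth.Agent.Helper3.SmKregD
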