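import Mathlib
import Groth.Agent.Helper3.SmKregD
import Groth.Agent.Helper3.FFDescS2

set_option autoImplicit false
set_option linter.style.haveILetI false
set_option linter.unusedSectionVars false
set_option linter.unusedVariables false
set_option linter.style.haveILetI false
set_option linter.unusedSectionVars false
set_option linter.unusedVariables false

/-!
# Charts for a pair of immersions compatible with a morphism
-/

namespace Groth.Agent.Helper3.SmKregE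
open CategoryTheory Limits AlgebraicGeometry TopologicalSpace
open Groth.Agent.Helper3.FFDesc Groth.Agent.Lead

universe u

variable {X V V' : Scheme.{u}}

/-- simultaneous affine charts for immersions `j : X ⟶ V'` and `j ≫ p : X ⟶ V` -/
theorem exists_chart (j : X ⟶ V') [IsImmersion j] (p : V' ⟶ V) [IsImmersion (j ≫ p)] (x : X) :
    ∃ (U : V.Opens) (U'' : V'.Opens), IsAffineOpen U ∧ IsAffineOpen U'' ∧
      U ≤ (j ≫ p).coborderRange ∧ U'' ≤ j.coborderRange ∧ U'' ≤ p ⁻¹ᵁ U ∧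
      (j ≫ p) x ∈ U ∧ j x ∈ U'' ∧ (j ≫ p) ⁻¹ᵁ U = j ⁻¹ᵁ U'' := by
  have h1 : (j ≫ p) x ∈ (j ≫ p).coborderRange := subset_coborder ⟨x, rfl⟩
  obtain ⟨_, ⟨U₁, hU₁ : IsAffineOpen U₁, rfl⟩, hxU₁, hU₁le⟩ :=
    V.isBasis_affineOpens.exists_subset_of_mem_open h1 (j ≫ p).coborderRange.isOpen
  have hU₁le' : U₁ ≤ (j ≫ p).coborderRange := hU₁le
  have h2 : j x ∈ j.coborderRange ⊓ p ⁻¹ᵁ U₁ := ⟨subset_coborder ⟨x, rfl⟩, hxU₁⟩
  obtain ⟨_, ⟨U', hU' : IsAffineOpen U', rfl⟩, hxU', hU'le⟩ :=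
    V'.isBasis_affineOpens.exists_subset_of_mem_open h2 (j.coborderRange ⊓ p ⁻¹ᵁ U₁).isOpen
  have hU'le' : U' ≤ j.coborderRange ⊓ p ⁻¹ᵁ U₁ := hU'le
  have hU'c : U' ≤ j.coborderRange := hU'le'.trans inf_le_left
  have hU'p : U' ≤ p ⁻¹ᵁ U₁ := hU'le'.trans inf_le_right
  obtain ⟨hW₁, hsurj₁⟩ := OmegaCnD.affine_of_le_coborderRange (j ≫ p) hU₁ hU₁le'
  -- a basic open of `W₁` inside `j⁻¹ U'`
  have hxW' : x ∈ j ⁻¹ᵁ U' := hxU'
  have hxW₁ : x ∈ (j ≫ p) ⁻¹ᵁ U₁ := hxU₁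
  obtain ⟨c, hcle, hxc⟩ := hW₁.exists_basicOpen_le (V := j ⁻¹ᵁ U') ⟨x, hxW'⟩ hxW₁
  obtain ⟨a, ha⟩ := hsurj₁ c
  have hpre : (j ≫ p) ⁻¹ᵁ (V.basicOpen a) = X.basicOpen c := by
    rw [Scheme.preimage_basicOpen, ha]
  refine ⟨V.basicOpen a, V'.basicOpen (p.appLE U₁ U' hU'p a), hU₁.basicOpen a, hU'.basicOpen _,
    (V.basicOpen_le a).trans hU₁le', (V'.basicOpen_le _).trans hU'c, ?_, ?_, ?_, ?_⟩
  · -- `U'' ≤ p⁻¹ U`
    rw [Scheme.Hom.appLE]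
    have : V'.basicOpen ((p.app U₁ ≫ V'.presheaf.map (homOfLE hU'p).op) a) =
        U' ⊓ V'.basicOpen (p.app U₁ a) := Scheme.basicOpen_res _ _ _
    rw [this, Scheme.preimage_basicOpen]
    exact inf_le_right
  · show x ∈ (j ≫ p) ⁻¹ᵁ (V.basicOpen a)
    rw [hpre]
    exact hxc
  · show x ∈ j ⁻¹ᵁ (V'.basicOpen (p.appLE U₁ U' hU'p a))
    rw [Scheme.Hom.appLE]
    have : V'.basicOpen ((p.app U₁ ≫ V'.presheaf.map (homOfLE hU'p).op) a) =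
        U' ⊓ V'.basicOpen (p.app U₁ a) := Scheme.basicOpen_res _ _ _
    rw [this]
    refine ⟨hxW', ?_⟩
    show x ∈ j ⁻¹ᵁ (V'.basicOpen (p.app U₁ a))
    rw [← Scheme.preimage_basicOpen]
    show x ∈ (j ≫ p) ⁻¹ᵁ (V.basicOpen a)
    rw [hpre]
    exact hxc
  · rw [hpre, Scheme.Hom.appLE]
    have : V'.basicOpen ((p.app U₁ ≫ V'.presheaf.map (homOfLE hU'p).op) a) =
        U' ⊓ V'.basicOpen (p.app U₁ a) := Scheme.basicOpen_res _ _ _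
    rw [this, ← Scheme.preimage_basicOpen]
    have h3 : j ⁻¹ᵁ (U' ⊓ p ⁻¹ᵁ V.basicOpen a) = j ⁻¹ᵁ U' ⊓ (j ≫ p) ⁻¹ᵁ V.basicOpen a := rfl
    rw [h3, hpre]
    exact (inf_eq_right.mpr hcle).symm

end Groth.Agent.Helper3.SmKregE
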