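import Mathlib
import Groth.Agent.Helper3.SmKregE
import Groth.Agent.Helper3.FFDescQ
import Groth.Agent.Helper3.FFDescH

set_option autoImplicit false
set_option linter.style.haveILetI false
set_option linter.unusedSectionVars false
set_option linter.unusedVariables false
set_option linter.style.haveILetI false
set_option linter.unusedSectionVars false
set_option linter.unusedVariables false

/-!
# Regular immersions and smooth morphisms
-/

namespace Groth.Agent.Helper3.SmKregF
open CategoryTheory Limits AlgebraicGeometry TopologicalSpace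
open Groth.Agent.Helper3.FFDesc Groth.Agent.Helper3.FFDescS Groth.Agent.Lead
  Groth.Agent.Helper3.SmKregE Groth.Agent.Helper3.SmKregD Groth.Agent.Helper3.RegCancel

universe u

variable {X V V' : Scheme.{u}}

section rings
variable (j : X ⟶ V') [IsImmersion j] (p : V' ⟶ V) [IsImmersion (j ≫ p)]
  {U : V.Opens} {U'' : V'.Opens} (hU : IsAffineOpen U) (hU'' : IsAffineOpen U'')
  (hUc : U ≤ (j ≫ p).coborderRange) (hU''c : U'' ≤ j.coborderRange) (hle : U'' ≤ p ⁻¹ᵁ U)
  (heq : (j ≫ p) ⁻¹ᵁ U = j ⁻¹ᵁ U'')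

include hU'' hU''c heq in
/-- the ring data of a chart -/
theorem chart_rings :
    ∃ π'' : Γ(V', U'') →+* Γ(X, (j ≫ p) ⁻¹ᵁ U), Function.Surjective π'' ∧
      RingHom.ker π'' = RingHom.ker (j.app U'').hom ∧
      ∀ a, π'' ((p.appLE U U'' hle).hom a) = ((j ≫ p).app U).hom a := by
  have e : (j ≫ p) ⁻¹ᵁ U ≤ j ⁻¹ᵁ U'' := le_of_eq heq
  haveI hiso : IsIso (X.presheaf.map (homOfLE e).op) := by
    have : homOfLE e = eqToHom heq := Subsingleton.elim _ _
    rw [this]
    infer_instance
  have hbij : Function.Bijective (X.presheaf.map (homOfLE e).op).hom :=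
    ConcreteCategory.bijective_of_isIso (X.presheaf.map (homOfLE e).op)
  obtain ⟨-, hsurj⟩ := OmegaCnD.affine_of_le_coborderRange j hU'' hU''c
  refine ⟨(j.appLE U'' ((j ≫ p) ⁻¹ᵁ U) e).hom, ?_, ?_, ?_⟩
  · rw [Scheme.Hom.appLE]
    exact hbij.2.comp hsurj
  · rw [Scheme.Hom.appLE]
    ext a
    simp only [RingHom.mem_ker, CommRingCat.hom_comp, RingHom.coe_comp, Function.comp_apply]
    constructor
    · intro h
      apply hbij.1
      rw [h, map_zero]
    · intro h
      rw [h, map_zero]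
  · intro a
    have h1 := Scheme.Hom.appLE_comp_appLE j p U U'' ((j ≫ p) ⁻¹ᵁ U) hle e
    have h2 : (j ≫ p).appLE U ((j ≫ p) ⁻¹ᵁ U) le_rfl = (j ≫ p).app U :=
      Scheme.Hom.appLE_eq_app _
    have h3 := congr($h1 a)
    rw [← h2]
    exact h3

end rings

section main
variable (j : X ⟶ V') [IsImmersion j] (p : V' ⟶ V) [Smooth p] [IsImmersion (j ≫ p)]

/-- if the composite of an immersion with a smooth morphism is a Koszul-regular immersion, then so
is the immersion -/
theorem up (hi : RegImm.IsRegularImmersion .koszul (j ≫ p)) :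
    RegImm.IsRegularImmersion .koszul j := by
  refine ⟨inferInstance, fun x => ?_⟩
  obtain ⟨U, U'', hU, hU'', hUc, hU''c, hle, hxU, hxU'', heq⟩ := exists_chart j p x
  obtain ⟨hW, hsurj⟩ := OmegaCnD.affine_of_le_coborderRange (j ≫ p) hU hUc
  obtain ⟨hW'', hsurj''⟩ := OmegaCnD.affine_of_le_coborderRange j hU'' hU''c
  haveI : IsClosedImmersion ((j ≫ p) ∣_ U) :=
    Groth.Agent.Helper8.RegSeqE.isClosedImmersion_restrict_of_surjective _ hU hW hsurj
  haveI : IsClosedImmersion (j ∣_ U'') :=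
    Groth.Agent.Helper8.RegSeqE.isClosedImmersion_restrict_of_surjective _ hU'' hW'' hsurj''
  obtain ⟨π'', hπ'', hker, hcomp⟩ := chart_rings j p hU'' hU''c hle heq
  have h1 : LocGen FFDescK.kregClass (RingHom.ker ((j ≫ p).app U).hom) :=
    locGen_of_regImm FFDescK.kregClass .koszul (fun R _ l => Iff.rfl) (j ≫ p) hi U hU
  have h2 := (kreg_iff_smooth (p.appLE U U'' hle).hom (p.smooth_appLE hU hU'' hle)
    ((j ≫ p).app U).hom hsurj π'' hπ'' hcomp).mp h1
  rw [hker] at h2
  exact regImmAt_of_locGen FFDescK.kregClass .koszul (fun R _ l => Iff.rfl) j U'' hU'' h2 x hxU''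

/-- going down along a smooth morphism, for a class with cancellation -/
theorem down (C : RegClass.{u}) (k : RegImm.Kind)
    (hk : ∀ (R : Type u) [CommRing R] (l : List R), k.Seq R l ↔ C.P R l) (hC : Cancel1 C)
    (hj : RegImm.IsRegularImmersion k j) : RegImm.IsRegularImmersion k (j ≫ p) := by
  refine ⟨inferInstance, fun x => ?_⟩
  obtain ⟨U, U'', hU, hU'', hUc, hU''c, hle, hxU, hxU'', heq⟩ := exists_chart j p x
  obtain ⟨hW, hsurj⟩ := OmegaCnD.affine_of_le_coborderRange (j ≫ p) hU hUc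
  obtain ⟨hW'', hsurj''⟩ := OmegaCnD.affine_of_le_coborderRange j hU'' hU''c
  haveI : IsClosedImmersion ((j ≫ p) ∣_ U) :=
    Groth.Agent.Helper8.RegSeqE.isClosedImmersion_restrict_of_surjective _ hU hW hsurj
  haveI : IsClosedImmersion (j ∣_ U'') :=
    Groth.Agent.Helper8.RegSeqE.isClosedImmersion_restrict_of_surjective _ hU'' hW'' hsurj''
  obtain ⟨π'', hπ'', hker, hcomp⟩ := chart_rings j p hU'' hU''c hle heq
  have h1 : LocGen C (RingHom.ker (j.app U'').hom) := locGen_of_regImm C k hk j hj U'' hU''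
  rw [← hker] at h1
  have h2 := down_smooth C (p.appLE U U'' hle).hom (p.smooth_appLE hU hU'' hle)
    ((j ≫ p).app U).hom hsurj π'' hπ'' hcomp hC h1
  exact regImmAt_of_locGen C k hk (j ≫ p) U hU h2 x hxU

/-- going down along a smooth morphism, Koszul case -/
theorem down_koszul (hj : RegImm.IsRegularImmersion .koszul j) :
    RegImm.IsRegularImmersion .koszul (j ≫ p) := by
  refine ⟨inferInstance, fun x => ?_⟩
  obtain ⟨U, U'', hU, hU'', hUc, hU''c, hle, hxU, hxU'', heq⟩ := exists_chart j p x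
  obtain ⟨hW, hsurj⟩ := OmegaCnD.affine_of_le_coborderRange (j ≫ p) hU hUc
  obtain ⟨hW'', hsurj''⟩ := OmegaCnD.affine_of_le_coborderRange j hU'' hU''c
  haveI : IsClosedImmersion ((j ≫ p) ∣_ U) :=
    Groth.Agent.Helper8.RegSeqE.isClosedImmersion_restrict_of_surjective _ hU hW hsurj
  haveI : IsClosedImmersion (j ∣_ U'') :=
    Groth.Agent.Helper8.RegSeqE.isClosedImmersion_restrict_of_surjective _ hU'' hW'' hsurj''
  obtain ⟨π'', hπ'', hker, hcomp⟩ := chart_rings j p hU'' hU''c hle heq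
  have h1 : LocGen FFDescK.kregClass (RingHom.ker (j.app U'').hom) :=
    locGen_of_regImm FFDescK.kregClass .koszul (fun R _ l => Iff.rfl) j hj U'' hU''
  rw [← hker] at h1
  have h2 := (kreg_iff_smooth (p.appLE U U'' hle).hom (p.smooth_appLE hU hU'' hle)
    ((j ≫ p).app U).hom hsurj π'' hπ'' hcomp).mpr h1
  exact regImmAt_of_locGen FFDescK.kregClass .koszul (fun R _ l => Iff.rfl) (j ≫ p) U hU h2 x hxU

end main

end Groth.Agent.Helper3.SmKregF
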