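import Mathlib
import Groth.Agent.Helper3.SmKregF

set_option autoImplicit false
set_option linter.style.haveILetI false
set_option linter.unusedSectionVars false
set_option linter.unusedVariables false
set_option linter.style.haveILetI false
set_option linter.unusedSectionVars false
set_option linter.unusedVariables false

/-!
# Two immersions into smooth schemes
-/

namespace Groth.Agent.Helper3.SmKregG
open CategoryTheory Limits AlgebraicGeometry TopologicalSpace
open Groth.Agent.Helper3.SmKregF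

universe u

/-- two immersions of `U` into schemes smooth over `S`: one is Koszul-regular iff the other is -/
theorem two_smooth {S U P P' : Scheme.{u}} (p : P ⟶ S) (p' : P' ⟶ S) [Smooth p] [Smooth p']
    (i : U ⟶ P) (i' : U ⟶ P') [IsImmersion i] [IsImmersion i'] (h : i ≫ p = i' ≫ p')
    (hi : RegImm.IsRegularImmersion .koszul i) : RegImm.IsRegularImmersion .koszul i' := by
  let j : U ⟶ pullback p p' := pullback.lift i i' h
  have h1 : j ≫ pullback.fst p p' = i := pullback.lift_fst _ _ _
  have h2 : j ≫ pullback.snd p p' = i' := pullback.lift_snd _ _ _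
  haveI : IsImmersion (j ≫ pullback.fst p p') := by rw [h1]; infer_instance
  haveI : IsImmersion (j ≫ pullback.snd p p') := by rw [h2]; infer_instance
  haveI : IsImmersion j := IsImmersion.of_comp j (pullback.fst p p')
  have hj : RegImm.IsRegularImmersion .koszul j := up j (pullback.fst p p') (h1 ▸ hi)
  have := down_koszul j (pullback.snd p p') hj
  rwa [h2] at this

theorem s9728 {S U P P' : Scheme.{u}} (q : U ⟶ S)
    (p : P ⟶ S) (p' : P' ⟶ S) [Smooth p] [Smooth p'] (i : U ⟶ P) (i' : U ⟶ P') [IsImmersion i]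
    [IsImmersion i'] (hi : i ≫ p = q) (hi' : i' ≫ p' = q) (u : U) :
    (∃ V : U.Opens, u ∈ V ∧ RegImm.IsRegularImmersion RegImm.Kind.koszul (V.ι ≫ i)) ↔
      (∃ V : U.Opens, u ∈ V ∧ RegImm.IsRegularImmersion RegImm.Kind.koszul (V.ι ≫ i')) := by
  constructor
  · rintro ⟨V, hu, hV⟩
    refine ⟨V, hu, two_smooth p p' (V.ι ≫ i) (V.ι ≫ i') ?_ hV⟩
    rw [Category.assoc, Category.assoc, hi, hi']
  · rintro ⟨V, hu, hV⟩
    refine ⟨V, hu, two_smooth p' p (V.ι ≫ i') (V.ι ≫ i) ?_ hV⟩
    rw [Category.assoc, Category.assoc, hi, hi']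

theorem s9729 {X Y S : Scheme.{u}} (f : X ⟶ Y) (g : Y ⟶ S) [Smooth g]
    (h : ∀ x : X, Synt.IsKoszulAt (f ≫ g) x) (x : X) : Synt.IsKoszulAt f x := by
  obtain ⟨U, P, i, π, hxU, hlft, hi, hπ, hcomm⟩ := h x
  haveI := hπ
  haveI := hi.1
  have hcomm' : i ≫ π = (U.ι ≫ f) ≫ g := by rw [hcomm, Category.assoc]
  let j : (U : Scheme.{u}) ⟶ pullback π g := pullback.lift i (U.ι ≫ f) hcomm'
  have h1 : j ≫ pullback.fst π g = i := pullback.lift_fst _ _ _
  have h2 : j ≫ pullback.snd π g = U.ι ≫ f := pullback.lift_snd _ _ _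
  haveI : IsImmersion (j ≫ pullback.fst π g) := by rw [h1]; infer_instance
  haveI : IsImmersion j := IsImmersion.of_comp j (pullback.fst π g)
  have hj : RegImm.IsRegularImmersion .koszul j := up j (pullback.fst π g) (h1 ▸ hi)
  haveI : LocallyOfFiniteType ((U.ι ≫ f) ≫ g) := by
    rw [Category.assoc]; exact hlft
  refine ⟨U, pullback π g, j, pullback.snd π g, hxU,
    locallyOfFiniteType_of_comp (U.ι ≫ f) g, hj, inferInstance, h2⟩

end Groth.Agent.Helper3.SmKregG
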