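import Mathlib
import Groth.Agent.Helper3.SmKregG
import Groth.Agent.Lead.RelBCb

set_option autoImplicit false
set_option linter.style.haveILetI false
set_option linter.unusedSectionVars false
set_option linter.unusedVariables false
set_option linter.style.haveILetI false
set_option linter.unusedSectionVars false
set_option linter.unusedVariables false

/-!
# Regular immersions are local on the source; lci morphisms into smooth schemes
-/

namespace Groth.Agent.Helper3.SmKregH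
open CategoryTheory Limits AlgebraicGeometry TopologicalSpace
open Groth.Agent.Helper3.SmKregF Groth.Agent.Lead

universe u

/-- being a regular immersion at a point can be checked on an open neighbourhood in the source -/
theorem regImmAt_of_restrict {X Z : Scheme.{u}} (k : RegImm.Kind) (i : X ⟶ Z) [IsImmersion i]
    (W : X.Opens) (x : X) (hx : x ∈ W)
    (h : RegImm.IsRegularImmersionAt k (W.ι ≫ i) ⟨x, hx⟩) : RegImm.IsRegularImmersionAt k i x := by
  obtain ⟨⟨U₀, hU₀⟩, hxU₀, hcl₀, rs, hrs, hker⟩ := h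
  haveI := hcl₀
  -- an open `O` of `Z` with `i⁻¹ O = W`
  obtain ⟨O, hO, hOW⟩ := i.isEmbedding.isInducing.isOpen_iff.mp W.isOpen
  let O' : Z.Opens := ⟨O, hO⟩
  have hOW' : i ⁻¹ᵁ O' = W := Opens.ext hOW
  have hix : (W.ι ≫ i) ⟨x, hx⟩ = i x := rfl
  have hxO : i x ∈ O' := by
    show x ∈ i ⁻¹ᵁ O'
    rw [hOW']
    exact hx
  have h1 : i x ∈ U₀ ⊓ O' ⊓ i.coborderRange :=
    ⟨⟨hix ▸ hxU₀, hxO⟩, subset_coborder ⟨x, rfl⟩⟩
  obtain ⟨_, ⟨U, hU : IsAffineOpen U, rfl⟩, hxU, hUle⟩ :=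
    Z.isBasis_affineOpens.exists_subset_of_mem_open h1 (U₀ ⊓ O' ⊓ i.coborderRange).isOpen
  have hUle' : U ≤ U₀ ⊓ O' ⊓ i.coborderRange := hUle
  have hUU₀ : U ≤ U₀ := hUle'.trans (inf_le_left.trans inf_le_left)
  have hUO : U ≤ O' := hUle'.trans (inf_le_left.trans inf_le_right)
  have hUc : U ≤ i.coborderRange := hUle'.trans inf_le_right
  obtain ⟨hcl, hrs', hker'⟩ := RelBCb.kind_restrict k (W.ι ≫ i) hU₀ hU hUU₀ rs hrs hker
    ⟨x, hx⟩ hxU
  obtain ⟨hW, hsurj⟩ := OmegaCnD.affine_of_le_coborderRange i hU hUc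
  haveI : IsClosedImmersion (i ∣_ U) :=
    Groth.Agent.Helper8.RegSeqE.isClosedImmersion_restrict_of_surjective _ hU hW hsurj
  refine ⟨⟨U, hU⟩, hxU, inferInstance, _, hrs', ?_⟩
  rw [← hker']
  have hle : i ⁻¹ᵁ U ≤ W.ι.opensRange := by
    rw [Scheme.Opens.opensRange_ι, ← hOW']
    exact fun y hy => hUO hy
  haveI : IsIso (W.ι.app (i ⁻¹ᵁ U)) := W.ι.isIso_app _ hle
  have hinj : Function.Injective (W.ι.app (i ⁻¹ᵁ U)).hom :=
    (ConcreteCategory.bijective_of_isIso (W.ι.app (i ⁻¹ᵁ U))).1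
  ext a
  rw [RingHom.mem_ker, RingHom.mem_ker]
  have h2 : ((W.ι ≫ i).app U).hom a = (W.ι.app (i ⁻¹ᵁ U)).hom ((i.app U).hom a) := rfl
  rw [h2]
  exact (map_eq_zero_iff _ hinj).symm

theorem s8656 {X Y Z : Scheme.{u}} (f : X ⟶ Y) (hf : ∀ x : X, Synt.IsKoszulAt f x)
    (p : Z ⟶ Y) [Smooth p] (i : X ⟶ Z) [IsImmersion i] (h : i ≫ p = f) :
    RegImm.IsRegularImmersion .koszul i := by
  refine ⟨inferInstance, fun x => ?_⟩
  obtain ⟨U, P, i₀, π, hxU, hlft, hi₀, hπ, hcomm⟩ := hf x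
  haveI := hπ
  haveI := hi₀.1
  have hc : i₀ ≫ π = (U.ι ≫ i) ≫ p := by rw [hcomm, Category.assoc, h]
  let j : (U : Scheme.{u}) ⟶ pullback π p := pullback.lift i₀ (U.ι ≫ i) hc
  have h1 : j ≫ pullback.fst π p = i₀ := pullback.lift_fst _ _ _
  have h2 : j ≫ pullback.snd π p = U.ι ≫ i := pullback.lift_snd _ _ _
  haveI : IsImmersion (j ≫ pullback.fst π p) := by rw [h1]; infer_instance
  haveI : IsImmersion (j ≫ pullback.snd π p) := by rw [h2]; infer_instance
  haveI : IsImmersion j := IsImmersion.of_comp j (pullback.fst π p)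
  have hj : RegImm.IsRegularImmersion .koszul j := up j (pullback.fst π p) (h1 ▸ hi₀)
  have h3 := down_koszul j (pullback.snd π p) hj
  rw [h2] at h3
  exact regImmAt_of_restrict .koszul i U x hxU (h3.2 ⟨x, hxU⟩)

end Groth.Agent.Helper3.SmKregH
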