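import Mathlib
import Groth.Agent.Helper3.SmKregH

set_option autoImplicit false
set_option linter.style.haveILetI false
set_option linter.unusedSectionVars false
set_option linter.unusedVariables false
set_option linter.style.haveILetI false
set_option linter.unusedSectionVars false
set_option linter.unusedVariables false

/-!
# Restricting regular immersions and Koszul morphisms to opens of the source
-/

namespace Groth.Agent.Helper3.KosBridgeA
open CategoryTheory Limits AlgebraicGeometry TopologicalSpace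
open Groth.Agent.Lead

universe u

/-- precomposing an immersion that is regular at `j w` with an open immersion `j` -/
theorem regImmAt_comp_openImmersion {W X Z : Scheme.{u}} (k : RegImm.Kind) (j : W ⟶ X)
    [IsOpenImmersion j] (i : X ⟶ Z) [IsImmersion i] (w : W)
    (h : RegImm.IsRegularImmersionAt k i (j w)) : RegImm.IsRegularImmersionAt k (j ≫ i) w := by
  obtain ⟨⟨U₀, hU₀⟩, hxU₀, hcl₀, rs, hrs, hker⟩ := h
  haveI := hcl₀
  obtain ⟨O, hO, hOW⟩ := i.isEmbedding.isInducing.isOpen_iff.mp j.opensRange.isOpen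
  let O' : Z.Opens := ⟨O, hO⟩
  have hOW' : i ⁻¹ᵁ O' = j.opensRange := Opens.ext hOW
  have hxO : i (j w) ∈ O' := by
    show j w ∈ i ⁻¹ᵁ O'
    rw [hOW']
    exact ⟨w, rfl⟩
  have h1 : i (j w) ∈ U₀ ⊓ O' ⊓ i.coborderRange :=
    ⟨⟨hxU₀, hxO⟩, subset_coborder ⟨j w, rfl⟩⟩
  obtain ⟨_, ⟨U, hU : IsAffineOpen U, rfl⟩, hxU, hUle⟩ :=
    Z.isBasis_affineOpens.exists_subset_of_mem_open h1 (U₀ ⊓ O' ⊓ i.coborderRange).isOpen
  have hUle' : U ≤ U₀ ⊓ O' ⊓ i.coborderRange := hUle
  have hUU₀ : U ≤ U₀ := hUle'.trans (inf_le_left.trans inf_le_left)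
  have hUO : U ≤ O' := hUle'.trans (inf_le_left.trans inf_le_right)
  have hUc : U ≤ i.coborderRange := hUle'.trans inf_le_right
  obtain ⟨hcl, hrs', hker'⟩ := RelBCb.kind_restrict k i hU₀ hU hUU₀ rs hrs hker (j w) hxU
  obtain ⟨hW, hsurj⟩ := OmegaCnD.affine_of_le_coborderRange i hU hUc
  have hle : i ⁻¹ᵁ U ≤ j.opensRange := by
    rw [← hOW']
    exact fun y hy => hUO hy
  haveI : IsIso (j.app (i ⁻¹ᵁ U)) := j.isIso_app _ hle
  have hbij : Function.Bijective (j.app (i ⁻¹ᵁ U)).hom :=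
    ConcreteCategory.bijective_of_isIso (j.app (i ⁻¹ᵁ U))
  have h2 : ∀ a, ((j ≫ i).app U).hom a = (j.app (i ⁻¹ᵁ U)).hom ((i.app U).hom a) := fun a => rfl
  have hW' : IsAffineOpen ((j ≫ i) ⁻¹ᵁ U) := hW.preimage_of_isOpenImmersion j hle
  have hsurj' : Function.Surjective ((j ≫ i).app U).hom := by
    intro b
    obtain ⟨c, hc⟩ := hbij.2 b
    obtain ⟨a, ha⟩ := hsurj c
    refine ⟨a, ?_⟩
    rw [h2]
    have ha' : (i.app U).hom a = c := ha
    rw [ha', hc]
  haveI : IsClosedImmersion ((j ≫ i) ∣_ U) :=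
    Groth.Agent.Helper8.RegSeqE.isClosedImmersion_restrict_of_surjective _ hU hW' hsurj'
  refine ⟨⟨U, hU⟩, hxU, inferInstance, _, hrs', ?_⟩
  rw [← hker']
  ext a
  rw [RingHom.mem_ker, RingHom.mem_ker, h2]
  exact map_eq_zero_iff _ hbij.1

/-- precomposing a regular immersion with an open immersion -/
theorem regImm_comp_openImmersion {W X Z : Scheme.{u}} (k : RegImm.Kind) (j : W ⟶ X)
    [IsOpenImmersion j] (i : X ⟶ Z) (hi : RegImm.IsRegularImmersion k i) :
    RegImm.IsRegularImmersion k (j ≫ i) := by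
  haveI := hi.1
  exact ⟨inferInstance, fun w => regImmAt_comp_openImmersion k j i w (hi.2 (j w))⟩

/-- a morphism that is Koszul at `x` restricts to a morphism Koszul at `x` on any open
neighbourhood -/
theorem isKoszulAt_restrict {X Y : Scheme.{u}} (f : X ⟶ Y) (W : X.Opens) (x : X) (hx : x ∈ W)
    (h : Synt.IsKoszulAt f x) : Synt.IsKoszulAt (W.ι ≫ f) ⟨x, hx⟩ := by
  obtain ⟨U₀, P₀, i₀, π₀, hxU₀, hlft, hreg, hsm, hcomm⟩ := h
  let W' : W.toScheme.Opens := W.ι ⁻¹ᵁ U₀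
  let j : (W' : Scheme.{u}) ⟶ (U₀ : Scheme.{u}) := W.ι.resLE U₀ W' le_rfl
  have hj : j ≫ U₀.ι = W'.ι ≫ W.ι := Scheme.Hom.resLE_comp_ι _ _
  haveI : IsOpenImmersion j := by
    have : IsOpenImmersion (j ≫ U₀.ι) := by rw [hj]; infer_instance
    exact IsOpenImmersion.of_comp j U₀.ι
  haveI := hlft
  refine ⟨W', P₀, j ≫ i₀, π₀, hxU₀, ?_, regImm_comp_openImmersion .koszul j i₀ hreg, hsm, ?_⟩
  · have : W'.ι ≫ W.ι ≫ f = j ≫ U₀.ι ≫ f := by rw [← Category.assoc, ← hj, Category.assoc]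
    rw [this]
    infer_instance
  · rw [Category.assoc, hcomm, ← Category.assoc, hj, Category.assoc]

end Groth.Agent.Helper3.KosBridgeA
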