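import Mathlib
import Groth.Agent.Helper3.KosBridgeA
import Groth.Agent.Helper3.FFDescS2
import Groth.Agent.Helper3.FFDescK
import Groth.Agent.Helper3.SmKregA

set_option autoImplicit false
set_option linter.style.haveILetI false
set_option linter.unusedSectionVars false
set_option linter.unusedVariables false
set_option linter.style.haveILetI false
set_option linter.unusedSectionVars false
set_option linter.unusedVariables false

/-!
# The standard chart of a finite type morphism on affine opens: a closed immersion into an affine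
space over the target
-/

namespace Groth.Agent.Helper3.KosBridgeB
open CategoryTheory Limits AlgebraicGeometry TopologicalSpace
open Groth.Agent.Lead Groth.Agent.Helper3.FFDesc

universe u

section chart
variable {X Y : Scheme.{u}} (f : X ⟶ Y) {U : X.Opens} {V : Y.Opens} (hU : IsAffineOpen U)
  (hV : IsAffineOpen V) (hUV : U ≤ f ⁻¹ᵁ V) (n : ℕ)
  (α : MvPolynomial (Fin n) Γ(Y, V) →+* Γ(X, U))

/-- the affine space over `V` -/
noncomputable abbrev P : Scheme.{u} := Spec (CommRingCat.of (MvPolynomial (Fin n) Γ(Y, V)))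

/-- the immersion of `U` into affine space given by a presentation -/
noncomputable def chartI : (U : Scheme.{u}) ⟶ P (V := V) n :=
  hU.isoSpec.hom ≫ Spec.map (CommRingCat.ofHom α)

/-- the projection of the affine space to `Y` -/
noncomputable def chartP : P (V := V) n ⟶ Y :=
  Spec.map (CommRingCat.ofHom (MvPolynomial.C : Γ(Y, V) →+* MvPolynomial (Fin n) Γ(Y, V))) ≫
    hV.fromSpec

include hUV in
lemma chart_comm (hαC : α.comp MvPolynomial.C = (f.appLE V U hUV).hom) :
    chartI hU n α ≫ chartP hV n = U.ι ≫ f := by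
  unfold chartI chartP
  rw [Category.assoc, ← Category.assoc (Spec.map _), ← Spec.map_comp]
  have h1 : CommRingCat.ofHom (MvPolynomial.C : Γ(Y, V) →+* MvPolynomial (Fin n) Γ(Y, V)) ≫
      CommRingCat.ofHom α = f.appLE V U hUV := by
    apply CommRingCat.hom_ext
    exact hαC
  rw [h1, IsAffineOpen.SpecMap_appLE_fromSpec f hV hU hUV, ← Category.assoc,
    hU.isoSpec_hom_fromSpec]

instance smooth_chartP : Smooth (chartP hV n) := by
  unfold chartP
  haveI : Smooth (Spec.map (CommRingCat.ofHom
      (MvPolynomial.C : Γ(Y, V) →+* MvPolynomial (Fin n) Γ(Y, V)))) := by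
    rw [HasRingHomProperty.Spec_iff (P := @Smooth)]
    show (MvPolynomial.C : Γ(Y, V) →+* MvPolynomial (Fin n) Γ(Y, V)).Smooth
    rw [← MvPolynomial.algebraMap_eq]
    exact RingHom.smooth_algebraMap.mpr ⟨inferInstance, inferInstance⟩
  infer_instance

lemma isClosedImmersion_chartI (hα : Function.Surjective α) :
    IsClosedImmersion (chartI hU n α) := by
  unfold chartI
  haveI : IsClosedImmersion (Spec.map (CommRingCat.ofHom α)) :=
    IsClosedImmersion.spec_of_surjective _ hα
  infer_instance

lemma ker_chartI (hα : Function.Surjective α) :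
    RingHom.ker ((chartI hU n α).app ⊤).hom =
      (RingHom.ker α).comap (Scheme.ΓSpecIso (CommRingCat.of (MvPolynomial (Fin n) Γ(Y, V)))).hom.hom := by
  ext a
  rw [RingHom.mem_ker, Ideal.mem_comap, RingHom.mem_ker]
  have hnat := Scheme.ΓSpecIso_naturality (CommRingCat.ofHom α)
  have h1 : α ((Scheme.ΓSpecIso (CommRingCat.of (MvPolynomial (Fin n) Γ(Y, V)))).hom.hom a) =
      (Scheme.ΓSpecIso (CommRingCat.of Γ(X, U))).hom.hom
        ((Spec.map (CommRingCat.ofHom α)).appTop.hom a) := by
    have := congrArg (fun φ => φ.hom a) hnat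
    exact this.symm
  rw [h1]
  have h2 : ((chartI hU n α).app ⊤).hom a =
      (hU.isoSpec.hom.app ((Spec.map (CommRingCat.ofHom α)) ⁻¹ᵁ ⊤)).hom
        ((Spec.map (CommRingCat.ofHom α)).appTop.hom a) := rfl
  rw [h2]
  have hb1 : Function.Bijective (hU.isoSpec.hom.app ((Spec.map (CommRingCat.ofHom α)) ⁻¹ᵁ ⊤)).hom :=
    ConcreteCategory.bijective_of_isIso _
  have hb2 : Function.Bijective (Scheme.ΓSpecIso (CommRingCat.of Γ(X, U))).hom.hom :=
    ConcreteCategory.bijective_of_isIso _
  set x := (Spec.map (CommRingCat.ofHom α)).appTop.hom a with hx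
  constructor
  · intro h
    have hx0 : x = 0 := hb1.1 (h.trans (map_zero _).symm)
    rw [hx0, map_zero]
  · intro h
    have hx0 : x = 0 := hb2.1 (h.trans (map_zero _).symm)
    rw [hx0]
    exact map_zero _

/-- the standard chart is a Koszul-regular immersion iff the kernel of the presentation is a
Koszul-regular ideal -/
theorem regImm_chartI_iff (hα : Function.Surjective α) :
    RegImm.IsRegularImmersion .koszul (chartI hU n α) ↔
      LCI.IsKoszulRegularIdeal (RingHom.ker α) := by
  haveI := isClosedImmersion_chartI hU n α hα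
  have hk : ∀ (R : Type u) [CommRing R] (l : List R),
      RegImm.Kind.koszul.Seq R l ↔ FFDescK.kregClass.P R l := fun R _ l => Iff.rfl
  have hTop : IsAffineOpen (⊤ : (P (V := V) n).Opens) := isAffineOpen_top _
  haveI : IsClosedImmersion ((chartI hU n α) ∣_ ⊤) :=
    IsZariskiLocalAtTarget.restrict (P := @IsClosedImmersion) inferInstance ⊤
  let e : Γ(P (V := V) n, ⊤) ≃+* MvPolynomial (Fin n) Γ(Y, V) :=
    (Scheme.ΓSpecIso (CommRingCat.of (MvPolynomial (Fin n) Γ(Y, V)))).commRingCatIsoToRingEquiv
  let eh : Γ(P (V := V) n, ⊤) →+* MvPolynomial (Fin n) Γ(Y, V) := e.toRingHom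
  let es : MvPolynomial (Fin n) Γ(Y, V) →+* Γ(P (V := V) n, ⊤) := e.symm.toRingHom
  have hehf : eh.Flat := RingHom.Flat.of_bijective e.bijective
  have hesf : es.Flat := RingHom.Flat.of_bijective e.symm.bijective
  have hker : RingHom.ker ((chartI hU n α).app ⊤).hom = (RingHom.ker α).comap eh :=
    ker_chartI hU n α hα
  constructor
  · intro h
    have h1 := FFDescS.locGen_of_regImm FFDescK.kregClass .koszul hk _ h ⊤ hTop
    rw [hker] at h1
    have h2 := SmKregA.locGen_map FFDescK.kregClass eh hehf _ h1
    rw [Ideal.map_comap_of_surjective eh e.surjective] at h2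
    exact h2
  · intro h
    have h1 : LocGen FFDescK.kregClass (RingHom.ker α) := h
    have h2 := SmKregA.locGen_map FFDescK.kregClass es hesf _ h1
    have h3 : (RingHom.ker α).map es = (RingHom.ker α).comap eh :=
      Ideal.map_symm e
    rw [h3, ← hker] at h2
    exact ⟨inferInstance, fun z =>
      FFDescS.regImmAt_of_locGen FFDescK.kregClass .koszul hk _ ⊤ hTop h2 z trivial⟩

end chart

end Groth.Agent.Helper3.KosBridgeB
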