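import Mathlib
import Groth.Agent.Helper3.KosBridgeB
import Groth.Agent.Helper3.SmKregH

set_option autoImplicit false
set_option linter.style.haveILetI false
set_option linter.unusedSectionVars false
set_option linter.unusedVariables false
set_option linter.style.haveILetI false
set_option linter.unusedSectionVars false
set_option linter.unusedVariables false

/-!
# Koszul at every point (factorisation form) versus local complete intersection ring maps on
affine opens
-/

namespace Groth.Agent.Helper3.KosBridgeC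
open CategoryTheory Limits AlgebraicGeometry TopologicalSpace
open Groth.Agent.Helper3.KosBridgeB

universe u

variable {X Y : Scheme.{u}}

/-- a morphism that is Koszul at every point is locally of finite type -/
theorem locallyOfFiniteType_of_isKoszulAt (f : X ⟶ Y) (hf : ∀ x : X, Synt.IsKoszulAt f x) :
    LocallyOfFiniteType f := by
  choose U P i π hxU hlft hreg hsm hcomm using hf
  refine IsZariskiLocalAtSource.of_iSup_eq_top (P := @LocallyOfFiniteType) U ?_ hlft
  rw [eq_top_iff]
  intro x _
  exact Opens.mem_iSup.mpr ⟨x, hxU x⟩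

/-- **from the factorisation form to the affine-local form** -/
theorem isLCI_of_isKoszulAt (f : X ⟶ Y) (hf : ∀ x : X, Synt.IsKoszulAt f x)
    (U : X.Opens) (V : Y.Opens) (hU : IsAffineOpen U) (hV : IsAffineOpen V) (hUV : U ≤ f ⁻¹ᵁ V) :
    letI := (f.appLE V U hUV).hom.toAlgebra
    LCI.IsLCI Γ(Y, V) Γ(X, U) := by
  letI := (f.appLE V U hUV).hom.toAlgebra
  haveI := locallyOfFiniteType_of_isKoszulAt f hf
  have hft : (f.appLE V U hUV).hom.FiniteType :=
    HasRingHomProperty.appLE (P := @LocallyOfFiniteType) f inferInstance ⟨V, hV⟩ ⟨U, hU⟩ hUV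
  obtain ⟨n, α, hα⟩ := Algebra.FiniteType.iff_quotient_mvPolynomial''.mp hft
  refine ⟨hft, n, α, hα, ?_⟩
  have hαC : α.toRingHom.comp MvPolynomial.C = (f.appLE V U hUV).hom := by
    ext a
    show α (MvPolynomial.C a) = _
    rw [← MvPolynomial.algebraMap_eq, AlgHom.commutes]
    rfl
  have hcomm := chart_comm f hU hV hUV n α.toRingHom hαC
  haveI := isClosedImmersion_chartI hU n α.toRingHom hα
  have hK : ∀ x : U.toScheme, Synt.IsKoszulAt (U.ι ≫ f) x := fun x =>
    KosBridgeA.isKoszulAt_restrict f U x.1 x.2 (hf x.1)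
  exact (regImm_chartI_iff hU n α.toRingHom hα).mp
    (SmKregH.s8656 (U.ι ≫ f) hK (chartP hV n) (chartI hU n α.toRingHom) hcomm)

/-- **from the affine-local form to the factorisation form** -/
theorem isKoszulAt_of_isLCI (f : X ⟶ Y)
    (U : X.Opens) (V : Y.Opens) (hU : IsAffineOpen U) (hV : IsAffineOpen V) (hUV : U ≤ f ⁻¹ᵁ V)
    (h : letI := (f.appLE V U hUV).hom.toAlgebra
      LCI.IsLCI Γ(Y, V) Γ(X, U)) (x : X) (hx : x ∈ U) : Synt.IsKoszulAt f x := by
  letI := (f.appLE V U hUV).hom.toAlgebra
  obtain ⟨hft, n, α, hα, hK⟩ := h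
  have hαC : α.toRingHom.comp MvPolynomial.C = (f.appLE V U hUV).hom := by
    ext a
    show α (MvPolynomial.C a) = _
    rw [← MvPolynomial.algebraMap_eq, AlgHom.commutes]
    rfl
  have hcomm := chart_comm f hU hV hUV n α.toRingHom hαC
  haveI := isClosedImmersion_chartI hU n α.toRingHom hα
  refine ⟨U, P (V := V) n, chartI hU n α.toRingHom, chartP hV n, hx, ?_,
    (regImm_chartI_iff hU n α.toRingHom hα).mpr hK, inferInstance, hcomm⟩
  rw [← hcomm]
  infer_instance

end Groth.Agent.Helper3.KosBridgeC
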