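import Mathlib
import Groth.Agent.Helper3.FFDescK
import Groth.Agent.Helper2.RegSeq3
import Groth.Agent.Helper2.CotTSmooth
import Groth.Agent.Helper7.VascF
import Groth.Agent.S15821

set_option autoImplicit false
set_option linter.style.haveILetI false
set_option linter.unusedSectionVars false
set_option linter.unusedVariables false
set_option linter.style.haveILetI false
set_option linter.unusedSectionVars false
set_option linter.unusedVariables false

/-!
# A finite type map of regular rings is a local complete intersection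
-/

namespace Groth.Agent.Helper3.RegLci
open IsLocalRing RingTheory.Sequence
open Groth.Agent.Helper3.FFDesc

universe u

/-- a surjection of regular rings has Koszul-regular kernel -/
theorem kreg_ker_of_regular {P C : Type u} [CommRing P] [CommRing C] [IsRegularRing P]
    [IsRegularRing C] (α : P →+* C) (hα : Function.Surjective α) :
    LCI.IsKoszulRegularIdeal (RingHom.ker α) := by
  classical
  intro 𝔮 hK
  letI : Algebra P C := α.toAlgebra
  have hsurj : Function.Surjective (algebraMap P C) := hα
  haveI : 𝔮.asIdeal.IsPrime := 𝔮.isPrime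
  have hker : RingHom.ker α ≤ 𝔮.asIdeal := hK
  haveI h𝔭 : (𝔮.asIdeal.map α).IsPrime := Ideal.map_isPrime_of_surjective hα hker
  set 𝔭 : Ideal C := 𝔮.asIdeal.map α with h𝔭def
  have hcomap : 𝔮.asIdeal = 𝔭.comap (algebraMap P C) := by
    show 𝔮.asIdeal = Ideal.comap α (𝔮.asIdeal.map α)
    rw [Ideal.comap_map_of_surjective _ hα]
    exact (sup_eq_left.mpr hker).symm
  obtain ⟨e⟩ := Groth.Agent.Helper2.CotTSmooth.exists_ringEquiv' hsurj 𝔮.asIdeal 𝔭 hcomap
  let S := Localization.AtPrime 𝔮.asIdeal
  haveI : IsRegularLocalRing S := inferInstance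
  let nn : Ideal S := (RingHom.ker α).map (algebraMap P S)
  have hnnle : nn ≤ maximalIdeal S := by
    rw [Ideal.map_le_iff_le_comap]
    exact hker.trans (IsLocalization.AtPrime.comap_maximalIdeal S 𝔮.asIdeal).ge
  have hnn : nn ≠ ⊤ := fun htop =>
    (maximalIdeal.isMaximal S).ne_top (top_le_iff.1 (htop ▸ hnnle))
  have hregq : IsRegularLocalRing (S ⧸ nn) :=
    haveI : IsRegularLocalRing (Localization.AtPrime 𝔭) := inferInstance
    IsRegularLocalRing.of_ringEquiv e.symm
  obtain ⟨c, x, hli, hx⟩ := Groth.Agent.Helper2.RegSeq3.exists_indep_generators nn hnn hregq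
  obtain ⟨hR, hof⟩ := Groth.Agent.Helper2.RegSeq3.isRegular_ofFn c x hli
  -- lift the generators
  let sec : S → P × 𝔮.asIdeal.primeCompl := IsLocalization.sec 𝔮.asIdeal.primeCompl
  let u : S → S := fun a => algebraMap P S (sec a).2
  have hu : ∀ a, IsUnit (u a) := fun a => IsLocalization.map_units S (sec a).2
  let xs : List S := List.ofFn fun i => (x i : S)
  let ys : List P := xs.map fun a => (sec a).1
  have hys : ys.map (algebraMap P S) = xs.map fun a => a * u a := by
    rw [List.map_map]
    apply List.map_congr_left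
    intro a _
    exact (IsLocalization.sec_spec 𝔮.asIdeal.primeCompl a).symm
  have hreg : IsWeaklyRegular S (ys.map (algebraMap P S)) := by
    rw [hys]
    exact Groth.Agent.Helper7.Vasc.isWeaklyRegular_map_mul_unit u hu xs hR.toIsWeaklyRegular
  have hof' : Ideal.ofList (ys.map (algebraMap P S)) = (RingHom.ker α).map (algebraMap P S) := by
    rw [hys, Groth.Agent.Helper7.Vasc.ofList_map_mul_unit u hu xs, hof, ← hx]
  obtain ⟨g, hg, hregg, hofg⟩ := Groth.Agent.Helper7.Vasc.spread 𝔮.asIdeal (RingHom.ker α) hker ys
    hreg hof'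
  refine ⟨g, hg, ys.map (algebraMap P (Localization.Away g)), ?_, ?_⟩
  · exact (Groth.Agent.S15821.result _ _ hregg.toIsWeaklyRegular).1
  · exact hofg.symm

/-- **a finite type map of regular rings is a local complete intersection** -/
theorem isLCI_of_regular (A C : Type u) [CommRing A] [CommRing C] [Algebra A C]
    [IsRegularRing A] [IsRegularRing C] (hft : Algebra.FiniteType A C) : LCI.IsLCI A C := by
  obtain ⟨n, α, hα⟩ := Algebra.FiniteType.iff_quotient_mvPolynomial''.mp hft
  exact ⟨hft, n, α, hα, kreg_ker_of_regular α.toRingHom hα⟩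

end Groth.Agent.Helper3.RegLci
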