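import Mathlib
import Groth.Agent.Helper3.RegLci
import Groth.Agent.Helper3.FFDescS2

set_option autoImplicit false
set_option linter.style.haveILetI false
set_option linter.unusedSectionVars false
set_option linter.unusedVariables false
set_option linter.style.haveILetI false
set_option linter.unusedSectionVars false
set_option linter.unusedVariables false

/-!
# Morphisms locally of finite type between regular schemes are local complete intersections
-/

namespace Groth.Agent.Helper3.RegLciS
open AlgebraicGeometry CategoryTheory Limits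

universe u

/-- sections over an affine open of a regular locally noetherian scheme form a regular ring -/
theorem isRegularRing_of_stalks {Y : Scheme.{u}} [IsLocallyNoetherian Y]
    (hY : ∀ y : Y, IsRegularLocalRing (Y.presheaf.stalk y)) {V : Y.Opens} (hV : IsAffineOpen V) :
    IsRegularRing Γ(Y, V) := by
  haveI : IsNoetherianRing Γ(Y, V) := IsLocallyNoetherian.component_noetherian ⟨V, hV⟩
  rw [isRegularRing_iff]
  intro p hp
  let y : Y := hV.fromSpec ⟨p, hp⟩
  have hy : y ∈ V := FFDescS.fromSpec_mem hV ⟨p, hp⟩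
  have hp' : hV.primeIdealOf ⟨y, hy⟩ = ⟨p, hp⟩ := FFDescS.primeIdealOf_fromSpec hV ⟨p, hp⟩ hy
  letI : Algebra Γ(Y, V) (Y.presheaf.stalk y) :=
    TopCat.Presheaf.algebra_section_stalk Y.presheaf ⟨y, hy⟩
  have h1 : IsLocalization.AtPrime (Y.presheaf.stalk y) (hV.primeIdealOf ⟨y, hy⟩).asIdeal :=
    hV.isLocalization_stalk ⟨y, hy⟩
  have h2 : (hV.primeIdealOf ⟨y, hy⟩).asIdeal = p := congrArg PrimeSpectrum.asIdeal hp'
  haveI : IsLocalization.AtPrime (Y.presheaf.stalk y) p := by
    have h3 : (hV.primeIdealOf ⟨y, hy⟩).asIdeal.primeCompl = p.primeCompl := by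
      ext a
      simp only [Ideal.mem_primeCompl_iff, h2]
    unfold IsLocalization.AtPrime at h1 ⊢
    rw [← h3]
    exact h1
  haveI := hY y
  exact IsRegularLocalRing.of_ringEquiv
    (IsLocalization.algEquiv p.primeCompl (Y.presheaf.stalk y) (Localization.AtPrime p)).toRingEquiv

theorem s1493 {X Y : Scheme.{u}} (f : X ⟶ Y) [LocallyOfFiniteType f] [IsLocallyNoetherian X]
    [IsLocallyNoetherian Y]
    (hX : ∀ x : X, IsRegularLocalRing ↑(X.presheaf.stalk x))
    (hY : ∀ y : Y, IsRegularLocalRing ↑(Y.presheaf.stalk y)) :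
    ∀ (U : X.Opens) (V : Y.Opens) (hU : IsAffineOpen U) (hV : IsAffineOpen V)
      (hUV : U ≤ f ⁻¹ᵁ V),
        letI := (f.appLE V U hUV).hom.toAlgebra
        LCI.IsLCI Γ(Y, V) Γ(X, U) := by
  intro U V hU hV hUV
  letI := (f.appLE V U hUV).hom.toAlgebra
  haveI := isRegularRing_of_stalks hX hU
  haveI := isRegularRing_of_stalks hY hV
  have hft : (f.appLE V U hUV).hom.FiniteType :=
    HasRingHomProperty.appLE (P := @LocallyOfFiniteType) f inferInstance ⟨V, hV⟩ ⟨U, hU⟩ hUV
  exact RegLci.isLCI_of_regular _ _ hft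

end Groth.Agent.Helper3.RegLciS
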