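import Mathlib
import Groth.Prelude.Def_DRing2
import Groth.Prelude.Def_DDual2
import Groth.Prelude.Def_MoreMor
import Groth.Prelude.Def_Mor2
import Groth.Prelude.Def_RegImm
import Groth.Agent.Helper3.KPerfC
import Groth.Agent.Helper3.KPerfE
import Groth.Agent.Helper3.KosBridgeA
import Groth.Agent.Helper3.KosBridgeC
import Groth.Agent.Helper3.RegLciS
import Groth.Agent.Helper3.DRingPC3
import Groth.Agent.Helper1.KoszulReg
import Groth.Agent.S6935

/-! scheme-level perfect / pseudo-coherent morphisms: quick consequences. -/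

set_option autoImplicit false
set_option linter.style.haveILetI false
set_option linter.unusedSectionVars false
set_option linter.unusedVariables false
set_option linter.style.haveILetI false
set_option linter.unusedSectionVars false
set_option linter.unusedVariables false
universe u
open CategoryTheory CategoryTheory.Limits TensorProduct AlgebraicGeometry

namespace Groth.Agent.Helper3.KPerfF

attribute [local instance] HasDerivedCategory.standard

open Groth.Agent.Helper3.DRingLib

/-- a pseudo-coherent ring map is of finite presentation -/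
theorem finitePresentation_of_isPseudoCoherentHom (A B : Type u) [CommRing A] [CommRing B]
    [Algebra A B] (h : MoreMor.IsPseudoCoherentHom A B) : Algebra.FinitePresentation A B := by
  obtain ⟨n, φ, hφ, hpc⟩ := h
  letI : Algebra (MvPolynomial (Fin n) A) B := φ.toRingHom.toAlgebra
  have h1 : DRing.IsPseudoCoherentModule (MvPolynomial (Fin n) A) (-1) B :=
    (isPseudoCoherent'_iff_forall _).mp hpc (-1)
  have hfp : Module.FinitePresentation (MvPolynomial (Fin n) A) B :=
    (Groth.Agent.S6935.result (MvPolynomial (Fin n) A) B).2.mp h1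
  have hker : (LinearMap.ker (Algebra.linearMap (MvPolynomial (Fin n) A) B)).FG :=
    Module.FinitePresentation.fg_ker (Algebra.linearMap (MvPolynomial (Fin n) A) B) hφ
  refine Algebra.FinitePresentation.of_surjective hφ ?_
  exact hker

theorem s7168 {X S : Scheme.{u}} (f : X ⟶ S) (hf : MoreMor.IsPseudoCoherentMor f) :
    LocallyOfFinitePresentation f := by
  rw [HasRingHomProperty.iff_appLE (P := @LocallyOfFinitePresentation)]
  intro V U e
  letI := (f.appLE V.1 U.1 e).hom.toAlgebra
  exact finitePresentation_of_isPseudoCoherentHom _ _ (hf U.1 V.1 U.2 V.2 e)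

theorem s7173 {X S : Scheme.{u}} (f : X ⟶ S) [LocallyOfFiniteType f] [IsLocallyNoetherian S]
    (hreg : ∀ s : S, IsRegularLocalRing (S.presheaf.stalk s))
    (hdim : ∀ V : S.Opens, IsAffineOpen V → ringKrullDim Γ(S, V) < ⊤) :
    MoreMor.IsPerfectMor f := by
  intro U V hU hV hUV
  letI := (f.appLE V U hUV).hom.toAlgebra
  haveI : IsRegularRing Γ(S, V) := Groth.Agent.Helper3.RegLciS.isRegularRing_of_stalks hreg hV
  haveI : Algebra.FiniteType Γ(S, V) Γ(X, U) :=
    HasRingHomProperty.appLE (P := @LocallyOfFiniteType) f inferInstance ⟨V, hV⟩ ⟨U, hU⟩ hUV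
  exact Groth.Agent.Helper3.KPerfE.main _ _ (hdim V hV)

theorem s1509 {Z X : Scheme.{u}} (i : Z ⟶ X) (hi : Mor2.IsRegularClosedImmersion i) :
    MoreMor.IsPerfectMor i := by
  obtain ⟨hcl, hloc⟩ := hi
  have hreg : RegImm.IsRegularImmersion .koszul i := by
    refine ⟨inferInstance, fun z => ?_⟩
    obtain ⟨U, hU, hzU, rs, hrs, hker⟩ := hloc z
    refine ⟨⟨U, hU⟩, hzU, inferInstance, rs, ?_, ?_⟩
    · show LCI.IsKoszulRegularSeq _ rs
      rw [Groth.Agent.Lead.KoszulFunC.isKoszulRegularSeq_iff]
      exact Groth.Agent.Helper1.Koszul.isZero_homology_of_isWeaklyRegular _ _ hrs.toIsWeaklyRegular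
    · rw [← hker, Scheme.Hom.ker_apply]
  have hK : ∀ z : Z, Synt.IsKoszulAt i z := by
    intro z
    refine ⟨⊤, X, (⊤ : Z.Opens).ι ≫ i, 𝟙 X, trivial, inferInstance, ?_, inferInstance, by simp⟩
    exact Groth.Agent.Helper3.KosBridgeA.regImm_comp_openImmersion .koszul _ i hreg
  intro U V hU hV hUV
  letI := (i.appLE V U hUV).hom.toAlgebra
  exact Groth.Agent.Helper3.KPerfC.main
    (Groth.Agent.Helper3.KosBridgeC.isLCI_of_isKoszulAt i hK U V hU hV hUV)

end Groth.Agent.Helper3.KPerfF
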