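import Mathlib
import Groth.Prelude.Def_DRing2
import Groth.Prelude.Def_DDual2
import Groth.Agent.Helper3.DRingBC
import Groth.Agent.Helper3.DRingRestrComp

/-! Pseudo-coherence of `A[y]` over `P[y]` when `A` is pseudo-coherent over `P`. -/

set_option autoImplicit false
universe u
open CategoryTheory CategoryTheory.Limits TensorProduct

namespace Groth.Agent.Helper3.DRingLib

attribute [local instance] HasDerivedCategory.standard

open Pretriangulated DerivedCategory ZeroObject

section PolyBC

variable {P A : Type u} [CommRing P] [CommRing A] [Algebra P A] (σ : Type)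

/-- `P[y] ⊗_P A ≃ A[y]`, linear over `P[y]`. -/
noncomputable def mvPolyTensorEquiv :
    letI := (MvPolynomial.map (σ := σ) (algebraMap P A)).toAlgebra
    (MvPolynomial σ P ⊗[P] A) ≃ₗ[MvPolynomial σ P] MvPolynomial σ A :=
  letI := (MvPolynomial.map (σ := σ) (algebraMap P A)).toAlgebra
  let e : (MvPolynomial σ P ⊗[P] A) ≃+ MvPolynomial σ A :=
    (TensorProduct.comm P (MvPolynomial σ P) A).toAddEquiv.trans
      (MvPolynomial.algebraTensorAlgEquiv (σ := σ) P A).toAddEquiv
  { e with
    map_smul' := by
      intro s z
      change e (s • z) = MvPolynomial.map (algebraMap P A) s * e z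
      induction z using TensorProduct.induction_on with
      | zero => rw [smul_zero, map_zero, mul_zero]
      | add x y hx hy => rw [smul_add, map_add, hx, hy, map_add, mul_add]
      | tmul s' a =>
        change MvPolynomial.algebraTensorAlgEquiv P A (a ⊗ₜ[P] (s • s')) =
          MvPolynomial.map (algebraMap P A) s * MvPolynomial.algebraTensorAlgEquiv P A (a ⊗ₜ[P] s')
        rw [MvPolynomial.algebraTensorAlgEquiv_tmul, MvPolynomial.algebraTensorAlgEquiv_tmul,
          smul_eq_mul, map_mul, mul_smul_comm] }

theorem isPseudoCoherent'_mvPolynomial (hA : DRing.IsPseudoCoherent' P (Dual.inD P A)) :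
    letI := (MvPolynomial.map (σ := σ) (algebraMap P A)).toAlgebra
    DRing.IsPseudoCoherent' (MvPolynomial σ P)
      (Dual.inD (MvPolynomial σ P) (MvPolynomial σ A)) := by
  letI := (MvPolynomial.map (σ := σ) (algebraMap P A)).toAlgebra
  have h1 := bcD_isPseudoCoherent' (MvPolynomial σ P) hA
  have h2 := isPseudoCoherent'_of_iso (bcDInD (MvPolynomial σ P) A) h1
  exact isPseudoCoherent'_of_iso
    ((DerivedCategory.singleFunctor (ModuleCat.{u} (MvPolynomial σ P)) 0).mapIso
      (mvPolyTensorEquiv (P := P) (A := A) σ).toModuleIso) h2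

theorem goodHom_mvPolynomial_map (hA : DRing.IsPseudoCoherent' P (Dual.inD P A)) :
    GoodHom (MvPolynomial.map (σ := σ) (algebraMap P A)) := by
  letI := (MvPolynomial.map (σ := σ) (algebraMap P A)).toAlgebra
  exact goodHom_algebraMap (A := MvPolynomial σ P) (B := MvPolynomial σ A)
    (isPseudoCoherent'_mvPolynomial σ hA)

end PolyBC

end Groth.Agent.Helper3.DRingLib
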