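import Mathlib
import Groth.Prelude.Def_DRing2
import Groth.Prelude.Def_DDual2
import Groth.Prelude.Def_DerCA
import Groth.Prelude.Def_MoreMor
import Groth.Agent.Helper3.DRingRelPC
import Groth.Agent.Helper3.DRingPC3
import Groth.Agent.Helper3.KPerfF
import Groth.Agent.S6985

/-! Pseudo-coherent ring maps: bridge with relative pseudo-coherence, composition, cancellation. -/

set_option autoImplicit false
set_option linter.style.haveILetI false
set_option linter.unusedSectionVars false
set_option linter.unusedVariables false
set_option linter.style.haveILetI false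
set_option linter.unusedSectionVars false
set_option linter.unusedVariables false
universe u
open CategoryTheory CategoryTheory.Limits TensorProduct

namespace Groth.Agent.Helper3.PcHom

attribute [local instance] HasDerivedCategory.standard

open Groth.Agent.Helper3.DRingLib DerivedCategory

section Bridge

variable {A B : Type u} [CommRing A] [CommRing B] [Algebra A B]

/-- `B[0]` restricted along a ring map `ψ : P → B` is `B[0]` over `P`. -/
noncomputable def rDInDSelf {P : Type u} [CommRing P] [Algebra P B] :
    (DRing.restrictD (algebraMap P B)).obj (Dual.inD B B) ≅ Dual.inD P B :=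
  rDSingle (algebraMap P B) 0 (ModuleCat.of B B) ≪≫
    (singleFunctor (ModuleCat.{u} P) 0).mapIso (restrictSelfEquiv (A := P) (B := B)).toModuleIso

lemma via_iff {n : ℕ} (α : MvPolynomial (Fin n) A →ₐ[A] B) (m : ℤ) :
    letI := α.toRingHom.toAlgebra
    DerCA.IsRelPseudoCoherentVia α m (Dual.inD B B) ↔
      DRing.IsPseudoCoherent (MvPolynomial (Fin n) A) m (Dual.inD (MvPolynomial (Fin n) A) B) := by
  letI : Algebra (MvPolynomial (Fin n) A) B := α.toRingHom.toAlgebra
  unfold DerCA.IsRelPseudoCoherentVia
  constructor
  · intro h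
    exact isPseudoCoherent_of_iso (rDInDSelf (P := MvPolynomial (Fin n) A) (B := B)) h
  · intro h
    exact isPseudoCoherent_of_iso (rDInDSelf (P := MvPolynomial (Fin n) A) (B := B)).symm h

theorem pcHom_iff_relPCAll :
    MoreMor.IsPseudoCoherentHom A B ↔ DerCA.IsRelPseudoCoherentModuleAll A B B := by
  constructor
  · rintro ⟨n, φ, hφ, hpc⟩ m
    refine ⟨n, φ, hφ, (via_iff φ m).mpr ?_⟩
    exact (isPseudoCoherent'_iff_forall _).mp hpc m
  · intro h
    obtain ⟨n, α, hα, -⟩ := h 0
    refine ⟨n, α, hα, ?_⟩
    letI : Algebra (MvPolynomial (Fin n) A) B := α.toRingHom.toAlgebra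
    show DRing.IsPseudoCoherent' _ (Dual.inD (MvPolynomial (Fin n) A) B)
    rw [isPseudoCoherent'_iff_forall]
    intro m
    exact (via_iff α m).mp ((relPC_iff_via α hα m _).mp (h m))

lemma finiteType_of_pcHom (h : MoreMor.IsPseudoCoherentHom A B) : Algebra.FiniteType A B := by
  haveI := Groth.Agent.Helper3.KPerfF.finitePresentation_of_isPseudoCoherentHom A B h
  infer_instance

end Bridge

section Comp

variable {A B C : Type u} [CommRing A] [CommRing B] [CommRing C] [Algebra A B] [Algebra B C]
  [Algebra A C] [IsScalarTower A B C]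

/-- composition of pseudo-coherent ring maps -/
theorem comp (h1 : MoreMor.IsPseudoCoherentHom A B) (h2 : MoreMor.IsPseudoCoherentHom B C) :
    MoreMor.IsPseudoCoherentHom A C := by
  haveI := finiteType_of_pcHom h1
  haveI := finiteType_of_pcHom h2
  haveI : Algebra.FiniteType A C := Algebra.FiniteType.trans (S := B) inferInstance inferInstance
  rw [pcHom_iff_relPCAll] at h1 h2 ⊢
  exact (Groth.Agent.S6985.result (R := A) (A := B) (B := C) h1 (Dual.inD C C) 0).2.mp h2

/-- cancellation for pseudo-coherent ring maps -/
theorem cancel (h1 : MoreMor.IsPseudoCoherentHom A B) (h2 : MoreMor.IsPseudoCoherentHom A C) :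
    MoreMor.IsPseudoCoherentHom B C := by
  haveI := finiteType_of_pcHom h1
  haveI := finiteType_of_pcHom h2
  haveI : Algebra.FiniteType B C := Algebra.FiniteType.of_restrictScalars_finiteType A B C
  rw [pcHom_iff_relPCAll] at h1 h2 ⊢
  exact (Groth.Agent.S6985.result (R := A) (A := B) (B := C) h1 (Dual.inD C C) 0).2.mpr h2

end Comp

section Surj

variable {A B : Type u} [CommRing A] [CommRing B] [Algebra A B]

/-- the presentation with no variables of a surjective algebra map -/
noncomputable def pres0 : MvPolynomial (Fin 0) A →ₐ[A] B :=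
  (Algebra.ofId A B).comp (MvPolynomial.isEmptyAlgEquiv A (Fin 0)).toAlgHom

lemma pres0_surjective (h : Function.Surjective (algebraMap A B)) :
    Function.Surjective (pres0 (A := A) (B := B)) := by
  intro b
  obtain ⟨a, rfl⟩ := h b
  refine ⟨MvPolynomial.C a, ?_⟩
  simp [pres0, Algebra.ofId_apply]

lemma pres0_eq : ((pres0 (A := A) (B := B)) : MvPolynomial (Fin 0) A →+* B) =
    (algebraMap A B).comp (MvPolynomial.isEmptyRingEquiv A (Fin 0)).toRingHom := by
  ext x
  · simp [pres0, Algebra.ofId_apply]
  · exact Fin.elim0 x

/-- for a surjective algebra map, pseudo-coherence as a ring map and as a module agree -/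
theorem pcHom_iff_of_surjective (h : Function.Surjective (algebraMap A B)) :
    MoreMor.IsPseudoCoherentHom A B ↔ DRing.IsPseudoCoherent' A (Dual.inD A B) := by
  rw [pcHom_iff_relPCAll, isPseudoCoherent'_iff_forall]
  refine forall_congr' fun m => ?_
  show DerCA.IsRelPseudoCoherent A B m (Dual.inD B B) ↔ _
  rw [relPC_iff_via pres0 (pres0_surjective h) m]
  unfold DerCA.IsRelPseudoCoherentVia
  rw [pres0_eq, goodHom_ringEquiv (MvPolynomial.isEmptyRingEquiv A (Fin 0)) B (algebraMap A B)
    (Dual.inD B B) m]
  constructor
  · intro h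
    exact isPseudoCoherent_of_iso (rDInDSelf (P := A) (B := B)) h
  · intro h
    exact isPseudoCoherent_of_iso (rDInDSelf (P := A) (B := B)).symm h

end Surj

section KL

variable {A P B : Type u} [CommRing A] [CommRing P] [CommRing B] [Algebra A P] [Algebra P B]
  [Algebra A B] [IsScalarTower A P B]

/-- **key lemma**: if `A → P` is pseudo-coherent and `P → B` is surjective, then `A → B` is
pseudo-coherent iff `B` is a pseudo-coherent `P`-module. -/
theorem pcHom_iff_module (hP : MoreMor.IsPseudoCoherentHom A P)
    (hs : Function.Surjective (algebraMap P B)) :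
    MoreMor.IsPseudoCoherentHom A B ↔ DRing.IsPseudoCoherent' P (Dual.inD P B) := by
  rw [← pcHom_iff_of_surjective hs]
  exact ⟨fun h => cancel hP h, fun h => comp hP h⟩

end KL

section Basic

variable (A : Type u) [CommRing A]

/-- polynomial rings are pseudo-coherent over the base -/
theorem pcHom_mvPolynomial (n : ℕ) : MoreMor.IsPseudoCoherentHom A (MvPolynomial (Fin n) A) := by
  refine ⟨n, AlgHom.id A _, Function.surjective_id, ?_⟩
  show DRing.IsPseudoCoherent' _ _
  rw [isPseudoCoherent'_iff_forall]
  intro m
  letI alg : Algebra (MvPolynomial (Fin n) A) (MvPolynomial (Fin n) A) :=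
    (AlgHom.id A (MvPolynomial (Fin n) A)).toRingHom.toAlgebra
  haveI h1 : @Module.Finite (MvPolynomial (Fin n) A) (MvPolynomial (Fin n) A) _ _ alg.toModule :=
    Module.Finite.self _
  haveI h2 : @Module.Projective (MvPolynomial (Fin n) A) _ (MvPolynomial (Fin n) A) _
      alg.toModule :=
    @Module.Projective.of_free (MvPolynomial (Fin n) A) _ (MvPolynomial (Fin n) A) _ _
      (Module.Free.self _)
  exact isPseudoCoherent_inD_of_finite_projective' (MvPolynomial (Fin n) A) m

/-- the identity is pseudo-coherent -/
theorem pcHom_self : MoreMor.IsPseudoCoherentHom A A := by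
  rw [pcHom_iff_of_surjective (A := A) (B := A) Function.surjective_id, isPseudoCoherent'_iff_forall]
  intro m
  exact isPseudoCoherent_inD_of_finite_projective' A m

end Basic

end Groth.Agent.Helper3.PcHom
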