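import Mathlib
import Groth.Prelude.Def_DRing2
import Groth.Prelude.Def_DDual2
import Groth.Prelude.Def_DerCA
import Groth.Prelude.Def_MoreMor
import Groth.Agent.Helper3.PcHomA
import Groth.Agent.Helper3.KPerfA
import Groth.Agent.Helper3.KzAway
import Groth.Agent.Helper3.DRingTor6

/-! Pseudo-coherent ring maps: isomorphisms, localization away. -/

set_option autoImplicit false
set_option linter.style.haveILetI false
set_option linter.unusedSectionVars false
set_option linter.unusedVariables false
set_option linter.style.haveILetI false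
set_option linter.unusedSectionVars false
set_option linter.unusedVariables false
universe u
open CategoryTheory CategoryTheory.Limits TensorProduct Polynomial

namespace Groth.Agent.Helper3.PcHom

attribute [local instance] HasDerivedCategory.standard

open Groth.Agent.Helper3.DRingLib DerivedCategory

section Iso

variable {A B B' : Type u} [CommRing A] [CommRing B] [CommRing B'] [Algebra A B] [Algebra A B']

/-- pseudo-coherent ring maps are invariant under isomorphisms of the target -/
theorem of_algEquiv (e : B ≃ₐ[A] B') (h : MoreMor.IsPseudoCoherentHom A B) :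
    MoreMor.IsPseudoCoherentHom A B' := by
  obtain ⟨n, φ, hφ, hpc⟩ := h
  refine ⟨n, e.toAlgHom.comp φ, e.surjective.comp hφ, ?_⟩
  letI a1 : Algebra (MvPolynomial (Fin n) A) B := φ.toRingHom.toAlgebra
  letI a2 : Algebra (MvPolynomial (Fin n) A) B' := (e.toAlgHom.comp φ).toRingHom.toAlgebra
  let l : B ≃ₗ[MvPolynomial (Fin n) A] B' :=
    { e.toLinearEquiv.toAddEquiv with
      map_smul' := fun p b => by
        show e (φ p * b) = e (φ p) * e b
        exact map_mul e _ _ }
  exact isPseudoCoherent'_of_iso
    ((singleFunctor (ModuleCat.{u} (MvPolynomial (Fin n) A)) 0).mapIso l.toModuleIso) hpc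

end Iso

section Away

variable (A : Type u) [CommRing A] (f : A)

lemma pcHom_polynomial : MoreMor.IsPseudoCoherentHom A A[X] :=
  of_algEquiv (MvPolynomial.uniqueAlgEquiv A (Fin 1)) (pcHom_mvPolynomial A 1)

lemma pcHom_adjoinRoot_fG :
    MoreMor.IsPseudoCoherentHom A (A[X] ⧸ Ideal.span {(C f * X - 1 : A[X])}) := by
  have h1 : MoreMor.IsPseudoCoherentHom A[X] (A[X] ⧸ Ideal.span {(C f * X - 1 : A[X])}) := by
    rw [pcHom_iff_of_surjective (A := A[X]) (B := A[X] ⧸ Ideal.span {(C f * X - 1 : A[X])})
      Ideal.Quotient.mk_surjective]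
    have hk := Groth.Agent.Helper3.KzAway.kreg_fG f
    have hp := Groth.Agent.Helper3.KPerfA.isPerfect_quot_of_kreg _ hk
    have hpc := ((isPerfect_iff_pc_and_torDim _).mp hp).1
    have heq : Ideal.ofList (List.ofFn (fun _ : Fin 1 => (C f * X - 1 : A[X]))) =
        Ideal.span {(C f * X - 1 : A[X])} := by
      show Ideal.span _ = _
      congr 1
      ext x
      simp
    let l : (A[X] ⧸ Ideal.ofList (List.ofFn (fun _ : Fin 1 => (C f * X - 1 : A[X])))) ≃ₗ[A[X]]
        (A[X] ⧸ Ideal.span {(C f * X - 1 : A[X])}) := Submodule.quotEquivOfEq _ _ heq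
    exact isPseudoCoherent'_of_iso
      ((singleFunctor (ModuleCat.{u} A[X]) 0).mapIso l.toModuleIso) hpc
  exact comp (pcHom_polynomial A) h1

/-- `A → A_f` is pseudo-coherent -/
theorem pcHom_away (S : Type u) [CommRing S] [Algebra A S] [IsLocalization.Away f S] :
    MoreMor.IsPseudoCoherentHom A S := by
  have h1 : MoreMor.IsPseudoCoherentHom A (Localization.Away f) :=
    of_algEquiv (show (A[X] ⧸ Ideal.span {(C f * X - 1 : A[X])}) ≃ₐ[A] Localization.Away f from
      (Localization.awayEquivAdjoin f).symm) (pcHom_adjoinRoot_fG A f)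
  exact of_algEquiv (IsLocalization.algEquiv (Submonoid.powers f) (Localization.Away f) S) h1

end Away

section RingHom

/-- pseudo-coherence as a property of ring homomorphisms -/
def Q {A B : Type u} [CommRing A] [CommRing B] (φ : A →+* B) : Prop :=
  letI := φ.toAlgebra
  MoreMor.IsPseudoCoherentHom A B

lemma Q_algebraMap {A B : Type u} [CommRing A] [CommRing B] [Algebra A B] :
    Q (algebraMap A B) ↔ MoreMor.IsPseudoCoherentHom A B := by
  unfold Q
  have : (algebraMap A B).toAlgebra = ‹Algebra A B› := Algebra.algebra_ext _ _ (fun _ => rfl)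
  rw [this]

theorem Q_comp {A B C : Type u} [CommRing A] [CommRing B] [CommRing C] (φ : A →+* B)
    (ψ : B →+* C) (h1 : Q φ) (h2 : Q ψ) : Q (ψ.comp φ) := by
  letI := φ.toAlgebra
  letI := ψ.toAlgebra
  letI := (ψ.comp φ).toAlgebra
  haveI : IsScalarTower A B C := IsScalarTower.of_algebraMap_eq (fun _ => rfl)
  exact comp (B := B) h1 h2

theorem Q_cancel {A B C : Type u} [CommRing A] [CommRing B] [CommRing C] (φ : A →+* B)
    (ψ : B →+* C) (h1 : Q φ) (h2 : Q (ψ.comp φ)) : Q ψ := by
  letI := φ.toAlgebra
  letI := ψ.toAlgebra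
  letI := (ψ.comp φ).toAlgebra
  haveI : IsScalarTower A B C := IsScalarTower.of_algebraMap_eq (fun _ => rfl)
  exact cancel (A := A) h1 h2

theorem Q_respectsIso : RingHom.RespectsIso @Q := by
  apply RingHom.StableUnderComposition.respectsIso
  · intro A B C _ _ _ φ ψ h1 h2
    exact Q_comp φ ψ h1 h2
  · intro A B _ _ e
    letI := e.toRingHom.toAlgebra
    show MoreMor.IsPseudoCoherentHom A B
    rw [pcHom_iff_of_surjective (A := A) (B := B) e.surjective, isPseudoCoherent'_iff_forall]
    intro m
    let l : A ≃ₗ[A] B :=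
      { e.toAddEquiv with
        map_smul' := fun a x => by
          change e (a * x) = e a * e x
          exact map_mul e a x }
    haveI : Module.Finite A B := Module.Finite.equiv l
    haveI : Module.Projective A B := Module.Projective.of_equiv l
    exact isPseudoCoherent_inD_of_finite_projective' B m

theorem Q_holdsForLocalizationAway : RingHom.HoldsForLocalizationAway @Q := by
  intro A S _ _ _ r _
  rw [Q_algebraMap]
  exact pcHom_away A r S

theorem Q_stableUnderCompositionWithLocalizationAway :
    RingHom.StableUnderCompositionWithLocalizationAway @Q := by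
  constructor
  · intro R S T _ _ _ _ r _ f hf
    exact Q_comp _ _ (Q_holdsForLocalizationAway S r) hf
  · intro R S T _ _ _ _ s _ f hf
    exact Q_comp _ _ hf (Q_holdsForLocalizationAway T s)

theorem Q_localizationAwayPreserves : RingHom.LocalizationAwayPreserves @Q := by
  intro R S _ _ f r R' S' _ _ _ _ _ _ hf
  -- `R → R' → S'` equals `R → S → S'`
  have h1 : Q ((algebraMap S S').comp f) := Q_comp _ _ hf (Q_holdsForLocalizationAway S' (f r))
  have h2 : (IsLocalization.Away.map R' S' f r).comp (algebraMap R R') =
      (algebraMap S S').comp f := IsLocalization.map_comp _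
  rw [← h2] at h1
  exact Q_cancel _ _ (Q_holdsForLocalizationAway R' r) h1

end RingHom

end Groth.Agent.Helper3.PcHom
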