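import Mathlib

set_option autoImplicit false
open Function TensorProduct LinearMap
universe u

namespace Groth.Agent.Helper3.FlatTors

section nat
variable {R : Type u} [CommRing R] (I : Ideal R) {M : Type u} [AddCommGroup M] [Module R M]

/-- naturality of `cancelBaseChange` in the first variable
(same statement as `Helper2.LocCrit2.cancel_natural`, restated here to keep imports light) -/
lemma cancel_natural {N N' : Type u} [AddCommGroup N] [AddCommGroup N'] [Module (R ⧸ I) N]
    [Module (R ⧸ I) N'] [Module R N] [Module R N'] [IsScalarTower R (R ⧸ I) N]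
    [IsScalarTower R (R ⧸ I) N'] (g : N →ₗ[R ⧸ I] N')
    (x : N ⊗[R ⧸ I] ((R ⧸ I) ⊗[R] M)) :
    TensorProduct.AlgebraTensorModule.cancelBaseChange R (R ⧸ I) (R ⧸ I) N' M
      (rTensor ((R ⧸ I) ⊗[R] M) g x) =
    rTensor M (g.restrictScalars R)
      (TensorProduct.AlgebraTensorModule.cancelBaseChange R (R ⧸ I) (R ⧸ I) N M x) := by
  induction x using TensorProduct.induction_on with
  | zero => simp
  | add a b ha hb => simp only [map_add, ha, hb]
  | tmul n y =>
    induction y using TensorProduct.induction_on with
    | zero => simp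
    | add a b ha hb => simp only [tmul_add, map_add, ha, hb]
    | tmul a m => simp

/-- injections between `I`-torsion modules stay injective after `⊗ M` if `M/IM` is
flat over `R/I`. -/
lemma rTensor_injective_of_torsion {N' N : Type u} [AddCommGroup N'] [Module R N']
    [AddCommGroup N] [Module R N]
    (hN' : Module.IsTorsionBySet R N' I) (hN : Module.IsTorsionBySet R N I)
    (ι : N' →ₗ[R] N) (hι : Injective ι)
    [Module.Flat (R ⧸ I) ((R ⧸ I) ⊗[R] M)] : Injective (rTensor M ι) := by
  let _ := hN'.module
  let _ := hN.module
  let ι' : N' →ₗ[R ⧸ I] N :=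
    { ι with
      map_smul' := by
        intro s x
        obtain ⟨s, rfl⟩ := Ideal.Quotient.mk_surjective s
        change ι (s • x) = s • ι x
        exact map_smul ι s x }
  have hι' : Injective (rTensor ((R ⧸ I) ⊗[R] M) ι') :=
    Module.Flat.rTensor_preserves_injective_linearMap ι' hι
  have hres : ι'.restrictScalars R = ι := by
    ext x; rfl
  let e' := TensorProduct.AlgebraTensorModule.cancelBaseChange R (R ⧸ I) (R ⧸ I) N' M
  let e := TensorProduct.AlgebraTensorModule.cancelBaseChange R (R ⧸ I) (R ⧸ I) N M
  rw [injective_iff_map_eq_zero]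
  intro x hx
  have h1 : rTensor ((R ⧸ I) ⊗[R] M) ι' (e'.symm x) = 0 := by
    apply e.injective
    rw [map_zero, cancel_natural I ι', LinearEquiv.apply_symm_apply, hres, hx]
  have h2 := (injective_iff_map_eq_zero _).1 hι' _ h1
  simpa using h2

/-- Conversely: flatness of `(R/I) ⊗ M` over `R/I` follows from injectivity of
`𝔞 ⊗_R M → (R/I) ⊗_R M` for all ideals `𝔞` of `R/I`. -/
lemma flat_quotient_of_injective
    (h : ∀ 𝔞 : Ideal (R ⧸ I), Injective (rTensor M (𝔞.subtype.restrictScalars R))) :
    Module.Flat (R ⧸ I) ((R ⧸ I) ⊗[R] M) := by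
  rw [Module.Flat.iff_rTensor_injective']
  intro 𝔞
  let e' := TensorProduct.AlgebraTensorModule.cancelBaseChange R (R ⧸ I) (R ⧸ I) 𝔞 M
  let e := TensorProduct.AlgebraTensorModule.cancelBaseChange R (R ⧸ I) (R ⧸ I) (R ⧸ I) M
  rw [injective_iff_map_eq_zero]
  intro x hx
  have h1 : rTensor M (𝔞.subtype.restrictScalars R) (e' x) = 0 := by
    rw [← cancel_natural I 𝔞.subtype, hx, map_zero]
  have h2 := (injective_iff_map_eq_zero _).1 (h 𝔞) _ h1
  exact e'.injective (by rw [h2, map_zero])

end nat

section alg
variable {R A : Type u} [CommRing R] [CommRing A] [Algebra R A] {M : Type u} [AddCommGroup M]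
  [Module R M]

/-- naturality of `cancelBaseChange` in the first variable, general algebra -/
lemma cancel_natural' {N N' : Type u} [AddCommGroup N] [AddCommGroup N'] [Module A N]
    [Module A N'] [Module R N] [Module R N'] [IsScalarTower R A N]
    [IsScalarTower R A N'] (g : N →ₗ[A] N')
    (x : N ⊗[A] (A ⊗[R] M)) :
    TensorProduct.AlgebraTensorModule.cancelBaseChange R A A N' M
      (rTensor (A ⊗[R] M) g x) =
    rTensor M (g.restrictScalars R)
      (TensorProduct.AlgebraTensorModule.cancelBaseChange R A A N M x) := by
  induction x using TensorProduct.induction_on with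
  | zero => simp
  | add a b ha hb => simp only [map_add, ha, hb]
  | tmul n y =>
    induction y using TensorProduct.induction_on with
    | zero => simp
    | add a b ha hb => simp only [tmul_add, map_add, ha, hb]
    | tmul a m => simp

/-- If `A ⊗ M` is flat over `A`, injective `A`-linear maps stay injective after `⊗_R M`. -/
lemma rTensor_injective_of_flat_baseChange {N' N : Type u} [AddCommGroup N'] [Module A N']
    [AddCommGroup N] [Module A N] [Module R N'] [Module R N] [IsScalarTower R A N']
    [IsScalarTower R A N]
    (g : N' →ₗ[A] N) (hg : Injective g)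
    [Module.Flat A (A ⊗[R] M)] : Injective (rTensor M (g.restrictScalars R)) := by
  have hg' : Injective (rTensor (A ⊗[R] M) g) :=
    Module.Flat.rTensor_preserves_injective_linearMap g hg
  let e' := TensorProduct.AlgebraTensorModule.cancelBaseChange R A A N' M
  let e := TensorProduct.AlgebraTensorModule.cancelBaseChange R A A N M
  rw [injective_iff_map_eq_zero]
  intro x hx
  have h1 : rTensor (A ⊗[R] M) g (e'.symm x) = 0 := by
    apply e.injective
    rw [map_zero, cancel_natural' g, LinearEquiv.apply_symm_apply, hx]
  have h2 := (injective_iff_map_eq_zero _).1 hg' _ h1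
  simpa using h2

end alg

end Groth.Agent.Helper3.FlatTors
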