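import Mathlib
set_option linter.style.haveILetI false
set_option linter.unusedSectionVars false
set_option linter.unusedVariables false
open TensorProduct
universe u
namespace Groth.Agent.Helper3.RelFP

/-- (i') finite presentation descends along a surjection of rings. -/
theorem of_surjective {P₁ P₂ N : Type*} [CommRing P₁] [CommRing P₂] [Algebra P₁ P₂]
    [AddCommGroup N] [Module P₁ N] [Module P₂ N] [IsScalarTower P₁ P₂ N]
    (hs : Function.Surjective (algebraMap P₁ P₂)) [Module.FinitePresentation P₁ N] :
    Module.FinitePresentation P₂ N := by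
  have hbc : IsBaseChange P₂ (LinearMap.id : N →ₗ[P₁] N) := by
    refine ⟨?_, ?_⟩
    · -- injective
      have h1 : ∀ x : P₂ ⊗[P₁] N, ∃ n : N, x = 1 ⊗ₜ n := by
        intro x
        induction x with
        | zero => exact ⟨0, by simp⟩
        | tmul b n =>
          obtain ⟨a, rfl⟩ := hs b
          refine ⟨a • n, ?_⟩
          rw [Algebra.algebraMap_eq_smul_one, TensorProduct.smul_tmul]
        | add x y hx hy =>
          obtain ⟨n1, rfl⟩ := hx
          obtain ⟨n2, rfl⟩ := hy
          exact ⟨n1 + n2, by rw [TensorProduct.tmul_add]⟩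
      rw [injective_iff_map_eq_zero]
      intro x hx
      obtain ⟨n, rfl⟩ := h1 x
      have : n = 0 := by simpa using hx
      rw [this, TensorProduct.tmul_zero]
    · intro n
      exact ⟨1 ⊗ₜ n, by simp⟩
  exact _root_.FinitePresentation.of_isBaseChange _ hbc

/-- (ii') finite presentation ascends along a surjection with finitely generated kernel. -/
theorem of_surjective_fg {P₁ P₂ N : Type*} [CommRing P₁] [CommRing P₂] [Algebra P₁ P₂]
    [AddCommGroup N] [Module P₁ N] [Module P₂ N] [IsScalarTower P₁ P₂ N]
    (hs : Function.Surjective (algebraMap P₁ P₂)) (hk : (RingHom.ker (algebraMap P₁ P₂)).FG)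
    [Module.FinitePresentation P₂ N] :
    Module.FinitePresentation P₁ N := by
  haveI : Module.FinitePresentation P₁ P₂ := by
    refine Module.finitePresentation_of_surjective (Algebra.linearMap P₁ P₂) hs ?_
    have : (Algebra.linearMap P₁ P₂).ker = RingHom.ker (algebraMap P₁ P₂) := by
      ext x; simp [RingHom.mem_ker]
    rw [this]; exact hk
  exact Module.FinitePresentation.trans P₁ N P₂

/-- compHom form of (i'). -/
theorem compHom_of_surjective {P₁ P₂ A N : Type*} [CommRing P₁] [CommRing P₂] [CommRing A]
    [AddCommGroup N] [Module A N] (f : P₁ →+* P₂) (hf : Function.Surjective f) (g : P₂ →+* A)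
    (g₁ : P₁ →+* A) (hg : g₁ = g.comp f)
    (h : @Module.FinitePresentation P₁ N _ _ (Module.compHom N g₁)) :
    @Module.FinitePresentation P₂ N _ _ (Module.compHom N g) := by
  subst hg
  letI : Algebra P₁ P₂ := f.toAlgebra
  letI : Module P₂ N := Module.compHom N g
  letI : Module P₁ N := Module.compHom N (g.comp f)
  haveI : IsScalarTower P₁ P₂ N := IsScalarTower.of_algebraMap_smul fun r x => rfl
  haveI := h
  exact of_surjective (P₁ := P₁) (P₂ := P₂) hf

/-- compHom form of (ii'). -/
theorem compHom_of_surjective_fg {P₁ P₂ A N : Type*} [CommRing P₁] [CommRing P₂] [CommRing A]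
    [AddCommGroup N] [Module A N] (f : P₁ →+* P₂) (hf : Function.Surjective f)
    (hk : (RingHom.ker f).FG) (g : P₂ →+* A)
    (g₁ : P₁ →+* A) (hg : g₁ = g.comp f)
    (h : @Module.FinitePresentation P₂ N _ _ (Module.compHom N g)) :
    @Module.FinitePresentation P₁ N _ _ (Module.compHom N g₁) := by
  subst hg
  letI : Algebra P₁ P₂ := f.toAlgebra
  letI : Module P₂ N := Module.compHom N g
  letI : Module P₁ N := Module.compHom N (g.comp f)
  haveI : IsScalarTower P₁ P₂ N := IsScalarTower.of_algebraMap_smul fun r x => rfl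
  haveI := h
  exact of_surjective_fg (P₁ := P₁) (P₂ := P₂) hf hk

/-- Lemma D: base change of a relatively finitely presented module. -/
theorem baseChange_aux {P A P₃ A' M : Type*} [CommRing P] [CommRing A] [CommRing P₃] [CommRing A']
    [Algebra P A] [Algebra P P₃] [Algebra P₃ A'] [Algebra A A'] [Algebra P A']
    [IsScalarTower P A A'] [IsScalarTower P P₃ A']
    [AddCommGroup M] [Module A M] [Module P M] [IsScalarTower P A M]
    (hα : Function.Surjective (algebraMap P A)) (hδ : Function.Surjective (algebraMap P₃ A'))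
    (J₃ : Ideal P₃) (hJ : J₃.FG)
    (hker : RingHom.ker (algebraMap P₃ A') =
      (RingHom.ker (algebraMap P A)).map (algebraMap P P₃) ⊔ J₃)
    [Module.FinitePresentation P M] :
    Module.FinitePresentation P₃ (A' ⊗[A] M) := by
  -- compatible smul
  haveI c1 : TensorProduct.CompatibleSMul P A A' M := by
    refine ⟨fun a x m => ?_⟩
    obtain ⟨p, rfl⟩ := hα a
    rw [algebraMap_smul, algebraMap_smul, TensorProduct.smul_tmul]
  haveI c2 : TensorProduct.CompatibleSMul A P A' M := by
    refine ⟨fun p x m => ?_⟩
    rw [← algebraMap_smul A p x, ← algebraMap_smul A p m, TensorProduct.smul_tmul]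
  let l₂ : A' ⊗[A] M ≃ₗ[P₃] A' ⊗[P] M := TensorProduct.equivOfCompatibleSMul P A P₃ A' M
  let l₁ : P₃ ⊗[P] M →ₗ[P₃] A' ⊗[P] M :=
    TensorProduct.AlgebraTensorModule.map (Algebra.linearMap P₃ A') (LinearMap.id : M →ₗ[P] M)
  have hl₁ : ∀ p m, l₁ (p ⊗ₜ m) = (algebraMap P₃ A' p) ⊗ₜ m := fun p m => rfl
  let l : P₃ ⊗[P] M →ₗ[P₃] A' ⊗[A] M := l₂.symm.toLinearMap ∘ₗ l₁
  have hl : ∀ x, l x = l₂.symm (l₁ x) := fun x => rfl
  have hl₁surj : Function.Surjective l₁ := by
    intro y
    induction y with
    | zero => exact ⟨0, by simp⟩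
    | tmul a m =>
      obtain ⟨p, rfl⟩ := hδ a
      exact ⟨p ⊗ₜ m, hl₁ p m⟩
    | add x y hx hy =>
      obtain ⟨x', rfl⟩ := hx
      obtain ⟨y', rfl⟩ := hy
      exact ⟨x' + y', map_add _ _ _⟩
  have hlsurj : Function.Surjective l := by
    intro y
    obtain ⟨x, hx⟩ := hl₁surj (l₂ y)
    exact ⟨x, by rw [hl, hx]; simp⟩
  -- annihilation
  have hann : ∀ k ∈ (RingHom.ker (algebraMap P A)).map (algebraMap P P₃),
      ∀ x : P₃ ⊗[P] M, k • x = 0 := by
    intro k hk
    have : (RingHom.ker (algebraMap P A)).map (algebraMap P P₃) ≤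
        Module.annihilator P₃ (P₃ ⊗[P] M) := by
      rw [Ideal.map_le_iff_le_comap]
      intro a ha
      rw [Ideal.mem_comap, Module.mem_annihilator]
      intro x
      rw [algebraMap_smul]
      induction x with
      | zero => simp
      | tmul p m =>
        rw [TensorProduct.smul_tmul', TensorProduct.smul_tmul, ← algebraMap_smul A a m,
          (RingHom.mem_ker).mp ha, zero_smul, TensorProduct.tmul_zero]
      | add x y hx hy => rw [smul_add, hx, hy, add_zero]
    intro x
    exact Module.mem_annihilator.mp (this hk) x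
  have hkerl : LinearMap.ker l = J₃ • (⊤ : Submodule P₃ (P₃ ⊗[P] M)) := by
    apply le_antisymm
    · intro x hx
      rw [LinearMap.mem_ker, hl] at hx
      have hx1 : l₁ x = 0 := by simpa using hx
      -- exactness
      let g : P₃ →ₗ[P] A' := (IsScalarTower.toAlgHom P P₃ A').toLinearMap
      have hg : Function.Surjective g := hδ
      have hex := rTensor_exact M (LinearMap.exact_subtype_ker_map g) hg
      have hx2 : LinearMap.rTensor M g x = 0 := by
        have : ∀ y, LinearMap.rTensor M g y = l₁ y := by
          intro y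
          induction y with
          | zero => simp
          | tmul p m => rfl
          | add x y hx hy => rw [map_add, map_add, hx, hy]
        rw [this, hx1]
      obtain ⟨y, rfl⟩ := (hex x).mp hx2
      have hK : ∀ y : (LinearMap.ker g) ⊗[P] M,
          LinearMap.rTensor M (LinearMap.ker g).subtype y ∈
            RingHom.ker (algebraMap P₃ A') • (⊤ : Submodule P₃ (P₃ ⊗[P] M)) := by
        intro y
        induction y with
        | zero => simp
        | tmul k m =>
          have : LinearMap.rTensor M (LinearMap.ker g).subtype (k ⊗ₜ m) =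
              (k : P₃) • ((1 : P₃) ⊗ₜ[P] m) := by
            rw [LinearMap.rTensor_tmul, TensorProduct.smul_tmul', smul_eq_mul, mul_one]; rfl
          rw [this]
          exact Submodule.smul_mem_smul (by
            rw [RingHom.mem_ker]; exact k.2) trivial
        | add x y hx hy => rw [map_add]; exact Submodule.add_mem _ hx hy
      have h3 := hK y
      rw [hker, Submodule.sup_smul] at h3
      have hbot : ((RingHom.ker (algebraMap P A)).map (algebraMap P P₃)) •
          (⊤ : Submodule P₃ (P₃ ⊗[P] M)) = ⊥ := by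
        rw [eq_bot_iff, Submodule.smul_le]
        intro k hk x _
        rw [hann k hk x]; exact Submodule.zero_mem _
      rwa [hbot, bot_sup_eq] at h3
    · rw [Submodule.smul_le]
      intro j hj x _
      rw [LinearMap.mem_ker, map_smul]
      have : algebraMap P₃ A' j = 0 := by
        have : j ∈ RingHom.ker (algebraMap P₃ A') := by rw [hker]; exact Ideal.mem_sup_right hj
        exact this
      rw [← algebraMap_smul A' j (l x), this, zero_smul]
  refine Module.finitePresentation_of_surjective l hlsurj ?_
  rw [hkerl]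
  exact Submodule.FG.smul hJ (Module.Finite.fg_top)

/-- natural module structure on `A' ⊗[A] M` over `P₃` equals the `compHom` one. -/
theorem compHom_eq {P₃ A A' M : Type*} [CommRing P₃] [CommRing A] [CommRing A']
    [Algebra P₃ A'] [Algebra A A'] [AddCommGroup M] [Module A M] :
    (inferInstance : Module P₃ (A' ⊗[A] M)) =
      Module.compHom (A' ⊗[A] M) (algebraMap P₃ A') :=
  Module.ext' _ _ fun r x => (algebraMap_smul A' r x).symm

theorem fp_compHom_of_fp {P₃ A A' M : Type*} [CommRing P₃] [CommRing A] [CommRing A']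
    [Algebra P₃ A'] [Algebra A A'] [AddCommGroup M] [Module A M]
    (h : Module.FinitePresentation P₃ (A' ⊗[A] M)) :
    @Module.FinitePresentation P₃ (A' ⊗[A] M) _ _
      (Module.compHom (A' ⊗[A] M) (algebraMap P₃ A')) := by
  have := compHom_eq (P₃ := P₃) (A := A) (A' := A') (M := M)
  exact this ▸ h

/-- transport along a linear equivalence over the target ring. -/
theorem compHom_equiv {Q A' N N' : Type*} [CommRing Q] [CommRing A'] [AddCommGroup N]
    [AddCommGroup N'] [Module A' N] [Module A' N'] (γ : Q →+* A') (e : N ≃ₗ[A'] N')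
    (h : @Module.FinitePresentation Q N _ _ (Module.compHom N γ)) :
    @Module.FinitePresentation Q N' _ _ (Module.compHom N' γ) := by
  letI : Module Q N := Module.compHom N γ
  letI : Module Q N' := Module.compHom N' γ
  let e' : N ≃ₗ[Q] N' :=
    { e.toAddEquiv with
      map_smul' := fun r x => by
        show e (γ r • x) = γ r • e x
        exact map_smul e _ _ }
  haveI := h
  exact Module.FinitePresentation.of_equiv e'

/-- General relative base change. -/
theorem relBC {P A A' Q M : Type*} {ι : Type*} [Finite ι] [CommRing P] [CommRing A] [CommRing A']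
    [CommRing Q] [Algebra A A'] [Algebra.FinitePresentation A A']
    [AddCommGroup M] [Module A M]
    (α : P →+* A) (hα : Function.Surjective α)
    (γ : Q →+* A') (hγ : Function.Surjective γ)
    (ρ₀ : P →+* Q) (hρ₀ : γ.comp ρ₀ = (algebraMap A A').comp α)
    (q : ι → Q) (hq : Function.Surjective (MvPolynomial.eval₂Hom ρ₀ q))
    (hM : @Module.FinitePresentation P M _ _ (Module.compHom M α)) :
    @Module.FinitePresentation Q (A' ⊗[A] M) _ _ (Module.compHom (A' ⊗[A] M) γ) := by
  classical
  let P₃ := MvPolynomial ι P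
  let ρ' : P₃ →+* Q := MvPolynomial.eval₂Hom ρ₀ q
  let δ : P₃ →+* A' := γ.comp ρ'
  have hδ : Function.Surjective δ := hγ.comp hq
  let Ψ : P₃ →+* MvPolynomial ι A := MvPolynomial.map α
  have hΨ : Function.Surjective Ψ := MvPolynomial.map_surjective α hα
  let δA : MvPolynomial ι A →ₐ[A] A' := MvPolynomial.aeval (fun j => γ (q j))
  have hδΨ : δ = δA.toRingHom.comp Ψ := by
    apply MvPolynomial.ringHom_ext
    · intro p
      have h1 : δ (MvPolynomial.C p) = γ (ρ₀ p) := by
        show γ (MvPolynomial.eval₂Hom ρ₀ q (MvPolynomial.C p)) = _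
        rw [MvPolynomial.eval₂Hom_C]
      have h2 : (δA.toRingHom.comp Ψ) (MvPolynomial.C p) = algebraMap A A' (α p) := by
        show δA (MvPolynomial.map α (MvPolynomial.C p)) = _
        rw [MvPolynomial.map_C, MvPolynomial.aeval_C]
      rw [h1, h2]
      exact congrArg (fun φ => φ p) hρ₀
    · intro j
      simp [δ, ρ', δA, Ψ]
  have hδA : Function.Surjective δA := by
    intro a
    obtain ⟨x, hx⟩ := hδ a
    exact ⟨Ψ x, by rw [← hx, hδΨ]; rfl⟩
  have hfg : (RingHom.ker δA.toRingHom).FG := Algebra.FinitePresentation.ker_fG_of_surjective δA hδA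
  obtain ⟨s, hs⟩ := hfg
  let s₃ : Finset P₃ := s.image (Function.surjInv hΨ)
  let J₃ : Ideal P₃ := Ideal.span (s₃ : Set P₃)
  have hJ₃map : J₃.map Ψ = RingHom.ker δA.toRingHom := by
    rw [← hs, Ideal.map_span]
    congr 1
    ext x
    simp only [s₃, Finset.coe_image, Set.mem_image, Finset.mem_coe, exists_exists_and_eq_and]
    constructor
    · rintro ⟨y, hy, rfl⟩
      rw [Function.surjInv_eq hΨ]; exact hy
    · intro hx
      exact ⟨x, hx, Function.surjInv_eq hΨ x⟩
  have hker : RingHom.ker δ = (RingHom.ker α).map (algebraMap P P₃) ⊔ J₃ := by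
    have h1 : RingHom.ker δ = (RingHom.ker δA.toRingHom).comap Ψ := by
      rw [hδΨ, RingHom.comap_ker]
    rw [h1, ← hJ₃map, Ideal.comap_map_of_surjective Ψ hΨ J₃, sup_comm]
    congr 1
    have : Ideal.comap Ψ ⊥ = RingHom.ker Ψ := rfl
    rw [this]
    exact MvPolynomial.ker_map α
  -- instances
  letI : Algebra P A := α.toAlgebra
  letI : Algebra P₃ A' := δ.toAlgebra
  letI : Algebra P A' := ((algebraMap A A').comp α).toAlgebra
  haveI : IsScalarTower P A A' := IsScalarTower.of_algebraMap_eq fun x => rfl
  haveI : IsScalarTower P P₃ A' := IsScalarTower.of_algebraMap_eq fun x => by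
    show (algebraMap A A') (α x) = δ (MvPolynomial.C x)
    have h1 : δ (MvPolynomial.C x) = γ (ρ₀ x) := by
      show γ (MvPolynomial.eval₂Hom ρ₀ q (MvPolynomial.C x)) = _
      rw [MvPolynomial.eval₂Hom_C]
    rw [h1]
    exact (congrArg (fun φ => φ x) hρ₀).symm
  letI : Module P M := Module.compHom M α
  haveI : IsScalarTower P A M := IsScalarTower.of_algebraMap_smul fun r x => rfl
  haveI : Module.FinitePresentation P M := hM
  have key : Module.FinitePresentation P₃ (A' ⊗[A] M) :=
    baseChange_aux (P := P) (A := A) (P₃ := P₃) (A' := A') (M := M) hα hδ J₃ ⟨s₃, rfl⟩ hker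
  have key2 := fp_compHom_of_fp key
  exact compHom_of_surjective ρ' hq γ δ rfl key2

/-- polynomial-ring version (S7005 for arbitrary index types). -/
theorem relBC_poly {R A A' : Type*} {σ τ : Type*} [Finite τ] [CommRing R] [CommRing A]
    [CommRing A'] [Algebra R A] [Algebra A A'] [Algebra R A'] [IsScalarTower R A A']
    [Algebra.FinitePresentation A A'] (M : Type*) [AddCommGroup M] [Module A M]
    (α : MvPolynomial σ R →ₐ[R] A) (hα : Function.Surjective α)
    (hM : @Module.FinitePresentation (MvPolynomial σ R) M _ _ (Module.compHom M α.toRingHom))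
    (γ : MvPolynomial τ R →ₐ[R] A') (hγ : Function.Surjective γ) :
    @Module.FinitePresentation (MvPolynomial τ R) (A' ⊗[A] M) _ _
      (Module.compHom (A' ⊗[A] M) γ.toRingHom) := by
  choose p hp using fun i => hγ (algebraMap A A' (α (MvPolynomial.X i)))
  let ρ₀ : MvPolynomial σ R →ₐ[R] MvPolynomial τ R := MvPolynomial.aeval p
  have hρ₀ : γ.toRingHom.comp ρ₀.toRingHom = (algebraMap A A').comp α.toRingHom := by
    apply MvPolynomial.ringHom_ext
    · intro r
      show γ (ρ₀ (MvPolynomial.C r)) = algebraMap A A' (α (MvPolynomial.C r))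
      rw [← MvPolynomial.algebraMap_eq, AlgHom.commutes, AlgHom.commutes, AlgHom.commutes,
        ← IsScalarTower.algebraMap_apply]
    · intro i
      show γ (ρ₀ (MvPolynomial.X i)) = algebraMap A A' (α (MvPolynomial.X i))
      rw [← hp i]; simp [ρ₀]
  have hq : Function.Surjective
      (MvPolynomial.eval₂Hom ρ₀.toRingHom (MvPolynomial.X : τ → MvPolynomial τ R)) := by
    intro f
    induction f using MvPolynomial.induction_on with
    | C r =>
      refine ⟨MvPolynomial.C (MvPolynomial.C r), ?_⟩
      rw [MvPolynomial.eval₂Hom_C]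
      show ρ₀ (MvPolynomial.C r) = MvPolynomial.C r
      rw [← MvPolynomial.algebraMap_eq, AlgHom.commutes, MvPolynomial.algebraMap_eq]
    | add f g hf hg =>
      obtain ⟨f', rfl⟩ := hf
      obtain ⟨g', rfl⟩ := hg
      exact ⟨f' + g', map_add _ _ _⟩
    | mul_X f j hf =>
      obtain ⟨f', rfl⟩ := hf
      refine ⟨f' * MvPolynomial.X j, ?_⟩
      rw [map_mul, MvPolynomial.eval₂Hom_X']
  exact relBC α.toRingHom hα γ.toRingHom hγ ρ₀.toRingHom hρ₀ MvPolynomial.X hq hM

end Groth.Agent.Helper3.RelFP
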