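import Mathlib

/-!
Spreading out a property of the stalk map at a point to a property of the morphism on an open
neighbourhood of the point (generic reduction to the affine case).
-/

set_option autoImplicit false

namespace Groth.Agent.Helper3.StalkNbhd

open AlgebraicGeometry CategoryTheory

universe u

/-- From an open immersion `j` hitting `x` with `P (j ≫ f)` to an honest open subset. -/
lemma exists_opens_of_isOpenImmersion {P : MorphismProperty Scheme.{u}} [P.RespectsIso]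
    {X Y W : Scheme.{u}} (f : X ⟶ Y) (j : W ⟶ X) [IsOpenImmersion j] (x : X)
    (hx : x ∈ Set.range j) (h : P (j ≫ f)) : ∃ U : X.Opens, x ∈ U ∧ P (U.ι ≫ f) := by
  refine ⟨j.opensRange, hx, ?_⟩
  have : j.opensRange.ι ≫ f = j.isoOpensRange.inv ≫ j ≫ f := by
    rw [← Category.assoc, Scheme.Hom.isoOpensRange_inv_comp]
  rw [this, P.cancel_left_of_respectsIso]
  exact h

/-- A source-local property holds if it holds on an open neighbourhood of every point. -/
lemma of_forall_exists_nbhd {P : MorphismProperty Scheme.{u}} [IsZariskiLocalAtSource P]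
    {X Y : Scheme.{u}} (f : X ⟶ Y) (H : ∀ x : X, ∃ U : X.Opens, x ∈ U ∧ P (U.ι ≫ f)) : P f := by
  choose U hxU hU using H
  refine IsZariskiLocalAtSource.of_iSup_eq_top U ?_ hU
  rw [eq_top_iff]
  intro x _
  exact TopologicalSpace.Opens.mem_iSup.mpr ⟨x, hxU x⟩

/-- Ring-level spreading-out hypothesis: if the localized map at `q` satisfies `Q'` then
`R → S_g` satisfies `Q` for some `g ∉ q`. -/
def Spreads (Q FT Q' : ∀ {R S : Type u} [CommRing R] [CommRing S], (R →+* S) → Prop) : Prop :=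
  ∀ {R S : Type u} [CommRing R] [CommRing S] (φ : R →+* S), FT φ → ∀ (q : Ideal S) [q.IsPrime],
    Q' (Localization.localRingHom (q.comap φ) q φ rfl) →
    ∃ g : S, g ∉ q ∧ Q ((algebraMap S (Localization.Away g)).comp φ)

section

variable {P : MorphismProperty Scheme.{u}}
  {Q : ∀ {R S : Type u} [CommRing R] [CommRing S], (R →+* S) → Prop}
  [HasRingHomProperty P Q]
  {FT Q' : ∀ {R S : Type u} [CommRing R] [CommRing S], (R →+* S) → Prop}

lemma exists_nbhd_Spec (hQ' : RingHom.RespectsIso Q') (hs : Spreads Q FT Q')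
    {R S : CommRingCat.{u}} (φ : R ⟶ S) (hφ : FT φ.hom) (p : PrimeSpectrum S)
    (h : Q' ((Spec.map φ).stalkMap p).hom) :
    ∃ U : (Spec S).Opens, (show ↥(Spec S) from p) ∈ U ∧ P (U.ι ≫ Spec.map φ) := by
  rw [hQ'.arrow_mk_iso_iff (Scheme.arrowStalkMapSpecIso φ p)] at h
  obtain ⟨g, hg, hQg⟩ := hs φ.hom hφ p.asIdeal h
  have : P.RespectsIso := inferInstance
  refine exists_opens_of_isOpenImmersion (P := P) (Spec.map φ)
    (Spec.map (CommRingCat.ofHom (algebraMap S (Localization.Away g)))) p ?_ ?_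
  · have := PrimeSpectrum.localization_away_comap_range (Localization.Away g) g
    have hp : p ∈ (PrimeSpectrum.basicOpen g : Set (PrimeSpectrum S)) := hg
    rw [← this] at hp
    exact hp
  · rw [← Spec.map_comp, HasRingHomProperty.Spec_iff (P := P)]
    exact hQg

variable {Fin : MorphismProperty Scheme.{u}} [HasRingHomProperty Fin FT]

set_option backward.isDefEq.respectTransparency false in
/-- Generic spreading out: if `Q'` holds for the stalk map of `f` at `x`, then `P` holds for `f`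
on an open neighbourhood of `x`. -/
theorem exists_nbhd_of_stalkMap [P.IsMultiplicative]
    (hP : ∀ {X Y : Scheme.{u}} (f : X ⟶ Y) [IsOpenImmersion f], P f)
    (hQ' : RingHom.RespectsIso Q') (hs : Spreads Q FT Q')
    {X Y : Scheme.{u}} (f : X ⟶ Y) (hf : Fin f) (x : X) (h : Q' (f.stalkMap x).hom) :
    ∃ U : X.Opens, x ∈ U ∧ P (U.ι ≫ f) := by
  obtain ⟨V, hV, hfx, _⟩ := TopologicalSpace.Opens.isBasis_iff_nbhd.mp Y.isBasis_affineOpens
    (TopologicalSpace.Opens.mem_top <| f x)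
  obtain ⟨U₀, hU₀, hx, e⟩ := TopologicalSpace.Opens.isBasis_iff_nbhd.mp X.isBasis_affineOpens
    (show x ∈ f ⁻¹ᵁ V from hfx)
  have hU₀' : IsAffine U₀ := hU₀
  have hV' : IsAffine V := hV
  -- the restriction
  let g : (U₀ : Scheme.{u}) ⟶ V := f.resLE V U₀ e
  have hg : Fin g := IsZariskiLocalAtSource.resLE _ hf
  have hgx : Q' (g.stalkMap ⟨x, hx⟩).hom := by
    rw [hQ'.arrow_mk_iso_iff (Scheme.Hom.resLEStalkMap f e ⟨x, hx⟩)]
    exact h
  -- pass to Spec
  let g' : Spec Γ(U₀, ⊤) ⟶ Spec Γ(V, ⊤) :=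
    (U₀ : Scheme.{u}).isoSpec.inv ≫ g ≫ (V : Scheme.{u}).isoSpec.hom
  have hg' : Fin g' := by
    rw [Fin.cancel_left_of_respectsIso, Fin.cancel_right_of_respectsIso]
    exact hg
  let x' : Spec Γ(U₀, ⊤) := (U₀ : Scheme.{u}).isoSpec.hom ⟨x, hx⟩
  have hgx' : Q' (g'.stalkMap x').hom := by
    rw [Scheme.Hom.stalkMap_comp, Scheme.Hom.stalkMap_comp, CommRingCat.hom_comp,
      hQ'.cancel_right_isIso, CommRingCat.hom_comp, hQ'.cancel_left_isIso]
    have heq : ((U₀ : Scheme.{u}).isoSpec.inv ((U₀ : Scheme.{u}).isoSpec.hom ⟨x, hx⟩)) = ⟨x, hx⟩ := by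
      simp
    rw [hQ'.arrow_mk_iso_iff (g.arrowStalkMapIsoOfEq heq)]
    exact hgx
  obtain ⟨φ, hφ⟩ := Spec.map_surjective g'
  rw [← hφ] at hg' hgx'
  rw [HasRingHomProperty.Spec_iff (P := Fin)] at hg'
  obtain ⟨W, hxW, hW⟩ := exists_nbhd_Spec (P := P) hQ' hs φ hg' x' hgx'
  have hPi : P.RespectsIso := inferInstance
  refine exists_opens_of_isOpenImmersion (P := P) f
    (W.ι ≫ (U₀ : Scheme.{u}).isoSpec.inv ≫ Scheme.Opens.ι U₀) x ?_ ?_
  · refine ⟨⟨x', hxW⟩, ?_⟩
    simp [x']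
  · have : (W.ι ≫ (U₀ : Scheme.{u}).isoSpec.inv ≫ Scheme.Opens.ι U₀) ≫ f =
        (W.ι ≫ Spec.map φ) ≫ (V : Scheme.{u}).isoSpec.inv ≫ Scheme.Opens.ι V := by
      rw [hφ]
      simp only [g', g, Category.assoc, Iso.hom_inv_id_assoc, Scheme.Hom.resLE_comp_ι]
    rw [this]
    exact P.comp_mem _ _ hW (hP _)

end

end Groth.Agent.Helper3.StalkNbhd
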