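import Mathlib
import Groth.Agent.Helper3.StalkNbhd

/-!
Instances of the spreading-out hypothesis: formally unramified, étale (flat + formally unramified
at the point).
-/

set_option autoImplicit false

namespace Groth.Agent.Helper3.StalkNbhd

open AlgebraicGeometry CategoryTheory

universe u

theorem spreads_formallyUnramified :
    Spreads (fun {R S} [CommRing R] [CommRing S] (f : R →+* S) => f.FormallyUnramified)
      (fun {R S} [CommRing R] [CommRing S] (f : R →+* S) => f.FiniteType)
      (fun {R S} [CommRing R] [CommRing S] (f : R →+* S) => f.FormallyUnramified) := by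
  intro R S _ _ φ hφ q _ h
  algebraize [φ]
  algebraize [Localization.localRingHom (q.comap φ) q φ rfl]
  have hst : IsScalarTower R (Localization.AtPrime (q.comap φ)) (Localization.AtPrime q) := by
    refine .of_algebraMap_eq' ?_
    rw [IsScalarTower.algebraMap_eq R S (Localization.AtPrime q)]
    ext r
    simp [RingHom.algebraMap_toAlgebra, Localization.localRingHom_to_map]
  have : Algebra.FormallyUnramified R (Localization.AtPrime q) :=
    Algebra.FormallyUnramified.comp R (Localization.AtPrime (q.comap φ)) _
  have : Algebra.EssFiniteType R S := inferInstance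
  obtain ⟨g, hg, H⟩ := Algebra.exists_formallyUnramified_of_isUnramifiedAt (R := R) q
  refine ⟨g, hg, ?_⟩
  have : (algebraMap S (Localization.Away g)).comp φ = algebraMap R (Localization.Away g) := by
    rw [IsScalarTower.algebraMap_eq R S (Localization.Away g)]; rfl
  rw [this]
  exact RingHom.formallyUnramified_algebraMap.mpr H

open IsLocalRing TensorProduct in
/-- Flat and unramified at a prime implies étale at that prime (finitely presented case).
(Adapted from `Helper4.EtLocalFlat.bwd`, which follows Mathlib's
`Algebra.IsSmoothAt.of_formallySmooth_fiber`.) -/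
theorem isEtaleAt_of_flat (A B : Type u) [CommRing A] [CommRing B] [Algebra A B]
    [Algebra.FinitePresentation A B]
    (p : Ideal A) [p.IsPrime] (q : Ideal B) [q.IsPrime] [q.LiesOver p]
    [Algebra (Localization.AtPrime p) (Localization.AtPrime q)]
    [Localization.AtPrime.IsLiesOverAlgebra p q]
    (h1 : Module.Flat (Localization.AtPrime p) (Localization.AtPrime q))
    [hU : Algebra.IsUnramifiedAt A q] : Algebra.IsEtaleAt A q := by
  let Rp := Localization.AtPrime p
  let Sp := Localization (Algebra.algebraMapSubmonoid B p.primeCompl)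
  let Sq := Localization.AtPrime q
  have : Algebra.EssFiniteType Rp Sq := .of_comp A _ _
  have : Algebra.FormallyUnramified Rp Sq := .of_restrictScalars A _ _
  have : Algebra.FormallyEtale p.ResidueField (p.ResidueField ⊗[Rp] Sq) :=
    Algebra.FormallyEtale.of_formallyUnramified_of_field _ _
  let f : Sp →ₐ[B] Sq := IsLocalization.liftAlgHom (M := Algebra.algebraMapSubmonoid B p.primeCompl)
        (f := Algebra.ofId _ _) (by
      rintro ⟨_, x, hx, rfl⟩
      simpa using! IsLocalization.map_units (M := q.primeCompl) Sq ⟨algebraMap _ _ x,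
        by simp_all [q.over_def p]⟩)
  algebraize [f.toRingHom]
  have : IsScalarTower A Sp Sq := .to₁₃₄ _ B _ _
  have : IsScalarTower Rp Sp Sq := .of_algebraMap_eq' <| by
    apply IsLocalization.ringHom_ext p.primeCompl
    simp only [RingHom.comp_assoc, ← IsScalarTower.algebraMap_eq]
  have : IsLocalization (Algebra.algebraMapSubmonoid Sp q.primeCompl) Sq :=
    .isLocalization_of_submonoid_le _ _ (Algebra.algebraMapSubmonoid B p.primeCompl) _
    (by rintro _ ⟨x, hx, rfl⟩; simp_all [q.over_def p])
  have : Algebra.FinitePresentation Rp Sp := by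
    have : Algebra.IsPushout A Rp B Sp :=
      .symm <| Algebra.isPushout_of_isLocalization p.primeCompl _ _ _
    exact .equiv (Algebra.IsPushout.equiv A Rp B Sp)
  have : Algebra.FormallySmooth Rp Sq := Algebra.FormallySmooth.of_formallySmooth_residueField_tensor
    (R := Rp) (S := Sq) (P := Sp) (Algebra.algebraMapSubmonoid _ q.primeCompl)
  have : Algebra.FormallySmooth A Sq := .comp A Rp Sq
  exact Algebra.FormallyEtale.of_formallyUnramified_and_formallySmooth

theorem spreads_etale :
    Spreads (fun {R S} [CommRing R] [CommRing S] (f : R →+* S) => f.Etale)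
      (fun {R S} [CommRing R] [CommRing S] (f : R →+* S) => f.FinitePresentation)
      (fun {R S} [CommRing R] [CommRing S] (f : R →+* S) => f.Flat ∧ f.FormallyUnramified) := by
  intro R S _ _ φ hφ q _ h
  algebraize [φ]
  have : q.LiesOver (q.comap φ) := ⟨rfl⟩
  let := Localization.AtPrime.algebraOfLiesOver (q.comap φ) q
  have hfl : Module.Flat (Localization.AtPrime (q.comap φ)) (Localization.AtPrime q) := h.1
  have hfu : Algebra.FormallyUnramified (Localization.AtPrime (q.comap φ))
      (Localization.AtPrime q) := h.2
  have : Algebra.FormallyUnramified R (Localization.AtPrime q) :=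
    Algebra.FormallyUnramified.comp R (Localization.AtPrime (q.comap φ)) _
  have : Algebra.IsEtaleAt R q := isEtaleAt_of_flat R S (q.comap φ) q hfl
  obtain ⟨g, hg, H⟩ := Algebra.exists_etale_of_isEtaleAt (R := R) q
  refine ⟨g, hg, ?_⟩
  have : (algebraMap S (Localization.Away g)).comp φ = algebraMap R (Localization.Away g) := by
    rw [IsScalarTower.algebraMap_eq R S (Localization.Away g)]; rfl
  rw [this]
  exact RingHom.etale_algebraMap.mpr H

set_option backward.isDefEq.respectTransparency false in
/-- A property of stalk maps that respects isomorphisms can be computed on an open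
neighbourhood. -/
lemma stalkMap_ι_comp_iff
    {Q' : ∀ {R S : Type u} [CommRing R] [CommRing S], (R →+* S) → Prop}
    (hQ' : RingHom.RespectsIso Q') {X Y : Scheme.{u}} (f : X ⟶ Y) (U : X.Opens) (x : X)
    (hx : x ∈ U) :
    Q' ((U.ι ≫ f).stalkMap ⟨x, hx⟩).hom ↔ Q' (f.stalkMap x).hom := by
  rw [Scheme.Hom.stalkMap_comp, CommRingCat.hom_comp, hQ'.cancel_right_isIso]
  rfl

theorem formallyUnramified_nbhd_iff {X Y : Scheme.{u}} (f : X ⟶ Y) [LocallyOfFiniteType f]
    (x : X) :
    (∃ U : X.Opens, x ∈ U ∧ FormallyUnramified (U.ι ≫ f)) ↔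
      (f.stalkMap x).hom.FormallyUnramified := by
  constructor
  · rintro ⟨U, hx, hU⟩
    rw [← stalkMap_ι_comp_iff RingHom.FormallyUnramified.respectsIso f U x hx]
    exact FormallyUnramified.stalkMap (U.ι ≫ f) ⟨x, hx⟩
  · intro h
    exact exists_nbhd_of_stalkMap (P := @FormallyUnramified) (Fin := @LocallyOfFiniteType)
      (fun f _ => inferInstance) RingHom.FormallyUnramified.respectsIso
      spreads_formallyUnramified f inferInstance x h

theorem etale_nbhd_iff {X Y : Scheme.{u}} (f : X ⟶ Y) [LocallyOfFinitePresentation f]
    (x : X) :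
    (∃ U : X.Opens, x ∈ U ∧ Etale (U.ι ≫ f)) ↔
      ((f.stalkMap x).hom.Flat ∧ (f.stalkMap x).hom.FormallyUnramified) := by
  constructor
  · rintro ⟨U, hx, hU⟩
    constructor
    · rw [← stalkMap_ι_comp_iff RingHom.Flat.respectsIso f U x hx]
      exact Flat.stalkMap (U.ι ≫ f) ⟨x, hx⟩
    · rw [← stalkMap_ι_comp_iff RingHom.FormallyUnramified.respectsIso f U x hx]
      exact FormallyUnramified.stalkMap (U.ι ≫ f) ⟨x, hx⟩
  · intro h
    exact exists_nbhd_of_stalkMap (P := @Etale) (Fin := @LocallyOfFinitePresentation)
      (fun f _ => inferInstance)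
      (RingHom.Flat.respectsIso.and RingHom.FormallyUnramified.respectsIso)
      spreads_etale f inferInstance x h

end Groth.Agent.Helper3.StalkNbhd
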