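import Mathlib

/-!
Support of a base change of a finite module: `Supp (B ⊗[A] M) = (Spec B → Spec A)⁻¹ Supp M`.
Consequence: the unramified locus commutes with base change.
-/

set_option autoImplicit false

namespace Groth.Agent.Helper3.SuppBC

open TensorProduct

universe u

/-- If `L` is a field over `A` whose kernel lies in the support of the finite module `M`, then
`L ⊗[A] M` is nontrivial. -/
theorem nontrivial_field_tensor {A : Type*} [CommRing A] {M : Type*} [AddCommGroup M] [Module A M]
    [Module.Finite A M] (L : Type*) [Field L] [Algebra A L] (p : PrimeSpectrum A)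
    (hker : RingHom.ker (algebraMap A L) = p.asIdeal)
    (h : p ∈ Module.support A M) : Nontrivial (L ⊗[A] M) := by
  rw [Module.mem_support_iff_nontrivial_residueField_tensorProduct] at h
  let K := p.asIdeal.ResidueField
  let ψ : K →+* L := Ideal.ResidueField.lift p.asIdeal (algebraMap A L) hker.ge (by
    intro a ha
    rw [Submonoid.mem_comap]
    change IsUnit _
    rw [isUnit_iff_ne_zero]
    exact fun h0 => ha (hker ▸ RingHom.mem_ker.mpr h0))
  let : Algebra K L := ψ.toAlgebra
  have : IsScalarTower A K L := .of_algebraMap_eq fun a => by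
    rw [RingHom.algebraMap_toAlgebra]
    exact (Ideal.ResidueField.lift_algebraMap _ _ _ _ a).symm
  have h2 : Nontrivial (L ⊗[K] (K ⊗[A] M)) :=
    (Module.FaithfullyFlat.nontrivial_tensorProduct_iff_right K L).mpr h
  exact (AlgebraTensorModule.cancelBaseChange A K L L M).symm.toEquiv.nontrivial

theorem mem_support_baseChange_iff {A B : Type*} [CommRing A] [CommRing B] [Algebra A B]
    {M : Type*} [AddCommGroup M] [Module A M] [Module.Finite A M] (q : PrimeSpectrum B) :
    q ∈ Module.support B (B ⊗[A] M) ↔ q.comap (algebraMap A B) ∈ Module.support A M := by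
  constructor
  · intro hq
    rw [Module.mem_support_iff_of_finite] at hq ⊢
    intro a ha
    rw [PrimeSpectrum.comap_asIdeal, Ideal.mem_comap]
    apply hq
    rw [Module.mem_annihilator]
    intro x
    induction x with
    | zero => simp
    | add x y hx hy => rw [smul_add, hx, hy, add_zero]
    | tmul b m =>
      rw [TensorProduct.smul_tmul', smul_eq_mul, ← Algebra.smul_def,
        TensorProduct.smul_tmul, Module.mem_annihilator.mp ha, TensorProduct.tmul_zero]
  · intro hp
    rw [Module.mem_support_iff_nontrivial_residueField_tensorProduct]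
    let L := q.asIdeal.ResidueField
    have hker : RingHom.ker (algebraMap A L) = (q.comap (algebraMap A B)).asIdeal := by
      ext a
      rw [RingHom.mem_ker, IsScalarTower.algebraMap_apply A B L,
        Ideal.algebraMap_residueField_eq_zero]
      rfl
    have := nontrivial_field_tensor (M := M) L _ hker hp
    exact (AlgebraTensorModule.cancelBaseChange A B L L M).toEquiv.nontrivial

/-- The unramified locus commutes with base change. -/
theorem isUnramifiedAt_baseChange_iff (R S A B : Type*) [CommRing R] [CommRing S] [CommRing A]
    [CommRing B] [Algebra R S] [Algebra R A] [Algebra A B] [Algebra S B] [Algebra R B]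
    [IsScalarTower R A B] [IsScalarTower R S B] [Algebra.IsPushout R S A B]
    [Algebra.EssFiniteType R A] (q : Ideal B) [q.IsPrime] :
    Algebra.IsUnramifiedAt S q ↔ Algebra.IsUnramifiedAt R (q.comap (algebraMap A B)) := by
  change ((⟨q, ‹_›⟩ : PrimeSpectrum B) ∈ Algebra.unramifiedLocus S B) ↔
    ((⟨q.comap (algebraMap A B), inferInstance⟩ : PrimeSpectrum A) ∈ Algebra.unramifiedLocus R A)
  rw [Algebra.unramifiedLocus_eq_compl_support, Algebra.unramifiedLocus_eq_compl_support,
    Set.mem_compl_iff, Set.mem_compl_iff, not_iff_not,
    ← (KaehlerDifferential.tensorKaehlerEquiv R S A B).support_eq]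
  exact mem_support_baseChange_iff ⟨q, ‹_›⟩

end Groth.Agent.Helper3.SuppBC
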