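import Mathlib
import Groth.Agent.Helper3.StalkNbhd2
import Groth.Agent.Helper3.SuppBC

/-!
The unramified locus of a morphism locally of finite type commutes with arbitrary base change.
-/

set_option autoImplicit false

namespace Groth.Agent.Helper3.UnramBC

open AlgebraicGeometry CategoryTheory Limits TensorProduct

universe u

set_option backward.isDefEq.respectTransparency false in
/-- Stalk maps in a commutative square whose horizontal maps are open immersions. -/
lemma stalkMap_iff_of_square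
    {Q' : ∀ {R S : Type u} [CommRing R] [CommRing S], (R →+* S) → Prop}
    (hQ' : RingHom.RespectsIso Q') {X Y X₀ Y₀ : Scheme.{u}} (f : X ⟶ Y) (f₀ : X₀ ⟶ Y₀)
    (j : X₀ ⟶ X) (i : Y₀ ⟶ Y) [IsOpenImmersion j] [IsOpenImmersion i] (w : j ≫ f = f₀ ≫ i)
    (z : X₀) : Q' (f₀.stalkMap z).hom ↔ Q' (f.stalkMap (j z)).hom := by
  have h1 : Q' ((j ≫ f).stalkMap z).hom ↔ Q' (f.stalkMap (j z)).hom := by
    rw [Scheme.Hom.stalkMap_comp, CommRingCat.hom_comp, hQ'.cancel_right_isIso]
  have h2 : Q' ((f₀ ≫ i).stalkMap z).hom ↔ Q' (f₀.stalkMap z).hom := by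
    rw [Scheme.Hom.stalkMap_comp, CommRingCat.hom_comp, hQ'.cancel_left_isIso]
  rw [← h1, ← h2, w]

lemma localRingHom_formallyUnramified_iff {R S : Type u} [CommRing R] [CommRing S] [Algebra R S]
    (q : Ideal S) [q.IsPrime] :
    (Localization.localRingHom (q.comap (algebraMap R S)) q (algebraMap R S)
      rfl).FormallyUnramified ↔ Algebra.IsUnramifiedAt R q := by
  have : q.LiesOver (q.comap (algebraMap R S)) := ⟨rfl⟩
  let := Localization.AtPrime.algebraOfLiesOver (q.comap (algebraMap R S)) q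
  change Algebra.FormallyUnramified (Localization.AtPrime (q.comap (algebraMap R S)))
      (Localization.AtPrime q) ↔ _
  constructor
  · intro h
    exact Algebra.FormallyUnramified.comp R (Localization.AtPrime (q.comap (algebraMap R S))) _
  · intro h
    exact Algebra.FormallyUnramified.of_restrictScalars R _ _

attribute [local instance] Algebra.TensorProduct.rightAlgebra in
theorem stalkMap_Spec_iff (A B A' : Type u) [CommRing A] [CommRing B] [CommRing A']
    [Algebra A B] [Algebra A A'] [Algebra.FiniteType A B] (q' : PrimeSpectrum (B ⊗[A] A')) :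
    ((Spec.map (CommRingCat.ofHom (algebraMap A' (B ⊗[A] A')))).stalkMap q').hom.FormallyUnramified ↔
    ((Spec.map (CommRingCat.ofHom (algebraMap A B))).stalkMap
      (q'.comap (algebraMap B (B ⊗[A] A')))).hom.FormallyUnramified := by
  have e1 := RingHom.FormallyUnramified.respectsIso.arrow_mk_iso_iff
    (Scheme.arrowStalkMapSpecIso (CommRingCat.ofHom (algebraMap A' (B ⊗[A] A'))) q')
  have e2 := RingHom.FormallyUnramified.respectsIso.arrow_mk_iso_iff
    (Scheme.arrowStalkMapSpecIso (CommRingCat.ofHom (algebraMap A B))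
      (q'.comap (algebraMap B (B ⊗[A] A'))))
  have h1 := localRingHom_formallyUnramified_iff (R := A') (S := B ⊗[A] A') q'.asIdeal
  have h2 := localRingHom_formallyUnramified_iff (R := A) (S := B)
    (q'.comap (algebraMap B (B ⊗[A] A'))).asIdeal
  have h3 := Groth.Agent.Helper3.SuppBC.isUnramifiedAt_baseChange_iff A A' B (B ⊗[A] A') q'.asIdeal
  exact e1.trans (h1.trans (h3.trans (h2.symm.trans e2.symm)))

set_option backward.isDefEq.respectTransparency false in
/-- Stalk-level statement: the base change `f'` of `f` is unramified at `x'` iff `f` is unramified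
at the image of `x'`. -/
theorem stalkMap_snd_formallyUnramified_iff {X S S' : Scheme.{u}} (f : X ⟶ S)
    [LocallyOfFiniteType f] (g : S' ⟶ S) (x' : ↑(pullback f g)) :
    ((pullback.snd f g).stalkMap x').hom.FormallyUnramified ↔
      (f.stalkMap ((pullback.fst f g) x')).hom.FormallyUnramified := by
  have hQ' := RingHom.FormallyUnramified.respectsIso
  obtain ⟨W, hW, hsW, _⟩ := TopologicalSpace.Opens.isBasis_iff_nbhd.mp S.isBasis_affineOpens
    (TopologicalSpace.Opens.mem_top <| f (pullback.fst f g x'))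
  obtain ⟨U, hU, hxU, eU⟩ := TopologicalSpace.Opens.isBasis_iff_nbhd.mp X.isBasis_affineOpens
    (show pullback.fst f g x' ∈ f ⁻¹ᵁ W from hsW)
  have hcond : g (pullback.snd f g x') = f (pullback.fst f g x') := by
    rw [← Scheme.Hom.comp_apply, ← Scheme.Hom.comp_apply, pullback.condition]
  obtain ⟨W', hW', hsW', eW'⟩ := TopologicalSpace.Opens.isBasis_iff_nbhd.mp
    S'.isBasis_affineOpens (show pullback.snd f g x' ∈ g ⁻¹ᵁ W by
      change g (pullback.snd f g x') ∈ W; rw [hcond]; exact hsW)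
  have hW : IsAffineOpen W := hW
  have hU : IsAffineOpen U := hU
  have hW' : IsAffineOpen W' := hW'
  -- ring maps
  have hft : (f.appLE W U eU).hom.FiniteType := f.finiteType_appLE hW hU eU
  algebraize [(f.appLE W U eU).hom, (g.appLE W W' eW').hom]
  have wU : Spec.map (CommRingCat.ofHom (algebraMap Γ(S, W) Γ(X, U))) ≫ hW.fromSpec =
      hU.fromSpec ≫ f := hW.SpecMap_appLE_fromSpec f hU eU
  have wW' : Spec.map (CommRingCat.ofHom (algebraMap Γ(S, W) Γ(S', W'))) ≫ hW.fromSpec =
      hW'.fromSpec ≫ g := hW.SpecMap_appLE_fromSpec g hW' eW'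
  let ι₀ := pullback.map (Spec.map (CommRingCat.ofHom (algebraMap Γ(S, W) Γ(X, U))))
    (Spec.map (CommRingCat.ofHom (algebraMap Γ(S, W) Γ(S', W')))) f g hU.fromSpec hW'.fromSpec
    hW.fromSpec wU wW'
  let e := pullbackSpecIso Γ(S, W) Γ(X, U) Γ(S', W')
  let ι := e.inv ≫ ι₀
  have hι : x' ∈ Set.range ι := by
    have h0 : x' ∈ Set.range ι₀ := by
      rw [Scheme.Pullback.range_map]
      refine ⟨?_, ?_⟩
      · change pullback.fst f g x' ∈ Set.range hU.fromSpec
        rw [hU.range_fromSpec]; exact hxU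
      · change pullback.snd f g x' ∈ Set.range hW'.fromSpec
        rw [hW'.range_fromSpec]; exact hsW'
    obtain ⟨z, rfl⟩ := h0
    refine ⟨e.hom z, ?_⟩
    simp [ι]
  obtain ⟨z', rfl⟩ := hι
  let := Algebra.TensorProduct.rightAlgebra (R := Γ(S, W)) (A := Γ(X, U)) (B := Γ(S', W'))
  -- square (a)
  have sqa : ι ≫ pullback.snd f g = Spec.map (CommRingCat.ofHom
      (algebraMap Γ(S', W') (Γ(X, U) ⊗[Γ(S, W)] Γ(S', W')))) ≫ hW'.fromSpec := by
    simp only [ι, ι₀, Category.assoc]
    unfold pullback.map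
    rw [pullback.lift_snd, ← Category.assoc, pullbackSpecIso_inv_snd]
    rfl
  have sqfst : ι ≫ pullback.fst f g = Spec.map (CommRingCat.ofHom
      (algebraMap Γ(X, U) (Γ(X, U) ⊗[Γ(S, W)] Γ(S', W')))) ≫ hU.fromSpec := by
    simp only [ι, ι₀, Category.assoc]
    unfold pullback.map
    rw [pullback.lift_fst, ← Category.assoc, pullbackSpecIso_inv_fst]
    rfl
  rw [← stalkMap_iff_of_square hQ' (pullback.snd f g) _ ι hW'.fromSpec sqa z']
  have hpt : pullback.fst f g (ι z') = hU.fromSpec
      ((Spec.map (CommRingCat.ofHom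
        (algebraMap Γ(X, U) (Γ(X, U) ⊗[Γ(S, W)] Γ(S', W'))))) z') := by
    have : (ι ≫ pullback.fst f g) z' = (Spec.map (CommRingCat.ofHom
        (algebraMap Γ(X, U) (Γ(X, U) ⊗[Γ(S, W)] Γ(S', W')))) ≫ hU.fromSpec) z' := by
      rw [sqfst]
    exact this
  rw [hQ'.arrow_mk_iso_iff (f.arrowStalkMapIsoOfEq hpt),
    ← stalkMap_iff_of_square hQ' f _ hU.fromSpec hW.fromSpec wU.symm]
  exact stalkMap_Spec_iff Γ(S, W) Γ(X, U) Γ(S', W') z'

end Groth.Agent.Helper3.UnramBC
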