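import Mathlib

/-!
Towers `R → B → C` of local rings and local homomorphisms: descent of unramifiedness / flatness
from `C` to `B` along a flat `B → C`, and the "unramified + composite flat ⇒ flat" lemma.
-/

set_option autoImplicit false
set_option linter.unusedSectionVars false

namespace Groth.Agent.Helper3.LocalTower

open IsLocalRing TensorProduct

universe u

section
variable (A B C : Type u) [CommRing A] [CommRing B] [CommRing C] [Algebra A B] [Algebra B C]
  [Algebra A C] [IsScalarTower A B C]

/-- If `A → C` is flat and `B → C` is faithfully flat then `A → B` is flat.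
(Same statement as `Helper2.FFDesc.flat_of_flat_comp`; reproved here to keep this file
self-contained.) -/
lemma flat_of_flat_comp [Module.FaithfullyFlat B C] [Module.Flat A C] : Module.Flat A B := by
  rw [Module.Flat.iff_lTensor_preserves_injective_linearMap]
  intro N N' _ _ _ _ f hf
  let g : B ⊗[A] N →ₗ[B] B ⊗[A] N' := AlgebraTensorModule.lTensor B B f
  have hg : Function.Injective (g.lTensor C) := by
    have h1 : Function.Injective (f.lTensor C) :=
      Module.Flat.lTensor_preserves_injective_linearMap f hf
    have sq := AlgebraTensorModule.lTensor_comp_cancelBaseChange (R := A) (A := B) (B := B)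
      (M := C) f
    intro x y hxy
    have hx := LinearMap.congr_fun sq x
    have hy := LinearMap.congr_fun sq y
    simp only [LinearMap.coe_comp, LinearEquiv.coe_coe, Function.comp_apply] at hx hy
    have hxy' : (AlgebraTensorModule.lTensor B C (AlgebraTensorModule.lTensor B B f)) x =
        (AlgebraTensorModule.lTensor B C (AlgebraTensorModule.lTensor B B f)) y := hxy
    rw [hxy', ← hy] at hx
    exact (AlgebraTensorModule.cancelBaseChange A B B C N).injective (h1 hx)
  exact (Module.FaithfullyFlat.lTensor_injective_iff_injective B C g).mp hg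

end

section
variable (R B C : Type u) [CommRing R] [CommRing B] [CommRing C] [Algebra R B] [Algebra B C]
  [Algebra R C] [IsScalarTower R B C] [IsLocalRing R] [IsLocalRing B] [IsLocalRing C]
  [IsLocalHom (algebraMap R B)] [IsLocalHom (algebraMap B C)] [IsLocalHom (algebraMap R C)]

/-- Descent of unramifiedness along a flat local homomorphism `B → C`. -/
theorem formallyUnramified_of_flat [Algebra.EssFiniteType R B] [Algebra.EssFiniteType R C]
    [Module.Flat B C]
    [Algebra.FormallyUnramified R C] : Algebra.FormallyUnramified R B := by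
  have hff : Module.FaithfullyFlat B C := Module.FaithfullyFlat.of_flat_of_isLocalHom
  have hsepC : Algebra.IsSeparable (ResidueField R) (ResidueField C) := inferInstance
  have hsep : Algebra.IsSeparable (ResidueField R) (ResidueField B) :=
    Algebra.isSeparable_tower_bot_of_isSeparable (ResidueField R) (ResidueField B)
      (ResidueField C)
  have hmC : (maximalIdeal R).map (algebraMap R C) = maximalIdeal C :=
    Algebra.FormallyUnramified.map_maximalIdeal
  have hle : (maximalIdeal R).map (algebraMap R B) ≤ maximalIdeal B :=
    ((local_hom_TFAE (algebraMap R B)).out 0 2 rfl rfl).mp ‹_›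
  have hleC : (maximalIdeal B).map (algebraMap B C) ≤ maximalIdeal C :=
    ((local_hom_TFAE (algebraMap B C)).out 0 2 rfl rfl).mp ‹_›
  have hm : (maximalIdeal R).map (algebraMap R B) = maximalIdeal B := by
    apply Ideal.map_injective_of_faithfullyFlat (A := B) (B := C)
    refine le_antisymm (Ideal.map_mono hle) ?_
    refine hleC.trans ?_
    rw [← hmC, IsScalarTower.algebraMap_eq R B C, ← Ideal.map_map]
  exact Algebra.FormallyUnramified.of_map_maximalIdeal hm

/-- `B` unramified over `R` and `C` flat over `R` implies `C` flat over `B` and `B` flat over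
`R`. -/
theorem flat_of_formallyUnramified [Algebra.EssFiniteType R B] [Algebra.FormallyUnramified R B]
    [Module.Flat R C] : Module.Flat B C ∧ Module.Flat R B := by
  have h1 : Module.Flat B C := Algebra.FormallyUnramified.flat_of_restrictScalars R B C
  have hff : Module.FaithfullyFlat B C := Module.FaithfullyFlat.of_flat_of_isLocalHom
  exact ⟨h1, flat_of_flat_comp R B C⟩

end

section RingHom

variable {R B C : Type u} [CommRing R] [CommRing B] [CommRing C] [IsLocalRing R] [IsLocalRing B]
  [IsLocalRing C] (φ : R →+* B) (ψ : B →+* C) [IsLocalHom φ] [IsLocalHom ψ]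

theorem ringHom_formallyUnramified_of_flat (h1 : φ.EssFiniteType)
    (h2 : (ψ.comp φ).EssFiniteType) (h3 : ψ.Flat) (h4 : (ψ.comp φ).FormallyUnramified) :
    φ.FormallyUnramified := by
  algebraize [φ, ψ, ψ.comp φ]
  have : IsLocalHom (algebraMap R B) := ‹IsLocalHom φ›
  have : IsLocalHom (algebraMap B C) := ‹IsLocalHom ψ›
  have : IsLocalHom (algebraMap R C) := inferInstanceAs (IsLocalHom (ψ.comp φ))
  exact formallyUnramified_of_flat R B C

theorem ringHom_flat_of_flat_comp (h3 : ψ.Flat) (h4 : (ψ.comp φ).Flat) : φ.Flat := by
  algebraize [φ, ψ, ψ.comp φ]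
  have : IsLocalHom (algebraMap B C) := ‹IsLocalHom ψ›
  have hff : Module.FaithfullyFlat B C := Module.FaithfullyFlat.of_flat_of_isLocalHom
  exact flat_of_flat_comp R B C

theorem ringHom_flat_of_formallyUnramified (h1 : φ.EssFiniteType) (h2 : φ.FormallyUnramified)
    (h4 : (ψ.comp φ).Flat) : ψ.Flat ∧ φ.Flat := by
  algebraize [φ, ψ, ψ.comp φ]
  have : IsLocalHom (algebraMap R B) := ‹IsLocalHom φ›
  have : IsLocalHom (algebraMap B C) := ‹IsLocalHom ψ›
  have : IsLocalHom (algebraMap R C) := inferInstanceAs (IsLocalHom (ψ.comp φ))
  exact flat_of_formallyUnramified R B C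

end RingHom

end Groth.Agent.Helper3.LocalTower
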