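import Mathlib
import Groth.Agent.Helper3.LocalTower

/-!
Scheme-level versions of the tower lemmas of `LocalTower` for the stalk maps of a composite
`X ⟶ Y ⟶ S`.
-/

set_option autoImplicit false

namespace Groth.Agent.Helper3.StalkTower

open AlgebraicGeometry CategoryTheory

universe u

variable {X Y S : Scheme.{u}} (g : X ⟶ Y) (f : Y ⟶ S) (x : X)

set_option backward.isDefEq.respectTransparency false in
lemma hom_stalkMap_comp :
    ((g ≫ f).stalkMap x).hom = (g.stalkMap x).hom.comp (f.stalkMap (g x)).hom := by
  rw [Scheme.Hom.stalkMap_comp, CommRingCat.hom_comp]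

set_option backward.isDefEq.respectTransparency false in
theorem formallyUnramified_stalk_of_comp [LocallyOfFiniteType f] [LocallyOfFiniteType (g ≫ f)]
    (hg : (g.stalkMap x).hom.Flat) (h : ((g ≫ f).stalkMap x).hom.FormallyUnramified) :
    (f.stalkMap (g x)).hom.FormallyUnramified := by
  have h1 : (f.stalkMap (g x)).hom.EssFiniteType := LocallyOfFiniteType.stalkMap f (g x)
  have h2 : ((g.stalkMap x).hom.comp (f.stalkMap (g x)).hom).EssFiniteType := by
    have := LocallyOfFiniteType.stalkMap (g ≫ f) x
    rwa [hom_stalkMap_comp] at this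
  rw [hom_stalkMap_comp] at h
  exact Groth.Agent.Helper3.LocalTower.ringHom_formallyUnramified_of_flat _ _ h1 h2 hg h

set_option backward.isDefEq.respectTransparency false in
theorem flat_stalk_of_comp
    (hg : (g.stalkMap x).hom.Flat) (h : ((g ≫ f).stalkMap x).hom.Flat) :
    (f.stalkMap (g x)).hom.Flat := by
  rw [hom_stalkMap_comp] at h
  exact Groth.Agent.Helper3.LocalTower.ringHom_flat_of_flat_comp _ _ hg h

set_option backward.isDefEq.respectTransparency false in
theorem flat_stalk_of_formallyUnramified [LocallyOfFiniteType f]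
    (hf : (f.stalkMap (g x)).hom.FormallyUnramified) (h : ((g ≫ f).stalkMap x).hom.Flat) :
    (g.stalkMap x).hom.Flat ∧ (f.stalkMap (g x)).hom.Flat := by
  have h1 : (f.stalkMap (g x)).hom.EssFiniteType := LocallyOfFiniteType.stalkMap f (g x)
  rw [hom_stalkMap_comp] at h
  exact Groth.Agent.Helper3.LocalTower.ringHom_flat_of_formallyUnramified _ _ h1 hf h

set_option backward.isDefEq.respectTransparency false in
theorem flat_stalk_comp
    (hg : (g.stalkMap x).hom.Flat) (hf : (f.stalkMap (g x)).hom.Flat) :
    ((g ≫ f).stalkMap x).hom.Flat := by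
  rw [hom_stalkMap_comp]
  exact RingHom.Flat.comp hf hg

end Groth.Agent.Helper3.StalkTower
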