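import Mathlib
import Groth.Prelude.Def_DRing2
import Groth.Prelude.Def_DDual2
import Groth.Prelude.Def_DerCA
import Groth.Prelude.Def_MoreMor
import Groth.Agent.Helper3.PcHomB
import Groth.Agent.Helper3.DRingBC3

/-! Pseudo-coherent ring maps are local on the target ring (`OfLocalizationSpanTarget`). -/

set_option autoImplicit false
set_option linter.style.haveILetI false
set_option linter.unusedSectionVars false
set_option linter.unusedVariables false
set_option linter.style.haveILetI false
set_option linter.unusedSectionVars false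
set_option linter.unusedVariables false
universe u
open CategoryTheory CategoryTheory.Limits TensorProduct

namespace Groth.Agent.Helper3.PcHom

attribute [local instance] HasDerivedCategory.standard

open Groth.Agent.Helper3.DRingLib DerivedCategory

section Family

variable {P : Type u} [CommRing P]

lemma jointlyFaithful_away' {J : Type*} [Finite J] (G : J → P)
    (hG : Ideal.span (Set.range G) = ⊤) :
    JointlyFaithful P (fun j : J => Localization.Away (G j)) := by
  obtain ⟨n, ⟨e⟩⟩ := Finite.exists_equiv_fin J
  have h1 : Ideal.span (Set.range (G ∘ e.symm)) = ⊤ := by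
    rw [Set.range_comp, e.symm.surjective.range_eq, Set.image_univ]
    exact hG
  intro M _ _ h
  exact jointlyFaithful_away (G ∘ e.symm) h1 M (fun i => h (e.symm i))

lemma jointlyFinite_away' {J : Type*} [Finite J] (G : J → P)
    (hG : Ideal.span (Set.range G) = ⊤) :
    JointlyFinite P (fun j : J => Localization.Away (G j)) := by
  obtain ⟨n, ⟨e⟩⟩ := Finite.exists_equiv_fin J
  have h1 : Ideal.span (Set.range (G ∘ e.symm)) = ⊤ := by
    rw [Set.range_comp, e.symm.surjective.range_eq, Set.image_univ]
    exact hG
  intro M _ _ h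
  exact jointlyFinite_away (G ∘ e.symm) h1 M (fun i => h (e.symm i))

/-- base change of a module placed in degree zero -/
noncomputable def bcSingleIso (B : Type u) [CommRing B] [Algebra P B] [Module.Flat P B]
    (M : Type u) [AddCommGroup M] [Module P M] :
    DRing.toD ((bcCx P B).obj ((CochainComplex.singleFunctor (ModuleCat.{u} P) 0).obj
      (ModuleCat.of P M))) ≅ Dual.inD B (B ⊗[P] M) :=
  (bcDToD B _).symm ≪≫ (bcD P B).mapIso
    ((singleFunctorIsoCompQ (ModuleCat.{u} P) 0).app (ModuleCat.of P M)).symm ≪≫ bcDInD B M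

/-- local-to-global for pseudo-coherence of a module along a finite basic open cover -/
theorem isPseudoCoherent'_of_cover {J : Type*} [Finite J] (G : J → P)
    (hG : Ideal.span (Set.range G) = ⊤) (M : Type u) [AddCommGroup M] [Module P M]
    (h : ∀ j, DRing.IsPseudoCoherent' (Localization.Away (G j))
      (Dual.inD (Localization.Away (G j)) (Localization.Away (G j) ⊗[P] M))) :
    DRing.IsPseudoCoherent' P (Dual.inD P M) := by
  rw [isPseudoCoherent'_iff_forall]
  intro m
  let K : DRing.Cx P := (CochainComplex.singleFunctor (ModuleCat.{u} P) 0).obj (ModuleCat.of P M)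
  have e : DRing.toD K ≅ Dual.inD P M :=
    ((singleFunctorIsoCompQ (ModuleCat.{u} P) 0).app (ModuleCat.of P M)).symm
  refine isPseudoCoherent_of_iso e ?_
  refine isPseudoCoherent_of_forall_bcCx (jointlyFaithful_away' G hG) (jointlyFinite_away' G hG)
    m K (fun j => ?_)
  exact isPseudoCoherent_of_iso (bcSingleIso (Localization.Away (G j)) M).symm
    ((isPseudoCoherent'_iff_forall _).mp (h j) m)

end Family

section ZeroStep

variable {P S : Type u} [CommRing P] [CommRing S] [Algebra P S]

lemma subsingleton_away_tensor (h : P) (hh : algebraMap P S h = 0) (Ph : Type u) [CommRing Ph]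
    [Algebra P Ph] [IsLocalization.Away h Ph] : Subsingleton (Ph ⊗[P] S) := by
  refine ⟨fun x y => ?_⟩
  suffices hz : ∀ z : Ph ⊗[P] S, z = 0 by rw [hz x, hz y]
  intro z
  induction z using TensorProduct.induction_on with
  | zero => rfl
  | add x y hx hy => rw [hx, hy, add_zero]
  | tmul a s =>
    have hu : IsUnit (algebraMap P Ph h) := IsLocalization.Away.algebraMap_isUnit h
    obtain ⟨u, hu'⟩ := hu
    have h1 : a = (a * ↑u⁻¹) * algebraMap P Ph h := by
      rw [← hu', mul_assoc, Units.inv_mul, mul_one]
    rw [h1, mul_comm, ← Algebra.smul_def, TensorProduct.smul_tmul]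
    have : h • s = 0 := by rw [Algebra.smul_def, hh, zero_mul]
    rw [this, TensorProduct.tmul_zero]

end ZeroStep

section LocStep

variable {R P S Pg Sr : Type u} [CommRing R] [CommRing P] [CommRing S] [CommRing Pg] [CommRing Sr]
  [Algebra R P] [Algebra P S] [Algebra R S] [IsScalarTower R P S]
  [Algebra P Pg] [Algebra S Sr] [Algebra Pg Sr] [Algebra P Sr]
  [IsScalarTower P Pg Sr] [IsScalarTower P S Sr]
  [Algebra R Pg] [IsScalarTower R P Pg] [Algebra R Sr] [IsScalarTower R S Sr]

theorem locStep (g : P) [IsLocalization.Away g Pg] [IsLocalization.Away (algebraMap P S g) Sr]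
    (hsurj : Function.Surjective (algebraMap P S)) (hRP : MoreMor.IsPseudoCoherentHom R P)
    (h : MoreMor.IsPseudoCoherentHom R Sr) :
    DRing.IsPseudoCoherent' Pg (Dual.inD Pg (Pg ⊗[P] S)) := by
  haveI : IsScalarTower R Pg Sr := IsScalarTower.of_algebraMap_eq (fun x => by
    rw [IsScalarTower.algebraMap_apply R S Sr, IsScalarTower.algebraMap_apply R P S,
      ← IsScalarTower.algebraMap_apply P S Sr, IsScalarTower.algebraMap_apply P Pg Sr,
      ← IsScalarTower.algebraMap_apply R P Pg])
  have hs : Function.Surjective (algebraMap Pg Sr) := by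
    intro y
    obtain ⟨⟨s, ⟨_, k, rfl⟩⟩, hy⟩ := IsLocalization.surj (Submonoid.powers (algebraMap P S g)) y
    obtain ⟨p, rfl⟩ := hsurj s
    simp only at hy
    have hu : IsUnit (algebraMap P Pg g) := IsLocalization.Away.algebraMap_isUnit g
    obtain ⟨u, hu'⟩ := hu
    refine ⟨algebraMap P Pg p * ↑(u⁻¹ ^ k), ?_⟩
    have hunit : IsUnit (algebraMap S Sr (algebraMap P S g ^ k)) :=
      IsLocalization.map_units Sr (⟨_, k, rfl⟩ : Submonoid.powers (algebraMap P S g))
    apply hunit.mul_right_cancel
    rw [hy, map_mul, mul_assoc]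
    have h2 : algebraMap S Sr (algebraMap P S g ^ k) = algebraMap Pg Sr ((↑u : Pg) ^ k) := by
      rw [hu', ← map_pow, ← IsScalarTower.algebraMap_apply, ← map_pow,
        ← IsScalarTower.algebraMap_apply, IsScalarTower.algebraMap_apply P S Sr]
    rw [h2, ← map_mul, ← Units.val_pow_eq_pow_val, ← Units.val_mul, ← mul_pow, inv_mul_cancel,
      one_pow, Units.val_one, map_one, mul_one, ← IsScalarTower.algebraMap_apply,
      IsScalarTower.algebraMap_apply P S Sr]
  have hRPg : MoreMor.IsPseudoCoherentHom R Pg := comp hRP (pcHom_away P g Pg)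
  have hmod := (pcHom_iff_module (A := R) (P := Pg) (B := Sr) hRPg hs).mp h
  -- identify `Sr` with the base change
  haveI : IsLocalization (Algebra.algebraMapSubmonoid S (Submonoid.powers g)) Sr := by
    rw [Algebra.algebraMapSubmonoid_powers]
    infer_instance
  have hloc : IsLocalizedModule (Submonoid.powers g) (IsScalarTower.toAlgHom P S Sr).toLinearMap :=
    inferInstance
  have hbc : IsBaseChange Pg (IsScalarTower.toAlgHom P S Sr).toLinearMap :=
    IsLocalizedModule.isBaseChange (Submonoid.powers g) Pg _
  exact isPseudoCoherent'_of_iso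
    ((singleFunctor (ModuleCat.{u} Pg) 0).mapIso hbc.equiv.symm.toModuleIso) hmod

end LocStep

end Groth.Agent.Helper3.PcHom
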