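import Mathlib
import Groth.Prelude.Def_DRing2
import Groth.Prelude.Def_DDual2
import Groth.Prelude.Def_DerCA
import Groth.Prelude.Def_MoreMor
import Groth.Agent.Helper3.PcHomC
import Groth.Agent.Helper3.DRingRestr2

/-! Pseudo-coherent ring maps form a local property of ring homomorphisms. -/

set_option autoImplicit false
set_option linter.style.haveILetI false
set_option linter.unusedSectionVars false
set_option linter.unusedVariables false
set_option linter.style.haveILetI false
set_option linter.unusedSectionVars false
set_option linter.unusedVariables false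
universe u
open CategoryTheory CategoryTheory.Limits TensorProduct

namespace Groth.Agent.Helper3.PcHom

attribute [local instance] HasDerivedCategory.standard

open Groth.Agent.Helper3.DRingLib DerivedCategory

theorem Q_ofLocalizationFiniteSpanTarget : RingHom.OfLocalizationFiniteSpanTarget (@Q.{u}) := by
  intro R S _ _ f s hs H
  letI algRS : Algebra R S := f.toAlgebra
  have hft : Algebra.FiniteType R S := by
    refine RingHom.finiteType_ofLocalizationSpanTarget f (s : Set S) hs (fun r => ?_)
    letI := ((algebraMap S (Localization.Away (r : S))).comp f).toAlgebra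
    exact finiteType_of_pcHom (H ⟨r.1, r.2⟩)
  obtain ⟨n, α, hα⟩ := Algebra.FiniteType.iff_quotient_mvPolynomial''.mp hft
  refine ⟨n, α, hα, ?_⟩
  letI algPS : Algebra (MvPolynomial (Fin n) R) S := α.toRingHom.toAlgebra
  haveI : IsScalarTower R (MvPolynomial (Fin n) R) S :=
    IsScalarTower.of_algebraMap_eq (fun a => (α.commutes a).symm)
  have hαalg : ∀ p, algebraMap (MvPolynomial (Fin n) R) S p = α p := fun _ => rfl
  show DRing.IsPseudoCoherent' _ (Dual.inD (MvPolynomial (Fin n) R) S)
  -- lifts of the elements of `s`
  choose g hg using fun r : s => hα (r : S)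
  have h1 : (1 : S) ∈ Ideal.span (Set.range (fun r : s => (r : S))) := by
    rw [Subtype.range_coe_subtype]
    have : {x | x ∈ s} = (s : Set S) := rfl
    rw [this, hs]
    exact Submodule.mem_top
  obtain ⟨c, hc⟩ := (Ideal.mem_span_range_iff_exists_fun).mp h1
  choose b hb using fun r : s => hα (c r)
  let h : MvPolynomial (Fin n) R := 1 - ∑ r : s, b r * g r
  have hh : algebraMap (MvPolynomial (Fin n) R) S h = 0 := by
    rw [hαalg]
    simp only [h, map_sub, map_one, map_sum, map_mul, hb, hg, hc, sub_self]
  let G : Option s → MvPolynomial (Fin n) R := fun o => o.elim h g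
  have hG : Ideal.span (Set.range G) = ⊤ := by
    rw [Ideal.eq_top_iff_one]
    have e1 : (1 : MvPolynomial (Fin n) R) = h + ∑ r : s, b r * g r := by
      simp only [h, sub_add_cancel]
    rw [e1]
    refine Ideal.add_mem _ (Ideal.subset_span ⟨none, rfl⟩) (Ideal.sum_mem _ (fun r _ => ?_))
    exact Ideal.mul_mem_left _ _ (Ideal.subset_span ⟨some r, rfl⟩)
  refine isPseudoCoherent'_of_cover G hG S (fun j => ?_)
  cases j with
  | none =>
    haveI := subsingleton_away_tensor (S := S) h hh (Localization.Away h)
    apply isPseudoCoherent'_of_isZero
    exact (singleFunctor (ModuleCat.{u} (Localization.Away h)) 0).map_isZero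
      (ModuleCat.isZero_of_subsingleton (ModuleCat.of (Localization.Away h)
        (Localization.Away h ⊗[MvPolynomial (Fin n) R] S)))
  | some r =>
    show DRing.IsPseudoCoherent' (Localization.Away (g r)) (Dual.inD (Localization.Away (g r))
      (Localization.Away (g r) ⊗[MvPolynomial (Fin n) R] S))
    haveI hloc : IsLocalization.Away (algebraMap (MvPolynomial (Fin n) R) S (g r))
        (Localization.Away (r : S)) := by
      rw [hαalg, hg r]
      infer_instance
    letI a1 : Algebra (Localization.Away (g r)) (Localization.Away (r : S)) :=
      (IsLocalization.Away.map (Localization.Away (g r)) (Localization.Away (r : S))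
        (algebraMap (MvPolynomial (Fin n) R) S) (g r)).toAlgebra
    haveI t2 : IsScalarTower (MvPolynomial (Fin n) R) (Localization.Away (g r))
        (Localization.Away (r : S)) :=
      IsScalarTower.of_algebraMap_eq (fun x => by
        rw [IsScalarTower.algebraMap_apply (MvPolynomial (Fin n) R) S (Localization.Away (r : S))]
        show algebraMap S (Localization.Away (r : S)) (algebraMap _ S x) =
          IsLocalization.Away.map (Localization.Away (g r)) (Localization.Away (r : S))
            (algebraMap (MvPolynomial (Fin n) R) S) (g r) (algebraMap _ _ x)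
        rw [IsLocalization.Away.map, IsLocalization.map_eq])
    have hHr : MoreMor.IsPseudoCoherentHom R (Localization.Away (r : S)) := by
      have := H r
      have e : (algebraMap S (Localization.Away (r : S))).comp f =
          algebraMap R (Localization.Away (r : S)) :=
        (IsScalarTower.algebraMap_eq R S (Localization.Away (r : S))).symm
      rw [e, Q_algebraMap] at this
      exact this
    exact locStep (R := R) (P := MvPolynomial (Fin n) R) (S := S) (Pg := Localization.Away (g r))
      (Sr := Localization.Away (r : S)) (g r) hα (pcHom_mvPolynomial R n) hHr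

theorem Q_ofLocalizationSpanTarget : RingHom.OfLocalizationSpanTarget @Q :=
  (RingHom.ofLocalizationSpanTarget_iff_finite @Q).mpr Q_ofLocalizationFiniteSpanTarget

theorem Q_propertyIsLocal : RingHom.PropertyIsLocal @Q where
  localizationAwayPreserves := Q_localizationAwayPreserves
  ofLocalizationSpanTarget := Q_ofLocalizationSpanTarget
  ofLocalizationSpan := Q_ofLocalizationSpanTarget.ofLocalizationSpan
    Q_stableUnderCompositionWithLocalizationAway.1
  StableUnderCompositionWithLocalizationAwayTarget :=
    Q_stableUnderCompositionWithLocalizationAway.2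

theorem Q_stableUnderComposition : RingHom.StableUnderComposition @Q :=
  fun _ _ _ _ _ _ φ ψ h1 h2 => Q_comp φ ψ h1 h2

end Groth.Agent.Helper3.PcHom
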