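import Mathlib
import Groth.Prelude.Def_MoreMor
import Groth.Agent.Helper3.PcHomD

/-! Pseudo-coherent morphisms of schemes via `HasRingHomProperty`. -/

set_option autoImplicit false
set_option linter.style.haveILetI false
set_option linter.unusedSectionVars false
set_option linter.unusedVariables false
set_option linter.style.haveILetI false
set_option linter.unusedSectionVars false
set_option linter.unusedVariables false
universe u
open CategoryTheory CategoryTheory.Limits AlgebraicGeometry

namespace Groth.Agent.Helper3.PcMor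

open Groth.Agent.Helper3.PcHom

/-- pseudo-coherent morphisms, as the morphism property associated with the local ring hom
property `Q` -/
def pcMor : MorphismProperty Scheme.{u} := affineLocally (@Q.{u})

instance : HasRingHomProperty pcMor.{u} (@Q.{u}) where
  isLocal_ringHomProperty := Q_propertyIsLocal
  eq_affineLocally' := rfl

theorem isPseudoCoherentMor_iff {X Y : Scheme.{u}} (f : X ⟶ Y) :
    MoreMor.IsPseudoCoherentMor f ↔ pcMor f := by
  rw [HasRingHomProperty.iff_appLE (P := pcMor)]
  constructor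
  · intro h V U e
    exact h U.1 V.1 U.2 V.2 e
  · intro h U V hU hV hUV
    exact h ⟨V, hV⟩ ⟨U, hU⟩ hUV

theorem s7166 {X S : Scheme.{u}} (f : X ⟶ S) :
    MoreMor.IsPseudoCoherentMor f ↔ ∀ x : X, ∃ (U : X.Opens) (V : S.Opens) (hUV : U ≤ f ⁻¹ᵁ V),
      IsAffineOpen U ∧ IsAffineOpen V ∧ x ∈ U ∧
      (letI := (f.appLE V U hUV).hom.toAlgebra
       MoreMor.IsPseudoCoherentHom Γ(S, V) Γ(X, U)) := by
  rw [isPseudoCoherentMor_iff,
    HasRingHomProperty.iff_exists_appLE (P := pcMor) Q_stableUnderCompositionWithLocalizationAway.1]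
  constructor
  · intro h x
    obtain ⟨V, U, hx, e, hQ⟩ := h x
    exact ⟨U.1, V.1, e, U.2, V.2, hx, hQ⟩
  · intro h x
    obtain ⟨U, V, e, hU, hV, hx, hQ⟩ := h x
    exact ⟨⟨V, hV⟩, ⟨U, hU⟩, hx, e, hQ⟩

theorem s1504 {X Y Z : Scheme.{u}} (f : X ⟶ Y) (g : Y ⟶ Z) (hf : MoreMor.IsPseudoCoherentMor f)
    (hg : MoreMor.IsPseudoCoherentMor g) : MoreMor.IsPseudoCoherentMor (f ≫ g) := by
  rw [isPseudoCoherentMor_iff] at hf hg ⊢
  haveI := HasRingHomProperty.stableUnderComposition (P := pcMor) Q_stableUnderComposition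
  exact MorphismProperty.comp_mem _ f g hf hg

/-- cancellation for morphism properties coming from ring hom properties with cancellation -/
theorem of_comp' (P : MorphismProperty Scheme.{u})
    {Q' : ∀ {R S : Type u} [CommRing R] [CommRing S], (R →+* S) → Prop} [HasRingHomProperty P Q']
    (H : ∀ {R S T : Type u} [CommRing R] [CommRing S] [CommRing T],
      ∀ (f : R →+* S) (g : S →+* T), Q' f → Q' (g.comp f) → Q' g)
    {X Y Z : Scheme.{u}} {f : X ⟶ Y} {g : Y ⟶ Z} (h : P (f ≫ g)) (hg : P g) : P f := by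
  wlog hZ : IsAffine Z generalizing X Y Z
  · rw [IsZariskiLocalAtTarget.iff_of_iSup_eq_top (P := P) _
      (g.iSup_preimage_eq_top (iSup_affineOpens_eq_top Z))]
    intro U
    have H1 := IsZariskiLocalAtTarget.restrict h U.1
    rw [morphismRestrict_comp] at H1
    exact this H1 (IsZariskiLocalAtTarget.restrict hg U.1) inferInstance
  wlog hY : IsAffine Y generalizing X Y
  · rw [IsZariskiLocalAtTarget.iff_of_iSup_eq_top (P := P) _ (iSup_affineOpens_eq_top Y)]
    intro U
    have H1 := HasRingHomProperty.comp_of_isOpenImmersion P (f ⁻¹ᵁ U.1).ι (f ≫ g) h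
    rw [← morphismRestrict_ι_assoc] at H1
    exact this H1 (HasRingHomProperty.comp_of_isOpenImmersion P U.1.ι g hg) inferInstance
  wlog hX : IsAffine X generalizing X
  · rw [IsZariskiLocalAtSource.iff_of_iSup_eq_top (P := P) _ (iSup_affineOpens_eq_top X)]
    intro U
    have H1 := HasRingHomProperty.comp_of_isOpenImmersion P U.1.ι (f ≫ g) h
    rw [← Category.assoc] at H1
    exact this H1 inferInstance
  rw [HasRingHomProperty.iff_of_isAffine (P := P)] at h hg ⊢
  rw [Scheme.Hom.comp_appTop, CommRingCat.hom_comp] at h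
  exact H _ _ hg h

theorem s7169 {X Y S : Scheme.{u}} (f : X ⟶ Y) (g : Y ⟶ S)
    (hX : MoreMor.IsPseudoCoherentMor (f ≫ g)) (hY : MoreMor.IsPseudoCoherentMor g) :
    MoreMor.IsPseudoCoherentMor f := by
  rw [isPseudoCoherentMor_iff] at hX hY ⊢
  exact of_comp' pcMor (fun φ ψ h1 h2 => Q_cancel φ ψ h1 h2) hX hY

end Groth.Agent.Helper3.PcMor
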