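import Mathlib
import Groth.Prelude.Def_DRing2
import Groth.Prelude.Def_DDual2
import Groth.Prelude.Def_DerCA
import Groth.Agent.Helper3.DRingRelPC

/-! Relative pseudo-coherence along finite ring maps: the one-generator step. -/

set_option autoImplicit false
universe u
open CategoryTheory CategoryTheory.Limits

namespace Groth.Agent.Helper3.DRingLib

attribute [local instance] HasDerivedCategory.standard

open Pretriangulated DerivedCategory ZeroObject Polynomial

section Monic

theorem goodHom_mk_monic {D : Type u} [CommRing D] (Q : D[X]) (hQ : Q.Monic) :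
    GoodHom (AdjoinRoot.mk Q) := by
  letI : Algebra D[X] (AdjoinRoot Q) := (AdjoinRoot.mk Q).toAlgebra
  have halg : ∀ r : D[X], algebraMap D[X] (AdjoinRoot Q) r = AdjoinRoot.mk Q r := fun r => rfl
  apply goodHom_algebraMap (A := D[X]) (B := AdjoinRoot Q)
  rw [isPseudoCoherent'_iff_forall]
  intro m
  let p : D[X] →ₗ[D[X]] AdjoinRoot Q := Algebra.linearMap D[X] (AdjoinRoot Q)
  have hp : Function.Surjective p := fun y => by
    obtain ⟨g, rfl⟩ := AdjoinRoot.mk_surjective y
    exact ⟨g, rfl⟩
  let g : D[X] →ₗ[D[X]] LinearMap.ker p :=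
    LinearMap.codRestrict (LinearMap.ker p) (LinearMap.toSpanSingleton D[X] D[X] Q)
      (fun r => by
        rw [LinearMap.mem_ker]
        change algebraMap D[X] (AdjoinRoot Q) (r • Q) = 0
        rw [halg, smul_eq_mul, map_mul, AdjoinRoot.mk_self, mul_zero])
  have hg : Function.Bijective g := by
    constructor
    · intro r r' h
      have h1 : r * Q = r' * Q := congrArg Subtype.val h
      exact hQ.isRegular.right h1
    · rintro ⟨q, hq⟩
      rw [LinearMap.mem_ker] at hq
      have hq' : AdjoinRoot.mk Q q = 0 := hq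
      rw [AdjoinRoot.mk_eq_zero] at hq'
      obtain ⟨r, hr⟩ := hq'
      refine ⟨r, Subtype.ext ?_⟩
      change r * Q = q
      rw [hr, mul_comm]
  let l : D[X] ≃ₗ[D[X]] LinearMap.ker p := LinearEquiv.ofBijective g hg
  haveI : Module.Finite D[X] (LinearMap.ker p) := Module.Finite.equiv l
  haveI : Module.Projective D[X] (LinearMap.ker p) := Module.Projective.of_equiv l
  have hS := LinearMap.shortExact_shortComplexKer hp
  have hT := hS.singleTriangle_distinguished
  have h1 : DRing.IsPseudoCoherent D[X] (m + 1) hS.singleTriangle.obj₁ :=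
    isPseudoCoherent_inD_of_finite_projective' (LinearMap.ker p) (m + 1)
  have h2 : DRing.IsPseudoCoherent D[X] m hS.singleTriangle.obj₂ :=
    isPseudoCoherent_inD_of_finite_projective' D[X] m
  exact isPseudoCoherent_obj₃ _ hT m h1 h2

theorem goodHom_of_monic {D : Type u} [CommRing D] (Q : D[X]) (hQ : Q.Monic) :
    GoodHom (AdjoinRoot.of Q) := by
  haveI := hQ.free_adjoinRoot
  haveI := hQ.finite_adjoinRoot
  have h := goodHom_of_finite_projective (A := D) (B := AdjoinRoot Q)
  rw [AdjoinRoot.algebraMap_eq] at h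
  exact h

end Monic

section Step

variable {R A B : Type u} [CommRing R] [CommRing A] [CommRing B]
  [Algebra R A] [Algebra A B] [Algebra R B] [IsScalarTower R A B]

theorem exists_presentation_step {n : ℕ} (α : MvPolynomial (Fin n) R →ₐ[R] A)
    (hα : Function.Surjective α) (b : B) (hb : IsIntegral A b)
    (hgen : Algebra.adjoin A {b} = ⊤) :
    ∃ γ : MvPolynomial (Fin (n + 1)) R →ₐ[R] B, Function.Surjective γ ∧
      ∀ (K : Dual.D B) (m : ℤ),
        DRing.IsPseudoCoherent (MvPolynomial (Fin (n + 1)) R) m
            ((DRing.restrictD (γ : MvPolynomial (Fin (n + 1)) R →+* B)).obj K) ↔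
          DRing.IsPseudoCoherent (MvPolynomial (Fin n) R) m
            ((DRing.restrictD ((algebraMap A B).comp (α : MvPolynomial (Fin n) R →+* A))).obj K) := by
  obtain ⟨q, hqm, hq0⟩ := hb
  have hα' : Function.Surjective (α : MvPolynomial (Fin n) R →+* A) := hα
  obtain ⟨Q, hQq, -, hQm⟩ := Polynomial.lifts_and_natDegree_eq_and_monic
    (f := (α : MvPolynomial (Fin n) R →+* A)) (p := q)
    (by
      rw [Polynomial.mem_lifts]
      exact Polynomial.map_surjective _ hα' q) hqm
  let f : MvPolynomial (Fin n) R →+* B := (algebraMap A B).comp (α : MvPolynomial (Fin n) R →+* A)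
  have hQb : Q.eval₂ f b = 0 := by
    have h1 : Q.eval₂ f b = (Q.map (α : MvPolynomial (Fin n) R →+* A)).eval₂ (algebraMap A B) b := by
      rw [Polynomial.eval₂_map]
    rw [h1, hQq]
    exact hq0
  let ψ : AdjoinRoot Q →+* B := AdjoinRoot.lift f b hQb
  have hψsurj : Function.Surjective ψ := by
    intro y
    have hy : y ∈ Algebra.adjoin A {b} := by rw [hgen]; trivial
    rw [Algebra.adjoin_singleton_eq_range_aeval] at hy
    obtain ⟨g, hg⟩ := hy
    obtain ⟨G, hG⟩ := Polynomial.map_surjective _ hα' g
    refine ⟨AdjoinRoot.mk Q G, ?_⟩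
    change AdjoinRoot.lift f b hQb (AdjoinRoot.mk Q G) = y
    rw [AdjoinRoot.lift_mk]
    have h1 : G.eval₂ f b = (G.map (α : MvPolynomial (Fin n) R →+* A)).eval₂ (algebraMap A B) b := by
      rw [Polynomial.eval₂_map]
    rw [h1, hG]
    exact hg
  let e := MvPolynomial.finSuccEquiv R n
  let γ₀ : MvPolynomial (Fin (n + 1)) R →+* B :=
    (ψ.comp (AdjoinRoot.mk Q)).comp e.toRingEquiv.toRingHom
  have hγC : ∀ r : R, γ₀ (algebraMap R _ r) = algebraMap R B r := by
    intro r
    change ψ (AdjoinRoot.mk Q (e (MvPolynomial.C r))) = algebraMap R B r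
    have h1 : e (MvPolynomial.C r) = Polynomial.C (MvPolynomial.C r) := by
      rw [MvPolynomial.finSuccEquiv_apply]
      simp
    rw [h1, AdjoinRoot.mk_C]
    change AdjoinRoot.lift f b hQb (AdjoinRoot.of Q (MvPolynomial.C r)) = algebraMap R B r
    rw [AdjoinRoot.lift_of]
    change algebraMap A B (α (MvPolynomial.C r)) = algebraMap R B r
    have h2 : α (MvPolynomial.C r) = algebraMap R A r := by
      rw [← MvPolynomial.algebraMap_eq, AlgHom.commutes]
    rw [h2, ← IsScalarTower.algebraMap_apply]
  let γ : MvPolynomial (Fin (n + 1)) R →ₐ[R] B := { γ₀ with commutes' := hγC }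
  have hγsurj : Function.Surjective γ := by
    intro y
    obtain ⟨c, rfl⟩ := hψsurj y
    obtain ⟨G, rfl⟩ := AdjoinRoot.mk_surjective c
    obtain ⟨x, rfl⟩ := e.surjective G
    exact ⟨x, rfl⟩
  refine ⟨γ, hγsurj, fun K m => ?_⟩
  have hγ' : (γ : MvPolynomial (Fin (n + 1)) R →+* B) =
      (ψ.comp (AdjoinRoot.mk Q)).comp e.toRingEquiv.toRingHom := rfl
  have hψι : ψ.comp (AdjoinRoot.of Q) = f := AdjoinRoot.lift_comp_of hQb
  rw [hγ', goodHom_ringEquiv e.toRingEquiv B _ K m, goodHom_mk_monic Q hQm B ψ K m,
    ← goodHom_of_monic Q hQm B ψ K m, hψι]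

end Step

section Finite

lemma relPC_of_iso {R A : Type u} [CommRing R] [CommRing A] [Algebra R A] {m : ℤ} {K L : Dual.D A}
    (e : K ≅ L) (h : DerCA.IsRelPseudoCoherent R A m K) : DerCA.IsRelPseudoCoherent R A m L := by
  obtain ⟨n, α, hα, h⟩ := h
  exact ⟨n, α, hα, isPseudoCoherent_of_iso
    ((DRing.restrictD (α : MvPolynomial (Fin n) R →+* A)).mapIso e) h⟩

theorem relPC_step {R A B : Type u} [CommRing R] [CommRing A] [CommRing B]
    [Algebra R A] [Algebra A B] [Algebra R B] [IsScalarTower R A B] [Algebra.FiniteType R A]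
    (b : B) (hb : IsIntegral A b) (hgen : Algebra.adjoin A {b} = ⊤) (K : Dual.D B) (m : ℤ) :
    DerCA.IsRelPseudoCoherent R B m K ↔
      DerCA.IsRelPseudoCoherent R A m ((DRing.restrictD (algebraMap A B)).obj K) := by
  obtain ⟨n, α, hα⟩ := exists_presentation R A
  obtain ⟨γ, hγ, h⟩ := exists_presentation_step α hα b hb hgen
  rw [relPC_iff_via γ hγ, relPC_iff_via α hα]
  unfold DerCA.IsRelPseudoCoherentVia
  rw [h K m]
  constructor
  · intro h1
    exact isPseudoCoherent_of_iso (rDComp (α : MvPolynomial (Fin n) R →+* A) (algebraMap A B) K) h1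
  · intro h1
    exact isPseudoCoherent_of_iso
      (rDComp (α : MvPolynomial (Fin n) R →+* A) (algebraMap A B) K).symm h1

theorem relPC_finite_aux (R : Type u) [CommRing R] : ∀ (k : ℕ) (A B : Type u) [CommRing A]
    [CommRing B] [Algebra R A] [Algebra A B] [Algebra R B] [IsScalarTower R A B]
    [Algebra.FiniteType R A] (s : Fin k → B), (∀ j, IsIntegral A (s j)) →
    Algebra.adjoin A (Set.range s) = ⊤ → ∀ (K : Dual.D B) (m : ℤ),
    DerCA.IsRelPseudoCoherent R B m K ↔
      DerCA.IsRelPseudoCoherent R A m ((DRing.restrictD (algebraMap A B)).obj K) := by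
  intro k
  induction k with
  | zero =>
    intro A B _ _ _ _ _ _ _ s _ hs K m
    apply relPC_step (0 : B) isIntegral_zero
    rw [eq_top_iff, ← hs]
    apply Algebra.adjoin_mono
    rintro x ⟨j, -⟩
    exact j.elim0
  | succ k ih =>
    intro A B _ _ _ _ _ _ _ s hint hs K m
    let s' : Fin k → B := fun j => s j.castSucc
    let A' : Subalgebra A B := Algebra.adjoin A (Set.range s')
    haveI : IsScalarTower R A' B := IsScalarTower.of_algebraMap_eq (fun r => rfl)
    haveI : IsScalarTower R A A' := IsScalarTower.of_algebraMap_eq (fun r => by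
      apply Subtype.ext
      change algebraMap R B r = algebraMap A B (algebraMap R A r)
      rw [← IsScalarTower.algebraMap_apply])
    haveI hft : Algebra.FiniteType A A' := by
      classical
      rw [← Subalgebra.fg_iff_finiteType]
      exact ⟨Finset.univ.image s', by
        rw [Finset.coe_image, Finset.coe_univ, Set.image_univ]⟩
    haveI : Algebra.FiniteType R A' := Algebra.FiniteType.trans (inferInstance : Algebra.FiniteType R A) hft
    -- generators of `A'`
    let s'' : Fin k → A' := fun j => ⟨s' j, Algebra.subset_adjoin ⟨j, rfl⟩⟩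
    have hint'' : ∀ j, IsIntegral A (s'' j) := fun j =>
      (isIntegral_algHom_iff A'.val Subtype.val_injective).mp (hint j.castSucc)
    have hs'' : Algebra.adjoin A (Set.range s'') = ⊤ := by
      apply Subalgebra.map_injective (f := A'.val) Subtype.val_injective
      rw [AlgHom.map_adjoin, Algebra.map_top, Subalgebra.range_val]
      congr 1
      ext x
      constructor
      · rintro ⟨_, ⟨j, rfl⟩, rfl⟩
        exact ⟨j, rfl⟩
      · rintro ⟨j, rfl⟩
        exact ⟨s'' j, ⟨j, rfl⟩, rfl⟩
    have h1 := ih A A' s'' hint'' hs''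
    -- last generator
    have hb : IsIntegral A' (s (Fin.last k)) := (hint (Fin.last k)).tower_top
    have hgen : Algebra.adjoin A' {s (Fin.last k)} = ⊤ := by
      rw [eq_top_iff]
      intro x _
      have hx : x ∈ Algebra.adjoin A (Set.range s) := by rw [hs]; trivial
      induction hx using Algebra.adjoin_induction with
      | mem y hy =>
        obtain ⟨j, rfl⟩ := hy
        refine Fin.lastCases ?_ (fun i => ?_) j
        · exact Algebra.subset_adjoin (Set.mem_singleton _)
        · exact (Algebra.adjoin A' {s (Fin.last k)}).algebraMap_mem (s'' i)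
      | algebraMap r =>
        exact (Algebra.adjoin A' {s (Fin.last k)}).algebraMap_mem (algebraMap A A' r)
      | add y z _ _ hy hz => exact Subalgebra.add_mem _ (hy trivial) (hz trivial)
      | mul y z _ _ hy hz => exact Subalgebra.mul_mem _ (hy trivial) (hz trivial)
    have h2 := relPC_step (R := R) (A := A') (B := B) (s (Fin.last k)) hb hgen K m
    rw [h2, h1]
    have hcomp : (algebraMap A' B).comp (algebraMap A A') = algebraMap A B := rfl
    constructor
    · intro h3
      have e := rDComp (algebraMap A A') (algebraMap A' B) K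
      rw [hcomp] at e
      exact relPC_of_iso e.symm h3
    · intro h3
      have e := rDComp (algebraMap A A') (algebraMap A' B) K
      rw [hcomp] at e
      exact relPC_of_iso e h3

end Finite

end Groth.Agent.Helper3.DRingLib
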