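import Mathlib
import Groth.Prelude.Def_DRing2
import Groth.Prelude.Def_DDual2
import Groth.Prelude.Def_MoreMor
import Groth.Agent.Helper3.PcMorA
import Groth.Agent.S6984

/-! Finite pseudo-coherent ring maps and morphisms. -/

set_option autoImplicit false
set_option linter.style.haveILetI false
set_option linter.unusedSectionVars false
set_option linter.unusedVariables false
set_option linter.style.haveILetI false
set_option linter.unusedSectionVars false
set_option linter.unusedVariables false
universe u
open CategoryTheory CategoryTheory.Limits AlgebraicGeometry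

namespace Groth.Agent.Helper3.PcHom

attribute [local instance] HasDerivedCategory.standard

open Groth.Agent.Helper3.DRingLib DerivedCategory

section Ring

variable {A B : Type u} [CommRing A] [CommRing B] [Algebra A B]

/-- relative pseudo-coherence over the base itself is pseudo-coherence -/
lemma relPC_base_iff (m : ℤ) :
    DerCA.IsRelPseudoCoherent A A m ((DRing.restrictD (algebraMap A B)).obj (Dual.inD B B)) ↔
      DRing.IsPseudoCoherent A m (Dual.inD A B) := by
  rw [relPC_iff_via (pres0 (A := A) (B := A))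
    (pres0_surjective (A := A) (B := A) Function.surjective_id) m]
  unfold DerCA.IsRelPseudoCoherentVia
  have e1 := rDComp (pres0 (A := A) (B := A) : MvPolynomial (Fin 0) A →+* A) (algebraMap A B)
    (Dual.inD B B)
  have h1 : DRing.IsPseudoCoherent (MvPolynomial (Fin 0) A) m
      ((DRing.restrictD (pres0 (A := A) (B := A) : MvPolynomial (Fin 0) A →+* A)).obj
        ((DRing.restrictD (algebraMap A B)).obj (Dual.inD B B))) ↔
      DRing.IsPseudoCoherent (MvPolynomial (Fin 0) A) m
        ((DRing.restrictD ((algebraMap A B).comp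
          (pres0 (A := A) (B := A) : MvPolynomial (Fin 0) A →+* A))).obj (Dual.inD B B)) :=
    ⟨fun h => isPseudoCoherent_of_iso e1.symm h, fun h => isPseudoCoherent_of_iso e1 h⟩
  rw [h1]
  have h2 : (algebraMap A B).comp (pres0 (A := A) (B := A) : MvPolynomial (Fin 0) A →+* A) =
      (algebraMap A B).comp (MvPolynomial.isEmptyRingEquiv A (Fin 0)).toRingHom := by
    rw [pres0_eq]
    rfl
  rw [h2, goodHom_ringEquiv (MvPolynomial.isEmptyRingEquiv A (Fin 0)) B (algebraMap A B)
    (Dual.inD B B) m]
  exact ⟨fun h => isPseudoCoherent_of_iso (rDInDSelf (P := A) (B := B)) h,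
    fun h => isPseudoCoherent_of_iso (rDInDSelf (P := A) (B := B)).symm h⟩

/-- a finite ring map is pseudo-coherent iff the target is a pseudo-coherent module -/
theorem pcHom_iff_of_finite [Module.Finite A B] :
    MoreMor.IsPseudoCoherentHom A B ↔ DRing.IsPseudoCoherent' A (Dual.inD A B) := by
  haveI : Algebra.FiniteType A B := Module.Finite.finiteType B
  rw [pcHom_iff_relPCAll, isPseudoCoherent'_iff_forall]
  have h := (Groth.Agent.S6984.result (R := A) (A := A) (B := B) (Dual.inD B B) 0).2
  show DerCA.IsRelPseudoCoherentAll A B (Dual.inD B B) ↔ _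
  rw [h]
  exact forall_congr' (fun m => relPC_base_iff m)

end Ring

end Groth.Agent.Helper3.PcHom

namespace Groth.Agent.Helper3.PcMor

open Groth.Agent.Helper3.PcHom

theorem s7170 {X S : Scheme.{u}} (f : X ⟶ S) [IsFinite f] :
    MoreMor.IsPseudoCoherentMor f ↔ ∀ (V : S.Opens), IsAffineOpen V →
      (letI := (f.app V).hom.toAlgebra
       DRing.IsPseudoCoherentModule' Γ(S, V) Γ(X, f ⁻¹ᵁ V)) := by
  have key : ∀ (V : S.Opens) (hV : IsAffineOpen V),
      (letI := (f.app V).hom.toAlgebra
       MoreMor.IsPseudoCoherentHom Γ(S, V) Γ(X, f ⁻¹ᵁ V)) ↔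
      (letI := (f.app V).hom.toAlgebra
       DRing.IsPseudoCoherentModule' Γ(S, V) Γ(X, f ⁻¹ᵁ V)) := by
    intro V hV
    letI := (f.app V).hom.toAlgebra
    haveI : Module.Finite Γ(S, V) Γ(X, f ⁻¹ᵁ V) := IsFinite.finite_app f V hV
    exact pcHom_iff_of_finite
  constructor
  · intro h V hV
    rw [← key V hV]
    have hU : IsAffineOpen (f ⁻¹ᵁ V) := hV.preimage f
    have := h (f ⁻¹ᵁ V) V hU hV le_rfl
    rw [← Scheme.Hom.app_eq_appLE] at this
    exact this
  · intro h
    rw [s7166]
    intro x
    obtain ⟨V, hV, hxV, -⟩ := TopologicalSpace.Opens.isBasis_iff_nbhd.mp S.isBasis_affineOpens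
      (TopologicalSpace.Opens.mem_top (f x))
    have hU : IsAffineOpen (f ⁻¹ᵁ V) := IsAffineOpen.preimage hV f
    refine ⟨f ⁻¹ᵁ V, V, le_rfl, hU, hV, hxV, ?_⟩
    have := (key V hV).mpr (h V hV)
    rw [← Scheme.Hom.app_eq_appLE]
    exact this

end Groth.Agent.Helper3.PcMor
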