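import Mathlib

set_option linter.style.haveILetI false
set_option linter.unusedSectionVars false
set_option linter.unusedVariables false

namespace Groth.Agent.Helper3.OrdOpen

universe u

open AlgebraicGeometry Order WithZero CategoryTheory

section ring

variable {R R' : Type*} [CommRing R] [CommRing R'] (φ : R ≃+* R')

theorem ord_equiv (x : R) : Ring.ord R' (φ x) = Ring.ord R x := by
  unfold Ring.ord
  letI : Algebra R R' := φ.toRingHom.toAlgebra
  have hsurj : Function.Surjective (algebraMap R R') := φ.surjective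
  rw [← Module.length_eq_of_surjective (S := R) (R := R') (M := R' ⧸ Ideal.span {φ x}) hsurj]
  symm
  have hmap : (Ideal.span {x}).map (φ : R →+* R') = Ideal.span {φ x} := by
    rw [Ideal.map_span, Set.image_singleton]; rfl
  let e : (R ⧸ Ideal.span {x}) ≃+* (R' ⧸ Ideal.span {φ x}) :=
    Ideal.quotientEquiv _ _ φ hmap.symm
  refine LinearEquiv.length_eq
    { e.toAddEquiv with
      map_smul' := ?_ }
  intro r y
  obtain ⟨y, rfl⟩ := Ideal.Quotient.mk_surjective y
  show e (r • Ideal.Quotient.mk _ y) = r • e (Ideal.Quotient.mk _ y)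
  rw [Algebra.smul_def, Algebra.smul_def, map_mul]
  congr 1

theorem ordMonoidWithZeroHom_equiv [IsDomain R] [IsDomain R'] (x : R) :
    Ring.ordMonoidWithZeroHom R' (φ x) = Ring.ordMonoidWithZeroHom R x := by
  by_cases hx : x = 0
  · subst hx; simp
  · have hx' : φ x ≠ 0 := fun h => hx (φ.injective (h.trans (map_zero φ).symm))
    rw [Ring.ordMonoidWithZeroHom_eq_ord (mem_nonZeroDivisors_iff_ne_zero.2 hx),
      Ring.ordMonoidWithZeroHom_eq_ord (mem_nonZeroDivisors_iff_ne_zero.2 hx'), ord_equiv]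

theorem ordFrac_equiv [IsDomain R] [IsDomain R'] [IsNoetherianRing R] [IsNoetherianRing R']
    [Ring.KrullDimLE 1 R] [Ring.KrullDimLE 1 R']
    {K K' : Type*} [Field K] [Field K'] [Algebra R K] [Algebra R' K'] [IsFractionRing R K]
    [IsFractionRing R' K']
    (ψ : K →+* K') (hψ : ∀ r, ψ (algebraMap R K r) = algebraMap R' K' (φ r)) (y : K) :
    Ring.ordFrac R' (ψ y) = Ring.ordFrac R y := by
  obtain ⟨a, b, hb, rfl⟩ := IsFractionRing.div_surjective (A := R) y
  have hb0 : b ≠ 0 := nonZeroDivisors.ne_zero hb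
  have hb0' : φ b ≠ 0 := fun h => hb0 (φ.injective (h.trans (map_zero φ).symm))
  rw [map_div₀, map_div₀, map_div₀, hψ, hψ]
  by_cases ha : a = 0
  · simp [ha]
  · have ha' : φ a ≠ 0 := fun h => ha (φ.injective (h.trans (map_zero φ).symm))
    rw [Ring.ordFrac_eq_ord _ ha, Ring.ordFrac_eq_ord _ hb0, Ring.ordFrac_eq_ord _ ha',
      Ring.ordFrac_eq_ord _ hb0', ordMonoidWithZeroHom_equiv, ordMonoidWithZeroHom_equiv]

end ring

section scheme

variable {X : Scheme.{u}} [IsIntegral X] [IsLocallyNoetherian X] (U : X.Opens) [Nonempty U]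

theorem ι_generic : U.ι (genericPoint (U : Scheme.{u})) = genericPoint X :=
  genericPoint_eq_of_isOpenImmersion U.ι

/-- the comparison of function fields -/
noncomputable def ψ : X.functionField ⟶ (U : Scheme.{u}).functionField :=
  (X.presheaf.stalkCongr (Inseparable.of_eq (ι_generic U).symm)).hom ≫
    U.ι.stalkMap (genericPoint (U : Scheme.{u}))

instance : IsIso (ψ U) := by
  unfold ψ; infer_instance

theorem ψ_bijective : Function.Bijective (ψ U).hom :=
  ConcreteCategory.bijective_of_isIso (ψ U)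

theorem ordHom_ψ (u : ↥(U : Scheme.{u})) (hu : coheight u = 1) (hu' : coheight (U.ι u) = 1)
    (f : X.functionField) :
    Scheme.ordHom u hu ((ψ U).hom f) = Scheme.ordHom (U.ι u) hu' f := by
  unfold Scheme.ordHom
  haveI : Ring.KrullDimLE 1 ((U : Scheme.{u}).presheaf.stalk u) := krullDimLE_of_coheight_le hu.le
  haveI : Ring.KrullDimLE 1 (X.presheaf.stalk (U.ι u)) := krullDimLE_of_coheight_le hu'.le
  let φ : X.presheaf.stalk (U.ι u) ≃+* (U : Scheme.{u}).presheaf.stalk u :=
    (asIso (U.ι.stalkMap u)).commRingCatIsoToRingEquiv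
  refine ordFrac_equiv φ (ψ U).hom ?_ f
  intro r
  simp only [RingHom.algebraMap_toAlgebra]
  have hgu : genericPoint (U : Scheme.{u}) ⤳ u :=
    (genericPoint_spec (U : Scheme.{u})).specializes (Set.mem_univ u)
  have h1 : U.ι (genericPoint (U : Scheme.{u})) ⤳ genericPoint X :=
    (Inseparable.of_eq (ι_generic U).symm).ge
  have h2 : genericPoint X ⤳ U.ι u := (genericPoint_spec X).specializes (Set.mem_univ _)
  show (U.ι.stalkMap (genericPoint (U : Scheme.{u}))).hom
      ((X.presheaf.stalkSpecializes h1).hom ((X.presheaf.stalkSpecializes h2).hom r)) =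
    ((U : Scheme.{u}).presheaf.stalkSpecializes hgu).hom ((U.ι.stalkMap u).hom r)
  rw [← Scheme.Hom.stalkSpecializes_stalkMap_apply]
  congr 1
  exact TopCat.Presheaf.stalkSpecializes_comp_apply _ h1 h2 r

theorem ord_ψ (u : ↥(U : Scheme.{u})) (f : X.functionField) :
    Scheme.ord ((ψ U).hom f) u = Scheme.ord f (U.ι u) := by
  have hc : coheight (U.ι u) = coheight u := coheight_eq_of_isOpenImmersion U.ι
  by_cases hu : coheight u = 1
  · have hu' : coheight (U.ι u) = 1 := hc.trans hu
    rw [Scheme.ord_eq_ordHom_of_coheight_eq_one hu, Scheme.ord_eq_ordHom_of_coheight_eq_one hu',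
      ordHom_ψ U u hu hu']
  · have hu' : coheight (U.ι u) ≠ 1 := by rw [hc]; exact hu
    rw [Scheme.ord_eq_zero_of_coheight_neq_one hu, Scheme.ord_eq_zero_of_coheight_neq_one hu']

theorem main2 (hcod : ∀ x : ↥X, x ∉ U → 2 ≤ Order.coheight x) (D : ↥X → ℤ) :
    (∃ f : ↑X.functionField, f ≠ 0 ∧ ∀ x : ↥X, Order.coheight x = 1 → Scheme.ord f x = D x) ↔
      ∃ g : ↑(U : Scheme.{u}).functionField, g ≠ 0 ∧
        ∀ u : ↥(U : Scheme.{u}), Order.coheight u = 1 → Scheme.ord g u = D u.1 := by
  constructor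
  · rintro ⟨f, hf, h⟩
    refine ⟨(ψ U).hom f, ?_, fun u hu => ?_⟩
    · exact (map_ne_zero_iff _ (ψ_bijective U).1).2 hf
    · rw [ord_ψ]
      have hc : coheight (U.ι u) = coheight u := coheight_eq_of_isOpenImmersion U.ι
      exact h _ (hc.trans hu)
  · rintro ⟨g, hg, h⟩
    obtain ⟨f, rfl⟩ := (ψ_bijective U).2 g
    refine ⟨f, ?_, fun x hx => ?_⟩
    · rintro rfl; exact hg (map_zero _)
    · have hxU : x ∈ U := by
        by_contra hxU
        have := hcod x hxU
        rw [hx] at this
        exact absurd this (by norm_num)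
      let u' : ↥(U : Scheme.{u}) := ⟨x, hxU⟩
      have hc : coheight (U.ι u') = coheight u' := coheight_eq_of_isOpenImmersion U.ι
      have := h u' (hc.symm.trans hx)
      rw [ord_ψ] at this
      exact this

theorem main1 (z : ↥X) (hz : Order.coheight z = 1) (hU : (U : Set ↥X) = (closure {z})ᶜ)
    (D : ↥X → ℤ)
    (g : ↑(U : Scheme.{u}).functionField) (hg : g ≠ 0)
    (h : ∀ u : ↥(U : Scheme.{u}), Order.coheight u = 1 → Scheme.ord g u = D u.1) :
    ∃ (m : ℤ) (f : ↑X.functionField), f ≠ 0 ∧ Scheme.ord f z = D z - m ∧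
      ∀ x : ↥X, x ≠ z → Order.coheight x = 1 → Scheme.ord f x = D x := by
  obtain ⟨f, rfl⟩ := (ψ_bijective U).2 g
  refine ⟨D z - Scheme.ord f z, f, ?_, by ring, fun x hxz hx => ?_⟩
  · rintro rfl; exact hg (map_zero _)
  · have hxU : x ∈ U := by
      show x ∈ (U : Set ↥X)
      rw [hU, Set.mem_compl_iff, ← specializes_iff_mem_closure]
      intro hsp
      have hle : x ≤ z := Scheme.le_iff_specializes.2 hsp
      have hlt : x < z := by
        refine lt_of_le_not_ge hle ?_
        intro hzx
        have : x ⤳ z := Scheme.le_iff_specializes.1 hzx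
        exact hxz ((this.antisymm hsp).eq)
      have := Order.coheight_add_one_le hlt
      rw [hz, hx] at this
      exact absurd this (by norm_num)
    let u' : ↥(U : Scheme.{u}) := ⟨x, hxU⟩
    have hc : coheight (U.ι u') = coheight u' := coheight_eq_of_isOpenImmersion U.ι
    have := h u' (hc.symm.trans hx)
    rw [ord_ψ] at this
    exact this

end scheme

end Groth.Agent.Helper3.OrdOpen
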