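import Mathlib
import Groth.Prelude.Def_CurvBase
import Groth.Agent.Helper2.RegSmoothLoc
import Groth.Agent.Helper1.FieldSmooth7
import Groth.Agent.Helper5.DimIneq2

set_option linter.style.haveILetI false
set_option linter.unusedSectionVars false
set_option linter.unusedVariables false

namespace Groth.Agent.Helper3.CurveSmoothPt
open AlgebraicGeometry CategoryTheory

universe u

attribute [local instance] Curv2.resAlgebra

set_option backward.isDefEq.respectTransparency false in
theorem mem_smoothLocus_iff_regular (k : Type u) [Field k] (X : Scheme.{u})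
    [X.Over (Spec (CommRingCat.of k))]
    [LocallyOfFinitePresentation (X ↘ Spec (CommRingCat.of k))] (x : X)
    [Algebra.IsSeparable k (X.residueField x)] :
    x ∈ (X ↘ Spec (CommRingCat.of k)).smoothLocus ↔ IsRegularLocalRing (X.presheaf.stalk x) := by
  set f := X ↘ Spec (CommRingCat.of k) with hf
  have hess := LocallyOfFiniteType.stalkMap f x
  rw [Scheme.Hom.mem_smoothLocus]
  algebraize [(f.stalkMap x).hom]
  let K' := (Spec.structureSheaf k).presheaf.stalk (f x)
  let e : k ≃ₐ[k] K' := IsLocalization.atUnits _ (f x).asIdeal.primeCompl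
      (fun y hy ↦ by aesop (add simp IsUnit.mem_submonoid_iff))
  let : Field K' := (e.toRingEquiv.symm.isField (Field.toIsField k)).toField
  let : Field ((Spec (.of k)).presheaf.stalk (f x)) := this
  let ι : k →+* ((Spec (.of k)).presheaf.stalk (f x)) :=
    ((Spec (.of k)).presheaf.germ ⊤ (f x) trivial).hom.comp
      (Scheme.ΓSpecIso (CommRingCat.of k)).inv.hom
  letI algK : Algebra k ((Spec (.of k)).presheaf.stalk (f x)) := ι.toAlgebra
  letI algκ : Algebra k (IsLocalRing.ResidueField (X.presheaf.stalk x)) :=
    (Curv2.resMap k X x).toAlgebra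
  haveI hsep : Algebra.IsSeparable k (IsLocalRing.ResidueField (X.presheaf.stalk x)) :=
    ‹Algebra.IsSeparable k (X.residueField x)›
  haveI htower : IsScalarTower k ((Spec (.of k)).presheaf.stalk (f x))
      (IsLocalRing.ResidueField (X.presheaf.stalk x)) := by
    apply IsScalarTower.of_algebraMap_eq
    intro r
    change IsLocalRing.residue _ ((X.presheaf.germ ⊤ x trivial).hom
      ((f.appTop).hom ((Scheme.ΓSpecIso (CommRingCat.of k)).inv.hom r))) =
      IsLocalRing.residue _ ((f.stalkMap x).hom (ι r))
    congr 1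
    have h := Scheme.Hom.germ_stalkMap f ⊤ x trivial
    have h2 := congrArg (fun φ => φ.hom ((Scheme.ΓSpecIso (CommRingCat.of k)).inv.hom r)) h
    exact h2.symm
  haveI hsep' : Algebra.IsSeparable ((Spec (.of k)).presheaf.stalk (f x))
      (IsLocalRing.ResidueField (X.presheaf.stalk x)) :=
    Algebra.isSeparable_tower_top_of_isSeparable k _ _
  haveI : Algebra.FormallyEtale ((Spec (.of k)).presheaf.stalk (f x))
      (IsLocalRing.ResidueField (X.presheaf.stalk x)) := Algebra.FormallyEtale.of_isSeparable _ _
  haveI : Algebra.IsGeometricallyReduced ((Spec (.of k)).presheaf.stalk (f x))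
      (IsLocalRing.ResidueField (X.presheaf.stalk x)) :=
    Groth.Agent.Helper1.FieldSmooth.formallySmooth_iff_isGeometricallyReduced.1 inferInstance
  exact Groth.Agent.Helper2.RegSmoothLoc.formallySmooth_iff_isRegularLocalRing _ _

/-- a normal noetherian local domain of dimension at most one is regular -/
theorem regular_of_normal_dim_le_one (R : Type u) [CommRing R] [IsDomain R] [IsLocalRing R]
    [IsNoetherianRing R] [IsIntegrallyClosed R] (h : ringKrullDim R ≤ 1) :
    IsRegularLocalRing R := by
  haveI : Ring.KrullDimLE 1 R := Ring.krullDimLE_iff.mpr (by exact_mod_cast h)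
  have h1 : ∀ P : Ideal R, P ≠ ⊥ → P.IsPrime → P = IsLocalRing.maximalIdeal R := by
    intro P hP hP'
    exact IsLocalRing.eq_maximalIdeal
      (Ring.krullDimLE_one_iff_of_noZeroDivisors.mp inferInstance P hP hP')
  have h2 : IsIntegrallyClosed R ∧ ∀ P : Ideal R, P ≠ ⊥ → P.IsPrime →
      P = IsLocalRing.maximalIdeal R := ⟨inferInstance, h1⟩
  haveI : IsPrincipalIdealRing R :=
    ((tfae_of_isNoetherianRing_of_isLocalRing_of_isDomain R).out 3 0).mp h2
  infer_instance

theorem s13844 (K : Type u) [Field K] (C : Scheme.{u}) [C.Over (Spec (CommRingCat.of K))]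
    [IsIntegral C] [LocallyOfFinitePresentation (C ↘ (Spec (CommRingCat.of K)))]
    (hN : ∀ x : C, IsIntegrallyClosed (C.presheaf.stalk x))
    (hdim : topologicalKrullDim C = 1) (S : Set C)
    (hS : ∀ x ∈ S, IsClosed ({x} : Set C) ∧ Algebra.IsSeparable K (C.residueField x))
    (hsm : ∀ x : C, x ∉ S → x ∈ (C ↘ (Spec (CommRingCat.of K))).smoothLocus) :
    AlgebraicGeometry.Smooth (C ↘ (Spec (CommRingCat.of K))) := by
  haveI : IsLocallyNoetherian C :=
    LocallyOfFiniteType.isLocallyNoetherian (C ↘ (Spec (CommRingCat.of K)))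
  rw [← Scheme.Hom.smoothLocus_eq_top_iff]
  ext x
  simp only [TopologicalSpace.Opens.coe_top, Set.mem_univ, iff_true, SetLike.mem_coe]
  by_cases hx : x ∈ S
  · obtain ⟨_, hsep⟩ := hS x hx
    haveI := hsep
    rw [mem_smoothLocus_iff_regular]
    haveI := hN x
    apply regular_of_normal_dim_le_one
    rw [← hdim]
    exact Groth.Agent.Helper5.DimIneq.ringKrullDim_stalk_le_dim C x
  · exact hsm x hx

theorem s1556 (k : Type u) [Field k] (X : Scheme.{u}) [X.Over (Spec (CommRingCat.of k))]
    [IsIntegral X] [LocallyOfFinitePresentation (X ↘ (Spec (CommRingCat.of k)))]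
    (hdim : topologicalKrullDim X = 1) (x : X) (hx : IsClosed ({x} : Set X))
    [Algebra.IsSeparable k (X.residueField x)] :
    IsDiscreteValuationRing (X.presheaf.stalk x) ↔
      x ∈ (X ↘ (Spec (CommRingCat.of k))).smoothLocus := by
  haveI : IsLocallyNoetherian X :=
    LocallyOfFiniteType.isLocallyNoetherian (X ↘ (Spec (CommRingCat.of k)))
  rw [mem_smoothLocus_iff_regular]
  constructor
  · intro h
    infer_instance
  · intro hreg
    have h1 := (IsRegularLocalRing.iff_finrank_cotangentSpace _).1 hreg
    have h2 : ringKrullDim (X.presheaf.stalk x) ≤ 1 := by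
      rw [← hdim]
      exact Groth.Agent.Helper5.DimIneq.ringKrullDim_stalk_le_dim X x
    have h3 : Module.finrank (IsLocalRing.ResidueField (X.presheaf.stalk x))
        (IsLocalRing.CotangentSpace (X.presheaf.stalk x)) ≤ 1 := by
      rw [← h1] at h2
      exact_mod_cast h2
    haveI hPID : IsPrincipalIdealRing (X.presheaf.stalk x) :=
      ((tfae_of_isNoetherianRing_of_isLocalRing_of_isDomain (X.presheaf.stalk x)).out 5 0).mp h3
    refine { not_a_field' := ?_ }
    intro hbot
    have hmem : genericPoint X ∈ Set.range (X.fromSpecStalk x) := by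
      rw [Scheme.range_fromSpecStalk]
      exact genericPoint_specializes x
    obtain ⟨p, hp⟩ := hmem
    have hpc : p = IsLocalRing.closedPoint (X.presheaf.stalk x) := by
      apply PrimeSpectrum.ext
      apply le_antisymm
      · exact IsLocalRing.le_maximalIdeal p.2.ne_top
      · change IsLocalRing.maximalIdeal _ ≤ _
        rw [hbot]
        exact bot_le
    rw [hpc, Scheme.fromSpecStalk_closedPoint] at hp
    have hgen : closure ({x} : Set X) = Set.univ := by
      rw [hp]
      exact genericPoint_closure X
    rw [hx.closure_eq] at hgen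
    haveI : Subsingleton X := by
      constructor
      intro a b
      have ha : a ∈ ({x} : Set X) := hgen ▸ Set.mem_univ a
      have hb : b ∈ ({x} : Set X) := hgen ▸ Set.mem_univ b
      rw [Set.mem_singleton_iff] at ha hb
      rw [ha, hb]
    have : topologicalKrullDim X ≤ 0 := by
      apply Order.krullDim_nonpos_iff_forall_isMax.mpr
      intro Z Y h
      refine (h.antisymm' fun a ha ↦ ?_).le
      obtain ⟨z, hz⟩ := Z.2.nonempty
      rwa [Subsingleton.elim a z]
    rw [hdim] at this
    exact absurd this (by norm_num)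

end Groth.Agent.Helper3.CurveSmoothPt
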