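import Mathlib
import Groth.Agent.Helper5.VarDim15
import Groth.Agent.Lead.PropNormA

set_option autoImplicit false
set_option linter.style.haveILetI false
set_option linter.unusedSectionVars false
set_option linter.unusedVariables false
set_option linter.deprecated false
set_option linter.style.haveILetI false
set_option linter.unusedSectionVars false
set_option linter.unusedVariables false

universe u

open AlgebraicGeometry CategoryTheory IsLocalRing TopologicalSpace
open Groth.Agent.Helper5.VarDim

namespace Groth.Agent.Helper3.FibBir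

/-- dimension of an irreducible variety is the transcendence degree of the residue field at a
generic point -/
theorem dim_eq_trdeg (k : Type u) [Field k] {Y : Scheme.{u}}
    (g : Y ⟶ Spec (CommRingCat.of k)) [LocallyOfFiniteType g] (η : Y)
    (hη : closure ({η} : Set Y) = Set.univ) :
    ∃ n : ℕ, topologicalKrullDim ↥Y = n ∧
      @Algebra.trdeg k (Y.residueField η) _ _ (resHom k g η).toAlgebra = n := by
  obtain ⟨n, h1, h2⟩ := dim_closure_point k g η
  refine ⟨n, ?_, h2⟩
  rw [← h1, hη]
  exact ((Homeomorph.Set.univ ↥Y).isHomeomorph.topologicalKrullDim_eq _).symm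

/-- compatibility of `resHom` with composition -/
theorem resHom_comp (k : Type u) [Field k] {X Y : Scheme.{u}} (f : X ⟶ Y)
    (g : Y ⟶ Spec (CommRingCat.of k)) (x : X) :
    resHom k (f ≫ g) x = (f.residueFieldMap x).hom.comp (resHom k g (f x)) := by
  unfold resHom
  rw [Scheme.Hom.comp_appTop, ← CommRingCat.hom_comp]
  congr 1
  simp only [Category.assoc]
  rw [Scheme.Γevaluation_naturality]

/-- equal dimension forces the extension of residue fields at the generic points to be
algebraic -/
theorem trdeg_residue_eq_zero (k : Type u) [Field k] {X Y : Scheme.{u}} (f : X ⟶ Y)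
    (g : Y ⟶ Spec (CommRingCat.of k)) [LocallyOfFiniteType g] [LocallyOfFiniteType (f ≫ g)]
    (x : X) (hx : closure ({x} : Set X) = Set.univ) (hy : closure ({f x} : Set Y) = Set.univ)
    (hdim : topologicalKrullDim ↥X = topologicalKrullDim ↥Y) :
    @Algebra.trdeg (Y.residueField (f x)) (X.residueField x) _ _
      (f.residueFieldMap x).hom.toAlgebra = 0 := by
  obtain ⟨n, hn1, hn2⟩ := dim_eq_trdeg k (f ≫ g) x hx
  obtain ⟨m, hm1, hm2⟩ := dim_eq_trdeg k g (f x) hy
  have hnm : n = m := by
    rw [hn1, hm1] at hdim
    exact_mod_cast hdim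
  letI a1 : Algebra k (Y.residueField (f x)) := (resHom k g (f x)).toAlgebra
  letI a2 : Algebra (Y.residueField (f x)) (X.residueField x) :=
    (f.residueFieldMap x).hom.toAlgebra
  letI a3 : Algebra k (X.residueField x) := (resHom k (f ≫ g) x).toAlgebra
  haveI : IsScalarTower k (Y.residueField (f x)) (X.residueField x) :=
    IsScalarTower.of_algebraMap_eq' (resHom_comp k f g x)
  haveI : FaithfulSMul k (Y.residueField (f x)) :=
    (faithfulSMul_iff_algebraMap_injective _ _).mpr (RingHom.injective _)
  haveI : FaithfulSMul (Y.residueField (f x)) (X.residueField x) :=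
    (faithfulSMul_iff_algebraMap_injective _ _).mpr (RingHom.injective _)
  have hadd := trdeg_add_eq k (Y.residueField (f x)) (A := X.residueField x)
  rw [hn2, hm2, hnm] at hadd
  have h0 : ((m : ℕ) : Cardinal) + Algebra.trdeg (Y.residueField (f x)) (X.residueField x) =
      (m : Cardinal) + 0 := by rw [add_zero]; exact hadd
  exact Cardinal.eq_of_add_eq_add_left h0 (Cardinal.natCast_lt_aleph0 (n := m))

/-- with equal dimensions, the generic point is the only point over its image -/
theorem fibre_generic (k : Type u) [Field k] {X Y : Scheme.{u}} (f : X ⟶ Y)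
    (g : Y ⟶ Spec (CommRingCat.of k)) [LocallyOfFiniteType g] [LocallyOfFiniteType (f ≫ g)]
    (x : X) (hx : closure ({x} : Set X) = Set.univ) (hy : closure ({f x} : Set Y) = Set.univ)
    (hdim : topologicalKrullDim ↥X = topologicalKrullDim ↥Y) (x' : X) (hx' : f x' = f x) :
    x' = x := by
  by_contra hne
  haveI : LocallyOfFiniteType f := locallyOfFiniteType_of_comp f g
  have hsp : x ⤳ x' := by
    rw [specializes_iff_mem_closure, hx]; trivial
  have h1 := trdeg_lt_of_specializes_fiber f x x' hsp (Ne.symm hne) hx'.symm
  rw [trdeg_residue_eq_zero k f g x hx hy hdim] at h1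
  exact not_lt_zero' h1

theorem main (k : Type u) [Field k] (X Y : Scheme.{u}) [IsIntegral X] [IsIntegral Y]
    (gX : X ⟶ Spec (CommRingCat.of k)) (gY : Y ⟶ Spec (CommRingCat.of k))
    [IsProper gX] [IsProper gY]
    (hY : Pi1.IsNormalScheme Y) (f : X ⟶ Y) (hf : f ≫ gY = gX)
    (hdim : topologicalKrullDim ↥X = topologicalKrullDim ↥Y)
    (h : f.base (genericPoint ↥X) ⤳ genericPoint ↥Y) :
    (∀ U : Y.Opens, IsIso (f.app U)) ↔
      Function.Bijective (CohIII.stalkToFunctionField f (genericPoint ↥Y) h) := by
  haveI : IsProper (f ≫ gY) := by rw [hf]; infer_instance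
  haveI : IsProper f := IsProper.of_comp f gY
  haveI : IsLocallyNoetherian X := LocallyOfFiniteType.isLocallyNoetherian gX
  haveI : IsLocallyNoetherian Y := LocallyOfFiniteType.isLocallyNoetherian gY
  constructor
  · intro hiso
    refine ⟨Groth.Agent.Lead.PropNormA.stalkToFunctionField_injective f h, ?_⟩
    have heq : f (genericPoint X) = genericPoint Y :=
      ((genericPoint_specializes (f (genericPoint X))).antisymm h).symm.eq
    have hclX : closure ({genericPoint X} : Set X) = Set.univ := (genericPoint_spec X).def
    have hclY : closure ({f (genericPoint X)} : Set Y) = Set.univ := by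
      rw [heq]; exact (genericPoint_spec Y).def
    intro t
    obtain ⟨W, hηW, s, hs⟩ := X.presheaf.germ_exist (x := genericPoint X) t
    let U : Y.Opens := ⟨(f '' ((W : Set X)ᶜ))ᶜ,
      (f.isClosedMap _ W.isOpen.isClosed_compl).isOpen_compl⟩
    have hηU : genericPoint Y ∈ U := by
      rintro ⟨x', hx'W, hfx'⟩
      have hx' : f x' = f (genericPoint X) := hfx'.trans heq.symm
      have := fibre_generic k f gY (genericPoint X) hclX hclY hdim x' hx'
      rw [this] at hx'W
      exact hx'W hηW
    have hle : f ⁻¹ᵁ U ≤ W := by
      intro x hxU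
      by_contra hxW
      exact hxU ⟨x, hxW, rfl⟩
    have hb : Function.Bijective (f.app U) :=
      ConcreteCategory.bijective_of_isIso (f.app U)
    obtain ⟨a, ha⟩ := hb.2 (X.presheaf.map (homOfLE hle).op s)
    refine ⟨Y.presheaf.germ U (genericPoint Y) hηU a, ?_⟩
    rw [Groth.Agent.Lead.PropNormA.stalkToFunctionField_germ f h U hηU a, ha, ← hs]
    exact X.presheaf.germ_res_apply (homOfLE hle) (genericPoint X) _ s
  · intro hbij
    exact Groth.Agent.Lead.PropNormA.s2422 hY f h (fun x _ => hbij.2 x)

end Groth.Agent.Helper3.FibBir
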