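import Mathlib

open AlgebraicGeometry CategoryTheory CategoryTheory.Limits TopologicalSpace Opposite

universe u

namespace Groth.Agent.Helper3.QFResFin

theorem finite_residueField_of_quasiFinite {A B : Type*} [CommRing A] [CommRing B] [IsLocalRing A]
    [IsLocalRing B] [Algebra A B] [IsLocalHom (algebraMap A B)] [Algebra.QuasiFinite A B] :
    Module.Finite (IsLocalRing.ResidueField A) (IsLocalRing.ResidueField B) := by
  haveI : Algebra.QuasiFinite A (IsLocalRing.ResidueField B) :=
    Algebra.QuasiFinite.of_surjective_algHom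
      (IsScalarTower.toAlgHom A B (IsLocalRing.ResidueField B)) IsLocalRing.residue_surjective
  haveI : Algebra.QuasiFinite (IsLocalRing.ResidueField A) (IsLocalRing.ResidueField B) :=
    .of_restrictScalars A _ _
  exact Module.Finite.of_quasiFinite

theorem finite_residueFieldMap {X Y : Scheme.{u}} (f : X ⟶ Y) (x : X) (hx : f.QuasiFiniteAt x) :
    letI := (f.residueFieldMap x).hom.toAlgebra
    Module.Finite (Y.residueField (f x)) (X.residueField x) := by
  algebraize [(f.stalkMap x).hom]
  haveI : Algebra.QuasiFinite (Y.presheaf.stalk (f x)) (X.presheaf.stalk x) := hx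
  haveI : IsLocalHom (algebraMap (Y.presheaf.stalk (f x)) (X.presheaf.stalk x)) :=
    inferInstanceAs (IsLocalHom (f.stalkMap x).hom)
  haveI := finite_residueField_of_quasiFinite (A := Y.presheaf.stalk (f x))
    (B := X.presheaf.stalk x)
  letI := (f.residueFieldMap x).hom.toAlgebra
  refine Module.Finite.of_equiv_equiv (A₁ := IsLocalRing.ResidueField (Y.presheaf.stalk (f x)))
    (B₁ := IsLocalRing.ResidueField (X.presheaf.stalk x)) (RingEquiv.refl _) (RingEquiv.refl _) ?_
  ext a
  obtain ⟨a, rfl⟩ := IsLocalRing.residue_surjective a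
  rfl


theorem finite_residue_of_isFinite {X U : Scheme.{u}} (h : X ⟶ U) (V : X.Opens)
    [IsFinite (V.ι ≫ h)] (v' : (V : Scheme.{u})) :
    letI := (h.residueFieldMap (V.ι v')).hom.toAlgebra
    Module.Finite (U.residueField (h (V.ι v'))) (X.residueField (V.ι v')) := by
  have hqf : (V.ι ≫ h).QuasiFiniteAt v' := Scheme.Hom.quasiFiniteAt _ v'
  have h1 := finite_residueFieldMap (V.ι ≫ h) v' hqf
  letI a1 : Algebra (U.residueField (h (V.ι v'))) (X.residueField (V.ι v')) :=
    (h.residueFieldMap (V.ι v')).hom.toAlgebra
  letI a2 : Algebra (X.residueField (V.ι v')) ((V : Scheme).residueField v') :=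
    (V.ι.residueFieldMap v').hom.toAlgebra
  letI a3 : Algebra (U.residueField (h (V.ι v'))) ((V : Scheme).residueField v') :=
    ((V.ι ≫ h).residueFieldMap v').hom.toAlgebra
  haveI : IsScalarTower (U.residueField (h (V.ι v'))) (X.residueField (V.ι v'))
      ((V : Scheme).residueField v') := by
    apply IsScalarTower.of_algebraMap_eq'
    have := Scheme.residueFieldMap_comp V.ι h v'
    exact congr($(this).hom)
  haveI : FiniteDimensional (U.residueField (h (V.ι v'))) ((V : Scheme).residueField v') := h1
  exact FiniteDimensional.left (U.residueField (h (V.ι v'))) (X.residueField (V.ι v'))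
    ((V : Scheme).residueField v')

end Groth.Agent.Helper3.QFResFin
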