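import Mathlib
import Groth.Agent.Helper9.SkyMod5
import Groth.Agent.Helper9.KInjAdj

set_option autoImplicit false
set_option linter.style.haveILetI false
set_option linter.unusedSectionVars false
set_option linter.unusedVariables false
set_option linter.style.haveILetI false
set_option linter.unusedSectionVars false
set_option linter.unusedVariables false

universe u
open CategoryTheory CategoryTheory.Limits AlgebraicGeometry TensorProduct

namespace Groth.Agent.Helper3.FlatPullEx

open Groth.Agent.Helper9.SkyMod4 Groth.Agent.Helper9.SkyMod5

/-- a morphism of modules which is a monomorphism on all stalks is a monomorphism -/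
theorem mono_of_stalks {X : Scheme.{u}} {M N : X.Modules} (φ : M ⟶ N)
    (h : ∀ x : X, Mono ((St x).map φ)) : Mono φ := by
  rw [Preadditive.mono_iff_isZero_kernel]
  apply isZero_of_stalks X
  intro x
  haveI := h x
  have e : (St x).obj (kernel φ) ≅ kernel ((St x).map φ) := PreservesKernel.iso (St x) φ
  exact IsZero.of_iso ((Preadditive.mono_iff_isZero_kernel _).mp (h x)) e

/-- the pullback of modules along a flat morphism preserves monomorphisms -/
theorem mono_pullback {X Y : Scheme.{u}} (f : X ⟶ Y) [Flat f] {M N : Y.Modules} (φ : M ⟶ N)
    [Mono φ] : Mono ((Scheme.Modules.pullback f).map φ) := by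
  apply mono_of_stalks
  intro x
  have hnat := (pullStalkIso x f).hom.naturality φ
  have hfl : (f.stalkMap x).hom.Flat := Flat.stalkMap f x
  haveI : PreservesFiniteLimits (ext x f) :=
    ModuleCat.preservesFiniteLimits_extendScalars_of_flat hfl
  haveI : Mono ((St (f.base x)).map φ) := inferInstance
  haveI : PreservesLimitsOfShape WalkingCospan (ext x f) := inferInstance
  haveI : (ext x f).PreservesMonomorphisms :=
    preservesMonomorphisms_of_preservesLimitsOfShape (ext x f)
  have hm2 : Mono ((St (f.base x) ⋙ ext x f).map φ) := by
    rw [Functor.comp_map]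
    exact (ext x f).map_mono _
  have hiso : IsIso ((pullStalkIso x f).hom.app M) := ((pullStalkIso x f).app M).isIso_hom
  have hm1 : Mono ((pullStalkIso x f).hom.app M) := @IsIso.mono_of_iso _ _ _ _ _ hiso
  have h3 : Mono ((pullStalkIso x f).hom.app M ≫ (St (f.base x) ⋙ ext x f).map φ) :=
    @mono_comp _ _ _ _ _ _ hm1 _ hm2
  rw [← hnat] at h3
  exact mono_of_mono ((Scheme.Modules.pullback f ⋙ St x).map φ) ((pullStalkIso x f).hom.app N)

/-- the pullback of modules along a flat morphism is exact -/
theorem preservesFiniteLimits_pullback {X Y : Scheme.{u}} (f : X ⟶ Y) [Flat f] :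
    PreservesFiniteLimits (Scheme.Modules.pullback f) := by
  haveI : (Scheme.Modules.pullback f).Additive :=
    (Scheme.Modules.pullbackPushforwardAdjunction f).left_adjoint_additive
  haveI : PreservesFiniteColimits (Scheme.Modules.pullback f) :=
    haveI : PreservesColimitsOfSize.{0, 0} (Scheme.Modules.pullback f) :=
      (Scheme.Modules.pullbackPushforwardAdjunction f).leftAdjoint_preservesColimits
    PreservesColimitsOfSize.preservesFiniteColimits _
  rw [Functor.preservesFiniteLimits_iff_forall_exact_map_and_mono]
  intro S hS
  have h1 := ((Scheme.Modules.pullback f).preservesFiniteColimits_iff_forall_exact_map_and_epi).1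
    inferInstance S hS
  haveI := hS.mono_f
  exact ⟨h1.1, mono_pullback f S.f⟩

/-- the direct image along a flat morphism preserves K-injective complexes -/
theorem main {X Y : Scheme.{u}} (f : X ⟶ Y) [Flat f]
    (I : CochainComplex X.Modules ℤ) (hI : I.IsKInjective) :
    CochainComplex.IsKInjective
      (((Scheme.Modules.pushforward f).mapHomologicalComplex (ComplexShape.up ℤ)).obj I) := by
  haveI := hI
  haveI : (Scheme.Modules.pullback f).Additive :=
    (Scheme.Modules.pullbackPushforwardAdjunction f).left_adjoint_additive
  haveI : (Scheme.Modules.pushforward f).Additive :=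
    (Scheme.Modules.pullbackPushforwardAdjunction f).right_adjoint_additive
  haveI : PreservesFiniteColimits (Scheme.Modules.pullback f) :=
    haveI : PreservesColimitsOfSize.{0, 0} (Scheme.Modules.pullback f) :=
      (Scheme.Modules.pullbackPushforwardAdjunction f).leftAdjoint_preservesColimits
    PreservesColimitsOfSize.preservesFiniteColimits _
  haveI := preservesFiniteLimits_pullback f
  exact Groth.Agent.Helper9.KInjAdj.isKInjective_map
    (Scheme.Modules.pullbackPushforwardAdjunction f) I

end Groth.Agent.Helper3.FlatPullEx
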