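import Mathlib
import Groth.Prelude.Def_CohB1
import Groth.Agent.Helper1.LA3
import Groth.Agent.Helper6.HProj

set_option autoImplicit false
set_option linter.style.haveILetI false
set_option linter.unusedSectionVars false
set_option linter.unusedVariables false
set_option linter.deprecated false
set_option linter.style.haveILetI false
set_option linter.unusedSectionVars false
set_option linter.unusedVariables false

universe u

open CategoryTheory CategoryTheory.Limits AlgebraicGeometry HomogeneousLocalization

namespace Groth.Agent.Helper3.ProjSmooth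

noncomputable section

/-- a retract of a finitely presented algebra is finitely presented -/
theorem finitePresentation_of_retract {R P A : Type*} [CommRing R] [CommRing P] [CommRing A]
    [Algebra R P] [Algebra R A] [Algebra.FinitePresentation R P]
    (ρ : P →ₐ[R] A) (s : A →ₐ[R] P) (h : ∀ a, ρ (s a) = a) :
    Algebra.FinitePresentation R A := by
  have hsurj : Function.Surjective ρ := fun a => ⟨s a, h a⟩
  refine Algebra.FinitePresentation.of_surjective (f := ρ) hsurj ?_
  obtain ⟨S, hS⟩ := (Algebra.FiniteType.out : (⊤ : Subalgebra R P).FG)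
  let e : P →ₐ[R] P := s.comp ρ
  let J : Ideal P := Ideal.span ((fun x => x - e x) '' (S : Set P))
  have hJ : ∀ y : P, y - e y ∈ J := by
    intro y
    have hy : y ∈ Algebra.adjoin R (S : Set P) := by rw [hS]; trivial
    induction hy using Algebra.adjoin_induction with
    | mem x hx => exact Ideal.subset_span ⟨x, hx, rfl⟩
    | algebraMap r => simp
    | add x y _ _ hx hy =>
      have : x + y - e (x + y) = (x - e x) + (y - e y) := by rw [map_add]; ring
      rw [this]; exact J.add_mem hx hy
    | mul x y _ _ hx hy =>
      have : x * y - e (x * y) = (x - e x) * y + e x * (y - e y) := by rw [map_mul]; ring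
      rw [this]; exact J.add_mem (J.mul_mem_right _ hx) (J.mul_mem_left _ hy)
  have hker : RingHom.ker ρ.toRingHom = J := by
    apply le_antisymm
    · intro y hy
      have hy' : ρ y = 0 := hy
      have := hJ y
      have he : e y = 0 := by show s (ρ y) = 0; rw [hy', map_zero]
      rwa [he, sub_zero] at this
    · rw [Ideal.span_le]
      rintro _ ⟨x, -, rfl⟩
      show ρ (x - e x) = 0
      rw [map_sub]
      show ρ x - ρ (s (ρ x)) = 0
      rw [h, sub_self]
  rw [hker]
  exact Submodule.fg_span (Set.Finite.image _ S.finite_toSet)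

/-- a retract of a formally smooth algebra is formally smooth -/
theorem formallySmooth_of_retract {R P A : Type*} [CommRing R] [CommRing P] [CommRing A]
    [Algebra R P] [Algebra R A] [Algebra.FormallySmooth R P]
    (ρ : P →ₐ[R] A) (s : A →ₐ[R] P) (h : ∀ a, ρ (s a) = a) :
    Algebra.FormallySmooth R A := by
  refine Algebra.FormallySmooth.of_split ρ
    ((Ideal.Quotient.mkₐ R (RingHom.ker ρ.toRingHom ^ 2)).comp s) ?_
  ext a
  simp only [AlgHom.comp_apply, AlgHom.id_apply]
  exact h a

variable (n : ℕ) (R : Type u) [CommRing R]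

theorem X_mem (i : Fin (n + 1)) :
    (MvPolynomial.X i : MvPolynomial (Fin (n + 1)) R) ∈ CohB1.polyGrading n R 1 :=
  MvPolynomial.isHomogeneous_X R i

/-- the structure map `R → (R[x]_{x_i})_0` -/
def strHom (i : Fin (n + 1)) :
    R →+* Away (CohB1.polyGrading n R) (MvPolynomial.X i : MvPolynomial (Fin (n + 1)) R) :=
  (fromZeroRingHom (CohB1.polyGrading n R) _).comp (algebraMap R (CohB1.polyGrading n R 0))

/-- the retraction `R[x]_{x_i} → (R[x]_{x_i})_0` -/
def rho (i : Fin (n + 1)) :
    Localization.Away (MvPolynomial.X i : MvPolynomial (Fin (n + 1)) R) →+*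
      Away (CohB1.polyGrading n R) (MvPolynomial.X i : MvPolynomial (Fin (n + 1)) R) :=
  (AddMonoidAlgebra.lift _ _ ℤ (1 : Multiplicative ℤ →* _)).toRingHom.comp
    (Groth.Agent.Helper1.LA.Phi (X_mem n R i))

theorem rho_val (i : Fin (n + 1))
    (c : Away (CohB1.polyGrading n R) (MvPolynomial.X i : MvPolynomial (Fin (n + 1)) R)) :
    rho n R i c.val = c := by
  unfold rho
  simp only [RingHom.comp_apply]
  rw [Groth.Agent.Helper1.LA.Phi_val]
  show (AddMonoidAlgebra.lift _ _ ℤ (1 : Multiplicative ℤ →* _)) (AddMonoidAlgebra.single (0 : ℤ) c) = c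
  rw [AddMonoidAlgebra.lift_single]
  simp

theorem val_strHom (i : Fin (n + 1)) (r : R) :
    (strHom n R i r).val = algebraMap R (Localization.Away
      (MvPolynomial.X i : MvPolynomial (Fin (n + 1)) R)) r := by
  unfold strHom
  rw [RingHom.comp_apply]
  show (HomogeneousLocalization.mk (𝒜 := CohB1.polyGrading n R)
      ⟨0, algebraMap R (CohB1.polyGrading n R 0) r, 1, one_mem _⟩).val = _
  rw [HomogeneousLocalization.val_mk]
  show Localization.mk (algebraMap R (MvPolynomial (Fin (n + 1)) R) r) 1 = _
  rw [Localization.mk_one_eq_algebraMap, ← IsScalarTower.algebraMap_apply]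

theorem smooth_strHom (i : Fin (n + 1)) : (strHom n R i).Smooth := by
  letI : Algebra R (Away (CohB1.polyGrading n R)
      (MvPolynomial.X i : MvPolynomial (Fin (n + 1)) R)) := (strHom n R i).toAlgebra
  show Algebra.Smooth R _
  let P := Localization.Away (MvPolynomial.X i : MvPolynomial (Fin (n + 1)) R)
  let s : Away (CohB1.polyGrading n R) (MvPolynomial.X i : MvPolynomial (Fin (n + 1)) R) →ₐ[R] P :=
    { (algebraMap (Away (CohB1.polyGrading n R)
        (MvPolynomial.X i : MvPolynomial (Fin (n + 1)) R)) P) with
      commutes' := fun r => val_strHom n R i r }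
  let ρ : P →ₐ[R] Away (CohB1.polyGrading n R)
      (MvPolynomial.X i : MvPolynomial (Fin (n + 1)) R) :=
    { rho n R i with
      commutes' := fun r => by
        show rho n R i (algebraMap R P r) = strHom n R i r
        rw [← val_strHom, rho_val] }
  have h : ∀ a, ρ (s a) = a := fun a => rho_val n R i a
  haveI : Algebra.FormallySmooth R P :=
    Algebra.FormallySmooth.comp R (MvPolynomial (Fin (n + 1)) R) P
  haveI : Algebra.FinitePresentation (MvPolynomial (Fin (n + 1)) R) P :=
    IsLocalization.Away.finitePresentation (MvPolynomial.X i)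
  haveI : Algebra.FinitePresentation R P :=
    Algebra.FinitePresentation.trans R (MvPolynomial (Fin (n + 1)) R) P
  exact ⟨formallySmooth_of_retract ρ s h, finitePresentation_of_retract ρ s h⟩

theorem irrelevant_le_span :
    (HomogeneousIdeal.irrelevant (CohB1.polyGrading n R)).toIdeal ≤
      Ideal.span (Set.range (fun i : Fin (n + 1) =>
        (MvPolynomial.X i : MvPolynomial (Fin (n + 1)) R))) := by
  rw [HomogeneousIdeal.toIdeal_irrelevant_le]
  intro d hd p hp
  have hp' : p.IsHomogeneous d := hp
  show p ∈ Ideal.span _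
  rw [← Set.image_univ, MvPolynomial.mem_ideal_span_X_image]
  intro m hm
  have hdeg : (Finsupp.weight 1) m = d := hp' (MvPolynomial.mem_support_iff.mp hm)
  by_contra hcon
  push Not at hcon
  have hm0 : m = 0 := by
    ext j
    simpa using hcon j (Set.mem_univ j)
  rw [hm0] at hdeg
  simp at hdeg
  omega

/-- projective space over a ring is smooth over the base -/
theorem smooth_toSpec : Smooth (CohB1.ProjSpace.toSpec n R) := by
  let 𝒰 : (Proj (CohB1.polyGrading n R)).AffineOpenCover :=
    Proj.affineOpenCoverOfIrrelevantLESpan (CohB1.polyGrading n R)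
      (fun i : Fin (n + 1) => (MvPolynomial.X i : MvPolynomial (Fin (n + 1)) R))
      (m := fun _ => 1) (X_mem n R) (fun _ => one_pos) (irrelevant_le_span n R)
  show Smooth (X := Proj (CohB1.polyGrading n R)) (CohB1.ProjSpace.toSpec n R)
  rw [IsZariskiLocalAtSource.iff_of_openCover (P := @Smooth) 𝒰.openCover]
  intro (i : Fin (n + 1))
  have h1 : 𝒰.openCover.f i ≫ CohB1.ProjSpace.toSpec n R =
      Spec.map (CommRingCat.ofHom (strHom n R i)) := by
    show Proj.awayι (CohB1.polyGrading n R) _ (X_mem n R i) one_pos ≫
      (Proj.toSpecZero (CohB1.polyGrading n R) ≫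
        Spec.map (CommRingCat.ofHom (algebraMap R (CohB1.polyGrading n R 0)))) = _
    rw [Proj.awayι_toSpecZero_assoc, ← Spec.map_comp]
    rfl
  rw [h1]
  exact (HasRingHomProperty.Spec_iff (P := @Smooth)).mpr (smooth_strHom n R i)

/-- projective space over a scheme is smooth over the base -/
theorem smooth_toBase (S : Scheme.{u}) : Smooth (CohB1.ProjSpaceOver.toBase n S) :=
  MorphismProperty.pullback_snd _ _ (smooth_toSpec n (ULift.{u} ℤ))

end

end Groth.Agent.Helper3.ProjSmooth
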