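import Mathlib

set_option linter.style.haveILetI false
set_option linter.unusedSectionVars false
set_option linter.unusedVariables false

namespace Groth.Agent.Helper3.ProjBC1

open HomogeneousLocalization TensorProduct

universe u

section AwayAlg

variable {R A : Type u} [CommRing R] [CommRing A] [Algebra R A] (𝒜 : ℕ → Submodule R A)
  [GradedAlgebra 𝒜] (f : A)

/-- structure map `R → A_(f)` -/
noncomputable def awayAlgHom : R →+* Away 𝒜 f :=
  (fromZeroRingHom 𝒜 _).comp (algebraMap R (𝒜 0))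

theorem val_awayAlgHom (r : R) :
    (awayAlgHom 𝒜 f r).val = Localization.mk (algebraMap R A r) 1 := by
  change (fromZeroRingHom 𝒜 _ (algebraMap R (𝒜 0) r)).val = _
  simp only [fromZeroRingHom, RingHom.coe_mk, MonoidHom.coe_mk, OneHom.coe_mk, val_mk]
  rfl

theorem smul_eq_mk_mul (r : R) (y : Localization.Away f) :
    r • y = Localization.mk (algebraMap R A r) 1 * y := by
  induction y using Localization.induction_on with
  | H y =>
    rw [Localization.smul_mk, Localization.mk_mul, one_mul, Algebra.smul_def]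

/-- the `R`-algebra structure on `A_(f)` -/
noncomputable abbrev awayAlgebra : Algebra R (Away 𝒜 f) where
  algebraMap := awayAlgHom 𝒜 f
  commutes' r x := mul_comm _ _
  smul_def' r x := by
    apply val_injective
    rw [HomogeneousLocalization.val_smul, val_mul, val_awayAlgHom, smul_eq_mk_mul]

attribute [local instance] awayAlgebra

theorem val_algebraMap (r : R) :
    (algebraMap R (Away 𝒜 f) r).val = Localization.mk (algebraMap R A r) 1 :=
  val_awayAlgHom 𝒜 f r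

theorem val_smul' (r : R) (x : Away 𝒜 f) : (r • x).val = r • x.val :=
  HomogeneousLocalization.val_smul _ r x

/-- `x ↦ x / f ^ k` as a linear map. -/
noncomputable def mkL {d : ℕ} (hf : f ∈ 𝒜 d) (k : ℕ) : 𝒜 (k • d) →ₗ[R] Away 𝒜 f where
  toFun x := Away.mk 𝒜 hf k x.1 x.2
  map_add' x y := by
    apply val_injective
    simp only [Away.val_mk, val_add, Submodule.coe_add]
    rw [Localization.add_mk_self]
  map_smul' r x := by
    apply val_injective
    have h := Algebra.smul_def r (Away.mk 𝒜 hf k x.1 x.2)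
    rw [RingHom.id_apply, h, val_mul, val_algebraMap]
    simp only [Away.val_mk, Submodule.coe_smul]
    rw [Localization.mk_mul, one_mul, ← Algebra.smul_def r (x : A)]

theorem mkL_apply {d : ℕ} (hf : f ∈ 𝒜 d) (k : ℕ) (x : 𝒜 (k • d)) :
    mkL 𝒜 f hf k x = Away.mk 𝒜 hf k x.1 x.2 := rfl

/-- multiplication by `f ^ (k' - k)` between graded pieces -/
noncomputable def shift {d : ℕ} (hf : f ∈ 𝒜 d) {k k' : ℕ} (h : k ≤ k') :
    𝒜 (k • d) →ₗ[R] 𝒜 (k' • d) where
  toFun x := ⟨f ^ (k' - k) * x.1, by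
    have := SetLike.mul_mem_graded (SetLike.pow_mem_graded (k' - k) hf) x.2
    rwa [← add_smul, Nat.sub_add_cancel h] at this⟩
  map_add' x y := by
    apply Subtype.ext
    simp [mul_add]
  map_smul' r x := by
    apply Subtype.ext
    simp

theorem shift_coe {d : ℕ} (hf : f ∈ 𝒜 d) {k k' : ℕ} (h : k ≤ k') (x : 𝒜 (k • d)) :
    (shift 𝒜 f hf h x : A) = f ^ (k' - k) * x.1 := rfl

theorem mkL_shift {d : ℕ} (hf : f ∈ 𝒜 d) {k k' : ℕ} (h : k ≤ k') (x : 𝒜 (k • d)) :
    mkL 𝒜 f hf k' (shift 𝒜 f hf h x) = mkL 𝒜 f hf k x := by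
  apply val_injective
  simp only [mkL_apply, Away.val_mk, shift_coe]
  rw [Localization.mk_eq_mk_iff, Localization.r_iff_exists]
  refine ⟨1, ?_⟩
  simp only [OneMemClass.coe_one, one_mul]
  rw [← mul_assoc, ← pow_add, Nat.add_sub_cancel' h]

theorem mkL_comp_shift {d : ℕ} (hf : f ∈ 𝒜 d) {k k' : ℕ} (h : k ≤ k') :
    mkL 𝒜 f hf k' ∘ₗ shift 𝒜 f hf h = mkL 𝒜 f hf k :=
  LinearMap.ext (mkL_shift 𝒜 f hf h)

end AwayAlg

section Core

variable {R' R B A : Type u} [CommRing R'] [CommRing R] [Algebra R' R]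
  [CommRing B] [Algebra R' B] (ℬ : ℕ → Submodule R' B) [GradedAlgebra ℬ]
  [CommRing A] [Algebra R A] [Algebra R' A] [IsScalarTower R' R A] (𝒜 : ℕ → Submodule R A)
  [GradedAlgebra 𝒜] [Algebra B A] [IsScalarTower R' B A]
  (φ : ℬ →+*ᵍ 𝒜) (hφA : ∀ b : B, φ b = algebraMap B A b) {n : ℕ} (g : B) (hg : g ∈ ℬ n)

attribute [local instance] awayAlgebra

/-- the `R'`-algebra structure on `A_(φ g)` through `R`. -/
noncomputable abbrev awayAlgebra' : Algebra R' (Away 𝒜 (φ g)) :=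
  Algebra.compHom (Away 𝒜 (φ g)) (algebraMap R' R)

attribute [local instance] awayAlgebra'

instance towerAway : IsScalarTower R' R (Away 𝒜 (φ g)) :=
  ⟨fun r' r x => by
    rw [Algebra.smul_def r' r]
    exact mul_smul (algebraMap R' R r') r x⟩

include hφA in
theorem map_algebraMap (r' : R') :
    Away.map φ g (algebraMap R' (Away ℬ g) r') = algebraMap R' (Away 𝒜 (φ g)) r' := by
  apply val_injective
  have h2 : (algebraMap R' (Away 𝒜 (φ g)) r') =
      algebraMap R (Away 𝒜 (φ g)) (algebraMap R' R r') := rfl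
  rw [h2, val_algebraMap]
  change (Away.map φ g (fromZeroRingHom ℬ _ (algebraMap R' (ℬ 0) r'))).val = _
  simp only [fromZeroRingHom, RingHom.coe_mk, MonoidHom.coe_mk, OneHom.coe_mk, Away.map,
    HomogeneousLocalization.map_mk, val_mk]
  rw [Localization.mk_eq_mk_iff, Localization.r_iff_exists]
  refine ⟨1, ?_⟩
  simp only [OneMemClass.coe_one, one_mul]
  change φ (algebraMap R' B r') = φ 1 * _
  rw [map_one, one_mul]
  rw [hφA, ← IsScalarTower.algebraMap_apply,
    ← IsScalarTower.algebraMap_apply]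

/-- `Away.map φ g` as an `R'`-linear map. -/
noncomputable def f₀ : Away ℬ g →ₗ[R'] Away 𝒜 (φ g) where
  toFun := Away.map φ g
  map_add' := map_add _
  map_smul' r' x := by
    rw [RingHom.id_apply, Algebra.smul_def r' x, map_mul, map_algebraMap ℬ 𝒜 φ hφA g,
      ← Algebra.smul_def]


theorem f₀_apply (x : Away ℬ g) : f₀ ℬ 𝒜 φ hφA g x = Away.map φ g x := rfl

/-- the comparison map `R ⊗ B_(g) → A_(φ g)` -/
noncomputable def Θ : R ⊗[R'] Away ℬ g →ₗ[R] Away 𝒜 (φ g) :=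
  LinearMap.liftBaseChange R (f₀ ℬ 𝒜 φ hφA g)

theorem Θ_tmul (r : R) (x : Away ℬ g) : Θ ℬ 𝒜 φ hφA g (r ⊗ₜ x) = r • Away.map φ g x := by
  simp [Θ, f₀_apply]

/-- the projection `B → ℬ m` -/
noncomputable def π (m : ℕ) : B →ₗ[R'] ℬ m :=
  (DirectSum.component R' ℕ (fun i => ℬ i) m).comp (DirectSum.decomposeLinearEquiv ℬ).toLinearMap

theorem π_apply (m : ℕ) (b : B) : π ℬ m b = DirectSum.decompose ℬ b m := rfl

theorem π_comp_subtype (m : ℕ) : π ℬ m ∘ₗ (ℬ m).subtype = LinearMap.id := by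
  ext x
  simp [π_apply]

/-- `R ⊗ ℬ m → A` -/
noncomputable def ψ (m : ℕ) : R ⊗[R'] ℬ m →ₗ[R] A :=
  LinearMap.liftBaseChange R ((IsScalarTower.toAlgHom R' B A).toLinearMap ∘ₗ (ℬ m).subtype)

include hφA in
theorem ψ_tmul (m : ℕ) (r : R) (b : ℬ m) : ψ (A := A) ℬ m (r ⊗ₜ b) = r • φ b := by
  simp [ψ, hφA]



include hφA in
theorem val_Θ_mkL (k : ℕ) (w : R ⊗[R'] ℬ (k • n)) :
    (Θ ℬ 𝒜 φ hφA g (LinearMap.baseChange R (mkL ℬ g hg k) w)).val =
      Localization.mk (ψ (A := A) ℬ (k • n) w) ⟨(φ g) ^ k, pow_mem (Submonoid.mem_powers _) k⟩ := by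
  induction w using TensorProduct.induction_on with
  | zero => simp [Localization.mk_zero]
  | tmul r b =>
    rw [LinearMap.baseChange_tmul, Θ_tmul, val_smul', mkL_apply, Away.map_mk, Away.val_mk,
      ψ_tmul ℬ 𝒜 φ hφA, Localization.smul_mk]
  | add x y hx hy =>
    rw [map_add, map_add, val_add, hx, hy, map_add, Localization.add_mk_self]

include hφA in
theorem pow_mul_ψ {k k' : ℕ} (h : k ≤ k') (w : R ⊗[R'] ℬ (k • n)) :
    (φ g) ^ (k' - k) * ψ (A := A) ℬ (k • n) w =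
      ψ (A := A) ℬ (k' • n) (LinearMap.baseChange R (shift ℬ g hg h) w) := by
  induction w using TensorProduct.induction_on with
  | zero => simp
  | tmul r b =>
    rw [LinearMap.baseChange_tmul, ψ_tmul ℬ 𝒜 φ hφA, ψ_tmul ℬ 𝒜 φ hφA, shift_coe, map_mul,
      map_pow, mul_smul_comm]
  | add x y hx hy => rw [map_add, mul_add, hx, hy, map_add, map_add]

theorem exists_rep (z : R ⊗[R'] Away ℬ g) :
    ∃ k, ∃ w : R ⊗[R'] ℬ (k • n), LinearMap.baseChange R (mkL ℬ g hg k) w = z := by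
  induction z using TensorProduct.induction_on with
  | zero => exact ⟨0, 0, map_zero _⟩
  | tmul r x =>
    obtain ⟨k, b, hb, rfl⟩ := Away.mk_surjective ℬ hg x
    exact ⟨k, r ⊗ₜ ⟨b, hb⟩, by rw [LinearMap.baseChange_tmul]; rfl⟩
  | add x y hx hy =>
    obtain ⟨k₁, w₁, rfl⟩ := hx
    obtain ⟨k₂, w₂, rfl⟩ := hy
    refine ⟨max k₁ k₂, LinearMap.baseChange R (shift ℬ g hg (le_max_left k₁ k₂)) w₁ +
      LinearMap.baseChange R (shift ℬ g hg (le_max_right k₁ k₂)) w₂, ?_⟩
    rw [map_add, ← LinearMap.comp_apply, ← LinearMap.comp_apply, ← LinearMap.baseChange_comp,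
      ← LinearMap.baseChange_comp, mkL_comp_shift, mkL_comp_shift]

section Pushout

variable [hP : Algebra.IsPushout R' R B A]

include hP in
theorem ψ_eq (m : ℕ) (w : R ⊗[R'] ℬ m) :
    ψ (A := A) ℬ m w = hP.out.equiv (LinearMap.baseChange R (ℬ m).subtype w) := by
  induction w using TensorProduct.induction_on with
  | zero => simp
  | tmul r b =>
    rw [LinearMap.baseChange_tmul, IsBaseChange.equiv_tmul]
    simp [ψ]
  | add x y hx hy => rw [map_add, map_add, map_add, hx, hy]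

include hP in
theorem ψ_injective (m : ℕ) : Function.Injective (ψ (R := R) (A := A) ℬ m) := by
  intro w₁ w₂ hw
  rw [ψ_eq, ψ_eq] at hw
  have h1 := hP.out.equiv.injective hw
  have h2 : ∀ w : R ⊗[R'] ℬ m,
      LinearMap.baseChange R (π ℬ m) (LinearMap.baseChange R (ℬ m).subtype w) = w := by
    intro w
    rw [← LinearMap.comp_apply, ← LinearMap.baseChange_comp, π_comp_subtype,
      LinearMap.baseChange_id, LinearMap.id_apply]
  rw [← h2 w₁, ← h2 w₂, h1]

include hφA hP in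
theorem ψ_baseChange_π (m : ℕ) (t : R ⊗[R'] B) :
    ψ (A := A) ℬ m (LinearMap.baseChange R (π ℬ m) t) =
      GradedAlgebra.proj 𝒜 m (hP.out.equiv t) := by
  induction t using TensorProduct.induction_on with
  | zero => simp
  | tmul r b =>
    rw [LinearMap.baseChange_tmul, IsBaseChange.equiv_tmul, ψ_tmul ℬ 𝒜 φ hφA, map_smul,
      GradedAlgebra.proj_apply, π_apply, GradedRingHom.map_directSumDecompose]
    simp [hφA]
  | add x y hx hy => rw [map_add, map_add, map_add, map_add, hx, hy]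

include hφA hP in
theorem exists_ψ_eq (m : ℕ) (α : A) (hα : α ∈ 𝒜 m) : ∃ w, ψ (R := R) (A := A) ℬ m w = α := by
  refine ⟨LinearMap.baseChange R (π ℬ m) (hP.out.equiv.symm α), ?_⟩
  rw [ψ_baseChange_π ℬ 𝒜 φ hφA, LinearEquiv.apply_symm_apply, GradedAlgebra.proj_apply,
    DirectSum.decompose_of_mem_same _ hα]


include hP hg in
theorem Θ_injective : Function.Injective (Θ ℬ 𝒜 φ hφA g) := by
  rw [injective_iff_map_eq_zero]
  intro z hz
  obtain ⟨k, w, rfl⟩ := exists_rep (R := R) ℬ g hg z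
  have h1 := val_Θ_mkL ℬ 𝒜 φ hφA g hg k w
  rw [hz, val_zero] at h1
  have h2 : ∃ N, (φ g) ^ N * ψ (A := A) ℬ (k • n) w = 0 := by
    rw [eq_comm, Localization.mk_eq_mk', IsLocalization.mk'_eq_zero_iff] at h1
    obtain ⟨⟨_, N, rfl⟩, hN⟩ := h1
    exact ⟨N, hN⟩
  obtain ⟨N, hN⟩ := h2
  have h3 : k ≤ k + N := Nat.le_add_right _ _
  have h4 := pow_mul_ψ ℬ 𝒜 φ hφA g hg h3 w
  rw [Nat.add_sub_cancel_left, hN] at h4
  have h5 := ψ_injective (R := R) (A := A) ℬ ((k + N) • n) (h4.symm.trans (map_zero _).symm)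
  rw [← mkL_comp_shift ℬ g hg h3, LinearMap.baseChange_comp, LinearMap.comp_apply, h5, map_zero]

include hP hg in
theorem Θ_surjective : Function.Surjective (Θ ℬ 𝒜 φ hφA g) := by
  intro y
  obtain ⟨k, α, hα, rfl⟩ := Away.mk_surjective 𝒜 (GradedFunLike.map_mem φ hg) y
  obtain ⟨w, hw⟩ := exists_ψ_eq (R := R) ℬ 𝒜 φ hφA (k • n) α hα
  refine ⟨LinearMap.baseChange R (mkL ℬ g hg k) w, ?_⟩
  apply val_injective
  rw [val_Θ_mkL ℬ 𝒜 φ hφA g hg, hw, Away.val_mk]

include hP hg in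
theorem isBaseChange_f₀ : IsBaseChange R (f₀ ℬ 𝒜 φ hφA g) := by
  refine IsBaseChange.of_equiv (LinearEquiv.ofBijective (Θ ℬ 𝒜 φ hφA g)
    ⟨Θ_injective ℬ 𝒜 φ hφA g hg, Θ_surjective ℬ 𝒜 φ hφA g hg⟩) (fun x => ?_)
  rw [LinearEquiv.ofBijective_apply, Θ_tmul, one_smul, f₀_apply]


open CategoryTheory AlgebraicGeometry in
include hφA hP hg in
theorem isPushout_commRingCat :
    IsPushout (CommRingCat.ofHom (algebraMap R' R)) (CommRingCat.ofHom (awayAlgHom ℬ g))
      (CommRingCat.ofHom (awayAlgHom 𝒜 (φ g))) (CommRingCat.ofHom (Away.map φ g)) := by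
  letI : Algebra (Away ℬ g) (Away 𝒜 (φ g)) := (Away.map φ g).toAlgebra
  haveI : IsScalarTower R' (Away ℬ g) (Away 𝒜 (φ g)) :=
    IsScalarTower.of_algebraMap_eq (fun r' => (map_algebraMap ℬ 𝒜 φ hφA g r').symm)
  haveI : Algebra.IsPushout R' R (Away ℬ g) (Away 𝒜 (φ g)) :=
    ⟨isBaseChange_f₀ ℬ 𝒜 φ hφA g hg⟩
  exact CommRingCat.isPushout_iff_isPushout.mpr this

open CategoryTheory AlgebraicGeometry in
include hφA hP hg in
theorem isPullback_Spec :
    IsPullback (Spec.map (CommRingCat.ofHom (Away.map φ g)))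
      (Spec.map (CommRingCat.ofHom (awayAlgHom 𝒜 (φ g))))
      (Spec.map (CommRingCat.ofHom (awayAlgHom ℬ g)))
      (Spec.map (CommRingCat.ofHom (algebraMap R' R))) :=
  (isPushout_commRingCat ℬ 𝒜 φ hφA g hg).op.map Scheme.Spec

end Pushout

end Core




open CategoryTheory AlgebraicGeometry Limits in
theorem main {R R' A B : Type u} [CommRing R'] [CommRing R] [Algebra R' R]
    [CommRing B] [Algebra R' B] (ℬ : ℕ → Submodule R' B) [GradedAlgebra ℬ]
    [CommRing A] [Algebra R A] [Algebra R' A] [IsScalarTower R' R A] (𝒜 : ℕ → Submodule R A)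
    [GradedAlgebra 𝒜]
    [Algebra B A] [IsScalarTower R' B A] [Algebra.IsPushout R' R B A]
    (φ : ℬ →+*ᵍ 𝒜) (hφA : ∀ b : B, φ b = algebraMap B A b)
    (hφ : HomogeneousIdeal.irrelevant 𝒜 ≤ (HomogeneousIdeal.irrelevant ℬ).map φ) :
    IsPullback (Proj.map φ hφ)
      (Proj.toSpecZero 𝒜 ≫ Spec.map (CommRingCat.ofHom (algebraMap R (𝒜 0))))
      (Proj.toSpecZero ℬ ≫ Spec.map (CommRingCat.ofHom (algebraMap R' (ℬ 0))))
      (Spec.map (CommRingCat.ofHom (algebraMap R' R))) := by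
  apply Scheme.isPullback_of_openCover _ _ _ _ (Proj.affineOpenCover ℬ).openCover
  rintro ⟨⟨n, hn⟩, ⟨g, hg⟩⟩
  have h1 : IsPullback (Proj.awayι 𝒜 (φ g) (GradedFunLike.map_mem φ hg) hn)
      (Spec.map (CommRingCat.ofHom (Away.map φ g))) (Proj.map φ hφ) (Proj.awayι ℬ g hg hn) :=
    (IsOpenImmersion.isPullback _ _ _ _ (Proj.awayι_comp_map φ hφ hn g hg) (by
      rw [Proj.opensRange_awayι, Proj.opensRange_awayι, Proj.map_preimage_basicOpen])).flip
  have h2 := isPullback_Spec ℬ 𝒜 φ hφA g hg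
  refine h2.of_iso h1.isoPullback (Iso.refl _) (Iso.refl _) (Iso.refl _) ?_ ?_ ?_ ?_
  · refine (Category.comp_id _).trans ?_
    exact (h1.isoPullback_hom_snd).symm
  · refine (Category.comp_id _).trans ?_
    change _ = h1.isoPullback.hom ≫ pullback.fst (Proj.map φ hφ) (Proj.awayι ℬ g hg hn) ≫ _
    rw [h1.isoPullback_hom_fst_assoc, Proj.awayι_toSpecZero_assoc, ← Spec.map_comp]
    rfl
  · refine (Category.comp_id _).trans ?_
    refine Eq.trans ?_ (Category.id_comp _).symm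
    change _ = Proj.awayι ℬ g hg hn ≫ _
    rw [Proj.awayι_toSpecZero_assoc, ← Spec.map_comp]
    rfl
  · simp

end Groth.Agent.Helper3.ProjBC1
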