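import Mathlib
import Groth.Agent.Lead.InvDualA
import Groth.Agent.Lead.IdealModDict
import Groth.Agent.Helper4.PullTensor
import Groth.Prelude.Def_Omega2

set_option autoImplicit false
set_option linter.style.haveILetI false
set_option linter.unusedSectionVars false
set_option linter.unusedVariables false
set_option linter.deprecated false
set_option linter.style.haveILetI false
set_option linter.unusedSectionVars false
set_option linter.unusedVariables false

universe u

open AlgebraicGeometry CategoryTheory CategoryTheory.Limits TopologicalSpace Opposite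

namespace Groth.Agent.Helper3.NormalSheaf

variable {X : Scheme.{u}}

/-- tensor inverses are unique up to isomorphism -/
noncomputable def inverseUnique {L N N' : X.Modules}
    (e : CohB1.tensorMod N L ≅ Coh.structureModule X)
    (e' : CohB1.tensorMod N' L ≅ Coh.structureModule X) : N ≅ N' :=
  (SecTwist.unitorR N).symm ≪≫
    PicGrp.tensorModIso (Iso.refl N) (e'.symm ≪≫ Groth.Agent.Lead.Ref1B.braid N' L) ≪≫
    (Groth.Agent.Lead.Ref1B.assoc N L N').symm ≪≫
    PicGrp.tensorModIso e (Iso.refl N') ≪≫ Groth.Agent.Lead.Ref1B.unitorL N'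

theorem main (S : Scheme.{u}) (𝓓 : S.IdealSheafData) (hD : BlowUp.IsEffCartierIdeal 𝓓) :
    Nonempty (RefHull.dual (Omega.conormal 𝓓.subschemeι) ≅
      (Scheme.Modules.pullback 𝓓.subschemeι).obj (RefHull.dual (ClSub.idealMod 𝓓))) := by
  have hJ := Groth.Agent.Lead.IdealModDict.isInvertible_of_isEffCartierIdeal 𝓓 hD
  have hcon : Omega.conormal 𝓓.subschemeι =
      (Scheme.Modules.pullback 𝓓.subschemeι).obj (ClSub.idealMod 𝓓) := by
    unfold Omega.conormal
    rw [Scheme.IdealSheafData.ker_subschemeι]
  rw [hcon]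
  have hJ' := Groth.Agent.Helper4.PullSec.isInvertible_pullback 𝓓.subschemeι hJ
  let e1 := Groth.Agent.Lead.InvDual.evIso _ hJ'
  let e2 : CohB1.tensorMod ((Scheme.Modules.pullback 𝓓.subschemeι).obj (RefHull.dual (ClSub.idealMod 𝓓)))
      ((Scheme.Modules.pullback 𝓓.subschemeι).obj (ClSub.idealMod 𝓓)) ≅
        Coh.structureModule 𝓓.subscheme :=
    (Groth.Agent.Helper4.PullTensor.pullTensorIso 𝓓.subschemeι
      (Groth.Agent.Lead.InvDual.isInvertible_dual _ hJ) hJ).symm ≪≫
      (Scheme.Modules.pullback 𝓓.subschemeι).mapIso (Groth.Agent.Lead.InvDual.evIso _ hJ) ≪≫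
      Groth.Agent.Helper4.PullUnit.pullbackUnitIso 𝓓.subschemeι
  exact ⟨inverseUnique e1 e2⟩

end Groth.Agent.Helper3.NormalSheaf
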