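import Mathlib

set_option linter.style.haveILetI false
set_option linter.unusedSectionVars false
set_option linter.unusedVariables false

universe u

namespace Groth.Agent.Helper3.GradedQuot

open DirectSum

variable {R A : Type u} [CommRing R] [CommRing A] [Algebra R A] (𝒜 : ℕ → Submodule R A)
  [GradedAlgebra 𝒜] (I : Ideal A)

/-- The induced grading on the quotient by an ideal. -/
def quotGrading (n : ℕ) : Submodule R (A ⧸ I) :=
  (𝒜 n).map (Ideal.Quotient.mkₐ R I).toLinearMap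

theorem mem_quotGrading {n : ℕ} {b : A ⧸ I} :
    b ∈ quotGrading 𝒜 I n ↔ ∃ a ∈ 𝒜 n, Ideal.Quotient.mk I a = b := Iff.rfl

instance : SetLike.GradedMonoid (quotGrading 𝒜 I) where
  one_mem := ⟨1, SetLike.GradedOne.one_mem, map_one (Ideal.Quotient.mk I)⟩
  mul_mem := by
    rintro i j _ _ ⟨a, ha, rfl⟩ ⟨b, hb, rfl⟩
    exact ⟨a * b, SetLike.GradedMul.mul_mem ha hb, map_mul (Ideal.Quotient.mk I) _ _⟩

/-- component maps -/
def qmap (n : ℕ) : 𝒜 n →ₗ[R] quotGrading 𝒜 I n :=
  LinearMap.codRestrict (quotGrading 𝒜 I n)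
    ((Ideal.Quotient.mkₐ R I).toLinearMap.comp (𝒜 n).subtype) (fun a => ⟨a, a.2, rfl⟩)

@[simp] theorem qmap_coe (n : ℕ) (a : 𝒜 n) :
    ((qmap 𝒜 I n a : quotGrading 𝒜 I n) : A ⧸ I) = Ideal.Quotient.mk I (a : A) := rfl

/-- the map `A → ⨁ ℬ n` -/
noncomputable def D : A →ₗ[R] ⨁ n, quotGrading 𝒜 I n :=
  (DirectSum.lmap (qmap 𝒜 I)).comp (DirectSum.decomposeLinearEquiv 𝒜).toLinearMap

theorem coe_lmap (x : ⨁ n, 𝒜 n) :
    DirectSum.coeLinearMap (quotGrading 𝒜 I) (DirectSum.lmap (qmap 𝒜 I) x) =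
      Ideal.Quotient.mk I (DirectSum.coeLinearMap 𝒜 x) := by
  induction x using DirectSum.induction_on with
  | zero => simp
  | of i x =>
    rw [← DirectSum.lof_eq_of R, DirectSum.lmap_lof, DirectSum.coeLinearMap_lof,
      DirectSum.coeLinearMap_lof]
    rfl
  | add x y hx hy => rw [map_add, map_add, hx, hy, map_add, map_add]

variable {𝒜 I}

theorem D_eq_zero (hI : I.IsHomogeneous 𝒜) {a : A} (ha : a ∈ I) : D 𝒜 I a = 0 := by
  apply DFinsupp.ext
  intro n
  change (qmap 𝒜 I n) (DirectSum.decompose 𝒜 a n) = 0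
  apply Subtype.ext
  rw [qmap_coe]
  exact Ideal.Quotient.eq_zero_iff_mem.2 (hI n ha)

variable (𝒜 I)

/-- the decomposition map on the quotient -/
noncomputable def dec (b : A ⧸ I) : ⨁ n, quotGrading 𝒜 I n := D 𝒜 I (Quotient.out b)

theorem dec_mk (hI : I.IsHomogeneous 𝒜) (a : A) :
    dec 𝒜 I (Ideal.Quotient.mk I a) = D 𝒜 I a := by
  unfold dec
  have h : Quotient.out (Ideal.Quotient.mk I a) - a ∈ I := by
    rw [← Ideal.Quotient.eq]
    exact Ideal.Quotient.mk_out _
  have := D_eq_zero hI h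
  rwa [map_sub, sub_eq_zero] at this

/-- The decomposition of the quotient. -/
noncomputable def decomposition (hI : I.IsHomogeneous 𝒜) :
    DirectSum.Decomposition (quotGrading 𝒜 I) where
  decompose' := dec 𝒜 I
  left_inv := by
    intro b
    obtain ⟨a, rfl⟩ := Ideal.Quotient.mk_surjective b
    rw [dec_mk 𝒜 I hI]
    change DirectSum.coeLinearMap (quotGrading 𝒜 I)
      (DirectSum.lmap (qmap 𝒜 I) (DirectSum.decompose 𝒜 a)) = _
    rw [coe_lmap]
    congr 1
    exact DirectSum.Decomposition.left_inv a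
  right_inv := by
    intro y
    induction y using DirectSum.induction_on with
    | zero =>
      rw [map_zero]
      have := dec_mk 𝒜 I hI 0
      rw [map_zero, map_zero] at this
      exact this
    | of n x =>
      obtain ⟨_, a, ha, rfl⟩ := x
      rw [DirectSum.coeAddMonoidHom_of]
      change dec 𝒜 I (Ideal.Quotient.mk I a) = _
      rw [dec_mk 𝒜 I hI]
      change DirectSum.lmap (qmap 𝒜 I) (DirectSum.decompose 𝒜 a) = _
      rw [DirectSum.decompose_of_mem 𝒜 ha, ← DirectSum.lof_eq_of R, DirectSum.lmap_lof,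
        DirectSum.lof_eq_of]
      rfl
    | add x y hx hy =>
      obtain ⟨a, ha⟩ := Ideal.Quotient.mk_surjective (DirectSum.coeAddMonoidHom (quotGrading 𝒜 I) x)
      obtain ⟨b, hb⟩ := Ideal.Quotient.mk_surjective (DirectSum.coeAddMonoidHom (quotGrading 𝒜 I) y)
      rw [map_add, ← ha, ← hb, ← map_add, dec_mk 𝒜 I hI, map_add, ← dec_mk 𝒜 I hI a,
        ← dec_mk 𝒜 I hI b, ha, hb, hx, hy]

/-- The graded algebra structure on the quotient by a homogeneous ideal. -/
noncomputable def gradedAlgebra (hI : I.IsHomogeneous 𝒜) : GradedAlgebra (quotGrading 𝒜 I) :=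
  { (inferInstance : SetLike.GradedMonoid (quotGrading 𝒜 I)) with
    toDecomposition := decomposition 𝒜 I hI }

noncomputable instance instGradedAlgebra [h : Fact (I.IsHomogeneous 𝒜)] : GradedAlgebra (quotGrading 𝒜 I) :=
  gradedAlgebra 𝒜 I h.out

/-- The quotient map as a graded ring hom. -/
def quotHom : 𝒜 →+*ᵍ quotGrading 𝒜 I where
  toRingHom := Ideal.Quotient.mk I
  map_mem := fun ha => ⟨_, ha, rfl⟩

@[simp] theorem quotHom_apply (a : A) : quotHom 𝒜 I a = Ideal.Quotient.mk I a := rfl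

theorem quotHom_surjective : Function.Surjective (quotHom 𝒜 I) := Ideal.Quotient.mk_surjective

end Groth.Agent.Helper3.GradedQuot
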