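import Mathlib
import Groth.Agent.Helper3.GradedQuot

set_option linter.style.haveILetI false
set_option linter.unusedSectionVars false
set_option linter.unusedVariables false

universe u

namespace Groth.Agent.Helper3.ProjQuotCore

open DirectSum HomogeneousLocalization Groth.Agent.Helper3.GradedQuot

variable {R A : Type u} [CommRing R] [CommRing A] [Algebra R A] (𝒜 : ℕ → Submodule R A)
  [GradedAlgebra 𝒜] (s : Finset A) (hs1 : ∀ f ∈ s, f ∈ 𝒜 1)
  (Jf : ∀ f : A, Ideal (Away 𝒜 f))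

/-- `a / f ^ n` lies in `Jf f`. -/
def Goodg (f a : A) (n : ℕ) : Prop :=
  ∃ z ∈ Jf f, z.val = Localization.mk a (⟨f ^ n, n, rfl⟩ : Submonoid.powers f)

variable {𝒜 Jf}

theorem goodg_zero (f : A) (n : ℕ) : Goodg 𝒜 Jf f 0 n :=
  ⟨0, Ideal.zero_mem _, by rw [val_zero, Localization.mk_zero]⟩

theorem goodg_add {f a b : A} {n : ℕ} (ha : Goodg 𝒜 Jf f a n) (hb : Goodg 𝒜 Jf f b n) :
    Goodg 𝒜 Jf f (a + b) n := by
  obtain ⟨z, hz, hz'⟩ := ha
  obtain ⟨w, hw, hw'⟩ := hb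
  exact ⟨z + w, Ideal.add_mem _ hz hw, by rw [val_add, hz', hw', Localization.add_mk_self]⟩

theorem goodg_mul {f : A} (hf : f ∈ 𝒜 1) {c a : A} {i n : ℕ} (hc : c ∈ 𝒜 i)
    (ha : Goodg 𝒜 Jf f a n) : Goodg 𝒜 Jf f (c * a) (i + n) := by
  obtain ⟨z, hz, hz'⟩ := ha
  refine ⟨Away.mk 𝒜 hf i c (by simpa using hc) * z, Ideal.mul_mem_left _ _ hz, ?_⟩
  rw [val_mul, hz', Away.val_mk, Localization.mk_mul]
  congr 1
  exact Subtype.ext (pow_add f i n).symm

theorem goodg_cast {f a : A} {n m : ℕ} (h : n = m) (ha : Goodg 𝒜 Jf f a n) :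
    Goodg 𝒜 Jf f a m := h ▸ ha

variable (𝒜 Jf)

include hs1 in
/-- The homogeneous ideal cut out by the family `Jf`. -/
def idealI : Ideal A where
  carrier := {a | ∀ n, ∀ f ∈ s, Goodg 𝒜 Jf f (DirectSum.decompose 𝒜 a n : A) n}
  zero_mem' := by
    intro n f _
    rw [DirectSum.decompose_zero, DirectSum.zero_apply, ZeroMemClass.coe_zero]
    exact goodg_zero f n
  add_mem' := by
    intro a b ha hb n f hf
    rw [DirectSum.decompose_add, DirectSum.add_apply, AddMemClass.coe_add]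
    exact goodg_add (ha n f hf) (hb n f hf)
  smul_mem' := by
    intro c a ha
    rw [smul_eq_mul]
    induction c using DirectSum.Decomposition.inductionOn 𝒜 with
    | zero =>
      rw [zero_mul]
      intro n f _
      rw [DirectSum.decompose_zero, DirectSum.zero_apply, ZeroMemClass.coe_zero]
      exact goodg_zero f n
    | @homogeneous i c =>
      intro n f hf
      by_cases h : i ≤ n
      · rw [DirectSum.coe_decompose_mul_of_left_mem_of_le 𝒜 c.2 h]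
        exact goodg_cast (Nat.add_sub_cancel' h) (goodg_mul (hs1 f hf) c.2 (ha (n - i) f hf))
      · rw [DirectSum.coe_decompose_mul_of_left_mem_of_not_le 𝒜 c.2 h]
        exact goodg_zero f n
    | add c d hc hd =>
      intro n f hf
      rw [add_mul, DirectSum.decompose_add, DirectSum.add_apply, AddMemClass.coe_add]
      exact goodg_add (hc n f hf) (hd n f hf)

theorem mem_idealI {a : A} :
    a ∈ idealI 𝒜 s hs1 Jf ↔ ∀ n, ∀ f ∈ s, Goodg 𝒜 Jf f (DirectSum.decompose 𝒜 a n : A) n :=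
  Iff.rfl

theorem idealI_isHomogeneous : (idealI 𝒜 s hs1 Jf).IsHomogeneous 𝒜 := by
  intro n a ha
  rw [mem_idealI]
  intro m f hf
  by_cases h : n = m
  · subst h
    rw [DirectSum.decompose_of_mem_same 𝒜 (SetLike.coe_mem _)]
    exact ha n f hf
  · rw [DirectSum.decompose_of_mem_ne 𝒜 (SetLike.coe_mem _) h]
    exact goodg_zero f m

theorem goodg_of_mem {a : A} {n : ℕ} (han : a ∈ 𝒜 n) (ha : a ∈ idealI 𝒜 s hs1 Jf) :
    ∀ f ∈ s, Goodg 𝒜 Jf f a n := by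
  intro f hf
  have := ha n f hf
  rwa [DirectSum.decompose_of_mem_same 𝒜 han] at this

theorem mem_of_goodg {a : A} {n : ℕ} (han : a ∈ 𝒜 n) (ha : ∀ f ∈ s, Goodg 𝒜 Jf f a n) :
    a ∈ idealI 𝒜 s hs1 Jf := by
  rw [mem_idealI]
  intro m f hf
  by_cases h : n = m
  · subst h
    rw [DirectSum.decompose_of_mem_same 𝒜 han]
    exact ha f hf
  · rw [DirectSum.decompose_of_mem_ne 𝒜 han h]
    exact goodg_zero f m

instance factI : Fact ((idealI 𝒜 s hs1 Jf).IsHomogeneous 𝒜) := ⟨idealI_isHomogeneous 𝒜 s hs1 Jf⟩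

variable (hK : ∀ f ∈ s, ∀ g ∈ s, ∀ (k : ℕ) (a : A), a ∈ 𝒜 k → Goodg 𝒜 Jf f a k →
  ∃ m, Goodg 𝒜 Jf g (f ^ m * a) (m + k))

include hK in
theorem exists_pow_mul_mem {f : A} (hf : f ∈ s) {k : ℕ} {a : A} (ha : a ∈ 𝒜 k)
    (hg : Goodg 𝒜 Jf f a k) : ∃ m, f ^ m * a ∈ idealI 𝒜 s hs1 Jf := by
  classical
  choose! mg hmg using fun g (hg' : g ∈ s) => hK f hf g hg' k a ha hg
  refine ⟨∑ g ∈ s, mg g, ?_⟩
  have hfpow : ∀ n, f ^ n ∈ 𝒜 n := fun n => by
    simpa using SetLike.pow_mem_graded n (hs1 f hf)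
  apply mem_of_goodg 𝒜 s hs1 Jf (n := (∑ g ∈ s, mg g) + k)
    (SetLike.mul_mem_graded (hfpow _) ha)
  intro g hg'
  have hle : mg g ≤ ∑ g ∈ s, mg g := Finset.single_le_sum (fun _ _ => Nat.zero_le _) hg'
  have h1 := goodg_mul (hs1 g hg') (hfpow ((∑ g ∈ s, mg g) - mg g)) (hmg g hg')
  have e1 : f ^ ((∑ g ∈ s, mg g) - mg g) * (f ^ mg g * a) = f ^ (∑ g ∈ s, mg g) * a := by
    rw [← mul_assoc, ← pow_add, Nat.sub_add_cancel hle]
  rw [e1] at h1
  exact goodg_cast (by omega) h1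

include hK in
theorem ker_awayMap_eq {f : A} (hf : f ∈ s) :
    RingHom.ker (Away.map (quotHom 𝒜 (idealI 𝒜 s hs1 Jf)) f) = Jf f := by
  have hfpow : ∀ n, f ^ n ∈ 𝒜 n := fun n => by
    simpa using SetLike.pow_mem_graded n (hs1 f hf)
  ext z
  obtain ⟨k, a, ha, rfl⟩ := Away.mk_surjective 𝒜 (hs1 f hf) z
  have hak : a ∈ 𝒜 k := by simpa using ha
  rw [RingHom.mem_ker, Away.map_mk]
  have key : ∀ hh, Away.mk (quotGrading 𝒜 (idealI 𝒜 s hs1 Jf))
      ((quotHom 𝒜 (idealI 𝒜 s hs1 Jf)).map_mem (hs1 f hf)) k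
      (quotHom 𝒜 (idealI 𝒜 s hs1 Jf) a) hh = 0 ↔ ∃ m, f ^ m * a ∈ idealI 𝒜 s hs1 Jf := by
    intro hh
    rw [HomogeneousLocalization.ext_iff_val, Away.val_mk, val_zero, Localization.mk_eq_mk',
      IsLocalization.mk'_eq_zero_iff]
    constructor
    · rintro ⟨⟨_, m, rfl⟩, hm⟩
      refine ⟨m, ?_⟩
      rw [← Ideal.Quotient.eq_zero_iff_mem, map_mul, map_pow]
      exact hm
    · rintro ⟨m, hm⟩
      refine ⟨⟨_, m, rfl⟩, ?_⟩
      rw [← Ideal.Quotient.eq_zero_iff_mem, map_mul, map_pow] at hm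
      exact hm
  rw [key]
  constructor
  · rintro ⟨m, hm⟩
    obtain ⟨w, hw, hw'⟩ :=
      goodg_of_mem 𝒜 s hs1 Jf (SetLike.mul_mem_graded (hfpow m) hak) hm f hf
    have : w = Away.mk 𝒜 (hs1 f hf) k a ha := by
      rw [HomogeneousLocalization.ext_iff_val, hw', Away.val_mk, Localization.mk_eq_mk_iff,
        Localization.r_iff_exists]
      exact ⟨1, by simp only [OneMemClass.coe_one, one_mul, pow_add]; ring⟩
    rw [← this]; exact hw
  · intro hz
    exact exists_pow_mul_mem 𝒜 s hs1 Jf hK hf hak ⟨_, hz, Away.val_mk ..⟩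

end Groth.Agent.Helper3.ProjQuotCore
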