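import Mathlib
import Groth.Agent.Helper3.ProjQuotCore
import Groth.Agent.Helper8.ProjClosed

set_option linter.style.haveILetI false
set_option linter.unusedSectionVars false
set_option linter.unusedVariables false

universe u

namespace Groth.Agent.Helper3.ProjClosedSub

open CategoryTheory AlgebraicGeometry HomogeneousLocalization Groth.Agent.Helper3.GradedQuot
  Groth.Agent.Helper3.ProjQuotCore

variable {R A : Type u} [CommRing R] [CommRing A] [Algebra R A] (𝒜 : ℕ → Submodule R A)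
  [GradedAlgebra 𝒜]

theorem basicOpen_awayToSection_le {f g : A} (hf : f ∈ 𝒜 1) (hg : g ∈ 𝒜 1) :
    (Proj 𝒜).basicOpen ((Proj.awayToSection 𝒜 g).hom (Away.mk 𝒜 hg 1 f (by simpa using hf))) ≤
      Proj.basicOpen 𝒜 f := by
  intro p hp
  have hpg : p ∈ Proj.basicOpen 𝒜 g := (Proj 𝒜).basicOpen_le _ hp
  rw [Scheme.mem_basicOpen _ _ _ hpg] at hp
  rw [Proj.mem_basicOpen]
  intro hfp
  have h1 := ProjectiveSpectrum.Proj.awayToSection_germ 𝒜 g p hpg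
  have h2 := congrArg (fun φ => φ.hom (Away.mk 𝒜 hg 1 f (by simpa using hf))) h1
  simp only [CommRingCat.hom_comp, RingHom.coe_comp, Function.comp_apply,
    CommRingCat.hom_ofHom] at h2
  have hle : Submonoid.powers g ≤ p.asHomogeneousIdeal.toIdeal.primeCompl :=
    Submonoid.powers_le.mpr hpg
  have hp' : IsUnit ((CommRingCat.Hom.hom (Proj.stalkIso' 𝒜 p).toCommRingCatIso.inv)
      ((mapId 𝒜 hle) (Away.mk 𝒜 hg 1 f (by simpa using hf)))) := by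
    rw [← h2]; exact hp
  have hp'' : IsUnit ((mapId 𝒜 hle)
      (Away.mk 𝒜 hg 1 f (by simpa using hf))) := by
    have := hp'.map (Proj.stalkIso' 𝒜 p).toCommRingCatIso.hom.hom
    simpa using this
  have hv := hp''.map (algebraMap _ (Localization.AtPrime p.asHomogeneousIdeal.toIdeal))
  rw [HomogeneousLocalization.algebraMap_apply] at hv
  have hval : ((mapId 𝒜 hle) (Away.mk 𝒜 hg 1 f (by simpa using hf))).val =
      Localization.mk f ⟨g ^ 1, hle ⟨1, rfl⟩⟩ := rfl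
  rw [hval, Localization.mk_eq_mk', IsLocalization.AtPrime.isUnit_mk'_iff] at hv
  exact hv hfp

section Closed

variable {Z : Scheme.{u}} (i : Z ⟶ Proj 𝒜)

/-- the ideal of `Away 𝒜 f` cut out by `Z`. -/
noncomputable def Jf (f : A) : Ideal (Away 𝒜 f) :=
  RingHom.ker ((Proj.awayToSection 𝒜 f ≫ i.app (Proj.basicOpen 𝒜 f)).hom)

theorem mem_Jf {f : A} {z : Away 𝒜 f} : z ∈ Jf 𝒜 i f ↔
    (i.app (Proj.basicOpen 𝒜 f)).hom ((Proj.awayToSection 𝒜 f).hom z) = 0 := by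
  unfold Jf
  rw [RingHom.mem_ker, CommRingCat.hom_comp, RingHom.comp_apply]

theorem away_identity {f g : A} (hf : f ∈ 𝒜 1) (hg : g ∈ 𝒜 1) (k : ℕ) (a : A)
    (hak : a ∈ 𝒜 (k • 1)) :
    awayMap 𝒜 hf (mul_comm f g) (Away.mk 𝒜 hg k a hak) =
      awayMap 𝒜 hg (rfl : f * g = f * g) (Away.mk 𝒜 hf k a hak) *
        (awayMap 𝒜 hf (mul_comm f g) (Away.mk 𝒜 hg 1 f (by simpa using hf))) ^ k := by
  rw [awayMap_mk, awayMap_mk, awayMap_mk]
  rw [HomogeneousLocalization.ext_iff_val]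
  simp only [val_mul, val_pow, Away.val_mk, Localization.mk_pow, Localization.mk_mul]
  rw [Localization.mk_eq_mk_iff, Localization.r_iff_exists]
  refine ⟨1, ?_⟩
  simp only [OneMemClass.coe_one, one_mul, Submonoid.coe_mul, SubmonoidClass.coe_pow]
  ring

theorem res_awayToSection_left {f g : A} (hg : g ∈ 𝒜 1) (z : Away 𝒜 f) :
    ((Proj 𝒜).presheaf.map (homOfLE (Proj.basicOpen_mono 𝒜 _ _ ⟨g, rfl⟩ :
      Proj.basicOpen 𝒜 (f * g) ≤ Proj.basicOpen 𝒜 f)).op).hom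
      ((Proj.awayToSection 𝒜 f).hom z) =
    (Proj.awayToSection 𝒜 (f * g)).hom (awayMap 𝒜 hg (rfl : f * g = f * g) z) := by
  have := Proj.awayMap_awayToSection 𝒜 hg (rfl : f * g = f * g)
  have h2 := congrArg (fun φ => φ.hom z) this
  simp only [CommRingCat.hom_comp, RingHom.coe_comp, Function.comp_apply,
    CommRingCat.hom_ofHom] at h2
  exact h2.symm

theorem res_awayToSection_right {f g : A} (hf : f ∈ 𝒜 1) (y : Away 𝒜 g) :
    ((Proj 𝒜).presheaf.map (homOfLE (Proj.basicOpen_mono 𝒜 _ _ ⟨f, mul_comm f g⟩ :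
      Proj.basicOpen 𝒜 (f * g) ≤ Proj.basicOpen 𝒜 g)).op).hom
      ((Proj.awayToSection 𝒜 g).hom y) =
    (Proj.awayToSection 𝒜 (f * g)).hom (awayMap 𝒜 hf (mul_comm f g) y) := by
  have := Proj.awayMap_awayToSection 𝒜 hf (mul_comm f g)
  have h2 := congrArg (fun φ => φ.hom y) this
  simp only [CommRingCat.hom_comp, RingHom.coe_comp, Function.comp_apply,
    CommRingCat.hom_ofHom] at h2
  exact h2.symm

theorem naturality_apply {U V : (Proj 𝒜).Opens} (h : V ≤ U) (x : Γ(Proj 𝒜, U)) :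
    (i.app V).hom (((Proj 𝒜).presheaf.map (homOfLE h).op).hom x) =
      (Z.presheaf.map (homOfLE (show i ⁻¹ᵁ V ≤ i ⁻¹ᵁ U from fun _ hx => h hx)).op).hom
        ((i.app U).hom x) := by
  have := i.naturality (homOfLE h).op
  have h2 := congrArg (fun φ => φ.hom x) this
  simp only [CommRingCat.hom_comp, RingHom.coe_comp, Function.comp_apply] at h2
  exact h2

theorem hK [QuasiCompact i] {f g : A} (hf : f ∈ 𝒜 1) (hg : g ∈ 𝒜 1) (k : ℕ) (a : A)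
    (ha : a ∈ 𝒜 k) (h : Goodg 𝒜 (Jf 𝒜 i) f a k) :
    ∃ m, Goodg 𝒜 (Jf 𝒜 i) g (f ^ m * a) (m + k) := by
  obtain ⟨z, hz, hzv⟩ := h
  have hak : a ∈ 𝒜 (k • 1) := by simpa using ha
  have hz' : z = Away.mk 𝒜 hf k a hak := by
    rw [HomogeneousLocalization.ext_iff_val, hzv, Away.val_mk]
  subst hz'
  rw [mem_Jf] at hz
  set t : Away 𝒜 g := Away.mk 𝒜 hg 1 f (by simpa using hf) with ht
  set y : Away 𝒜 g := Away.mk 𝒜 hg k a hak with hy
  set z : Away 𝒜 f := Away.mk 𝒜 hf k a hak with hzdef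
  have hle_g : Proj.basicOpen 𝒜 (f * g) ≤ Proj.basicOpen 𝒜 g :=
    Proj.basicOpen_mono 𝒜 _ _ ⟨f, mul_comm f g⟩
  have hle_f : Proj.basicOpen 𝒜 (f * g) ≤ Proj.basicOpen 𝒜 f :=
    Proj.basicOpen_mono 𝒜 _ _ ⟨g, rfl⟩
  set r := (Proj.awayToSection 𝒜 g).hom t with hr
  set yg := (Proj.awayToSection 𝒜 g).hom y with hyg
  -- vanishing on the preimage of `D₊(fg)`
  have hvan : (Z.presheaf.map (homOfLE (show i ⁻¹ᵁ Proj.basicOpen 𝒜 (f * g) ≤
      i ⁻¹ᵁ Proj.basicOpen 𝒜 g from fun _ hx => hle_g hx)).op).hom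
      ((i.app (Proj.basicOpen 𝒜 g)).hom yg) = 0 := by
    rw [← naturality_apply 𝒜 i hle_g, hyg, res_awayToSection_right 𝒜 hf, hy,
      away_identity 𝒜 hf hg k a hak, map_mul, map_mul, ← res_awayToSection_left 𝒜 hg,
      naturality_apply 𝒜 i hle_f, hz, map_zero, zero_mul]
  -- the basic open of `ρ`
  have hbo : Z.basicOpen ((i.app (Proj.basicOpen 𝒜 g)).hom r) ≤
      i ⁻¹ᵁ Proj.basicOpen 𝒜 (f * g) := by
    rw [← Scheme.preimage_basicOpen]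
    intro p hp
    have h1 : i.base p ∈ (Proj 𝒜).basicOpen r := hp
    have h2 : i.base p ∈ Proj.basicOpen 𝒜 f := basicOpen_awayToSection_le 𝒜 hf hg h1
    have h3 : i.base p ∈ Proj.basicOpen 𝒜 g := (Proj 𝒜).basicOpen_le _ h1
    change i.base p ∈ Proj.basicOpen 𝒜 (f * g)
    rw [Proj.basicOpen_mul]
    exact ⟨h2, h3⟩
  have hcomp : IsCompact (i ⁻¹ᵁ Proj.basicOpen 𝒜 g : Set Z) :=
    QuasiCompact.isCompact_preimage (f := i) _ (Proj.basicOpen 𝒜 g).isOpen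
      (Proj.isAffineOpen_basicOpen 𝒜 g hg Nat.one_pos).isCompact
  obtain ⟨n, hn⟩ := exists_pow_mul_eq_zero_of_res_basicOpen_eq_zero_of_isCompact Z hcomp
    ((i.app (Proj.basicOpen 𝒜 g)).hom yg) ((i.app (Proj.basicOpen 𝒜 g)).hom r) (by
      have hfac : (homOfLE (Z.basicOpen_le ((i.app (Proj.basicOpen 𝒜 g)).hom r))) =
          homOfLE hbo ≫ homOfLE (show i ⁻¹ᵁ Proj.basicOpen 𝒜 (f * g) ≤
            i ⁻¹ᵁ Proj.basicOpen 𝒜 g from fun _ hx => hle_g hx) := rfl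
      change (Z.presheaf.map (homOfLE (Z.basicOpen_le _)).op).hom _ = 0
      rw [hfac, op_comp, Functor.map_comp, CommRingCat.hom_comp, RingHom.comp_apply, hvan,
        map_zero])
  refine ⟨n, t ^ n * y, ?_, ?_⟩
  · rw [mem_Jf, map_mul, map_mul, map_pow, map_pow]
    exact hn
  · rw [val_mul, val_pow, ht, hy, Away.val_mk, Away.val_mk, Localization.mk_pow,
      Localization.mk_mul]
    congr 1
    apply Subtype.ext
    simp only [Submonoid.coe_mul, SubmonoidClass.coe_pow, pow_one, pow_add]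

end Closed

section Surj

variable {B : Type u} [CommRing B] [Algebra R B] (ℬ : ℕ → Submodule R B) [GradedAlgebra ℬ]

theorem irrelevant_le_map_of_surjective (φ : 𝒜 →+*ᵍ ℬ) (hsurj : Function.Surjective φ) :
    HomogeneousIdeal.irrelevant ℬ ≤ (HomogeneousIdeal.irrelevant 𝒜).map φ := by
  intro b hb
  obtain ⟨a, rfl⟩ := hsurj b
  set a0 : A := (DirectSum.decompose 𝒜 a 0 : A) with ha0
  have hφa0 : φ a0 = 0 := by
    rw [ha0, GradedRingHom.map_directSumDecompose]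
    have : φ a ∈ HomogeneousIdeal.irrelevant ℬ := hb
    rw [HomogeneousIdeal.mem_irrelevant_iff, GradedRing.proj_apply] at this
    exact this
  have hmem : a - a0 ∈ (HomogeneousIdeal.irrelevant 𝒜).toIdeal := by
    change a - a0 ∈ HomogeneousIdeal.irrelevant 𝒜
    rw [HomogeneousIdeal.mem_irrelevant_iff, GradedRing.proj_apply, DirectSum.decompose_sub,
      DirectSum.sub_apply, AddSubgroupClass.coe_sub, ha0,
      DirectSum.decompose_of_mem_same 𝒜 (SetLike.coe_mem _), sub_self]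
  have hφ' : φ (a - a0) = φ a := by rw [map_sub, hφa0, sub_zero]
  rw [← hφ']
  exact Ideal.mem_map_of_mem _ hmem

theorem map_app_awayToSection (φ : 𝒜 →+*ᵍ ℬ)
    (hφ : HomogeneousIdeal.irrelevant ℬ ≤ (HomogeneousIdeal.irrelevant 𝒜).map φ)
    {f : A} {d : ℕ} (hf : f ∈ 𝒜 d) (z : Away 𝒜 f) :
    ((Proj.map φ hφ).app (Proj.basicOpen 𝒜 f)).hom ((Proj.awayToSection 𝒜 f).hom z) =
      (Proj.awayToSection ℬ (φ f)).hom (Away.map φ f z) := by
  have h1 := Proj.awayToSection_comp_appLE φ hφ hf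
  have h3 : (Proj.map φ hφ).app (Proj.basicOpen 𝒜 f) =
      Scheme.Hom.appLE (Proj.map φ hφ) (Proj.basicOpen 𝒜 f)
        (Proj.map φ hφ ⁻¹ᵁ Proj.basicOpen 𝒜 f) le_rfl := (Scheme.Hom.appLE_eq_app _).symm
  rw [h3]
  have h2 := congrArg (fun ψ => ψ.hom z) h1
  simp only [CommRingCat.hom_comp, RingHom.coe_comp, Function.comp_apply,
    CommRingCat.hom_ofHom] at h2
  exact h2

end Surj

section Main

variable (s : Finset A) (hs1 : ∀ f ∈ s, f ∈ 𝒜 1)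
  (hs : (HomogeneousIdeal.irrelevant 𝒜).toIdeal = Ideal.span (s : Set A))
  {Z : Scheme.{u}} (i : Z ⟶ Proj 𝒜) [IsClosedImmersion i]

include hs in
theorem ker_eq
    (hφ : HomogeneousIdeal.irrelevant (quotGrading 𝒜 (idealI 𝒜 s hs1 (Jf 𝒜 i))) ≤
      (HomogeneousIdeal.irrelevant 𝒜).map (quotHom 𝒜 (idealI 𝒜 s hs1 (Jf 𝒜 i))))
    [IsClosedImmersion (Proj.map (quotHom 𝒜 (idealI 𝒜 s hs1 (Jf 𝒜 i))) hφ)] :
    (Proj.map (quotHom 𝒜 (idealI 𝒜 s hs1 (Jf 𝒜 i))) hφ).ker = i.ker := by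
  have hKK : ∀ f ∈ s, ∀ g ∈ s, ∀ (k : ℕ) (a : A), a ∈ 𝒜 k → Goodg 𝒜 (Jf 𝒜 i) f a k →
      ∃ m, Goodg 𝒜 (Jf 𝒜 i) g (f ^ m * a) (m + k) :=
    fun f hf g hg k a ha h => hK 𝒜 i (hs1 f hf) (hs1 g hg) k a ha h
  apply Scheme.IdealSheafData.ext_of_iSup_eq_top
    (fun f : s => (⟨Proj.basicOpen 𝒜 (f : A),
      Proj.isAffineOpen_basicOpen 𝒜 (f : A) (hs1 f f.2) Nat.one_pos⟩ : (Proj 𝒜).affineOpens))
  · apply Proj.iSup_basicOpen_eq_top 𝒜 (fun f : s => (f : A))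
    rw [hs]
    apply Ideal.span_mono
    intro x hx
    exact ⟨⟨x, hx⟩, rfl⟩
  · intro f
    rw [Scheme.Hom.ker_apply, Scheme.Hom.ker_apply]
    ext y
    have hiso : IsIso (Proj.awayToSection 𝒜 (f : A)) :=
      (Proj.basicOpenIsoAway 𝒜 (f : A) (hs1 f f.2) Nat.one_pos).isIso_hom
    obtain ⟨z, rfl⟩ : ∃ z, (Proj.awayToSection 𝒜 (f : A)).hom z = y :=
      (ConcreteCategory.bijective_of_isIso (Proj.awayToSection 𝒜 (f : A))).2 y
    rw [RingHom.mem_ker, RingHom.mem_ker]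
    change ((Proj.map (quotHom 𝒜 (idealI 𝒜 s hs1 (Jf 𝒜 i))) hφ).app
      (Proj.basicOpen 𝒜 (f : A))).hom ((Proj.awayToSection 𝒜 (f : A)).hom z) = 0 ↔
      (i.app (Proj.basicOpen 𝒜 (f : A))).hom ((Proj.awayToSection 𝒜 (f : A)).hom z) = 0
    rw [map_app_awayToSection 𝒜 _ _ hφ (hs1 f f.2), ← mem_Jf,
      ← ker_awayMap_eq 𝒜 s hs1 (Jf 𝒜 i) hKK f.2, RingHom.mem_ker]
    have hiso' : IsIso (Proj.awayToSection (quotGrading 𝒜 (idealI 𝒜 s hs1 (Jf 𝒜 i)))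
        (quotHom 𝒜 (idealI 𝒜 s hs1 (Jf 𝒜 i)) (f : A))) :=
      (Proj.basicOpenIsoAway _ _ ((quotHom 𝒜 (idealI 𝒜 s hs1 (Jf 𝒜 i))).map_mem (hs1 f f.2))
        Nat.one_pos).isIso_hom
    constructor
    · intro h
      apply (ConcreteCategory.bijective_of_isIso (Proj.awayToSection
        (quotGrading 𝒜 (idealI 𝒜 s hs1 (Jf 𝒜 i)))
        (quotHom 𝒜 (idealI 𝒜 s hs1 (Jf 𝒜 i)) (f : A)))).1
      rw [map_zero]
      exact h
    · intro h
      rw [h]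
      exact map_zero _

include hs hs1 in
theorem main :
    ∃ (B : Type u) (_ : CommRing B) (_ : Algebra R B) (ℬ : ℕ → Submodule R B)
      (_ : GradedAlgebra ℬ) (φ : 𝒜 →+*ᵍ ℬ) (_ : Function.Surjective φ)
      (hφ : HomogeneousIdeal.irrelevant ℬ ≤ (HomogeneousIdeal.irrelevant 𝒜).map φ)
      (e : Z ≅ Proj ℬ), e.hom ≫ Proj.map φ hφ = i := by
  have hφ := irrelevant_le_map_of_surjective 𝒜 (quotGrading 𝒜 (idealI 𝒜 s hs1 (Jf 𝒜 i)))
    (quotHom 𝒜 (idealI 𝒜 s hs1 (Jf 𝒜 i))) (quotHom_surjective 𝒜 _)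
  refine ⟨A ⧸ idealI 𝒜 s hs1 (Jf 𝒜 i), inferInstance, inferInstance,
    quotGrading 𝒜 (idealI 𝒜 s hs1 (Jf 𝒜 i)), inferInstance,
    quotHom 𝒜 (idealI 𝒜 s hs1 (Jf 𝒜 i)), quotHom_surjective 𝒜 _, hφ, ?_⟩
  haveI : IsClosedImmersion (Proj.map (quotHom 𝒜 (idealI 𝒜 s hs1 (Jf 𝒜 i))) hφ) :=
    Groth.Agent.Helper8.ProjClosed.main 𝒜 _ _ (quotHom_surjective 𝒜 _) hφ
  have hker := ker_eq 𝒜 s hs1 hs i hφ
  let f := IsClosedImmersion.lift (Proj.map (quotHom 𝒜 (idealI 𝒜 s hs1 (Jf 𝒜 i))) hφ) i hker.le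
  have hfac : f ≫ Proj.map (quotHom 𝒜 (idealI 𝒜 s hs1 (Jf 𝒜 i))) hφ = i :=
    IsClosedImmersion.lift_fac _ _ _
  haveI : IsIso f := IsClosedImmersion.isIso_of_ker_eq i
    (Proj.map (quotHom 𝒜 (idealI 𝒜 s hs1 (Jf 𝒜 i))) hφ) f hfac hker.symm
  exact ⟨asIso f, hfac⟩

end Main

end Groth.Agent.Helper3.ProjClosedSub
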