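import Mathlib
import Groth.Prelude
import Groth.Agent.S1340

set_option autoImplicit false
set_option linter.style.haveILetI false
set_option linter.unusedSectionVars false
set_option linter.unusedVariables false
set_option linter.deprecated false
set_option linter.style.haveILetI false
set_option linter.unusedSectionVars false
set_option linter.unusedVariables false

universe u

open AlgebraicGeometry CategoryTheory Limits TopologicalSpace

namespace Groth.Agent.Helper3.DvrIso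

/-- restriction of sections -/
noncomputable abbrev rs {X : Scheme.{u}} {V' V : X.Opens} (h : V' ≤ V) : Γ(X, V) →+* Γ(X, V') :=
  (X.presheaf.map (homOfLE h).op).hom

theorem rs_rs {X : Scheme.{u}} {V'' V' V : X.Opens} (h₂ : V'' ≤ V') (h₁ : V' ≤ V) (a : Γ(X, V)) :
    rs h₂ (rs h₁ a) = rs (h₂.trans h₁) a := by
  show ((X.presheaf.map (homOfLE h₁).op) ≫ (X.presheaf.map (homOfLE h₂).op)).hom a = _
  rw [← Functor.map_comp]
  rfl

theorem pre_mono {X Y : Scheme.{u}} (π : Y ⟶ X) {V' V : X.Opens} (h : V' ≤ V) :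
    π ⁻¹ᵁ V' ≤ π ⁻¹ᵁ V := fun y hy => h hy

theorem app_rs {X Y : Scheme.{u}} (π : Y ⟶ X) {V' V : X.Opens} (h : V' ≤ V) (a : Γ(X, V)) :
    (π.app V').hom (rs h a) = rs (pre_mono π h) ((π.app V).hom a) := by
  have := π.naturality (homOfLE h).op
  exact congr($(this).hom a)

/-- `T` is a nonzerodivisor on all sections. -/
def RegSec (X : Scheme.{u}) (T : Γ(X, ⊤)) : Prop :=
  ∀ (V : X.Opens) (c : Γ(X, V)), rs le_top T * c = 0 → c = 0

/-- The ideal generated by `T` is radical in every stalk. -/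
def RadSec (X : Scheme.{u}) (T : Γ(X, ⊤)) : Prop :=
  ∀ (x : X) (β : X.presheaf.stalk x) (m : ℕ),
    β ^ m ∈ Ideal.span {X.presheaf.germ ⊤ x trivial T} →
      β ∈ Ideal.span {X.presheaf.germ ⊤ x trivial T}

theorem RegSec.pow {X : Scheme.{u}} {T : Γ(X, ⊤)} (h : RegSec X T) (V : X.Opens) (n : ℕ)
    (c : Γ(X, V)) (hc : rs le_top T ^ n * c = 0) : c = 0 := by
  induction n with
  | zero => simpa using hc
  | succ n ih =>
    apply ih
    apply h V
    rw [← mul_assoc, ← pow_succ']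
    exact hc

theorem germ_rs {X : Scheme.{u}} {V' V : X.Opens} (h : V' ≤ V) (x : X) (hx : x ∈ V')
    (a : Γ(X, V)) : X.presheaf.germ V' x hx (rs h a) = X.presheaf.germ V x (h hx) a :=
  TopCat.Presheaf.germ_res_apply X.presheaf (homOfLE h) x hx a

/-- divisibility by a regular section is local -/
theorem dvd_of_germ_dvd {X : Scheme.{u}} {T : Γ(X, ⊤)} (hreg : RegSec X T) (V : X.Opens)
    (b : Γ(X, V))
    (h : ∀ (x : X) (hx : x ∈ V), X.presheaf.germ ⊤ x trivial T ∣ X.presheaf.germ V x hx b) :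
    rs le_top T ∣ b := by
  have hloc : ∀ x : V, ∃ (W : X.Opens) (hWV : W ≤ V) (δ : Γ(X, W)), x.1 ∈ W ∧
      rs hWV b = rs le_top T * δ := by
    rintro ⟨x, hx⟩
    obtain ⟨dx, hdx⟩ := h x hx
    obtain ⟨W₂, hxW₂, δ₂, hδ₂⟩ := TopCat.Presheaf.germ_exist X.presheaf (x := x) dx
    have hW₃V : V ⊓ W₂ ≤ V := inf_le_left
    have hxW₃ : x ∈ V ⊓ W₂ := ⟨hx, hxW₂⟩
    have hgerm : X.presheaf.germ (V ⊓ W₂) x hxW₃ (rs hW₃V b) =
        X.presheaf.germ (V ⊓ W₂) x hxW₃ (rs le_top T * rs (inf_le_right : V ⊓ W₂ ≤ W₂) δ₂) := by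
      rw [map_mul, germ_rs, germ_rs, germ_rs, hδ₂]
      exact hdx
    obtain ⟨W, hxW, iU, iV, hWeq⟩ := TopCat.Presheaf.germ_eq X.presheaf x _ _ _ _ hgerm
    have hWW₃ : W ≤ V ⊓ W₂ := iU.le
    have hWV : W ≤ V := hWW₃.trans hW₃V
    refine ⟨W, hWV, rs (hWW₃.trans inf_le_right) δ₂, hxW, ?_⟩
    have e1 : rs hWW₃ (rs hW₃V b) = rs hWV b := rs_rs _ _ _
    have e2 : rs hWW₃ (rs le_top T * rs (inf_le_right : V ⊓ W₂ ≤ W₂) δ₂) =
        rs le_top T * rs (hWW₃.trans inf_le_right) δ₂ := by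
      rw [map_mul, rs_rs, rs_rs]
    rw [← e1, ← e2]
    exact hWeq
  choose W hWV δ hxW hsol using hloc
  have hcover : V ≤ iSup W := fun x hx => Opens.mem_iSup.2 ⟨⟨x, hx⟩, hxW ⟨x, hx⟩⟩
  have ic : TopCat.Presheaf.IsCompatible X.sheaf.obj W δ := by
    intro i j
    show rs (inf_le_left : W i ⊓ W j ≤ W i) (δ i) = rs (inf_le_right : W i ⊓ W j ≤ W j) (δ j)
    have h1 : rs le_top T * (rs (inf_le_left : W i ⊓ W j ≤ W i) (δ i) -
        rs (inf_le_right : W i ⊓ W j ≤ W j) (δ j)) = 0 := by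
      have e1 : rs (inf_le_left : W i ⊓ W j ≤ W i) (rs (hWV i) b) =
          rs le_top T * rs (inf_le_left : W i ⊓ W j ≤ W i) (δ i) := by
        rw [hsol i, map_mul, rs_rs]
      have e2 : rs (inf_le_right : W i ⊓ W j ≤ W j) (rs (hWV j) b) =
          rs le_top T * rs (inf_le_right : W i ⊓ W j ≤ W j) (δ j) := by
        rw [hsol j, map_mul, rs_rs]
      rw [mul_sub, ← e1, ← e2, rs_rs, rs_rs, sub_self]
    exact sub_eq_zero.1 (hreg _ _ h1)
  obtain ⟨d, hd, -⟩ :
      ∃ d : Γ(X, V), (∀ i, (X.sheaf.obj.map (homOfLE (hWV i)).op) d = δ i) ∧ _ :=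
    X.sheaf.existsUnique_gluing' W V (fun i => homOfLE (hWV i)) hcover δ ic
  refine ⟨d, ?_⟩
  refine X.sheaf.eq_of_locally_eq' W V (fun i => homOfLE (hWV i)) hcover _ _ fun i => ?_
  show rs (hWV i) b = rs (hWV i) (rs le_top T * d)
  rw [map_mul, hsol i, rs_rs]
  congr 1
  exact (hd i).symm

theorem dvd_of_pow_dvd {X : Scheme.{u}} {T : Γ(X, ⊤)} (hreg : RegSec X T) (hrad : RadSec X T)
    (V : X.Opens) (b : Γ(X, V)) (m : ℕ) (h : rs le_top T ∣ b ^ m) : rs le_top T ∣ b := by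
  apply dvd_of_germ_dvd hreg
  intro x hx
  rw [← Ideal.mem_span_singleton]
  apply hrad x _ m
  rw [Ideal.mem_span_singleton]
  obtain ⟨q, hq⟩ := h
  refine ⟨X.presheaf.germ V x hx q, ?_⟩
  rw [← map_pow, hq, map_mul, germ_rs]


theorem dvd_eval_scaleRoots {B : Type u} [CommRing B] (P : Polynomial B) (hP : P.Monic) (s b : B)
    (h : (P.scaleRoots s).eval b = 0) : s ∣ b ^ P.natDegree := by
  rw [Polynomial.eval_eq_sum_range, Polynomial.natDegree_scaleRoots, Finset.sum_range_succ,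
    Polynomial.coeff_scaleRoots, Nat.sub_self, pow_zero, mul_one, hP.coeff_natDegree,
    one_mul] at h
  have h2 : b ^ P.natDegree = -(∑ i ∈ Finset.range P.natDegree,
      (P.scaleRoots s).coeff i * b ^ i) := by
    rw [eq_neg_iff_add_eq_zero, add_comm]; exact h
  rw [h2, dvd_neg]
  apply Finset.dvd_sum
  intro i hi
  rw [Polynomial.coeff_scaleRoots]
  have hi' : i < P.natDegree := Finset.mem_range.1 hi
  have : s ∣ s ^ (P.natDegree - i) := dvd_pow_self s (by omega)
  exact Dvd.dvd.mul_right (Dvd.dvd.mul_left this _) _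

theorem bijective_app_affine {X Y : Scheme.{u}} (π : Y ⟶ X) [IsProper π] (T : Γ(X, ⊤))
    (hregX : RegSec X T) (hregY : RegSec Y (π.appTop T)) (hrad : RadSec X T)
    (hiso : ∀ V' : X.Opens, V' ≤ X.basicOpen T → IsIso (π.app V'))
    (V : X.Opens) (hV : IsAffineOpen V) : Function.Bijective (π.app V).hom := by
  set s : Γ(X, V) := rs le_top T with hs
  set φ : Γ(X, V) →+* Γ(Y, π ⁻¹ᵁ V) := (π.app V).hom with hφ
  have hφs : φ s = rs le_top (π.appTop T) := app_rs π le_top T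
  have hDV : X.basicOpen s ≤ V := X.basicOpen_le s
  have hDT : X.basicOpen s ≤ X.basicOpen T := by
    rw [hs, rs, Scheme.basicOpen_res]
    exact inf_le_right
  haveI hisoD : IsIso (π.app (X.basicOpen s)) := hiso _ hDT
  have hbijD : Function.Bijective (π.app (X.basicOpen s)).hom :=
    ConcreteCategory.bijective_of_isIso _
  have hpreD : π ⁻¹ᵁ X.basicOpen s = Y.basicOpen (φ s) := Scheme.preimage_basicOpen π s
  have hWc : IsCompact (π ⁻¹ᵁ V).1 := π.isCompact_preimage hV.isCompact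
  have hDW : Y.basicOpen (φ s) ≤ π ⁻¹ᵁ V := Y.basicOpen_le _
  -- injectivity
  have hinj : Function.Injective φ := by
    rw [injective_iff_map_eq_zero]
    intro b hb
    have h1 : rs hDV b = 0 := by
      apply hbijD.1
      rw [map_zero, app_rs, show (π.app V).hom b = 0 from hb, map_zero]
    obtain ⟨n, hn⟩ := exists_pow_mul_eq_zero_of_res_basicOpen_eq_zero_of_isCompact X
      hV.isCompact b s h1
    exact hregX.pow V n b hn
  refine ⟨hinj, ?_⟩
  -- every section becomes in the range after multiplying by a power of `s`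
  have hpow : ∀ c : Γ(Y, π ⁻¹ᵁ V), ∃ (n : ℕ) (b : Γ(X, V)), φ b = φ s ^ n * c := by
    intro c
    obtain ⟨β, hβ⟩ := hbijD.2 (rs (pre_mono π hDV) c)
    obtain ⟨n, b, hb⟩ := exists_eq_pow_mul_of_isAffineOpen X V hV s β
    replace hb : rs hDV b = rs hDV s ^ n * β := hb
    refine ⟨n, b, ?_⟩
    have h2 : rs (pre_mono π hDV) (φ b - φ s ^ n * c) = 0 := by
      rw [map_sub, map_mul, map_pow, ← hβ, ← app_rs π hDV, ← app_rs π hDV, hb, map_mul, map_pow,
        sub_self]
    have h3 : rs hDW (φ b - φ s ^ n * c) = 0 := by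
      have : ∀ (D' : Y.Opens) (e : D' = π ⁻¹ᵁ X.basicOpen s) (hD' : D' ≤ π ⁻¹ᵁ V),
          rs hD' (φ b - φ s ^ n * c) = 0 := by
        rintro D' rfl hD'
        exact h2
      exact this _ hpreD.symm hDW
    obtain ⟨m, hm⟩ := exists_pow_mul_eq_zero_of_res_basicOpen_eq_zero_of_isCompact Y
      hWc (φ b - φ s ^ n * c) (φ s) h3
    rw [hφs] at hm
    have := hregY.pow _ m _ hm
    rw [← hφs] at this
    exact sub_eq_zero.1 this
  have hint : (π.app V).hom.IsIntegral :=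
    Groth.Agent.S1340.isIntegral_app_of_universallyClosed π V hV
  have hstep : ∀ (n : ℕ) (c : Γ(Y, π ⁻¹ᵁ V)), (∃ b, φ b = φ s ^ n * c) → ∃ b, φ b = c := by
    intro n
    induction n with
    | zero =>
      rintro c ⟨b, hb⟩
      exact ⟨b, by simpa using hb⟩
    | succ n ih =>
      rintro c ⟨b, hb⟩
      apply ih
      -- c₁ = φ s ^ n * c
      obtain ⟨P, hP, hPc⟩ := hint (φ s ^ n * c)
      have h1 : (P.scaleRoots s).eval₂ φ (φ b) = 0 := by
        rw [hb, pow_succ', mul_assoc, Polynomial.scaleRoots_eval₂_mul, hPc, mul_zero]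
      have h2 : (P.scaleRoots s).eval b = 0 := by
        apply hinj
        rw [map_zero, ← h1, Polynomial.eval₂_hom]
      have h3 : s ∣ b ^ P.natDegree := dvd_eval_scaleRoots P hP s b h2
      obtain ⟨b₁, hb₁⟩ := dvd_of_pow_dvd hregX hrad V b P.natDegree h3
      refine ⟨b₁, ?_⟩
      have h4 : rs le_top (π.appTop T) * (φ b₁ - φ s ^ n * c) = 0 := by
        rw [← hφs, mul_sub, ← map_mul, ← hb₁, hb, pow_succ', mul_assoc, sub_self]
      exact sub_eq_zero.1 (hregY _ _ h4)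
  intro c
  obtain ⟨n, b, hb⟩ := hpow c
  exact hstep n c ⟨b, hb⟩

theorem isIso_app {X Y : Scheme.{u}} (π : Y ⟶ X) [IsProper π] (T : Γ(X, ⊤))
    (hregX : RegSec X T) (hregY : RegSec Y (π.appTop T)) (hrad : RadSec X T)
    (hiso : ∀ V' : X.Opens, V' ≤ X.basicOpen T → IsIso (π.app V')) :
    ∀ V : X.Opens, IsIso (π.app V) := by
  let B : X.affineOpens → X.Opens := fun V => V.1
  have hB : TopologicalSpace.Opens.IsBasis (Set.range B) := by
    rw [TopologicalSpace.Opens.isBasis_iff_nbhd]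
    intro U x hx
    obtain ⟨_, ⟨V, hV, rfl⟩, hxV, hVU⟩ :=
      X.isBasis_affineOpens.exists_subset_of_mem_open hx U.2
    exact ⟨V, ⟨⟨V, hV⟩, rfl⟩, hxV, hVU⟩
  let φ : X.sheaf ⟶ (TopCat.Sheaf.pushforward CommRingCat π.base).obj Y.sheaf := ⟨π.c⟩
  have hφ : IsIso φ := TopCat.Sheaf.isIso_iff_isIso_basis hB (fun V => by
    show IsIso (π.app V.1)
    rw [ConcreteCategory.isIso_iff_bijective]
    exact bijective_app_affine π T hregX hregY hrad hiso V.1 V.2)
  have h2 : IsIso φ.hom := by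
    have : IsIso ((sheafToPresheaf (Opens.grothendieckTopology X) CommRingCat).map φ) :=
      Functor.map_isIso _ φ
    exact this
  exact fun U => NatIso.isIso_app_of_isIso φ.hom (Opposite.op U)

end Groth.Agent.Helper3.DvrIso
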