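import Mathlib
import Groth.Prelude
import Groth.Agent.Helper3.DvrIsoA
import Groth.Agent.Helper5.FibStalk

set_option autoImplicit false
set_option linter.style.haveILetI false
set_option linter.unusedSectionVars false
set_option linter.unusedVariables false
set_option linter.deprecated false
set_option linter.style.haveILetI false
set_option linter.unusedSectionVars false
set_option linter.unusedVariables false

universe u

open AlgebraicGeometry CategoryTheory Limits TopologicalSpace

namespace Groth.Agent.Helper3.DvrIso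

/-- the global section of `X` induced by `t : R` -/
noncomputable abbrev gsec {R : Type u} [CommRing R] {X : Scheme.{u}}
    (f : X ⟶ Spec (CommRingCat.of R)) (t : R) : Γ(X, ⊤) :=
  f.appTop ((Scheme.ΓSpecIso (CommRingCat.of R)).inv t)

theorem regSec_of_flat {R : Type u} [CommRing R] {X : Scheme.{u}}
    (f : X ⟶ Spec (CommRingCat.of R)) [Flat f] (t : R) (ht : IsSMulRegular R t) :
    RegSec X (gsec f t) := by
  intro V c hc
  apply TopCat.Presheaf.section_ext X.sheaf V
  intro x hx
  obtain ⟨_, ⟨W, hW, rfl⟩, hxW, hWV⟩ :=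
    X.isBasis_affineOpens.exists_subset_of_mem_open hx V.2
  have hWV' : W ≤ V := hWV
  have hle : W ≤ f ⁻¹ᵁ ⊤ := le_top
  have hflat : (f.appLE ⊤ W hle).hom.Flat :=
    f.flat_appLE (isAffineOpen_top (Spec (CommRingCat.of R))) hW hle
  let g : CommRingCat.of R ⟶ Γ(X, W) :=
    (Scheme.ΓSpecIso (CommRingCat.of R)).inv ≫ f.appLE ⊤ W hle
  have hgflat : g.hom.Flat := by
    have h1 : (Scheme.ΓSpecIso (CommRingCat.of R)).inv.hom.Flat :=
      RingHom.Flat.of_bijective (ConcreteCategory.bijective_of_isIso _)
    exact RingHom.Flat.comp h1 hflat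
  letI : Algebra R Γ(X, W) := g.hom.toAlgebra
  haveI : Module.Flat R Γ(X, W) := hgflat
  have hreg : IsSMulRegular Γ(X, W) (algebraMap R Γ(X, W) t) := IsSMulRegular.of_flat ht
  have hgt : algebraMap R Γ(X, W) t = rs le_top (gsec f t) := rfl
  have h0 : rs hWV' c = 0 := by
    refine hreg ?_
    show algebraMap R Γ(X, W) t • rs hWV' c = algebraMap R Γ(X, W) t • 0
    rw [smul_zero, smul_eq_mul, hgt]
    have := congrArg (rs hWV') hc
    rw [map_mul, map_zero, rs_rs] at this
    exact this
  have := congrArg (X.presheaf.germ W x hxW) h0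
  rw [germ_rs, map_zero] at this
  exact this.trans (map_zero _).symm

theorem maximalIdeal_stalk_eq (R : CommRingCat.{u}) (t : R) (p : Spec R)
    (hp : p.asIdeal = Ideal.span {t}) :
    IsLocalRing.maximalIdeal ((Spec R).presheaf.stalk p) =
      Ideal.span {(Spec R).presheaf.germ ⊤ p trivial ((Scheme.ΓSpecIso R).inv t)} := by
  letI k : Algebra R ((Spec R).presheaf.stalk p) := StructureSheaf.stalkAlgebra R p
  haveI : IsLocalization.AtPrime ((Spec R).presheaf.stalk p) p.asIdeal :=
    StructureSheaf.IsLocalization.to_stalk R p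
  rw [← IsLocalization.AtPrime.map_eq_maximalIdeal p.asIdeal ((Spec R).presheaf.stalk p), hp,
    Ideal.map_span, Set.image_singleton]
  rfl

theorem basicOpen_gsec {R : Type u} [CommRing R] {X : Scheme.{u}}
    (f : X ⟶ Spec (CommRingCat.of R)) (t : R) :
    X.basicOpen (gsec f t) = f ⁻¹ᵁ (PrimeSpectrum.basicOpen t) := by
  have h := Scheme.preimage_basicOpen f ((Scheme.ΓSpecIso (CommRingCat.of R)).inv t)
  rw [basicOpen_eq_of_affine] at h
  exact h.symm

theorem radSec_of_reduced {R : Type u} [CommRing R] [IsDomain R] [IsDiscreteValuationRing R]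
    {X : Scheme.{u}} (f : X ⟶ Spec (CommRingCat.of R))
    [IsReduced (f.fiber (IsLocalRing.closedPoint R))] (t : R) (ht : Irreducible t) :
    RadSec X (gsec f t) := by
  intro x β m hβ
  by_cases hx : x ∈ X.basicOpen (gsec f t)
  · have hu : IsUnit (X.presheaf.germ ⊤ x trivial (gsec f t)) :=
      (Scheme.mem_basicOpen X (gsec f t) x trivial).1 hx
    rw [Ideal.span_singleton_eq_top.2 hu]
    trivial
  · -- `x` lies in the closed fibre
    have hmax : IsLocalRing.maximalIdeal R = Ideal.span {t} := ht.maximalIdeal_eq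
    have hfx : f x = IsLocalRing.closedPoint R := by
      rw [basicOpen_gsec] at hx
      have h1 : t ∈ (f x).asIdeal := by
        by_contra h
        exact hx h
      apply PrimeSpectrum.ext
      show (f x).asIdeal = IsLocalRing.maximalIdeal R
      apply le_antisymm (IsLocalRing.le_maximalIdeal (f x).isPrime.ne_top)
      rw [hmax, Ideal.span_le, Set.singleton_subset_iff]
      exact h1
    have hxr : x ∈ Set.range (f.fiberι (IsLocalRing.closedPoint R)) := by
      rw [Scheme.Hom.range_fiberι]
      exact hfx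
    obtain ⟨y, rfl⟩ := hxr
    obtain ⟨hsurj, hker⟩ := Groth.Agent.Helper5.FibStalk.s9501 f (IsLocalRing.closedPoint R) y
    set ι := f.fiberι (IsLocalRing.closedPoint R) with hι
    have hasI : (f (ι y)).asIdeal = Ideal.span {t} := by
      rw [hfx]; exact hmax
    have hker' : RingHom.ker (ι.stalkMap y).hom =
        Ideal.span {X.presheaf.germ ⊤ (ι y) trivial (gsec f t)} := by
      rw [hker, maximalIdeal_stalk_eq (CommRingCat.of R) t (f (ι y)) hasI, Ideal.map_span,
        Set.image_singleton]
      congr 2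
      exact Scheme.Hom.germ_stalkMap_apply f ⊤ (ι y) trivial _
    rw [← hker'] at hβ ⊢
    rw [RingHom.mem_ker] at hβ ⊢
    rw [map_pow] at hβ
    exact IsReduced.eq_zero _ ⟨m, hβ⟩

theorem isLocalization_away_fractionRing (R : Type u) [CommRing R] [IsDomain R]
    [IsDiscreteValuationRing R] (t : R) (ht : Irreducible t) :
    IsLocalization.Away t (FractionRing R) := by
  rw [IsLocalization.Away, isLocalization_iff]
  have hinj : Function.Injective (algebraMap R (FractionRing R)) :=
    IsFractionRing.injective R (FractionRing R)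
  refine ⟨?_, ?_, ?_⟩
  · rintro ⟨_, n, rfl⟩
    have h0 : t ^ n ≠ 0 := pow_ne_zero n ht.ne_zero
    exact IsUnit.mk0 _ (fun h => h0 (hinj (h.trans (map_zero _).symm)))
  · intro z
    obtain ⟨⟨a, b⟩, hab⟩ := IsLocalization.surj (nonZeroDivisors R) z
    have hb : (b : R) ≠ 0 := nonZeroDivisors.ne_zero b.2
    obtain ⟨n, w, hw⟩ := IsDiscreteValuationRing.eq_unit_mul_pow_irreducible hb ht
    refine ⟨⟨((w⁻¹ : Rˣ) : R) * a, ⟨t ^ n, n, rfl⟩⟩, ?_⟩
    have h1 : t ^ n = ((w⁻¹ : Rˣ) : R) * (b : R) := by
      rw [hw, ← mul_assoc, Units.inv_mul, one_mul]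
    show z * algebraMap R (FractionRing R) (t ^ n) = algebraMap R (FractionRing R) (_ * a)
    rw [h1, map_mul, map_mul, ← hab]
    ring
  · intro x y hxy
    exact ⟨1, by rw [hinj hxy]⟩

theorem isIso_of_comp_eq {C : Type*} [Category C] {A B D E : C} (a : A ⟶ B) (b : B ⟶ D)
    (c : A ⟶ E) (d : D ⟶ E) [IsIso b] [IsIso c] [IsIso d] (h : c = (a ≫ b) ≫ d) : IsIso a := by
  haveI : IsIso ((a ≫ b) ≫ d) := by rw [← h]; infer_instance
  haveI : IsIso (a ≫ b) := IsIso.of_isIso_comp_right _ d
  exact IsIso.of_isIso_comp_right a b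

theorem isIso_app_of_le {R : Type u} [CommRing R] [IsDomain R] [IsDiscreteValuationRing R]
    (X Y : Over (Spec (CommRingCat.of R))) (π : Y ⟶ X)
    (hgen : IsIso ((Neron.genericFibre R).map π)) (t : R) (ht : Irreducible t)
    (V' : X.left.Opens) (hV' : V' ≤ X.left.basicOpen (gsec X.hom t)) :
    IsIso (π.left.app V') := by
  haveI : IsLocalization.Away t (FractionRing R) := isLocalization_away_fractionRing R t ht
  haveI hj : IsOpenImmersion (Neron.genPt R) := IsOpenImmersion.of_isLocalization t
  have hrange : Set.range (Neron.genPt R) = (PrimeSpectrum.basicOpen t : Set (PrimeSpectrum R)) :=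
    PrimeSpectrum.localization_away_comap_range (FractionRing R) t
  let i : pullback X.hom (Neron.genPt R) ⟶ X.left := pullback.fst X.hom (Neron.genPt R)
  let i' : pullback Y.hom (Neron.genPt R) ⟶ Y.left := pullback.fst Y.hom (Neron.genPt R)
  let πK : pullback Y.hom (Neron.genPt R) ⟶ pullback X.hom (Neron.genPt R) :=
    ((Neron.genericFibre R).map π).left
  haveI : IsIso πK := by
    have : IsIso ((Over.forget _).map ((Neron.genericFibre R).map π)) := inferInstance
    exact this
  have hcomm : πK ≫ i = i' ≫ π.left := by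
    exact pullback.lift_fst _ _ _
  have hri : Set.range i = X.hom ⁻¹' Set.range (Neron.genPt R) := Scheme.Pullback.range_fst _ _
  have hri' : Set.range i' = Y.hom ⁻¹' Set.range (Neron.genPt R) := Scheme.Pullback.range_fst _ _
  have hVi : V' ≤ i.opensRange := by
    intro x hx
    have h1 := hV' hx
    rw [basicOpen_gsec] at h1
    show x ∈ Set.range i
    rw [hri, hrange]
    exact h1
  have hVi' : π.left ⁻¹ᵁ V' ≤ i'.opensRange := by
    intro y hy
    have h1 := hV' hy
    rw [basicOpen_gsec] at h1
    show y ∈ Set.range i'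
    rw [hri', hrange]
    have h2 : X.hom (π.left y) ∈ (PrimeSpectrum.basicOpen t : Set (PrimeSpectrum R)) := h1
    have h3 : Y.hom y = X.hom (π.left y) := by
      rw [← Over.w π]; rfl
    exact Set.mem_preimage.2 (h3 ▸ h2)
  haveI h1 : IsIso (i.app V') := Scheme.Hom.isIso_app i V' hVi
  haveI h2 : IsIso (i'.app (π.left ⁻¹ᵁ V')) := Scheme.Hom.isIso_app i' _ hVi'
  have h3 := Scheme.Hom.congr_app hcomm V'
  rw [Scheme.Hom.comp_app, Scheme.Hom.comp_app] at h3
  have hd : ∀ (U U' : (pullback Y.hom (Neron.genPt R)).Opens) (e : U' = U),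
      IsIso ((pullback Y.hom (Neron.genPt R)).presheaf.map (eqToHom e).op) := by
    intro U U' e
    subst e
    rw [eqToHom_refl, op_id, CategoryTheory.Functor.map_id]
    infer_instance
  exact @isIso_of_comp_eq _ _ _ _ _ _ _ _ _ _ h2 inferInstance (hd _ _ _) h3

theorem main (R : Type u) [CommRing R] [IsDomain R] [IsDiscreteValuationRing R]
    (X Y : Over (Spec (CommRingCat.of R))) [Flat X.hom] [Flat Y.hom]
    (π : Y ⟶ X) [IsProper π.left]
    (hgen : IsIso ((Neron.genericFibre R).map π))
    [IsReduced (X.hom.fiber (IsLocalRing.closedPoint R))] :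
    ∀ V : X.left.Opens, IsIso (π.left.app V) := by
  obtain ⟨t, ht⟩ := IsDiscreteValuationRing.exists_irreducible R
  have hreg : IsSMulRegular R t := by
    intro a b hab
    exact mul_left_cancel₀ ht.ne_zero hab
  have hY : π.left.appTop (gsec X.hom t) = gsec Y.hom t := by
    show (X.hom.appTop ≫ π.left.appTop) _ = _
    rw [← Scheme.Hom.comp_appTop, Over.w π]
  refine isIso_app π.left (gsec X.hom t) (regSec_of_flat X.hom t hreg) ?_
    (radSec_of_reduced X.hom t ht) (fun V' hV' => isIso_app_of_le X Y π hgen t ht V' hV')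
  rw [hY]
  exact regSec_of_flat Y.hom t hreg

end Groth.Agent.Helper3.DvrIso
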