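import Mathlib

set_option autoImplicit false
set_option linter.style.haveILetI false
set_option linter.unusedSectionVars false
set_option linter.unusedVariables false
set_option linter.deprecated false
set_option linter.style.haveILetI false
set_option linter.unusedSectionVars false
set_option linter.unusedVariables false

universe u

namespace Groth.Agent.Helper3.CartAlg

variable {A : Type u} [CommRing A]

/-- a prime strictly below a principal prime `(t)` of a Noetherian ring is killed by some
`e ≡ 1 mod t` -/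
theorem exists_kill [IsNoetherianRing A] (t : A) (p : Ideal A) [p.IsPrime]
    (hp : p ≤ Ideal.span {t}) (ht : t ∉ p) :
    ∃ e : A, e - 1 ∈ Ideal.span {t} ∧ ∀ x ∈ p, e * x = 0 := by
  have hin : p ≤ Ideal.span {t} • p := by
    intro x hx
    obtain ⟨y, rfl⟩ := Ideal.mem_span_singleton'.mp (hp hx)
    have hy : y ∈ p := by
      rcases Ideal.IsPrime.mem_or_mem ‹p.IsPrime› hx with h | h
      · exact h
      · exact absurd h ht
    rw [mul_comm]
    exact Submodule.smul_mem_smul (Ideal.mem_span_singleton_self t) hy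
  obtain ⟨e, he1, he2⟩ := Submodule.exists_sub_one_mem_and_smul_eq_zero_of_fg_of_le_smul
    (Ideal.span {t}) p (IsNoetherian.noetherian p) hin
  exact ⟨e, he1, fun x hx => he2 x hx⟩

/-- a power of a prime nonzerodivisor dividing `a * b` with `p ∤ a` divides `b` -/
theorem pow_dvd_of_dvd_mul_left {p a b : A} (hp : Prime p) (hreg : p ∈ nonZeroDivisors A)
    (ha : ¬ p ∣ a) : ∀ n : ℕ, p ^ n ∣ a * b → p ^ n ∣ b := by
  intro n
  induction n with
  | zero => intro _; simp
  | succ n ih =>
    intro h
    obtain ⟨c, rfl⟩ := ih (dvd_trans (pow_dvd_pow p (Nat.le_succ n)) h)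
    obtain ⟨d, hd⟩ := h
    have h1 : p ^ n * (a * c) = p ^ n * (p * d) := by
      rw [← mul_assoc (p ^ n) p d, ← pow_succ, ← hd]; ring
    have h2 : a * c = p * d := by
      have hreg' : p ^ n ∈ nonZeroDivisors A := pow_mem hreg n
      have h3 : p ^ n * (a * c - p * d) = 0 := by rw [mul_sub, h1, sub_self]
      have h4 := (mul_left_mem_nonZeroDivisors_eq_zero_iff hreg').mp h3
      exact sub_eq_zero.mp h4
    have h5 : p ∣ a * c := ⟨d, h2⟩
    rcases hp.dvd_or_dvd h5 with h6 | h6
    · exact absurd h6 ha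
    · obtain ⟨c', rfl⟩ := h6
      exact ⟨c', by rw [pow_succ]; ring⟩

/-- products of powers of pairwise non-dividing primes (or units) dividing `f` -/
theorem prod_pow_dvd {ι : Type*} [DecidableEq ι] (S : Finset ι) (t : ι → A) (m : ι → ℕ)
    (hreg : ∀ i ∈ S, t i ∈ nonZeroDivisors A)
    (hpu : ∀ i ∈ S, Prime (t i) ∨ IsUnit (t i))
    (hnd : ∀ i ∈ S, ∀ j ∈ S, i ≠ j → Prime (t i) → Prime (t j) → ¬ t i ∣ t j) :
    ∀ f : A, (∀ i ∈ S, t i ^ m i ∣ f) → ∏ i ∈ S, t i ^ m i ∣ f := by
  induction S using Finset.induction_on with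
  | empty => intro f _; simp
  | insert i S' hi ih =>
    intro f hdvd
    rw [Finset.prod_insert hi]
    obtain ⟨f', rfl⟩ := hdvd i (Finset.mem_insert_self _ _)
    apply mul_dvd_mul_left
    apply ih
    · intro j hj; exact hreg j (Finset.mem_insert_of_mem hj)
    · intro j hj; exact hpu j (Finset.mem_insert_of_mem hj)
    · intro j hj k hk; exact hnd j (Finset.mem_insert_of_mem hj) k (Finset.mem_insert_of_mem hk)
    · intro j hj
      have hj' := hdvd j (Finset.mem_insert_of_mem hj)
      rcases hpu j (Finset.mem_insert_of_mem hj) with hjp | hju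
      · have hji : j ≠ i := fun h => hi (h ▸ hj)
        have hnd' : ¬ t j ∣ t i ^ m i := by
          intro h
          have h1 := hjp.dvd_of_dvd_pow h
          rcases hpu i (Finset.mem_insert_self _ _) with hip | hiu
          · exact hnd j (Finset.mem_insert_of_mem hj) i (Finset.mem_insert_self _ _) hji hjp hip h1
          · exact hjp.not_unit (isUnit_of_dvd_unit h1 hiu)
        exact pow_dvd_of_dvd_mul_left hjp (hreg j (Finset.mem_insert_of_mem hj)) hnd' _ hj'
      · exact (hju.pow _).dvd

/-- Krull intersection: an element divisible by all powers of `t` lies in every prime below `(t)` -/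
theorem mem_of_forall_pow_dvd [IsNoetherianRing A] (t f : A) (h : ∀ n : ℕ, t ^ n ∣ f)
    (q : Ideal A) [q.IsPrime] (hq : q ≤ Ideal.span {t}) (hne : Ideal.span {t} ≠ ⊤) : f ∈ q := by
  have hmem : f ∈ (⨅ i : ℕ, (Ideal.span {t}) ^ i • ⊤ : Submodule A A) := by
    rw [Submodule.mem_iInf]
    intro n
    obtain ⟨g, rfl⟩ := h n
    rw [Ideal.span_singleton_pow]
    have : t ^ n * g = t ^ n • g := rfl
    rw [this]
    exact Submodule.smul_mem_smul (Ideal.mem_span_singleton_self _) Submodule.mem_top
  obtain ⟨⟨r, hr⟩, hrf⟩ := (Ideal.mem_iInf_smul_pow_eq_bot_iff (Ideal.span {t}) f).mp hmem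
  have h1 : (1 - r) * f = 0 := by
    have : r * f = f := hrf
    rw [sub_mul, one_mul, this, sub_self]
  have h2 : (1 - r) * f ∈ q := by rw [h1]; exact q.zero_mem
  rcases Ideal.IsPrime.mem_or_mem ‹q.IsPrime› h2 with h3 | h3
  · exfalso
    apply hne
    rw [Ideal.eq_top_iff_one]
    have := Ideal.add_mem _ (hq h3) hr
    simpa using this
  · exact h3

end Groth.Agent.Helper3.CartAlg
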