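import Mathlib

open AlgebraicGeometry CategoryTheory CategoryTheory.Limits TopologicalSpace Opposite IsLocalRing

universe u

namespace Groth.Agent.Helper3.CurveTop

/-- in a scheme, if `dim O_{X,x₀} ≤ 1` and `y ⤳ x ⤳ x₀` with `x ≠ x₀` then `y = x` -/
theorem eq_of_specializes_of_dim_le_one {X : Scheme.{u}} (x₀ x y : X)
    (hdim : ringKrullDim (X.presheaf.stalk x₀) ≤ 1) (hyx : y ⤳ x) (hxx₀ : x ⤳ x₀)
    (hne : x ≠ x₀) : y = x := by
  have hyx₀ : y ⤳ x₀ := hyx.trans hxx₀
  obtain ⟨px, hpx⟩ : ∃ px : PrimeSpectrum (X.presheaf.stalk x₀), X.fromSpecStalk x₀ px = x := by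
    have : x ∈ Set.range (X.fromSpecStalk x₀) := by
      rw [Scheme.range_fromSpecStalk]; exact hxx₀
    exact this
  obtain ⟨py, hpy⟩ : ∃ py : PrimeSpectrum (X.presheaf.stalk x₀), X.fromSpecStalk x₀ py = y := by
    have : y ∈ Set.range (X.fromSpecStalk x₀) := by
      rw [Scheme.range_fromSpecStalk]; exact hyx₀
    exact this
  have hind : Topology.IsInducing (X.fromSpecStalk x₀) :=
    (X.fromSpecStalk x₀).isEmbedding.isInducing
  have hle : py ⤳ px := by
    have h := (hind.specializes_iff (x := py) (y := px)).mp (by rw [hpx, hpy]; exact hyx)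
    exact h
  haveI : Ring.KrullDimLE 1 (X.presheaf.stalk x₀) := Ring.krullDimLE_iff.mpr hdim
  have hle' : py ≤ px := (PrimeSpectrum.le_iff_specializes _ _).mpr hle
  rcases Ring.krullDimLE_one_iff.mp ‹_› px.asIdeal px.isPrime with hmin | hmax
  · have : px.asIdeal ≤ py.asIdeal := hmin.2 ⟨py.isPrime, bot_le⟩ hle'
    have heq : py = px := le_antisymm hle' this
    rw [← hpx, ← hpy, heq]
  · exfalso
    apply hne
    have h1 : px.asIdeal = maximalIdeal (X.presheaf.stalk x₀) := IsLocalRing.eq_maximalIdeal hmax
    have h2 : px = closedPoint (X.presheaf.stalk x₀) := PrimeSpectrum.ext h1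
    rw [← hpx, h2]
    exact Scheme.fromSpecStalk_closedPoint


/-- the stalk at a point without proper generizations has dimension `≤ 0` -/
theorem krullDimLE_zero_of_no_generization {X : Scheme.{u}} (x : X) (h : ∀ y, y ⤳ x → y = x) :
    Ring.KrullDimLE 0 (X.presheaf.stalk x) := by
  refine Ring.KrullDimLE.mk₀ fun I hI => ?_
  let p : PrimeSpectrum (X.presheaf.stalk x) := ⟨I, hI⟩
  have h1 : X.fromSpecStalk x p ⤳ x := by
    have : X.fromSpecStalk x p ∈ Set.range (X.fromSpecStalk x) := ⟨p, rfl⟩
    rwa [Scheme.range_fromSpecStalk] at this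
  have h2 := h _ h1
  have h3 : X.fromSpecStalk x p = X.fromSpecStalk x (closedPoint (X.presheaf.stalk x)) := by
    rw [h2]; exact Scheme.fromSpecStalk_closedPoint.symm
  have h4 : p = closedPoint (X.presheaf.stalk x) :=
    (X.fromSpecStalk x).isEmbedding.injective h3
  have : I = maximalIdeal (X.presheaf.stalk x) := congrArg PrimeSpectrum.asIdeal h4
  rw [this]; exact maximalIdeal.isMaximal _

/-- topology of an irreducible curve -/
theorem curve_top {X : Scheme.{u}} [IrreducibleSpace X] [NoetherianSpace X]
    (hcurve : ∀ x : X, IsClosed ({x} : Set X) → ringKrullDim (X.presheaf.stalk x) = 1) :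
    (¬ IsClosed ({genericPoint X} : Set X)) ∧
    (∀ x : X, ¬ IsClosed ({x} : Set X) → x = genericPoint X) ∧
      ∀ F : Set X, IsClosed F → (F ≠ Set.univ ↔ (F.Finite ∧ ∀ x ∈ F, IsClosed ({x} : Set X))) := by
  have hη : ¬ IsClosed ({genericPoint X} : Set X) := by
    intro hcl
    have h1 := hcurve _ hcl
    haveI := krullDimLE_zero_of_no_generization (genericPoint X) (fun y hy =>
      (hy.antisymm (genericPoint_specializes y)).eq)
    have h2 : ringKrullDim (X.presheaf.stalk (genericPoint X)) ≤ 0 :=
      Ring.krullDimLE_iff.mp ‹_›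
    rw [h1] at h2
    exact absurd h2 (by decide)
  have ha : ∀ x : X, ¬ IsClosed ({x} : Set X) → x = genericPoint X := by
    intro x hx
    obtain ⟨x₀, hx₀, hx₀c⟩ := (isClosed_closure (s := ({x} : Set X))).exists_closed_singleton
      ⟨x, subset_closure rfl⟩
    have hxx₀ : x ⤳ x₀ := specializes_iff_mem_closure.mpr hx₀
    have hne : x ≠ x₀ := fun h => hx (h ▸ hx₀c)
    exact (eq_of_specializes_of_dim_le_one x₀ x (genericPoint X) (hcurve x₀ hx₀c).le
      (genericPoint_specializes x) hxx₀ hne).symm
  refine ⟨hη, ha, ?_⟩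
  intro F hF
  constructor
  · intro hne
    have hηF : genericPoint X ∉ F := by
      intro h
      apply hne
      have : closure ({genericPoint X} : Set X) ⊆ F := hF.closure_subset_iff.mpr (by simpa using h)
      rw [(genericPoint_spec X).def] at this
      exact Set.eq_univ_of_univ_subset this
    have hcl : ∀ x ∈ F, IsClosed ({x} : Set X) := by
      intro x hx
      by_contra h
      exact hηF (ha x h ▸ hx)
    refine ⟨?_, hcl⟩
    obtain ⟨S, hSfin, hSirr, hS⟩ :=
      NoetherianSpace.exists_finite_set_closeds_irreducible (⟨F, hF⟩ : Closeds X)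
    have hFeq : F = ⋃ t ∈ S, (t : Set X) := by
      have := congrArg (fun c : Closeds X => (c : Set X)) hS
      simp only [Closeds.coe_mk] at this
      rw [this]
      simp only [Closeds.coe_sSup, Set.sUnion_image]
      exact (hSfin.isClosed_biUnion fun t _ => t.2).closure_eq
    rw [hFeq]
    refine hSfin.biUnion fun t ht => ?_
    have hirr := hSirr t ht
    obtain ⟨z, hz⟩ := QuasiSober.sober hirr t.2
    have hzt : z ∈ (t : Set X) := hz.mem
    have hzF : z ∈ F := by
      rw [hFeq]; exact Set.mem_biUnion ht hzt
    have : (t : Set X) = {z} := by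
      rw [← hz.def, (hcl z hzF).closure_eq]
    rw [this]
    exact Set.finite_singleton z
  · rintro ⟨hfin, hcl⟩ heq
    exact hη (hcl _ (heq ▸ Set.mem_univ _))


/-- a scheme of finite type over a field is a Noetherian space -/
theorem noetherianSpace_of_finiteType (k : Type u) [Field k] (X : Scheme.{u})
    (p : X ⟶ Spec (CommRingCat.of k)) [LocallyOfFiniteType p] [QuasiCompact p] :
    NoetherianSpace X := by
  haveI : IsLocallyNoetherian (Spec (CommRingCat.of k)) := isLocallyNoetherian_Spec.mpr
    (inferInstanceAs (IsNoetherianRing k))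
  haveI : IsLocallyNoetherian X := LocallyOfFiniteType.isLocallyNoetherian p
  haveI : CompactSpace X := QuasiCompact.compactSpace_of_compactSpace p
  haveI : IsNoetherian X := {}
  infer_instance

/-- S4443 -/
theorem s4443 (k : Type u) [Field k] (X : Scheme.{u})
    (p : X ⟶ Spec (CommRingCat.of k)) [LocallyOfFiniteType p] [QuasiCompact p]
    [IrreducibleSpace X]
    (hcurve : ∀ x : X, IsClosed ({x} : Set X) → ringKrullDim (X.presheaf.stalk x) = 1) :
    (∀ x : X, ¬ IsClosed ({x} : Set X) → x = genericPoint X) ∧
      ∀ F : Set X, IsClosed F →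
        (F ≠ Set.univ ↔ (F.Finite ∧ ∀ x ∈ F, IsClosed ({x} : Set X))) := by
  haveI := noetherianSpace_of_finiteType k X p
  exact (curve_top hcurve).2


/-- S2346 -/
theorem s2346 (k : Type u) [Field k] (X Y : Scheme.{u})
    (p : X ⟶ Spec (CommRingCat.of k)) (q : Y ⟶ Spec (CommRingCat.of k))
    [LocallyOfFiniteType p] [QuasiCompact p] [LocallyOfFiniteType q] [QuasiCompact q]
    [IrreducibleSpace X] [IrreducibleSpace Y]
    (hX : ∀ x : X, IsClosed ({x} : Set X) → ringKrullDim (X.presheaf.stalk x) = 1)
    (hY : ∀ x : Y, IsClosed ({x} : Set Y) → ringKrullDim (Y.presheaf.stalk x) = 1)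
    (f : X ⟶ Y) (hf : f ≫ q = p) :
    IsDominant f ↔ ∀ y : Y, (f.base ⁻¹' {y}).Finite := by
  haveI := noetherianSpace_of_finiteType k X p
  haveI := noetherianSpace_of_finiteType k Y q
  obtain ⟨hηX, haX, hbX⟩ := curve_top hX
  obtain ⟨hηY, haY, hbY⟩ := curve_top hY
  haveI : LocallyOfFiniteType (f ≫ q) := hf ▸ inferInstance
  haveI : LocallyOfFiniteType f := locallyOfFiniteType_of_comp f q
  haveI : JacobsonSpace Y := LocallyOfFiniteType.jacobsonSpace q
  haveI : JacobsonSpace X := LocallyOfFiniteType.jacobsonSpace p
  -- the image of `f` lies in the closure of the image of the generic point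
  have hrange : Set.range f ⊆ closure ({f (genericPoint X)} : Set Y) := by
    rintro _ ⟨x, rfl⟩
    have : genericPoint X ⤳ x := genericPoint_specializes x
    exact specializes_iff_mem_closure.mp (this.map f.continuous)
  constructor
  · intro hdom
    have hgen : f (genericPoint X) = genericPoint Y := by
      have h1 : closure ({f (genericPoint X)} : Set Y) = Set.univ := by
        have h2 : closure (Set.range f) = Set.univ := f.denseRange.closure_range
        have h3 : closure (Set.range f) ⊆ closure ({f (genericPoint X)} : Set Y) :=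
          closure_minimal hrange isClosed_closure
        rw [h2] at h3
        exact Set.eq_univ_of_univ_subset h3
      have hg1 : IsGenericPoint (f (genericPoint X)) (⊤ : Set Y) := h1
      exact hg1.eq (genericPoint_spec Y)
    intro y
    by_cases hy : y = genericPoint Y
    · refine (Set.finite_singleton (genericPoint X)).subset ?_
      intro x hx
      have hx' : f x = y := hx
      by_contra hne
      have hxc : IsClosed ({x} : Set X) := by
        by_contra h
        exact hne (haX x h)
      have := f.closePoints_subset_preimage_closedPoints hxc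
      have hyc : IsClosed ({f x} : Set Y) := this
      rw [hx', hy] at hyc
      exact hηY hyc
    · have hyc : IsClosed ({y} : Set Y) := by
        by_contra h
        exact hy (haY y h)
      have hF : IsClosed (f.base ⁻¹' {y}) := hyc.preimage f.continuous
      refine ((hbX _ hF).mp ?_).1
      intro heq
      have : genericPoint X ∈ f.base ⁻¹' {y} := heq ▸ Set.mem_univ _
      have h2 : f (genericPoint X) = y := this
      exact hy (h2 ▸ hgen)
  · intro hfin
    by_contra hnd
    set y₀ := f (genericPoint X) with hy₀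
    have hne : closure ({y₀} : Set Y) ≠ Set.univ := by
      intro h
      apply hnd
      refine ⟨?_⟩
      rw [DenseRange, dense_iff_closure_eq]
      apply Set.eq_univ_of_univ_subset
      rw [← h]
      exact closure_mono (Set.singleton_subset_iff.mpr ⟨_, rfl⟩)
    obtain ⟨-, hcl⟩ := (hbY _ isClosed_closure).mp hne
    have hy₀c : IsClosed ({y₀} : Set Y) := hcl y₀ (subset_closure rfl)
    have huniv : f.base ⁻¹' {y₀} = Set.univ := by
      apply Set.eq_univ_of_univ_subset
      intro x _
      have := hrange ⟨x, rfl⟩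
      rw [hy₀c.closure_eq] at this
      exact this
    have hXfin : (Set.univ : Set X).Finite := huniv ▸ hfin y₀
    haveI : DiscreteTopology X := JacobsonSpace.discreteTopology (hXfin.subset (Set.subset_univ _))
    exact hηX isClosed_singleton

end Groth.Agent.Helper3.CurveTop
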