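import Groth.Agent.Helper3.BirNormal
import Groth.Agent.Helper3.CurveTop
import Groth.Agent.Helper5.EtDim
import Groth.Agent.Helper5.ConstrCurve

open AlgebraicGeometry CategoryTheory CategoryTheory.Limits TopologicalSpace Opposite IsLocalRing

universe u

namespace Groth.Agent.Helper3.CurveFlat

/-- dimension of a stalk is at most the dimension of the scheme -/
theorem ringKrullDim_stalk_le (X : Scheme.{u}) (x : X) :
    ringKrullDim (X.presheaf.stalk x) ≤ topologicalKrullDim X := by
  rw [ringKrullDim_stalk_eq_coheight, Groth.Agent.Helper5.EtDim.topologicalKrullDim_eq_iSup_coheight]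
  exact le_iSup (fun x : X => ((Order.coheight x : ℕ∞) : WithBot ℕ∞)) x

/-- generization maps of stalks of an integral scheme are injective -/
theorem stalkSpecializes_injective (Y : Scheme.{u}) [IsIntegral Y] {y' y : Y} (h : y' ⤳ y) :
    Function.Injective (Y.presheaf.stalkSpecializes h) := by
  have h1 : Y.presheaf.stalkSpecializes h ≫
      Y.presheaf.stalkSpecializes (genericPoint_specializes y') =
      Y.presheaf.stalkSpecializes (genericPoint_specializes y) :=
    Y.presheaf.stalkSpecializes_comp _ _
  have h2 : Function.Injective (Y.presheaf.stalkSpecializes (genericPoint_specializes y)) :=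
    IsFractionRing.injective (Y.presheaf.stalk y) Y.functionField
  rw [← h1] at h2
  exact Function.Injective.of_comp h2

theorem isField_stalk_of_eq_genericPoint (Y : Scheme.{u}) [IsIntegral Y] :
    ∀ y' : Y, y' = genericPoint Y → IsField (Y.presheaf.stalk y') := by
  rintro _ rfl
  exact Field.toIsField Y.functionField


/-- S0220 -/
theorem s0220 (k : Type u) [Field k] (X Y : Scheme.{u})
    (q : Y ⟶ Spec (CommRingCat.of k))
    [IsIntegral X] [IsIntegral Y] [LocallyOfFiniteType q] [QuasiCompact q]
    (hY : topologicalKrullDim Y = 1)
    (hN : ∀ y : Y, IsDomain (Y.presheaf.stalk y) ∧ IsIntegrallyClosed (Y.presheaf.stalk y))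
    (f : X ⟶ Y) (hnc : (Set.range f.base).Nontrivial) :
    Flat f := by
  haveI := CurveTop.noetherianSpace_of_finiteType k Y q
  haveI : IsLocallyNoetherian (Spec (CommRingCat.of k)) := isLocallyNoetherian_Spec.mpr
    (inferInstanceAs (IsNoetherianRing k))
  haveI : IsLocallyNoetherian Y := LocallyOfFiniteType.isLocallyNoetherian q
  have hgen : f (genericPoint X) = genericPoint Y := by
    by_contra hne
    have hcl := Groth.Agent.Helper5.ConstrCurve.isClosed_singleton_of_ne hY.le _ hne
    have hrange : Set.range f ⊆ {f (genericPoint X)} := by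
      rintro _ ⟨x, rfl⟩
      have h1 : genericPoint X ⤳ x := genericPoint_specializes x
      have h2 := specializes_iff_mem_closure.mp (h1.map f.continuous)
      rwa [hcl.closure_eq] at h2
    exact Set.not_subsingleton_iff.mpr hnc (Set.subsingleton_singleton.anti hrange)
  apply Flat.of_stalkMap
  intro x
  obtain ⟨hdom, hic⟩ := hN (f x)
  haveI : IsNoetherianRing (Y.presheaf.stalk (f x)) := inferInstance
  have hval : ValuationRing (Y.presheaf.stalk (f x)) :=
    BirNormal.valuationRing_of_normal _ ((ringKrullDim_stalk_le Y (f x)).trans hY.le)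
  -- injectivity of the stalk map
  have hinj : Function.Injective (f.stalkMap x).hom := by
    have hsp : genericPoint X ⤳ x := genericPoint_specializes x
    have hnat := f.stalkSpecializes_stalkMap _ _ hsp
    have hF := isField_stalk_of_eq_genericPoint Y _ hgen
    have hinj1 : Function.Injective (f.stalkMap (genericPoint X)).hom := by
      letI := hF.toField
      exact (f.stalkMap (genericPoint X)).hom.injective
    have hinj2 := stalkSpecializes_injective Y (hsp.map f.continuous)
    have hcomp : Function.Injective
        (Y.presheaf.stalkSpecializes (hsp.map f.continuous) ≫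
          f.stalkMap (genericPoint X)).hom := by
      rw [CommRingCat.hom_comp]
      exact hinj1.comp hinj2
    rw [hnat, CommRingCat.hom_comp] at hcomp
    exact Function.Injective.of_comp hcomp
  letI : Algebra (Y.presheaf.stalk (f x)) (X.presheaf.stalk x) := (f.stalkMap x).hom.toAlgebra
  show Module.Flat (Y.presheaf.stalk (f x)) (X.presheaf.stalk x)
  rw [Module.Flat.flat_iff_torsion_eq_bot_of_isBezout, Submodule.eq_bot_iff]
  intro m hm
  obtain ⟨a, ha⟩ := (Submodule.mem_torsion_iff m).mp hm
  have ha' : (f.stalkMap x).hom (a : Y.presheaf.stalk (f x)) * m = 0 := ha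
  rcases mul_eq_zero.mp ha' with h | h
  · exfalso
    have : (a : Y.presheaf.stalk (f x)) = 0 := hinj (by rw [h, map_zero])
    exact nonZeroDivisors.coe_ne_zero a this
  · exact h

end Groth.Agent.Helper3.CurveFlat
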