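import Mathlib
import Groth.Agent.Helper3.CurveFlat

set_option autoImplicit false
set_option linter.style.haveILetI false
set_option linter.unusedSectionVars false
set_option linter.unusedVariables false
set_option linter.deprecated false
set_option linter.style.haveILetI false
set_option linter.unusedSectionVars false
set_option linter.unusedVariables false

universe u

open CategoryTheory CategoryTheory.Limits AlgebraicGeometry TopologicalSpace Opposite

namespace Groth.Agent.Helper3.Dim1Top

/-- every point is a specialization of a generic point -/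
theorem exists_generic_specializes {α : Type*} [TopologicalSpace α] [QuasiSober α] (y : α) :
    ∃ η ∈ genericPoints α, η ⤳ y := by
  let Z : irreducibleComponents α := ⟨_, irreducibleComponent_mem_irreducibleComponents y⟩
  refine ⟨(genericPoints.ofComponent Z).1, (genericPoints.ofComponent Z).2, ?_⟩
  rw [specializes_iff_mem_closure]
  have h := genericPoints.isGenericPoint_ofComponent Z
  rw [h.def]
  exact mem_irreducibleComponent

/-- an open set containing the generic points is dense -/
theorem dense_of_genericPoints_subset {α : Type*} [TopologicalSpace α] [QuasiSober α]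
    (O : Set α) (hO : IsOpen O) (h : genericPoints α ⊆ O) : Dense O := by
  intro y
  obtain ⟨η, hη, hηy⟩ := exists_generic_specializes y
  exact closure_mono (Set.singleton_subset_iff.mpr (h hη)) (specializes_iff_mem_closure.mp hηy)

/-- a Noetherian quasi-sober `T₁` space is finite -/
theorem finite_of_t1 (α : Type*) [TopologicalSpace α] [NoetherianSpace α] [QuasiSober α]
    [T1Space α] : Finite α := by
  have hfin := NoetherianSpace.finite_irreducibleComponents (α := α)
  have hcov := sUnion_irreducibleComponents (X := α)
  have hZ : ∀ Z ∈ irreducibleComponents α, Z.Finite := by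
    intro Z hZ
    obtain ⟨x, hx⟩ := QuasiSober.sober hZ.1 (isClosed_of_mem_irreducibleComponents Z hZ)
    rw [← hx.def, closure_singleton]
    exact Set.finite_singleton x
  have : (Set.univ : Set α).Finite := by
    rw [← hcov]
    exact hfin.sUnion hZ
  exact Set.finite_univ_iff.mp this

/-- In a scheme with local rings of dimension `≤ 1`, a point outside an open containing the generic
points has no proper specialization. -/
theorem eq_of_specializes (Y : Scheme.{u}) (O : Y.Opens) (hO : genericPoints Y ⊆ (O : Set Y))
    (hdim : ∀ y : Y, ringKrullDim (Y.presheaf.stalk y) ≤ 1) {z y : Y} (hz : z ∉ O)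
    (hzy : z ⤳ y) : z = y := by
  obtain ⟨η, hη, hηz⟩ := exists_generic_specializes z
  have hηne : η ≠ z := fun h => hz (h ▸ hO hη)
  have hz' : z ∈ Set.range (Y.fromSpecStalk y) := by
    rw [Scheme.range_fromSpecStalk]; exact hzy
  have hη' : η ∈ Set.range (Y.fromSpecStalk y) := by
    rw [Scheme.range_fromSpecStalk]; exact hηz.trans hzy
  obtain ⟨qz, rfl⟩ := hz'
  obtain ⟨qη, rfl⟩ := hη'
  let qz' : PrimeSpectrum (Y.presheaf.stalk y) := qz
  let qη' : PrimeSpectrum (Y.presheaf.stalk y) := qη
  have hle : qη' ≤ qz' :=
    (PrimeSpectrum.le_iff_specializes qη' qz').mpr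
      ((Y.fromSpecStalk y).isEmbedding.isInducing.specializes_iff.mp hηz)
  have h1 : Ring.KrullDimLE 1 (Y.presheaf.stalk y) := Ring.krullDimLE_iff.mpr (hdim y)
  rw [Ring.krullDimLE_one_iff] at h1
  rcases h1 qz'.asIdeal qz'.isPrime with h | h
  · exfalso
    apply hηne
    have : qz'.asIdeal ≤ qη'.asIdeal := h.2 ⟨qη'.isPrime, bot_le⟩ hle
    have heq : qη' = qz' := PrimeSpectrum.ext (le_antisymm hle this)
    exact congrArg (Y.fromSpecStalk y) heq
  · have heq : qz' = IsLocalRing.closedPoint (Y.presheaf.stalk y) :=
      PrimeSpectrum.ext (IsLocalRing.eq_maximalIdeal h)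
    have h2 : Y.fromSpecStalk y qz' = y := by
      rw [heq]; exact Scheme.fromSpecStalk_closedPoint
    exact h2

/-- the complement of an open containing the generic points is discrete, in a Noetherian scheme of
dimension `≤ 1` -/
theorem discreteTopology_compl (Y : Scheme.{u}) [IsNoetherian Y] (O : Y.Opens)
    (hO : genericPoints Y ⊆ (O : Set Y)) (hdim : topologicalKrullDim Y ≤ 1) :
    DiscreteTopology ↥((O : Set Y)ᶜ) := by
  have hdim' : ∀ y : Y, ringKrullDim (Y.presheaf.stalk y) ≤ 1 := fun y =>
    (Groth.Agent.Helper3.CurveFlat.ringKrullDim_stalk_le Y y).trans hdim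
  have hcl : IsClosed ((O : Set Y)ᶜ) := O.isOpen.isClosed_compl
  haveI : QuasiSober ↥((O : Set Y)ᶜ) := hcl.isClosedEmbedding_subtypeVal.quasiSober
  haveI : NoetherianSpace ↥((O : Set Y)ᶜ) := inferInstance
  haveI : T1Space ↥((O : Set Y)ᶜ) := by
    rw [t1Space_iff_specializes_imp_eq]
    intro a b hab
    apply Subtype.ext
    exact eq_of_specializes Y O hO hdim' a.2 (Topology.IsInducing.subtypeVal.specializes_iff.mpr hab)
  haveI := finite_of_t1 ↥((O : Set Y)ᶜ)
  infer_instance

end Groth.Agent.Helper3.Dim1Top
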