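import Mathlib
import Groth.Agent.Helper1.FinFib
import Groth.Agent.Helper4.StalkDict

set_option autoImplicit false
set_option linter.style.haveILetI false
set_option linter.unusedSectionVars false
set_option linter.unusedVariables false
set_option linter.deprecated false
set_option linter.style.haveILetI false
set_option linter.unusedSectionVars false
set_option linter.unusedVariables false

universe u
open CategoryTheory CategoryTheory.Limits AlgebraicGeometry TopologicalSpace

namespace Groth.Agent.Helper3.DimOneAff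

/-- In a ring whose localization at `p` is Noetherian of dimension `≤ 1`, the open `⋃ D(f)`
(`f ∈ s ⊆ p` finite) coincides with a principal open `D(a)` on a principal neighbourhood `D(h)`
of `p`. -/
theorem algebra_key {B : Type u} [CommRing B] (p : Ideal B) [p.IsPrime] (C : Type u) [CommRing C]
    [Algebra B C] [IsLocalization.AtPrime C p] [IsNoetherianRing C] (hdim : ringKrullDim C ≤ 1)
    (s : Set B) (hs : s.Finite) (hsp : s ⊆ p) :
    ∃ a h : B, h ∉ p ∧ ∀ 𝔶 : Ideal B, 𝔶.IsPrime → h ∉ 𝔶 → (a ∉ 𝔶 ↔ ∃ f ∈ s, f ∉ 𝔶) := by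
  classical
  haveI : IsLocalRing C := IsLocalization.AtPrime.isLocalRing C p
  set I : Ideal B := Ideal.span s with hI
  set IC : Ideal C := I.map (algebraMap B C) with hIC
  have hICm : IC ≤ IsLocalRing.maximalIdeal C := by
    rw [← IsLocalization.AtPrime.map_eq_maximalIdeal p C]
    exact Ideal.map_mono (Ideal.span_le.mpr hsp)
  have hfinmin : (minimalPrimes C).Finite := minimalPrimes.finite_of_isNoetherianRing C
  let T : Finset (Ideal C) := hfinmin.toFinset.filter (fun η => ¬ IC ≤ η)
  obtain ⟨g, hgI, hgT⟩ : ∃ g ∈ IC, ∀ η ∈ T, g ∉ η := by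
    by_contra hcon
    push Not at hcon
    have hsub : (IC : Set C) ⊆ ⋃ η ∈ (T : Set (Ideal C)), ((id η : Ideal C) : Set C) := by
      intro x hx
      obtain ⟨η, hη, hxη⟩ := hcon x hx
      simp only [Set.mem_iUnion]
      exact ⟨η, hη, hxη⟩
    rw [Ideal.subset_union_prime (f := id) ⊥ ⊥] at hsub
    · obtain ⟨η, hηT, hle⟩ := hsub
      exact (Finset.mem_filter.mp hηT).2 hle
    · intro η hη _ _
      exact ((hfinmin.mem_toFinset.mp (Finset.mem_filter.mp hη).1)).1.1
  have hmht : (IsLocalRing.maximalIdeal C).height ≤ 1 := by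
    have h1 := IsLocalRing.maximalIdeal_height_eq_ringKrullDim (R := C)
    rw [← h1] at hdim
    exact_mod_cast hdim
  have hprime : ∀ Q : Ideal C, Q.IsPrime → g ∈ Q → IC ≤ Q := by
    intro Q hQ hgQ
    by_contra hnot
    have hQm : Q ≠ IsLocalRing.maximalIdeal C := fun h => hnot (h ▸ hICm)
    have hlt : Q < IsLocalRing.maximalIdeal C :=
      lt_of_le_of_ne (IsLocalRing.le_maximalIdeal hQ.ne_top) hQm
    have hht : Q.height = 0 := by
      have h1 := Ideal.height_strict_mono_of_isPrime hlt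
      have h2 : Q.height < 1 := lt_of_lt_of_le h1 hmht
      exact ENat.lt_one_iff_eq_zero.mp h2
    have hQmin : Q ∈ minimalPrimes C := Ideal.height_eq_zero_iff.mp hht
    exact hgT Q (Finset.mem_filter.mpr ⟨hfinmin.mem_toFinset.mpr hQmin, hnot⟩) hgQ
  have hrad : IC ≤ (Ideal.span {g}).radical := by
    rw [Ideal.radical_eq_sInf]
    apply le_sInf
    rintro Q ⟨hgQ, hQ⟩
    exact hprime Q hQ (hgQ (Ideal.mem_span_singleton_self g))
  obtain ⟨⟨a, s0⟩, hgs⟩ := IsLocalization.surj p.primeCompl g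
  simp only at hgs
  have hs0u : IsUnit (algebraMap B C s0) := IsLocalization.map_units C s0
  have hspan : Ideal.span {algebraMap B C a} = Ideal.span {g} := by
    rw [← hgs]
    exact Ideal.span_singleton_mul_right_unit hs0u g
  have haIC : algebraMap B C a ∈ IC := by
    rw [← hgs]
    exact IC.mul_mem_right _ hgI
  obtain ⟨s1, hs1, hs1a⟩ :=
    (IsLocalization.algebraMap_mem_map_algebraMap_iff p.primeCompl C I a).mp haIC
  have hmapspan : (Ideal.span {a}).map (algebraMap B C) = Ideal.span {algebraMap B C a} := by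
    rw [Ideal.map_span, Set.image_singleton]
  have key : ∀ f : B, ∃ m : B, m ∉ p ∧ (f ∈ s → ∃ N : ℕ, m * f ^ N ∈ Ideal.span {a}) := by
    intro f
    by_cases hf : f ∈ s
    · have h1 : algebraMap B C f ∈ IC := Ideal.mem_map_of_mem _ (Ideal.subset_span hf)
      obtain ⟨N, hN⟩ := hrad h1
      rw [← hspan, ← hmapspan, ← map_pow] at hN
      obtain ⟨m, hm, hmN⟩ :=
        (IsLocalization.algebraMap_mem_map_algebraMap_iff p.primeCompl C _ _).mp hN
      exact ⟨m, hm, fun _ => ⟨N, hmN⟩⟩
    · exact ⟨1, fun h => ‹p.IsPrime›.ne_top ((Ideal.eq_top_iff_one p).mpr h), fun h => absurd h hf⟩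
  choose m hmp hmN using key
  refine ⟨a, s1 * ∏ f ∈ hs.toFinset, m f, ?_, ?_⟩
  · intro hmem
    rcases ‹p.IsPrime›.mem_or_mem hmem with h | h
    · exact hs1 h
    · obtain ⟨f, -, hf⟩ := Ideal.IsPrime.prod_mem_iff.mp h
      exact hmp f hf
  · intro 𝔶 h𝔶 hh
    have hs1y : s1 ∉ 𝔶 := fun h => hh (𝔶.mul_mem_right _ h)
    have hmy : ∀ f ∈ s, m f ∉ 𝔶 := by
      intro f hf hmf
      apply hh
      apply 𝔶.mul_mem_left
      exact Ideal.mem_of_dvd 𝔶 (Finset.dvd_prod_of_mem m (hs.mem_toFinset.mpr hf)) hmf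
    constructor
    · intro ha
      by_contra hcon
      push Not at hcon
      have hIy : I ≤ 𝔶 := Ideal.span_le.mpr hcon
      rcases h𝔶.mem_or_mem (hIy hs1a) with h | h
      · exact hs1y h
      · exact ha h
    · rintro ⟨f, hf, hfy⟩ hay
      obtain ⟨N, hN⟩ := hmN f hf
      obtain ⟨b, hb⟩ := Ideal.mem_span_singleton'.mp hN
      have : m f * f ^ N ∈ 𝔶 := by
        rw [← hb]
        exact 𝔶.mul_mem_left _ hay
      rcases h𝔶.mem_or_mem this with h | h
      · exact hmy f hf h
      · exact hfy (h𝔶.mem_of_pow_mem N h)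


open Groth.Agent.Helper4.StalkDict in
/-- A quasi-compact open of an affine scheme with Noetherian local rings of dimension `≤ 1` is
affine. -/
theorem isAffineOpen_of_isCompact (X : Scheme.{u}) [IsAffine X]
    (hX : ∀ x : X, IsNoetherianRing (X.presheaf.stalk x) ∧ ringKrullDim (X.presheaf.stalk x) ≤ 1)
    (U : X.Opens) (hU : IsCompact (U : Set X)) : IsAffineOpen U := by
  obtain ⟨s, hs, hUs⟩ :=
    isCompact_and_isOpen_iff_finite_and_eq_biUnion_basicOpen.mp ⟨hU, U.isOpen⟩
  have htop := isAffineOpen_top X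
  have hmemU : ∀ y : X, y ∈ U ↔ ∃ f ∈ s, f ∉ (htop.primeIdealOf ⟨y, trivial⟩).asIdeal := by
    intro y
    have h1 : y ∈ (U : Set X) ↔ y ∈ ⋃ i ∈ s, (X.basicOpen i : Set X) := by rw [hUs]
    simp only [Set.mem_iUnion, exists_prop] at h1
    rw [show y ∈ U ↔ y ∈ (U : Set X) from Iff.rfl, h1]
    constructor
    · rintro ⟨f, hf, h⟩
      exact ⟨f, hf, (mem_basicOpen_iff_notMem_primeIdealOf htop y trivial f).mp h⟩
    · rintro ⟨f, hf, h⟩
      exact ⟨f, hf, (mem_basicOpen_iff_notMem_primeIdealOf htop y trivial f).mpr h⟩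
  haveI : IsAffineHom U.ι := by
    apply isAffineHom_of_forall_exists_isAffineOpen
    intro x
    by_cases hxU : x ∈ U
    · obtain ⟨_, ⟨f, rfl⟩, hxf, hfU⟩ := Opens.isBasis_iff_nbhd.mp (isBasis_basicOpen X) hxU
      refine ⟨X.basicOpen f, hxf, htop.basicOpen f, ?_⟩
      rw [← U.ι.isAffineOpen_iff_of_isOpenImmersion, Scheme.Hom.image_preimage_eq_opensRange_inf,
        Scheme.Opens.opensRange_ι]
      have : U ⊓ X.basicOpen f = X.basicOpen f := inf_eq_right.mpr hfU
      rw [this]
      exact htop.basicOpen f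
    · letI := X.presheaf.algebra_section_stalk (⟨x, trivial⟩ : (⊤ : X.Opens))
      haveI := htop.isLocalization_stalk ⟨x, trivial⟩
      haveI := (hX x).1
      have hsp : s ⊆ (htop.primeIdealOf ⟨x, trivial⟩).asIdeal := by
        intro f hf
        by_contra hfx
        exact hxU ((hmemU x).mpr ⟨f, hf, hfx⟩)
      obtain ⟨a, h, hhp, hkey⟩ := algebra_key (htop.primeIdealOf ⟨x, trivial⟩).asIdeal
        (X.presheaf.stalk x) (hX x).2 s hs hsp
      refine ⟨X.basicOpen h, (mem_basicOpen_iff_notMem_primeIdealOf htop x trivial h).mpr hhp,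
        htop.basicOpen h, ?_⟩
      rw [← U.ι.isAffineOpen_iff_of_isOpenImmersion, Scheme.Hom.image_preimage_eq_opensRange_inf,
        Scheme.Opens.opensRange_ι]
      have : U ⊓ X.basicOpen h = X.basicOpen (a * h) := by
        ext y
        rw [Scheme.basicOpen_mul]
        simp only [Opens.coe_inf, Set.mem_inter_iff, SetLike.mem_coe]
        rw [mem_basicOpen_iff_notMem_primeIdealOf htop y trivial h,
          mem_basicOpen_iff_notMem_primeIdealOf htop y trivial a, hmemU y]
        constructor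
        · rintro ⟨h1, h2⟩
          exact ⟨(hkey _ (htop.primeIdealOf ⟨y, trivial⟩).isPrime h2).mpr h1, h2⟩
        · rintro ⟨h1, h2⟩
          exact ⟨(hkey _ (htop.primeIdealOf ⟨y, trivial⟩).isPrime h2).mp h1, h2⟩
      rw [this]
      exact htop.basicOpen _
  exact isAffine_of_isAffineHom U.ι


/-- On a scheme with Noetherian local rings of dimension `≤ 1`, every quasi-compact open immersion
is an affine morphism. -/
theorem isAffineHom_ι (X : Scheme.{u})
    (hX : ∀ x : X, IsNoetherianRing (X.presheaf.stalk x) ∧ ringKrullDim (X.presheaf.stalk x) ≤ 1)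
    (U : X.Opens) [QuasiCompact U.ι] : IsAffineHom U.ι := by
  constructor
  intro V hV
  rw [← U.ι.isAffineOpen_iff_of_isOpenImmersion, Scheme.Hom.image_preimage_eq_opensRange_inf,
    Scheme.Opens.opensRange_ι]
  haveI : IsAffine V.toScheme := hV
  let U' : V.toScheme.Opens := V.ι ⁻¹ᵁ U
  have hUVc : IsCompact ((U ⊓ V : X.Opens) : Set X) := by
    have h1 : IsCompact ((U.ι ⁻¹ᵁ V : U.toScheme.Opens) : Set U.toScheme) :=
      QuasiCompact.isCompact_preimage (f := U.ι) _ V.isOpen hV.isCompact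
    have h2 := h1.image U.ι.continuous
    have h3 : (U.ι '' ((U.ι ⁻¹ᵁ V : U.toScheme.Opens) : Set U.toScheme)) =
        ((U ⊓ V : X.Opens) : Set X) := by
      have := Scheme.Hom.image_preimage_eq_opensRange_inf U.ι V
      rw [Scheme.Opens.opensRange_ι] at this
      exact congrArg (fun W : X.Opens => (W : Set X)) this
    rw [h3] at h2
    exact h2
  have hU'c : IsCompact (U' : Set V.toScheme) := by
    have hind := V.ι.isOpenEmbedding.toIsEmbedding.isInducing
    have : (U' : Set V.toScheme) = V.ι ⁻¹' ((U ⊓ V : X.Opens) : Set X) := by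
      ext y
      simp only [U', Scheme.Hom.coe_preimage, Set.mem_preimage, Opens.coe_inf, Set.mem_inter_iff,
        SetLike.mem_coe]
      constructor
      · intro h
        exact ⟨h, y.2⟩
      · intro h
        exact h.1
    rw [this]
    apply hind.isCompact_preimage' hUVc
    intro y hy
    exact ⟨⟨y, hy.2⟩, rfl⟩
  have hX' : ∀ y : V.toScheme, IsNoetherianRing (V.toScheme.presheaf.stalk y) ∧
      ringKrullDim (V.toScheme.presheaf.stalk y) ≤ 1 := by
    intro y
    let e : X.presheaf.stalk (V.ι y) ≃+* V.toScheme.presheaf.stalk y :=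
      (asIso (V.ι.stalkMap y)).commRingCatIsoToRingEquiv
    obtain ⟨h1, h2⟩ := hX (V.ι y)
    exact ⟨isNoetherianRing_of_ringEquiv _ e, (ringKrullDim_eq_of_ringEquiv e) ▸ h2⟩
  have haff := isAffineOpen_of_isCompact V.toScheme hX' U' hU'c
  have h2 := haff.image_of_isOpenImmersion V.ι
  rw [Scheme.Hom.image_preimage_eq_opensRange_inf, Scheme.Opens.opensRange_ι, inf_comm] at h2
  exact h2

theorem isZero_Rpush (X : Scheme.{u})
    (hX : ∀ x : X, IsNoetherianRing (X.presheaf.stalk x) ∧ ringKrullDim (X.presheaf.stalk x) ≤ 1)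
    (U : X.Opens) [QuasiCompact U.ι] [HasInjectiveResolutions (U : Scheme.{u}).Modules]
    (F : (U : Scheme.{u}).Modules) [F.IsQuasicoherent] (p : ℕ) (hp : 0 < p) :
    IsZero ((Coh.Rpush U.ι p).obj F) := by
  haveI := isAffineHom_ι X hX U
  obtain ⟨q, rfl⟩ : ∃ q, p = q + 1 := ⟨p - 1, by omega⟩
  exact Groth.Agent.Helper1.FinFib.isZero_Rpush_of_isAffineHom U.ι F q

end Groth.Agent.Helper3.DimOneAff
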