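import Mathlib
import Groth.Agent.Helper3.DimOneAff

set_option autoImplicit false
set_option linter.style.haveILetI false
set_option linter.unusedSectionVars false
set_option linter.unusedVariables false
set_option linter.deprecated false
set_option linter.style.haveILetI false
set_option linter.unusedSectionVars false
set_option linter.unusedVariables false

universe u

open CategoryTheory CategoryTheory.Limits AlgebraicGeometry TopologicalSpace Opposite

namespace Groth.Agent.Helper3.DiscLocal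

open Groth.Agent.Helper4.StalkDict Groth.Agent.Helper3.DimOneAff

/-- Local structure of a retrocompact open with discrete complement at a point of the complement
whose local ring is Noetherian of dimension `≤ 1`: there is an affine neighbourhood `V` meeting the
complement only in `x`, on which `U` is a principal open. -/
theorem exists_local (X : Scheme.{u}) (U : X.Opens) [QuasiCompact U.ι]
    (hdisc : DiscreteTopology ↥((U : Set X)ᶜ)) (x : X) (hx : x ∉ U)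
    (hN : IsNoetherianRing (X.presheaf.stalk x)) (hd : ringKrullDim (X.presheaf.stalk x) ≤ 1) :
    ∃ (V : X.Opens) (a : Γ(X, V)), IsAffineOpen V ∧ x ∈ V ∧ (∀ y ∈ V, y ∉ U → y = x) ∧
      X.basicOpen a = V ⊓ U := by
  -- an open meeting the complement only in `x`
  have hx' : x ∈ (U : Set X)ᶜ := hx
  obtain ⟨O, hO, hOx⟩ : ∃ O : Set X, IsOpen O ∧
      (Subtype.val : ↥((U : Set X)ᶜ) → X) ⁻¹' O = {⟨x, hx'⟩} :=
    isOpen_induced_iff.mp (isOpen_discrete ({⟨x, hx'⟩} : Set ↥((U : Set X)ᶜ)))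
  have hxO : x ∈ O := by
    have : (⟨x, hx'⟩ : ↥((U : Set X)ᶜ)) ∈ (Subtype.val : ↥((U : Set X)ᶜ) → X) ⁻¹' O := by
      rw [hOx]; rfl
    exact this
  have hOU : ∀ y ∈ O, y ∉ U → y = x := by
    intro y hy hyU
    have : (⟨y, hyU⟩ : ↥((U : Set X)ᶜ)) ∈ (Subtype.val : ↥((U : Set X)ᶜ) → X) ⁻¹' O := hy
    rw [hOx] at this
    exact congrArg Subtype.val this
  obtain ⟨_, ⟨V₀, hV₀, rfl⟩, hxV₀, hV₀O⟩ :=
    (X.isBasis_affineOpens).exists_subset_of_mem_open hxO hO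
  -- `U ⊓ V₀` is compact, hence a finite union of basic opens
  have hcpt : IsCompact ((U ⊓ V₀ : X.Opens) : Set X) := by
    have h1 : IsCompact ((U.ι ⁻¹ᵁ V₀ : (↑U : Scheme.{u}).Opens) : Set ↑U) :=
      QuasiCompact.isCompact_preimage (f := U.ι) _ V₀.isOpen hV₀.isCompact
    have h2 := h1.image U.ι.continuous
    have h3 : (U.ι '' ((U.ι ⁻¹ᵁ V₀ : (↑U : Scheme.{u}).Opens) : Set ↑U)) =
        ((U ⊓ V₀ : X.Opens) : Set X) := by
      ext y
      constructor
      · rintro ⟨w, hw, rfl⟩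
        exact ⟨w.2, hw⟩
      · rintro ⟨hyU, hyV⟩
        exact ⟨⟨y, hyU⟩, hyV, rfl⟩
    rw [h3] at h2
    exact h2
  have hcov : ∀ y : (U ⊓ V₀ : X.Opens), ∃ f : Γ(X, V₀), X.basicOpen f ≤ U ⊓ V₀ ∧
      y.1 ∈ X.basicOpen f := fun y => hV₀.exists_basicOpen_le y y.2.2
  choose f hfle hfy using hcov
  obtain ⟨t, ht⟩ := hcpt.elim_finite_subcover (fun y : (U ⊓ V₀ : X.Opens) => (X.basicOpen (f y) : Set X))
    (fun y => (X.basicOpen (f y)).isOpen)
    (fun y hy => Set.mem_iUnion.mpr ⟨⟨y, hy⟩, hfy ⟨y, hy⟩⟩)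
  classical
  let s : Set Γ(X, V₀) := f '' {w | w ∈ t}
  have hs : s.Finite := (t.finite_toSet).image f
  have hmemU : ∀ y ∈ V₀, (y ∈ U ↔ ∃ g ∈ s, y ∈ X.basicOpen g) := by
    intro y hyV
    constructor
    · intro hyU
      have := ht (⟨hyU, hyV⟩ : y ∈ ((U ⊓ V₀ : X.Opens) : Set X))
      simp only [Set.mem_iUnion] at this
      obtain ⟨w, hw, hyw⟩ := this
      exact ⟨f w, ⟨w, hw, rfl⟩, hyw⟩
    · rintro ⟨g, ⟨w, -, rfl⟩, hyg⟩
      exact (hfle w hyg).1
  letI := X.presheaf.algebra_section_stalk (⟨x, hxV₀⟩ : V₀)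
  haveI := hV₀.isLocalization_stalk ⟨x, hxV₀⟩
  have hsp : s ⊆ (hV₀.primeIdealOf ⟨x, hxV₀⟩).asIdeal := by
    intro g hg
    by_contra hgx
    exact hx ((hmemU x hxV₀).mpr
      ⟨g, hg, (mem_basicOpen_iff_notMem_primeIdealOf hV₀ x hxV₀ g).mpr hgx⟩)
  obtain ⟨a, h, hhp, hkey⟩ := algebra_key (hV₀.primeIdealOf ⟨x, hxV₀⟩).asIdeal
    (X.presheaf.stalk x) hd s hs hsp
  have hVle : X.basicOpen h ≤ V₀ := X.basicOpen_le h
  refine ⟨X.basicOpen h, X.presheaf.map (homOfLE hVle).op a, hV₀.basicOpen h,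
    (mem_basicOpen_iff_notMem_primeIdealOf hV₀ x hxV₀ h).mpr hhp,
    fun y hy hyU => hOU y (hV₀O (hVle hy)) hyU, ?_⟩
  rw [Scheme.basicOpen_res]
  ext y
  simp only [Opens.coe_inf, Set.mem_inter_iff, SetLike.mem_coe]
  constructor
  · rintro ⟨hyh, hya⟩
    refine ⟨hyh, ?_⟩
    have hyV := hVle hyh
    rw [hmemU y hyV]
    rw [mem_basicOpen_iff_notMem_primeIdealOf hV₀ y hyV] at hyh hya
    obtain ⟨g, hg, hgy⟩ := (hkey _ (hV₀.primeIdealOf ⟨y, hyV⟩).isPrime hyh).mp hya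
    exact ⟨g, hg, (mem_basicOpen_iff_notMem_primeIdealOf hV₀ y hyV g).mpr hgy⟩
  · rintro ⟨hyh, hyU⟩
    refine ⟨hyh, ?_⟩
    have hyV := hVle hyh
    obtain ⟨g, hg, hgy⟩ := (hmemU y hyV).mp hyU
    rw [mem_basicOpen_iff_notMem_primeIdealOf hV₀ y hyV] at hyh hgy ⊢
    exact (hkey _ (hV₀.primeIdealOf ⟨y, hyV⟩).isPrime hyh).mpr ⟨g, hg, hgy⟩

end Groth.Agent.Helper3.DiscLocal
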