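import Mathlib
import Groth.Agent.Helper1.SubProd
import Groth.Agent.Helper4.GenLoc

set_option autoImplicit false
set_option linter.style.haveILetI false
set_option linter.unusedSectionVars false
set_option linter.unusedVariables false
set_option linter.deprecated false
set_option linter.style.haveILetI false
set_option linter.unusedSectionVars false
set_option linter.unusedVariables false

universe u

open CategoryTheory CategoryTheory.Limits AlgebraicGeometry TopologicalSpace Opposite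

namespace Groth.Agent.Helper3.GlueInv

open Scheme.Modules

variable {X : Scheme.{u}}

/-- sections of a sheaf of modules are equal if they are locally equal -/
theorem eq_of_locally_eq (M : X.Modules) (T : X.Opens) (s t : Γ(M, T))
    (h : ∀ x ∈ T, ∃ (T' : X.Opens) (hT' : T' ≤ T), x ∈ T' ∧
      M.presheaf.map (homOfLE hT').op s = M.presheaf.map (homOfLE hT').op t) : s = t := by
  choose T' hT' hx hst using h
  exact TopCat.Sheaf.eq_of_locally_eq' (⟨M.presheaf, M.isSheaf⟩ : TopCat.Sheaf Ab X)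
    (fun x : T => T' x.1 x.2) T (fun x => homOfLE (hT' x.1 x.2))
    (fun x hxT => Opens.mem_iSup.mpr ⟨⟨x, hxT⟩, hx x hxT⟩) s t (fun x => hst x.1 x.2)

/-- restriction maps between equal opens are bijective -/
theorem map_bijective_of_eq (M : X.Modules) {T T' : X.Opens} (h : T' ≤ T) (h' : T ≤ T') :
    Function.Bijective (M.presheaf.map (homOfLE h).op) := by
  have e : T = T' := le_antisymm h' h
  subst e
  have : (homOfLE h).op = 𝟙 (op T) := rfl
  rw [this, M.presheaf.map_id]
  exact Function.bijective_id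

theorem presheaf_map_bijective_of_eq {T T' : X.Opens} (h : T' ≤ T) (h' : T ≤ T') :
    Function.Bijective (X.presheaf.map (homOfLE h).op) := by
  have e : T = T' := le_antisymm h' h
  subst e
  have : (homOfLE h).op = 𝟙 (op T) := rfl
  rw [this, X.presheaf.map_id]
  exact Function.bijective_id

variable (U : X.Opens) (M : X.Modules) {Z : Type u} (V : Z → X.Opens)

/-- pushforward of the structure sheaf of `V z` -/
noncomputable abbrev Rz (z : Z) : X.Modules :=
  (pushforward (V z).ι).obj (Coh.structureModule ↑(V z))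

theorem le_img (z : Z) (W T : X.Opens) (hT : T ≤ W ⊓ V z) :
    T ≤ (V z).ι ''ᵁ ((V z).ι ⁻¹ᵁ W) := by
  rw [Scheme.Hom.image_preimage_eq_opensRange_inf, Scheme.Opens.opensRange_ι]
  exact le_inf (hT.trans inf_le_right) (hT.trans inf_le_left)

theorem img_le (z : Z) (W : X.Opens) :
    (V z).ι ''ᵁ ((V z).ι ⁻¹ᵁ W) ≤ W ⊓ V z := by
  rw [Scheme.Hom.image_preimage_eq_opensRange_inf, Scheme.Opens.opensRange_ι]
  exact le_inf inf_le_right inf_le_left

/-- a section of `R z` over `W`, as a function on `X` over `T ≤ W ⊓ V z` -/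
noncomputable def resX (z : Z) (W T : X.Opens) (hT : T ≤ W ⊓ V z) (t : Γ(Rz V z, W)) : Γ(X, T) :=
  X.presheaf.map (homOfLE (le_img V z W T hT)).op
    (show Γ(X, (V z).ι ''ᵁ ((V z).ι ⁻¹ᵁ W)) from t)

theorem resX_zero (z : Z) (W T : X.Opens) (hT : T ≤ W ⊓ V z) :
    resX V z W T hT 0 = 0 :=
  map_zero (X.presheaf.map (homOfLE (le_img V z W T hT)).op).hom

theorem resX_add (z : Z) (W T : X.Opens) (hT : T ≤ W ⊓ V z) (t t' : Γ(Rz V z, W)) :
    resX V z W T hT (t + t') = resX V z W T hT t + resX V z W T hT t' :=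
  map_add (X.presheaf.map (homOfLE (le_img V z W T hT)).op).hom _ _

theorem resX_smul (z : Z) (W T : X.Opens) (hT : T ≤ W ⊓ V z) (r : Γ(X, W)) (t : Γ(Rz V z, W)) :
    resX V z W T hT (r • t) =
      X.presheaf.map (homOfLE (hT.trans inf_le_left)).op r * resX V z W T hT t := by
  have h1 : (r • t : Γ(Rz V z, W)) =
      (show Γ(X, (V z).ι ''ᵁ ((V z).ι ⁻¹ᵁ W)) from ((V z).ι.app W r)) *
        (show Γ(X, (V z).ι ''ᵁ ((V z).ι ⁻¹ᵁ W)) from t) := rfl
  unfold resX
  rw [h1]
  erw [map_mul]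
  congr 1
  rw [Scheme.Opens.ι_app]
  change (X.presheaf.map _ ≫ X.presheaf.map _) r = _
  rw [← X.presheaf.map_comp]
  rfl

theorem resX_map (z : Z) {W W' : X.Opens} (f : W' ⟶ W) (T : X.Opens) (hT : T ≤ W' ⊓ V z)
    (t : Γ(Rz V z, W)) :
    resX V z W' T hT ((Rz V z).presheaf.map f.op t) =
      resX V z W T (hT.trans (inf_le_inf_right _ f.le)) t := by
  unfold resX
  change (X.presheaf.map _ ≫ X.presheaf.map _) _ = _
  rw [← X.presheaf.map_comp]
  rfl

theorem map_resX (z : Z) (W T T' : X.Opens) (hT : T ≤ W ⊓ V z) (hT' : T' ≤ T)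
    (t : Γ(Rz V z, W)) :
    X.presheaf.map (homOfLE hT').op (resX V z W T hT t) = resX V z W T' (hT'.trans hT) t := by
  unfold resX
  change (X.presheaf.map _ ≫ X.presheaf.map _) _ = _
  rw [← X.presheaf.map_comp]
  rfl

theorem resX_bijective (z : Z) (W T : X.Opens) (hT : T ≤ W ⊓ V z) (hT' : W ⊓ V z ≤ T) :
    Function.Bijective (resX V z W T hT) :=
  presheaf_map_bijective_of_eq (le_img V z W T hT) ((img_le V z W).trans hT')


variable {U M V}
variable (e : ∀ z, Γ(M, V z ⊓ U))

theorem TW_le (z : Z) (W : X.Opens) : W ⊓ (V z ⊓ U) ≤ W ⊓ V z :=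
  inf_le_inf_left _ inf_le_left

/-- the gluing condition on a pair `(n, t)` over `W` -/
def Cond (W : X.Opens) (n : Γ(M, W)) (t : ∀ z, Γ(Rz V z, W)) : Prop :=
  ∀ z, M.presheaf.map (homOfLE (inf_le_left : W ⊓ (V z ⊓ U) ≤ W)).op n =
    resX V z W (W ⊓ (V z ⊓ U)) (TW_le z W) (t z) •
      M.presheaf.map (homOfLE (inf_le_right : W ⊓ (V z ⊓ U) ≤ V z ⊓ U)).op (e z)

theorem cond_zero (W : X.Opens) : Cond e W 0 (fun _ => 0) := by
  intro z
  rw [resX_zero, zero_smul]
  exact map_zero (M.presheaf.map _).hom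

theorem cond_add (W : X.Opens) (n n' : Γ(M, W)) (t t' : ∀ z, Γ(Rz V z, W))
    (h : Cond e W n t) (h' : Cond e W n' t') : Cond e W (n + n') (fun z => t z + t' z) := by
  intro z
  rw [resX_add, add_smul, ← h z, ← h' z]
  exact map_add (M.presheaf.map _).hom _ _

theorem cond_smul (W : X.Opens) (r : Γ(X, W)) (n : Γ(M, W)) (t : ∀ z, Γ(Rz V z, W))
    (h : Cond e W n t) : Cond e W (r • n) (fun z => r • t z) := by
  intro z
  rw [resX_smul, mul_smul, ← h z]
  exact Scheme.Modules.map_smul M _ r n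

theorem cond_res {W W' : X.Opens} (f : W' ⟶ W) (n : Γ(M, W)) (t : ∀ z, Γ(Rz V z, W))
    (h : Cond e W n t) :
    Cond e W' (M.presheaf.map f.op n) (fun z => (Rz V z).presheaf.map f.op (t z)) := by
  intro z
  have hle : W' ⊓ (V z ⊓ U) ≤ W ⊓ (V z ⊓ U) := inf_le_inf_right _ f.le
  have h1 := congrArg (M.presheaf.map (homOfLE hle).op) (h z)
  rw [Scheme.Modules.map_smul, map_resX] at h1
  rw [resX_map]
  have h2 : M.presheaf.map (homOfLE (inf_le_left : W' ⊓ (V z ⊓ U) ≤ W')).op
      (M.presheaf.map f.op n) =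
      M.presheaf.map (homOfLE hle).op
        (M.presheaf.map (homOfLE (inf_le_left : W ⊓ (V z ⊓ U) ≤ W)).op n) := by
    change (M.presheaf.map _ ≫ M.presheaf.map _) n = (M.presheaf.map _ ≫ M.presheaf.map _) n
    rw [← M.presheaf.map_comp, ← M.presheaf.map_comp]
    rfl
  have h3 : M.presheaf.map (homOfLE hle).op
      (M.presheaf.map (homOfLE (inf_le_right : W ⊓ (V z ⊓ U) ≤ V z ⊓ U)).op (e z)) =
      M.presheaf.map (homOfLE (inf_le_right : W' ⊓ (V z ⊓ U) ≤ V z ⊓ U)).op (e z) := by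
    change (M.presheaf.map _ ≫ M.presheaf.map _) (e z) = _
    rw [← M.presheaf.map_comp]
    rfl
  rw [h2, h1, h3]

theorem cond_loc (W : X.Opens) (n : Γ(M, W)) (t : ∀ z, Γ(Rz V z, W))
    (h : ∀ x ∈ W, ∃ (W' : X.Opens) (f : W' ⟶ W), x ∈ W' ∧
      Cond e W' (M.presheaf.map f.op n) (fun z => (Rz V z).presheaf.map f.op (t z))) :
    Cond e W n t := by
  intro z
  apply eq_of_locally_eq
  intro x hx
  obtain ⟨W', f, hxW', hc⟩ := h x hx.1
  have hle : W' ⊓ (V z ⊓ U) ≤ W ⊓ (V z ⊓ U) := inf_le_inf_right _ f.le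
  refine ⟨W' ⊓ (V z ⊓ U), hle, ⟨hxW', hx.2⟩, ?_⟩
  have h1 := hc z
  rw [resX_map] at h1
  rw [Scheme.Modules.map_smul, map_resX]
  have h2 : M.presheaf.map (homOfLE (inf_le_left : W' ⊓ (V z ⊓ U) ≤ W')).op
      (M.presheaf.map f.op n) =
      M.presheaf.map (homOfLE hle).op
        (M.presheaf.map (homOfLE (inf_le_left : W ⊓ (V z ⊓ U) ≤ W)).op n) := by
    change (M.presheaf.map _ ≫ M.presheaf.map _) n = (M.presheaf.map _ ≫ M.presheaf.map _) n
    rw [← M.presheaf.map_comp, ← M.presheaf.map_comp]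
    rfl
  have h3 : M.presheaf.map (homOfLE hle).op
      (M.presheaf.map (homOfLE (inf_le_right : W ⊓ (V z ⊓ U) ≤ V z ⊓ U)).op (e z)) =
      M.presheaf.map (homOfLE (inf_le_right : W' ⊓ (V z ⊓ U) ≤ V z ⊓ U)).op (e z) := by
    change (M.presheaf.map _ ≫ M.presheaf.map _) (e z) = _
    rw [← M.presheaf.map_comp]
    rfl
  rw [← h2, h1, h3]

variable (M V) in
/-- the family of modules -/
noncomputable def Q : Option Z → X.Modules := fun i => i.elim M (fun z => Rz V z)

/-- the first component -/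
def nOf {W : X.Opens} (σ : ∀ i, Γ(Q M V i, W)) : Γ(M, W) := σ none

/-- the other components -/
def tOf {W : X.Opens} (σ : ∀ i, Γ(Q M V i, W)) (z : Z) : Γ(Rz V z, W) := σ (some z)

/-- the local condition -/
noncomputable def lc : Groth.Agent.Helper1.SubProd.LocalCond (Q M V) where
  C W σ := Cond e W (nOf σ) (tOf σ)
  zero W := cond_zero e W
  add W σ σ' h h' := cond_add e W _ _ _ _ h h'
  smul W r σ h := cond_smul e W r _ _ h
  res f σ h := cond_res e f _ _ h
  loc W σ h := cond_loc e W _ _ h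


/-- the `z`-th gluing condition -/
def CondZ (W : X.Opens) (n : Γ(M, W)) (z : Z) (t : Γ(Rz V z, W)) : Prop :=
  M.presheaf.map (homOfLE (inf_le_left : W ⊓ (V z ⊓ U) ≤ W)).op n =
    resX V z W (W ⊓ (V z ⊓ U)) (TW_le z W) t •
      M.presheaf.map (homOfLE (inf_le_right : W ⊓ (V z ⊓ U) ≤ V z ⊓ U)).op (e z)

/-- assemble a family from its components -/
def mkσ {W : X.Opens} (n : Γ(M, W)) (t : ∀ z, Γ(Rz V z, W)) : ∀ i, Γ(Q M V i, W)
  | none => n
  | some z => t z

section

variable (he : ∀ (z : Z) (T : X.Opens) (hT : T ≤ V z ⊓ U),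
  Function.Bijective (fun r : Γ(X, T) => r • M.presheaf.map (homOfLE hT).op (e z)))

include he in
theorem existsUnique_t (W : X.Opens) (z : Z) (hWz : W ⊓ V z ≤ U) (n : Γ(M, W)) :
    ∃! t : Γ(Rz V z, W), CondZ e W n z t := by
  have hb := he z (W ⊓ (V z ⊓ U)) inf_le_right
  have hb' := resX_bijective V z W (W ⊓ (V z ⊓ U)) (TW_le z W)
    (le_inf inf_le_left (le_inf inf_le_right hWz))
  obtain ⟨r, hr⟩ := hb.2 (M.presheaf.map (homOfLE (inf_le_left : W ⊓ (V z ⊓ U) ≤ W)).op n)
  obtain ⟨t, ht⟩ := hb'.2 r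
  refine ⟨t, ?_, ?_⟩
  · show _ = _
    rw [ht]
    exact hr.symm
  · intro t' ht'
    apply hb'.1
    apply hb.1
    show _ • _ = _ • _
    rw [ht]
    exact ht'.symm.trans hr.symm

variable (hM : ∀ W : X.Opens,
  Function.Bijective (M.presheaf.map (homOfLE (inf_le_left : W ⊓ U ≤ W)).op))

include hM in
theorem existsUnique_n (W : X.Opens) (z : Z) (hWz : W ≤ V z) (t : Γ(Rz V z, W)) :
    ∃! n : Γ(M, W), CondZ e W n z t := by
  have hle : W ⊓ (V z ⊓ U) ≤ W ⊓ U := inf_le_inf_left _ inf_le_right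
  have hge : W ⊓ U ≤ W ⊓ (V z ⊓ U) := le_inf inf_le_left (le_inf (inf_le_left.trans hWz) inf_le_right)
  have hb : Function.Bijective
      (M.presheaf.map (homOfLE (inf_le_left : W ⊓ (V z ⊓ U) ≤ W)).op) := by
    have : M.presheaf.map (homOfLE (inf_le_left : W ⊓ (V z ⊓ U) ≤ W)).op =
        M.presheaf.map (homOfLE (inf_le_left : W ⊓ U ≤ W)).op ≫
          M.presheaf.map (homOfLE hle).op := by
      rw [← M.presheaf.map_comp]; rfl
    rw [this]
    exact (map_bijective_of_eq M hle hge).comp (hM W)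
  obtain ⟨n, hn⟩ := hb.2 (resX V z W (W ⊓ (V z ⊓ U)) (TW_le z W) t •
      M.presheaf.map (homOfLE (inf_le_right : W ⊓ (V z ⊓ U) ≤ V z ⊓ U)).op (e z))
  exact ⟨n, hn, fun n' hn' => hb.1 (hn'.trans hn.symm)⟩

open Groth.Agent.Helper1 in
include he in
theorem bijective_π₀ (W : X.Opens) (hW : W ≤ U) :
    Function.Bijective ((SubProd.π (lc e) none).app W) := by
  constructor
  · intro s s' hss
    apply SubProd.ext
    rintro (_ | z)
    · exact hss
    · have hWz : W ⊓ V z ≤ U := inf_le_left.trans hW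
      have h1 : CondZ e W ((SubProd.π (lc e) none).app W s) z ((SubProd.π (lc e) (some z)).app W s) :=
        SubProd.cond (lc e) W s z
      have h2 : CondZ e W ((SubProd.π (lc e) none).app W s') z
          ((SubProd.π (lc e) (some z)).app W s') :=
        SubProd.cond (lc e) W s' z
      have hss' : (SubProd.π (lc e) none).app W s' = (SubProd.π (lc e) none).app W s := hss.symm
      rw [hss'] at h2
      exact (existsUnique_t e he W z hWz _).unique h1 h2
  · intro n
    have hA := fun z => (existsUnique_t e he W z (inf_le_left.trans hW) n).exists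
    choose t ht using hA
    obtain ⟨s, hs⟩ := SubProd.exists_section (lc e) W (mkσ n t) (fun z => ht z)
    exact ⟨s, hs none⟩

open Groth.Agent.Helper1 in
include he hM in
theorem bijective_π (hV : ∀ z z' : Z, z ≠ z' → V z ⊓ V z' ≤ U) (z₀ : Z) (W : X.Opens)
    (hW : W ≤ V z₀) :
    Function.Bijective ((SubProd.π (lc e) (some z₀)).app W) := by
  have hWz : ∀ z, z ≠ z₀ → W ⊓ V z ≤ U := fun z hz =>
    (inf_le_inf_right _ hW).trans (hV z₀ z (Ne.symm hz))
  constructor
  · intro s s' hss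
    have h1 : CondZ e W ((SubProd.π (lc e) none).app W s) z₀
        ((SubProd.π (lc e) (some z₀)).app W s) := SubProd.cond (lc e) W s z₀
    have h2 : CondZ e W ((SubProd.π (lc e) none).app W s') z₀
        ((SubProd.π (lc e) (some z₀)).app W s') := SubProd.cond (lc e) W s' z₀
    have hss' : (SubProd.π (lc e) (some z₀)).app W s' = (SubProd.π (lc e) (some z₀)).app W s :=
      hss.symm
    rw [hss'] at h2
    have hn : (SubProd.π (lc e) none).app W s = (SubProd.π (lc e) none).app W s' :=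
      (existsUnique_n e hM W z₀ hW _).unique h1 h2
    apply SubProd.ext
    rintro (_ | z)
    · exact hn
    · by_cases hz : z = z₀
      · subst hz; exact hss
      · have h3 : CondZ e W ((SubProd.π (lc e) none).app W s) z
            ((SubProd.π (lc e) (some z)).app W s) := SubProd.cond (lc e) W s z
        have h4 : CondZ e W ((SubProd.π (lc e) none).app W s') z
            ((SubProd.π (lc e) (some z)).app W s') := SubProd.cond (lc e) W s' z
        rw [← hn] at h4
        exact (existsUnique_t e he W z (hWz z hz) _).unique h3 h4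
  · intro t₀
    obtain ⟨n, hn, -⟩ := existsUnique_n e hM W z₀ hW t₀
    have hA : ∀ z, ∃ t : Γ(Rz V z, W), CondZ e W n z t ∧ (z = z₀ → HEq t t₀) := by
      intro z
      by_cases hz : z = z₀
      · subst hz; exact ⟨t₀, hn, fun _ => HEq.rfl⟩
      · obtain ⟨t, ht⟩ := (existsUnique_t e he W z (hWz z hz) n).exists
        exact ⟨t, ht, fun h => absurd h hz⟩
    choose t ht ht' using hA
    obtain ⟨s, hs⟩ := SubProd.exists_section (lc e) W (mkσ n t) (fun z => ht z)
    exact ⟨s, (hs (some z₀)).trans (eq_of_heq (ht' z₀ rfl))⟩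

end


open Groth.Agent.Helper1 in
/-- **Gluing.**  Let `M` be a module on `X` all of whose sections are determined on `U`, let
`V z` be opens with `V z ⊓ V z' ≤ U` for `z ≠ z'`, and let `e z` be a frame of `M` over
`V z ⊓ U`.  Then there is a module `L` with `L|_U ≅ M|_U` and `L|_{V z} ≅ O`, whose sections over
`W` are the pairs `(n, t)` of a section `n` of `M` and functions `t z` on `W ∩ V z` with
`n = t z • e z` on `W ∩ V z ∩ U`. -/
theorem glue (U : X.Opens) (M : X.Modules)
    (hM : ∀ W : X.Opens,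
      Function.Bijective (M.presheaf.map (homOfLE (inf_le_left : W ⊓ U ≤ W)).op))
    {Z : Type u} (V : Z → X.Opens) (hV : ∀ z z' : Z, z ≠ z' → V z ⊓ V z' ≤ U)
    (e : ∀ z, Γ(M, V z ⊓ U))
    (he : ∀ (z : Z) (T : X.Opens) (hT : T ≤ V z ⊓ U),
      Function.Bijective (fun r : Γ(X, T) => r • M.presheaf.map (homOfLE hT).op (e z))) :
    ∃ (L : X.Modules) (π₀ : L ⟶ M) (π : ∀ z, L ⟶ Rz V z),
      (∀ W : X.Opens, W ≤ U → Function.Bijective (π₀.app W)) ∧
      (∀ (z : Z) (W : X.Opens), W ≤ V z → Function.Bijective ((π z).app W)) ∧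
      (∀ (W : X.Opens) (s : Γ(L, W)), Cond e W (π₀.app W s) (fun z => (π z).app W s)) ∧
      (∀ (W : X.Opens) (n : Γ(M, W)) (t : ∀ z, Γ(Rz V z, W)), Cond e W n t →
        ∃ s : Γ(L, W), π₀.app W s = n ∧ ∀ z, (π z).app W s = t z) := by
  refine ⟨SubProd.L (lc e), SubProd.π (lc e) none, fun z => SubProd.π (lc e) (some z),
    bijective_π₀ e he, bijective_π e he hM hV, fun W s => SubProd.cond (lc e) W s, ?_⟩
  intro W n t h
  obtain ⟨s, hs⟩ := SubProd.exists_section (lc e) W (mkσ n t) h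
  exact ⟨s, hs none, fun z => hs (some z)⟩

/-- the restriction of `R z` to `V z` is the structure sheaf -/
noncomputable def RzIso {Z : Type u} (V : Z → X.Opens) (z : Z) :
    (Rz V z).restrict (V z).ι ≅ Coh.structureModule ↑(V z) :=
  asIso ((restrictAdjunction (V z).ι).counit.app (Coh.structureModule ↑(V z)))

end Groth.Agent.Helper3.GlueInv
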