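import Mathlib
import Groth.Agent.Helper3.GlueInv
import Groth.Agent.Helper3.DiscLocal
import Groth.Agent.Lead.IdealModDict
import Groth.Agent.Helper4.AmpleLocal

set_option autoImplicit false
set_option linter.style.haveILetI false
set_option linter.unusedSectionVars false
set_option linter.unusedVariables false
set_option linter.deprecated false
set_option linter.style.haveILetI false
set_option linter.unusedSectionVars false
set_option linter.unusedVariables false

universe u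

open CategoryTheory CategoryTheory.Limits AlgebraicGeometry TopologicalSpace Opposite

namespace Groth.Agent.Helper3.DiscPic1

open Scheme.Modules Groth.Agent.Helper3.GlueInv

variable {X : Scheme.{u}}

/-- pushforward of the structure sheaf of an open -/
noncomputable abbrev RU (V : X.Opens) : X.Modules :=
  (pushforward V.ι).obj (Coh.structureModule ↑V)

/-- sections of `RU V` as functions on `X` -/
noncomputable def rX (V W T : X.Opens) (hT : T ≤ W ⊓ V) (t : Γ(RU V, W)) : Γ(X, T) :=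
  resX (fun _ : PUnit.{u + 1} => V) ⟨⟩ W T hT t

/-- functions on `X` as sections of `RU V` -/
def ofX (V W : X.Opens) (g : Γ(X, V.ι ''ᵁ (V.ι ⁻¹ᵁ W))) : Γ(RU V, W) := g

theorem rX_ofX (V W T : X.Opens) (hT : T ≤ W ⊓ V) (g : Γ(X, V.ι ''ᵁ (V.ι ⁻¹ᵁ W))) :
    rX V W T hT (ofX V W g) =
      X.presheaf.map (homOfLE (le_img (fun _ : PUnit.{u + 1} => V) ⟨⟩ W T hT)).op g := rfl

theorem rX_smul (V W T : X.Opens) (hT : T ≤ W ⊓ V) (r : Γ(X, W)) (t : Γ(RU V, W)) :
    rX V W T hT (r • t) = X.presheaf.map (homOfLE (hT.trans inf_le_left)).op r * rX V W T hT t :=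
  resX_smul (fun _ : PUnit.{u + 1} => V) ⟨⟩ W T hT r t

theorem rX_map (V : X.Opens) {W W' : X.Opens} (f : W' ⟶ W) (T : X.Opens) (hT : T ≤ W' ⊓ V)
    (t : Γ(RU V, W)) :
    rX V W' T hT ((RU V).presheaf.map f.op t) =
      rX V W T (hT.trans (inf_le_inf_right _ f.le)) t :=
  resX_map (fun _ : PUnit.{u + 1} => V) ⟨⟩ f T hT t

theorem map_rX (V W T T' : X.Opens) (hT : T ≤ W ⊓ V) (hT' : T' ≤ T) (t : Γ(RU V, W)) :
    X.presheaf.map (homOfLE hT').op (rX V W T hT t) = rX V W T' (hT'.trans hT) t :=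
  map_resX (fun _ : PUnit.{u + 1} => V) ⟨⟩ W T T' hT hT' t

theorem rX_bijective (V W T : X.Opens) (hT : T ≤ W ⊓ V) (hT' : W ⊓ V ≤ T) :
    Function.Bijective (rX V W T hT) :=
  resX_bijective (fun _ : PUnit.{u + 1} => V) ⟨⟩ W T hT hT'

theorem resX_eq_rX {Z : Type u} (V : Z → X.Opens) (z : Z) (W T : X.Opens) (hT : T ≤ W ⊓ V z)
    (t : Γ(Rz V z, W)) : resX V z W T hT t = rX (V z) W T hT t := rfl

/-- sections of `RU U` are determined on `U` -/
theorem RU_bijective (U W : X.Opens) :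
    Function.Bijective ((RU U).presheaf.map (homOfLE (inf_le_left : W ⊓ U ≤ W)).op) := by
  have h1 : U.ι ⁻¹ᵁ (W ⊓ U) ≤ U.ι ⁻¹ᵁ W := fun y hy => hy.1
  have h2 : U.ι ⁻¹ᵁ W ≤ U.ι ⁻¹ᵁ (W ⊓ U) := fun y hy => ⟨hy, y.2⟩
  exact map_bijective_of_eq (X := ↑U) (Coh.structureModule ↑U) h1 h2


theorem res_self {T : X.Opens} (h : T ≤ T) (r : Γ(X, T)) :
    X.presheaf.map (homOfLE h).op r = r := by
  have : (homOfLE h).op = 𝟙 (op T) := rfl
  rw [this, X.presheaf.map_id]; rfl

theorem res_res {T T' T'' : X.Opens} (h1 : T' ≤ T) (h2 : T'' ≤ T') (r : Γ(X, T)) :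
    X.presheaf.map (homOfLE h2).op (X.presheaf.map (homOfLE h1).op r) =
      X.presheaf.map (homOfLE (h2.trans h1)).op r := by
  change (X.presheaf.map _ ≫ X.presheaf.map _) r = _
  rw [← X.presheaf.map_comp]; rfl

theorem img_le' (V W : X.Opens) : V.ι ''ᵁ (V.ι ⁻¹ᵁ W) ≤ W ⊓ V :=
  img_le (fun _ : PUnit.{u + 1} => V) ⟨⟩ W

theorem isUnit_res_of_le_basicOpen {V T : X.Opens} (a : Γ(X, V)) (hT : T ≤ X.basicOpen a) :
    IsUnit (X.presheaf.map (homOfLE (hT.trans (X.basicOpen_le a))).op a) := by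
  have h1 := RingedSpace.isUnit_res_basicOpen X.toRingedSpace a
  have h2 := h1.map (X.presheaf.map (homOfLE hT).op).hom
  have h3 : (X.presheaf.map (homOfLE hT).op).hom
      (X.presheaf.map (homOfLE (X.basicOpen_le a)).op a) =
      X.presheaf.map (homOfLE (hT.trans (X.basicOpen_le a))).op a := res_res _ _ a
  rw [← h3]; exact h2

/-- a frame of `RU U` from a unit -/
theorem frame_of_unit (U T₀ : X.Opens) (hT₀ : T₀ ≤ U) (b : Γ(X, U.ι ''ᵁ (U.ι ⁻¹ᵁ T₀)))
    (hb : IsUnit b) (T : X.Opens) (hT : T ≤ T₀) :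
    Function.Bijective (fun r : Γ(X, T) =>
      r • (RU U).presheaf.map (homOfLE hT).op (ofX U T₀ b)) := by
  have hTT : T ≤ T ⊓ U := le_inf le_rfl (hT.trans hT₀)
  have hr := rX_bijective U T T hTT inf_le_left
  rw [← Function.Bijective.of_comp_iff' hr]
  have hu : IsUnit (X.presheaf.map (homOfLE (le_img (fun _ : PUnit.{u + 1} => U) ⟨⟩ T₀ T
      (le_inf hT (hT.trans hT₀)))).op b) := hb.map (X.presheaf.map _).hom
  have : (rX U T T hTT ∘ fun r : Γ(X, T) =>
      r • (RU U).presheaf.map (homOfLE hT).op (ofX U T₀ b)) =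
      fun r : Γ(X, T) => r * X.presheaf.map (homOfLE (le_img (fun _ : PUnit.{u + 1} => U) ⟨⟩ T₀ T
        (le_inf hT (hT.trans hT₀)))).op b := by
    funext r
    show rX U T T hTT (r • _) = _
    rw [rX_smul, res_self, rX_map, rX_ofX]
  rw [this]
  obtain ⟨u, hu'⟩ := hu
  rw [← hu']
  exact (Units.mulRight_bijective u)


open Groth.Agent.Lead.IdealModDict Groth.Agent.Helper1.IdealMod in
/-- **Part (1), from local data.** -/
theorem exists_of_local (U : X.Opens) {Z : Type u} (V : Z → X.Opens)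
    (hV : ∀ z z' : Z, z ≠ z' → V z ⊓ V z' ≤ U) (hcov : ∀ x : X, x ∉ U → ∃ z, x ∈ V z)
    (a : ∀ z, Γ(X, V z)) (ha : ∀ z, X.basicOpen (a z) = V z ⊓ U) :
    ∃ (L : X.Modules) (s : Coh.structureModule X ⟶ L),
      PicF.IsInvertible L ∧ CohB1.genLocus L s = U := by
  -- inverses of the `a z`
  have hle : ∀ z, U.ι ''ᵁ (U.ι ⁻¹ᵁ (V z ⊓ U)) ≤ X.basicOpen (a z) := by
    intro z; rw [ha]; exact (img_le' U (V z ⊓ U)).trans inf_le_left
  have hunit := fun z => isUnit_res_of_le_basicOpen (a z) (hle z)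
  choose b hb using fun z => (hunit z).exists_right_inv
  have hbu : ∀ z, IsUnit (b z) := fun z => IsUnit.of_mul_eq_one _ (by rw [mul_comm]; exact hb z)
  let e : ∀ z, Γ(RU U, V z ⊓ U) := fun z => ofX U (V z ⊓ U) (b z)
  have he : ∀ (z : Z) (T : X.Opens) (hT : T ≤ V z ⊓ U),
      Function.Bijective (fun r : Γ(X, T) => r • (RU U).presheaf.map (homOfLE hT).op (e z)) :=
    fun z T hT => frame_of_unit U (V z ⊓ U) inf_le_right (b z) (hbu z) T hT
  obtain ⟨L, π₀, π, hπ₀, hπ, hcond, hex⟩ := glue U (RU U) (RU_bijective U) V hV e he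
  -- the section
  let n : Γ(RU U, ⊤) := ofX U ⊤ 1
  let t : ∀ z, Γ(Rz V z, ⊤) := fun z =>
    ofX (V z) ⊤ (X.presheaf.map (homOfLE ((img_le' (V z) ⊤).trans inf_le_right)).op (a z))
  have hnt : Cond e ⊤ n t := by
    intro z
    have hTT : (⊤ ⊓ (V z ⊓ U) : X.Opens) ≤ (⊤ ⊓ (V z ⊓ U)) ⊓ U :=
      le_inf le_rfl (inf_le_right.trans inf_le_right)
    apply (rX_bijective U _ _ hTT inf_le_left).1
    rw [rX_smul, res_self, rX_map, rX_map, resX_eq_rX]
    show rX U ⊤ _ _ (ofX U ⊤ 1) = rX (V z) ⊤ _ _ (ofX (V z) ⊤ _) * rX U _ _ _ (ofX U _ (b z))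
    rw [rX_ofX, rX_ofX, rX_ofX, res_res, map_one]
    have h1 := congrArg (X.presheaf.map (homOfLE (le_img (fun _ : PUnit.{u + 1} => U) ⟨⟩
      (V z ⊓ U) (⊤ ⊓ (V z ⊓ U)) (le_inf inf_le_right (inf_le_right.trans inf_le_right)))).op) (hb z)
    rw [map_mul, map_one, res_res] at h1
    exact h1.symm
  obtain ⟨s₀, hs₀, hs₀'⟩ := hex ⊤ n t hnt
  let s : Coh.structureModule X ⟶ L := ofSection L s₀
  have hsapp : ∀ (W : X.Opens) (r : Γ(X, W)),
      s.app W (ofFn r) = r • L.presheaf.map (homOfLE (le_top : W ≤ ⊤)).op s₀ :=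
    fun W r => ofSection_app L s₀ W r
  -- components of `s`
  have hs1 : ∀ (W : X.Opens) (hW : W ≤ W ⊓ U) (r : Γ(X, W)),
      rX U W W hW (π₀.app W (s.app W (ofFn r))) = r := by
    intro W hW r
    rw [hsapp, Scheme.Modules.Hom.app_smul, Groth.Agent.Helper4.StalkExact.app_res, hs₀, rX_smul,
      res_self, rX_map]
    show r * rX U ⊤ _ _ (ofX U ⊤ 1) = r
    rw [rX_ofX, map_one, mul_one]
  have hs2 : ∀ (z : Z) (W : X.Opens) (hW : W ≤ W ⊓ V z) (r : Γ(X, W)),
      rX (V z) W W hW ((π z).app W (s.app W (ofFn r))) =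
        r * X.presheaf.map (homOfLE (hW.trans inf_le_right)).op (a z) := by
    intro z W hW r
    rw [hsapp, Scheme.Modules.Hom.app_smul, Groth.Agent.Helper4.StalkExact.app_res, hs₀' z, rX_smul,
      res_self, rX_map]
    show r * rX (V z) ⊤ _ _ (ofX (V z) ⊤ _) = _
    rw [rX_ofX, res_res]
  refine ⟨L, s, ?_, ?_⟩
  · -- invertibility
    apply Groth.Agent.Helper4.AmpleLocal.isInvertible_of_cover
    intro x
    by_cases hxU : x ∈ U
    · refine ⟨↑U, U.ι, inferInstance, ?_, ?_⟩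
      · rw [Scheme.Opens.range_ι]; exact hxU
      · haveI : IsIso ((restrictFunctor U.ι).map π₀) :=
          (Groth.Agent.Helper4.GenLoc.isIso_restrict_iff π₀ U).mpr hπ₀
        exact Groth.Agent.Helper4.AmpleIso.isInvertible_of_iso
          ((asIso ((restrictFunctor U.ι).map π₀) ≪≫
            asIso ((restrictAdjunction U.ι).counit.app (Coh.structureModule ↑U))).symm)
          Groth.Agent.Helper4.TensorInv.isInvertible_structureModule
    · obtain ⟨z, hz⟩ := hcov x hxU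
      refine ⟨↑(V z), (V z).ι, inferInstance, ?_, ?_⟩
      · rw [Scheme.Opens.range_ι]; exact hz
      · haveI : IsIso ((restrictFunctor (V z).ι).map (π z)) :=
          (Groth.Agent.Helper4.GenLoc.isIso_restrict_iff (π z) (V z)).mpr (hπ z)
        exact Groth.Agent.Helper4.AmpleIso.isInvertible_of_iso
          ((asIso ((restrictFunctor (V z).ι).map (π z)) ≪≫ RzIso V z).symm)
          Groth.Agent.Helper4.TensorInv.isInvertible_structureModule
  · -- the generating locus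
    apply le_antisymm
    · apply sSup_le
      intro W hW
      have hW' := (Groth.Agent.Helper4.GenLoc.isIso_restrict_iff s W).mp hW
      intro y hyW
      by_contra hyU
      obtain ⟨z, hz⟩ := hcov y hyU
      have hTW : W ⊓ V z ≤ W := inf_le_left
      have hTT : W ⊓ V z ≤ (W ⊓ V z) ⊓ V z := le_inf le_rfl inf_le_right
      have hb1 := hW' (W ⊓ V z) hTW
      have hb2 := hπ z (W ⊓ V z) inf_le_right
      have hb3 := rX_bijective (V z) (W ⊓ V z) (W ⊓ V z) hTT inf_le_left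
      obtain ⟨m, hm⟩ := (hb3.comp (hb2.comp hb1)).2 1
      have hm' : rX (V z) _ _ hTT ((π z).app _ (s.app _ (ofFn (fn m)))) = 1 := hm
      rw [hs2] at hm'
      have hunit : IsUnit (X.presheaf.map (homOfLE (hTT.trans inf_le_right)).op (a z)) :=
        IsUnit.of_mul_eq_one _ (by rw [mul_comm]; exact hm')
      have h1 := X.basicOpen_of_isUnit hunit
      rw [Scheme.basicOpen_res, ha] at h1
      have hy : y ∈ (W ⊓ V z : X.Opens) := ⟨hyW, hz⟩
      rw [← h1] at hy
      exact hyU hy.2.2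
    · apply le_sSup
      show IsIso ((restrictFunctor U.ι).map s)
      rw [Groth.Agent.Helper4.GenLoc.isIso_restrict_iff]
      intro W hW
      have hWW : W ≤ W ⊓ U := le_inf le_rfl hW
      have hb2 := hπ₀ W hW
      have hb3 := rX_bijective U W W hWW inf_le_left
      rw [← Function.Bijective.of_comp_iff' (hb3.comp hb2)]
      have : ((rX U W W hWW ∘ π₀.app W) ∘ s.app W) = fun m => fn m := by
        funext m
        exact hs1 W hWW (fn m)
      rw [this]
      exact Function.bijective_id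


/-- **Part (1).** -/
theorem part1 (X : Scheme.{u}) (U : X.Opens) [QuasiCompact U.ι]
    (hdisc : DiscreteTopology ↥((U : Set X)ᶜ))
    (hloc : ∀ x : X, x ∉ U →
      IsNoetherianRing (X.presheaf.stalk x) ∧ ringKrullDim (X.presheaf.stalk x) ≤ 1) :
    ∃ (L : X.Modules) (s : Coh.structureModule X ⟶ L),
      PicF.IsInvertible L ∧ CohB1.genLocus L s = U := by
  choose V a hVaff hxV hVU hVa using fun z : {x : X // x ∉ U} =>
    Groth.Agent.Helper3.DiscLocal.exists_local X U hdisc z.1 z.2 (hloc z.1 z.2).1 (hloc z.1 z.2).2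
  refine exists_of_local U V ?_ (fun x hx => ⟨⟨x, hx⟩, hxV ⟨x, hx⟩⟩) a hVa
  rintro z z' hzz' y ⟨hy, hy'⟩
  by_contra hyU
  exact hzz' (Subtype.ext ((hVU z y hy hyU).symm.trans (hVU z' y hy' hyU)))

end Groth.Agent.Helper3.DiscPic1
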