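import Mathlib
import Groth.Agent.Helper4.QAffSec
import Groth.Agent.Helper4.AmpleLocal
import Groth.Agent.Helper4.StalkDict

set_option autoImplicit false
set_option linter.style.haveILetI false
set_option linter.unusedSectionVars false
set_option linter.unusedVariables false
set_option linter.deprecated false
set_option linter.style.haveILetI false
set_option linter.unusedSectionVars false
set_option linter.unusedVariables false

universe u

open CategoryTheory CategoryTheory.Limits AlgebraicGeometry TopologicalSpace Opposite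

namespace Groth.Agent.Helper3.PuncTriv

open Groth.Agent.Helper4.StalkDict Groth.Agent.Helper4.TensorInv

/-- a Noetherian local ring of dimension `≤ 1` has finitely many primes -/
theorem finite_primeSpectrum (C : Type u) [CommRing C] [IsLocalRing C] [IsNoetherianRing C]
    (hd : ringKrullDim C ≤ 1) : Finite (PrimeSpectrum C) := by
  have h1 : Ring.KrullDimLE 1 C := Ring.krullDimLE_iff.mpr hd
  rw [Ring.krullDimLE_one_iff] at h1
  have hfin : (minimalPrimes C ∪ {IsLocalRing.maximalIdeal C}).Finite :=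
    (minimalPrimes.finite_of_isNoetherianRing C).union (Set.finite_singleton _)
  have hsub : Set.range (PrimeSpectrum.asIdeal : PrimeSpectrum C → Ideal C) ⊆
      minimalPrimes C ∪ {IsLocalRing.maximalIdeal C} := by
    rintro _ ⟨q, rfl⟩
    rcases h1 q.asIdeal q.isPrime with h | h
    · exact Or.inl h
    · exact Or.inr (IsLocalRing.eq_maximalIdeal h)
  have := (hfin.subset hsub)
  exact (Set.finite_range_iff (fun q q' h => PrimeSpectrum.ext h)).mp this |> fun h => h

/-- finitely many generizations -/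
theorem finite_generizations (X : Scheme.{u}) (x : X) [IsNoetherianRing (X.presheaf.stalk x)]
    (hd : ringKrullDim (X.presheaf.stalk x) ≤ 1) : {y : X | y ⤳ x}.Finite := by
  haveI : Finite ↥(Spec (X.presheaf.stalk x)) := finite_primeSpectrum (X.presheaf.stalk x) hd
  rw [← Scheme.range_fromSpecStalk]
  exact Set.finite_range _


/-- In an affine open `V`, an open `G` containing all generizations of `x` lying in `D(a)`
contains `D(h) ∩ D(a)` for some `h` not vanishing at `x`. -/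
theorem exists_basicOpen_inf_le {X : Scheme.{u}} {V : X.Opens} (hV : IsAffineOpen V) (x : X)
    (hxV : x ∈ V) (a : Γ(X, V)) (G : X.Opens)
    (hG : ∀ y ∈ V, y ⤳ x → y ∈ X.basicOpen a → y ∈ G) :
    ∃ h : Γ(X, V), x ∈ X.basicOpen h ∧ X.basicOpen h ⊓ X.basicOpen a ≤ G := by
  set p : Ideal Γ(X, V) := (hV.primeIdealOf ⟨x, hxV⟩).asIdeal with hp
  let 𝒢 : Set Γ(X, V) := {g | X.basicOpen g ≤ G}
  let J : Ideal Γ(X, V) := Ideal.span 𝒢
  let S : Submonoid Γ(X, V) := p.primeCompl ⊔ Submonoid.powers a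
  have key : ¬ Disjoint (J : Set Γ(X, V)) (S : Set Γ(X, V)) := by
    intro hdisj
    obtain ⟨q, hq, hJq, hqS⟩ := Ideal.exists_le_prime_disjoint J S hdisj
    let q' : PrimeSpectrum Γ(X, V) := ⟨q, hq⟩
    let y : X := hV.fromSpec q'
    have hyV : y ∈ V := by
      have : y ∈ Set.range hV.fromSpec := ⟨q', rfl⟩
      rwa [hV.range_fromSpec] at this
    have hq' : hV.primeIdealOf ⟨y, hyV⟩ = q' :=
      hV.fromSpec.isOpenEmbedding.injective (hV.fromSpec_primeIdealOf ⟨y, hyV⟩)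
    have hqp : q ≤ p := by
      intro r hr
      by_contra hrp
      exact Set.disjoint_left.mp hqS hr (Submonoid.mem_sup_left (S := p.primeCompl) hrp)
    have haq : a ∉ q := fun h =>
      Set.disjoint_left.mp hqS h (Submonoid.mem_sup_right (Submonoid.mem_powers a))
    have hyx : y ⤳ x := by
      have h1 : q' ⤳ hV.primeIdealOf ⟨x, hxV⟩ :=
        (PrimeSpectrum.le_iff_specializes _ _).mp hqp
      have h2 := h1.map hV.fromSpec.continuous
      rwa [hV.fromSpec_primeIdealOf] at h2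
    have hya : y ∈ X.basicOpen a :=
      (mem_basicOpen_iff_notMem_primeIdealOf hV y hyV a).mpr (by rw [hq']; exact haq)
    have hyG := hG y hyV hyx hya
    obtain ⟨g, hgG, hyg⟩ := hV.exists_basicOpen_le ⟨y, hyG⟩ hyV
    have hgq : g ∉ q := by
      have := (mem_basicOpen_iff_notMem_primeIdealOf hV y hyV g).mp hyg
      rwa [hq'] at this
    exact hgq (hJq (Ideal.subset_span hgG))
  obtain ⟨w, hwJ, hwS⟩ := Set.not_disjoint_iff.mp key
  obtain ⟨s, hs, c, ⟨k, rfl⟩, rfl⟩ := Submonoid.mem_sup.mp hwS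
  refine ⟨s, (mem_basicOpen_iff_notMem_primeIdealOf hV x hxV s).mpr hs, ?_⟩
  rintro y ⟨hys, hya⟩
  have hyV : y ∈ V := X.basicOpen_le s hys
  have hpy := (hV.primeIdealOf ⟨y, hyV⟩).isPrime
  rw [SetLike.mem_coe, mem_basicOpen_iff_notMem_primeIdealOf hV y hyV] at hys hya
  have hw : s * a ^ k ∉ (hV.primeIdealOf ⟨y, hyV⟩).asIdeal := by
    intro h
    rcases hpy.mem_or_mem h with h | h
    · exact hys h
    · exact hya (hpy.mem_of_pow_mem k h)
  have : ¬ (J ≤ (hV.primeIdealOf ⟨y, hyV⟩).asIdeal) := fun h => hw (h hwJ)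
  rw [Ideal.span_le] at this
  obtain ⟨g, hg, hgy⟩ := Set.not_subset.mp this
  exact hg ((mem_basicOpen_iff_notMem_primeIdealOf hV y hyV g).mpr hgy)


/-- **Triviality on a punctured neighbourhood.** -/
theorem exists_triv {X : Scheme.{u}} (U : X.Opens) (x : X) (hxU : x ∉ U)
    [IsNoetherianRing (X.presheaf.stalk x)] (hd : ringKrullDim (X.presheaf.stalk x) ≤ 1)
    {V : X.Opens} (hV : IsAffineOpen V) (hxV : x ∈ V)
    (a : Γ(X, V)) (ha : X.basicOpen a = V ⊓ U)
    (N : (↑U : Scheme.{u}).Modules) (hN : PicF.IsInvertible N) :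
    ∃ (h : Γ(X, V)) (G : (↑U : Scheme.{u}).Opens), x ∈ X.basicOpen h ∧
      U.ι ⁻¹ᵁ (X.basicOpen h) ≤ G ∧ IsTrivAlong N G.ι := by
  let G₀ : (↑U : Scheme.{u}).Opens := U.ι ⁻¹ᵁ V
  have hG₀ : IsAffineOpen G₀ := by
    rw [← U.ι.isAffineOpen_iff_of_isOpenImmersion, Scheme.Hom.image_preimage_eq_opensRange_inf,
      Scheme.Opens.opensRange_ι, inf_comm, ← ha]
    exact hV.basicOpen a
  haveI : IsAffine (↑G₀ : Scheme.{u}) := hG₀
  let N₀ := N.restrict G₀.ι
  have hN₀ : PicF.IsInvertible N₀ := Groth.Agent.Helper4.QAffSec.isInvertible_restrict G₀.ι hN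
  let E : Set (↑G₀ : Scheme.{u}) := {y | U.ι (G₀.ι y) ⤳ x}
  have hE : E.Finite := by
    have h1 := finite_generizations X x hd
    have hinj : Function.Injective (fun y : (↑G₀ : Scheme.{u}) => U.ι (G₀.ι y)) :=
      U.ι.isOpenEmbedding.injective.comp G₀.ι.isOpenEmbedding.injective
    exact h1.preimage hinj.injOn
  obtain ⟨f, -, hEf, -, ⟨i⟩⟩ := Groth.Agent.Helper4.QAffSec.exists_basicOpen_triv N₀ hN₀ ⊤ E hE
    (fun _ _ => trivial)
  let B : (↑G₀ : Scheme.{u}).Opens := (↑G₀ : Scheme.{u}).basicOpen f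
  have h2 : IsTrivAlong N (B.ι ≫ G₀.ι) :=
    ⟨(Scheme.Modules.restrictFunctorComp B.ι G₀.ι).app N ≪≫ i⟩
  have h3 := Groth.Agent.Helper4.AmpleLocal.IsTrivAlong.opensRange' _ h2
  let G : (↑U : Scheme.{u}).Opens := (B.ι ≫ G₀.ι).opensRange
  have hG'' : ∀ y ∈ V, y ⤳ x → y ∈ X.basicOpen a → y ∈ U.ι ''ᵁ G := by
    intro y hyV hyx hya
    rw [ha] at hya
    let y' : (↑U : Scheme.{u}) := ⟨y, hya.2⟩
    have hy'G₀ : y' ∈ G₀ := hyV
    let y'' : (↑G₀ : Scheme.{u}) := ⟨y', hy'G₀⟩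
    have hy''E : y'' ∈ E := hyx
    have hy''B : y'' ∈ B := hEf hy''E
    refine ⟨y', ⟨⟨y'', hy''B⟩, rfl⟩, rfl⟩
  obtain ⟨h, hxh, hle⟩ := exists_basicOpen_inf_le hV x hxV a (U.ι ''ᵁ G) hG''
  refine ⟨h, G, hxh, ?_, h3⟩
  intro y' hy'
  have h1 : y'.1 ∈ X.basicOpen h ⊓ X.basicOpen a := by
    refine ⟨hy', ?_⟩
    rw [ha]
    exact ⟨X.basicOpen_le h hy', y'.2⟩
  obtain ⟨w, hwG, hw⟩ := hle h1
  have : w = y' := Subtype.ext hw
  rw [← this]; exact hwG

end Groth.Agent.Helper3.PuncTriv
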