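import Mathlib
import Groth.Agent.Helper3.DiscPic1
import Groth.Agent.Helper3.PuncTriv
import Groth.Agent.Helper4.TwistExt

set_option autoImplicit false
set_option linter.style.haveILetI false
set_option linter.unusedSectionVars false
set_option linter.unusedVariables false
set_option linter.deprecated false
set_option linter.style.haveILetI false
set_option linter.unusedSectionVars false
set_option linter.unusedVariables false

universe u

open CategoryTheory CategoryTheory.Limits AlgebraicGeometry TopologicalSpace Opposite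

namespace Groth.Agent.Helper3.DiscPic2

open Scheme.Modules Groth.Agent.Helper3.GlueInv Groth.Agent.Helper3.DiscPic1
  Groth.Agent.Helper4.TensorInv Groth.Agent.Helper4.TwistExt

variable {X : Scheme.{u}}

/-- a frame gives bijections -/
theorem bijective_of_isFrame {Y : Scheme.{u}} (N : Y.Modules) (T : Y.Opens) (e : Γ(N, T))
    (h : IsFrame N T e) (T' : Y.Opens) (hT' : T' ≤ T) :
    Function.Bijective (fun r : Γ(Y, T') => r • N.presheaf.map (homOfLE hT').op e) := by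
  obtain ⟨h1, h2⟩ := h T' hT'
  constructor
  · intro r r' hrr
    have : (r - r') • N.presheaf.map (homOfLE hT').op e = 0 := by
      rw [sub_smul]; exact sub_eq_zero.mpr hrr
    exact sub_eq_zero.mp (h2 _ this)
  · intro m
    obtain ⟨r, hr⟩ := h1 m
    exact ⟨r, hr.symm⟩

theorem ι_app_bijective (U T : X.Opens) (hT : T ≤ U) : Function.Bijective (U.ι.app T) := by
  rw [Scheme.Opens.ι_app]
  apply presheaf_map_bijective_of_eq
  rw [Scheme.Hom.image_preimage_eq_opensRange_inf, Scheme.Opens.opensRange_ι]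
  exact le_inf hT le_rfl

/-- **Part (2), from local data.** -/
theorem exists_ext_of_local (U : X.Opens) (N : (↑U : Scheme.{u}).Modules)
    (hN : PicF.IsInvertible N) {Z : Type u} (V : Z → X.Opens)
    (hV : ∀ z z' : Z, z ≠ z' → V z ⊓ V z' ≤ U) (hcov : ∀ x : X, x ∉ U → ∃ z, x ∈ V z)
    (G : Z → (↑U : Scheme.{u}).Opens) (hG : ∀ z, U.ι ⁻¹ᵁ (V z) ≤ G z)
    (htriv : ∀ z, IsTrivAlong N (G z).ι) :
    ∃ L : X.Modules, PicF.IsInvertible L ∧ Nonempty (L.restrict U.ι ≅ N) := by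
  let M : X.Modules := (pushforward U.ι).obj N
  have hM : ∀ W : X.Opens,
      Function.Bijective (M.presheaf.map (homOfLE (inf_le_left : W ⊓ U ≤ W)).op) := by
    intro W
    have h1 : U.ι ⁻¹ᵁ (W ⊓ U) ≤ U.ι ⁻¹ᵁ W := fun y hy => hy.1
    have h2 : U.ι ⁻¹ᵁ W ≤ U.ι ⁻¹ᵁ (W ⊓ U) := fun y hy => ⟨hy, y.2⟩
    exact map_bijective_of_eq (X := ↑U) N h1 h2
  have hex : ∀ z, ∃ i : N.restrict (G z).ι ≅ Coh.structureModule (↑(G z) : Scheme.{u}), True :=
    fun z => ⟨(htriv z).some, trivial⟩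
  choose ε _ using hex
  have hfr := fun z => isFrame_of_triv N (G z) (ε z)
  have hle : ∀ z, U.ι ⁻¹ᵁ (V z ⊓ U) ≤ (G z).ι ''ᵁ ⊤ := by
    intro z
    rw [Scheme.Opens.ι_image_top]
    exact fun y hy => hG z hy.1
  let e : ∀ z, Γ(M, V z ⊓ U) := fun z =>
    N.presheaf.map (homOfLE (hle z)).op
      ((ε z).inv.app ⊤ (Groth.Agent.Helper4.GenLoc.one (↑(G z) : Scheme.{u}) ⊤))
  have he : ∀ (z : Z) (T : X.Opens) (hT : T ≤ V z ⊓ U),
      Function.Bijective (fun r : Γ(X, T) => r • M.presheaf.map (homOfLE hT).op (e z)) := by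
    intro z T hT
    have hT'' : U.ι ⁻¹ᵁ T ≤ U.ι ⁻¹ᵁ (V z ⊓ U) := fun y hy => hT hy
    have hT' : U.ι ⁻¹ᵁ T ≤ (G z).ι ''ᵁ ⊤ := hT''.trans (hle z)
    have hb := bijective_of_isFrame N _ _ (hfr z) (U.ι ⁻¹ᵁ T) hT'
    have hb' := ι_app_bijective U T (hT.trans inf_le_right)
    have : (fun r : Γ(X, T) => r • M.presheaf.map (homOfLE hT).op (e z)) =
        (fun r' : Γ(↑U, U.ι ⁻¹ᵁ T) => r' • N.presheaf.map (homOfLE hT').op
          ((ε z).inv.app ⊤ (Groth.Agent.Helper4.GenLoc.one (↑(G z) : Scheme.{u}) ⊤))) ∘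
          (U.ι.app T) := by
      funext r
      have h1 : M.presheaf.map (homOfLE hT).op (e z) =
          N.presheaf.map (homOfLE hT').op
            ((ε z).inv.app ⊤ (Groth.Agent.Helper4.GenLoc.one (↑(G z) : Scheme.{u}) ⊤)) := by
        show (N.presheaf.map (homOfLE (hle z)).op ≫ N.presheaf.map (homOfLE hT'').op) _ = _
        rw [← N.presheaf.map_comp]
        rfl
      rw [h1]
      rfl
    rw [this]
    exact hb.comp hb'
  obtain ⟨L, π₀, π, hπ₀, hπ, -, -⟩ := glue U M hM V hV e he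
  haveI : IsIso ((restrictFunctor U.ι).map π₀) :=
    (Groth.Agent.Helper4.GenLoc.isIso_restrict_iff π₀ U).mpr hπ₀
  let i : L.restrict U.ι ≅ N :=
    asIso ((restrictFunctor U.ι).map π₀) ≪≫ asIso ((restrictAdjunction U.ι).counit.app N)
  refine ⟨L, ?_, ⟨i⟩⟩
  apply Groth.Agent.Helper4.AmpleLocal.isInvertible_of_cover
  intro x
  by_cases hxU : x ∈ U
  · refine ⟨↑U, U.ι, inferInstance, ?_, ?_⟩
    · rw [Scheme.Opens.range_ι]; exact hxU
    · exact Groth.Agent.Helper4.AmpleIso.isInvertible_of_iso i.symm hN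
  · obtain ⟨z, hz⟩ := hcov x hxU
    refine ⟨↑(V z), (V z).ι, inferInstance, ?_, ?_⟩
    · rw [Scheme.Opens.range_ι]; exact hz
    · haveI : IsIso ((restrictFunctor (V z).ι).map (π z)) :=
        (Groth.Agent.Helper4.GenLoc.isIso_restrict_iff (π z) (V z)).mpr (hπ z)
      exact Groth.Agent.Helper4.AmpleIso.isInvertible_of_iso
        ((asIso ((restrictFunctor (V z).ι).map (π z)) ≪≫ RzIso V z).symm)
        Groth.Agent.Helper4.TensorInv.isInvertible_structureModule


/-- **Part (2).** -/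
theorem part2 (X : Scheme.{u}) (U : X.Opens) [QuasiCompact U.ι]
    (hdisc : DiscreteTopology ↥((U : Set X)ᶜ))
    (hloc : ∀ x : X, x ∉ U →
      IsNoetherianRing (X.presheaf.stalk x) ∧ ringKrullDim (X.presheaf.stalk x) ≤ 1)
    (N : (↑U : Scheme.{u}).Modules) (hN : PicF.IsInvertible N) :
    ∃ L : X.Modules, PicF.IsInvertible L ∧ Nonempty (L.restrict U.ι ≅ N) := by
  choose V a hVaff hxV hVU hVa using fun z : {x : X // x ∉ U} =>
    Groth.Agent.Helper3.DiscLocal.exists_local X U hdisc z.1 z.2 (hloc z.1 z.2).1 (hloc z.1 z.2).2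
  have hB : ∀ z : {x : X // x ∉ U}, ∃ (h : Γ(X, V z)) (G : (↑U : Scheme.{u}).Opens),
      z.1 ∈ X.basicOpen h ∧ U.ι ⁻¹ᵁ (X.basicOpen h) ≤ G ∧ IsTrivAlong N G.ι := by
    intro z
    haveI := (hloc z.1 z.2).1
    exact Groth.Agent.Helper3.PuncTriv.exists_triv U z.1 z.2 (hloc z.1 z.2).2 (hVaff z) (hxV z)
      (a z) (hVa z) N hN
  choose h G hxh hG htriv using hB
  refine exists_ext_of_local U N hN (fun z => X.basicOpen (h z)) ?_
    (fun x hx => ⟨⟨x, hx⟩, hxh ⟨x, hx⟩⟩) G hG htriv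
  rintro z z' hzz' y ⟨hy, hy'⟩
  by_contra hyU
  exact hzz' (Subtype.ext ((hVU z y (X.basicOpen_le _ hy) hyU).symm.trans
    (hVU z' y (X.basicOpen_le _ hy') hyU)))

/-- S7669 -/
theorem main (X : Scheme.{u}) (U : X.Opens)
    [QuasiCompact U.ι] (hdisc : DiscreteTopology ↥((U : Set X)ᶜ))
    (hloc : ∀ x : X, x ∉ U →
      IsNoetherianRing (X.presheaf.stalk x) ∧ ringKrullDim (X.presheaf.stalk x) ≤ 1) :
    (∃ (L : X.Modules) (s : Coh.structureModule X ⟶ L),
      PicF.IsInvertible L ∧ CohB1.genLocus L s = U) ∧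
      ∀ N : (↑U : Scheme.{u}).Modules, PicF.IsInvertible N →
        ∃ L : X.Modules, PicF.IsInvertible L ∧ Nonempty (L.restrict U.ι ≅ N) :=
  ⟨part1 X U hdisc hloc, fun N hN => part2 X U hdisc hloc N hN⟩

end Groth.Agent.Helper3.DiscPic2
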