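import Mathlib
import Groth.Agent.Helper1.CC5
import Groth.Agent.Helper3.DiscPic2

set_option autoImplicit false
set_option linter.style.haveILetI false
set_option linter.unusedSectionVars false
set_option linter.unusedVariables false
set_option linter.deprecated false
set_option linter.style.haveILetI false
set_option linter.unusedSectionVars false
set_option linter.unusedVariables false

universe u

open CategoryTheory CategoryTheory.Limits AlgebraicGeometry TopologicalSpace Opposite

namespace Groth.Agent.Helper3.FrameHom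

open Scheme.Modules Groth.Agent.Helper4.TwistExt Groth.Agent.Helper1.GlueHom
  Groth.Agent.Helper1.CC

variable {X : Scheme.{u}} (N F : X.Modules)

section one

variable {N} {T : X.Opens} {e : Γ(N, T)} (he : IsFrame N T e) (σ : Γ(F, T))

/-- the coefficient of a section with respect to a frame -/
noncomputable def coef {V : X.Opens} (h : V ≤ T) (n : Γ(N, V)) : Γ(X, V) :=
  ((he V h).1 n).choose

theorem coef_spec {V : X.Opens} (h : V ≤ T) (n : Γ(N, V)) :
    n = coef he h n • N.presheaf.map (homOfLE h).op e := ((he V h).1 n).choose_spec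

theorem coef_eq {V : X.Opens} (h : V ≤ T) (n : Γ(N, V)) (r : Γ(X, V))
    (hr : n = r • N.presheaf.map (homOfLE h).op e) : coef he h n = r := by
  have h1 := coef_spec he h n
  have h2 : (coef he h n - r) • N.presheaf.map (homOfLE h).op e = 0 := by
    rw [sub_smul, ← h1, ← hr, sub_self]
  exact sub_eq_zero.mp ((he V h).2 _ h2)

/-- the local map determined by a frame and a target section -/
noncomputable def loc {V : X.Opens} (h : V ≤ T) (n : Γ(N, V)) : Γ(F, V) :=
  coef he h n • F.presheaf.map (homOfLE h).op σ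

theorem loc_smul_frame {V : X.Opens} (h : V ≤ T) (r : Γ(X, V)) :
    loc F he σ h (r • N.presheaf.map (homOfLE h).op e) = r • F.presheaf.map (homOfLE h).op σ := by
  unfold loc
  rw [coef_eq he h _ r rfl]

theorem loc_add {V : X.Opens} (h : V ≤ T) (n n' : Γ(N, V)) :
    loc F he σ h (n + n') = loc F he σ h n + loc F he σ h n' := by
  unfold loc
  rw [← add_smul]
  congr 1
  apply coef_eq
  rw [add_smul, ← coef_spec, ← coef_spec]

theorem loc_smul {V : X.Opens} (h : V ≤ T) (c : Γ(X, V)) (n : Γ(N, V)) :
    loc F he σ h (c • n) = c • loc F he σ h n := by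
  unfold loc
  rw [← mul_smul]
  congr 1
  apply coef_eq
  rw [mul_smul, ← coef_spec]

theorem loc_res {V V' : X.Opens} (h : V ≤ T) (h' : V' ≤ V) (n : Γ(N, V)) :
    F.presheaf.map (homOfLE h').op (loc F he σ h n) =
      loc F he σ (h'.trans h) (N.presheaf.map (homOfLE h').op n) := by
  unfold loc
  rw [smul_res, map_map]
  congr 1
  symm
  apply coef_eq
  conv_lhs => rw [coef_spec he h n]
  rw [smul_res, map_map]

end one

/-- two frames related by a function, and two target sections related by the same function, give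
the same local map -/
theorem loc_eq_of_rel {T T' : X.Opens} {e : Γ(N, T)} (he : IsFrame N T e) {e' : Γ(N, T')}
    (he' : IsFrame N T' e') (σ : Γ(F, T)) (σ' : Γ(F, T')) {V : X.Opens} (h : V ≤ T) (h' : V ≤ T')
    (c : Γ(X, V))
    (hc : N.presheaf.map (homOfLE h).op e = c • N.presheaf.map (homOfLE h').op e')
    (hc' : F.presheaf.map (homOfLE h).op σ = c • F.presheaf.map (homOfLE h').op σ')
    (n : Γ(N, V)) : loc F he σ h n = loc F he' σ' h' n := by
  have h1 : coef he' h' n = coef he h n * c := by
    apply coef_eq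
    rw [mul_smul, ← hc, ← coef_spec]
  unfold loc
  rw [h1, mul_smul, ← hc']

/-- **A morphism out of a module with a sparse system of frames.**  Let `N` have frames `s₀` over
`U₀` and `s z` over `U z`, where the `U z` cover the complement of `U₀` and meet pairwise inside
`U₀`, and let `F` have sections `σ₀`, `σ z` over the same opens, such that `s z = e z • s₀` and
`σ z = e z • σ₀` on `U z ∩ U₀`.  Then there is a morphism `N ⟶ F` with `s₀ ↦ σ₀`, `s z ↦ σ z`. -/
theorem exists_hom {Z : Type u} (U₀ : X.Opens) (U : Z → X.Opens)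
    (hU : ∀ z z' : Z, z ≠ z' → U z ⊓ U z' ≤ U₀) (hcov : ∀ x : X, x ∉ U₀ → ∃ z, x ∈ U z)
    (s₀ : Γ(N, U₀)) (hs₀ : IsFrame N U₀ s₀) (s : ∀ z, Γ(N, U z)) (hs : ∀ z, IsFrame N (U z) (s z))
    (σ₀ : Γ(F, U₀)) (σ : ∀ z, Γ(F, U z)) (e : ∀ z, Γ(X, U z ⊓ U₀))
    (he : ∀ z, N.presheaf.map (homOfLE (inf_le_left : U z ⊓ U₀ ≤ U z)).op (s z) =
      e z • N.presheaf.map (homOfLE (inf_le_right : U z ⊓ U₀ ≤ U₀)).op s₀)
    (he' : ∀ z, F.presheaf.map (homOfLE (inf_le_left : U z ⊓ U₀ ≤ U z)).op (σ z) =
      e z • F.presheaf.map (homOfLE (inf_le_right : U z ⊓ U₀ ≤ U₀)).op σ₀) :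
    ∃ ψ : N ⟶ F, ψ.app U₀ s₀ = σ₀ ∧ ∀ z, ψ.app (U z) (s z) = σ z := by
  classical
  let W : Option Z → X.Opens := fun i => i.elim U₀ U
  let S : ∀ i : Option Z, Γ(N, W i) := fun i => match i with
    | none => s₀
    | some z => s z
  let Sg : ∀ i : Option Z, Γ(F, W i) := fun i => match i with
    | none => σ₀
    | some z => σ z
  have hS : ∀ i, IsFrame N (W i) (S i) := fun i => match i with
    | none => hs₀
    | some z => hs z
  have hcovW : ⨆ i, W i = ⊤ := by
    rw [eq_top_iff]
    intro x _
    by_cases hx : x ∈ U₀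
    · exact Opens.mem_iSup.mpr ⟨none, hx⟩
    · obtain ⟨z, hz⟩ := hcov x hx
      exact Opens.mem_iSup.mpr ⟨some z, hz⟩
  -- agreement between `some z` and `none`
  have hA1 : ∀ (z : Z) (V : X.Opens) (h : V ≤ U z) (h' : V ≤ U₀) (n : Γ(N, V)),
      loc F (hS (some z)) (Sg (some z)) h n = loc F (hS none) (Sg none) h' n := by
    intro z V h h' n
    have hV : V ≤ U z ⊓ U₀ := le_inf h h'
    apply loc_eq_of_rel N F (hS (some z)) (hS none) (Sg (some z)) (Sg none) h h' (ρ hV (e z))
    · have := congrArg (N.presheaf.map (homOfLE hV).op) (he z)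
      rw [smul_res, map_map, map_map] at this
      exact this
    · have := congrArg (F.presheaf.map (homOfLE hV).op) (he' z)
      rw [smul_res, map_map, map_map] at this
      exact this
  have hA : ∀ (i j : Option Z) (V : X.Opens) (h : V ≤ W i) (h' : V ≤ W j) (n : Γ(N, V)),
      loc F (hS i) (Sg i) h n = loc F (hS j) (Sg j) h' n := by
    intro i j V h h' n
    match i, j with
    | none, none => rfl
    | some z, none => exact hA1 z V h h' n
    | none, some z => exact (hA1 z V h' h n).symm
    | some z, some z' =>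
      by_cases hzz : z = z'
      · subst hzz; rfl
      · have hV : V ≤ U₀ := (le_inf h h').trans (hU z z' hzz)
        exact (hA1 z V h hV n).trans (hA1 z' V h' hV n).symm
  let t : ∀ V : Small W, Γ(N, V.1) →+ Γ(F, V.1) := fun V =>
    { toFun := fun n => loc F (hS V.2.choose) (Sg V.2.choose) V.2.choose_spec n
      map_zero' := by
        have := loc_smul F (hS V.2.choose) (Sg V.2.choose) V.2.choose_spec 0 0
        rwa [zero_smul, zero_smul] at this
      map_add' := loc_add F (hS V.2.choose) (Sg V.2.choose) V.2.choose_spec }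
  have ht : ∀ (V : Small W) (i : Option Z) (h : V.1 ≤ W i) (n : Γ(N, V.1)),
      t V n = loc F (hS i) (Sg i) h n := fun V i h n => hA _ i V.1 _ h n
  obtain ⟨τ, hτ⟩ := exists_glue W t
    (fun V V' h n => by
      rw [ht V V.2.choose V.2.choose_spec, ht V' V.2.choose (h.trans V.2.choose_spec), loc_res])
    (fun V c n => by
      rw [ht V V.2.choose V.2.choose_spec, ht V V.2.choose V.2.choose_spec, loc_smul]) hcovW
  have key : ∀ (i : Option Z), τ.app (W i) (S i) = Sg i := by
    intro i
    rw [hτ ⟨W i, i, le_rfl⟩ (S i), ht ⟨W i, i, le_rfl⟩ i le_rfl]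
    have h1 := loc_smul_frame F (hS i) (Sg i) (le_rfl : W i ≤ W i) 1
    rw [one_smul, one_smul] at h1
    have h2 : N.presheaf.map (homOfLE (le_rfl : W i ≤ W i)).op (S i) = S i := by
      have : (homOfLE (le_rfl : W i ≤ W i)).op = 𝟙 (op (W i)) := rfl
      rw [this, N.presheaf.map_id]; rfl
    have h3 : F.presheaf.map (homOfLE (le_rfl : W i ≤ W i)).op (Sg i) = Sg i := by
      have : (homOfLE (le_rfl : W i ≤ W i)).op = 𝟙 (op (W i)) := rfl
      rw [this, F.presheaf.map_id]; rfl
    rw [h2, h3] at h1
    exact h1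
  exact ⟨τ, key none, fun z => key (some z)⟩

end Groth.Agent.Helper3.FrameHom
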