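import Mathlib
import Groth.Agent.Helper3.FrameHom

set_option autoImplicit false
set_option linter.style.haveILetI false
set_option linter.unusedSectionVars false
set_option linter.unusedVariables false
set_option linter.deprecated false
set_option linter.style.haveILetI false
set_option linter.unusedSectionVars false
set_option linter.unusedVariables false

universe u

open CategoryTheory CategoryTheory.Limits AlgebraicGeometry TopologicalSpace Opposite

namespace Groth.Agent.Helper3.GlueUnits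

open Scheme.Modules Groth.Agent.Helper3.GlueInv Groth.Agent.Helper3.DiscPic1
  Groth.Agent.Helper4.TwistExt Groth.Agent.Helper4.StalkExact

variable {X : Scheme.{u}}

/-- a frame from a compatible family of bijections to the functions -/
theorem isFrame_of_bijective (N : X.Modules) (T₀ : X.Opens) (s : Γ(N, T₀))
    (Φ : ∀ (T : X.Opens), T ≤ T₀ → Γ(N, T) → Γ(X, T))
    (hΦ : ∀ T hT, Function.Bijective (Φ T hT))
    (hsmul : ∀ T hT (r : Γ(X, T)) (m : Γ(N, T)), Φ T hT (r • m) = r * Φ T hT m)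
    (hone : ∀ T hT, Φ T hT (N.presheaf.map (homOfLE hT).op s) = 1) : IsFrame N T₀ s := by
  intro T hT
  have key : ∀ r : Γ(X, T), Φ T hT (r • N.presheaf.map (homOfLE hT).op s) = r := by
    intro r; rw [hsmul, hone, mul_one]
  constructor
  · intro m
    exact ⟨Φ T hT m, (hΦ T hT).1 (key _).symm⟩
  · intro r hr
    have h1 := key r
    rw [hr] at h1
    have h2 : Φ T hT 0 = 0 := by
      have := hsmul T hT 0 0
      rwa [zero_smul, zero_mul] at this
    rw [← h1, h2]

/-- **Gluing the structure sheaves by units.** -/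
theorem exists_of_units (U : X.Opens) {Z : Type u} (V : Z → X.Opens)
    (hV : ∀ z z' : Z, z ≠ z' → V z ⊓ V z' ≤ U) (hcov : ∀ x : X, x ∉ U → ∃ z, x ∈ V z)
    (b : ∀ z, Γ(X, V z ⊓ U)) (hb : ∀ z, IsUnit (b z)) :
    ∃ (N : X.Modules) (s₀ : Γ(N, U)) (s : ∀ z, Γ(N, V z)),
      PicF.IsInvertible N ∧ IsFrame N U s₀ ∧ (∀ z, IsFrame N (V z) (s z)) ∧
      ∀ z, N.presheaf.map (homOfLE (inf_le_left : V z ⊓ U ≤ V z)).op (s z) =
        b z • N.presheaf.map (homOfLE (inf_le_right : V z ⊓ U ≤ U)).op s₀ := by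
  have hle : ∀ z, U.ι ''ᵁ (U.ι ⁻¹ᵁ (V z ⊓ U)) ≤ V z ⊓ U :=
    fun z => (img_le' U (V z ⊓ U)).trans inf_le_left
  let b' : ∀ z, Γ(X, U.ι ''ᵁ (U.ι ⁻¹ᵁ (V z ⊓ U))) := fun z =>
    X.presheaf.map (homOfLE (hle z)).op (b z)
  have hb' : ∀ z, IsUnit (b' z) := fun z => (hb z).map (X.presheaf.map _).hom
  let e : ∀ z, Γ(RU U, V z ⊓ U) := fun z => ofX U (V z ⊓ U) (b' z)
  have he : ∀ (z : Z) (T : X.Opens) (hT : T ≤ V z ⊓ U),
      Function.Bijective (fun r : Γ(X, T) => r • (RU U).presheaf.map (homOfLE hT).op (e z)) :=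
    fun z T hT => frame_of_unit U (V z ⊓ U) inf_le_right (b' z) (hb' z) T hT
  obtain ⟨L, π₀, π, hπ₀, hπ, hcond, hex⟩ := glue U (RU U) (RU_bijective U) V hV e he
  -- the frames
  obtain ⟨s₀, hs₀⟩ := (hπ₀ U le_rfl).2 (ofX U U 1)
  choose s hs using fun z => (hπ z (V z) le_rfl).2 (ofX (V z) (V z) 1)
  -- frame property of `s₀`
  have hTU : ∀ T : X.Opens, T ≤ U → T ≤ T ⊓ U := fun T hT => le_inf le_rfl hT
  have hF₀ : IsFrame L U s₀ := by
    apply isFrame_of_bijective L U s₀
      (fun T hT m => rX U T T (hTU T hT) (π₀.app T m))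
    · intro T hT
      exact (rX_bijective U T T (hTU T hT) inf_le_left).comp (hπ₀ T hT)
    · intro T hT r m
      show rX U T T _ (π₀.app T (r • m)) = _
      rw [Scheme.Modules.Hom.app_smul, rX_smul, res_self]
    · intro T hT
      show rX U T T _ (π₀.app T _) = 1
      rw [app_res, hs₀, rX_map, rX_ofX, map_one]
  have hTV : ∀ (z : Z) (T : X.Opens), T ≤ V z → T ≤ T ⊓ V z := fun z T hT => le_inf le_rfl hT
  have hF : ∀ z, IsFrame L (V z) (s z) := by
    intro z
    apply isFrame_of_bijective L (V z) (s z)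
      (fun T hT m => rX (V z) T T (hTV z T hT) ((π z).app T m))
    · intro T hT
      exact (rX_bijective (V z) T T (hTV z T hT) inf_le_left).comp (hπ z T hT)
    · intro T hT r m
      show rX (V z) T T _ ((π z).app T (r • m)) = _
      rw [Scheme.Modules.Hom.app_smul, rX_smul, res_self]
    · intro T hT
      show rX (V z) T T _ ((π z).app T _) = 1
      rw [app_res, hs z, rX_map, rX_ofX, map_one]
  refine ⟨L, s₀, s, ?_, hF₀, hF, ?_⟩
  · -- invertibility
    intro y
    by_cases hyU : y ∈ U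
    · exact ⟨U, hyU, Groth.Agent.Helper1.CC.nonempty_iso_of_generator L U s₀
        (fun T hT => Groth.Agent.Helper3.DiscPic2.bijective_of_isFrame L U s₀ hF₀ T hT)⟩
    · obtain ⟨z, hz⟩ := hcov y hyU
      exact ⟨V z, hz, Groth.Agent.Helper1.CC.nonempty_iso_of_generator L (V z) (s z)
        (fun T hT => Groth.Agent.Helper3.DiscPic2.bijective_of_isFrame L (V z) (s z) (hF z) T hT)⟩
  · -- the relation
    intro z
    have hT : V z ⊓ U ≤ U := inf_le_right
    have hinj := ((rX_bijective U _ _ (hTU _ hT) inf_le_left).comp (hπ₀ _ hT)).1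
    apply hinj
    show rX U _ _ _ (π₀.app _ _) = rX U _ _ _ (π₀.app _ (b z • _))
    rw [Scheme.Modules.Hom.app_smul, rX_smul, res_self, app_res, app_res, hs₀, rX_map, rX_map,
      rX_ofX, map_one, mul_one]
    -- use the gluing condition
    have hc := hcond (V z) (s z) z
    have hT' : V z ⊓ U ≤ (V z ⊓ (V z ⊓ U)) ⊓ U :=
      le_inf (le_inf inf_le_left le_rfl) inf_le_right
    have hc' := congrArg (rX U _ (V z ⊓ U) hT') hc
    rw [rX_smul, rX_map, rX_map, map_resX] at hc'
    beta_reduce at hc'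
    rw [hs z, resX_eq_rX] at hc'
    rw [hc']
    show rX (V z) (V z) _ _ (ofX (V z) (V z) 1) * rX U _ _ _ (ofX U _ (b' z)) = b z
    rw [rX_ofX, rX_ofX, map_one, one_mul]
    show X.presheaf.map _ (X.presheaf.map _ (b z)) = b z
    rw [res_res, res_self]

end Groth.Agent.Helper3.GlueUnits
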