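import Mathlib
import Groth.Agent.Helper3.GlueUnits
import Groth.Agent.Helper3.PuncTriv
import Groth.Agent.Helper3.Dim1Top

set_option autoImplicit false
set_option linter.style.haveILetI false
set_option linter.unusedSectionVars false
set_option linter.unusedVariables false
set_option linter.deprecated false
set_option linter.style.haveILetI false
set_option linter.unusedSectionVars false
set_option linter.unusedVariables false

universe u

open CategoryTheory CategoryTheory.Limits AlgebraicGeometry TopologicalSpace Opposite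

namespace Groth.Agent.Helper3.FrameFin

open Scheme.Modules Groth.Agent.Helper4.TwistExt Groth.Agent.Helper4.TensorInv
  Groth.Agent.Helper1.CC

variable {X : Scheme.{u}}

/-- restriction of a frame is a frame -/
theorem isFrame_of_le {L : X.Modules} {T T' : X.Opens} {e : Γ(L, T)} (h : IsFrame L T e)
    (hT : T' ≤ T) : IsFrame L T' (L.presheaf.map (homOfLE hT).op e) := by
  intro V hV
  have := h V (hV.trans hT)
  rw [map_map]
  exact this

/-- two frames over the same open differ by a unit -/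
theorem exists_unit_of_frames {L : X.Modules} {T : X.Opens} (e e' : Γ(L, T))
    (he : IsFrame L T e) (he' : IsFrame L T e') : ∃ u : Γ(X, T), IsUnit u ∧ e' = u • e := by
  have hid : ∀ m : Γ(L, T), L.presheaf.map (homOfLE (le_rfl : T ≤ T)).op m = m := by
    intro m
    have : (homOfLE (le_rfl : T ≤ T)).op = 𝟙 (op T) := rfl
    rw [this, L.presheaf.map_id]; rfl
  obtain ⟨u, hu⟩ := (he T le_rfl).1 e'
  obtain ⟨v, hv⟩ := (he' T le_rfl).1 e
  rw [hid] at hu hv
  refine ⟨u, ?_, hu⟩
  have h1 : (u * v - 1) • L.presheaf.map (homOfLE (le_rfl : T ≤ T)).op e' = 0 := by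
    rw [hid, sub_smul, mul_smul, ← hv, ← hu, one_smul, sub_self]
  have h2 := (he' T le_rfl).2 _ h1
  exact IsUnit.of_mul_eq_one v (sub_eq_zero.mp h2)

/-- an invertible module has a frame on an open containing a given finite subset of an affine
open -/
theorem exists_frame_of_finite (L : X.Modules) (hL : PicF.IsInvertible L) (X₀ : X.Opens)
    (hX₀ : IsAffineOpen X₀) (E : Set X) (hE : E.Finite) (hEX₀ : E ⊆ X₀) :
    ∃ (B : X.Opens) (ε : Γ(L, B)), E ⊆ B ∧ B ≤ X₀ ∧ IsFrame L B ε := by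
  haveI : IsAffine (↑X₀ : Scheme.{u}) := hX₀
  let N₀ := L.restrict X₀.ι
  have hN₀ : PicF.IsInvertible N₀ := Groth.Agent.Helper4.QAffSec.isInvertible_restrict X₀.ι hL
  let E₀ : Set (↑X₀ : Scheme.{u}) := X₀.ι ⁻¹' E
  have hE₀ : E₀.Finite := hE.preimage X₀.ι.isOpenEmbedding.injective.injOn
  obtain ⟨g, -, hEg, -, ⟨i⟩⟩ := Groth.Agent.Helper4.QAffSec.exists_basicOpen_triv N₀ hN₀ ⊤ E₀ hE₀
    (fun _ _ => trivial)
  let B₀ : (↑X₀ : Scheme.{u}).Opens := (↑X₀ : Scheme.{u}).basicOpen g
  have h2 : IsTrivAlong L (B₀.ι ≫ X₀.ι) :=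
    ⟨(Scheme.Modules.restrictFunctorComp B₀.ι X₀.ι).app L ≪≫ i⟩
  obtain ⟨ε⟩ := Groth.Agent.Helper4.AmpleLocal.IsTrivAlong.opensRange' _ h2
  let B : X.Opens := (B₀.ι ≫ X₀.ι).opensRange
  have hfr := isFrame_of_triv L B ε
  have hB : B ≤ B.ι ''ᵁ ⊤ := (Scheme.Opens.ι_image_top B).ge
  refine ⟨B, _, ?_, ?_, isFrame_of_le hfr hB⟩
  · intro x hx
    have hx₀ : (⟨x, hEX₀ hx⟩ : (↑X₀ : Scheme.{u})) ∈ B₀ := hEg (show _ ∈ E₀ from hx)
    exact ⟨⟨⟨x, hEX₀ hx⟩, hx₀⟩, rfl⟩
  · rintro _ ⟨y, rfl⟩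
    exact (B₀.ι y).2

/-- in a local ring of dimension `≤ 1`, a chain of specializations `y ⤳ y' ⤳ z` with `y' ≠ z`
has `y = y'` -/
theorem eq_of_specializes_chain (Y : Scheme.{u}) {z y y' : Y}
    (hd : ringKrullDim (Y.presheaf.stalk z) ≤ 1) (h1 : y ⤳ y') (h2 : y' ⤳ z) (hne : y' ≠ z) :
    y = y' := by
  have hy' : y' ∈ Set.range (Y.fromSpecStalk z) := by
    rw [Scheme.range_fromSpecStalk]; exact h2
  have hy : y ∈ Set.range (Y.fromSpecStalk z) := by
    rw [Scheme.range_fromSpecStalk]; exact h1.trans h2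
  obtain ⟨q', rfl⟩ := hy'
  obtain ⟨q, rfl⟩ := hy
  let p' : PrimeSpectrum (Y.presheaf.stalk z) := q'
  let p : PrimeSpectrum (Y.presheaf.stalk z) := q
  have hle : p ≤ p' :=
    (PrimeSpectrum.le_iff_specializes p p').mpr
      ((Y.fromSpecStalk z).isEmbedding.isInducing.specializes_iff.mp h1)
  have hk : Ring.KrullDimLE 1 (Y.presheaf.stalk z) := Ring.krullDimLE_iff.mpr hd
  rw [Ring.krullDimLE_one_iff] at hk
  rcases hk p'.asIdeal p'.isPrime with h | h
  · have : p'.asIdeal ≤ p.asIdeal := h.2 ⟨p.isPrime, bot_le⟩ hle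
    have heq : p = p' := PrimeSpectrum.ext (le_antisymm hle this)
    exact congrArg (Y.fromSpecStalk z) heq
  · exfalso
    apply hne
    have heq : p' = IsLocalRing.closedPoint (Y.presheaf.stalk z) :=
      PrimeSpectrum.ext (IsLocalRing.eq_maximalIdeal h)
    have h3 : Y.fromSpecStalk z p' = z := by
      rw [heq]; exact Scheme.fromSpecStalk_closedPoint
    exact h3

/-- the order on the primes of an affine open reflects specialization -/
theorem specializes_of_primeIdealOf_le {T : X.Opens} (hT : IsAffineOpen T) (y y' : T)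
    (h : (hT.primeIdealOf y).asIdeal ≤ (hT.primeIdealOf y').asIdeal) : (y : X) ⤳ (y' : X) := by
  have h1 : hT.primeIdealOf y ⤳ hT.primeIdealOf y' :=
    (PrimeSpectrum.le_iff_specializes _ _).mp h
  have h2 : y ⤳ y' :=
    (hT.isoSpec.hom.isOpenEmbedding.isInducing.specializes_iff).mp h1
  exact h2.map continuous_subtype_val

end Groth.Agent.Helper3.FrameFin
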