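import Mathlib
import Groth.Agent.Helper3.FrameFin
import Groth.Agent.Helper4.StalkDict
import Groth.Prelude.Def_BlowUp2

set_option autoImplicit false
set_option linter.style.haveILetI false
set_option linter.unusedSectionVars false
set_option linter.unusedVariables false
set_option linter.deprecated false
set_option linter.style.haveILetI false
set_option linter.unusedSectionVars false
set_option linter.unusedVariables false

open CategoryTheory Limits AlgebraicGeometry TopologicalSpace Opposite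
universe u

namespace Groth.Agent.Helper3.CartDict

variable {X : Scheme.{u}}

/-- the prime of a point in an affine chart is the set of functions vanishing at it -/
theorem mem_prime_iff (V : X.affineOpens) (x : X) (hx : x ∈ V.1) (g : Γ(X, V.1)) :
    g ∈ (V.2.primeIdealOf ⟨x, hx⟩).asIdeal ↔ x ∉ X.basicOpen g := by
  rw [Groth.Agent.Helper4.StalkDict.mem_basicOpen_iff_notMem_primeIdealOf V.2 x hx g, not_not]

theorem specializes_iff (V : X.affineOpens) (x y : X) (hx : x ∈ V.1) (hy : y ∈ V.1) :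
    x ⤳ y ↔ (V.2.primeIdealOf ⟨x, hx⟩).asIdeal ≤ (V.2.primeIdealOf ⟨y, hy⟩).asIdeal := by
  constructor
  · intro h g hg
    rw [mem_prime_iff] at hg ⊢
    intro hyg
    exact hg (h.mem_open (X.basicOpen g).2 hyg)
  · intro h
    exact Groth.Agent.Helper3.FrameFin.specializes_of_primeIdealOf_le V.2 ⟨x, hx⟩ ⟨y, hy⟩ h

theorem eq_of_prime_eq (V : X.affineOpens) (x y : X) (hx : x ∈ V.1) (hy : y ∈ V.1)
    (h : (V.2.primeIdealOf ⟨x, hx⟩).asIdeal = (V.2.primeIdealOf ⟨y, hy⟩).asIdeal) : x = y := by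
  have h1 := (specializes_iff V x y hx hy).mpr h.le
  have h2 := (specializes_iff V y x hy hx).mpr h.ge
  exact (h1.antisymm h2).eq

theorem exists_point_of_prime (V : X.affineOpens) (q : Ideal Γ(X, V.1)) [hq : q.IsPrime] :
    ∃ (x : X) (hx : x ∈ V.1), (V.2.primeIdealOf ⟨x, hx⟩).asIdeal = q := by
  let y : (V.1 : Scheme.{u}) := V.2.isoSpec.inv ⟨q, hq⟩
  refine ⟨y.1, y.2, ?_⟩
  have : V.2.primeIdealOf ⟨y.1, y.2⟩ = ⟨q, hq⟩ := by
    change V.2.isoSpec.hom (V.2.isoSpec.inv ⟨q, hq⟩) = _
    rw [← Scheme.Hom.comp_apply, Iso.inv_hom_id]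
    rfl
  rw [this]

/-- `I` is generated on the affine open `V` by one nonzerodivisor -/
def Princ (I : X.IdealSheafData) (V : X.affineOpens) : Prop :=
  ∃ t : Γ(X, V.1), t ∈ nonZeroDivisors Γ(X, V.1) ∧ I.ideal V = Ideal.span {t}

theorem flat_res {U V : X.Opens} (hU : IsAffineOpen U) (hV : IsAffineOpen V)
    (h : V ≤ U) : (X.presheaf.map (homOfLE h).op).hom.Flat := by
  have h1 := HasRingHomProperty.appLE (P := @Flat) (𝟙 X) inferInstance ⟨U, hU⟩ ⟨V, hV⟩ h
  have h2 : (𝟙 X : X ⟶ X).appLE U V h = X.presheaf.map (homOfLE h).op := by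
    rw [Scheme.Hom.appLE]
    simp only [Scheme.Hom.id_app]
    exact Category.id_comp _
  rw [h2] at h1
  exact h1

theorem Princ.of_le {I : X.IdealSheafData} {V W : X.affineOpens} (h : Princ I V) (hWV' : W ≤ V) :
    Princ I W := by
  have hWV : W.1 ≤ V.1 := hWV'
  obtain ⟨t, ht, hI⟩ := h
  refine ⟨(X.presheaf.map (homOfLE hWV).op).hom t, ?_, ?_⟩
  · have hfl := flat_res V.2 W.2 hWV
    letI := (X.presheaf.map (homOfLE hWV).op).hom.toAlgebra
    haveI : Module.Flat Γ(X, V.1) Γ(X, W.1) := hfl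
    have h1 : IsSMulRegular Γ(X, V.1) t := by
      intro a b hab
      have hab' : t * a = t * b := hab
      have h0 : t * (a - b) = 0 := by rw [mul_sub, hab', sub_self]
      exact sub_eq_zero.mp ((mul_left_mem_nonZeroDivisors_eq_zero_iff ht).mp h0)
    have h2 : IsSMulRegular Γ(X, W.1) (algebraMap Γ(X, V.1) Γ(X, W.1) t) :=
      IsSMulRegular.of_flat h1
    rw [mem_nonZeroDivisors_iff_right]
    intro a ha
    have : (algebraMap Γ(X, V.1) Γ(X, W.1) t) • a = (algebraMap Γ(X, V.1) Γ(X, W.1) t) • 0 := by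
      rw [smul_zero, smul_eq_mul, mul_comm]; exact ha
    exact h2 this
  · rw [← I.map_ideal hWV', hI, Ideal.map_span, Set.image_singleton]
    rfl

theorem exists_princ_chart {ι : Type*} (𝓓 : ι → X.IdealSheafData)
    (hD : ∀ i, BlowUp.IsEffCartierIdeal (𝓓 i)) (S : Finset ι) (x : X) :
    ∃ V : X.affineOpens, x ∈ V.1 ∧ ∀ i ∈ S, Princ (𝓓 i) V := by
  classical
  choose V hxV hV using fun i => hD i x
  let W : X.Opens := S.inf (fun i => (V i).1)
  have hxW : x ∈ W := by
    have : ∀ (T : Finset ι), x ∈ T.inf (fun i => (V i).1) := by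
      intro T
      induction T using Finset.induction_on with
      | empty => simp
      | insert i T' hi ih =>
        rw [Finset.inf_insert]
        exact ⟨hxV i, ih⟩
    exact this S
  obtain ⟨_, ⟨V₀, hV₀, rfl⟩, hxV₀, hle⟩ :=
    (X.isBasis_affineOpens).exists_subset_of_mem_open hxW W.2
  refine ⟨⟨V₀, hV₀⟩, hxV₀, ?_⟩
  intro i hi
  have hle' : (⟨V₀, hV₀⟩ : X.affineOpens) ≤ V i := by
    intro y hy
    have h1 : y ∈ W := hle hy
    exact (Finset.inf_le hi : W ≤ (V i).1) h1
  obtain ⟨f, hf, hfI⟩ := hV i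
  exact Princ.of_le ⟨f, hf, hfI⟩ hle'

/-- membership in the ideal of an integral closed subscheme is vanishing at its generic point -/
theorem mem_ideal_iff_of_isGenericPoint (I : X.IdealSheafData) [IsIntegral I.subscheme] (ξ : X)
    (hξ : IsGenericPoint ξ (I.support : Set X)) (V : X.affineOpens) (g : Γ(X, V.1)) :
    g ∈ I.ideal V ↔ ξ ∉ X.basicOpen g := by
  rw [← I.ker_subschemeι_app V, RingHom.mem_ker]
  have h1 : (I.subschemeι.app V).hom g = 0 ↔
      I.subscheme.basicOpen ((I.subschemeι.app V).hom g) = ⊥ :=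
    (basicOpen_eq_bot_iff _).symm
  rw [h1, ← Scheme.preimage_basicOpen]
  have hξs : ξ ∈ (I.support : Set X) := hξ.mem
  constructor
  · intro h hξg
    have : (⟨ξ, hξs⟩ : I.subscheme) ∈ I.subschemeι ⁻¹ᵁ X.basicOpen g := hξg
    rw [h] at this
    exact this
  · intro h
    ext y
    simp only [Opens.coe_bot, Set.mem_empty_iff_false, iff_false]
    intro hy
    have hy1 : I.subschemeι y ∈ X.basicOpen g := hy
    have hy2 : I.subschemeι y ∈ (I.support : Set X) := by
      rw [← I.range_subschemeι]; exact ⟨y, rfl⟩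
    have hsp : ξ ⤳ I.subschemeι y := hξ.specializes hy2
    exact h (hsp.mem_open (X.basicOpen g).2 hy1)

end Groth.Agent.Helper3.CartDict
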