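import Mathlib
import Groth.Agent.Helper3.CartAlg
import Groth.Agent.Helper3.CartDict

set_option autoImplicit false
set_option linter.style.haveILetI false
set_option linter.unusedSectionVars false
set_option linter.unusedVariables false
set_option linter.deprecated false
set_option linter.style.haveILetI false
set_option linter.unusedSectionVars false
set_option linter.unusedVariables false

open CategoryTheory Limits AlgebraicGeometry TopologicalSpace Opposite
universe u

namespace Groth.Agent.Helper3.CartLoc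

open Groth.Agent.Helper3.CartDict Groth.Agent.Helper3.CartAlg

variable {X : Scheme.{u}} [IsLocallyNoetherian X]

section
variable (I : X.IdealSheafData) [IsIntegral I.subscheme] (ξ : X)
  (hξ : IsGenericPoint ξ (I.support : Set X))

include hξ

theorem prime_eq (V : X.affineOpens) (hξV : ξ ∈ V.1) :
    (V.2.primeIdealOf ⟨ξ, hξV⟩).asIdeal = I.ideal V := by
  ext g
  rw [mem_prime_iff, mem_ideal_iff_of_isGenericPoint I ξ hξ]

theorem ideal_ne_top (V : X.affineOpens) (hξV : ξ ∈ V.1) : I.ideal V ≠ ⊤ := by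
  rw [← prime_eq I ξ hξ V hξV]
  exact (V.2.primeIdealOf ⟨ξ, hξV⟩).isPrime.ne_top

theorem ideal_isPrime (V : X.affineOpens) (hξV : ξ ∈ V.1) : (I.ideal V).IsPrime := by
  rw [← prime_eq I ξ hξ V hξV]
  exact (V.2.primeIdealOf ⟨ξ, hξV⟩).isPrime

theorem ideal_eq_top (V : X.affineOpens) (hξV : ξ ∉ V.1) : I.ideal V = ⊤ := by
  rw [Ideal.eq_top_iff_one, mem_ideal_iff_of_isGenericPoint I ξ hξ]
  intro h
  exact hξV (X.basicOpen_le _ h)

/-- the killing element attached to a strict generization of the generic point of an integral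
effective Cartier divisor -/
theorem exists_kill_chart (V : X.affineOpens) (hξV : ξ ∈ V.1) (hP : Princ I V)
    (x : X) (hx : x ⤳ ξ) (hne : x ≠ ξ) :
    ∃ e : Γ(X, V.1), e - 1 ∈ I.ideal V ∧ ∀ g : Γ(X, V.1), x ∉ X.basicOpen g → e * g = 0 := by
  haveI : IsNoetherianRing Γ(X, V.1) := IsLocallyNoetherian.component_noetherian V
  obtain ⟨t, ht, hIt⟩ := hP
  have hxV : x ∈ V.1 := hx.mem_open V.1.2 hξV
  let p := (V.2.primeIdealOf ⟨x, hxV⟩).asIdeal
  have hpP : p ≤ Ideal.span {t} := by
    rw [← hIt]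
    intro g hg
    rw [mem_prime_iff] at hg
    rw [mem_ideal_iff_of_isGenericPoint I ξ hξ]
    intro h
    exact hg (hx.mem_open (X.basicOpen g).2 h)
  have htp : t ∉ p := by
    intro h
    apply hne
    apply eq_of_prime_eq V x ξ hxV hξV
    rw [prime_eq I ξ hξ V hξV, hIt]
    apply le_antisymm hpP
    rw [Ideal.span_singleton_le_iff_mem]
    exact h
  obtain ⟨e, he1, he2⟩ := exists_kill t p hpP htp
  refine ⟨e, by rw [hIt]; exact he1, ?_⟩
  intro g hg
  apply he2
  change g ∈ (V.2.primeIdealOf ⟨x, hxV⟩).asIdeal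
  rw [mem_prime_iff]
  exact hg

/-- a strict generization of `ξ` generizes every generization of `ξ` -/
theorem specializes_of_strict (hI : BlowUp.IsEffCartierIdeal I) (x y : X) (hx : x ⤳ ξ)
    (hne : x ≠ ξ) (hy : y ⤳ ξ) : x ⤳ y := by
  obtain ⟨V, hξV, f, hf, hfI⟩ := hI ξ
  have hxV : x ∈ V.1 := hx.mem_open V.1.2 hξV
  have hyV : y ∈ V.1 := hy.mem_open V.1.2 hξV
  obtain ⟨e, he1, he2⟩ := exists_kill_chart I ξ hξ V hξV ⟨f, hf, hfI⟩ x hx hne
  rw [specializes_iff V x y hxV hyV]
  intro g hg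
  rw [mem_prime_iff] at hg
  have h0 : e * g = 0 := he2 g hg
  haveI := (V.2.primeIdealOf ⟨y, hyV⟩).isPrime
  have h1 : e * g ∈ (V.2.primeIdealOf ⟨y, hyV⟩).asIdeal := by rw [h0]; exact Ideal.zero_mem _
  rcases Ideal.IsPrime.mem_or_mem inferInstance h1 with h2 | h2
  · exfalso
    have hyP : (V.2.primeIdealOf ⟨y, hyV⟩).asIdeal ≤ I.ideal V := by
      rw [← prime_eq I ξ hξ V hξV]
      exact (specializes_iff V y ξ hyV hξV).mp hy
    have h3 : e ∈ I.ideal V := hyP h2
    have h4 : (1 : Γ(X, V.1)) ∈ I.ideal V := by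
      have := (I.ideal V).sub_mem h3 he1
      simpa using this
    exact ideal_ne_top I ξ hξ V hξV ((Ideal.eq_top_iff_one _).mpr h4)
  · exact h2

/-- a strict generization of `ξ` lies on no effective Cartier divisor -/
theorem not_mem_support_of_strict (hI : BlowUp.IsEffCartierIdeal I) (J : X.IdealSheafData)
    (hJ : BlowUp.IsEffCartierIdeal J) (x : X) (hx : x ⤳ ξ) (hne : x ≠ ξ) : x ∉ J.support := by
  intro hxJ
  obtain ⟨V, hξV, hV⟩ := exists_princ_chart (fun b : Bool => if b then I else J)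
    (fun b => by cases b <;> simpa) Finset.univ ξ
  have hPI : Princ I V := by simpa using hV true (Finset.mem_univ _)
  have hPJ : Princ J V := by simpa using hV false (Finset.mem_univ _)
  have hxV : x ∈ V.1 := hx.mem_open V.1.2 hξV
  obtain ⟨e, he1, he2⟩ := exists_kill_chart I ξ hξ V hξV hPI x hx hne
  obtain ⟨s, hs, hsJ⟩ := hPJ
  have hxs : x ∉ X.basicOpen s := by
    have h1 := (Scheme.IdealSheafData.mem_support_iff_of_mem (I := J) (U := V) hxV).mp hxJ
    rw [Scheme.mem_zeroLocus_iff] at h1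
    exact h1 s (by rw [hsJ]; exact Ideal.mem_span_singleton_self s)
  have h0 : e * s = 0 := he2 s hxs
  have he0 : e = 0 := (mul_right_mem_nonZeroDivisors_eq_zero_iff hs).mp h0
  have h4 : (1 : Γ(X, V.1)) ∈ I.ideal V := by
    have := (I.ideal V).neg_mem he1
    simpa [he0] using this
  exact ideal_ne_top I ξ hξ V hξV ((Ideal.eq_top_iff_one _).mpr h4)

/-- the generic point of an integral effective Cartier divisor has a strict generization -/
theorem exists_strict (hI : BlowUp.IsEffCartierIdeal I) : ∃ η : X, η ⤳ ξ ∧ η ≠ ξ := by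
  obtain ⟨V, hξV, t, ht, hIt⟩ := hI ξ
  haveI := ideal_isPrime I ξ hξ V hξV
  obtain ⟨q, hq, hqP⟩ := Ideal.exists_minimalPrimes_le (bot_le : (⊥ : Ideal Γ(X, V.1)) ≤ I.ideal V)
  haveI : q.IsPrime := hq.1.1
  have htq : t ∉ q := by
    intro h
    exact Set.disjoint_left.mp (Ideal.disjoint_nonZeroDivisors_of_mem_minimalPrimes hq) h ht
  obtain ⟨η, hηV, hη⟩ := exists_point_of_prime V q
  refine ⟨η, ?_, ?_⟩
  · rw [specializes_iff V η ξ hηV hξV, hη, prime_eq I ξ hξ V hξV]
    exact hqP
  · rintro rfl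
    apply htq
    rw [← hη, prime_eq I _ hξ V hξV, hIt]
    exact Ideal.mem_span_singleton_self t

/-- strict generizations of `ξ` are maximal points of `X` -/
theorem eq_of_specializes_strict (hI : BlowUp.IsEffCartierIdeal I) (η y : X) (hη : η ⤳ ξ)
    (hne : η ≠ ξ) (hy : y ⤳ η) : y = η := by
  have h1 : η ⤳ y := specializes_of_strict I ξ hξ hI η y hη hne (hy.trans hη)
  exact (hy.antisymm h1).eq

end

end Groth.Agent.Helper3.CartLoc
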