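import Mathlib
import Groth.Agent.Helper3.CartLoc
import Groth.Prelude.Def_IntMult

set_option autoImplicit false
set_option linter.style.haveILetI false
set_option linter.unusedSectionVars false
set_option linter.unusedVariables false
set_option linter.deprecated false
set_option linter.style.haveILetI false
set_option linter.unusedSectionVars false
set_option linter.unusedVariables false

open CategoryTheory Limits AlgebraicGeometry TopologicalSpace Opposite
universe u

namespace Groth.Agent.Helper3.IntMultA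

open Groth.Agent.Helper3.CartDict Groth.Agent.Helper3.CartLoc

variable {X : Scheme.{u}} [IsLocallyNoetherian X]

theorem map_germ_eq_of_le (I : X.IdealSheafData) {U V : X.affineOpens} (hVU : V ≤ U) (x : X)
    (hxV : x ∈ V.1) :
    (I.ideal U).map (X.presheaf.germ U.1 x (hVU hxV)).hom =
      (I.ideal V).map (X.presheaf.germ V.1 x hxV).hom := by
  rw [← I.map_ideal hVU, Ideal.map_map]
  congr 1
  have h : X.presheaf.map (homOfLE (show V.1 ≤ U.1 from hVU)).op ≫ X.presheaf.germ V.1 x hxV =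
      X.presheaf.germ U.1 x (hVU hxV) := X.presheaf.germ_res _ _ _
  rw [← h]
  rfl

/-- the stalk of an ideal sheaf can be computed on any affine open neighbourhood -/
theorem stalkIdeal_eq (I : X.IdealSheafData) (U : X.affineOpens) (x : X) (hx : x ∈ U.1) :
    IntMult.stalkIdeal I x = (I.ideal U).map (X.presheaf.germ U.1 x hx).hom := by
  unfold IntMult.stalkIdeal
  apply le_antisymm
  · apply iSup₂_le
    intro U' hx'
    obtain ⟨_, ⟨V, hV, rfl⟩, hxV, hle⟩ :=
      (X.isBasis_affineOpens).exists_subset_of_mem_open (show x ∈ (U.1 ⊓ U'.1 : X.Opens) from ⟨hx, hx'⟩)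
        (U.1 ⊓ U'.1).2
    have hVU : (⟨V, hV⟩ : X.affineOpens) ≤ U := fun y hy => (hle hy).1
    have hVU' : (⟨V, hV⟩ : X.affineOpens) ≤ U' := fun y hy => (hle hy).2
    rw [map_germ_eq_of_le I hVU' x hxV, ← map_germ_eq_of_le I hVU x hxV]
  · exact le_iSup₂ (f := fun (U : X.affineOpens) (hx : x ∈ (U : X.Opens)) =>
      (I.ideal U).map (X.presheaf.germ U x hx).hom) U hx

section
variable (I : X.IdealSheafData) [IsIntegral I.subscheme] (ξ₀ : X)
  (hξ₀ : IsGenericPoint ξ₀ (I.support : Set X)) (x : X) (hx : x ∈ I.support)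

include hξ₀ hx

/-- the stalk of the ideal of an integral closed subscheme at one of its points is prime -/
theorem stalkIdeal_isPrime : (IntMult.stalkIdeal I x).IsPrime := by
  obtain ⟨_, ⟨U, hU, rfl⟩, hxU, -⟩ :=
    (X.isBasis_affineOpens).exists_subset_of_mem_open (show x ∈ (⊤ : X.Opens) from trivial)
      (⊤ : X.Opens).2
  have hξ₀U : ξ₀ ∈ U := (hξ₀.specializes hx).mem_open U.2 hxU
  rw [stalkIdeal_eq I ⟨U, hU⟩ x hxU]
  haveI hP := ideal_isPrime I ξ₀ hξ₀ ⟨U, hU⟩ hξ₀U
  letI := X.presheaf.algebra_section_stalk ⟨x, hxU⟩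
  haveI := hU.isLocalization_stalk ⟨x, hxU⟩
  have hdisj : Disjoint ((hU.primeIdealOf ⟨x, hxU⟩).asIdeal.primeCompl : Set Γ(X, U))
      (I.ideal ⟨U, hU⟩ : Set Γ(X, U)) := by
    rw [Set.disjoint_left]
    intro f hf hfI
    apply hf
    refine (mem_prime_iff ⟨U, hU⟩ x hxU f).mpr ?_
    have h1 := (Scheme.IdealSheafData.mem_support_iff_of_mem (I := I) (U := ⟨U, hU⟩) hxU).mp hx
    rw [Scheme.mem_zeroLocus_iff] at h1
    exact h1 f hfI
  exact IsLocalization.isPrime_of_isPrime_disjoint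
    (hU.primeIdealOf ⟨x, hxU⟩).asIdeal.primeCompl (X.presheaf.stalk x) _ hP hdisj

/-- if the stalk of `J` at `x` lies in the stalk of the prime ideal sheaf `I` then the support of `I`
lies in the support of `J` -/
theorem support_le_of_stalkIdeal_le (J : X.IdealSheafData)
    (h : IntMult.stalkIdeal J x ≤ IntMult.stalkIdeal I x) :
    (I.support : Set X) ⊆ (J.support : Set X) := by
  obtain ⟨_, ⟨U, hU, rfl⟩, hxU, -⟩ :=
    (X.isBasis_affineOpens).exists_subset_of_mem_open (show x ∈ (⊤ : X.Opens) from trivial)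
      (⊤ : X.Opens).2
  have hξ₀U : ξ₀ ∈ U := (hξ₀.specializes hx).mem_open U.2 hxU
  rw [stalkIdeal_eq I ⟨U, hU⟩ x hxU, stalkIdeal_eq J ⟨U, hU⟩ x hxU] at h
  haveI hP := ideal_isPrime I ξ₀ hξ₀ ⟨U, hU⟩ hξ₀U
  letI := X.presheaf.algebra_section_stalk ⟨x, hxU⟩
  haveI := hU.isLocalization_stalk ⟨x, hxU⟩
  have hdisj : Disjoint ((hU.primeIdealOf ⟨x, hxU⟩).asIdeal.primeCompl : Set Γ(X, U))
      (I.ideal ⟨U, hU⟩ : Set Γ(X, U)) := by
    rw [Set.disjoint_left]
    intro f hf hfI
    apply hf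
    refine (mem_prime_iff ⟨U, hU⟩ x hxU f).mpr ?_
    have h1 := (Scheme.IdealSheafData.mem_support_iff_of_mem (I := I) (U := ⟨U, hU⟩) hxU).mp hx
    rw [Scheme.mem_zeroLocus_iff] at h1
    exact h1 f hfI
  have hJI : J.ideal ⟨U, hU⟩ ≤ I.ideal ⟨U, hU⟩ := by
    intro f hf
    have h2 : algebraMap Γ(X, U) (X.presheaf.stalk x) f ∈
        Ideal.map (algebraMap Γ(X, U) (X.presheaf.stalk x)) (I.ideal ⟨U, hU⟩) :=
      h (Ideal.mem_map_of_mem _ hf)
    have h3 := IsLocalization.under_map_of_isPrime_disjoint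
      (hU.primeIdealOf ⟨x, hxU⟩).asIdeal.primeCompl (X.presheaf.stalk x) hP hdisj
    rw [← h3]
    exact h2
  have hξ₀J : ξ₀ ∈ J.support := by
    rw [Scheme.IdealSheafData.mem_support_iff_of_mem (U := ⟨U, hU⟩) hξ₀U, Scheme.mem_zeroLocus_iff]
    intro f hf
    rw [← mem_ideal_iff_of_isGenericPoint I ξ₀ hξ₀]
    exact hJI hf
  intro y hy
  exact (hξ₀.specializes hy).mem_closed J.support.isClosed hξ₀J

end

end Groth.Agent.Helper3.IntMultA
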