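import Mathlib
import Groth.Prelude
import Groth.Agent.Helper9.IdealComap
import Groth.Agent.Helper3.IntMultA

set_option autoImplicit false
set_option linter.style.haveILetI false
set_option linter.unusedSectionVars false
set_option linter.unusedVariables false
set_option linter.deprecated false
set_option linter.style.haveILetI false
set_option linter.unusedSectionVars false
set_option linter.unusedVariables false

open CategoryTheory Limits AlgebraicGeometry TopologicalSpace Opposite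
universe u

namespace Groth.Agent.Helper3.RedA
open Groth.Agent.Helper3.IntMultA Scheme.IdealSheafData

/-- the kernel of a base change of a closed immersion is the pulled back ideal sheaf -/
theorem ker_of_isPullback {P X' Y' Z' : Scheme.{u}} (i' : P ⟶ X') (q : P ⟶ Z') (f : X' ⟶ Y')
    (i : Z' ⟶ Y') [IsClosedImmersion i] (h : IsPullback i' q f i) : i'.ker = i.ker.comap f := by
  have e1 : h.isoPullback.hom ≫ pullback.fst f i = i' := h.isoPullback_hom_fst
  rw [← e1, Scheme.Hom.ker_comp_of_isIso, ker_fst_of_isClosedImmersion]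

/-- pushing forward a pulled back ideal sheaf along a closed immersion -/
theorem map_comap_of_isClosedImmersion {Y Z : Scheme.{u}} (j : Y ⟶ Z) [IsClosedImmersion j]
    (K : Z.IdealSheafData) : (K.comap j).map j = K ⊔ j.ker := by
  apply Scheme.IdealSheafData.ext
  funext U
  have hs : Function.Surjective (j.app U.1).hom :=
    (isClosedImmersion_iff_isAffineHom.mp ‹_›).2 U.1 U.2
  rw [ideal_map_of_isAffineHom, ideal_sup]
  show _ = K.ideal U ⊔ j.ker.ideal U
  rw [Groth.Agent.Helper9.IdealComap.ideal_comap j K U ⟨j ⁻¹ᵁ U.1, U.2.preimage j⟩ le_rfl,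
    Scheme.Hom.appLE_eq_app, Ideal.comap_map_of_surjective _ hs, Scheme.Hom.ker_apply]
  rfl

variable {X Y : Scheme.{u}} [IsLocallyNoetherian X]

theorem stalkIdeal_sup (I J : X.IdealSheafData) (x : X) :
    IntMult.stalkIdeal (I ⊔ J) x = IntMult.stalkIdeal I x ⊔ IntMult.stalkIdeal J x := by
  obtain ⟨_, ⟨U, hU, rfl⟩, hxU, -⟩ :=
    (X.isBasis_affineOpens).exists_subset_of_mem_open (show x ∈ (⊤ : X.Opens) from trivial)
      (⊤ : X.Opens).2
  rw [stalkIdeal_eq (I ⊔ J) ⟨U, hU⟩ x hxU, stalkIdeal_eq I ⟨U, hU⟩ x hxU,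
    stalkIdeal_eq J ⟨U, hU⟩ x hxU, ideal_sup]
  exact Ideal.map_sup _ _ _

theorem stalkIdeal_comap [IsLocallyNoetherian Y] (f : X ⟶ Y) (J : Y.IdealSheafData) (x : X) :
    IntMult.stalkIdeal (J.comap f) x = (IntMult.stalkIdeal J (f x)).map (f.stalkMap x).hom := by
  obtain ⟨_, ⟨U, hU, rfl⟩, hxU, -⟩ :=
    (Y.isBasis_affineOpens).exists_subset_of_mem_open (show f x ∈ (⊤ : Y.Opens) from trivial)
      (⊤ : Y.Opens).2
  obtain ⟨_, ⟨V, hV, rfl⟩, hxV, hVU⟩ :=
    (X.isBasis_affineOpens).exists_subset_of_mem_open (show x ∈ f ⁻¹ᵁ U from hxU)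
      (f ⁻¹ᵁ U).2
  rw [stalkIdeal_eq (J.comap f) ⟨V, hV⟩ x hxV, stalkIdeal_eq J ⟨U, hU⟩ (f x) hxU,
    Groth.Agent.Helper9.IdealComap.ideal_comap f J ⟨U, hU⟩ ⟨V, hV⟩ hVU, Ideal.map_map, Ideal.map_map]
  congr 1
  have h1 : Y.presheaf.germ U (f x) hxU ≫ f.stalkMap x =
      f.appLE U V hVU ≫ X.presheaf.germ V x hxV := by
    rw [Scheme.Hom.germ_stalkMap, Scheme.Hom.appLE, Category.assoc, X.presheaf.germ_res]
  have h2 := congrArg CommRingCat.Hom.hom h1
  rw [CommRingCat.hom_comp, CommRingCat.hom_comp] at h2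
  exact h2.symm

end Groth.Agent.Helper3.RedA
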