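import Groth.Agent.Helper3.HensUniv

/-!
The henselian pair TFAE rows: S0520, S0521, S0522, S0526.
-/

namespace Groth.Agent.Helper3.HensRows

open Polynomial
open Groth.Agent.Helper3.HensTFAE Groth.Agent.Helper3.HensGabber

universe u

variable {A : Type u} [CommRing A]

/-- S0520 -/
theorem hens_iff_factLift (A : Type u) [CommRing A] (I : Ideal A) :
    HenselianRing A I ↔ (I ≤ Ideal.jacobson ⊥ ∧ FactLift A I) :=
  ⟨fun h => ⟨h.jac, HensUniv.factLift_of_hens I⟩, fun h => hens_of_factLift I h.1 h.2⟩

theorem idemLift_of_hens (I : Ideal A) [hA : HenselianRing A I]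
    (B : Type*) [CommRing B] [Algebra A B] [Algebra.IsIntegral A B] : IdemLift A I B :=
  idemLift_of_factLift I hA.jac (HensUniv.factLift_of_hens I) B

theorem bijOn_of_idemLift (I : Ideal A) (hI : I ≤ Ideal.jacobson ⊥)
    (B : Type*) [CommRing B] [Algebra A B] [Algebra.IsIntegral A B] (h : IdemLift A I B) :
    Set.BijOn (Ideal.Quotient.mk (Ideal.map (algebraMap A B) I))
      {e : B | IsIdempotentElem e} {e | IsIdempotentElem e} := by
  refine ⟨fun e he => he.map _, fun e he e' he' hee' => ?_, fun ē hē => ?_⟩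
  · exact AICHens.idem_unique _ (map_le_jacobson_of_isIntegral I hI) he he'
      (Ideal.Quotient.eq.1 hee')
  · obtain ⟨b, rfl⟩ := Ideal.Quotient.mk_surjective ē
    have hb : b * b - b ∈ I.map (algebraMap A B) := by
      rw [← Ideal.Quotient.eq, map_mul]; exact hē
    obtain ⟨e, he, heb⟩ := h b hb
    exact ⟨e, he, Ideal.Quotient.eq.2 heb⟩

theorem idemLift_of_surjOn (I : Ideal A)
    (B : Type*) [CommRing B] [Algebra A B]
    (h : Set.SurjOn (Ideal.Quotient.mk (Ideal.map (algebraMap A B) I))
      {e : B | IsIdempotentElem e} {e | IsIdempotentElem e}) : IdemLift A I B := by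
  intro b hb
  have hb' : IsIdempotentElem (Ideal.Quotient.mk (Ideal.map (algebraMap A B) I) b) := by
    change _ * _ = _
    rw [← map_mul, Ideal.Quotient.eq]; exact hb
  obtain ⟨e, he, heb⟩ := h hb'
  exact ⟨e, he, Ideal.Quotient.eq.1 heb⟩

/-- S0521 -/
theorem hens_iff_finite (A : Type u) [CommRing A] (I : Ideal A) :
    HenselianRing A I ↔ ∀ (B : Type u) [CommRing B] [Algebra A B], Module.Finite A B →
      Set.BijOn (Ideal.Quotient.mk (Ideal.map (algebraMap A B) I))
        {e : B | IsIdempotentElem e} {e | IsIdempotentElem e} := by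
  constructor
  · intro h B _ _ hfin
    have : Algebra.IsIntegral A B := Algebra.IsIntegral.of_finite A B
    exact bijOn_of_idemLift I h.jac B (idemLift_of_hens I B)
  · intro h
    have hI : I ≤ Ideal.jacobson ⊥ :=
      le_jacobson_of_injOn I fun u _ => (h (A ⧸ Ideal.span {u}) inferInstance).injOn
    refine hens_of_factLift I hI (factLift_of_idemLift I hI fun f hf => ?_)
    have : Module.Finite A (AdjoinRoot f) := (AdjoinRoot.powerBasis' hf).finite
    exact idemLift_of_surjOn I _ (h (AdjoinRoot f) this).surjOn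

/-- S0522 -/
theorem hens_iff_integral (A : Type u) [CommRing A] (I : Ideal A) :
    HenselianRing A I ↔ ∀ (B : Type u) [CommRing B] [Algebra A B], Algebra.IsIntegral A B →
      Set.BijOn (Ideal.Quotient.mk (Ideal.map (algebraMap A B) I))
        {e : B | IsIdempotentElem e} {e | IsIdempotentElem e} := by
  constructor
  · intro h B _ _ hint
    exact bijOn_of_idemLift I h.jac B (idemLift_of_hens I B)
  · intro h
    have hI : I ≤ Ideal.jacobson ⊥ :=
      le_jacobson_of_injOn I fun u _ =>
        (h (A ⧸ Ideal.span {u}) (Algebra.IsIntegral.of_finite A _)).injOn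
    refine hens_of_factLift I hI (factLift_of_idemLift I hI fun f hf => ?_)
    exact idemLift_of_surjOn I _ (h (AdjoinRoot f) (isIntegral_adjoinRoot hf)).surjOn

/-- S0526 -/
theorem hens_of_isIntegral (A : Type u) [CommRing A] (I : Ideal A) [hA : HenselianRing A I]
    (B : Type u) [CommRing B] [Algebra A B] [Algebra.IsIntegral A B] :
    HenselianRing B (Ideal.map (algebraMap A B) I) := by
  have hIB := map_le_jacobson_of_isIntegral (B := B) I hA.jac
  refine hens_of_factLift _ hIB (factLift_of_idemLift _ hIB fun f hf => ?_)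
  have h1 : Algebra.IsIntegral B (AdjoinRoot f) := isIntegral_adjoinRoot hf
  have h2 : Algebra.IsIntegral A (AdjoinRoot f) := Algebra.IsIntegral.trans B
  have h3 := idemLift_of_hens I (AdjoinRoot f)
  have h4 : (I.map (algebraMap A B)).map (algebraMap B (AdjoinRoot f)) =
      I.map (algebraMap A (AdjoinRoot f)) := by
    rw [Ideal.map_map, ← IsScalarTower.algebraMap_eq]
  intro b hb
  rw [h4] at hb ⊢
  exact h3 b hb

end Groth.Agent.Helper3.HensRows
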