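import Groth.Agent.Helper3.HensSect
import Groth.Agent.Helper3.HensRows

/-!
Étale lifting for henselian pairs (via Zariski's main theorem).
-/

namespace Groth.Agent.Helper3.HensEtale

open Polynomial
open Groth.Agent.Helper3.HensGabber
open Groth.Agent.Helper3.HensSect

universe u

section Sect

variable {A : Type u} [CommRing A] (I : Ideal A)
variable {U : Type u} [CommRing U] [Algebra A U]

/-- Step (g): `A → U/(1-e)` is bijective. -/
theorem bijective_algebraMap' (hI : I ≤ Ideal.jacobson ⊥) [Module.Finite A U]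
    (Δ : U) (U' : Type u) [CommRing U'] [Algebra A U'] [Algebra U U'] [IsScalarTower A U U']
    [IsLocalization.Away Δ U'] [Module.Flat A U'] [Algebra.FinitePresentation A U']
    (σ : U →ₐ[A] A ⧸ I) (hσΔ : IsUnit (σ Δ))
    (b e : U) (he : IsIdempotentElem e) (heb : e - b ∈ I.map (algebraMap A U))
    (h1e : σ (1 - e) = 0)
    (hcyc : ∀ w : U, ∃ a : A, b * w - a • b ∈ I.map (algebraMap A U)) :
    Function.Bijective (algebraMap A (U ⧸ Ideal.span {1 - e})) := by
  set J := I.map (algebraMap A U) with hJ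
  set E : Ideal U := Ideal.span {1 - e} with hE
  let mkV : U →ₐ[A] U ⧸ E := Ideal.Quotient.mkₐ A E
  have hmkVs : Function.Surjective mkV := Ideal.Quotient.mkₐ_surjective A E
  have hmk1e : mkV (1 - e) = 0 :=
    Ideal.Quotient.eq_zero_iff_mem.2 (Ideal.mem_span_singleton_self _)
  have hmke : mkV e = 1 := by
    have : mkV e = mkV 1 - mkV (1 - e) := by rw [← map_sub]; congr 1; ring
    rw [this, hmk1e, map_one, sub_zero]
  have hfin : Module.Finite A (U ⧸ E) := Module.Finite.of_surjective mkV.toLinearMap hmkVs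
  have hσalg : ∀ a : A, σ (algebraMap A U a) = Ideal.Quotient.mk I a := fun a => σ.commutes a
  have hJσ : ∀ j ∈ J, σ j = 0 := by
    intro j hj
    have : J ≤ RingHom.ker (σ : U →+* A ⧸ I) := by
      rw [hJ, Ideal.map_le_iff_le_comap]
      intro a ha
      rw [Ideal.mem_comap, RingHom.mem_ker]
      change σ (algebraMap A U a) = 0
      rw [hσalg]; exact Ideal.Quotient.eq_zero_iff_mem.2 ha
    exact this hj
  have hJV : ∀ j ∈ J, mkV j ∈ I • (⊤ : Submodule A (U ⧸ E)) := by
    intro j hj
    rw [Ideal.smul_top_eq_map]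
    change mkV j ∈ I.map (algebraMap A (U ⧸ E))
    have h1 : (I.map (algebraMap A U)).map (mkV : U →+* U ⧸ E) = I.map (algebraMap A (U ⧸ E)) := by
      rw [Ideal.map_map]; rfl
    rw [← h1]
    exact Ideal.mem_map_of_mem _ hj
  -- surjectivity
  have hsurj : Function.Surjective (algebraMap A (U ⧸ E)) := by
    have hN : (⊤ : Submodule A (U ⧸ E)) ≤ LinearMap.range (Algebra.linearMap A (U ⧸ E)) := by
      refine Submodule.le_of_le_smul_of_le_jacobson_bot Module.Finite.fg_top hI ?_
      intro w _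
      obtain ⟨x, rfl⟩ := hmkVs w
      obtain ⟨a, ha⟩ := hcyc x
      have hx : x = (1 - e) * x + ((e - b) * x + (b * x - a • b) + a • (b - e)) + a • e := by
        simp only [Algebra.smul_def]; ring
      have h2 : mkV x = mkV ((e - b) * x + (b * x - a • b) + a • (b - e)) +
          algebraMap A (U ⧸ E) a := by
        conv_lhs => rw [hx]
        rw [map_add, map_add, map_mul, hmk1e, zero_mul, zero_add, map_smul, hmke]
        congr 1
        exact (Algebra.algebraMap_eq_smul_one a).symm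
      rw [h2]
      refine Submodule.add_mem _ (Submodule.mem_sup_right (hJV _ ?_))
        (Submodule.mem_sup_left ⟨a, rfl⟩)
      refine J.add_mem (J.add_mem (J.mul_mem_right _ heb) ha) ?_
      rw [Algebra.smul_def]
      refine J.mul_mem_left _ ?_
      have : b - e = -(e - b) := by ring
      rw [this]; exact J.neg_mem heb
    intro w
    obtain ⟨a, ha⟩ := hN (Submodule.mem_top (x := w))
    exact ⟨a, ha⟩
  refine ⟨?_, hsurj⟩
  -- injectivity
  have hEσ : ∀ x ∈ E, σ x = 0 := by
    intro x hx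
    obtain ⟨y, rfl⟩ := Ideal.mem_span_singleton'.1 hx
    rw [map_mul, h1e, mul_zero]
  let σV : U ⧸ E →ₐ[A] A ⧸ I := Ideal.Quotient.liftₐ E σ hEσ
  have hσV : ∀ x, σV (mkV x) = σ x := fun x => rfl
  have hkerI : ∀ a : A, algebraMap A (U ⧸ E) a = 0 → a ∈ I := by
    intro a ha
    have := congrArg σV ha
    rw [σV.commutes, map_zero] at this
    exact Ideal.Quotient.eq_zero_iff_mem.1 this
  -- Δ becomes a unit
  have hΔV : IsUnit (mkV Δ) := by
    obtain ⟨a, ha⟩ := hsurj (mkV Δ)
    have h1 : Ideal.Quotient.mk I a = σ Δ := by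
      rw [← hσV, ← ha, σV.commutes]; rfl
    have h2 : IsUnit a := isUnit_of_isUnit_mk hI (h1 ▸ hσΔ)
    rw [← ha]; exact h2.map _
  let lam : U' →ₐ[A] U ⧸ E := IsLocalization.Away.liftAlgHom Δ hΔV
  have hlam : ∀ x : U, lam (algebraMap U U' x) = mkV x :=
    fun x => IsLocalization.Away.lift_eq Δ hΔV x
  let _ : Algebra U' (U ⧸ E) := lam.toRingHom.toAlgebra
  have halg : ∀ x' : U', algebraMap U' (U ⧸ E) x' = lam x' := fun x' => rfl
  have : IsScalarTower A U' (U ⧸ E) := IsScalarTower.of_algebraMap_eq (fun a => by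
    rw [halg, lam.commutes])
  set e' := algebraMap U U' e with he'
  have he'idem : IsIdempotentElem e' := he.map _
  have hΔ' : IsUnit (algebraMap U U' Δ) := IsLocalization.Away.algebraMap_isUnit Δ
  have hker : RingHom.ker (algebraMap U' (U ⧸ E)) = Ideal.span {1 - e'} := by
    apply le_antisymm
    · intro x' hx'
      rw [RingHom.mem_ker, halg] at hx'
      obtain ⟨n, x, hx⟩ := IsLocalization.Away.surj Δ x'
      have h1 : mkV x = 0 := by
        rw [← hlam, ← hx, map_mul, hx', zero_mul]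
      have h2 : x ∈ E := Ideal.Quotient.eq_zero_iff_mem.1 h1
      obtain ⟨y, rfl⟩ := Ideal.mem_span_singleton'.1 h2
      have h3 : x' * algebraMap U U' Δ ^ n ∈ Ideal.span {1 - e'} := by
        rw [hx, map_mul, map_sub, map_one]
        exact Ideal.mul_mem_left _ _ (Ideal.mem_span_singleton_self _)
      obtain ⟨w, hw⟩ := (hΔ'.pow n).exists_right_inv
      have : x' = x' * algebraMap U U' Δ ^ n * w := by rw [mul_assoc, hw, mul_one]
      rw [this]; exact Ideal.mul_mem_right _ _ h3
    · rw [Ideal.span_le, Set.singleton_subset_iff]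
      change algebraMap U' (U ⧸ E) (1 - e') = 0
      rw [halg, map_sub, map_one, he', hlam, hmke, sub_self]
  have hlamsurj : Function.Surjective (algebraMap U' (U ⧸ E)) := by
    intro w
    obtain ⟨x, rfl⟩ := hmkVs w
    exact ⟨algebraMap U U' x, hlam x⟩
  have hloc : IsLocalization.Away e' (U ⧸ E) :=
    IsLocalization.away_of_isIdempotentElem he'idem hker hlamsurj
  have hflat1 : Module.Flat U' (U ⧸ E) := IsLocalization.flat (U ⧸ E) (Submonoid.powers e')
  have hflat : Module.Flat A (U ⧸ E) := Module.Flat.trans A U' (U ⧸ E)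
  -- finite presentation
  have hfpA : Algebra.FinitePresentation A (U ⧸ E) := by
    refine Algebra.FinitePresentation.of_surjective (f := lam) hlamsurj ?_
    have h0 : RingHom.ker lam.toRingHom = Ideal.span {1 - e'} := hker
    rw [h0]
    exact ⟨{1 - e'}, by simp⟩
  have hkfg : (RingHom.ker (Algebra.ofId A (U ⧸ E)).toRingHom).FG :=
    Algebra.FinitePresentation.ker_fG_of_surjective (Algebra.ofId A (U ⧸ E)) hsurj
  have hkfg' : (LinearMap.ker (Algebra.linearMap A (U ⧸ E))).FG := hkfg
  have hfpM : Module.FinitePresentation A (U ⧸ E) :=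
    Module.finitePresentation_of_surjective (Algebra.linearMap A (U ⧸ E)) hsurj hkfg'
  have hproj : Module.Projective A (U ⧸ E) := Module.Flat.projective_of_finitePresentation
  obtain ⟨s, hs⟩ := Module.projective_lifting_property (Algebra.linearMap A (U ⧸ E))
    (LinearMap.id : (U ⧸ E) →ₗ[A] (U ⧸ E)) hsurj
  set t := s 1 with ht
  have ht1 : algebraMap A (U ⧸ E) t = 1 := LinearMap.congr_fun hs 1
  have htu : IsUnit t := by
    refine isUnit_of_sub_one_mem hI (hkerI _ ?_)
    rw [map_sub, ht1, map_one, sub_self]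
  rw [injective_iff_map_eq_zero]
  intro j hj
  have h1 : j * t = 0 := by
    have : j * t = s (j • (1 : U ⧸ E)) := by rw [map_smul, smul_eq_mul]
    rw [this, Algebra.smul_def, mul_one, hj, map_zero]
  exact (htu.mul_left_eq_zero).1 h1

/-- Over a henselian pair, a finite finitely presented algebra `U` with a point `U[1/Δ] → A/I`
in its étale locus `U[1/Δ]` has a section `U → A` lifting the point. -/
theorem exists_section' [hA : HenselianRing A I] [Module.Finite A U]
    (Δ : U) (U' : Type u) [CommRing U'] [Algebra A U'] [Algebra U U'] [IsScalarTower A U U']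
    [IsLocalization.Away Δ U'] [Algebra.Etale A U'] (σ' : U' →ₐ[A] A ⧸ I) :
    ∃ τ : U →ₐ[A] A, ∀ x, Ideal.Quotient.mk I (τ x) = σ' (algebraMap U U' x) := by
  have hI := hA.jac
  let σ : U →ₐ[A] A ⧸ I := σ'.comp (IsScalarTower.toAlgHom A U U')
  have hσ : ∀ x, σ x = σ' (algebraMap U U' x) := fun x => rfl
  have hσalg : ∀ a : A, σ (algebraMap A U a) = Ideal.Quotient.mk I a := fun a => σ.commutes a
  set K := RingHom.ker (σ : U →+* A ⧸ I) with hK
  set J := I.map (algebraMap A U) with hJ
  have hJK : J ≤ K := by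
    rw [hJ, Ideal.map_le_iff_le_comap]
    intro a ha
    rw [Ideal.mem_comap, hK, RingHom.mem_ker]
    change σ (algebraMap A U a) = 0
    rw [hσalg]
    exact Ideal.Quotient.eq_zero_iff_mem.2 ha
  have hKK := ker_le_sq_sup I Δ U' σ' σ hσ
  obtain ⟨b, hb1, hbK⟩ := exists_b I σ hKK
  have hbb : b * (1 - b) ∈ J := hbK _ hb1
  have hcyc : ∀ w : U, ∃ a : A, b * w - a • b ∈ J := by
    intro w
    obtain ⟨a, ha⟩ := Ideal.Quotient.mk_surjective (σ w)
    refine ⟨a, ?_⟩
    have h1 : w - algebraMap A U a ∈ K := by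
      rw [hK, RingHom.mem_ker]
      change σ (w - algebraMap A U a) = 0
      rw [map_sub, hσalg, ha, sub_self]
    have : b * w - a • b = b * (w - algebraMap A U a) := by rw [Algebra.smul_def]; ring
    rw [this]; exact hbK _ h1
  obtain ⟨e, he, heb⟩ := exists_idem I b hbb hcyc
  have h1e : σ (1 - e) = 0 := by
    have : 1 - e = (1 - b) - (e - b) := by ring
    rw [this]
    exact K.sub_mem hb1 (hJK heb)
  have hσΔ : IsUnit (σ Δ) := by
    rw [hσ]; exact (IsLocalization.Away.algebraMap_isUnit Δ).map σ'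
  have hbij := bijective_algebraMap' I hI Δ U' σ hσΔ b e he heb h1e hcyc
  set E : Ideal U := Ideal.span {1 - e} with hE
  let mkV : U →ₐ[A] U ⧸ E := Ideal.Quotient.mkₐ A E
  have hEσ : ∀ x ∈ E, σ x = 0 := by
    intro x hx
    obtain ⟨y, rfl⟩ := Ideal.mem_span_singleton'.1 hx
    rw [map_mul, h1e, mul_zero]
  let σV : U ⧸ E →ₐ[A] A ⧸ I := Ideal.Quotient.liftₐ E σ hEσ
  have hσV : ∀ x, σV (mkV x) = σ x := fun x => rfl
  let ι : A ≃ₐ[A] U ⧸ E := AlgEquiv.ofBijective (Algebra.ofId A (U ⧸ E)) hbij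
  refine ⟨(ι.symm : U ⧸ E →ₐ[A] A).comp mkV, fun x => ?_⟩
  rw [← hσ, ← hσV]
  set a := ((ι.symm : U ⧸ E →ₐ[A] A).comp mkV) x with ha
  have h1 : algebraMap A (U ⧸ E) a = mkV x := by
    have : ι a = mkV x := by rw [ha]; simp
    exact this
  rw [← h1, σV.commutes]; rfl


end Sect

section ZMT

variable {R : Type u} [CommRing R] {S : Type u} [CommRing S] [Algebra R S]

/-- A finite sup of module-finite subalgebras is module-finite. -/
theorem finite_finset_sup {ι : Type*} (s : Finset ι) (T : ι → Subalgebra R S)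
    (h : ∀ i ∈ s, (T i).toSubmodule.FG) : (s.sup T).toSubmodule.FG := by
  classical
  induction s using Finset.induction_on with
  | empty =>
    rw [Finset.sup_empty]
    have : Module.Finite R (⊥ : Subalgebra R S) := Subalgebra.finite_bot
    exact (Submodule.fg_top _).1 this.1
  | insert i s hi ih =>
    rw [Finset.sup_insert]
    have h1 : Module.Finite R (T i) := ⟨(Submodule.fg_top _).2 (h i (Finset.mem_insert_self _ _))⟩
    have h2 : Module.Finite R (s.sup T : Subalgebra R S) :=
      ⟨(Submodule.fg_top _).2 (ih fun j hj => h j (Finset.mem_insert_of_mem hj))⟩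
    have := Subalgebra.finite_sup (T i) (s.sup T)
    exact (Submodule.fg_top _).1 this.1

/-- Zariski's main theorem near a closed subset `V(K)` which is a section over the base. -/
theorem zmt_near [Algebra.FiniteType R S] [Algebra.QuasiFinite R S] (K : Ideal S)
    (hsurj : ∀ x : S, ∃ a : R, x - algebraMap R S a ∈ K) :
    ∃ (S₀ : Subalgebra R S) (Δ : S), S₀.toSubmodule.FG ∧ Δ ∈ S₀ ∧ Δ - 1 ∈ K ∧
      ∀ x : S, ∃ N : ℕ, Δ ^ N * x ∈ S₀ := by
  classical
  have hz : ∀ p : PrimeSpectrum S, ∃ S' : Subalgebra R S, S'.toSubmodule.FG ∧ ∃ r : S',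
      r.1 ∉ p.asIdeal ∧ Function.Bijective (Localization.awayMap S'.val.toRingHom r) := fun p =>
    Algebra.QuasiFiniteAt.exists_fg_and_exists_notMem_and_awayMap_bijective p.asIdeal
  choose S' hS' r hrp hr using hz
  have htop : Ideal.span (Set.range fun p => (r p : S)) ⊔ K = ⊤ := by
    by_contra hne
    obtain ⟨m, hm, hle⟩ := Ideal.exists_le_maximal _ hne
    refine hrp ⟨m, hm.isPrime⟩ (hle (Ideal.mem_sup_left (Ideal.subset_span ?_)))
    exact ⟨⟨m, hm.isPrime⟩, rfl⟩
  have h1 : (1 : S) ∈ Ideal.span (Set.range fun p => (r p : S)) ⊔ K := by rw [htop]; trivial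
  obtain ⟨y, hy, k, hk, hyk⟩ := Submodule.mem_sup.1 h1
  obtain ⟨c, hc⟩ := (Finsupp.mem_span_range_iff_exists_finsupp).1 hy
  choose a ha using hsurj
  set s := c.support with hs
  set S₀ : Subalgebra R S := s.sup S' with hS₀
  have hle : ∀ p ∈ s, S' p ≤ S₀ := fun p hp => Finset.le_sup (f := S') hp
  have hfin : S₀.toSubmodule.FG := finite_finset_sup s S' fun p _ => hS' p
  have hrmem : ∀ p ∈ s, (r p : S) ∈ S₀ := fun p hp => hle p hp (r p).2
  set Δ : S := ∑ p ∈ s, a (c p) • (r p : S) with hΔ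
  have hΔmem : Δ ∈ S₀ := Subalgebra.sum_mem _ fun p hp => Subalgebra.smul_mem _ (hrmem p hp) _
  refine ⟨S₀, Δ, hfin, hΔmem, ?_, ?_⟩
  · have hy' : y = ∑ p ∈ s, c p * (r p : S) := by
      rw [← hc, Finsupp.sum]
      simp only [smul_eq_mul, hs]
    have : Δ - 1 = -(∑ p ∈ s, (c p - algebraMap R S (a (c p))) * (r p : S)) - k := by
      rw [← hyk, hy', hΔ]
      simp only [Algebra.smul_def, sub_mul, Finset.sum_sub_distrib]
      ring
    rw [this]
    refine K.sub_mem (K.neg_mem (K.sum_mem fun p _ => K.mul_mem_right _ (ha _))) hk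
  · intro x
    let C : Ideal S₀ :=
      { carrier := {t | (t : S) * x ∈ S₀}
        add_mem' := by
          intro t u ht hu
          change ((t + u : S₀) : S) * x ∈ S₀
          rw [Subalgebra.coe_add, add_mul]
          exact S₀.add_mem ht hu
        zero_mem' := by
          change ((0 : S₀) : S) * x ∈ S₀
          rw [Subalgebra.coe_zero, zero_mul]
          exact S₀.zero_mem
        smul_mem' := by
          intro t u hu
          change ((t • u : S₀) : S) * x ∈ S₀
          rw [smul_eq_mul, Subalgebra.coe_mul, mul_assoc]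
          exact S₀.mul_mem t.2 hu }
    have hCmem : ∀ t : S₀, t ∈ C ↔ (t : S) * x ∈ S₀ := fun t => Iff.rfl
    have hrad : ∀ p (hp : p ∈ s), (⟨(r p : S), hrmem p hp⟩ : S₀) ∈ C.radical := by
      intro p hp
      obtain ⟨b, m, hb⟩ := Localization.awayMap_surjective_iff.1 (hr p).2 x
      refine ⟨m, ?_⟩
      rw [hCmem]
      have : (((⟨(r p : S), hrmem p hp⟩ : S₀) ^ m : S₀) : S) * x = (b : S) := by
        rw [Subalgebra.coe_pow]
        exact hb.symm
      rw [this]
      exact hle p hp b.2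
    have hΔrad : (⟨Δ, hΔmem⟩ : S₀) ∈ C.radical := by
      have : (⟨Δ, hΔmem⟩ : S₀) = ∑ p ∈ s.attach, a (c p.1) • (⟨(r p.1 : S), hrmem p.1 p.2⟩ : S₀) := by
        apply Subtype.ext
        rw [AddSubmonoidClass.coe_finsetSum]
        simp only [hΔ]
        rw [← Finset.sum_attach]
        rfl
      rw [this]
      refine C.radical.sum_mem fun p _ => ?_
      rw [Algebra.smul_def]
      exact C.radical.mul_mem_left _ (hrad p.1 p.2)
    obtain ⟨N, hN⟩ := hΔrad
    refine ⟨N, ?_⟩
    rw [hCmem, Subalgebra.coe_pow] at hN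
    exact hN

end ZMT

section Lift

/-- A subalgebra containing `Δ` and absorbing everything after multiplying by a power of `Δ`
has the same localization at `Δ`. -/
theorem isLocalization_away_sub {R S : Type u} [CommRing R] [CommRing S] [Algebra R S]
    (S₀ : Subalgebra R S) (Δ : S) (hΔ : Δ ∈ S₀) (hpow : ∀ x : S, ∃ N : ℕ, Δ ^ N * x ∈ S₀)
    (U' : Type u) [CommRing U'] [Algebra S U'] [IsLocalization.Away Δ U'] [Algebra S₀ U']
    (halg : ∀ t : S₀, algebraMap S₀ U' t = algebraMap S U' (t : S)) :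
    IsLocalization.Away (⟨Δ, hΔ⟩ : S₀) U' := by
  refine IsLocalization.Away.mk _ ?_ ?_ ?_
  · rw [halg]
    exact IsLocalization.Away.algebraMap_isUnit Δ
  · intro z
    obtain ⟨n, x, hx⟩ := IsLocalization.Away.surj Δ z
    obtain ⟨N, hN⟩ := hpow x
    refine ⟨n + N, ⟨Δ ^ N * x, hN⟩, ?_⟩
    rw [halg, halg]
    change z * algebraMap S U' Δ ^ (n + N) = algebraMap S U' (Δ ^ N * x)
    rw [map_mul, ← hx, map_pow, pow_add]
    ring
  · intro a b hab
    rw [halg, halg] at hab
    obtain ⟨n, hn⟩ := IsLocalization.Away.exists_of_eq Δ hab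
    refine ⟨n, Subtype.ext ?_⟩
    simpa using hn

variable {A : Type u} [CommRing A] (I : Ideal A)

/-- Étale lifting for henselian pairs. -/
theorem etale_lift [hA : HenselianRing A I] (A' : Type u) [CommRing A'] [Algebra A A']
    [Algebra.Etale A A'] (σ : A' →ₐ[A] A ⧸ I) :
    ∃ τ : A' →ₐ[A] A, (Ideal.Quotient.mkₐ A I).comp τ = σ := by
  have hI := hA.jac
  set K := RingHom.ker (σ : A' →+* A ⧸ I) with hK
  have hsurj : ∀ x : A', ∃ a : A, x - algebraMap A A' a ∈ K := by
    intro x
    obtain ⟨a, ha⟩ := Ideal.Quotient.mk_surjective (σ x)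
    refine ⟨a, ?_⟩
    rw [hK, RingHom.mem_ker]
    change σ (x - _) = 0
    rw [map_sub, σ.commutes, sub_eq_zero, ← ha]; rfl
  obtain ⟨S₀, Δ, hfg, hΔ, hΔK, hpow⟩ := zmt_near K hsurj
  have hσΔ : σ Δ = 1 := by
    have : σ (Δ - 1) = 0 := hΔK
    rwa [map_sub, map_one, sub_eq_zero] at this
  haveI : Module.Finite A S₀ := ⟨(Submodule.fg_top _).2 hfg⟩
  let Δ₀ : S₀ := ⟨Δ, hΔ⟩
  have halg : ∀ t : S₀, algebraMap S₀ (Localization.Away Δ) t =
      algebraMap A' (Localization.Away Δ) (t : A') := fun t => rfl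
  haveI : IsScalarTower A S₀ (Localization.Away Δ) := inferInstance
  haveI : IsLocalization.Away Δ₀ (Localization.Away Δ) :=
    isLocalization_away_sub S₀ Δ hΔ hpow (Localization.Away Δ) halg
  have hunit : IsUnit (σ Δ) := by rw [hσΔ]; exact isUnit_one
  let σ' : Localization.Away Δ →ₐ[A] A ⧸ I := IsLocalization.Away.liftAlgHom Δ hunit
  have hσ' : ∀ x : A', σ' (algebraMap A' (Localization.Away Δ) x) = σ x :=
    fun x => IsLocalization.Away.lift_eq Δ hunit x
  obtain ⟨τ₀, hτ₀⟩ := exists_section' I Δ₀ (Localization.Away Δ) σ'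
  have hu : IsUnit (τ₀ Δ₀) := by
    refine isUnit_of_isUnit_mk hI ?_
    rw [hτ₀, halg, hσ', hσΔ]
    exact isUnit_one
  let τ' : Localization.Away Δ →ₐ[A] A := IsLocalization.Away.liftAlgHom Δ₀ hu
  have hτ' : ∀ t : S₀, τ' (algebraMap S₀ (Localization.Away Δ) t) = τ₀ t :=
    fun t => IsLocalization.Away.lift_eq Δ₀ hu t
  have hcomp : ((Ideal.Quotient.mk I).comp (τ' : Localization.Away Δ →+* A)) =
      (σ' : Localization.Away Δ →+* A ⧸ I) := by
    apply IsLocalization.ringHom_ext (Submonoid.powers Δ₀)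
    ext t
    change Ideal.Quotient.mk I (τ' (algebraMap S₀ (Localization.Away Δ) t)) =
      σ' (algebraMap S₀ (Localization.Away Δ) t)
    rw [hτ', hτ₀]
  refine ⟨τ'.comp (IsScalarTower.toAlgHom A A' (Localization.Away Δ)), ?_⟩
  ext x
  change Ideal.Quotient.mk I (τ' (algebraMap A' (Localization.Away Δ) x)) = σ x
  rw [← hσ']
  exact congr($hcomp (algebraMap A' (Localization.Away Δ) x))

/-- Converse: étale lifting implies henselian. -/
theorem hens_of_etale_lift
    (H : ∀ (A' : Type u) [CommRing A'] [Algebra A A'] [Algebra.Etale A A']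
      (σ : A' →ₐ[A] A ⧸ I), ∃ τ : A' →ₐ[A] A, (Ideal.Quotient.mkₐ A I).comp τ = σ) :
    HenselianRing A I := by
  refine ⟨?_, ?_⟩
  · intro x hx
    rw [Ideal.mem_jacobson_bot]
    intro y
    set v := x * y + 1 with hv
    have hmk : Ideal.Quotient.mk I v = 1 := by
      rw [hv, map_add, map_one, Ideal.Quotient.eq_zero_iff_mem.2 (I.mul_mem_right y hx), zero_add]
    have hunit : IsUnit ((Ideal.Quotient.mkₐ A I) v) := by
      change IsUnit (Ideal.Quotient.mk I v)
      rw [hmk]; exact isUnit_one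
    let σ : Localization.Away v →ₐ[A] A ⧸ I := IsLocalization.Away.liftAlgHom v hunit
    obtain ⟨τ, -⟩ := H (Localization.Away v) σ
    have h1 : IsUnit (algebraMap A (Localization.Away v) v) :=
      IsLocalization.Away.algebraMap_isUnit v
    have h2 := h1.map τ
    rwa [τ.commutes] at h2
  · intro f hf a₀ h₁ h₂
    let P : StandardEtalePair A := ⟨f, hf, derivative f, ⟨1, 0, 1, by simp⟩⟩
    have hmap : P.HasMap (Ideal.Quotient.mk I a₀) := by
      refine ⟨?_, ?_⟩
      · change aeval (Ideal.Quotient.mk I a₀) f = 0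
        have : aeval (Ideal.Quotient.mk I a₀) f = Ideal.Quotient.mk I (f.eval a₀) :=
          Polynomial.aeval_algebraMap_apply_eq_algebraMap_eval (A := A ⧸ I) a₀ f
        rw [this]
        exact Ideal.Quotient.eq_zero_iff_mem.2 h₁
      · change IsUnit (aeval (Ideal.Quotient.mk I a₀) (derivative f))
        have : aeval (Ideal.Quotient.mk I a₀) (derivative f) =
            Ideal.Quotient.mk I ((derivative f).eval a₀) :=
          Polynomial.aeval_algebraMap_apply_eq_algebraMap_eval (A := A ⧸ I) a₀ (derivative f)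
        rw [this]
        exact h₂
    obtain ⟨τ, hτ⟩ := H P.Ring (P.lift _ hmap)
    refine ⟨τ P.X, ?_, ?_⟩
    · have h3 : P.HasMap (τ P.X) := P.hasMap_X.map τ
      have : aeval (τ P.X) f = 0 := h3.1
      rwa [← Polynomial.coe_aeval_eq_eval] at *
    · have h4 := congr($hτ P.X)
      rw [P.lift_X] at h4
      rw [← Ideal.Quotient.eq]
      exact h4

end Lift

end Groth.Agent.Helper3.HensEtale
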