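import Mathlib
import Groth.Agent.Helper3.HensEtale

open AlgebraicGeometry CategoryTheory Limits TensorProduct

universe u

namespace Groth.Agent.Helper3.HensSection

/-- Two sections of an unramified algebra of finite type over a local ring which agree modulo the
maximal ideal are equal. -/
theorem algHom_ext_of_residue {R C : Type u} [CommRing R] [IsLocalRing R] [CommRing C]
    [Algebra R C] [Algebra.FormallyUnramified R C] [Algebra.EssFiniteType R C]
    (φ φ' : C →ₐ[R] R) (h : ∀ c, φ c - φ' c ∈ IsLocalRing.maximalIdeal R) : φ = φ' := by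
  let ψ : C ⊗[R] C →ₐ[R] R := Algebra.TensorProduct.lift φ φ' (fun _ _ => Commute.all _ _)
  let Δ : C ⊗[R] C →ₐ[R] R := Algebra.TensorProduct.lift φ φ (fun _ _ => Commute.all _ _)
  have hΔ : ∀ z, Δ z = φ (Algebra.TensorProduct.lmul' R z) := by
    intro z
    induction z using TensorProduct.induction_on with
    | zero => simp
    | tmul a b => simp [Δ]
    | add a b ha hb => simp [ha, hb]
  have hdiff : ∀ z, ψ z - Δ z ∈ IsLocalRing.maximalIdeal R := by
    intro z
    induction z using TensorProduct.induction_on with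
    | zero => simp
    | tmul a b =>
      have : ψ (a ⊗ₜ b) - Δ (a ⊗ₜ b) = - (φ a * (φ b - φ' b)) := by
        simp [ψ, Δ]; ring
      rw [this]
      exact Ideal.neg_mem_iff _ |>.mpr (Ideal.mul_mem_left _ _ (h b))
    | add a b ha hb =>
      have : ψ (a + b) - Δ (a + b) = (ψ a - Δ a) + (ψ b - Δ b) := by
        rw [map_add, map_add]; ring
      rw [this]
      exact Ideal.add_mem _ ha hb
  set el := Algebra.FormallyUnramified.elem R C with hel
  have hunit : IsUnit (ψ el) := by
    have h1 : Δ el = 1 := by
      rw [hΔ, Algebra.FormallyUnramified.lmul_elem, map_one]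
    have h2 : ψ el - 1 ∈ IsLocalRing.maximalIdeal R := by
      rw [← h1]; exact hdiff el
    by_contra hnu
    have h3 : ψ el ∈ IsLocalRing.maximalIdeal R := (IsLocalRing.mem_maximalIdeal _).mpr hnu
    have h4 : (1 : R) ∈ IsLocalRing.maximalIdeal R := by
      have := Ideal.sub_mem _ h3 h2
      simpa using this
    exact (IsLocalRing.maximalIdeal.isMaximal R).ne_top ((Ideal.eq_top_iff_one _).mpr h4)
  ext s
  have h5 := congrArg ψ (Algebra.FormallyUnramified.one_tmul_sub_tmul_one_mul_elem (R := R) s)
  rw [map_mul, map_zero, map_sub] at h5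
  have h6 : ψ (1 ⊗ₜ s) = φ' s := by simp [ψ]
  have h7 : ψ (s ⊗ₜ 1) = φ s := by simp [ψ]
  rw [h6, h7] at h5
  have := (hunit.mul_left_eq_zero).mp h5
  exact (sub_eq_zero.mp this).symm

end Groth.Agent.Helper3.HensSection

namespace Groth.Agent.Helper3.HensSection

/-- A morphism from the spectrum of a local ring whose closed point lands in an affine open
factors through that affine open. -/
theorem exists_factor {X : Scheme.{u}} {V : X.Opens} (hV : IsAffineOpen V) (K : Type u)
    [CommRing K] [IsLocalRing K] (a : Spec (CommRingCat.of K) ⟶ X)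
    (ha : a.base (IsLocalRing.closedPoint K) ∈ V) :
    ∃ α : Γ(X, V) ⟶ CommRingCat.of K, Spec.map α ≫ hV.fromSpec = a := by
  have hrange : Set.range a.base ⊆ Set.range hV.fromSpec.base := by
    rw [hV.range_fromSpec]
    rintro _ ⟨y, rfl⟩
    have hsp : y ⤳ IsLocalRing.closedPoint K := IsLocalRing.specializes_closedPoint y
    have := hsp.map a.continuous
    exact this.mem_open V.isOpen ha
  obtain ⟨α, hα⟩ := Spec.map_surjective (IsOpenImmersion.lift hV.fromSpec a hrange)
  exact ⟨α, by rw [hα, IsOpenImmersion.lift_fac]⟩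

theorem existsUnique_section (R : Type u) [CommRing R]
    [HenselianLocalRing R] {X : Scheme.{u}} (f : X ⟶ Spec (CommRingCat.of R)) [Etale f]
    (t : Spec (CommRingCat.of (IsLocalRing.ResidueField R)) ⟶ X)
    (ht : t ≫ f = Spec.map (CommRingCat.ofHom (IsLocalRing.residue R))) :
    ∃! s : Spec (CommRingCat.of R) ⟶ X,
      s ≫ f = 𝟙 (Spec (CommRingCat.of R)) ∧
        Spec.map (CommRingCat.ofHom (IsLocalRing.residue R)) ≫ s = t := by
  set k := IsLocalRing.ResidueField R with hk
  set x := t.base (IsLocalRing.closedPoint k) with hx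
  obtain ⟨_, ⟨V, hV, rfl⟩, hxV, -⟩ := X.isBasis_affineOpens.exists_subset_of_mem_open
    (Set.mem_univ x) isOpen_univ
  set j := hV.fromSpec with hj
  haveI hjo : IsOpenImmersion j := hV.isOpenImmersion_fromSpec
  obtain ⟨ψ, hψ⟩ := Spec.map_surjective (j ≫ f)
  have hψet : ψ.hom.Etale := by
    have : Etale (Spec.map ψ) := by rw [hψ]; infer_instance
    exact HasRingHomProperty.Spec_iff.mp this
  letI : Algebra R Γ(X, V) := ψ.hom.toAlgebra
  have hψalg : ψ = CommRingCat.ofHom (algebraMap R Γ(X, V)) := rfl
  haveI : Algebra.Etale R Γ(X, V) := RingHom.etale_algebraMap.mp hψet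
  -- sections through `x` correspond to algebra maps
  have hres_cp : (Spec.map (CommRingCat.ofHom (IsLocalRing.residue R))).base
      (IsLocalRing.closedPoint k) = IsLocalRing.closedPoint R :=
    IsLocalRing.comap_closedPoint (IsLocalRing.residue R)
  -- the point `t`
  obtain ⟨αt, hαt⟩ := exists_factor hV k t hxV
  have hαt' : ψ ≫ αt = CommRingCat.ofHom (IsLocalRing.residue R) := by
    apply Spec.map_injective
    rw [Spec.map_comp, hψ, ← Category.assoc, hαt, ht]
  let σ : Γ(X, V) →ₐ[R] R ⧸ IsLocalRing.maximalIdeal R :=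
    { αt.hom with
      commutes' := fun r => by
        have := congr($(hαt').hom r)
        exact this }
  obtain ⟨τ, hτ⟩ := HensEtale.etale_lift (IsLocalRing.maximalIdeal R) Γ(X, V) σ
  have hτψ : ψ ≫ CommRingCat.ofHom (τ : Γ(X, V) →+* R) = 𝟙 _ := by
    ext r
    exact τ.commutes r
  have hτres : CommRingCat.ofHom (τ : Γ(X, V) →+* R) ≫
      CommRingCat.ofHom (IsLocalRing.residue R) = αt := by
    ext c
    exact congr($hτ c)
  refine ⟨Spec.map (CommRingCat.ofHom (τ : Γ(X, V) →+* R)) ≫ j, ⟨?_, ?_⟩, ?_⟩
  · rw [Category.assoc, ← hψ, ← Spec.map_comp, hτψ, Spec.map_id]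
  · rw [← Category.assoc, ← Spec.map_comp, hτres, hαt]
  · rintro s' ⟨hs'1, hs'2⟩
    have hs'x : s'.base (IsLocalRing.closedPoint R) ∈ V := by
      have : s'.base (IsLocalRing.closedPoint R) = x := by
        rw [hx, ← hs'2, ← hres_cp]
        rfl
      rw [this]; exact hxV
    obtain ⟨β, hβ⟩ := exists_factor hV R s' hs'x
    have hβψ : ψ ≫ β = 𝟙 _ := by
      apply Spec.map_injective
      rw [Spec.map_comp, hψ, ← Category.assoc, hβ, hs'1, Spec.map_id]
    let τ' : Γ(X, V) →ₐ[R] R :=
      { β.hom with
        commutes' := fun r => by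
          have := congr($(hβψ).hom r)
          exact this }
    have hβres : β ≫ CommRingCat.ofHom (IsLocalRing.residue R) = αt := by
      apply Spec.map_injective
      apply (cancel_mono j).mp
      rw [Spec.map_comp, Category.assoc, hβ, hs'2, hαt]
    have heq : τ' = τ := by
      apply algHom_ext_of_residue
      intro c
      have h1 : IsLocalRing.residue R (τ' c) = αt.hom c := congr($(hβres).hom c)
      have h2 : IsLocalRing.residue R (τ c) = αt.hom c := congr($hτ c)
      rw [← Ideal.Quotient.eq]
      exact h1.trans h2.symm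
    rw [← hβ]
    congr 2
    ext c
    exact congr($heq c)

end Groth.Agent.Helper3.HensSection
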