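import Mathlib

open Polynomial

universe u

namespace Groth.Agent.Helper3.ResNbhd

/-- Clearing denominators: every polynomial over `K` is, up to a nonzero scalar from `R`, the image
of a polynomial over `R`, when every element of `K` is a fraction of elements of `R`. -/
theorem exists_common_denominator {R K : Type*} [CommRing R] [Field K] [Algebra R K]
    (hK : ∀ y : K, ∃ a b : R, algebraMap R K b ≠ 0 ∧ y * algebraMap R K b = algebraMap R K a)
    (P : K[X]) :
    ∃ b : R, algebraMap R K b ≠ 0 ∧ ∀ i, ∃ a : R, P.coeff i * algebraMap R K b = algebraMap R K a := by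
  induction P using Polynomial.induction_on' with
  | add p q hp hq =>
    obtain ⟨b₁, hb₁, h₁⟩ := hp
    obtain ⟨b₂, hb₂, h₂⟩ := hq
    refine ⟨b₁ * b₂, by rw [map_mul]; exact mul_ne_zero hb₁ hb₂, fun i => ?_⟩
    obtain ⟨a₁, ha₁⟩ := h₁ i
    obtain ⟨a₂, ha₂⟩ := h₂ i
    refine ⟨a₁ * b₂ + a₂ * b₁, ?_⟩
    rw [coeff_add, map_mul, map_add, map_mul, map_mul, ← ha₁, ← ha₂]
    ring
  | monomial n y =>
    obtain ⟨a, b, hb, hab⟩ := hK y
    refine ⟨b, hb, fun i => ?_⟩
    by_cases hi : n = i
    · subst hi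
      exact ⟨a, by rw [coeff_monomial, if_pos rfl, hab]⟩
    · exact ⟨0, by rw [coeff_monomial, if_neg hi, zero_mul, map_zero]⟩

end Groth.Agent.Helper3.ResNbhd

namespace Groth.Agent.Helper3.ResNbhd

open IntermediateField in
/-- A finite separable extension `k` of a field `K` of fractions of `R` is generated, as a field, by
the image of an étale `R`-algebra. -/
theorem exists_etale_algHom (R : Type u) [CommRing R] (K : Type u) [Field K] [Algebra R K]
    (hK : ∀ y : K, ∃ a b : R, algebraMap R K b ≠ 0 ∧ y * algebraMap R K b = algebraMap R K a)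
    (k : Type u) [Field k] [Algebra K k] [Algebra R k] [IsScalarTower R K k]
    [FiniteDimensional K k] [Algebra.IsSeparable K k] :
    ∃ (R' : Type u) (_ : CommRing R') (_ : Algebra R R') (_ : Algebra.Etale R R')
      (β : R' →ₐ[R] k), Subfield.closure (Set.range β) = ⊤ := by
  obtain ⟨θ, hθ⟩ := Field.exists_primitive_element K k
  have hint : ∀ x : k, IsIntegral K x := fun x => Algebra.IsIntegral.isIntegral x
  set m := minpoly K θ with hm
  have hmm : m.Monic := minpoly.monic (hint θ)
  obtain ⟨b, hb, hcoef⟩ := exists_common_denominator hK m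
  set c := algebraMap R K b with hc
  set Q := scaleRoots m c with hQ
  have hQm : Q.Monic := (monic_scaleRoots_iff c).mpr hmm
  have hQl : Q ∈ Polynomial.lifts (algebraMap R K) := by
    rw [lifts_iff_coeff_lifts]
    intro i
    rw [hQ, coeff_scaleRoots]
    rcases Nat.eq_zero_or_pos (m.natDegree - i) with h0 | hpos
    · rw [h0, pow_zero, mul_one]
      rcases (Nat.sub_eq_zero_iff_le.mp h0).lt_or_eq with hlt | heq
      · rw [coeff_eq_zero_of_natDegree_lt hlt]; exact ⟨0, map_zero _⟩
      · rw [← heq, hmm.coeff_natDegree]; exact ⟨1, map_one _⟩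
    · obtain ⟨n, hn⟩ := Nat.exists_eq_succ_of_ne_zero hpos.ne'
      obtain ⟨a, ha⟩ := hcoef i
      refine ⟨a * b ^ n, ?_⟩
      rw [hn, pow_succ', ← mul_assoc, ha, map_mul, map_pow]
  obtain ⟨G, hGQ, -, hGm⟩ := lifts_and_natDegree_eq_and_monic hQl hQm
  set θ' := algebraMap K k c * θ with hθ'
  have hrootQ : aeval θ' Q = 0 := scaleRoots_aeval_eq_zero (minpoly.aeval K θ)
  have hrootG : aeval θ' G = 0 := by
    rw [← aeval_map_algebraMap K, hGQ]; exact hrootQ
  have hck : algebraMap K k c ≠ 0 := by
    rwa [Ne, FaithfulSMul.algebraMap_eq_zero_iff]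
  have hprim : K⟮θ'⟯ = ⊤ := by
    rw [eq_top_iff, ← hθ, adjoin_simple_le_iff]
    have h1 : θ' ∈ K⟮θ'⟯ := mem_adjoin_simple_self K θ'
    have h2 : algebraMap K k c⁻¹ ∈ K⟮θ'⟯ := IntermediateField.algebraMap_mem _ _
    have h3 : θ = algebraMap K k c⁻¹ * θ' := by
      rw [hθ', ← mul_assoc, ← map_mul, inv_mul_cancel₀ hb, map_one, one_mul]
    rw [h3]
    exact mul_mem h2 h1
  have hμ : minpoly K θ' = Q := by
    have hdvd : minpoly K θ' ∣ Q := minpoly.dvd K θ' hrootQ
    have hdeg1 : (minpoly K θ').natDegree = Module.finrank K k :=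
      (Field.primitive_element_iff_minpoly_natDegree_eq K θ').mp hprim
    have hdeg2 : m.natDegree = Module.finrank K k :=
      (Field.primitive_element_iff_minpoly_natDegree_eq K θ).mp hθ
    have hdeg3 : Q.natDegree = m.natDegree := natDegree_scaleRoots m c
    exact (Polynomial.eq_of_monic_of_dvd_of_natDegree_le (minpoly.monic (hint θ')) hQm hdvd
      (by rw [hdeg3, hdeg2, hdeg1])).symm
  have hsep : (minpoly K θ').Separable := Algebra.IsSeparable.isSeparable K θ'
  have hder : aeval θ' (derivative G) ≠ 0 := by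
    rw [← aeval_map_algebraMap K, ← derivative_map, hGQ, ← hμ]
    exact hsep.aeval_derivative_ne_zero (minpoly.aeval K θ')
  let P : StandardEtalePair R := ⟨G, hGm, derivative G, ⟨1, 0, 1, by simp⟩⟩
  let β : P.Ring →ₐ[R] k := P.lift θ' ⟨hrootG, isUnit_iff_ne_zero.mpr hder⟩
  refine ⟨P.Ring, inferInstance, inferInstance, inferInstance, β, ?_⟩
  set L := Subfield.closure (Set.range β) with hL
  have hβL : ∀ x, β x ∈ L := fun x => Subfield.subset_closure ⟨x, rfl⟩
  have hRL : ∀ r : R, algebraMap R k r ∈ L := by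
    intro r
    rw [← β.commutes r]; exact hβL _
  have hKL : ∀ y : K, algebraMap K k y ∈ L := by
    intro y
    obtain ⟨a, b', hb', hab⟩ := hK y
    have h1 : algebraMap K k y * algebraMap R k b' = algebraMap R k a := by
      rw [IsScalarTower.algebraMap_apply R K k, IsScalarTower.algebraMap_apply R K k, ← map_mul,
        hab]
    have h2 : algebraMap R k b' ≠ 0 := by
      rw [IsScalarTower.algebraMap_apply R K k, Ne, FaithfulSMul.algebraMap_eq_zero_iff]
      exact hb'
    have h3 : algebraMap K k y = algebraMap R k a / algebraMap R k b' := by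
      rw [eq_div_iff h2, h1]
    rw [h3]
    exact L.div_mem (hRL a) (hRL b')
  have hθL : θ' ∈ L := by
    have : β P.X = θ' := P.lift_X _ _
    rw [← this]; exact hβL _
  let L' : IntermediateField K k := L.toIntermediateField hKL
  have hL' : L' = ⊤ := by
    rw [eq_top_iff, ← hprim, adjoin_simple_le_iff]
    exact hθL
  rw [eq_top_iff]
  intro x _
  have : x ∈ L' := by rw [hL']; trivial
  exact this

end Groth.Agent.Helper3.ResNbhd
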