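import Mathlib
import Groth.Agent.Helper3.ResNbhd

open TensorProduct AlgebraicGeometry CategoryTheory Limits

universe u

namespace Groth.Agent.Helper3.SmoothEtSec

theorem infinite_of_isSepClosed (K : Type*) [Field K] [IsSepClosed K] : Infinite K := by
  by_contra h
  rw [not_infinite_iff_finite] at h
  haveI : PerfectField K := inferInstance
  haveI : IsAlgClosed K := inferInstance
  exact not_finite K

/-- A nonzero polynomial in several variables over a field has a non-root with coordinates in a
finite separable extension. -/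
theorem exists_sep_point (k : Type u) [Field k] (n : ℕ) (h : MvPolynomial (Fin n) k) (hh : h ≠ 0) :
    ∃ (k' : Type u) (_ : Field k') (_ : Algebra k k') (_ : FiniteDimensional k k')
      (_ : Algebra.IsSeparable k k') (t : Fin n → k'), MvPolynomial.aeval t h ≠ 0 := by
  let K := SeparableClosure k
  haveI : Infinite K := infinite_of_isSepClosed K
  have hh' : MvPolynomial.map (algebraMap k K) h ≠ 0 := by
    intro h0
    apply hh
    apply MvPolynomial.map_injective _ (algebraMap k K).injective
    rw [h0, map_zero]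
  obtain ⟨x, hx⟩ : ∃ x : Fin n → K, MvPolynomial.eval x (MvPolynomial.map (algebraMap k K) h) ≠ 0 := by
    by_contra hcon
    push Not at hcon
    apply hh'
    apply MvPolynomial.funext
    intro x
    rw [hcon x, map_zero]
  let k' : IntermediateField k K := IntermediateField.adjoin k (Set.range x)
  haveI : FiniteDimensional k k' := by
    apply IntermediateField.finiteDimensional_adjoin
    intro y _
    exact Algebra.IsIntegral.isIntegral y
  haveI : Algebra.IsSeparable k k' := inferInstance
  let t : Fin n → k' := fun i => ⟨x i, IntermediateField.subset_adjoin k _ ⟨i, rfl⟩⟩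
  refine ⟨k', inferInstance, inferInstance, inferInstance, inferInstance, t, ?_⟩
  intro h0
  apply hx
  have h1 : algebraMap k' K (MvPolynomial.aeval t h) = MvPolynomial.aeval x h := by
    have : (IsScalarTower.toAlgHom k k' K).comp (MvPolynomial.aeval t) = MvPolynomial.aeval x := by
      apply MvPolynomial.algHom_ext
      intro i
      simp [t]
    exact congr($this h)
  rw [MvPolynomial.eval_map, ← MvPolynomial.aeval_def, ← h1, h0, map_zero]

theorem exists_prime_tensor (P B T : Type u) [CommRing P] [CommRing B] [CommRing T]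
    [Algebra P B] [Algebra P T] (Q : PrimeSpectrum B) (p : PrimeSpectrum T)
    (h : PrimeSpectrum.comap (algebraMap P T) p = PrimeSpectrum.comap (algebraMap P B) Q) :
    ∃ z : PrimeSpectrum (T ⊗[P] B),
      PrimeSpectrum.comap (algebraMap T (T ⊗[P] B)) z = p := by
  have hpb := isPullback_SpecMap_of_isPushout _ _ _ _ (CommRingCat.isPushout_tensorProduct P T B)
  obtain ⟨z, hz1, hz2⟩ := Scheme.exists_preimage_of_isPullback hpb p Q h
  exact ⟨z, hz1⟩

theorem exists_fraction_residueField {A : Type*} [CommRing A] (p : Ideal A) [p.IsPrime]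
    (y : p.ResidueField) :
    ∃ a b : A, algebraMap A p.ResidueField b ≠ 0 ∧
      y * algebraMap A p.ResidueField b = algebraMap A p.ResidueField a := by
  obtain ⟨z, rfl⟩ := IsLocalRing.residue_surjective (R := Localization.AtPrime p) y
  obtain ⟨⟨a, b⟩, hab⟩ := IsLocalization.surj p.primeCompl z
  refine ⟨a, b, ?_, ?_⟩
  · rw [Ne, Ideal.algebraMap_residueField_eq_zero]
    exact b.2
  · have := congrArg (IsLocalRing.residue (Localization.AtPrime p)) hab
    rw [map_mul] at this
    exact this

set_option maxHeartbeats 1600000 in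
theorem ring_main (A C : Type u) [CommRing A] [CommRing C] [Algebra A C]
    [Algebra.FinitePresentation A C] (q : Ideal C) [q.IsPrime] [Algebra.IsSmoothAt A q] :
    ∃ (A' : Type u) (_ : CommRing A') (_ : Algebra A A') (_ : Algebra.Etale A A')
      (p' : Ideal A') (_ : p'.IsPrime) (_ : C →ₐ[A] A'),
      p'.comap (algebraMap A A') = q.comap (algebraMap A C) := by
  obtain ⟨f, hfq, n, alg, tower, hstd⟩ :=
    Algebra.IsSmoothAt.exists_isStandardEtale_mvPolynomial (R := A) (p := q)
  have hdisj : Disjoint (Submonoid.powers f : Set C) (q : Set C) :=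
    (Ideal.disjoint_powers_iff_notMem_of_isPrime _).mpr hfq
  haveI hqf : (q.map (algebraMap C (Localization.Away f))).IsPrime :=
    IsLocalization.isPrime_of_isPrime_disjoint (.powers f) _ _ ‹_› hdisj
  have hqf_comap : (q.map (algebraMap C (Localization.Away f))).comap
      (algebraMap C (Localization.Away f)) = q :=
    IsLocalization.under_map_of_isPrime_disjoint (.powers f) _ ‹_› hdisj
  have hr : ((q.map (algebraMap C (Localization.Away f))).comap
      (algebraMap (MvPolynomial (Fin n) A) (Localization.Away f))).comap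
        (algebraMap A (MvPolynomial (Fin n) A)) = q.comap (algebraMap A C) := by
    rw [Ideal.comap_comap, ← IsScalarTower.algebraMap_eq,
      IsScalarTower.algebraMap_eq A C (Localization.Away f), ← Ideal.comap_comap, hqf_comap]
  haveI : Algebra.Etale (MvPolynomial (Fin n) A) (Localization.Away f) := inferInstance
  have hopen : IsOpen (Set.range (PrimeSpectrum.comap
      (algebraMap (MvPolynomial (Fin n) A) (Localization.Away f)))) :=
    (PrimeSpectrum.isOpenMap_comap_of_hasGoingDown_of_finitePresentation).isOpen_range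
  have hrmem : (⟨(q.map (algebraMap C (Localization.Away f))).comap
      (algebraMap (MvPolynomial (Fin n) A) (Localization.Away f)), inferInstance⟩ :
        PrimeSpectrum (MvPolynomial (Fin n) A)) ∈ Set.range (PrimeSpectrum.comap
      (algebraMap (MvPolynomial (Fin n) A) (Localization.Away f))) := ⟨⟨_, hqf⟩, rfl⟩
  obtain ⟨_, ⟨h₀, rfl⟩, hr₀, hsub⟩ :=
    PrimeSpectrum.isTopologicalBasis_basic_opens.exists_subset_of_mem_open hrmem hopen
  have hr₀' : h₀ ∉ (q.map (algebraMap C (Localization.Away f))).comap
      (algebraMap (MvPolynomial (Fin n) A) (Localization.Away f)) := hr₀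
  haveI hp : (q.comap (algebraMap A C)).IsPrime := inferInstance
  have hhbar : MvPolynomial.map (algebraMap A (q.comap (algebraMap A C)).ResidueField) h₀ ≠ 0 := by
    intro h0
    apply hr₀'
    have hmem : h₀ ∈ Ideal.map (MvPolynomial.C) (q.comap (algebraMap A C)) := by
      rw [MvPolynomial.mem_map_C_iff]
      intro m
      have := congrArg (MvPolynomial.coeff m) h0
      rw [MvPolynomial.coeff_map, MvPolynomial.coeff_zero,
        Ideal.algebraMap_residueField_eq_zero] at this
      exact this
    have hle : Ideal.map (MvPolynomial.C) (q.comap (algebraMap A C)) ≤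
        (q.map (algebraMap C (Localization.Away f))).comap
          (algebraMap (MvPolynomial (Fin n) A) (Localization.Away f)) := by
      rw [Ideal.map_le_iff_le_comap]
      exact hr.ge
    exact hle hmem
  obtain ⟨k', _, _, _, _, tbar, htbar⟩ := exists_sep_point _ n _ hhbar
  letI : Algebra A k' := ((algebraMap (q.comap (algebraMap A C)).ResidueField k').comp
    (algebraMap A (q.comap (algebraMap A C)).ResidueField)).toAlgebra
  haveI : IsScalarTower A (q.comap (algebraMap A C)).ResidueField k' := .of_algebraMap_eq' rfl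
  obtain ⟨R', _, _, hR', β, hβ⟩ := ResNbhd.exists_etale_algHom A
    (q.comap (algebraMap A C)).ResidueField (exists_fraction_residueField _) k'
  have hfrac : ∀ i, ∃ a b : R', β b ≠ 0 ∧ tbar i * β b = β a := by
    intro i
    have hmem : tbar i ∈ Subfield.closure (Set.range β) := by rw [hβ]; trivial
    rw [Subfield.mem_closure_iff] at hmem
    obtain ⟨y, hy, z, hz, hyz⟩ := hmem
    have hcl : Subring.closure (Set.range β) = β.toRingHom.range := by
      have : (Set.range β) = ((β.toRingHom.range : Subring k') : Set k') := by ext; simp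
      rw [this, Subring.closure_eq]
    rw [hcl] at hy hz
    obtain ⟨a, rfl⟩ := hy
    obtain ⟨b, rfl⟩ := hz
    by_cases hb : β b = 0
    · refine ⟨0, 1, by simp, ?_⟩
      rw [← hyz]
      have : β.toRingHom b = 0 := hb
      rw [this, div_zero, zero_mul, map_zero]
    · refine ⟨a, b, hb, ?_⟩
      rw [← hyz]
      show β.toRingHom a / β.toRingHom b * β b = β a
      have : β.toRingHom b = β b := rfl
      rw [this, div_mul_cancel₀ _ hb]
      rfl
  choose a b hb hab using hfrac
  have hbb : β (∏ i, b i) ≠ 0 := by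
    rw [map_prod]
    exact Finset.prod_ne_zero_iff.mpr (fun i _ => hb i)
  haveI : Algebra.Etale R' (Localization.Away (∏ i, b i)) :=
    Algebra.Etale.of_isLocalizationAway (∏ i, b i)
  haveI : Algebra.Etale A (Localization.Away (∏ i, b i)) :=
    Algebra.Etale.comp A R' (Localization.Away (∏ i, b i))
  let β'' : Localization.Away (∏ i, b i) →ₐ[A] k' :=
    IsLocalization.Away.liftAlgHom (∏ i, b i) (f := β) hbb.isUnit
  have hβ'' : ∀ x, β'' (algebraMap R' (Localization.Away (∏ i, b i)) x) = β x :=
    fun x => IsLocalization.Away.lift_eq (∏ i, b i) (g := (β : R' →+* k')) hbb.isUnit x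
  have hunit : ∀ i, IsUnit (algebraMap R' (Localization.Away (∏ i, b i)) (b i)) := by
    intro i
    have h1 : IsUnit (algebraMap R' (Localization.Away (∏ i, b i)) (∏ i, b i)) :=
      IsLocalization.Away.algebraMap_isUnit _
    have h2 : (∏ j, b j) = b i * ∏ j ∈ Finset.univ.erase i, b j :=
      (Finset.mul_prod_erase _ _ (Finset.mem_univ i)).symm
    have h3 : algebraMap R' (Localization.Away (∏ i, b i)) (∏ j, b j) =
        algebraMap R' (Localization.Away (∏ i, b i)) (b i) *
          algebraMap R' (Localization.Away (∏ i, b i)) (∏ j ∈ Finset.univ.erase i, b j) := by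
      rw [← map_mul, ← h2]
    rw [h3] at h1
    exact isUnit_of_mul_isUnit_left h1
  let t : Fin n → Localization.Away (∏ i, b i) :=
    fun i => algebraMap R' _ (a i) * ↑((hunit i).unit⁻¹)
  have ht : ∀ i, β'' (t i) = tbar i := by
    intro i
    have h1 : β'' (t i) * β (b i) = β (a i) := by
      rw [← hβ'' (b i), ← map_mul]
      simp only [t]
      rw [mul_assoc, IsUnit.val_inv_mul, mul_one, hβ'']
    exact mul_right_cancel₀ (hb i) (h1.trans (hab i).symm)
  let φ : MvPolynomial (Fin n) A →ₐ[A] Localization.Away (∏ i, b i) := MvPolynomial.aeval t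
  have hφ : β''.comp φ = MvPolynomial.aeval tbar := by
    apply MvPolynomial.algHom_ext
    intro i
    simp [φ, ht]
  have hh₀ : β'' (φ h₀) ≠ 0 := by
    have := congr($hφ h₀)
    rw [AlgHom.comp_apply] at this
    rw [this]
    intro h0
    apply htbar
    rw [MvPolynomial.aeval_def, MvPolynomial.eval₂_map]
    rw [MvPolynomial.aeval_def] at h0
    exact h0
  haveI hp'' : (RingHom.ker β''.toRingHom).IsPrime := RingHom.ker_isPrime _
  letI algPR : Algebra (MvPolynomial (Fin n) A) (Localization.Away (∏ i, b i)) :=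
    φ.toRingHom.toAlgebra
  haveI : IsScalarTower A (MvPolynomial (Fin n) A) (Localization.Away (∏ i, b i)) :=
    .of_algebraMap_eq' (RingHom.ext fun r => (φ.commutes r).symm)
  have hmem₁ : (PrimeSpectrum.comap (algebraMap (MvPolynomial (Fin n) A)
      (Localization.Away (∏ i, b i))) ⟨RingHom.ker β''.toRingHom, hp''⟩) ∈
        (fun r => (PrimeSpectrum.basicOpen r : Set (PrimeSpectrum (MvPolynomial (Fin n) A)))) h₀ := by
    show h₀ ∉ (RingHom.ker β''.toRingHom).comap (algebraMap (MvPolynomial (Fin n) A)
      (Localization.Away (∏ i, b i)))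
    intro hmem
    exact hh₀ hmem
  obtain ⟨Q, hQ⟩ := hsub hmem₁
  obtain ⟨z, hz⟩ := exists_prime_tensor (MvPolynomial (Fin n) A) (Localization.Away f)
    (Localization.Away (∏ i, b i)) Q ⟨_, hp''⟩ hQ.symm
  haveI : Algebra.Etale (Localization.Away (∏ i, b i))
      (Localization.Away (∏ i, b i) ⊗[MvPolynomial (Fin n) A] Localization.Away f) := inferInstance
  haveI : Algebra.Etale A
      (Localization.Away (∏ i, b i) ⊗[MvPolynomial (Fin n) A] Localization.Away f) :=
    Algebra.Etale.comp A (Localization.Away (∏ i, b i)) _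
  let τ : C →ₐ[A] (Localization.Away (∏ i, b i) ⊗[MvPolynomial (Fin n) A] Localization.Away f) :=
    ((Algebra.TensorProduct.includeRight :
      Localization.Away f →ₐ[MvPolynomial (Fin n) A] _).restrictScalars A).comp
        (IsScalarTower.toAlgHom A C (Localization.Away f))
  refine ⟨_, inferInstance, inferInstance, inferInstance, z.asIdeal, z.isPrime, τ, ?_⟩
  have h1 : z.asIdeal.comap (algebraMap (Localization.Away (∏ i, b i))
      (Localization.Away (∏ i, b i) ⊗[MvPolynomial (Fin n) A] Localization.Away f)) =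
        RingHom.ker β''.toRingHom := congrArg PrimeSpectrum.asIdeal hz
  rw [IsScalarTower.algebraMap_eq A (Localization.Away (∏ i, b i))
    (Localization.Away (∏ i, b i) ⊗[MvPolynomial (Fin n) A] Localization.Away f),
    ← Ideal.comap_comap, h1]
  ext x
  rw [Ideal.mem_comap, RingHom.mem_ker, Ideal.mem_comap]
  show β'' (algebraMap A _ x) = 0 ↔ _
  rw [β''.commutes]
  show algebraMap (q.comap (algebraMap A C)).ResidueField k'
    (algebraMap A (q.comap (algebraMap A C)).ResidueField x) = 0 ↔ _
  rw [map_eq_zero, Ideal.algebraMap_residueField_eq_zero, Ideal.mem_comap]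

theorem main {X S : Scheme.{u}} (f : X ⟶ S) [Smooth f] (s : S) (hs : s ∈ Set.range f) :
    ∃ (S' : Scheme.{u}) (g : S' ⟶ S) (s' : S'), Etale g ∧ g s' = s ∧ ∃ h : S' ⟶ X, h ≫ f = g := by
  obtain ⟨x, rfl⟩ := hs
  obtain ⟨_, ⟨(W : S.Opens), hW, rfl⟩, hsW, -⟩ := S.isBasis_affineOpens.exists_subset_of_mem_open
    (Set.mem_univ (f x)) isOpen_univ
  obtain ⟨_, ⟨(V : X.Opens), hV, rfl⟩, hxV, hVW⟩ := X.isBasis_affineOpens.exists_subset_of_mem_open
    (show x ∈ (f ⁻¹ᵁ W : Set X) from hsW) (f ⁻¹ᵁ W).isOpen
  have e : V ≤ f ⁻¹ᵁ W := hVW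
  replace hV : IsAffineOpen V := hV
  replace hW : IsAffineOpen W := hW
  have hψsm : (f.appLE W V e).hom.Smooth :=
    HasRingHomProperty.appLE (P := @Smooth) f inferInstance ⟨W, hW⟩ ⟨V, hV⟩ e
  letI : Algebra Γ(S, W) Γ(X, V) := (f.appLE W V e).hom.toAlgebra
  haveI : Algebra.Smooth Γ(S, W) Γ(X, V) := RingHom.smooth_algebraMap.mp hψsm
  haveI : Algebra.FinitePresentation Γ(S, W) Γ(X, V) := Algebra.Smooth.finitePresentation
  haveI : Algebra.IsSmoothAt Γ(S, W) (hV.primeIdealOf ⟨x, hxV⟩).asIdeal := inferInstance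
  obtain ⟨A', _, _, hA', p', hp', τ, hcomap⟩ :=
    ring_main Γ(S, W) Γ(X, V) (hV.primeIdealOf ⟨x, hxV⟩).asIdeal
  haveI hjo : IsOpenImmersion hW.fromSpec := hW.isOpenImmersion_fromSpec
  have hcomm : CommRingCat.ofHom (algebraMap Γ(S, W) A') =
      f.appLE W V e ≫ CommRingCat.ofHom (τ : Γ(X, V) →+* A') := by
    ext r
    exact (τ.commutes r).symm
  refine ⟨Spec (.of A'), Spec.map (CommRingCat.ofHom (algebraMap Γ(S, W) A')) ≫ hW.fromSpec,
    ⟨p', hp'⟩, ?_, ?_, Spec.map (CommRingCat.ofHom (τ : Γ(X, V) →+* A')) ≫ hV.fromSpec, ?_⟩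
  · have : Etale (Spec.map (CommRingCat.ofHom (algebraMap Γ(S, W) A'))) :=
      HasRingHomProperty.Spec_iff.mpr (RingHom.etale_algebraMap.mpr hA')
    infer_instance
  · have h1 : f x = (hV.fromSpec ≫ f) (hV.primeIdealOf ⟨x, hxV⟩) := by
      show f x = f (hV.fromSpec (hV.primeIdealOf ⟨x, hxV⟩))
      rw [IsAffineOpen.fromSpec_primeIdealOf]
    rw [h1, ← IsAffineOpen.SpecMap_appLE_fromSpec f hW hV e]
    show hW.fromSpec ((Spec.map (CommRingCat.ofHom (algebraMap Γ(S, W) A'))) ⟨p', hp'⟩) =
      hW.fromSpec ((Spec.map (f.appLE W V e)) (hV.primeIdealOf ⟨x, hxV⟩))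
    congr 1
    apply PrimeSpectrum.ext
    exact hcomap
  · rw [Category.assoc, ← IsAffineOpen.SpecMap_appLE_fromSpec f hW hV e, ← Category.assoc,
      ← Spec.map_comp, ← hcomm]

end Groth.Agent.Helper3.SmoothEtSec
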