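import Mathlib
import Groth.Prelude.Def_CurvBase
import Groth.Agent.Helper3.SmoothEtSec
import Groth.Agent.Helper3.ResNbhdSch

open TensorProduct AlgebraicGeometry CategoryTheory Limits

universe u

namespace Groth.Agent.Helper3.SepClosedPts

theorem exists_sep_max (k C : Type u) [Field k] [CommRing C] [Algebra k C]
    [Algebra.FinitePresentation k C] (q : Ideal C) [q.IsPrime] [Algebra.IsSmoothAt k q] :
    ∃ Q : Ideal C, Q.IsMaximal ∧ FiniteDimensional k (C ⧸ Q) ∧ Algebra.IsSeparable k (C ⧸ Q) := by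
  obtain ⟨A', _, _, hA', p', hp', τ, -⟩ := SmoothEtSec.ring_main k C q
  haveI : Module.Finite k A' := Algebra.FormallyUnramified.finite_of_free k A'
  haveI : IsArtinianRing A' := IsArtinianRing.of_finite k A'
  haveI hmax : p'.IsMaximal := IsArtinianRing.isMaximal_of_isPrime p'
  letI : Field (A' ⧸ p') := Ideal.Quotient.field p'
  haveI : Algebra.FormallyUnramified k (A' ⧸ p') :=
    Algebra.FormallyUnramified.of_surjective (Ideal.Quotient.mkₐ k p') Ideal.Quotient.mk_surjective
  haveI : Algebra.IsSeparable k (A' ⧸ p') := Algebra.FormallyUnramified.isSeparable k (A' ⧸ p')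
  haveI hQ : (p'.comap τ.toRingHom).IsPrime := inferInstance
  let ι : C ⧸ (p'.comap τ.toRingHom) →ₐ[k] A' ⧸ p' := Ideal.quotientMapₐ p' τ le_rfl
  have hι : Function.Injective ι := Ideal.quotientMap_injective
  haveI : FiniteDimensional k (C ⧸ (p'.comap τ.toRingHom)) :=
    FiniteDimensional.of_injective ι.toLinearMap hι
  haveI : Algebra.IsIntegral k (C ⧸ (p'.comap τ.toRingHom)) := Algebra.IsIntegral.of_finite _ _
  have hfield : IsField (C ⧸ (p'.comap τ.toRingHom)) :=
    isField_of_isIntegral_of_isField' (Field.toIsField k)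
  haveI hQmax : (p'.comap τ.toRingHom).IsMaximal := Ideal.Quotient.maximal_of_isField _ hfield
  refine ⟨p'.comap τ.toRingHom, hQmax, inferInstance, ?_⟩
  letI : Field (C ⧸ (p'.comap τ.toRingHom)) := Ideal.Quotient.field _
  exact Algebra.IsSeparable.of_algHom k (A' ⧸ p') ι

attribute [local instance] Curv2.resAlgebra

set_option maxHeartbeats 800000 in
theorem main (k : Type u) [Field k] (X : Scheme.{u}) [X.Over (Spec (CommRingCat.of k))]
    [Smooth (X ↘ (Spec (CommRingCat.of k)))] :
    Dense {x : X | IsClosed ({x} : Set X) ∧ FiniteDimensional k (X.residueField x) ∧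
      Algebra.IsSeparable k (X.residueField x)} := by
  rw [dense_iff_inter_open]
  rintro U hU ⟨x, hxU⟩
  obtain ⟨_, ⟨(V : X.Opens), hV, rfl⟩, hxV, hVU⟩ :=
    X.isBasis_affineOpens.exists_subset_of_mem_open hxU hU
  replace hV : IsAffineOpen V := hV
  let φ' : CommRingCat.of k ⟶ Γ(X, V) :=
    (Scheme.ΓSpecIso (CommRingCat.of k)).inv ≫ (X ↘ Spec (CommRingCat.of k)).appLE ⊤ V le_top
  have K1 : hV.fromSpec ≫ (X ↘ Spec (CommRingCat.of k)) = Spec.map φ' := by
    rw [← IsAffineOpen.SpecMap_appLE_fromSpec (X ↘ Spec (CommRingCat.of k)) (isAffineOpen_top _)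
      hV le_top, IsAffineOpen.fromSpec_top, Scheme.isoSpec_Spec_inv, ← Spec.map_comp]
  haveI : IsOpenImmersion hV.fromSpec := hV.isOpenImmersion_fromSpec
  have hsm : φ'.hom.Smooth := by
    have : Smooth (Spec.map φ') := by rw [← K1]; infer_instance
    exact HasRingHomProperty.Spec_iff.mp this
  letI algkC : Algebra k Γ(X, V) := φ'.hom.toAlgebra
  haveI : Algebra.Smooth k Γ(X, V) := RingHom.smooth_algebraMap.mp hsm
  haveI : Algebra.FinitePresentation k Γ(X, V) := Algebra.Smooth.finitePresentation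
  obtain ⟨Q, hQmax, hQfin, hQsep⟩ :=
    exists_sep_max k Γ(X, V) (hV.primeIdealOf ⟨x, hxV⟩).asIdeal
  let P : ↥(Spec Γ(X, V)) := (⟨Q, hQmax.isPrime⟩ : PrimeSpectrum Γ(X, V))
  have hyV : hV.fromSpec P ∈ V := by
    have : hV.fromSpec P ∈ Set.range hV.fromSpec := ⟨P, rfl⟩
    rw [hV.range_fromSpec] at this
    exact this
  refine ⟨hV.fromSpec P, ⟨hVU hyV, ?_, ?_⟩⟩
  · haveI : JacobsonSpace X := LocallyOfFiniteType.jacobsonSpace (X ↘ Spec (CommRingCat.of k))
    apply isClosed_singleton_of_isLocallyClosed_singleton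
    have : ({hV.fromSpec P} : Set X) = hV.fromSpec '' {P} := Set.image_singleton.symm
    rw [this]
    apply IsLocallyClosed.image _ hV.fromSpec.isOpenEmbedding.isInducing _
    · exact ((PrimeSpectrum.isClosed_singleton_iff_isMaximal P).mpr hQmax).isLocallyClosed
    · rw [hV.range_fromSpec]; exact V.isOpen.isLocallyClosed
  · let ev := X.evaluation V (hV.fromSpec P) hyV
    have hker : ∀ c : Γ(X, V), ev.hom c = 0 ↔ c ∈ Q := by
      intro c
      have h0 : ev.hom c = 0 ↔ hV.fromSpec P ∉ X.basicOpen c :=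
        Scheme.evaluation_eq_zero_iff_notMem_basicOpen X (hV.fromSpec P) hyV c
      rw [h0]
      have h1 : hV.fromSpec P ∈ X.basicOpen c ↔ P ∈ (hV.fromSpec ⁻¹ᵁ X.basicOpen c) := Iff.rfl
      rw [h1, hV.fromSpec_preimage_basicOpen]
      show ¬ (c ∉ Q) ↔ c ∈ Q
      exact not_not
    have hcomm : ∀ a : k, ev.hom (algebraMap k Γ(X, V) a) =
        algebraMap k (X.residueField (hV.fromSpec P)) a := by
      intro a
      show (X.residue _).hom ((X.presheaf.germ V (hV.fromSpec P) hyV).hom
        (((X ↘ Spec (CommRingCat.of k)).appLE ⊤ V le_top).hom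
          ((Scheme.ΓSpecIso (CommRingCat.of k)).inv.hom a))) =
        (X.residue _).hom ((X.presheaf.germ ⊤ (hV.fromSpec P) trivial).hom
          (((X ↘ Spec (CommRingCat.of k)).appTop).hom
            ((Scheme.ΓSpecIso (CommRingCat.of k)).inv.hom a)))
      congr 1
      have h2 : (X ↘ Spec (CommRingCat.of k)).appLE ⊤ V le_top =
          (X ↘ Spec (CommRingCat.of k)).appTop ≫ X.presheaf.map (homOfLE le_top).op := by
        rfl
      rw [h2]
      simp [TopCat.Presheaf.germ_res_apply]
    have hsurj : Function.Surjective ev.hom := by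
      intro z
      obtain ⟨a, b, hb, hab⟩ := ResNbhdSch.exists_fraction hV (hV.fromSpec P) hyV z
      have hbQ : b ∉ Q := fun h => hb ((hker b).mpr h)
      obtain ⟨b', i, hi, hbi⟩ := hQmax.exists_inv hbQ
      refine ⟨a * b', ?_⟩
      have h1 : ev.hom b' * ev.hom b = 1 := by
        have := congrArg ev.hom hbi
        rw [map_add, map_mul, (hker i).mpr hi, add_zero, map_one] at this
        exact this
      rw [map_mul, ← hab, mul_assoc, mul_comm (ev.hom b), h1, mul_one]
    let evA : Γ(X, V) →ₐ[k] X.residueField (hV.fromSpec P) := { ev.hom with commutes' := hcomm }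
    let g : (Γ(X, V) ⧸ Q) →ₐ[k] X.residueField (hV.fromSpec P) :=
      Ideal.Quotient.liftₐ Q evA (fun c hc => (hker c).mpr hc)
    have hgsurj : Function.Surjective g := by
      intro z
      obtain ⟨c, rfl⟩ := hsurj z
      exact ⟨Ideal.Quotient.mk Q c, rfl⟩
    letI : Field (Γ(X, V) ⧸ Q) := Ideal.Quotient.field Q
    have hginj : Function.Injective g := RingHom.injective g.toRingHom
    let e : (Γ(X, V) ⧸ Q) ≃ₐ[k] X.residueField (hV.fromSpec P) :=
      AlgEquiv.ofBijective g ⟨hginj, hgsurj⟩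
    exact ⟨Module.Finite.equiv e.toLinearEquiv, AlgEquiv.Algebra.isSeparable e⟩

end Groth.Agent.Helper3.SepClosedPts
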