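import Mathlib
import Groth.Agent.Helper1.FieldSmooth7
import Groth.Agent.Helper3.SepClosedPts

set_option linter.style.haveILetI false
set_option linter.unusedSectionVars false
set_option linter.unusedVariables false
set_option linter.style.haveILetI false
set_option linter.unusedSectionVars false
set_option linter.unusedVariables false

open AlgebraicGeometry CategoryTheory CategoryTheory.Limits TensorProduct Function

namespace Groth.Agent.Helper3.GeomRedPt3

universe u

/-- geometric reducedness passes to open subschemes of the source -/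
theorem geomRed_comp_openImmersion {W X Y : Scheme.{u}} (j : W ⟶ X) [IsOpenImmersion j]
    (f : X ⟶ Y) [GeometricallyReduced f] : GeometricallyReduced (j ≫ f) := by
  refine ⟨fun K _ y Z fst snd h => ?_⟩
  let l : Z ⟶ pullback f y := pullback.lift (fst ≫ j) snd (by rw [Category.assoc, h.w])
  have hsq : IsPullback fst l j (pullback.fst f y) := by
    refine IsPullback.of_bot (v₂₁ := pullback.snd f y) (h₃₁ := y) (v₂₂ := f) ?_ ?_
      (IsPullback.of_hasPullback f y)
    · have : l ≫ pullback.snd f y = snd := pullback.lift_snd _ _ _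
      rw [this]
      exact h
    · exact (pullback.lift_fst _ _ _).symm
  haveI : IsOpenImmersion l := MorphismProperty.of_isPullback hsq inferInstance
  haveI : IsReduced (pullback f y) :=
    GeometricallyReduced.geometrically_isReduced (f := f) y _ _ (IsPullback.of_hasPullback f y)
  exact isReduced_of_isOpenImmersion l

/-- ring-level geometric reducedness from the scheme-level one -/
theorem isGeometricallyReduced_of_Spec (k C : Type u) [Field k] [CommRing C] [Algebra k C]
    [GeometricallyReduced (Spec.map (CommRingCat.ofHom (algebraMap k C)))] :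
    Algebra.IsGeometricallyReduced k C := by
  rw [Algebra.isGeometricallyReduced_field_iff]
  have h1 : IsReduced (pullback (Spec.map (CommRingCat.ofHom (algebraMap k C)))
      (Spec.map (CommRingCat.ofHom (algebraMap k (AlgebraicClosure k))))) :=
    GeometricallyReduced.geometrically_isReduced
      (f := Spec.map (CommRingCat.ofHom (algebraMap k C))) _ _ _ (IsPullback.of_hasPullback _ _)
  have h2 : IsReduced (Spec (CommRingCat.of (C ⊗[k] AlgebraicClosure k))) :=
    isReduced_of_isOpenImmersion (pullbackSpecIso k C (AlgebraicClosure k)).inv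
  have h3 : _root_.IsReduced (C ⊗[k] AlgebraicClosure k) :=
    (affine_isReduced_iff (CommRingCat.of (C ⊗[k] AlgebraicClosure k))).mp h2
  exact isReduced_of_injective (Algebra.TensorProduct.comm k (AlgebraicClosure k) C).toRingHom
    (Algebra.TensorProduct.comm k (AlgebraicClosure k) C).injective

attribute [local instance] Algebra.TensorProduct.rightAlgebra in
/-- geometric reducedness passes to localizations -/
theorem isGeometricallyReduced_localization (k C : Type u) [Field k] [CommRing C] [Algebra k C]
    [Algebra.IsGeometricallyReduced k C] (M : Submonoid C) (L : Type u) [CommRing L] [Algebra C L]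
    [Algebra k L] [IsScalarTower k C L] [IsLocalization M L] :
    Algebra.IsGeometricallyReduced k L := by
  rw [Algebra.isGeometricallyReduced_field_iff]
  have h0 : _root_.IsReduced (AlgebraicClosure k ⊗[k] C) :=
    (Algebra.isGeometricallyReduced_field_iff k C).mp inferInstance
  have h1 : _root_.IsReduced (C ⊗[k] AlgebraicClosure k) :=
    isReduced_of_injective (Algebra.TensorProduct.comm k C (AlgebraicClosure k)).toRingHom
      (Algebra.TensorProduct.comm k C (AlgebraicClosure k)).injective
  have h2 : _root_.IsReduced (L ⊗[C] (C ⊗[k] AlgebraicClosure k)) :=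
    isReduced_localizationPreserves
      (Algebra.algebraMapSubmonoid (C ⊗[k] AlgebraicClosure k) M) _ h1
  have h3 : _root_.IsReduced (L ⊗[k] AlgebraicClosure k) :=
    isReduced_of_injective
      (Algebra.TensorProduct.cancelBaseChange k C C L (AlgebraicClosure k)).symm.toRingHom
      (Algebra.TensorProduct.cancelBaseChange k C C L (AlgebraicClosure k)).symm.injective
  exact isReduced_of_injective (Algebra.TensorProduct.comm k (AlgebraicClosure k) L).toRingHom
    (Algebra.TensorProduct.comm k (AlgebraicClosure k) L).injective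

/-- a geometrically reduced nonzero finite type algebra over a field has a smooth point -/
theorem exists_isSmoothAt (k C : Type u) [Field k] [CommRing C] [Algebra k C] [Nontrivial C]
    [Algebra.IsGeometricallyReduced k C] :
    ∃ (q : Ideal C) (_ : q.IsPrime), Algebra.IsSmoothAt k q := by
  haveI : _root_.IsReduced C := Algebra.isReduced_of_isGeometricallyReduced k
  obtain ⟨q, hq⟩ := Ideal.nonempty_minimalPrimes (I := (⊥ : Ideal C)) bot_ne_top
  haveI hqp : q.IsPrime := hq.1.1
  refine ⟨q, hqp, ?_⟩
  have hmax : IsLocalRing.maximalIdeal (Localization.AtPrime q) = ⊥ := by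
    have h := IsLocalization.AtPrime.radical_map_of_mem_minimalPrimes (Localization.AtPrime q) q ⊥ hq
    rw [Ideal.map_bot, IsLocalization.AtPrime.map_eq_maximalIdeal q] at h
    rw [← h]
    exact nilradical_eq_zero _
  have hfield : IsField (Localization.AtPrime q) :=
    IsLocalRing.isField_iff_maximalIdeal_eq.mpr hmax
  letI : Field (Localization.AtPrime q) := hfield.toField
  haveI : Algebra.IsGeometricallyReduced k (Localization.AtPrime q) :=
    isGeometricallyReduced_localization k C q.primeCompl _
  exact Groth.Agent.Helper1.FieldSmooth.formallySmooth_iff_isGeometricallyReduced.mpr inferInstance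

theorem main (k : Type u) [Field k] [IsSepClosed k]
    {X : Scheme.{u}} (f : X ⟶ Spec (CommRingCat.of k)) [LocallyOfFiniteType f] [QuasiCompact f]
    [GeometricallyReduced f] [Nonempty X] :
    ∃ s : Spec (CommRingCat.of k) ⟶ X, s ≫ f = 𝟙 (Spec (CommRingCat.of k)) := by
  obtain ⟨x⟩ := ‹Nonempty X›
  obtain ⟨_, ⟨U, hU, rfl⟩, hxU, -⟩ :=
    X.isBasis_affineOpens.exists_subset_of_mem_open (Set.mem_univ x) isOpen_univ
  have hU' : IsAffineOpen (U : X.Opens) := hU
  haveI : IsOpenImmersion hU'.fromSpec := hU'.isOpenImmersion_fromSpec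
  obtain ⟨φ, hφ⟩ := Spec.map_surjective (hU'.fromSpec ≫ f)
  letI : Algebra k Γ(X, U) := φ.hom.toAlgebra
  have hφ' : Spec.map (CommRingCat.ofHom (algebraMap k Γ(X, U))) = hU'.fromSpec ≫ f := hφ
  haveI : GeometricallyReduced (Spec.map (CommRingCat.ofHom (algebraMap k Γ(X, U)))) := by
    rw [hφ']; exact geomRed_comp_openImmersion _ f
  haveI : Algebra.IsGeometricallyReduced k Γ(X, U) := isGeometricallyReduced_of_Spec k _
  haveI : Nonempty U := ⟨⟨x, hxU⟩⟩
  haveI : Nontrivial Γ(X, U) := inferInstance
  haveI : LocallyOfFiniteType (Spec.map (CommRingCat.ofHom (algebraMap k Γ(X, U)))) := by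
    rw [hφ']; infer_instance
  have hft : (algebraMap k Γ(X, U)).FiniteType :=
    (HasRingHomProperty.Spec_iff (P := @LocallyOfFiniteType)).mp inferInstance
  haveI : Algebra.FiniteType k Γ(X, U) := RingHom.finiteType_algebraMap.mp hft
  haveI : Algebra.FinitePresentation k Γ(X, U) :=
    Algebra.FinitePresentation.of_finiteType.mp inferInstance
  obtain ⟨q, hq, hsm⟩ := exists_isSmoothAt k Γ(X, U)
  obtain ⟨Q, hQmax, hQfin, hQsep⟩ := SepClosedPts.exists_sep_max k Γ(X, U) q
  letI : Field (Γ(X, U) ⧸ Q) := Ideal.Quotient.field Q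
  have hbij : Bijective (algebraMap k (Γ(X, U) ⧸ Q)) := IsSepClosed.algebraMap_bijective k _
  let e : k ≃+* (Γ(X, U) ⧸ Q) := RingEquiv.ofBijective _ hbij
  let σ : Γ(X, U) →+* k := (e.symm : (Γ(X, U) ⧸ Q) →+* k).comp (Ideal.Quotient.mk Q)
  have hσ : σ.comp (algebraMap k Γ(X, U)) = RingHom.id k := by
    ext a
    show e.symm (Ideal.Quotient.mk Q (algebraMap k Γ(X, U) a)) = a
    apply e.injective
    rw [RingEquiv.apply_symm_apply]
    rfl
  refine ⟨Spec.map (CommRingCat.ofHom σ) ≫ hU'.fromSpec, ?_⟩
  rw [Category.assoc, ← hφ', ← Spec.map_comp, ← CommRingCat.ofHom_comp, hσ]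
  simp

end Groth.Agent.Helper3.GeomRedPt3
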