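import Mathlib
import Groth.Agent.Helper3.GeomRedPt3
import Groth.Agent.Helper2.SmoothRegSch

set_option linter.style.haveILetI false
set_option linter.unusedSectionVars false
set_option linter.unusedVariables false
set_option linter.style.haveILetI false
set_option linter.unusedSectionVars false
set_option linter.unusedVariables false

open AlgebraicGeometry CategoryTheory CategoryTheory.Limits TensorProduct Function

namespace Groth.Agent.Helper3.GeomRedSm

universe u

open Groth.Agent.Helper3.GeomRedPt3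

section

variable (k : Type u) [Field k] {X : Scheme.{u}} (f : X ⟶ Spec (CommRingCat.of k))

/-- the `k`-algebra structure on sections over an open -/
@[reducible] noncomputable def algSec (V : X.Opens) : Algebra k Γ(X, V) :=
  ((f.appLE ⊤ V le_top).hom.comp (Scheme.ΓSpecIso (CommRingCat.of k)).inv.hom).toAlgebra

theorem spec_map_eq (V : X.Opens) (hV : IsAffineOpen V) :
    letI := algSec k f V
    Spec.map (CommRingCat.ofHom (algebraMap k Γ(X, V))) = hV.fromSpec ≫ f := by
  letI := algSec k f V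
  have h1 : CommRingCat.ofHom (algebraMap k Γ(X, V)) =
      (Scheme.ΓSpecIso (CommRingCat.of k)).inv ≫ f.appLE ⊤ V le_top := rfl
  rw [h1, Spec.map_comp, ← IsAffineOpen.SpecMap_appLE_fromSpec f (isAffineOpen_top _) hV le_top,
    IsAffineOpen.fromSpec_top, Scheme.isoSpec_Spec_inv]

theorem mem_smoothLocus_iff [LocallyOfFinitePresentation f] (V : X.Opens) (hV : IsAffineOpen V)
    (x : X) (hxV : x ∈ V) :
    letI := algSec k f V
    x ∈ f.smoothLocus ↔ Algebra.IsSmoothAt k (hV.primeIdealOf ⟨x, hxV⟩).asIdeal := by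
  have hU : IsAffineOpen (⊤ : (Spec (CommRingCat.of k)).Opens) := isAffineOpen_top _
  have hVU : V ≤ f ⁻¹ᵁ ⊤ := le_top
  let ψ : CommRingCat.of k ⟶ Γ(Spec (CommRingCat.of k), ⊤) :=
    (Scheme.ΓSpecIso (CommRingCat.of k)).inv
  have hψ : Function.Bijective ψ.hom :=
    ConcreteCategory.bijective_of_isIso (Scheme.ΓSpecIso (CommRingCat.of k)).inv
  letI : Algebra k Γ(Spec (CommRingCat.of k), ⊤) := ψ.hom.toAlgebra
  letI : Algebra Γ(Spec (CommRingCat.of k), ⊤) Γ(X, V) := (f.appLE ⊤ V hVU).hom.toAlgebra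
  letI : Algebra k Γ(X, V) := algSec k f V
  haveI : IsScalarTower k Γ(Spec (CommRingCat.of k), ⊤) Γ(X, V) :=
    IsScalarTower.of_algebraMap_eq' rfl
  let e : k ≃ₐ[k] Γ(Spec (CommRingCat.of k), ⊤) :=
    AlgEquiv.ofBijective (Algebra.ofId k _) hψ
  haveI : Algebra.FormallyEtale k Γ(Spec (CommRingCat.of k), ⊤) := .of_equiv e
  let q := (hV.primeIdealOf ⟨x, hxV⟩).asIdeal
  rw [Scheme.Hom.mem_smoothLocus, formallySmooth_stalkMap_iff ⊤ hU V hV hVU hxV]
  change Algebra.FormallySmooth Γ(Spec (CommRingCat.of k), ⊤) (Localization.AtPrime q) ↔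
    Algebra.FormallySmooth k (Localization.AtPrime q)
  exact (Algebra.FormallySmooth.iff_restrictScalars (R := k)
    (A := Γ(Spec (CommRingCat.of k), ⊤)) (B := Localization.AtPrime q)).symm

theorem dense_smoothLocus [LocallyOfFinitePresentation f] [GeometricallyReduced f] :
    Dense (f.smoothLocus : Set X) := by
  rw [dense_iff_inter_open]
  rintro W hW ⟨w, hw⟩
  obtain ⟨_, ⟨V, hV, rfl⟩, hwV, hVW⟩ :=
    X.isBasis_affineOpens.exists_subset_of_mem_open hw hW
  have hV' : IsAffineOpen (V : X.Opens) := hV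
  letI := algSec k f V
  haveI : IsOpenImmersion hV'.fromSpec := hV'.isOpenImmersion_fromSpec
  haveI : GeometricallyReduced (Spec.map (CommRingCat.ofHom (algebraMap k Γ(X, V)))) := by
    rw [spec_map_eq k f V hV']; exact geomRed_comp_openImmersion _ f
  haveI : Algebra.IsGeometricallyReduced k Γ(X, V) := isGeometricallyReduced_of_Spec k _
  haveI : Nonempty V := ⟨⟨w, hwV⟩⟩
  haveI : Nontrivial Γ(X, V) := inferInstance
  obtain ⟨q, hq, hsm⟩ := exists_isSmoothAt k Γ(X, V)
  -- the point of `V` corresponding to `q`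
  let x' : V := hV'.isoSpec.inv ⟨q, hq⟩
  have hx' : hV'.primeIdealOf ⟨x'.1, x'.2⟩ = ⟨q, hq⟩ := by
    show hV'.isoSpec.hom (hV'.isoSpec.inv ⟨q, hq⟩) = _
    rw [← Scheme.Hom.comp_apply, Iso.inv_hom_id]
    rfl
  refine ⟨x'.1, hVW x'.2, ?_⟩
  rw [SetLike.mem_coe, mem_smoothLocus_iff k f V hV' x'.1 x'.2, hx']
  exact hsm

end

theorem main (k : Type u) [Field k] (X : Scheme.{u}) [X.Over (Spec (CommRingCat.of k))]
    [IsReduced X] [LocallyOfFiniteType (X ↘ (Spec (CommRingCat.of k)))] :
    GeometricallyReduced (X ↘ (Spec (CommRingCat.of k))) ↔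
      ∃ U : X.Opens, Dense (U : Set X) ∧ Smooth (U.ι ≫ (X ↘ (Spec (CommRingCat.of k)))) := by
  set f := X ↘ (Spec (CommRingCat.of k)) with hf
  haveI : LocallyOfFinitePresentation f := inferInstance
  constructor
  · intro hgr
    refine ⟨f.smoothLocus, dense_smoothLocus k f, ?_⟩
    rw [← Scheme.Hom.smoothLocus_eq_top_iff, ← Scheme.Hom.preimage_smoothLocus_eq]
    exact f.smoothLocus.ι_preimage_self
  · rintro ⟨U, hUd, hUsm⟩
    haveI : IsLocallyNoetherian X := LocallyOfFiniteType.isLocallyNoetherian f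
    haveI : IsDominant U.ι := ⟨by
      rw [DenseRange, Scheme.Opens.range_ι]; exact hUd⟩
    haveI : IsSchemeTheoreticallyDominant U.ι := IsSchemeTheoreticallyDominant.of_isDominant _
    haveI hgrU : GeometricallyReduced (U.ι ≫ f) :=
      Groth.Agent.Helper2.SmoothRegSch.geometricallyReduced_of_smooth k _ _
    refine ⟨fun K _ y Z fst snd h => ?_⟩
    -- `fst` is flat
    obtain ⟨φ, rfl⟩ := Spec.map_surjective y
    haveI : Flat (Spec.map φ) := by
      rw [HasRingHomProperty.Spec_iff (P := @Flat)]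
      algebraize [φ.hom]
      show Module.Flat k K
      infer_instance
    haveI : Flat fst := MorphismProperty.of_isPullback h.flip inferInstance
    -- the open part
    have hsq : IsPullback (pullback.fst U.ι fst) (pullback.snd U.ι fst ≫ snd) (U.ι ≫ f)
        (Spec.map φ) :=
      IsPullback.paste_vert (IsPullback.of_hasPullback U.ι fst).flip.flip h |>.flip.flip
    haveI : IsReduced (pullback U.ι fst) :=
      GeometricallyReduced.geometrically_isReduced (f := U.ι ≫ f) _ _ _ hsq
    exact IsSchemeTheoreticallyDominant.isReduced (pullback.snd U.ι fst)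

end Groth.Agent.Helper3.GeomRedSm
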