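import Mathlib
import Groth.Agent.Helper3.GeomRedSm
import Groth.Agent.Helper2.RedNhd
import Groth.Agent.Helper4.GeomRed2

set_option linter.style.haveILetI false
set_option linter.unusedSectionVars false
set_option linter.unusedVariables false
set_option linter.style.haveILetI false
set_option linter.unusedSectionVars false
set_option linter.unusedVariables false

open AlgebraicGeometry CategoryTheory CategoryTheory.Limits TensorProduct Function
open MonoidalCategory CartesianMonoidalCategory MonObj GrpObj

namespace Groth.Agent.Helper3.GrpGeomRed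

universe u

open Groth.Agent.Helper3.GeomRedPt3 Groth.Agent.Helper3.GeomRedSm

/-- Step A: if `K ⊗ S` is reduced for a perfect extension `K`, then `S` is geometrically
reduced. -/
theorem isGeometricallyReduced_of_perfect (k K S : Type u) [Field k] [Field K] [Algebra k K]
    [PerfectField K] [CommRing S] [Algebra k S] (h : _root_.IsReduced (K ⊗[k] S)) :
    Algebra.IsGeometricallyReduced k S := by
  rw [Algebra.isGeometricallyReduced_field_iff]
  have h1 : _root_.IsReduced (AlgebraicClosure K ⊗[k] S) :=
    Groth.Agent.Helper4.GeomRed.isReduced_of_perfect_tower (F := K) S h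
  let φ : AlgebraicClosure k →ₐ[k] AlgebraicClosure K := IsAlgClosed.lift
  exact isReduced_of_injective (Algebra.TensorProduct.map φ (AlgHom.id k S))
    (Module.Flat.rTensor_preserves_injective_linearMap _ φ.injective)

section

variable (k : Type u) [Field k] {X : Scheme.{u}} (f : X ⟶ Spec (CommRingCat.of k))

/-- Step B: a point with geometrically reduced local ring has a smooth generization. -/
theorem exists_mem_smoothLocus [LocallyOfFinitePresentation f] (x : X)
    (h : letI := ((Scheme.ΓSpecIso (CommRingCat.of k)).inv ≫ f.appTop ≫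
        X.presheaf.germ ⊤ x trivial).hom.toAlgebra
      Algebra.IsGeometricallyReduced k (X.presheaf.stalk x)) :
    (f.smoothLocus : Set X).Nonempty := by
  obtain ⟨_, ⟨V, hV, rfl⟩, hxV, -⟩ :=
    X.isBasis_affineOpens.exists_subset_of_mem_open (Set.mem_univ x) isOpen_univ
  have hV' : IsAffineOpen (V : X.Opens) := hV
  letI algk : Algebra k (X.presheaf.stalk x) := ((Scheme.ΓSpecIso (CommRingCat.of k)).inv ≫
    f.appTop ≫ X.presheaf.germ ⊤ x trivial).hom.toAlgebra
  letI := algSec k f V
  letI algV : Algebra Γ(X, V) (X.presheaf.stalk x) :=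
    X.presheaf.algebra_section_stalk ⟨x, hxV⟩
  haveI : IsScalarTower k Γ(X, V) (X.presheaf.stalk x) := by
    refine IsScalarTower.of_algebraMap_eq' ?_
    show ((Scheme.ΓSpecIso (CommRingCat.of k)).inv ≫ f.appTop ≫
        X.presheaf.germ ⊤ x trivial).hom =
      (X.presheaf.germ V x hxV).hom.comp (((f.appLE ⊤ V le_top).hom.comp
        (Scheme.ΓSpecIso (CommRingCat.of k)).inv.hom))
    rw [← CommRingCat.hom_comp, ← CommRingCat.hom_comp]
    congr 1
    rw [Category.assoc]
    congr 1
    rw [Scheme.Hom.appLE, Category.assoc, X.presheaf.germ_res]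
    rfl
  haveI hloc : IsLocalization.AtPrime (X.presheaf.stalk x) (hV'.primeIdealOf ⟨x, hxV⟩).asIdeal :=
    hV'.isLocalization_stalk ⟨x, hxV⟩
  haveI : Nontrivial (X.presheaf.stalk x) := inferInstance
  haveI : Algebra.IsGeometricallyReduced k (X.presheaf.stalk x) := h
  obtain ⟨Q, hQ, hsm⟩ := exists_isSmoothAt k (X.presheaf.stalk x)
  let q : Ideal Γ(X, V) := Q.comap (algebraMap Γ(X, V) (X.presheaf.stalk x))
  haveI hq : q.IsPrime := Ideal.comap_isPrime _ _
  haveI : IsLocalization.AtPrime (Localization.AtPrime Q) q :=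
    IsLocalization.isLocalization_isLocalization_atPrime_isLocalization
      (hV'.primeIdealOf ⟨x, hxV⟩).asIdeal.primeCompl _ Q
  have hsmq : Algebra.IsSmoothAt k q := by
    have e : Localization.AtPrime q ≃ₐ[Γ(X, V)] Localization.AtPrime Q :=
      IsLocalization.algEquiv q.primeCompl _ _
    exact Algebra.FormallySmooth.of_equiv (e.restrictScalars k).symm
  let x' : V := hV'.isoSpec.inv ⟨q, hq⟩
  have hx' : hV'.primeIdealOf ⟨x'.1, x'.2⟩ = ⟨q, hq⟩ := by
    show hV'.isoSpec.hom (hV'.isoSpec.inv ⟨q, hq⟩) = _
    rw [← Scheme.Hom.comp_apply, Iso.inv_hom_id]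
    rfl
  refine ⟨x'.1, ?_⟩
  rw [SetLike.mem_coe, mem_smoothLocus_iff k f V hV' x'.1 x'.2, hx']
  exact hsmq

end

section

variable {K : Type u} [Field K] {G : Scheme.{u}} (f : G ⟶ Spec (.of K))
    [LocallyOfFiniteType f] [GrpObj (Over.mk f)]

/-- Step C: a group scheme locally of finite type over a field with nonempty smooth locus is
smooth. -/
theorem smooth_of_nonempty_smoothLocus (hne : (f.smoothLocus : Set G).Nonempty) : Smooth f := by
  let Ω : Type u := AlgebraicClosure K
  let g : Spec (.of Ω) ⟶ Spec (.of K) := Spec.map (CommRingCat.ofHom <| algebraMap K Ω)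
  apply MorphismProperty.of_pullback_snd_of_descendsAlong
    (Q := @Surjective ⊓ @Flat ⊓ @QuasiCompact) (g := g)
  · exact ⟨⟨inferInstance, inferInstance⟩, inferInstance⟩
  · let : GrpObj (Over.mk (pullback.snd f g)) := Over.grpObjMkPullbackSnd
    apply Groth.Agent.Helper2.SmoothGrp.smooth_of_grpObj_of_isAlgClosed'
    obtain ⟨x, hx⟩ := hne
    obtain ⟨x', rfl⟩ := (pullback.fst f g).surjective x
    exact ⟨x', Groth.Agent.Helper2.SmoothGrp.preimage_smoothLocus_le f g hx⟩

end

theorem main (k : Type u) [Field k] (G : Over (Spec (CommRingCat.of k))) [GrpObj G]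
    [LocallyOfFiniteType G.hom] (pt : ↥(𝟙_ (Over (Spec (CommRingCat.of k)))).left) (K : Type u)
    [Field K] [Algebra k K] [PerfectField K] :
    letI := ((Scheme.ΓSpecIso (CommRingCat.of k)).inv ≫ G.hom.appTop ≫
      G.left.presheaf.germ ⊤ (η[G].left.base pt) trivial).hom.toAlgebra
    _root_.IsReduced (TensorProduct k K (G.left.presheaf.stalk (η[G].left.base pt))) →
      Smooth G.hom := by
  intro hred
  letI : GrpObj (Over.mk G.hom) := ‹GrpObj G›
  apply smooth_of_nonempty_smoothLocus G.hom
  apply exists_mem_smoothLocus k G.hom (η[G].left.base pt)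
  letI : Algebra k (G.left.presheaf.stalk (η[G].left.base pt)) :=
    ((Scheme.ΓSpecIso (CommRingCat.of k)).inv ≫ G.hom.appTop ≫
      G.left.presheaf.germ ⊤ (η[G].left.base pt) trivial).hom.toAlgebra
  exact isGeometricallyReduced_of_perfect k K _ hred

end Groth.Agent.Helper3.GrpGeomRed
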