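import Mathlib
import Groth.Agent.Helper3.GrpGeomRed

set_option linter.style.haveILetI false
set_option linter.unusedSectionVars false
set_option linter.unusedVariables false
set_option linter.style.haveILetI false
set_option linter.unusedSectionVars false
set_option linter.unusedVariables false

open AlgebraicGeometry CategoryTheory CategoryTheory.Limits TensorProduct Function

namespace Groth.Agent.Helper3.SepPts

universe u

open Groth.Agent.Helper3.GeomRedPt3 Groth.Agent.Helper3.GeomRedSm

/-- A morphism from a reduced scheme landing set-theoretically in a closed subscheme factors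
through it. -/
theorem lift_of_reduced {T Z G : Scheme.{u}} [IsReduced T] (z : Z ⟶ G) [IsClosedImmersion z]
    (φ : T ⟶ G) (h : Set.range φ.base ⊆ Set.range z.base) : ∃ ψ : T ⟶ Z, ψ ≫ z = φ := by
  let p := pullback.fst φ z
  haveI : IsClosedImmersion p := inferInstance
  haveI : AlgebraicGeometry.Surjective p := ⟨fun t => by
    obtain ⟨w, hw⟩ := h ⟨t, rfl⟩
    obtain ⟨a, ha, -⟩ := Scheme.Pullback.exists_preimage_pullback t w hw.symm
    exact ⟨a, ha⟩⟩
  haveI : IsIso p := isIso_of_isClosedImmersion_of_surjective p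
  refine ⟨inv p ≫ pullback.snd φ z, ?_⟩
  rw [Category.assoc, ← pullback.condition, IsIso.inv_hom_id_assoc]

variable (k : Type u) [Field k]

/-- images of separable points of `f` -/
def sepSet {X : Scheme.{u}} (f : X ⟶ Spec (CommRingCat.of k)) : Set X :=
  {p | ∃ (K : Type u) (_ : Field K) (_ : Algebra k K) (_ : Algebra.IsGeometricallyReduced k K)
      (x : Spec (CommRingCat.of K) ⟶ X), x ≫ f = Spec.map (CommRingCat.ofHom (algebraMap k K)) ∧
      x.base (IsLocalRing.closedPoint K) = p}

variable {X : Scheme.{u}} (f : X ⟶ Spec (CommRingCat.of k))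

theorem isReduced_of_geometricallyReduced [GeometricallyReduced f] : IsReduced X := by
  have h : IsPullback (𝟙 X) f f (𝟙 _) := IsPullback.of_id_fst
  have h2 : IsPullback (𝟙 X) f f (Spec.map (CommRingCat.ofHom (algebraMap k k))) := by
    have : Spec.map (CommRingCat.ofHom (algebraMap k k)) = 𝟙 _ := by
      rw [Algebra.algebraMap_self]; exact Spec.map_id _
    rw [this]; exact h
  exact GeometricallyReduced.geometrically_isReduced (f := f) _ _ _ h2

theorem fromSpecStalk_comp (x : X) :
    X.fromSpecStalk x ≫ f = Spec.map (((Scheme.ΓSpecIso (CommRingCat.of k)).inv ≫ f.appTop) ≫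
      X.presheaf.germ ⊤ x trivial) := by
  have h1 : f = X.toSpecΓ ≫ Spec.map ((Scheme.ΓSpecIso (CommRingCat.of k)).inv ≫ f.appTop) := by
    rw [Spec.map_comp, ← Scheme.toSpecΓ_naturality_assoc, ← SpecMap_ΓSpecIso_hom,
      ← Spec.map_comp, Iso.inv_hom_id, Spec.map_id, Category.comp_id]
  conv_lhs => rw [h1, Scheme.fromSpecStalk_toSpecΓ_assoc, ← Spec.map_comp]


theorem genericPoints_subset_sepSet [GeometricallyReduced f] :
    genericPoints X ⊆ sepSet k f := by
  intro η hη
  haveI : IsReduced X := isReduced_of_geometricallyReduced k f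
  have hfield : IsField (X.presheaf.stalk η) :=
    isField_stalk_of_closure_mem_irreducibleComponents X η hη
  obtain ⟨_, ⟨V, hV, rfl⟩, hxV, -⟩ :=
    X.isBasis_affineOpens.exists_subset_of_mem_open (Set.mem_univ η) isOpen_univ
  have hV' : IsAffineOpen (V : X.Opens) := hV
  letI algk : Algebra k (X.presheaf.stalk η) := (((Scheme.ΓSpecIso (CommRingCat.of k)).inv ≫
    f.appTop) ≫ X.presheaf.germ ⊤ η trivial).hom.toAlgebra
  letI := algSec k f V
  letI algV : Algebra Γ(X, V) (X.presheaf.stalk η) :=
    X.presheaf.algebra_section_stalk ⟨η, hxV⟩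
  haveI : IsScalarTower k Γ(X, V) (X.presheaf.stalk η) := by
    refine IsScalarTower.of_algebraMap_eq' ?_
    show (((Scheme.ΓSpecIso (CommRingCat.of k)).inv ≫ f.appTop) ≫
        X.presheaf.germ ⊤ η trivial).hom =
      (X.presheaf.germ V η hxV).hom.comp (((f.appLE ⊤ V le_top).hom.comp
        (Scheme.ΓSpecIso (CommRingCat.of k)).inv.hom))
    rw [← CommRingCat.hom_comp, ← CommRingCat.hom_comp]
    congr 1
    rw [Category.assoc, Category.assoc]
    congr 1
    rw [Scheme.Hom.appLE, Category.assoc, X.presheaf.germ_res]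
    rfl
  haveI hloc : IsLocalization.AtPrime (X.presheaf.stalk η) (hV'.primeIdealOf ⟨η, hxV⟩).asIdeal :=
    hV'.isLocalization_stalk ⟨η, hxV⟩
  haveI : IsOpenImmersion hV'.fromSpec := hV'.isOpenImmersion_fromSpec
  haveI : GeometricallyReduced (Spec.map (CommRingCat.ofHom (algebraMap k Γ(X, V)))) := by
    rw [spec_map_eq k f V hV']; exact geomRed_comp_openImmersion _ f
  haveI : Algebra.IsGeometricallyReduced k Γ(X, V) := isGeometricallyReduced_of_Spec k _
  haveI hgr : Algebra.IsGeometricallyReduced k (X.presheaf.stalk η) :=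
    isGeometricallyReduced_localization k Γ(X, V)
      (hV'.primeIdealOf ⟨η, hxV⟩).asIdeal.primeCompl _
  letI : Field (X.presheaf.stalk η) := hfield.toField
  refine ⟨X.presheaf.stalk η, inferInstance, algk, hgr, X.fromSpecStalk η, ?_, ?_⟩
  · exact fromSpecStalk_comp k f η
  · exact Scheme.fromSpecStalk_closedPoint

/-- The image of a geometrically reduced scheme lies in any closed set containing the images of
all separable points. -/
theorem range_subset_of_sepSet [GeometricallyReduced f] {Y : Scheme.{u}} (φ : X ⟶ Y)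
    (C : Set Y) (hC : IsClosed C) (h : ∀ p ∈ sepSet k f, φ.base p ∈ C) :
    Set.range φ.base ⊆ C := by
  rintro _ ⟨x, rfl⟩
  have hcl : IsClosed (φ.base ⁻¹' C) := hC.preimage φ.continuous
  have h1 : genericPoints X ⊆ φ.base ⁻¹' C := fun p hp =>
    h p (genericPoints_subset_sepSet k f hp)
  have h2 : closure (genericPoints X) ⊆ φ.base ⁻¹' C := hcl.closure_subset_iff.mpr h1
  rw [genericPoints.closure] at h2
  exact h2 (Set.mem_univ x)

end Groth.Agent.Helper3.SepPts
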