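import Mathlib
import Groth.Agent.Helper3.SepPts
import Groth.Agent.Helper3.SepClosedPts

set_option linter.style.haveILetI false
set_option linter.unusedSectionVars false
set_option linter.unusedVariables false
set_option linter.style.haveILetI false
set_option linter.unusedSectionVars false
set_option linter.unusedVariables false

open AlgebraicGeometry CategoryTheory CategoryTheory.Limits TensorProduct Function

namespace Groth.Agent.Helper3.SepClosedEq

universe u

open Groth.Agent.Helper3.SepPts Groth.Agent.Helper3.GeomRedPt3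

/-- A geometrically reduced scheme locally of finite type over `k` has `K`-points in every
nonempty open, for `K` a separably closed extension of `k`. -/
theorem exists_point_mem (k K : Type u) [Field k] [Field K] [Algebra k K] [IsSepClosed K]
    {W : Scheme.{u}} (g : W ⟶ Spec (CommRingCat.of k)) [LocallyOfFiniteType g]
    [GeometricallyReduced g] (O : W.Opens) (hO : (O : Set W).Nonempty) :
    ∃ y : Spec (CommRingCat.of K) ⟶ W, y ≫ g = Spec.map (CommRingCat.ofHom (algebraMap k K)) ∧
      y.base (IsLocalRing.closedPoint K) ∈ O := by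
  obtain ⟨x, hxO⟩ := hO
  obtain ⟨_, ⟨U, hU, rfl⟩, hxU, hUO⟩ :=
    W.isBasis_affineOpens.exists_subset_of_mem_open hxO O.isOpen
  have hU' : IsAffineOpen (U : W.Opens) := hU
  haveI : IsOpenImmersion hU'.fromSpec := hU'.isOpenImmersion_fromSpec
  obtain ⟨φ, hφ⟩ := Spec.map_surjective (hU'.fromSpec ≫ g)
  letI : Algebra k Γ(W, U) := φ.hom.toAlgebra
  have hφ' : Spec.map (CommRingCat.ofHom (algebraMap k Γ(W, U))) = hU'.fromSpec ≫ g := hφ
  haveI : GeometricallyReduced (Spec.map (CommRingCat.ofHom (algebraMap k Γ(W, U)))) := by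
    rw [hφ']; exact geomRed_comp_openImmersion _ g
  haveI : Algebra.IsGeometricallyReduced k Γ(W, U) := isGeometricallyReduced_of_Spec k _
  haveI : Nonempty U := ⟨⟨x, hxU⟩⟩
  haveI : Nontrivial Γ(W, U) := inferInstance
  haveI : LocallyOfFiniteType (Spec.map (CommRingCat.ofHom (algebraMap k Γ(W, U)))) := by
    rw [hφ']; infer_instance
  have hft : (algebraMap k Γ(W, U)).FiniteType :=
    (HasRingHomProperty.Spec_iff (P := @LocallyOfFiniteType)).mp inferInstance
  haveI : Algebra.FiniteType k Γ(W, U) := RingHom.finiteType_algebraMap.mp hft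
  haveI : Algebra.FinitePresentation k Γ(W, U) :=
    Algebra.FinitePresentation.of_finiteType.mp inferInstance
  obtain ⟨q, hq, hsm⟩ := exists_isSmoothAt k Γ(W, U)
  obtain ⟨Q, hQmax, hQfin, hQsep⟩ := SepClosedPts.exists_sep_max k Γ(W, U) q
  letI : Field (Γ(W, U) ⧸ Q) := Ideal.Quotient.field Q
  let τ : (Γ(W, U) ⧸ Q) →ₐ[k] K := IsSepClosed.lift
  let σ : Γ(W, U) →ₐ[k] K := τ.comp (Ideal.Quotient.mkₐ k Q)
  refine ⟨Spec.map (CommRingCat.ofHom σ.toRingHom) ≫ hU'.fromSpec, ?_, ?_⟩
  · rw [Category.assoc, ← hφ', ← Spec.map_comp, ← CommRingCat.ofHom_comp]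
    congr 2
    exact σ.comp_algebraMap
  · apply hUO
    rw [Scheme.Hom.comp_apply]
    have : hU'.fromSpec.base ((Spec.map (CommRingCat.ofHom σ.toRingHom)).base
        (IsLocalRing.closedPoint K)) ∈ Set.range hU'.fromSpec.base := ⟨_, rfl⟩
    rw [hU'.range_fromSpec] at this
    exact this


theorem range_subset (k K : Type u) [Field k] [Field K] [Algebra k K] [IsSepClosed K]
    (X Z Z' : Over (Spec (CommRingCat.of k))) [LocallyOfFiniteType X.hom]
    (c : Z ⟶ X) [IsClosedImmersion c.left] [GeometricallyReduced Z.hom]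
    (c' : Z' ⟶ X) [IsClosedImmersion c'.left]
    (h : ∀ x : Over.mk (Spec.map (CommRingCat.ofHom (algebraMap k K))) ⟶ X,
      (∃ z : Over.mk (Spec.map (CommRingCat.ofHom (algebraMap k K))) ⟶ Z, z ≫ c = x) →
      (∃ z' : Over.mk (Spec.map (CommRingCat.ofHom (algebraMap k K))) ⟶ Z', z' ≫ c' = x)) :
    Set.range c.left.base ⊆ Set.range c'.left.base := by
  haveI : LocallyOfFiniteType Z.hom := by rw [← Over.w c]; infer_instance
  rintro _ ⟨w, rfl⟩
  by_contra hw
  let O : Z.left.Opens := ⟨(c.left.base ⁻¹' Set.range c'.left.base)ᶜ,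
    (c'.left.isClosedEmbedding.isClosed_range.preimage c.left.continuous).isOpen_compl⟩
  obtain ⟨y, hy, hyO⟩ := exists_point_mem k K Z.hom O ⟨w, hw⟩
  let yy : Over.mk (Spec.map (CommRingCat.ofHom (algebraMap k K))) ⟶ Z := Over.homMk y hy
  obtain ⟨z', hz'⟩ := h (yy ≫ c) ⟨yy, rfl⟩
  apply hyO
  show c.left.base (y.base (IsLocalRing.closedPoint K)) ∈ Set.range c'.left.base
  refine ⟨z'.left.base (IsLocalRing.closedPoint K), ?_⟩
  have h1 : z'.left ≫ c'.left = y ≫ c.left := congr(($hz').left)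
  rw [← Scheme.Hom.comp_apply, h1, Scheme.Hom.comp_apply]

theorem main (k K : Type u) [Field k] [Field K] [Algebra k K] [IsSepClosed K]
    (X Z Z' : Over (Spec (CommRingCat.of k))) [LocallyOfFiniteType X.hom]
    (c : Z ⟶ X) [IsClosedImmersion c.left] [GeometricallyReduced Z.hom]
    (c' : Z' ⟶ X) [IsClosedImmersion c'.left] [GeometricallyReduced Z'.hom]
    (h : ∀ x : Over.mk (Spec.map (CommRingCat.ofHom (algebraMap k K))) ⟶ X,
      (∃ z : Over.mk (Spec.map (CommRingCat.ofHom (algebraMap k K))) ⟶ Z, z ≫ c = x) ↔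
      (∃ z' : Over.mk (Spec.map (CommRingCat.ofHom (algebraMap k K))) ⟶ Z', z' ≫ c' = x)) :
    ∃ e : Z ≅ Z', e.hom ≫ c' = c := by
  haveI : IsReduced Z.left := isReduced_of_geometricallyReduced k Z.hom
  haveI : IsReduced Z'.left := isReduced_of_geometricallyReduced k Z'.hom
  have h1 := range_subset k K X Z Z' c c' (fun x => (h x).mp)
  have h2 := range_subset k K X Z' Z c' c (fun x => (h x).mpr)
  obtain ⟨ψ, hψ⟩ := lift_of_reduced c'.left c.left h1
  obtain ⟨ψ', hψ'⟩ := lift_of_reduced c.left c'.left h2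
  haveI : Mono c := Over.mono_of_mono_left c
  haveI : Mono c' := Over.mono_of_mono_left c'
  let a : Z ⟶ Z' := Over.homMk ψ (by rw [← Over.w c', ← Category.assoc, hψ, Over.w c])
  let b : Z' ⟶ Z := Over.homMk ψ' (by rw [← Over.w c, ← Category.assoc, hψ', Over.w c'])
  have ha : a ≫ c' = c := by ext; exact hψ
  have hb : b ≫ c = c' := by ext; exact hψ'
  refine ⟨⟨a, b, ?_, ?_⟩, ha⟩
  · rw [← cancel_mono c, Category.assoc, hb, ha, Category.id_comp]
  · rw [← cancel_mono c', Category.assoc, ha, hb, Category.id_comp]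

end Groth.Agent.Helper3.SepClosedEq
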