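import Mathlib

set_option linter.style.haveILetI false
set_option linter.unusedSectionVars false
set_option linter.unusedVariables false
set_option linter.unusedSectionVars false
set_option linter.unusedVariables false

open Polynomial MvPolynomial Ideal Nat RingHom List

namespace Groth.Agent.Helper3.RedGF1

variable {k : Type*} [CommRing k] {n : ℕ} (f : MvPolynomial (Fin (n + 1)) k)
variable (v w : Fin (n + 1) →₀ ℕ)

section equivT

/-- `up` is defined as `2 + f.totalDegree`. Any big enough number would work. -/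
local notation3 "up" => 2 + f.totalDegree

variable {f v} in
theorem lt_up (vlt : ∀ i, v i < up) : ∀ l ∈ ofFn v, l < up := by
  grind

/-- `r` maps `(i : Fin (n + 1))` to `up ^ i`. -/
local notation3 "r" => fun (i : Fin (n + 1)) ↦ up ^ i.1

/-- the algebra map `X_i ↦ X_i + c • X_0 ^ r_i` (`i ≠ 0`), `X_0 ↦ X_0`. -/
noncomputable abbrev T1 (c : k) :
    MvPolynomial (Fin (n + 1)) k →ₐ[k] MvPolynomial (Fin (n + 1)) k :=
  aeval fun i ↦ if i = 0 then X 0 else X i + c • X 0 ^ r i

theorem t1_comp_t1_neg (c : k) : (T1 f c).comp (T1 f (-c)) = AlgHom.id _ _ := by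
  rw [comp_aeval, ← MvPolynomial.aeval_X_left]
  ext i v
  cases i using Fin.cases <;> simp

/-- `T1 f 1` leads to an algebra equiv `T f`. -/
noncomputable abbrev T := AlgEquiv.ofAlgHom (T1 f 1) (T1 f (-1))
  (t1_comp_t1_neg f 1) (by simpa using t1_comp_t1_neg f (-1))

theorem sum_r_mul_ne (vlt : ∀ i, v i < up) (wlt : ∀ i, w i < up) (ne : v ≠ w) :
    ∑ x : Fin (n + 1), r x * v x ≠ ∑ x : Fin (n + 1), r x * w x := by
  intro h
  refine ne <| Finsupp.ext <| congrFun <| ofFn_inj.mp ?_
  apply ofDigits_inj_of_len_eq (Nat.lt_add_right f.totalDegree one_lt_two)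
    (by simp) (lt_up vlt) (lt_up wlt)
  simpa only [ofDigits_eq_sum_mapIdx, mapIdx_eq_ofFn, get_ofFn, length_ofFn,
    Fin.val_cast, mul_comm, sum_ofFn] using! h

/-- the monic polynomial in `X_0` attached to the exponent vector `v` -/
noncomputable def Qp : (MvPolynomial (Fin n) k)[X] :=
  Polynomial.X ^ (v 0) *
    ∏ i : Fin n, (Polynomial.C (X (R := k) i) + Polynomial.X ^ r i.succ) ^ v i.succ

theorem finSuccEquiv_T_monomial (a : k) :
    finSuccEquiv k n (T f (monomial v a)) = Polynomial.C (MvPolynomial.C a) * Qp f v := by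
  rw [monomial_eq, Finsupp.prod_pow v fun a ↦ X a]
  simp only [Fin.prod_univ_succ, map_mul, map_prod, map_pow,
    AlgEquiv.ofAlgHom_apply, MvPolynomial.aeval_C, MvPolynomial.aeval_X, if_pos, Fin.succ_ne_zero,
    ite_false, one_smul, map_add, finSuccEquiv_X_zero, finSuccEquiv_X_succ, algebraMap_eq, Qp]
  congr 1
  simp [finSuccEquiv_apply]

theorem Qp_monic [Nontrivial k] : (Qp f v).Monic := by
  unfold Qp
  refine (Polynomial.monic_X_pow _).mul (Polynomial.monic_prod_of_monic _ _ fun i _ => ?_)
  refine Monic.pow ?_ _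
  rw [add_comm]
  exact Polynomial.monic_X_pow_add_C _ (by positivity)

theorem Qp_natDegree [Nontrivial k] : (Qp f v).natDegree = ∑ i : Fin (n + 1), r i * v i := by
  unfold Qp
  have hm : ∀ i : Fin n, (Polynomial.C (X (R := k) i) + Polynomial.X ^ r i.succ).Monic := by
    intro i
    rw [add_comm]
    exact Polynomial.monic_X_pow_add_C _ (by positivity)
  rw [Monic.natDegree_mul (Polynomial.monic_X_pow _)
    (Polynomial.monic_prod_of_monic _ _ fun i _ => (hm i).pow _), natDegree_X_pow,
    Polynomial.natDegree_prod_of_monic _ _ (fun i _ => (hm i).pow _), Fin.sum_univ_succ]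
  simp only [Fin.val_zero, pow_zero, one_mul, add_right_inj]
  refine Finset.sum_congr rfl fun i _ => ?_
  rw [(hm i).natDegree_pow, add_comm (Polynomial.C _), natDegree_X_pow_add_C, mul_comm]

theorem natDegree_term [Nontrivial k] (hv : v ∈ f.support) :
    (finSuccEquiv k n (T f (monomial v (coeff v f)))).natDegree = ∑ i : Fin (n + 1), r i * v i := by
  rw [finSuccEquiv_T_monomial, ← Qp_natDegree f v]
  apply Polynomial.natDegree_C_mul_of_mul_ne_zero
  rw [(Qp_monic f v).leadingCoeff, mul_one]
  exact MvPolynomial.C_ne_zero.mpr (mem_support_iff.mp hv)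

theorem leadingCoeff_term [Nontrivial k] :
    (finSuccEquiv k n (T f (monomial v (coeff v f)))).leadingCoeff = MvPolynomial.C (coeff v f) := by
  rw [finSuccEquiv_T_monomial, Polynomial.leadingCoeff_mul_monic (Qp_monic f v),
    Polynomial.leadingCoeff_C]

/-- `T` maps `f` into some polynomial in `X_0` whose leading coefficient is a nonzero constant,
which is a coefficient of `f`. -/
theorem T_leadingcoeff (fne : f ≠ 0) :
    ∃ v ∈ f.support, (finSuccEquiv k n (T f f)).leadingCoeff = MvPolynomial.C (coeff v f) := by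
  haveI : Nontrivial k := by
    by_contra h
    rw [not_nontrivial_iff_subsingleton] at h
    exact fne (Subsingleton.elim _ _)
  obtain ⟨v, vin, vs⟩ := Finset.exists_max_image f.support
    (fun v ↦ ∑ i : Fin (n + 1), r i * v i) (support_nonempty.mpr fne)
  set h := fun w ↦ (MvPolynomial.monomial w) (coeff w f) with hh
  have hbound : ∀ x ∈ f.support, ∀ i, x i < up := fun x hx i =>
    lt_of_le_of_lt ((monomial_le_degreeOf i hx).trans (degreeOf_le_totalDegree f i)) (by lia)
  have vs' : ∀ x ∈ f.support \ {v}, (finSuccEquiv k n ((T f) (h x))).degree <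
      (finSuccEquiv k n ((T f) (h v))).degree := by
    intro x hx
    obtain ⟨h1, h2⟩ := Finset.mem_sdiff.mp hx
    apply degree_lt_degree
    rw [natDegree_term f x h1, natDegree_term f v vin]
    refine lt_of_le_of_ne (vs x h1) ?_
    exact sum_r_mul_ne f x v (hbound x h1) (hbound v vin) (fun e => h2 (by simp [e]))
  have coeff : (finSuccEquiv k n ((T f) (h v + ∑ x ∈ f.support \ {v}, h x))).leadingCoeff =
      (finSuccEquiv k n ((T f) (h v))).leadingCoeff := by
    simp only [map_add, map_sum]
    rw [add_comm]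
    apply leadingCoeff_add_of_degree_lt <| (lt_of_le_of_lt <| degree_sum_le _ _) ?_
    have h2 : (finSuccEquiv k n ((T f) (h v))) ≠ 0 := by
      intro eq
      have := leadingCoeff_term f v
      rw [eq, Polynomial.leadingCoeff_zero] at this
      exact mem_support_iff.mp vin (MvPolynomial.C_eq_zero.mp this.symm)
    exact (Finset.sup_lt_iff <| Ne.bot_lt (fun x ↦ h2 <| degree_eq_bot.mp x)).mpr vs'
  refine ⟨v, vin, ?_⟩
  nth_rw 2 [← f.support_sum_monomial_coeff]
  rw [Finset.sum_eq_add_sum_sdiff_singleton_of_mem vin h]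
  rw [leadingCoeff_term] at coeff
  rw [coeff]

/-- public form: an automorphism making the leading coefficient in `X 0` a nonzero constant,
equal to a coefficient of `f`. -/
theorem exists_algEquiv_leadingCoeff (fne : f ≠ 0) :
    ∃ (σ : MvPolynomial (Fin (n + 1)) k ≃ₐ[k] MvPolynomial (Fin (n + 1)) k)
      (v : Fin (n + 1) →₀ ℕ), coeff v f ≠ 0 ∧
      (finSuccEquiv k n (σ f)).leadingCoeff = MvPolynomial.C (coeff v f) := by
  obtain ⟨v, hv, h⟩ := T_leadingcoeff f fne
  exact ⟨T f, v, mem_support_iff.mp hv, h⟩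

end equivT

end Groth.Agent.Helper3.RedGF1
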