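import Mathlib

set_option linter.style.haveILetI false
set_option linter.unusedSectionVars false
set_option linter.unusedVariables false
set_option linter.unusedSectionVars false
set_option linter.unusedVariables false

namespace Groth.Agent.Helper3.RedGF2

open Function

section generic

variable {A : Type*} [CommRing A] (a : A)
  {M N P : Type*} [AddCommGroup M] [Module A M] [AddCommGroup N] [Module A N]
  [AddCommGroup P] [Module A P]

/-- (L4) a module killed by powers of `a` elementwise has trivial localization. -/
theorem subsingleton_of_torsion (h : ∀ m : M, ∃ k : ℕ, a ^ k • m = 0) :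
    Subsingleton (LocalizedModule (Submonoid.powers a) M) := by
  refine ⟨fun x y => ?_⟩
  suffices ∀ z : LocalizedModule (Submonoid.powers a) M, z = 0 by rw [this x, this y]
  intro z
  induction z using LocalizedModule.induction_on with
  | h m s =>
    obtain ⟨k, hk⟩ := h m
    rw [← LocalizedModule.zero_mk s, LocalizedModule.mk_eq]
    refine ⟨⟨a ^ k, k, rfl⟩, ?_⟩
    simp only [Submonoid.smul_def, smul_zero]
    rw [smul_comm, hk, smul_zero]

/-- (L2) an injective map with `a`-power-torsion cokernel localizes to a bijection. -/
theorem map_bijective_of_injective (i : N →ₗ[A] M) (hi : Injective i)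
    (h : ∀ m : M, ∃ (k : ℕ) (n : N), a ^ k • m = i n) :
    Bijective (LocalizedModule.map (Submonoid.powers a) i) := by
  refine ⟨LocalizedModule.map_injective _ i hi, fun z => ?_⟩
  induction z using LocalizedModule.induction_on with
  | h m s =>
    obtain ⟨k, n, hk⟩ := h m
    refine ⟨LocalizedModule.mk n (⟨a ^ k, k, rfl⟩ * s), ?_⟩
    rw [LocalizedModule.map_mk, ← hk]
    exact LocalizedModule.mk_cancel_common_left (⟨a ^ k, k, rfl⟩ : Submonoid.powers a) s m

/-- (L3) a surjective map with `a`-power-torsion kernel localizes to a bijection. -/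
theorem map_bijective_of_surjective (π : P →ₗ[A] M) (hπ : Surjective π)
    (h : ∀ x : P, π x = 0 → ∃ k : ℕ, a ^ k • x = 0) :
    Bijective (LocalizedModule.map (Submonoid.powers a) π) := by
  refine ⟨?_, LocalizedModule.map_surjective _ π hπ⟩
  rw [injective_iff_map_eq_zero]
  intro z hz
  induction z using LocalizedModule.induction_on with
  | h x s =>
    rw [LocalizedModule.map_mk, ← LocalizedModule.zero_mk s, LocalizedModule.mk_eq] at hz
    obtain ⟨u, hu⟩ := hz
    rw [smul_zero, smul_zero] at hu
    have h1 : π (((u : A) * (s : A)) • x) = 0 := by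
      rw [map_smul, mul_smul]; simpa [Submonoid.smul_def] using hu
    obtain ⟨k, hk⟩ := h _ h1
    rw [← LocalizedModule.zero_mk s, LocalizedModule.mk_eq]
    refine ⟨⟨a ^ k, k, rfl⟩ * u, ?_⟩
    rw [smul_zero, smul_zero]
    simp only [Submonoid.smul_def, Submonoid.coe_mul]
    rw [← hk, smul_smul, smul_smul]
    congr 1
    ring

end generic

section defs

variable (A : Type*) [CommRing A] (M : Type*) [AddCommGroup M] [Module A M]

/-- `M[1/a]` is free over `A[1/a]`. -/
def FreeAt (a : A) : Prop :=
  Module.Free (Localization.Away a) (LocalizedModule (Submonoid.powers a) M)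

/-- `M[1/a]` is finitely presented over `A[1/a]`. -/
def FPat (a : A) : Prop :=
  Module.FinitePresentation (Localization.Away a) (LocalizedModule (Submonoid.powers a) M)

end defs

section lemmas

variable {A : Type*} [CommRing A] {a : A}
  {M N P : Type*} [AddCommGroup M] [Module A M] [AddCommGroup N] [Module A N]
  [AddCommGroup P] [Module A P]

theorem FreeAt.of_torsion (h : ∀ m : M, ∃ k : ℕ, a ^ k • m = 0) : FreeAt A M a := by
  haveI := subsingleton_of_torsion a h
  exact Module.Free.of_subsingleton _ _

theorem FPat.of_torsion (h : ∀ m : M, ∃ k : ℕ, a ^ k • m = 0) : FPat A M a := by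
  haveI := subsingleton_of_torsion a h
  exact Module.finitePresentation_of_projective _ _

theorem FreeAt.of_injective (i : N →ₗ[A] M) (hi : Injective i)
    (h : ∀ m : M, ∃ (k : ℕ) (n : N), a ^ k • m = i n) (hN : FreeAt A N a) : FreeAt A M a := by
  haveI : Module.Free (Localization.Away a) (LocalizedModule (Submonoid.powers a) N) := hN
  exact Module.Free.of_equiv (LinearEquiv.ofBijective _ (map_bijective_of_injective a i hi h))

theorem FPat.of_injective (i : N →ₗ[A] M) (hi : Injective i)
    (h : ∀ m : M, ∃ (k : ℕ) (n : N), a ^ k • m = i n) (hN : FPat A N a) : FPat A M a := by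
  haveI : Module.FinitePresentation (Localization.Away a)
    (LocalizedModule (Submonoid.powers a) N) := hN
  exact Module.FinitePresentation.of_equiv
    (LinearEquiv.ofBijective _ (map_bijective_of_injective a i hi h))

theorem FreeAt.of_surjective [Module.Free A P] (π : P →ₗ[A] M) (hπ : Surjective π)
    (h : ∀ x : P, π x = 0 → ∃ k : ℕ, a ^ k • x = 0) : FreeAt A M a := by
  haveI : Module.Free (Localization.Away a) (LocalizedModule (Submonoid.powers a) P) :=
    Module.free_of_isLocalizedModule (Submonoid.powers a)
      (LocalizedModule.mkLinearMap (Submonoid.powers a) P)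
  exact Module.Free.of_equiv (LinearEquiv.ofBijective _ (map_bijective_of_surjective a π hπ h))

theorem FPat.of_surjective [Module.FinitePresentation A P] (π : P →ₗ[A] M) (hπ : Surjective π)
    (h : ∀ x : P, π x = 0 → ∃ k : ℕ, a ^ k • x = 0) : FPat A M a := by
  exact Module.FinitePresentation.of_equiv
    (LinearEquiv.ofBijective _ (map_bijective_of_surjective a π hπ h))

variable {M' M'' : Type*} [AddCommGroup M'] [Module A M'] [AddCommGroup M''] [Module A M'']

theorem loc_exact (i : M' →ₗ[A] M) (q : M →ₗ[A] M'') (hex : Exact i q) :
    Exact (LocalizedModule.map (Submonoid.powers a) i) (LocalizedModule.map (Submonoid.powers a) q) :=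
  LocalizedModule.map_exact (Submonoid.powers a) i q hex

theorem FPat.of_exact (i : M' →ₗ[A] M) (q : M →ₗ[A] M'') (hi : Injective i) (hq : Surjective q)
    (hex : Exact i q) (h' : FPat A M' a) (h'' : FPat A M'' a) : FPat A M a := by
  let S := Submonoid.powers a
  haveI : Module.FinitePresentation (Localization.Away a) (LocalizedModule S M') := h'
  haveI : Module.FinitePresentation (Localization.Away a) (LocalizedModule S M'') := h''
  have hex' := loc_exact (a := a) i q hex
  have hinj := LocalizedModule.map_injective S i hi
  have hsurj := LocalizedModule.map_surjective S q hq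
  have hker : LinearMap.ker (LocalizedModule.map S q) = LinearMap.range (LocalizedModule.map S i) :=
    (LinearMap.exact_iff.mp hex')
  haveI : Module.FinitePresentation (Localization.Away a)
      (LinearMap.ker (LocalizedModule.map S q)) := by
    rw [hker]
    exact Module.FinitePresentation.of_equiv (LinearEquiv.ofInjective _ hinj)
  exact Module.finitePresentation_of_ker (LocalizedModule.map S q) hsurj

theorem FreeAt.of_exact (i : M' →ₗ[A] M) (q : M →ₗ[A] M'') (hi : Injective i) (hq : Surjective q)
    (hex : Exact i q) (h' : FreeAt A M' a) (h'' : FreeAt A M'' a) : FreeAt A M a := by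
  let S := Submonoid.powers a
  haveI : Module.Free (Localization.Away a) (LocalizedModule S M') := h'
  haveI : Module.Free (Localization.Away a) (LocalizedModule S M'') := h''
  have hex' := loc_exact (a := a) i q hex
  have hinj := LocalizedModule.map_injective S i hi
  have hsurj := LocalizedModule.map_surjective S q hq
  obtain ⟨l, hl⟩ := Module.projective_lifting_property (LocalizedModule.map S q) LinearMap.id hsurj
  obtain ⟨e, -⟩ := hex'.splitSurjectiveEquiv hinj ⟨l, hl⟩
  exact Module.Free.of_equiv e.symm

end lemmas

section fpft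

variable (R S M : Type*) [CommRing R] [CommRing S] [Algebra R S] [Algebra.FiniteType R S]
  [AddCommGroup M] [Module R M] [Module S M] [IsScalarTower R S M]

/-- A module over a finite type `R`-algebra `S` which is finitely presented over `R` is finitely
presented over `S`. -/
theorem finitePresentation_of_finiteType [Module.FinitePresentation R M] :
    Module.FinitePresentation S M := by
  classical
  obtain ⟨gs, hgs⟩ := (Algebra.FiniteType.out : (⊤ : Subalgebra R S).FG)
  obtain ⟨t, π, hπ⟩ := Module.Finite.exists_fin' R M
  have hK : (LinearMap.ker π).FG := Module.FinitePresentation.fg_ker π hπ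
  obtain ⟨Kg, hKg⟩ := hK
  -- the S-linear extension
  let e : Fin t → M := fun i => π (Pi.single i 1)
  let πS : (Fin t → S) →ₗ[S] M := Fintype.linearCombination S e
  let ι : (Fin t → R) →ₗ[R] (Fin t → S) := (Algebra.linearMap R S).compLeft (Fin t)
  have hι : ∀ x, πS (ι x) = π x := by
    intro x
    have hx : x = ∑ i, x i • (Pi.single i 1 : Fin t → R) := by
      ext j; simp [Finset.sum_apply, Pi.single_apply]
    conv_rhs => rw [hx, map_sum]
    simp only [πS, ι, Fintype.linearCombination_apply, LinearMap.compLeft_apply, map_smul, e,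
      Function.comp_apply, Algebra.linearMap_apply, algebraMap_smul]
  -- lifts of s • e_i
  have hl : ∀ (s : S) (i : Fin t), ∃ l : Fin t → R, π l = s • e i := fun s i => hπ _
  choose l hl using hl
  let rel : Set (Fin t → S) := (ι '' (Kg : Set (Fin t → R))) ∪
    ((fun p : S × Fin t => p.1 • (Pi.single p.2 1 : Fin t → S) - ι (l p.1 p.2)) ''
      ((gs : Set S) ×ˢ (Set.univ : Set (Fin t))))
  have hrelfin : rel.Finite :=
    (Kg.finite_toSet.image _).union ((gs.finite_toSet.prod Set.finite_univ).image _)
  let L : Submodule S (Fin t → S) := Submodule.span S rel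
  have hLfg : L.FG := Submodule.fg_span hrelfin
  have hπS : Function.Surjective πS := by
    intro m
    obtain ⟨x, rfl⟩ := hπ m
    exact ⟨ι x, hι x⟩
  refine Module.finitePresentation_of_surjective πS hπS ?_
  suffices h : LinearMap.ker πS = L by rw [h]; exact hLfg
  have hLker : L ≤ LinearMap.ker πS := by
    rw [Submodule.span_le]
    rintro x (⟨y, hy, rfl⟩ | ⟨⟨s, i⟩, -, rfl⟩)
    · have : y ∈ LinearMap.ker π := by rw [← hKg]; exact Submodule.subset_span hy
      rw [SetLike.mem_coe, LinearMap.mem_ker, hι]
      exact this
    · rw [SetLike.mem_coe, LinearMap.mem_ker, map_sub, map_smul, hι, hl]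
      simp only [πS, Fintype.linearCombination_apply_single, one_smul, sub_self]
  apply le_antisymm
  · -- the hard inclusion
    have hιK : ∀ y ∈ LinearMap.ker π, ι y ∈ L := by
      intro y hy
      rw [← hKg] at hy
      induction hy using Submodule.span_induction with
      | mem y hy => exact Submodule.subset_span (Or.inl ⟨y, hy, rfl⟩)
      | zero => rw [map_zero]; exact L.zero_mem
      | add a b _ _ ha hb => rw [map_add]; exact L.add_mem ha hb
      | smul r a _ ha =>
        rw [map_smul]
        exact L.smul_of_tower_mem r ha
    let W : Set (Fin t → S) := {x | ∃ y : Fin t → R, x - ι y ∈ L}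
    have hWadd : ∀ x ∈ W, ∀ x' ∈ W, x + x' ∈ W := by
      rintro x ⟨y, hy⟩ x' ⟨y', hy'⟩
      refine ⟨y + y', ?_⟩
      rw [map_add, add_sub_add_comm]
      exact L.add_mem hy hy'
    have hW0 : (0 : Fin t → S) ∈ W := ⟨0, by rw [map_zero, sub_zero]; exact L.zero_mem⟩
    have hιdecomp : ∀ y : Fin t → R, ι y = ∑ i, y i • (Pi.single i 1 : Fin t → S) := by
      intro y
      ext j
      simp [ι, Finset.sum_apply, Pi.single_apply, Algebra.algebraMap_eq_smul_one]
    have hgen : ∀ s ∈ gs, ∀ x ∈ W, s • x ∈ W := by
      rintro s hs x ⟨y, hy⟩
      refine ⟨∑ i, y i • l s i, ?_⟩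
      have h1 : s • x - ι (∑ i, y i • l s i) =
          s • (x - ι y) + ∑ i, y i •
            (s • (Pi.single i 1 : Fin t → S) - ι (l s i)) := by
        rw [map_sum, smul_sub, hιdecomp y, Finset.smul_sum]
        simp_rw [map_smul, smul_sub, smul_comm s]
        rw [Finset.sum_sub_distrib]
        abel
      rw [h1]
      refine L.add_mem (L.smul_mem _ hy) (L.sum_mem fun i _ => L.smul_of_tower_mem _ ?_)
      exact Submodule.subset_span (Or.inr ⟨(s, i), ⟨hs, Set.mem_univ _⟩, rfl⟩)
    have hall : ∀ σ : S, ∀ x ∈ W, σ • x ∈ W := by
      intro σ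
      have hσ : σ ∈ Algebra.adjoin R (gs : Set S) := by rw [hgs]; trivial
      induction hσ using Algebra.adjoin_induction with
      | mem σ hσ => exact hgen σ hσ
      | algebraMap r =>
        rintro x ⟨y, hy⟩
        refine ⟨r • y, ?_⟩
        rw [algebraMap_smul, map_smul, ← smul_sub]
        exact L.smul_of_tower_mem r hy
      | add σ τ _ _ hσ hτ =>
        intro x hx
        rw [add_smul]
        exact hWadd _ (hσ x hx) _ (hτ x hx)
      | mul σ τ _ _ hσ hτ =>
        intro x hx
        rw [mul_smul]
        exact hσ _ (hτ x hx)
    have hWtop : ∀ x : Fin t → S, x ∈ W := by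
      intro x
      have hx : x = ∑ i, x i • (Pi.single i 1 : Fin t → S) := by
        ext j; simp [Finset.sum_apply, Pi.single_apply]
      rw [hx]
      have : ∀ (T : Finset (Fin t)), (∑ i ∈ T, x i • (Pi.single i 1 : Fin t → S)) ∈ W := by
        intro T
        induction T using Finset.induction_on with
        | empty => simpa using hW0
        | insert i T hi ih =>
          rw [Finset.sum_insert hi]
          refine hWadd _ (hall _ _ ⟨Pi.single i 1, ?_⟩) _ ih
          have : ι (Pi.single i 1) = (Pi.single i 1 : Fin t → S) := by
            ext j; simp [ι, Pi.single_apply]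
          rw [this, sub_self]
          exact L.zero_mem
      exact this _
    intro x hx
    obtain ⟨y, hy⟩ := hWtop x
    have h2 : πS (x - ι y) = 0 := hLker hy
    rw [map_sub, LinearMap.mem_ker.mp hx, zero_sub, neg_eq_zero, hι] at h2
    have h3 := hιK y h2
    have : x = (x - ι y) + ι y := by abel
    rw [this]
    exact L.add_mem hy h3
  · exact hLker

end fpft

section transfer

variable {B'' B : Type*} [CommRing B''] [CommRing B]
  {T M : Type*} [AddCommGroup T] [Module B'' T] [AddCommGroup M] [Module B M]

/-- Transfer of finite presentation (after inverting an element) along a finite type ring map. -/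
theorem FPat.of_finiteType_ringHom (ρ : B'' →+* B) (hft : ρ.FiniteType)
    (ι : T →+ M) (hι : Injective ι) (hsl : ∀ (b : B'') (t : T), ι (b • t) = ρ b • ι t)
    (b'' : B'') (htors : ∀ m : M, ∃ (k : ℕ) (t : T), ρ b'' ^ k • m = ι t)
    (hT : FPat B'' T b'') : FPat B M (ρ b'') := by
  letI : Algebra B'' B := ρ.toAlgebra
  letI : Module B'' M := Module.compHom M ρ
  haveI : IsScalarTower B'' B M := IsScalarTower.of_algebraMap_smul (fun r m => rfl)
  haveI : Algebra.FiniteType B'' B := hft
  let ιl : T →ₗ[B''] M :=
    { toFun := ι
      map_add' := ι.map_add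
      map_smul' := fun b t => hsl b t }
  have h1 : FPat B'' M b'' := by
    refine FPat.of_injective ιl hι (fun m => ?_) hT
    obtain ⟨k, t, h⟩ := htors m
    refine ⟨k, t, ?_⟩
    show ρ (b'' ^ k) • m = ι t
    rw [map_pow]; exact h
  -- notation
  let C'' := Localization.Away b''
  let C := Localization.Away (ρ b'')
  let N := LocalizedModule (Submonoid.powers (ρ b'')) M
  have hunit : IsUnit (((algebraMap B C).comp ρ) b'') :=
    IsLocalization.Away.algebraMap_isUnit (ρ b'')
  letI : Algebra C'' C := (IsLocalization.Away.lift b'' (g := (algebraMap B C).comp ρ) hunit).toAlgebra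
  haveI : IsScalarTower B'' C'' C := IsScalarTower.of_algebraMap_eq (fun x => by
    rw [RingHom.algebraMap_toAlgebra, IsLocalization.Away.lift_eq]
    rfl)
  letI : Module C'' N := Module.compHom N (algebraMap C'' C)
  haveI : IsScalarTower C'' C N := IsScalarTower.of_algebraMap_smul (fun r m => rfl)
  haveI : IsScalarTower B'' C'' N := IsScalarTower.of_algebraMap_smul (fun r m => by
    show algebraMap C'' C (algebraMap B'' C'' r) • m = r • m
    rw [← IsScalarTower.algebraMap_apply B'' C'' C, algebraMap_smul])
  let φ : M →ₗ[B] N := LocalizedModule.mkLinearMap (Submonoid.powers (ρ b'')) M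
  haveI : IsLocalizedModule (Submonoid.powers (algebraMap B'' B b'')) φ :=
    inferInstanceAs (IsLocalizedModule (Submonoid.powers (ρ b'')) φ)
  haveI : IsLocalizedModule (Submonoid.powers b'') (φ.restrictScalars B'') :=
    IsLocalizedModule.restrictScalars_powers b'' φ
  let e : LocalizedModule (Submonoid.powers b'') M ≃ₗ[B''] N :=
    IsLocalizedModule.iso (Submonoid.powers b'') (φ.restrictScalars B'')
  let e' : LocalizedModule (Submonoid.powers b'') M ≃ₗ[C''] N :=
    e.extendScalarsOfIsLocalization (Submonoid.powers b'') C''
  haveI : Module.FinitePresentation C'' (LocalizedModule (Submonoid.powers b'') M) := h1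
  haveI : Module.FinitePresentation C'' N := Module.FinitePresentation.of_equiv e'
  haveI : Algebra.FiniteType B'' C := inferInstance
  haveI : Algebra.FiniteType C'' C := Algebra.FiniteType.of_restrictScalars_finiteType B'' C'' C
  exact finitePresentation_of_finiteType C'' C N

end transfer

end Groth.Agent.Helper3.RedGF2
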