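import Mathlib
import Groth.Agent.Helper3.RedGF1
import Groth.Agent.Helper3.RedGF2
import Groth.Agent.Helper8.GenFree4

set_option linter.style.haveILetI false
set_option linter.unusedSectionVars false
set_option linter.unusedVariables false
set_option linter.style.haveILetI false
set_option linter.unusedSectionVars false
set_option linter.unusedVariables false

open MvPolynomial Function

namespace Groth.Agent.Helper3.RedGF3

open Groth.Agent.Helper3.RedGF2

universe u

variable (R : Type u) [CommRing R]

/-- the conclusion for one module over the polynomial ring in `d` variables -/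
def Concl (d : ℕ) (M : Type u) [AddCommGroup M] [Module (MvPolynomial (Fin d) R) M] [Module R M] :
    Prop :=
  ∀ h : R, h ≠ 0 → ∃ f : R, h * f ≠ 0 ∧ ∀ e : R,
    FreeAt R M (h * f * e) ∧ FPat (MvPolynomial (Fin d) R) M (C (h * f * e))

/-- the statement for all finite modules over the polynomial ring in `d` variables -/
def Claim (d : ℕ) : Prop :=
  ∀ (M : Type u) [AddCommGroup M] [Module (MvPolynomial (Fin d) R) M] [Module R M]
    [IsScalarTower R (MvPolynomial (Fin d) R) M] [Module.Finite (MvPolynomial (Fin d) R) M],
    Concl R d M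

variable {R}

theorem concl_of_exact {d : ℕ} {M' M M'' : Type u}
    [AddCommGroup M'] [Module (MvPolynomial (Fin d) R) M'] [Module R M']
    [IsScalarTower R (MvPolynomial (Fin d) R) M']
    [AddCommGroup M] [Module (MvPolynomial (Fin d) R) M] [Module R M]
    [IsScalarTower R (MvPolynomial (Fin d) R) M]
    [AddCommGroup M''] [Module (MvPolynomial (Fin d) R) M''] [Module R M'']
    [IsScalarTower R (MvPolynomial (Fin d) R) M'']
    (i : M' →ₗ[MvPolynomial (Fin d) R] M) (q : M →ₗ[MvPolynomial (Fin d) R] M'')
    (hi : Injective i) (hq : Surjective q) (hex : Exact i q)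
    (h' : Concl R d M') (h'' : Concl R d M'') : Concl R d M := by
  intro h hh
  obtain ⟨f₁, hf₁, H₁⟩ := h' h hh
  obtain ⟨f₂, hf₂, H₂⟩ := h'' (h * f₁) hf₁
  refine ⟨f₁ * f₂, by rwa [← mul_assoc], fun e => ?_⟩
  have e1 : h * (f₁ * f₂) * e = h * f₁ * (f₂ * e) := by ring
  have e2 : h * (f₁ * f₂) * e = h * f₁ * f₂ * e := by ring
  obtain ⟨a1, a2⟩ := H₁ (f₂ * e)
  obtain ⟨b1, b2⟩ := H₂ e
  rw [← e1] at a1 a2
  rw [← e2] at b1 b2
  exact ⟨FreeAt.of_exact (i.restrictScalars R) (q.restrictScalars R) hi hq hex a1 b1,
    FPat.of_exact i q hi hq hex a2 b2⟩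

theorem concl_of_subsingleton {d : ℕ} {M : Type u}
    [AddCommGroup M] [Module (MvPolynomial (Fin d) R) M] [Module R M] (hM : ∀ x : M, x = 0) :
    Concl R d M := by
  intro h hh
  refine ⟨1, by rwa [mul_one], fun e => ⟨FreeAt.of_torsion fun m => ⟨0, ?_⟩,
    FPat.of_torsion fun m => ⟨0, ?_⟩⟩⟩
  · rw [hM m, smul_zero]
  · rw [hM m, smul_zero]

theorem of_cyclic {d : ℕ}
    (hcyc : ∀ (M : Type u) [AddCommGroup M] [Module (MvPolynomial (Fin d) R) M] [Module R M]
      [IsScalarTower R (MvPolynomial (Fin d) R) M] (m : M),
      Submodule.span (MvPolynomial (Fin d) R) {m} = ⊤ → Concl R d M) :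
    ∀ (n : ℕ) (M : Type u) [AddCommGroup M] [Module (MvPolynomial (Fin d) R) M] [Module R M]
      [IsScalarTower R (MvPolynomial (Fin d) R) M] (s : Fin n → M),
      Submodule.span (MvPolynomial (Fin d) R) (Set.range s) = ⊤ → Concl R d M := by
  intro n
  induction n with
  | zero =>
    intro M _ _ _ _ s hs
    apply concl_of_subsingleton
    intro x
    have : x ∈ Submodule.span (MvPolynomial (Fin d) R) (Set.range s) := by
      rw [hs]; exact Submodule.mem_top
    have hr : Set.range s = ∅ := Set.range_eq_empty s
    rw [hr, Submodule.span_empty] at this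
    exact this
  | succ n ih =>
    intro M _ _ _ _ s hs
    let N : Submodule (MvPolynomial (Fin d) R) M := Submodule.span (MvPolynomial (Fin d) R) {s 0}
    have hN : Concl R d N := by
      refine hcyc N ⟨s 0, Submodule.mem_span_singleton_self _⟩ ?_
      rw [eq_top_iff]
      rintro ⟨y, hy⟩ -
      obtain ⟨b, rfl⟩ := Submodule.mem_span_singleton.mp hy
      exact Submodule.mem_span_singleton.mpr ⟨b, rfl⟩
    have hQ : Concl R d (M ⧸ N) := by
      refine ih (M ⧸ N) (fun i => N.mkQ (s i.succ)) ?_
      rw [eq_top_iff]
      rintro x -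
      obtain ⟨y, rfl⟩ := N.mkQ_surjective x
      have hy : y ∈ Submodule.span (MvPolynomial (Fin d) R) (Set.range s) := by
        rw [hs]; exact Submodule.mem_top
      induction hy using Submodule.span_induction with
      | mem y hy =>
        obtain ⟨i, rfl⟩ := hy
        refine Fin.cases ?_ (fun j => ?_) i
        · have : N.mkQ (s 0) = 0 := by
            rw [Submodule.mkQ_apply, Submodule.Quotient.mk_eq_zero]
            exact Submodule.mem_span_singleton_self _
          rw [this]; exact Submodule.zero_mem _
        · exact Submodule.subset_span ⟨j, rfl⟩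
      | zero => rw [map_zero]; exact Submodule.zero_mem _
      | add a b _ _ ha hb => rw [map_add]; exact Submodule.add_mem _ ha hb
      | smul r a _ ha => rw [map_smul]; exact Submodule.smul_mem _ _ ha
    exact concl_of_exact N.subtype N.mkQ N.injective_subtype N.mkQ_surjective
      (LinearMap.exact_subtype_mkQ N) hN hQ

theorem sq_trick [IsReduced R] {h c₀ : R} (hc : h * c₀ ≠ 0) : h * (h * c₀) ≠ 0 := by
  intro h0
  apply hc
  apply IsReduced.eq_zero
  refine ⟨2, ?_⟩
  have : (h * c₀) ^ 2 = c₀ * (h * (h * c₀)) := by ring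
  rw [this, h0, mul_zero]

theorem cyclic_case [IsReduced R] (d : ℕ) (IH : ∀ d' < d, Claim R d')
    (M : Type u) [AddCommGroup M] [Module (MvPolynomial (Fin d) R) M] [Module R M]
    [IsScalarTower R (MvPolynomial (Fin d) R) M] (m : M)
    (hm : Submodule.span (MvPolynomial (Fin d) R) {m} = ⊤) : Concl R d M := by
  classical
  intro h hh
  let ψ : MvPolynomial (Fin d) R →ₗ[MvPolynomial (Fin d) R] M :=
    LinearMap.toSpanSingleton (MvPolynomial (Fin d) R) M m
  have hψ : ∀ p, ψ p = p • m := fun p => rfl
  have hψsurj : Surjective ψ := by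
    intro t
    have ht : t ∈ Submodule.span (MvPolynomial (Fin d) R) {m} := by rw [hm]; exact Submodule.mem_top
    obtain ⟨b, rfl⟩ := Submodule.mem_span_singleton.mp ht
    exact ⟨b, rfl⟩
  by_cases hA : ∀ p : MvPolynomial (Fin d) R, ψ p = 0 → C h * p = 0
  · -- Case A: the localized module is the localized polynomial ring
    refine ⟨1, by rwa [mul_one], fun e => ⟨?_, ?_⟩⟩
    · refine FreeAt.of_surjective (ψ.restrictScalars R) hψsurj (fun x hx => ⟨1, ?_⟩)
      rw [pow_one, MvPolynomial.smul_eq_C_mul, mul_one, mul_comm h e, map_mul, mul_assoc,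
        hA x hx, mul_zero]
    · refine FPat.of_surjective ψ hψsurj (fun x hx => ⟨1, ?_⟩)
      rw [pow_one, smul_eq_mul, mul_one, mul_comm h e, map_mul, mul_assoc, hA x hx, mul_zero]
  · -- Case B
    push Not at hA
    obtain ⟨p, hp, hp0⟩ := hA
    set g' := C h * p with hg'
    have hg'm : g' • m = 0 := by
      rw [hg', mul_smul, ← hψ p, hp, smul_zero]
    have hcoeff : ∀ v, coeff v g' ≠ 0 → h * coeff v g' ≠ 0 := by
      intro v hv
      rw [hg', coeff_C_mul] at hv ⊢
      exact sq_trick hv
    have hallm : ∀ x : M, ∃ b : MvPolynomial (Fin d) R, x = b • m := by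
      intro x
      obtain ⟨b, rfl⟩ := hψsurj x
      exact ⟨b, rfl⟩
    cases d with
    | zero =>
      have hgC : g' = C (coeff 0 g') := MvPolynomial.eq_C_of_isEmpty g'
      set c := coeff 0 g' with hc
      have hc0 : c ≠ 0 := by
        intro h0; apply hp0; rw [hgC, h0, map_zero]
      have hhc : h * c ≠ 0 := hcoeff 0 hc0
      have hcm : c • m = 0 := by
        rw [hgC, ← MvPolynomial.algebraMap_eq, algebraMap_smul] at hg'm
        exact hg'm
      have hkill : ∀ (e : R) (x : M), (h * c * e) • x = 0 := by
        intro e x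
        obtain ⟨b, rfl⟩ := hallm x
        rw [smul_comm, mul_comm h c, mul_assoc, mul_comm c, mul_smul, hcm, smul_zero, smul_zero]
      refine ⟨c, hhc, fun e => ⟨FreeAt.of_torsion fun x => ⟨1, ?_⟩,
        FPat.of_torsion fun x => ⟨1, ?_⟩⟩⟩
      · rw [pow_one]; exact hkill e x
      · rw [pow_one, ← MvPolynomial.algebraMap_eq, algebraMap_smul]; exact hkill e x
    | succ n =>
      obtain ⟨σ, v, hv, hlead⟩ := RedGF1.exists_algEquiv_leadingCoeff g' hp0
      set c := coeff v g' with hc
      have hhc : h * c ≠ 0 := hcoeff v hv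
      let a : Fin (n + 1) → MvPolynomial (Fin (n + 1)) R := fun i => σ.symm (X i)
      have haev : (aeval a : MvPolynomial (Fin (n + 1)) R →ₐ[R] MvPolynomial (Fin (n + 1)) R) =
          σ.symm.toAlgHom := by
        apply MvPolynomial.algHom_ext
        intro i
        simp [a]
      have ha : Algebra.adjoin R (Set.range a) = ⊤ := by
        rw [Algebra.adjoin_range_eq_range_aeval, haev]
        exact (AlgHom.range_eq_top _).mpr σ.symm.surjective
      have hgσ : aeval a (σ g') • m = 0 := by
        rw [haev]
        have : σ.symm.toAlgHom (σ g') = g' := σ.symm_apply_apply g'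
        rw [this]; exact hg'm
      obtain ⟨T', hT'fg, htors⟩ :=
        Groth.Agent.Helper8.GenFree.torsion_step a ha m hm (σ g') c hlead hgσ
      let A'' := Algebra.adjoin R (Set.range fun i : Fin n => a i.succ)
      let ev'' : MvPolynomial (Fin n) R →ₐ[R] A'' :=
        aeval (fun i => (⟨a i.succ, Algebra.subset_adjoin ⟨i, rfl⟩⟩ : A''))
      have hev'' : Surjective ev'' :=
        Groth.Agent.Helper8.GenFree.aeval_surjective_of_adjoin_eq_top _
          (Groth.Agent.Helper8.GenFree.adjoin_range_subtype_eq_top (fun i : Fin n => a i.succ))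
      letI modT : Module (MvPolynomial (Fin n) R) T' := Module.compHom T' ev''.toRingHom
      have hsmulT : ∀ (q : MvPolynomial (Fin n) R) (t : T'), q • t = ev'' q • t := fun q t => rfl
      haveI : IsScalarTower R (MvPolynomial (Fin n) R) T' := ⟨fun r q t => by
        rw [hsmulT, hsmulT, map_smul, smul_assoc]⟩
      haveI : Module.Finite (MvPolynomial (Fin n) R) T' := by
        haveI : Module.Finite A'' T' := Module.Finite.iff_fg.mpr hT'fg
        obtain ⟨F, hF⟩ := (Module.Finite.fg_top : (⊤ : Submodule A'' T').FG)
        refine ⟨⟨F, ?_⟩⟩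
        rw [eq_top_iff]
        rintro x -
        have hx : x ∈ Submodule.span A'' (F : Set T') := by rw [hF]; trivial
        induction hx using Submodule.span_induction with
        | mem y hy => exact Submodule.subset_span hy
        | zero => exact Submodule.zero_mem _
        | add y z _ _ hy hz => exact Submodule.add_mem _ hy hz
        | smul r y _ hy =>
          obtain ⟨q, rfl⟩ := hev'' r
          rw [← hsmulT]
          exact Submodule.smul_mem _ _ hy
      obtain ⟨f, hf, Hf⟩ := IH n (Nat.lt_succ_self n) T' (h * c) hhc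
      refine ⟨c * f, by rwa [← mul_assoc], fun e => ?_⟩
      have eg : h * (c * f) * e = h * c * f * e := by ring
      rw [eg]
      obtain ⟨hfree, hfp⟩ := Hf e
      set g := h * c * f * e with hg
      -- torsion of M / T'
      have hRsmul : ∀ (r : R) (y : M), y ∈ T' → r • y ∈ T' := by
        intro r y hy
        have : r • y = (algebraMap R A'' r) • y := by rw [algebraMap_smul]
        rw [this]; exact T'.smul_mem _ hy
      have htors' : ∀ x : M, ∃ (k : ℕ) (t : T'), g ^ k • x = (t : M) := by
        intro x
        obtain ⟨k, hk⟩ := htors x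
        refine ⟨k, ⟨g ^ k • x, ?_⟩, rfl⟩
        have : g ^ k • x = (h * f * e) ^ k • (c ^ k • x) := by
          rw [smul_smul, ← mul_pow]; congr 2; rw [hg]; ring
        rw [this]
        exact hRsmul _ _ hk
      refine ⟨FreeAt.of_injective (T'.subtype.restrictScalars R) T'.injective_subtype
        (fun x => ?_) hfree, ?_⟩
      · obtain ⟨k, t, hk⟩ := htors' x
        exact ⟨k, t, hk⟩
      · -- finite presentation
        let ρ : MvPolynomial (Fin n) R →+* MvPolynomial (Fin (n + 1)) R :=
          ((A''.val).comp ev'').toRingHom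
        have hρC : ∀ r : R, ρ (C r) = C r := by
          intro r
          show (A''.val) (ev'' (C r)) = C r
          rw [← MvPolynomial.algebraMap_eq, AlgHom.commutes, AlgHom.commutes,
            MvPolynomial.algebraMap_eq]
        have hft : ρ.FiniteType := by
          apply RingHom.FiniteType.of_comp_finiteType (f := (C : R →+* MvPolynomial (Fin n) R))
          have : ρ.comp C = algebraMap R (MvPolynomial (Fin (n + 1)) R) := by
            apply RingHom.ext
            intro r
            rw [MvPolynomial.algebraMap_eq]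
            exact hρC r
          rw [this]
          exact RingHom.finiteType_algebraMap.mpr inferInstance
        rw [← hρC g]
        refine FPat.of_finiteType_ringHom ρ hft (T'.subtype : T' →ₗ[A''] M).toAddMonoidHom
          T'.injective_subtype (fun b t => rfl) (C g) (fun x => ?_) hfp
        obtain ⟨k, t, hk⟩ := htors' x
        refine ⟨k, t, ?_⟩
        rw [hρC, ← map_pow, ← MvPolynomial.algebraMap_eq, algebraMap_smul]
        exact hk

theorem claim [IsReduced R] (d : ℕ) : Claim R d := by
  induction d using Nat.strong_induction_on with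
  | _ d IH =>
    intro M _ _ _ _ _
    obtain ⟨n, s, hs⟩ := Module.Finite.exists_fin (R := MvPolynomial (Fin d) R) (M := M)
    exact of_cyclic (fun M' _ _ _ _ m hm => cyclic_case d IH M' m hm) n M s hs

end Groth.Agent.Helper3.RedGF3
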