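import Mathlib
import Groth.Agent.Helper3.RedGF3

set_option linter.style.haveILetI false
set_option linter.unusedSectionVars false
set_option linter.unusedVariables false
set_option linter.style.haveILetI false
set_option linter.unusedSectionVars false
set_option linter.unusedVariables false

open MvPolynomial Function

namespace Groth.Agent.Helper3.RedGF4

open Groth.Agent.Helper3.RedGF2 Groth.Agent.Helper3.RedGF3

universe u

section extraction

variable {A : Type*} [CommRing A] {a : A} {N M : Type*} [AddCommGroup N] [Module A N]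
  [Module.Finite A N] [AddCommGroup M] [Module A M]

/-- If `M[1/a]` is finitely presented, the kernel of a surjection from a finite module is finitely
generated up to `a`-power torsion. -/
theorem FPat.exists_fg_le_ker (π : N →ₗ[A] M) (hπ : Surjective π) (hM : FPat A M a) :
    ∃ K' : Submodule A N, K'.FG ∧ K' ≤ LinearMap.ker π ∧
      ∀ x ∈ LinearMap.ker π, ∃ k : ℕ, a ^ k • x ∈ K' := by
  classical
  let S := Submonoid.powers a
  let Q := Localization S
  let mkN := LocalizedModule.mkLinearMap S N
  let πloc : LocalizedModule S N →ₗ[Q] LocalizedModule S M := LocalizedModule.map S π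
  have hsurj : Surjective πloc := LocalizedModule.map_surjective S π hπ
  haveI : Module.FinitePresentation Q (LocalizedModule S M) := hM
  have hfg : (LinearMap.ker πloc).FG := Module.FinitePresentation.fg_ker πloc hsurj
  have hker : (LinearMap.ker π).localized' Q S mkN = LinearMap.ker πloc :=
    LinearMap.localized'_ker_eq_ker_localizedMap Q S mkN (LocalizedModule.mkLinearMap S M) π
  rw [← hker, Submodule.localized'_eq_span] at hfg
  obtain ⟨F', hF'sub, hF'span⟩ := (Submodule.fg_span_iff_fg_span_finset_subset _).mp hfg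
  obtain ⟨F, hFsub, hFimg⟩ := Finset.subset_set_image_iff.mp hF'sub
  refine ⟨Submodule.span A (F : Set N), Submodule.fg_span F.finite_toSet,
    Submodule.span_le.mpr hFsub, fun x hx => ?_⟩
  have h1 : mkN x ∈ (Submodule.span A (F : Set N)).localized' Q S mkN := by
    rw [Submodule.localized'_span, ← Finset.coe_image, hFimg, ← hF'span]
    exact Submodule.subset_span ⟨x, hx, rfl⟩
  obtain ⟨m, hm, s, hms⟩ := (Submodule.mem_localized' Q S mkN _ _).mp h1
  rw [IsLocalizedModule.mk'_eq_iff] at hms
  have hms' : mkN m = mkN ((s : A) • x) := by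
    rw [hms, map_smul]; rfl
  obtain ⟨c, hc⟩ := (IsLocalizedModule.eq_iff_exists S mkN).mp hms'
  obtain ⟨k, hk⟩ : ∃ k, a ^ k = ((c * s : S) : A) := (c * s).2
  refine ⟨k, ?_⟩
  rw [hk]
  have : ((c * s : S) : A) • x = c • m := by
    rw [hc]; simp [Submonoid.smul_def, mul_smul]
  rw [this]
  exact Submodule.smul_mem _ _ hm

end extraction

section awayfp

variable {R P S : Type u} [CommRing R] [CommRing P] [CommRing S] [Algebra R P] [Algebra R S]
  [Algebra.FinitePresentation R P]

/-- If the kernel of a surjection from a finitely presented algebra is finitely generated up to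
`g`-power torsion, the localization at `g` is finitely presented. -/
theorem awayMap_finitePresentation (ev : P →ₐ[R] S) (hev : Surjective ev) (g : R)
    (J : Ideal P) (hJ : J.FG) (hJle : J ≤ RingHom.ker ev.toRingHom)
    (htors : ∀ x, ev x = 0 → ∃ k : ℕ, (algebraMap R P g) ^ k * x ∈ J) :
    (Localization.awayMap (algebraMap R S) g).FinitePresentation := by
  let S₁ := P ⧸ J
  haveI : Algebra.FinitePresentation R S₁ := Algebra.FinitePresentation.quotient hJ
  let φ : S₁ →ₐ[R] S := Ideal.Quotient.liftₐ J ev (fun x hx => hJle hx)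
  have hφ : Surjective φ := by
    intro s
    obtain ⟨x, rfl⟩ := hev s
    exact ⟨Ideal.Quotient.mk J x, rfl⟩
  have hφg : φ.toRingHom (algebraMap R S₁ g) = algebraMap R S g := φ.commutes g
  haveI inst : IsLocalization.Away (φ.toRingHom (algebraMap R S₁ g))
      (Localization.Away (algebraMap R S g)) := by
    rw [hφg]; infer_instance
  let θ : Localization.Away (algebraMap R S₁ g) →+* Localization.Away (algebraMap R S g) :=
    IsLocalization.Away.map (Localization.Away (algebraMap R S₁ g))
      (Localization.Away (algebraMap R S g)) φ.toRingHom (algebraMap R S₁ g)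
  have hθ : Bijective θ := by
    constructor
    · rw [IsLocalization.Away.map_injective_iff]
      intro y hy
      obtain ⟨x, rfl⟩ := Ideal.Quotient.mk_surjective y
      have hx : ev x = 0 := hy
      obtain ⟨k, hk⟩ := htors x hx
      refine ⟨k, ?_⟩
      have : (algebraMap R S₁ g) ^ k * Ideal.Quotient.mk J x =
          Ideal.Quotient.mk J ((algebraMap R P g) ^ k * x) := by
        rw [map_mul, map_pow]; rfl
      rw [this]
      exact Ideal.Quotient.eq_zero_iff_mem.mpr hk
    · rw [IsLocalization.Away.map_surjective_iff]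
      intro s
      obtain ⟨y, rfl⟩ := hφ s
      exact ⟨y, 0, by simp⟩
  have h1 : (Localization.awayMap (algebraMap R S₁) g).FinitePresentation :=
    RingHom.finitePresentation_localizationPreserves.away (algebraMap R S₁) g _ _
      (RingHom.finitePresentation_algebraMap.mpr inferInstance)
  have h2 : θ.FinitePresentation := RingHom.FinitePresentation.of_bijective hθ
  have hcomp : Localization.awayMap (algebraMap R S) g =
      θ.comp (Localization.awayMap (algebraMap R S₁) g) := by
    apply IsLocalization.ringHom_ext (Submonoid.powers g)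
    ext r
    simp only [RingHom.comp_apply, Localization.awayMap, IsLocalization.Away.map,
      IsLocalization.map_eq, θ]
    congr 1
    exact (φ.commutes r).symm
  rw [hcomp]
  exact h2.comp h1

end awayfp

section key

variable (R S : Type u) [CommRing R] [IsReduced R] [CommRing S]
    [Algebra R S] [Algebra.FiniteType R S] (M : Type u) [AddCommGroup M] [Module S M] [Module R M]
    [IsScalarTower R S M] [Module.Finite S M]

/-- the four conditions at `f` -/
def Good (f : R) : Prop :=
  Module.Free (Localization.Away f) (LocalizedModule (Submonoid.powers f) M) ∧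
    Module.Free (Localization.Away f) (LocalizedModule (Submonoid.powers f) S) ∧
    (Localization.awayMap (algebraMap R S) f).FinitePresentation ∧
    Module.FinitePresentation (Localization.Away (algebraMap R S f))
      (LocalizedModule (Submonoid.powers (algebraMap R S f)) M)

theorem finite_compHom {A B : Type*} [CommRing A] [CommRing B] (ρ : A →+* B) (hρ : Surjective ρ)
    (N : Type*) [AddCommGroup N] [Module B N] [Module.Finite B N] :
    letI := Module.compHom N ρ
    Module.Finite A N := by
  letI := Module.compHom N ρ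
  obtain ⟨F, hF⟩ := (Module.Finite.fg_top : (⊤ : Submodule B N).FG)
  refine ⟨⟨F, ?_⟩⟩
  rw [eq_top_iff]
  rintro x -
  have hx : x ∈ Submodule.span B (F : Set N) := by rw [hF]; trivial
  induction hx using Submodule.span_induction with
  | mem y hy => exact Submodule.subset_span hy
  | zero => exact Submodule.zero_mem _
  | add y z _ _ hy hz => exact Submodule.add_mem _ hy hz
  | smul r y _ hy =>
    obtain ⟨q, rfl⟩ := hρ r
    exact Submodule.smul_mem _ q hy

theorem key (h : R) (hh : h ≠ 0) : ∃ f : R, h * f ≠ 0 ∧ Good R S M (h * f) := by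
  obtain ⟨d, ev, hev⟩ := Algebra.FiniteType.iff_quotient_mvPolynomial''.mp
    (inferInstance : Algebra.FiniteType R S)
  letI modM : Module (MvPolynomial (Fin d) R) M := Module.compHom M ev.toRingHom
  letI modS : Module (MvPolynomial (Fin d) R) S := Module.compHom S ev.toRingHom
  have hsmM : ∀ (q : MvPolynomial (Fin d) R) (x : M), q • x = ev q • x := fun q x => rfl
  have hsmS : ∀ (q : MvPolynomial (Fin d) R) (x : S), q • x = ev q * x := fun q x => rfl
  haveI : IsScalarTower R (MvPolynomial (Fin d) R) M := ⟨fun r q x => by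
    rw [hsmM, hsmM, map_smul, smul_assoc]⟩
  haveI : IsScalarTower R (MvPolynomial (Fin d) R) S := ⟨fun r q x => by
    rw [hsmS, hsmS, map_smul, smul_mul_assoc]⟩
  haveI : Module.Finite (MvPolynomial (Fin d) R) M := finite_compHom ev.toRingHom hev M
  haveI : Module.Finite (MvPolynomial (Fin d) R) S := finite_compHom ev.toRingHom hev S
  obtain ⟨f₁, hf₁, H₁⟩ := claim (R := R) d M h hh
  obtain ⟨f₂, hf₂, H₂⟩ := claim (R := R) d S (h * f₁) hf₁
  refine ⟨f₁ * f₂, by rwa [← mul_assoc], ?_⟩
  have e1 : h * (f₁ * f₂) = h * f₁ * f₂ := by ring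
  have e2 : h * (f₁ * f₂) = h * f₁ * f₂ * 1 := by ring
  obtain ⟨a1, a2⟩ := H₁ f₂
  obtain ⟨b1, b2⟩ := H₂ 1
  rw [← e1] at a1 a2
  rw [← e2] at b1 b2
  set g := h * (f₁ * f₂) with hg
  have hevC : ev.toRingHom (C g) = algebraMap R S g := by
    show ev (C g) = _
    rw [← MvPolynomial.algebraMap_eq, AlgHom.commutes]
  refine ⟨a1, b1, ?_, ?_⟩
  · -- finite presentation of the algebra
    let π : MvPolynomial (Fin d) R →ₗ[MvPolynomial (Fin d) R] S :=
      LinearMap.toSpanSingleton (MvPolynomial (Fin d) R) S 1
    have hπ : ∀ q, π q = ev q := fun q => by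
      show q • (1 : S) = ev q
      rw [hsmS, mul_one]
    have hπsurj : Surjective π := fun s => by
      obtain ⟨q, rfl⟩ := hev s
      exact ⟨q, hπ q⟩
    obtain ⟨K', hK'fg, hK'le, hK'tors⟩ := FPat.exists_fg_le_ker π hπsurj b2
    refine awayMap_finitePresentation ev hev g K' hK'fg (fun x hx => ?_) (fun x hx => ?_)
    · have := hK'le hx
      rw [LinearMap.mem_ker, hπ] at this
      exact this
    · obtain ⟨k, hk⟩ := hK'tors x (by rw [LinearMap.mem_ker, hπ]; exact hx)
      refine ⟨k, ?_⟩
      rw [MvPolynomial.algebraMap_eq, ← smul_eq_mul]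
      exact hk
  · -- finite presentation of the module
    show FPat S M (algebraMap R S g)
    rw [← hevC]
    refine FPat.of_finiteType_ringHom ev.toRingHom
      (RingHom.FiniteType.of_surjective ev.toRingHom hev) (AddMonoidHom.id M)
      (fun _ _ h => h) (fun b t => rfl) (C g) (fun x => ⟨0, x, by simp⟩) a2

theorem main :
    ∃ U : Set (PrimeSpectrum R), IsOpen U ∧ Dense U ∧ ∀ u ∈ U, ∃ f : R, f ∉ u.asIdeal ∧
      (PrimeSpectrum.basicOpen f : Set (PrimeSpectrum R)) ⊆ U ∧
      Module.Free (Localization.Away f) (LocalizedModule (Submonoid.powers f) M) ∧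
      Module.Free (Localization.Away f) (LocalizedModule (Submonoid.powers f) S) ∧
      (Localization.awayMap (algebraMap R S) f).FinitePresentation ∧
      Module.FinitePresentation (Localization.Away (algebraMap R S f))
        (LocalizedModule (Submonoid.powers (algebraMap R S f)) M) := by
  let U : Set (PrimeSpectrum R) := {u | ∃ f : R, f ∉ u.asIdeal ∧ Good R S M f}
  have hsub : ∀ f : R, Good R S M f → (PrimeSpectrum.basicOpen f : Set (PrimeSpectrum R)) ⊆ U :=
    fun f hf w hw => ⟨f, hw, hf⟩
  refine ⟨U, ?_, ?_, ?_⟩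
  · rw [isOpen_iff_forall_mem_open]
    rintro u ⟨f, hfu, hf⟩
    exact ⟨PrimeSpectrum.basicOpen f, hsub f hf, (PrimeSpectrum.basicOpen f).isOpen, hfu⟩
  · rw [dense_iff_inter_open]
    rintro V hV ⟨v, hv⟩
    obtain ⟨_, ⟨_, ⟨h, rfl⟩, rfl⟩, hvh, hhV⟩ :=
      PrimeSpectrum.isBasis_basic_opens.exists_subset_of_mem_open hv hV
    have hh : h ≠ 0 := by
      rintro rfl
      exact hvh v.asIdeal.zero_mem
    obtain ⟨f, hf, hgood⟩ := key R S M h hh
    have hnil : ¬ IsNilpotent (h * f) := fun hn => hf (IsReduced.eq_zero _ hn)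
    have hne : (PrimeSpectrum.basicOpen (h * f)) ≠ ⊥ := by
      rwa [Ne, PrimeSpectrum.basicOpen_eq_bot_iff]
    obtain ⟨w, hw⟩ : ∃ w, w ∈ PrimeSpectrum.basicOpen (h * f) := by
      by_contra hcon
      push Not at hcon
      exact hne (TopologicalSpace.Opens.ext (Set.eq_empty_of_forall_notMem hcon))
    refine ⟨w, hhV ?_, ⟨h * f, hw, hgood⟩⟩
    rw [PrimeSpectrum.basicOpen_mul] at hw
    exact hw.1
  · rintro u ⟨f, hfu, hf⟩
    exact ⟨f, hfu, hsub f hf, hf⟩

end key

end Groth.Agent.Helper3.RedGF4
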