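import Mathlib
import Groth.Agent.Helper3.RedGF4

set_option linter.style.haveILetI false
set_option linter.unusedSectionVars false
set_option linter.unusedVariables false
set_option linter.style.haveILetI false
set_option linter.unusedSectionVars false
set_option linter.unusedVariables false

open MvPolynomial Function

namespace Groth.Agent.Helper3.RedGF5

open Groth.Agent.Helper3.RedGF2 Groth.Agent.Helper3.RedGF3 Groth.Agent.Helper3.RedGF4

universe u

section key

variable (R S : Type u) [CommRing R] [IsReduced R] [CommRing S]
    [Algebra R S] [Algebra.FiniteType R S]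

/-- the algebra conditions at `g` -/
def GoodAlg (g : R) : Prop :=
  Module.Free (Localization.Away g) (LocalizedModule (Submonoid.powers g) S) ∧
    (Localization.awayMap (algebraMap R S) g).FinitePresentation

theorem keyAlg (h : R) (hh : h ≠ 0) : ∃ f : R, h * f ≠ 0 ∧ ∀ e : R, GoodAlg R S (h * f * e) := by
  obtain ⟨d, ev, hev⟩ := Algebra.FiniteType.iff_quotient_mvPolynomial''.mp
    (inferInstance : Algebra.FiniteType R S)
  letI modS : Module (MvPolynomial (Fin d) R) S := Module.compHom S ev.toRingHom
  have hsmS : ∀ (q : MvPolynomial (Fin d) R) (x : S), q • x = ev q * x := fun q x => rfl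
  haveI : IsScalarTower R (MvPolynomial (Fin d) R) S := ⟨fun r q x => by
    rw [hsmS, hsmS, map_smul, smul_mul_assoc]⟩
  haveI : Module.Finite (MvPolynomial (Fin d) R) S := finite_compHom ev.toRingHom hev S
  obtain ⟨f₂, hf₂, H₂⟩ := claim (R := R) d S h hh
  refine ⟨f₂, hf₂, fun e => ?_⟩
  obtain ⟨b1, b2⟩ := H₂ e
  set g := h * f₂ * e with hg
  refine ⟨b1, ?_⟩
  let π : MvPolynomial (Fin d) R →ₗ[MvPolynomial (Fin d) R] S :=
    LinearMap.toSpanSingleton (MvPolynomial (Fin d) R) S 1
  have hπ : ∀ q, π q = ev q := fun q => by
    show q • (1 : S) = ev q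
    rw [hsmS, mul_one]
  have hπsurj : Surjective π := fun s => by
    obtain ⟨q, rfl⟩ := hev s
    exact ⟨q, hπ q⟩
  obtain ⟨K', hK'fg, hK'le, hK'tors⟩ := FPat.exists_fg_le_ker π hπsurj b2
  refine awayMap_finitePresentation ev hev g K' hK'fg (fun x hx => ?_) (fun x hx => ?_)
  · have := hK'le hx
    rw [LinearMap.mem_ker, hπ] at this
    exact this
  · obtain ⟨k, hk⟩ := hK'tors x (by rw [LinearMap.mem_ker, hπ]; exact hx)
    refine ⟨k, ?_⟩
    rw [MvPolynomial.algebraMap_eq, ← smul_eq_mul]
    exact hk

end key

section models

variable {R A : Type u} [CommRing R] [CommRing A] [Algebra R A] (g : R)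
  (R' A' : Type u) [CommRing R'] [CommRing A'] [Algebra R R'] [Algebra A A']
  [IsLocalization.Away g R'] [IsLocalization.Away (algebraMap R A g) A']

theorem away_map_flat
    (hfree : Module.Free (Localization.Away g) (LocalizedModule (Submonoid.powers g) A)) :
    (IsLocalization.Away.map R' A' (algebraMap R A) g).Flat := by
  let ψ := IsLocalization.Away.map R' A' (algebraMap R A) g
  letI : Algebra R' A' := ψ.toAlgebra
  letI : Algebra R A' := ((algebraMap A A').comp (algebraMap R A)).toAlgebra
  haveI : IsScalarTower R A A' := IsScalarTower.of_algebraMap_eq (fun _ => rfl)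
  haveI : IsScalarTower R R' A' := IsScalarTower.of_algebraMap_eq (fun r => by
    show algebraMap A A' (algebraMap R A r) = ψ (algebraMap R R' r)
    exact (IsLocalization.map_eq _ _).symm)
  have hL : Module.Flat R (LocalizedModule (Submonoid.powers g) A) := by
    haveI : Module.Flat R (Localization.Away g) := IsLocalization.flat _ (Submonoid.powers g)
    exact Module.Flat.trans R (Localization.Away g) _
  haveI : IsLocalizedModule (Submonoid.powers g) (IsScalarTower.toAlgHom R A A').toLinearMap := by
    rw [isLocalizedModule_iff_isLocalization, Algebra.algebraMapSubmonoid_powers]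
    infer_instance
  have hA' : Module.Flat R A' :=
    Module.Flat.of_linearEquiv
      (IsLocalizedModule.iso (Submonoid.powers g) (IsScalarTower.toAlgHom R A A').toLinearMap).symm
  haveI : IsLocalizedModule (Submonoid.powers g) (LinearMap.id : A' →ₗ[R] A') :=
    isLocalizedModule_id (Submonoid.powers g) A' R'
  exact Module.Flat.of_isLocalizedModule (Rp := R') (Submonoid.powers g) (LinearMap.id : A' →ₗ[R] A')

theorem away_map_fp
    (hfp : (Localization.awayMap (algebraMap R A) g).FinitePresentation) :
    (IsLocalization.Away.map R' A' (algebraMap R A) g).FinitePresentation := by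
  let eR : R' ≃ₐ[R] Localization.Away g :=
    IsLocalization.algEquiv (Submonoid.powers g) R' (Localization.Away g)
  let eA : Localization.Away (algebraMap R A g) ≃ₐ[A] A' :=
    IsLocalization.algEquiv (Submonoid.powers (algebraMap R A g)) _ A'
  have hcomp : IsLocalization.Away.map R' A' (algebraMap R A) g =
      (eA : Localization.Away (algebraMap R A g) →+* A').comp
        ((Localization.awayMap (algebraMap R A) g).comp (eR : R' →+* Localization.Away g)) := by
    apply IsLocalization.ringHom_ext (Submonoid.powers g)
    ext r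
    simp only [RingHom.comp_apply, Localization.awayMap, IsLocalization.Away.map,
      IsLocalization.map_eq]
    simp [eR, eA]
  rw [hcomp]
  refine (RingHom.FinitePresentation.of_bijective ?_).comp
    (hfp.comp (RingHom.FinitePresentation.of_bijective ?_))
  · exact eA.bijective
  · exact eR.bijective

end models

section hom

/-- the two conditions on all localization models -/
def GoodHom {R A : Type u} [CommRing R] [CommRing A] (φ : R →+* A) (g : R) : Prop :=
  ∀ (R' A' : Type u) [CommRing R'] [CommRing A'] [Algebra R R'] [Algebra A A']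
    [IsLocalization.Away g R'] [IsLocalization.Away (φ g) A'],
    (IsLocalization.Away.map R' A' φ g).Flat ∧
      (IsLocalization.Away.map R' A' φ g).FinitePresentation

theorem keyHom {R A : Type u} [CommRing R] [IsReduced R] [CommRing A] (φ : R →+* A)
    (hφ : φ.FiniteType) (h : R) (hh : h ≠ 0) :
    ∃ f : R, h * f ≠ 0 ∧ ∀ e : R, GoodHom φ (h * f * e) := by
  algebraize [φ]
  obtain ⟨f, hf, H⟩ := keyAlg R A h hh
  refine ⟨f, hf, fun e R' A' _ _ _ _ _ _ => ?_⟩
  obtain ⟨h1, h2⟩ := H e
  exact ⟨away_map_flat (R := R) (A := A) (h * f * e) R' A' h1,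
    away_map_fp (R := R) (A := A) (h * f * e) R' A' h2⟩

theorem keyFamily {R : Type u} [CommRing R] [IsReduced R] {ι : Type*} (s : Finset ι)
    (A : ι → Type u) [∀ i, CommRing (A i)] (φ : ∀ i, R →+* A i)
    (hφ : ∀ i ∈ s, (φ i).FiniteType) (h : R) (hh : h ≠ 0) :
    ∃ f : R, h * f ≠ 0 ∧ ∀ i ∈ s, ∀ e : R, GoodHom (φ i) (h * f * e) := by
  classical
  induction s using Finset.induction_on with
  | empty => exact ⟨1, by simpa using hh, by simp⟩
  | insert a s has IH =>
    obtain ⟨f, hf, H⟩ := IH (fun i hi => hφ i (Finset.mem_insert_of_mem hi))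
    obtain ⟨f', hf', H'⟩ := keyHom (φ a) (hφ a (Finset.mem_insert_self a s)) (h * f) hf
    refine ⟨f * f', by rwa [← mul_assoc], fun i hi e => ?_⟩
    rcases Finset.mem_insert.mp hi with rfl | hi
    · have : h * (f * f') * e = h * f * f' * e := by ring
      rw [this]
      exact H' e
    · have : h * (f * f') * e = h * f * (f' * e) := by ring
      rw [this]
      exact H i hi (f' * e)

end hom

end Groth.Agent.Helper3.RedGF5
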