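import Mathlib
import Groth.Agent.Helper3.RedGF5

set_option linter.style.haveILetI false
set_option linter.unusedSectionVars false
set_option linter.unusedVariables false
set_option linter.style.haveILetI false
set_option linter.unusedSectionVars false
set_option linter.unusedVariables false

open AlgebraicGeometry CategoryTheory TopologicalSpace Function

namespace Groth.Agent.Helper3.RedGF6

universe u

theorem restrict_of_exists {P : MorphismProperty Scheme.{u}}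
    {Q : ∀ {R S : Type u} [CommRing R] [CommRing S], (R →+* S) → Prop} [HasRingHomProperty P Q]
    (hQ : RingHom.StableUnderCompositionWithLocalizationAwaySource Q)
    {X S : Scheme.{u}} (f : X ⟶ S) (U : S.Opens)
    (H : ∀ x : X, x ∈ f ⁻¹ᵁ U → ∃ (U'' : S.affineOpens) (V'' : X.affineOpens) (_ : U''.1 ≤ U)
      (_ : x ∈ V''.1) (e : V''.1 ≤ f ⁻¹ᵁ U''.1), Q (f.appLE U''.1 V''.1 e).hom) :
    P (f ∣_ U) := by
  rw [HasRingHomProperty.iff_exists_appLE (P := P) hQ]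
  intro x
  obtain ⟨U'', V'', hU, hx, e, hQ'⟩ := H x.1 x.2
  have hV : V''.1 ≤ f ⁻¹ᵁ U := e.trans (f.preimage_mono hU)
  have e1 : U.ι ''ᵁ (U.ι ⁻¹ᵁ U''.1) = U''.1 := by
    rw [Scheme.Hom.image_preimage_eq_opensRange_inf, Scheme.Opens.opensRange_ι]
    exact inf_eq_right.mpr hU
  have e2 : (f ⁻¹ᵁ U).ι ''ᵁ ((f ⁻¹ᵁ U).ι ⁻¹ᵁ V''.1) = V''.1 := by
    rw [Scheme.Hom.image_preimage_eq_opensRange_inf, Scheme.Opens.opensRange_ι]
    exact inf_eq_right.mpr hV
  have e' : (f ⁻¹ᵁ U).ι ⁻¹ᵁ V''.1 ≤ (f ∣_ U) ⁻¹ᵁ (U.ι ⁻¹ᵁ U''.1) := by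
    intro y hy
    have h1 : ((f ⁻¹ᵁ U).ι y) ∈ f ⁻¹ᵁ U''.1 := e hy
    show (U.ι ((f ∣_ U) y)) ∈ U''.1
    have : U.ι ((f ∣_ U) y) = f ((f ⁻¹ᵁ U).ι y) := by
      rw [← Scheme.Hom.comp_apply, ← Scheme.Hom.comp_apply, morphismRestrict_ι]
    rw [this]
    exact h1
  refine ⟨⟨U.ι ⁻¹ᵁ U''.1, U''.2.preimage_of_isOpenImmersion _ (by simpa using hU)⟩,
    ⟨(f ⁻¹ᵁ U).ι ⁻¹ᵁ V''.1, V''.2.preimage_of_isOpenImmersion _ (by simpa using hV)⟩, hx, e', ?_⟩
  rw [morphismRestrict_appLE]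
  exact (Scheme.Hom.appLE_congr f _ e1.symm e2.symm (fun φ => Q φ.hom)).mp hQ'

open Groth.Agent.Helper3.RedGF5

variable {X S : Scheme.{u}} (f : X ⟶ S)

/-- local data: flat and finitely presented affine charts around every point above `W` -/
def GoodOpen (W : S.Opens) : Prop :=
  ∀ x : X, x ∈ f ⁻¹ᵁ W → ∃ (U'' : S.affineOpens) (V'' : X.affineOpens) (_ : U''.1 ≤ W)
      (_ : x ∈ V''.1) (e : V''.1 ≤ f ⁻¹ᵁ U''.1), (f.appLE U''.1 V''.1 e).hom.Flat ∧
        (f.appLE U''.1 V''.1 e).hom.FinitePresentation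

theorem exists_good_basicOpen [IsReduced S] [LocallyOfFiniteType f] [QuasiCompact f]
    (V₀ : S.affineOpens) (h : Γ(S, V₀.1)) (hh : h ≠ 0) :
    ∃ g : Γ(S, V₀.1), g ≠ 0 ∧ S.basicOpen g ≤ S.basicOpen h ∧ GoodOpen f (S.basicOpen g) := by
  classical
  have hcpt : IsCompact (X := X) (f ⁻¹ᵁ V₀.1) :=
    QuasiCompact.isCompact_preimage (f := f) _ V₀.1.isOpen V₀.2.isCompact
  obtain ⟨s, hs, hs_eq⟩ := isCompact_iff_finite_and_eq_biUnion_affineOpens.mp hcpt
  haveI : Finite s := hs.to_subtype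
  letI : Fintype s := Fintype.ofFinite s
  have hle : ∀ i : s, i.1.1 ≤ f ⁻¹ᵁ V₀.1 := fun i => by
    rw [hs_eq]; exact le_iSup₂ (f := fun (j : X.affineOpens) (_ : j ∈ s) => (j : X.Opens)) i.1 i.2
  obtain ⟨g', hg', H⟩ := keyFamily (R := Γ(S, V₀.1)) (Finset.univ : Finset s)
    (fun i => Γ(X, i.1.1)) (fun i => (f.appLE V₀.1 i.1.1 (hle i)).hom)
    (fun i _ => f.finiteType_appLE V₀.2 i.1.2 (hle i)) h hh
  refine ⟨h * g', hg', ?_, ?_⟩
  · rw [Scheme.basicOpen_mul]; exact inf_le_left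
  · intro x hx
    have hx0 : x ∈ f ⁻¹ᵁ V₀.1 := f.preimage_mono (S.basicOpen_le _) hx
    rw [hs_eq] at hx0
    obtain ⟨i, hi, hxi⟩ : ∃ i ∈ s, x ∈ (i : X.Opens) := by simpa using hx0
    let i' : s := ⟨i, hi⟩
    set φ := (f.appLE V₀.1 i.1 (hle i')).hom with hφ
    have hbo : X.basicOpen (f.appLE V₀.1 i.1 (hle i') (h * g')) =
        i.1 ⊓ f ⁻¹ᵁ (S.basicOpen (h * g')) := Scheme.basicOpen_appLE f _ _ _ _
    have hgood := H i' (Finset.mem_univ _) 1
    rw [mul_one] at hgood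
    refine ⟨⟨S.basicOpen (h * g'), V₀.2.basicOpen _⟩,
      ⟨X.basicOpen (f.appLE V₀.1 i.1 (hle i') (h * g')), i.2.basicOpen _⟩, le_rfl, ?_, ?_, ?_⟩
    · show x ∈ X.basicOpen (f.appLE V₀.1 i.1 (hle i') (h * g'))
      rw [hbo]; exact ⟨hxi, hx⟩
    · show X.basicOpen (f.appLE V₀.1 i.1 (hle i') (h * g')) ≤ f ⁻¹ᵁ (S.basicOpen (h * g'))
      rw [hbo]; exact inf_le_right
    · rw [IsAffineOpen.appLE_eq_away_map f V₀.2 i.2 (hle i') (h * g')]
      haveI := V₀.2.isLocalization_basicOpen (h * g')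
      haveI := i.2.isLocalization_basicOpen (f.appLE V₀.1 i.1 (hle i') (h * g'))
      exact hgood _ _

theorem main [IsReduced S] [LocallyOfFiniteType f] [QuasiCompact f] :
    ∃ U : S.Opens, Dense (U : Set ↑S) ∧ Flat (f ∣_ U) ∧ LocallyOfFinitePresentation (f ∣_ U) := by
  let U : S.Opens := ⨆ (W : {W : S.Opens // GoodOpen f W}), W.1
  have hleU : ∀ W : {W : S.Opens // GoodOpen f W}, W.1 ≤ U := fun W =>
    le_iSup (fun W : {W : S.Opens // GoodOpen f W} => W.1) W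
  have hU : GoodOpen f U := by
    intro x hx
    obtain ⟨W, hxW⟩ : ∃ W : {W : S.Opens // GoodOpen f W}, f x ∈ W.1 := by
      have : f x ∈ U := hx
      simpa [U] using this
    obtain ⟨U'', V'', hle, hxV, e, hQ⟩ := W.2 x hxW
    exact ⟨U'', V'', hle.trans (hleU W), hxV, e, hQ⟩
  refine ⟨U, ?_, ?_, ?_⟩
  · rw [dense_iff_inter_open]
    rintro W hW ⟨w, hw⟩
    obtain ⟨V₀, hV₀aff, hwV₀, hV₀W⟩ := Opens.isBasis_iff_nbhd.mp S.isBasis_affineOpens
      (show w ∈ (⟨W, hW⟩ : S.Opens) from hw)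
    have h1 : (1 : Γ(S, V₀)) ≠ 0 := by
      intro h
      have h2 : S.basicOpen (1 : Γ(S, V₀)) = ⊥ := by rw [h, Scheme.basicOpen_zero]
      rw [Scheme.basicOpen_of_isUnit _ isUnit_one] at h2
      rw [h2] at hwV₀
      exact hwV₀
    obtain ⟨g, hg, hgle, hgood⟩ := exists_good_basicOpen f ⟨V₀, hV₀aff⟩ 1 h1
    have hne : S.basicOpen g ≠ ⊥ := fun hbot => hg ((basicOpen_eq_bot_iff g).mp hbot)
    obtain ⟨y, hy⟩ : ∃ y, y ∈ S.basicOpen g := by
      by_contra hcon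
      push Not at hcon
      exact hne (Opens.ext (Set.eq_empty_of_forall_notMem hcon))
    exact ⟨y, hV₀W (S.basicOpen_le g hy), hleU ⟨S.basicOpen g, hgood⟩ hy⟩
  · refine restrict_of_exists (P := @Flat) (Q := RingHom.Flat)
      (RingHom.Flat.stableUnderComposition.stableUnderCompositionWithLocalizationAway
        RingHom.Flat.holdsForLocalizationAway).left f U (fun x hx => ?_)
    obtain ⟨U'', V'', a, b, e, h1, h2⟩ := hU x hx
    exact ⟨U'', V'', a, b, e, h1⟩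
  · refine restrict_of_exists (P := @LocallyOfFinitePresentation)
      (Q := RingHom.FinitePresentation)
      (RingHom.finitePresentation_stableUnderComposition.stableUnderCompositionWithLocalizationAway
        RingHom.finitePresentation_holdsForLocalizationAway).left f U (fun x hx => ?_)
    obtain ⟨U'', V'', a, b, e, h1, h2⟩ := hU x hx
    exact ⟨U'', V'', a, b, e, h2⟩

end Groth.Agent.Helper3.RedGF6
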