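import Mathlib
import Groth.Agent.Helper1.LocalFlat
set_option linter.style.haveILetI false
set_option linter.unusedSectionVars false
set_option linter.unusedVariables false

namespace Groth.Agent.Helper3.LocFlatCrit
open TensorProduct

universe u

attribute [local instance] Algebra.TensorProduct.rightAlgebra

/-- Local flatness criterion at a prime containing `I T`. -/
theorem flat_localization (A T : Type u) [CommRing A] [CommRing T] [Algebra A T]
    [IsNoetherianRing A] [IsNoetherianRing T] (I : Ideal A)
    (h : ∀ k : ℕ, Module.Flat (A ⧸ I ^ k) ((A ⧸ I ^ k) ⊗[A] T))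
    (q : Ideal T) [q.IsPrime] (hq : I.map (algebraMap A T) ≤ q) :
    Module.Flat A (Localization.AtPrime q) := by
  set B := Localization.AtPrime q
  haveI : IsNoetherianRing B := IsLocalization.isNoetherianRing q.primeCompl B inferInstance
  have hI : I.map (algebraMap A B) ≤ Ideal.jacobson ⊥ := by
    rw [IsLocalRing.jacobson_eq_maximalIdeal (⊥ : Ideal B) bot_ne_top,
      ← Localization.AtPrime.map_eq_maximalIdeal (I := q),
      IsScalarTower.algebraMap_eq A T B, ← Ideal.map_map]
    exact Ideal.map_mono hq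
  refine Groth.Agent.Helper1.LocalFlat.flat_of_flat_baseChange_pow (A := A) (B := B) (M := B) I hI ?_
  intro k
  haveI : Module.Flat (A ⧸ I ^ k) ((A ⧸ I ^ k) ⊗[A] T) := h k
  have h2 : Module.Flat (A ⧸ I ^ k) (((A ⧸ I ^ k) ⊗[A] T) ⊗[T] B) :=
    Module.Flat.trans (A ⧸ I ^ k) ((A ⧸ I ^ k) ⊗[A] T) _
  exact Module.Flat.of_linearEquiv
    (Algebra.IsPushout.cancelBaseChange A (A ⧸ I ^ k) T ((A ⧸ I ^ k) ⊗[A] T) B).symm

/-- Flatness over `A` passes from `T_q` to `T_{q'}` for `q' ≤ q`. -/
theorem flat_localization_of_le (A T : Type u) [CommRing A] [CommRing T] [Algebra A T]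
    (q q' : Ideal T) [q.IsPrime] [q'.IsPrime] (hle : q' ≤ q)
    (h : Module.Flat A (Localization.AtPrime q)) : Module.Flat A (Localization.AtPrime q') := by
  have hM : q.primeCompl ≤ q'.primeCompl := fun x hx hx' => hx (hle hx')
  letI : Algebra (Localization.AtPrime q) (Localization.AtPrime q') :=
    (IsLocalization.lift (M := q.primeCompl) (g := algebraMap T (Localization.AtPrime q'))
      (fun y => IsLocalization.map_units (Localization.AtPrime q') ⟨y.1, hM y.2⟩)).toAlgebra
  haveI : IsScalarTower T (Localization.AtPrime q) (Localization.AtPrime q') :=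
    IsScalarTower.of_algebraMap_eq fun x => (IsLocalization.lift_eq _ x).symm
  haveI : IsLocalization (q'.primeCompl.map (algebraMap T (Localization.AtPrime q)))
      (Localization.AtPrime q') :=
    IsLocalization.isLocalization_of_submonoid_le (Localization.AtPrime q)
      (Localization.AtPrime q') q.primeCompl q'.primeCompl hM
  haveI : Module.Flat (Localization.AtPrime q) (Localization.AtPrime q') :=
    IsLocalization.flat _ (q'.primeCompl.map (algebraMap T (Localization.AtPrime q)))
  haveI : IsScalarTower A (Localization.AtPrime q) (Localization.AtPrime q') := by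
    apply IsScalarTower.of_algebraMap_eq
    intro a
    rw [IsScalarTower.algebraMap_apply A T (Localization.AtPrime q'),
      IsScalarTower.algebraMap_apply A T (Localization.AtPrime q),
      ← IsScalarTower.algebraMap_apply T (Localization.AtPrime q) (Localization.AtPrime q')]
  exact Module.Flat.trans A (Localization.AtPrime q) (Localization.AtPrime q')

/-- The local ring hom is flat as soon as `R → T → T_q` is. -/
theorem localRingHom_flat {R T : Type u} [CommRing R] [CommRing T] (φ : R →+* T)
    (p : Ideal R) [p.IsPrime] (q : Ideal T) [q.IsPrime] (hpq : p = q.comap φ)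
    (h : ((algebraMap T (Localization.AtPrime q)).comp φ).Flat) :
    (Localization.localRingHom p q φ hpq).Flat := by
  letI a1 : Algebra R (Localization.AtPrime q) :=
    ((algebraMap T (Localization.AtPrime q)).comp φ).toAlgebra
  letI a2 : Algebra (Localization.AtPrime p) (Localization.AtPrime q) :=
    (Localization.localRingHom p q φ hpq).toAlgebra
  haveI : IsScalarTower R (Localization.AtPrime p) (Localization.AtPrime q) := by
    apply IsScalarTower.of_algebraMap_eq
    intro r
    show (algebraMap T (Localization.AtPrime q)) (φ r) =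
      Localization.localRingHom p q φ hpq (algebraMap R (Localization.AtPrime p) r)
    rw [Localization.localRingHom_to_map]
  have h' : Module.Flat R (Localization.AtPrime q) := h
  exact (Module.flat_iff_of_isLocalization (R := R) (Localization.AtPrime p) p.primeCompl
    (Localization.AtPrime q)).mpr h'

open AlgebraicGeometry CategoryTheory in
/-- Flatness of a stalk map from flatness of `Γ(S,U) → Γ(X,V) → Γ(X,V)_q`. -/
theorem flat_stalkMap {X S : Scheme.{u}} (f : X ⟶ S) {U : S.Opens} (hU : IsAffineOpen U)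
    {V : X.Opens} (hV : IsAffineOpen V) (e : V ≤ f ⁻¹ᵁ U) (x : X) (hx : x ∈ V)
    (h : ((algebraMap Γ(X, V) (Localization.AtPrime (hV.primeIdealOf ⟨x, hx⟩).asIdeal)).comp
      (f.appLE U V e).hom).Flat) :
    (f.stalkMap x).hom.Flat := by
  rw [RingHom.Flat.respectsIso.arrow_mk_iso_iff (IsAffineOpen.arrowStalkMapIso f U hU V hV e hx)]
  exact localRingHom_flat (f.appLE U V e).hom _ _
    congr($(IsAffineOpen.comap_primeIdealOf_appLE U hU V hV e hx).1).symm h

open AlgebraicGeometry CategoryTheory in
/-- Flatness of the stalk map at a generization `x'` of `x` from flatness of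
`Γ(S,U) → Γ(X,V)_q`, `q` the prime of `x`. -/
theorem flat_stalkMap_of_specializes {X S : Scheme.{u}} (f : X ⟶ S) {U : S.Opens}
    (hU : IsAffineOpen U) {V : X.Opens} (hV : IsAffineOpen V) (e : V ≤ f ⁻¹ᵁ U)
    (x : X) (hx : x ∈ V)
    (h : ((algebraMap Γ(X, V) (Localization.AtPrime (hV.primeIdealOf ⟨x, hx⟩).asIdeal)).comp
      (f.appLE U V e).hom).Flat)
    (x' : X) (hx' : x' ⤳ x) : (f.stalkMap x').hom.Flat := by
  have hx'V : x' ∈ V := hx'.mem_open V.2 hx
  letI := (f.appLE U V e).hom.toAlgebra
  set q := (hV.primeIdealOf ⟨x, hx⟩).asIdeal with hq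
  set q' := (hV.primeIdealOf ⟨x', hx'V⟩).asIdeal with hq'
  have hle : q' ≤ q := by
    have h1 : (⟨x', hx'V⟩ : V) ⤳ ⟨x, hx⟩ := (subtype_specializes_iff _ _).mpr hx'
    have h2 : hV.primeIdealOf ⟨x', hx'V⟩ ⤳ hV.primeIdealOf ⟨x, hx⟩ :=
      h1.map hV.isoSpec.hom.continuous
    exact (PrimeSpectrum.le_iff_specializes _ _).mpr h2
  have h1 : Module.Flat Γ(S, U) (Localization.AtPrime q) := by
    have : ((algebraMap Γ(X, V) (Localization.AtPrime q)).comp (f.appLE U V e).hom) =
        algebraMap Γ(S, U) (Localization.AtPrime q) := rfl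
    rw [this, RingHom.flat_algebraMap_iff] at h
    exact h
  have h2 := flat_localization_of_le Γ(S, U) Γ(X, V) q q' hle h1
  apply flat_stalkMap f hU hV e x' hx'V
  show RingHom.Flat _
  have : ((algebraMap Γ(X, V) (Localization.AtPrime q')).comp (f.appLE U V e).hom) =
      algebraMap Γ(S, U) (Localization.AtPrime q') := rfl
  rw [this, RingHom.flat_algebraMap_iff]
  exact h2

open AlgebraicGeometry CategoryTheory in
/-- Local flatness criterion on affine charts, including generizations. -/
theorem flat_stalkMap_of_flat_quotients {X S : Scheme.{u}} (f : X ⟶ S) {U : S.Opens}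
    (hU : IsAffineOpen U) {V : X.Opens} (hV : IsAffineOpen V) (e : V ≤ f ⁻¹ᵁ U)
    [IsNoetherianRing Γ(S, U)] [IsNoetherianRing Γ(X, V)] (I : Ideal Γ(S, U))
    (h : letI := (f.appLE U V e).hom.toAlgebra
      ∀ k : ℕ, Module.Flat (Γ(S, U) ⧸ I ^ k) ((Γ(S, U) ⧸ I ^ k) ⊗[Γ(S, U)] Γ(X, V)))
    (x : X) (hx : x ∈ V) (hI : I ≤ (hU.primeIdealOf ⟨f x, e hx⟩).asIdeal)
    (x' : X) (hx' : x' ⤳ x) : (f.stalkMap x').hom.Flat := by
  letI := (f.appLE U V e).hom.toAlgebra
  set q := (hV.primeIdealOf ⟨x, hx⟩).asIdeal with hq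
  have hIq : I.map (algebraMap Γ(S, U) Γ(X, V)) ≤ q := by
    rw [Ideal.map_le_iff_le_comap]
    have := congr($(IsAffineOpen.comap_primeIdealOf_appLE U hU V hV e hx).1)
    intro a ha
    have h3 := hI ha
    rw [← this] at h3
    exact h3
  have h1 := flat_localization Γ(S, U) Γ(X, V) I h q hIq
  apply flat_stalkMap_of_specializes f hU hV e x hx _ x' hx'
  show RingHom.Flat _
  have : ((algebraMap Γ(X, V) (Localization.AtPrime q)).comp (f.appLE U V e).hom) =
      algebraMap Γ(S, U) (Localization.AtPrime q) := rfl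
  rw [this, RingHom.flat_algebraMap_iff]
  exact h1

end Groth.Agent.Helper3.LocFlatCrit
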