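import Mathlib

/-! Projective resolutions built from a chosen family of projective covers. -/

set_option autoImplicit false
universe v u

open CategoryTheory CategoryTheory.Limits CategoryTheory.Category

namespace Groth.Agent.Helper3.CoverRes

variable {C : Type u} [Category.{v} C] [Abelian C]

/-- a choice of an epimorphism from a projective object onto every object -/
structure Cover (C : Type u) [Category.{v} C] [Abelian C] where
  obj : C → C
  π : ∀ X, obj X ⟶ X
  epi : ∀ X, Epi (π X)
  proj : ∀ X, Projective (obj X)

namespace Cover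

variable (c : Cover C)

instance (X : C) : Epi (c.π X) := c.epi X
instance (X : C) : Projective (c.obj X) := c.proj X

/-- syzygies -/
noncomputable def syz {X Y : C} (f : X ⟶ Y) : C := c.obj (kernel f)

noncomputable abbrev d {X Y : C} (f : X ⟶ Y) : c.syz f ⟶ X := c.π (kernel f) ≫ kernel.ι f

instance {X Y : C} (f : X ⟶ Y) : Projective (c.syz f) := c.proj _

@[reassoc (attr := simp)]
lemma d_comp {X Y : C} (f : X ⟶ Y) : c.d f ≫ f = 0 := by
  change (c.π (kernel f) ≫ kernel.ι f) ≫ f = 0
  rw [Category.assoc, kernel.condition, comp_zero]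

theorem exact_d_f {X Y : C} (f : X ⟶ Y) :
    (ShortComplex.mk (c.d f) f (c.d_comp f)).Exact := by
  let α : ShortComplex.mk (c.d f) f (c.d_comp f) ⟶ ShortComplex.mk (kernel.ι f) f (by simp) :=
    { τ₁ := c.π _
      τ₂ := 𝟙 _
      τ₃ := 𝟙 _ }
  have h1 : Epi α.τ₁ := c.epi _
  have h2 : IsIso α.τ₂ := inferInstanceAs (IsIso (𝟙 _))
  have h3 : Mono α.τ₃ := inferInstanceAs (Mono (𝟙 _))
  rw [ShortComplex.exact_iff_of_epi_of_isIso_of_mono α]
  apply ShortComplex.exact_of_f_is_kernel
  apply kernelIsKernel

variable (Z : C)

/-- the complex -/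
noncomputable def ofComplex : ChainComplex C ℕ :=
  ChainComplex.mk' (c.obj Z) (c.syz (c.π Z))
    (c.d (c.π Z)) (fun f => ⟨_, c.d f, c.d_comp f⟩)

lemma ofComplex_d_1_0 : (c.ofComplex Z).d 1 0 = c.d (c.π Z) := by
  simp [ofComplex]

set_option backward.isDefEq.respectTransparency.types false in
lemma ofComplex_exactAt_succ (n : ℕ) : (c.ofComplex Z).ExactAt (n + 1) := by
  rw [HomologicalComplex.exactAt_iff' _ (n + 1 + 1) (n + 1) n (by simp) (by simp)]
  simp only [HomologicalComplex.sc', HomologicalComplex.shortComplexFunctor', ofComplex,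
    ChainComplex.mk', ChainComplex.mk, ChainComplex.of_d]
  match n with
  | 0 => apply exact_d_f
  | n + 1 => apply exact_d_f

set_option backward.isDefEq.respectTransparency.types false in
instance (n : ℕ) : Projective ((c.ofComplex Z).X n) := by
  obtain (_ | _ | _ | n) := n <;> apply c.proj

/-- the isomorphism describing the terms of the complex -/
noncomputable def ofComplexXIso (n : ℕ) :
    (c.ofComplex Z).X (n + 2) ≅ c.obj (kernel ((c.ofComplex Z).d (n + 1) n)) :=
  ChainComplex.mk'XIso _ _ _ _ n

set_option backward.defeqAttrib.useBackward true in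
set_option backward.isDefEq.respectTransparency false in
/-- the resolution -/
noncomputable def of : ProjectiveResolution Z where
  complex := c.ofComplex Z
  π := (ChainComplex.toSingle₀Equiv _ _).symm ⟨c.π Z, by
          rw [ofComplex_d_1_0, assoc, kernel.condition, comp_zero]⟩
  quasiIso := ⟨fun n => by
    cases n
    · rw [ChainComplex.quasiIsoAt₀_iff, ShortComplex.quasiIso_iff_of_zeros']
      · dsimp
        refine (ShortComplex.exact_and_epi_g_iff_of_iso ?_).2
          ⟨c.exact_d_f (c.π Z), by dsimp; infer_instance⟩
        exact ShortComplex.isoMk (Iso.refl _) (Iso.refl _) (Iso.refl _)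
          (by simp [ofComplex]) (by simp)
      all_goals rfl
    · rw [quasiIsoAt_iff_exactAt']
      · apply ofComplex_exactAt_succ
      · apply ChainComplex.exactAt_succ_single_obj⟩

lemma of_complex : (c.of Z).complex = c.ofComplex Z := rfl

end Cover

end Groth.Agent.Helper3.CoverRes
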