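import Mathlib
import Groth.Agent.Helper3.CoverRes

/-! Resolutions by finite free modules over a Noetherian ring. -/

set_option autoImplicit false
universe u

open CategoryTheory CategoryTheory.Limits

namespace Groth.Agent.Helper3.FinFreeRes

open Groth.Agent.Helper3.CoverRes

variable (R : Type u) [CommRing R]

lemma exists_cover (M : ModuleCat.{u} R) : ∃ (F : ModuleCat.{u} R) (p : F ⟶ M), Epi p ∧ Projective F ∧
    (Module.Finite R M → Module.Finite R F ∧ Module.Free R F) := by
  by_cases h : Module.Finite R M
  · obtain ⟨n, f, hf⟩ := Module.Finite.exists_fin' R M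
    refine ⟨ModuleCat.of R (Fin n → R), ModuleCat.ofHom f, (ModuleCat.epi_iff_surjective _).mpr hf,
      ?_, fun _ => ⟨(inferInstance : Module.Finite R (Fin n → R)),
        (inferInstance : Module.Free R (Fin n → R))⟩⟩
    exact (IsProjective.iff_projective (R := R) (P := (Fin n → R))).mp inferInstance
  · exact ⟨Projective.over M, Projective.π M, inferInstance, inferInstance, fun h' => absurd h' h⟩

/-- the chosen covers: finite free whenever the module is finite -/
noncomputable def cov : Cover (ModuleCat.{u} R) where
  obj M := (exists_cover R M).choose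
  π M := (exists_cover R M).choose_spec.choose
  epi M := (exists_cover R M).choose_spec.choose_spec.1
  proj M := (exists_cover R M).choose_spec.choose_spec.2.1

lemma cov_finite_free (M : ModuleCat.{u} R) (h : Module.Finite R M) :
    Module.Finite R ((cov R).obj M) ∧ Module.Free R ((cov R).obj M) :=
  (exists_cover R M).choose_spec.choose_spec.2.2 h

variable {R}

lemma finite_kernel [IsNoetherianRing R] {X Y : ModuleCat.{u} R} (f : X ⟶ Y) (hX : Module.Finite R X) :
    Module.Finite R (kernel f : ModuleCat.{u} R) := by
  have : Module.Finite R (LinearMap.ker f.hom) := inferInstance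
  exact Module.Finite.equiv (ModuleCat.kernelIsoKer f).toLinearEquiv.symm

theorem exists_finite_free_resolution [IsNoetherianRing R] (M : ModuleCat.{u} R) [Module.Finite R M] :
    ∃ F : ProjectiveResolution M, ∀ n : ℕ, Module.Finite R (F.complex.X n) ∧ Module.Free R (F.complex.X n) := by
  refine ⟨(cov R).of M, ?_⟩
  have key : ∀ n : ℕ, (Module.Finite R (((cov R).ofComplex M).X n) ∧ Module.Free R (((cov R).ofComplex M).X n)) ∧
      (Module.Finite R (((cov R).ofComplex M).X (n + 1)) ∧ Module.Free R (((cov R).ofComplex M).X (n + 1))) := by
    intro n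
    induction n with
    | zero =>
      refine ⟨cov_finite_free R M inferInstance, ?_⟩
      exact cov_finite_free R _ (finite_kernel _ (cov_finite_free R M inferInstance).1)
    | succ n ih =>
      refine ⟨ih.2, ?_⟩
      have h1 := cov_finite_free R _ (finite_kernel (((cov R).ofComplex M).d (n + 1) n) ih.2.1)
      let e := ((cov R).ofComplexXIso M n).toLinearEquiv
      have := h1.1
      have := h1.2
      exact ⟨Module.Finite.equiv e.symm, Module.Free.of_equiv e.symm⟩
  exact fun n => (key n).1

end Groth.Agent.Helper3.FinFreeRes
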