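import Groth.Agent.Helper3.HensRows

/-!
Henselian local rings: finite local algebras (S0505), radical.
-/

namespace Groth.Agent.Helper3.HensLocal

open Polynomial
open Groth.Agent.Helper3.HensTFAE Groth.Agent.Helper3.HensGabber

universe u

variable {A : Type u} [CommRing A]

theorem radical_le_jacobson_bot (I : Ideal A) (hI : I ≤ Ideal.jacobson ⊥) :
    I.radical ≤ Ideal.jacobson ⊥ := by
  calc I.radical ≤ (Ideal.jacobson (⊥ : Ideal A)).radical := Ideal.radical_mono hI
    _ ≤ Ideal.jacobson (Ideal.jacobson (⊥ : Ideal A)) := Ideal.radical_le_jacobson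
    _ = Ideal.jacobson ⊥ := Ideal.jacobson_idem

/-- `(A, I)` henselian ⇒ `(A, √I)` henselian. -/
theorem hens_radical (I : Ideal A) [hA : HenselianRing A I] : HenselianRing A I.radical := by
  have hjac := radical_le_jacobson_bot I hA.jac
  refine ⟨hjac, fun f hf a₀ h₁ h₂ => ?_⟩
  have h₂' : IsUnit (f.derivative.eval a₀) := isUnit_of_isUnit_mk hjac h₂
  set q := Ideal.Quotient.mk I with hq
  set x : A ⧸ I := q a₀ with hx
  have hev : ∀ (p : A[X]) (a : A), aeval (q a) p = q (p.eval a) := by
    intro p a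
    rw [aeval_def, ← eval₂_hom]; rfl
  have hn : IsNilpotent (aeval x f) := by
    obtain ⟨N, hN⟩ := h₁
    refine ⟨N, ?_⟩
    rw [hx, hev, ← map_pow]
    exact Ideal.Quotient.eq_zero_iff_mem.2 hN
  have hu : IsUnit (aeval x (derivative f)) := by
    rw [hx, hev]; exact h₂'.map q
  obtain ⟨r, ⟨hr1, hr2⟩, -⟩ := existsUnique_nilpotent_sub_and_aeval_eq_zero hn hu
  obtain ⟨a₁, rfl⟩ := Ideal.Quotient.mk_surjective r
  have h3 : f.eval a₁ ∈ I := by
    rw [← Ideal.Quotient.eq_zero_iff_mem]
    change q (f.eval a₁) = 0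
    rw [← hev]; exact hr2
  have h4 : a₀ - a₁ ∈ I.radical := by
    obtain ⟨N, hN⟩ := hr1
    refine ⟨N, ?_⟩
    rw [← Ideal.Quotient.eq_zero_iff_mem, map_pow, map_sub]
    exact hN
  have h5 : IsUnit (f.derivative.eval a₁) := by
    have hd : f.derivative.eval a₁ - f.derivative.eval a₀ ∈ Ideal.jacobson (⊥ : Ideal A) := by
      obtain ⟨c, hc⟩ := Polynomial.sub_dvd_eval_sub a₁ a₀ f.derivative
      rw [hc]
      refine hjac (Ideal.mul_mem_right _ _ ?_)
      have : a₁ - a₀ = -(a₀ - a₁) := by ring
      rw [this]; exact (Ideal.radical I).neg_mem h4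
    have : f.derivative.eval a₁ = f.derivative.eval a₀ +
        (f.derivative.eval a₁ - f.derivative.eval a₀) := by ring
    rw [this]
    exact isUnit_add_of_mem_jacobson h₂' hd
  obtain ⟨a, ha, haa⟩ := hA.is_henselian f hf a₁ h3 (h5.map _)
  refine ⟨a, ha, ?_⟩
  have : a - a₀ = (a - a₁) - (a₀ - a₁) := by ring
  rw [this]
  exact Ideal.sub_mem _ (Ideal.le_radical haa) h4

theorem henselianLocalRing_of_henselianRing (S : Type u) [CommRing S] [IsLocalRing S]
    [h : HenselianRing S (IsLocalRing.maximalIdeal S)] : HenselianLocalRing S :=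
  { is_henselian := fun f hf a₀ h₁ h₂ => h.is_henselian f hf a₀ h₁ (h₂.map _) }

/-- S0505 -/
theorem finite_local (R : Type u) [CommRing R] [HenselianLocalRing R]
    (S : Type u) [CommRing S] [IsLocalRing S] [Algebra R S] [Module.Finite R S] :
    HenselianLocalRing S := by
  have : Algebra.IsIntegral R S := Algebra.IsIntegral.of_finite R S
  have h2 : HenselianRing S ((IsLocalRing.maximalIdeal R).map (algebraMap R S)) :=
    HensRows.hens_of_isIntegral R _ S
  have hle : (IsLocalRing.maximalIdeal R).map (algebraMap R S) ≤ IsLocalRing.maximalIdeal S := by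
    rw [← IsLocalRing.jacobson_eq_maximalIdeal (⊥ : Ideal S) bot_ne_top]
    exact h2.jac
  have hrad : ((IsLocalRing.maximalIdeal R).map (algebraMap R S)).radical =
      IsLocalRing.maximalIdeal S := by
    apply le_antisymm
    · exact (Ideal.IsPrime.radical_le_iff (IsLocalRing.maximalIdeal.isMaximal S).isPrime).2 hle
    · rw [Ideal.radical_eq_sInf, le_sInf_iff]
      rintro P ⟨hP, hPp⟩
      have h3 : IsLocalRing.maximalIdeal R ≤ P.comap (algebraMap R S) :=
        Ideal.map_le_iff_le_comap.1 hP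
      have h4 : P.comap (algebraMap R S) = IsLocalRing.maximalIdeal R :=
        ((IsLocalRing.maximalIdeal.isMaximal R).eq_of_le
          (Ideal.comap_ne_top _ hPp.ne_top) h3).symm
      have h5 : P.IsMaximal := by
        refine Ideal.isMaximal_of_isIntegral_of_isMaximal_comap (R := R) P ?_
        rw [h4]; exact IsLocalRing.maximalIdeal.isMaximal R
      rw [IsLocalRing.eq_maximalIdeal h5]
  have h3 : HenselianRing S (IsLocalRing.maximalIdeal S) := hrad ▸ hens_radical _
  exact henselianLocalRing_of_henselianRing S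

end Groth.Agent.Helper3.HensLocal
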