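import Mathlib
import Groth.Agent.Helper3.HensLocal
import Groth.Prelude.Def_EtBase

set_option autoImplicit false
set_option linter.style.haveILetI false

namespace Groth.Agent.Helper3.StrictHensFinite

open Polynomial IsLocalRing

universe u

/-- An algebraic extension of a separably closed field is separably closed. -/
theorem isSepClosed_of_isAlgebraic (K L : Type u) [Field K] [Field L] [Algebra K L]
    [Algebra.IsAlgebraic K L] [IsSepClosed K] : IsSepClosed L := by
  refine IsSepClosed.of_exists_root L fun p hmon hirr hsep => ?_
  haveI : Fact (Irreducible p) := ⟨hirr⟩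
  let L' := AdjoinRoot p
  haveI : Module.Finite L L' := hmon.finite_adjoinRoot
  haveI : Algebra.IsAlgebraic L L' := Algebra.IsAlgebraic.of_finite L L'
  haveI : Algebra.IsAlgebraic K L' := Algebra.IsAlgebraic.trans K L L'
  haveI : Algebra.IsSeparable L L' := by
    have h1 : IsSeparable L (AdjoinRoot.root p) := by
      have hmin : minpoly L (AdjoinRoot.root p) = p := by
        rw [AdjoinRoot.minpoly_root hirr.ne_zero, hmon.leadingCoeff, inv_one, map_one, mul_one]
      rw [IsSeparable, hmin]
      exact hsep
    have h2 : Algebra.adjoin L {AdjoinRoot.root p} = ⊤ := AdjoinRoot.adjoinRoot_eq_top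
    rw [← separableClosure.eq_top_iff]
    rw [eq_top_iff, ← IntermediateField.toSubalgebra_le_toSubalgebra, IntermediateField.top_toSubalgebra,
      ← h2]
    exact Algebra.adjoin_le (by
      rintro _ rfl
      exact (mem_separableClosure_iff).mpr h1)
  have hbot : separableClosure K L' = ⊥ :=
    IntermediateField.eq_bot_of_isSepClosed_of_isSeparable _
  haveI : IsPurelyInseparable K L' := (separableClosure.eq_bot_iff).mp hbot
  haveI : IsPurelyInseparable L L' := IsPurelyInseparable.tower_top K L L'
  have hsurj : Function.Surjective (algebraMap L L') :=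
    IsPurelyInseparable.surjective_algebraMap_of_isSeparable L L'
  obtain ⟨x, hx⟩ := hsurj (AdjoinRoot.root p)
  refine ⟨x, ?_⟩
  apply (algebraMap L L').injective
  rw [map_zero, ← aeval_algebraMap_apply_eq_algebraMap_eval, hx, AdjoinRoot.aeval_eq,
    AdjoinRoot.mk_self]


theorem main {A B : Type u} [CommRing A] [IsLocalRing A]
    [CommRing B] [IsLocalRing B] (f : A →+* B) (hf : f.Finite) [IsLocalHom f]
    (hA : EtCoh.IsStrictlyHenselianLocalRing A) : EtCoh.IsStrictlyHenselianLocalRing B := by
  obtain ⟨hH, hS⟩ := hA
  algebraize [f]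
  haveI : Module.Finite A B := hf
  haveI : IsLocalHom (algebraMap A B) := ‹IsLocalHom f›
  refine ⟨HensLocal.finite_local A B, ?_⟩
  haveI : Module.Finite (ResidueField A) (ResidueField B) := inferInstance
  haveI : Algebra.IsAlgebraic (ResidueField A) (ResidueField B) := Algebra.IsAlgebraic.of_finite _ _
  exact isSepClosed_of_isAlgebraic (ResidueField A) (ResidueField B)

end Groth.Agent.Helper3.StrictHensFinite
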