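import Groth.Agent.Helper3.HensProd

/-!
Finite algebras over local rings with idempotent lifting are finite products of local rings.
-/

namespace Groth.Agent.Helper3.HensProd

open Polynomial
open Groth.Agent.Helper3.HensTFAE Groth.Agent.Helper3.HensGabber

universe u v

/-- Complete orthogonal idempotents lift along a Zariski quotient along which idempotents lift. -/
theorem coi_lift {B : Type*} [CommRing B] (J : Ideal B) (hJ : J ≤ Ideal.jacobson ⊥)
    (hlift : ∀ b : B, b * b - b ∈ J → ∃ e : B, IsIdempotentElem e ∧ e - b ∈ J)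
    {ι : Type*} [Fintype ι] (ε : ι → B ⧸ J) (hε : CompleteOrthogonalIdempotents ε) :
    ∃ e : ι → B, CompleteOrthogonalIdempotents e ∧ ∀ i, Ideal.Quotient.mk J (e i) = ε i := by
  have h1 : ∀ i, ∃ e : B, IsIdempotentElem e ∧ Ideal.Quotient.mk J e = ε i := by
    intro i
    obtain ⟨b, hb⟩ := Ideal.Quotient.mk_surjective (ε i)
    have hbb : b * b - b ∈ J := by
      rw [← Ideal.Quotient.eq, map_mul, hb]; exact hε.idem i
    obtain ⟨e, he, heb⟩ := hlift b hbb
    exact ⟨e, he, (Ideal.Quotient.eq.2 heb).trans hb⟩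
  choose e he hee using h1
  have hortho : Pairwise (e · * e · = 0) := by
    intro i j hij
    have hid : IsIdempotentElem (e i * e j) := (he i).mul (he j)
    refine AICHens.idem_unique J hJ hid IsIdempotentElem.zero ?_
    rw [sub_zero, ← Ideal.Quotient.eq_zero_iff_mem, map_mul, hee, hee]
    exact hε.ortho hij
  have hoi : OrthogonalIdempotents e := ⟨he, hortho⟩
  refine ⟨e, ⟨hoi, ?_⟩, hee⟩
  have hid : IsIdempotentElem (∑ i, e i) := hoi.isIdempotentElem_sum
  refine AICHens.idem_unique J hJ hid IsIdempotentElem.one ?_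
  rw [← Ideal.Quotient.eq_zero_iff_mem, map_sub, map_sum, map_one]
  simp only [hee, hε.complete, sub_self]

theorem pi_of_idemLift (A : Type u) [CommRing A] [IsLocalRing A] (B : Type u) [CommRing B]
    [Algebra A B] [Module.Finite A B]
    (h : IdemLift A (IsLocalRing.maximalIdeal A) B) :
    ∃ (ι : Type u) (_ : Fintype ι) (C : ι → Type u) (_ : ∀ j, CommRing (C j)),
      (∀ j, IsLocalRing (C j)) ∧ Nonempty (B ≃+* (∀ j, C j)) := by
  classical
  have : Algebra.IsIntegral A B := Algebra.IsIntegral.of_finite A B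
  set m := IsLocalRing.maximalIdeal A with hm
  set J := m.map (algebraMap A B) with hJdef
  have hJ : J ≤ Ideal.jacobson ⊥ := map_le_jacobson_of_isIntegral _
    (le_of_eq (IsLocalRing.jacobson_eq_maximalIdeal (⊥ : Ideal A) bot_ne_top).symm)
  let _ : Field (A ⧸ m) := Ideal.Quotient.field m
  have hfin : Module.Finite (A ⧸ m) (B ⧸ J) := Module.Finite.of_restrictScalars_finite A _ _
  have hart : IsArtinianRing (B ⧸ J) := IsArtinianRing.of_finite (A ⧸ m) (B ⧸ J)
  let ι := MaximalSpectrum (B ⧸ J)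
  have : Fintype ι := Fintype.ofFinite ι
  let F : ι → Type u := fun n => (B ⧸ J) ⧸ n.asIdeal
  let θ : ((B ⧸ J) ⧸ nilradical (B ⧸ J)) ≃ₐ[B ⧸ J] (∀ n : ι, F n) :=
    IsArtinianRing.quotNilradicalEquivPi (B ⧸ J)
  let Ψ : B →+* (∀ n : ι, F n) :=
    (θ : ((B ⧸ J) ⧸ nilradical (B ⧸ J)) →+* (∀ n : ι, F n)).comp
      ((Ideal.Quotient.mk (nilradical (B ⧸ J))).comp (Ideal.Quotient.mk J))
  have hΨ : ∀ z, Ψ z = θ (Ideal.Quotient.mk (nilradical (B ⧸ J)) (Ideal.Quotient.mk J z)) :=
    fun z => rfl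
  have hnil : nilradical (B ⧸ J) ≤ Ideal.jacobson ⊥ := by
    change (⊥ : Ideal (B ⧸ J)).radical ≤ _
    exact Ideal.radical_le_jacobson
  have hΨunit : ∀ z, IsUnit (Ψ z) → IsUnit z := by
    intro z hz
    rw [hΨ] at hz
    have h1 : IsUnit (Ideal.Quotient.mk (nilradical (B ⧸ J)) (Ideal.Quotient.mk J z)) := by
      have := hz.map (θ.symm : (∀ n : ι, F n) →+* ((B ⧸ J) ⧸ nilradical (B ⧸ J)))
      simpa using this
    exact isUnit_of_isUnit_mk hJ (isUnit_of_isUnit_mk hnil h1)
  -- the idempotents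
  have hε₀ : CompleteOrthogonalIdempotents (fun n : ι => (Pi.single n 1 : ∀ n : ι, F n)) :=
    CompleteOrthogonalIdempotents.single F
  have hε₁ := hε₀.map (θ.symm : (∀ n : ι, F n) →+* ((B ⧸ J) ⧸ nilradical (B ⧸ J)))
  obtain ⟨ε₂, hε₂, hε₂'⟩ := CompleteOrthogonalIdempotents.lift_of_isNilpotent_ker
    (Ideal.Quotient.mk (nilradical (B ⧸ J)))
    (fun x hx => by
      rw [Ideal.mk_ker] at hx
      exact mem_nilradical.1 hx) hε₁
    (fun i => (Ideal.Quotient.mk (nilradical (B ⧸ J))).mem_range.2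
      (Ideal.Quotient.mk_surjective _))
  obtain ⟨e, he, hee⟩ := coi_lift J hJ h ε₂ hε₂
  have hΨe : ∀ n, Ψ (e n) = Pi.single n 1 := by
    intro n
    rw [hΨ, hee]
    have := congrFun hε₂' n
    simp only [Function.comp_apply] at this
    rw [this]
    simp
  refine ⟨ι, inferInstance, fun n => B ⧸ Ideal.span {1 - e n}, inferInstance, ?_,
    ⟨RingEquiv.ofBijective _ he.bijective_pi⟩⟩
  intro n
  set mkC := Ideal.Quotient.mk (Ideal.span {1 - e n}) with hmkC
  have hmkCe : mkC (e n) = 1 := by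
    have h0 : mkC (1 - e n) = 0 :=
      Ideal.Quotient.eq_zero_iff_mem.2 (Ideal.mem_span_singleton_self _)
    rw [map_sub, map_one, sub_eq_zero] at h0
    exact h0.symm
  have hfield : ∀ n : ι, IsField (F n) := fun n =>
    (Ideal.Quotient.maximal_ideal_iff_isField_quotient _).1 n.isMaximal
  have hFunit : ∀ (n : ι) (x : F n), x ≠ 0 → IsUnit x := by
    intro n x hx
    obtain ⟨y, hy⟩ := (hfield n).mul_inv_cancel hx
    exact IsUnit.of_mul_eq_one y hy
  have hFnt : ∀ n : ι, Nontrivial (F n) := fun n => (hfield n).nontrivial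
  have hnt : Nontrivial (B ⧸ Ideal.span {1 - e n}) := by
    rw [Ideal.Quotient.nontrivial_iff, Ne, Ideal.eq_top_iff_one, Ideal.mem_span_singleton']
    rintro ⟨y, hy⟩
    have h1 := congrFun (congrArg Ψ hy) n
    rw [map_mul, map_sub, map_one, hΨe, Pi.mul_apply, Pi.sub_apply, Pi.single_eq_same,
      Pi.one_apply, sub_self, mul_zero] at h1
    exact zero_ne_one h1
  have hclaim : ∀ x : B, Ψ x n ≠ 0 → IsUnit (mkC x) := by
    intro x hx
    set z := x * e n + (1 - e n) with hz
    have hzu : IsUnit z := by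
      refine hΨunit z ?_
      rw [Pi.isUnit_iff]
      intro n'
      by_cases hn : n' = n
      · subst hn
        have : Ψ z n' = Ψ x n' := by
          rw [hz, map_add, map_mul, map_sub, map_one, hΨe]
          simp
        rw [this]; exact hFunit _ _ hx
      · have : Ψ z n' = 1 := by
          rw [hz, map_add, map_mul, map_sub, map_one, hΨe]
          simp [Pi.single_eq_of_ne hn]
        rw [this]; exact isUnit_one
    have : mkC z = mkC x := by
      rw [hz, map_add, map_mul, map_sub, map_one, hmkCe]; ring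
    rw [← this]; exact hzu.map mkC
  refine IsLocalRing.of_isUnit_or_isUnit_one_sub_self fun c => ?_
  obtain ⟨x, rfl⟩ := Ideal.Quotient.mk_surjective c
  by_cases hx : Ψ x n = 0
  · right
    have : Ψ (1 - x) n ≠ 0 := by
      rw [map_sub, map_one, Pi.sub_apply, hx, sub_zero, Pi.one_apply]
      exact one_ne_zero
    have h2 := hclaim (1 - x) this
    rwa [map_sub, map_one] at h2
  · left; exact hclaim x hx

/-- S0499 -/
theorem finite_pi_of_hens (R : Type u) [CommRing R]
    [HenselianLocalRing R] (S : Type u) [CommRing S] [Algebra R S] [Module.Finite R S] :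
    ∃ (ι : Type u) (_ : Fintype ι) (A : ι → Type u) (_ : ∀ i, CommRing (A i)),
      (∀ i, IsLocalRing (A i)) ∧ Nonempty (S ≃+* (∀ i, A i)) := by
  have : Algebra.IsIntegral R S := Algebra.IsIntegral.of_finite R S
  exact pi_of_idemLift R S (HensRows.idemLift_of_hens (IsLocalRing.maximalIdeal R) S)

/-- S17970 -/
theorem pi_iff_surjOn
    (A : Type u) [CommRing A] [IsLocalRing A] (B : Type u) [CommRing B] [Algebra A B]
    [Module.Finite A B] :
    (∃ (ι : Type u) (_ : Fintype ι) (C : ι → Type u) (_ : ∀ j, CommRing (C j)),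
        (∀ j, IsLocalRing (C j)) ∧ Nonempty (B ≃+* (∀ j, C j))) ↔
      Set.SurjOn (Ideal.Quotient.mk (Ideal.map (algebraMap A B) (IsLocalRing.maximalIdeal A)))
        {e : B | IsIdempotentElem e} {e | IsIdempotentElem e} := by
  have : Algebra.IsIntegral A B := Algebra.IsIntegral.of_finite A B
  have hI : IsLocalRing.maximalIdeal A ≤ Ideal.jacobson ⊥ :=
    le_of_eq (IsLocalRing.jacobson_eq_maximalIdeal (⊥ : Ideal A) bot_ne_top).symm
  constructor
  · rintro ⟨ι, _, C, _, hC, ⟨φ⟩⟩
    exact (HensRows.bijOn_of_idemLift _ hI B (idemLift_of_pi A B C hC φ)).surjOn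
  · intro h
    exact pi_of_idemLift A B (HensRows.idemLift_of_surjOn _ B h)

end Groth.Agent.Helper3.HensProd
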