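import Mathlib

/-!
# Transport of flatness along surjections from a common ring

`A → R`, `A → R'` surjective with `ker (A → R) ≤ ker (A → R')`; `M` an `R`-module, `M'` an
`R'`-module, `e : M ≃ₗ[A] M'`.  Then `M` flat over `R` implies `M'` flat over `R'`.
-/

set_option autoImplicit false

namespace Groth.Agent.Helper3.FlatTransport

theorem flat_of_linearEquiv_of_surjective
    {A R R' M M' : Type*} [CommRing A] [CommRing R] [CommRing R'] [Algebra A R] [Algebra A R']
    [AddCommGroup M] [Module A M] [Module R M] [IsScalarTower A R M]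
    [AddCommGroup M'] [Module A M'] [Module R' M'] [IsScalarTower A R' M']
    (hR : Function.Surjective (algebraMap A R)) (hR' : Function.Surjective (algebraMap A R'))
    (hker : RingHom.ker (algebraMap A R) ≤ RingHom.ker (algebraMap A R'))
    (e : M ≃ₗ[A] M') [Module.Flat R M] : Module.Flat R' M' := by
  classical
  refine Module.Flat.of_forall_isTrivialRelation ?_
  intro l f' x' hrel
  choose a ha using fun i => hR' (f' i)
  have hrel0 : ∑ i, (algebraMap A R (a i)) • e.symm (x' i) = 0 := by
    have : ∑ i, (algebraMap A R (a i)) • e.symm (x' i) = e.symm (∑ i, f' i • x' i) := by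
      rw [map_sum]
      refine Finset.sum_congr rfl fun i _ => ?_
      rw [algebraMap_smul, ← ha i, algebraMap_smul, map_smul]
    rw [this, hrel, map_zero]
  obtain ⟨k, b, y, hxy, hb⟩ := Module.Flat.isTrivialRelation_of_sum_smul_eq_zero hrel0
  choose c hc using fun i j => hR (b i j)
  refine ⟨k, fun i j => algebraMap A R' (c i j), fun j => e (y j), fun i => ?_, fun j => ?_⟩
  · have h1 := congrArg e (hxy i)
    rw [LinearEquiv.apply_symm_apply, map_sum] at h1
    rw [h1]
    refine Finset.sum_congr rfl fun j _ => ?_
    rw [← hc i j, algebraMap_smul, map_smul, algebraMap_smul]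
  · have h1 : ∑ i, a i * c i j ∈ RingHom.ker (algebraMap A R) := by
      rw [RingHom.mem_ker, map_sum, ← hb j]
      refine Finset.sum_congr rfl fun i _ => ?_
      rw [map_mul, hc]
    have h2 := hker h1
    rw [RingHom.mem_ker, map_sum] at h2
    rw [← h2]
    refine Finset.sum_congr rfl fun i _ => ?_
    rw [map_mul, ha]

end Groth.Agent.Helper3.FlatTransport
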