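import Mathlib
import Groth.Agent.Helper3.FlatTransport
import Groth.Agent.Helper1.CompletionFlat
import Groth.Agent.Helper3.LocalTower

set_option autoImplicit false
set_option linter.style.haveILetI false

namespace Groth.Agent.Helper3.ComplFlat

open TensorProduct IsLocalRing AdicCompletion

section G

variable {A A' M : Type*} [CommRing A] [CommRing A'] [Algebra A A']
  [AddCommGroup M] [Module A M] [Module A' M] [IsScalarTower A A' M]

/-- Flatness of `M/IM` over `A/I` transfers to `A'/IA'` when `A → A'/IA'` is surjective. -/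
theorem flat_quotient_of_flat_quotient (I : Ideal A)
    (hs : ∀ x : A', ∃ a : A, x - algebraMap A A' a ∈ I.map (algebraMap A A'))
    [Module.Flat (A ⧸ I) ((A ⧸ I) ⊗[A] M)] :
    Module.Flat (A' ⧸ I.map (algebraMap A A')) ((A' ⧸ I.map (algebraMap A A')) ⊗[A'] M) := by
  set I' := I.map (algebraMap A A') with hI'
  have hsub : (I' • ⊤ : Submodule A' M).restrictScalars A = I • ⊤ := by
    rw [hI', Ideal.smul_restrictScalars, Submodule.restrictScalars_top]
  let e₁ : (A ⧸ I) ⊗[A] M ≃ₗ[A] M ⧸ (I • ⊤ : Submodule A M) := quotTensorEquivQuotSMul M I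
  let e₂ : (A' ⧸ I') ⊗[A'] M ≃ₗ[A] M ⧸ (I' • ⊤ : Submodule A' M) :=
    (quotTensorEquivQuotSMul M I').restrictScalars A
  let e₃ : (M ⧸ (I • ⊤ : Submodule A M)) ≃ₗ[A] M ⧸ (I' • ⊤ : Submodule A' M) :=
    (Submodule.quotEquivOfEq _ _ hsub.symm) ≪≫ₗ
      Submodule.Quotient.restrictScalarsEquiv A (I' • ⊤ : Submodule A' M)
  refine FlatTransport.flat_of_linearEquiv_of_surjective (A := A) (R := A ⧸ I) (R' := A' ⧸ I')
    Ideal.Quotient.mk_surjective ?_ ?_ (e₁ ≪≫ₗ e₃ ≪≫ₗ e₂.symm)
  · intro y
    obtain ⟨x, rfl⟩ := Ideal.Quotient.mk_surjective y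
    obtain ⟨a, ha⟩ := hs x
    refine ⟨a, ?_⟩
    rw [IsScalarTower.algebraMap_apply A A' (A' ⧸ I'), Ideal.Quotient.algebraMap_eq, eq_comm,
      Ideal.Quotient.mk_eq_mk_iff_sub_mem]
    exact ha
  · intro a ha
    rw [RingHom.mem_ker, Ideal.Quotient.algebraMap_eq, Ideal.Quotient.eq_zero_iff_mem] at ha
    rw [RingHom.mem_ker, IsScalarTower.algebraMap_apply A A' (A' ⧸ I'), Ideal.Quotient.algebraMap_eq,
      Ideal.Quotient.eq_zero_iff_mem]
    exact Ideal.mem_map_of_mem _ ha

end G

section Main

universe u

variable (A B : Type u) [CommRing A] [CommRing B] [IsLocalRing A] [IsLocalRing B]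
  [IsNoetherianRing A] [IsNoetherianRing B] [Algebra A B] [IsLocalHom (algebraMap A B)]
  (ψ : AdicCompletion (maximalIdeal A) A →+* AdicCompletion (maximalIdeal B) B)
  (hψ : ψ.comp (algebraMap A (AdicCompletion (maximalIdeal A) A)) =
    (algebraMap B (AdicCompletion (maximalIdeal B) B)).comp (algebraMap A B))

theorem isNoetherianRing_completion :
    IsNoetherianRing (AdicCompletion (maximalIdeal A) A) :=
  Groth.Agent.Helper1.CompletionFlat.isNoetherianRing_completion A A (by
    rw [Algebra.algebraMap_self, Ideal.map_id])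

/-- every element of the completion is congruent to an element of `A` modulo `m^k`. -/
theorem exists_sub_mem (k : ℕ) (x : AdicCompletion (maximalIdeal A) A) :
    ∃ a : A, x - algebraMap A _ a ∈
      (maximalIdeal A ^ k).map (algebraMap A (AdicCompletion (maximalIdeal A) A)) := by
  have hfg := (maximalIdeal A).fg_of_isNoetherianRing
  have hmem : ∀ t : AdicCompletion (maximalIdeal A) A,
      t ∈ (maximalIdeal A ^ k).map (algebraMap A (AdicCompletion (maximalIdeal A) A)) ↔
        AdicCompletion.eval (maximalIdeal A) A k t = 0 := by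
    intro t
    rw [← LinearMap.mem_ker, ← AdicCompletion.pow_smul_top_eq_ker_eval hfg, Ideal.smul_top_eq_map,
      Submodule.restrictScalars_mem]
  obtain ⟨a, ha⟩ := Submodule.Quotient.mk_surjective _ (AdicCompletion.eval (maximalIdeal A) A k x)
  refine ⟨a, ?_⟩
  rw [hmem, map_sub, AdicCompletion.algebraMap_apply, Algebra.algebraMap_self, RingHom.id_apply,
    AdicCompletion.eval_of, sub_eq_zero]
  exact ha.symm

include hψ in
/-- The map on completions is flat if `A → B` is flat. -/
theorem flat_completion_map [Module.Flat A B] : ψ.Flat := by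
  letI := ψ.toAlgebra
  haveI hst : IsScalarTower A (AdicCompletion (maximalIdeal A) A)
      (AdicCompletion (maximalIdeal B) B) := IsScalarTower.of_algebraMap_eq' (by
    rw [RingHom.algebraMap_toAlgebra, hψ, ← IsScalarTower.algebraMap_eq])
  haveI := isNoetherianRing_completion A
  haveI := isNoetherianRing_completion B
  haveI : Module.Flat A (AdicCompletion (maximalIdeal B) B) :=
    Module.Flat.trans A B (AdicCompletion (maximalIdeal B) B)
  change Module.Flat (AdicCompletion (maximalIdeal A) A) (AdicCompletion (maximalIdeal B) B)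
  refine Groth.Agent.Helper1.LocalFlat.flat_of_flat_baseChange_pow
    (A := AdicCompletion (maximalIdeal A) A) (B := AdicCompletion (maximalIdeal B) B)
    (maximalIdeal (AdicCompletion (maximalIdeal A) A)) ?_ fun k => ?_
  · rw [IsLocalRing.jacobson_eq_maximalIdeal ⊥ bot_ne_top, maximalIdeal_eq_map, maximalIdeal_eq_map,
      Ideal.map_map, ← IsScalarTower.algebraMap_eq,
      IsScalarTower.algebraMap_eq A B (AdicCompletion (maximalIdeal B) B), ← Ideal.map_map]
    refine Ideal.map_mono ?_
    exact Ideal.map_le_iff_le_comap.mpr (IsLocalRing.maximalIdeal_comap (algebraMap A B)).ge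
  · have key : ∀ J : Ideal (AdicCompletion (maximalIdeal A) A),
        J = (maximalIdeal A ^ k).map (algebraMap A (AdicCompletion (maximalIdeal A) A)) →
        Module.Flat (AdicCompletion (maximalIdeal A) A ⧸ J)
          ((AdicCompletion (maximalIdeal A) A ⧸ J) ⊗[AdicCompletion (maximalIdeal A) A]
            AdicCompletion (maximalIdeal B) B) := by
      rintro J rfl
      exact flat_quotient_of_flat_quotient (A := A) (A' := AdicCompletion (maximalIdeal A) A)
        (M := AdicCompletion (maximalIdeal B) B) (maximalIdeal A ^ k) (exists_sub_mem A k)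
    exact key _ (by rw [Ideal.map_pow, maximalIdeal_eq_map])

include hψ in
/-- `A → B` is flat if the map on completions is flat. -/
theorem flat_of_flat_completion_map (h : ψ.Flat) : (algebraMap A B).Flat := by
  have h1 : (algebraMap A (AdicCompletion (maximalIdeal A) A)).Flat := by
    rw [RingHom.flat_algebraMap_iff]; infer_instance
  have h2 : (algebraMap B (AdicCompletion (maximalIdeal B) B)).Flat := by
    rw [RingHom.flat_algebraMap_iff]; infer_instance
  have h3 : ((algebraMap B (AdicCompletion (maximalIdeal B) B)).comp (algebraMap A B)).Flat := by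
    rw [← hψ]; exact RingHom.Flat.comp h1 h
  exact LocalTower.ringHom_flat_of_flat_comp (algebraMap A B)
    (algebraMap B (AdicCompletion (maximalIdeal B) B)) h2 h3

include hψ in
theorem flat_completion_map_iff : ψ.Flat ↔ (algebraMap A B).Flat := by
  refine ⟨flat_of_flat_completion_map A B ψ hψ, fun h => ?_⟩
  rw [RingHom.flat_algebraMap_iff] at h
  exact flat_completion_map A B ψ hψ

end Main

end Groth.Agent.Helper3.ComplFlat
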