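import Mathlib
import Groth.Prelude
import Groth.Agent.Helper3.UnramBC

/-!
The fibre square `X_s → X`, `Y_s → Y` of an `S`-morphism `f : X → Y` is cartesian; unramifiedness
at a point can be tested on the fibre.
-/

set_option autoImplicit false

namespace Groth.Agent.Helper3.FiberSq

open AlgebraicGeometry CategoryTheory Limits

universe u

/-- The fibre square is cartesian. -/
theorem isPullback_fiberMapOver {X Y S : Scheme.{u}} (g : Y ⟶ S) (h : X ⟶ S) (f : X ⟶ Y)
    (w : f ≫ g = h) (s : S) :
    IsPullback (h.fiberι s) (CohIII.fiberMapOver f h g w s) f (g.fiberι s) := by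
  have hbot : IsPullback (g.fiberι s) (pullback.snd g (S.fromSpecResidueField s)) g
      (S.fromSpecResidueField s) := IsPullback.of_hasPullback _ _
  have hsnd : CohIII.fiberMapOver f h g w s ≫ pullback.snd g (S.fromSpecResidueField s) =
      pullback.snd h (S.fromSpecResidueField s) := by
    exact (pullback.lift_snd _ _ _).trans (Category.comp_id _)
  have hfst : h.fiberι s ≫ f = CohIII.fiberMapOver f h g w s ≫ g.fiberι s := by
    exact (pullback.lift_fst _ _ _).symm
  have houter : IsPullback (h.fiberι s)
      (CohIII.fiberMapOver f h g w s ≫ pullback.snd g (S.fromSpecResidueField s)) (f ≫ g)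
      (S.fromSpecResidueField s) := by
    rw [hsnd, w]
    exact IsPullback.of_hasPullback _ _
  exact IsPullback.of_bot houter hfst hbot

set_option backward.isDefEq.respectTransparency false in
/-- Unramifiedness at a point for an arbitrary cartesian square. -/
theorem stalkMap_formallyUnramified_iff_of_isPullback {P X S S' : Scheme.{u}} {fst' : P ⟶ X}
    {snd' : P ⟶ S'} {f : X ⟶ S} {g : S' ⟶ S} [LocallyOfFiniteType f]
    (sq : IsPullback fst' snd' f g) (p : P) :
    (snd'.stalkMap p).hom.FormallyUnramified ↔
      (f.stalkMap (fst' p)).hom.FormallyUnramified := by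
  have hQ' := RingHom.FormallyUnramified.respectsIso
  have h1 := Groth.Agent.Helper3.UnramBC.stalkMap_iff_of_square hQ' (pullback.snd f g) snd'
    sq.isoPullback.hom (𝟙 S') (by simp) p
  rw [h1, Groth.Agent.Helper3.UnramBC.stalkMap_snd_formallyUnramified_iff]
  have : pullback.fst f g (sq.isoPullback.hom p) = fst' p := by
    have : (sq.isoPullback.hom ≫ pullback.fst f g) p = fst' p := by
      rw [sq.isoPullback_hom_fst]
    exact this
  exact hQ'.arrow_mk_iso_iff (f.arrowStalkMapIsoOfEq this)

end Groth.Agent.Helper3.FiberSq
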