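import Mathlib
import Groth.Agent.Helper3.GeomRedSm

set_option linter.style.haveILetI false
set_option linter.unusedSectionVars false
set_option linter.unusedVariables false
set_option linter.style.haveILetI false
set_option linter.unusedSectionVars false
set_option linter.unusedVariables false

open AlgebraicGeometry CategoryTheory CategoryTheory.Limits TensorProduct Function

namespace Groth.Agent.Helper3.GenSmDense

universe u

open Groth.Agent.Helper3.GeomRedPt3 Groth.Agent.Helper3.GeomRedSm

/-- The canonical morphism `Spec 𝒪_{X,x} ⟶ X` is flat. -/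
theorem flat_fromSpecStalk (X : Scheme.{u}) (x : X) : Flat (X.fromSpecStalk x) := by
  obtain ⟨_, ⟨U, hU, rfl⟩, hxU, -⟩ :=
    X.isBasis_affineOpens.exists_subset_of_mem_open (Set.mem_univ x) isOpen_univ
  rw [← hU.fromSpecStalk_eq_fromSpecStalk hxU]
  unfold IsAffineOpen.fromSpecStalk
  have : Flat (Spec.map (X.presheaf.germ U x hxU)) := by
    rw [HasRingHomProperty.Spec_iff (P := @Flat)]
    let _ := TopCat.Presheaf.algebra_section_stalk X.presheaf (⟨x, hxU⟩ : U)
    have hloc := hU.isLocalization_stalk ⟨x, hxU⟩
    have : Module.Flat Γ(X, U) (X.presheaf.stalk x) :=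
      IsLocalization.flat _ (hU.primeIdealOf ⟨x, hxU⟩).asIdeal.primeCompl
    exact this
  have h2 : IsOpenImmersion (IsAffineOpen.fromSpec hU) := IsAffineOpen.isOpenImmersion_fromSpec hU
  have h3 : Flat (IsAffineOpen.fromSpec hU) := inferInstance
  exact Flat.comp _ _

/-- flat + surjective on stalks ⇒ stalk maps are isomorphisms -/
theorem isIso_stalkMap {A B : Scheme.{u}} (p : A ⟶ B) [Flat p] [SurjectiveOnStalks p] (t : A) :
    IsIso (p.stalkMap t) := by
  have hsurj : Function.Surjective (p.stalkMap t) := p.stalkMap_surjective t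
  have hinj : Function.Injective (p.stalkMap t) := by
    algebraize [(p.stalkMap t).hom]
    have : Module.FaithfullyFlat (B.presheaf.stalk (p t)) (A.presheaf.stalk t) :=
      @Module.FaithfullyFlat.of_flat_of_isLocalHom _ _ _ _ _ _ _
        (Flat.stalkMap p t) (p.toLRSHom.prop t)
    exact ‹RingHom.FaithfullyFlat _›.injective
  exact (ConcreteCategory.isIso_iff_bijective _).mpr ⟨hinj, hsurj⟩

/-- if the local ring at `y` is a field, `Spec κ(y) ⟶ Y` is flat -/
theorem flat_fromSpecResidueField (Y : Scheme.{u}) (y : Y) (hy : IsField (Y.presheaf.stalk y)) :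
    Flat (Y.fromSpecResidueField y) := by
  haveI := flat_fromSpecStalk Y y
  have hbij : Function.Bijective (Y.residue y) := by
    refine ⟨?_, Y.residue_surjective y⟩
    show Function.Injective (IsLocalRing.residue (Y.presheaf.stalk y))
    rw [RingHom.injective_iff_ker_eq_bot, IsLocalRing.ker_residue]
    exact IsLocalRing.isField_iff_maximalIdeal_eq.mp hy
  haveI : IsIso (Y.residue y) := (ConcreteCategory.isIso_iff_bijective _).mpr hbij
  unfold Scheme.fromSpecResidueField
  infer_instance

section

variable {X Y : Scheme.{u}} (f : X ⟶ Y) [LocallyOfFinitePresentation f] (y : Y)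

instance : LocallyOfFinitePresentation (f.fiberToSpecResidueField y) :=
  MorphismProperty.pullback_snd (P := @LocallyOfFinitePresentation) _ _ inferInstance

/-- key lemma: smooth points of the fibre over a point with field local ring are smooth points of
`f`. -/
theorem fiberι_mem_smoothLocus (hy : IsField (Y.presheaf.stalk y)) (z : f.fiber y)
    (hz : z ∈ (f.fiberToSpecResidueField y).smoothLocus) : f.fiberι y z ∈ f.smoothLocus := by
  haveI : Flat (Y.fromSpecResidueField y) := flat_fromSpecResidueField Y y hy
  haveI : Flat (f.fiberι y) :=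
    MorphismProperty.pullback_fst (P := @Flat) f (Y.fromSpecResidueField y) inferInstance
  haveI h1 : IsIso ((f.fiberι y).stalkMap z) := isIso_stalkMap _ z
  haveI h2 : IsIso ((Y.fromSpecResidueField y).stalkMap (f.fiberToSpecResidueField y z)) :=
    isIso_stalkMap _ _
  rw [Scheme.Hom.mem_smoothLocus] at hz ⊢
  have e1 := Scheme.Hom.stalkMap_comp (f.fiberι y) f z
  have e2 := Scheme.Hom.stalkMap_comp (f.fiberToSpecResidueField y) (Y.fromSpecResidueField y) z
  have e3 := Scheme.Hom.stalkMap_congr_hom _ _ (f.fiber_fac y) z
  rw [e1, e2] at e3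
  -- `f.stalkMap (ι z) ≫ ι.stalkMap z = iso ≫ r.stalkMap (g z) ≫ g.stalkMap z`
  have h3 : (f.stalkMap (f.fiberι y z) ≫ (f.fiberι y).stalkMap z).hom.FormallySmooth := by
    rw [e3]
    have h4 : ((Y.fromSpecResidueField y).stalkMap (f.fiberToSpecResidueField y z) ≫
        (f.fiberToSpecResidueField y).stalkMap z).hom.FormallySmooth :=
      (RingHom.FormallySmooth.respectsIso.cancel_left_isIso
        ((Y.fromSpecResidueField y).stalkMap (f.fiberToSpecResidueField y z))
        ((f.fiberToSpecResidueField y).stalkMap z)).mpr hz
    exact (RingHom.FormallySmooth.respectsIso.cancel_left_isIso _ _).mpr h4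
  exact (RingHom.FormallySmooth.respectsIso.cancel_right_isIso _
    ((f.fiberι y).stalkMap z)).mp h3

end

theorem main (X Y : Scheme.{u}) [IsIntegral X] [IsIntegral Y]
    (f : X ⟶ Y) [IsDominant f] [LocallyOfFinitePresentation f]
    (hsep : GeometricallyReduced (f.fiberToSpecResidueField (f.base (genericPoint X)))) :
    Dense (f.smoothLocus : Set X) := by
  have hηgen : f (genericPoint X) = genericPoint Y := by
    have h1 : IsGenericPoint (f (genericPoint X)) (closure (Set.range f)) := by
      have := (genericPoint_spec X).image f.continuous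
      simpa [Set.image_univ] using this
    have h2 : closure (Set.range f) = Set.univ := f.denseRange.closure_range
    rw [h2] at h1
    exact h1.eq (genericPoint_spec Y)
  have hfield : IsField (Y.presheaf.stalk (f (genericPoint X))) :=
    hηgen ▸ (Field.toIsField Y.functionField)
  have hd : Dense ((f.fiberToSpecResidueField (f (genericPoint X))).smoothLocus :
      Set (f.fiber (f (genericPoint X)))) :=
    dense_smoothLocus (Y.residueField (f (genericPoint X)))
      (f.fiberToSpecResidueField (f (genericPoint X)))
  haveI : Nonempty (f.fiber (f (genericPoint X))) := ⟨f.asFiber (genericPoint X)⟩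
  obtain ⟨z, hz⟩ := hd.nonempty
  have hx := fiberι_mem_smoothLocus f (f (genericPoint X)) hfield z hz
  exact f.smoothLocus.2.dense ⟨_, hx⟩

end Groth.Agent.Helper3.GenSmDense
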