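import Mathlib
import Groth.Prelude
import Groth.Agent.Helper2.FiberSmooth2
import Groth.Agent.Helper2.FibFlatMain
import Groth.Agent.Helper2.PtDesc
import Groth.Agent.Helper3.GenSmDense

set_option linter.style.haveILetI false
set_option linter.unusedSectionVars false
set_option linter.unusedVariables false
set_option linter.style.haveILetI false
set_option linter.unusedSectionVars false
set_option linter.unusedVariables false

open AlgebraicGeometry CategoryTheory CategoryTheory.Limits

namespace Groth.Agent.Helper3.SmFibNbhd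

universe u

/-- `X ×_Y Y_s ≅ X_s` -/
noncomputable def fibIso {X Y S : Scheme.{u}} (f : X ⟶ Y) (g : Y ⟶ S) (s : S) :
    pullback f (g.fiberι s) ≅ (f ≫ g).fiber s :=
  pullbackRightPullbackFstIso g (S.fromSpecResidueField s) f

theorem fibIso_hom_fiberι {X Y S : Scheme.{u}} (f : X ⟶ Y) (g : Y ⟶ S) (s : S) :
    (fibIso f g s).hom ≫ (f ≫ g).fiberι s = pullback.fst f (g.fiberι s) :=
  pullbackRightPullbackFstIso_hom_fst ..

theorem fibIso_hom_toSpec {X Y S : Scheme.{u}} (f : X ⟶ Y) (g : Y ⟶ S) (s : S) :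
    (fibIso f g s).hom ≫ (f ≫ g).fiberToSpecResidueField s =
      pullback.snd f (g.fiberι s) ≫ g.fiberToSpecResidueField s :=
  pullbackRightPullbackFstIso_hom_snd ..

/-- the fibre map `X_s → Y_s` is the base change of `f` along `Y_s → Y`. -/
theorem fiberMap_eq {X Y S : Scheme.{u}} (f : X ⟶ Y) (g : Y ⟶ S) (s : S) :
    (fibIso f g s).hom ≫ MoreMor.fiberMap f g s = pullback.snd f (g.fiberι s) := by
  have h1 : MoreMor.fiberMap f g s ≫ g.fiberι s = (f ≫ g).fiberι s ≫ f :=
    pullback.lift_fst _ _ _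
  have h2 : MoreMor.fiberMap f g s ≫ g.fiberToSpecResidueField s =
      (f ≫ g).fiberToSpecResidueField s := pullback.lift_snd _ _ _
  refine pullback.hom_ext (f := g) (g := S.fromSpecResidueField s) ?_ ?_
  · show ((fibIso f g s).hom ≫ MoreMor.fiberMap f g s) ≫ g.fiberι s =
      pullback.snd f (g.fiberι s) ≫ g.fiberι s
    rw [Category.assoc, h1, ← Category.assoc, fibIso_hom_fiberι]
    exact pullback.condition
  · show ((fibIso f g s).hom ≫ MoreMor.fiberMap f g s) ≫ g.fiberToSpecResidueField s =
      pullback.snd f (g.fiberι s) ≫ g.fiberToSpecResidueField s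
    rw [Category.assoc, h2, fibIso_hom_toSpec]

theorem mem_smoothLocus_of_fibre {X Y S : Scheme.{u}} (f : X ⟶ Y) (g : Y ⟶ S)
    [LocallyOfFinitePresentation g] [LocallyOfFinitePresentation (f ≫ g)] [Flat (f ≫ g)]
    [LocallyOfFinitePresentation f] (x : X)
    (hs : Smooth (pullback.snd f (g.fiberι (g (f x))))) : x ∈ f.smoothLocus := by
  -- flatness of `f` at `x`
  have hfm : Smooth (MoreMor.fiberMap f g (g (f x))) := by
    rw [← fiberMap_eq f g (g (f x))] at hs
    exact (MorphismProperty.cancel_left_of_respectsIso (P := @Smooth) _ _).mp hs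
  haveI : Flat (MoreMor.fiberMap f g (g (f x))) := inferInstance
  have h1 := ((Groth.Agent.Helper2.FibFlatMain.s1386 f g).1 x).mp
    ⟨(Flat.iff_flat_stalkMap (f ≫ g)).mp inferInstance x,
      (Flat.iff_flat_stalkMap (MoreMor.fiberMap f g (g (f x)))).mp inferInstance _⟩
  -- smoothness of the fibre of `f` over `f x`
  have hsq : IsPullback
      (pullback.lift (f.fiberι (f x)) (f.fiberToSpecResidueField (f x) ≫ g.asFiberHom (f x))
        (by rw [Category.assoc, g.asFiberHom_fiberι]; exact f.fiber_fac (f x)))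
      (f.fiberToSpecResidueField (f x))
      (pullback.snd f (g.fiberι (g (f x)))) (g.asFiberHom (f x)) := by
    refine IsPullback.of_right ?_ (pullback.lift_snd _ _ _) (IsPullback.of_hasPullback f _)
    rw [pullback.lift_fst, g.asFiberHom_fiberι]
    exact IsPullback.of_hasPullback f _
  haveI : Smooth (f.fiberToSpecResidueField (f x)) :=
    MorphismProperty.of_isPullback (P := @Smooth) hsq hs
  rw [Groth.Agent.Helper2.FiberSmooth2.mem_smoothLocus_iff_flat_and_fiber]
  refine ⟨h1.2, ?_⟩
  rw [Scheme.Hom.smoothLocus_eq_top]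
  trivial

theorem main {X Y S : Scheme.{u}} (g : Y ⟶ S) (h : X ⟶ S)
    [LocallyOfFinitePresentation g] [LocallyOfFinitePresentation h] [Flat h]
    (f : X ⟶ Y) (w : f ≫ g = h) (s : S) (hs : Smooth (pullback.snd f (g.fiberι s))) :
    ∃ U : X.Opens, (∀ x : X, h.base x = s → x ∈ U) ∧ Smooth (U.ι ≫ f) := by
  subst w
  haveI : LocallyOfFinitePresentation f :=
    Groth.Agent.Helper2.LfpComp.locallyOfFinitePresentation_of_comp f g inferInstance inferInstance
  refine ⟨f.smoothLocus, ?_, ?_⟩
  · intro x hx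
    have hx' : g (f x) = s := hx
    subst hx'
    exact mem_smoothLocus_of_fibre f g x hs
  · rw [← Scheme.Hom.smoothLocus_eq_top_iff, ← Scheme.Hom.preimage_smoothLocus_eq]
    ext y
    simp

end Groth.Agent.Helper3.SmFibNbhd
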