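import Mathlib

set_option linter.style.haveILetI false
set_option linter.unusedSectionVars false
set_option linter.unusedVariables false

namespace Groth.Agent.Helper3.Chevalley

universe u

open IsLocalRing

variable {A : Type u} [CommRing A] [IsNoetherianRing A] [IsLocalRing A]

/-- ideals of a Noetherian local ring are closed in the adic topology -/
theorem mem_of_forall_mem_sup_pow (I : Ideal A) (x : A)
    (hx : ∀ k : ℕ, x ∈ I ⊔ maximalIdeal A ^ k) : x ∈ I := by
  have h1 : (⨅ i : ℕ, (maximalIdeal A) ^ i • ⊤ : Submodule A (A ⧸ I)) = ⊥ :=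
    Ideal.iInf_pow_smul_eq_bot_of_isLocalRing (maximalIdeal A) (Ideal.IsPrime.ne_top inferInstance)
  have h2 : Ideal.Quotient.mk I x ∈ (⨅ i : ℕ, (maximalIdeal A) ^ i • ⊤ : Submodule A (A ⧸ I)) := by
    rw [Submodule.mem_iInf]
    intro k
    obtain ⟨a, ha, b, hb, rfl⟩ := Submodule.mem_sup.mp (hx k)
    rw [map_add, Ideal.Quotient.eq_zero_iff_mem.mpr ha, zero_add]
    have : Ideal.Quotient.mk I b = b • (1 : A ⧸ I) := by
      rw [Algebra.smul_def, mul_one]; rfl
    rw [this]
    exact Submodule.smul_mem_smul hb Submodule.mem_top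
  rw [h1, Submodule.mem_bot] at h2
  exact Ideal.Quotient.eq_zero_iff_mem.mp h2

/-- the quotient by a positive power of the maximal ideal is Artinian -/
theorem artinian_quot (k : ℕ) : IsArtinianRing (A ⧸ maximalIdeal A ^ (k + 1)) := by
  apply IsLocalRing.quotient_artinian_of_mem_minimalPrimes_of_isLocalRing
  refine ⟨⟨inferInstance, Ideal.pow_le_self (Nat.succ_ne_zero k)⟩, ?_⟩
  rintro q ⟨hq, hq'⟩ _
  exact Ideal.IsPrime.le_of_pow_le hq'

/-- stabilization of `J m ⊔ 𝔪^k` -/
theorem stab (J : ℕ → Ideal A) (hJ : Antitone J) (k : ℕ) :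
    ∃ m₀, ∀ m, m₀ ≤ m → J m ⊔ maximalIdeal A ^ k = J m₀ ⊔ maximalIdeal A ^ k := by
  cases k with
  | zero => exact ⟨0, fun m _ => by simp⟩
  | succ k =>
    haveI := artinian_quot (A := A) k
    let qs : ℕ →o (Ideal (A ⧸ maximalIdeal A ^ (k + 1)))ᵒᵈ :=
      { toFun := fun m => (J m).map (Ideal.Quotient.mk _)
        monotone' := fun i j e => Ideal.map_mono (hJ e) }
    obtain ⟨m₀, hm₀⟩ := IsArtinian.monotone_stabilizes qs
    refine ⟨m₀, fun m hm => ?_⟩
    have h1 : (J m₀).map (Ideal.Quotient.mk (maximalIdeal A ^ (k + 1))) =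
        (J m).map (Ideal.Quotient.mk (maximalIdeal A ^ (k + 1))) := hm₀ m hm
    have h2 := congrArg (Ideal.comap (Ideal.Quotient.mk (maximalIdeal A ^ (k + 1)))) h1
    rw [Ideal.comap_map_of_surjective _ Ideal.Quotient.mk_surjective,
      Ideal.comap_map_of_surjective _ Ideal.Quotient.mk_surjective,
      ← RingHom.ker_eq_comap_bot, Ideal.mk_ker] at h2
    exact h2.symm

/-- **Chevalley's lemma**: in a complete Noetherian local ring, a decreasing sequence of ideals
with zero intersection is eventually contained in any given power of the maximal ideal. -/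
theorem chevalley [IsAdicComplete (maximalIdeal A) A] (J : ℕ → Ideal A) (hJ : Antitone J)
    (hinf : ⨅ m, J m = ⊥) (n : ℕ) : ∃ m, J m ≤ maximalIdeal A ^ n := by
  by_contra hcon
  push Not at hcon
  choose m₀ hm₀ using stab J hJ
  let E : ℕ → Ideal A := fun k => J (m₀ k) ⊔ maximalIdeal A ^ k
  have hE1 : ∀ k m, m₀ k ≤ m → E k = J m ⊔ maximalIdeal A ^ k := fun k m h => (hm₀ k m h).symm
  have hE3 : ∀ k m, E k ≤ J m ⊔ maximalIdeal A ^ k := by
    intro k m
    rcases le_total (m₀ k) m with h | h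
    · rw [hE1 k m h]
    · exact sup_le_sup_right (hJ h) _
  have hE2 : ∀ k, E k ≤ E (k + 1) ⊔ maximalIdeal A ^ k := by
    intro k
    rw [hE1 k (max (m₀ k) (m₀ (k + 1))) (le_max_left _ _),
      hE1 (k + 1) (max (m₀ k) (m₀ (k + 1))) (le_max_right _ _)]
    exact sup_le (le_sup_of_le_left le_sup_left) le_sup_right
  have hEpow : ∀ k, maximalIdeal A ^ k ≤ E k := fun k => le_sup_right
  have hstep : ∀ k (y : A), y ∈ E k → ∃ y' ∈ E (k + 1), y - y' ∈ maximalIdeal A ^ k := by
    intro k y hy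
    obtain ⟨y', hy', z, hz, rfl⟩ := Submodule.mem_sup.mp (hE2 k hy)
    exact ⟨y', hy', by simpa using hz⟩
  obtain ⟨x, hxJ, hxn⟩ := SetLike.not_le_iff_exists.mp (hcon (m₀ n))
  have hxE : x ∈ E n := Ideal.mem_sup_left hxJ
  let W : (j : ℕ) → {y : A // y ∈ E (n + j)} := fun j =>
    Nat.rec (motive := fun j => {y : A // y ∈ E (n + j)}) ⟨x, hxE⟩
      (fun j y => ⟨(hstep (n + j) y.1 y.2).choose, (hstep (n + j) y.1 y.2).choose_spec.1⟩) j
  have hW0 : (W 0).1 = x := rfl
  have hWstep : ∀ j, (W j).1 - (W (j + 1)).1 ∈ maximalIdeal A ^ (n + j) := fun j =>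
    (hstep (n + j) (W j).1 (W j).2).choose_spec.2
  have hcauchy : ∀ i j, i ≤ j → (W i).1 - (W j).1 ∈ maximalIdeal A ^ (n + i) := by
    intro i j hij
    induction j, hij using Nat.le_induction with
    | base => simp
    | succ j hij ih =>
      have : (W i).1 - (W (j + 1)).1 = ((W i).1 - (W j).1) + ((W j).1 - (W (j + 1)).1) := by ring
      rw [this]
      exact Ideal.add_mem _ ih (Ideal.pow_le_pow_right (by omega) (hWstep j))
  let f : ℕ → A := fun k => (W (k - n)).1
  have hf : ∀ {i j}, i ≤ j → f i ≡ f j [SMOD (maximalIdeal A ^ i • ⊤ : Submodule A A)] := by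
    intro i j hij
    rw [SModEq.sub_mem, smul_eq_mul, Ideal.mul_top]
    exact Ideal.pow_le_pow_right (by omega) (hcauchy (i - n) (j - n) (by omega))
  obtain ⟨Lim, hLim⟩ := IsPrecomplete.prec (IsAdicComplete.toIsPrecomplete) hf
  have hLim' : ∀ k, f k - Lim ∈ maximalIdeal A ^ k := by
    intro k
    have := hLim k
    rwa [SModEq.sub_mem, smul_eq_mul, Ideal.mul_top] at this
  have hLimE : ∀ j, Lim ∈ E (n + j) := by
    intro j
    have h1 := hLim' (n + j)
    have h2 : f (n + j) = (W j).1 := by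
      change (W (n + j - n)).1 = (W j).1
      rw [Nat.add_sub_cancel_left]
    rw [h2] at h1
    have h3 : Lim = (W j).1 - ((W j).1 - Lim) := by ring
    rw [h3]
    exact Ideal.sub_mem _ (W j).2 (hEpow _ h1)
  have hLimJ : ∀ m, Lim ∈ J m := by
    intro m
    apply mem_of_forall_mem_sup_pow
    intro k
    have h1 := hE3 (n + k) m (hLimE k)
    have h2 : J m ⊔ maximalIdeal A ^ (n + k) ≤ J m ⊔ maximalIdeal A ^ k :=
      sup_le_sup_left (Ideal.pow_le_pow_right (by omega)) _
    exact h2 h1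
  have hLim0 : Lim = 0 := by
    have : Lim ∈ ⨅ m, J m := by
      rw [Ideal.mem_iInf]; exact hLimJ
    rwa [hinf, Ideal.mem_bot] at this
  have h1 := hLim' n
  rw [hLim0, sub_zero] at h1
  have h2 : f n = x := by
    change (W (n - n)).1 = x
    rw [Nat.sub_self]
    exact hW0
  rw [h2] at h1
  exact hxn h1

section Symbolic

variable {A : Type u} [CommRing A] [IsDomain A] [IsLocalRing A] [IsNoetherianRing A]
  (p : Ideal A) [p.IsPrime]

/-- symbolic power -/
noncomputable def S (m : ℕ) : Ideal A :=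
  ((p.map (algebraMap A (Localization.AtPrime p))) ^ m).comap
    (algebraMap A (Localization.AtPrime p))

lemma S_antitone : Antitone (S p) := fun i j hij =>
  Ideal.comap_mono (Ideal.pow_le_pow_right hij)

lemma f_injective : Function.Injective (algebraMap A (Localization.AtPrime p)) :=
  IsLocalization.injective (Localization.AtPrime p) p.primeCompl_le_nonZeroDivisors

lemma S_iInf : ⨅ m, S p m = ⊥ := by
  rw [eq_bot_iff]
  intro x hx
  rw [Ideal.mem_iInf] at hx
  have hne : p.map (algebraMap A (Localization.AtPrime p)) ≠ ⊤ := by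
    rw [Localization.AtPrime.map_eq_maximalIdeal]
    exact Ideal.IsPrime.ne_top inferInstance
  have h1 := Ideal.iInf_pow_eq_bot_of_isLocalRing _ hne
  have h2 : algebraMap A (Localization.AtPrime p) x ∈
      ⨅ i : ℕ, (p.map (algebraMap A (Localization.AtPrime p))) ^ i := by
    rw [Ideal.mem_iInf]
    intro i
    exact hx i
  rw [h1, Ideal.mem_bot] at h2
  rw [Ideal.mem_bot]
  exact f_injective p (by rw [h2, map_zero])

lemma pow_le_S (n : ℕ) : p ^ n ≤ S p n := by
  unfold S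
  rw [← Ideal.map_pow]
  exact Ideal.le_comap_map

lemma exists_mul_mem (n : ℕ) (x : A) (hx : x ∈ S p n) : ∃ s ∉ p, s * x ∈ p ^ n := by
  unfold S at hx
  rw [Ideal.mem_comap, ← Ideal.map_pow, IsLocalization.mem_map_algebraMap_iff p.primeCompl] at hx
  obtain ⟨⟨a, s⟩, h⟩ := hx
  rw [← map_mul] at h
  have := f_injective p h
  refine ⟨s, s.2, ?_⟩
  rw [mul_comm]
  simp only at this
  rw [this]
  exact a.2

lemma exists_notMem_smul_le (n : ℕ) : ∃ s ∉ p, ∀ x ∈ S p n, s * x ∈ p ^ n := by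
  have key : ∀ N : Ideal A, N.FG → N ≤ S p n → ∃ s ∉ p, ∀ x ∈ N, s * x ∈ p ^ n := by
    intro N hN
    refine Submodule.fg_induction
      (motive := fun (N : Ideal A) _ => N ≤ S p n → ∃ s ∉ p, ∀ x ∈ N, s * x ∈ p ^ n)
      ?_ ?_ N hN
    · intro x hx
      obtain ⟨s, hs, hsx⟩ := exists_mul_mem p n x (hx (Submodule.mem_span_singleton_self x))
      refine ⟨s, hs, fun y hy => ?_⟩
      obtain ⟨a, rfl⟩ := Submodule.mem_span_singleton.mp hy
      rw [smul_eq_mul, mul_left_comm]
      exact Ideal.mul_mem_left _ _ hsx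
    · intro M₁ M₂ _ _ h₁ h₂ hle
      obtain ⟨s₁, hs₁, h₁'⟩ := h₁ (le_trans le_sup_left hle)
      obtain ⟨s₂, hs₂, h₂'⟩ := h₂ (le_trans le_sup_right hle)
      refine ⟨s₁ * s₂, fun h => (Ideal.IsPrime.mem_or_mem inferInstance h).elim hs₁ hs₂, ?_⟩
      intro x hx
      obtain ⟨y, hy, z, hz, rfl⟩ := Submodule.mem_sup.mp hx
      rw [mul_add]
      refine Ideal.add_mem _ ?_ ?_
      · rw [mul_comm s₁ s₂, mul_assoc]
        exact Ideal.mul_mem_left _ _ (h₁' y hy)
      · rw [mul_assoc]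
        exact Ideal.mul_mem_left _ _ (h₂' z hz)
  exact key (S p n) (IsNoetherian.noetherian _) le_rfl

lemma prime_eq_max (hp : ringKrullDim (A ⧸ p) = 1) (q : Ideal A) [hq : q.IsPrime] (hpq : p ≤ q)
    (hne : ¬ q ≤ p) : q = maximalIdeal A := by
  haveI : Ring.KrullDimLE 1 (A ⧸ p) := by
    rw [Ring.KrullDimLE, Order.krullDimLE_iff]
    exact hp.le
  have hker : RingHom.ker (Ideal.Quotient.mk p) ≤ q := by rw [Ideal.mk_ker]; exact hpq
  have hprime : (q.map (Ideal.Quotient.mk p)).IsPrime :=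
    Ideal.map_isPrime_of_surjective Ideal.Quotient.mk_surjective hker
  have hnebot : q.map (Ideal.Quotient.mk p) ≠ ⊥ := by
    intro h
    rw [Ideal.map_eq_bot_iff_le_ker, Ideal.mk_ker] at h
    exact hne h
  have hmax : (q.map (Ideal.Quotient.mk p)).IsMaximal := hprime.isMaximal_of_ne_bot hnebot
  have hcomap : (q.map (Ideal.Quotient.mk p)).comap (Ideal.Quotient.mk p) = q := by
    rw [Ideal.comap_map_of_surjective _ Ideal.Quotient.mk_surjective, ← RingHom.ker_eq_comap_bot,
      Ideal.mk_ker]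
    exact sup_eq_left.mpr hpq
  have : q.IsMaximal := by
    rw [← hcomap]
    exact Ideal.comap_isMaximal_of_surjective _ Ideal.Quotient.mk_surjective
  exact IsLocalRing.eq_maximalIdeal this

lemma exists_pow_mul_le (hp : ringKrullDim (A ⧸ p) = 1) (n : ℕ) :
    ∃ t, maximalIdeal A ^ t * S p n ≤ p ^ n := by
  obtain ⟨s, hs, hsx⟩ := exists_notMem_smul_le p n
  have hrad : maximalIdeal A ≤ (p ^ n ⊔ Ideal.span {s}).radical := by
    rw [Ideal.radical_eq_sInf]
    refine le_sInf ?_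
    rintro q ⟨hle, hq⟩
    haveI := hq
    have hpq : p ≤ q := Ideal.IsPrime.le_of_pow_le (le_trans le_sup_left hle)
    have hsq : s ∈ q := hle (Ideal.mem_sup_right (Ideal.mem_span_singleton_self s))
    rw [prime_eq_max p hp q hpq (fun h => hs (h hsq))]
  obtain ⟨t, ht⟩ := Ideal.exists_pow_le_of_le_radical_of_fg hrad (IsNoetherian.noetherian _)
  refine ⟨t, ?_⟩
  refine le_trans (Ideal.mul_mono_left ht) ?_
  rw [Ideal.mul_le]
  intro a ha b hb
  obtain ⟨a₁, ha₁, a₂, ha₂, rfl⟩ := Submodule.mem_sup.mp ha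
  obtain ⟨c, rfl⟩ := Ideal.mem_span_singleton'.mp ha₂
  rw [add_mul]
  refine Ideal.add_mem _ (Ideal.mul_mem_right _ _ ha₁) ?_
  rw [mul_assoc]
  exact Ideal.mul_mem_left _ _ (hsx b hb)

theorem main [IsAdicComplete (maximalIdeal A) A] (hp : ringKrullDim (A ⧸ p) = 1) (n : ℕ) :
    ∃ m : ℕ, n ≤ m ∧ S p m ≤ p ^ n := by
  obtain ⟨t, ht⟩ := exists_pow_mul_le p hp n
  obtain ⟨c, hc⟩ := Ideal.exists_pow_inf_eq_pow_smul (maximalIdeal A) (S p n : Submodule A A)
  obtain ⟨m₁, hm₁⟩ := chevalley (S p) (S_antitone p) (S_iInf p) (t + c)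
  refine ⟨max m₁ n, le_max_right _ _, ?_⟩
  intro x hx
  have h1 : x ∈ maximalIdeal A ^ (t + c) := hm₁ (S_antitone p (le_max_left _ _) hx)
  have h2 : x ∈ S p n := S_antitone p (le_max_right _ _) hx
  have h3 : x ∈ (maximalIdeal A ^ (t + c) • ⊤ ⊓ (S p n : Submodule A A) : Submodule A A) := by
    refine ⟨?_, h2⟩
    rw [smul_eq_mul, Ideal.mul_top]
    exact h1
  rw [hc (t + c) (by omega), Nat.add_sub_cancel] at h3
  have h4 : (maximalIdeal A ^ t • (maximalIdeal A ^ c • ⊤ ⊓ (S p n : Submodule A A)) :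
      Submodule A A) ≤ maximalIdeal A ^ t * S p n := by
    rw [← smul_eq_mul]
    exact Submodule.smul_mono le_rfl inf_le_right
  exact ht (h4 h3)

end Symbolic

end Groth.Agent.Helper3.Chevalley
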