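import Mathlib
import Groth.Agent.Helper6.Rees2

/-!
# Flat base change of `Ext`-vanishing against the ring
-/

set_option autoImplicit false
set_option linter.style.haveILetI false
set_option linter.unusedSectionVars false
set_option linter.unusedVariables false
set_option linter.style.haveILetI false
set_option linter.unusedSectionVars false
set_option linter.unusedVariables false

universe u

namespace Groth.Agent.Helper3.GorFlatA

open CategoryTheory Abelian TensorProduct
open Groth.Agent.Helper1.TorLib Groth.Agent.Helper6.Rees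

variable (A B : Type u) [CommRing A] [CommRing B] [Algebra A B]

/-- the extension property for maps into the ring transfers along a flat base change -/
theorem ext_transfer [Module.Flat A B] [IsNoetherianRing A] {K P : Type u} [AddCommGroup K]
    [Module A K] [Module.Finite A K] [AddCommGroup P] [Module A P] (ι : K →ₗ[A] P)
    (h : ∀ φ : K →ₗ[A] A, ∃ ψ : P →ₗ[A] A, ψ ∘ₗ ι = φ) :
    ∀ Φ : (B ⊗[A] K) →ₗ[B] B, ∃ Ψ : (B ⊗[A] P) →ₗ[B] B,
      Ψ ∘ₗ (LinearMap.baseChange B ι) = Φ := by
  intro Φ
  haveI : Module.FinitePresentation A K := Module.finitePresentation_of_finite A K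
  let φ₁ : K →ₗ[A] B := (Φ.restrictScalars A) ∘ₗ (TensorProduct.mk A B K 1)
  obtain ⟨k, a, y, hay⟩ := Module.Flat.exists_factorization_of_finitePresentation φ₁
  choose ψi hψi using fun i : Fin k => h ((Finsupp.lapply i) ∘ₗ a)
  let ψ : P →ₗ[A] (Fin k →₀ A) := ∑ i : Fin k, (Finsupp.lsingle i) ∘ₗ (ψi i)
  have hψ : ψ ∘ₗ ι = a := by
    ext x j
    simp only [ψ, LinearMap.coe_comp, Function.comp_apply, LinearMap.coe_sum, Finset.sum_apply,
      Finsupp.lsingle_apply, Finsupp.coe_finset_sum]
    have : ∀ i : Fin k, ψi i (ι x) = a x i := by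
      intro i
      have := LinearMap.congr_fun (hψi i) x
      simpa using this
    simp only [this]
    rw [Finset.sum_eq_single j]
    · simp
    · intro b _ hb
      simp [Finsupp.single_apply, hb]
    · intro hj
      exact absurd (Finset.mem_univ j) hj
  refine ⟨(y ∘ₗ ψ).liftBaseChange B, ?_⟩
  apply LinearMap.restrictScalars_injective A
  apply TensorProduct.ext'
  intro b x
  simp only [LinearMap.restrictScalars_comp, LinearMap.coe_comp, LinearMap.coe_restrictScalars,
    Function.comp_apply, LinearMap.baseChange_tmul, LinearMap.liftBaseChange_tmul]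
  have h1 : ψ (ι x) = a x := LinearMap.congr_fun hψ x
  rw [h1]
  have h2 : y (a x) = φ₁ x := (LinearMap.congr_fun hay x).symm
  rw [h2]
  show b • Φ ((1 : B) ⊗ₜ[A] x) = Φ (b ⊗ₜ[A] x)
  rw [← map_smul, TensorProduct.smul_tmul', smul_eq_mul, mul_one]

/-- **flat base change of Ext-vanishing**: if `Ext^{i+1}_A(M, A) = 0` for a finite module `M` over
a Noetherian ring `A` and `B` is `A`-flat, then `Ext^{i+1}_B(B ⊗ M, B) = 0`. -/
theorem ext_vanish_baseChange [Module.Flat A B] [IsNoetherianRing A] (i : ℕ) :
    ∀ (M : Type u) [AddCommGroup M] [Module A M] [Module.Finite A M],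
    (∀ x : Ext (ModuleCat.of A M) (ModuleCat.of A A) (i + 1), x = 0) →
      (∀ x : Ext (ModuleCat.of B (B ⊗[A] M)) (ModuleCat.of B B) (i + 1), x = 0) := by
  induction i with
  | zero =>
    intro M _ _ _ hM
    obtain ⟨s, π, hπ⟩ := Module.Finite.exists_fin' A M
    have hTA := scOfLinear_shortExact (LinearMap.ker π).subtype π
      (Submodule.injective_subtype _) hπ (LinearMap.exact_subtype_ker_map π)
    let f' : B ⊗[A] (LinearMap.ker π) →ₗ[B] B ⊗[A] (Fin s → A) :=
      LinearMap.baseChange B (LinearMap.ker π).subtype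
    let g' : B ⊗[A] (Fin s → A) →ₗ[B] B ⊗[A] M := LinearMap.baseChange B π
    have hf' : Function.Injective f' :=
      Module.Flat.lTensor_preserves_injective_linearMap _ (Submodule.injective_subtype _)
    have hg' : Function.Surjective g' := LinearMap.lTensor_surjective B hπ
    have hfg' : Function.Exact f' g' :=
      lTensor_exact B (LinearMap.exact_subtype_ker_map π) hπ
    have hTB := scOfLinear_shortExact f' g' hf' hg' hfg'
    haveI : Projective (ModuleCat.of A (Fin s → A)) :=
      (IsProjective.iff_projective (Fin s → A)).mp inferInstance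
    haveI : Projective (ModuleCat.of B (B ⊗[A] (Fin s → A))) :=
      (IsProjective.iff_projective (B ⊗[A] (Fin s → A))).mp inferInstance
    have hA := G2 hTA (ModuleCat.of A A) 0
      (fun x => Ext.eq_zero_of_projective (P := ModuleCat.of A (Fin s → A)) x)
    have hB := G2 hTB (ModuleCat.of B B) 0
      (fun x => Ext.eq_zero_of_projective (P := ModuleCat.of B (B ⊗[A] (Fin s → A))) x)
    have h3A := bridgeB (R := A) (Y := A) (LinearMap.ker π).subtype
    have h3B := bridgeB (R := B) (Y := B) f'
    exact hB.2 (h3B.2 (ext_transfer A B (LinearMap.ker π).subtype (h3A.1 (hA.1 hM))))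
  | succ i ih =>
    intro M _ _ _ hM
    obtain ⟨s, π, hπ⟩ := Module.Finite.exists_fin' A M
    have hTA := scOfLinear_shortExact (LinearMap.ker π).subtype π
      (Submodule.injective_subtype _) hπ (LinearMap.exact_subtype_ker_map π)
    let f' : B ⊗[A] (LinearMap.ker π) →ₗ[B] B ⊗[A] (Fin s → A) :=
      LinearMap.baseChange B (LinearMap.ker π).subtype
    let g' : B ⊗[A] (Fin s → A) →ₗ[B] B ⊗[A] M := LinearMap.baseChange B π
    have hf' : Function.Injective f' :=
      Module.Flat.lTensor_preserves_injective_linearMap _ (Submodule.injective_subtype _)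
    have hg' : Function.Surjective g' := LinearMap.lTensor_surjective B hπ
    have hfg' : Function.Exact f' g' :=
      lTensor_exact B (LinearMap.exact_subtype_ker_map π) hπ
    have hTB := scOfLinear_shortExact f' g' hf' hg' hfg'
    haveI : Projective (ModuleCat.of A (Fin s → A)) :=
      (IsProjective.iff_projective (Fin s → A)).mp inferInstance
    haveI : Projective (ModuleCat.of B (B ⊗[A] (Fin s → A))) :=
      (IsProjective.iff_projective (B ⊗[A] (Fin s → A))).mp inferInstance
    have hA := G1 hTA (ModuleCat.of A A) (i + 1)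
      (fun x => Ext.eq_zero_of_projective (P := ModuleCat.of A (Fin s → A)) x)
      (fun x => Ext.eq_zero_of_projective (P := ModuleCat.of A (Fin s → A)) x)
    have hB := G1 hTB (ModuleCat.of B B) (i + 1)
      (fun x => Ext.eq_zero_of_projective (P := ModuleCat.of B (B ⊗[A] (Fin s → A))) x)
      (fun x => Ext.eq_zero_of_projective (P := ModuleCat.of B (B ⊗[A] (Fin s → A))) x)
    exact hB.2 (ih (LinearMap.ker π) (hA.1 hM))

end Groth.Agent.Helper3.GorFlatA
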