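import Mathlib
import Groth.Agent.Helper6.Rees2

/-!
# Change of rings `B → B/J` for `Ext(-, B)` when `Hom_B(B/J, B) ≅ B/J` and `Ext^{>0}_B(B/J, B) = 0`
-/

set_option autoImplicit false
set_option linter.style.haveILetI false
set_option linter.unusedSectionVars false
set_option linter.unusedVariables false
set_option linter.style.haveILetI false
set_option linter.unusedSectionVars false
set_option linter.unusedVariables false

universe u

namespace Groth.Agent.Helper3.GorFlatB

open CategoryTheory Abelian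
open Groth.Agent.Helper1.TorLib Groth.Agent.Helper6.Rees

section Mid

variable {C : Type*} [Category C] [Abelian C] [HasExt C]
  {T : ShortComplex C} (hT : T.ShortExact) (Y : C)

include hT in
theorem ext_mid_eq_zero (j : ℕ) (h1 : ∀ x : Ext T.X₁ Y j, x = 0) (h3 : ∀ x : Ext T.X₃ Y j, x = 0)
    (x : Ext T.X₂ Y j) : x = 0 := by
  obtain ⟨x₃, rfl⟩ := Ext.contravariant_sequence_exact₂ hT Y x (h1 _)
  rw [h3 x₃, Ext.comp_zero]

end Mid

section Pi

variable {R : Type u} [CommRing R] (X : Type u) [AddCommGroup X] [Module R X] (Y : ModuleCat.{u} R)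

theorem ext_pi_eq_zero (j : ℕ) (h : ∀ x : Ext (ModuleCat.of R X) Y j, x = 0) (s : ℕ) :
    ∀ x : Ext (ModuleCat.of R (Fin s → X)) Y j, x = 0 := by
  induction s with
  | zero =>
    intro x
    have hz : Limits.IsZero (ModuleCat.of R (Fin 0 → X)) := ModuleCat.isZero_of_subsingleton _
    have h1 : x = (Ext.mk₀ (𝟙 (ModuleCat.of R (Fin 0 → X)))).comp x (zero_add j) := by
      rw [Ext.mk₀_id_comp]
    rw [h1, hz.eq_of_src (𝟙 _) 0, Ext.mk₀_zero, Ext.zero_comp]
  | succ s ih =>
    let f : X →ₗ[R] (Fin (s + 1) → X) := LinearMap.single R (fun _ => X) 0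
    let g : (Fin (s + 1) → X) →ₗ[R] (Fin s → X) := LinearMap.funLeft R X Fin.succ
    have hf : Function.Injective f := by
      intro x y hxy
      have := congrFun hxy 0
      simpa [f] using this
    have hg : Function.Surjective g := by
      intro v
      refine ⟨Fin.cons 0 v, ?_⟩
      ext i
      simp [g, LinearMap.funLeft_apply]
    have hfg : Function.Exact f g := by
      intro v
      constructor
      · intro hv
        refine ⟨v 0, ?_⟩
        ext i
        refine Fin.cases ?_ (fun j => ?_) i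
        · simp [f]
        · have := congrFun hv j
          simp only [g, LinearMap.funLeft_apply, Pi.zero_apply] at this
          simp [f, this]
      · rintro ⟨x, rfl⟩
        ext j
        simp [f, g, LinearMap.funLeft_apply, Fin.succ_ne_zero]
    have hT := scOfLinear_shortExact f g hf hg hfg
    exact ext_mid_eq_zero hT Y j h ih

end Pi

variable {B : Type u} [CommRing B] [IsNoetherianRing B] (J : Ideal B)
  (s : (B ⧸ J) →ₗ[B] B) (hs_inj : Function.Injective s)
  (hs_range : ∀ b : B, (∀ j ∈ J, j * b = 0) → ∃ x, s x = b)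

include hs_inj hs_range in
/-- maps from a `J`-torsion module to `B` factor through the socle `s : B/J → B` -/
theorem exists_lift {K : Type u} [AddCommGroup K] [Module B K] (hK : ∀ j ∈ J, ∀ k : K, j • k = 0)
    (φ : K →ₗ[B] B) : ∃ φ' : K →ₗ[B] (B ⧸ J), ∀ k, s (φ' k) = φ k := by
  have hmem : ∀ k, φ k ∈ LinearMap.range s := by
    intro k
    obtain ⟨x, hx⟩ := hs_range (φ k) (fun j hj => by
      rw [← smul_eq_mul, ← map_smul, hK j hj k, map_zero])
    exact ⟨x, hx⟩
  let e := LinearEquiv.ofInjective s hs_inj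
  refine ⟨e.symm.toLinearMap ∘ₗ (φ.codRestrict (LinearMap.range s) hmem), fun k => ?_⟩
  have : (e (e.symm (φ.codRestrict (LinearMap.range s) hmem k)) : B) = φ k := by
    rw [LinearEquiv.apply_symm_apply]
    rfl
  exact this

include hs_inj hs_range in
theorem bridge1 {K P : Type u} [AddCommGroup K] [Module B K] [AddCommGroup P] [Module B P]
    (hK : ∀ j ∈ J, ∀ k : K, j • k = 0) (hP : ∀ j ∈ J, ∀ k : P, j • k = 0) (ι : K →ₗ[B] P) :
    (∀ φ : K →ₗ[B] B, ∃ ψ : P →ₗ[B] B, ψ ∘ₗ ι = φ) ↔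
      (∀ φ : K →ₗ[B] (B ⧸ J), ∃ ψ : P →ₗ[B] (B ⧸ J), ψ ∘ₗ ι = φ) := by
  constructor
  · intro h φ
    obtain ⟨ψ₀, hψ₀⟩ := h (s ∘ₗ φ)
    obtain ⟨ψ, hψ⟩ := exists_lift J s hs_inj hs_range hP ψ₀
    refine ⟨ψ, ?_⟩
    ext k
    apply hs_inj
    rw [LinearMap.comp_apply, hψ]
    exact LinearMap.congr_fun hψ₀ k
  · intro h φ
    obtain ⟨φ', hφ'⟩ := exists_lift J s hs_inj hs_range hK φ
    obtain ⟨ψ', hψ'⟩ := h φ'
    refine ⟨s ∘ₗ ψ', ?_⟩
    ext k
    rw [LinearMap.comp_apply, LinearMap.comp_apply, ← hφ' k, ← hψ']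
    rfl

theorem smul_eq_zero_of_tower (N : Type u) [AddCommGroup N] [Module (B ⧸ J) N] [Module B N]
    [IsScalarTower B (B ⧸ J) N] (j : B) (hj : j ∈ J) (x : N) : j • x = 0 := by
  rw [← algebraMap_smul (B ⧸ J) j x]
  have : algebraMap B (B ⧸ J) j = 0 := by
    rw [Ideal.Quotient.algebraMap_eq, Ideal.Quotient.eq_zero_iff_mem]
    exact hj
  rw [this, zero_smul]

/-- `B`-linear maps between `B/J`-modules are `B/J`-linear -/
theorem bridge2 {K P : Type u} [AddCommGroup K] [Module (B ⧸ J) K] [Module B K]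
    [IsScalarTower B (B ⧸ J) K] [AddCommGroup P] [Module (B ⧸ J) P] [Module B P]
    [IsScalarTower B (B ⧸ J) P] (ι : K →ₗ[B ⧸ J] P) :
    (∀ φ : K →ₗ[B] (B ⧸ J), ∃ ψ : P →ₗ[B] (B ⧸ J), ψ ∘ₗ (ι.restrictScalars B) = φ) ↔
      (∀ φ : K →ₗ[B ⧸ J] (B ⧸ J), ∃ ψ : P →ₗ[B ⧸ J] (B ⧸ J), ψ ∘ₗ ι = φ) := by
  have hsurj : Function.Surjective (algebraMap B (B ⧸ J)) := Ideal.Quotient.mk_surjective
  constructor
  · intro h φ
    obtain ⟨ψ, hψ⟩ := h (φ.restrictScalars B)
    refine ⟨ψ.extendScalarsOfSurjective hsurj, ?_⟩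
    ext x
    exact LinearMap.congr_fun hψ x
  · intro h φ
    obtain ⟨ψ, hψ⟩ := h (φ.extendScalarsOfSurjective hsurj)
    refine ⟨ψ.restrictScalars B, ?_⟩
    ext x
    exact LinearMap.congr_fun hψ x

variable (hExt : ∀ j : ℕ, 1 ≤ j → ∀ x : Ext (ModuleCat.of B (B ⧸ J)) (ModuleCat.of B B) j, x = 0)

include hs_inj hs_range hExt in
/-- **change of rings**: for a finite `B/J`-module `N` and `i ≥ 0`,
`Ext^{i+1}_B(N, B) = 0 ↔ Ext^{i+1}_{B/J}(N, B/J) = 0`. -/
theorem key (i : ℕ) : ∀ (N : Type u) [AddCommGroup N] [Module (B ⧸ J) N] [Module B N]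
    [IsScalarTower B (B ⧸ J) N] [Module.Finite (B ⧸ J) N],
    (∀ x : Ext (ModuleCat.of B N) (ModuleCat.of B B) (i + 1), x = 0) ↔
      (∀ x : Ext (ModuleCat.of (B ⧸ J) N) (ModuleCat.of (B ⧸ J) (B ⧸ J)) (i + 1), x = 0) := by
  induction i with
  | zero =>
    intro N _ _ _ _ _
    obtain ⟨r, π, hπ⟩ := Module.Finite.exists_fin' (B ⧸ J) N
    have hTA := scOfLinear_shortExact ((LinearMap.ker π).subtype.restrictScalars B)
      (π.restrictScalars B) (Submodule.injective_subtype _) hπ (LinearMap.exact_subtype_ker_map π)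
    have hTB := scOfLinear_shortExact (LinearMap.ker π).subtype π
      (Submodule.injective_subtype _) hπ (LinearMap.exact_subtype_ker_map π)
    have hA := G2 hTA (ModuleCat.of B B) 0
      (fun x => ext_pi_eq_zero (B ⧸ J) (ModuleCat.of B B) 1 (hExt 1 le_rfl) r x)
    haveI : Projective (ModuleCat.of (B ⧸ J) (Fin r → (B ⧸ J))) :=
      (IsProjective.iff_projective (Fin r → (B ⧸ J))).mp inferInstance
    have hB := G2 hTB (ModuleCat.of (B ⧸ J) (B ⧸ J)) 0
      (fun x => Ext.eq_zero_of_projective (P := ModuleCat.of (B ⧸ J) (Fin r → (B ⧸ J))) x)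
    have h0 := bridgeB (R := B) (Y := B) ((LinearMap.ker π).subtype.restrictScalars B)
    have h1 := bridge1 J s hs_inj hs_range (K := LinearMap.ker π) (P := Fin r → (B ⧸ J))
      (fun j hj k => smul_eq_zero_of_tower J _ j hj k)
      (fun j hj k => smul_eq_zero_of_tower J _ j hj k)
      ((LinearMap.ker π).subtype.restrictScalars B)
    have h2 := bridge2 J (LinearMap.ker π).subtype
    have h3 := bridgeB (R := B ⧸ J) (Y := B ⧸ J) (LinearMap.ker π).subtype
    exact hA.trans (h0.trans (h1.trans (h2.trans (h3.symm.trans hB.symm))))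
  | succ i ih =>
    intro N _ _ _ _ _
    obtain ⟨r, π, hπ⟩ := Module.Finite.exists_fin' (B ⧸ J) N
    have hTA := scOfLinear_shortExact ((LinearMap.ker π).subtype.restrictScalars B)
      (π.restrictScalars B) (Submodule.injective_subtype _) hπ (LinearMap.exact_subtype_ker_map π)
    have hTB := scOfLinear_shortExact (LinearMap.ker π).subtype π
      (Submodule.injective_subtype _) hπ (LinearMap.exact_subtype_ker_map π)
    have hA := G1 hTA (ModuleCat.of B B) (i + 1)
      (fun x => ext_pi_eq_zero (B ⧸ J) (ModuleCat.of B B) _ (hExt _ (by omega)) r x)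
      (fun x => ext_pi_eq_zero (B ⧸ J) (ModuleCat.of B B) _ (hExt _ (by omega)) r x)
    haveI : Projective (ModuleCat.of (B ⧸ J) (Fin r → (B ⧸ J))) :=
      (IsProjective.iff_projective (Fin r → (B ⧸ J))).mp inferInstance
    have hB := G1 hTB (ModuleCat.of (B ⧸ J) (B ⧸ J)) (i + 1)
      (fun x => Ext.eq_zero_of_projective (P := ModuleCat.of (B ⧸ J) (Fin r → (B ⧸ J))) x)
      (fun x => Ext.eq_zero_of_projective (P := ModuleCat.of (B ⧸ J) (Fin r → (B ⧸ J))) x)
    exact hA.trans ((ih (LinearMap.ker π)).trans hB.symm)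

end Groth.Agent.Helper3.GorFlatB
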