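import Mathlib
import Groth.Prelude.Def_CAlg
import Groth.Agent.Helper6.Bass5
import Groth.Agent.Helper6.Rees3
import Groth.Agent.Helper3.GorFlatA
import Groth.Agent.Helper3.GorFlatB

/-!
# Flat local homomorphisms with Artinian Gorenstein base: `B` Gorenstein iff the fibre is
-/

set_option autoImplicit false
set_option linter.style.haveILetI false
set_option linter.unusedSectionVars false
set_option linter.unusedVariables false
set_option linter.style.haveILetI false
set_option linter.unusedSectionVars false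
set_option linter.unusedVariables false

universe u

namespace Groth.Agent.Helper3.GorFlatC

open CategoryTheory Abelian TensorProduct IsLocalRing
open Groth.Agent.Helper1.TorLib Groth.Agent.Helper6.Rees

section Socle

variable (A : Type u) [CommRing A] [IsLocalRing A] [IsNoetherianRing A]

/-- a nonzero socle element of an Artinian local ring -/
theorem exists_socle (hnil : IsNilpotent (maximalIdeal A)) :
    ∃ σ : A, σ ≠ 0 ∧ ∀ b ∈ maximalIdeal A, b * σ = 0 := by
  classical
  obtain ⟨n, hn⟩ := hnil
  have hex : ∃ n, maximalIdeal A ^ n = ⊥ := ⟨n, hn⟩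
  set k := Nat.find hex with hk
  have hk0 : maximalIdeal A ^ k = ⊥ := Nat.find_spec hex
  have hkne : k ≠ 0 := by
    intro h0
    rw [h0, pow_zero, Ideal.one_eq_top] at hk0
    exact top_ne_bot hk0
  obtain ⟨k', hk'⟩ : ∃ k', k = k' + 1 := ⟨k - 1, by omega⟩
  have hne : maximalIdeal A ^ k' ≠ ⊥ := Nat.find_min hex (by omega)
  obtain ⟨σ, hσm, hσ0⟩ := Submodule.exists_mem_ne_zero_of_ne_bot hne
  refine ⟨σ, hσ0, fun b hb => ?_⟩
  have : b * σ ∈ maximalIdeal A ^ (k' + 1) := by
    rw [pow_succ']
    exact Ideal.mul_mem_mul hb hσm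
  rw [← hk', hk0] at this
  exact this

variable {A}
variable (σ : A) (hσ0 : σ ≠ 0) (hσ : ∀ b ∈ maximalIdeal A, b * σ = 0)

include hσ0 in
theorem mem_of_mul_eq_zero (c : A) (hc : c * σ = 0) : c ∈ maximalIdeal A := by
  by_contra hcm
  have hu : IsUnit c := by
    by_contra hnu
    exact hcm ((mem_maximalIdeal c).2 hnu)
  exact hσ0 ((hu.mul_right_eq_zero).1 hc)

/-- the map `A/m → A`, `1 ↦ x` for a socle element `x` -/
noncomputable def socMap (x : A) (hx : ∀ b ∈ maximalIdeal A, b * x = 0) :
    (A ⧸ maximalIdeal A) →ₗ[A] A :=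
  Submodule.liftQ (maximalIdeal A) (LinearMap.toSpanSingleton A A x) (by
    intro b hb
    rw [LinearMap.mem_ker, LinearMap.toSpanSingleton_apply, smul_eq_mul]
    exact hx b hb)

theorem socMap_mk (x : A) (hx : ∀ b ∈ maximalIdeal A, b * x = 0) (a : A) :
    socMap x hx (Submodule.Quotient.mk a) = a * x := rfl

include hσ0 in
theorem socMap_injective : Function.Injective (socMap σ hσ) := by
  rw [← LinearMap.ker_eq_bot]
  apply Submodule.ker_liftQ_eq_bot
  intro a ha
  rw [LinearMap.mem_ker, LinearMap.toSpanSingleton_apply, smul_eq_mul] at ha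
  exact mem_of_mul_eq_zero σ hσ0 a ha

include hσ0 hσ in
/-- if `Ext^1_A(-, A)` vanishes on finite modules then the socle is generated by `σ` -/
theorem socle_principal
    (hExt : ∀ (N : Type u) [AddCommGroup N] [Module A N] [Module.Finite A N],
      ∀ x : Ext (ModuleCat.of A N) (ModuleCat.of A A) 1, x = 0)
    (x : A) (hx : ∀ b ∈ maximalIdeal A, b * x = 0) : ∃ c : A, x = c * σ := by
  let ι := socMap σ hσ
  have hT := scOfLinear_shortExact ι (LinearMap.range ι).mkQ (socMap_injective σ hσ0 hσ)
    (Submodule.mkQ_surjective _) (LinearMap.exact_map_mkQ_range ι)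
  haveI : Projective (ModuleCat.of A A) := (IsProjective.iff_projective A).mp inferInstance
  have h2 := G2 hT (ModuleCat.of A A) 0
    (fun x => Ext.eq_zero_of_projective (P := ModuleCat.of A A) x)
  have h3 := bridgeB (R := A) (Y := A) ι
  have hext := h3.1 (h2.1 (hExt (A ⧸ LinearMap.range ι)))
  obtain ⟨ψ, hψ⟩ := hext (socMap x hx)
  refine ⟨ψ 1, ?_⟩
  have h4 := LinearMap.congr_fun hψ (Submodule.Quotient.mk 1)
  rw [LinearMap.comp_apply] at h4
  have h5 : ι (Submodule.Quotient.mk 1) = σ • (1 : A) := by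
    show socMap σ hσ (Submodule.Quotient.mk 1) = _
    rw [socMap_mk, one_mul, smul_eq_mul, mul_one]
  rw [h5, map_smul, socMap_mk, one_mul, smul_eq_mul] at h4
  rw [← h4, mul_comm]

end Socle

section Flat

variable {A B : Type u} [CommRing A] [IsNoetherianRing A] [CommRing B]
  [Algebra A B] [Module.Flat A B]

/-- flatness: the annihilator in `B` of `I B` is generated by the annihilator of `I` -/
theorem mem_map_annihilator (I : Ideal A) (b : B) (hb : ∀ a ∈ I, algebraMap A B a * b = 0) :
    b ∈ Ideal.map (algebraMap A B) (Submodule.annihilator I) := by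
  classical
  obtain ⟨S, hS⟩ := (IsNoetherian.noetherian I : I.FG)
  let f : (S →₀ A) →ₗ[A] A := Finsupp.linearCombination A (fun i : S => (i : A))
  let xm : A →ₗ[A] B := LinearMap.toSpanSingleton A B b
  have hSI : ∀ i : S, (i : A) ∈ I := fun i => hS ▸ Submodule.subset_span i.2
  have hcomp : xm ∘ₗ f = 0 := by
    apply Finsupp.lhom_ext'
    intro i
    apply LinearMap.ext_ring
    simp only [LinearMap.coe_comp, Function.comp_apply, Finsupp.lsingle_apply, f, xm,
      Finsupp.linearCombination_single, one_smul, LinearMap.toSpanSingleton_apply,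
      LinearMap.zero_apply]
    rw [Algebra.smul_def]
    exact hb _ (hSI i)
  obtain ⟨k, a, y, hya, haf⟩ := Module.Flat.exists_factorization_of_comp_eq_zero_of_free hcomp
  set c := a 1 with hcdef
  have hc : ∀ j, c j ∈ Submodule.annihilator I := by
    intro j
    rw [Submodule.mem_annihilator]
    intro n hn
    rw [← hS] at hn
    induction hn using Submodule.span_induction with
    | mem x hx =>
      have h1 := LinearMap.congr_fun haf (Finsupp.single ⟨x, hx⟩ 1)
      simp only [LinearMap.coe_comp, Function.comp_apply, f, Finsupp.linearCombination_single,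
        one_smul, LinearMap.zero_apply] at h1
      have h2 : a x = x • c := by
        rw [hcdef, ← map_smul, smul_eq_mul, mul_one]
      rw [h2] at h1
      have h3 := DFunLike.congr_fun h1 j
      simp only [Finsupp.smul_apply, smul_eq_mul, Finsupp.zero_apply] at h3
      rw [smul_eq_mul, mul_comm]
      exact h3
    | zero => simp
    | add x y _ _ hx hy => rw [smul_add, hx, hy, add_zero]
    | smul r x _ hx => rw [smul_comm, hx, smul_zero]
  have hb' : b = ∑ j, algebraMap A B (c j) * y (Finsupp.single j 1) := by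
    have h1 : b = xm 1 := by simp [xm]
    rw [h1, hya, LinearMap.comp_apply, ← hcdef]
    conv_lhs => rw [← Finsupp.univ_sum_single c]
    rw [map_sum]
    apply Finset.sum_congr rfl
    intro j _
    rw [← Algebra.smul_def, ← map_smul, Finsupp.smul_single, smul_eq_mul, mul_one]
  rw [hb']
  exact Ideal.sum_mem _ (fun j _ => Ideal.mul_mem_right _ _ (Ideal.mem_map_of_mem _ (hc j)))

variable [IsLocalRing A] (σ : A) (hσ0 : σ ≠ 0) (hσ : ∀ b ∈ maximalIdeal A, b * σ = 0)
  (hsoc : ∀ x : A, (∀ b ∈ maximalIdeal A, b * x = 0) → ∃ c : A, x = c * σ)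

include hσ in
theorem map_le_ker :
    Ideal.map (algebraMap A B) (maximalIdeal A) ≤
      LinearMap.ker (LinearMap.toSpanSingleton B B (algebraMap A B σ)) := by
  rw [Ideal.map_le_iff_le_comap]
  intro a ha
  rw [Ideal.mem_comap, LinearMap.mem_ker, LinearMap.toSpanSingleton_apply, smul_eq_mul,
    ← map_mul, hσ a ha, map_zero]

/-- the socle map `B/mB → B`, `1 ↦ σ` -/
noncomputable def sB : (B ⧸ Ideal.map (algebraMap A B) (maximalIdeal A)) →ₗ[B] B :=
  Submodule.liftQ _ (LinearMap.toSpanSingleton B B (algebraMap A B σ)) (map_le_ker σ hσ)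

theorem sB_mk (b : B) : sB (B := B) σ hσ (Submodule.Quotient.mk b) = b * algebraMap A B σ := rfl

include hσ0 in
theorem sB_injective : Function.Injective (sB (B := B) σ hσ) := by
  rw [← LinearMap.ker_eq_bot]
  apply Submodule.ker_liftQ_eq_bot
  intro x hx
  rw [LinearMap.mem_ker, LinearMap.toSpanSingleton_apply, smul_eq_mul] at hx
  have h1 := mem_map_annihilator (A := A) (B := B) (Ideal.span {σ}) x (by
    intro a ha
    obtain ⟨r, rfl⟩ := Ideal.mem_span_singleton'.1 ha
    rw [map_mul, mul_assoc, mul_comm _ x, hx, mul_zero])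
  refine Ideal.map_mono ?_ h1
  intro c hc
  rw [Submodule.mem_annihilator] at hc
  have := hc σ (Ideal.mem_span_singleton_self σ)
  exact mem_of_mul_eq_zero σ hσ0 c this

include hsoc in
theorem sB_range (b : B) (hb : ∀ j ∈ Ideal.map (algebraMap A B) (maximalIdeal A), j * b = 0) :
    ∃ x, sB (B := B) σ hσ x = b := by
  have h1 := mem_map_annihilator (A := A) (B := B) (maximalIdeal A) b
    (fun a ha => hb _ (Ideal.mem_map_of_mem _ ha))
  have hle : Submodule.annihilator (maximalIdeal A) ≤ Ideal.span {σ} := by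
    intro c hc
    rw [Submodule.mem_annihilator] at hc
    obtain ⟨d, hd⟩ := hsoc c (fun b hb => by
      have := hc b hb
      rw [smul_eq_mul, mul_comm] at this
      exact this)
    rw [hd]
    exact Ideal.mul_mem_left _ _ (Ideal.mem_span_singleton_self σ)
  have h2 := Ideal.map_mono (f := algebraMap A B) hle h1
  rw [Ideal.map_span, Set.image_singleton] at h2
  obtain ⟨y, hy⟩ := Ideal.mem_span_singleton'.1 h2
  exact ⟨Submodule.Quotient.mk y, by rw [sB_mk, hy]⟩

end Flat

section Main

variable (A B : Type u) [CommRing A] [IsLocalRing A] [IsNoetherianRing A] [CommRing B]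
  [IsLocalRing B] [IsNoetherianRing B] [Algebra A B] [IsLocalHom (algebraMap A B)]
  [Module.Flat A B]

theorem map_maximalIdeal_le :
    Ideal.map (algebraMap A B) (maximalIdeal A) ≤ maximalIdeal B :=
  IsLocalRing.map_maximalIdeal_le (algebraMap A B)

/-- the residue field of `B/J` is `B`-isomorphic to the residue field of `B` -/
noncomputable def residueIso' (J : Ideal B) (hJ : J ≤ maximalIdeal B) [IsLocalRing (B ⧸ J)] :
    ResidueField (B ⧸ J) ≃ₗ[B] ResidueField B := by
  let g : B →ₗ[B] ResidueField (B ⧸ J) := Algebra.linearMap B (ResidueField (B ⧸ J))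
  have hg : Function.Surjective g := by
    intro y
    obtain ⟨y, rfl⟩ := IsLocalRing.residue_surjective y
    obtain ⟨y, rfl⟩ := Ideal.Quotient.mk_surjective y
    exact ⟨y, rfl⟩
  have hker : LinearMap.ker g = maximalIdeal B := by
    ext x
    rw [LinearMap.mem_ker]
    show residue (B ⧸ J) (Ideal.Quotient.mk _ x) = 0 ↔ _
    rw [residue_eq_zero_iff]
    haveI : IsLocalHom (Ideal.Quotient.mk J) :=
      IsLocalHom.of_surjective _ Ideal.Quotient.mk_surjective
    rw [mem_maximalIdeal, mem_maximalIdeal, mem_nonunits_iff, mem_nonunits_iff, isUnit_map_iff]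
  exact ((Submodule.quotEquivOfEq _ _ hker.symm).trans (g.quotKerEquivOfSurjective hg)).symm

/-- **Artinian Gorenstein base**: for a flat local homomorphism `A → B` with `A` Gorenstein of
dimension zero, `B` is Gorenstein iff the closed fibre is. -/
theorem artinian_case [hG : LocCoh.IsGorensteinLocalRing A] (hdim : ringKrullDim A = (0 : ℕ))
    [IsLocalRing (B ⧸ Ideal.map (algebraMap A B) (maximalIdeal A))] :
    LocCoh.IsGorensteinLocalRing B ↔
      LocCoh.IsGorensteinLocalRing (B ⧸ Ideal.map (algebraMap A B) (maximalIdeal A)) := by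
  have sub_iff : ∀ {G : Type u} [AddCommGroup G], Subsingleton G ↔ ∀ x : G, x = 0 := by
    intro G _
    exact ⟨fun h x => Subsingleton.elim _ _, fun h => ⟨fun a b => (h a).trans (h b).symm⟩⟩
  -- vanishing of Ext over A
  obtain ⟨-, hvan⟩ := Groth.Agent.Helper6.Bass.gorenstein_top (A := A) 0 hdim
  have hExtA : ∀ (j : ℕ) (N : Type u) [AddCommGroup N] [Module A N] [Module.Finite A N],
      ∀ x : Ext (ModuleCat.of A N) (ModuleCat.of A A) (j + 1), x = 0 := by
    intro j N _ _ _
    exact sub_iff.1 (hvan N (j + 1) (by omega))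
  -- the socle
  have hart : IsArtinianRing A := by
    rw [isArtinianRing_iff_krullDimLE_zero, Ring.krullDimLE_iff]
    exact hdim.le
  have hnil : IsNilpotent (maximalIdeal A) := (isArtinianRing_iff_isNilpotent_maximalIdeal A).1 hart
  obtain ⟨σ, hσ0, hσ⟩ := exists_socle A hnil
  have hsoc := socle_principal σ hσ0 hσ (fun N _ _ _ => hExtA 0 N)
  -- Ext vanishing over B
  let e := (Algebra.TensorProduct.quotIdealMapEquivTensorQuot B (maximalIdeal A)).toLinearEquiv
  have hExtB : ∀ j : ℕ, 1 ≤ j → ∀ x : Ext (ModuleCat.of B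
      (B ⧸ Ideal.map (algebraMap A B) (maximalIdeal A))) (ModuleCat.of B B) j, x = 0 := by
    intro j hj x
    obtain ⟨j', rfl⟩ : ∃ j', j = j' + 1 := ⟨j - 1, by omega⟩
    have h1 := Groth.Agent.Helper3.GorFlatA.ext_vanish_baseChange A B j' (A ⧸ maximalIdeal A)
      (hExtA j' _)
    exact forall_eq_zero_of_iso e.toModuleIso _ _ h1 x
  have hkey := fun i => Groth.Agent.Helper3.GorFlatB.key
    (Ideal.map (algebraMap A B) (maximalIdeal A)) (sB (B := B) σ hσ) (sB_injective σ hσ0 hσ)
    (sB_range σ hσ hsoc) hExtB i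
    (ResidueField (B ⧸ Ideal.map (algebraMap A B) (maximalIdeal A)))
  rw [Groth.Agent.S0340.result B,
    Groth.Agent.S0340.result (B ⧸ Ideal.map (algebraMap A B) (maximalIdeal A))]
  let r := (residueIso' B _ (map_maximalIdeal_le A B)).toModuleIso
  constructor
  · rintro ⟨n₀, h⟩
    refine ⟨n₀ + 1, fun j hj => ?_⟩
    obtain ⟨i, rfl⟩ : ∃ i, j = i + 1 := ⟨j - 1, by omega⟩
    rw [sub_iff, ← hkey i]
    intro x
    refine forall_eq_zero_of_iso r _ _ ?_ x
    exact sub_iff.mp (h (i + 1) (by omega))
  · rintro ⟨n₁, h⟩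
    refine ⟨n₁ + 1, fun j hj => ?_⟩
    obtain ⟨i, rfl⟩ : ∃ i, j = i + 1 := ⟨j - 1, by omega⟩
    rw [sub_iff]
    intro x
    refine forall_eq_zero_of_iso r.symm _ _ ?_ x
    rw [hkey i]
    exact sub_iff.mp (h (i + 1) (by omega))

end Main

end Groth.Agent.Helper3.GorFlatC
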