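import Mathlib
import Groth.Prelude.Def_CAlg
import Groth.Agent.Helper2.Depth
import Groth.Agent.Helper7.SegGorD
import Groth.Agent.Helper3.GorFlatC

/-!
# Flat local homomorphisms with Gorenstein base: `B` Gorenstein iff the closed fibre is
-/

set_option autoImplicit false
set_option linter.style.haveILetI false
set_option linter.unusedSectionVars false
set_option linter.unusedVariables false
set_option linter.style.haveILetI false
set_option linter.unusedSectionVars false
set_option linter.unusedVariables false

universe u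

namespace Groth.Agent.Helper3.GorFlatD

open CategoryTheory Abelian TensorProduct IsLocalRing
open Groth.Agent.Helper7.SegGor

section Quot

variable {R : Type u} [CommRing R] [IsLocalRing R]

theorem nontrivial_quot (J : Ideal R) (hJ : J ≤ maximalIdeal R) : Nontrivial (R ⧸ J) := by
  apply Ideal.Quotient.nontrivial_iff.mpr
  intro h
  have : (1 : R) ∈ maximalIdeal R := hJ (by rw [h]; trivial)
  exact (Ideal.ne_top_iff_one _).mp (Ideal.IsPrime.ne_top inferInstance) this

theorem isLocalRing_quot (J : Ideal R) (hJ : J ≤ maximalIdeal R) : IsLocalRing (R ⧸ J) := by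
  haveI := nontrivial_quot J hJ
  exact IsLocalRing.of_surjective' (Ideal.Quotient.mk J) Ideal.Quotient.mk_surjective

theorem map_mk_maximalIdeal (J : Ideal R) [IsLocalRing (R ⧸ J)] :
    (maximalIdeal R).map (Ideal.Quotient.mk J) = maximalIdeal (R ⧸ J) := by
  haveI : IsLocalHom (Ideal.Quotient.mk J) :=
    IsLocalHom.of_surjective _ Ideal.Quotient.mk_surjective
  apply le_antisymm (IsLocalRing.map_maximalIdeal_le _)
  intro x hx
  obtain ⟨x, rfl⟩ := Ideal.Quotient.mk_surjective x
  apply Ideal.mem_map_of_mem
  rw [mem_maximalIdeal, mem_nonunits_iff] at hx ⊢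
  intro hu
  exact hx (hu.map _)

end Quot

section Step

variable (A B : Type u) [CommRing A] [IsLocalRing A] [IsNoetherianRing A] [CommRing B]
  [IsLocalRing B] [IsNoetherianRing B] [Algebra A B] [IsLocalHom (algebraMap A B)]
  [Module.Flat A B] (I : Ideal A) (hI : I ≤ maximalIdeal A)

include hI in
theorem map_le_maximalIdeal : I.map (algebraMap A B) ≤ maximalIdeal B :=
  (Ideal.map_mono hI).trans (IsLocalRing.map_maximalIdeal_le _)

instance flat_quot : Module.Flat (A ⧸ I) (B ⧸ I.map (algebraMap A B)) :=
  Module.Flat.of_linearEquiv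
    (Algebra.TensorProduct.quotIdealMapEquivQuotTensor B I).toLinearEquiv

theorem isLocalHom_quot [IsLocalRing (A ⧸ I)] [Nontrivial (B ⧸ I.map (algebraMap A B))] :
    IsLocalHom (algebraMap (A ⧸ I) (B ⧸ I.map (algebraMap A B))) := by
  refine ⟨fun x hx => ?_⟩
  obtain ⟨x, rfl⟩ := Ideal.Quotient.mk_surjective x
  haveI : IsLocalHom (Ideal.Quotient.mk (I.map (algebraMap A B))) :=
    IsLocalHom.of_surjective _ Ideal.Quotient.mk_surjective
  have hx' : IsUnit (Ideal.Quotient.mk (I.map (algebraMap A B)) (algebraMap A B x)) := hx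
  have h1 : IsUnit (algebraMap A B x) := (isUnit_map_iff _ _).1 hx'
  have h2 : IsUnit x := (isUnit_map_iff (algebraMap A B) x).1 h1
  exact h2.map _

include hI in
/-- the closed fibre of `A/I → B/IB` is the closed fibre of `A → B` -/
theorem nonempty_fibre_equiv [IsLocalRing (A ⧸ I)] :
    Nonempty (((B ⧸ I.map (algebraMap A B)) ⧸
      (maximalIdeal (A ⧸ I)).map (algebraMap (A ⧸ I) (B ⧸ I.map (algebraMap A B)))) ≃+*
        (B ⧸ (maximalIdeal A).map (algebraMap A B))) := by
  have hle : I.map (algebraMap A B) ≤ (maximalIdeal A).map (algebraMap A B) := Ideal.map_mono hI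
  have heq : (maximalIdeal (A ⧸ I)).map (algebraMap (A ⧸ I) (B ⧸ I.map (algebraMap A B))) =
      ((maximalIdeal A).map (algebraMap A B)).map (Ideal.Quotient.mk (I.map (algebraMap A B))) := by
    rw [← map_mk_maximalIdeal I, Ideal.map_map, Ideal.map_map]
    rfl
  exact ⟨(Ideal.quotEquivOfEq heq).trans (DoubleQuot.quotQuotEquivQuotOfLE hle)⟩

end Step

section Main

/-- reduction modulo a regular element of the base -/
theorem main_aux : ∀ (d : ℕ) (A B : Type u) [CommRing A] [IsLocalRing A] [IsNoetherianRing A]
    [CommRing B] [IsLocalRing B] [IsNoetherianRing B] [Algebra A B]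
    [IsLocalHom (algebraMap A B)] [Module.Flat A B],
    ringKrullDim A = d → LocCoh.IsGorensteinLocalRing A →
    (LocCoh.IsGorensteinLocalRing B ↔
      LocCoh.IsGorensteinLocalRing (B ⧸ (maximalIdeal A).map (algebraMap A B))) := by
  intro d
  induction d with
  | zero =>
    intro A B _ _ _ _ _ _ _ _ _ hdim hG
    haveI := isLocalRing_quot ((maximalIdeal A).map (algebraMap A B))
      (IsLocalRing.map_maximalIdeal_le _)
    haveI := hG
    exact Groth.Agent.Helper3.GorFlatC.artinian_case A B hdim
  | succ d ih =>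
    intro A B _ _ _ _ _ _ _ _ _ hdim hG
    haveI := hG
    -- a regular element
    have hCM := Groth.Agent.Helper6.Bass.cm_of_gorenstein (A := A)
    have hdepth : LocCoh.depth A A ≠ 0 := by
      intro h0
      have h1 := hCM.supportDim_eq_depth
      rw [Module.supportDim_self_eq_ringKrullDim, hdim, h0] at h1
      have : ((d + 1 : ℕ) : WithBot ℕ∞) = ((0 : ℕ) : WithBot ℕ∞) := by exact_mod_cast h1
      have h2 : (d + 1 : ℕ) = 0 := by exact_mod_cast this
      omega
    rw [Ne, Groth.Agent.Helper2.Depth.depth_eq_zero_iff] at hdepth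
    push Not at hdepth
    obtain ⟨a, ha, hreg⟩ := hdepth
    set I : Ideal A := Ideal.span {a} with hIdef
    have hI : I ≤ maximalIdeal A := (Ideal.span_singleton_le_iff_mem _).mpr ha
    haveI := isLocalRing_quot I hI
    haveI := isLocalRing_quot (I.map (algebraMap A B)) (map_le_maximalIdeal A B I hI)
    haveI := isLocalHom_quot A B I
    have hdim' : ringKrullDim (A ⧸ I) = d := by
      have h := ringKrullDim_quotient_span_singleton_succ_eq_ringKrullDim hreg ha
      rw [hdim] at h
      generalize ringKrullDim (A ⧸ Ideal.span {a}) = x at h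
      induction x with
      | bot =>
        exfalso
        rw [WithBot.bot_add] at h
        exact WithBot.bot_ne_coe (a := ((d + 1 : ℕ) : ℕ∞)) (by exact_mod_cast h)
      | coe y =>
        induction y with
        | top => 
          exfalso
          have : ((⊤ : ℕ∞) : WithBot ℕ∞) + 1 = ((⊤ : ℕ∞) : WithBot ℕ∞) := rfl
          rw [this] at h
          have h2 : (⊤ : ℕ∞) = ((d + 1 : ℕ) : ℕ∞) := by exact_mod_cast h
          exact ENat.top_ne_coe _ h2
        | coe n =>
          have h2 : n + 1 = d + 1 := by exact_mod_cast h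
          have h3 : n = d := by omega
          rw [h3]
          rfl
    have hGA' : LocCoh.IsGorensteinLocalRing (A ⧸ I) :=
      (Groth.Agent.Helper6.Rees.main A a ha hreg).1 hG
    have hIH := ih (A ⧸ I) (B ⧸ I.map (algebraMap A B)) hdim' hGA'
    -- B vs B/IB
    have hmemB : algebraMap A B a ∈ maximalIdeal B :=
      map_le_maximalIdeal A B I hI (Ideal.mem_map_of_mem _ (Ideal.mem_span_singleton_self a))
    have hregB : IsSMulRegular B (algebraMap A B a) := hreg.of_flat
    have hB := Groth.Agent.Helper6.Rees.main B (algebraMap A B a) hmemB hregB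
    have hImap : I.map (algebraMap A B) = Ideal.span {algebraMap A B a} := by
      rw [hIdef, Ideal.map_span, Set.image_singleton]
    have hB' : LocCoh.IsGorensteinLocalRing (B ⧸ Ideal.span {algebraMap A B a}) ↔
        LocCoh.IsGorensteinLocalRing (B ⧸ I.map (algebraMap A B)) :=
      ⟨fun h => gorLocal_of_ringEquiv (Ideal.quotEquivOfEq hImap.symm) h,
        fun h => gorLocal_of_ringEquiv (Ideal.quotEquivOfEq hImap) h⟩
    obtain ⟨e⟩ := nonempty_fibre_equiv A B I hI
    have hF : LocCoh.IsGorensteinLocalRing ((B ⧸ I.map (algebraMap A B)) ⧸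
        (maximalIdeal (A ⧸ I)).map (algebraMap (A ⧸ I) (B ⧸ I.map (algebraMap A B)))) ↔
        LocCoh.IsGorensteinLocalRing (B ⧸ (maximalIdeal A).map (algebraMap A B)) :=
      ⟨fun h => gorLocal_of_ringEquiv e h, fun h => gorLocal_of_ringEquiv e.symm h⟩
    exact hB.trans (hB'.trans (hIH.trans hF))

/-- **flat local homomorphisms with Gorenstein base**: `B` is Gorenstein iff the closed fibre is -/
theorem main (A B : Type u) [CommRing A] [IsLocalRing A] [IsNoetherianRing A]
    [CommRing B] [IsLocalRing B] [IsNoetherianRing B] [Algebra A B]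
    [IsLocalHom (algebraMap A B)] [Module.Flat A B] (hG : LocCoh.IsGorensteinLocalRing A) :
    LocCoh.IsGorensteinLocalRing B ↔
      LocCoh.IsGorensteinLocalRing (B ⧸ (maximalIdeal A).map (algebraMap A B)) := by
  have hfin : (maximalIdeal A).height ≠ ⊤ :=
    Ideal.height_ne_top (Ideal.IsPrime.ne_top inferInstance)
  obtain ⟨d, hd⟩ := ENat.ne_top_iff_exists.mp hfin
  have hdim : ringKrullDim A = ((d : ℕ∞) : WithBot ℕ∞) := by
    rw [← IsLocalRing.maximalIdeal_height_eq_ringKrullDim, ← hd]
  exact main_aux d A B hdim hG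

end Main

end Groth.Agent.Helper3.GorFlatD
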