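import Mathlib
import Groth.Agent.Helper1.LocalFlat

/-!
Local homomorphisms `A → B` of Noetherian local rings inducing isomorphisms `A/m^n ≃ B/n^n`
for all `n` (i.e. isomorphisms on completions): equivalent to flat + `mB = n` + trivial residue
field extension.
-/

set_option autoImplicit false

namespace Groth.Agent.Helper3.ComplIso

open IsLocalRing TensorProduct

universe u

variable {A B : Type u} [CommRing A] [CommRing B] [IsLocalRing A] [IsLocalRing B] [Algebra A B]
  [IsLocalHom (algebraMap A B)]

/-- The finite-level form of "bijective on completions". -/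
def QuotCond (A B : Type u) [CommRing A] [CommRing B] [IsLocalRing A] [IsLocalRing B]
    [Algebra A B] : Prop :=
  ∀ n : ℕ, Function.Surjective ((Ideal.Quotient.mk (maximalIdeal B ^ n)).comp (algebraMap A B)) ∧
    RingHom.ker ((Ideal.Quotient.mk (maximalIdeal B ^ n)).comp (algebraMap A B)) =
      maximalIdeal A ^ n

lemma mem_smul_top_iff (hm : (maximalIdeal A).map (algebraMap A B) = maximalIdeal B) (k : ℕ)
    (x : B) : x ∈ (maximalIdeal A ^ k • ⊤ : Submodule A B) ↔ x ∈ maximalIdeal B ^ k := by
  rw [Ideal.smul_top_eq_map, Submodule.restrictScalars_mem, Ideal.map_pow, hm]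

/-- forward direction -/
theorem quotCond_of_flat [Module.Flat A B]
    (hm : (maximalIdeal A).map (algebraMap A B) = maximalIdeal B)
    (hres : Function.Surjective (algebraMap (ResidueField A) (ResidueField B))) :
    QuotCond A B := by
  have hff : Module.FaithfullyFlat A B := Module.FaithfullyFlat.of_flat_of_isLocalHom
  -- `B = im A + m^k B`
  have h1 : (⊤ : Submodule A B) ≤ LinearMap.range (Algebra.linearMap A B) ⊔
      (maximalIdeal A • ⊤ : Submodule A B) := by
    intro b _
    obtain ⟨r, hr⟩ := hres (residue B b)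
    obtain ⟨a, rfl⟩ := residue_surjective r
    have : b - algebraMap A B a ∈ maximalIdeal B := by
      rw [← Ideal.Quotient.eq_zero_iff_mem]
      change residue B (b - algebraMap A B a) = 0
      rw [map_sub, ← hr]
      exact sub_eq_zero.mpr rfl
    rw [← pow_one (maximalIdeal B), ← mem_smul_top_iff hm 1, pow_one] at this
    refine Submodule.mem_sup.mpr ⟨algebraMap A B a, ⟨a, rfl⟩, _, this, by ring⟩
  have hk : ∀ k : ℕ, (⊤ : Submodule A B) ≤ LinearMap.range (Algebra.linearMap A B) ⊔
      (maximalIdeal A ^ k • ⊤ : Submodule A B) := by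
    intro k
    induction k with
    | zero =>
      rw [pow_zero, Ideal.one_eq_top, Submodule.top_smul]
      exact le_sup_right
    | succ k ih =>
      refine ih.trans (sup_le le_sup_left ?_)
      calc (maximalIdeal A ^ k • ⊤ : Submodule A B)
          ≤ maximalIdeal A ^ k • (LinearMap.range (Algebra.linearMap A B) ⊔
              (maximalIdeal A • ⊤ : Submodule A B)) := Submodule.smul_mono le_rfl h1
        _ = maximalIdeal A ^ k • LinearMap.range (Algebra.linearMap A B) ⊔
              maximalIdeal A ^ k • (maximalIdeal A • ⊤ : Submodule A B) := Submodule.smul_sup _ _ _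
        _ ≤ LinearMap.range (Algebra.linearMap A B) ⊔
              (maximalIdeal A ^ (k + 1) • ⊤ : Submodule A B) := by
            refine sup_le_sup Submodule.smul_le_right ?_
            rw [← Submodule.mul_smul, ← pow_succ]
  intro n
  constructor
  · intro z
    obtain ⟨b, rfl⟩ := Ideal.Quotient.mk_surjective z
    obtain ⟨_, ⟨a, rfl⟩, t, ht, e⟩ := Submodule.mem_sup.mp (hk n (Submodule.mem_top (x := b)))
    refine ⟨a, ?_⟩
    rw [RingHom.comp_apply, Ideal.Quotient.eq, ← e]
    rw [mem_smul_top_iff hm] at ht
    simpa using (Ideal.neg_mem_iff _).mpr ht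
  · ext a
    rw [RingHom.mem_ker, RingHom.comp_apply, Ideal.Quotient.eq_zero_iff_mem, ← hm, ← Ideal.map_pow]
    constructor
    · intro h
      have : a ∈ ((maximalIdeal A ^ n).map (algebraMap A B)).comap (algebraMap A B) := h
      rwa [Ideal.comap_map_eq_self_of_faithfullyFlat] at this
    · intro h
      exact Ideal.mem_map_of_mem _ h

/-- backward direction -/
theorem of_quotCond [IsNoetherianRing A] [IsNoetherianRing B] (h : QuotCond A B) :
    (maximalIdeal A).map (algebraMap A B) = maximalIdeal B ∧
      Function.Surjective (algebraMap (ResidueField A) (ResidueField B)) ∧ Module.Flat A B := by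
  have hle : (maximalIdeal A).map (algebraMap A B) ≤ maximalIdeal B :=
    ((local_hom_TFAE (algebraMap A B)).out 0 2 rfl rfl).mp ‹_›
  have hm : (maximalIdeal A).map (algebraMap A B) = maximalIdeal B := by
    refine le_antisymm hle ?_
    refine Submodule.le_of_le_smul_of_le_jacobson_bot (IsNoetherian.noetherian _)
      (maximalIdeal_le_jacobson ⊥) ?_
    intro b hb
    obtain ⟨a, ha⟩ := (h 2).1 (Ideal.Quotient.mk _ b)
    rw [RingHom.comp_apply, Ideal.Quotient.eq] at ha
    have hab : algebraMap A B a ∈ maximalIdeal B := by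
      have : algebraMap A B a = (algebraMap A B a - b) + b := by ring
      rw [this]
      exact Ideal.add_mem _ (Ideal.pow_le_self two_ne_zero ha) hb
    have ha' : a ∈ maximalIdeal A := by
      rw [mem_maximalIdeal, mem_nonunits_iff] at hab ⊢
      exact fun hu => hab (hu.map _)
    refine Submodule.mem_sup.mpr ⟨algebraMap A B a, Ideal.mem_map_of_mem _ ha', b - algebraMap A B a,
      ?_, by ring⟩
    rw [smul_eq_mul, ← pow_two]
    have := (Ideal.neg_mem_iff _).mpr ha
    simpa using this
  refine ⟨hm, ?_, ?_⟩
  · intro x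
    obtain ⟨b, rfl⟩ := residue_surjective x
    obtain ⟨a, ha⟩ := (h 1).1 (Ideal.Quotient.mk _ b)
    rw [RingHom.comp_apply, Ideal.Quotient.eq, pow_one] at ha
    refine ⟨residue A a, ?_⟩
    change residue B (algebraMap A B a) = residue B b
    rw [← sub_eq_zero, ← map_sub]
    exact Ideal.Quotient.eq_zero_iff_mem.mpr ha
  · refine Groth.Agent.Helper1.LocalFlat.flat_of_flat_baseChange_pow (A := A) (B := B) (M := B)
      (maximalIdeal A) (hm.le.trans (maximalIdeal_le_jacobson ⊥)) ?_
    intro k
    let ψ : (A ⧸ maximalIdeal A ^ k) →ₗ[A ⧸ maximalIdeal A ^ k]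
        (A ⧸ maximalIdeal A ^ k) ⊗[A] B :=
      LinearMap.toSpanSingleton _ _ (1 ⊗ₜ 1)
    have hψ : ∀ a : A, TensorProduct.quotTensorEquivQuotSMul B (maximalIdeal A ^ k)
        (ψ (Ideal.Quotient.mk _ a)) = Submodule.Quotient.mk (algebraMap A B a) := by
      intro a
      have : ψ (Ideal.Quotient.mk _ a) = (Ideal.Quotient.mk (maximalIdeal A ^ k) a) ⊗ₜ[A] (1 : B) := by
        simp [ψ, LinearMap.toSpanSingleton_apply, TensorProduct.smul_tmul']
      rw [this, TensorProduct.quotTensorEquivQuotSMul_mk_tmul, Algebra.algebraMap_eq_smul_one]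
    have hbij : Function.Bijective ψ := by
      constructor
      · rw [injective_iff_map_eq_zero]
        intro r hr
        obtain ⟨a, rfl⟩ := Ideal.Quotient.mk_surjective r
        have h0 := hψ a
        rw [hr, map_zero] at h0
        have h1 : algebraMap A B a ∈ (maximalIdeal A ^ k • ⊤ : Submodule A B) :=
          (Submodule.Quotient.mk_eq_zero _).mp h0.symm
        rw [mem_smul_top_iff hm] at h1
        have h2 : a ∈ RingHom.ker ((Ideal.Quotient.mk (maximalIdeal B ^ k)).comp
            (algebraMap A B)) := by
          rw [RingHom.mem_ker, RingHom.comp_apply, Ideal.Quotient.eq_zero_iff_mem]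
          exact h1
        rw [(h k).2] at h2
        exact Ideal.Quotient.eq_zero_iff_mem.mpr h2
      · intro z
        obtain ⟨b, hb⟩ := Submodule.Quotient.mk_surjective _
          (TensorProduct.quotTensorEquivQuotSMul B (maximalIdeal A ^ k) z)
        obtain ⟨a, ha⟩ := (h k).1 (Ideal.Quotient.mk _ b)
        rw [RingHom.comp_apply, Ideal.Quotient.eq, ← mem_smul_top_iff hm] at ha
        refine ⟨Ideal.Quotient.mk _ a, ?_⟩
        apply (TensorProduct.quotTensorEquivQuotSMul B (maximalIdeal A ^ k)).injective
        rw [hψ, ← hb]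
        exact (Submodule.Quotient.eq _).mpr ha
    exact Module.Flat.of_linearEquiv (LinearEquiv.ofBijective ψ hbij).symm

end Groth.Agent.Helper3.ComplIso
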