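import Mathlib
import Groth.Agent.Helper3.ComplIso
import Groth.Agent.Lead.RegLocal
import Groth.Agent.S0548

/-!
Maps of completions `Â → B̂` compatible with a local homomorphism `A → B` of Noetherian local rings:
* compatibility with the truncations (`eval_compat`);
* surjectivity when `m_A B = m_B` and the residue field map is surjective;
* bijectivity when moreover `A → B` is flat;
* bijectivity when `A` is regular, `dim B = dim A`, the residue field map is surjective and
  `m_B ≤ m_A B + m_B²`.
-/

set_option autoImplicit false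
universe u

namespace Groth.Agent.Helper3.ComplIso2

open IsLocalRing AdicCompletion
open Groth.Agent.Helper3

section

variable (A B : Type u) [CommRing A] [CommRing B] [IsLocalRing A] [IsLocalRing B]
  [IsNoetherianRing A] [IsNoetherianRing B] [Algebra A B] [IsLocalHom (algebraMap A B)]
  (ψ : AdicCompletion (maximalIdeal A) A →+* AdicCompletion (maximalIdeal B) B)
  (hψ : ψ.comp (algebraMap A (AdicCompletion (maximalIdeal A) A)) =
      (algebraMap B (AdicCompletion (maximalIdeal B) B)).comp (algebraMap A B))

include hψ

lemma psi_of (a : A) : ψ (algebraMap A _ a) = algebraMap B _ (algebraMap A B a) :=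
  RingHom.congr_fun hψ a

/-- `ψ` is compatible with the truncations. -/
theorem eval_compat (n : ℕ) (x : AdicCompletion (maximalIdeal A) A)
    (hx : evalₐ (maximalIdeal A) n x = 0) : evalₐ (maximalIdeal B) n (ψ x) = 0 := by
  have hmap : ∀ r ∈ maximalIdeal A ^ n, algebraMap A B r ∈ maximalIdeal B ^ n := by
    intro r hr
    have h1 : (maximalIdeal A).map (algebraMap A B) ≤ maximalIdeal B :=
      Ideal.map_le_iff_le_comap.mpr (IsLocalRing.maximalIdeal_comap (algebraMap A B)).ge
    exact Ideal.pow_right_mono h1 n (Ideal.map_pow (algebraMap A B) _ n ▸ Ideal.mem_map_of_mem _ hr)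
  have hx' : x ∈ (maximalIdeal A ^ n • ⊤ : Submodule A (AdicCompletion (maximalIdeal A) A)) := by
    rw [pow_smul_top_eq_ker_eval (maximalIdeal A).fg_of_isNoetherianRing, LinearMap.mem_ker,
      ← factor_evalₐ_eq_eval _ x (by simp), hx, _root_.map_zero]
  refine Submodule.smul_induction_on hx' ?_ ?_
  · intro r hr y _
    rw [Algebra.smul_def, map_mul, psi_of A B ψ hψ, map_mul]
    have : evalₐ (maximalIdeal B) n (algebraMap B _ (algebraMap A B r)) = 0 := by
      rw [AdicCompletion.algebraMap_apply, evalₐ_of, Ideal.Quotient.eq_zero_iff_mem]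
      exact hmap r hr
    rw [this, zero_mul]
  · intro x y hx hy
    rw [_root_.map_add, _root_.map_add, hx, hy, add_zero]

/-- Surjectivity: `m_A B = m_B` and residue field map surjective. -/
theorem completion_surjective
    (hm : Ideal.map (algebraMap A B) (maximalIdeal A) = maximalIdeal B)
    (hk : Function.Surjective (ResidueField.map (algebraMap A B))) :
    Function.Surjective ψ := by
  have hmax : (maximalIdeal (AdicCompletion (maximalIdeal A) A)).map ψ =
      maximalIdeal (AdicCompletion (maximalIdeal B) B) := by
    rw [maximalIdeal_eq_map, maximalIdeal_eq_map, Ideal.map_map, hψ, ← Ideal.map_map, hm]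
  have : IsHausdorff ((maximalIdeal (AdicCompletion (maximalIdeal A) A)).map ψ)
      (AdicCompletion (maximalIdeal B) B) := by
    rw [hmax]; infer_instance
  apply surjective_of_mk_map_comp_surjective
    (I := maximalIdeal (AdicCompletion (maximalIdeal A) A)) ψ
  rw [hmax]
  intro y
  obtain ⟨y, rfl⟩ := Ideal.Quotient.mk_surjective y
  obtain ⟨b', hb'⟩ := (residueField_map_bijective B).2 (residue _ y)
  obtain ⟨b, rfl⟩ := residue_surjective b'
  obtain ⟨a', ha'⟩ := hk (residue B b)
  obtain ⟨a, rfl⟩ := residue_surjective a'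
  rw [ResidueField.map_residue] at ha' hb'
  refine ⟨algebraMap A _ a, ?_⟩
  rw [RingHom.comp_apply, psi_of A B ψ hψ, Ideal.Quotient.mk_eq_mk_iff_sub_mem]
  have h1 : algebraMap B (AdicCompletion (maximalIdeal B) B) (algebraMap A B a) -
      algebraMap B _ b ∈ maximalIdeal (AdicCompletion (maximalIdeal B) B) := by
    rw [← map_sub, maximalIdeal_eq_map]
    refine Ideal.mem_map_of_mem _ ?_
    rw [← Ideal.Quotient.eq_zero_iff_mem]
    change residue B _ = 0
    rw [map_sub, ha', sub_self]
  have h2 : algebraMap B (AdicCompletion (maximalIdeal B) B) b - y ∈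
      maximalIdeal (AdicCompletion (maximalIdeal B) B) := by
    rw [← Ideal.Quotient.eq_zero_iff_mem]
    change residue _ _ = 0
    rw [map_sub, hb', sub_self]
  have := Ideal.add_mem _ h1 h2
  rwa [sub_add_sub_cancel] at this

/-- flat + `mB = n` + trivial residue extension ⇒ any compatible map of completions is bijective. -/
theorem completion_bijective [Module.Flat A B]
    (hm : Ideal.map (algebraMap A B) (maximalIdeal A) = maximalIdeal B)
    (hk : Function.Bijective (ResidueField.map (algebraMap A B))) :
    Function.Bijective ψ := by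
  classical
  have hres : Function.Surjective (algebraMap (ResidueField A) (ResidueField B)) := by
    intro y
    obtain ⟨x, hx⟩ := hk.2 y
    obtain ⟨a, rfl⟩ := residue_surjective x
    exact ⟨residue A a, by rw [ResidueField.algebraMap_residue, ← hx, ResidueField.map_residue]⟩
  have hQ := ComplIso.quotCond_of_flat hm hres
  refine ⟨?_, completion_surjective A B ψ hψ hm hk.2⟩
  rw [injective_iff_map_eq_zero]
  intro x hx
  refine ext_evalₐ fun n => ?_
  rw [_root_.map_zero]
  obtain ⟨a, ha⟩ := Ideal.Quotient.mk_surjective (evalₐ (maximalIdeal A) n x)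
  have h1 : evalₐ (maximalIdeal A) n (x - algebraMap A _ a) = 0 := by
    rw [map_sub, AdicCompletion.algebraMap_apply, evalₐ_of, Algebra.algebraMap_self,
      RingHom.id_apply, ha, sub_self]
  have h2 := eval_compat A B ψ hψ n _ h1
  rw [map_sub, hx, zero_sub, map_neg, neg_eq_zero, psi_of A B ψ hψ,
    AdicCompletion.algebraMap_apply, evalₐ_of] at h2
  have h3 : a ∈ RingHom.ker ((Ideal.Quotient.mk (maximalIdeal B ^ n)).comp (algebraMap A B)) := h2
  rw [(hQ n).2] at h3
  rw [← ha, Ideal.Quotient.eq_zero_iff_mem]
  exact h3

end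

/-- `A` regular, `dim B = dim A`, residue fields surjective, cotangent map surjective
⇒ any compatible map of completions is bijective. -/
theorem completion_bijective_of_regular (A B : Type u) [CommRing A] [CommRing B]
    [IsRegularLocalRing A] [IsLocalRing B] [IsNoetherianRing B] [Algebra A B]
    [IsLocalHom (algebraMap A B)]
    (hk : Function.Surjective (ResidueField.map (algebraMap A B)))
    (hdim : ringKrullDim B = ringKrullDim A)
    (hcot : maximalIdeal B ≤ Ideal.map (algebraMap A B) (maximalIdeal A) ⊔ maximalIdeal B ^ 2)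
    (ψ : AdicCompletion (maximalIdeal A) A →+* AdicCompletion (maximalIdeal B) B)
    (hψ : ψ.comp (algebraMap A (AdicCompletion (maximalIdeal A) A)) =
      (algebraMap B (AdicCompletion (maximalIdeal B) B)).comp (algebraMap A B)) :
    Function.Bijective ψ := by
  have hle : (maximalIdeal A).map (algebraMap A B) ≤ maximalIdeal B :=
    Ideal.map_le_iff_le_comap.mpr (IsLocalRing.maximalIdeal_comap (algebraMap A B)).ge
  have hm : Ideal.map (algebraMap A B) (maximalIdeal A) = maximalIdeal B := by
    refine le_antisymm hle ?_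
    refine Submodule.le_of_le_smul_of_le_jacobson_bot (maximalIdeal B).fg_of_isNoetherianRing
      (IsLocalRing.maximalIdeal_le_jacobson _) ?_
    rwa [smul_eq_mul, ← pow_two]
  have hsurj := completion_surjective A B ψ hψ hm hk
  refine ⟨?_, hsurj⟩
  have : IsRegularLocalRing (AdicCompletion (maximalIdeal A) A) :=
    (Groth.Agent.S0548.result A).mp inferInstance
  have : IsDomain (AdicCompletion (maximalIdeal A) A) :=
    Groth.Agent.Lead.RegLocal.isDomain_of_isRegularLocalRing _
  rw [injective_iff_map_eq_zero]
  intro x hx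
  by_contra hne
  have h1 := ringKrullDim_succ_le_of_surjective ψ hsurj (mem_nonZeroDivisors_of_ne_zero hne) hx
  rw [Groth.Agent.S0547.result B, Groth.Agent.S0547.result A, hdim] at h1
  have hb : ringKrullDim A ≠ ⊥ := ringKrullDim_ne_bot
  have ht : ringKrullDim A ≠ ⊤ := ringKrullDim_ne_top
  obtain ⟨d, hd⟩ := WithBot.ne_bot_iff_exists.mp hb
  rw [← hd] at h1 ht
  have ht' : d ≠ ⊤ := fun h => ht (by rw [h]; rfl)
  obtain ⟨n, rfl⟩ := ENat.ne_top_iff_exists.mp ht'
  have : ((n + 1 : ℕ) : WithBot ℕ∞) ≤ (n : ℕ) := by exact_mod_cast h1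
  have : n + 1 ≤ n := by exact_mod_cast this
  omega

end Groth.Agent.Helper3.ComplIso2
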