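import Mathlib
import Groth.Prelude.Def_CAlg
import Groth.Agent.S0342
import Groth.Agent.Helper7.GorQuot1
import Groth.Agent.Helper7.SegGorD
import Groth.Agent.Helper3.GorFlatD

/-!
# Polynomial rings over Gorenstein rings are Gorenstein
-/

set_option autoImplicit false
set_option linter.style.haveILetI false
set_option linter.unusedSectionVars false
set_option linter.unusedVariables false
set_option linter.style.haveILetI false
set_option linter.unusedSectionVars false
set_option linter.unusedVariables false

universe u

namespace Groth.Agent.Helper3.GorPoly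

open IsLocalRing Polynomial Ideal
open Groth.Agent.Helper7.SegGor Groth.Agent.Helper7.GorQuot

/-- localisations of `k[X]` (`k` a field) are Gorenstein -/
theorem gorLocal_field_poly (k : Type u) [Field k] (P : Ideal k[X]) [P.IsPrime] :
    LocCoh.IsGorensteinLocalRing (Localization.AtPrime P) := by
  haveI : IsRegularLocalRing (Localization.AtPrime P) := inferInstance
  exact Groth.Agent.S0342.result _

theorem gorLocal_atPrime_of_comap_eq_maximalIdeal (A : Type u) [CommRing A]
    [hA : LocCoh.IsGorensteinLocalRing A] (q : Ideal A[X]) [q.IsPrime]
    (hq : q.comap C = maximalIdeal A) :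
    LocCoh.IsGorensteinLocalRing (Localization.AtPrime q) := by
  haveI : IsNoetherianRing A := hA.toIsNoetherian
  haveI : IsLocalRing A := hA.toIsLocalRing
  haveI : IsNoetherianRing (Localization.AtPrime q) :=
    IsLocalization.isNoetherianRing q.primeCompl _ inferInstance
  haveI : Module.Flat A (Localization.AtPrime q) :=
    Module.Flat.trans A A[X] (Localization.AtPrime q)
  haveI : IsLocalHom (algebraMap A (Localization.AtPrime q)) := by
    refine ⟨fun x hx => ?_⟩
    rw [IsScalarTower.algebraMap_apply A A[X] (Localization.AtPrime q),
      IsLocalization.AtPrime.isUnit_to_map_iff (Localization.AtPrime q) q] at hx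
    have hx' : x ∉ q.comap C := fun h => hx h
    rw [hq, mem_maximalIdeal, mem_nonunits_iff, not_not] at hx'
    exact hx'
  rw [Groth.Agent.Helper3.GorFlatD.main A (Localization.AtPrime q) hA]
  set I : Ideal A[X] := (maximalIdeal A).map C with hI
  have hIq : I ≤ q := Ideal.map_le_iff_le_comap.2 hq.ge
  have hmap : (maximalIdeal A).map (algebraMap A (Localization.AtPrime q)) =
      I.map (algebraMap A[X] (Localization.AtPrime q)) := by
    rw [hI, Ideal.map_map, IsScalarTower.algebraMap_eq A A[X] (Localization.AtPrime q),
      Polynomial.algebraMap_eq]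
  have hker : RingHom.ker (Ideal.Quotient.mk I) ≤ q := by
    rw [Ideal.mk_ker]; exact hIq
  set Q : Ideal (A[X] ⧸ I) := q.map (Ideal.Quotient.mk I) with hQdef
  haveI hQp : Q.IsPrime := Ideal.map_isPrime_of_surjective Ideal.Quotient.mk_surjective hker
  have hcomap : Q.comap (Ideal.Quotient.mk I) = q := by
    rw [hQdef, Ideal.comap_map_of_surjective _ Ideal.Quotient.mk_surjective,
      ← RingHom.ker_eq_comap_bot]
    exact sup_eq_left.2 hker
  obtain ⟨e⟩ := nonempty_locQuot_equiv I q Q hcomap
  letI : Field (A ⧸ maximalIdeal A) := Ideal.Quotient.field (maximalIdeal A)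
  let e2 := Ideal.polynomialQuotientEquivQuotientPolynomial (maximalIdeal A)
  have hG2 : LocCoh.IsGorensteinLocalRing (Localization.AtPrime Q) :=
    gorLocal_comap e2 Q (gorLocal_field_poly (A ⧸ maximalIdeal A) _)
  exact gorLocal_of_ringEquiv ((Ideal.quotEquivOfEq hmap).trans e).symm hG2

attribute [local instance] Polynomial.algebra in
/-- **the polynomial ring over a Gorenstein ring is Gorenstein** -/
theorem gorenstein_polynomial (R : Type u) [CommRing R] [hR : LocCoh.IsGorensteinRing R] :
    LocCoh.IsGorensteinRing R[X] := by
  haveI : IsNoetherianRing R := hR.toIsNoetherian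
  refine { toIsNoetherian := inferInstance, isGorensteinLocalRing_localization := fun p hp => ?_ }
  let q := p.comap C
  let S := (Localization.AtPrime q)[X]
  let pc := Submonoid.map Polynomial.C.toMonoidHom q.primeCompl
  let : Algebra R[X] S := algebra R (Localization.AtPrime q)
  have : IsLocalization pc S := Polynomial.isLocalization _ _
  let pS := p.map (algebraMap R[X] S)
  have disj : Disjoint (pc : Set R[X]) (p : Set R[X]) := by
    simpa [pc, q] using! Set.disjoint_image_left.mpr
      (Set.disjoint_compl_left_iff_subset.mpr (fun _ a ↦ a))
  have : pS.IsPrime := IsLocalization.isPrime_of_isPrime_disjoint pc _ _ ‹_› disj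
  have : IsLocalization.AtPrime (Localization.AtPrime pS) p := by
    convert IsLocalization.isLocalization_isLocalization_atPrime_isLocalization pc
      (Localization.AtPrime pS) pS
    exact (IsLocalization.under_map_of_isPrime_disjoint pc _ ‹_› disj).symm
  have hGq := hR.isGorensteinLocalRing_localization q
  have eq : comap C pS = maximalIdeal (Localization.AtPrime q) := by
    rw [← IsLocalization.map_under q.primeCompl _ (comap C pS),
      ← IsLocalization.map_under q.primeCompl _ (maximalIdeal (Localization.AtPrime q))]
    simp only [comap_comap, S, pS]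
    rw [← Polynomial.algebraMap_eq (R := Localization.AtPrime q),
      ← IsScalarTower.algebraMap_eq R (Localization.AtPrime q) (Localization.AtPrime q)[X],
      IsScalarTower.algebraMap_eq R R[X] (Localization.AtPrime q)[X], ← comap_comap,
      ← Ideal.under_def R[X], IsLocalization.under_map_of_isPrime_disjoint pc _ ‹_› disj]
    simp [q, IsLocalization.AtPrime.under_maximalIdeal (Localization.AtPrime q) q]
  have := gorLocal_atPrime_of_comap_eq_maximalIdeal _ pS eq
  exact gorLocal_of_ringEquiv (IsLocalization.algEquiv p.primeCompl
    (Localization.AtPrime pS) (Localization.AtPrime p)).toRingEquiv this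

/-- polynomial rings in finitely many variables over a Gorenstein ring are Gorenstein -/
theorem gorenstein_mvPolynomial (R : Type u) [CommRing R] [hR : LocCoh.IsGorensteinRing R]
    (ι : Type u) [Finite ι] : LocCoh.IsGorensteinRing (MvPolynomial ι R) := by
  induction ι using Finite.induction_empty_option with
  | of_equiv e H =>
    haveI := H
    exact gorenstein_of_ringEquiv (MvPolynomial.renameEquiv R e).toRingEquiv
  | h_empty => exact gorenstein_of_ringEquiv (MvPolynomial.isEmptyRingEquiv R PEmpty).symm
  | @h_option α _ IH =>
    haveI := IH
    haveI := gorenstein_polynomial (MvPolynomial α R)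
    exact gorenstein_of_ringEquiv (MvPolynomial.optionEquivLeft R α).toRingEquiv.symm

end Groth.Agent.Helper3.GorPoly
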