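import Mathlib
import Groth.Prelude.Def_CAlg
import Groth.Agent.Helper7.GorQuot1
import Groth.Agent.Helper7.SegGorD
import Groth.Agent.Helper3.GorPoly

/-!
# The Gorenstein property under finitely generated field extensions of the base field
-/

set_option autoImplicit false
set_option linter.style.haveILetI false
set_option linter.unusedSectionVars false
set_option linter.unusedVariables false
set_option linter.style.haveILetI false
set_option linter.unusedSectionVars false
set_option linter.unusedVariables false

universe u

namespace Groth.Agent.Helper3.GorField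

open TensorProduct Polynomial IntermediateField
open Groth.Agent.Helper7.SegGor Groth.Agent.Helper7.GorQuot

/-- a localisation of a Gorenstein ring is Gorenstein -/
theorem gorenstein_of_isLocalization (R : Type u) [CommRing R] [hR : LocCoh.IsGorensteinRing R]
    (M : Submonoid R) (S : Type u) [CommRing S] [Algebra R S] [IsLocalization M S] :
    LocCoh.IsGorensteinRing S := by
  haveI : IsNoetherianRing R := hR.toIsNoetherian
  refine { toIsNoetherian := IsLocalization.isNoetherianRing M S inferInstance
           isGorensteinLocalRing_localization := fun q hq => ?_ }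
  haveI : IsLocalization.AtPrime (Localization.AtPrime q) (q.comap (algebraMap R S)) :=
    IsLocalization.isLocalization_isLocalization_atPrime_isLocalization M
      (Localization.AtPrime q) q
  have h := hR.isGorensteinLocalRing_localization (q.comap (algebraMap R S))
  exact gorLocal_of_ringEquiv (IsLocalization.algEquiv (q.comap (algebraMap R S)).primeCompl
    (Localization.AtPrime (q.comap (algebraMap R S))) (Localization.AtPrime q)).toRingEquiv h

/-- adjoining a root of a monic polynomial to a Gorenstein ring -/
theorem gorenstein_adjoinRoot (R : Type u) [CommRing R] [hR : LocCoh.IsGorensteinRing R]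
    (q : R[X]) (hq : q.Monic) : LocCoh.IsGorensteinRing (AdjoinRoot q) := by
  haveI := Groth.Agent.Helper3.GorPoly.gorenstein_polynomial R
  have hreg : IsSMulRegular R[X] q := hq.isRegular.left.isSMulRegular
  exact gorenstein_quotient q hreg

/-- the property: base change along `k → K` preserves Gorenstein rings -/
def PG (k K : Type u) [CommRing k] [CommRing K] [Algebra k K] : Prop :=
  ∀ (R : Type u) [CommRing R] [Algebra k R] [LocCoh.IsGorensteinRing R],
    LocCoh.IsGorensteinRing (K ⊗[k] R)

theorem pg_of_algEquiv {k K K' : Type u} [CommRing k] [CommRing K] [CommRing K'] [Algebra k K]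
    [Algebra k K'] (e : K ≃ₐ[k] K') (h : PG k K) : PG k K' := by
  intro R _ _ _
  haveI := h R
  exact gorenstein_of_ringEquiv
    (Algebra.TensorProduct.congr e (AlgEquiv.refl : R ≃ₐ[k] R)).toRingEquiv

theorem pg_self (k : Type u) [CommRing k] : PG k k := by
  intro R _ _ hR
  exact gorenstein_of_ringEquiv (Algebra.TensorProduct.lid k R).symm.toRingEquiv

theorem pg_trans {k K' K : Type u} [CommRing k] [CommRing K'] [CommRing K] [Algebra k K']
    [Algebra k K] [Algebra K' K] [IsScalarTower k K' K] (h1 : PG k K') (h2 : PG K' K) :
    PG k K := by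
  intro R _ _ _
  haveI := h1 R
  haveI := h2 (K' ⊗[k] R)
  exact gorenstein_of_ringEquiv (Algebra.TensorProduct.cancelBaseChange k K' K K R).toRingEquiv

/-- adjoining a root of a monic polynomial -/
theorem pg_adjoinRoot (k : Type u) [CommRing k] (F : k[X]) (hF : F.Monic) :
    PG k (AdjoinRoot F) := by
  intro R _ _ hR
  haveI : LocCoh.IsGorensteinRing (R ⊗[k] k) :=
    gorenstein_of_ringEquiv (Algebra.TensorProduct.rid k R R).symm.toRingEquiv
  have hq : (F.map (Algebra.TensorProduct.includeRight : k →ₐ[k] R ⊗[k] k).toRingHom).Monic :=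
    hF.map _
  haveI := gorenstein_adjoinRoot (R ⊗[k] k) _ hq
  have e1 := AdjoinRoot.tensorAlgEquiv (R := k) (S := k) (T := R) F _ rfl
  exact gorenstein_of_ringEquiv
    ((Algebra.TensorProduct.comm k (AdjoinRoot F) R).toRingEquiv.trans e1.toRingEquiv).symm

/-- rational function fields -/
theorem pg_ratFunc (k : Type u) [Field k] : PG k (RatFunc k) := by
  intro R _ _ hR
  haveI := Groth.Agent.Helper3.GorPoly.gorenstein_polynomial R
  haveI : LocCoh.IsGorensteinRing (k[X] ⊗[k] R) :=
    gorenstein_of_ringEquiv ((polyEquivTensor k R).toRingEquiv.trans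
      (Algebra.TensorProduct.comm k R k[X]).toRingEquiv)
  letI : Algebra (k[X] ⊗[k] R) (RatFunc k ⊗[k] R) :=
    (Algebra.TensorProduct.map (IsScalarTower.toAlgHom k k[X] (RatFunc k))
      (AlgHom.id k R)).toRingHom.toAlgebra
  haveI : IsScalarTower k[X] (k[X] ⊗[k] R) (RatFunc k ⊗[k] R) := by
    refine IsScalarTower.of_algebraMap_eq (R := k[X]) (S := k[X] ⊗[k] R)
      (A := RatFunc k ⊗[k] R) ?_
    intro p
    simp [RingHom.algebraMap_toAlgebra]
  have hloc := IsLocalization.tensorProduct_tensorProduct k R (nonZeroDivisors k[X])
    (RatFunc k) (by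
      ext a
      simp [RingHom.algebraMap_toAlgebra])
  haveI := hloc
  exact gorenstein_of_isLocalization (k[X] ⊗[k] R)
    (Algebra.algebraMapSubmonoid (k[X] ⊗[k] R) (nonZeroDivisors k[X])) (RatFunc k ⊗[k] R)

/-- simple field extensions -/
theorem pg_simple (k E : Type u) [Field k] [Field E] [Algebra k E] (x : E) : PG k k⟮x⟯ := by
  by_cases hx : IsIntegral k x
  · exact pg_of_algEquiv (adjoinRootEquivAdjoin k hx)
      (pg_adjoinRoot k (minpoly k x) (minpoly.monic hx))
  · have ht : Transcendental k x := fun h => hx h.isIntegral
    exact pg_of_algEquiv (RatFunc.algEquivOfTranscendental x ht) (pg_ratFunc k)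

/-- the underlying field of `M.restrictScalars k` -/
noncomputable def restrictScalarsEquiv {k K : Type u} [Field k] [Field K] [Algebra k K]
    (L : IntermediateField k K) (M : IntermediateField L K) :
    M ≃ₐ[k] (M.restrictScalars k) :=
  { toFun := fun x => ⟨x.1, x.2⟩
    invFun := fun x => ⟨x.1, x.2⟩
    left_inv := fun _ => rfl
    right_inv := fun _ => rfl
    map_mul' := fun _ _ => rfl
    map_add' := fun _ _ => rfl
    commutes' := fun _ => rfl }

/-- **finitely generated field extensions preserve the Gorenstein property under base change** -/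
theorem pg_of_fg (k K : Type u) [Field k] [Field K] [Algebra k K]
    (hfg : ∃ s : Finset K, IntermediateField.adjoin k (s : Set K) = ⊤) : PG k K := by
  obtain ⟨s, hs⟩ := hfg
  have h : ∀ L : IntermediateField k K, L.FG → PG k L := by
    intro L hL
    refine induction_on_adjoin_fg (fun L => PG k L) ?_ ?_ L hL
    · exact pg_of_algEquiv (IntermediateField.botEquiv k K).symm (pg_self k)
    · intro L x hL
      have h1 : PG L L⟮x⟯ := pg_simple L K x
      have h2 : PG k L⟮x⟯ := pg_trans hL h1
      exact pg_of_algEquiv (restrictScalarsEquiv L L⟮x⟯) h2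
  have htop := h ⊤ ⟨s, hs⟩
  exact pg_of_algEquiv IntermediateField.topEquiv htop

end Groth.Agent.Helper3.GorField
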