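import Mathlib
import Groth.Prelude.Def_CAlg
import Groth.Agent.Helper3.GorFlatD

/-!
# Faithfully flat descent of `Ext`-vanishing against the ring; Gorenstein descends
-/

set_option autoImplicit false
set_option linter.style.haveILetI false
set_option linter.unusedSectionVars false
set_option linter.unusedVariables false
set_option linter.style.haveILetI false
set_option linter.unusedSectionVars false
set_option linter.unusedVariables false

universe u

namespace Groth.Agent.Helper3.GorFlatE

open CategoryTheory Abelian TensorProduct IsLocalRing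
open Groth.Agent.Helper1.TorLib Groth.Agent.Helper6.Rees

variable (A B : Type u) [CommRing A] [CommRing B] [Algebra A B]

/-- the extension property for maps into the ring descends along a faithfully flat base change -/
theorem ext_descend [Module.FaithfullyFlat A B] {K : Type u} [AddCommGroup K]
    [Module A K] [Module.Finite A K] (s : ℕ) (ι : K →ₗ[A] (Fin s → A))
    (h : ∀ Φ : (B ⊗[A] K) →ₗ[B] B, ∃ Ψ : (B ⊗[A] (Fin s → A)) →ₗ[B] B,
      Ψ ∘ₗ (LinearMap.baseChange B ι) = Φ) :
    ∀ φ : K →ₗ[A] A, ∃ ψ : (Fin s → A) →ₗ[A] A, ψ ∘ₗ ι = φ := by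
  intro φ
  obtain ⟨r, k, hk⟩ := Module.Finite.exists_fin (R := A) (M := K)
  -- evaluation at the generators
  let E : (K →ₗ[A] A) →ₗ[A] (Fin r → A) :=
    LinearMap.pi (fun j => LinearMap.applyₗ (k j))
  have hE : ∀ φ₁ φ₂ : K →ₗ[A] A, E φ₁ = E φ₂ → φ₁ = φ₂ := by
    intro φ₁ φ₂ h12
    apply LinearMap.ext_on_range hk
    intro j
    exact congrFun h12 j
  let Rι : ((Fin s → A) →ₗ[A] A) →ₗ[A] (K →ₗ[A] A) := LinearMap.lcomp A A ι
  let T : ((Fin s → A) →ₗ[A] A) →ₗ[A] (Fin r → A) := E ∘ₗ Rι
  suffices hmem : E φ ∈ LinearMap.range T by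
    obtain ⟨ψ, hψ⟩ := hmem
    exact ⟨ψ, hE _ _ hψ⟩
  let q := (LinearMap.range T).mkQ
  suffices hq : q (E φ) = 0 by
    rwa [Submodule.mkQ_apply, Submodule.Quotient.mk_eq_zero] at hq
  apply Module.FaithfullyFlat.tensorProduct_mk_injective (A := A) (B := B)
  rw [map_zero]
  show (1 : B) ⊗ₜ[A] q (E φ) = 0
  -- the extension over `B`
  let Φ : (B ⊗[A] K) →ₗ[B] B := ((Algebra.linearMap A B) ∘ₗ φ).liftBaseChange B
  obtain ⟨Ψ, hΨ⟩ := h Φ
  let w : B ⊗[A] ((Fin s → A) →ₗ[A] A) :=
    ∑ i : Fin s, Ψ ((1 : B) ⊗ₜ[A] (Pi.single i (1 : A))) ⊗ₜ[A] (LinearMap.proj i)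
  have hw : (LinearMap.baseChange B T) w = (1 : B) ⊗ₜ[A] E φ := by
    apply (TensorProduct.piScalarRight A B B (Fin r)).injective
    ext j
    simp only [w, map_sum, LinearMap.baseChange_tmul, TensorProduct.piScalarRight_apply,
      TensorProduct.piScalarRightHom_tmul, Finset.sum_apply]
    have h1 : ∀ i : Fin s, T (LinearMap.proj i) j = (ι (k j)) i := fun i => rfl
    simp only [h1]
    have h2 : E φ j = φ (k j) := rfl
    rw [h2]
    have h3 : ∑ i : Fin s, (ι (k j)) i • Ψ ((1 : B) ⊗ₜ[A] (Pi.single i (1 : A))) =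
        Ψ ((1 : B) ⊗ₜ[A] ι (k j)) := by
      conv_rhs => rw [← Finset.univ_sum_single (ι (k j))]
      rw [TensorProduct.tmul_sum, map_sum]
      apply Finset.sum_congr rfl
      intro i _
      have : (Pi.single i ((ι (k j)) i) : Fin s → A) = (ι (k j)) i • Pi.single i (1 : A) := by
        rw [← Pi.single_smul, smul_eq_mul, mul_one]
      rw [this, TensorProduct.tmul_smul, LinearMap.map_smul_of_tower]
    rw [h3]
    have h4 : Ψ ((1 : B) ⊗ₜ[A] ι (k j)) = Φ ((1 : B) ⊗ₜ[A] k j) := by
      rw [← hΨ, LinearMap.comp_apply, LinearMap.baseChange_tmul]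
    rw [h4]
    simp [Φ, Algebra.smul_def]
  have h5 : (LinearMap.baseChange B q) ((LinearMap.baseChange B T) w) = 0 := by
    rw [← LinearMap.comp_apply, ← LinearMap.baseChange_comp]
    have : q ∘ₗ T = 0 := by
      ext x
      simp only [LinearMap.comp_apply, q, Submodule.mkQ_apply, LinearMap.zero_apply]
      rw [Submodule.Quotient.mk_eq_zero]
      exact ⟨x, rfl⟩
    rw [this, LinearMap.baseChange_zero, LinearMap.zero_apply]
  rw [hw, LinearMap.baseChange_tmul] at h5
  exact h5

/-- **faithfully flat descent of Ext-vanishing** -/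
theorem ext_vanish_of_baseChange [Module.FaithfullyFlat A B] [IsNoetherianRing A] (i : ℕ) :
    ∀ (M : Type u) [AddCommGroup M] [Module A M] [Module.Finite A M],
    (∀ x : Ext (ModuleCat.of B (B ⊗[A] M)) (ModuleCat.of B B) (i + 1), x = 0) →
      (∀ x : Ext (ModuleCat.of A M) (ModuleCat.of A A) (i + 1), x = 0) := by
  induction i with
  | zero =>
    intro M _ _ _ hM
    obtain ⟨s, π, hπ⟩ := Module.Finite.exists_fin' A M
    have hTA := scOfLinear_shortExact (LinearMap.ker π).subtype π
      (Submodule.injective_subtype _) hπ (LinearMap.exact_subtype_ker_map π)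
    let f' : B ⊗[A] (LinearMap.ker π) →ₗ[B] B ⊗[A] (Fin s → A) :=
      LinearMap.baseChange B (LinearMap.ker π).subtype
    let g' : B ⊗[A] (Fin s → A) →ₗ[B] B ⊗[A] M := LinearMap.baseChange B π
    have hf' : Function.Injective f' :=
      Module.Flat.lTensor_preserves_injective_linearMap _ (Submodule.injective_subtype _)
    have hg' : Function.Surjective g' := LinearMap.lTensor_surjective B hπ
    have hfg' : Function.Exact f' g' :=
      lTensor_exact B (LinearMap.exact_subtype_ker_map π) hπ
    have hTB := scOfLinear_shortExact f' g' hf' hg' hfg'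
    haveI : Projective (ModuleCat.of A (Fin s → A)) :=
      (IsProjective.iff_projective (Fin s → A)).mp inferInstance
    haveI : Projective (ModuleCat.of B (B ⊗[A] (Fin s → A))) :=
      (IsProjective.iff_projective (B ⊗[A] (Fin s → A))).mp inferInstance
    have hA := G2 hTA (ModuleCat.of A A) 0
      (fun x => Ext.eq_zero_of_projective (P := ModuleCat.of A (Fin s → A)) x)
    have hB := G2 hTB (ModuleCat.of B B) 0
      (fun x => Ext.eq_zero_of_projective (P := ModuleCat.of B (B ⊗[A] (Fin s → A))) x)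
    have h3A := bridgeB (R := A) (Y := A) (LinearMap.ker π).subtype
    have h3B := bridgeB (R := B) (Y := B) f'
    exact hA.2 (h3A.2 (ext_descend A B s (LinearMap.ker π).subtype (h3B.1 (hB.1 hM))))
  | succ i ih =>
    intro M _ _ _ hM
    obtain ⟨s, π, hπ⟩ := Module.Finite.exists_fin' A M
    have hTA := scOfLinear_shortExact (LinearMap.ker π).subtype π
      (Submodule.injective_subtype _) hπ (LinearMap.exact_subtype_ker_map π)
    let f' : B ⊗[A] (LinearMap.ker π) →ₗ[B] B ⊗[A] (Fin s → A) :=
      LinearMap.baseChange B (LinearMap.ker π).subtype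
    let g' : B ⊗[A] (Fin s → A) →ₗ[B] B ⊗[A] M := LinearMap.baseChange B π
    have hf' : Function.Injective f' :=
      Module.Flat.lTensor_preserves_injective_linearMap _ (Submodule.injective_subtype _)
    have hg' : Function.Surjective g' := LinearMap.lTensor_surjective B hπ
    have hfg' : Function.Exact f' g' :=
      lTensor_exact B (LinearMap.exact_subtype_ker_map π) hπ
    have hTB := scOfLinear_shortExact f' g' hf' hg' hfg'
    haveI : Projective (ModuleCat.of A (Fin s → A)) :=
      (IsProjective.iff_projective (Fin s → A)).mp inferInstance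
    haveI : Projective (ModuleCat.of B (B ⊗[A] (Fin s → A))) :=
      (IsProjective.iff_projective (B ⊗[A] (Fin s → A))).mp inferInstance
    have hA := G1 hTA (ModuleCat.of A A) (i + 1)
      (fun x => Ext.eq_zero_of_projective (P := ModuleCat.of A (Fin s → A)) x)
      (fun x => Ext.eq_zero_of_projective (P := ModuleCat.of A (Fin s → A)) x)
    have hB := G1 hTB (ModuleCat.of B B) (i + 1)
      (fun x => Ext.eq_zero_of_projective (P := ModuleCat.of B (B ⊗[A] (Fin s → A))) x)
      (fun x => Ext.eq_zero_of_projective (P := ModuleCat.of B (B ⊗[A] (Fin s → A))) x)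
    exact hA.2 (ih (LinearMap.ker π) (hB.1 hM))

/-- **Gorenstein descends along flat local homomorphisms** -/
theorem gorLocal_descend (A B : Type u) [CommRing A] [IsLocalRing A] [IsNoetherianRing A]
    [CommRing B] [IsLocalRing B] [IsNoetherianRing B] [Algebra A B]
    [IsLocalHom (algebraMap A B)] [Module.Flat A B] (hB : LocCoh.IsGorensteinLocalRing B) :
    LocCoh.IsGorensteinLocalRing A := by
  haveI : Module.FaithfullyFlat A B := Module.FaithfullyFlat.of_flat_of_isLocalHom
  have sub_iff : ∀ {G : Type u} [AddCommGroup G], Subsingleton G ↔ ∀ x : G, x = 0 := by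
    intro G _
    exact ⟨fun h x => Subsingleton.elim _ _, fun h => ⟨fun a b => (h a).trans (h b).symm⟩⟩
  have hfin : (maximalIdeal B).height ≠ ⊤ :=
    Ideal.height_ne_top (Ideal.IsPrime.ne_top inferInstance)
  obtain ⟨d, hd⟩ := ENat.ne_top_iff_exists.mp hfin
  have hdim : ringKrullDim B = ((d : ℕ∞) : WithBot ℕ∞) := by
    rw [← IsLocalRing.maximalIdeal_height_eq_ringKrullDim, ← hd]
  haveI := hB
  obtain ⟨-, hvan⟩ := Groth.Agent.Helper6.Bass.gorenstein_top (A := B) d hdim
  rw [Groth.Agent.S0340.result A]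
  refine ⟨d + 1, fun j hj => ?_⟩
  obtain ⟨i, rfl⟩ : ∃ i, j = i + 1 := ⟨j - 1, by omega⟩
  rw [sub_iff]
  exact ext_vanish_of_baseChange A B i (ResidueField A)
    (sub_iff.1 (hvan (B ⊗[A] ResidueField A) (i + 1) hj))

end Groth.Agent.Helper3.GorFlatE
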