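import Mathlib
import Groth.Prelude.Def_CAlg
import Groth.Agent.Helper1.CoreF
import Groth.Agent.Helper3.GorField
import Groth.Agent.Helper3.GorFlatE

/-!
# Gorenstein local rings and finitely generated extensions of the base field
-/

set_option autoImplicit false
set_option linter.style.haveILetI false
set_option linter.unusedSectionVars false
set_option linter.unusedVariables false
set_option linter.style.haveILetI false
set_option linter.unusedSectionVars false
set_option linter.unusedVariables false

universe u

namespace Groth.Agent.Helper3.GorField2

open TensorProduct IsLocalRing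
open Groth.Agent.Helper7.SegGor Groth.Agent.Helper3.GorField

/-- a Gorenstein local ring is a Gorenstein ring -/
theorem gorenstein_of_gorLocal (B : Type u) [CommRing B] [hB : LocCoh.IsGorensteinLocalRing B] :
    LocCoh.IsGorensteinRing B :=
  { toIsNoetherian := hB.toIsNoetherian
    isGorensteinLocalRing_localization := fun P _ =>
      Groth.Agent.Helper1.Core.gorenstein_localization B P }

/-- descent to the base of a flat ring map, localised -/
theorem gorLocal_of_atPrime_flat (B C : Type u) [CommRing B] [IsLocalRing B] [IsNoetherianRing B]
    [CommRing C] [IsNoetherianRing C] [Algebra B C] [Module.Flat B C] (q : Ideal C) [q.IsPrime]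
    (hq : q.comap (algebraMap B C) = maximalIdeal B)
    (h : LocCoh.IsGorensteinLocalRing (Localization.AtPrime q)) :
    LocCoh.IsGorensteinLocalRing B := by
  haveI : IsNoetherianRing (Localization.AtPrime q) :=
    IsLocalization.isNoetherianRing q.primeCompl _ inferInstance
  haveI : Module.Flat B (Localization.AtPrime q) := Module.Flat.trans B C (Localization.AtPrime q)
  haveI : IsLocalHom (algebraMap B (Localization.AtPrime q)) := by
    refine ⟨fun x hx => ?_⟩
    rw [IsScalarTower.algebraMap_apply B C (Localization.AtPrime q),
      IsLocalization.AtPrime.isUnit_to_map_iff (Localization.AtPrime q) q] at hx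
    have hx' : x ∉ q.comap (algebraMap B C) := fun h => hx h
    rw [hq, mem_maximalIdeal, mem_nonunits_iff, not_not] at hx'
    exact hx'
  exact Groth.Agent.Helper3.GorFlatE.gorLocal_descend B (Localization.AtPrime q) h

theorem s1760 (k k' : Type u) [Field k] [Field k'] [Algebra k k']
    (hfg : ∃ s : Finset k', IntermediateField.adjoin k (s : Set k') = ⊤) (B : Type u) [CommRing B]
    [IsLocalRing B] [IsNoetherianRing B] [Algebra k B] (q : PrimeSpectrum (B ⊗[k] k'))
    (hq : q.asIdeal.comap (algebraMap B (B ⊗[k] k')) = IsLocalRing.maximalIdeal B) :
    LocCoh.IsGorensteinLocalRing B ↔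
      LocCoh.IsGorensteinLocalRing (Localization.AtPrime q.asIdeal) := by
  constructor
  · intro hB
    haveI := hB
    haveI := gorenstein_of_gorLocal B
    haveI := pg_of_fg k k' hfg B
    haveI : LocCoh.IsGorensteinRing (B ⊗[k] k') :=
      gorenstein_of_ringEquiv (Algebra.TensorProduct.comm k k' B).toRingEquiv
    exact LocCoh.IsGorensteinRing.isGorensteinLocalRing_localization q.asIdeal
  · intro h
    haveI : Algebra.EssFiniteType k k' := IntermediateField.fg_top_iff.1 hfg
    haveI : IsNoetherianRing (B ⊗[k] k') := Algebra.EssFiniteType.isNoetherianRing B (B ⊗[k] k')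
    exact gorLocal_of_atPrime_flat B (B ⊗[k] k') q.asIdeal hq h

end Groth.Agent.Helper3.GorField2
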