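import Mathlib

open TensorProduct TopologicalSpace

universe u

namespace Groth.Agent.Helper3.QFFinite

/-- In a Noetherian space only finitely many points are open. -/
theorem finite_isOpen_singleton {X : Type*} [TopologicalSpace X] [NoetherianSpace X] :
    {x : X | IsOpen ({x} : Set X)}.Finite := by
  have hc : IsCompact {x : X | IsOpen ({x} : Set X)} := NoetherianSpace.isCompact _
  refine hc.finite ?_
  rw [isDiscrete_iff_discreteTopology, discreteTopology_subtype_iff']
  intro y hy
  exact ⟨{y}, hy, by
    ext z
    simp only [Set.mem_inter_iff, Set.mem_singleton_iff, Set.mem_setOf_eq]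
    constructor
    · exact fun h => h.1
    · rintro rfl
      exact ⟨rfl, hy⟩⟩

/-- finitely many primes over `p` at which a finite type algebra is quasi-finite -/
theorem finite_qf {R S : Type u} [CommRing R] [CommRing S] [Algebra R S] [Algebra.FiniteType R S]
    (pp : PrimeSpectrum R) :
    {q : PrimeSpectrum S | q.comap (algebraMap R S) = pp ∧
      Algebra.QuasiFiniteAt R q.asIdeal}.Finite := by
  let e := PrimeSpectrum.preimageHomeomorphFiber R S pp
  haveI : IsNoetherianRing (pp.asIdeal.Fiber S) :=
    Algebra.FiniteType.isNoetherianRing pp.asIdeal.ResidueField _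
  haveI : NoetherianSpace (PrimeSpectrum.comap (algebraMap R S) ⁻¹' {pp}) :=
    (noetherianSpace_iff_of_homeomorph e).mpr inferInstance
  have hD := finite_isOpen_singleton (X := PrimeSpectrum.comap (algebraMap R S) ⁻¹' {pp})
  refine (hD.image Subtype.val).subset ?_
  rintro q ⟨rfl, hqf⟩
  exact ⟨⟨q, rfl⟩, (Algebra.quasiFiniteAt_iff_isOpen_singleton_fiber (R := R) q).mp hqf, rfl⟩

end Groth.Agent.Helper3.QFFinite
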