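import Mathlib

open TensorProduct

universe u

namespace Groth.Agent.Helper3.QFDescent

variable {R R' S : Type*} [CommRing R] [CommRing R'] [CommRing S] [Algebra R R'] [Algebra R S]
    {p : Ideal R} {q : Ideal R'} [p.IsPrime] [q.IsPrime] [q.LiesOver p]

/-- Descent of quasi-finiteness at a prime along a base change with trivial residue field
extension. -/
theorem quasiFiniteAt_descent [Algebra.FiniteType R S]
    (H : Function.Bijective (Ideal.ResidueField.mapₐ p q (Algebra.ofId _ _) (q.over_def p)))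
    (Q : Ideal (R' ⊗[R] S)) [Q.IsPrime] [Q.LiesOver q] [Algebra.QuasiFiniteAt R' Q] :
    haveI : (Q.comap Algebra.TensorProduct.includeRight.toRingHom).IsPrime := inferInstance
    Algebra.QuasiFiniteAt R (Q.comap (Algebra.TensorProduct.includeRight : S →ₐ[R] R' ⊗[R] S).toRingHom) := by
  let _ := Localization.AtPrime.algebraOfLiesOver p q
  let e : q.Fiber (R' ⊗[R] S) ≃ₐ[p.ResidueField] p.Fiber S :=
    ((Algebra.TensorProduct.cancelBaseChange _ _ q.ResidueField _ _).restrictScalars _).trans
      (Algebra.TensorProduct.congr (.symm <| .ofBijective (Algebra.ofId _ _) H) .refl)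
  let QF : Ideal (q.Fiber (R' ⊗[R] S)) :=
    (PrimeSpectrum.primesOverOrderIsoFiber R' (R' ⊗[R] S) q ⟨Q, ‹_›, ‹_›⟩).asIdeal
  have hQF : Q = QF.comap Algebra.TensorProduct.includeRight.toRingHom :=
    congr($((PrimeSpectrum.primesOverOrderIsoFiber R' (R' ⊗[R] S) q).symm_apply_apply ⟨Q, ‹_›, ‹_›⟩).1).symm
  have h1 : Algebra.QuasiFiniteAt q.ResidueField QF := .baseChange Q _ hQF
  haveI : Module.Finite p.ResidueField q.ResidueField := by
    let f : p.ResidueField →ₗ[p.ResidueField] q.ResidueField :=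
      (Algebra.ofId p.ResidueField q.ResidueField).toLinearMap
    refine Module.Finite.of_surjective f ?_
    intro y
    obtain ⟨x, hx⟩ := H.2 y
    refine ⟨x, ?_⟩
    rw [← hx]
    rfl
  have h2 : Algebra.QuasiFiniteAt p.ResidueField QF :=
    Algebra.QuasiFinite.trans p.ResidueField q.ResidueField (Localization.AtPrime QF)
  have h3 : Algebra.QuasiFiniteAt p.ResidueField (QF.comap e.symm.toRingHom) := inferInstance
  have hes : ∀ s : S, e.symm ((1 : p.ResidueField) ⊗ₜ[R] s) =
      (1 : q.ResidueField) ⊗ₜ[R'] ((1 : R') ⊗ₜ[R] s) := by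
    intro s
    simp [e]
  have hcomp : (QF.comap e.symm.toRingHom).comap
      (Algebra.TensorProduct.includeRight : S →ₐ[R] p.Fiber S).toRingHom =
      Q.comap (Algebra.TensorProduct.includeRight : S →ₐ[R] R' ⊗[R] S).toRingHom := by
    ext s
    rw [Ideal.mem_comap, Ideal.mem_comap, Ideal.mem_comap]
    conv_rhs => rw [hQF]
    rw [Ideal.mem_comap]
    have h4 : e.symm.toRingHom ((Algebra.TensorProduct.includeRight : S →ₐ[R] p.Fiber S).toRingHom s) =
        (Algebra.TensorProduct.includeRight : (R' ⊗[R] S) →ₐ[R'] q.Fiber (R' ⊗[R] S)).toRingHom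
          ((Algebra.TensorProduct.includeRight : S →ₐ[R] R' ⊗[R] S).toRingHom s) := hes s
    rw [h4]
  haveI : (Q.comap (Algebra.TensorProduct.includeRight : S →ₐ[R] R' ⊗[R] S).toRingHom).LiesOver p := by
    constructor
    have h5 : p = Q.under R := by
      rw [← Ideal.under_under (B := R') Q, ← Q.over_def q, ← q.over_def p]
    rw [h5, Ideal.under, Ideal.under, Ideal.comap_comap]
    congr 1
    exact (AlgHom.comp_algebraMap (Algebra.TensorProduct.includeRight : S →ₐ[R] R' ⊗[R] S)).symm
  exact Algebra.QuasiFiniteAt.of_quasiFiniteAt_residueField p _ (QF.comap e.symm.toRingHom) hcomp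

end Groth.Agent.Helper3.QFDescent
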