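import Mathlib
import Groth.Agent.Helper3.QFDescent

open TensorProduct

universe u

namespace Groth.Agent.Helper3.QFPieces

/-- `e` cuts out, near `p'`, the piece of `R' ⊗[R] C` over the prime `q` of `C`: it is an idempotent
whose principal open is finite over `R'` and meets the fibre over `p'` exactly in the primes over
`q`. -/
def IsPiece (R : Type u) [CommRing R] (R' : Type u) [CommRing R'] [Algebra R R'] (p' : Ideal R')
    (C : Type u) [CommRing C] [Algebra R C] (q : Ideal C) (e : R' ⊗[R] C) : Prop :=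
  IsIdempotentElem e ∧ Module.Finite R' ((R' ⊗[R] C) ⧸ Ideal.span {1 - e}) ∧
  ∀ t : Ideal (R' ⊗[R] C), t.IsPrime → t.comap (algebraMap R' (R' ⊗[R] C)) = p' →
    (e ∉ t ↔ t.comap (Algebra.TensorProduct.includeRight : C →ₐ[R] R' ⊗[R] C).toRingHom = q)

theorem exists_piece {R : Type u} [CommRing R] {C : Type u} [CommRing C] [Algebra R C]
    [Algebra.FiniteType R C] (p : Ideal R) [p.IsPrime] (q : Ideal C) [q.IsPrime] [q.LiesOver p]
    [Algebra.QuasiFiniteAt R q] :
    ∃ (R' : Type u) (_ : CommRing R') (_ : Algebra R R') (_ : Algebra.Etale R R') (P : Ideal R')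
      (_ : P.IsPrime) (_ : P.LiesOver p),
      Function.Bijective (Ideal.ResidueField.mapₐ p P (Algebra.ofId _ _) (P.over_def p)) ∧
      ∃ e : R' ⊗[R] C, IsPiece R R' P C q e := by
  obtain ⟨R', _, _, _, P, _, _, e, he, P', _, _, hP'q, heP', hpP, hfin, H⟩ :=
    Algebra.exists_etale_isIdempotentElem_forall_liesOver_eq p q
  refine ⟨R', inferInstance, inferInstance, inferInstance, P, inferInstance, inferInstance, hpP,
    e, he, ?_, ?_⟩
  · haveI := IsLocalization.Away.quotient_of_isIdempotentElem he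
    let E : Localization.Away e ≃ₐ[R' ⊗[R] C] ((R' ⊗[R] C) ⧸ Ideal.span {1 - e}) :=
      IsLocalization.algEquiv (.powers e) _ _
    exact Module.Finite.of_surjective ((E.restrictScalars R').toLinearMap) E.surjective
  · intro t ht htP
    haveI := ht
    haveI : t.LiesOver P := ⟨htP.symm⟩
    constructor
    · intro h
      rw [H t ht inferInstance h]
      exact hP'q
    · intro h hmem
      have : t = P' :=
        Ideal.eq_of_comap_eq_comap_of_bijective_residueFieldMap hpP t P' (h.trans hP'q.symm)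
      exact heP' (this ▸ hmem)


theorem IsPiece.baseChange {R : Type u} [CommRing R] {R' : Type u} [CommRing R'] [Algebra R R']
    {R'' : Type u} [CommRing R''] [Algebra R R''] [Algebra R' R''] [IsScalarTower R R' R'']
    {p' : Ideal R'} {C : Type u} [CommRing C] [Algebra R C] {q : Ideal C} {e : R' ⊗[R] C}
    (h : IsPiece R R' p' C q e) (p'' : Ideal R'') [p''.LiesOver p'] :
    IsPiece R R'' p'' C q (Algebra.TensorProduct.rTensor C (Algebra.ofId R' R'') e) := by
  obtain ⟨he, hfin, hpr⟩ := h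
  set φ : R' ⊗[R] C →ₐ[R'] R'' ⊗[R] C := Algebra.TensorProduct.rTensor C (Algebra.ofId R' R'') with hφ
  refine ⟨he.map φ, ?_, ?_⟩
  · have h1 : φ (1 - e) = 1 - φ e := by rw [map_sub, map_one]
    rw [← h1]
    exact Module.Finite.equiv (Algebra.tensorQuotientTensorEquiv (R := R) (S := C) R'' (1 - e)).toLinearEquiv
  · intro t ht htp
    haveI := ht
    have h2 : (t.comap φ.toRingHom).comap (algebraMap R' (R' ⊗[R] C)) = p' := by
      rw [Ideal.comap_comap]
      have : φ.toRingHom.comp (algebraMap R' (R' ⊗[R] C)) =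
          (algebraMap R'' (R'' ⊗[R] C)).comp (algebraMap R' R'') := by
        ext r
        simp [φ, Algebra.TensorProduct.algebraMap_apply]
      rw [this, ← Ideal.comap_comap, htp]
      exact (Ideal.over_def p'' p').symm
    have h3 := hpr (t.comap φ.toRingHom) inferInstance h2
    have h4 : (t.comap φ.toRingHom).comap
        (Algebra.TensorProduct.includeRight : C →ₐ[R] R' ⊗[R] C).toRingHom =
        t.comap (Algebra.TensorProduct.includeRight : C →ₐ[R] R'' ⊗[R] C).toRingHom := by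
      rw [Ideal.comap_comap]
      congr 1
      ext c
      simp [φ]
    rw [← h4, ← h3]
    rfl


theorem IsPiece.cancel {R : Type u} [CommRing R] {R₁ : Type u} [CommRing R₁] [Algebra R R₁]
    {R₂ : Type u} [CommRing R₂] [Algebra R R₂] [Algebra R₁ R₂] [IsScalarTower R R₁ R₂]
    {p : Ideal R} [p.IsPrime] {P₁ : Ideal R₁} [P₁.IsPrime] [P₁.LiesOver p]
    (hb : Function.Bijective (Ideal.ResidueField.mapₐ p P₁ (Algebra.ofId _ _) (P₁.over_def p)))
    {P₂ : Ideal R₂} [P₂.LiesOver P₁]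
    {C : Type u} [CommRing C] [Algebra R C] {q : Ideal C}
    {q₁ : Ideal (R₁ ⊗[R] C)} [q₁.IsPrime] [q₁.LiesOver P₁]
    (hq₁ : q₁.comap (Algebra.TensorProduct.includeRight : C →ₐ[R] R₁ ⊗[R] C).toRingHom = q)
    {e : R₂ ⊗[R₁] (R₁ ⊗[R] C)} (h : IsPiece R₁ R₂ P₂ (R₁ ⊗[R] C) q₁ e) :
    IsPiece R R₂ P₂ C q (Algebra.TensorProduct.cancelBaseChange R R₁ R₂ R₂ C e) := by
  obtain ⟨he, hfin, hpr⟩ := h
  set E := Algebra.TensorProduct.cancelBaseChange R R₁ R₂ R₂ C with hE
  refine ⟨he.map E, ?_, ?_⟩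
  · let J : Ideal (R₂ ⊗[R] C) := Ideal.span {1 - E e}
    let g : ((R₂ ⊗[R₁] (R₁ ⊗[R] C)) ⧸ Ideal.span {1 - e}) →ₐ[R₂] (R₂ ⊗[R] C) ⧸ J :=
      Ideal.Quotient.liftₐ _ ((Ideal.Quotient.mkₐ R₂ J).comp E.toAlgHom) (fun a ha => by
        obtain ⟨b, rfl⟩ := Ideal.mem_span_singleton'.mp ha
        show Ideal.Quotient.mk J (E (b * (1 - e))) = 0
        rw [Ideal.Quotient.eq_zero_iff_mem, map_mul, map_sub, map_one]
        exact Ideal.mul_mem_left _ _ (Ideal.mem_span_singleton_self _))
    have hg : Function.Surjective g := by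
      intro y
      obtain ⟨x, rfl⟩ := Ideal.Quotient.mk_surjective y
      refine ⟨Ideal.Quotient.mk _ (E.symm x), ?_⟩
      show Ideal.Quotient.mk J (E (E.symm x)) = _
      rw [E.apply_symm_apply]
    exact Module.Finite.of_surjective g.toLinearMap hg
  · intro t ht htp
    haveI := ht
    have h2 : (t.comap E.toAlgHom.toRingHom).comap (algebraMap R₂ (R₂ ⊗[R₁] (R₁ ⊗[R] C))) = P₂ := by
      rw [Ideal.comap_comap]
      have : (E.toAlgHom.toRingHom).comp (algebraMap R₂ (R₂ ⊗[R₁] (R₁ ⊗[R] C))) =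
          algebraMap R₂ (R₂ ⊗[R] C) := E.toAlgHom.comp_algebraMap
      exact (congrArg (fun φ => Ideal.comap φ t) this).trans htp
    have h3 := hpr (t.comap E.toAlgHom.toRingHom) inferInstance h2
    set t₁ := (t.comap E.toAlgHom.toRingHom).comap
        (Algebra.TensorProduct.includeRight : (R₁ ⊗[R] C) →ₐ[R₁] R₂ ⊗[R₁] (R₁ ⊗[R] C)).toRingHom
      with ht₁
    have h4 : t₁.comap (Algebra.TensorProduct.includeRight : C →ₐ[R] R₁ ⊗[R] C).toRingHom =
        t.comap (Algebra.TensorProduct.includeRight : C →ₐ[R] R₂ ⊗[R] C).toRingHom := by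
      rw [ht₁, Ideal.comap_comap, Ideal.comap_comap]
      congr 1
      ext c
      simp [E]
    have h5 : (E e ∉ t) ↔ e ∉ t.comap E.toAlgHom.toRingHom := Iff.rfl
    rw [h5, h3]
    constructor
    · intro h6
      rw [← h4, h6, hq₁]
    · intro h6
      haveI : t₁.IsPrime := by rw [ht₁]; infer_instance
      haveI : t₁.LiesOver P₁ := by
        constructor
        rw [Ideal.under, ht₁, Ideal.comap_comap]
        have : (Algebra.TensorProduct.includeRight :
            (R₁ ⊗[R] C) →ₐ[R₁] R₂ ⊗[R₁] (R₁ ⊗[R] C)).toRingHom.comp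
            (algebraMap R₁ (R₁ ⊗[R] C)) =
            (algebraMap R₂ (R₂ ⊗[R₁] (R₁ ⊗[R] C))).comp (algebraMap R₁ R₂) := by
          ext r
          simp [Algebra.algebraMap_eq_smul_one]
        rw [this, ← Ideal.comap_comap, h2]
        exact Ideal.over_def P₂ P₁
      exact Ideal.eq_of_comap_eq_comap_of_bijective_residueFieldMap hb t₁ q₁
        (by rw [h4, h6, hq₁])


theorem exists_pieces_family : ∀ (n : ℕ) (R : Type u) [CommRing R] (p : Ideal R) [p.IsPrime]
    (C : Fin n → Type u) [∀ i, CommRing (C i)] [∀ i, Algebra R (C i)]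
    [∀ i, Algebra.FiniteType R (C i)]
    (q : ∀ i, Ideal (C i)) [∀ i, (q i).IsPrime] [∀ i, (q i).LiesOver p]
    [∀ i, Algebra.QuasiFiniteAt R (q i)],
    ∃ (R' : Type u) (_ : CommRing R') (_ : Algebra R R') (_ : Algebra.Etale R R') (P : Ideal R')
      (_ : P.IsPrime) (_ : P.LiesOver p),
      Function.Bijective (Ideal.ResidueField.mapₐ p P (Algebra.ofId _ _) (P.over_def p)) ∧
      ∀ i, ∃ e : R' ⊗[R] C i, IsPiece R R' P (C i) (q i) e := by
  intro n
  induction n with
  | zero =>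
    intro R _ p _ C _ _ _ q _ _ _
    refine ⟨R, inferInstance, inferInstance, inferInstance, p, inferInstance,
      ⟨by simp [Ideal.under]⟩, ?_, fun i => i.elim0⟩
    rw! [Algebra.ofId_self, Ideal.ResidueField.mapₐ_id]
    exact Function.bijective_id
  | succ n IH =>
    intro R _ p _ C _ _ _ q _ _ _
    obtain ⟨R₁, _, _, _, P₁, _, _, hb₁, e₀, he₀⟩ := exists_piece p (q 0)
    let F := fun i : Fin n => Ideal.fiberIsoOfBijectiveResidueField (S := C i.succ) hb₁
    let q₁ : ∀ i : Fin n, Ideal (R₁ ⊗[R] C i.succ) := fun i =>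
      ((F i).symm ⟨q i.succ, inferInstance, inferInstance⟩).1
    haveI : ∀ i, (q₁ i).IsPrime := fun i =>
      ((F i).symm ⟨q i.succ, inferInstance, inferInstance⟩).2.1
    haveI : ∀ i, (q₁ i).LiesOver P₁ := fun i =>
      ((F i).symm ⟨q i.succ, inferInstance, inferInstance⟩).2.2
    have hq₁ : ∀ i, (q₁ i).comap
        (Algebra.TensorProduct.includeRight : C i.succ →ₐ[R] R₁ ⊗[R] C i.succ).toRingHom =
        q i.succ := fun i => Ideal.comap_fiberIsoOfBijectiveResidueField_symm hb₁ _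
    haveI : ∀ i, Algebra.QuasiFiniteAt R₁ (q₁ i) := fun i =>
      .baseChange (q i.succ) _ (hq₁ i).symm
    obtain ⟨R₂, _, _, _, P₂, _, _, hb₂, h₂⟩ := IH R₁ P₁ (fun i => R₁ ⊗[R] C i.succ) q₁
    letI : Algebra R R₂ := ((algebraMap R₁ R₂).comp (algebraMap R R₁)).toAlgebra
    haveI : IsScalarTower R R₁ R₂ := IsScalarTower.of_algebraMap_eq' rfl
    haveI : Algebra.Etale R R₂ := Algebra.Etale.comp R R₁ R₂
    haveI : P₂.LiesOver p := Ideal.LiesOver.trans P₂ P₁ p
    have hb : Function.Bijective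
        (Ideal.ResidueField.mapₐ p P₂ (Algebra.ofId _ _) (P₂.over_def p)) := by
      convert hb₂.comp hb₁
      rw [← @AlgHom.coe_restrictScalars' R R₁, ← AlgHom.coe_comp]
      congr 1
      ext
    refine ⟨R₂, inferInstance, inferInstance, inferInstance, P₂, inferInstance, inferInstance,
      hb, fun i => ?_⟩
    refine Fin.cases ?_ (fun j => ?_) i
    · exact ⟨_, he₀.baseChange P₂⟩
    · obtain ⟨e, he⟩ := h₂ j
      exact ⟨_, IsPiece.cancel hb₁ (hq₁ j) he⟩

end Groth.Agent.Helper3.QFPieces
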