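import Mathlib
import Groth.Agent.Helper3.QFPieces
import Groth.Agent.Helper3.QFFinite

open TensorProduct

universe u

namespace Groth.Agent.Helper3.QFMulti

open QFPieces

/-- `exists_pieces_family` for an arbitrary finite index type -/
theorem exists_pieces_family' {J : Type} [Finite J] (R : Type u) [CommRing R] (p : Ideal R)
    [p.IsPrime] (C : J → Type u) [∀ i, CommRing (C i)] [∀ i, Algebra R (C i)]
    [∀ i, Algebra.FiniteType R (C i)]
    (q : ∀ i, Ideal (C i)) [∀ i, (q i).IsPrime] [∀ i, (q i).LiesOver p]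
    [∀ i, Algebra.QuasiFiniteAt R (q i)] :
    ∃ (R' : Type u) (_ : CommRing R') (_ : Algebra R R') (_ : Algebra.Etale R R') (P : Ideal R')
      (_ : P.IsPrime) (_ : P.LiesOver p),
      Function.Bijective (Ideal.ResidueField.mapₐ p P (Algebra.ofId _ _) (P.over_def p)) ∧
      ∀ i, ∃ e : R' ⊗[R] C i, IsPiece R R' P (C i) (q i) e := by
  obtain ⟨n, ⟨eqv⟩⟩ := Finite.exists_equiv_fin J
  obtain ⟨R', _, _, _, P, _, _, hb, h⟩ := exists_pieces_family n R p (fun k => C (eqv.symm k))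
    (fun k => q (eqv.symm k))
  refine ⟨R', inferInstance, inferInstance, inferInstance, P, inferInstance, inferInstance, hb,
    fun i => ?_⟩
  have := h (eqv i)
  rw [eqv.symm_apply_apply] at this
  exact this


set_option maxHeartbeats 800000 in
theorem transport {R : Type u} [CommRing R] {R₀ : Type u} [CommRing R₀] [Algebra R R₀]
    {R' : Type u} [CommRing R'] [Algebra R R'] [Algebra R₀ R'] [IsScalarTower R R₀ R']
    {P₀ : Ideal R₀} [P₀.IsPrime] {P : Ideal R'} [P.IsPrime] [P.LiesOver P₀]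
    (hb : Function.Bijective (Ideal.ResidueField.mapₐ P₀ P (Algebra.ofId _ _) (P.over_def P₀)))
    {C : Type u} [CommRing C] [Algebra R C]
    (t0 : Ideal (R₀ ⊗[R] C)) [t0.IsPrime] [t0.LiesOver P₀]
    {e0 : R' ⊗[R₀] (R₀ ⊗[R] C)} (h : IsPiece R₀ R' P (R₀ ⊗[R] C) t0 e0) :
    ∃ t : Ideal (R' ⊗[R] C), t.IsPrime ∧ t.comap (algebraMap R' (R' ⊗[R] C)) = P ∧
      t.comap (Algebra.TensorProduct.includeRight : C →ₐ[R] R' ⊗[R] C).toRingHom =
        t0.comap (Algebra.TensorProduct.includeRight : C →ₐ[R] R₀ ⊗[R] C).toRingHom ∧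
      IsIdempotentElem (Algebra.TensorProduct.cancelBaseChange R R₀ R' R' C e0) ∧
      Module.Finite R' ((R' ⊗[R] C) ⧸
        Ideal.span {1 - Algebra.TensorProduct.cancelBaseChange R R₀ R' R' C e0}) ∧
      (∀ t₁ : Ideal (R' ⊗[R] C), t₁.IsPrime → t₁.comap (algebraMap R' (R' ⊗[R] C)) = P →
        (Algebra.TensorProduct.cancelBaseChange R R₀ R' R' C e0 ∉ t₁ ↔ t₁ = t)) ∧
      (∀ t₁ : Ideal (R' ⊗[R] C), t₁.IsPrime → t₁.comap (algebraMap R' (R' ⊗[R] C)) = P →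
        ((t₁.comap (Algebra.TensorProduct.cancelBaseChange R R₀ R' R' C).toAlgHom.toRingHom).comap
          (Algebra.TensorProduct.includeRight :
            (R₀ ⊗[R] C) →ₐ[R₀] R' ⊗[R₀] (R₀ ⊗[R] C)).toRingHom = t0 ↔ t₁ = t)) := by
  obtain ⟨he, hfin, hpr⟩ := h
  set E := Algebra.TensorProduct.cancelBaseChange R R₀ R' R' C with hE
  let inclT := (Algebra.TensorProduct.includeRight :
    (R₀ ⊗[R] C) →ₐ[R₀] R' ⊗[R₀] (R₀ ⊗[R] C)).toRingHom
  let F := Ideal.fiberIsoOfBijectiveResidueField (S := R₀ ⊗[R] C) hb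
  let t' := F.symm ⟨t0, inferInstance, inferInstance⟩
  haveI ht'prime : t'.1.IsPrime := t'.2.1
  haveI ht'over : t'.1.LiesOver P := t'.2.2
  have ht'c : t'.1.comap inclT = t0 := Ideal.comap_fiberIsoOfBijectiveResidueField_symm hb _
  let t : Ideal (R' ⊗[R] C) := t'.1.comap E.symm.toAlgHom.toRingHom
  have hEE : ∀ I : Ideal (R' ⊗[R₀] (R₀ ⊗[R] C)),
      (I.comap E.symm.toAlgHom.toRingHom).comap E.toAlgHom.toRingHom = I := by
    intro I
    ext z
    simp [Ideal.mem_comap]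
  have hEE' : ∀ I : Ideal (R' ⊗[R] C),
      (I.comap E.toAlgHom.toRingHom).comap E.symm.toAlgHom.toRingHom = I := by
    intro I
    ext z
    simp [Ideal.mem_comap]
  have hover : ∀ t₁ : Ideal (R' ⊗[R] C), t₁.comap (algebraMap R' (R' ⊗[R] C)) = P →
      (t₁.comap E.toAlgHom.toRingHom).comap (algebraMap R' (R' ⊗[R₀] (R₀ ⊗[R] C))) = P := by
    intro t₁ h1
    rw [Ideal.comap_comap]
    have : (E.toAlgHom.toRingHom).comp (algebraMap R' (R' ⊗[R₀] (R₀ ⊗[R] C))) =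
        algebraMap R' (R' ⊗[R] C) := E.toAlgHom.comp_algebraMap
    exact (congrArg (fun φ => Ideal.comap φ t₁) this).trans h1
  have hK : ∀ t₁ : Ideal (R' ⊗[R] C), t₁.IsPrime → t₁.comap (algebraMap R' (R' ⊗[R] C)) = P →
      ((t₁.comap E.toAlgHom.toRingHom).comap inclT = t0 ↔ t₁ = t) := by
    intro t₁ ht₁ h1
    haveI := ht₁
    constructor
    · intro h2
      haveI : (t₁.comap E.toAlgHom.toRingHom).LiesOver P := ⟨(hover t₁ h1).symm⟩
      have h3 : t₁.comap E.toAlgHom.toRingHom = t'.1 :=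
        Ideal.eq_of_comap_eq_comap_of_bijective_residueFieldMap hb _ _ (h2.trans ht'c.symm)
      rw [← hEE' t₁, h3]
    · rintro rfl
      rw [hEE]
      exact ht'c
  have htP : t.comap (algebraMap R' (R' ⊗[R] C)) = P := by
    show (t'.1.comap E.symm.toAlgHom.toRingHom).comap (algebraMap R' (R' ⊗[R] C)) = P
    rw [Ideal.comap_comap]
    have : (E.symm.toAlgHom.toRingHom).comp (algebraMap R' (R' ⊗[R] C)) =
        algebraMap R' (R' ⊗[R₀] (R₀ ⊗[R] C)) := E.symm.toAlgHom.comp_algebraMap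
    exact (congrArg (fun φ => Ideal.comap φ t'.1) this).trans (t'.1.over_def P).symm
  refine ⟨t, inferInstance, htP, ?_, he.map E, ?_, ?_, hK⟩
  · ext c
    have h6 : E.symm ((Algebra.TensorProduct.includeRight : C →ₐ[R] R' ⊗[R] C) c) =
        inclT ((Algebra.TensorProduct.includeRight : C →ₐ[R] R₀ ⊗[R] C) c) := by
      simp [E, inclT]
    rw [Ideal.mem_comap, Ideal.mem_comap, ← ht'c, Ideal.mem_comap]
    show E.symm ((Algebra.TensorProduct.includeRight : C →ₐ[R] R' ⊗[R] C) c) ∈ t'.1 ↔ _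
    rw [h6]
    rfl
  · let J : Ideal (R' ⊗[R] C) := Ideal.span {1 - E e0}
    let g : ((R' ⊗[R₀] (R₀ ⊗[R] C)) ⧸ Ideal.span {1 - e0}) →ₐ[R'] (R' ⊗[R] C) ⧸ J :=
      Ideal.Quotient.liftₐ _ ((Ideal.Quotient.mkₐ R' J).comp E.toAlgHom) (fun a ha => by
        obtain ⟨b, rfl⟩ := Ideal.mem_span_singleton'.mp ha
        show Ideal.Quotient.mk J (E (b * (1 - e0))) = 0
        rw [Ideal.Quotient.eq_zero_iff_mem, map_mul, map_sub, map_one]
        exact Ideal.mul_mem_left _ _ (Ideal.mem_span_singleton_self _))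
    have hg : Function.Surjective g := by
      intro y
      obtain ⟨x, rfl⟩ := Ideal.Quotient.mk_surjective y
      refine ⟨Ideal.Quotient.mk _ (E.symm x), ?_⟩
      show Ideal.Quotient.mk J (E (E.symm x)) = _
      rw [E.apply_symm_apply]
    exact Module.Finite.of_surjective g.toLinearMap hg
  · intro t₁ ht₁ h1
    haveI := ht₁
    have h5 : (E e0 ∉ t₁) ↔ e0 ∉ t₁.comap E.toAlgHom.toRingHom := Iff.rfl
    rw [h5, hpr _ inferInstance (hover t₁ h1)]
    exact hK t₁ ht₁ h1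


set_option maxHeartbeats 1600000 in
theorem ringA (R : Type u) [CommRing R] (p : Ideal R) [p.IsPrime] {ι : Type} [Finite ι]
    (C : ι → Type u) [∀ i, CommRing (C i)] [∀ i, Algebra R (C i)]
    [∀ i, Algebra.FiniteType R (C i)]
    (q : ∀ i, Ideal (C i)) [∀ i, (q i).IsPrime] [∀ i, (q i).LiesOver p]
    [∀ i, Algebra.QuasiFiniteAt R (q i)]
    (R₀ : Type u) [CommRing R₀] [Algebra R R₀] [Algebra.Etale R R₀] (P₀ : Ideal R₀) [P₀.IsPrime]
    [P₀.LiesOver p] :
    ∃ (R' : Type u) (_ : CommRing R') (_ : Algebra R₀ R') (_ : Algebra R R')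
      (_ : IsScalarTower R R₀ R') (_ : Algebra.Etale R R') (P : Ideal R') (_ : P.IsPrime)
      (_ : P.LiesOver P₀),
      ∀ i, ∃ (m : ℕ) (e : Fin m → R' ⊗[R] C i) (t : Fin m → Ideal (R' ⊗[R] C i)),
        (∀ j, IsIdempotentElem (e j) ∧
          Module.Finite R' ((R' ⊗[R] C i) ⧸ Ideal.span {1 - e j}) ∧
          (t j).IsPrime ∧ (t j).comap (algebraMap R' (R' ⊗[R] C i)) = P ∧
          (t j).comap (Algebra.TensorProduct.includeRight : C i →ₐ[R] R' ⊗[R] C i).toRingHom =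
            q i ∧
          ∀ t₁ : Ideal (R' ⊗[R] C i), t₁.IsPrime →
            t₁.comap (algebraMap R' (R' ⊗[R] C i)) = P → (e j ∉ t₁ ↔ t₁ = t j)) ∧
        Function.Injective t ∧
        ∀ t₁ : Ideal (R' ⊗[R] C i), t₁.IsPrime → t₁.comap (algebraMap R' (R' ⊗[R] C i)) = P →
          t₁.comap (Algebra.TensorProduct.includeRight : C i →ₐ[R] R' ⊗[R] C i).toRingHom = q i →
          ∃ j, t₁ = t j := by
  classical
  let pp₀ : PrimeSpectrum R₀ := ⟨P₀, inferInstance⟩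
  have hQfin : ∀ i, {t : PrimeSpectrum (R₀ ⊗[R] C i) |
      t.comap (algebraMap R₀ (R₀ ⊗[R] C i)) = pp₀ ∧
      t.asIdeal.comap (Algebra.TensorProduct.includeRight : C i →ₐ[R] R₀ ⊗[R] C i).toRingHom =
        q i}.Finite := by
    intro i
    refine (QFFinite.finite_qf (R := R₀) (S := R₀ ⊗[R] C i) pp₀).subset ?_
    rintro t ⟨h1, h2⟩
    exact ⟨h1, Algebra.QuasiFiniteAt.baseChange (q i) t.asIdeal h2.symm⟩
  choose m τ hτinj hτr using fun i => (hQfin i).fin_param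
  have hτ : ∀ i j, (τ i j).comap (algebraMap R₀ (R₀ ⊗[R] C i)) = pp₀ ∧
      (τ i j).asIdeal.comap
        (Algebra.TensorProduct.includeRight : C i →ₐ[R] R₀ ⊗[R] C i).toRingHom = q i :=
    fun i j => by
      have : τ i j ∈ Set.range (τ i) := ⟨j, rfl⟩
      rw [hτr i] at this
      exact this
  let J := Σ i, Fin (m i)
  let C' : J → Type u := fun jj => R₀ ⊗[R] C jj.1
  let q' : ∀ jj : J, Ideal (C' jj) := fun jj => (τ jj.1 jj.2).asIdeal
  haveI hq'1 : ∀ jj, (q' jj).IsPrime := fun jj => (τ jj.1 jj.2).isPrime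
  haveI hq'2 : ∀ jj, (q' jj).LiesOver P₀ := fun jj =>
    ⟨congrArg PrimeSpectrum.asIdeal (hτ jj.1 jj.2).1.symm⟩
  haveI hq'3 : ∀ jj, Algebra.QuasiFiniteAt R₀ (q' jj) := fun jj =>
    .baseChange (q jj.1) _ (hτ jj.1 jj.2).2.symm
  obtain ⟨R', _, _, _, P, _, _, hb, he⟩ := exists_pieces_family' R₀ P₀ C' q'
  letI : Algebra R R' := ((algebraMap R₀ R').comp (algebraMap R R₀)).toAlgebra
  haveI : IsScalarTower R R₀ R' := .of_algebraMap_eq' rfl
  haveI : Algebra.Etale R R' := .comp R R₀ R'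
  refine ⟨R', ‹_›, ‹_›, ‹_›, ‹_›, ‹_›, P, ‹_›, ‹_›, fun i => ?_⟩
  choose e0 he0 using he
  have htr := fun j : Fin (m i) => by
    haveI : (τ i j).asIdeal.IsPrime := hq'1 ⟨i, j⟩
    haveI : (τ i j).asIdeal.LiesOver P₀ := hq'2 ⟨i, j⟩
    exact transport hb (C := C i) (τ i j).asIdeal (he0 ⟨i, j⟩)
  choose t ht1 ht2 ht3 ht4 ht5 ht6 ht7 using htr
  refine ⟨m i, fun j => Algebra.TensorProduct.cancelBaseChange R R₀ R' R' (C i) (e0 ⟨i, j⟩), t,
    fun j => ⟨ht4 j, ht5 j, ht1 j, ht2 j, (ht3 j).trans (hτ i j).2, ht6 j⟩, ?_, ?_⟩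
  · intro j j' hjj'
    have h1 := (ht7 j (t j) (ht1 j) (ht2 j)).mpr rfl
    have h2 := (ht7 j' (t j') (ht1 j') (ht2 j')).mpr rfl
    rw [← hjj'] at h2
    exact hτinj i (PrimeSpectrum.ext (h1.symm.trans h2))
  · intro t₁ ht₁ h1 h2
    haveI := ht₁
    set E := Algebra.TensorProduct.cancelBaseChange R R₀ R' R' (C i) with hE
    let inclT := (Algebra.TensorProduct.includeRight :
      (R₀ ⊗[R] C i) →ₐ[R₀] R' ⊗[R₀] (R₀ ⊗[R] C i)).toRingHom
    let D : Ideal (R₀ ⊗[R] C i) := (t₁.comap E.toAlgHom.toRingHom).comap inclT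
    haveI : D.IsPrime := inferInstanceAs (Ideal.IsPrime (Ideal.comap _ _))
    have hD1 : (⟨D, inferInstance⟩ : PrimeSpectrum (R₀ ⊗[R] C i)).comap
        (algebraMap R₀ (R₀ ⊗[R] C i)) = pp₀ := by
      apply PrimeSpectrum.ext
      show ((t₁.comap E.toAlgHom.toRingHom).comap inclT).comap
        (algebraMap R₀ (R₀ ⊗[R] C i)) = P₀
      rw [Ideal.comap_comap, Ideal.comap_comap]
      have h3 : E.toAlgHom.toRingHom.comp (inclT.comp (algebraMap R₀ (R₀ ⊗[R] C i))) =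
          (algebraMap R' (R' ⊗[R] C i)).comp (algebraMap R₀ R') := by
        ext r
        show E (inclT (algebraMap R₀ (R₀ ⊗[R] C i) r)) = _
        have e1 : inclT (algebraMap R₀ (R₀ ⊗[R] C i) r) =
            algebraMap R₀ (R' ⊗[R₀] (R₀ ⊗[R] C i)) r :=
          AlgHom.commutes (Algebra.TensorProduct.includeRight :
            (R₀ ⊗[R] C i) →ₐ[R₀] R' ⊗[R₀] (R₀ ⊗[R] C i)) r
        rw [e1, IsScalarTower.algebraMap_apply R₀ R' (R' ⊗[R₀] (R₀ ⊗[R] C i)), AlgEquiv.commutes]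
        rfl
      rw [h3, ← Ideal.comap_comap, h1]
      exact (P.over_def P₀).symm
    have hD2 : D.comap (Algebra.TensorProduct.includeRight : C i →ₐ[R] R₀ ⊗[R] C i).toRingHom =
        q i := by
      rw [← h2]
      show ((t₁.comap E.toAlgHom.toRingHom).comap inclT).comap _ = _
      rw [Ideal.comap_comap, Ideal.comap_comap]
      congr 1
      ext c
      simp [E, inclT]
    have hmem : (⟨D, inferInstance⟩ : PrimeSpectrum (R₀ ⊗[R] C i)) ∈ Set.range (τ i) := by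
      rw [hτr i]
      exact ⟨hD1, hD2⟩
    obtain ⟨j, hj⟩ := hmem
    exact ⟨j, (ht7 j t₁ ht₁ h1).mp (congrArg PrimeSpectrum.asIdeal hj).symm⟩

end Groth.Agent.Helper3.QFMulti
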