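import Mathlib

open AlgebraicGeometry CategoryTheory CategoryTheory.Limits TopologicalSpace Opposite TensorProduct

universe u

namespace Groth.Agent.Helper3.QFRes

/-- trivial residue field extension, elementwise -/
theorem tre_of_bijective {R R' : Type*} [CommRing R] [CommRing R'] [Algebra R R']
    (p : Ideal R) [p.IsPrime] (P : Ideal R') [P.IsPrime] [P.LiesOver p]
    (hb : Function.Bijective (Ideal.ResidueField.mapₐ p P (Algebra.ofId _ _) (P.over_def p)))
    (r' : R') :
    ∃ a b : R, algebraMap R R' b ∉ P ∧ r' * algebraMap R R' b - algebraMap R R' a ∈ P := by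
  set φ := Ideal.ResidueField.mapₐ p P (Algebra.ofId _ _) (P.over_def p) with hφ
  obtain ⟨z, hz⟩ := hb.2 (algebraMap R' P.ResidueField r')
  obtain ⟨⟨a, b⟩, hab⟩ := IsLocalization.surj (nonZeroDivisors (R ⧸ p)) z
  obtain ⟨a, rfl⟩ := Ideal.Quotient.mk_surjective a
  obtain ⟨b', hb'⟩ : ∃ b' : R, Ideal.Quotient.mk p b' = b.1 := Ideal.Quotient.mk_surjective b.1
  have hbne : algebraMap R p.ResidueField b' ≠ 0 := by
    have h1 : algebraMap R p.ResidueField b' = algebraMap (R ⧸ p) p.ResidueField b.1 := by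
      rw [← hb']; rfl
    rw [h1]
    exact IsLocalization.to_map_ne_zero_of_mem_nonZeroDivisors _ le_rfl b.2
  have hab' : z * algebraMap R p.ResidueField b' = algebraMap R p.ResidueField a := by
    have h1 : algebraMap R p.ResidueField b' = algebraMap (R ⧸ p) p.ResidueField b.1 := by
      rw [← hb']; rfl
    rw [h1]
    exact hab
  have h2 := congrArg φ hab'
  rw [map_mul, hz, φ.commutes, φ.commutes, IsScalarTower.algebraMap_apply R R' P.ResidueField,
    IsScalarTower.algebraMap_apply R R' P.ResidueField a, ← map_mul, ← sub_eq_zero, ← map_sub,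
    Ideal.algebraMap_residueField_eq_zero] at h2
  refine ⟨a, b', ?_, h2⟩
  intro hmem
  apply hbne
  have h3 : algebraMap R' P.ResidueField (algebraMap R R' b') = 0 :=
    Ideal.algebraMap_residueField_eq_zero.mpr hmem
  rw [← IsScalarTower.algebraMap_apply, ← φ.commutes] at h3
  exact (map_eq_zero φ).mp h3


/-- evaluation of a ring element at a point of `Spec` -/
noncomputable def ev (B : CommRingCat.{u}) (t : Spec B) : B ⟶ (Spec B).residueField t :=
  (Scheme.ΓSpecIso B).inv ≫ (Spec B).Γevaluation t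

set_option backward.isDefEq.respectTransparency.types false in
theorem ev_eq (B : CommRingCat.{u}) (t : Spec B) :
    ev B t = CommRingCat.ofHom (algebraMap B t.asIdeal.ResidueField) ≫
      (Scheme.Spec.residueFieldIso B t).inv :=
  (Scheme.Spec.algebraMap_residueFieldIso_inv B t).symm

set_option backward.isDefEq.respectTransparency.types false in
theorem ev_eq_zero_iff (B : CommRingCat.{u}) (t : Spec B) (b : B) :
    (ev B t).hom b = 0 ↔ b ∈ t.asIdeal := by
  rw [ev_eq]
  show (Scheme.Spec.residueFieldIso B t).inv.hom (algebraMap B t.asIdeal.ResidueField b) = 0 ↔ _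
  rw [map_eq_zero]
  exact Ideal.algebraMap_residueField_eq_zero

set_option backward.isDefEq.respectTransparency.types false in
theorem ev_fraction (B : CommRingCat.{u}) (t : Spec B) (c : (Spec B).residueField t) :
    ∃ n d : B, (ev B t).hom d ≠ 0 ∧ (ev B t).hom d * c = (ev B t).hom n := by
  obtain ⟨⟨n, d⟩, hnd⟩ := IsLocalization.surj (nonZeroDivisors (B ⧸ t.asIdeal))
    ((Scheme.Spec.residueFieldIso B t).hom.hom c)
  obtain ⟨n, rfl⟩ := Ideal.Quotient.mk_surjective n
  obtain ⟨d', hd'⟩ : ∃ d' : B, Ideal.Quotient.mk t.asIdeal d' = d.1 :=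
    Ideal.Quotient.mk_surjective d.1
  have h1 : algebraMap B t.asIdeal.ResidueField d' =
      algebraMap (B ⧸ t.asIdeal) t.asIdeal.ResidueField d.1 := by rw [← hd']; rfl
  have hne : algebraMap B t.asIdeal.ResidueField d' ≠ 0 := by
    rw [h1]
    exact IsLocalization.to_map_ne_zero_of_mem_nonZeroDivisors _ le_rfl d.2
  have hev : ∀ b : B, (ev B t).hom b =
      (Scheme.Spec.residueFieldIso B t).inv.hom (algebraMap B t.asIdeal.ResidueField b) := by
    intro b
    rw [ev_eq]; rfl
  refine ⟨n, d', ?_, ?_⟩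
  · rw [hev]
    intro h0
    apply hne
    exact (map_eq_zero _).mp h0
  · rw [hev, hev]
    have h2 : (Scheme.Spec.residueFieldIso B t).hom.hom c *
        algebraMap B t.asIdeal.ResidueField d' = algebraMap B t.asIdeal.ResidueField n := by
      rw [h1]; exact hnd
    have h3 := congrArg (Scheme.Spec.residueFieldIso B t).inv.hom h2
    rw [map_mul] at h3
    have h4 : (Scheme.Spec.residueFieldIso B t).inv.hom
        ((Scheme.Spec.residueFieldIso B t).hom.hom c) = c := by
      have := congr($((Scheme.Spec.residueFieldIso B t).hom_inv_id).hom c)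
      exact this
    rw [h4] at h3
    rw [mul_comm]
    exact h3

theorem ev_naturality {A B : CommRingCat.{u}} (ψ : A ⟶ B) (t : Spec B) (a : A) :
    ((Spec.map ψ).residueFieldMap t).hom ((ev A (Spec.map ψ t)).hom a) = (ev B t).hom (ψ.hom a) := by
  have h1 := Scheme.Γevaluation_naturality (Spec.map ψ) t
  have h2 := Scheme.ΓSpecIso_inv_naturality ψ
  have h3 : ev A (Spec.map ψ t) ≫ (Spec.map ψ).residueFieldMap t = ψ ≫ ev B t := by
    unfold ev
    rw [Category.assoc, h1, ← Category.assoc, ← h2, Category.assoc]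
  exact congr($(h3).hom a)

set_option backward.isDefEq.respectTransparency.types false in
/-- criterion for surjectivity of the residue field map of `Spec.map ψ` -/
theorem specRes {A B : CommRingCat.{u}} (ψ : A ⟶ B) (t : Spec B)
    (H : ∀ b : B, ∃ a a' : A, ψ.hom a' ∉ t.asIdeal ∧ b * ψ.hom a' - ψ.hom a ∈ t.asIdeal) :
    Function.Surjective ((Spec.map ψ).residueFieldMap t).hom := by
  set ρ := ((Spec.map ψ).residueFieldMap t).hom with hρ
  have hL : ∀ b : B, (ev B t).hom b ∈ ρ.fieldRange := by
    intro b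
    obtain ⟨a, a', ha', hab⟩ := H b
    have h1 : (ev B t).hom (ψ.hom a') ≠ 0 := fun h => ha' ((ev_eq_zero_iff B t _).mp h)
    have h2 : (ev B t).hom b * (ev B t).hom (ψ.hom a') = (ev B t).hom (ψ.hom a) := by
      have := (ev_eq_zero_iff B t _).mpr hab
      rw [map_sub, map_mul, sub_eq_zero] at this
      exact this
    have h3 : (ev B t).hom b = (ev B t).hom (ψ.hom a) / (ev B t).hom (ψ.hom a') := by
      rw [eq_div_iff h1, h2]
    rw [h3]
    exact div_mem ⟨_, ev_naturality ψ t a⟩ ⟨_, ev_naturality ψ t a'⟩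
  intro c
  obtain ⟨n, d, hd, hnd⟩ := ev_fraction B t c
  have h4 : c = (ev B t).hom n / (ev B t).hom d := by
    rw [eq_div_iff hd, mul_comm, hnd]
  have h5 : c ∈ ρ.fieldRange := by
    rw [h4]
    exact div_mem (hL n) (hL d)
  exact h5


theorem residue_comp_surjective {X Y Z : Scheme.{u}} (f : X ⟶ Y) (g : Y ⟶ Z) [IsOpenImmersion g]
    (x : X) (h : Function.Surjective (f.residueFieldMap x).hom) :
    Function.Surjective ((f ≫ g).residueFieldMap x).hom := by
  rw [Scheme.residueFieldMap_comp]
  have h1 : Function.Bijective (g.residueFieldMap (f x)).hom :=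
    (ConcreteCategory.isIso_iff_bijective (g.residueFieldMap (f x))).mp inferInstance
  exact h.comp h1.2

theorem residue_of_comp_eq {X Y Z W : Scheme.{u}} (ρ : X ⟶ Y) [IsOpenImmersion ρ] (k : Y ⟶ Z)
    (a : X ⟶ W) (j : W ⟶ Z) [IsOpenImmersion j] (e : ρ ≫ k = a ≫ j) (t : X)
    (h : Function.Surjective (a.residueFieldMap t).hom) :
    Function.Surjective (k.residueFieldMap (ρ t)).hom := by
  have h1 : Function.Surjective ((ρ ≫ k).residueFieldMap t).hom := by
    rw [Scheme.Hom.residueFieldMap_congr e t]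
    have h2 := residue_comp_surjective a j t h
    have h3 : Function.Bijective (Z.residueFieldCongr
        (show (ρ ≫ k) t = (a ≫ j) t by rw [e])).hom.hom :=
      (ConcreteCategory.isIso_iff_bijective _).mp inferInstance
    exact h2.comp h3.2
  rw [Scheme.residueFieldMap_comp] at h1
  intro y
  obtain ⟨z, hz⟩ := h1 ((ρ.residueFieldMap t).hom y)
  refine ⟨z, ?_⟩
  exact (ρ.residueFieldMap t).hom.injective hz


/-- residue fields of primes of a base change along a trivial residue field extension -/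
theorem tre_tensor {R R' C : Type*} [CommRing R] [CommRing R'] [CommRing C] [Algebra R R']
    [Algebra R C] (P : Ideal R')
    (H : ∀ r' : R', ∃ a b : R, algebraMap R R' b ∉ P ∧
      r' * algebraMap R R' b - algebraMap R R' a ∈ P)
    (t : Ideal (R' ⊗[R] C)) [t.IsPrime] (ht : t.comap (algebraMap R' (R' ⊗[R] C)) = P)
    (b : R' ⊗[R] C) :
    ∃ c c' : C, (Algebra.TensorProduct.includeRight : C →ₐ[R] R' ⊗[R] C) c' ∉ t ∧
      b * (Algebra.TensorProduct.includeRight : C →ₐ[R] R' ⊗[R] C) c' -
        (Algebra.TensorProduct.includeRight : C →ₐ[R] R' ⊗[R] C) c ∈ t := by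
  induction b using TensorProduct.induction_on with
  | zero =>
    refine ⟨0, 1, ?_, ?_⟩
    · rw [map_one]
      exact fun h => Ideal.IsPrime.ne_top inferInstance ((Ideal.eq_top_iff_one _).mpr h)
    · simp
  | tmul r' c₀ =>
    obtain ⟨a₀, b₀, hb₀, hab⟩ := H r'
    have hcomm : ∀ x : R, algebraMap R' (R' ⊗[R] C) (algebraMap R R' x) =
        (Algebra.TensorProduct.includeRight : C →ₐ[R] R' ⊗[R] C) (algebraMap R C x) := by
      intro x
      rw [← IsScalarTower.algebraMap_apply, AlgHom.commutes]
    refine ⟨a₀ • c₀, algebraMap R C b₀, ?_, ?_⟩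
    · intro h
      apply hb₀
      rw [← ht, Ideal.mem_comap, hcomm]
      exact h
    · have h1 : algebraMap R' (R' ⊗[R] C) (r' * algebraMap R R' b₀ - algebraMap R R' a₀) ∈ t := by
        rw [← Ideal.mem_comap, ht]; exact hab
      have h2 := t.mul_mem_right ((Algebra.TensorProduct.includeRight : C →ₐ[R] R' ⊗[R] C) c₀) h1
      have e1 : algebraMap R' (R' ⊗[R] C) r' *
          (Algebra.TensorProduct.includeRight : C →ₐ[R] R' ⊗[R] C) c₀ = r' ⊗ₜ[R] c₀ := by
        simp [Algebra.TensorProduct.algebraMap_apply]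
      have e2 : (Algebra.TensorProduct.includeRight : C →ₐ[R] R' ⊗[R] C) (a₀ • c₀) =
          (Algebra.TensorProduct.includeRight : C →ₐ[R] R' ⊗[R] C) (algebraMap R C a₀) *
            (Algebra.TensorProduct.includeRight : C →ₐ[R] R' ⊗[R] C) c₀ := by
        rw [← map_mul, Algebra.smul_def]
      rw [map_sub, map_mul, hcomm, hcomm] at h2
      rw [e2, ← e1]
      convert h2 using 1
      ring
  | add b₁ b₂ h₁ h₂ =>
    obtain ⟨c₁, c₁', h1, h1'⟩ := h₁
    obtain ⟨c₂, c₂', h2, h2'⟩ := h₂
    refine ⟨c₁ * c₂' + c₂ * c₁', c₁' * c₂', ?_, ?_⟩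
    · rw [map_mul]
      exact fun h => (Ideal.IsPrime.mem_or_mem inferInstance h).elim h1 h2
    · have := t.add_mem (t.mul_mem_right
        ((Algebra.TensorProduct.includeRight : C →ₐ[R] R' ⊗[R] C) c₂') h1')
        (t.mul_mem_right ((Algebra.TensorProduct.includeRight : C →ₐ[R] R' ⊗[R] C) c₁') h2')
      convert this using 1
      simp only [map_add, map_mul]
      ring

end Groth.Agent.Helper3.QFRes
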