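import Mathlib

open TensorProduct

universe u

namespace Groth.Agent.Helper3.UnramSplit

open Algebra.FormallyUnramified in
/-- For an unramified `R`-algebra `E` of (essentially) finite type and a surjection `φ : E → C`,
the kernel of `E ⊗ C → C` is generated by `1 - ε'` for an idempotent `ε'`. -/
theorem ker_productMap {R E C : Type*} [CommRing R] [CommRing E] [CommRing C] [Algebra R E]
    [Algebra R C] [Algebra.FormallyUnramified R E] [Algebra.EssFiniteType R E]
    (φ : E →ₐ[R] C) (hφ : Function.Surjective φ) :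
    IsIdempotentElem (Algebra.TensorProduct.map (AlgHom.id R E) φ (elem R E)) ∧
    RingHom.ker (Algebra.TensorProduct.productMap φ (AlgHom.id R C)) =
      Ideal.span {1 - Algebra.TensorProduct.map (AlgHom.id R E) φ (elem R E)} := by
  set ε := elem R E with hε
  set ψ := Algebra.TensorProduct.map (AlgHom.id R E) φ with hψ
  set μ := Algebra.TensorProduct.productMap φ (AlgHom.id R C) with hμ
  set ε' := ψ ε with hε'
  have h1 : ∀ x y : E, (x ⊗ₜ[R] y) * ε = ((1 : E) ⊗ₜ[R] (x * y)) * ε := by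
    intro x y
    have hx : ((1 : E) ⊗ₜ[R] x) * ε = (x ⊗ₜ[R] (1 : E)) * ε := one_tmul_mul_elem x
    calc (x ⊗ₜ[R] y) * ε = ((1 : E) ⊗ₜ[R] y) * ((x ⊗ₜ[R] (1 : E)) * ε) := by
          rw [← mul_assoc, Algebra.TensorProduct.tmul_mul_tmul, one_mul, mul_one]
      _ = ((1 : E) ⊗ₜ[R] y) * (((1 : E) ⊗ₜ[R] x) * ε) := by rw [hx]
      _ = ((1 : E) ⊗ₜ[R] (x * y)) * ε := by
          rw [← mul_assoc, Algebra.TensorProduct.tmul_mul_tmul, one_mul, mul_comm y x]
  have hμψ : ∀ z : E ⊗[R] E, μ (ψ z) = φ (Algebra.TensorProduct.lmul' R z) := by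
    intro z
    induction z using TensorProduct.induction_on with
    | zero => simp
    | tmul x y => simp [hμ, hψ]
    | add a b ha hb => simp [ha, hb]
  have hμε : μ ε' = 1 := by
    rw [hε', hμψ, lmul_elem, map_one]
  have h2 : ∀ w : E ⊗[R] C, w * ε' = ((1 : E) ⊗ₜ[R] μ w) * ε' := by
    intro w
    induction w using TensorProduct.induction_on with
    | zero => simp
    | tmul x c =>
      obtain ⟨y, rfl⟩ := hφ c
      have := congrArg ψ (h1 x y)
      rw [map_mul, map_mul] at this
      simpa [hψ, hμ] using this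
    | add a b ha hb =>
      rw [add_mul, ha, hb, map_add, TensorProduct.tmul_add, add_mul]
  have hidem : IsIdempotentElem ε' := by
    have := h2 ε'
    rw [hμε] at this
    change ε' * ε' = ε'
    rw [this]
    exact one_mul ε'
  refine ⟨hidem, le_antisymm ?_ ?_⟩
  · intro w hw
    rw [RingHom.mem_ker] at hw
    have hw' : μ w = 0 := hw
    have h3 := h2 w
    rw [hw', TensorProduct.tmul_zero, zero_mul] at h3
    rw [Ideal.mem_span_singleton']
    exact ⟨w, by rw [mul_sub, mul_one, h3, sub_zero]⟩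
  · rw [Ideal.span_le, Set.singleton_subset_iff]
    change μ (1 - ε') = 0
    rw [map_sub, map_one, hμε, sub_self]

end Groth.Agent.Helper3.UnramSplit

namespace Groth.Agent.Helper3.UnramSplit

/-- Descending an idempotent cutting out a quotient from a localization `T[1/F]` to `T`, when `F`
is invertible on the quotient. -/
theorem exists_idem_of_away {T T' C : Type*} [CommRing T] [CommRing T'] [CommRing C]
    [Algebra T T'] (F : T) [IsLocalization.Away F T'] (μ : T →+* C)
    (hμ : Function.Surjective μ) (μ' : T' →+* C) (hμ' : μ'.comp (algebraMap T T') = μ)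
    (ε' : T') (hε' : IsIdempotentElem ε') (hker : RingHom.ker μ' = Ideal.span {1 - ε'})
    (hF : IsUnit (μ F)) :
    ∃ e : T, IsIdempotentElem e ∧ RingHom.ker μ = Ideal.span {1 - e} := by
  have hμι : ∀ x, μ' (algebraMap T T' x) = μ x := fun x => congr($hμ' x)
  have hε'1 : μ' ε' = 1 := by
    have : (1 : T') - ε' ∈ RingHom.ker μ' := by
      rw [hker]; exact Ideal.subset_span rfl
    rw [RingHom.mem_ker, map_sub, map_one, sub_eq_zero] at this
    exact this.symm
  have hkill : ∀ y ∈ RingHom.ker μ', y * ε' = 0 := by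
    intro y hy
    rw [hker, Ideal.mem_span_singleton'] at hy
    obtain ⟨w, rfl⟩ := hy
    rw [mul_assoc, sub_mul, one_mul, hε'.eq, sub_self, mul_zero]
  obtain ⟨c, hc⟩ := hF.exists_left_inv
  obtain ⟨G, rfl⟩ := hμ c
  set H := G * F with hH
  have hμH : μ H = 1 := by rw [hH, map_mul, hc]
  have hHε : algebraMap T T' H * ε' = ε' := by
    have : algebraMap T T' H - 1 ∈ RingHom.ker μ' := by
      rw [RingHom.mem_ker, map_sub, hμι, hμH, map_one, sub_self]
    have := hkill _ this
    rw [sub_mul, one_mul, sub_eq_zero] at this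
    exact this
  have hHεn : ∀ n : ℕ, algebraMap T T' H ^ n * ε' = ε' := by
    intro n
    induction n with
    | zero => simp
    | succ n ih => rw [pow_succ, mul_assoc, hHε, ih]
  obtain ⟨n, t, ht⟩ := IsLocalization.Away.surj F ε'
  set e₀ := t * G ^ n with he₀
  have hιe₀ : algebraMap T T' e₀ = ε' := by
    rw [he₀, map_mul, ← ht, map_pow, mul_assoc, ← mul_pow, mul_comm (algebraMap T T' F),
      ← map_mul, ← hH, mul_comm, hHεn]
  have hpow : ∀ x : T, algebraMap T T' x = 0 → ∃ m : ℕ, F ^ m * x = 0 := by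
    intro x hx
    have : algebraMap T T' x = algebraMap T T' 0 := by rw [hx, map_zero]
    obtain ⟨⟨_, m, rfl⟩, hm⟩ := (IsLocalization.eq_iff_exists (Submonoid.powers F) T').mp this
    exact ⟨m, by simpa using hm⟩
  obtain ⟨m₁, hm₁⟩ := hpow (e₀ * e₀ - e₀) (by
    rw [map_sub, map_mul, hιe₀, hε'.eq, sub_self])
  obtain ⟨m₂, hm₂⟩ := hpow (e₀ * H - e₀) (by
    rw [map_sub, map_mul, hιe₀, mul_comm, hHε, sub_self])
  set M := m₁ + m₂ with hM
  have hHM : H ^ M = G ^ M * F ^ m₁ * F ^ m₂ := by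
    rw [hH, hM, mul_pow, pow_add F]; ring
  have hHM₁ : H ^ M * (e₀ * e₀ - e₀) = 0 := by
    have : H ^ M * (e₀ * e₀ - e₀) = G ^ M * F ^ m₂ * (F ^ m₁ * (e₀ * e₀ - e₀)) := by
      rw [hHM]; ring
    rw [this, hm₁, mul_zero]
  have hHM₂ : H ^ M * (e₀ * H - e₀) = 0 := by
    have : H ^ M * (e₀ * H - e₀) = G ^ M * F ^ m₁ * (F ^ m₂ * (e₀ * H - e₀)) := by
      rw [hHM]; ring
    rw [this, hm₂, mul_zero]
  set e := e₀ * H ^ M with he
  have heH : e * H = e := by
    have : e * H - e = H ^ M * (e₀ * H - e₀) := by rw [he]; ring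
    rw [← sub_eq_zero, this, hHM₂]
  have heHn : ∀ j : ℕ, e * H ^ j = e := by
    intro j
    induction j with
    | zero => simp
    | succ j ih => rw [pow_succ, ← mul_assoc, ih, heH]
  have hidem : IsIdempotentElem e := by
    change e * e = e
    have h1 : e * e = e * H ^ M + H ^ M * (H ^ M * (e₀ * e₀ - e₀)) := by rw [he]; ring
    rw [h1, hHM₁, mul_zero, add_zero, heHn]
  have hιe : algebraMap T T' e = ε' := by
    rw [he, map_mul, hιe₀, map_pow, mul_comm, hHεn]
  have hμe : μ e = 1 := by rw [← hμι, hιe, hε'1]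
  refine ⟨e, hidem, le_antisymm ?_ ?_⟩
  · intro x hx
    rw [RingHom.mem_ker] at hx
    have hιx : algebraMap T T' x ∈ RingHom.ker μ' := by
      rw [RingHom.mem_ker, hμι, hx]
    obtain ⟨j, hj⟩ := hpow (x * e) (by rw [map_mul, hιe, hkill _ hιx])
    have hxe : x * e = 0 := by
      have h2 : H ^ j * (x * e) = 0 := by
        have : H ^ j * (x * e) = G ^ j * (F ^ j * (x * e)) := by
          rw [hH, mul_pow]; ring
        rw [this, hj, mul_zero]
      calc x * e = x * (e * H ^ j) := by rw [heHn]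
        _ = H ^ j * (x * e) := by ring
        _ = 0 := h2
    rw [Ideal.mem_span_singleton']
    exact ⟨x, by rw [mul_sub, mul_one, hxe, sub_zero]⟩
  · rw [Ideal.span_le, Set.singleton_subset_iff]
    change μ (1 - e) = 0
    rw [map_sub, map_one, hμe, sub_self]

end Groth.Agent.Helper3.UnramSplit

namespace Groth.Agent.Helper3.UnramSplit

set_option maxHeartbeats 1000000 in
theorem main (R : Type u) [CommRing R]
    (S : Type u) [CommRing S] [Algebra R S] [Algebra.FiniteType R S] (q : Ideal S) [q.IsPrime]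
    [Algebra.IsUnramifiedAt R q] :
    ∃ (R' : Type u) (_ : CommRing R') (_ : Algebra R R') (_ : Algebra.Etale R R') (p' : Ideal R')
      (_ : p'.IsPrime) (_ : p'.LiesOver (q.under R)) (A : Type u) (_ : CommRing A) (_ : Algebra R' A)
      (B : Type u) (_ : CommRing B) (_ : Algebra R' B) (e : (R' ⊗[R] S) ≃ₐ[R'] (A × B)),
      Function.Surjective (algebraMap R' A) ∧ (p'.map (algebraMap R' A)).IsPrime ∧
        (p'.map (algebraMap R' A)).comap (algebraMap R' A) = p' ∧
        (p'.map (algebraMap R' A)).comap (((RingHom.fst A B).comp e.toRingHom).comp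
          (Algebra.TensorProduct.includeRight : S →ₐ[R] R' ⊗[R] S).toRingHom) = q := by
  obtain ⟨f, hfq, P, φ, hφ⟩ :=
    Algebra.IsUnramifiedAt.exists_hasStandardEtaleSurjectionOn (R := R) q
  let E := P.Ring
  let Sf := Localization.Away f
  have hdisj : Disjoint (Submonoid.powers f : Set S) (q : Set S) := by
    rwa [Ideal.disjoint_powers_iff_notMem_of_isPrime]
  set qf : Ideal Sf := q.map (algebraMap S Sf) with hqf
  have hqfp : qf.IsPrime := IsLocalization.isPrime_of_isPrime_disjoint (.powers f) _ _ ‹_› hdisj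
  have hqfc : qf.comap (algebraMap S Sf) = q :=
    IsLocalization.under_map_of_isPrime_disjoint (.powers f) _ ‹_› hdisj
  let ιalg : (E ⊗[R] S) →ₐ[E] (E ⊗[R] Sf) :=
    Algebra.TensorProduct.map (AlgHom.id E E) (IsScalarTower.toAlgHom R S Sf)
  letI : Algebra (E ⊗[R] S) (E ⊗[R] Sf) := ιalg.toRingHom.toAlgebra
  haveI : IsScalarTower E (E ⊗[R] S) (E ⊗[R] Sf) := .of_algebraMap_eq' ιalg.comp_algebraMap.symm
  have hloc : IsLocalization.Away ((1 : E) ⊗ₜ[R] f : (E ⊗[R] S)) (E ⊗[R] Sf) := by
    have := IsLocalization.tensorProduct_tensorProduct_right R E (Submonoid.powers f) Sf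
      (by
        ext x
        exact Algebra.TensorProduct.map_tmul _ _ _ _)
    have h2 : (Submonoid.powers f).map (Algebra.TensorProduct.includeRight (R := R) (A := E)) =
        Submonoid.powers ((1 : E) ⊗ₜ[R] f : (E ⊗[R] S)) := by
      rw [Submonoid.map_powers]; rfl
    rw [h2] at this
    exact this
  let μ' : (E ⊗[R] Sf) →ₐ[R] Sf := Algebra.TensorProduct.productMap φ (AlgHom.id R Sf)
  let μ : (E ⊗[R] S) →ₐ[R] Sf := Algebra.TensorProduct.productMap φ (IsScalarTower.toAlgHom R S Sf)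
  have hμ' : (μ' : (E ⊗[R] Sf) →+* Sf).comp (algebraMap (E ⊗[R] S) (E ⊗[R] Sf)) = (μ : (E ⊗[R] S) →+* Sf) := by
    refine RingHom.ext fun x => ?_
    induction x using TensorProduct.induction_on with
    | zero => simp
    | tmul a b => simp [RingHom.algebraMap_toAlgebra, ιalg, μ, μ']
    | add a b ha hb => simp only [map_add, ha, hb]
  have hμs : Function.Surjective (μ : (E ⊗[R] S) →+* Sf) := by
    intro y
    obtain ⟨x, rfl⟩ := hφ y
    exact ⟨x ⊗ₜ 1, by simp [μ]⟩
  have hμF : IsUnit ((μ : (E ⊗[R] S) →+* Sf) ((1 : E) ⊗ₜ[R] f)) := by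
    have : (μ : (E ⊗[R] S) →+* Sf) ((1 : E) ⊗ₜ[R] f) = algebraMap S Sf f := by simp [μ]
    rw [this]
    exact IsLocalization.Away.algebraMap_isUnit f
  obtain ⟨hε', hker⟩ := ker_productMap φ hφ
  obtain ⟨e, he, hkere⟩ := exists_idem_of_away ((1 : E) ⊗ₜ[R] f : (E ⊗[R] S)) (μ : (E ⊗[R] S) →+* Sf) hμs
    (μ' : (E ⊗[R] Sf) →+* Sf) hμ' _ hε' hker hμF
  have hμe : μ e = 1 := by
    have : (1 : (E ⊗[R] S)) - e ∈ RingHom.ker (μ : (E ⊗[R] S) →+* Sf) := by
      rw [hkere]; exact Ideal.subset_span rfl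
    rw [RingHom.mem_ker, map_sub, map_one, sub_eq_zero] at this
    exact this.symm
  -- algebra structures
  letI algA : Algebra E Sf := φ.toRingHom.toAlgebra
  let μE : (E ⊗[R] S) →ₐ[E] Sf :=
    { (μ : (E ⊗[R] S) →+* Sf) with
      commutes' := fun x => by
        show μ (x ⊗ₜ 1) = φ x
        simp [μ] }
  let B := (E ⊗[R] S) ⧸ Ideal.span {e}
  let Ψ : (E ⊗[R] S) →ₐ[E] Sf × B := AlgHom.prod μE (Ideal.Quotient.mkₐ E (Ideal.span {e}))
  have hΨ : Function.Bijective Ψ := by
    constructor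
    · rw [injective_iff_map_eq_zero]
      intro x hx
      have h1 : μ x = 0 := congrArg Prod.fst hx
      have h2 : Ideal.Quotient.mk (Ideal.span {e}) x = 0 := congrArg Prod.snd hx
      rw [Ideal.Quotient.eq_zero_iff_mem, Ideal.mem_span_singleton'] at h2
      obtain ⟨y, rfl⟩ := h2
      have h3 : y * e ∈ RingHom.ker (μ : (E ⊗[R] S) →+* Sf) := h1
      rw [hkere, Ideal.mem_span_singleton'] at h3
      obtain ⟨z, hz⟩ := h3
      have : y * e = (y * e) * e := by rw [mul_assoc, he.eq]
      rw [this, ← hz, mul_assoc, sub_mul, one_mul, he.eq, sub_self, mul_zero]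
    · rintro ⟨a, b⟩
      obtain ⟨x, rfl⟩ := hμs a
      obtain ⟨y, rfl⟩ := Ideal.Quotient.mk_surjective b
      refine ⟨x * e + y * (1 - e), Prod.ext ?_ ?_⟩
      · show μ (x * e + y * (1 - e)) = μ x
        rw [map_add, map_mul, map_mul, map_sub, map_one, hμe, sub_self, mul_zero, mul_one,
          add_zero]
      · show Ideal.Quotient.mk (Ideal.span {e}) (x * e + y * (1 - e)) =
          Ideal.Quotient.mk (Ideal.span {e}) y
        rw [Ideal.Quotient.eq, Ideal.mem_span_singleton']
        exact ⟨x - y, by ring⟩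
  let p' : Ideal E := qf.comap φ.toRingHom
  have hmap : p'.map (algebraMap E Sf) = qf := Ideal.map_comap_of_surjective _ hφ qf
  have hover : p'.LiesOver (q.under R) := by
    constructor
    ext r
    simp only [Ideal.under, Ideal.mem_comap, p']
    rw [← hqfc, Ideal.mem_comap]
    have : φ.toRingHom (algebraMap R E r) = algebraMap S Sf (algebraMap R S r) := by
      rw [← IsScalarTower.algebraMap_apply R S Sf]
      exact φ.commutes r
    rw [this]
  refine ⟨E, inferInstance, inferInstance, inferInstance, p', inferInstance, hover,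
    Sf, inferInstance, algA, B, inferInstance, inferInstance, AlgEquiv.ofBijective Ψ hΨ,
    hφ, ?_, ?_, ?_⟩
  · rw [hmap]; exact hqfp
  · rw [hmap]; rfl
  · rw [hmap, ← hqfc]
    ext s
    simp only [Ideal.mem_comap]
    have : ((RingHom.fst Sf B).comp (AlgEquiv.ofBijective Ψ hΨ).toRingHom).comp
        (Algebra.TensorProduct.includeRight : S →ₐ[R] E ⊗[R] S).toRingHom s =
        algebraMap S Sf s := by
      show μ ((1 : E) ⊗ₜ[R] s) = algebraMap S Sf s
      simp [μ]
    rw [this]

end Groth.Agent.Helper3.UnramSplit
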