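import Mathlib
import Groth.Agent.Helper3.UnramSplit

namespace Groth.Agent.Helper3.UnramDecomp

open TensorProduct

universe u

section rank

theorem finrank_fiber_baseChange {R S A : Type*} [CommRing R] [CommRing S] [Algebra R S]
    [CommRing A] [Algebra R A] (p : Ideal R) [p.IsPrime] (P : Ideal A) [P.IsPrime]
    [P.LiesOver p] :
    Module.finrank P.ResidueField (P.Fiber (A ⊗[R] S)) =
      Module.finrank p.ResidueField (p.Fiber S) := by
  let := Localization.AtPrime.algebraOfLiesOver p P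
  let e : P.Fiber (A ⊗[R] S) ≃ₐ[P.ResidueField] P.ResidueField ⊗[p.ResidueField] (p.Fiber S) :=
    (Algebra.TensorProduct.cancelBaseChange _ _ _ _ _).trans
      (Algebra.TensorProduct.cancelBaseChange _ _ _ _ _).symm
  rw [e.toLinearEquiv.finrank_eq, Module.finrank_baseChange]

theorem finrank_fiber_lt {R T A B : Type*} [CommRing R] [CommRing T] [Algebra R T]
    [CommRing A] [Algebra R A] [CommRing B] [Algebra R B] (p : Ideal R) [p.IsPrime]
    [Module.Finite p.ResidueField (p.Fiber T)]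
    (e : T ≃ₐ[R] A × B) (φ : A →ₐ[R] p.ResidueField) :
    Module.finrank p.ResidueField (p.Fiber B) < Module.finrank p.ResidueField (p.Fiber T) := by
  let e1 : p.Fiber T ≃ₗ[p.ResidueField] (p.Fiber A) × (p.Fiber B) :=
    (LinearEquiv.baseChange R p.ResidueField T (A × B) e.toLinearEquiv).trans
      (TensorProduct.prodRight R p.ResidueField p.ResidueField A B)
  haveI : Module.Finite p.ResidueField ((p.Fiber A) × (p.Fiber B)) :=
    Module.Finite.equiv e1
  haveI : Module.Finite p.ResidueField (p.Fiber A) :=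
    Module.Finite.of_surjective (LinearMap.fst p.ResidueField (p.Fiber A) (p.Fiber B))
      LinearMap.fst_surjective
  haveI : Module.Finite p.ResidueField (p.Fiber B) :=
    Module.Finite.of_surjective (LinearMap.snd p.ResidueField (p.Fiber A) (p.Fiber B))
      LinearMap.snd_surjective
  let ψ : p.Fiber A →ₐ[p.ResidueField] p.ResidueField :=
    Algebra.TensorProduct.lift (AlgHom.id _ _) φ (fun _ _ => Commute.all _ _)
  haveI : Nontrivial (p.Fiber A) := RingHom.domain_nontrivial ψ.toRingHom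
  have hpos : 0 < Module.finrank p.ResidueField (p.Fiber A) := Module.finrank_pos
  rw [e1.finrank_eq, Module.finrank_prod]
  omega

end rank


section equivs

/-- `Fin.consEquiv` as an algebra equivalence. -/
def consAlgEquiv (R : Type*) [CommSemiring R] {n : ℕ} (M : Fin (n + 1) → Type*)
    [∀ i, Semiring (M i)] [∀ i, Algebra R (M i)] :
    (M 0 × ∀ i, M (Fin.succ i)) ≃ₐ[R] (∀ i, M i) where
  __ := Fin.consEquiv M
  map_mul' x y := funext <| Fin.cases rfl (by simp)
  map_add' x y := funext <| Fin.cases rfl (by simp)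
  commutes' r := funext <| Fin.cases rfl (by simp)

/-- associativity of products as an algebra equivalence -/
def prodAssocAlgEquiv (R A B C : Type*) [CommSemiring R] [Semiring A] [Semiring B] [Semiring C]
    [Algebra R A] [Algebra R B] [Algebra R C] : ((A × B) × C) ≃ₐ[R] (A × (B × C)) where
  __ := Equiv.prodAssoc A B C
  map_mul' _ _ := rfl
  map_add' _ _ := rfl
  commutes' _ := rfl

/-- the base case equivalence -/
def baseAlgEquiv (R S : Type*) [CommRing R] [CommRing S] [Algebra R S] (I : Fin 0 → Ideal R) :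
    S ≃ₐ[R] ((∀ i, R ⧸ I i) × S) :=
  AlgEquiv.symm
    { toFun := Prod.snd
      invFun := fun s => (fun i => i.elim0, s)
      left_inv := fun _ => Prod.ext (funext fun i => i.elim0) rfl
      right_inv := fun _ => rfl
      map_mul' := fun _ _ => rfl
      map_add' := fun _ _ => rfl
      commutes' := fun _ => rfl }

/-- the family of quotients by `Fin.cons I₀ I` -/
def consQuotAlgEquiv (R : Type*) [CommRing R] {n : ℕ} (I₀ : Ideal R) (I : Fin n → Ideal R) :
    ((R ⧸ I₀) × ∀ i, R ⧸ I i) ≃ₐ[R] (∀ i : Fin (n + 1), R ⧸ (Fin.cons I₀ I : Fin (n + 1) → Ideal R) i) :=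
  (AlgEquiv.prodCongr (Ideal.quotientEquivAlgOfEq R (Fin.cons_zero (α := fun _ => Ideal R) I₀ I).symm)
    (AlgEquiv.piCongrRight fun i =>
      Ideal.quotientEquivAlgOfEq R (Fin.cons_succ (α := fun _ => Ideal R) I₀ I i).symm)).trans
    (consAlgEquiv R (fun i : Fin (n + 1) => R ⧸ (Fin.cons I₀ I : Fin (n + 1) → Ideal R) i))

end equivs


/-- the intermediate conclusion -/
def Concl (R S : Type u) [CommRing R] [CommRing S] [Algebra R S] (p : Ideal R) : Prop :=
  ∃ (R' : Type u) (_ : CommRing R') (_ : Algebra R R') (_ : Algebra.Etale R R') (p' : Ideal R')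
    (_ : p'.IsPrime) (_ : p'.LiesOver p) (n : ℕ) (I : Fin n → Ideal R') (B : Type u)
    (_ : CommRing B) (_ : Algebra R' B),
    (∀ i, I i ≤ p') ∧ Nonempty ((R' ⊗[R] S) ≃ₐ[R'] ((∀ i, R' ⧸ I i) × B)) ∧
    ∀ (q : Ideal B) [q.IsPrime], q.comap (algebraMap R' B) ≠ p'

theorem concl_of_no_prime (R S : Type u) [CommRing R] [CommRing S] [Algebra R S]
    (p : Ideal R) [p.IsPrime]
    (h : ∀ (q : Ideal S) [q.IsPrime], q.comap (algebraMap R S) ≠ p) : Concl R S p := by
  refine ⟨R, inferInstance, inferInstance, inferInstance, p, inferInstance, ⟨?_⟩, 0,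
    fun i => i.elim0, S, inferInstance, inferInstance, fun i => i.elim0, ⟨?_⟩, h⟩
  · simp [Ideal.under]
  · exact (Algebra.TensorProduct.lid R S).trans (baseAlgEquiv R S _)

theorem concl_step (R S : Type u) [CommRing R] [CommRing S] [Algebra R S]
    [Algebra.Unramified R S] (q : Ideal S) [q.IsPrime]
    (IH : ∀ (R₁ B₁ : Type u) [CommRing R₁] [CommRing B₁] [Algebra R₁ B₁] [Algebra.Unramified R₁ B₁]
      (p₁ : Ideal R₁) [p₁.IsPrime],
      Module.finrank p₁.ResidueField (p₁.Fiber B₁) <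
        Module.finrank (q.under R).ResidueField ((q.under R).Fiber S) → Concl R₁ B₁ p₁) :
    Concl R S (q.under R) := by
  obtain ⟨R₁, _, _, _, p₁, _, _, A₁, _, _, B₁, _, _, e₁, hsurj, hprime, hcomap, -⟩ :=
    UnramSplit.main R S q
  have hK : RingHom.ker (algebraMap R₁ A₁) ≤ p₁ := by
    intro x hx
    rw [← hcomap, Ideal.mem_comap, RingHom.mem_ker.mp hx]
    exact Ideal.zero_mem _
  -- the map A₁ → κ(p₁)
  let φ : A₁ →ₐ[R₁] p₁.ResidueField :=
    (Ideal.Quotient.liftₐ (RingHom.ker (algebraMap R₁ A₁)) (Algebra.ofId R₁ p₁.ResidueField)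
      (fun a ha => Ideal.algebraMap_residueField_eq_zero.mpr (hK ha))).comp
      (Ideal.quotientKerAlgEquivOfSurjective (f := Algebra.ofId R₁ A₁) hsurj).symm.toAlgHom
  -- B₁ is unramified
  let π : R₁ ⊗[R] S →ₐ[R₁] B₁ := (AlgHom.snd R₁ A₁ B₁).comp e₁.toAlgHom
  have hπ : Function.Surjective π := fun b => ⟨e₁.symm (0, b), by simp [π]⟩
  haveI : Algebra.Unramified R₁ B₁ :=
    { formallyUnramified := Algebra.FormallyUnramified.of_surjective π hπ
      finiteType := Algebra.FiniteType.of_surjective π hπ }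
  have hrank : Module.finrank p₁.ResidueField (p₁.Fiber B₁) <
      Module.finrank (q.under R).ResidueField ((q.under R).Fiber S) := by
    rw [← finrank_fiber_baseChange (S := S) (q.under R) p₁]
    exact finrank_fiber_lt p₁ e₁ φ
  obtain ⟨R₂, _, _, _, p₂, _, _, n, I, B, _, _, hI, ⟨e₂⟩, hB⟩ := IH R₁ B₁ p₁ hrank
  letI : Algebra R R₂ := ((algebraMap R₁ R₂).comp (algebraMap R R₁)).toAlgebra
  haveI : IsScalarTower R R₁ R₂ := IsScalarTower.of_algebraMap_eq' rfl
  haveI : Algebra.Etale R R₂ := Algebra.Etale.comp R R₁ R₂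
  haveI : p₂.LiesOver (q.under R) := Ideal.LiesOver.trans p₂ p₁ _
  let I₀ : Ideal R₂ := (RingHom.ker (algebraMap R₁ A₁)).map (algebraMap R₁ R₂)
  have hI₀ : I₀ ≤ p₂ := by
    rw [Ideal.map_le_iff_le_comap]
    refine hK.trans ?_
    rw [Ideal.over_def p₂ p₁]
  -- the isomorphism `R₂ ⊗ A₁ ≃ R₂ ⧸ I₀`
  let E₀ : R₂ ⊗[R₁] A₁ ≃ₐ[R₂] R₂ ⧸ I₀ :=
    (Algebra.TensorProduct.congr (AlgEquiv.refl (R := R₂) (A₁ := R₂))
      (Ideal.quotientKerAlgEquivOfSurjective (f := Algebra.ofId R₁ A₁) hsurj).symm).trans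
      (Algebra.TensorProduct.quotIdealMapEquivTensorQuot R₂
        (RingHom.ker (algebraMap R₁ A₁))).symm
  -- assemble
  let E : R₂ ⊗[R] S ≃ₐ[R₂] (∀ i : Fin (n + 1), R₂ ⧸ (Fin.cons I₀ I : Fin (n + 1) → Ideal R₂) i) × B :=
    (((((Algebra.TensorProduct.cancelBaseChange R R₁ R₂ R₂ S).symm.trans
      (Algebra.TensorProduct.congr (AlgEquiv.refl (R := R₂) (A₁ := R₂)) e₁)).trans
      (Algebra.TensorProduct.prodRight R₁ R₂ R₂ A₁ B₁)).trans
      (AlgEquiv.prodCongr E₀ e₂)).trans
      (prodAssocAlgEquiv R₂ (R₂ ⧸ I₀) (∀ i, R₂ ⧸ I i) B).symm).trans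
      (AlgEquiv.prodCongr (consQuotAlgEquiv R₂ I₀ I) AlgEquiv.refl)
  refine ⟨R₂, inferInstance, inferInstance, inferInstance, p₂, inferInstance, inferInstance,
    n + 1, Fin.cons I₀ I, B, inferInstance, inferInstance, ?_, ⟨E⟩, hB⟩
  intro i
  refine Fin.cases ?_ (fun j => ?_) i
  · simpa using hI₀
  · simpa using hI j


theorem concl_all (d : ℕ) : ∀ (R S : Type u) [CommRing R] [CommRing S] [Algebra R S]
    [Algebra.Unramified R S] (p : Ideal R) [p.IsPrime],
    Module.finrank p.ResidueField (p.Fiber S) = d → Concl R S p := by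
  induction d using Nat.strong_induction_on with
  | _ d IH =>
    intro R S _ _ _ _ p _ hd
    by_cases h : ∀ (q : Ideal S) [q.IsPrime], q.comap (algebraMap R S) ≠ p
    · exact concl_of_no_prime R S p h
    · push Not at h
      obtain ⟨q, hq, rfl⟩ := h
      refine concl_step R S q (fun R₁ B₁ _ _ _ _ p₁ _ hlt => ?_)
      exact IH _ (hd ▸ hlt) R₁ B₁ p₁ rfl

theorem main (R : Type u) [CommRing R]
    (S : Type u) [CommRing S] [Algebra R S] [Algebra.Unramified R S] (p : Ideal R) [p.IsPrime] :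
    ∃ (R' : Type u) (_ : CommRing R') (_ : Algebra R R') (_ : Algebra.Etale R R') (p' : Ideal R')
      (_ : p'.IsPrime) (_ : p'.LiesOver p) (n : ℕ) (A : Fin n → Type u) (_ : ∀ i, CommRing (A i))
      (_ : ∀ i, Algebra R' (A i)) (B : Type u) (_ : CommRing B) (_ : Algebra R' B),
      Nonempty ((R' ⊗[R] S) ≃ₐ[R'] ((∀ i, A i) × B)) ∧
        (∀ i, Function.Surjective (algebraMap R' (A i)) ∧
          (p'.map (algebraMap R' (A i))).IsPrime ∧
          (p'.map (algebraMap R' (A i))).comap (algebraMap R' (A i)) = p') ∧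
        ∀ (q : Ideal B) [q.IsPrime], q.comap (algebraMap R' B) ≠ p' := by
  obtain ⟨R', _, _, _, p', _, _, n, I, B, _, _, hI, he, hB⟩ := concl_all _ R S p rfl
  refine ⟨R', inferInstance, inferInstance, inferInstance, p', inferInstance, inferInstance, n,
    fun i => R' ⧸ I i, fun i => inferInstance, fun i => inferInstance, B, inferInstance,
    inferInstance, he, fun i => ?_, hB⟩
  have hsurj : Function.Surjective (algebraMap R' (R' ⧸ I i)) := Ideal.Quotient.mk_surjective
  have hker : RingHom.ker (algebraMap R' (R' ⧸ I i)) ≤ p' := by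
    rw [Ideal.Quotient.algebraMap_eq, Ideal.mk_ker]
    exact hI i
  refine ⟨hsurj, Ideal.map_isPrime_of_surjective hsurj hker, ?_⟩
  rw [Ideal.comap_map_of_surjective _ hsurj, ← RingHom.ker_eq_comap_bot, sup_eq_left]
  exact hker

end Groth.Agent.Helper3.UnramDecomp
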