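import Mathlib
import Groth.Agent.Helper3.UnramDecomp

namespace Groth.Agent.Helper3.EtLocalRing

open TensorProduct

universe u

section proj

variable {R' : Type u} [CommRing R'] {T : Type u} [CommRing T] [Algebra R' T] {m : ℕ}
  {A : Fin m → Type u} [∀ k, CommRing (A k)] [∀ k, Algebra R' (A k)] {B : Type u} [CommRing B]
  [Algebra R' B] (E : T ≃ₐ[R'] ((∀ k, A k) × B))

/-- projection to the `k`-th factor -/
noncomputable def proj (k : Fin m) : T →ₐ[R'] A k :=
  (Pi.evalAlgHom R' A k).comp ((AlgHom.fst R' (∀ k, A k) B).comp E.toAlgHom)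

/-- the `k`-th idempotent -/
noncomputable def idem (k : Fin m) : T := E.symm (Pi.single k 1, 0)

/-- projection to the rest -/
noncomputable def projB : T →ₐ[R'] B := (AlgHom.snd R' (∀ k, A k) B).comp E.toAlgHom

lemma proj_apply (k : Fin m) (x : T) : proj E k x = (E x).1 k := rfl

lemma projB_apply (x : T) : projB E x = (E x).2 := rfl

lemma E_idem (k : Fin m) : E (idem E k) = (Pi.single k 1, 0) := E.apply_symm_apply _

lemma idem_isIdempotentElem (k : Fin m) : IsIdempotentElem (idem E k) := by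
  apply E.injective
  rw [map_mul, E_idem]
  ext j
  · by_cases h : j = k
    · subst h; simp
    · simp [h]
  · simp

lemma idem_mul_idem (k k' : Fin m) (h : k ≠ k') : idem E k * idem E k' = 0 := by
  apply E.injective
  rw [map_mul, E_idem, E_idem, map_zero]
  ext j
  · by_cases hj : j = k
    · subst hj; simp [h]
    · simp [hj]
  · simp

lemma proj_surjective (k : Fin m) : Function.Surjective (proj E k) := by
  intro a
  refine ⟨E.symm (Pi.single k a, 0), ?_⟩
  rw [proj_apply, E.apply_symm_apply]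
  simp

lemma proj_eq_iff (k : Fin m) (x y : T) :
    proj E k x = proj E k y ↔ idem E k * x = idem E k * y := by
  rw [← E.injective.eq_iff (a := idem E k * x), map_mul, map_mul, E_idem, proj_apply, proj_apply]
  constructor
  · intro h
    ext j
    · by_cases hj : j = k
      · subst hj; simp [h]
      · simp [hj]
    · simp
  · intro h
    have := congrArg (fun z => z.1 k) h
    simpa using this

lemma ker_proj (k : Fin m) : RingHom.ker (proj E k) = Ideal.span {1 - idem E k} := by
  ext x
  rw [RingHom.mem_ker, Ideal.mem_span_singleton']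
  have h0 : proj E k x = 0 ↔ idem E k * x = 0 := by
    have := proj_eq_iff E k x 0
    simpa using this
  rw [h0]
  constructor
  · intro h
    refine ⟨x, ?_⟩
    rw [mul_sub, mul_one, mul_comm, h, sub_zero]
  · rintro ⟨a, rfl⟩
    rw [← mul_assoc, mul_comm (idem E k), mul_assoc, mul_sub, mul_one,
      (idem_isIdempotentElem E k).eq, sub_self, mul_zero]

lemma E_sum_idem : E (∑ k, idem E k) = (1, 0) := by
  rw [map_sum]
  simp only [E_idem]
  ext j
  · simp [Finset.sum_apply, Prod.fst_sum]
  · simp [Prod.snd_sum]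

/-- a prime containing all the idempotents comes from `B`. -/
lemma exists_prime_of_idem_mem (t : Ideal T) [t.IsPrime] (h : ∀ k, idem E k ∈ t) :
    ∃ q : Ideal B, q.IsPrime ∧ q.comap (projB E) = t := by
  have hsurj : Function.Surjective (projB E) := by
    intro b
    refine ⟨E.symm (0, b), ?_⟩
    rw [projB_apply, E.apply_symm_apply]
  have hker : RingHom.ker (projB E) ≤ t := by
    intro x hx
    rw [RingHom.mem_ker, projB_apply] at hx
    have hx' : x = x * ∑ k, idem E k := by
      apply E.injective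
      rw [map_mul, E_sum_idem]
      ext j
      · simp
      · simp [hx]
    rw [hx']
    exact Ideal.mul_mem_left _ _ (Ideal.sum_mem _ fun k _ => h k)
  refine ⟨t.map (projB E), Ideal.map_isPrime_of_surjective hsurj hker, ?_⟩
  rw [Ideal.comap_map_of_surjective _ hsurj, sup_eq_left]
  exact hker

include E in
/-- each factor of an étale algebra is étale -/
theorem etale_factor [Algebra.Etale R' T] (k : Fin m) : Algebra.Etale R' (A k) := by
  letI : Algebra T (A k) := (proj E k).toRingHom.toAlgebra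
  haveI : IsScalarTower R' T (A k) :=
    IsScalarTower.of_algebraMap_eq' (proj E k).comp_algebraMap.symm
  haveI : IsLocalization.Away (idem E k) (A k) :=
    IsLocalization.away_of_isIdempotentElem_of_mul (idem_isIdempotentElem E k)
      (proj_eq_iff E k) (proj_surjective E k)
  haveI : Algebra.Etale T (A k) := Algebra.Etale.of_isLocalizationAway (idem E k)
  exact Algebra.Etale.comp R' T (A k)

end proj

/-- an étale quotient is cut out by an idempotent -/
theorem exists_idem_of_etale_quot {R : Type u} [CommRing R] (J : Ideal R)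
    [Algebra.Etale R (R ⧸ J)] : ∃ e : R, IsIdempotentElem e ∧ J = Ideal.span {e} := by
  have h1 : IsIdempotentElem (RingHom.ker (algebraMap R (R ⧸ J))) :=
    (Algebra.FormallyEtale.iff_of_surjective Ideal.Quotient.mk_surjective).mp inferInstance
  rw [Ideal.Quotient.algebraMap_eq, Ideal.mk_ker] at h1
  have h2 : J.FG := by
    have := Algebra.FinitePresentation.ker_fG_of_surjective (Ideal.Quotient.mkₐ R J)
      (Ideal.Quotient.mkₐ_surjective R J)
    have h3 : RingHom.ker (Ideal.Quotient.mkₐ R J).toRingHom = J := Ideal.mk_ker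
    rwa [h3] at this
  exact (Ideal.isIdempotentElem_iff_of_fg J h2).mp h1

/-- pieces data for `T` over `(R', p')`. -/
def Pieces (triv : Prop) (R' : Type u) [CommRing R'] (p' : Ideal R') (T : Type u) [CommRing T]
    [Algebra R' T] : Prop :=
  ∃ (m : ℕ) (I : Fin m → Ideal R') (π : ∀ k, T →ₐ[R'] R' ⧸ I k) (ε : Fin m → T),
    (∀ k, I k ≤ p') ∧ (triv → ∀ k, I k = ⊥) ∧ (∀ k, IsIdempotentElem (ε k)) ∧
    (∀ k, RingHom.ker (π k) = Ideal.span {1 - ε k}) ∧ (∀ k k', k ≠ k' → ε k * ε k' = 0) ∧
    (∀ t : Ideal T, t.IsPrime → t.comap (algebraMap R' T) = p' → ∃ k, ε k ∉ t)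

/-- decomposition data for `T` over `(R', p')`. -/
def Decomp (triv : Prop) (R' : Type u) [CommRing R'] (p' : Ideal R') (T : Type u) [CommRing T]
    [Algebra R' T] : Prop :=
  ∃ (m : ℕ) (I : Fin m → Ideal R') (B : Type u) (_ : CommRing B) (_ : Algebra R' B),
    (∀ k, I k ≤ p') ∧ (triv → ∀ k, I k = ⊥) ∧ Nonempty (T ≃ₐ[R'] ((∀ k, R' ⧸ I k) × B)) ∧
    ∀ (q : Ideal B) [q.IsPrime], q.comap (algebraMap R' B) ≠ p'

theorem Decomp.pieces {triv : Prop} {R' : Type u} [CommRing R'] {p' : Ideal R'} {T : Type u}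
    [CommRing T] [Algebra R' T] (h : Decomp triv R' p' T) : Pieces triv R' p' T := by
  obtain ⟨m, I, B, _, _, hI, htriv, ⟨E⟩, hB⟩ := h
  refine ⟨m, I, proj E, idem E, hI, htriv, idem_isIdempotentElem E, ker_proj E,
    idem_mul_idem E, ?_⟩
  intro t ht htp
  by_contra hcon
  push Not at hcon
  obtain ⟨q, hq, hqt⟩ := exists_prime_of_idem_mem E t hcon
  refine hB q ?_
  rw [← htp, ← hqt]
  change _ = Ideal.comap (algebraMap R' T) (Ideal.comap (projB E).toRingHom q)
  rw [Ideal.comap_comap]
  have h3 : (projB E).toRingHom.comp (algebraMap R' T) = algebraMap R' B :=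
    (projB E).comp_algebraMap
  exact congrArg (fun φ => Ideal.comap φ q) h3.symm

theorem Decomp.of_equiv {triv : Prop} {R' : Type u} [CommRing R'] {p' : Ideal R'} {T T' : Type u}
    [CommRing T] [Algebra R' T] [CommRing T'] [Algebra R' T'] (e : T ≃ₐ[R'] T')
    (h : Decomp triv R' p' T) : Decomp triv R' p' T' := by
  obtain ⟨m, I, B, _, _, hI, htriv, ⟨E⟩, hB⟩ := h
  exact ⟨m, I, B, inferInstance, inferInstance, hI, htriv, ⟨e.symm.trans E⟩, hB⟩

theorem decomp_baseChange {triv' : Prop} {R' : Type u} [CommRing R'] {p' : Ideal R'} {T : Type u}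
    [CommRing T] [Algebra R' T] {m : ℕ} (I : Fin m → Ideal R') {B : Type u} [CommRing B]
    [Algebra R' B] (hI : ∀ k, I k ≤ p') (E : T ≃ₐ[R'] ((∀ k, R' ⧸ I k) × B))
    (hB : ∀ (q : Ideal B) [q.IsPrime], q.comap (algebraMap R' B) ≠ p')
    (R'' : Type u) [CommRing R''] [Algebra R' R''] (p'' : Ideal R'') [p''.LiesOver p']
    (htriv : triv' → ∀ k, (I k).map (algebraMap R' R'') = ⊥) :
    Decomp triv' R'' p'' (R'' ⊗[R'] T) := by
  classical
  let E'' : (R'' ⊗[R'] T) ≃ₐ[R''] ((∀ k, R'' ⧸ (I k).map (algebraMap R' R'')) × (R'' ⊗[R'] B)) :=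
    ((Algebra.TensorProduct.congr (AlgEquiv.refl (R := R'') (A₁ := R'')) E).trans
      (Algebra.TensorProduct.prodRight R' R'' R'' (∀ k, R' ⧸ I k) B)).trans
      (AlgEquiv.prodCongr
        ((Algebra.TensorProduct.piRight R' R'' R'' (fun k => R' ⧸ I k)).trans
          (AlgEquiv.piCongrRight fun k =>
            (Algebra.TensorProduct.quotIdealMapEquivTensorQuot R'' (I k)).symm))
        AlgEquiv.refl)
  refine ⟨m, fun k => (I k).map (algebraMap R' R''), R'' ⊗[R'] B, inferInstance, inferInstance,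
    ?_, htriv, ⟨E''⟩, ?_⟩
  · intro k
    rw [Ideal.map_le_iff_le_comap, ← Ideal.under_def, ← Ideal.over_def p'' p']
    exact hI k
  · intro q _ hq
    refine hB (q.comap (Algebra.TensorProduct.includeRight : B →ₐ[R'] R'' ⊗[R'] B).toRingHom) ?_
    rw [Ideal.comap_comap]
    have : ((Algebra.TensorProduct.includeRight : B →ₐ[R'] R'' ⊗[R'] B).toRingHom).comp
        (algebraMap R' B) = (algebraMap R'' (R'' ⊗[R'] B)).comp (algebraMap R' R'') := by
      ext r
      simp [Algebra.TensorProduct.algebraMap_apply, Algebra.algebraMap_eq_smul_one,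
        TensorProduct.smul_tmul]
    rw [this, ← Ideal.comap_comap, hq, ← Ideal.under_def, ← Ideal.over_def p'' p']

theorem Decomp.baseChange {triv : Prop} {R' : Type u} [CommRing R'] {p' : Ideal R'} {T : Type u}
    [CommRing T] [Algebra R' T] (h : Decomp triv R' p' T) (R'' : Type u) [CommRing R'']
    [Algebra R' R''] (p'' : Ideal R'') [p''.LiesOver p'] :
    Decomp triv R'' p'' (R'' ⊗[R'] T) := by
  obtain ⟨m, I, B, _, _, hI, htriv, ⟨E⟩, hB⟩ := h
  refine decomp_baseChange I hI E hB R'' p'' (fun ht k => ?_)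
  rw [htriv ht k, Ideal.map_bot]

theorem decomp_family : ∀ (n : ℕ) (R : Type u) [CommRing R] (p : Ideal R) [p.IsPrime]
    (C : Fin n → Type u) [∀ i, CommRing (C i)] [∀ i, Algebra R (C i)]
    [∀ i, Algebra.Unramified R (C i)],
    ∃ (R' : Type u) (_ : CommRing R') (_ : Algebra R R') (_ : Algebra.Etale R R') (p' : Ideal R')
      (_ : p'.IsPrime) (_ : p'.LiesOver p), ∀ i, Decomp False R' p' (R' ⊗[R] C i) := by
  intro n
  induction n with
  | zero =>
    intro R _ p _ C _ _ _
    exact ⟨R, inferInstance, inferInstance, inferInstance, p, inferInstance,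
      ⟨by simp [Ideal.under]⟩, fun i => i.elim0⟩
  | succ n IH =>
    intro R _ p _ C _ _ _
    obtain ⟨R₁, _, _, _, p₁, _, _, m, I, B, _, _, hI, hE, hB⟩ :=
      UnramDecomp.concl_all _ R (C 0) p rfl
    have hD0 : Decomp False R₁ p₁ (R₁ ⊗[R] C 0) :=
      ⟨m, I, B, inferInstance, inferInstance, hI, fun h => h.elim, hE, hB⟩
    haveI : ∀ i : Fin n, Algebra.Unramified R₁ (R₁ ⊗[R] C i.succ) := fun i =>
      { formallyUnramified := inferInstance, finiteType := inferInstance }
    obtain ⟨R₂, _, _, _, p₂, _, _, hD⟩ := IH R₁ p₁ (fun i => R₁ ⊗[R] C i.succ)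
    letI : Algebra R R₂ := ((algebraMap R₁ R₂).comp (algebraMap R R₁)).toAlgebra
    haveI : IsScalarTower R R₁ R₂ := IsScalarTower.of_algebraMap_eq' rfl
    haveI : Algebra.Etale R R₂ := Algebra.Etale.comp R R₁ R₂
    haveI : p₂.LiesOver p := Ideal.LiesOver.trans p₂ p₁ p
    refine ⟨R₂, inferInstance, inferInstance, inferInstance, p₂, inferInstance, inferInstance,
      fun i => ?_⟩
    refine Fin.cases ?_ (fun j => ?_) i
    · exact (hD0.baseChange R₂ p₂).of_equiv
        (Algebra.TensorProduct.cancelBaseChange R R₁ R₂ R₂ (C 0))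
    · exact (hD j).of_equiv (Algebra.TensorProduct.cancelBaseChange R R₁ R₂ R₂ (C j.succ))

theorem decomp_family_etale (n : ℕ) (R : Type u) [CommRing R] (p : Ideal R) [p.IsPrime]
    (C : Fin n → Type u) [∀ i, CommRing (C i)] [∀ i, Algebra R (C i)]
    [∀ i, Algebra.Etale R (C i)] :
    ∃ (R' : Type u) (_ : CommRing R') (_ : Algebra R R') (_ : Algebra.Etale R R') (p' : Ideal R')
      (_ : p'.IsPrime) (_ : p'.LiesOver p), ∀ i, Decomp True R' p' (R' ⊗[R] C i) := by
  haveI : ∀ i, Algebra.Unramified R (C i) := fun i =>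
    { formallyUnramified := inferInstance, finiteType := inferInstance }
  obtain ⟨R₁, _, _, _, p₁, _, _, hD⟩ := decomp_family n R p C
  choose m I B instB algB hI _ hE hB using hD
  letI := instB
  letI := algB
  have hid : ∀ i k, ∃ e : R₁, IsIdempotentElem e ∧ I i k = Ideal.span {e} := by
    intro i k
    obtain ⟨E⟩ := hE i
    haveI : Algebra.Etale R₁ (R₁ ⧸ I i k) := etale_factor E k
    exact exists_idem_of_etale_quot (I i k)
  choose e he hIe using hid
  classical
  let f : R₁ := ∏ i, ∏ k, (1 - e i k)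
  have hfp' : f ∉ p₁ := by
    intro hf
    obtain ⟨i, -, hi⟩ := (Ideal.IsPrime.prod_mem_iff).mp hf
    obtain ⟨k, -, hk⟩ := (Ideal.IsPrime.prod_mem_iff).mp hi
    have h1 : e i k ∈ p₁ := hI i k (by rw [hIe i k]; exact Ideal.mem_span_singleton_self _)
    have : (1 : R₁) ∈ p₁ := by simpa using Ideal.add_mem _ hk h1
    exact (Ideal.IsPrime.ne_top inferInstance) ((Ideal.eq_top_iff_one _).mpr this)
  let R₂ := Localization.Away f
  haveI : Algebra.Etale R₁ R₂ := Algebra.Etale.of_isLocalizationAway f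
  haveI : Algebra.Etale R R₂ := Algebra.Etale.comp R R₁ R₂
  have hdisj : Disjoint (Submonoid.powers f : Set R₁) (p₁ : Set R₁) := by
    rw [Set.disjoint_left]
    rintro _ ⟨k, rfl⟩ hk
    exact hfp' (Ideal.IsPrime.mem_of_pow_mem inferInstance k hk)
  let p₂ : Ideal R₂ := p₁.map (algebraMap R₁ R₂)
  haveI hp₂ : p₂.IsPrime := IsLocalization.isPrime_of_isPrime_disjoint (Submonoid.powers f) R₂ p₁
    inferInstance hdisj
  haveI : p₂.LiesOver p₁ :=
    ⟨(IsLocalization.comap_map_of_isPrime_disjoint (Submonoid.powers f) R₂ inferInstance hdisj).symm⟩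
  haveI : p₂.LiesOver p := Ideal.LiesOver.trans p₂ p₁ p
  have hJ0 : ∀ i k, (I i k).map (algebraMap R₁ R₂) = ⊥ := by
    intro i k
    rw [hIe i k, Ideal.map_span, Set.image_singleton, Ideal.span_singleton_eq_bot]
    have h1 : e i k * f = 0 := by
      show e i k * ∏ i', ∏ k', (1 - e i' k') = 0
      rw [← Finset.mul_prod_erase _ _ (Finset.mem_univ i),
        ← Finset.mul_prod_erase _ _ (Finset.mem_univ k), ← mul_assoc, ← mul_assoc, mul_sub, mul_one,
        (he i k).eq, sub_self, zero_mul, zero_mul]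
    have h2 : algebraMap R₁ R₂ (e i k) * algebraMap R₁ R₂ f = 0 := by
      rw [← map_mul, h1, map_zero]
    exact (IsUnit.mul_left_eq_zero (IsLocalization.Away.algebraMap_isUnit f)).mp h2
  refine ⟨R₂, inferInstance, inferInstance, inferInstance, p₂, inferInstance, inferInstance,
    fun i => ?_⟩
  obtain ⟨E⟩ := hE i
  exact (decomp_baseChange (I i) (hI i) E (hB i) R₂ p₂ (fun _ k => hJ0 i k)).of_equiv
    (Algebra.TensorProduct.cancelBaseChange R R₁ R₂ R₂ (C i))

theorem pieces_family (n : ℕ) (R : Type u) [CommRing R] (p : Ideal R) [p.IsPrime]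
    (C : Fin n → Type u) [∀ i, CommRing (C i)] [∀ i, Algebra R (C i)]
    [∀ i, Algebra.Unramified R (C i)] :
    ∃ (R' : Type u) (_ : CommRing R') (_ : Algebra R R') (_ : Algebra.Etale R R') (p' : Ideal R')
      (_ : p'.IsPrime) (_ : p'.LiesOver p), ∀ i, Pieces False R' p' (R' ⊗[R] C i) := by
  obtain ⟨R', _, _, _, p', _, _, h⟩ := decomp_family n R p C
  exact ⟨R', inferInstance, inferInstance, inferInstance, p', inferInstance, inferInstance,
    fun i => (h i).pieces⟩

theorem pieces_family_etale (n : ℕ) (R : Type u) [CommRing R] (p : Ideal R) [p.IsPrime]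
    (C : Fin n → Type u) [∀ i, CommRing (C i)] [∀ i, Algebra R (C i)]
    [∀ i, Algebra.Etale R (C i)] :
    ∃ (R' : Type u) (_ : CommRing R') (_ : Algebra R R') (_ : Algebra.Etale R R') (p' : Ideal R')
      (_ : p'.IsPrime) (_ : p'.LiesOver p), ∀ i, Pieces True R' p' (R' ⊗[R] C i) := by
  obtain ⟨R', _, _, _, p', _, _, h⟩ := decomp_family_etale n R p C
  exact ⟨R', inferInstance, inferInstance, inferInstance, p', inferInstance, inferInstance,
    fun i => (h i).pieces⟩

end Groth.Agent.Helper3.EtLocalRing
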