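import Mathlib
import Groth.Agent.Helper3.EtLocalRing

open AlgebraicGeometry CategoryTheory CategoryTheory.Limits TopologicalSpace Opposite TensorProduct

namespace Groth.Agent.Helper3.EtLocalSch

universe u

/-- the chart -/
theorem chart {X S : Scheme.{u}} (f : X ⟶ S) {S₀ : S.Opens} (hS₀ : IsAffineOpen S₀) {W : X.Opens}
    (hW : IsAffineOpen W) (hWS : W ≤ f ⁻¹ᵁ S₀) (R' : Type u) [CommRing R'] [Algebra Γ(S, S₀) R'] :
    letI : Algebra Γ(S, S₀) Γ(X, W) := (f.appLE S₀ W hWS).hom.toAlgebra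
    ∃ ρ : Spec (CommRingCat.of (R' ⊗[Γ(S, S₀)] Γ(X, W))) ⟶
        pullback f (Spec.map (CommRingCat.ofHom (algebraMap Γ(S, S₀) R')) ≫ hS₀.fromSpec),
      IsOpenImmersion ρ ∧
      ρ ≫ pullback.fst f _ = Spec.map (CommRingCat.ofHom
        (Algebra.TensorProduct.includeRight :
          Γ(X, W) →ₐ[Γ(S, S₀)] R' ⊗[Γ(S, S₀)] Γ(X, W)).toRingHom) ≫ hW.fromSpec ∧
      ρ ≫ pullback.snd f _ =
        Spec.map (CommRingCat.ofHom Algebra.TensorProduct.includeLeftRingHom) ∧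
      Set.range ρ = (pullback.fst f _) ⁻¹' W := by
  letI : Algebra Γ(S, S₀) Γ(X, W) := (f.appLE S₀ W hWS).hom.toAlgebra
  let φ : Γ(S, S₀) ⟶ Γ(X, W) := f.appLE S₀ W hWS
  let ψ : Γ(S, S₀) ⟶ CommRingCat.of R' := CommRingCat.ofHom (algebraMap Γ(S, S₀) R')
  let T := R' ⊗[Γ(S, S₀)] Γ(X, W)
  let inl : CommRingCat.of R' ⟶ CommRingCat.of T :=
    CommRingCat.ofHom Algebra.TensorProduct.includeLeftRingHom
  let inr : Γ(X, W) ⟶ CommRingCat.of T :=
    CommRingCat.ofHom (Algebra.TensorProduct.includeRight :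
      Γ(X, W) →ₐ[Γ(S, S₀)] T).toRingHom
  have sq1 : IsPullback (Spec.map inl) (Spec.map inr) (Spec.map ψ) (Spec.map φ) :=
    isPullback_SpecMap_of_isPushout _ _ _ _
      (CommRingCat.isPushout_tensorProduct Γ(S, S₀) R' Γ(X, W))
  haveI := hS₀.isOpenImmersion_fromSpec
  haveI := hW.isOpenImmersion_fromSpec
  let g := Spec.map ψ ≫ hS₀.fromSpec
  have e₁ : Spec.map φ ≫ hS₀.fromSpec = hW.fromSpec ≫ f :=
    IsAffineOpen.SpecMap_appLE_fromSpec f hS₀ hW hWS
  have e₂ : Spec.map ψ ≫ hS₀.fromSpec = 𝟙 _ ≫ g := (Category.id_comp _).symm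
  let μ := pullback.map (Spec.map φ) (Spec.map ψ) f g hW.fromSpec (𝟙 _) hS₀.fromSpec e₁ e₂
  let ρ := sq1.flip.isoPullback.hom ≫ μ
  have hρμ : Set.range ρ = Set.range μ := by
    ext z
    constructor
    · rintro ⟨a, rfl⟩
      exact ⟨sq1.flip.isoPullback.hom a, rfl⟩
    · rintro ⟨b, rfl⟩
      refine ⟨sq1.flip.isoPullback.inv b, ?_⟩
      change (sq1.flip.isoPullback.inv ≫ sq1.flip.isoPullback.hom ≫ μ) b = μ b
      rw [Iso.inv_hom_id_assoc]
  have h1 : μ ≫ pullback.fst f g = pullback.fst _ _ ≫ hW.fromSpec := pullback.lift_fst _ _ _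
  have h2 : μ ≫ pullback.snd f g = pullback.snd _ _ ≫ 𝟙 _ := pullback.lift_snd _ _ _
  have h3 : sq1.flip.isoPullback.hom ≫ pullback.fst _ _ = Spec.map inr :=
    sq1.flip.isoPullback_hom_fst
  have h4 : sq1.flip.isoPullback.hom ≫ pullback.snd _ _ = Spec.map inl :=
    sq1.flip.isoPullback_hom_snd
  refine ⟨ρ, inferInstance, ?_, ?_, ?_⟩
  · show ρ ≫ pullback.fst f g = Spec.map inr ≫ hW.fromSpec
    rw [show ρ = sq1.flip.isoPullback.hom ≫ μ from rfl, Category.assoc, h1, ← Category.assoc, h3]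
  · show ρ ≫ pullback.snd f g = Spec.map inl
    rw [show ρ = sq1.flip.isoPullback.hom ≫ μ from rfl, Category.assoc, h2, Category.comp_id, h4]
  · show Set.range ρ = (pullback.fst f g) ⁻¹' W
    rw [hρμ, Scheme.Pullback.range_map]
    simp [hW.range_fromSpec]

theorem piece {R' : Type u} [CommRing R'] {T : Type u} [CommRing T] [Algebra R' T] (I : Ideal R')
    (π : T →ₐ[R'] R' ⧸ I) (ε : T) (hε : IsIdempotentElem ε)
    (hker : RingHom.ker π = Ideal.span {1 - ε}) :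
    IsOpenImmersion (Spec.map (CommRingCat.ofHom π.toRingHom)) ∧
    Set.range (Spec.map (CommRingCat.ofHom π.toRingHom)) =
      {t : Spec (CommRingCat.of T) | ε ∉ t.asIdeal} := by
  have hsurj : Function.Surjective π.toRingHom := fun a => by
    obtain ⟨r, rfl⟩ := Ideal.Quotient.mk_surjective a
    exact ⟨algebraMap R' T r, by
      show π (algebraMap R' T r) = _
      rw [π.commutes]; rfl⟩
  constructor
  · rw [isOpenImmersion_SpecMap_iff_of_surjective _ hsurj]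
    exact ⟨1 - ε, hε.one_sub, hker⟩
  · have h1 : Set.range (Spec.map (CommRingCat.ofHom π.toRingHom)) =
        PrimeSpectrum.zeroLocus (RingHom.ker π.toRingHom) :=
      range_comap_of_surjective _ π.toRingHom hsurj
    rw [h1]
    have h2 : RingHom.ker π.toRingHom = Ideal.span {1 - ε} := hker
    rw [h2, PrimeSpectrum.zeroLocus_span]
    ext t
    simp only [PrimeSpectrum.mem_zeroLocus, Set.singleton_subset_iff, SetLike.mem_coe,
      Set.mem_setOf_eq]
    constructor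
    · intro h1 h2
      have : (1 : T) ∈ t.asIdeal := by simpa using Ideal.add_mem _ h1 h2
      exact t.isPrime.ne_top ((Ideal.eq_top_iff_one _).mpr this)
    · intro h
      have h3 : ε * (1 - ε) ∈ t.asIdeal := by
        rw [mul_sub, mul_one, hε.eq, sub_self]; exact Ideal.zero_mem _
      exact (t.isPrime.mem_or_mem h3).resolve_left h

theorem chart_pieces {triv : Prop} {X S : Scheme.{u}} (f : X ⟶ S) {S₀ : S.Opens}
    (hS₀ : IsAffineOpen S₀) {W : X.Opens} (hW : IsAffineOpen W) (hWS : W ≤ f ⁻¹ᵁ S₀)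
    (R' : Type u) [CommRing R'] [Algebra Γ(S, S₀) R'] (p' : Ideal R') [p'.IsPrime]
    (hP : letI : Algebra Γ(S, S₀) Γ(X, W) := (f.appLE S₀ W hWS).hom.toAlgebra
      EtLocalRing.Pieces triv R' p' (R' ⊗[Γ(S, S₀)] Γ(X, W))) :
    let g := Spec.map (CommRingCat.ofHom (algebraMap Γ(S, S₀) R')) ≫ hS₀.fromSpec
    let u : Spec (CommRingCat.of R') := ⟨p', inferInstance⟩
    ∃ (m : ℕ) (V : Fin m → (pullback f g).Opens) (v : Fin m → ↑(pullback f g)),
      (∀ k, IsClosedImmersion ((V k).ι ≫ pullback.snd f g) ∧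
        (triv → IsIso ((V k).ι ≫ pullback.snd f g))) ∧
      (∀ k, v k ∈ V k ∧ pullback.snd f g (v k) = u) ∧
      (∀ k (w : ↑(pullback f g)), w ∈ V k → pullback.snd f g w = u → w = v k) ∧
      (∀ k k' (w : ↑(pullback f g)), w ∈ V k → w ∈ V k' → k = k') ∧
      (∀ w : ↑(pullback f g), pullback.snd f g w = u → pullback.fst f g w ∈ W → ∃ k, w ∈ V k) := by
  letI : Algebra Γ(S, S₀) Γ(X, W) := (f.appLE S₀ W hWS).hom.toAlgebra
  intro g u
  obtain ⟨ρ, hρo, hρ1, hρ2, hρr⟩ := chart f hS₀ hW hWS R'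
  obtain ⟨m, I, π, ε, hI, htriv, hidem, hker, horth, hcover⟩ := hP
  let T := R' ⊗[Γ(S, S₀)] Γ(X, W)
  let θ : ∀ k, Spec (CommRingCat.of (R' ⧸ I k)) ⟶ Spec (CommRingCat.of T) := fun k =>
    Spec.map (CommRingCat.ofHom (π k).toRingHom)
  haveI hθo : ∀ k, IsOpenImmersion (θ k) := fun k =>
    (piece (I k) (π k) (ε k) (hidem k) (hker k)).1
  have hθr : ∀ k, Set.range (θ k) = {t : Spec (CommRingCat.of T) | ε k ∉ t.asIdeal} := fun k =>
    (piece (I k) (π k) (ε k) (hidem k) (hker k)).2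
  let j : ∀ k, Spec (CommRingCat.of (R' ⧸ I k)) ⟶ pullback f g := fun k => θ k ≫ ρ
  haveI : ∀ k, IsOpenImmersion (j k) := fun k => inferInstance
  have hjs : ∀ k, j k ≫ pullback.snd f g =
      Spec.map (CommRingCat.ofHom (algebraMap R' (R' ⧸ I k))) := by
    intro k
    show (θ k ≫ ρ) ≫ pullback.snd f g = _
    rw [Category.assoc, hρ2, ← Spec.map_comp]
    congr 1
    ext r
    exact (π k).commutes r
  let pt : ∀ k, Spec (CommRingCat.of (R' ⧸ I k)) := fun k =>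
    ⟨p'.map (Ideal.Quotient.mk (I k)), Ideal.map_isPrime_of_surjective
      Ideal.Quotient.mk_surjective (by rw [Ideal.mk_ker]; exact hI k)⟩
  have hpt : ∀ k, Spec.map (CommRingCat.ofHom (algebraMap R' (R' ⧸ I k))) (pt k) = u := by
    intro k
    apply PrimeSpectrum.ext
    show Ideal.comap (Ideal.Quotient.mk (I k)) (p'.map (Ideal.Quotient.mk (I k))) = p'
    rw [Ideal.comap_map_of_surjective _ Ideal.Quotient.mk_surjective,
      ← RingHom.ker_eq_comap_bot, Ideal.mk_ker, sup_eq_left]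
    exact hI k
  have hptu : ∀ k (a : Spec (CommRingCat.of (R' ⧸ I k))),
      Spec.map (CommRingCat.ofHom (algebraMap R' (R' ⧸ I k))) a = u → a = pt k := by
    intro k a ha
    exact PrimeSpectrum.comap_injective_of_surjective _ Ideal.Quotient.mk_surjective
      (ha.trans (hpt k).symm)
  refine ⟨m, fun k => (j k).opensRange, fun k => j k (pt k), ?_, ?_, ?_, ?_, ?_⟩
  · intro k
    have h1 : (j k).opensRange.ι ≫ pullback.snd f g = (j k).isoOpensRange.inv ≫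
        Spec.map (CommRingCat.ofHom (algebraMap R' (R' ⧸ I k))) := by
      rw [← hjs k, ← Category.assoc, Scheme.Hom.isoOpensRange_inv_comp]
    rw [h1]
    constructor
    · haveI : IsClosedImmersion (Spec.map (CommRingCat.ofHom (algebraMap R' (R' ⧸ I k)))) :=
        IsClosedImmersion.spec_of_surjective _ Ideal.Quotient.mk_surjective
      infer_instance
    · intro ht
      have hbij : Function.Bijective (algebraMap R' (R' ⧸ I k)) := by
        refine ⟨?_, Ideal.Quotient.mk_surjective⟩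
        rw [RingHom.injective_iff_ker_eq_bot, Ideal.Quotient.algebraMap_eq, Ideal.mk_ker]
        exact htriv ht k
      haveI : IsIso (CommRingCat.ofHom (algebraMap R' (R' ⧸ I k))) :=
        (ConcreteCategory.isIso_iff_bijective _).mpr hbij
      infer_instance
  · intro k
    refine ⟨⟨pt k, rfl⟩, ?_⟩
    show (j k ≫ pullback.snd f g) (pt k) = u
    rw [hjs k]
    exact hpt k
  · rintro k w ⟨a, rfl⟩ hw
    have : Spec.map (CommRingCat.ofHom (algebraMap R' (R' ⧸ I k))) a = u := by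
      rw [← hjs k]; exact hw
    rw [hptu k a this]
  · rintro k k' w ⟨a, ha⟩ ⟨a', ha'⟩
    by_contra hne
    have hinj : Function.Injective ρ := ρ.isOpenEmbedding.injective
    have h1 : θ k a = θ k' a' := hinj (ha.trans ha'.symm)
    have h2 : ε k ∉ (θ k a).asIdeal := by
      have : θ k a ∈ Set.range (θ k) := Set.mem_range_self a
      rw [hθr k] at this
      exact this
    have h3 : ε k' ∉ (θ k a).asIdeal := by
      have : θ k' a' ∈ Set.range (θ k') := Set.mem_range_self a'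
      rw [hθr k', ← h1] at this
      exact this
    have h4 : ε k * ε k' ∈ (θ k a).asIdeal := by
      rw [horth k k' hne]; exact Ideal.zero_mem _
    exact ((θ k a).isPrime.mem_or_mem h4).elim h2 h3
  · intro w hw hwW
    have hwr : w ∈ Set.range ρ := by rw [hρr]; exact hwW
    obtain ⟨t, rfl⟩ := hwr
    have ht : t.asIdeal.comap (algebraMap R' T) = p' := by
      have h5 : (ρ ≫ pullback.snd f g) t = u := hw
      rw [hρ2] at h5
      exact congrArg PrimeSpectrum.asIdeal h5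
    obtain ⟨k, hk⟩ := hcover t.asIdeal t.isPrime ht
    have h6 : t ∈ Set.range (θ k) := by rw [hθr k]; exact hk
    obtain ⟨a, rfl⟩ := h6
    exact ⟨k, ⟨a, rfl⟩⟩

theorem core {triv : Prop} {X S : Scheme.{u}} (f : X ⟶ S) (s : S) {n : ℕ} (x : Fin n → X)
    (hinj : Function.Injective x) {S₀ : S.Opens} (hS₀ : IsAffineOpen S₀) (hsS₀ : s ∈ S₀)
    (W : Fin n → X.Opens) (hW : ∀ i, IsAffineOpen (W i)) (hxW : ∀ i, x i ∈ W i)
    (hWS : ∀ i, W i ≤ f ⁻¹ᵁ S₀)
    (R' : Type u) [CommRing R'] [Algebra Γ(S, S₀) R'] [Algebra.Etale Γ(S, S₀) R']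
    (p' : Ideal R') [p'.IsPrime] [p'.LiesOver (hS₀.primeIdealOf ⟨s, hsS₀⟩).asIdeal]
    (hP : ∀ i, letI : Algebra Γ(S, S₀) Γ(X, W i) := (f.appLE S₀ (W i) (hWS i)).hom.toAlgebra
      EtLocalRing.Pieces triv R' p' (R' ⊗[Γ(S, S₀)] Γ(X, W i))) :
    ∃ (U : Scheme.{u}) (g : U ⟶ S) (u : U), Etale g ∧ g u = s ∧
      ∃ (K : Type) (_ : Finite K) (lab : K → Fin n) (V : K → (pullback f g).Opens),
        (∀ k, IsClosedImmersion ((V k).ι ≫ pullback.snd f g) ∧
          (triv → IsIso ((V k).ι ≫ pullback.snd f g)) ∧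
          ∃ w : ↑(pullback f g), w ∈ V k ∧ pullback.snd f g w = u) ∧
        (∀ (k k' : K) (w : ↑(pullback f g)), w ∈ V k → w ∈ V k' →
          pullback.snd f g w = u → k = k') ∧
        (∀ (w : ↑(pullback f g)) (i : Fin n), pullback.snd f g w = u →
          pullback.fst f g w = x i → ∃ k, lab k = i ∧ w ∈ V k) := by
  let ψ : Γ(S, S₀) ⟶ CommRingCat.of R' := CommRingCat.ofHom (algebraMap Γ(S, S₀) R')
  have hψ : ψ.hom.Etale := RingHom.etale_algebraMap.mpr inferInstance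
  haveI : Etale (Spec.map ψ) := HasRingHomProperty.Spec_iff.mpr hψ
  haveI := hS₀.isOpenImmersion_fromSpec
  let g : Spec (CommRingCat.of R') ⟶ S := Spec.map ψ ≫ hS₀.fromSpec
  haveI : Etale g := inferInstance
  let u : Spec (CommRingCat.of R') := ⟨p', inferInstance⟩
  have hu : g u = s := by
    have h1 : (Spec.map ψ) u = hS₀.primeIdealOf ⟨s, hsS₀⟩ := by
      apply PrimeSpectrum.ext
      exact (Ideal.over_def p' (hS₀.primeIdealOf ⟨s, hsS₀⟩).asIdeal).symm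
    change hS₀.fromSpec ((Spec.map ψ) u) = s
    rw [h1]
    exact hS₀.fromSpec_primeIdealOf ⟨s, hsS₀⟩
  have hch : ∀ i, ∃ (m : ℕ) (V : Fin m → (pullback f g).Opens) (v : Fin m → ↑(pullback f g)),
      (∀ k, IsClosedImmersion ((V k).ι ≫ pullback.snd f g) ∧
        (triv → IsIso ((V k).ι ≫ pullback.snd f g))) ∧
      (∀ k, v k ∈ V k ∧ pullback.snd f g (v k) = u) ∧
      (∀ k (w : ↑(pullback f g)), w ∈ V k → pullback.snd f g w = u → w = v k) ∧
      (∀ k k' (w : ↑(pullback f g)), w ∈ V k → w ∈ V k' → k = k') ∧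
      (∀ w : ↑(pullback f g), pullback.snd f g w = u → pullback.fst f g w ∈ W i →
        ∃ k, w ∈ V k) := fun i => chart_pieces f hS₀ (hW i) (hWS i) R' p' (hP i)
  choose m V v ha hb hc hd he using hch
  let K := {ik : Σ i, Fin (m i) // pullback.fst f g (v ik.1 ik.2) = x ik.1}
  refine ⟨Spec (CommRingCat.of R'), g, u, inferInstance, hu, K, inferInstance,
    fun ik => ik.1.1, fun ik => V ik.1.1 ik.1.2, ?_, ?_, ?_⟩
  · intro ik
    exact ⟨(ha _ _).1, (ha _ _).2, v ik.1.1 ik.1.2, (hb _ _).1, (hb _ _).2⟩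
  · rintro ⟨⟨i, k⟩, hk⟩ ⟨⟨i', k'⟩, hk'⟩ w hw hw' hwu
    have h1 : w = v i k := hc i k w hw hwu
    have h2 : w = v i' k' := hc i' k' w hw' hwu
    have h3 : i = i' := hinj (by
      have e1 : pullback.fst f g (v i k) = x i := hk
      have e2 : pullback.fst f g (v i' k') = x i' := hk'
      rw [← e1, ← e2, ← h1, ← h2])
    subst h3
    have h4 : k = k' := hd i k k' w hw hw'
    subst h4
    rfl
  · intro w i hwu hwx
    obtain ⟨k, hk⟩ := he i w hwu (by rw [hwx]; exact hxW i)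
    have h1 : w = v i k := hc i k w hk hwu
    exact ⟨⟨⟨i, k⟩, by
      show pullback.fst f g (v i k) = x i
      rw [← h1]; exact hwx⟩, rfl, hk⟩

/-- factor `hW.fromSpec ≫ f` through `W₀.ι ≫ f` -/
theorem fromSpec_comp_eq {X S : Scheme.{u}} (f : X ⟶ S) {W W₀ : X.Opens} (hW : IsAffineOpen W)
    (hle : W ≤ W₀) :
    hW.fromSpec ≫ f = (hW.isoSpec.inv ≫ X.homOfLE hle) ≫ (W₀.ι ≫ f) := by
  rw [Category.assoc, ← Category.assoc (X.homOfLE hle), Scheme.homOfLE_ι, ← Category.assoc,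
    IsAffineOpen.isoSpec_inv_ι]

theorem main_unram_fin {X S : Scheme.{u}} (f : X ⟶ S) (s : S) {n : ℕ} (x : Fin n → X)
    (hinj : Function.Injective x) (hs : ∀ i, f (x i) = s)
    (hx : ∀ i, ∃ W : X.Opens, x i ∈ W ∧ LocallyOfFiniteType (W.ι ≫ f) ∧
      FormallyUnramified (W.ι ≫ f)) :
    ∃ (U : Scheme.{u}) (g : U ⟶ S) (u : U), Etale g ∧ g u = s ∧
      ∃ (K : Type) (_ : Finite K) (lab : K → Fin n) (V : K → (pullback f g).Opens),
        (∀ k, IsClosedImmersion ((V k).ι ≫ pullback.snd f g) ∧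
          (False → IsIso ((V k).ι ≫ pullback.snd f g)) ∧
          ∃ w : ↑(pullback f g), w ∈ V k ∧ pullback.snd f g w = u) ∧
        (∀ (k k' : K) (w : ↑(pullback f g)), w ∈ V k → w ∈ V k' →
          pullback.snd f g w = u → k = k') ∧
        (∀ (w : ↑(pullback f g)) (i : Fin n), pullback.snd f g w = u →
          pullback.fst f g w = x i → ∃ k, lab k = i ∧ w ∈ V k) := by
  obtain ⟨_, ⟨S₀, hS₀, rfl⟩, hsS₀, -⟩ := S.isBasis_affineOpens.exists_subset_of_mem_open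
    (Set.mem_univ s) isOpen_univ
  replace hS₀ : IsAffineOpen S₀ := hS₀
  replace hsS₀ : s ∈ S₀ := hsS₀
  choose W₀ hxW₀ hLFT hFU using hx
  have hW' : ∀ i, ∃ W : X.Opens, IsAffineOpen W ∧ x i ∈ W ∧ W ≤ W₀ i ⊓ f ⁻¹ᵁ S₀ := by
    intro i
    obtain ⟨_, ⟨W, hW, rfl⟩, hxW, hsub⟩ := X.isBasis_affineOpens.exists_subset_of_mem_open
      (show x i ∈ ((W₀ i ⊓ f ⁻¹ᵁ S₀ : X.Opens) : Set X) from
        ⟨hxW₀ i, by show f (x i) ∈ S₀; rw [hs i]; exact hsS₀⟩) (W₀ i ⊓ f ⁻¹ᵁ S₀).2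
    exact ⟨W, hW, hxW, hsub⟩
  choose W hW hxW hsub using hW'
  have hWS : ∀ i, W i ≤ f ⁻¹ᵁ S₀ := fun i => (hsub i).trans inf_le_right
  have hWW₀ : ∀ i, W i ≤ W₀ i := fun i => (hsub i).trans inf_le_left
  haveI := hS₀.isOpenImmersion_fromSpec
  letI : ∀ i, Algebra Γ(S, S₀) Γ(X, W i) := fun i => (f.appLE S₀ (W i) (hWS i)).hom.toAlgebra
  haveI : ∀ i, Algebra.Unramified Γ(S, S₀) Γ(X, W i) := by
    intro i
    have e₁ : Spec.map (f.appLE S₀ (W i) (hWS i)) ≫ hS₀.fromSpec = (hW i).fromSpec ≫ f :=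
      IsAffineOpen.SpecMap_appLE_fromSpec f hS₀ (hW i) (hWS i)
    haveI := hLFT i
    haveI := hFU i
    haveI h1 : LocallyOfFiniteType (Spec.map (f.appLE S₀ (W i) (hWS i)) ≫ hS₀.fromSpec) := by
      rw [e₁, fromSpec_comp_eq f (hW i) (hWW₀ i)]; infer_instance
    haveI h2 : FormallyUnramified (Spec.map (f.appLE S₀ (W i) (hWS i)) ≫ hS₀.fromSpec) := by
      rw [e₁, fromSpec_comp_eq f (hW i) (hWW₀ i)]
      have h0 : FormallyUnramified ((hW i).isoSpec.inv ≫ X.homOfLE (hWW₀ i)) := inferInstance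
      exact MorphismProperty.comp_mem (W := @FormallyUnramified) _ _ h0 (hFU i)
    have h3 : LocallyOfFiniteType (Spec.map (f.appLE S₀ (W i) (hWS i))) :=
      locallyOfFiniteType_of_comp _ hS₀.fromSpec
    have h4 : FormallyUnramified (Spec.map (f.appLE S₀ (W i) (hWS i))) :=
      FormallyUnramified.of_comp _ hS₀.fromSpec
    have h5 : (f.appLE S₀ (W i) (hWS i)).hom.FiniteType := HasRingHomProperty.Spec_iff.mp h3
    have h6 : (f.appLE S₀ (W i) (hWS i)).hom.FormallyUnramified :=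
      HasRingHomProperty.Spec_iff.mp h4
    exact { formallyUnramified := h6, finiteType := h5 }
  obtain ⟨R', _, _, _, p', _, _, hP⟩ := EtLocalRing.pieces_family n Γ(S, S₀)
    (hS₀.primeIdealOf ⟨s, hsS₀⟩).asIdeal (fun i => Γ(X, W i))
  exact core f s x hinj hS₀ hsS₀ W hW hxW hWS R' p' hP

theorem main_etale_fin {X S : Scheme.{u}} (f : X ⟶ S) (s : S) {n : ℕ} (x : Fin n → X)
    (hinj : Function.Injective x) (hs : ∀ i, f (x i) = s)
    (hx : ∀ i, ∃ W : X.Opens, x i ∈ W ∧ Etale (W.ι ≫ f)) :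
    ∃ (U : Scheme.{u}) (g : U ⟶ S) (u : U), Etale g ∧ g u = s ∧
      ∃ (K : Type) (_ : Finite K) (lab : K → Fin n) (V : K → (pullback f g).Opens),
        (∀ k, IsClosedImmersion ((V k).ι ≫ pullback.snd f g) ∧
          (True → IsIso ((V k).ι ≫ pullback.snd f g)) ∧
          ∃ w : ↑(pullback f g), w ∈ V k ∧ pullback.snd f g w = u) ∧
        (∀ (k k' : K) (w : ↑(pullback f g)), w ∈ V k → w ∈ V k' →
          pullback.snd f g w = u → k = k') ∧
        (∀ (w : ↑(pullback f g)) (i : Fin n), pullback.snd f g w = u →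
          pullback.fst f g w = x i → ∃ k, lab k = i ∧ w ∈ V k) := by
  obtain ⟨_, ⟨S₀, hS₀, rfl⟩, hsS₀, -⟩ := S.isBasis_affineOpens.exists_subset_of_mem_open
    (Set.mem_univ s) isOpen_univ
  replace hS₀ : IsAffineOpen S₀ := hS₀
  replace hsS₀ : s ∈ S₀ := hsS₀
  choose W₀ hxW₀ hEt using hx
  have hW' : ∀ i, ∃ W : X.Opens, IsAffineOpen W ∧ x i ∈ W ∧ W ≤ W₀ i ⊓ f ⁻¹ᵁ S₀ := by
    intro i
    obtain ⟨_, ⟨W, hW, rfl⟩, hxW, hsub⟩ := X.isBasis_affineOpens.exists_subset_of_mem_open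
      (show x i ∈ ((W₀ i ⊓ f ⁻¹ᵁ S₀ : X.Opens) : Set X) from
        ⟨hxW₀ i, by show f (x i) ∈ S₀; rw [hs i]; exact hsS₀⟩) (W₀ i ⊓ f ⁻¹ᵁ S₀).2
    exact ⟨W, hW, hxW, hsub⟩
  choose W hW hxW hsub using hW'
  have hWS : ∀ i, W i ≤ f ⁻¹ᵁ S₀ := fun i => (hsub i).trans inf_le_right
  have hWW₀ : ∀ i, W i ≤ W₀ i := fun i => (hsub i).trans inf_le_left
  haveI := hS₀.isOpenImmersion_fromSpec
  letI : ∀ i, Algebra Γ(S, S₀) Γ(X, W i) := fun i => (f.appLE S₀ (W i) (hWS i)).hom.toAlgebra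
  haveI : ∀ i, Algebra.Etale Γ(S, S₀) Γ(X, W i) := by
    intro i
    have e₁ : Spec.map (f.appLE S₀ (W i) (hWS i)) ≫ hS₀.fromSpec = (hW i).fromSpec ≫ f :=
      IsAffineOpen.SpecMap_appLE_fromSpec f hS₀ (hW i) (hWS i)
    haveI := hEt i
    haveI h1 : Etale (Spec.map (f.appLE S₀ (W i) (hWS i)) ≫ hS₀.fromSpec) := by
      rw [e₁, fromSpec_comp_eq f (hW i) (hWW₀ i)]; infer_instance
    have h3 : Etale (Spec.map (f.appLE S₀ (W i) (hWS i))) := Etale.of_comp _ hS₀.fromSpec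
    have h5 : (f.appLE S₀ (W i) (hWS i)).hom.Etale := HasRingHomProperty.Spec_iff.mp h3
    exact h5
  obtain ⟨R', _, _, _, p', _, _, hP⟩ := EtLocalRing.pieces_family_etale n Γ(S, S₀)
    (hS₀.primeIdealOf ⟨s, hsS₀⟩).asIdeal (fun i => Γ(X, W i))
  exact core f s x hinj hS₀ hsS₀ W hW hxW hWS R' p' hP

theorem main_unram {X S : Scheme.{u}} (f : X ⟶ S) (s : S)
    {ι : Type} [Finite ι] (x : ι → ↑X) (hinj : Function.Injective x) (hs : ∀ i, f (x i) = s)
    (hx : ∀ i, ∃ W : X.Opens, x i ∈ W ∧ LocallyOfFiniteType (W.ι ≫ f) ∧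
      FormallyUnramified (W.ι ≫ f)) :
    ∃ (U : Scheme.{u}) (g : U ⟶ S) (u : U), Etale g ∧ g u = s ∧
      ∃ (K : Type) (_ : Finite K) (lab : K → ι) (V : K → (pullback f g).Opens),
        (∀ k, IsClosedImmersion ((V k).ι ≫ pullback.snd f g) ∧
          ∃ w : ↑(pullback f g), w ∈ V k ∧ pullback.snd f g w = u) ∧
        (∀ (k k' : K) (w : ↑(pullback f g)), w ∈ V k → w ∈ V k' →
          pullback.snd f g w = u → k = k') ∧
        (∀ (w : ↑(pullback f g)) (i : ι), pullback.snd f g w = u → pullback.fst f g w = x i →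
          ∃ k, lab k = i ∧ w ∈ V k) := by
  obtain ⟨n, ⟨e⟩⟩ := Finite.exists_equiv_fin ι
  obtain ⟨U, g, u, hg, hu, K, hK, lab, V, h1, h2, h3⟩ :=
    main_unram_fin f s (x ∘ e.symm) (hinj.comp e.symm.injective) (fun j => hs _) (fun j => hx _)
  refine ⟨U, g, u, hg, hu, K, hK, e.symm ∘ lab, V, fun k => ⟨(h1 k).1, (h1 k).2.2⟩, h2,
    fun w i hwu hwx => ?_⟩
  obtain ⟨k, hk, hkV⟩ := h3 w (e i) hwu (by simpa using hwx)
  exact ⟨k, by simp [hk], hkV⟩

theorem main_etale {X S : Scheme.{u}} (f : X ⟶ S) (s : S)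
    {ι : Type} [Finite ι] (x : ι → ↑X) (hinj : Function.Injective x) (hs : ∀ i, f (x i) = s)
    (hx : ∀ i, ∃ W : X.Opens, x i ∈ W ∧ Etale (W.ι ≫ f)) :
    ∃ (U : Scheme.{u}) (g : U ⟶ S) (u : U), Etale g ∧ g u = s ∧
      ∃ (K : Type) (_ : Finite K) (lab : K → ι) (V : K → (pullback f g).Opens),
        (∀ k, IsIso ((V k).ι ≫ pullback.snd f g)) ∧
        (∀ (k k' : K) (w : ↑(pullback f g)), w ∈ V k → w ∈ V k' →
          pullback.snd f g w = u → k = k') ∧
        (∀ (w : ↑(pullback f g)) (i : ι), pullback.snd f g w = u → pullback.fst f g w = x i →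
          ∃ k, lab k = i ∧ w ∈ V k) := by
  obtain ⟨n, ⟨e⟩⟩ := Finite.exists_equiv_fin ι
  obtain ⟨U, g, u, hg, hu, K, hK, lab, V, h1, h2, h3⟩ :=
    main_etale_fin f s (x ∘ e.symm) (hinj.comp e.symm.injective) (fun j => hs _) (fun j => hx _)
  refine ⟨U, g, u, hg, hu, K, hK, e.symm ∘ lab, V, fun k => (h1 k).2.1 trivial, h2,
    fun w i hwu hwx => ?_⟩
  obtain ⟨k, hk, hkV⟩ := h3 w (e i) hwu (by simpa using hwx)
  exact ⟨k, by simp [hk], hkV⟩

end Groth.Agent.Helper3.EtLocalSch
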