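import Mathlib
import Groth.Agent.Helper3.QFPieces
import Groth.Agent.Helper3.QFRes
import Groth.Agent.Helper3.EtLocalSch

open AlgebraicGeometry CategoryTheory CategoryTheory.Limits TopologicalSpace Opposite TensorProduct

universe u

namespace Groth.Agent.Helper3.QFSch

/-- the open and closed piece cut out by an idempotent -/
theorem idem_piece {T : Type u} [CommRing T] (ε : T) (hε : IsIdempotentElem ε) :
    IsOpenImmersion (Spec.map (CommRingCat.ofHom (Ideal.Quotient.mk (Ideal.span {1 - ε})))) ∧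
    Set.range (Spec.map (CommRingCat.ofHom (Ideal.Quotient.mk (Ideal.span {1 - ε})))) =
      {t : Spec (CommRingCat.of T) | ε ∉ t.asIdeal} := by
  have hsurj : Function.Surjective (Ideal.Quotient.mk (Ideal.span {1 - ε})) :=
    Ideal.Quotient.mk_surjective
  constructor
  · rw [isOpenImmersion_SpecMap_iff_of_surjective _ hsurj]
    exact ⟨1 - ε, hε.one_sub, Ideal.mk_ker⟩
  · have h1 : Set.range (Spec.map (CommRingCat.ofHom (Ideal.Quotient.mk (Ideal.span {1 - ε})))) =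
        PrimeSpectrum.zeroLocus (RingHom.ker (Ideal.Quotient.mk (Ideal.span {1 - ε}))) :=
      range_comap_of_surjective _ _ hsurj
    rw [h1, Ideal.mk_ker, PrimeSpectrum.zeroLocus_span]
    ext t
    simp only [PrimeSpectrum.mem_zeroLocus, Set.singleton_subset_iff, SetLike.mem_coe]
    constructor
    · intro h1 h2
      have : (1 : T) ∈ t.asIdeal := by simpa using Ideal.add_mem _ h1 h2
      exact t.isPrime.ne_top ((Ideal.eq_top_iff_one _).mpr this)
    · intro h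
      have h3 : ε * (1 - ε) ∈ t.asIdeal := by
        rw [mul_sub, mul_one, hε.eq, sub_self]; exact Ideal.zero_mem _
      exact (t.isPrime.mem_or_mem h3).resolve_left h


theorem chart_piece {X S : Scheme.{u}} (f : X ⟶ S) {S₀ : S.Opens} (hS₀ : IsAffineOpen S₀)
    {W : X.Opens} (hW : IsAffineOpen W) (hWS : W ≤ f ⁻¹ᵁ S₀) (R' : Type u) [CommRing R']
    [Algebra Γ(S, S₀) R'] (p' : Ideal R') [p'.IsPrime] (x : X) (hxW : x ∈ W)
    (h : letI : Algebra Γ(S, S₀) Γ(X, W) := (f.appLE S₀ W hWS).hom.toAlgebra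
      ∃ e : R' ⊗[Γ(S, S₀)] Γ(X, W),
        QFPieces.IsPiece Γ(S, S₀) R' p' Γ(X, W) (hW.primeIdealOf ⟨x, hxW⟩).asIdeal e) :
    let g := Spec.map (CommRingCat.ofHom (algebraMap Γ(S, S₀) R')) ≫ hS₀.fromSpec
    let u : Spec (CommRingCat.of R') := ⟨p', inferInstance⟩
    ∃ V : (pullback f g).Opens, IsFinite (V.ι ≫ pullback.snd f g) ∧
      ∀ w : ↑(pullback f g), pullback.snd f g w = u → (w ∈ V ↔ pullback.fst f g w = x) := by
  letI : Algebra Γ(S, S₀) Γ(X, W) := (f.appLE S₀ W hWS).hom.toAlgebra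
  intro g u
  obtain ⟨ρ, hρo, hρ1, hρ2, hρr⟩ := EtLocalSch.chart f hS₀ hW hWS R'
  obtain ⟨e, he, hfin, hpr⟩ := h
  let T := R' ⊗[Γ(S, S₀)] Γ(X, W)
  let inr : Γ(X, W) ⟶ CommRingCat.of T :=
    CommRingCat.ofHom (Algebra.TensorProduct.includeRight :
      Γ(X, W) →ₐ[Γ(S, S₀)] T).toRingHom
  let θ : Spec (CommRingCat.of (T ⧸ Ideal.span {1 - e})) ⟶ Spec (CommRingCat.of T) :=
    Spec.map (CommRingCat.ofHom (Ideal.Quotient.mk (Ideal.span {1 - e})))
  haveI hθo : IsOpenImmersion θ := (idem_piece e he).1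
  have hθr : Set.range θ = {t : Spec (CommRingCat.of T) | e ∉ t.asIdeal} := (idem_piece e he).2
  haveI := hW.isOpenImmersion_fromSpec
  let j := θ ≫ ρ
  have hjs : j ≫ pullback.snd f g =
      Spec.map (CommRingCat.ofHom (algebraMap R' (T ⧸ Ideal.span {1 - e}))) := by
    show (θ ≫ ρ) ≫ pullback.snd f g = _
    rw [Category.assoc, hρ2, ← Spec.map_comp]
    rfl
  have htp : ∀ t : Spec (CommRingCat.of T), pullback.snd f g (ρ t) = u →
      t.asIdeal.comap (algebraMap R' T) = p' := by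
    intro t hw
    have h5 : (ρ ≫ pullback.snd f g) t = u := hw
    rw [hρ2] at h5
    exact congrArg PrimeSpectrum.asIdeal h5
  have h6 : ∀ t : Spec (CommRingCat.of T),
      pullback.fst f g (ρ t) = hW.fromSpec (Spec.map inr t) := by
    intro t
    show (ρ ≫ pullback.fst f g) t = _
    rw [hρ1]
    rfl
  refine ⟨j.opensRange, ?_, ?_⟩
  · have h1 : j.opensRange.ι ≫ pullback.snd f g = j.isoOpensRange.inv ≫
        Spec.map (CommRingCat.ofHom (algebraMap R' (T ⧸ Ideal.span {1 - e}))) := by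
      rw [← hjs, ← Category.assoc, Scheme.Hom.isoOpensRange_inv_comp]
    rw [h1]
    haveI : IsFinite (Spec.map (CommRingCat.ofHom (algebraMap R' (T ⧸ Ideal.span {1 - e})))) := by
      rw [IsFinite.SpecMap_iff]
      exact RingHom.finite_algebraMap.mpr hfin
    infer_instance
  · intro w hw
    constructor
    · rintro ⟨a, rfl⟩
      have het : e ∉ (θ a).asIdeal := by
        have : θ a ∈ Set.range θ := ⟨a, rfl⟩
        rw [hθr] at this
        exact this
      have hq := (hpr (θ a).asIdeal (θ a).isPrime (htp (θ a) hw)).mp het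
      have h7 : Spec.map inr (θ a) = hW.primeIdealOf ⟨x, hxW⟩ := PrimeSpectrum.ext hq
      show pullback.fst f g (ρ (θ a)) = x
      rw [h6, h7]
      exact hW.fromSpec_primeIdealOf ⟨x, hxW⟩
    · intro hwx
      have hwr : w ∈ Set.range ρ := by
        rw [hρr]
        show pullback.fst f g w ∈ W
        rw [hwx]
        exact hxW
      obtain ⟨t, rfl⟩ := hwr
      have h7 : Spec.map inr t = hW.primeIdealOf ⟨x, hxW⟩ := by
        apply hW.fromSpec.isOpenEmbedding.injective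
        rw [← h6, hwx, hW.fromSpec_primeIdealOf]
      have hq : t.asIdeal.comap (Algebra.TensorProduct.includeRight :
          Γ(X, W) →ₐ[Γ(S, S₀)] T).toRingHom = (hW.primeIdealOf ⟨x, hxW⟩).asIdeal :=
        congrArg PrimeSpectrum.asIdeal h7
      have het := (hpr t.asIdeal t.isPrime (htp t hw)).mpr hq
      have : t ∈ Set.range θ := by rw [hθr]; exact het
      obtain ⟨a, rfl⟩ := this
      exact ⟨a, rfl⟩


theorem residue_g {S : Scheme.{u}} {S₀ : S.Opens} (hS₀ : IsAffineOpen S₀) (R' : Type u)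
    [CommRing R'] [Algebra Γ(S, S₀) R'] (u : Spec (CommRingCat.of R'))
    (H : ∀ r' : R', ∃ a b : Γ(S, S₀), algebraMap Γ(S, S₀) R' b ∉ u.asIdeal ∧
      r' * algebraMap Γ(S, S₀) R' b - algebraMap Γ(S, S₀) R' a ∈ u.asIdeal) :
    Function.Surjective ((Spec.map (CommRingCat.ofHom (algebraMap Γ(S, S₀) R')) ≫
      hS₀.fromSpec).residueFieldMap u).hom := by
  haveI := hS₀.isOpenImmersion_fromSpec
  refine QFRes.residue_comp_surjective _ _ u (QFRes.specRes _ u ?_)
  intro b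
  obtain ⟨a, a', h1, h2⟩ := H b
  exact ⟨a, a', h1, h2⟩

theorem chart_residue {X S : Scheme.{u}} (f : X ⟶ S) {S₀ : S.Opens} (hS₀ : IsAffineOpen S₀)
    {W : X.Opens} (hW : IsAffineOpen W) (hWS : W ≤ f ⁻¹ᵁ S₀) (R' : Type u) [CommRing R']
    [Algebra Γ(S, S₀) R'] (p' : Ideal R') [p'.IsPrime]
    (H : ∀ r' : R', ∃ a b : Γ(S, S₀), algebraMap Γ(S, S₀) R' b ∉ p' ∧
      r' * algebraMap Γ(S, S₀) R' b - algebraMap Γ(S, S₀) R' a ∈ p') :
    let g := Spec.map (CommRingCat.ofHom (algebraMap Γ(S, S₀) R')) ≫ hS₀.fromSpec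
    let u : Spec (CommRingCat.of R') := ⟨p', inferInstance⟩
    ∀ w : ↑(pullback f g), pullback.snd f g w = u → pullback.fst f g w ∈ W →
      Function.Surjective ((pullback.fst f g).residueFieldMap w).hom := by
  letI : Algebra Γ(S, S₀) Γ(X, W) := (f.appLE S₀ W hWS).hom.toAlgebra
  intro g u w hw hwW
  obtain ⟨ρ, hρo, hρ1, hρ2, hρr⟩ := EtLocalSch.chart f hS₀ hW hWS R'
  let T := R' ⊗[Γ(S, S₀)] Γ(X, W)
  let inr : Γ(X, W) ⟶ CommRingCat.of T :=
    CommRingCat.ofHom (Algebra.TensorProduct.includeRight :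
      Γ(X, W) →ₐ[Γ(S, S₀)] T).toRingHom
  haveI := hW.isOpenImmersion_fromSpec
  have hwr : w ∈ Set.range ρ := by rw [hρr]; exact hwW
  obtain ⟨t, rfl⟩ := hwr
  have htp : t.asIdeal.comap (algebraMap R' T) = p' := by
    have h5 : (ρ ≫ pullback.snd f g) t = u := hw
    rw [hρ2] at h5
    exact congrArg PrimeSpectrum.asIdeal h5
  haveI : t.asIdeal.IsPrime := t.isPrime
  have h1 := QFRes.tre_tensor p' H t.asIdeal htp
  have h2 : Function.Surjective ((Spec.map inr).residueFieldMap t).hom := by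
    refine QFRes.specRes inr t ?_
    intro b
    obtain ⟨c, c', hc', hc⟩ := h1 b
    exact ⟨c, c', hc', hc⟩
  exact QFRes.residue_of_comp_eq ρ (pullback.fst f g) (Spec.map inr) hW.fromSpec hρ1 t h2


theorem chart_unique {X S : Scheme.{u}} (f : X ⟶ S) {S₀ : S.Opens} (hS₀ : IsAffineOpen S₀)
    {W : X.Opens} (hW : IsAffineOpen W) (hWS : W ≤ f ⁻¹ᵁ S₀) (R' : Type u) [CommRing R']
    [Algebra Γ(S, S₀) R'] (p : Ideal Γ(S, S₀)) [p.IsPrime] (p' : Ideal R') [p'.IsPrime]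
    [p'.LiesOver p]
    (hb : Function.Bijective (Ideal.ResidueField.mapₐ p p' (Algebra.ofId _ _) (p'.over_def p))) :
    let g := Spec.map (CommRingCat.ofHom (algebraMap Γ(S, S₀) R')) ≫ hS₀.fromSpec
    let u : Spec (CommRingCat.of R') := ⟨p', inferInstance⟩
    ∀ w w' : ↑(pullback f g), pullback.snd f g w = u → pullback.snd f g w' = u →
      pullback.fst f g w ∈ W → pullback.fst f g w = pullback.fst f g w' → w = w' := by
  letI : Algebra Γ(S, S₀) Γ(X, W) := (f.appLE S₀ W hWS).hom.toAlgebra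
  intro g u w w' hw hw' hwW hww'
  obtain ⟨ρ, hρo, hρ1, hρ2, hρr⟩ := EtLocalSch.chart f hS₀ hW hWS R'
  let T := R' ⊗[Γ(S, S₀)] Γ(X, W)
  let inr : Γ(X, W) ⟶ CommRingCat.of T :=
    CommRingCat.ofHom (Algebra.TensorProduct.includeRight :
      Γ(X, W) →ₐ[Γ(S, S₀)] T).toRingHom
  haveI := hW.isOpenImmersion_fromSpec
  have hwr : w ∈ Set.range ρ := by rw [hρr]; exact hwW
  have hwr' : w' ∈ Set.range ρ := by rw [hρr]; show pullback.fst f g w' ∈ W; rw [← hww']; exact hwW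
  obtain ⟨t, rfl⟩ := hwr
  obtain ⟨t', rfl⟩ := hwr'
  have htp : ∀ t : Spec (CommRingCat.of T), pullback.snd f g (ρ t) = u →
      t.asIdeal.comap (algebraMap R' T) = p' := by
    intro t hw
    have h5 : (ρ ≫ pullback.snd f g) t = u := hw
    rw [hρ2] at h5
    exact congrArg PrimeSpectrum.asIdeal h5
  have h6 : ∀ t : Spec (CommRingCat.of T),
      pullback.fst f g (ρ t) = hW.fromSpec (Spec.map inr t) := by
    intro t
    show (ρ ≫ pullback.fst f g) t = _
    rw [hρ1]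
    rfl
  have h7 : Spec.map inr t = Spec.map inr t' := by
    apply hW.fromSpec.isOpenEmbedding.injective
    rw [← h6, ← h6, hww']
  haveI : t.asIdeal.IsPrime := t.isPrime
  haveI : t'.asIdeal.IsPrime := t'.isPrime
  haveI : t.asIdeal.LiesOver p' := ⟨(htp t hw).symm⟩
  haveI : t'.asIdeal.LiesOver p' := ⟨(htp t' hw').symm⟩
  have h8 : t.asIdeal = t'.asIdeal :=
    Ideal.eq_of_comap_eq_comap_of_bijective_residueFieldMap hb t.asIdeal t'.asIdeal
      (congrArg PrimeSpectrum.asIdeal h7)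
  rw [PrimeSpectrum.ext h8]


theorem primeIdealOf_comap {X S : Scheme.{u}} (f : X ⟶ S) {S₀ : S.Opens} (hS₀ : IsAffineOpen S₀)
    {W : X.Opens} (hW : IsAffineOpen W) (hWS : W ≤ f ⁻¹ᵁ S₀) (x : X) (hxW : x ∈ W) :
    Spec.map (f.appLE S₀ W hWS) (hW.primeIdealOf ⟨x, hxW⟩) =
      hS₀.primeIdealOf ⟨f x, hWS hxW⟩ := by
  haveI := hS₀.isOpenImmersion_fromSpec
  apply hS₀.fromSpec.isOpenEmbedding.injective
  rw [hS₀.fromSpec_primeIdealOf]
  have h1 := IsAffineOpen.SpecMap_appLE_fromSpec f hS₀ hW hWS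
  have h2 : (Spec.map (f.appLE S₀ W hWS) ≫ hS₀.fromSpec) (hW.primeIdealOf ⟨x, hxW⟩) = f x := by
    rw [h1]
    show f (hW.fromSpec (hW.primeIdealOf ⟨x, hxW⟩)) = f x
    rw [hW.fromSpec_primeIdealOf]
  exact h2

theorem liesOver_primeIdealOf {X S : Scheme.{u}} (f : X ⟶ S) {S₀ : S.Opens} (hS₀ : IsAffineOpen S₀)
    {W : X.Opens} (hW : IsAffineOpen W) (hWS : W ≤ f ⁻¹ᵁ S₀) (x : X) (hxW : x ∈ W) :
    letI : Algebra Γ(S, S₀) Γ(X, W) := (f.appLE S₀ W hWS).hom.toAlgebra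
    (hW.primeIdealOf ⟨x, hxW⟩).asIdeal.LiesOver (hS₀.primeIdealOf ⟨f x, hWS hxW⟩).asIdeal := by
  letI : Algebra Γ(S, S₀) Γ(X, W) := (f.appLE S₀ W hWS).hom.toAlgebra
  exact ⟨congrArg PrimeSpectrum.asIdeal (primeIdealOf_comap f hS₀ hW hWS x hxW).symm⟩

end Groth.Agent.Helper3.QFSch
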