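import Groth.Agent.Helper3.HensLocal

/-!
Lifting idempotent matrices and finite projective modules over a henselian pair.
-/

namespace Groth.Agent.Helper3.HensProj

open Polynomial
open Groth.Agent.Helper3.HensGabber

universe u

/-- A pair which is henselian for `I` is henselian for any smaller ideal. -/
theorem hens_of_le {A : Type*} [CommRing A] (I J : Ideal A) [hA : HenselianRing A I]
    (hJI : J ≤ I) : HenselianRing A J := by
  have hJjac : J ≤ Ideal.jacobson ⊥ := hJI.trans hA.jac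
  refine ⟨hJjac, fun f hf a₀ h₁ h₂ => ?_⟩
  have hu : IsUnit (f.derivative.eval a₀) := isUnit_of_isUnit_mk hJjac h₂
  obtain ⟨a, ha, haI⟩ := hA.is_henselian f hf a₀ (hJI h₁) (hu.map _)
  refine ⟨a, ha, ?_⟩
  obtain ⟨k, hk⟩ := Polynomial.binomExpansion f a₀ (a - a₀)
  rw [add_sub_cancel, ha.eq_zero] at hk
  have hu2 : IsUnit (f.derivative.eval a₀ + k * (a - a₀)) :=
    isUnit_add_of_mem_jacobson hu (hA.jac (I.mul_mem_left _ haI))
  obtain ⟨v, hv⟩ := hu2.exists_right_inv
  have h3 : (a - a₀) * (f.derivative.eval a₀ + k * (a - a₀)) = -f.eval a₀ := by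
    linear_combination -hk
  have h4 : a - a₀ = -f.eval a₀ * v := by
    rw [← h3, mul_assoc, hv, mul_one]
  rw [h4]
  exact J.mul_mem_right _ (J.neg_mem h₁)

/-- Lifting idempotent matrices over a henselian pair. -/
theorem matrix_idem_lift {R : Type u} [CommRing R] (I : Ideal R) [hR : HenselianRing R I]
    (n : ℕ) (a : Matrix (Fin n) (Fin n) R) (ha : ∀ i j, (a * a - a) i j ∈ I) :
    ∃ E : Matrix (Fin n) (Fin n) R, E * E = E ∧ ∀ i j, (E - a) i j ∈ I := by
  classical
  rcases subsingleton_or_nontrivial R with hs | hnt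
  · exact ⟨a, Subsingleton.elim _ _, fun i j => by simp⟩
  let B := Algebra.adjoin R ({a} : Set (Matrix (Fin n) (Fin n) R))
  letI : CommRing B := Algebra.adjoinCommRingOfComm R (by
    intro x hx y hy
    rw [Set.mem_singleton_iff] at hx hy
    rw [hx, hy])
  have h1 : Module.Finite R B := ⟨(Submodule.fg_top _).2 (Matrix.isIntegral a).fg_adjoin_singleton⟩
  have h2 : Algebra.IsIntegral R B := Algebra.IsIntegral.of_finite R B
  let J : Ideal B :=
    { carrier := {b | ∀ i j, (b : Matrix (Fin n) (Fin n) R) i j ∈ I}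
      add_mem' := by
        intro x y hx hy i j
        have : ((x + y : B) : Matrix (Fin n) (Fin n) R) i j =
            (x : Matrix (Fin n) (Fin n) R) i j + (y : Matrix (Fin n) (Fin n) R) i j := rfl
        rw [this]
        exact I.add_mem (hx i j) (hy i j)
      zero_mem' := by
        intro i j
        have : ((0 : B) : Matrix (Fin n) (Fin n) R) i j = 0 := rfl
        rw [this]; exact I.zero_mem
      smul_mem' := by
        intro c x hx i j
        have : ((c • x : B) : Matrix (Fin n) (Fin n) R) i j =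
            ∑ k, (c : Matrix (Fin n) (Fin n) R) i k * (x : Matrix (Fin n) (Fin n) R) k j := by
          change ((c : Matrix (Fin n) (Fin n) R) * (x : Matrix (Fin n) (Fin n) R)) i j = _
          rw [Matrix.mul_apply]
        rw [this]
        exact I.sum_mem fun k _ => I.mul_mem_left _ (hx k j) }
  have hJmem : ∀ b : B, b ∈ J ↔ ∀ i j, (b : Matrix (Fin n) (Fin n) R) i j ∈ I := fun b => Iff.rfl
  have hJrad : J ≤ (I.map (algebraMap R B)).radical := by
    intro b hb
    rw [hJmem] at hb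
    set M : Matrix (Fin n) (Fin n) R := (b : Matrix (Fin n) (Fin n) R) with hM
    have hmap : M.map (Ideal.Quotient.mk I) = 0 := by
      ext i j
      rw [Matrix.map_apply, Matrix.zero_apply]
      exact Ideal.Quotient.eq_zero_iff_mem.2 (hb i j)
    have hχ : M.charpoly.map (Ideal.Quotient.mk I) = X ^ n := by
      rw [← Matrix.charpoly_map, hmap, Matrix.charpoly_zero, Fintype.card_fin]
    have hcoeff : ∀ k, k < n → M.charpoly.coeff k ∈ I := by
      intro k hk
      have := congrArg (fun p => p.coeff k) hχ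
      simp only [coeff_map, coeff_X_pow] at this
      rw [if_neg (Nat.ne_of_lt hk)] at this
      exact Ideal.Quotient.eq_zero_iff_mem.1 this
    have hdeg : M.charpoly.natDegree = n := by
      rw [Matrix.charpoly_natDegree_eq_dim, Fintype.card_fin]
    have hlead : M.charpoly.coeff n = 1 := by
      have := M.charpoly_monic
      rwa [Monic, leadingCoeff, hdeg] at this
    have haev : aeval b M.charpoly = 0 := by
      apply Subtype.ext
      have h := Polynomial.aeval_algHom_apply B.val b M.charpoly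
      exact h.symm.trans (Matrix.aeval_self_charpoly M)
    refine ⟨n, ?_⟩
    rw [aeval_eq_sum_range, hdeg, Finset.sum_range_succ, hlead, one_smul] at haev
    have : b ^ n = -∑ k ∈ Finset.range n, M.charpoly.coeff k • b ^ k := by
      linear_combination haev
    rw [this]
    refine (Ideal.neg_mem_iff _).2 (Ideal.sum_mem _ fun k hk => ?_)
    rw [Algebra.smul_def]
    exact Ideal.mul_mem_right _ _ (Ideal.mem_map_of_mem _ (hcoeff k (Finset.mem_range.1 hk)))
  haveI hB1 : HenselianRing B (I.map (algebraMap R B)) := HensRows.hens_of_isIntegral R I B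
  haveI hB2 : HenselianRing B (I.map (algebraMap R B)).radical := HensLocal.hens_radical _
  haveI hB3 : HenselianRing B J := hens_of_le _ J hJrad
  let aB : B := ⟨a, Algebra.subset_adjoin (Set.mem_singleton a)⟩
  have haB : aB * aB - aB ∈ J := by
    rw [hJmem]
    intro i j
    exact ha i j
  obtain ⟨e, he, hea⟩ := idem_lift J aB haB
  refine ⟨(e : Matrix (Fin n) (Fin n) R), ?_, ?_⟩
  · have := congrArg Subtype.val he.eq
    exact this
  · intro i j
    exact (hJmem _).1 hea i j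

/-- Two retracts of a module splitting the same idempotent are isomorphic. -/
theorem retract_equiv {K : Type*} [CommRing K] {M₁ M₂ N : Type*} [AddCommGroup M₁]
    [AddCommGroup M₂] [AddCommGroup N] [Module K M₁] [Module K M₂] [Module K N]
    (i₁ : M₁ →ₗ[K] N) (p₁ : N →ₗ[K] M₁) (h₁ : p₁ ∘ₗ i₁ = LinearMap.id)
    (i₂ : M₂ →ₗ[K] N) (p₂ : N →ₗ[K] M₂) (h₂ : p₂ ∘ₗ i₂ = LinearMap.id)
    (h : i₁ ∘ₗ p₁ = i₂ ∘ₗ p₂) : Nonempty (M₁ ≃ₗ[K] M₂) := by
  refine ⟨LinearEquiv.ofLinearMap (p₂ ∘ₗ i₁) (p₁ ∘ₗ i₂) ?_ ?_⟩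
  · calc (p₂ ∘ₗ i₁) ∘ₗ (p₁ ∘ₗ i₂) = p₂ ∘ₗ (i₁ ∘ₗ p₁) ∘ₗ i₂ := rfl
      _ = p₂ ∘ₗ (i₂ ∘ₗ p₂) ∘ₗ i₂ := by rw [h]
      _ = (p₂ ∘ₗ i₂) ∘ₗ (p₂ ∘ₗ i₂) := rfl
      _ = LinearMap.id := by rw [h₂]; rfl
  · calc (p₁ ∘ₗ i₂) ∘ₗ (p₂ ∘ₗ i₁) = p₁ ∘ₗ (i₂ ∘ₗ p₂) ∘ₗ i₁ := rfl
      _ = p₁ ∘ₗ (i₁ ∘ₗ p₁) ∘ₗ i₁ := by rw [h]
      _ = (p₁ ∘ₗ i₁) ∘ₗ (p₁ ∘ₗ i₁) := rfl
      _ = LinearMap.id := by rw [h₁]; rfl

/-- S0534 -/
theorem proj_lift (R : Type u) [CommRing R] (I : Ideal R) [HenselianRing R I]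
    (Q : Type u) [AddCommGroup Q] [Module (R ⧸ I) Q] [Module.Finite (R ⧸ I) Q]
    [Module.Projective (R ⧸ I) Q] :
    ∃ (P : Type u) (_ : AddCommGroup P) (_ : Module R P), Module.Finite R P ∧
      Module.Projective R P ∧ Nonempty (TensorProduct R (R ⧸ I) P ≃ₗ[R ⧸ I] Q) := by
  classical
  obtain ⟨n, f, g, -, -, hfg⟩ := Module.Finite.exists_comp_eq_id_of_projective (R ⧸ I) Q
  set Ē : Matrix (Fin n) (Fin n) (R ⧸ I) := LinearMap.toMatrix' (g ∘ₗ f) with hĒ
  have hĒlin : Matrix.toLin' Ē = g ∘ₗ f := by rw [hĒ, Matrix.toLin'_toMatrix']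
  have hĒidem : Ē * Ē = Ē := by
    rw [hĒ, ← LinearMap.toMatrix'_comp]
    congr 1
    calc (g ∘ₗ f) ∘ₗ (g ∘ₗ f) = g ∘ₗ (f ∘ₗ g) ∘ₗ f := rfl
      _ = g ∘ₗ f := by rw [hfg]; rfl
  let a : Matrix (Fin n) (Fin n) R := fun i j => (Ideal.Quotient.mk_surjective (Ē i j)).choose
  have ha : ∀ i j, Ideal.Quotient.mk I (a i j) = Ē i j := fun i j =>
    (Ideal.Quotient.mk_surjective (Ē i j)).choose_spec
  have hamap : a.map (Ideal.Quotient.mk I) = Ē := by
    ext i j; exact ha i j
  have haa : ∀ i j, (a * a - a) i j ∈ I := by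
    intro i j
    rw [← Ideal.Quotient.eq_zero_iff_mem]
    have : (a * a - a).map (Ideal.Quotient.mk I) = 0 := by
      rw [Matrix.map_sub (f := Ideal.Quotient.mk I) (fun x y => map_sub _ x y), Matrix.map_mul,
        hamap, hĒidem, sub_self]
    have h2 := congrFun (congrFun this i) j
    exact h2
  obtain ⟨E, hEE, hEa⟩ := matrix_idem_lift I n a haa
  have hEmap : E.map (Ideal.Quotient.mk I) = Ē := by
    rw [← hamap]
    ext i j
    rw [Matrix.map_apply, Matrix.map_apply, ← sub_eq_zero, ← map_sub]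
    exact Ideal.Quotient.eq_zero_iff_mem.2 (hEa i j)
  let P : Submodule R (Fin n → R) := LinearMap.range (Matrix.toLin' E)
  let incl : P →ₗ[R] (Fin n → R) := P.subtype
  let proj : (Fin n → R) →ₗ[R] P := (Matrix.toLin' E).codRestrict P (fun v => ⟨v, rfl⟩)
  have hip : incl ∘ₗ proj = Matrix.toLin' E := by
    ext v : 1
    rfl
  have hpi : proj ∘ₗ incl = LinearMap.id := by
    ext ⟨x, v, rfl⟩ : 1
    apply Subtype.ext
    change Matrix.toLin' E (Matrix.toLin' E v) = Matrix.toLin' E v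
    rw [← LinearMap.comp_apply, ← Matrix.toLin'_mul, hEE]
  have hfin : Module.Finite R P := Module.Finite.range _
  have hproj : Module.Projective R P := Module.Projective.of_split incl proj hpi
  refine ⟨P, inferInstance, inferInstance, hfin, hproj, ?_⟩
  let τ := TensorProduct.piScalarRight R (R ⧸ I) (R ⧸ I) (Fin n)
  let i₁ : TensorProduct R (R ⧸ I) P →ₗ[R ⧸ I] (Fin n → R ⧸ I) :=
    τ.toLinearMap ∘ₗ incl.baseChange (R ⧸ I)
  let p₁ : (Fin n → R ⧸ I) →ₗ[R ⧸ I] TensorProduct R (R ⧸ I) P :=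
    proj.baseChange (R ⧸ I) ∘ₗ τ.symm.toLinearMap
  have h₁ : p₁ ∘ₗ i₁ = LinearMap.id := by
    refine LinearMap.ext fun x => ?_
    change proj.baseChange (R ⧸ I) (τ.symm (τ (incl.baseChange (R ⧸ I) x))) = x
    rw [τ.symm_apply_apply, ← LinearMap.comp_apply, ← LinearMap.baseChange_comp, hpi,
      LinearMap.baseChange_id]
    rfl
  have hkey : τ.toLinearMap ∘ₗ (Matrix.toLin' E).baseChange (R ⧸ I) =
      Matrix.toLin' Ē ∘ₗ τ.toLinearMap := by
    apply TensorProduct.AlgebraTensorModule.ext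
    intro x v
    change τ ((Matrix.toLin' E).baseChange (R ⧸ I) (x ⊗ₜ v)) = Matrix.toLin' Ē (τ (x ⊗ₜ v))
    rw [LinearMap.baseChange_tmul, TensorProduct.piScalarRight_apply,
      TensorProduct.piScalarRight_apply, TensorProduct.piScalarRightHom_tmul,
      TensorProduct.piScalarRightHom_tmul]
    ext j
    rw [Matrix.toLin'_apply, Matrix.toLin'_apply, ← hEmap]
    simp only [Matrix.mulVec, dotProduct, Matrix.map_apply]
    rw [Finset.sum_smul]
    refine Finset.sum_congr rfl fun k _ => ?_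
    rw [Algebra.smul_def, Algebra.smul_def, map_mul, Ideal.Quotient.algebraMap_eq]
    ring
  have h : i₁ ∘ₗ p₁ = g ∘ₗ f := by
    rw [← hĒlin]
    refine LinearMap.ext fun x => ?_
    change τ (incl.baseChange (R ⧸ I) (proj.baseChange (R ⧸ I) (τ.symm x))) = Matrix.toLin' Ē x
    rw [← LinearMap.comp_apply, ← LinearMap.baseChange_comp, hip]
    have := LinearMap.congr_fun hkey (τ.symm x)
    rw [LinearMap.comp_apply, LinearMap.comp_apply] at this
    change τ _ = Matrix.toLin' Ē (τ (τ.symm x)) at this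
    rw [τ.apply_symm_apply] at this
    exact this
  exact retract_equiv i₁ p₁ h₁ g f hfg h

end Groth.Agent.Helper3.HensProj
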