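import Mathlib

/-!
Basic facts on henselian pairs (Mathlib's `HenselianRing`): images under surjections,
lifting of idempotents of `A/I`, units.
-/

namespace Groth.Agent.Helper3.HensBasic

open Polynomial

universe u

variable {A : Type*} [CommRing A]

theorem isUnit_of_isUnit_mk {I : Ideal A} (hI : I ≤ Ideal.jacobson ⊥) {x : A}
    (hx : IsUnit (Ideal.Quotient.mk I x)) : IsUnit x :=
  (isLocalHom_of_le_jacobson_bot I hI).map_nonunit _ hx

theorem isUnit_of_sub_one_mem {I : Ideal A} (hI : I ≤ Ideal.jacobson ⊥) {x : A}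
    (hx : x - 1 ∈ I) : IsUnit x := by
  refine isUnit_of_isUnit_mk hI ?_
  have : Ideal.Quotient.mk I x = 1 := by
    rw [← sub_eq_zero, ← map_one (Ideal.Quotient.mk I), ← map_sub]
    exact Ideal.Quotient.eq_zero_iff_mem.2 hx
  rw [this]; exact isUnit_one

theorem map_le_jacobson_bot {B : Type*} [CommRing B] (φ : A →+* B) (hφ : Function.Surjective φ)
    {J : Ideal A} (hJ : J ≤ Ideal.jacobson ⊥) : J.map φ ≤ Ideal.jacobson ⊥ := by
  intro y hy
  obtain ⟨x, hx, rfl⟩ := (Ideal.mem_map_iff_of_surjective φ hφ).mp hy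
  rw [Ideal.mem_jacobson_bot]
  intro z
  obtain ⟨w, rfl⟩ := hφ z
  have := (Ideal.mem_jacobson_bot.mp (hJ hx)) w
  simpa using this.map φ

theorem one_notMem_jacobson_bot [Nontrivial A] : (1 : A) ∉ Ideal.jacobson (⊥ : Ideal A) := by
  intro h
  have := Ideal.mem_jacobson_bot.1 h (-1)
  simp at this

/-- The image of a henselian pair under a surjective ring map is a henselian pair. -/
theorem henselian_map_of_surjective {B : Type*} [CommRing B] (I : Ideal A) [hA : HenselianRing A I]
    (φ : A →+* B) (hφ : Function.Surjective φ) : HenselianRing B (I.map φ) := by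
  have hjac : I.map φ ≤ Ideal.jacobson ⊥ := map_le_jacobson_bot φ hφ hA.jac
  refine ⟨hjac, fun g hg b₀ h₁ h₂ => ?_⟩
  rcases subsingleton_or_nontrivial B with hsub | hnt
  · exact ⟨b₀, Subsingleton.elim _ _, by simp⟩
  have : Nontrivial A := φ.domain_nontrivial
  obtain ⟨f, hfg, hdeg, hf⟩ := Polynomial.lifts_and_degree_eq_and_monic
    (Polynomial.mem_lifts_of_surjective hφ g) hg
  obtain ⟨a₀, rfl⟩ := hφ b₀
  have e1 : g.eval (φ a₀) = φ (f.eval a₀) := by
    rw [← hfg, Polynomial.eval_map, Polynomial.eval₂_hom]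
  have e2 : g.derivative.eval (φ a₀) = φ (f.derivative.eval a₀) := by
    rw [← hfg, Polynomial.derivative_map, Polynomial.eval_map, Polynomial.eval₂_hom]
  obtain ⟨y, hy, hyx⟩ := (Ideal.mem_map_iff_of_surjective φ hφ).mp (e1 ▸ h₁)
  -- the degree of `f` is positive
  have hdpos : f.natDegree ≠ 0 := by
    intro h0
    have hf1 : f = 1 := (hf.natDegree_eq_zero).1 h0
    have hg1 : g = 1 := by rw [← hfg, hf1, Polynomial.map_one]
    rw [hg1, eval_one] at h₁
    exact one_notMem_jacobson_bot (hjac h₁)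
  set c : A := f.eval a₀ - y with hc
  have hφc : φ c = 0 := by rw [hc, map_sub, hyx, sub_self]
  have hf₁ : (f - C c).Monic := by
    refine hf.sub_of_left ?_
    refine lt_of_le_of_lt degree_C_le ?_
    exact natDegree_pos_iff_degree_pos.1 (Nat.pos_of_ne_zero hdpos)
  have hev : (f - C c).eval a₀ = y := by
    rw [eval_sub, eval_C, hc]; ring
  have hder : (f - C c).derivative = f.derivative := by
    rw [derivative_sub, derivative_C, sub_zero]
  have hunit : IsUnit (Ideal.Quotient.mk I ((f - C c).derivative.eval a₀)) := by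
    rw [hder]
    have h3 : IsUnit (φ (f.derivative.eval a₀)) := by
      have := isUnit_of_isUnit_mk hjac h₂
      rwa [e2] at this
    -- `φ x` unit and `ker φ`?  use that `f'(a₀)` is a unit of `A` modulo `I`
    obtain ⟨w, hw⟩ := h₂.exists_left_inv
    obtain ⟨w', rfl⟩ := Ideal.Quotient.mk_surjective w
    obtain ⟨w'', rfl⟩ := hφ w'
    rw [e2, ← map_mul, ← map_mul, ← map_one (Ideal.Quotient.mk (I.map φ)), ← map_one φ,
      Ideal.Quotient.eq, ← map_sub] at hw
    obtain ⟨z, hz, hzx⟩ := (Ideal.mem_map_iff_of_surjective φ hφ).mp hw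
    sorry
  sorry

end Groth.Agent.Helper3.HensBasic
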