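import Mathlib
import Groth.Prelude
import Groth.Agent.Helper2.T1CI

set_option autoImplicit false
set_option linter.style.haveILetI false
set_option linter.unusedSectionVars false
set_option linter.unusedVariables false
set_option linter.deprecated false
set_option linter.style.haveILetI false
set_option linter.unusedSectionVars false
set_option linter.unusedVariables false

open TensorProduct
universe u

namespace Groth.Agent.Helper3.CnIsoA

section
variable {O Ob : Type u} [CommRing O] [CommRing Ob] [Algebra O Ob]

/-- if `O → Ob` is surjective with kernel `I`, then `1 ⊗ j = 0` in `Ob ⊗ J` forces `j ∈ I J` -/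
theorem mem_smul_top_of_tmul_eq_zero (hφ : Function.Surjective (algebraMap O Ob))
    {J : Type u} [AddCommGroup J] [Module O J] (j : J) (h : (1 : Ob) ⊗ₜ[O] j = 0) :
    j ∈ (RingHom.ker (algebraMap O Ob) • ⊤ : Submodule O J) := by
  set I := RingHom.ker (algebraMap O Ob) with hI
  have hφ' : Function.Surjective (Algebra.ofId O Ob) := hφ
  let e₁ : (O ⧸ RingHom.ker (Algebra.ofId O Ob)) ≃ₐ[O] Ob :=
    Ideal.quotientKerAlgEquivOfSurjective hφ'
  have hker : RingHom.ker (Algebra.ofId O Ob) = I := rfl
  let g : Ob ⊗[O] J →ₗ[O] J ⧸ (RingHom.ker (Algebra.ofId O Ob) • ⊤ : Submodule O J) :=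
    (TensorProduct.quotTensorEquivQuotSMul J (RingHom.ker (Algebra.ofId O Ob))).toLinearMap ∘ₗ
      (LinearMap.rTensor J e₁.symm.toLinearMap)
  have h1 : g ((1 : Ob) ⊗ₜ[O] j) = Submodule.Quotient.mk j := by
    change (TensorProduct.quotTensorEquivQuotSMul J _) ((e₁.symm 1) ⊗ₜ[O] j) = _
    rw [map_one, TensorProduct.quotTensorEquivQuotSMul_mk_one_tmul]
  rw [h, map_zero] at h1
  have h2 := (Submodule.Quotient.mk_eq_zero _).mp h1.symm
  rw [hker] at h2
  exact h2

/-- every element of `Ob ⊗ E` is of the form `1 ⊗ v` when `O → Ob` is surjective -/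
theorem exists_one_tmul (hφ : Function.Surjective (algebraMap O Ob))
    {E : Type u} [AddCommGroup E] [Module O E] (z : Ob ⊗[O] E) : ∃ v : E, z = (1 : Ob) ⊗ₜ[O] v := by
  induction z using TensorProduct.induction_on with
  | zero => exact ⟨0, (TensorProduct.tmul_zero _ _).symm⟩
  | tmul a v =>
    obtain ⟨a', rfl⟩ := hφ a
    refine ⟨a' • v, ?_⟩
    rw [← TensorProduct.smul_tmul, Algebra.smul_def, mul_one]
  | add x y hx hy =>
    obtain ⟨v, rfl⟩ := hx
    obtain ⟨w, rfl⟩ := hy
    exact ⟨v + w, (TensorProduct.tmul_add _ _ _).symm⟩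

/-- the conormal criterion: base change of `T : E → J` along `O → O/I` is injective when `E` is
spanned by `e_k`, `J ↪ O` has image in `I`, and the images `f_k` of the `e_k` form a quasi-regular
sequence generating `I`. -/
theorem baseChange_injective (hφ : Function.Surjective (algebraMap O Ob))
    {E J : Type u} [AddCommGroup E] [Module O E] [AddCommGroup J] [Module O J]
    (T : E →ₗ[O] J) (ι : J →ₗ[O] O)
    (hιI : ∀ j, ι j ∈ RingHom.ker (algebraMap O Ob))
    {n : ℕ} (e : Fin n → E) (he : Submodule.span O (Set.range e) = ⊤)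
    (hker : RingHom.ker (algebraMap O Ob) = Ideal.span (Set.range fun k => ι (T (e k))))
    (hq : CAlgX.IsQuasiRegular (fun k => ι (T (e k)))) :
    Function.Injective (T.baseChange Ob) := by
  rw [injective_iff_map_eq_zero]
  intro z hz
  obtain ⟨v, rfl⟩ := exists_one_tmul hφ z
  rw [LinearMap.baseChange_tmul] at hz
  have h1 := mem_smul_top_of_tmul_eq_zero hφ (T v) hz
  set I := RingHom.ker (algebraMap O Ob) with hI
  -- `ι (T v) ∈ I ^ 2`
  have h2 : ι (T v) ∈ I ^ 2 := by
    refine Submodule.smul_induction_on h1 ?_ ?_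
    · intro r hr j _
      rw [map_smul, smul_eq_mul, pow_two]
      exact Ideal.mul_mem_mul hr (hιI j)
    · intro x y hx hy
      rw [map_add]
      exact Ideal.add_mem _ hx hy
  -- write `v` in terms of the `e_k`
  have hv : v ∈ Submodule.span O (Set.range e) := by rw [he]; trivial
  obtain ⟨c, rfl⟩ := (Submodule.mem_span_range_iff_exists_fun O).mp hv
  let f : Fin n → O := fun k => ι (T (e k))
  let P : MvPolynomial (Fin n) O := ∑ k, MvPolynomial.C (c k) * MvPolynomial.X k
  have hP : P.IsHomogeneous 1 :=
    MvPolynomial.IsHomogeneous.sum _ _ _ (fun k _ => MvPolynomial.isHomogeneous_C_mul_X (c k) k)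
  have hev : MvPolynomial.eval f P = ι (T (∑ k, c k • e k)) := by
    simp only [P, map_sum, map_mul, MvPolynomial.eval_C, MvPolynomial.eval_X, map_smul, smul_eq_mul, f]
  have hmem : MvPolynomial.eval f P ∈ Ideal.span (Set.range f) ^ (1 + 1) := by
    rw [hev, ← hker]
    exact h2
  have hc : ∀ k, c k ∈ I := by
    intro k
    have := hq 1 P hP hmem (Finsupp.single k 1)
    rw [← hker] at this
    have hcoef : P.coeff (Finsupp.single k 1) = c k := by
      classical
      simp only [P, MvPolynomial.coeff_sum, MvPolynomial.coeff_C_mul, MvPolynomial.coeff_X']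
      rw [Finset.sum_eq_single k]
      · simp
      · intro b _ hb
        have : ¬ (Finsupp.single b 1 = Finsupp.single k 1) := by
          intro h
          apply hb
          have := Finsupp.single_left_injective (one_ne_zero) h
          exact this
        simp [this]
      · intro h; exact absurd (Finset.mem_univ k) h
    rwa [hcoef] at this
  rw [TensorProduct.tmul_sum]
  apply Finset.sum_eq_zero
  intro k _
  rw [← TensorProduct.smul_tmul, Algebra.smul_def, mul_one]
  have : algebraMap O Ob (c k) = 0 := (RingHom.mem_ker).mp (hc k)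
  rw [this, TensorProduct.zero_tmul]

end

end Groth.Agent.Helper3.CnIsoA
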