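import Mathlib
import Groth.Prelude
import Groth.Agent.Helper3.CnIsoA
import Groth.Agent.Lead.SubStalk
import Groth.Agent.Lead.IdealModDict
import Groth.Agent.Lead.CartSecB
import Groth.Agent.Helper4.QcohLocal
import Groth.Agent.Helper4.EpiStalk
import Groth.Agent.Helper4.StalkExact
import Groth.Agent.Helper4.FinLocFree4
import Groth.Agent.Helper4.FinLocFree2
import Groth.Agent.Helper9.SkyMod4

set_option autoImplicit false
set_option linter.style.haveILetI false
set_option linter.unusedSectionVars false
set_option linter.unusedVariables false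
set_option linter.deprecated false
set_option linter.style.haveILetI false
set_option linter.unusedSectionVars false
set_option linter.unusedVariables false

open CategoryTheory Limits AlgebraicGeometry TopologicalSpace Opposite TensorProduct
universe u

namespace Groth.Agent.Helper3.CnIsoB
open Groth.Agent.Helper4 Groth.Agent.Helper4.StalkDict Groth.Agent.Lead
open Groth.Agent.Helper1.IdealMod (fn ofFn)
open RingTheory.Sequence

variable {X Y : Scheme.{u}}

theorem ker_stalkMap_germ_aux (f j : Y ⟶ X) (e : f = j) (I : X.IdealSheafData)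
    (H : ∀ (z : Y) (W : X.affineOpens) (hW : f z ∈ W.1),
      RingHom.ker (f.stalkMap z).hom = (I.ideal W).map (X.presheaf.germ W.1 (f z) hW).hom) :
    ∀ (z : Y) (W : X.affineOpens) (hW : j z ∈ W.1),
      RingHom.ker (j.stalkMap z).hom = (I.ideal W).map (X.presheaf.germ W.1 (j z) hW).hom := by
  subst e
  exact H

/-- the kernel of the stalk map of a closed immersion, computed on an affine neighbourhood -/
theorem ker_stalkMap_germ (j : Y ⟶ X) [IsClosedImmersion j] (z : Y) (W : X.affineOpens)
    (hW : j z ∈ W.1) :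
    RingHom.ker (j.stalkMap z).hom = (j.ker.ideal W).map (X.presheaf.germ W.1 (j z) hW).hom := by
  refine ker_stalkMap_germ_aux (j.toImage ≫ j.imageι) j j.toImage_imageι j.ker ?_ z W hW
  intro x W hW
  have hinj : Function.Injective (j.toImage.stalkMap x).hom :=
    (ConcreteCategory.bijective_of_isIso (j.toImage.stalkMap x)).1
  have h1 := Groth.Agent.Lead.SubStalk.ker_stalkMap_subschemeι j.ker (j.toImage x) W hW
  ext y
  have hy : ((j.toImage ≫ j.imageι).stalkMap x).hom y =
      (j.toImage.stalkMap x).hom ((j.imageι.stalkMap (j.toImage x)).hom y) := by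
    rw [Scheme.Hom.stalkMap_comp]
    rfl
  rw [RingHom.mem_ker, hy]
  exact Iff.trans (map_eq_zero_iff _ hinj)
    (Iff.trans RingHom.mem_ker.symm (Ideal.ext_iff.mp h1 y))

/-- the stalk of the inclusion of the ideal sheaf, with values in the local ring -/
noncomputable def iotaStalk (I : X.IdealSheafData) (x : X) :
    (ClSub.idealMod I).presheaf.stalk x →ₗ[X.presheaf.stalk x] X.presheaf.stalk x :=
  (CartSec.unitStalkEquiv x).symm.toLinearMap ∘ₗ stalkLin (ClSub.idealModι I) x

theorem unitStalkEquiv_symm_germ (x : X) (V : X.Opens) (hx : x ∈ V)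
    (a : Γ(Coh.structureModule X, V)) :
    (CartSec.unitStalkEquiv x).symm ((Coh.structureModule X).presheaf.germ V x hx a) =
      X.presheaf.germ V x hx (fn a) := by
  rw [LinearEquiv.symm_apply_eq]
  have h1 : (Coh.structureModule X).presheaf.germ V x hx a = WeakAss.germF V x hx (fn a) := rfl
  rw [h1, CartSec.germF_eq_smul_oneGerm]
  rfl

theorem iotaStalk_germ (I : X.IdealSheafData) (x : X) (V : X.Opens) (hx : x ∈ V)
    (σ : Γ(ClSub.idealMod I, V)) :
    iotaStalk I x ((ClSub.idealMod I).presheaf.germ V x hx σ) =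
      X.presheaf.germ V x hx (fn ((ClSub.idealModι I).app V σ)) := by
  unfold iotaStalk
  rw [LinearMap.comp_apply, StalkExact.stalkLin_germ]
  exact unitStalkEquiv_symm_germ x V hx _

theorem iotaStalk_injective (I : X.IdealSheafData) (x : X) :
    Function.Injective (iotaStalk I x) := by
  unfold iotaStalk
  rw [LinearMap.coe_comp]
  exact (CartSec.unitStalkEquiv x).symm.injective.comp
    (StalkExact.stalkLin_injective (ClSub.idealModι I) x)

/-- every element of a stalk is a germ over an affine open -/
theorem exists_affine_germ (F : X.Modules) (x : X) (m : F.presheaf.stalk x) :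
    ∃ (V : X.affineOpens) (hx : x ∈ V.1) (σ : Γ(F, V.1)), F.presheaf.germ V.1 x hx σ = m := by
  obtain ⟨V, hxV, σ, rfl⟩ := TopCat.Presheaf.exists_germ_eq F.presheaf m
  obtain ⟨_, ⟨V', hV', rfl⟩, hxV', hle⟩ :=
    (X.isBasis_affineOpens).exists_subset_of_mem_open hxV V.2
  refine ⟨⟨V', hV'⟩, hxV', F.presheaf.map (homOfLE hle).op σ, ?_⟩
  exact TopCat.Presheaf.germ_res_apply F.presheaf (homOfLE hle) x hxV' σ

/-- the image of the stalk of the ideal sheaf lies in the kernel of the stalk map -/
theorem iotaStalk_mem_ker (i : Y ⟶ X) [IsClosedImmersion i] (y : Y)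
    (m : (ClSub.idealMod i.ker).presheaf.stalk (i y)) :
    iotaStalk i.ker (i y) m ∈ RingHom.ker (i.stalkMap y).hom := by
  obtain ⟨V, hx, σ, rfl⟩ := exists_affine_germ (ClSub.idealMod i.ker) (i y) m
  rw [iotaStalk_germ, ker_stalkMap_germ i y V hx]
  apply Ideal.mem_map_of_mem
  exact (IdealModDict.exists_section_iff i.ker V _).mp ⟨σ, rfl⟩

end Groth.Agent.Helper3.CnIsoB
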