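import Mathlib
import Groth.Agent.Helper3.GlueUnits

set_option autoImplicit false
set_option linter.style.haveILetI false
set_option linter.unusedSectionVars false
set_option linter.unusedVariables false
set_option linter.deprecated false
set_option linter.style.haveILetI false
set_option linter.unusedSectionVars false
set_option linter.unusedVariables false

universe u

open CategoryTheory CategoryTheory.Limits AlgebraicGeometry TopologicalSpace Opposite

namespace Groth.Agent.Helper3.GlueInv2

open Scheme.Modules Groth.Agent.Helper3.GlueInv Groth.Agent.Helper4.TwistExt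
  Groth.Agent.Helper3.DiscPic1 Groth.Agent.Helper4.StalkExact

variable {X : Scheme.{u}} {U : X.Opens} {M : X.Modules} {Z : Type u} {V : Z → X.Opens}
variable (e : ∀ z, Γ(M, V z))

/-- the gluing condition on a pair `(n, t)` over `W` -/
def Cond (W : X.Opens) (n : Γ(M, W)) (t : ∀ z, Γ(Rz V z, W)) : Prop :=
  ∀ z, M.presheaf.map (homOfLE (inf_le_left : W ⊓ V z ≤ W)).op n =
    resX V z W (W ⊓ V z) le_rfl (t z) •
      M.presheaf.map (homOfLE (inf_le_right : W ⊓ V z ≤ V z)).op (e z)

theorem cond_zero (W : X.Opens) : Cond e W 0 (fun _ => 0) := by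
  intro z
  rw [resX_zero, zero_smul]
  exact map_zero (M.presheaf.map _).hom

theorem cond_add (W : X.Opens) (n n' : Γ(M, W)) (t t' : ∀ z, Γ(Rz V z, W))
    (h : Cond e W n t) (h' : Cond e W n' t') : Cond e W (n + n') (fun z => t z + t' z) := by
  intro z
  rw [resX_add, add_smul, ← h z, ← h' z]
  exact map_add (M.presheaf.map _).hom _ _

theorem cond_smul (W : X.Opens) (r : Γ(X, W)) (n : Γ(M, W)) (t : ∀ z, Γ(Rz V z, W))
    (h : Cond e W n t) : Cond e W (r • n) (fun z => r • t z) := by
  intro z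
  rw [resX_smul, mul_smul, ← h z]
  exact Scheme.Modules.map_smul M _ r n

theorem cond_res {W W' : X.Opens} (f : W' ⟶ W) (n : Γ(M, W)) (t : ∀ z, Γ(Rz V z, W))
    (h : Cond e W n t) :
    Cond e W' (M.presheaf.map f.op n) (fun z => (Rz V z).presheaf.map f.op (t z)) := by
  intro z
  have hle : W' ⊓ V z ≤ W ⊓ V z := inf_le_inf_right _ f.le
  have h1 := congrArg (M.presheaf.map (homOfLE hle).op) (h z)
  rw [Scheme.Modules.map_smul, map_resX] at h1
  rw [resX_map]
  have h2 : M.presheaf.map (homOfLE (inf_le_left : W' ⊓ V z ≤ W')).op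
      (M.presheaf.map f.op n) =
      M.presheaf.map (homOfLE hle).op
        (M.presheaf.map (homOfLE (inf_le_left : W ⊓ V z ≤ W)).op n) := by
    change (M.presheaf.map _ ≫ M.presheaf.map _) n = (M.presheaf.map _ ≫ M.presheaf.map _) n
    rw [← M.presheaf.map_comp, ← M.presheaf.map_comp]
    rfl
  have h3 : M.presheaf.map (homOfLE hle).op
      (M.presheaf.map (homOfLE (inf_le_right : W ⊓ V z ≤ V z)).op (e z)) =
      M.presheaf.map (homOfLE (inf_le_right : W' ⊓ V z ≤ V z)).op (e z) := by
    change (M.presheaf.map _ ≫ M.presheaf.map _) (e z) = _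
    rw [← M.presheaf.map_comp]
    rfl
  rw [h2, h1, h3]

theorem cond_loc (W : X.Opens) (n : Γ(M, W)) (t : ∀ z, Γ(Rz V z, W))
    (h : ∀ x ∈ W, ∃ (W' : X.Opens) (f : W' ⟶ W), x ∈ W' ∧
      Cond e W' (M.presheaf.map f.op n) (fun z => (Rz V z).presheaf.map f.op (t z))) :
    Cond e W n t := by
  intro z
  apply eq_of_locally_eq
  intro x hx
  obtain ⟨W', f, hxW', hc⟩ := h x hx.1
  have hle : W' ⊓ V z ≤ W ⊓ V z := inf_le_inf_right _ f.le
  refine ⟨W' ⊓ V z, hle, ⟨hxW', hx.2⟩, ?_⟩
  have h1 := hc z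
  rw [resX_map] at h1
  rw [Scheme.Modules.map_smul, map_resX]
  have h2 : M.presheaf.map (homOfLE (inf_le_left : W' ⊓ V z ≤ W')).op
      (M.presheaf.map f.op n) =
      M.presheaf.map (homOfLE hle).op
        (M.presheaf.map (homOfLE (inf_le_left : W ⊓ V z ≤ W)).op n) := by
    change (M.presheaf.map _ ≫ M.presheaf.map _) n = (M.presheaf.map _ ≫ M.presheaf.map _) n
    rw [← M.presheaf.map_comp, ← M.presheaf.map_comp]
    rfl
  have h3 : M.presheaf.map (homOfLE hle).op
      (M.presheaf.map (homOfLE (inf_le_right : W ⊓ V z ≤ V z)).op (e z)) =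
      M.presheaf.map (homOfLE (inf_le_right : W' ⊓ V z ≤ V z)).op (e z) := by
    change (M.presheaf.map _ ≫ M.presheaf.map _) (e z) = _
    rw [← M.presheaf.map_comp]
    rfl
  rw [← h2, h1, h3]

/-- the local condition -/
noncomputable def lc : Groth.Agent.Helper1.SubProd.LocalCond (Q M V) where
  C W σ := Cond e W (nOf σ) (tOf σ)
  zero W := cond_zero e W
  add W σ σ' h h' := cond_add e W _ _ _ _ h h'
  smul W r σ h := cond_smul e W r _ _ h
  res f σ h := cond_res e f _ _ h
  loc W σ h := cond_loc e W _ _ h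

/-- the `z`-th gluing condition -/
def CondZ (W : X.Opens) (n : Γ(M, W)) (z : Z) (t : Γ(Rz V z, W)) : Prop :=
  M.presheaf.map (homOfLE (inf_le_left : W ⊓ V z ≤ W)).op n =
    resX V z W (W ⊓ V z) le_rfl t •
      M.presheaf.map (homOfLE (inf_le_right : W ⊓ V z ≤ V z)).op (e z)

section

variable (he : ∀ (z : Z) (T : X.Opens) (hT : T ≤ V z ⊓ U),
  Function.Bijective (fun r : Γ(X, T) =>
    r • M.presheaf.map (homOfLE (hT.trans inf_le_left)).op (e z)))

include he in
theorem existsUnique_t (W : X.Opens) (z : Z) (hWz : W ⊓ V z ≤ U) (n : Γ(M, W)) :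
    ∃! t : Γ(Rz V z, W), CondZ e W n z t := by
  have hb := he z (W ⊓ V z) (le_inf inf_le_right hWz)
  have hb' := resX_bijective V z W (W ⊓ V z) le_rfl le_rfl
  obtain ⟨r, hr⟩ := hb.2 (M.presheaf.map (homOfLE (inf_le_left : W ⊓ V z ≤ W)).op n)
  obtain ⟨t, ht⟩ := hb'.2 r
  refine ⟨t, ?_, ?_⟩
  · show _ = _
    rw [ht]
    exact hr.symm
  · intro t' ht'
    apply hb'.1
    apply hb.1
    show _ • _ = _ • _
    rw [ht]
    exact ht'.symm.trans hr.symm

theorem existsUnique_n (W : X.Opens) (z : Z) (hWz : W ≤ V z) (t : Γ(Rz V z, W)) :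
    ∃! n : Γ(M, W), CondZ e W n z t := by
  have hb : Function.Bijective
      (M.presheaf.map (homOfLE (inf_le_left : W ⊓ V z ≤ W)).op) :=
    map_bijective_of_eq M inf_le_left (le_inf le_rfl hWz)
  obtain ⟨n, hn⟩ := hb.2 (resX V z W (W ⊓ V z) le_rfl t •
      M.presheaf.map (homOfLE (inf_le_right : W ⊓ V z ≤ V z)).op (e z))
  exact ⟨n, hn, fun n' hn' => hb.1 (hn'.trans hn.symm)⟩

open Groth.Agent.Helper1 in
include he in
theorem bijective_π₀ (W : X.Opens) (hW : W ≤ U) :
    Function.Bijective ((SubProd.π (lc e) none).app W) := by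
  constructor
  · intro s s' hss
    apply SubProd.ext
    rintro (_ | z)
    · exact hss
    · have hWz : W ⊓ V z ≤ U := inf_le_left.trans hW
      have h1 : CondZ e W ((SubProd.π (lc e) none).app W s) z ((SubProd.π (lc e) (some z)).app W s) :=
        SubProd.cond (lc e) W s z
      have h2 : CondZ e W ((SubProd.π (lc e) none).app W s') z
          ((SubProd.π (lc e) (some z)).app W s') :=
        SubProd.cond (lc e) W s' z
      have hss' : (SubProd.π (lc e) none).app W s' = (SubProd.π (lc e) none).app W s := hss.symm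
      rw [hss'] at h2
      exact (existsUnique_t e he W z hWz _).unique h1 h2
  · intro n
    have hA := fun z => (existsUnique_t e he W z (inf_le_left.trans hW) n).exists
    choose t ht using hA
    obtain ⟨s, hs⟩ := SubProd.exists_section (lc e) W (mkσ n t) (fun z => ht z)
    exact ⟨s, hs none⟩

open Groth.Agent.Helper1 in
include he in
theorem bijective_π (hV : ∀ z z' : Z, z ≠ z' → V z ⊓ V z' ≤ U) (z₀ : Z) (W : X.Opens)
    (hW : W ≤ V z₀) :
    Function.Bijective ((SubProd.π (lc e) (some z₀)).app W) := by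
  have hWz : ∀ z, z ≠ z₀ → W ⊓ V z ≤ U := fun z hz =>
    (inf_le_inf_right _ hW).trans (hV z₀ z (Ne.symm hz))
  constructor
  · intro s s' hss
    have h1 : CondZ e W ((SubProd.π (lc e) none).app W s) z₀
        ((SubProd.π (lc e) (some z₀)).app W s) := SubProd.cond (lc e) W s z₀
    have h2 : CondZ e W ((SubProd.π (lc e) none).app W s') z₀
        ((SubProd.π (lc e) (some z₀)).app W s') := SubProd.cond (lc e) W s' z₀
    have hss' : (SubProd.π (lc e) (some z₀)).app W s' = (SubProd.π (lc e) (some z₀)).app W s :=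
      hss.symm
    rw [hss'] at h2
    have hn : (SubProd.π (lc e) none).app W s = (SubProd.π (lc e) none).app W s' :=
      (existsUnique_n e W z₀ hW _).unique h1 h2
    apply SubProd.ext
    rintro (_ | z)
    · exact hn
    · by_cases hz : z = z₀
      · subst hz; exact hss
      · have h3 : CondZ e W ((SubProd.π (lc e) none).app W s) z
            ((SubProd.π (lc e) (some z)).app W s) := SubProd.cond (lc e) W s z
        have h4 : CondZ e W ((SubProd.π (lc e) none).app W s') z
            ((SubProd.π (lc e) (some z)).app W s') := SubProd.cond (lc e) W s' z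
        rw [← hn] at h4
        exact (existsUnique_t e he W z (hWz z hz) _).unique h3 h4
  · intro t₀
    obtain ⟨n, hn, -⟩ := existsUnique_n e W z₀ hW t₀
    have hA : ∀ z, ∃ t : Γ(Rz V z, W), CondZ e W n z t ∧ (z = z₀ → HEq t t₀) := by
      intro z
      by_cases hz : z = z₀
      · subst hz; exact ⟨t₀, hn, fun _ => HEq.rfl⟩
      · obtain ⟨t, ht⟩ := (existsUnique_t e he W z (hWz z hz) n).exists
        exact ⟨t, ht, fun h => absurd h hz⟩
    choose t ht ht' using hA
    obtain ⟨s, hs⟩ := SubProd.exists_section (lc e) W (mkσ n t) (fun z => ht z)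
    exact ⟨s, (hs (some z₀)).trans (eq_of_heq (ht' z₀ rfl))⟩

end

open Groth.Agent.Helper1 in
/-- **Gluing, second form.**  Let `M` be a module on `X`, let `V z` be opens with
`V z ⊓ V z' ≤ U` for `z ≠ z'`, and let `e z` be sections of `M` over `V z` which are frames over
`V z ⊓ U`.  Then there is a module `L` with a map `π₀ : L ⟶ M` which is bijective on sections over
opens inside `U`, and frames `s z` of `L` over `V z` with `π₀ (s z) = e z`. -/
theorem glue' (U : X.Opens) (M : X.Modules)
    {Z : Type u} (V : Z → X.Opens) (hV : ∀ z z' : Z, z ≠ z' → V z ⊓ V z' ≤ U)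
    (e : ∀ z, Γ(M, V z))
    (he : ∀ (z : Z) (T : X.Opens) (hT : T ≤ V z ⊓ U),
      Function.Bijective (fun r : Γ(X, T) =>
        r • M.presheaf.map (homOfLE (hT.trans inf_le_left)).op (e z))) :
    ∃ (L : X.Modules) (π₀ : L ⟶ M) (s : ∀ z, Γ(L, V z)),
      (∀ W : X.Opens, W ≤ U → Function.Bijective (π₀.app W)) ∧
      (∀ z, IsFrame L (V z) (s z)) ∧ (∀ z, π₀.app (V z) (s z) = e z) := by
  let L := SubProd.L (lc e)
  let π₀ : L ⟶ M := SubProd.π (lc e) none
  let π : ∀ z, L ⟶ Rz V z := fun z => SubProd.π (lc e) (some z)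
  have hπ₀ := bijective_π₀ (U := U) e he
  have hπ := bijective_π (U := U) e he hV
  have hcond : ∀ (W : X.Opens) (s : Γ(L, W)), Cond e W (π₀.app W s) (fun z => (π z).app W s) :=
    fun W s => SubProd.cond (lc e) W s
  choose s hs0 using fun z => (hπ z (V z) le_rfl).2 (ofX (V z) (V z) 1)
  have hs : ∀ z, (π z).app (V z) (s z) = ofX (V z) (V z) 1 := hs0
  have hTV : ∀ (z : Z) (T : X.Opens), T ≤ V z → T ≤ T ⊓ V z := fun z T hT => le_inf le_rfl hT
  have hF : ∀ z, IsFrame L (V z) (s z) := by
    intro z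
    apply Groth.Agent.Helper3.GlueUnits.isFrame_of_bijective L (V z) (s z)
      (fun T hT m => rX (V z) T T (hTV z T hT) ((π z).app T m))
    · intro T hT
      exact (rX_bijective (V z) T T (hTV z T hT) inf_le_left).comp (hπ z T hT)
    · intro T hT r m
      show rX (V z) T T _ ((π z).app T (r • m)) = _
      rw [Scheme.Modules.Hom.app_smul, rX_smul, res_self]
    · intro T hT
      show rX (V z) T T _ ((π z).app T _) = 1
      rw [app_res, hs z, rX_map, rX_ofX, map_one]
  refine ⟨L, π₀, s, hπ₀, hF, ?_⟩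
  intro z
  have hc := hcond (V z) (s z) z
  beta_reduce at hc
  rw [hs z, resX_eq_rX, rX_ofX, map_one, one_smul] at hc
  exact (map_bijective_of_eq M (inf_le_left : V z ⊓ V z ≤ V z) (le_inf le_rfl le_rfl)).1 hc

/-- the glued module is invertible if `M` has frames near the points of `U` -/
theorem isInvertible_of_frames (U : X.Opens) (M L : X.Modules) (π₀ : L ⟶ M)
    (hπ₀ : ∀ W : X.Opens, W ≤ U → Function.Bijective (π₀.app W))
    {Z : Type u} (V : Z → X.Opens) (hcov : ∀ x : X, x ∉ U → ∃ z, x ∈ V z)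
    (s : ∀ z, Γ(L, V z)) (hs : ∀ z, IsFrame L (V z) (s z))
    (hM : ∀ x ∈ U, ∃ (W : X.Opens) (m : Γ(M, W)), W ≤ U ∧ x ∈ W ∧ IsFrame M W m) :
    PicF.IsInvertible L := by
  intro y
  by_cases hyU : y ∈ U
  · obtain ⟨W, m, hWU, hyW, hm⟩ := hM y hyU
    obtain ⟨n, hn⟩ := (hπ₀ W hWU).2 m
    have hfr : IsFrame L W n := by
      apply Groth.Agent.Helper3.GlueUnits.isFrame_of_bijective L W n
        (fun T hT l => Groth.Agent.Helper3.FrameHom.coef hm hT (π₀.app T l))
      · intro T hT
        have h1 := Groth.Agent.Helper3.DiscPic2.bijective_of_isFrame M W m hm T hT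
        constructor
        · intro l l' hll
          apply (hπ₀ T (hT.trans hWU)).1
          rw [Groth.Agent.Helper3.FrameHom.coef_spec hm hT (π₀.app T l),
            Groth.Agent.Helper3.FrameHom.coef_spec hm hT (π₀.app T l')]
          exact congrArg (fun r => r • M.presheaf.map (homOfLE hT).op m) hll
        · intro r
          obtain ⟨l, hl⟩ := (hπ₀ T (hT.trans hWU)).2 (r • M.presheaf.map (homOfLE hT).op m)
          exact ⟨l, Groth.Agent.Helper3.FrameHom.coef_eq hm hT _ r hl⟩
      · intro T hT r l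
        apply Groth.Agent.Helper3.FrameHom.coef_eq
        rw [Scheme.Modules.Hom.app_smul, mul_smul,
          ← Groth.Agent.Helper3.FrameHom.coef_spec hm hT (π₀.app T l)]
      · intro T hT
        apply Groth.Agent.Helper3.FrameHom.coef_eq
        rw [app_res, hn, one_smul]
    exact ⟨W, hyW, Groth.Agent.Helper1.CC.nonempty_iso_of_generator L W n
      (fun T hT => Groth.Agent.Helper3.DiscPic2.bijective_of_isFrame L W n hfr T hT)⟩
  · obtain ⟨z, hz⟩ := hcov y hyU
    exact ⟨V z, hz, Groth.Agent.Helper1.CC.nonempty_iso_of_generator L (V z) (s z)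
      (fun T hT => Groth.Agent.Helper3.DiscPic2.bijective_of_isFrame L (V z) (s z) (hs z) T hT)⟩

end Groth.Agent.Helper3.GlueInv2
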