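import Mathlib
import Groth.Agent.Helper1.Seesaw6
import Groth.Agent.Helper1.TwistExact
import Groth.Agent.Helper4.PullSec

set_option autoImplicit false
set_option linter.style.haveILetI false
set_option linter.unusedSectionVars false
set_option linter.unusedVariables false
set_option linter.deprecated false
set_option linter.style.haveILetI false
set_option linter.unusedSectionVars false
set_option linter.unusedVariables false

universe u

open CategoryTheory CategoryTheory.Limits AlgebraicGeometry TopologicalSpace Opposite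

namespace Groth.Agent.Helper3.PullCrit

open Scheme.Modules Groth.Agent.Helper4.StalkExact

/-- **Criterion for `f^* N ≅ L`**: a map `N ⟶ f_* L` sending local sections of `N` to generators
of `L`, for invertible `N` and `L`. -/
theorem nonempty_iso_of_frames {X Y : Scheme.{u}} (f : X ⟶ Y) (N : Y.Modules)
    (hN : PicF.IsInvertible N) (L : X.Modules) (hL : PicF.IsInvertible L)
    (ψ : N ⟶ (pushforward f).obj L)
    (h : ∀ y : Y, ∃ (W : Y.Opens) (n : Γ(N, W)), y ∈ W ∧
      ∀ (W' : X.Opens) (hW' : W' ≤ f ⁻¹ᵁ W) (ℓ : Γ(L, W')), ∃ r : Γ(X, W'),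
        ℓ = r • L.presheaf.map (homOfLE hW').op (ψ.app W n)) :
    Nonempty ((Scheme.Modules.pullback f).obj N ≅ L) := by
  let adj := pullbackPushforwardAdjunction f
  let φ : (Scheme.Modules.pullback f).obj N ⟶ L := (adj.homEquiv N L).symm ψ
  have hψ : ψ = adj.unit.app N ≫ (pushforward f).map φ := by
    have := (adj.homEquiv N L).apply_symm_apply ψ
    rw [Adjunction.homEquiv_apply] at this
    exact this.symm
  have hψapp : ∀ (W : Y.Opens) (n : Γ(N, W)),
      ψ.app W n = φ.app (f ⁻¹ᵁ W) ((adj.unit.app N).app W n) := by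
    intro W n
    rw [hψ]
    rfl
  haveI : Epi φ := by
    apply Groth.Agent.Helper1.TwistExact.epi_of_local_lift
    intro T t x hxT
    obtain ⟨W, n, hyW, hgen⟩ := h (f x)
    have hW' : T ⊓ f ⁻¹ᵁ W ≤ f ⁻¹ᵁ W := inf_le_right
    obtain ⟨r, hr⟩ := hgen (T ⊓ f ⁻¹ᵁ W) hW'
      (L.presheaf.map (homOfLE (inf_le_left : T ⊓ f ⁻¹ᵁ W ≤ T)).op t)
    refine ⟨T ⊓ f ⁻¹ᵁ W, inf_le_left, ⟨hxT, hyW⟩,
      r • ((Scheme.Modules.pullback f).obj N).presheaf.map (homOfLE hW').op ((adj.unit.app N).app W n), ?_⟩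
    rw [Scheme.Modules.Hom.app_smul, app_res, ← hψapp, ← hr]
  haveI : IsIso φ := Groth.Agent.Helper1.Seesaw.isIso_of_epi_of_isInvertible
    (Groth.Agent.Helper4.PullSec.isInvertible_pullback f hN) hL φ
  exact ⟨asIso φ⟩

end Groth.Agent.Helper3.PullCrit
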