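import Mathlib
import Groth.Agent.Helper3.GlueInv2
import Groth.Agent.Helper3.FrameFin
import Groth.Agent.Helper3.PullCrit

set_option autoImplicit false
set_option linter.style.haveILetI false
set_option linter.unusedSectionVars false
set_option linter.unusedVariables false
set_option linter.deprecated false
set_option linter.style.haveILetI false
set_option linter.unusedSectionVars false
set_option linter.unusedVariables false

universe u

open CategoryTheory CategoryTheory.Limits AlgebraicGeometry TopologicalSpace Opposite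

namespace Groth.Agent.Helper3.FinIso

open Scheme.Modules Groth.Agent.Helper4.TwistExt Groth.Agent.Helper4.TensorInv
  Groth.Agent.Helper1.CC Groth.Agent.Helper3.FrameFin

/-- bijectivity on sections over opens inside an open over which `f` is an isomorphism -/
theorem app_bijective_of_le {X Y : Scheme.{u}} (f : X ⟶ Y) (V : Y.Opens)
    (hfV : IsIso (f ∣_ V)) (T : Y.Opens) (hTV : T ≤ V) :
    Function.Bijective (f.app T) := by
  obtain ⟨T₀, rfl⟩ : ∃ T₀ : (↑V : Scheme.{u}).Opens, T = V.ι ''ᵁ T₀ := ⟨V.ι ⁻¹ᵁ T, by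
    rw [Scheme.Hom.image_preimage_eq_opensRange_inf, Scheme.Opens.opensRange_ι]
    exact (inf_eq_right.mpr hTV).symm⟩
  have h1 : Function.Bijective ((f ∣_ V).app T₀) := ConcreteCategory.bijective_of_isIso _
  rw [morphismRestrict_app] at h1
  have hi : Function.Bijective
      (X.presheaf.map (eqToHom (image_morphismRestrict_preimage f V T₀)).op) :=
    ConcreteCategory.bijective_of_isIso _
  exact (Function.Bijective.of_comp_iff' hi _).mp h1

/-- a frame of `L` over `f⁻¹ T` is a frame of `f_* L` over `T` when `f` induces bijections on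
functions over the opens inside `T` -/
theorem isFrame_pushforward {X Y : Scheme.{u}} (f : X ⟶ Y) (L : X.Modules) (T : Y.Opens)
    (ℓ : Γ(L, f ⁻¹ᵁ T)) (hbij : ∀ T' : Y.Opens, T' ≤ T → Function.Bijective (f.app T'))
    (hℓ : IsFrame L (f ⁻¹ᵁ T) ℓ) :
    IsFrame ((pushforward f).obj L) T (show Γ((pushforward f).obj L, T) from ℓ) := by
  intro T' hT'
  obtain ⟨h1, h2⟩ := hℓ (f ⁻¹ᵁ T') (f.preimage_mono hT')
  constructor
  · intro m
    obtain ⟨r, hr⟩ := h1 m
    obtain ⟨r', rfl⟩ := (hbij T' hT').2 r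
    exact ⟨r', hr⟩
  · intro r hr
    have := h2 (f.app T' r) hr
    exact (hbij T' hT').1 (this.trans (map_zero (f.app T').hom).symm)

/-- local frames of an invertible module along a finite morphism -/
theorem exists_frame_preimage {X Y : Scheme.{u}} (f : X ⟶ Y) [IsFinite f]
    (L : X.Modules) (hL : PicF.IsInvertible L) (y : Y) (O : Y.Opens) (hyO : y ∈ O) :
    ∃ (W : Y.Opens) (ε : Γ(L, f ⁻¹ᵁ W)), y ∈ W ∧ W ≤ O ∧ IsFrame L (f ⁻¹ᵁ W) ε := by
  obtain ⟨_, ⟨W₀, hW₀, rfl⟩, hyW₀, hW₀O⟩ :=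
    (Y.isBasis_affineOpens).exists_subset_of_mem_open hyO O.isOpen
  have hXW : IsAffineOpen (f ⁻¹ᵁ W₀) := hW₀.preimage f
  have hE : (f ⁻¹' {y}).Finite := f.finite_preimage_singleton y
  have hEW : f ⁻¹' {y} ⊆ ((f ⁻¹ᵁ W₀ : X.Opens) : Set X) := by
    intro x hx
    have hx' : f x = y := hx
    show f x ∈ W₀
    rw [hx']; exact hyW₀
  obtain ⟨B, εB, hEB, hBW, hεB⟩ := exists_frame_of_finite L hL (f ⁻¹ᵁ W₀) hXW _ hE hEW
  have hcl : IsClosed (f '' ((B : Set X)ᶜ)) := f.isClosedMap _ B.isOpen.isClosed_compl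
  have hyC : y ∉ f '' ((B : Set X)ᶜ) := by
    rintro ⟨x, hx, hxy⟩
    exact hx (hEB hxy)
  let O' : Y.Opens := ⟨(f '' ((B : Set X)ᶜ))ᶜ, hcl.isOpen_compl⟩
  have hWB : f ⁻¹ᵁ (W₀ ⊓ O') ≤ B := by
    intro x hx
    by_contra hxB
    exact hx.2 ⟨x, hxB, rfl⟩
  exact ⟨W₀ ⊓ O', L.presheaf.map (homOfLE hWB).op εB, ⟨hyW₀, hyC⟩,
    fun w hw => hW₀O hw.1, isFrame_of_le hεB hWB⟩

/-- **Invertible modules are pulled back along a finite morphism which is an isomorphism over an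
open with discrete complement.** -/
theorem main {X Y : Scheme.{u}} (f : X ⟶ Y) [IsFinite f]
    (V : Y.Opens) (hV : IsIso (f ∣_ V)) (hdisc : DiscreteTopology ((V : Set Y)ᶜ : Set Y))
    (L : X.Modules) (hL : PicF.IsInvertible L) :
    ∃ N : Y.Modules, PicF.IsInvertible N ∧
      Nonempty ((Scheme.Modules.pullback f).obj N ≅ L) := by
  let Zt : Type u := {z : Y // z ∉ V}
  have hloc : ∀ z : Zt, ∃ (W : Y.Opens) (ε : Γ(L, f ⁻¹ᵁ W)), z.1 ∈ W ∧
      (∀ y ∈ W, y ∉ V → y = z.1) ∧ IsFrame L (f ⁻¹ᵁ W) ε := by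
    intro z
    have hz' : z.1 ∈ (V : Set Y)ᶜ := z.2
    obtain ⟨O, hO, hOz⟩ : ∃ O : Set Y, IsOpen O ∧
        (Subtype.val : ↥((V : Set Y)ᶜ) → Y) ⁻¹' O = {⟨z.1, hz'⟩} :=
      isOpen_induced_iff.mp (isOpen_discrete ({⟨z.1, hz'⟩} : Set ↥((V : Set Y)ᶜ)))
    have hzO : z.1 ∈ O := by
      have : (⟨z.1, hz'⟩ : ↥((V : Set Y)ᶜ)) ∈ (Subtype.val : ↥((V : Set Y)ᶜ) → Y) ⁻¹' O := by
        rw [hOz]; rfl
      exact this
    have hOV : ∀ y ∈ O, y ∉ V → y = z.1 := by
      intro y hy hyV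
      have : (⟨y, hyV⟩ : ↥((V : Set Y)ᶜ)) ∈ (Subtype.val : ↥((V : Set Y)ᶜ) → Y) ⁻¹' O := hy
      rw [hOz] at this
      exact congrArg Subtype.val this
    obtain ⟨W, ε, hzW, hWO, hε⟩ := exists_frame_preimage f L hL z.1 ⟨O, hO⟩ hzO
    exact ⟨W, ε, hzW, fun y hy hyV => hOV y (hWO hy) hyV, hε⟩
  choose W ε hzW hWz hε using hloc
  have hsparse : ∀ z z' : Zt, z ≠ z' → W z ⊓ W z' ≤ V := by
    intro z z' hzz y hy
    by_contra hyV
    exact hzz (Subtype.ext ((hWz z y hy.1 hyV).symm.trans (hWz z' y hy.2 hyV)))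
  have hcov : ∀ y : Y, y ∉ V → ∃ z : Zt, y ∈ W z := fun y hy => ⟨⟨y, hy⟩, hzW ⟨y, hy⟩⟩
  let F : Y.Modules := (pushforward f).obj L
  have hbij := app_bijective_of_le f V hV
  let e : ∀ z, Γ(F, W z) := fun z => ε z
  have he : ∀ (z : Zt) (T : Y.Opens) (hT : T ≤ W z ⊓ V),
      Function.Bijective (fun r : Γ(Y, T) =>
        r • F.presheaf.map (homOfLE (hT.trans inf_le_left)).op (e z)) := by
    intro z T hT
    have hfr : IsFrame F T (F.presheaf.map (homOfLE (hT.trans inf_le_left)).op (e z)) :=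
      isFrame_pushforward f L T _ (fun T' hT' => hbij T' (hT'.trans (hT.trans inf_le_right)))
        (isFrame_of_le (hε z) (f.preimage_mono (hT.trans inf_le_left)))
    have := Groth.Agent.Helper3.DiscPic2.bijective_of_isFrame F T _ hfr T le_rfl
    have hid : F.presheaf.map (homOfLE (le_rfl : T ≤ T)).op
        (F.presheaf.map (homOfLE (hT.trans inf_le_left)).op (e z)) =
        F.presheaf.map (homOfLE (hT.trans inf_le_left)).op (e z) := by
      rw [map_map]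
    rw [hid] at this
    exact this
  obtain ⟨N, π₀, s, hπ₀, hs, hπs⟩ := Groth.Agent.Helper3.GlueInv2.glue' V F W hsparse e he
  -- frames of `F` near the points of `V`
  have hM : ∀ y ∈ V, ∃ (W' : Y.Opens) (m : Γ(F, W')), W' ≤ V ∧ y ∈ W' ∧ IsFrame F W' m ∧
      IsFrame L (f ⁻¹ᵁ W') (show Γ(L, f ⁻¹ᵁ W') from m) := by
    intro y hy
    obtain ⟨W', ℓ, hyW', hW'V, hℓ⟩ := exists_frame_preimage f L hL y V hy
    exact ⟨W', ℓ, hW'V, hyW', isFrame_pushforward f L W' ℓ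
      (fun T' hT' => hbij T' (hT'.trans hW'V)) hℓ, hℓ⟩
  have hN : PicF.IsInvertible N :=
    Groth.Agent.Helper3.GlueInv2.isInvertible_of_frames V F N π₀ hπ₀ W hcov s hs
      (fun y hy => by
        obtain ⟨W', m, h1, h2, h3, -⟩ := hM y hy
        exact ⟨W', m, h1, h2, h3⟩)
  refine ⟨N, hN, Groth.Agent.Helper3.PullCrit.nonempty_iso_of_frames f N hN L hL π₀ ?_⟩
  intro y
  by_cases hy : y ∈ V
  · obtain ⟨W', m, hW'V, hyW', -, hm⟩ := hM y hy
    obtain ⟨n, hn⟩ := (hπ₀ W' hW'V).2 m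
    refine ⟨W', n, hyW', ?_⟩
    intro W'' hW'' l
    rw [hn]
    exact (hm W'' hW'').1 l
  · refine ⟨W ⟨y, hy⟩, s ⟨y, hy⟩, hzW ⟨y, hy⟩, ?_⟩
    intro W'' hW'' l
    rw [hπs ⟨y, hy⟩]
    exact (hε ⟨y, hy⟩ W'' hW'').1 l

end Groth.Agent.Helper3.FinIso
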