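import Mathlib
import Groth.Agent.Helper3.FinIso
import Groth.Agent.Helper3.DiscPic2

set_option autoImplicit false
set_option linter.style.haveILetI false
set_option linter.unusedSectionVars false
set_option linter.unusedVariables false
set_option linter.deprecated false
set_option linter.style.haveILetI false
set_option linter.unusedSectionVars false
set_option linter.unusedVariables false

universe u

open CategoryTheory CategoryTheory.Limits AlgebraicGeometry TopologicalSpace Opposite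

namespace Groth.Agent.Helper3.FrameGlue

open Scheme.Modules Groth.Agent.Helper4.TwistExt Groth.Agent.Helper4.TensorInv
  Groth.Agent.Helper1.CC Groth.Agent.Helper3.GlueInv Groth.Agent.Helper3.FrameFin

variable {X : Scheme.{u}}

/-- a unit multiple of a frame is a frame -/
theorem isFrame_smul_unit {L : X.Modules} {T : X.Opens} {e : Γ(L, T)} (h : IsFrame L T e)
    (c : Γ(X, T)) (hc : IsUnit c) : IsFrame L T (c • e) := by
  intro V hV
  obtain ⟨h1, h2⟩ := h V hV
  have hcV : IsUnit (ρ hV c) := hc.map (ρ hV)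
  obtain ⟨d, hd⟩ := hcV.exists_left_inv
  rw [smul_res]
  constructor
  · intro m
    obtain ⟨r, hr⟩ := h1 m
    refine ⟨r * d, ?_⟩
    rw [← mul_smul, mul_assoc, hd, mul_one]
    exact hr
  · intro r hr
    rw [← mul_smul] at hr
    have := h2 _ hr
    have h3 : r * ρ hV c * d = 0 := by rw [this, zero_mul]
    rwa [mul_assoc, mul_comm (ρ hV c), hd, mul_one] at h3

/-- being a frame is a local property -/
theorem isFrame_of_cover {L : X.Modules} {ι : Type*} (T : ι → X.Opens) (T₀ : X.Opens)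
    (hle : ∀ i, T i ≤ T₀) (hcov : T₀ ≤ ⨆ i, T i) (e : Γ(L, T₀))
    (h : ∀ i, IsFrame L (T i) (L.presheaf.map (homOfLE (hle i)).op e)) : IsFrame L T₀ e := by
  intro V hV
  have hVi : ∀ i, V ⊓ T i ≤ V := fun i => inf_le_left
  have hVi' : ∀ i, V ⊓ T i ≤ T i := fun i => inf_le_right
  have hres : ∀ i, L.presheaf.map (homOfLE (hVi i)).op (L.presheaf.map (homOfLE hV).op e) =
      L.presheaf.map (homOfLE (hVi' i)).op (L.presheaf.map (homOfLE (hle i)).op e) := by
    intro i; rw [map_map, map_map]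
  have hinj : ∀ r : Γ(X, V), r • L.presheaf.map (homOfLE hV).op e = 0 → r = 0 := by
    intro r hr
    apply eq_of_locally
    intro x hx
    obtain ⟨i, hi⟩ := Opens.mem_iSup.mp (hcov (hV hx))
    refine ⟨V ⊓ T i, hVi i, ⟨hx, hi⟩, ?_⟩
    rw [map_zero]
    apply ((h i) (V ⊓ T i) (hVi' i)).2
    rw [← hres, ← smul_res, hr, map_zero]
  refine ⟨?_, hinj⟩
  intro m
  -- local coefficients
  have hloc : ∀ i, ∃ r : Γ(X, V ⊓ T i), L.presheaf.map (homOfLE (hVi i)).op m =
      r • L.presheaf.map (homOfLE (hVi' i)).op (L.presheaf.map (homOfLE (hle i)).op e) :=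
    fun i => ((h i) (V ⊓ T i) (hVi' i)).1 _
  choose r hr using hloc
  have hcompat : TopCat.Presheaf.IsCompatible X.presheaf (fun i => V ⊓ T i) r := by
    intro i j
    have hij : (V ⊓ T i) ⊓ (V ⊓ T j) ≤ T i := inf_le_left.trans inf_le_right
    apply sub_eq_zero.mp
    apply ((h i) ((V ⊓ T i) ⊓ (V ⊓ T j)) hij).2
    have e1 := congrArg (L.presheaf.map (homOfLE (inf_le_left :
      (V ⊓ T i) ⊓ (V ⊓ T j) ≤ V ⊓ T i)).op) (hr i)
    have e2 := congrArg (L.presheaf.map (homOfLE (inf_le_right :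
      (V ⊓ T i) ⊓ (V ⊓ T j) ≤ V ⊓ T j)).op) (hr j)
    rw [smul_res, map_map, map_map, map_map] at e1 e2
    rw [sub_smul]
    apply sub_eq_zero.mpr
    rw [map_map]
    exact e1.symm.trans e2
  have hcovV : V ≤ ⨆ i, V ⊓ T i := by
    intro x hx
    obtain ⟨i, hi⟩ := Opens.mem_iSup.mp (hcov (hV hx))
    exact Opens.mem_iSup.mpr ⟨i, hx, hi⟩
  obtain ⟨r₀, hr₀, -⟩ := TopCat.Sheaf.existsUnique_gluing' X.sheaf (fun i => V ⊓ T i) V
    (fun i => homOfLE (hVi i)) hcovV r hcompat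
  refine ⟨r₀, ?_⟩
  apply eq_of_locally_eq
  intro x hx
  obtain ⟨i, hi⟩ := Opens.mem_iSup.mp (hcov (hV hx))
  refine ⟨V ⊓ T i, hVi i, ⟨hx, hi⟩, ?_⟩
  rw [smul_res, hr i, hres]
  congr 1
  exact (hr₀ i).symm

/-- gluing frames -/
theorem exists_glue_frames {L : X.Modules} {ι : Type*} (T : ι → X.Opens) (e : ∀ i, Γ(L, T i))
    (he : ∀ i, IsFrame L (T i) (e i))
    (hag : ∀ i j, L.presheaf.map (homOfLE (inf_le_left : T i ⊓ T j ≤ T i)).op (e i) =
      L.presheaf.map (homOfLE (inf_le_right : T i ⊓ T j ≤ T j)).op (e j))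
    (T₀ : X.Opens) (hle : ∀ i, T i ≤ T₀) (hcov : T₀ ≤ ⨆ i, T i) :
    ∃ e₀ : Γ(L, T₀), IsFrame L T₀ e₀ ∧
      ∀ i, L.presheaf.map (homOfLE (hle i)).op e₀ = e i := by
  have hcompat : TopCat.Presheaf.IsCompatible L.presheaf T e := fun i j => hag i j
  obtain ⟨e₀, he₀, -⟩ := TopCat.Sheaf.existsUnique_gluing'
    (⟨L.presheaf, L.isSheaf⟩ : TopCat.Sheaf Ab X) T T₀ (fun i => homOfLE (hle i)) hcov e hcompat
  refine ⟨e₀, ?_, he₀⟩
  apply isFrame_of_cover T T₀ hle hcov
  intro i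
  have := he₀ i
  rw [show L.presheaf.map (homOfLE (hle i)).op e₀ = e i from this]
  exact he i

/-- over an empty open every section is a frame -/
theorem isFrame_of_le_bot {L : X.Modules} {T : X.Opens} (hT : T ≤ ⊥) (e : Γ(L, T)) :
    IsFrame L T e := by
  have hsub : ∀ V : X.Opens, V ≤ T → ∀ a b : Γ(L, V), a = b := by
    intro V hV a b
    apply eq_of_locally_eq
    intro x hx
    exact absurd (hT (hV hx)) (by simp)
  have hsub' : ∀ V : X.Opens, V ≤ T → ∀ a b : Γ(X, V), a = b := by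
    intro V hV a b
    apply eq_of_locally
    intro x hx
    exact absurd (hT (hV hx)) (by simp)
  intro V hV
  exact ⟨fun m => ⟨0, hsub V hV _ _⟩, fun r _ => hsub' V hV _ _⟩

/-- a global frame trivialises the module -/
theorem nonempty_iso_of_isFrame_top (L : X.Modules) (e : Γ(L, ⊤)) (h : IsFrame L ⊤ e) :
    Nonempty (L ≅ Coh.structureModule X) := by
  let φ := Groth.Agent.Lead.LocLift.homOfTop L e
  suffices IsIso φ from ⟨(asIso φ).symm⟩
  apply Groth.Agent.Helper4.GenLoc.isIso_of_app_bijective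
  intro V
  have h1 := Groth.Agent.Helper3.DiscPic2.bijective_of_isFrame L ⊤ e h V le_top
  have h4 : ⇑(ConcreteCategory.hom (Scheme.Modules.Hom.app φ V)) =
      (fun c : Γ(X, V) => c • L.presheaf.map (homOfLE (le_top : V ≤ ⊤)).op e) :=
    funext (fun r => Groth.Agent.Helper1.EpiDesc.homOfTop_app L e V r)
  rw [h4]
  exact h1

/-- a frame of the pushforward along an open immersion is a frame upstairs -/
theorem isFrame_of_pushforward_ι (U : X.Opens) (L : (↑U : Scheme.{u}).Modules) (T : X.Opens)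
    (ℓ : Γ(L, U.ι ⁻¹ᵁ T))
    (h : IsFrame ((pushforward U.ι).obj L) T (show Γ((pushforward U.ι).obj L, T) from ℓ)) :
    IsFrame L (U.ι ⁻¹ᵁ T) ℓ := by
  intro V' hV'
  obtain ⟨T', hT'T, hT'U, rfl⟩ : ∃ T' : X.Opens, T' ≤ T ∧ T' ≤ U ∧ V' = U.ι ⁻¹ᵁ T' := by
    refine ⟨U.ι ''ᵁ V', ?_, ?_, ?_⟩
    · rintro _ ⟨y, hy, rfl⟩
      exact hV' hy
    · rintro _ ⟨y, hy, rfl⟩
      exact y.2
    · exact (Scheme.Hom.preimage_image_eq U.ι V').symm
  obtain ⟨h1, h2⟩ := h T' hT'T
  have hb := Groth.Agent.Helper3.DiscPic2.ι_app_bijective U T' hT'U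
  constructor
  · intro m
    obtain ⟨r, hr⟩ := h1 m
    exact ⟨U.ι.app T' r, hr⟩
  · intro r hr
    obtain ⟨r', rfl⟩ := hb.2 r
    rw [h2 r' hr, map_zero]

/-- local frames of the pushforward of an invertible module along an open immersion -/
theorem exists_frame_pushforward_ι (U : X.Opens) (L : (↑U : Scheme.{u}).Modules)
    (hL : PicF.IsInvertible L) (x : X) (hx : x ∈ U) :
    ∃ (T : X.Opens) (e : Γ((pushforward U.ι).obj L, T)), x ∈ T ∧ T ≤ U ∧
      IsFrame ((pushforward U.ι).obj L) T e := by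
  obtain ⟨W', hyW', ⟨ε⟩⟩ := hL ⟨x, hx⟩
  have hfr := isFrame_of_triv L W' ε
  let T : X.Opens := U.ι ''ᵁ W'
  have hTU : T ≤ U := by
    rintro _ ⟨y, hy, rfl⟩
    exact y.2
  have hle : U.ι ⁻¹ᵁ T ≤ W'.ι ''ᵁ ⊤ := by
    rw [Scheme.Opens.ι_image_top, Scheme.Hom.preimage_image_eq]
  have hfr' := isFrame_of_le hfr hle
  exact ⟨T, _, ⟨⟨x, hx⟩, hyW', rfl⟩, hTU,
    Groth.Agent.Helper3.FinIso.isFrame_pushforward U.ι L T _
    (fun T' hT' => Groth.Agent.Helper3.DiscPic2.ι_app_bijective U T' (hT'.trans hTU)) hfr'⟩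

end Groth.Agent.Helper3.FrameGlue
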