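import Mathlib
import Groth.Agent.Helper5.RelDepth1
import Groth.Agent.Helper5.NormCM1

set_option autoImplicit false
set_option linter.style.haveILetI false
set_option linter.unusedSectionVars false
set_option linter.unusedVariables false
set_option linter.deprecated false
set_option linter.style.haveILetI false
set_option linter.unusedSectionVars false
set_option linter.unusedVariables false

universe u

open IsLocalRing RingTheory.Sequence

namespace Groth.Agent.Helper3.FamNormal

/-- arithmetic in `ℕ∞` used for the depth estimate -/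
theorem arith (a φ nA nF : ℕ∞) (h1 : min 2 nA ≤ a) (h2 : min 1 nF ≤ φ) (h3 : nF ≤ 1) :
    min 2 (nA + nF) ≤ a + φ := by
  rcases Order.le_one_iff.mp h3 with rfl | rfl
  · rw [add_zero]
    exact h1.trans le_self_add
  · have hφ : 1 ≤ φ := by simpa using h2
    rcases eq_or_ne nA 0 with rfl | hA
    · rw [zero_add]
      exact (min_le_right _ _).trans (hφ.trans le_add_self)
    · have hA1 : 1 ≤ nA := ENat.one_le_iff_ne_zero.mpr hA
      have ha : 1 ≤ a := (le_min (by norm_num) hA1).trans h1
      calc min 2 (nA + 1) ≤ 2 := min_le_left _ _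
        _ = 1 + 1 := by norm_num
        _ ≤ a + φ := add_le_add ha hφ

/-- `depth ≥ min(2, dim)` for a normal Noetherian local domain -/
theorem depth_normal (A : Type u) [CommRing A] [IsDomain A] [IsNoetherianRing A]
    [IsLocalRing A] [IsIntegrallyClosed A] (nA : ℕ∞) (hnA : ringKrullDim A = nA) :
    min 2 nA ≤ LocCoh.depth A A := by
  by_cases hfield : IsField A
  · let _ := hfield.toField
    rw [ringKrullDim_eq_zero_of_field] at hnA
    have : nA = 0 := by exact_mod_cast hnA.symm
    rw [this]; simp
  · have hm : maximalIdeal A ≠ ⊥ := fun h => hfield (IsLocalRing.isField_iff_maximalIdeal_eq.2 h)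
    obtain ⟨b, hbm, hb0⟩ := Submodule.exists_mem_ne_zero_of_ne_bot hm
    have hreg : IsSMulRegular A b := fun x y hxy => mul_left_cancel₀ hb0 hxy
    have h1 : (1 : ℕ∞) ≤ LocCoh.depth A A := by
      have := Groth.Agent.Helper2.DepthCM3.length_le_idealDepth (I := maximalIdeal A) (M := A) [b]
        ((isWeaklyRegular_singleton_iff A b).2 hreg) (by simpa using hbm)
      unfold LocCoh.depth
      simpa using this
    by_cases h2 : LocCoh.depth A A = 1
    · have hdvr := Groth.Agent.Helper5.NormDepth.isDiscreteValuationRing_of_depth_one A h2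
      rw [IsDiscreteValuationRing.ringKrullDim_eq_one] at hnA
      have : nA = 1 := by exact_mod_cast hnA.symm
      rw [this, h2]; simp
    · have h3 : (2 : ℕ∞) ≤ LocCoh.depth A A := by
        have hlt : (1 : ℕ∞) < LocCoh.depth A A := lt_of_le_of_ne h1 (Ne.symm h2)
        have := Order.add_one_le_of_lt hlt
        rwa [one_add_one_eq_two] at this
      exact (min_le_left _ _).trans h3

/-- a reduced Noetherian local ring whose maximal ideal is not minimal contains a regular
element in its maximal ideal -/
theorem exists_regular_of_reduced (F : Type u) [CommRing F] [IsLocalRing F] [IsNoetherianRing F]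
    [IsReduced F] (hm : maximalIdeal F ∉ minimalPrimes F) :
    ∃ t ∈ maximalIdeal F, IsSMulRegular F t := by
  classical
  have hfin : (minimalPrimes F).Finite := minimalPrimes.finite_of_isNoetherianRing F
  have hnot : ¬ ((maximalIdeal F : Set F) ⊆ ⋃ p ∈ (↑hfin.toFinset : Set (Ideal F)), (p : Set F)) := by
    rw [Ideal.subset_union_prime (R := F) (f := fun p : Ideal F => p) ⊥ ⊥
      (fun p hp _ _ => (hfin.mem_toFinset.mp hp).1.1)]
    rintro ⟨p, hp, hle⟩
    have hp' := hfin.mem_toFinset.mp hp
    have : p = maximalIdeal F :=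
      ((IsLocalRing.maximalIdeal.isMaximal F).eq_of_le hp'.1.1.ne_top hle).symm
    exact hm (this ▸ hp')
  obtain ⟨t, htm, ht⟩ := Set.not_subset.mp hnot
  refine ⟨t, htm, ?_⟩
  have key : ∀ y : F, t * y = 0 → y = 0 := by
    intro y hy
    have hnil : y ∈ nilradical F := by
      rw [nilradical, ← Ideal.sInf_minimalPrimes]
      refine Submodule.mem_sInf.mpr (fun P hP => ?_)
      have hP' : P ∈ minimalPrimes F := hP
      haveI := hP'.1.1
      have h0 : t * y ∈ P := by rw [hy]; exact P.zero_mem
      rcases this.mem_or_mem h0 with h | h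
      · exfalso
        apply ht
        simp only [Set.mem_iUnion, SetLike.mem_coe, exists_prop]
        exact ⟨P, hfin.mem_toFinset.mpr hP', h⟩
      · exact h
    exact IsNilpotent.eq_zero hnil
  intro x y hxy
  have : t * (x - y) = 0 := by
    simp only [smul_eq_mul] at hxy
    rw [mul_sub, hxy, sub_self]
  exact sub_eq_zero.mp (key _ this)

/-- `depth ≥ min(1, dim)` for a reduced Noetherian local ring -/
theorem depth_reduced (F : Type u) [CommRing F] [IsLocalRing F] [IsNoetherianRing F]
    [IsReduced F] (nF : ℕ∞) (hnF : ringKrullDim F = nF) :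
    min 1 nF ≤ LocCoh.depth F F := by
  by_cases hm : maximalIdeal F ∈ minimalPrimes F
  · -- dimension zero
    haveI : Ring.KrullDimLE 0 F := by
      rw [Ring.krullDimLE_zero_iff]
      intro P hP
      have hle : P ≤ maximalIdeal F := IsLocalRing.le_maximalIdeal hP.ne_top
      have : maximalIdeal F ≤ P := hm.2 ⟨hP, bot_le⟩ hle
      rw [le_antisymm hle this]
      infer_instance
    have h0 : ringKrullDim F = 0 := ringKrullDimZero_iff_ringKrullDim_eq_zero.mp inferInstance
    rw [h0] at hnF
    have : nF = 0 := by exact_mod_cast hnF.symm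
    rw [this]; simp
  · obtain ⟨t, htm, ht⟩ := exists_regular_of_reduced F hm
    have h1 : (1 : ℕ∞) ≤ LocCoh.depth F F := by
      have := Groth.Agent.Helper2.DepthCM3.length_le_idealDepth (I := maximalIdeal F) (M := F) [t]
        ((isWeaklyRegular_singleton_iff F t).2 ht) (by simpa using htm)
      unfold LocCoh.depth
      simpa using this
    exact (min_le_left _ _).trans h1


section Core

variable (A B : Type u) [CommRing A] [CommRing B] [IsNoetherianRing A] [IsLocalRing A]
  [Algebra A B] [IsLocalRing B] [IsNoetherianRing B] [IsLocalHom (algebraMap A B)]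
  [Module.Flat A B]

/-- dimension formula with the closed fibre ring -/
theorem dim_eq_add_fibRing :
    ringKrullDim B = ringKrullDim A + ringKrullDim (EGA4.FibRing A B) := by
  have h := Groth.Agent.Helper6.FlatCM.ringKrullDim_eq_add_fib (R := A) (S := B)
  rw [h]
  congr 1
  let e₀ : EGA4.FibMod A B B ≃ₗ[B] EGA4.FibRing A B :=
    Submodule.quotEquivOfEq _ _ (by simp)
  rw [Module.supportDim_eq_of_equiv e₀]
  exact Module.supportDim_quotient_eq_ringKrullDim _

theorem exists_dims :
    ∃ nA nF : ℕ∞, ringKrullDim A = nA ∧ ringKrullDim (EGA4.FibRing A B) = nF ∧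
      ringKrullDim B = ((nA + nF : ℕ∞) : WithBot ℕ∞) := by
  obtain ⟨nA, hnA⟩ := WithBot.ne_bot_iff_exists.mp
    (ne_of_gt (lt_of_lt_of_le (WithBot.bot_lt_coe (0 : ℕ∞)) (ringKrullDim_nonneg_of_nontrivial (R := A))))
  obtain ⟨nF, hnF⟩ := WithBot.ne_bot_iff_exists.mp
    (ne_of_gt (lt_of_lt_of_le (WithBot.bot_lt_coe (0 : ℕ∞))
      (ringKrullDim_nonneg_of_nontrivial (R := EGA4.FibRing A B))))
  refine ⟨nA, nF, hnA.symm, hnF.symm, ?_⟩
  rw [dim_eq_add_fibRing A B, ← hnA, ← hnF]
  rfl

/-- `(S₂)` at the closed point -/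
theorem core_S2 [IsDomain A] [IsIntegrallyClosed A] [IsReduced (EGA4.FibRing A B)]
    (hF : ringKrullDim (EGA4.FibRing A B) ≤ 1) :
    min (2 : WithBot ℕ∞) (ringKrullDim B) ≤ ((LocCoh.depth B B : ℕ∞) : WithBot ℕ∞) := by
  obtain ⟨nA, nF, hnA, hnF, hB⟩ := exists_dims A B
  have hF' : nF ≤ 1 := by
    rw [hnF] at hF
    exact_mod_cast hF
  have h1 := depth_normal A nA hnA
  have h2 := depth_reduced (EGA4.FibRing A B) nF hnF
  have h3 := arith _ _ nA nF h1 h2 hF'
  have hd : LocCoh.depth B B = LocCoh.depth A A +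
      LocCoh.depth (EGA4.FibRing A B) (EGA4.FibRing A B) :=
    Groth.Agent.Helper5.RelDepth.depth_eq_add_fibRing A B
  rw [hB, hd]
  have h4 := WithBot.coe_le_coe.mpr h3
  rw [WithBot.coe_min] at h4
  exact h4

/-- `(R₁)` at the closed point, when the base is not a field -/
theorem core_R1 [IsDomain A] [IsIntegrallyClosed A] [IsReduced (EGA4.FibRing A B)]
    (hA : maximalIdeal A ≠ ⊥) (hBdim : ringKrullDim B ≤ 1) :
    IsRegularLocalRing B := by
  obtain ⟨nA, nF, hnA, hnF, hB⟩ := exists_dims A B
  have hsum : nA + nF ≤ 1 := by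
    rw [hB] at hBdim
    exact_mod_cast hBdim
  -- `A` has dimension one
  have hnA0 : nA ≠ 0 := by
    rintro rfl
    haveI : Ring.KrullDimLE 0 A := by
      rw [Ring.krullDimLE_iff, hnA]; rfl
    exact hA (IsLocalRing.isField_iff_maximalIdeal_eq.mp Ring.KrullDimLE.isField_of_isDomain)
  have hnA1 : 1 ≤ nA := ENat.one_le_iff_ne_zero.mpr hnA0
  have hnA' : nA = 1 := le_antisymm (le_self_add.trans hsum) hnA1
  have hnF' : nF = 0 := by
    rw [hnA'] at hsum
    by_contra h
    have h1 : 1 ≤ nF := ENat.one_le_iff_ne_zero.mpr h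
    have : (1 : ℕ∞) + 1 ≤ 1 := (add_le_add le_rfl h1).trans hsum
    norm_num at this
  -- the maximal ideal of `A` is principal
  have hprin : (maximalIdeal A).IsPrincipal := by
    have h3 : IsIntegrallyClosed A ∧ ∀ P : Ideal A, P ≠ ⊥ → P.IsPrime → P = maximalIdeal A := by
      refine ⟨inferInstance, ?_⟩
      intro P hP hPp
      haveI : Ring.KrullDimLE 1 A := by
        rw [Ring.krullDimLE_iff, hnA, hnA']; rfl
      exact IsLocalRing.eq_maximalIdeal (hPp.isMaximal_of_ne_bot hP)
    exact ((tfae_of_isNoetherianRing_of_isLocalRing_of_isDomain A).out 3 4).mp h3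
  obtain ⟨π, hπ⟩ := hprin.principal
  -- the closed fibre is a field
  haveI : Ring.KrullDimLE 0 (EGA4.FibRing A B) := by
    rw [Ring.krullDimLE_iff, hnF, hnF']; rfl
  have hfield : IsField (EGA4.FibRing A B) := Ring.KrullDimLE.isField_of_isReduced
  have hmax : (EGA4.mB A B).IsMaximal := Ideal.Quotient.maximal_of_isField _ hfield
  have hmB : maximalIdeal B = EGA4.mB A B := (IsLocalRing.eq_maximalIdeal hmax).symm
  have hspan : maximalIdeal B = Ideal.span {algebraMap A B π} := by
    rw [hmB]
    show (maximalIdeal A).map (algebraMap A B) = _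
    rw [hπ, Ideal.submodule_span_eq, Ideal.map_span, Set.image_singleton]
  apply IsRegularLocalRing.of_spanFinrank_maximalIdeal_le
  rw [hB, hnA', hnF', add_zero, hspan]
  have := Submodule.spanFinrank_span_le_ncard_of_finite (R := B) (M := B)
    (Set.finite_singleton (algebraMap A B π))
  rw [Set.ncard_singleton] at this
  exact_mod_cast this

end Core

end Groth.Agent.Helper3.FamNormal
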