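import Mathlib
import Groth.Agent.Helper3.FamNormal1
import Groth.Agent.Helper5.CMFib1
import Groth.Agent.Helper5.DimIneq2
import Groth.Agent.Helper6.SerreNormal3
import Groth.Agent.Helper1.SerreFlatU
import Groth.Agent.Helper2.SmoothRegSch
import Groth.Agent.Lead.PuncSec

set_option autoImplicit false
set_option linter.style.haveILetI false
set_option linter.unusedSectionVars false
set_option linter.unusedVariables false
set_option linter.deprecated false
set_option linter.style.haveILetI false
set_option linter.unusedSectionVars false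
set_option linter.unusedVariables false

universe u

open AlgebraicGeometry CategoryTheory IsLocalRing

namespace Groth.Agent.Helper3.FamNormal

section Local

variable {S C : Scheme.{u}} [IsLocallyNoetherian S] (f : C ⟶ S) [Flat f] [LocallyOfFiniteType f]
  [GeometricallyReduced f]

/-- data about the fibre ring of the stalk map -/
theorem fibRing_facts (y : C) (hdim : topologicalKrullDim ↥(f.fiber (f y)) ≤ 1) :
    letI := (f.stalkMap y).hom.toAlgebra
    _root_.IsReduced (EGA4.FibRing (S.presheaf.stalk (f y)) (C.presheaf.stalk y)) ∧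
      ringKrullDim (EGA4.FibRing (S.presheaf.stalk (f y)) (C.presheaf.stalk y)) ≤ 1 := by
  letI := (f.stalkMap y).hom.toAlgebra
  obtain ⟨e⟩ := Groth.Agent.Helper5.CMFib.fibre_stalk_equiv' f y
  have e' : EGA4.FibRing (S.presheaf.stalk (f y)) (C.presheaf.stalk y) ≃+*
      (f.fiber (f y)).presheaf.stalk (f.asFiber y) := e
  constructor
  · exact isReduced_of_injective e'.toRingHom e'.injective
  · rw [ringKrullDim_eq_of_ringEquiv e']
    exact (Groth.Agent.Helper5.DimIneq.ringKrullDim_stalk_le_dim _ _).trans hdim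

/-- `(S₂)` at a point of the total space -/
theorem local_S2 [IsLocallyNoetherian C] (y : C) [IsDomain (S.presheaf.stalk (f y))]
    [IsIntegrallyClosed (S.presheaf.stalk (f y))]
    (hdim : topologicalKrullDim ↥(f.fiber (f y)) ≤ 1) :
    min (2 : WithBot ℕ∞) (ringKrullDim (C.presheaf.stalk y)) ≤
      ((LocCoh.depth (C.presheaf.stalk y) (C.presheaf.stalk y) : ℕ∞) : WithBot ℕ∞) := by
  letI := (f.stalkMap y).hom.toAlgebra
  haveI : IsLocalHom (algebraMap (S.presheaf.stalk (f y)) (C.presheaf.stalk y)) :=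
    inferInstanceAs (IsLocalHom (f.stalkMap y).hom)
  haveI : Module.Flat (S.presheaf.stalk (f y)) (C.presheaf.stalk y) := Flat.stalkMap f y
  obtain ⟨h1, h2⟩ := fibRing_facts f y hdim
  haveI := h1
  exact core_S2 (S.presheaf.stalk (f y)) (C.presheaf.stalk y) h2

/-- `(R₁)` at a point of the total space whose image has a non-field local ring -/
theorem local_R1 [IsLocallyNoetherian C] (y : C) [IsDomain (S.presheaf.stalk (f y))]
    [IsIntegrallyClosed (S.presheaf.stalk (f y))]
    (hdim : topologicalKrullDim ↥(f.fiber (f y)) ≤ 1)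
    (hA : maximalIdeal (S.presheaf.stalk (f y)) ≠ ⊥)
    (hB : ringKrullDim (C.presheaf.stalk y) ≤ 1) :
    IsRegularLocalRing (C.presheaf.stalk y) := by
  letI := (f.stalkMap y).hom.toAlgebra
  haveI : IsLocalHom (algebraMap (S.presheaf.stalk (f y)) (C.presheaf.stalk y)) :=
    inferInstanceAs (IsLocalHom (f.stalkMap y).hom)
  haveI : Module.Flat (S.presheaf.stalk (f y)) (C.presheaf.stalk y) := Flat.stalkMap f y
  obtain ⟨h1, h2⟩ := fibRing_facts f y hdim
  haveI := h1
  exact core_R1 (S.presheaf.stalk (f y)) (C.presheaf.stalk y) hA hB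

/-- `(R₁)` (indeed regularity) at a point of the total space whose image has a field as
local ring, when the fibre is smooth -/
theorem local_reg_of_field (y : C) (hA : maximalIdeal (S.presheaf.stalk (f y)) = ⊥)
    (hsm : Smooth (f.fiberToSpecResidueField (f y))) :
    IsRegularLocalRing (C.presheaf.stalk y) := by
  obtain ⟨e⟩ := Groth.Agent.Helper5.CMFib.fibre_stalk_equiv' f y
  have hreg : IsRegularLocalRing ((f.fiber (f y)).presheaf.stalk (f.asFiber y)) :=
    Groth.Agent.Helper2.SmoothRegSch.stalk_regular_of_smooth (S.residueField (f y)) _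
      (f.fiberToSpecResidueField (f y)) (f.asFiber y)
  have hI : Ideal.map (f.stalkMap y).hom (maximalIdeal (S.presheaf.stalk (f y))) = ⊥ := by
    rw [hA, Ideal.map_bot]
  let e₂ : (C.presheaf.stalk y) ≃+* ((f.fiber (f y)).presheaf.stalk (f.asFiber y)) :=
    ((RingEquiv.quotientBot _).symm.trans (Ideal.quotEquivOfEq hI.symm)).trans e
  exact IsRegularLocalRing.of_ringEquiv e₂.symm

end Local

section Assembly

/-- the stalk at a point of an affine open is the localisation of the ring of sections -/
theorem nonempty_stalk_equiv {X : Scheme.{u}} {U : X.Opens} (hU : IsAffineOpen U)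
    (y : PrimeSpectrum Γ(X, U)) :
    Nonempty (Localization.AtPrime y.asIdeal ≃+* X.presheaf.stalk (hU.fromSpec y)) := by
  have hy : hU.fromSpec y ∈ U := by
    rw [← SetLike.mem_coe, ← hU.range_fromSpec]
    exact ⟨y, rfl⟩
  letI := TopCat.Presheaf.algebra_section_stalk X.presheaf ⟨hU.fromSpec y, hy⟩
  haveI : IsLocalization.AtPrime (X.presheaf.stalk (hU.fromSpec y)) y.asIdeal :=
    hU.isLocalization_stalk' y hy
  exact ⟨(IsLocalization.algEquiv y.asIdeal.primeCompl (Localization.AtPrime y.asIdeal)
    (X.presheaf.stalk (hU.fromSpec y))).toRingEquiv⟩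

/-- Serre's criterion on a locally Noetherian scheme, in terms of the local rings -/
theorem isNormalScheme_of_local (C : Scheme.{u}) [IsLocallyNoetherian C]
    (hR1 : ∀ y : C, ringKrullDim (C.presheaf.stalk y) ≤ 1 →
      IsRegularLocalRing (C.presheaf.stalk y))
    (hS2 : ∀ y : C, min (2 : WithBot ℕ∞) (ringKrullDim (C.presheaf.stalk y)) ≤
      ((LocCoh.depth (C.presheaf.stalk y) (C.presheaf.stalk y) : ℕ∞) : WithBot ℕ∞)) :
    Pi1.IsNormalScheme C := by
  intro x
  obtain ⟨W, hW, hxW, -⟩ := exists_isAffineOpen_mem_and_subset (U := ⊤) (x := x) (by simp)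
  haveI : IsNoetherianRing Γ(C, W) := IsLocallyNoetherian.component_noetherian ⟨W, hW⟩
  have hRk : LocCoh.HasRk 1 Γ(C, W) := by
    intro p hp hht
    obtain ⟨e⟩ := nonempty_stalk_equiv hW ⟨p, hp⟩
    have hdim : ringKrullDim (C.presheaf.stalk (hW.fromSpec ⟨p, hp⟩)) ≤ 1 := by
      rw [← ringKrullDim_eq_of_ringEquiv e, IsLocalization.AtPrime.ringKrullDim_eq_height p]
      exact_mod_cast hht
    have := hR1 _ hdim
    exact IsRegularLocalRing.of_ringEquiv e.symm
  have hSk : LocCoh.HasSk 2 Γ(C, W) Γ(C, W) := by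
    rw [Groth.Agent.Helper1.SerreFlatU.hasSk_iff]
    intro p hp
    obtain ⟨e⟩ := nonempty_stalk_equiv hW ⟨p, hp⟩
    have h := hS2 (hW.fromSpec ⟨p, hp⟩)
    rw [← ringKrullDim_eq_of_ringEquiv e,
      ← Groth.Agent.Lead.PuncSec.depth_eq_of_ringEquiv e] at h
    exact_mod_cast h
  have hmain := (Groth.Agent.Helper6.SerreNormal.main_S0601 Γ(C, W)).mpr ⟨hRk, hSk⟩
  have h1 := hW.fromSpec_primeIdealOf ⟨x, hxW⟩
  obtain ⟨e⟩ := nonempty_stalk_equiv hW (hW.primeIdealOf ⟨x, hxW⟩)
  obtain ⟨hd, hic⟩ := hmain (hW.primeIdealOf ⟨x, hxW⟩).asIdeal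
  rw [h1] at e
  haveI := hd
  haveI := hic
  haveI : IsDomain (C.presheaf.stalk x) := e.symm.toMulEquiv.isDomain
  exact ⟨inferInstance, IsIntegrallyClosed.of_equiv e⟩

end Assembly

section Main

/-- on an integral scheme, a point whose local ring is a field is the generic point -/
theorem eq_genericPoint_of_maximalIdeal_eq_bot (S : Scheme.{u}) [IsIntegral S] (s : S)
    (h : maximalIdeal (S.presheaf.stalk s) = ⊥) : s = genericPoint ↥S := by
  have hfield : IsField (S.presheaf.stalk s) := IsLocalRing.isField_iff_maximalIdeal_eq.mpr h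
  have hgen : genericPoint ↥S ⤳ s := (genericPoint_spec ↥S).specializes (by simp)
  have hmem : genericPoint ↥S ∈ Set.range (S.fromSpecStalk s) := by
    rw [Scheme.range_fromSpecStalk]; exact hgen
  obtain ⟨z, hz⟩ := hmem
  letI := hfield.toField
  have hz' : z = closedPoint (S.presheaf.stalk s) :=
    @Subsingleton.elim (PrimeSpectrum (S.presheaf.stalk s)) inferInstance _ _
  rw [← hz, hz', Scheme.fromSpecStalk_closedPoint]

theorem main (S C : Scheme.{u}) [IsIntegral S] [IsLocallyNoetherian S]
    (hS : Pi1.IsNormalScheme S) (f : C ⟶ S) [Flat f] [LocallyOfFiniteType f]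
    [GeometricallyReduced f]
    (hdim : ∀ s : ↥S, topologicalKrullDim ↥(f.fiber s) ≤ 1)
    (hsm : Smooth (f.fiberToSpecResidueField (genericPoint ↥S))) :
    Pi1.IsNormalScheme C := by
  haveI : IsLocallyNoetherian C := LocallyOfFiniteType.isLocallyNoetherian f
  have hsm' : ∀ s : S, s = genericPoint ↥S → Smooth (f.fiberToSpecResidueField s) := by
    rintro s rfl; exact hsm
  apply isNormalScheme_of_local
  · intro y hy
    haveI := (hS (f y)).1
    haveI := (hS (f y)).2
    by_cases hA : maximalIdeal (S.presheaf.stalk (f y)) = ⊥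
    · exact local_reg_of_field f y hA
        (hsm' _ (eq_genericPoint_of_maximalIdeal_eq_bot S (f y) hA))
    · exact local_R1 f y (hdim _) hA hy
  · intro y
    haveI := (hS (f y)).1
    haveI := (hS (f y)).2
    exact local_S2 f y (hdim _)

end Main

end Groth.Agent.Helper3.FamNormal
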