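import Mathlib
import Groth.Prelude.Def_CurvBase
import Groth.Agent.Helper3.FamNormal2

set_option autoImplicit false
set_option linter.style.haveILetI false
set_option linter.unusedSectionVars false
set_option linter.unusedVariables false
set_option linter.deprecated false
set_option linter.style.haveILetI false
set_option linter.unusedSectionVars false
set_option linter.unusedVariables false

universe u

open CategoryTheory CategoryTheory.Limits AlgebraicGeometry IsLocalRing

namespace Groth.Agent.Helper3.NodeRed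

section PS

variable (K : Type u) [Field K]

/-- `X 0` is prime in `K[[x_0, …, x_n]]` -/
theorem X_zero_prime (n : ℕ) : Prime (MvPowerSeries.X 0 : MvPowerSeries (Fin (n + 1)) K) := by
  haveI : IsDomain (MvPowerSeries (Fin n) K) := NoZeroDivisors.to_isDomain _
  have h : Prime (PowerSeries.X : PowerSeries (MvPowerSeries (Fin n) K)) := PowerSeries.X_prime
  rw [← MvPowerSeries.finSuccEquiv_X_zero (R := K) (n := n)] at h
  exact (MulEquiv.prime_iff (MvPowerSeries.finSuccEquiv K n).toMulEquiv).mp h

/-- `X 1` is prime in `K[[x_0, x_1]]` -/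
theorem X_one_prime : Prime (MvPowerSeries.X 1 : MvPowerSeries (Fin 2) K) := by
  have h := X_zero_prime K 1
  let e := MvPowerSeries.renameEquiv K (Equiv.swap (0 : Fin 2) 1)
  have he : e (MvPowerSeries.X 0) = MvPowerSeries.X 1 := by
    show MvPowerSeries.rename _ _ = _
    rw [MvPowerSeries.rename_X]
    simp
  rw [← he]
  exact (MulEquiv.prime_iff e.toMulEquiv).mpr h

theorem not_X_one_dvd_X_zero :
    ¬ (MvPowerSeries.X 1 : MvPowerSeries (Fin 2) K) ∣ MvPowerSeries.X 0 := by
  intro h
  rw [MvPowerSeries.X_dvd_iff] at h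
  have := h (Finsupp.single 0 1) (by simp)
  rw [MvPowerSeries.coeff_X] at this
  simp at this

/-- `K[[x,y]]/(xy)` is reduced -/
theorem isReduced_quot :
    _root_.IsReduced (MvPowerSeries (Fin 2) K ⧸
      Ideal.span {(MvPowerSeries.X 0 * MvPowerSeries.X 1 : MvPowerSeries (Fin 2) K)}) := by
  rw [← Ideal.isRadical_iff_quotient_reduced]
  intro φ ⟨n, hn⟩
  rw [Ideal.mem_span_singleton] at hn ⊢
  have h0 : (MvPowerSeries.X 0 : MvPowerSeries (Fin 2) K) ∣ φ :=
    (X_zero_prime K 1).dvd_of_dvd_pow ((dvd_mul_right _ _).trans hn)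
  have h1 : (MvPowerSeries.X 1 : MvPowerSeries (Fin 2) K) ∣ φ :=
    (X_one_prime K).dvd_of_dvd_pow ((dvd_mul_left _ _).trans hn)
  obtain ⟨ψ, rfl⟩ := h0
  rcases (X_one_prime K).dvd_or_dvd h1 with h | h
  · exact absurd h (not_X_one_dvd_X_zero K)
  · exact mul_dvd_mul_left _ h

end PS

/-- an ordinary double point is reduced -/
theorem isReduced_of_isOrdDoublePt (K : Type u) [Field K] (A : Type u) [CommRing A] [Algebra K A]
    [IsLocalRing A] [IsNoetherianRing A] (h : Curv2.IsOrdDoublePt K A) : _root_.IsReduced A := by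
  obtain ⟨e, -⟩ := h
  haveI := isReduced_quot K
  haveI : _root_.IsReduced (AdicCompletion (maximalIdeal A) A) :=
    isReduced_of_injective e.toRingHom e.injective
  exact isReduced_of_injective (algebraMap A (AdicCompletion (maximalIdeal A) A))
    (AdicCompletion.of_injective (I := maximalIdeal A) (M := A))

/-- reducedness passes to localizations at smaller primes -/
theorem isReduced_localization_of_le {A : Type u} [CommRing A] (p q : Ideal A) [p.IsPrime]
    [q.IsPrime] (h : q ≤ p) [_root_.IsReduced (Localization.AtPrime p)] :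
    _root_.IsReduced (Localization.AtPrime q) := by
  refine ⟨fun z hz => ?_⟩
  obtain ⟨n, hn⟩ := hz
  obtain ⟨a, s, rfl⟩ := IsLocalization.exists_mk'_eq q.primeCompl z
  rw [← IsLocalization.mk'_pow, IsLocalization.mk'_eq_zero_iff] at hn
  obtain ⟨t, ht⟩ := hn
  rw [IsLocalization.mk'_eq_zero_iff]
  -- `t * a` is nilpotent in `A`
  have hnil : ((t : A) * a) ^ (n + 1) = 0 := by
    have : ((t : A) * a) ^ (n + 1) = (t : A) ^ n * a * ((t : A) * a ^ n) := by ring
    rw [this, ht, mul_zero]
  have h0 : algebraMap A (Localization.AtPrime p) ((t : A) * a) = 0 := by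
    apply IsReduced.eq_zero
    exact ⟨n + 1, by rw [← map_pow, hnil, map_zero]⟩
  rw [IsLocalization.map_eq_zero_iff p.primeCompl] at h0
  obtain ⟨u, hu⟩ := h0
  have hu' : (u : A) ∈ q.primeCompl := fun hq => u.2 (h hq)
  refine ⟨⟨u, hu'⟩ * t, ?_⟩
  show (u : A) * (t : A) * a = 0
  rw [mul_assoc]; exact hu

/-- reducedness of stalks passes to generizations -/
theorem isReduced_stalk_of_specializes {T : Scheme.{u}} {x y : T} (h : y ⤳ x)
    [_root_.IsReduced (T.presheaf.stalk x)] : _root_.IsReduced (T.presheaf.stalk y) := by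
  obtain ⟨U, hU, hxU, -⟩ := exists_isAffineOpen_mem_and_subset (U := ⊤) (x := x) (by simp)
  have hyU : y ∈ U := h.mem_open U.isOpen hxU
  let px := hU.primeIdealOf ⟨x, hxU⟩
  let py := hU.primeIdealOf ⟨y, hyU⟩
  have hx : hU.fromSpec px = x := hU.fromSpec_primeIdealOf ⟨x, hxU⟩
  have hy : hU.fromSpec py = y := hU.fromSpec_primeIdealOf ⟨y, hyU⟩
  obtain ⟨ex⟩ := Groth.Agent.Helper3.FamNormal.nonempty_stalk_equiv hU px
  obtain ⟨ey⟩ := Groth.Agent.Helper3.FamNormal.nonempty_stalk_equiv hU py
  rw [hx] at ex
  rw [hy] at ey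
  have hle : py.asIdeal ≤ px.asIdeal := by
    have h1 : hU.fromSpec py ⤳ hU.fromSpec px := by rw [hx, hy]; exact h
    have h2 : py ⤳ px := (hU.fromSpec.isOpenEmbedding.toIsInducing.specializes_iff).mp h1
    exact (PrimeSpectrum.le_iff_specializes py px).mpr h2
  haveI : _root_.IsReduced (Localization.AtPrime px.asIdeal) :=
    isReduced_of_injective ex.toRingHom ex.injective
  haveI := isReduced_localization_of_le px.asIdeal py.asIdeal hle
  exact isReduced_of_injective ey.symm.toRingHom ey.symm.injective

/-- the local ring at a node is reduced -/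
theorem isReduced_stalk_of_isNode (k : Type u) [Field k] (T : Scheme.{u})
    [T.Over (Spec (CommRingCat.of k))] [LocallyOfFiniteType (T ↘ Spec (CommRingCat.of k))]
    (x : T) (h : Curv2.IsNode k T x) : _root_.IsReduced (T.presheaf.stalk x) := by
  obtain ⟨-, xb, rfl, hodp⟩ := h
  let π := Curv2.bcFst k T (AlgebraicClosure k)
  haveI : Flat (Spec.map (CommRingCat.ofHom (algebraMap k (AlgebraicClosure k)))) := by
    rw [HasRingHomProperty.Spec_iff (P := @Flat)]
    show (algebraMap k (AlgebraicClosure k)).Flat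
    exact RingHom.Flat.of_isField (Field.toIsField k) _
  haveI : Flat π := by dsimp only [π, Curv2.bcFst]; infer_instance
  haveI : LocallyOfFiniteType (Curv2.bcSnd k T (AlgebraicClosure k)) := by
    dsimp only [Curv2.bcSnd]; infer_instance
  haveI : IsLocallyNoetherian (Curv2.bc k T (AlgebraicClosure k)) :=
    LocallyOfFiniteType.isLocallyNoetherian (Curv2.bcSnd k T (AlgebraicClosure k))
  letI : (Curv2.bc k T (AlgebraicClosure k)).Over (Spec (CommRingCat.of (AlgebraicClosure k))) :=
    ⟨Curv2.bcSnd k T (AlgebraicClosure k)⟩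
  letI := Curv2.stalkAlgebra (AlgebraicClosure k) (Curv2.bc k T (AlgebraicClosure k)) xb
  haveI : _root_.IsReduced ((Curv2.bc k T (AlgebraicClosure k)).presheaf.stalk xb) :=
    isReduced_of_isOrdDoublePt (AlgebraicClosure k) _ hodp
  -- the stalk map is flat and local, hence injective
  have hflat : (π.stalkMap xb).hom.Flat := Flat.stalkMap π xb
  have hinj : Function.Injective (π.stalkMap xb).hom := by
    algebraize [(π.stalkMap xb).hom]
    haveI : IsLocalHom (algebraMap (T.presheaf.stalk (π xb))
        ((Curv2.bc k T (AlgebraicClosure k)).presheaf.stalk xb)) :=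
      inferInstanceAs (IsLocalHom (π.stalkMap xb).hom)
    haveI : Module.FaithfullyFlat (T.presheaf.stalk (π xb))
        ((Curv2.bc k T (AlgebraicClosure k)).presheaf.stalk xb) :=
      Module.FaithfullyFlat.of_flat_of_isLocalHom
    exact FaithfulSMul.algebraMap_injective _ _
  exact isReduced_of_injective (π.stalkMap xb).hom hinj

end Groth.Agent.Helper3.NodeRed
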