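import Mathlib
import Groth.Prelude
import Groth.Agent.Helper5.StalkDict
import Groth.Agent.Lead.StalkPull2

set_option autoImplicit false
set_option linter.style.haveILetI false
set_option linter.unusedSectionVars false
set_option linter.unusedVariables false
set_option linter.deprecated false
set_option linter.style.haveILetI false
set_option linter.unusedSectionVars false
set_option linter.unusedVariables false

open CategoryTheory Limits AlgebraicGeometry TopologicalSpace Opposite TensorProduct
universe u

namespace Groth.Agent.Helper3.CycPBA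
open Groth.Agent.Helper5.StalkDict IsLocalRing

variable {X X' : Scheme.{u}}

/-- every point has a generisation in its fibre which is maximal in the fibre -/
theorem exists_max_gen (p : X' ⟶ X) (x' : X') :
    ∃ y' : X', y' ⤳ x' ∧ p y' = p x' ∧ ∀ z : X', p z = p y' → z ⤳ y' → z = y' := by
  set φ := (p.stalkMap x').hom with hφ
  set I := (maximalIdeal (X.presheaf.stalk (p x'))).map φ with hI
  have hIm : I ≤ maximalIdeal (X'.presheaf.stalk x') := by
    rw [hI, Ideal.map_le_iff_le_comap]
    intro a ha
    exact (IsLocalRing.mem_maximalIdeal _).mpr (fun hu => ((IsLocalRing.mem_maximalIdeal _).mp ha)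
      (isUnit_of_map_unit φ a hu))
  obtain ⟨q, hq, hqm⟩ := Ideal.exists_minimalPrimes_le hIm
  haveI : q.IsPrime := hq.1.1
  let Q : ↥(Spec (X'.presheaf.stalk x')) := ⟨q, inferInstance⟩
  have hcomap : ∀ (q' : ↥(Spec (X'.presheaf.stalk x'))), I ≤ q'.asIdeal →
      p (X'.fromSpecStalk x' q') = p x' := by
    intro q' hq'
    rw [map_fromSpecStalk]
    have h1 : Spec.map (p.stalkMap x') q' = IsLocalRing.closedPoint (X.presheaf.stalk (p x')) := by
      apply PrimeSpectrum.ext
      change q'.asIdeal.comap φ = maximalIdeal _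
      apply le_antisymm
      · exact IsLocalRing.le_maximalIdeal (Ideal.IsPrime.ne_top (Ideal.IsPrime.comap φ))
      · rw [← Ideal.map_le_iff_le_comap]
        exact hq'
    rw [h1, Scheme.fromSpecStalk_closedPoint]
  refine ⟨X'.fromSpecStalk x' Q, fromSpecStalk_specializes x' Q, hcomap Q hq.1.2, ?_⟩
  intro z hz hzs
  obtain ⟨q', rfl⟩ := exists_prime_of_specializes x' z (hzs.trans (fromSpecStalk_specializes x' Q))
  rw [fromSpecStalk_specializes_iff] at hzs
  rw [hcomap Q hq.1.2, map_fromSpecStalk] at hz
  have h2 : Spec.map (p.stalkMap x') q' = IsLocalRing.closedPoint (X.presheaf.stalk (p x')) := by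
    apply (X.fromSpecStalk (p x')).isEmbedding.injective
    rw [hz, Scheme.fromSpecStalk_closedPoint]
  have h3 : I ≤ q'.asIdeal := by
    rw [hI, Ideal.map_le_iff_le_comap]
    have := congrArg PrimeSpectrum.asIdeal h2
    change q'.asIdeal.comap φ = maximalIdeal _ at this
    rw [this]
  have h4 : q ≤ q'.asIdeal := hq.2 ⟨q'.isPrime, h3⟩ hzs
  have : q' = Q := PrimeSpectrum.ext (le_antisymm hzs h4)
  rw [this]

/-- under the shift condition, `δ' ≤ δ ∘ p + c`, with equality only at points maximal in the fibre -/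
theorem le_and_max (p : X' ⟶ X) (δ : X → ℤ) (δ' : X' → ℤ) (hX' : Cyc.IsDimFun X' δ') (c : ℤ)
    (hc : ∀ x' : X', (∀ y, p y = p x' → y ⤳ x' → y = x') → δ' x' = δ (p x') + c) (x' : X') :
    δ' x' ≤ δ (p x') + c ∧
      (δ' x' = δ (p x') + c → ∀ y, p y = p x' → y ⤳ x' → y = x') := by
  obtain ⟨y', hy1, hy2, hy3⟩ := exists_max_gen p x'
  have h1 := hc y' hy3
  rw [hy2] at h1
  by_cases hyx : y' = x'
  · subst hyx
    exact ⟨h1.le, fun _ => hy3⟩
  · have h2 := (hX' y' x' hy1 hyx).1
    refine ⟨by omega, fun h => ?_⟩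
    omega

end Groth.Agent.Helper3.CycPBA
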