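import Mathlib
import Groth.Prelude
import Groth.Agent.Helper3.CycPBA

set_option autoImplicit false
set_option linter.style.haveILetI false
set_option linter.unusedSectionVars false
set_option linter.unusedVariables false
set_option linter.deprecated false
set_option linter.style.haveILetI false
set_option linter.unusedSectionVars false
set_option linter.unusedVariables false

open CategoryTheory Limits AlgebraicGeometry TopologicalSpace Opposite TensorProduct
universe u

namespace Groth.Agent.Helper3.CycPBB
open Groth.Agent.Helper5.StalkDict IsLocalRing Groth.Agent.Helper3.CycPBA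

variable {X X' : Scheme.{u}}

/-- length of the stalk of a flat pullback -/
theorem length_stalk_pullback (p : X' ⟶ X) [Flat p] (F : X.Modules) [F.IsQuasicoherent] (x' : X') :
    Module.length (X'.presheaf.stalk x') (((Scheme.Modules.pullback p).obj F).presheaf.stalk x') =
      Module.length (X.presheaf.stalk (p x')) (F.presheaf.stalk (p x')) *
        Module.length (X'.presheaf.stalk x') (X'.presheaf.stalk x' ⧸
          Ideal.map (p.stalkMap x').hom (maximalIdeal (X.presheaf.stalk (p x')))) := by
  letI := (p.stalkMap x').hom.toAlgebra
  haveI : Module.Flat (X.presheaf.stalk (p x')) (X'.presheaf.stalk x') := Flat.stalkMap p x'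
  haveI : IsLocalHom (algebraMap (X.presheaf.stalk (p x')) (X'.presheaf.stalk x')) :=
    inferInstanceAs (IsLocalHom (p.stalkMap x').hom)
  obtain ⟨e⟩ := Groth.Agent.Lead.StalkPull.nonempty_stalk_pullback_equiv p F x'
  rw [e.length_eq, IsLocalRing.length_baseChange]
  rfl

theorem subsingleton_stalk_pullback (p : X' ⟶ X) (F : X.Modules) [F.IsQuasicoherent] (x' : X')
    (h : Subsingleton (F.presheaf.stalk (p x'))) :
    Subsingleton (((Scheme.Modules.pullback p).obj F).presheaf.stalk x') := by
  letI := (p.stalkMap x').hom.toAlgebra
  obtain ⟨e⟩ := Groth.Agent.Lead.StalkPull.nonempty_stalk_pullback_equiv p F x'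
  exact e.injective.subsingleton

theorem main (p : X' ⟶ X) [Flat p] (δ : X → ℤ) (δ' : X' → ℤ) (hX' : Cyc.IsDimFun X' δ') (c : ℤ)
    (hc : ∀ x' : X', (∀ y, p y = p x' → y ⤳ x' → y = x') → δ' x' = δ (p x') + c) (k : ℤ)
    (F : X.Modules) [F.IsQuasicoherent]
    (hdim : ∀ x : X, Nontrivial (F.presheaf.stalk x) → δ x ≤ k) :
    (∀ x' : X', Nontrivial (((Scheme.Modules.pullback p).obj F).presheaf.stalk x') → δ' x' ≤ k + c) ∧
      Cyc.pullFun p δ' δ c (Cyc.sheafFun δ k F) =
        Cyc.sheafFun δ' (k + c) ((Scheme.Modules.pullback p).obj F) := by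
  constructor
  · intro x' hx'
    have h1 := (le_and_max p δ δ' hX' c hc x').1
    have h2 : Nontrivial (F.presheaf.stalk (p x')) := by
      by_contra hcon
      rw [not_nontrivial_iff_subsingleton] at hcon
      have := subsingleton_stalk_pullback p F x' hcon
      exact not_subsingleton _ this
    have := hdim _ h2
    omega
  · funext x'
    have hle := (le_and_max p δ δ' hX' c hc x').1
    have hlen := length_stalk_pullback p F x'
    unfold Cyc.pullFun Cyc.sheafFun
    simp only
    by_cases h1 : δ' x' = δ (p x') + c
    · rw [if_pos h1]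
      by_cases h2 : δ (p x') = k
      · rw [if_pos h2, if_pos (by omega), hlen, ENat.toNat_mul]
        push_cast
        rfl
      · rw [if_neg h2, zero_mul, if_neg (by omega)]
    · rw [if_neg h1]
      by_cases h3 : δ' x' = k + c
      · rw [if_pos h3]
        by_cases hF : Nontrivial (F.presheaf.stalk (p x'))
        · have := hdim _ hF
          omega
        · rw [not_nontrivial_iff_subsingleton] at hF
          have h0 : Module.length (X.presheaf.stalk (p x')) (F.presheaf.stalk (p x')) = 0 :=
            Module.length_eq_zero_iff.mpr hF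
          rw [hlen, h0, zero_mul]
          rfl
      · rw [if_neg h3]

end Groth.Agent.Helper3.CycPBB
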