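import Mathlib
import Groth.Prelude
import Groth.Agent.Helper3.CycPBB
import Groth.Agent.Helper5.MaxPt1

set_option autoImplicit false
set_option linter.style.haveILetI false
set_option linter.unusedSectionVars false
set_option linter.unusedVariables false
set_option linter.deprecated false
set_option linter.style.haveILetI false
set_option linter.unusedSectionVars false
set_option linter.unusedVariables false

open CategoryTheory Limits AlgebraicGeometry TopologicalSpace Opposite TensorProduct
universe u

namespace Groth.Agent.Helper3.CycPBC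
open Groth.Agent.Helper5.StalkDict IsLocalRing Groth.Agent.Helper3.CycPBA

/-- the closure of a maximal point of a scheme is an irreducible component -/
theorem closure_mem_irreducibleComponents_of_isMax {T : Scheme.{u}} (t : T)
    (hmax : ∀ w : T, w ⤳ t → w = t) :
    closure ({t} : Set T) ∈ irreducibleComponents ↥T := by
  refine ⟨isIrreducible_singleton.closure, ?_⟩
  intro S hS hle
  obtain ⟨w', hw'⟩ := QuasiSober.sober hS.closure isClosed_closure
  have hw'def : closure ({w'} : Set T) = closure S := hw'.def
  have h1 : t ∈ closure S := subset_closure (hle (subset_closure rfl))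
  have h2 : w' ⤳ t := by
    rw [specializes_iff_mem_closure, hw'def]; exact h1
  have h6 : w' = t := hmax w' h2
  rw [h6] at hw'def
  show S ⊆ closure {t}
  rw [hw'def]
  exact subset_closure

/-- for a morphism locally of finite type all of whose fibre components have dimension `r`, the
induced dimension function has shift `r` at the points maximal in their fibres -/
theorem shift_of_hasRelDim {X Y : Scheme.{u}} (f : X ⟶ Y) [LocallyOfFiniteType f] (r : ℕ)
    (hr : Cyc.HasRelDim f r) (δX : X → ℤ) (δY : Y → ℤ) (hδ : Cyc.DeltaCompat f δX δY) (x : X)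
    (hmax : ∀ w, f w = f x → w ⤳ x → w = x) : δX x = δY (f x) + r := by
  have h0 := Groth.Agent.Helper5.MaxPt.coheight_asFiber_eq_zero f x hmax
  have hmax' : ∀ w : ↥(f.fiber (f x)), w ⤳ f.asFiber x → w = f.asFiber x := by
    intro w hw
    have hm : IsMax (f.asFiber x) := Order.coheight_eq_zero.1 h0
    have h4 : f.asFiber x ≤ w := Scheme.le_iff_specializes.2 hw
    have h5 : w ≤ f.asFiber x := hm h4
    exact (hw.antisymm (Scheme.le_iff_specializes.1 h5)).eq
  have hcomp := closure_mem_irreducibleComponents_of_isMax (f.asFiber x) hmax'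
  have hdim := hr (f x) _ hcomp
  obtain ⟨n, hn1, hn2⟩ := Groth.Agent.Helper5.MaxPt.dim_closure_fibre_point f (f x) (f.asFiber x) x
    (f.fiberι_asFiber x) rfl
  rw [hn1] at hdim
  have hnr : n = r := by exact_mod_cast hdim
  obtain ⟨m, hm1, hm2⟩ := hδ x
  have hmn : m = n := by
    have : (m : Cardinal.{u}) = (n : Cardinal.{u}) := hm1.symm.trans hn2
    exact_mod_cast this
  rw [hm2, hmn, hnr]

theorem main (X Y : Scheme.{u}) (δX : X → ℤ) (δY : Y → ℤ) (hX : Cyc.IsSetup X δX)
    (f : X ⟶ Y) [Flat f] [LocallyOfFiniteType f] (r : ℕ) (hr : Cyc.HasRelDim f r)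
    (hδ : Cyc.DeltaCompat f δX δY) (k : ℤ) (F : Y.Modules) (hF : Coh.IsCoh F)
    (hdim : ∀ y : Y, Nontrivial (F.presheaf.stalk y) → δY y ≤ k) :
    (∀ x : X, Nontrivial (((Scheme.Modules.pullback f).obj F).presheaf.stalk x) → δX x ≤ k + r) ∧
      Cyc.pullFun f δX δY r (Cyc.sheafFun δY k F) =
        Cyc.sheafFun δX (k + r) ((Scheme.Modules.pullback f).obj F) := by
  haveI : F.IsQuasicoherent := hF.1
  exact Groth.Agent.Helper3.CycPBB.main f δY δX hX.2.2 (r : ℤ)
    (fun x hx => shift_of_hasRelDim f r hr δX δY hδ x hx) k F hdim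

end Groth.Agent.Helper3.CycPBC
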