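import Mathlib
import Groth.Prelude
import Groth.Agent.Helper3.CycPBA

set_option autoImplicit false
set_option linter.style.haveILetI false
set_option linter.unusedSectionVars false
set_option linter.unusedVariables false
set_option linter.deprecated false
set_option linter.style.haveILetI false
set_option linter.unusedSectionVars false
set_option linter.unusedVariables false

open CategoryTheory Limits AlgebraicGeometry TopologicalSpace Opposite TensorProduct
universe u

namespace Groth.Agent.Helper3.CycPBD
open Groth.Agent.Helper5.StalkDict IsLocalRing Groth.Agent.Helper3.CycPBA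

variable {X X' X'' : Scheme.{u}}

/-- multiplicativity of the fibre lengths along a composite of flat morphisms -/
theorem length_comp (p : X' ⟶ X) (p' : X'' ⟶ X') [Flat p'] (x'' : X'') :
    Module.length (X''.presheaf.stalk x'') (X''.presheaf.stalk x'' ⧸
        Ideal.map ((p' ≫ p).stalkMap x'').hom (maximalIdeal (X.presheaf.stalk ((p' ≫ p) x'')))) =
      Module.length (X'.presheaf.stalk (p' x'')) (X'.presheaf.stalk (p' x'') ⧸
        Ideal.map (p.stalkMap (p' x'')).hom (maximalIdeal (X.presheaf.stalk (p (p' x''))))) *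
      Module.length (X''.presheaf.stalk x'') (X''.presheaf.stalk x'' ⧸
        Ideal.map (p'.stalkMap x'').hom (maximalIdeal (X'.presheaf.stalk (p' x'')))) := by
  letI := (p'.stalkMap x'').hom.toAlgebra
  haveI : Module.Flat (X'.presheaf.stalk (p' x'')) (X''.presheaf.stalk x'') := Flat.stalkMap p' x''
  haveI : IsLocalHom (algebraMap (X'.presheaf.stalk (p' x'')) (X''.presheaf.stalk x'')) :=
    inferInstanceAs (IsLocalHom (p'.stalkMap x'').hom)
  set J := Ideal.map (p.stalkMap (p' x'')).hom (maximalIdeal (X.presheaf.stalk (p (p' x'')))) with hJ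
  have h1 := IsLocalRing.length_baseChange (X'.presheaf.stalk (p' x'')) (X''.presheaf.stalk x'')
    (X'.presheaf.stalk (p' x'') ⧸ J)
  have h2 := (Algebra.TensorProduct.quotIdealMapEquivTensorQuot
    (X''.presheaf.stalk x'') J).toLinearEquiv.length_eq
  rw [← h2] at h1
  have h3 : Ideal.map ((p' ≫ p).stalkMap x'').hom (maximalIdeal (X.presheaf.stalk ((p' ≫ p) x''))) =
      J.map (algebraMap (X'.presheaf.stalk (p' x'')) (X''.presheaf.stalk x'')) := by
    rw [hJ, Ideal.map_map]
    congr 1
    rw [Scheme.Hom.stalkMap_comp]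
    rfl
  rw [h3]
  exact h1

theorem main (p : X' ⟶ X) (p' : X'' ⟶ X') [Flat p] [Flat p'] (δ : X → ℤ) (δ' : X' → ℤ)
    (δ'' : X'' → ℤ) (hX' : Cyc.IsDimFun X' δ') (hX'' : Cyc.IsDimFun X'' δ'') (c c' : ℤ)
    (hc : ∀ x' : X', (∀ y, p y = p x' → y ⤳ x' → y = x') → δ' x' = δ (p x') + c)
    (hc' : ∀ x'' : X'', (∀ y, p' y = p' x'' → y ⤳ x'' → y = x'') → δ'' x'' = δ' (p' x'') + c')
    (α : X → ℤ) :
    (∀ x'' : X'', (∀ y, (p' ≫ p) y = (p' ≫ p) x'' → y ⤳ x'' → y = x'') →
      δ'' x'' = δ ((p' ≫ p) x'') + (c + c')) ∧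
    Cyc.pullFun (p' ≫ p) δ'' δ (c + c') α = Cyc.pullFun p' δ'' δ' c' (Cyc.pullFun p δ' δ c α) := by
  constructor
  · intro x'' hmax
    have h1 : δ'' x'' = δ' (p' x'') + c' := by
      apply hc'
      intro y hy hys
      apply hmax y _ hys
      change p (p' y) = p (p' x'')
      rw [hy]
    have h2 : δ' (p' x'') = δ (p (p' x'')) + c := by
      apply hc
      intro y' hy' hys'
      obtain ⟨y'', hy''s, hy''⟩ := (Flat.generalizingMap (f := p')) hys'
      have : y'' = x'' := by
        apply hmax y'' _ hy''s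
        change p (p' y'') = p (p' x'')
        rw [hy'', hy']
      rw [← hy'', this]
    change δ'' x'' = δ (p (p' x'')) + (c + c')
    omega
  · funext x''
    have hle' := (le_and_max p' δ' δ'' hX'' c' hc' x'').1
    have hle := (le_and_max p δ δ' hX' c hc (p' x'')).1
    have hlen := length_comp p p' x''
    unfold Cyc.pullFun
    simp only
    have hpt : (p' ≫ p) x'' = p (p' x'') := rfl
    by_cases h1 : δ'' x'' = δ ((p' ≫ p) x'') + (c + c')
    · have h2 : δ'' x'' = δ' (p' x'') + c' := by rw [hpt] at h1; omega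
      have h3 : δ' (p' x'') = δ (p (p' x'')) + c := by rw [hpt] at h1; omega
      rw [if_pos h1, if_pos h2, if_pos h3, hlen, ENat.toNat_mul]
      push_cast
      rw [mul_assoc]
      rfl
    · rw [if_neg h1]
      by_cases h2 : δ'' x'' = δ' (p' x'') + c'
      · rw [if_pos h2]
        by_cases h3 : δ' (p' x'') = δ (p (p' x'')) + c
        · exfalso
          apply h1
          rw [hpt]
          omega
        · rw [if_neg h3, zero_mul]
      · rw [if_neg h2]

end Groth.Agent.Helper3.CycPBD
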