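import Mathlib
import Groth.Prelude
import Groth.Agent.Helper3.CycPBC
import Groth.Agent.Helper3.CycPBD
import Groth.Agent.Helper5.UCat5
import Groth.Agent.Helper5.BCMin13

set_option autoImplicit false
set_option linter.style.haveILetI false
set_option linter.unusedSectionVars false
set_option linter.unusedVariables false
set_option linter.deprecated false
set_option linter.style.haveILetI false
set_option linter.unusedSectionVars false
set_option linter.unusedVariables false

open CategoryTheory Limits AlgebraicGeometry TopologicalSpace Opposite TensorProduct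
universe u

namespace Groth.Agent.Helper3.CycPBE
open Groth.Agent.Helper5.StalkDict IsLocalRing Groth.Agent.Helper3.CycPBA

/-- the function induced from a dimension function on a universally catenary locally Noetherian
base along a morphism locally of finite type is a dimension function -/
theorem isDimFun_of_deltaCompat {Y X : Scheme.{u}} (f : Y ⟶ X) [LocallyOfFiniteType f]
    (δ : X → ℤ) (δY : Y → ℤ) (hX : Cyc.IsSetup X δ) (hf : Cyc.DeltaCompat f δY δ) :
    Cyc.IsDimFun Y δY := by
  haveI : IsLocallyNoetherian X := hX.1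
  intro ξ x hsp hne
  obtain ⟨a, c, n, e, ha, hc, hn, he, heq⟩ :=
    Groth.Agent.Helper5.UCat.scheme_dimension_equality f hX.2.1 x ξ hsp
  obtain ⟨n', hn'1, hn'2⟩ := hf x
  obtain ⟨e', he'1, he'2⟩ := hf ξ
  have hnn : n' = n := by
    have : (n' : Cardinal.{u}) = (n : Cardinal.{u}) := hn'1.symm.trans hn
    exact_mod_cast this
  have hee : e' = e := by
    have : (e' : Cardinal.{u}) = (e : Cardinal.{u}) := he'1.symm.trans he
    exact_mod_cast this
  have hbase := Groth.Agent.Helper5.UCat.dimFun_sub_eq δ hX.2.2 (f ξ) (f x)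
    (hsp.map f.continuous) c hc
  have hdiff : δY ξ = δY x + a := by
    rw [hn'2, he'2, hbase, hnn, hee]
    have : (a : ℤ) + n = c + e := by exact_mod_cast heq
    omega
  have hxξ : x ≤ ξ := Scheme.le_iff_specializes.2 hsp
  have hlt : x < ξ := lt_of_le_not_ge hxξ (fun h =>
    hne ((hsp.antisymm (Scheme.le_iff_specializes.1 h)).eq))
  have ha1 : 1 ≤ a := by
    have h1 : (1 : WithBot ℕ∞) ≤ Order.krullDim ↥(Set.Icc x ξ) := by
      rw [Order.one_le_krullDim_iff]
      exact ⟨⟨x, le_rfl, hxξ⟩, ⟨ξ, hxξ, le_rfl⟩, hlt⟩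
    rw [ha] at h1
    exact_mod_cast h1
  refine ⟨by omega, fun himm => ?_⟩
  have ha2 : a ≤ 1 := by
    have h1 : Order.krullDim ↥(Set.Icc x ξ) ≤ 1 := by
      rw [Order.krullDim_le_one_iff]
      rintro ⟨z, hz1, hz2⟩
      rcases himm z (Scheme.le_iff_specializes.1 hz2) (Scheme.le_iff_specializes.1 hz1) with h | h
      · right
        subst h
        intro w hw
        exact w.2.2
      · left
        subst h
        intro w hw
        exact w.2.1
    rw [ha] at h1
    exact_mod_cast h1
  have : a = 1 := le_antisymm ha2 ha1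
  rw [hdiff, this]
  rfl


/-- the fibre length of a morphism at a point -/
noncomputable def Lfun {W X : Scheme.{u}} (g : W ⟶ X) (w : W) : ℕ∞ :=
  Module.length (W.presheaf.stalk w) (W.presheaf.stalk w ⧸
    Ideal.map (g.stalkMap w).hom (maximalIdeal (X.presheaf.stalk (g w))))

theorem Lfun_comp {X X' X'' : Scheme.{u}} (p : X' ⟶ X) (p' : X'' ⟶ X') [Flat p'] (x'' : X'') :
    Lfun (p' ≫ p) x'' = Lfun p (p' x'') * Lfun p' x'' :=
  Groth.Agent.Helper3.CycPBD.length_comp p p' x''

theorem pullFun_eq {W X : Scheme.{u}} (g : W ⟶ X) (δW : W → ℤ) (δX : X → ℤ) (r : ℤ) (α : X → ℤ)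
    (w : W) : Cyc.pullFun g δW δX r α w =
      if δW w = δX (g w) + r then α (g w) * ((Lfun g w).toNat : ℤ) else 0 := rfl

theorem main (X X' Y : Scheme.{u}) (f : Y ⟶ X) (p : X' ⟶ X) [Flat f] [LocallyOfFiniteType f]
    [Flat p] (r : ℕ) (hr : Cyc.HasRelDim f r) (δ : X → ℤ) (δ' : X' → ℤ) (δY : Y → ℤ)
    (δY' : ↥(pullback f p) → ℤ) (hX : Cyc.IsSetup X δ) (hX' : Cyc.IsSetup X' δ')
    (hY : Cyc.IsSetup Y δY) (hf : Cyc.DeltaCompat f δY δ)
    (hf' : Cyc.DeltaCompat (pullback.snd f p) δY' δ') (c : ℤ)
    (hc : ∀ x' : X', (∀ y, p y = p x' → y ⤳ x' → y = x') → δ' x' = δ (p x') + c)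
    (hcY : ∀ y' : ↥(pullback f p), (∀ y, pullback.fst f p y = pullback.fst f p y' → y ⤳ y' → y = y') →
      δY' y' = δY (pullback.fst f p y') + c) (α : X → ℤ) :
    Cyc.HasRelDim (pullback.snd f p) r ∧
      Cyc.pullFun (pullback.snd f p) δY' δ' r (Cyc.pullFun p δ' δ c α) =
        Cyc.pullFun (pullback.fst f p) δY' δY c (Cyc.pullFun f δY δ r α) := by
  have hsq : IsPullback (pullback.fst f p) (pullback.snd f p) f p := IsPullback.of_hasPullback f p
  have hr' : Cyc.HasRelDim (pullback.snd f p) r :=
    Groth.Agent.Helper5.BCMin.hasRelDim_of_isPullback f p _ _ hsq r hr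
  refine ⟨hr', ?_⟩
  have hDY' : Cyc.IsDimFun (pullback f p) δY' :=
    isDimFun_of_deltaCompat (pullback.snd f p) δ' δY' hX' hf'
  funext y'
  have hxeq : p (pullback.snd f p y') = f (pullback.fst f p y') := by
    have := congrArg (fun ψ : pullback f p ⟶ X => ψ y') (pullback.condition (f := f) (g := p))
    exact this.symm
  have h1 := (le_and_max p δ δ' hX'.2.2 c hc (pullback.snd f p y')).1
  have h2 := (le_and_max (pullback.snd f p) δ' δY' hDY' (r : ℤ)
    (fun x hx => Groth.Agent.Helper3.CycPBC.shift_of_hasRelDim (pullback.snd f p) r hr' δY' δ' hf' x hx)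
    y').1
  have h3 := (le_and_max f δ δY hY.2.2 (r : ℤ)
    (fun x hx => Groth.Agent.Helper3.CycPBC.shift_of_hasRelDim f r hr δY δ hf x hx)
    (pullback.fst f p y')).1
  have h4 := (le_and_max (pullback.fst f p) δY δY' hDY' c hcY y').1
  have hL1 := Lfun_comp p (pullback.snd f p) y'
  have hL2 := Lfun_comp f (pullback.fst f p) y'
  have hL : Lfun (pullback.snd f p ≫ p) y' = Lfun (pullback.fst f p ≫ f) y' :=
    congrArg (fun ψ : pullback f p ⟶ X => Lfun ψ y') (pullback.condition (f := f) (g := p)).symm
  rw [pullFun_eq, pullFun_eq, pullFun_eq, pullFun_eq, hxeq]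
  rw [hxeq] at h1
  by_cases hA : δY' y' = δ (f (pullback.fst f p y')) + c + r
  · have e1 : δY' y' = δ' (pullback.snd f p y') + r := by omega
    have e2 : δ' (pullback.snd f p y') = δ (f (pullback.fst f p y')) + c := by omega
    have e3 : δY' y' = δY (pullback.fst f p y') + c := by omega
    have e4 : δY (pullback.fst f p y') = δ (f (pullback.fst f p y')) + r := by omega
    rw [if_pos e1, if_pos e2, if_pos e3, if_pos e4, mul_assoc, mul_assoc]
    congr 1
    have : (Lfun p (pullback.snd f p y')).toNat * (Lfun (pullback.snd f p) y').toNat =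
        (Lfun f (pullback.fst f p y')).toNat * (Lfun (pullback.fst f p) y').toNat := by
      rw [← ENat.toNat_mul, ← ENat.toNat_mul, ← hL1, ← hL2, hL]
    exact_mod_cast this
  · have hl : ¬ (δY' y' = δ' (pullback.snd f p y') + r ∧
        δ' (pullback.snd f p y') = δ (f (pullback.fst f p y')) + c) := by
      rintro ⟨a1, a2⟩; apply hA; omega
    have hrr : ¬ (δY' y' = δY (pullback.fst f p y') + c ∧
        δY (pullback.fst f p y') = δ (f (pullback.fst f p y')) + r) := by
      rintro ⟨a1, a2⟩; apply hA; omega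
    have lhs0 : (if δY' y' = δ' (pullback.snd f p y') + r then
        (if δ' (pullback.snd f p y') = δ (f (pullback.fst f p y')) + c then
          α (f (pullback.fst f p y')) * ((Lfun p (pullback.snd f p y')).toNat : ℤ) else 0) *
          ((Lfun (pullback.snd f p) y').toNat : ℤ) else 0) = 0 := by
      by_cases a1 : δY' y' = δ' (pullback.snd f p y') + r
      · rw [if_pos a1]
        by_cases a2 : δ' (pullback.snd f p y') = δ (f (pullback.fst f p y')) + c
        · exact absurd ⟨a1, a2⟩ hl
        · rw [if_neg a2, zero_mul]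
      · rw [if_neg a1]
    have rhs0 : (if δY' y' = δY (pullback.fst f p y') + c then
        (if δY (pullback.fst f p y') = δ (f (pullback.fst f p y')) + r then
          α (f (pullback.fst f p y')) * ((Lfun f (pullback.fst f p y')).toNat : ℤ) else 0) *
          ((Lfun (pullback.fst f p) y').toNat : ℤ) else 0) = 0 := by
      by_cases a1 : δY' y' = δY (pullback.fst f p y') + c
      · rw [if_pos a1]
        by_cases a2 : δY (pullback.fst f p y') = δ (f (pullback.fst f p y')) + r
        · exact absurd ⟨a1, a2⟩ hrr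
        · rw [if_neg a2, zero_mul]
      · rw [if_neg a1]
    rw [lhs0, rhs0]

end Groth.Agent.Helper3.CycPBE
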