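import Mathlib
import Groth.Prelude.Def_Cyc

set_option autoImplicit false
set_option linter.style.haveILetI false
set_option linter.unusedSectionVars false
set_option linter.unusedVariables false
set_option linter.deprecated false
set_option linter.style.haveILetI false
set_option linter.unusedSectionVars false
set_option linter.unusedVariables false

open CategoryTheory Limits AlgebraicGeometry TopologicalSpace Opposite
universe u

namespace Groth.Agent.Helper3.CycPush

theorem residueDegree_comp {X Y Z : Scheme.{u}} (f : X ⟶ Y) (g : Y ⟶ Z) (x : X) :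
    (f ≫ g).residueDegree x = g.residueDegree (f x) * f.residueDegree x := by
  unfold Scheme.Hom.residueDegree
  letI a1 := (f.residueFieldMap x).hom.toAlgebra
  letI a2 := (g.residueFieldMap (f x)).hom.toAlgebra
  letI a3 : Algebra (Z.residueField (g (f x))) (X.residueField x) :=
    ((f ≫ g).residueFieldMap x).hom.toAlgebra
  haveI : IsScalarTower (Z.residueField (g (f x))) (Y.residueField (f x)) (X.residueField x) := by
    apply IsScalarTower.of_algebraMap_eq
    intro r
    show ((f ≫ g).residueFieldMap x).hom r = (f.residueFieldMap x).hom ((g.residueFieldMap (f x)).hom r)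
    rw [Scheme.residueFieldMap_comp]
    rfl
  exact (Module.finrank_mul_finrank (Z.residueField (g (f x))) (Y.residueField (f x))
    (X.residueField x)).symm

theorem delta_le {X Y : Scheme.{u}} (f : X ⟶ Y) (δX : X → ℤ) (δY : Y → ℤ)
    (hf : Cyc.DeltaCompat f δX δY) (x : X) : δY (f x) ≤ δX x := by
  obtain ⟨n, -, hn⟩ := hf x
  rw [hn]
  have : (0 : ℤ) ≤ (n : ℤ) := Int.natCast_nonneg n
  linarith

theorem mapCoeff_comp {X Y Z : Scheme.{u}} (f : X ⟶ Y) (g : Y ⟶ Z) (δX : X → ℤ) (δY : Y → ℤ)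
    (δZ : Z → ℤ) (hf : Cyc.DeltaCompat f δX δY) (hg : Cyc.DeltaCompat g δY δZ) (x : X) :
    AlgebraicCycle.mapCoeff (f ≫ g) δX δZ x =
      AlgebraicCycle.mapCoeff f δX δY x * AlgebraicCycle.mapCoeff g δY δZ (f x) := by
  unfold AlgebraicCycle.mapCoeff
  have h1 := delta_le f δX δY hf x
  have h2 := delta_le g δY δZ hg (f x)
  have hcomp : (f ≫ g).base x = g.base (f.base x) := rfl
  rw [hcomp]
  by_cases e1 : δX x = δY (f.base x)
  · by_cases e2 : δY (f.base x) = δZ (g.base (f.base x))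
    · rw [if_pos e1, if_pos e2, if_pos (e1.trans e2), residueDegree_comp, mul_comm]
    · rw [if_neg e2, mul_zero, if_neg]
      intro e3
      apply e2
      have h1' : δY (f.base x) ≤ δX x := h1
      have h2' : δZ (g.base (f.base x)) ≤ δY (f.base x) := h2
      omega
  · rw [if_neg e1, zero_mul, if_neg]
    intro e3
    apply e1
    have h1' : δY (f.base x) ≤ δX x := h1
    have h2' : δZ (g.base (f.base x)) ≤ δY (f.base x) := h2
    omega

theorem finite_fibre_support {X Z : Scheme.{u}} (h : X ⟶ Z) [QuasiCompact h]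
    (α : AlgebraicCycle X ℤ) (z : Z) : {x : X | h x = z ∧ α x ≠ 0}.Finite := by
  obtain ⟨_, ⟨U, hU, rfl⟩, hzU, -⟩ :=
    (Z.isBasis_affineOpens).exists_subset_of_mem_open (show z ∈ (⊤ : Z.Opens) from trivial)
      (⊤ : Z.Opens).2
  have hc : IsCompact (h ⁻¹' (U : Set Z)) :=
    QuasiCompact.isCompact_preimage (f := h) _ U.2 hU.isCompact
  refine (α.locallyFiniteSupport.finite_inter_support_of_isCompact hc).subset ?_
  rintro x ⟨hx, hα⟩
  exact ⟨by rw [Set.mem_preimage, hx]; exact hzU, hα⟩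

open Classical in
theorem map_map {X Y Z : Scheme.{u}} (δX : X → ℤ) (δY : Y → ℤ) (δZ : Z → ℤ)
    (f : X ⟶ Y) (g : Y ⟶ Z) [QuasiCompact f] [QuasiCompact g]
    (hf : Cyc.DeltaCompat f δX δY) (hg : Cyc.DeltaCompat g δY δZ) (α : AlgebraicCycle X ℤ) :
    AlgebraicCycle.map g δY δZ (AlgebraicCycle.map f δX δY α) =
      AlgebraicCycle.map (f ≫ g) δX δZ α := by
  ext z
  simp only [AlgebraicCycle.map, Function.locallyFinsupp.map_apply]
  have hS := finite_fibre_support (f ≫ g) α z
  set T : Finset X := hS.toFinset with hT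
  have hTmem : ∀ x, x ∈ T ↔ (g (f x) = z ∧ α x ≠ 0) := by
    intro x
    rw [hT, Set.Finite.mem_toFinset]
    rfl
  -- right hand side
  have hR : ∑ᶠ x ∈ (f ≫ g) ⁻¹' {z}, α x * ((AlgebraicCycle.mapCoeff (f ≫ g) δX δZ x : ℕ) : ℤ) =
      ∑ x ∈ T, α x * ((AlgebraicCycle.mapCoeff (f ≫ g) δX δZ x : ℕ) : ℤ) := by
    apply finsum_mem_eq_sum_of_subset
    · rintro x ⟨hx1, hx2⟩
      rw [Finset.mem_coe, hTmem]
      refine ⟨hx1, ?_⟩
      intro h0
      apply hx2
      show α x * _ = 0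
      rw [h0, zero_mul]
    · intro x hx
      rw [Finset.mem_coe, hTmem] at hx
      exact hx.1
  -- inner sums
  have hI : ∀ y : Y, g y = z →
      ∑ᶠ x ∈ f ⁻¹' {y}, α x * ((AlgebraicCycle.mapCoeff f δX δY x : ℕ) : ℤ) =
        ∑ x ∈ T.filter (fun x => f x = y), α x * ((AlgebraicCycle.mapCoeff f δX δY x : ℕ) : ℤ) := by
    intro y hy
    apply finsum_mem_eq_sum_of_subset
    · rintro x ⟨hx1, hx2⟩
      have hx1' : f x = y := hx1
      rw [Finset.mem_coe, Finset.mem_filter, hTmem]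
      refine ⟨⟨by rw [hx1', hy], ?_⟩, hx1'⟩
      intro h0
      apply hx2
      show α x * _ = 0
      rw [h0, zero_mul]
    · intro x hx
      rw [Finset.mem_coe, Finset.mem_filter] at hx
      exact hx.2
  -- outer sum
  have hL : ∑ᶠ y ∈ g ⁻¹' {z}, (∑ᶠ x ∈ f ⁻¹' {y}, α x *
        ((AlgebraicCycle.mapCoeff f δX δY x : ℕ) : ℤ)) *
          ((AlgebraicCycle.mapCoeff g δY δZ y : ℕ) : ℤ) =
      ∑ y ∈ T.image (fun x => f x), (∑ᶠ x ∈ f ⁻¹' {y}, α x *
        ((AlgebraicCycle.mapCoeff f δX δY x : ℕ) : ℤ)) *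
          ((AlgebraicCycle.mapCoeff g δY δZ y : ℕ) : ℤ) := by
    apply finsum_mem_eq_sum_of_subset
    · rintro y ⟨hy1, hy2⟩
      have hy1' : g y = z := hy1
      have hne : ∑ᶠ x ∈ f ⁻¹' {y}, α x * ((AlgebraicCycle.mapCoeff f δX δY x : ℕ) : ℤ) ≠ 0 := by
        intro h0
        apply hy2
        show _ * _ = 0
        rw [h0, zero_mul]
      obtain ⟨x, hx1, hx2⟩ := exists_ne_zero_of_finsum_mem_ne_zero hne
      have hx1' : f x = y := hx1
      rw [Finset.mem_coe, Finset.mem_image]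
      refine ⟨x, ?_, hx1'⟩
      rw [hTmem]
      refine ⟨by rw [hx1', hy1'], ?_⟩
      intro h0
      apply hx2
      rw [h0, zero_mul]
    · intro y hy
      rw [Finset.mem_coe, Finset.mem_image] at hy
      obtain ⟨x, hx, rfl⟩ := hy
      exact ((hTmem x).mp hx).1
  rw [hR, hL]
  have hstep : ∀ y ∈ T.image (fun x => f x), (∑ᶠ x ∈ f ⁻¹' {y}, α x *
        ((AlgebraicCycle.mapCoeff f δX δY x : ℕ) : ℤ)) *
          ((AlgebraicCycle.mapCoeff g δY δZ y : ℕ) : ℤ) =
      ∑ x ∈ T.filter (fun x => f x = y), α x *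
        ((AlgebraicCycle.mapCoeff (f ≫ g) δX δZ x : ℕ) : ℤ) := by
    intro y hy
    rw [Finset.mem_image] at hy
    obtain ⟨x₀, hx₀, rfl⟩ := hy
    rw [hI (f x₀) ((hTmem x₀).mp hx₀).1, Finset.sum_mul]
    apply Finset.sum_congr rfl
    intro x hx
    rw [Finset.mem_filter] at hx
    rw [mapCoeff_comp f g δX δY δZ hf hg x, hx.2]
    push_cast
    ring
  rw [Finset.sum_congr rfl hstep]
  exact Finset.sum_fiberwise_of_maps_to (fun x hx => Finset.mem_image_of_mem _ hx) _

end Groth.Agent.Helper3.CycPush
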