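import Mathlib
import Groth.Prelude
import Groth.Agent.Helper3.OrdOpen

set_option autoImplicit false
set_option linter.style.haveILetI false
set_option linter.unusedSectionVars false
set_option linter.unusedVariables false
set_option linter.deprecated false
set_option linter.style.haveILetI false
set_option linter.unusedSectionVars false
set_option linter.unusedVariables false

namespace Groth.Agent.Helper3.DivTrA

universe u v

open AlgebraicGeometry CategoryTheory

section ring

variable {R R' : Type u} [CommRing R] [CommRing R'] (φ : R ≃+* R')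
  {K K' : Type v} [Field K] [Field K'] [Algebra R K] [Algebra R' K']
  (ψ : K ≃+* K') (hψ : ∀ r, ψ (algebraMap R K r) = algebraMap R' K' (φ r))

theorem map_nzd {x : R} (hx : x ∈ nonZeroDivisors R) : φ x ∈ nonZeroDivisors R' := by
  rw [← MulEquivClass.map_nonZeroDivisors φ]
  exact Submonoid.mem_map_of_mem _ hx

include hψ in
theorem isFractionRing_of_equiv [IsFractionRing R K] : IsFractionRing R' K' := by
  have hψ' : ∀ r', ψ.symm (algebraMap R' K' r') = algebraMap R K (φ.symm r') := by
    intro r'
    apply ψ.injective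
    rw [ψ.apply_symm_apply, hψ, φ.apply_symm_apply]
  have hnzd : ∀ y' : R', y' ∈ nonZeroDivisors R' → φ.symm y' ∈ nonZeroDivisors R := by
    intro y' hy'
    exact map_nzd φ.symm hy'
  refine ⟨?_, ?_, ?_⟩
  · rintro ⟨y', hy'⟩
    have h1 : IsUnit (algebraMap R K (φ.symm y')) :=
      IsLocalization.map_units K ⟨φ.symm y', hnzd y' hy'⟩
    have h2 := h1.map (ψ : K →+* K')
    simpa [hψ] using h2
  · intro z'
    obtain ⟨⟨x, y⟩, hxy⟩ := IsLocalization.surj (nonZeroDivisors R) (ψ.symm z')
    refine ⟨⟨φ x, ⟨φ y, ?_⟩⟩, ?_⟩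
    · exact map_nzd φ y.2
    · have := congrArg ψ hxy
      simpa [hψ] using this
  · intro x' y' hxy
    have h1 : algebraMap R K (φ.symm x') = algebraMap R K (φ.symm y') := by
      rw [← hψ', ← hψ', hxy]
    obtain ⟨c, hc⟩ := IsLocalization.exists_of_eq (M := nonZeroDivisors R) h1
    refine ⟨⟨φ c, map_nzd φ c.2⟩, ?_⟩
    have := congrArg φ hc
    simpa using this

include φ in
theorem krullDimLE_of_equiv (n : ℕ) [h : Ring.KrullDimLE n R] : Ring.KrullDimLE n R' := by
  rw [Ring.krullDimLE_iff] at *
  rwa [← ringKrullDim_eq_of_ringEquiv φ]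

include hψ in
theorem cycOrdFrac_equiv (y : K) :
    CycAlg.ordFrac R' K' (ψ y) = CycAlg.ordFrac R K y := by
  classical
  have hψs : ∀ r', ψ.symm (algebraMap R' K' r') = algebraMap R K (φ.symm r') := by
    intro r'
    apply ψ.injective
    rw [ψ.apply_symm_apply, hψ, φ.apply_symm_apply]
  have hiff : (IsNoetherianRing R ∧ Ring.KrullDimLE 1 R ∧ Nontrivial R ∧ IsFractionRing R K) ↔
      (IsNoetherianRing R' ∧ Ring.KrullDimLE 1 R' ∧ Nontrivial R' ∧ IsFractionRing R' K') := by
    constructor
    · rintro ⟨h1, h2, h3, h4⟩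
      exact ⟨isNoetherianRing_of_ringEquiv R φ, krullDimLE_of_equiv φ 1,
        (by haveI := h3; exact φ.injective.nontrivial), isFractionRing_of_equiv φ ψ hψ⟩
    · rintro ⟨h1, h2, h3, h4⟩
      exact ⟨isNoetherianRing_of_ringEquiv R' φ.symm, krullDimLE_of_equiv φ.symm 1,
        (by haveI := h3; exact φ.symm.injective.nontrivial),
        isFractionRing_of_equiv φ.symm ψ.symm hψs⟩
  unfold CycAlg.ordFrac
  by_cases h : IsNoetherianRing R ∧ Ring.KrullDimLE 1 R ∧ Nontrivial R ∧ IsFractionRing R K
  · have h' := hiff.1 h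
    rw [dif_pos h, dif_pos h']
    haveI := h.1; haveI := h.2.1; haveI := h.2.2.1; haveI := h.2.2.2
    haveI := h'.1; haveI := h'.2.1; haveI := h'.2.2.1; haveI := h'.2.2.2
    haveI : IsDomain R := (IsFractionRing.injective R K).isDomain
    haveI : IsDomain R' := (IsFractionRing.injective R' K').isDomain
    have := OrdOpen.ordFrac_equiv φ (K := K) (K' := K') (ψ : K →+* K') hψ y
    show WithZero.recZeroCoe (motive := fun _ => ℤ) 0 (fun z => Multiplicative.toAdd z)
      (Ring.ordFrac R' ((ψ : K →+* K') y)) = _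
    rw [this]
  · have h' : ¬ (IsNoetherianRing R' ∧ Ring.KrullDimLE 1 R' ∧ Nontrivial R' ∧
        IsFractionRing R' K') := fun h' => h (hiff.2 h')
    rw [dif_neg h, dif_neg h']

end ring

end Groth.Agent.Helper3.DivTrA
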