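import Mathlib
import Groth.Prelude
import Groth.Agent.Helper3.DivTrA

set_option autoImplicit false
set_option linter.style.haveILetI false
set_option linter.unusedSectionVars false
set_option linter.unusedVariables false
set_option linter.deprecated false
set_option linter.style.haveILetI false
set_option linter.unusedSectionVars false
set_option linter.unusedVariables false

namespace Groth.Agent.Helper3.DivTrB

universe u

open AlgebraicGeometry CategoryTheory

variable {X Y : Scheme.{u}} (f : Y ⟶ X)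

theorem specMap_stalkMap (x ξ : Y) (h : ξ ⤳ x) (a : X.presheaf.stalk (f x)) :
    Cyc.specMap x ξ h (f.stalkMap x a) =
      f.residueFieldMap ξ (Cyc.specMap (f x) (f ξ) (h.map f.continuous) a) := by
  unfold Cyc.specMap
  have h1 := Scheme.Hom.stalkSpecializes_stalkMap_apply f ξ x h a
  have h2 := congrArg (fun g => g.hom (X.presheaf.stalkSpecializes (h.map f.continuous) a))
    (Scheme.residue_residueFieldMap f ξ)
  simp only [CommRingCat.hom_comp, RingHom.comp_apply] at h2 ⊢
  rw [← h1]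
  exact h2.symm

variable [SurjectiveOnStalks f]

theorem residueFieldMap_bijective (ξ : Y) : Function.Bijective (f.residueFieldMap ξ).hom := by
  refine ⟨(f.residueFieldMap ξ).hom.injective, ?_⟩
  intro z
  obtain ⟨b, rfl⟩ := IsLocalRing.residue_surjective z
  obtain ⟨a, rfl⟩ := f.stalkMap_surjective ξ b
  refine ⟨X.residue (f ξ) a, ?_⟩
  have h2 := congrArg (fun g => g.hom a) (Scheme.residue_residueFieldMap f ξ)
  simp only [CommRingCat.hom_comp, RingHom.comp_apply] at h2
  exact h2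

/-- the residue field iso -/
noncomputable def ψ (ξ : Y) : X.residueField (f ξ) ≃+* Y.residueField ξ :=
  RingEquiv.ofBijective (f.residueFieldMap ξ).hom (residueFieldMap_bijective f ξ)

theorem ker_le (x ξ : Y) (h : ξ ⤳ x) :
    RingHom.ker (Cyc.specMap (f x) (f ξ) (h.map f.continuous)) =
      (RingHom.ker (Cyc.specMap x ξ h)).comap (f.stalkMap x).hom := by
  ext a
  rw [Ideal.mem_comap, RingHom.mem_ker, RingHom.mem_ker]
  have := specMap_stalkMap f x ξ h a
  change Cyc.specMap x ξ h ((f.stalkMap x).hom a) = _ at this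
  rw [this]
  exact (map_eq_zero_iff _ (f.residueFieldMap ξ).hom.injective).symm

/-- the iso of local quotient rings -/
noncomputable def φ (x ξ : Y) (h : ξ ⤳ x) :
    Cyc.LocQuot (f x) (f ξ) (h.map f.continuous) ≃+* Cyc.LocQuot x ξ h :=
  RingEquiv.ofBijective
    (Ideal.quotientMap (RingHom.ker (Cyc.specMap x ξ h)) (f.stalkMap x).hom
      (ker_le f x ξ h).le)
    ⟨Ideal.quotientMap_injective' (ker_le f x ξ h).ge,
      Ideal.quotientMap_surjective (f.stalkMap_surjective x)⟩

theorem φ_mk (x ξ : Y) (h : ξ ⤳ x) (a : X.presheaf.stalk (f x)) :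
    φ f x ξ h (Ideal.Quotient.mk _ a) = Ideal.Quotient.mk _ (f.stalkMap x a) := rfl

theorem algebraMap_mk {Z : Scheme.{u}} (x ξ : Z) (h : ξ ⤳ x) (a : Z.presheaf.stalk x) :
    algebraMap (Cyc.LocQuot x ξ h) (Z.residueField ξ) (Ideal.Quotient.mk _ a) =
      Cyc.specMap x ξ h a := rfl

theorem ordAt_map (x ξ : Y) (h : ξ ⤳ x) (g : X.residueField (f ξ)) :
    Cyc.ordAt x ξ h (f.residueFieldMap ξ g) =
      Cyc.ordAt (f x) (f ξ) (h.map f.continuous) g := by
  unfold Cyc.ordAt
  refine DivTrA.cycOrdFrac_equiv (φ f x ξ h) (ψ f ξ) ?_ g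
  intro r
  obtain ⟨a, rfl⟩ := Ideal.Quotient.mk_surjective r
  rw [φ_mk, algebraMap_mk, algebraMap_mk]
  exact (specMap_stalkMap f x ξ h a).symm

omit [SurjectiveOnStalks f] in
theorem divFun_map [IsPreimmersion f] (δ : X → ℤ) (x ξ : Y) (g : X.residueField (f ξ)) :
    Cyc.divFun δ (f ξ) g (f x) =
      Cyc.divFun (fun y => δ (f y)) ξ (f.residueFieldMap ξ g) x := by
  unfold Cyc.divFun
  have hiff : (f ξ ⤳ f x) ↔ (ξ ⤳ x) := f.isEmbedding.isInducing.specializes_iff
  by_cases hc : ξ ⤳ x ∧ δ (f x) + 1 = δ (f ξ)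
  · have hc' : f ξ ⤳ f x ∧ δ (f x) + 1 = δ (f ξ) := ⟨hiff.2 hc.1, hc.2⟩
    rw [dif_pos hc, dif_pos hc']
    exact (ordAt_map f x ξ hc.1 g).symm
  · have hc' : ¬ (f ξ ⤳ f x ∧ δ (f x) + 1 = δ (f ξ)) := fun h' => hc ⟨hiff.1 h'.1, h'.2⟩
    rw [dif_neg hc, dif_neg hc']

end Groth.Agent.Helper3.DivTrB
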