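import Mathlib
import Groth.Prelude
import Groth.Agent.Helper3.DivTrB

set_option autoImplicit false
set_option linter.style.haveILetI false
set_option linter.unusedSectionVars false
set_option linter.unusedVariables false
set_option linter.deprecated false
set_option linter.style.haveILetI false
set_option linter.unusedSectionVars false
set_option linter.unusedVariables false

namespace Groth.Agent.Helper3.DivTrC

universe u

open AlgebraicGeometry CategoryTheory TopologicalSpace

/-- In a Noetherian quasi-sober T0 space a closed set has finitely many maximal points. -/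
theorem finite_maximal {V : Type*} [TopologicalSpace V] [NoetherianSpace V] [QuasiSober V]
    [T0Space V] (C : Set V) (hC : IsClosed C) :
    {y | y ∈ C ∧ ∀ t ∈ C, t ⤳ y → t = y}.Finite := by
  obtain ⟨S, hSfin, hScl, hSirr, hS⟩ := NoetherianSpace.exists_finite_set_isClosed_irreducible hC
  have hsub : {y | y ∈ C ∧ ∀ t ∈ C, t ⤳ y → t = y} ⊆
      ⋃ Z ∈ S, {y | IsGenericPoint y Z} := by
    rintro y ⟨hyC, hymax⟩
    rw [hS] at hyC
    obtain ⟨Z, hZS, hyZ⟩ := hyC
    obtain ⟨t, ht⟩ := QuasiSober.sober (hSirr Z hZS) (hScl Z hZS)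
    have htZ : t ∈ Z := ht.mem
    have htC : t ∈ C := by rw [hS]; exact ⟨Z, hZS, htZ⟩
    have hty : t ⤳ y := ht.specializes hyZ
    have := hymax t htC hty
    subst this
    simp only [Set.mem_iUnion, Set.mem_setOf_eq]
    exact ⟨Z, hZS, ht⟩
  refine (hSfin.biUnion (fun Z _ => ?_)).subset hsub
  apply Set.Subsingleton.finite
  intro a ha b hb
  exact ha.eq hb

variable {X : Scheme.{u}}

/-- every point of a locally Noetherian scheme has an open neighbourhood which is a Noetherian
space -/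
theorem exists_noetherian_nhd [IsLocallyNoetherian X] (x : X) :
    ∃ V : X.Opens, x ∈ V ∧ NoetherianSpace V := by
  obtain ⟨V, hV, hxV, -⟩ := exists_isAffineOpen_mem_and_subset (x := x) (U := ⊤) trivial
  haveI : IsNoetherianRing Γ(X, V) := IsLocallyNoetherian.component_noetherian ⟨V, hV⟩
  exact ⟨V, hxV, noetherianSpace_of_isAffineOpen V hV⟩

/-- A family locally finite on an open subscheme of a locally Noetherian scheme is locally finite
on the scheme. -/
theorem locallyFinite_of_open [IsLocallyNoetherian X] (U : X.Opens) {ι : Type*}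
    (ξ : ι → ↥U)
    (hlf : ∀ u : ↥U, ∃ W : Set ↥U, IsOpen W ∧ u ∈ W ∧ {i | (closure {ξ i} ∩ W).Nonempty}.Finite)
    (x : X) :
    ∃ V : X.Opens, x ∈ V ∧ NoetherianSpace V ∧ {i | ((ξ i : X) ∈ V)}.Finite ∧
      {i | (closure {(ξ i : X)} ∩ (V : Set X)).Nonempty}.Finite := by
  obtain ⟨V, hxV, hVn⟩ := exists_noetherian_nhd x
  have hcompX : IsCompact ((V : Set X) ∩ U) :=
    (noetherianSpace_set_iff (V : Set X)).1 hVn _ Set.inter_subset_left
  have hK : IsCompact ((Subtype.val : ↥U → X) ⁻¹' (V : Set X)) := by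
    rw [Topology.IsInducing.subtypeVal.isCompact_iff]
    have : (Subtype.val : ↥U → X) '' ((Subtype.val : ↥U → X) ⁻¹' (V : Set X)) = (V : Set X) ∩ U := by
      rw [Set.image_preimage_eq_inter_range, Subtype.range_coe_subtype]; rfl
    exact this ▸ hcompX
  choose W hWo huW hWfin using hlf
  obtain ⟨t, htK, ht⟩ := hK.elim_nhds_subcover W (fun u _ => (hWo u).mem_nhds (huW u))
  have hfin1 : {i | ((ξ i : X) ∈ V)}.Finite := by
    refine ((t.finite_toSet.biUnion (fun u _ => hWfin u))).subset ?_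
    intro i hi
    have hiK : ξ i ∈ (Subtype.val : ↥U → X) ⁻¹' (V : Set X) := hi
    obtain ⟨u, hut, hiu⟩ := Set.mem_iUnion₂.1 (ht hiK)
    exact Set.mem_iUnion₂.2 ⟨u, hut, ⟨ξ i, subset_closure (Set.mem_singleton _), hiu⟩⟩
  refine ⟨V, hxV, hVn, hfin1, hfin1.subset ?_⟩
  rintro i ⟨y, hy1, hy2⟩
  have hsp : (ξ i : X) ⤳ y := specializes_iff_mem_closure.2 hy1
  exact hsp.mem_open V.isOpen hy2

/-- finitely many codimension one points of the closure of `ξ₀` lie outside an open `U ∋ ξ₀`,
within a Noetherian open `V`. -/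
theorem finite_boundary (δ : X → ℤ) (hδ : Cyc.IsDimFun X δ) (U V : X.Opens)
    (hVn : NoetherianSpace V) (ξ₀ : X) (hξ₀ : ξ₀ ∈ U) :
    {y : X | y ∈ V ∧ y ∉ U ∧ ξ₀ ⤳ y ∧ δ y + 1 = δ ξ₀}.Finite := by
  haveI : NoetherianSpace ↥V := hVn
  haveI : QuasiSober ↥V := V.isOpen.isOpenEmbedding_subtypeVal.quasiSober
  let C : Set ↥V := (Subtype.val : ↥V → X) ⁻¹' (closure {ξ₀} ∩ (U : Set X)ᶜ)
  have hC : IsClosed C :=
    (isClosed_closure.inter U.isOpen.isClosed_compl).preimage continuous_subtype_val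
  have hfin := finite_maximal C hC
  refine (hfin.image (Subtype.val : ↥V → X)).subset ?_
  rintro y ⟨hyV, hyU, hsp, hδy⟩
  refine ⟨⟨y, hyV⟩, ⟨⟨specializes_iff_mem_closure.1 hsp, hyU⟩, ?_⟩, rfl⟩
  rintro t ⟨ht1, ht2⟩ hty
  have hty' : (t : X) ⤳ y := (subtype_specializes_iff _ _).1 hty
  have hξt : ξ₀ ⤳ (t : X) := specializes_iff_mem_closure.2 ht1
  by_contra hne
  have hne' : (t : X) ≠ y := fun h => hne (Subtype.ext h)
  have h1 := (hδ _ _ hty' hne').1
  have hne2 : ξ₀ ≠ (t : X) := fun h => ht2 (h ▸ hξ₀)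
  have h2 := (hδ _ _ hξt hne2).1
  omega

end Groth.Agent.Helper3.DivTrC
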