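import Mathlib
import Groth.Prelude
import Groth.Agent.Helper3.DivTrC

set_option autoImplicit false
set_option linter.style.haveILetI false
set_option linter.unusedSectionVars false
set_option linter.unusedVariables false
set_option linter.deprecated false
set_option linter.style.haveILetI false
set_option linter.unusedSectionVars false
set_option linter.unusedVariables false

namespace Groth.Agent.Helper3.DivTrE

universe u

open AlgebraicGeometry CategoryTheory TopologicalSpace

variable {X Z : Scheme.{u}}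

theorem residueDegree_eq_one (i : Z ⟶ X) [SurjectiveOnStalks i] (z : Z) :
    i.residueDegree z = 1 := by
  unfold Scheme.Hom.residueDegree
  letI := (i.residueFieldMap z).hom.toAlgebra
  have hbij : Function.Bijective (algebraMap (X.residueField (i z)) (Z.residueField z)) :=
    DivTrB.residueFieldMap_bijective i z
  have e : (X.residueField (i z)) ≃ₗ[X.residueField (i z)] (Z.residueField z) :=
    LinearEquiv.ofBijective (Algebra.linearMap _ _) hbij
  rw [← e.finrank_eq]
  exact Module.finrank_self _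

theorem map_apply_of_preimmersion (i : Z ⟶ X) [IsPreimmersion i] [QuasiCompact i]
    (wx : Z → ℤ) (wy : X → ℤ) (hw : ∀ z, wx z = wy (i z)) (c : AlgebraicCycle Z ℤ) (z : Z) :
    AlgebraicCycle.map i wx wy c (i z) = c z := by
  simp only [AlgebraicCycle.map, Function.locallyFinsupp.map_apply]
  have hfib : (i : Z → X) ⁻¹' {i z} = {z} := by
    ext y
    simp only [Set.mem_preimage, Set.mem_singleton_iff]
    exact ⟨fun h => i.isEmbedding.injective h, fun h => by rw [h]⟩
  rw [hfib, finsum_mem_singleton]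
  unfold AlgebraicCycle.mapCoeff
  rw [if_pos (hw z), residueDegree_eq_one]
  simp

theorem map_apply_of_notMem (i : Z ⟶ X) [QuasiCompact i]
    (wx : Z → ℤ) (wy : X → ℤ) (c : AlgebraicCycle Z ℤ) (x : X) (hx : x ∉ Set.range i) :
    AlgebraicCycle.map i wx wy c x = 0 := by
  simp only [AlgebraicCycle.map, Function.locallyFinsupp.map_apply]
  have hfib : (i : Z → X) ⁻¹' {x} = ∅ := by
    ext y
    simp only [Set.mem_preimage, Set.mem_singleton_iff, Set.mem_empty_iff_false, iff_false]
    exact fun h => hx ⟨y, h⟩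
  rw [hfib, finsum_mem_empty]

theorem divFun_cast (δ : X → ℤ) {ξ ξ' : X} (e : ξ' = ξ) (f : X.residueField ξ) :
    Cyc.divFun δ ξ f = Cyc.divFun δ ξ' (e ▸ f) := by
  subst e; rfl

theorem cast_ne_zero {ξ ξ' : X} (e : ξ' = ξ) (f : X.residueField ξ) (hf : f ≠ 0) :
    (e ▸ f : X.residueField ξ') ≠ 0 := by
  subst e; exact hf

theorem cast_inv {ξ ξ' : X} (e : ξ' = ξ) (f : X.residueField ξ) :
    (e ▸ f⁻¹ : X.residueField ξ') = (e ▸ f : X.residueField ξ')⁻¹ := by
  subst e; rfl

theorem divFun_cond (δ : X → ℤ) (ξ : X) (f : X.residueField ξ) (x : X)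
    (h : Cyc.divFun δ ξ f x ≠ 0) : ξ ⤳ x ∧ δ x + 1 = δ ξ := by
  by_contra hc
  apply h
  unfold Cyc.divFun
  rw [dif_neg hc]

theorem cycOrdFrac_inv (R : Type u) [CommRing R] (K : Type u) [Field K] [Algebra R K] (f : K) :
    CycAlg.ordFrac R K f⁻¹ = - CycAlg.ordFrac R K f := by
  classical
  unfold CycAlg.ordFrac
  by_cases h : IsNoetherianRing R ∧ Ring.KrullDimLE 1 R ∧ Nontrivial R ∧ IsFractionRing R K
  · rw [dif_pos h, dif_pos h]
    haveI := h.1; haveI := h.2.1; haveI := h.2.2.1; haveI := h.2.2.2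
    haveI : IsDomain R := (IsFractionRing.injective R K).isDomain
    show WithZero.recZeroCoe (motive := fun _ => ℤ) 0 (fun z => Multiplicative.toAdd z)
      (Ring.ordFrac R f⁻¹) = - WithZero.recZeroCoe (motive := fun _ => ℤ) 0
        (fun z => Multiplicative.toAdd z) (Ring.ordFrac R f)
    rw [map_inv₀]
    generalize Ring.ordFrac R f = w
    induction w using WithZero.recZeroCoe with
    | zero => simp
    | coe a =>
      rw [← WithZero.coe_inv, WithZero.recZeroCoe_coe, WithZero.recZeroCoe_coe]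
      rfl
  · rw [dif_neg h, dif_neg h]; simp

theorem divFun_inv (δ : X → ℤ) (ξ : X) (f : X.residueField ξ) (x : X) :
    Cyc.divFun δ ξ f⁻¹ x = - Cyc.divFun δ ξ f x := by
  unfold Cyc.divFun
  by_cases hc : ξ ⤳ x ∧ δ x + 1 = δ ξ
  · rw [dif_pos hc, dif_pos hc]
    unfold Cyc.ordAt
    exact cycOrdFrac_inv _ _ f
  · rw [dif_neg hc, dif_neg hc]; simp

end Groth.Agent.Helper3.DivTrE
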