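import Mathlib
import Groth.Prelude
import Groth.Agent.Helper3.DivTrE
import Groth.Agent.Helper5.LocDomTr1
import Groth.Agent.Helper3.CycPush

/-!
# Transfer of the cycle formalism along closed immersions
-/

set_option autoImplicit false
set_option linter.style.haveILetI false
set_option linter.unusedSectionVars false
set_option linter.unusedVariables false
set_option linter.deprecated false
set_option linter.style.haveILetI false
set_option linter.unusedSectionVars false
set_option linter.unusedVariables false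

universe u

open CategoryTheory CategoryTheory.Limits AlgebraicGeometry TopologicalSpace Opposite

namespace Groth.Agent.Helper3.PushRat

section uc

theorem isUniversallyCatenary_of_surjective {R R' : Type u} [CommRing R] [CommRing R']
    (φ : R →+* R') (hφ : Function.Surjective φ) (h : CAlg.IsUniversallyCatenary R) :
    CAlg.IsUniversallyCatenary R' := by
  obtain ⟨hN, hc⟩ := h
  haveI := hN
  refine ⟨isNoetherianRing_of_surjective R R' φ hφ, ?_⟩
  intro S _ _ hS
  letI : Algebra R R' := φ.toAlgebra
  letI : Algebra R S := ((algebraMap R' S).comp φ).toAlgebra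
  haveI : IsScalarTower R R' S := IsScalarTower.of_algebraMap_eq (fun r => rfl)
  have h1 : Algebra.FiniteType R R' := Algebra.FiniteType.of_surjective (Algebra.ofId R R') hφ
  exact hc S (Algebra.FiniteType.trans h1 hS)

end uc

section ci

variable {W X : Scheme.{u}} (i : W ⟶ X) [IsClosedImmersion i]

theorem specializes_iff_ci (w w' : W) : w ⤳ w' ↔ i w ⤳ i w' :=
  (i.isClosedEmbedding.isEmbedding.isInducing.specializes_iff).symm

theorem exists_of_specializes (w : W) (x : X) (h : i w ⤳ x) : ∃ w' : W, i w' = x := by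
  have hcl : IsClosed (Set.range i) := i.isClosedEmbedding.isClosed_range
  have : x ∈ Set.range i := h.mem_closed hcl ⟨w, rfl⟩
  exact this

theorem isDimFun_ci (δ : X → ℤ) (hδ : Cyc.IsDimFun X δ) : Cyc.IsDimFun W (fun w => δ (i w)) := by
  intro w w' hsp hne
  have hsp' : i w ⤳ i w' := (specializes_iff_ci i w w').mp hsp
  have hne' : i w ≠ i w' := fun h => hne (i.isClosedEmbedding.injective h)
  obtain ⟨h1, h2⟩ := hδ _ _ hsp' hne'
  refine ⟨h1, fun himm => h2 ?_⟩
  intro z hz1 hz2
  obtain ⟨z', rfl⟩ := exists_of_specializes i w z hz1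
  rcases himm z' ((specializes_iff_ci i w z').mpr hz1) ((specializes_iff_ci i z' w').mpr hz2) with
    h | h
  · left; rw [h]
  · right; rw [h]

theorem isSetup_ci (δ : X → ℤ) (h : Cyc.IsSetup X δ) : Cyc.IsSetup W (fun w => δ (i w)) := by
  haveI : IsLocallyNoetherian X := h.1
  refine ⟨LocallyOfFiniteType.isLocallyNoetherian i, fun w => ?_, isDimFun_ci i δ h.2.2⟩
  exact isUniversallyCatenary_of_surjective (i.stalkMap w).hom (i.stalkMap_surjective w)
    (h.2.1 (i w))

end ci

section compat

variable {W X Y : Scheme.{u}}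

/-- precomposition with a morphism which is surjective on stalks -/
theorem deltaCompat_comp_left (i : W ⟶ X) [SurjectiveOnStalks i] (p : X ⟶ Y) (δX : X → ℤ)
    (δY : Y → ℤ) (hδ : Cyc.DeltaCompat p δX δY) :
    Cyc.DeltaCompat (i ≫ p) (fun w => δX (i w)) δY := by
  intro w
  obtain ⟨n, hn, hd⟩ := hδ (i w)
  refine ⟨n, ?_, hd⟩
  rw [← hn]
  letI a1 : Algebra (Y.residueField (p (i w))) (X.residueField (i w)) :=
    (p.residueFieldMap (i w)).hom.toAlgebra
  letI a2 : Algebra (Y.residueField ((i ≫ p) w)) (W.residueField w) :=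
    ((i ≫ p).residueFieldMap w).hom.toAlgebra
  symm
  refine Groth.Agent.Helper5.LocDomTr.trdeg_congr₂
    (RingEquiv.refl (Y.residueField (p (i w)))) (DivTrB.ψ i w) ?_
  intro c
  change (i.residueFieldMap w).hom ((p.residueFieldMap (i w)).hom c) =
    ((i ≫ p).residueFieldMap w).hom c
  rw [Scheme.residueFieldMap_comp]
  rfl

/-- cancelling a morphism which is surjective on stalks on the right -/
theorem deltaCompat_of_comp_right (q : W ⟶ X) (i : X ⟶ Y) [SurjectiveOnStalks i] (δW : W → ℤ)
    (δY : Y → ℤ) (hδ : Cyc.DeltaCompat (q ≫ i) δW δY) :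
    Cyc.DeltaCompat q δW (fun x => δY (i x)) := by
  intro w
  obtain ⟨n, hn, hd⟩ := hδ w
  refine ⟨n, ?_, hd⟩
  rw [← hn]
  letI a1 : Algebra (Y.residueField ((q ≫ i) w)) (W.residueField w) :=
    ((q ≫ i).residueFieldMap w).hom.toAlgebra
  letI a2 : Algebra (X.residueField (q w)) (W.residueField w) :=
    (q.residueFieldMap w).hom.toAlgebra
  symm
  refine Groth.Agent.Helper5.LocDomTr.trdeg_congr₂ (DivTrB.ψ i (q w))
    (RingEquiv.refl (W.residueField w)) ?_
  intro c
  change ((q ≫ i).residueFieldMap w).hom c =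
    (q.residueFieldMap w).hom ((i.residueFieldMap (q w)).hom c)
  rw [Scheme.residueFieldMap_comp]
  rfl

theorem mapCoeff_comp_left (i : W ⟶ X) [SurjectiveOnStalks i] (p : X ⟶ Y) (δX : X → ℤ)
    (δY : Y → ℤ) (w : W) :
    AlgebraicCycle.mapCoeff (i ≫ p) (fun w => δX (i w)) δY w =
      AlgebraicCycle.mapCoeff p δX δY (i w) := by
  unfold AlgebraicCycle.mapCoeff
  rw [CycPush.residueDegree_comp, DivTrE.residueDegree_eq_one i w, mul_one]
  rfl

theorem mapCoeff_comp_right (q : W ⟶ X) (i : X ⟶ Y) [SurjectiveOnStalks i] (δW : W → ℤ)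
    (δY : Y → ℤ) (w : W) :
    AlgebraicCycle.mapCoeff (q ≫ i) δW δY w =
      AlgebraicCycle.mapCoeff q δW (fun x => δY (i x)) w := by
  unfold AlgebraicCycle.mapCoeff
  rw [CycPush.residueDegree_comp, DivTrE.residueDegree_eq_one i (q w), one_mul]
  rfl

theorem normGen_comp_left (i : W ⟶ X) [SurjectiveOnStalks i] (p : X ⟶ Y) (w : W)
    (g : X.residueField (i w)) :
    Cyc.normGen (i ≫ p) w ((i.residueFieldMap w).hom g) = Cyc.normGen p (i w) g := by
  unfold Cyc.normGen
  letI a1 : Algebra (Y.residueField (p (i w))) (X.residueField (i w)) :=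
    (p.residueFieldMap (i w)).hom.toAlgebra
  letI a2 : Algebra (Y.residueField (p (i w))) (W.residueField w) :=
    ((i ≫ p).residueFieldMap w).hom.toAlgebra
  have h := Algebra.norm_eq_of_equiv_equiv (RingEquiv.refl (Y.residueField (p (i w))))
    (DivTrB.ψ i w) (by
      ext c
      change ((i ≫ p).residueFieldMap w).hom c =
        (i.residueFieldMap w).hom ((p.residueFieldMap (i w)).hom c)
      rw [Scheme.residueFieldMap_comp]
      rfl) g
  exact h.symm

theorem normGen_comp_right (q : W ⟶ X) (i : X ⟶ Y) [SurjectiveOnStalks i] (w : W)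
    (g : W.residueField w) :
    (i.residueFieldMap (q w)).hom (Cyc.normGen (q ≫ i) w g) = Cyc.normGen q w g := by
  unfold Cyc.normGen
  letI a1 : Algebra (Y.residueField (i (q w))) (W.residueField w) :=
    ((q ≫ i).residueFieldMap w).hom.toAlgebra
  letI a2 : Algebra (X.residueField (q w)) (W.residueField w) :=
    (q.residueFieldMap w).hom.toAlgebra
  have h := Algebra.norm_eq_of_equiv_equiv (DivTrB.ψ i (q w))
    (RingEquiv.refl (W.residueField w)) (by
      ext c
      change (q.residueFieldMap w).hom ((i.residueFieldMap (q w)).hom c) =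
        ((q ≫ i).residueFieldMap w).hom c
      rw [Scheme.residueFieldMap_comp]
      rfl) g
  have h2 := congrArg (DivTrB.ψ i (q w)) h
  rw [RingEquiv.apply_symm_apply] at h2
  exact h2

end compat

end Groth.Agent.Helper3.PushRat
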