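import Mathlib
import Groth.Prelude
import Groth.Agent.S0603
import Groth.Agent.S9126
import Groth.Agent.Helper2.CplCM
import Groth.Agent.Helper3.CycPBE
import Groth.Agent.Helper3.PushRatC

set_option autoImplicit false
set_option linter.style.haveILetI false
set_option linter.unusedSectionVars false
set_option linter.unusedVariables false
set_option linter.deprecated false
set_option linter.style.haveILetI false
set_option linter.unusedSectionVars false
set_option linter.unusedVariables false

universe u

open CategoryTheory CategoryTheory.Limits AlgebraicGeometry TopologicalSpace Opposite IsLocalRing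

namespace Groth.Agent.Helper3.DvrBase

section base

variable (R : Type u) [CommRing R] [IsDomain R] [IsDiscreteValuationRing R]

/-- a discrete valuation ring is universally catenary -/
theorem isUniversallyCatenary_dvr : CAlg.IsUniversallyCatenary R := by
  haveI : IsRegularRing R := inferInstance
  haveI : LocCoh.IsCohenMacaulayRing R := Groth.Agent.Helper2.CplCM.cm_of_isRegularRing R
  exact Groth.Agent.S0603.result R

open Classical in
/-- the dimension function on the spectrum of a discrete valuation ring -/
noncomputable def δR : ↥(Spec (CommRingCat.of R)) → ℤ :=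
  fun p => if p = IsLocalRing.closedPoint R then 0 else 1

theorem δR_closedPoint : δR R (IsLocalRing.closedPoint R) = 0 := by
  unfold δR
  rw [if_pos rfl]

theorem δR_of_ne (p : ↥(Spec (CommRingCat.of R))) (h : p ≠ IsLocalRing.closedPoint R) :
    δR R p = 1 := by
  unfold δR
  rw [if_neg h]

theorem eq_closedPoint_of_ne_bot (p : ↥(Spec (CommRingCat.of R))) (h : p.asIdeal ≠ ⊥) :
    p = IsLocalRing.closedPoint R := by
  apply PrimeSpectrum.ext
  have hmax : p.asIdeal.IsMaximal := p.isPrime.isMaximal h
  exact IsLocalRing.eq_maximalIdeal hmax

theorem isSetup_specR : Cyc.IsSetup (Spec (CommRingCat.of R)) (δR R) := by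
  refine ⟨inferInstance, ?_, ?_⟩
  · intro p
    have hUC := isUniversallyCatenary_dvr R
    letI : Algebra R ((Spec (CommRingCat.of R)).presheaf.stalk p) :=
      StructureSheaf.stalkAlgebra R p
    haveI : IsLocalization.AtPrime ((Spec (CommRingCat.of R)).presheaf.stalk p) p.asIdeal :=
      StructureSheaf.IsLocalization.to_stalk R p
    haveI : Algebra.EssFiniteType R ((Spec (CommRingCat.of R)).presheaf.stalk p) :=
      Algebra.EssFiniteType.of_isLocalization _ p.asIdeal.primeCompl
    exact Groth.Agent.S9126.result R _ hUC
  · intro x y hxy hne
    have hle : x.asIdeal ≤ y.asIdeal := (PrimeSpectrum.le_iff_specializes x y).mpr hxy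
    have hy : y = IsLocalRing.closedPoint R := by
      apply eq_closedPoint_of_ne_bot
      intro hy0
      apply hne
      apply PrimeSpectrum.ext
      rw [hy0] at hle ⊢
      exact le_bot_iff.mp hle
    have hx : x ≠ IsLocalRing.closedPoint R := by
      rw [← hy]
      exact hne
    rw [hy, δR_closedPoint, δR_of_ne R x hx]
    exact ⟨by norm_num, fun _ => by norm_num⟩

end base

end Groth.Agent.Helper3.DvrBase
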