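import Mathlib
import Groth.Prelude
import Groth.Agent.Helper3.DvrA
import Groth.Agent.Helper5.MaxPt1

set_option autoImplicit false
set_option linter.style.haveILetI false
set_option linter.unusedSectionVars false
set_option linter.unusedVariables false
set_option linter.deprecated false
set_option linter.style.haveILetI false
set_option linter.unusedSectionVars false
set_option linter.unusedVariables false

universe u

open CategoryTheory CategoryTheory.Limits AlgebraicGeometry TopologicalSpace Opposite IsLocalRing

namespace Groth.Agent.Helper3.DvrBase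

section induced

variable {S X : Scheme.{u}} (f : X ⟶ S) [LocallyOfFiniteType f] (δS : S → ℤ)

/-- the dimension function induced from the base -/
noncomputable def indDelta : X → ℤ :=
  fun z => δS (f z) + ((Cardinal.toNat (Dual3.resTrdeg f z) : ℕ) : ℤ)

theorem deltaCompat_indDelta : Cyc.DeltaCompat f (indDelta f δS) δS := by
  intro z
  obtain ⟨n, -, hn⟩ := Groth.Agent.Helper5.MaxPt.dim_closure_fibre_point f (f z) (f.asFiber z) z
    (f.fiberι_asFiber z) rfl
  refine ⟨n, hn, ?_⟩
  unfold indDelta Dual3.resTrdeg
  rw [hn, Cardinal.toNat_natCast]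

theorem isSetup_indDelta (hS : Cyc.IsSetup S δS) : Cyc.IsSetup X (indDelta f δS) := by
  haveI : IsLocallyNoetherian S := hS.1
  refine ⟨LocallyOfFiniteType.isLocallyNoetherian f, fun x => ?_,
    CycPBE.isDimFun_of_deltaCompat f δS _ hS (deltaCompat_indDelta f δS)⟩
  letI := (f.stalkMap x).hom.toAlgebra
  haveI : Algebra.EssFiniteType (S.presheaf.stalk (f x)) (X.presheaf.stalk x) := by
    rw [← RingHom.essFiniteType_algebraMap, RingHom.algebraMap_toAlgebra]
    exact LocallyOfFiniteType.stalkMap f x
  exact Groth.Agent.S9126.result _ _ (hS.2.1 (f x))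

/-- the induced dimension function restricted to a fibre -/
theorem delta_fiberι {δX : X → ℤ} (hX : Cyc.DeltaCompat f δX δS) (y : S)
    (δy : ↥(f.fiber y) → ℤ)
    (hy : Cyc.DeltaCompat (f.fiberToSpecResidueField y) δy (fun _ => 0)) (ζ : ↥(f.fiber y)) :
    δX (f.fiberι y ζ) = δS y + δy ζ := by
  have h1 := PushRat.deltaCompat_comp_left (f.fiberι y) f δX δS hX
  rw [Scheme.Hom.fiber_fac] at h1
  have h2 := PushRat.deltaCompat_of_comp_right (f.fiberToSpecResidueField y)
    (S.fromSpecResidueField y) _ δS h1
  obtain ⟨n, hn, hd⟩ := h2 ζ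
  obtain ⟨m, hm, hd'⟩ := hy ζ
  have hnm : n = m := by
    have : (n : Cardinal.{u}) = m := hn.symm.trans hm
    exact_mod_cast this
  have hj : S.fromSpecResidueField y (f.fiberToSpecResidueField y ζ) = y := by
    have : S.fromSpecResidueField y (f.fiberToSpecResidueField y ζ) ∈
        Set.range (S.fromSpecResidueField y) := ⟨_, rfl⟩
    rw [Scheme.range_fromSpecResidueField] at this
    exact this
  simp only at hd
  rw [hj] at hd
  rw [hd, hd', hnm]
  ring

end induced

end Groth.Agent.Helper3.DvrBase
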