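import Mathlib
import Groth.Prelude
import Groth.Agent.Helper3.DivTrE

set_option autoImplicit false
set_option linter.style.haveILetI false
set_option linter.unusedSectionVars false
set_option linter.unusedVariables false
set_option linter.deprecated false
set_option linter.style.haveILetI false
set_option linter.unusedSectionVars false
set_option linter.unusedVariables false

namespace Groth.Agent.Helper3.DivTrF

universe u

open AlgebraicGeometry CategoryTheory TopologicalSpace Limits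

theorem ratEquivZero_restrict {X Z : Scheme.{u}} (i : Z ⟶ X) [IsPreimmersion i] (δ : X → ℤ)
    (k : ℤ) (J : Type u) (ξ : J → X) (f : ∀ j, X.residueField (ξ j))
    (hξ : ∀ j, ξ j ∈ Set.range i) (hδ : ∀ j, δ (ξ j) = k + 1) (hf : ∀ j, f j ≠ 0)
    (hlf : ∀ x : X, ∃ U : Set X, IsOpen U ∧ x ∈ U ∧ {j | (closure {ξ j} ∩ U).Nonempty}.Finite)
    (c : AlgebraicCycle Z ℤ) (hc : ∀ z, c z = ∑ᶠ j, Cyc.divFun δ (ξ j) (f j) (i z)) :
    Cyc.RatEquivZero (fun z => δ (i z)) k c := by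
  choose ζ hζ using hξ
  refine ⟨J, ζ, fun j => i.residueFieldMap (ζ j) ((hζ j) ▸ f j), ?_, ?_, ?_, ?_⟩
  · intro j
    show δ (i (ζ j)) = k + 1
    rw [hζ j]; exact hδ j
  · intro j
    have := DivTrE.cast_ne_zero (hζ j) (f j) (hf j)
    exact (map_ne_zero_iff _ (i.residueFieldMap (ζ j)).hom.injective).2 this
  · intro z
    obtain ⟨U, hU, hzU, hfin⟩ := hlf (i z)
    refine ⟨i ⁻¹' U, hU.preimage i.continuous, hzU, hfin.subset ?_⟩
    rintro j ⟨y, hy1, hy2⟩
    have hsp : ζ j ⤳ y := specializes_iff_mem_closure.2 hy1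
    have hsp' := hsp.map i.continuous
    rw [hζ j] at hsp'
    exact ⟨i y, specializes_iff_mem_closure.1 hsp', hy2⟩
  · intro z
    rw [hc z]
    apply finsum_congr
    intro j
    rw [DivTrE.divFun_cast δ (hζ j) (f j)]
    exact DivTrB.divFun_map i δ z (ζ j) _

theorem split_finsum {I : Type*} (F : I → ℤ) (p : I → Prop) (hF : F.support.Finite) :
    ∑ᶠ i, F i = (∑ᶠ j : {i // p i}, F j) + ∑ᶠ j : {i // ¬ p i}, F j := by
  rw [finsum_subtype_eq_finsum_cond, finsum_subtype_eq_finsum_cond]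
  have h1 := finsum_mem_union' (f := F) (s := {i | p i}) (t := {i | ¬ p i})
    (by
      rw [Set.disjoint_left]
      intro a ha hb
      exact hb ha)
    (hF.subset Set.inter_subset_right) (hF.subset Set.inter_subset_right)
  have h2 : {i | p i} ∪ {i | ¬ p i} = Set.univ := by
    ext a
    simp only [Set.mem_union, Set.mem_setOf_eq, Set.mem_univ, iff_true]
    exact em _
  rw [h2, finsum_mem_univ] at h1
  exact h1

theorem main (X : Scheme.{u}) (δ : X → ℤ) (hX : Cyc.IsSetup X δ) (X₁ X₂ : Scheme.{u})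
    (i₁ : X₁ ⟶ X) (i₂ : X₂ ⟶ X) [IsClosedImmersion i₁] [IsClosedImmersion i₂]
    (hcov : Set.range ⇑i₁ ∪ Set.range ⇑i₂ = Set.univ) (k : ℤ) (α₁ : AlgebraicCycle X₁ ℤ)
    (α₂ : AlgebraicCycle X₂ ℤ) (h₁ : α₁ ∈ Cyc.Zk X₁ (fun x => δ (i₁ x)) k)
    (h₂ : α₂ ∈ Cyc.Zk X₂ (fun x => δ (i₂ x)) k)
    (h : Cyc.RatEquiv δ k (AlgebraicCycle.map i₁ (fun x => δ (i₁ x)) δ α₁)
      (AlgebraicCycle.map i₂ (fun x => δ (i₂ x)) δ α₂)) :
    ∃ β : AlgebraicCycle (pullback i₁ i₂) ℤ,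
      β ∈ Cyc.Zk (pullback i₁ i₂) (fun z => δ (i₁ (pullback.fst i₁ i₂ z))) k ∧
      Cyc.RatEquiv (fun x => δ (i₁ x)) k α₁
        (AlgebraicCycle.map (pullback.fst i₁ i₂) (fun z => δ (i₁ (pullback.fst i₁ i₂ z)))
          (fun x => δ (i₁ x)) β) ∧
      Cyc.RatEquiv (fun x => δ (i₂ x)) k α₂
        (AlgebraicCycle.map (pullback.snd i₁ i₂) (fun z => δ (i₁ (pullback.fst i₁ i₂ z)))
          (fun x => δ (i₂ x)) β) := by
  classical
  obtain ⟨hN, -, hδ⟩ := hX
  haveI := hN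
  obtain ⟨I, ξ, f, hξδ, hf, hlf, hsum⟩ := h
  have hcond : ∀ z : ↥(pullback i₁ i₂),
      i₁ (pullback.fst i₁ i₂ z) = i₂ (pullback.snd i₁ i₂ z) := by
    intro z
    have := congrArg (fun g : pullback i₁ i₂ ⟶ X => g z) (pullback.condition (f := i₁) (g := i₂))
    simpa using this
  have hcl₁ : IsClosed (Set.range ⇑i₁) := i₁.isClosedEmbedding.isClosed_range
  have hcl₂ : IsClosed (Set.range ⇑i₂) := i₂.isClosedEmbedding.isClosed_range
  set A₁ := AlgebraicCycle.map i₁ (fun x => δ (i₁ x)) δ α₁ with hA₁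
  set A₂ := AlgebraicCycle.map i₂ (fun x => δ (i₂ x)) δ α₂ with hA₂
  have hA₁i : ∀ y, A₁ (i₁ y) = α₁ y := fun y =>
    DivTrE.map_apply_of_preimmersion i₁ _ _ (fun _ => rfl) α₁ y
  have hA₂i : ∀ y, A₂ (i₂ y) = α₂ y := fun y =>
    DivTrE.map_apply_of_preimmersion i₂ _ _ (fun _ => rfl) α₂ y
  let F : I → X → ℤ := fun i x => Cyc.divFun δ (ξ i) (f i) x
  have hFcond : ∀ i x, F i x ≠ 0 → ξ i ⤳ x ∧ δ x + 1 = δ (ξ i) :=
    fun i x h => DivTrE.divFun_cond δ (ξ i) (f i) x h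
  have hFfin : ∀ x, (fun i => F i x).support.Finite := by
    intro x
    obtain ⟨W, hWo, hxW, hfinW⟩ := hlf x
    refine hfinW.subset ?_
    intro i hi
    exact ⟨x, specializes_iff_mem_closure.1 (hFcond i x hi).1, hxW⟩
  let p : I → Prop := fun i => ξ i ∈ Set.range ⇑i₁
  let D₁ : X → ℤ := fun x => ∑ᶠ j : {i // p i}, F j x
  let D₂ : X → ℤ := fun x => ∑ᶠ j : {i // ¬ p i}, F j x
  have hsplit : ∀ x, A₁ x - A₂ x = D₁ x + D₂ x := by
    intro x
    have := hsum x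
    rw [Function.locallyFinsuppWithin.coe_sub] at this
    simp only [Pi.sub_apply] at this
    rw [this]
    exact split_finsum (fun i => F i x) p (hFfin x)
  let E : X → ℤ := fun x => A₁ x - D₁ x
  have hE2 : ∀ x, E x = A₂ x + D₂ x := by
    intro x
    have := hsplit x
    show A₁ x - D₁ x = _
    linarith
  have hD₁ne : ∀ x, D₁ x ≠ 0 → ∃ j : {i // p i}, F j x ≠ 0 := by
    intro x hx
    by_contra hc
    push Not at hc
    exact hx (finsum_eq_zero_of_forall_eq_zero hc)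
  have hD₂ne : ∀ x, D₂ x ≠ 0 → ∃ j : {i // ¬ p i}, F j x ≠ 0 := by
    intro x hx
    by_contra hc
    push Not at hc
    exact hx (finsum_eq_zero_of_forall_eq_zero hc)
  have hE_range1 : ∀ x, x ∉ Set.range ⇑i₁ → E x = 0 := by
    intro x hx
    have h1 : A₁ x = 0 := DivTrE.map_apply_of_notMem i₁ _ _ α₁ x hx
    have h2 : D₁ x = 0 := by
      by_contra hne
      obtain ⟨j, hj⟩ := hD₁ne x hne
      exact hx ((hFcond j x hj).1.mem_closed hcl₁ j.2)
    show A₁ x - D₁ x = 0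
    rw [h1, h2]; rfl
  have hE_range2 : ∀ x, x ∉ Set.range ⇑i₂ → E x = 0 := by
    intro x hx
    have h1 : A₂ x = 0 := DivTrE.map_apply_of_notMem i₂ _ _ α₂ x hx
    have h2 : D₂ x = 0 := by
      by_contra hne
      obtain ⟨j, hj⟩ := hD₂ne x hne
      have hj2 : ξ j ∈ Set.range ⇑i₂ := by
        have : ξ j ∈ Set.range ⇑i₁ ∪ Set.range ⇑i₂ := hcov ▸ Set.mem_univ _
        rcases this with h | h
        · exact absurd h j.2
        · exact h
      exact hx ((hFcond j x hj).1.mem_closed hcl₂ hj2)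
    rw [hE2, h1, h2]; rfl
  have hE_k : ∀ x, δ x ≠ k → E x = 0 := by
    intro x hx
    have h1 : A₁ x = 0 := by
      by_cases hr : x ∈ Set.range ⇑i₁
      · obtain ⟨y, rfl⟩ := hr
        rw [hA₁i]
        exact h₁ y hx
      · exact DivTrE.map_apply_of_notMem i₁ _ _ α₁ x hr
    have h2 : D₁ x = 0 := by
      by_contra hne
      obtain ⟨j, hj⟩ := hD₁ne x hne
      have := (hFcond j x hj).2
      have h3 := hξδ j
      apply hx; omega
    show A₁ x - D₁ x = 0
    rw [h1, h2]; rfl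
  have hE_lf : ∀ x : X, ∃ t ∈ nhds x, (t ∩ Function.support E).Finite := by
    intro x
    obtain ⟨t₂, ht₂, hfin₂⟩ := A₂.supportLocallyFiniteWithinDomain x trivial
    obtain ⟨W, hWo, hxW, hfinW⟩ := hlf x
    obtain ⟨V, hxV, hVn⟩ := DivTrC.exists_noetherian_nhd x
    let Uc : X.Opens := ⟨(Set.range ⇑i₁)ᶜ, hcl₁.isOpen_compl⟩
    refine ⟨t₂ ∩ W ∩ (V : Set X),
      Filter.inter_mem (Filter.inter_mem ht₂ (hWo.mem_nhds hxW)) (V.isOpen.mem_nhds hxV), ?_⟩
    have hbad : (⋃ i ∈ {i | (closure {ξ i} ∩ W).Nonempty},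
        {y : X | ¬ p i ∧ (y ∈ V ∧ y ∉ Uc ∧ ξ i ⤳ y ∧ δ y + 1 = δ (ξ i))}).Finite := by
      refine hfinW.biUnion (fun i _ => ?_)
      by_cases hp : p i
      · exact Set.finite_empty.subset (fun y hy => (hy.1 hp).elim)
      · exact (DivTrC.finite_boundary δ hδ Uc V hVn (ξ i) hp).subset (fun y hy => hy.2)
    refine (hfin₂.union hbad).subset ?_
    rintro y ⟨⟨⟨hy2, hyW⟩, hyV⟩, hyE⟩
    rw [Function.mem_support] at hyE
    have hyr : y ∈ Set.range ⇑i₁ := by
      by_contra hr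
      exact hyE (hE_range1 y hr)
    by_cases hA : A₂ y = 0
    · right
      have hD : D₂ y ≠ 0 := by
        intro h0
        apply hyE
        rw [hE2, hA, h0]; rfl
      obtain ⟨j, hj⟩ := hD₂ne y hD
      have hc := hFcond j y hj
      refine Set.mem_iUnion₂.2 ⟨j, ⟨y, specializes_iff_mem_closure.1 hc.1, hyW⟩, j.2, hyV, ?_,
        hc.1, hc.2⟩
      intro hyUc
      exact hyUc hyr
    · left
      exact ⟨hy2, hA⟩
  -- injectivity and continuity of the diagonal map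
  have hqinj : Function.Injective (fun z : ↥(pullback i₁ i₂) => i₁ (pullback.fst i₁ i₂ z)) := by
    intro a b hab
    exact (pullback.fst i₁ i₂).isEmbedding.injective (i₁.isEmbedding.injective hab)
  have hqcont : Continuous (fun z : ↥(pullback i₁ i₂) => i₁ (pullback.fst i₁ i₂ z)) :=
    i₁.continuous.comp (pullback.fst i₁ i₂).continuous
  let β : AlgebraicCycle (pullback i₁ i₂) ℤ :=
    { toFun := fun z => E (i₁ (pullback.fst i₁ i₂ z))
      supportWithinDomain' := Set.subset_univ _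
      supportLocallyFiniteWithinDomain' := by
        intro z _
        obtain ⟨t, ht, hfin⟩ := hE_lf (i₁ (pullback.fst i₁ i₂ z))
        refine ⟨(fun z : ↥(pullback i₁ i₂) => i₁ (pullback.fst i₁ i₂ z)) ⁻¹' t,
          hqcont.continuousAt.preimage_mem_nhds ht, ?_⟩
        refine (hfin.preimage hqinj.injOn).subset ?_
        rintro y ⟨hy1, hy2⟩
        exact ⟨hy1, hy2⟩ }
  have hβ : ∀ z, β z = E (i₁ (pullback.fst i₁ i₂ z)) := fun _ => rfl
  -- push-forwards of β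
  have hpush1 : ∀ x₁ : X₁, AlgebraicCycle.map (pullback.fst i₁ i₂)
      (fun z => δ (i₁ (pullback.fst i₁ i₂ z))) (fun x => δ (i₁ x)) β x₁ = E (i₁ x₁) := by
    intro x₁
    by_cases hx : x₁ ∈ Set.range ⇑(pullback.fst i₁ i₂)
    · obtain ⟨z, rfl⟩ := hx
      rw [DivTrE.map_apply_of_preimmersion (pullback.fst i₁ i₂)
        (fun z => δ (i₁ (pullback.fst i₁ i₂ z))) (fun x => δ (i₁ x)) (fun _ => rfl) β z, hβ]
    · rw [DivTrE.map_apply_of_notMem (pullback.fst i₁ i₂) _ _ β x₁ hx]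
      symm
      apply hE_range2
      rintro ⟨x₂, hx₂⟩
      obtain ⟨z, hz1, hz2⟩ := Scheme.Pullback.exists_preimage_pullback x₁ x₂ hx₂.symm
      exact hx ⟨z, hz1⟩
  have hpush2 : ∀ x₂ : X₂, AlgebraicCycle.map (pullback.snd i₁ i₂)
      (fun z => δ (i₁ (pullback.fst i₁ i₂ z))) (fun x => δ (i₂ x)) β x₂ = E (i₂ x₂) := by
    intro x₂
    by_cases hx : x₂ ∈ Set.range ⇑(pullback.snd i₁ i₂)
    · obtain ⟨z, rfl⟩ := hx
      rw [DivTrE.map_apply_of_preimmersion (pullback.snd i₁ i₂)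
        (fun z => δ (i₁ (pullback.fst i₁ i₂ z))) (fun x => δ (i₂ x))
        (fun z => by rw [hcond z]) β z, hβ, hcond z]
    · rw [DivTrE.map_apply_of_notMem (pullback.snd i₁ i₂) _ _ β x₂ hx]
      symm
      apply hE_range1
      rintro ⟨x₁, hx₁⟩
      obtain ⟨z, hz1, hz2⟩ := Scheme.Pullback.exists_preimage_pullback x₁ x₂ hx₁
      exact hx ⟨z, hz2⟩
  refine ⟨β, ?_, ?_, ?_⟩
  · intro z hz
    rw [hβ]
    exact hE_k _ hz
  · refine ratEquivZero_restrict i₁ δ k {i // p i} (fun j => ξ j) (fun j => f j)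
      (fun j => j.2) (fun j => hξδ j) (fun j => hf j) ?_ _ ?_
    · intro x
      obtain ⟨W, hWo, hxW, hfinW⟩ := hlf x
      exact ⟨W, hWo, hxW, (hfinW.preimage (f := (Subtype.val : {i // p i} → I))
        Subtype.val_injective.injOn).subset (fun j hj => hj)⟩
    · intro x₁
      rw [Function.locallyFinsuppWithin.coe_sub]
      simp only [Pi.sub_apply]
      rw [hpush1 x₁]
      show α₁ x₁ - (A₁ (i₁ x₁) - D₁ (i₁ x₁)) = D₁ (i₁ x₁)
      rw [hA₁i]; ring
  · have hξ₂ : ∀ j : {i // ¬ p i}, ξ j ∈ Set.range ⇑i₂ := by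
      intro j
      have : ξ j ∈ Set.range ⇑i₁ ∪ Set.range ⇑i₂ := hcov ▸ Set.mem_univ _
      rcases this with h | h
      · exact absurd h j.2
      · exact h
    refine ratEquivZero_restrict i₂ δ k {i // ¬ p i} (fun j => ξ j) (fun j => (f j)⁻¹)
      hξ₂ (fun j => hξδ j) (fun j => inv_ne_zero (hf j)) ?_ _ ?_
    · intro x
      obtain ⟨W, hWo, hxW, hfinW⟩ := hlf x
      exact ⟨W, hWo, hxW, (hfinW.preimage (f := (Subtype.val : {i // ¬ p i} → I))
        Subtype.val_injective.injOn).subset (fun j hj => hj)⟩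
    · intro x₂
      rw [Function.locallyFinsuppWithin.coe_sub]
      simp only [Pi.sub_apply]
      rw [hpush2 x₂, hE2, hA₂i]
      have : (∑ᶠ j : {i // ¬ p i}, Cyc.divFun δ (ξ j) (f j)⁻¹ (i₂ x₂)) = - D₂ (i₂ x₂) := by
        show _ = - ∑ᶠ j : {i // ¬ p i}, F j (i₂ x₂)
        rw [← finsum_neg_distrib]
        apply finsum_congr
        intro j
        exact DivTrE.divFun_inv δ (ξ j) (f j) (i₂ x₂)
      rw [this]; ring

end Groth.Agent.Helper3.DivTrF
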