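import Mathlib
import Groth.Prelude

set_option autoImplicit false
set_option linter.style.haveILetI false
set_option linter.unusedSectionVars false
set_option linter.unusedVariables false
set_option linter.deprecated false
set_option linter.style.haveILetI false
set_option linter.unusedSectionVars false
set_option linter.unusedVariables false

namespace Groth.Agent.Helper3.AssBCA

universe u

open IsLocalRing

section basic

variable {B : Type u} [CommRing B]

/-- elements of an associated prime (radical convention) are zero divisors -/
theorem not_mem_nonZeroDivisors_of_mem_ass {p : Ideal B} (hp : p ∈ associatedPrimes B B) {t : B}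
    (ht : t ∈ p) : t ∉ nonZeroDivisors B := by
  obtain ⟨hprime, x, hx⟩ := hp
  intro hnzd
  have hx0 : x ≠ 0 := by
    rintro rfl
    apply hprime.ne_top
    rw [hx, Ideal.radical_eq_top, Ideal.eq_top_iff_one, Submodule.mem_colon_singleton]
    simp
  rw [hx] at ht
  obtain ⟨n, hn⟩ := ht
  rw [Submodule.mem_colon_singleton, Submodule.mem_bot, smul_eq_mul] at hn
  have hnzd' : t ^ n ∈ nonZeroDivisors B := pow_mem hnzd n
  exact hx0 ((mem_nonZeroDivisors_iff.1 hnzd').1 x hn)

end basic

section descent

variable {A B : Type u} [CommRing A] [CommRing B] [IsLocalRing A] [IsLocalRing B]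
  [Algebra A B] [Module.Flat A B] [IsLocalHom (algebraMap A B)]

/-- depth zero descends along flat local homomorphisms -/
theorem ass_descends [IsNoetherianRing A]
    (h : maximalIdeal B ∈ associatedPrimes B B) : maximalIdeal A ∈ associatedPrimes A A := by
  have hdisj : Disjoint (maximalIdeal A : Set A) (nonZeroDivisors A) := by
    rw [Set.disjoint_left]
    intro a ha hnzd
    have hreg : IsSMulRegular A a := by
      intro x y hxy
      have h1 : a * (x - y) = 0 := by
        rw [mul_sub]; exact sub_eq_zero.2 hxy
      have := (mem_nonZeroDivisors_iff.1 hnzd).1 (x - y) h1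
      exact sub_eq_zero.1 this
    have hreg' : IsSMulRegular B (algebraMap A B a) := IsSMulRegular.of_flat hreg
    have hmem : algebraMap A B a ∈ maximalIdeal B := by
      rw [mem_maximalIdeal, mem_nonunits_iff]
      intro hu
      exact ((mem_maximalIdeal a).1 ha) (isUnit_of_map_unit (algebraMap A B) a hu)
    apply not_mem_nonZeroDivisors_of_mem_ass h hmem
    rw [mem_nonZeroDivisors_iff]
    refine ⟨fun x hx => ?_, fun x hx => ?_⟩
    · apply hreg'
      show (algebraMap A B a) * x = (algebraMap A B a) * 0
      rw [hx, mul_zero]
    · apply hreg'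
      show (algebraMap A B a) * x = (algebraMap A B a) * 0
      rw [mul_comm, hx, mul_zero]
  obtain ⟨P, hP, hle⟩ : ∃ P ∈ associatedPrimes A A, maximalIdeal A ≤ P :=
    ((maximalIdeal A).subset_union_prime_finite (associatedPrimes.finite ..) (f := id) 0 0
      fun _ h _ _ ↦ h.1).1 <|
    biUnion_associatedPrimes_eq_compl_nonZeroDivisors A ▸ hdisj.subset_compl_right
  have hPm : maximalIdeal A = P :=
    (maximalIdeal.isMaximal A).eq_of_le hP.1.ne_top hle
  rw [hPm]
  exact hP

/-- depth zero ascends along a flat local homomorphism with zero-dimensional closed fibre -/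
theorem ass_ascends (hA : maximalIdeal A ∈ associatedPrimes A A)
    (hrad : ((maximalIdeal A).map (algebraMap A B)).radical = maximalIdeal B) :
    maximalIdeal B ∈ associatedPrimes B B := by
  obtain ⟨-, a, ha⟩ := hA
  haveI : Module.FaithfullyFlat A B := Module.FaithfullyFlat.of_flat_of_isLocalHom
  have hinj : Function.Injective (algebraMap A B) := FaithfulSMul.algebraMap_injective _ _
  have ha0 : a ≠ 0 := by
    rintro rfl
    apply (maximalIdeal.isMaximal A).ne_top
    rw [ha, Ideal.radical_eq_top, Ideal.eq_top_iff_one, Submodule.mem_colon_singleton]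
    simp
  refine ⟨(maximalIdeal.isMaximal B).isPrime, algebraMap A B a, ?_⟩
  apply le_antisymm
  · rw [← hrad]
    have h1 : (maximalIdeal A).map (algebraMap A B) ≤
        ((⊥ : Submodule B B).colon {algebraMap A B a}).radical := by
      rw [Ideal.map_le_iff_le_comap]
      intro a' ha'
      rw [ha] at ha'
      obtain ⟨n, hn⟩ := ha'
      rw [Submodule.mem_colon_singleton, Submodule.mem_bot, smul_eq_mul] at hn
      rw [Ideal.mem_comap]
      refine ⟨n, ?_⟩
      rw [Submodule.mem_colon_singleton, Submodule.mem_bot, smul_eq_mul, ← map_pow, ← map_mul, hn,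
        map_zero]
    calc ((maximalIdeal A).map (algebraMap A B)).radical
        ≤ (((⊥ : Submodule B B).colon {algebraMap A B a}).radical).radical := Ideal.radical_mono h1
      _ = _ := Ideal.radical_idem _
  · apply le_maximalIdeal
    rw [Ne, Ideal.radical_eq_top, Ideal.eq_top_iff_one, Submodule.mem_colon_singleton]
    simp only [one_smul, Submodule.mem_bot]
    intro h0
    exact ha0 (hinj (h0.trans (map_zero _).symm))

end descent

section core


/-- over a domain `D`, for a flat integral `D`-algebra `R`, associated primes of a localization of
`R` at a prime are incomparable -/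
theorem core (D : Type u) {R : Type u} [CommRing D] [IsDomain D] [CommRing R] [Algebra D R]
    [Module.Flat D R] [Algebra.IsIntegral D R]
    (q : Ideal R) [q.IsPrime] (p : Ideal (Localization.AtPrime q))
    (hp : p ∈ associatedPrimes (Localization.AtPrime q) (Localization.AtPrime q))
    (hm : maximalIdeal (Localization.AtPrime q) ∈
      associatedPrimes (Localization.AtPrime q) (Localization.AtPrime q)) :
    p = maximalIdeal (Localization.AtPrime q) := by
  haveI : Module.Flat R (Localization.AtPrime q) := IsLocalization.flat _ q.primeCompl
  haveI : Module.Flat D (Localization.AtPrime q) := Module.Flat.trans D R _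
  have hbot : ∀ P : Ideal (Localization.AtPrime q),
      P ∈ associatedPrimes (Localization.AtPrime q) (Localization.AtPrime q) →
      P.comap (algebraMap D (Localization.AtPrime q)) = ⊥ := by
    intro P hP
    rw [eq_bot_iff]
    intro d hd
    rw [Ideal.mem_comap] at hd
    rw [Ideal.mem_bot]
    by_contra hd0
    have hreg : IsSMulRegular D d := by
      intro x y hxy
      exact mul_left_cancel₀ hd0 hxy
    have hreg' : IsSMulRegular (Localization.AtPrime q) (algebraMap D (Localization.AtPrime q) d) :=
      IsSMulRegular.of_flat hreg
    apply not_mem_nonZeroDivisors_of_mem_ass hP hd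
    rw [mem_nonZeroDivisors_iff]
    refine ⟨fun x hx => ?_, fun x hx => ?_⟩
    · apply hreg'
      show (algebraMap D (Localization.AtPrime q) d) * x = (algebraMap D (Localization.AtPrime q) d) * 0
      rw [hx, mul_zero]
    · apply hreg'
      show (algebraMap D (Localization.AtPrime q) d) * x = (algebraMap D (Localization.AtPrime q) d) * 0
      rw [mul_comm, hx, mul_zero]
  haveI hpprime : p.IsPrime := hp.1
  have hple : p ≤ maximalIdeal (Localization.AtPrime q) := le_maximalIdeal hpprime.ne_top
  set p' := p.comap (algebraMap R (Localization.AtPrime q)) with hp'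
  have hq' : (maximalIdeal (Localization.AtPrime q)).comap (algebraMap R (Localization.AtPrime q)) = q :=
    IsLocalization.AtPrime.comap_maximalIdeal (Localization.AtPrime q) q
  have hp'le : p' ≤ q := by
    rw [← hq']
    exact Ideal.comap_mono hple
  haveI : p'.IsPrime := Ideal.IsPrime.comap _
  have hcomp : ∀ P : Ideal (Localization.AtPrime q),
      (P.comap (algebraMap R (Localization.AtPrime q))).comap (algebraMap D R) =
        P.comap (algebraMap D (Localization.AtPrime q)) := by
    intro P
    rw [Ideal.comap_comap, ← IsScalarTower.algebraMap_eq]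
  have hp'q : p' = q := by
    by_contra hne
    have hlt : p' < q := lt_of_le_of_ne hp'le hne
    have := Ideal.IsIntegral.comap_lt_comap (R := D) hlt
    rw [hp', hcomp, hbot p hp, ← hq', hcomp, hbot _ hm] at this
    exact lt_irrefl _ this
  rw [← IsLocalization.map_comap q.primeCompl (Localization.AtPrime q) p,
    ← IsLocalization.map_comap q.primeCompl (Localization.AtPrime q)
      (maximalIdeal (Localization.AtPrime q))]
  show Ideal.map _ p' = Ideal.map _ ((maximalIdeal (Localization.AtPrime q)).comap
    (algebraMap R (Localization.AtPrime q)))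
  rw [hq', hp'q]

end core

end Groth.Agent.Helper3.AssBCA
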