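import Mathlib
import Groth.Prelude
import Groth.Agent.Helper3.AssBCA

set_option autoImplicit false
set_option linter.style.haveILetI false
set_option linter.unusedSectionVars false
set_option linter.unusedVariables false
set_option linter.deprecated false
set_option linter.style.haveILetI false
set_option linter.unusedSectionVars false
set_option linter.unusedVariables false

namespace Groth.Agent.Helper3.AssBCB

universe u

open IsLocalRing TensorProduct

section lift

variable (k : Type u) [Field k] (A : Type u) [CommRing A] [Algebra k A] [IsLocalRing A]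

/-- A local `k`-algebra with nil maximal ideal is an integral algebra over a purely
transcendental extension of `k` (compatibly with the `k`-algebra structures). -/
theorem exists_purelyTranscendental (hnil : ∀ a ∈ maximalIdeal A, IsNilpotent a) :
    ∃ (ι : Type u) (_ : Algebra (FractionRing (MvPolynomial ι k)) A)
      (_ : IsScalarTower k (FractionRing (MvPolynomial ι k)) A),
      Algebra.IsIntegral (FractionRing (MvPolynomial ι k)) A := by
  obtain ⟨ι, tb, htb⟩ := exists_isTranscendenceBasis' k (ResidueField A)
  have hsurj : Function.Surjective (residue A) := residue_surjective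
  choose t ht using fun i => hsurj (tb i)
  let P := MvPolynomial ι k
  let φ₀ : P →ₐ[k] A := MvPolynomial.aeval t
  have hres : ∀ p : P, residue A (φ₀ p) = MvPolynomial.aeval tb p := by
    intro p
    have h1 : (IsScalarTower.toAlgHom k A (ResidueField A)).comp φ₀ = MvPolynomial.aeval tb := by
      apply MvPolynomial.algHom_ext
      intro i
      simp only [AlgHom.comp_apply, φ₀, MvPolynomial.aeval_X]
      exact ht i
    exact congrArg (fun f : P →ₐ[k] ResidueField A => f p) h1
  have hunit : ∀ y : nonZeroDivisors P, IsUnit (φ₀.toRingHom y) := by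
    intro y
    have hy0 : (y : P) ≠ 0 := nonZeroDivisors.ne_zero y.2
    have h1 : MvPolynomial.aeval tb (y : P) ≠ 0 := by
      intro h0
      exact hy0 (htb.1 (h0.trans (map_zero _).symm))
    by_contra hnu
    have hmem : φ₀ (y : P) ∈ maximalIdeal A := (mem_maximalIdeal _).2 hnu
    apply h1
    rw [← hres]
    exact (residue_eq_zero_iff _).2 hmem
  let F := FractionRing P
  let ψ : F →+* A := IsLocalization.lift (M := nonZeroDivisors P) hunit
  letI algFA : Algebra F A := ψ.toAlgebra
  have hψ : ∀ p : P, ψ (algebraMap P F p) = φ₀ p := fun p => IsLocalization.lift_eq hunit p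
  have htower : IsScalarTower k F A := by
    apply IsScalarTower.of_algebraMap_eq
    intro c
    show algebraMap k A c = ψ (algebraMap k F c)
    rw [IsScalarTower.algebraMap_apply k P F, hψ]
    simp [φ₀]
  refine ⟨ι, algFA, htower, ?_⟩
  -- integrality
  letI algPA : Algebra P A := φ₀.toRingHom.toAlgebra
  haveI : IsScalarTower P F A := IsScalarTower.of_algebraMap_eq (fun p => (hψ p).symm)
  letI algPκ : Algebra P (ResidueField A) := (MvPolynomial.aeval tb : P →ₐ[k] _).toRingHom.toAlgebra
  haveI : IsScalarTower P A (ResidueField A) :=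
    IsScalarTower.of_algebraMap_eq (fun p => (hres p).symm)
  -- κ is algebraic over P
  have halg : Algebra.IsAlgebraic P (ResidueField A) := by
    have h1 : Algebra.IsAlgebraic (Algebra.adjoin k (Set.range tb)) (ResidueField A) :=
      htb.isAlgebraic
    let e := htb.1.aevalEquiv
    letI : Algebra (Algebra.adjoin k (Set.range tb)) P := e.symm.toRingHom.toAlgebra
    haveI : IsScalarTower (Algebra.adjoin k (Set.range tb)) P (ResidueField A) := by
      apply IsScalarTower.of_algebraMap_eq
      intro x
      show (x : ResidueField A) = MvPolynomial.aeval tb (e.symm x)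
      have := htb.1.algebraMap_aevalEquiv (e.symm x)
      rw [← this]
      show (x : ResidueField A) = ((e (e.symm x) : Algebra.adjoin k (Set.range tb)) : ResidueField A)
      rw [e.apply_symm_apply]
    exact Algebra.IsAlgebraic.extendScalars (R := Algebra.adjoin k (Set.range tb))
      e.symm.injective
  haveI : IsScalarTower P F (ResidueField A) := by
    apply IsScalarTower.of_algebraMap_eq
    intro p
    show MvPolynomial.aeval tb p = residue A (ψ (algebraMap P F p))
    rw [hψ, hres]
  constructor
  intro a
  have h1 : IsAlgebraic P (residue A a) := halg.isAlgebraic _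
  have h2 : IsAlgebraic F (residue A a) := (IsFractionRing.isAlgebraic_iff P F (ResidueField A)).1 h1
  have h3 : IsIntegral F (residue A a) := isAlgebraic_iff_isIntegral.1 h2
  obtain ⟨g, hgm, hg⟩ := h3
  have h4 : residue A (Polynomial.aeval a g) = 0 := by
    have := Polynomial.aeval_algHom_apply (IsScalarTower.toAlgHom F A (ResidueField A)) a g
    rw [← Polynomial.aeval_def] at hg
    have h5 : (IsScalarTower.toAlgHom F A (ResidueField A)) a = residue A a := rfl
    rw [h5, hg] at this
    exact this.symm
  have h5 : Polynomial.aeval a g ∈ maximalIdeal A := (residue_eq_zero_iff _).1 h4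
  obtain ⟨N, hN⟩ := hnil _ h5
  refine ⟨g ^ N, hgm.pow N, ?_⟩
  rw [← Polynomial.aeval_def, map_pow, hN]

end lift

section pushout

variable (k F A K : Type u) [CommRing k] [CommRing F] [CommRing A] [CommRing K] [Algebra k F]
  [Algebra k A] [Algebra F A] [IsScalarTower k F A] [Algebra k K]

/-- the algebra structure of `A ⊗ K` over `F ⊗ K` -/
noncomputable def algDR : Algebra (F ⊗[k] K) (A ⊗[k] K) :=
  (Algebra.TensorProduct.map (IsScalarTower.toAlgHom k F A) (AlgHom.id k K)).toRingHom.toAlgebra

theorem algDR_tmul (f : F) (c : K) :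
    letI := algDR k F A K
    algebraMap (F ⊗[k] K) (A ⊗[k] K) (f ⊗ₜ c) = (algebraMap F A f) ⊗ₜ c := by
  letI := algDR k F A K
  show (Algebra.TensorProduct.map (IsScalarTower.toAlgHom k F A) (AlgHom.id k K)) (f ⊗ₜ c) = _
  rw [Algebra.TensorProduct.map_tmul]
  rfl

theorem flat_integral [Module.Flat F A] [Algebra.IsIntegral F A] :
    letI := algDR k F A K
    Module.Flat (F ⊗[k] K) (A ⊗[k] K) ∧ Algebra.IsIntegral (F ⊗[k] K) (A ⊗[k] K) := by
  letI := algDR k F A K
  haveI : IsScalarTower F (F ⊗[k] K) (A ⊗[k] K) := by
    apply IsScalarTower.of_algebraMap_eq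
    intro f
    rw [Algebra.TensorProduct.algebraMap_apply, Algebra.TensorProduct.algebraMap_apply]
    rw [Algebra.algebraMap_self_apply]
    exact (algDR_tmul k F A K f 1).symm
  have H : (algebraMap (F ⊗[k] K) (A ⊗[k] K)).comp
      (Algebra.TensorProduct.includeRight (R := k) (A := F) (B := K)).toRingHom =
      (Algebra.TensorProduct.includeRight (R := k) (A := A) (B := K)).toRingHom := by
    ext c
    show algebraMap (F ⊗[k] K) (A ⊗[k] K) ((1 : F) ⊗ₜ c) = (1 : A) ⊗ₜ c
    rw [algDR_tmul, map_one]
  have hpo : Algebra.IsPushout F A (F ⊗[k] K) (A ⊗[k] K) :=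
    Algebra.IsPushout.tensorProduct_tensorProduct k K F A H
  haveI hpo' : Algebra.IsPushout F (F ⊗[k] K) A (A ⊗[k] K) := hpo.symm
  let e : (F ⊗[k] K) ⊗[F] A ≃ₐ[F ⊗[k] K] (A ⊗[k] K) := Algebra.IsPushout.equiv F (F ⊗[k] K) A (A ⊗[k] K)
  constructor
  · exact Module.Flat.of_linearEquiv e.symm.toLinearEquiv
  · exact Algebra.IsIntegral.of_surjective e.toAlgHom e.surjective

theorem isLocalization_tensor (M : Submonoid F) [IsLocalization M A] :
    letI := algDR k F A K
    IsLocalization (Algebra.algebraMapSubmonoid (F ⊗[k] K) M) (A ⊗[k] K) := by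
  letI := algDR k F A K
  haveI : IsScalarTower F (F ⊗[k] K) (A ⊗[k] K) := by
    apply IsScalarTower.of_algebraMap_eq
    intro f
    rw [Algebra.TensorProduct.algebraMap_apply, Algebra.TensorProduct.algebraMap_apply]
    rw [Algebra.algebraMap_self_apply]
    exact (algDR_tmul k F A K f 1).symm
  have H : (algebraMap (F ⊗[k] K) (A ⊗[k] K)).comp
      (Algebra.TensorProduct.includeRight (R := k) (A := F) (B := K)).toRingHom =
      (Algebra.TensorProduct.includeRight (R := k) (A := A) (B := K)).toRingHom := by
    ext c
    show algebraMap (F ⊗[k] K) (A ⊗[k] K) ((1 : F) ⊗ₜ c) = (1 : A) ⊗ₜ c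
    rw [algDR_tmul, map_one]
  exact IsLocalization.tensorProduct_tensorProduct k K M A H

end pushout

section domain

variable (k : Type u) [Field k] (ι : Type u) (K : Type u) [CommRing K] [IsDomain K] [Algebra k K]

theorem isDomain_poly_tensor : IsDomain (MvPolynomial ι k ⊗[k] K) := by
  let e1 : MvPolynomial ι k ⊗[k] K ≃ₐ[k] K ⊗[k] MvPolynomial ι k :=
    Algebra.TensorProduct.comm k (MvPolynomial ι k) K
  let e2 : K ⊗[k] MvPolynomial ι k ≃ₐ[K] MvPolynomial ι K := MvPolynomial.scalarRTensorAlgEquiv
  exact MulEquiv.isDomain (MvPolynomial ι K) (e1.toMulEquiv.trans e2.toMulEquiv)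

theorem isDomain_frac_tensor : IsDomain (FractionRing (MvPolynomial ι k) ⊗[k] K) := by
  letI := algDR k (MvPolynomial ι k) (FractionRing (MvPolynomial ι k)) K
  haveI hloc := isLocalization_tensor k (MvPolynomial ι k) (FractionRing (MvPolynomial ι k)) K
    (nonZeroDivisors (MvPolynomial ι k))
  haveI : IsDomain (MvPolynomial ι k ⊗[k] K) := isDomain_poly_tensor k ι K
  refine IsLocalization.isDomain_of_le_nonZeroDivisors
    (FractionRing (MvPolynomial ι k) ⊗[k] K)
    (M := Algebra.algebraMapSubmonoid (MvPolynomial ι k ⊗[k] K)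
      (nonZeroDivisors (MvPolynomial ι k))) ?_
  rintro x ⟨p, hp, rfl⟩
  apply mem_nonZeroDivisors_of_ne_zero
  have hinj : Function.Injective
      (Algebra.TensorProduct.includeLeft : MvPolynomial ι k →ₐ[k] MvPolynomial ι k ⊗[k] K) :=
    Algebra.TensorProduct.includeLeft_injective (algebraMap k K).injective
  intro h0
  have hp0 : p ≠ 0 := nonZeroDivisors.ne_zero hp
  apply hp0
  apply hinj
  rw [map_zero]
  exact h0

end domain

section main

/-- associated primes of a local ring of `A ⊗ K` (`A` local with nil maximal ideal, `K` a field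
extension) are incomparable with the maximal ideal -/
theorem incomparable (k : Type u) [Field k] (A : Type u) [CommRing A] [Algebra k A] [IsLocalRing A]
    (hnil : ∀ a ∈ maximalIdeal A, IsNilpotent a) (K : Type u) [CommRing K] [IsDomain K]
    [Algebra k K]
    (q : Ideal (A ⊗[k] K)) [q.IsPrime] (p : Ideal (Localization.AtPrime q))
    (hp : p ∈ associatedPrimes (Localization.AtPrime q) (Localization.AtPrime q))
    (hm : maximalIdeal (Localization.AtPrime q) ∈
      associatedPrimes (Localization.AtPrime q) (Localization.AtPrime q)) :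
    p = maximalIdeal (Localization.AtPrime q) := by
  obtain ⟨ι, algFA, htower, hint⟩ := exists_purelyTranscendental k A hnil
  letI := algFA
  haveI := htower
  haveI := hint
  letI := algDR k (FractionRing (MvPolynomial ι k)) A K
  haveI : IsDomain (FractionRing (MvPolynomial ι k) ⊗[k] K) := isDomain_frac_tensor k ι K
  obtain ⟨hflat, hintg⟩ := flat_integral k (FractionRing (MvPolynomial ι k)) A K
  exact AssBCA.core (FractionRing (MvPolynomial ι k) ⊗[k] K) q p hp hm

end main

end Groth.Agent.Helper3.AssBCB
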