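import Mathlib
import Groth.Prelude
import Groth.Agent.Helper3.AssBCB
import Groth.Agent.Helper2.StalkDict2
import Groth.Agent.Lead.CartSecB

set_option autoImplicit false
set_option linter.style.haveILetI false
set_option linter.unusedSectionVars false
set_option linter.unusedVariables false
set_option linter.deprecated false
set_option linter.style.haveILetI false
set_option linter.unusedSectionVars false
set_option linter.unusedVariables false

namespace Groth.Agent.Helper3.AssBCC

universe u

open IsLocalRing TensorProduct AlgebraicGeometry CategoryTheory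

section ring

variable {B C : Type u} [CommRing B] [CommRing C] (e : B ≃+* C)

/-- associated primes of a ring over itself transport along ring isomorphisms -/
theorem comap_mem_ass {p : Ideal B} (hp : p ∈ associatedPrimes B B) :
    p.comap (e.symm : C →+* B) ∈ associatedPrimes C C := by
  obtain ⟨hprime, x, hx⟩ := hp
  refine ⟨Ideal.IsPrime.comap _, e x, ?_⟩
  ext c
  rw [Ideal.mem_comap, hx]
  constructor
  · rintro ⟨n, hn⟩
    refine ⟨n, ?_⟩
    rw [Submodule.mem_colon_singleton, Submodule.mem_bot, smul_eq_mul] at hn ⊢
    have := congrArg e hn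
    rw [map_mul, map_pow, map_zero] at this
    simpa using this
  · rintro ⟨n, hn⟩
    refine ⟨n, ?_⟩
    rw [Submodule.mem_colon_singleton, Submodule.mem_bot, smul_eq_mul] at hn ⊢
    have := congrArg e.symm hn
    rw [map_mul, map_pow, map_zero, e.symm_apply_apply] at this
    exact this

theorem comap_maximalIdeal [IsLocalRing B] [IsLocalRing C] :
    (maximalIdeal B).comap (e.symm : C →+* B) = maximalIdeal C := by
  ext c
  rw [Ideal.mem_comap, mem_maximalIdeal, mem_maximalIdeal, mem_nonunits_iff, mem_nonunits_iff]
  exact not_congr (isUnit_map_iff e.symm c)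

include e in
theorem maximalIdeal_mem_ass [IsLocalRing B] [IsLocalRing C]
    (h : maximalIdeal B ∈ associatedPrimes B B) : maximalIdeal C ∈ associatedPrimes C C := by
  rw [← comap_maximalIdeal e]
  exact comap_mem_ass e h

end ring

section scheme

variable {X : Scheme.{u}}

/-- the local ring at a generisation is a localization of the local ring -/
theorem exists_prime_of_specializes {x y : X} (h : y ⤳ x) :
    ∃ (p : Ideal (X.presheaf.stalk x)) (_ : p.IsPrime),
      Nonempty (X.presheaf.stalk y ≃+* Localization.AtPrime p) ∧
      (p = maximalIdeal (X.presheaf.stalk x) → y = x) := by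
  have hy : y ∈ Set.range (X.fromSpecStalk x) := by
    rw [Scheme.range_fromSpecStalk]; exact h
  obtain ⟨P, rfl⟩ := hy
  haveI : Flat (X.fromSpecStalk x) := Groth.Agent.Helper5.StalkRed.flat_fromSpecStalk X x
  obtain ⟨e1⟩ := Groth.Agent.Helper2.StalkDict.nonempty_stalkEquiv (X.fromSpecStalk x) P
  refine ⟨P.asIdeal, P.isPrime, ⟨e1.trans
    (Spec.stalkIso (CommRingCat.of (X.presheaf.stalk x)) P).commRingCatIsoToRingEquiv⟩, ?_⟩
  intro hP
  have : P = IsLocalRing.closedPoint _ := PrimeSpectrum.ext hP
  rw [this]
  exact Scheme.fromSpecStalk_closedPoint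

/-- the abstract key statement -/
theorem eq_of_ass_of_equiv (z y : X) [IsNoetherianRing (X.presheaf.stalk z)]
    (k : Type u) [Field k] (A : Type u) [CommRing A] [Algebra k A] [IsLocalRing A]
    (hnil : ∀ a ∈ maximalIdeal A, IsNilpotent a) (K : Type u) [CommRing K] [IsDomain K]
    [Algebra k K]
    (q : Ideal (A ⊗[k] K)) [q.IsPrime]
    (e : X.presheaf.stalk z ≃+* Localization.AtPrime q)
    (hz : maximalIdeal (X.presheaf.stalk z) ∈
      associatedPrimes (X.presheaf.stalk z) (X.presheaf.stalk z))
    (hy : maximalIdeal (X.presheaf.stalk y) ∈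
      associatedPrimes (X.presheaf.stalk y) (X.presheaf.stalk y))
    (hyz : y ⤳ z) : y = z := by
  obtain ⟨p', hp'prime, ⟨e'⟩, hp'⟩ := exists_prime_of_specializes hyz
  haveI := hp'prime
  apply hp'
  -- the maximal ideal of B_{p'} is associated
  have h1 : maximalIdeal (Localization.AtPrime p') ∈
      associatedPrimes (Localization.AtPrime p') (Localization.AtPrime p') :=
    maximalIdeal_mem_ass e' hy
  -- hence p' is associated
  have h2 : p' ∈ associatedPrimes (X.presheaf.stalk z) (X.presheaf.stalk z) := by
    have := Module.associatedPrimes.comap_mem_associatedPrimes_of_mem_associatedPrimes_of_isLocalizedModule_of_fg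
      p'.primeCompl (Algebra.linearMap (X.presheaf.stalk z) (Localization.AtPrime p'))
      (maximalIdeal (Localization.AtPrime p')) h1
      ((isNoetherianRing_iff_ideal_fg _).mp inferInstance _)
    have h := IsLocalization.AtPrime.comap_maximalIdeal (Localization.AtPrime p') p'
    exact h ▸ this
  -- transport to the tensor product
  have h3 := comap_mem_ass e h2
  have h4 := maximalIdeal_mem_ass e hz
  have h5 := AssBCB.incomparable k A hnil K q _ h3 h4
  rw [← comap_maximalIdeal e] at h5
  have hinj : Function.Injective (Ideal.comap (e.symm : Localization.AtPrime q →+* X.presheaf.stalk z)) :=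
    Ideal.comap_injective_of_surjective _ e.symm.surjective
  exact hinj h5

/-- associated points of the structure sheaf in terms of the local ring -/
theorem mem_ass_iff (x : X) :
    x ∈ AssSch.Ass (Coh.structureModule X) ↔
      maximalIdeal (X.presheaf.stalk x) ∈
        associatedPrimes (X.presheaf.stalk x) (X.presheaf.stalk x) := by
  show IsAssociatedPrime _ _ ↔ IsAssociatedPrime _ _
  have := LinearEquiv.AssociatedPrimes.eq (Groth.Agent.Lead.CartSec.unitStalkEquiv x)
  constructor
  · intro h
    have h' : maximalIdeal (X.presheaf.stalk x) ∈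
        associatedPrimes (X.presheaf.stalk x) ((Coh.structureModule X).presheaf.stalk x) := h
    rw [← this] at h'
    exact h'
  · intro h
    have h' : maximalIdeal (X.presheaf.stalk x) ∈
        associatedPrimes (X.presheaf.stalk x) (X.presheaf.stalk x) := h
    rw [this] at h'
    exact h'

end scheme

end Groth.Agent.Helper3.AssBCC
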