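import Mathlib
import Groth.Prelude
import Groth.Agent.Helper3.RedA
import Groth.Agent.Helper3.CnIsoB

set_option autoImplicit false
set_option linter.style.haveILetI false
set_option linter.unusedSectionVars false
set_option linter.unusedVariables false
set_option linter.deprecated false
set_option linter.style.haveILetI false
set_option linter.unusedSectionVars false
set_option linter.unusedVariables false

namespace Groth.Agent.Helper3.FBaseA

universe u

open AlgebraicGeometry CategoryTheory TopologicalSpace Limits TensorProduct

section alg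

theorem length_flat_local {A B C : Type u} [CommRing A] [CommRing B] [CommRing C]
    [IsLocalRing A] [IsLocalRing B] [Algebra A B] [Algebra B C] [Module.Flat A B]
    [IsLocalHom (algebraMap A B)]
    (hsurj : Function.Surjective (algebraMap B C))
    (hker : RingHom.ker (algebraMap B C) = (IsLocalRing.maximalIdeal A).map (algebraMap A B)) :
    Module.length B B = Module.length A A * Module.length C C := by
  have h1 := IsLocalRing.length_baseChange A B A
  have e1 : (B ⊗[A] A) ≃ₗ[B] B := (Algebra.TensorProduct.rid A B B).toLinearEquiv
  rw [e1.length_eq] at h1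
  rw [h1]
  congr 1
  rw [← hker]
  have e2 : (B ⧸ RingHom.ker (algebraMap B C)) ≃ₗ[B] C :=
    (Ideal.quotientKerAlgEquivOfSurjective (f := Algebra.ofId B C) hsurj).toLinearEquiv
  have e3 : Module.length B (B ⧸ RingHom.ker (algebraMap B C)) = Module.length B C := e2.length_eq
  rw [e3]
  exact Module.length_eq_of_surjective hsurj

/-- a local ring all of whose primes are maximal has nilradical the maximal ideal -/
theorem nilradical_eq_maximalIdeal {A : Type u} [CommRing A] [IsLocalRing A]
    (h : ∀ p : Ideal A, p.IsPrime → p = IsLocalRing.maximalIdeal A) :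
    nilradical A = IsLocalRing.maximalIdeal A := by
  rw [nilradical_eq_sInf]
  apply le_antisymm
  · exact sInf_le (IsLocalRing.maximalIdeal.isMaximal A).isPrime
  · apply le_sInf
    intro p hp
    rw [h p hp]

end alg

section pt

variable {X : Scheme.{u}}

/-- at a maximal point all primes of the local ring are maximal -/
theorem prime_eq_maximalIdeal (x : X) (hmax : ∀ y : X, y ⤳ x → y = x)
    (p : Ideal (X.presheaf.stalk x)) (hp : p.IsPrime) :
    p = IsLocalRing.maximalIdeal (X.presheaf.stalk x) := by
  let P : Spec (X.presheaf.stalk x) := ⟨p, hp⟩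
  have h1 : (X.fromSpecStalk x) P ∈ Set.range (X.fromSpecStalk x) := ⟨P, rfl⟩
  rw [Scheme.range_fromSpecStalk] at h1
  have h2 : (X.fromSpecStalk x) P = x := hmax _ h1
  have h3 : (X.fromSpecStalk x) (IsLocalRing.closedPoint _) = x := Scheme.fromSpecStalk_closedPoint
  have h4 : P = IsLocalRing.closedPoint _ :=
    (X.fromSpecStalk x).isEmbedding.injective (h2.trans h3.symm)
  have := congrArg PrimeSpectrum.asIdeal h4
  exact this

/-- the stalk of the nilradical at a point computed on an affine neighbourhood -/
theorem nilradical_map_germ (W : X.affineOpens) (x : X) (hx : x ∈ W.1) :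
    (X.nilradical.ideal W).map (X.presheaf.germ W.1 x hx).hom = nilradical (X.presheaf.stalk x) := by
  letI := X.presheaf.algebra_section_stalk ⟨x, hx⟩
  haveI := W.2.isLocalization_stalk ⟨x, hx⟩
  have h1 : X.nilradical.ideal W = (⊥ : Ideal Γ(X, W.1)).radical := rfl
  rw [h1]
  have h2 := IsLocalization.map_radical (W.2.primeIdealOf ⟨x, hx⟩).asIdeal.primeCompl
    (X.presheaf.stalk x) (⊥ : Ideal Γ(X, W.1))
  have h3 : algebraMap Γ(X, W.1) (X.presheaf.stalk x) = (X.presheaf.germ W.1 x hx).hom := rfl
  rw [h3] at h2
  rw [h2, Ideal.map_bot]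
  rfl

end pt

end Groth.Agent.Helper3.FBaseA
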