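import Mathlib
import Groth.Prelude
import Groth.Agent.Helper3.AssBCC
import Groth.Agent.Helper3.CycPBA
import Groth.Agent.Helper3.FBaseA

set_option autoImplicit false
set_option linter.style.haveILetI false
set_option linter.unusedSectionVars false
set_option linter.unusedVariables false
set_option linter.deprecated false
set_option linter.style.haveILetI false
set_option linter.unusedSectionVars false
set_option linter.unusedVariables false

namespace Groth.Agent.Helper3.AssBCD

universe u

open IsLocalRing TensorProduct AlgebraicGeometry CategoryTheory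
open Groth.Agent.Helper5.StalkDict

variable {X X' : Scheme.{u}}

/-- `x` is an associated point of the structure sheaf (ring form) -/
def IsAss (X : Scheme.{u}) (x : X) : Prop :=
  maximalIdeal (X.presheaf.stalk x) ∈ associatedPrimes (X.presheaf.stalk x) (X.presheaf.stalk x)

theorem isAss_iff (x : X) : x ∈ AssSch.Ass (Coh.structureModule X) ↔ IsAss X x :=
  AssBCC.mem_ass_iff x

/-- images of associated points under flat morphisms are associated -/
theorem isAss_image (π : X' ⟶ X) [Flat π] (x' : X') [IsNoetherianRing (X.presheaf.stalk (π x'))]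
    (h : IsAss X' x') : IsAss X (π x') := by
  letI : Algebra (X.presheaf.stalk (π x')) (X'.presheaf.stalk x') := (π.stalkMap x').hom.toAlgebra
  haveI : Module.Flat (X.presheaf.stalk (π x')) (X'.presheaf.stalk x') := Flat.stalkMap π x'
  haveI : IsLocalHom (algebraMap (X.presheaf.stalk (π x')) (X'.presheaf.stalk x')) :=
    inferInstanceAs (IsLocalHom (π.stalkMap x').hom)
  exact AssBCA.ass_descends h

/-- points maximal in their fibre over an associated point are associated -/
theorem isAss_of_max (π : X' ⟶ X) [Flat π] (x' : X')
    (hmax : ∀ z : X', π z = π x' → z ⤳ x' → z = x') (h : IsAss X (π x')) : IsAss X' x' := by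
  letI : Algebra (X.presheaf.stalk (π x')) (X'.presheaf.stalk x') := (π.stalkMap x').hom.toAlgebra
  haveI : Module.Flat (X.presheaf.stalk (π x')) (X'.presheaf.stalk x') := Flat.stalkMap π x'
  haveI : IsLocalHom (algebraMap (X.presheaf.stalk (π x')) (X'.presheaf.stalk x')) :=
    inferInstanceAs (IsLocalHom (π.stalkMap x').hom)
  refine AssBCA.ass_ascends h ?_
  set I := (maximalIdeal (X.presheaf.stalk (π x'))).map
    (algebraMap (X.presheaf.stalk (π x')) (X'.presheaf.stalk x')) with hI
  have hIm : I ≤ maximalIdeal (X'.presheaf.stalk x') := by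
    rw [hI, Ideal.map_le_iff_le_comap]
    intro a ha
    exact (mem_maximalIdeal _).mpr (fun hu => ((mem_maximalIdeal _).mp ha)
      (isUnit_of_map_unit (algebraMap (X.presheaf.stalk (π x')) (X'.presheaf.stalk x')) a hu))
  apply le_antisymm
  · exact le_maximalIdeal (fun htop => by
      rw [Ideal.radical_eq_top] at htop
      exact (maximalIdeal.isMaximal _).ne_top (top_le_iff.1 (htop ▸ hIm)))
  · rw [Ideal.radical_eq_sInf]
    apply le_sInf
    rintro P ⟨hIP, hP⟩
    let Q : ↥(Spec (X'.presheaf.stalk x')) := ⟨P, hP⟩
    have h1 : π (X'.fromSpecStalk x' Q) = π x' := by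
      rw [map_fromSpecStalk]
      have h2 : Spec.map (π.stalkMap x') Q = IsLocalRing.closedPoint (X.presheaf.stalk (π x')) := by
        apply PrimeSpectrum.ext
        change P.comap (π.stalkMap x').hom = maximalIdeal _
        apply le_antisymm
        · exact le_maximalIdeal (Ideal.IsPrime.ne_top (Ideal.IsPrime.comap _))
        · rw [← Ideal.map_le_iff_le_comap]
          exact hIP
      rw [h2, Scheme.fromSpecStalk_closedPoint]
    have h3 := hmax _ h1 (fromSpecStalk_specializes x' Q)
    have h4 : Q = IsLocalRing.closedPoint _ := by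
      apply (X'.fromSpecStalk x').isEmbedding.injective
      rw [h3, Scheme.fromSpecStalk_closedPoint]
    have h5 : P = maximalIdeal _ := congrArg PrimeSpectrum.asIdeal h4
    rw [h5]

/-- for a prime of the local ring there is a generisation with that localization as local ring -/
theorem exists_point_of_prime (x : X) (p : Ideal (X.presheaf.stalk x)) [hp : p.IsPrime] :
    ∃ y : X, y ⤳ x ∧ Nonempty (X.presheaf.stalk y ≃+* Localization.AtPrime p) ∧
      (y = x → p = maximalIdeal (X.presheaf.stalk x)) := by
  let P : ↥(Spec (X.presheaf.stalk x)) := ⟨p, hp⟩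
  haveI : Flat (X.fromSpecStalk x) := Groth.Agent.Helper5.StalkRed.flat_fromSpecStalk X x
  obtain ⟨e1⟩ := Groth.Agent.Helper2.StalkDict.nonempty_stalkEquiv (X.fromSpecStalk x) P
  refine ⟨X.fromSpecStalk x P, fromSpecStalk_specializes x P, ⟨e1.trans
    (Spec.stalkIso (CommRingCat.of (X.presheaf.stalk x)) P).commRingCatIsoToRingEquiv⟩, ?_⟩
  intro h
  have h4 : P = IsLocalRing.closedPoint _ := by
    apply (X.fromSpecStalk x).isEmbedding.injective
    rw [h, Scheme.fromSpecStalk_closedPoint]
  exact congrArg PrimeSpectrum.asIdeal h4

/-- on a locally Noetherian scheme without embedded points the local ring at an associated point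
has nil maximal ideal -/
theorem nil_of_noEmbedded [IsLocallyNoetherian X]
    (hne : ∀ x : X, IsAss X x → ∀ y : X, IsAss X y → y ⤳ x → x = y) (x : X) (hx : IsAss X x) :
    ∀ a ∈ maximalIdeal (X.presheaf.stalk x), IsNilpotent a := by
  have hprimes : ∀ p : Ideal (X.presheaf.stalk x), p.IsPrime →
      p = maximalIdeal (X.presheaf.stalk x) := by
    intro p₀ hp₀
    obtain ⟨p₁, hp₁min, hp₁le⟩ := Ideal.exists_minimalPrimes_le (bot_le : (⊥ : Ideal _) ≤ p₀)
    haveI hp₁prime : p₁.IsPrime := hp₁min.1.1
    have hass : p₁ ∈ associatedPrimes (X.presheaf.stalk x) (X.presheaf.stalk x) := by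
      apply Module.associatedPrimes.minimalPrimes_annihilator_subset_associatedPrimes
      have : Module.annihilator (X.presheaf.stalk x) (X.presheaf.stalk x) = ⊥ := by
        rw [eq_bot_iff]
        intro r hr
        rw [Module.mem_annihilator] at hr
        have := hr 1
        rw [smul_eq_mul, mul_one] at this
        rw [Ideal.mem_bot]; exact this
      rw [this]
      exact hp₁min
    obtain ⟨y, hyx, ⟨e⟩, hy⟩ := exists_point_of_prime x p₁
    have hyass : IsAss X y := by
      have h1 : maximalIdeal (Localization.AtPrime p₁) ∈
          associatedPrimes (Localization.AtPrime p₁) (Localization.AtPrime p₁) := by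
        apply Module.associatedPrimes.mem_associatedPrimes_of_comap_mem_associatedPrimes_of_isLocalizedModule
          p₁.primeCompl (Algebra.linearMap (X.presheaf.stalk x) (Localization.AtPrime p₁))
        have h : Ideal.comap (algebraMap (X.presheaf.stalk x) (Localization.AtPrime p₁))
            (maximalIdeal (Localization.AtPrime p₁)) = p₁ :=
          IsLocalization.AtPrime.comap_maximalIdeal (Localization.AtPrime p₁) p₁
        rw [h]
        exact hass
      exact AssBCC.maximalIdeal_mem_ass e.symm h1
    have hxy : x = y := hne x hx y hyass hyx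
    have h2 : p₁ = maximalIdeal _ := hy hxy.symm
    exact le_antisymm (le_maximalIdeal hp₀.ne_top) (h2 ▸ hp₁le)
  intro a ha
  have := FBaseA.nilradical_eq_maximalIdeal hprimes
  rw [← this] at ha
  exact mem_nilradical.1 ha

end Groth.Agent.Helper3.AssBCD
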