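import Mathlib
import Groth.Prelude
import Groth.Agent.Helper6.Dim1Colon2

set_option autoImplicit false
set_option linter.style.haveILetI false
set_option linter.unusedSectionVars false
set_option linter.unusedVariables false
set_option linter.deprecated false
set_option linter.style.haveILetI false
set_option linter.unusedSectionVars false
set_option linter.unusedVariables false

namespace Groth.Agent.Helper3.PullDivA

universe u

open IsLocalRing TensorProduct Groth.Agent.Helper6.Dim1
open scoped Pointwise

section general

variable {R : Type u} [CommRing R] [IsNoetherianRing R]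

/-- the quotient by `a • ⊤` is the quotient by the principal ideal -/
theorem length_quotSMulTop (a : R) :
    Module.length R (QuotSMulTop a R) = Module.length R (R ⧸ Ideal.span {a}) := by
  have h : a • (⊤ : Submodule R R) = Ideal.span {a} := by
    ext y
    rw [Submodule.mem_smul_pointwise_iff_exists, Ideal.mem_span_singleton']
    constructor
    · rintro ⟨z, -, rfl⟩
      exact ⟨z, by rw [smul_eq_mul, mul_comm]⟩
    · rintro ⟨z, rfl⟩
      exact ⟨z, trivial, by rw [smul_eq_mul, mul_comm]⟩
  exact (Submodule.quotEquivOfEq _ _ h).length_eq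

/-- the order of a fraction in a quotient domain of dimension one, for any model of the fraction
field -/
theorem ordFrac_quot_div' (hdim : ringKrullDim R ≤ 1) (q : Ideal R) [q.IsPrime]
    (K : Type u) [Field K] [Algebra (R ⧸ q) K] [IsFractionRing (R ⧸ q) K] {a b : R}
    (ha : a ∉ q) (hb : b ∉ q) :
    CycAlg.ordFrac (R ⧸ q) K
        (algebraMap (R ⧸ q) K (Ideal.Quotient.mk q a) / algebraMap (R ⧸ q) K (Ideal.Quotient.mk q b)) =
      ((Module.length R (R ⧸ (q ⊔ Ideal.span {a}))).toNat : ℤ) -
        ((Module.length R (R ⧸ (q ⊔ Ideal.span {b}))).toNat : ℤ) := by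
  haveI : Ring.KrullDimLE 1 (R ⧸ q) :=
    Ring.krullDimLE_iff.mpr (le_trans (ringKrullDim_quotient_le q) (by exact_mod_cast hdim))
  have hne : ∀ {c : R}, c ∉ q → Ideal.Quotient.mk q c ≠ 0 := by
    intro c hc
    rwa [ne_eq, Ideal.Quotient.eq_zero_iff_mem]
  have hK : ∀ {c : R}, c ∉ q → algebraMap (R ⧸ q) K (Ideal.Quotient.mk q c) ≠ 0 := by
    intro c hc h0
    exact hne hc ((IsFractionRing.injective (R ⧸ q) K) (h0.trans (map_zero _).symm))
  have h1 := ordFrac_mul (R := R ⧸ q) (K := K) (div_ne_zero (hK ha) (hK hb)) (hK hb)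
  rw [div_mul_cancel₀ _ (hK hb), ordFrac_algebraMap (hne ha), ordFrac_algebraMap (hne hb),
    length_quot_quot, length_quot_quot] at h1
  linarith

end general

section flat

variable {A B : Type u} [CommRing A] [CommRing B] [IsDomain A] [IsNoetherianRing A]
  [IsNoetherianRing B] [IsLocalRing A] [IsLocalRing B] [Algebra A B] [Module.Flat A B]
  [IsLocalHom (algebraMap A B)]

theorem regular {a : A} (ha : a ≠ 0) : IsSMulRegular B (algebraMap A B a) := by
  have h1 : IsSMulRegular A a := fun x y h => mul_left_cancel₀ ha h
  exact h1.of_flat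

theorem not_mem_minimal {a : A} (ha : a ≠ 0) : ∀ p ∈ minimalPrimes B, algebraMap A B a ∉ p := by
  intro p hp hap
  have h1 : algebraMap A B a ∈ nonZeroDivisors B := by
    rw [mem_nonZeroDivisors_iff_left]
    intro x hx
    have := (isSMulRegular_iff_right_eq_zero_of_smul).1 (regular (B := B) ha) x
    exact this hx
  exact (Ideal.disjoint_nonZeroDivisors_of_mem_minimalPrimes hp).le_bot ⟨hap, h1⟩

theorem length_eq (a : A) :
    Module.length B (B ⧸ Ideal.span {algebraMap A B a}) =
      Module.length A (A ⧸ Ideal.span {a}) *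
        Module.length B (B ⧸ (maximalIdeal A).map (algebraMap A B)) := by
  rw [← IsLocalRing.length_baseChange A B (A ⧸ Ideal.span {a})]
  have e := (Algebra.TensorProduct.quotIdealMapEquivTensorQuot B (Ideal.span {a})).toLinearEquiv
  rw [← e.length_eq, Ideal.map_span, Set.image_singleton]

/-- the main identity: pulling back the order along a flat local homomorphism of one-dimensional
rings -/
theorem main (hB : ringKrullDim B ≤ 1) {a b : A} (ha : a ≠ 0) (hb : b ≠ 0) :
    ∑ q ∈ (minSpec_finite (A := B)).toFinset,
        ((Module.length (Localization.AtPrime q.asIdeal)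
          (LocalizedModule q.asIdeal.primeCompl B)).toNat : ℤ) *
        (((Module.length B (B ⧸ (q.asIdeal ⊔ Ideal.span {algebraMap A B a}))).toNat : ℤ) -
          ((Module.length B (B ⧸ (q.asIdeal ⊔ Ideal.span {algebraMap A B b}))).toNat : ℤ)) =
      (((Module.length A (A ⧸ Ideal.span {a})).toNat : ℤ) -
          ((Module.length A (A ⧸ Ideal.span {b})).toNat : ℤ)) *
        ((Module.length B (B ⧸ (maximalIdeal A).map (algebraMap A B))).toNat : ℤ) := by
  have key : ∀ {c : A}, c ≠ 0 →
      ∑ q ∈ (minSpec_finite (A := B)).toFinset,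
        ((Module.length (Localization.AtPrime q.asIdeal)
          (LocalizedModule q.asIdeal.primeCompl B)).toNat : ℤ) *
        ((Module.length B (B ⧸ (q.asIdeal ⊔ Ideal.span {algebraMap A B c}))).toNat : ℤ) =
      ((Module.length A (A ⧸ Ideal.span {c})).toNat : ℤ) *
        ((Module.length B (B ⧸ (maximalIdeal A).map (algebraMap A B))).toNat : ℤ) := by
    intro c hc
    rw [← toNat_length_quotSMulTop_eq_sum hB (M := B) (not_mem_minimal hc) (regular hc),
      length_quotSMulTop, length_eq, ENat.toNat_mul]
    push_cast
    rfl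
  simp only [mul_sub, Finset.sum_sub_distrib]
  rw [key ha, key hb]
  ring

end flat

end Groth.Agent.Helper3.PullDivA
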