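import Mathlib
import Groth.Prelude
import Groth.Agent.Helper3.DivTrB
import Groth.Agent.Helper5.CycDim3
import Groth.Agent.Helper3.PullDivA
import Groth.Agent.Helper3.AssBCD

set_option autoImplicit false
set_option linter.style.haveILetI false
set_option linter.unusedSectionVars false
set_option linter.unusedVariables false
set_option linter.deprecated false
set_option linter.style.haveILetI false
set_option linter.unusedSectionVars false
set_option linter.unusedVariables false

namespace Groth.Agent.Helper3.PullDivB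

universe u

open AlgebraicGeometry CategoryTheory IsLocalRing

variable {X : Scheme.{u}}

theorem algebraMap_injective (x ξ : X) (h : ξ ⤳ x) :
    Function.Injective (algebraMap (Cyc.LocQuot x ξ h) (X.residueField ξ)) := by
  rw [injective_iff_map_eq_zero]
  intro r hr
  obtain ⟨a, rfl⟩ := Ideal.Quotient.mk_surjective r
  rw [DivTrB.algebraMap_mk] at hr
  exact Ideal.Quotient.eq_zero_iff_mem.mpr (RingHom.mem_ker.mpr hr)

/-- every element of the residue field at a generisation is a quotient of elements of the local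
ring -/
theorem exists_div (x ξ : X) (h : ξ ⤳ x) (z : X.residueField ξ) :
    ∃ a b : X.presheaf.stalk x, Cyc.specMap x ξ h b ≠ 0 ∧
      z = Cyc.specMap x ξ h a / Cyc.specMap x ξ h b := by
  obtain ⟨_, ⟨U, hU : IsAffineOpen U, rfl⟩, hxU, -⟩ :=
    X.isBasis_affineOpens.exists_subset_of_mem_open (Set.mem_univ x) isOpen_univ
  have hξU : ξ ∈ U := h.mem_open U.isOpen hxU
  obtain ⟨s, rfl⟩ := IsLocalRing.residue_surjective z
  letI := X.presheaf.algebra_section_stalk (⟨ξ, hξU⟩ : U)
  haveI : IsLocalization.AtPrime (X.presheaf.stalk ξ) (hU.primeIdealOf ⟨ξ, hξU⟩).asIdeal :=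
    hU.isLocalization_stalk ⟨ξ, hξU⟩
  obtain ⟨⟨a, t⟩, hat⟩ := IsLocalization.surj (hU.primeIdealOf ⟨ξ, hξU⟩).asIdeal.primeCompl s
  have hgerm : ∀ c : Γ(X, U), algebraMap Γ(X, U) (X.presheaf.stalk ξ) c =
      X.presheaf.germ U ξ hξU c := fun c => rfl
  have hsp : ∀ c : Γ(X, U), Cyc.specMap x ξ h (X.presheaf.germ U x hxU c) =
      IsLocalRing.residue _ (X.presheaf.germ U ξ hξU c) := by
    intro c
    unfold Cyc.specMap
    simp only [CommRingCat.hom_comp, RingHom.comp_apply]
    rw [TopCat.Presheaf.germ_stalkSpecializes_apply]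
    rfl
  have htunit : IsUnit (X.presheaf.germ U ξ hξU (t : Γ(X, U))) := by
    rw [← hgerm]
    exact IsLocalization.map_units _ t
  have htne : IsLocalRing.residue (X.presheaf.stalk ξ) (X.presheaf.germ U ξ hξU (t : Γ(X, U))) ≠ 0 := by
    intro h0
    rw [IsLocalRing.residue_eq_zero_iff] at h0
    exact (IsLocalRing.mem_maximalIdeal _).mp h0 htunit
  refine ⟨X.presheaf.germ U x hxU a, X.presheaf.germ U x hxU t, ?_, ?_⟩
  · rw [hsp]; exact htne
  · rw [hsp, hsp]
    have h1 : IsLocalRing.residue (X.presheaf.stalk ξ) s *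
        IsLocalRing.residue (X.presheaf.stalk ξ) (X.presheaf.germ U ξ hξU (t : Γ(X, U))) =
        IsLocalRing.residue (X.presheaf.stalk ξ) (X.presheaf.germ U ξ hξU a) := by
      rw [← map_mul, ← hgerm, ← hgerm]
      exact congrArg _ hat
    exact (eq_div_iff htne).mpr h1

instance faithfulSMul_locQuot (x ξ : X) (h : ξ ⤳ x) :
    FaithfulSMul (Cyc.LocQuot x ξ h) (X.residueField ξ) :=
  (faithfulSMul_iff_algebraMap_injective _ _).mpr (algebraMap_injective x ξ h)

instance isFractionRing_locQuot (x ξ : X) (h : ξ ⤳ x) :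
    IsFractionRing (Cyc.LocQuot x ξ h) (X.residueField ξ) :=
  IsFractionRing.of_field _ _ (by
    intro z
    obtain ⟨a, b, -, hz⟩ := exists_div x ξ h z
    exact ⟨Ideal.Quotient.mk _ a, Ideal.Quotient.mk _ b, hz⟩)


open Groth.Agent.Helper6.Dim1 Groth.Agent.Helper5.StalkDict

/-- the prime cut out by the generisation attached to a prime is that prime -/
theorem ker_specMap (x : X) (P : ↥(Spec (X.presheaf.stalk x))) (h : X.fromSpecStalk x P ⤳ x) :
    RingHom.ker (Cyc.specMap x (X.fromSpecStalk x P) h) = P.asIdeal := by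
  obtain ⟨p, hp1, hp2⟩ := Groth.Agent.Helper5.CycDim.locQuot_prime x _ h
  have : p = P := (X.fromSpecStalk x).isEmbedding.injective hp2
  rw [← hp1, this]

/-- the order of a fraction along a generisation, in a local ring of dimension at most one -/
theorem ordAt_div (x ξ : X) [IsNoetherianRing (X.presheaf.stalk x)]
    (hdim : ringKrullDim (X.presheaf.stalk x) ≤ 1) (h : ξ ⤳ x) (c d : X.presheaf.stalk x)
    (hc : Cyc.specMap x ξ h c ≠ 0) (hd : Cyc.specMap x ξ h d ≠ 0) :
    Cyc.ordAt x ξ h (Cyc.specMap x ξ h c / Cyc.specMap x ξ h d) =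
      ((Module.length (X.presheaf.stalk x) (X.presheaf.stalk x ⧸
        (RingHom.ker (Cyc.specMap x ξ h) ⊔ Ideal.span {c}))).toNat : ℤ) -
      ((Module.length (X.presheaf.stalk x) (X.presheaf.stalk x ⧸
        (RingHom.ker (Cyc.specMap x ξ h) ⊔ Ideal.span {d}))).toNat : ℤ) := by
  haveI : (RingHom.ker (Cyc.specMap x ξ h)).IsPrime := RingHom.ker_isPrime _
  unfold Cyc.ordAt
  exact PullDivA.ordFrac_quot_div' hdim (RingHom.ker (Cyc.specMap x ξ h)) (X.residueField ξ)
    (fun hmem => hc (RingHom.mem_ker.mp hmem)) (fun hmem => hd (RingHom.mem_ker.mp hmem))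

theorem length_self_ringEquiv {R S : Type u} [CommRing R] [CommRing S] (e : R ≃+* S) :
    Module.length R R = Module.length S S := by
  letI : Algebra R S := e.toRingHom.toAlgebra
  have h1 : Module.length R S = Module.length S S :=
    Module.length_eq_of_surjective e.surjective
  let e' : R ≃ₗ[R] S :=
    { e with
      map_smul' := fun r y => by
        simp only [smul_eq_mul, RingHom.id_apply, Algebra.smul_def]
        exact map_mul e r y }
  rw [e'.length_eq, h1]

/-- the local ring at the generisation attached to a prime, as a length -/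
theorem length_stalk_eq (x : X) (P : ↥(Spec (X.presheaf.stalk x))) :
    Module.length (X.presheaf.stalk (X.fromSpecStalk x P)) (X.presheaf.stalk (X.fromSpecStalk x P)) =
      Module.length (Localization.AtPrime P.asIdeal)
        (LocalizedModule P.asIdeal.primeCompl (X.presheaf.stalk x)) := by
  haveI : Flat (X.fromSpecStalk x) := Groth.Agent.Helper5.StalkRed.flat_fromSpecStalk X x
  obtain ⟨e1⟩ := Groth.Agent.Helper2.StalkDict.nonempty_stalkEquiv (X.fromSpecStalk x) P
  have e2 := e1.trans
    (Spec.stalkIso (CommRingCat.of (X.presheaf.stalk x)) P).commRingCatIsoToRingEquiv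
  exact length_self_ringEquiv e2

/-- a sum over the maximal points of a scheme of a function supported on the generisations of `x` is
a sum over the minimal primes of the local ring at `x` -/
theorem finsum_eq_sum_minSpec (x : X) [IsNoetherianRing (X.presheaf.stalk x)] (p : X → Prop)
    (hp1 : ∀ ξ, p ξ → ∀ x', x' ⤳ ξ → x' = ξ)
    (hp2 : ∀ ξ, (∀ x', x' ⤳ ξ → x' = ξ) → ξ ⤳ x → p ξ)
    (F : X → ℤ) (hF : ∀ ξ, ¬ (ξ ⤳ x) → F ξ = 0) :
    ∑ᶠ ξ : {ξ : X // p ξ}, F ξ.1 =
      ∑ q ∈ (minSpec_finite (A := X.presheaf.stalk x)).toFinset, F (X.fromSpecStalk x q) := by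
  let e : ↥(minSpec (X.presheaf.stalk x)) → {ξ : X // p ξ} := fun q =>
    ⟨X.fromSpecStalk x q.1, hp2 _ (max_of_mem_minimalPrimes x q.1 q.2)
      (fromSpecStalk_specializes x q.1)⟩
  have he : Function.Injective e := by
    intro q q' hqq'
    have h' := congrArg Subtype.val hqq'
    exact Subtype.ext ((X.fromSpecStalk x).isEmbedding.injective h')
  have hsupp : ∀ ξ ∈ Function.support (fun ξ : {ξ : X // p ξ} => F ξ.1),
      ξ ∈ (Set.univ : Set {ξ : X // p ξ}) ↔ ξ ∈ Set.range e := by
    intro ξ hξ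
    refine ⟨fun _ => ?_, fun _ => trivial⟩
    have hsp : ξ.1 ⤳ x := by
      by_contra hcon
      exact hξ (hF ξ.1 hcon)
    obtain ⟨P, hP⟩ := exists_prime_of_specializes x ξ.1 hsp
    have hmin : P.asIdeal ∈ minimalPrimes (X.presheaf.stalk x) := by
      apply mem_minimalPrimes_of_max
      rw [hP]
      exact hp1 ξ.1 ξ.2
    exact ⟨⟨P, hmin⟩, Subtype.ext hP⟩
  rw [← finsum_mem_univ, finsum_mem_inter_support_eq' _ _ _ hsupp, finsum_mem_range he]
  have h1 := finsum_set_coe_eq_finsum_mem
    (f := fun q : PrimeSpectrum (X.presheaf.stalk x) => F (X.fromSpecStalk x q))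
    (minSpec (X.presheaf.stalk x))
  exact h1.trans (finsum_mem_eq_finite_toFinset_sum _ minSpec_finite)

end Groth.Agent.Helper3.PullDivB
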