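import Mathlib
import Groth.Prelude
import Groth.Agent.Helper5.KLem10
import Groth.Agent.Helper5.StalkDict

set_option autoImplicit false
set_option linter.style.haveILetI false
set_option linter.unusedSectionVars false
set_option linter.unusedVariables false
set_option linter.deprecated false
set_option linter.style.haveILetI false
set_option linter.unusedSectionVars false
set_option linter.unusedVariables false

namespace Groth.Agent.Helper3.PullDivC

universe u

open AlgebraicGeometry CategoryTheory IsLocalRing Groth.Agent.Helper5.StalkDict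

section reldim

variable {X Y : Scheme.{u}} (f : X ⟶ Y) [LocallyOfFiniteType f] (r : ℕ) (hr : Cyc.HasRelDim f r)

include hr in
/-- the residue transcendence degree at any point is at most the relative dimension -/
theorem resTrdeg_le (x : X) : ∃ n : ℕ, Dual3.resTrdeg f x = n ∧ n ≤ r := by
  let ζ : ↥(f.fiber (f x)) := f.asFiber x
  have hζ : f.fiberι (f x) ζ = x := f.fiberι_asFiber x
  obtain ⟨n, hn1, hn2⟩ := Groth.Agent.Helper5.MaxPt.dim_closure_fibre_point f (f x) ζ x hζ rfl
  refine ⟨n, hn2, ?_⟩
  -- the closure of `ζ` lies in an irreducible component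
  have hirr : IsIrreducible (closure ({ζ} : Set ↥(f.fiber (f x)))) :=
    isIrreducible_singleton.closure
  obtain ⟨T, hT, hsub⟩ := exists_mem_irreducibleComponents_subset_of_isIrreducible _ hirr
  have h1 : topologicalKrullDim ↥(closure ({ζ} : Set ↥(f.fiber (f x)))) ≤ topologicalKrullDim ↥T :=
    (Topology.IsEmbedding.inclusion hsub).isInducing.topologicalKrullDim_le
  rw [hn1, hr (f x) T hT] at h1
  exact_mod_cast h1

include hr in
/-- at a maximal point of a fibre the residue transcendence degree is the relative dimension -/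
theorem resTrdeg_of_max (x : X) (hmax : ∀ w : X, f w = f x → w ⤳ x → w = x) :
    Dual3.resTrdeg f x = r := by
  obtain ⟨n, hn, -⟩ := resTrdeg_le f r hr x
  have hmem : ((n : ℕ) : WithBot ℕ∞) ∈ Groth.Agent.Helper5.KLem.compDims f (f x) :=
    (Groth.Agent.Helper5.KLem.mem_compDims_iff f (f x) _).mpr ⟨x, rfl, hmax, n, hn, rfl⟩
  obtain ⟨T, hT, hTn⟩ := hmem
  have h1 : topologicalKrullDim ↥T = (n : WithBot ℕ∞) := hTn
  rw [hr (f x) T hT] at h1
  have : r = n := by exact_mod_cast h1
  rw [hn, this]

variable (δX : X → ℤ) (δY : Y → ℤ) (hδ : Cyc.DeltaCompat f δX δY)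

include hr hδ in
theorem delta_le (x : X) : δX x ≤ δY (f x) + r := by
  obtain ⟨n, hn1, hn2⟩ := hδ x
  obtain ⟨m, hm1, hm2⟩ := resTrdeg_le f r hr x
  have hn1' : Dual3.resTrdeg f x = (n : Cardinal.{u}) := hn1
  rw [hm1] at hn1'
  have : m = n := by exact_mod_cast hn1'
  rw [hn2]
  have : (n : ℤ) ≤ r := by exact_mod_cast (this ▸ hm2)
  linarith

include hr hδ in
theorem delta_of_max (x : X) (hmax : ∀ w : X, f w = f x → w ⤳ x → w = x) :
    δX x = δY (f x) + r := by
  obtain ⟨n, hn1, hn2⟩ := hδ x
  have hn1' : Dual3.resTrdeg f x = (n : Cardinal.{u}) := hn1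
  rw [resTrdeg_of_max f r hr x hmax] at hn1'
  have : r = n := by exact_mod_cast hn1'
  rw [hn2, this]

include hr hδ in
theorem max_of_delta (hX : Cyc.IsDimFun X δX) (x : X) (h : δX x = δY (f x) + r) :
    ∀ w : X, f w = f x → w ⤳ x → w = x := by
  intro w hw hwx
  by_contra hne
  have h1 := (hX w x hwx hne).1
  have h2 := delta_le f r hr δX δY hδ w
  rw [hw] at h2
  linarith

end reldim

section dim

variable {X : Scheme.{u}}

/-- if all maximal generisations of `x` have `δ` at most `δ x + 1` then the local ring at `x` has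
dimension at most one -/
theorem krullDim_stalk_le_one (δ : X → ℤ) (hδ : Cyc.IsDimFun X δ) (x : X)
    (h : ∀ ξ : X, (∀ x' : X, x' ⤳ ξ → x' = ξ) → ξ ⤳ x → δ ξ ≤ δ x + 1) :
    ringKrullDim (X.presheaf.stalk x) ≤ 1 := by
  suffices hk : Ring.KrullDimLE 1 (X.presheaf.stalk x) by
    exact_mod_cast Ring.krullDimLE_iff.mp hk
  rw [Ring.krullDimLE_one_iff]
  intro I hI
  let P : ↥(Spec (X.presheaf.stalk x)) := ⟨I, hI⟩
  obtain ⟨I0, hI0, hI0le⟩ := Ideal.exists_minimalPrimes_le (bot_le : (⊥ : Ideal (X.presheaf.stalk x)) ≤ I)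
  let P0 : ↥(Spec (X.presheaf.stalk x)) := ⟨I0, hI0.1.1⟩
  have hP0min : P0.asIdeal ∈ minimalPrimes (X.presheaf.stalk x) := hI0
  have hξmax := max_of_mem_minimalPrimes x P0 hP0min
  have hξζ : X.fromSpecStalk x P0 ⤳ X.fromSpecStalk x P :=
    (fromSpecStalk_specializes_iff x P0 P).2 hI0le
  have hζx : X.fromSpecStalk x P ⤳ x := fromSpecStalk_specializes x P
  have hle := h _ hξmax (hξζ.trans hζx)
  by_cases h1 : X.fromSpecStalk x P = x
  · right
    have h4 : P = IsLocalRing.closedPoint _ := by
      apply (X.fromSpecStalk x).isEmbedding.injective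
      rw [h1, Scheme.fromSpecStalk_closedPoint]
    have h5 : I = maximalIdeal _ := congrArg PrimeSpectrum.asIdeal h4
    rw [h5]
    exact IsLocalRing.maximalIdeal.isMaximal _
  · left
    have h2 := (hδ _ _ hζx h1).1
    by_cases h3 : X.fromSpecStalk x P0 = X.fromSpecStalk x P
    · have h4 : P0 = P := (X.fromSpecStalk x).isEmbedding.injective h3
      have h5 : I0 = I := congrArg PrimeSpectrum.asIdeal h4
      rw [← h5]
      exact hI0
    · have h4 := (hδ _ _ hξζ h3).1
      omega

end dim

section integral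

variable {Y : Scheme.{u}} [IsIntegral Y]

theorem specMap_injective (y : Y) (h : genericPoint Y ⤳ y) :
    Function.Injective (Cyc.specMap y (genericPoint Y) h) := by
  intro a b hab
  have h1 : Cyc.specMap y (genericPoint Y) h a =
      (Y.residue (genericPoint Y)).hom (algebraMap (Y.presheaf.stalk y) Y.functionField a) := rfl
  have h2 : Cyc.specMap y (genericPoint Y) h b =
      (Y.residue (genericPoint Y)).hom (algebraMap (Y.presheaf.stalk y) Y.functionField b) := rfl
  rw [h1, h2] at hab
  exact IsFractionRing.injective (Y.presheaf.stalk y) Y.functionField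
    ((Y.residue (genericPoint Y)).hom.injective hab)

theorem ker_specMap_eq_bot (y : Y) (h : genericPoint Y ⤳ y) :
    RingHom.ker (Cyc.specMap y (genericPoint Y) h) = ⊥ :=
  (RingHom.injective_iff_ker_eq_bot _).mp (specMap_injective y h)

theorem generic_specializes (y : Y) : genericPoint Y ⤳ y := by
  rw [specializes_iff_mem_closure, (genericPoint_spec Y).def]; exact Set.mem_univ _

/-- for a flat morphism to an integral scheme maximal points map to the generic point -/
theorem map_max_eq_generic {X : Scheme.{u}} (f : X ⟶ Y) [Flat f] (ξ : X)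
    (hmax : ∀ x' : X, x' ⤳ ξ → x' = ξ) : f ξ = genericPoint Y := by
  obtain ⟨w, hw1, hw2⟩ := (Flat.generalizingMap f) (generic_specializes (f ξ))
  rw [← hw2, hmax w hw1]

end integral

end Groth.Agent.Helper3.PullDivC
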