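import Mathlib
import Groth.Prelude
import Groth.Agent.Helper3.PullDivB
import Groth.Agent.Helper3.PullDivC

set_option autoImplicit false
set_option linter.style.haveILetI false
set_option linter.unusedSectionVars false
set_option linter.unusedVariables false
set_option linter.deprecated false
set_option linter.style.haveILetI false
set_option linter.unusedSectionVars false
set_option linter.unusedVariables false

namespace Groth.Agent.Helper3.PullDivD

universe u

open AlgebraicGeometry CategoryTheory IsLocalRing Groth.Agent.Helper6.Dim1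
  Groth.Agent.Helper5.StalkDict

section alg

/-- ring homomorphism form of the algebraic identity -/
theorem main' {A B : Type u} [CommRing A] [CommRing B] [IsDomain A] [IsNoetherianRing A]
    [IsNoetherianRing B] [IsLocalRing A] [IsLocalRing B] (φ : A →+* B) (hφ : φ.Flat)
    [IsLocalHom φ] (hB : ringKrullDim B ≤ 1) {a b : A} (ha : a ≠ 0) (hb : b ≠ 0) :
    ∑ q ∈ (minSpec_finite (A := B)).toFinset,
        ((Module.length (Localization.AtPrime q.asIdeal)
          (LocalizedModule q.asIdeal.primeCompl B)).toNat : ℤ) *
        (((Module.length B (B ⧸ (q.asIdeal ⊔ Ideal.span {φ a}))).toNat : ℤ) -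
          ((Module.length B (B ⧸ (q.asIdeal ⊔ Ideal.span {φ b}))).toNat : ℤ)) =
      (((Module.length A (A ⧸ Ideal.span {a})).toNat : ℤ) -
          ((Module.length A (A ⧸ Ideal.span {b})).toNat : ℤ)) *
        ((Module.length B (B ⧸ (maximalIdeal A).map φ)).toNat : ℤ) := by
  letI : Algebra A B := φ.toAlgebra
  haveI : Module.Flat A B := hφ
  haveI : IsLocalHom (algebraMap A B) := ‹IsLocalHom φ›
  exact PullDivA.main hB ha hb

theorem length_quot_span_unit {A : Type u} [CommRing A] {a : A} (ha : IsUnit a) :
    Module.length A (A ⧸ Ideal.span {a}) = 0 := by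
  rw [Module.length_eq_zero_iff]
  rw [Ideal.span_singleton_eq_top.mpr ha]
  exact Ideal.Quotient.subsingleton_iff.mpr rfl

end alg

section cast

variable {Y : Scheme.{u}}

theorem congr_specMap (y η y' : Y) (e : y' = η) (hh : η ⤳ y) (hh' : y' ⤳ y)
    (a : Y.presheaf.stalk y) :
    (Y.residueFieldCongr e.symm).hom (Cyc.specMap y η hh a) = Cyc.specMap y y' hh' a := by
  subst e
  rfl

theorem ker_specMap_self (y η : Y) (e : y = η) (h : η ⤳ y) :
    RingHom.ker (Cyc.specMap y η h) = maximalIdeal (Y.presheaf.stalk y) := by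
  subst e
  ext a
  rw [RingHom.mem_ker]
  unfold Cyc.specMap
  have : Y.presheaf.stalkSpecializes h = 𝟙 _ := TopCat.Presheaf.stalkSpecializes_refl _ _
  rw [this]
  simp only [Category.id_comp]
  exact IsLocalRing.residue_eq_zero_iff a

end cast

section main

variable {X Y : Scheme.{u}} (f : X ⟶ Y) (δX : X → ℤ)

open Classical in
/-- the term of the sum attached to a point of `X` -/
noncomputable def G (η' : Y) (g : Y.residueField η') (x : X) (ξ : X) : ℤ :=
  if h : f ξ = η' then
    ((Module.length (X.presheaf.stalk ξ) (X.presheaf.stalk ξ)).toNat : ℤ) *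
      Cyc.divFun δX ξ (f.residueFieldMap ξ ((Y.residueFieldCongr h.symm).hom g)) x
  else 0

variable [IsIntegral Y] (δY : Y → ℤ) (hX : Cyc.IsSetup X δX) (hY : Cyc.IsSetup Y δY)
  [Flat f] [LocallyOfFiniteType f] (r : ℕ) (hr : Cyc.HasRelDim f r)
  (hδ : Cyc.DeltaCompat f δX δY)

include hX hY hr hδ in
theorem core (g : Y.residueField (genericPoint Y)) (hg : g ≠ 0) (x : X) :
    haveI := hX.1
    Cyc.pullFun f δX δY r (Cyc.divFun δY (genericPoint Y) g) x =
      ∑ q ∈ (minSpec_finite (A := X.presheaf.stalk x)).toFinset,
        G f δX (genericPoint Y) g x (X.fromSpecStalk x q) := by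
  haveI := hX.1
  haveI := hY.1
  have hgy : (genericPoint Y) ⤳ f x := PullDivC.generic_specializes (f x)
  -- write `g` as a fraction
  obtain ⟨a, b, hb0, hgab⟩ := PullDivB.exists_div (f x) (genericPoint Y) hgy g
  have ha0 : Cyc.specMap (f x) (genericPoint Y) hgy a ≠ 0 := by
    intro h0
    rw [h0, zero_div] at hgab
    exact hg hgab
  have ha : a ≠ 0 := fun h => ha0 (by rw [h, map_zero])
  have hb : b ≠ 0 := fun h => hb0 (by rw [h, map_zero])
  -- maximal points
  have hmaxpt : ∀ q ∈ (minSpec_finite (A := X.presheaf.stalk x)).toFinset,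
      (∀ x' : X, x' ⤳ X.fromSpecStalk x q → x' = X.fromSpecStalk x q) ∧
        f (X.fromSpecStalk x q) = (genericPoint Y) ∧ δX (X.fromSpecStalk x q) = δY (genericPoint Y) + r := by
    intro q hq
    have hq'' : q ∈ minSpec (X.presheaf.stalk x) := (Set.Finite.mem_toFinset _).mp hq
    have hq' : q.asIdeal ∈ minimalPrimes (X.presheaf.stalk x) := hq''
    have h1 := max_of_mem_minimalPrimes x q hq'
    have h2 := PullDivC.map_max_eq_generic f _ h1
    refine ⟨h1, h2, ?_⟩
    have h3 := PullDivC.delta_of_max f r hr δX δY hδ _ (fun w _ hw => h1 w hw)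
    rw [h2] at h3
    exact h3
  by_cases hc : δX x + 1 = δY (genericPoint Y) + r
  · -- the local rings have dimension at most one
    have hB : ringKrullDim (X.presheaf.stalk x) ≤ 1 := by
      apply PullDivC.krullDim_stalk_le_one δX hX.2.2 x
      intro ξ hξmax hξx
      have h2 := PullDivC.map_max_eq_generic f _ hξmax
      have h3 := PullDivC.delta_of_max f r hr δX δY hδ _ (fun w _ hw => hξmax w hw)
      rw [h2] at h3
      omega
    have hφa : ∀ q ∈ (minSpec_finite (A := X.presheaf.stalk x)).toFinset,
        ∀ {c : Y.presheaf.stalk (f x)}, c ≠ 0 →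
          Cyc.specMap x (X.fromSpecStalk x q) (fromSpecStalk_specializes x q)
            ((f.stalkMap x).hom c) ≠ 0 := by
      intro q hq c hc0 h0
      have hq'' : q ∈ minSpec (X.presheaf.stalk x) := (Set.Finite.mem_toFinset _).mp hq
      have hq' : q.asIdeal ∈ minimalPrimes (X.presheaf.stalk x) := hq''
      have hmem : (f.stalkMap x).hom c ∈ q.asIdeal := by
        rw [← PullDivB.ker_specMap x q (fromSpecStalk_specializes x q)]
        exact RingHom.mem_ker.mpr h0
      letI : Algebra (Y.presheaf.stalk (f x)) (X.presheaf.stalk x) := (f.stalkMap x).hom.toAlgebra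
      haveI : Module.Flat (Y.presheaf.stalk (f x)) (X.presheaf.stalk x) := Flat.stalkMap f x
      haveI : IsLocalHom (algebraMap (Y.presheaf.stalk (f x)) (X.presheaf.stalk x)) :=
        inferInstanceAs (IsLocalHom (f.stalkMap x).hom)
      exact PullDivA.not_mem_minimal (B := X.presheaf.stalk x) hc0 q.asIdeal hq' hmem
    -- the terms of the sum
    have hterm : ∀ q ∈ (minSpec_finite (A := X.presheaf.stalk x)).toFinset,
        G f δX (genericPoint Y) g x (X.fromSpecStalk x q) =
          ((Module.length (Localization.AtPrime q.asIdeal)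
            (LocalizedModule q.asIdeal.primeCompl (X.presheaf.stalk x))).toNat : ℤ) *
          (((Module.length (X.presheaf.stalk x) (X.presheaf.stalk x ⧸
              (q.asIdeal ⊔ Ideal.span {(f.stalkMap x).hom a}))).toNat : ℤ) -
            ((Module.length (X.presheaf.stalk x) (X.presheaf.stalk x ⧸
              (q.asIdeal ⊔ Ideal.span {(f.stalkMap x).hom b}))).toNat : ℤ)) := by
      intro q hq
      obtain ⟨h1, h2, h3⟩ := hmaxpt q hq
      have hξx : X.fromSpecStalk x q ⤳ x := fromSpecStalk_specializes x q
      unfold G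
      rw [dif_pos h2, PullDivB.length_stalk_eq]
      congr 1
      unfold Cyc.divFun
      rw [dif_pos ⟨hξx, by rw [h3]; exact hc⟩]
      have hgξ : f.residueFieldMap (X.fromSpecStalk x q)
          ((Y.residueFieldCongr h2.symm).hom g) =
          Cyc.specMap x (X.fromSpecStalk x q) hξx ((f.stalkMap x).hom a) /
            Cyc.specMap x (X.fromSpecStalk x q) hξx ((f.stalkMap x).hom b) := by
        rw [hgab, map_div₀, map_div₀,
          congr_specMap (f x) (genericPoint Y) _ h2 hgy (hξx.map f.continuous) a,
          congr_specMap (f x) (genericPoint Y) _ h2 hgy (hξx.map f.continuous) b]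
        have e1 := DivTrB.specMap_stalkMap f x _ hξx a
        have e2 := DivTrB.specMap_stalkMap f x _ hξx b
        rw [← e1, ← e2]
      rw [hgξ, PullDivB.ordAt_div x _ hB hξx _ _ (hφa q hq ha) (hφa q hq hb),
        PullDivB.ker_specMap x q hξx]
    rw [Finset.sum_congr rfl hterm,
      main' (f.stalkMap x).hom (Flat.stalkMap f x) hB ha hb]
    unfold Cyc.pullFun
    by_cases hx : δX x = δY (f x) + r
    · rw [if_pos hx]
      have hy1 : δY (f x) + 1 = δY (genericPoint Y) := by omega
      congr 1
      unfold Cyc.divFun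
      rw [dif_pos ⟨hgy, hy1⟩]
      have hA : ringKrullDim (Y.presheaf.stalk (f x)) ≤ 1 := by
        apply PullDivC.krullDim_stalk_le_one δY hY.2.2 (f x)
        intro ξ hξmax hξx
        have : ξ = (genericPoint Y) := (hξmax (genericPoint Y) (PullDivC.generic_specializes ξ)).symm
        rw [this]
        omega
      rw [hgab, PullDivB.ordAt_div (f x) (genericPoint Y) hA hgy a b ha0 hb0,
        PullDivC.ker_specMap_eq_bot (f x) hgy, bot_sup_eq, bot_sup_eq]
    · rw [if_neg hx]
      have hle := PullDivC.delta_le f r hr δX δY hδ x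
      have hyg : f x = (genericPoint Y) := by
        by_contra hne
        have := (hY.2.2 (genericPoint Y) (f x) hgy (fun h => hne h.symm)).1
        omega
      have hker := ker_specMap_self (f x) (genericPoint Y) hyg hgy
      have hunit : ∀ {c : Y.presheaf.stalk (f x)}, Cyc.specMap (f x) (genericPoint Y) hgy c ≠ 0 → IsUnit c := by
        intro c hc0
        by_contra hnu
        have : c ∈ maximalIdeal (Y.presheaf.stalk (f x)) := (IsLocalRing.mem_maximalIdeal c).mpr hnu
        rw [← hker] at this
        exact hc0 (RingHom.mem_ker.mp this)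
      rw [length_quot_span_unit (hunit ha0), length_quot_span_unit (hunit hb0)]
      simp
  · -- all terms vanish
    have hterm : ∀ q ∈ (minSpec_finite (A := X.presheaf.stalk x)).toFinset,
        G f δX (genericPoint Y) g x (X.fromSpecStalk x q) = 0 := by
      intro q hq
      obtain ⟨h1, h2, h3⟩ := hmaxpt q hq
      unfold G
      rw [dif_pos h2]
      unfold Cyc.divFun
      rw [dif_neg (fun h => hc (by rw [← h3]; exact h.2)), mul_zero]
    rw [Finset.sum_eq_zero hterm]
    unfold Cyc.pullFun
    by_cases hx : δX x = δY (f x) + r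
    · rw [if_pos hx]
      unfold Cyc.divFun
      rw [dif_neg (fun h => hc (by omega)), zero_mul]
    · rw [if_neg hx]

end main

end Groth.Agent.Helper3.PullDivD
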