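import Mathlib
import Groth.Prelude
import Groth.Agent.Helper3.PullDivA

set_option autoImplicit false
set_option linter.style.haveILetI false
set_option linter.unusedSectionVars false
set_option linter.unusedVariables false
set_option linter.deprecated false
set_option linter.style.haveILetI false
set_option linter.unusedSectionVars false
set_option linter.unusedVariables false

namespace Groth.Agent.Helper3.PullDivG

universe u

open IsLocalRing TensorProduct Groth.Agent.Helper6.Dim1
open scoped Pointwise

section quot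

variable {B : Type u} [CommRing B] (J : Ideal B)

/-- lengths over a quotient ring of quotients by extended ideals -/
theorem length_quot_map (I : Ideal B) (hJI : J ≤ I) :
    Module.length (B ⧸ J) ((B ⧸ J) ⧸ I.map (Ideal.Quotient.mk J)) = Module.length B (B ⧸ I) := by
  rw [← Module.length_eq_of_surjective (R := B ⧸ J) (S := B) Ideal.Quotient.mk_surjective]
  let g : B →ₗ[B] ((B ⧸ J) ⧸ I.map (Ideal.Quotient.mk J)) :=
    ((Submodule.mkQ (I.map (Ideal.Quotient.mk J))).restrictScalars B).comp
      (Algebra.linearMap B (B ⧸ J))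
  have hg : Function.Surjective g := by
    intro z
    obtain ⟨z', rfl⟩ := Submodule.mkQ_surjective _ z
    obtain ⟨b, rfl⟩ := Ideal.Quotient.mk_surjective z'
    exact ⟨b, rfl⟩
  have hker : LinearMap.ker g = I := by
    ext b
    rw [LinearMap.mem_ker]
    show Submodule.Quotient.mk (Ideal.Quotient.mk J b) = 0 ↔ _
    rw [Submodule.Quotient.mk_eq_zero]
    constructor
    · intro h
      have h2 : b ∈ (I.map (Ideal.Quotient.mk J)).comap (Ideal.Quotient.mk J) := h
      rw [Ideal.comap_map_of_surjective _ Ideal.Quotient.mk_surjective, ← RingHom.ker_eq_comap_bot,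
        Ideal.mk_ker, sup_eq_left.mpr hJI] at h2
      exact h2
    · intro h
      exact Ideal.mem_map_of_mem _ h
  have e := g.quotKerEquivOfSurjective hg
  rw [← e.length_eq]
  exact (Submodule.quotEquivOfEq _ _ hker).length_eq

theorem map_sup_span (q' : Ideal (B ⧸ J)) (c : B) :
    (q'.comap (Ideal.Quotient.mk J) ⊔ Ideal.span {c}).map (Ideal.Quotient.mk J) =
      q' ⊔ Ideal.span {Ideal.Quotient.mk J c} := by
  rw [Ideal.map_sup, Ideal.map_comap_of_surjective _ Ideal.Quotient.mk_surjective, Ideal.map_span,
    Set.image_singleton]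

theorem le_comap_sup (q' : Ideal (B ⧸ J)) (c : B) :
    J ≤ q'.comap (Ideal.Quotient.mk J) ⊔ Ideal.span {c} := by
  refine le_trans ?_ le_sup_left
  intro b hb
  rw [Ideal.mem_comap, Ideal.Quotient.eq_zero_iff_mem.mpr hb]
  exact q'.zero_mem

/-- lengths of quotients by a prime and an element: from the quotient ring to the ring -/
theorem length_quot_sup (q' : Ideal (B ⧸ J)) (c : B) :
    Module.length (B ⧸ J) ((B ⧸ J) ⧸ (q' ⊔ Ideal.span {Ideal.Quotient.mk J c})) =
      Module.length B (B ⧸ (q'.comap (Ideal.Quotient.mk J) ⊔ Ideal.span {c})) := by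
  rw [← map_sup_span, length_quot_map J _ (le_comap_sup J q' c)]

end quot

section flat

variable {A B : Type u} [CommRing A] [CommRing B] [IsNoetherianRing A]
  [IsNoetherianRing B] [IsLocalRing A] [IsLocalRing B] [Algebra A B] [Module.Flat A B]
  [IsLocalHom (algebraMap A B)] (p : Ideal A) [p.IsPrime]

theorem regular {a : A} (ha : a ∉ p) :
    IsSMulRegular (B ⧸ p.map (algebraMap A B))
      (Ideal.Quotient.mk (p.map (algebraMap A B)) (algebraMap A B a)) := by
  haveI : Module.Flat (A ⧸ p) (B ⧸ p.map (algebraMap A B)) :=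
    Module.Flat.of_linearEquiv
      (Algebra.TensorProduct.quotIdealMapEquivQuotTensor B p).toLinearEquiv
  have h0 : Ideal.Quotient.mk p a ≠ 0 := by
    rwa [ne_eq, Ideal.Quotient.eq_zero_iff_mem]
  have h1 : IsSMulRegular (A ⧸ p) (Ideal.Quotient.mk p a) := fun x y h => mul_left_cancel₀ h0 h
  have h2 := h1.of_flat (S := B ⧸ p.map (algebraMap A B))
  exact h2

theorem not_mem_minimal {a : A} (ha : a ∉ p) :
    ∀ q ∈ minimalPrimes (B ⧸ p.map (algebraMap A B)),
      Ideal.Quotient.mk (p.map (algebraMap A B)) (algebraMap A B a) ∉ q := by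
  intro q hq haq
  have h1 : Ideal.Quotient.mk (p.map (algebraMap A B)) (algebraMap A B a) ∈
      nonZeroDivisors (B ⧸ p.map (algebraMap A B)) := by
    rw [mem_nonZeroDivisors_iff_left]
    intro x hx
    exact (isSMulRegular_iff_right_eq_zero_of_smul).1 (regular p ha) x hx
  exact (Ideal.disjoint_nonZeroDivisors_of_mem_minimalPrimes hq).le_bot ⟨haq, h1⟩

theorem length_eq (a : A) :
    Module.length (B ⧸ p.map (algebraMap A B)) ((B ⧸ p.map (algebraMap A B)) ⧸
        Ideal.span {Ideal.Quotient.mk (p.map (algebraMap A B)) (algebraMap A B a)}) =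
      Module.length A (A ⧸ (p ⊔ Ideal.span {a})) *
        Module.length B (B ⧸ (maximalIdeal A).map (algebraMap A B)) := by
  rw [← IsLocalRing.length_baseChange A B (A ⧸ (p ⊔ Ideal.span {a}))]
  have e := (Algebra.TensorProduct.quotIdealMapEquivTensorQuot B (p ⊔ Ideal.span {a})).toLinearEquiv
  rw [← e.length_eq, Ideal.map_sup, Ideal.map_span, Set.image_singleton]
  have h1 := length_quot_map (p.map (algebraMap A B))
    (p.map (algebraMap A B) ⊔ Ideal.span {algebraMap A B a}) le_sup_left
  rw [← h1, Ideal.map_sup, Ideal.map_span, Set.image_singleton,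
    Ideal.map_quotient_self, bot_sup_eq]

/-- the key identity for one element -/
theorem key (hB : ringKrullDim (B ⧸ p.map (algebraMap A B)) ≤ 1) {a : A} (ha : a ∉ p) :
    ∑ q ∈ (minSpec_finite (A := B ⧸ p.map (algebraMap A B))).toFinset,
        ((Module.length (Localization.AtPrime q.asIdeal)
          (LocalizedModule q.asIdeal.primeCompl (B ⧸ p.map (algebraMap A B)))).toNat : ℤ) *
        ((Module.length B (B ⧸ (q.asIdeal.comap (Ideal.Quotient.mk (p.map (algebraMap A B))) ⊔
          Ideal.span {algebraMap A B a}))).toNat : ℤ) =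
      ((Module.length A (A ⧸ (p ⊔ Ideal.span {a}))).toNat : ℤ) *
        ((Module.length B (B ⧸ (maximalIdeal A).map (algebraMap A B))).toNat : ℤ) := by
  have h1 := toNat_length_quotSMulTop_eq_sum hB (M := B ⧸ p.map (algebraMap A B))
    (not_mem_minimal p ha) (regular p ha)
  rw [PullDivA.length_quotSMulTop, length_eq, ENat.toNat_mul] at h1
  push_cast at h1
  rw [h1]
  refine Finset.sum_congr rfl (fun q _ => ?_)
  rw [length_quot_sup]

/-- the main identity -/
theorem main (hB : ringKrullDim (B ⧸ p.map (algebraMap A B)) ≤ 1) {a b : A} (ha : a ∉ p)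
    (hb : b ∉ p) :
    ∑ q ∈ (minSpec_finite (A := B ⧸ p.map (algebraMap A B))).toFinset,
        ((Module.length (Localization.AtPrime q.asIdeal)
          (LocalizedModule q.asIdeal.primeCompl (B ⧸ p.map (algebraMap A B)))).toNat : ℤ) *
        (((Module.length B (B ⧸ (q.asIdeal.comap (Ideal.Quotient.mk (p.map (algebraMap A B))) ⊔
            Ideal.span {algebraMap A B a}))).toNat : ℤ) -
          ((Module.length B (B ⧸ (q.asIdeal.comap (Ideal.Quotient.mk (p.map (algebraMap A B))) ⊔
            Ideal.span {algebraMap A B b}))).toNat : ℤ)) =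
      (((Module.length A (A ⧸ (p ⊔ Ideal.span {a}))).toNat : ℤ) -
          ((Module.length A (A ⧸ (p ⊔ Ideal.span {b}))).toNat : ℤ)) *
        ((Module.length B (B ⧸ (maximalIdeal A).map (algebraMap A B))).toNat : ℤ) := by
  simp only [mul_sub, Finset.sum_sub_distrib]
  rw [key p hB ha, key p hB hb]
  ring

end flat

end Groth.Agent.Helper3.PullDivG
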