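import Mathlib
import Groth.Prelude
import Groth.Agent.Helper3.PullDivB

set_option autoImplicit false
set_option linter.style.haveILetI false
set_option linter.unusedSectionVars false
set_option linter.unusedVariables false
set_option linter.deprecated false
set_option linter.style.haveILetI false
set_option linter.unusedSectionVars false
set_option linter.unusedVariables false

namespace Groth.Agent.Helper3.PullDivH

universe u

open AlgebraicGeometry CategoryTheory IsLocalRing Groth.Agent.Helper6.Dim1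

section ring

/-- the order of a fraction in a quotient domain of dimension at most one -/
theorem ordFrac_quot_div'' {R : Type u} [CommRing R] [IsNoetherianRing R] (q : Ideal R) [q.IsPrime]
    (hdim : ringKrullDim (R ⧸ q) ≤ 1)
    (K : Type u) [Field K] [Algebra (R ⧸ q) K] [IsFractionRing (R ⧸ q) K] {a b : R}
    (ha : a ∉ q) (hb : b ∉ q) :
    CycAlg.ordFrac (R ⧸ q) K
        (algebraMap (R ⧸ q) K (Ideal.Quotient.mk q a) / algebraMap (R ⧸ q) K (Ideal.Quotient.mk q b)) =
      ((Module.length R (R ⧸ (q ⊔ Ideal.span {a}))).toNat : ℤ) -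
        ((Module.length R (R ⧸ (q ⊔ Ideal.span {b}))).toNat : ℤ) := by
  haveI : Ring.KrullDimLE 1 (R ⧸ q) := Ring.krullDimLE_iff.mpr (by exact_mod_cast hdim)
  have hne : ∀ {c : R}, c ∉ q → Ideal.Quotient.mk q c ≠ 0 := by
    intro c hc
    rwa [ne_eq, Ideal.Quotient.eq_zero_iff_mem]
  have hK : ∀ {c : R}, c ∉ q → algebraMap (R ⧸ q) K (Ideal.Quotient.mk q c) ≠ 0 := by
    intro c hc h0
    exact hne hc ((IsFractionRing.injective (R ⧸ q) K) (h0.trans (map_zero _).symm))
  have h1 := ordFrac_mul (R := R ⧸ q) (K := K) (div_ne_zero (hK ha) (hK hb)) (hK hb)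
  rw [div_mul_cancel₀ _ (hK hb), ordFrac_algebraMap (hne ha), ordFrac_algebraMap (hne hb),
    length_quot_quot, length_quot_quot] at h1
  linarith

/-- a quotient of a localization at a prime containing the ideal, as a localization of the quotient -/
theorem length_quot_localization {B C : Type u} [CommRing B] [CommRing C] [Algebra B C]
    (J : Ideal B) (q' : Ideal (B ⧸ J)) [q'.IsPrime]
    [IsLocalization.AtPrime C (q'.comap (Ideal.Quotient.mk J))] :
    Module.length C (C ⧸ J.map (algebraMap B C)) =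
      Module.length (Localization.AtPrime q') (LocalizedModule q'.primeCompl (B ⧸ J)) := by
  have hM : Algebra.algebraMapSubmonoid (B ⧸ J) (q'.comap (Ideal.Quotient.mk J)).primeCompl =
      q'.primeCompl := by
    ext y
    constructor
    · rintro ⟨b, hb, rfl⟩
      exact hb
    · intro hy
      obtain ⟨b, rfl⟩ := Ideal.Quotient.mk_surjective y
      exact ⟨b, hy, rfl⟩
  haveI h1 : IsLocalization (Algebra.algebraMapSubmonoid (B ⧸ J)
      (q'.comap (Ideal.Quotient.mk J)).primeCompl) (C ⧸ J.map (algebraMap B C)) := inferInstance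
  rw [hM] at h1
  haveI : IsLocalization q'.primeCompl (C ⧸ J.map (algebraMap B C)) := h1
  have e : (C ⧸ J.map (algebraMap B C)) ≃+* Localization.AtPrime q' :=
    (IsLocalization.algEquiv q'.primeCompl (C ⧸ J.map (algebraMap B C))
      (Localization.AtPrime q')).toRingEquiv
  rw [Module.length_eq_of_surjective (R := C ⧸ J.map (algebraMap B C)) (S := C)
    Ideal.Quotient.mk_surjective]
  exact PullDivB.length_self_ringEquiv e

end ring

variable {X : Scheme.{u}}

/-- the local ring at a generisation is the localization of the local ring at the corresponding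
prime, via the specialization map -/
theorem isLocalization_stalkSpecializes (x ξ : X) (h : ξ ⤳ x) :
    @IsLocalization.AtPrime (X.presheaf.stalk x) _ (X.presheaf.stalk ξ) _
      (X.presheaf.stalkSpecializes h).hom.toAlgebra (RingHom.ker (Cyc.specMap x ξ h))
      (RingHom.ker_isPrime _) := by
  haveI : (RingHom.ker (Cyc.specMap x ξ h)).IsPrime := RingHom.ker_isPrime _
  obtain ⟨_, ⟨U, hU : IsAffineOpen U, rfl⟩, hxU, -⟩ :=
    X.isBasis_affineOpens.exists_subset_of_mem_open (Set.mem_univ x) isOpen_univ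
  have hξU : ξ ∈ U := h.mem_open U.isOpen hxU
  letI a1 := X.presheaf.algebra_section_stalk (⟨x, hxU⟩ : U)
  letI a2 := X.presheaf.algebra_section_stalk (⟨ξ, hξU⟩ : U)
  letI a3 : Algebra (X.presheaf.stalk x) (X.presheaf.stalk ξ) :=
    (X.presheaf.stalkSpecializes h).hom.toAlgebra
  haveI l1 : IsLocalization.AtPrime (X.presheaf.stalk x) (hU.primeIdealOf ⟨x, hxU⟩).asIdeal :=
    hU.isLocalization_stalk ⟨x, hxU⟩
  haveI l2 : IsLocalization.AtPrime (X.presheaf.stalk ξ) (hU.primeIdealOf ⟨ξ, hξU⟩).asIdeal :=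
    hU.isLocalization_stalk ⟨ξ, hξU⟩
  have hgx : ∀ c : Γ(X, U), algebraMap Γ(X, U) (X.presheaf.stalk x) c =
      X.presheaf.germ U x hxU c := fun c => rfl
  have hgξ : ∀ c : Γ(X, U), algebraMap Γ(X, U) (X.presheaf.stalk ξ) c =
      X.presheaf.germ U ξ hξU c := fun c => rfl
  have hsp : ∀ c : Γ(X, U), algebraMap (X.presheaf.stalk x) (X.presheaf.stalk ξ)
      (X.presheaf.germ U x hxU c) = X.presheaf.germ U ξ hξU c := by
    intro c
    show (X.presheaf.stalkSpecializes h).hom (X.presheaf.germ U x hxU c) = _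
    exact TopCat.Presheaf.germ_stalkSpecializes_apply _ _ _ _
  haveI : IsScalarTower Γ(X, U) (X.presheaf.stalk x) (X.presheaf.stalk ξ) :=
    IsScalarTower.of_algebraMap_eq (fun c => by rw [hgξ, hgx, hsp])
  have hle : (hU.primeIdealOf ⟨x, hxU⟩).asIdeal.primeCompl ≤
      (hU.primeIdealOf ⟨ξ, hξU⟩).asIdeal.primeCompl := by
    intro s hs
    have h1 : IsUnit (algebraMap Γ(X, U) (X.presheaf.stalk x) s) :=
      (IsLocalization.AtPrime.isUnit_to_map_iff (X.presheaf.stalk x)
        (hU.primeIdealOf ⟨x, hxU⟩).asIdeal s).mpr hs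
    have h2 := h1.map (algebraMap (X.presheaf.stalk x) (X.presheaf.stalk ξ))
    rw [hgx, hsp, ← hgξ] at h2
    exact (IsLocalization.AtPrime.isUnit_to_map_iff (X.presheaf.stalk ξ)
      (hU.primeIdealOf ⟨ξ, hξU⟩).asIdeal s).mp h2
  haveI l3 := IsLocalization.isLocalization_of_submonoid_le (X.presheaf.stalk x)
    (X.presheaf.stalk ξ) _ _ hle
  have hunit : ∀ b : X.presheaf.stalk x, b ∈ (RingHom.ker (Cyc.specMap x ξ h)).primeCompl →
      IsUnit (algebraMap (X.presheaf.stalk x) (X.presheaf.stalk ξ) b) := by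
    intro b hb
    by_contra hnu
    refine hb ?_
    change Cyc.specMap x ξ h b = 0
    have : algebraMap (X.presheaf.stalk x) (X.presheaf.stalk ξ) b ∈
        maximalIdeal (X.presheaf.stalk ξ) := (IsLocalRing.mem_maximalIdeal _).mpr hnu
    exact (IsLocalRing.residue_eq_zero_iff _).mpr this
  refine IsLocalization.of_le (M := Submonoid.map (algebraMap Γ(X, U) (X.presheaf.stalk x))
    (hU.primeIdealOf ⟨ξ, hξU⟩).asIdeal.primeCompl) (S := X.presheaf.stalk ξ)
    (RingHom.ker (Cyc.specMap x ξ h)).primeCompl ?_ hunit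
  rintro _ ⟨s, hs, rfl⟩
  intro hmem
  replace hmem : Cyc.specMap x ξ h (algebraMap Γ(X, U) (X.presheaf.stalk x) s) = 0 := hmem
  have h1 : IsLocalRing.residue (X.presheaf.stalk ξ) (X.presheaf.germ U ξ hξU s) = 0 := by
    rw [← hsp, ← hgx]
    exact hmem
  have h2 : IsUnit (algebraMap Γ(X, U) (X.presheaf.stalk ξ) s) :=
    (IsLocalization.AtPrime.isUnit_to_map_iff (X.presheaf.stalk ξ)
      (hU.primeIdealOf ⟨ξ, hξU⟩).asIdeal s).mpr hs
  rw [hgξ] at h2
  exact (IsLocalRing.mem_maximalIdeal _).mp ((IsLocalRing.residue_eq_zero_iff _).mp h1) h2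

theorem map_ker_eq_maximalIdeal (x ξ : X) (h : ξ ⤳ x) :
    (RingHom.ker (Cyc.specMap x ξ h)).map (X.presheaf.stalkSpecializes h).hom =
      maximalIdeal (X.presheaf.stalk ξ) := by
  letI a3 : Algebra (X.presheaf.stalk x) (X.presheaf.stalk ξ) :=
    (X.presheaf.stalkSpecializes h).hom.toAlgebra
  haveI : (RingHom.ker (Cyc.specMap x ξ h)).IsPrime := RingHom.ker_isPrime _
  haveI := isLocalization_stalkSpecializes x ξ h
  exact IsLocalization.AtPrime.map_eq_maximalIdeal (RingHom.ker (Cyc.specMap x ξ h))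
    (X.presheaf.stalk ξ)

theorem length_quot_eq (x ξ : X) (h : ξ ⤳ x) (J : Ideal (X.presheaf.stalk x))
    (q' : Ideal (X.presheaf.stalk x ⧸ J)) [q'.IsPrime]
    (hq : q'.comap (Ideal.Quotient.mk J) = RingHom.ker (Cyc.specMap x ξ h)) :
    Module.length (X.presheaf.stalk ξ)
        (X.presheaf.stalk ξ ⧸ J.map (X.presheaf.stalkSpecializes h).hom) =
      Module.length (Localization.AtPrime q')
        (LocalizedModule q'.primeCompl (X.presheaf.stalk x ⧸ J)) := by
  letI a3 : Algebra (X.presheaf.stalk x) (X.presheaf.stalk ξ) :=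
    (X.presheaf.stalkSpecializes h).hom.toAlgebra
  haveI : (RingHom.ker (Cyc.specMap x ξ h)).IsPrime := RingHom.ker_isPrime _
  haveI l := isLocalization_stalkSpecializes x ξ h
  haveI : IsLocalization.AtPrime (X.presheaf.stalk ξ) (q'.comap (Ideal.Quotient.mk J)) := by
    have : ∀ (I : Ideal (X.presheaf.stalk x)) (hI : I.IsPrime),
        I = RingHom.ker (Cyc.specMap x ξ h) →
        @IsLocalization.AtPrime _ _ (X.presheaf.stalk ξ) _ a3 I hI := by
      intro I hI e
      subst e
      exact l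
    exact this _ _ hq
  exact length_quot_localization J q'

/-- the order of a fraction along an immediate generisation -/
theorem ordAt_div' (x ξ : X) [IsNoetherianRing (X.presheaf.stalk x)]
    (h : ξ ⤳ x) (hdim : ringKrullDim (Cyc.LocQuot x ξ h) ≤ 1) (c d : X.presheaf.stalk x)
    (hc : Cyc.specMap x ξ h c ≠ 0) (hd : Cyc.specMap x ξ h d ≠ 0) :
    Cyc.ordAt x ξ h (Cyc.specMap x ξ h c / Cyc.specMap x ξ h d) =
      ((Module.length (X.presheaf.stalk x) (X.presheaf.stalk x ⧸
        (RingHom.ker (Cyc.specMap x ξ h) ⊔ Ideal.span {c}))).toNat : ℤ) -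
      ((Module.length (X.presheaf.stalk x) (X.presheaf.stalk x ⧸
        (RingHom.ker (Cyc.specMap x ξ h) ⊔ Ideal.span {d}))).toNat : ℤ) := by
  haveI : (RingHom.ker (Cyc.specMap x ξ h)).IsPrime := RingHom.ker_isPrime _
  unfold Cyc.ordAt
  exact ordFrac_quot_div'' (RingHom.ker (Cyc.specMap x ξ h)) hdim (X.residueField ξ)
    (fun hmem => hc (RingHom.mem_ker.mp hmem)) (fun hmem => hd (RingHom.mem_ker.mp hmem))

end Groth.Agent.Helper3.PullDivH
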