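import Mathlib
import Groth.Prelude
import Groth.Agent.Helper3.PullDivD
import Groth.Agent.Helper3.PullDivG
import Groth.Agent.Helper3.PullDivH

set_option autoImplicit false
set_option linter.style.haveILetI false
set_option linter.unusedSectionVars false
set_option linter.unusedVariables false
set_option linter.deprecated false
set_option linter.style.haveILetI false
set_option linter.unusedSectionVars false
set_option linter.unusedVariables false

namespace Groth.Agent.Helper3.PullDivI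

universe u

open AlgebraicGeometry CategoryTheory IsLocalRing Groth.Agent.Helper6.Dim1
  Groth.Agent.Helper5.StalkDict

section dict

variable {X Y : Scheme.{u}} (f : X ⟶ Y)

theorem map_pt_eq_iff (x : X) (P : ↥(Spec (X.presheaf.stalk x))) (ξ0 : Y) (h0 : ξ0 ⤳ f x) :
    f (X.fromSpecStalk x P) = ξ0 ↔
      P.asIdeal.comap (f.stalkMap x).hom = RingHom.ker (Cyc.specMap (f x) ξ0 h0) := by
  obtain ⟨p0, hp1, hp2⟩ := Groth.Agent.Helper5.CycDim.locQuot_prime (f x) ξ0 h0
  rw [map_fromSpecStalk f x P, ← hp1]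
  constructor
  · intro h
    rw [← hp2] at h
    have := (Y.fromSpecStalk (f x)).isEmbedding.injective h
    rw [← this]
    rfl
  · intro h
    rw [← hp2]
    congr 1
    exact PrimeSpectrum.ext h

theorem specializes_map_pt (x : X) (P : ↥(Spec (X.presheaf.stalk x))) (ξ0 : Y) (h0 : ξ0 ⤳ f x)
    (hle : RingHom.ker (Cyc.specMap (f x) ξ0 h0) ≤ P.asIdeal.comap (f.stalkMap x).hom) :
    ξ0 ⤳ f (X.fromSpecStalk x P) := by
  obtain ⟨p0, hp1, hp2⟩ := Groth.Agent.Helper5.CycDim.locQuot_prime (f x) ξ0 h0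
  rw [map_fromSpecStalk f x P]
  have h1 : Y.fromSpecStalk (f x) p0 ⤳ Y.fromSpecStalk (f x) (Spec.map (f.stalkMap x) P) := by
    rw [fromSpecStalk_specializes_iff, hp1]
    exact hle
  rwa [hp2] at h1

end dict


/-- the standing hypotheses on the dimension functions -/
structure Hyp {X Y : Scheme.{u}} (f : X ⟶ Y) (δX : X → ℤ) (δY : Y → ℤ) (c : ℤ) : Prop where
  nX : IsLocallyNoetherian X
  nY : IsLocallyNoetherian Y
  dX : Cyc.IsDimFun X δX
  dY : Cyc.IsDimFun Y δY
  h1 : ∀ x, δX x ≤ δY (f x) + c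
  h2 : ∀ x, (∀ w, f w = f x → w ⤳ x → w = x) → δX x = δY (f x) + c
  h3 : ∀ x, δX x = δY (f x) + c → ∀ w, f w = f x → w ⤳ x → w = x

section delta

variable {X Y : Scheme.{u}} (f : X ⟶ Y) {δX : X → ℤ} {δY : Y → ℤ} {c : ℤ}
  (H : Hyp f δX δY c) (x : X) (ξ0 : Y) (h0 : ξ0 ⤳ f x)

theorem le_of_map_eq (P : ↥(Spec (X.presheaf.stalk x))) (hf : f (X.fromSpecStalk x P) = ξ0) :
    (RingHom.ker (Cyc.specMap (f x) ξ0 h0)).map (f.stalkMap x).hom ≤ P.asIdeal := by
  rw [Ideal.map_le_iff_le_comap, ← (map_pt_eq_iff f x P ξ0 h0).mp hf]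

include H in
theorem pj (hcond : δX x + 1 = δY ξ0 + c) (P : ↥(Spec (X.presheaf.stalk x)))
    (hJ : (RingHom.ker (Cyc.specMap (f x) ξ0 h0)).map (f.stalkMap x).hom ≤ P.asIdeal)
    (hne : X.fromSpecStalk x P ≠ x) :
    f (X.fromSpecStalk x P) = ξ0 ∧
      ∀ w : X, f w = f (X.fromSpecStalk x P) → w ⤳ X.fromSpecStalk x P →
        w = X.fromSpecStalk x P := by
  have hsp : ξ0 ⤳ f (X.fromSpecStalk x P) :=
    specializes_map_pt f x P ξ0 h0 (Ideal.map_le_iff_le_comap.mp hJ)
  have hζx : X.fromSpecStalk x P ⤳ x := fromSpecStalk_specializes x P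
  have h1 := (H.dX _ _ hζx hne).1
  have h2 := H.h1 (X.fromSpecStalk x P)
  have hfζ : f (X.fromSpecStalk x P) = ξ0 := by
    by_contra hne'
    have := (H.dY ξ0 _ hsp (fun h => hne' h.symm)).1
    omega
  refine ⟨hfζ, H.h3 _ ?_⟩
  rw [hfζ] at h2 ⊢
  omega

theorem pm (P : ↥(Spec (X.presheaf.stalk x))) (hf : f (X.fromSpecStalk x P) = ξ0)
    (hmax : ∀ w : X, f w = f (X.fromSpecStalk x P) → w ⤳ X.fromSpecStalk x P →
      w = X.fromSpecStalk x P)
    (P'' : ↥(Spec (X.presheaf.stalk x)))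
    (hJ : (RingHom.ker (Cyc.specMap (f x) ξ0 h0)).map (f.stalkMap x).hom ≤ P''.asIdeal)
    (hle : P''.asIdeal ≤ P.asIdeal) : P'' = P := by
  have h1 : X.fromSpecStalk x P'' ⤳ X.fromSpecStalk x P :=
    (fromSpecStalk_specializes_iff x P'' P).2 hle
  have h2 : f (X.fromSpecStalk x P'') = ξ0 := by
    rw [map_pt_eq_iff f x P'' ξ0 h0]
    apply le_antisymm
    · rw [← (map_pt_eq_iff f x P ξ0 h0).mp hf]
      exact Ideal.comap_mono hle
    · exact Ideal.map_le_iff_le_comap.mp hJ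
  exact (X.fromSpecStalk x).isEmbedding.injective (hmax _ (h2.trans hf.symm) h1)

include H in
theorem px [Flat f] (hcond : δX x + 1 = δY ξ0 + c)
    (hmin : ∀ P'' : ↥(Spec (X.presheaf.stalk x)),
      (RingHom.ker (Cyc.specMap (f x) ξ0 h0)).map (f.stalkMap x).hom ≤ P''.asIdeal →
        P'' = IsLocalRing.closedPoint (X.presheaf.stalk x)) : False := by
  have hp_le : RingHom.ker (Cyc.specMap (f x) ξ0 h0) ≤ maximalIdeal (Y.presheaf.stalk (f x)) := by
    apply IsLocalRing.le_maximalIdeal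
    exact (RingHom.ker_isPrime _).ne_top
  -- `x` is maximal in its fibre
  have hxmax : ∀ w : X, f w = f x → w ⤳ x → w = x := by
    intro w hw hwx
    obtain ⟨Pw, rfl⟩ := exists_prime_of_specializes x w hwx
    have h1 := (map_pt_eq_iff f x Pw (f x) (specializes_refl _)).mp hw
    rw [PullDivD.ker_specMap_self (f x) (f x) rfl (specializes_refl _)] at h1
    have h2 : (RingHom.ker (Cyc.specMap (f x) ξ0 h0)).map (f.stalkMap x).hom ≤ Pw.asIdeal := by
      rw [Ideal.map_le_iff_le_comap, h1]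
      exact hp_le
    rw [hmin Pw h2]
    exact Scheme.fromSpecStalk_closedPoint
  have hδx := H.h2 x hxmax
  have hne : f x ≠ ξ0 := by
    intro h
    rw [h] at hδx
    omega
  obtain ⟨w, hwx, hw⟩ := (Flat.generalizingMap f) h0
  obtain ⟨Pw, rfl⟩ := exists_prime_of_specializes x w hwx
  have h2 := le_of_map_eq f x ξ0 h0 Pw hw
  rw [hmin Pw h2, Scheme.fromSpecStalk_closedPoint] at hw
  exact hne hw

end delta

end Groth.Agent.Helper3.PullDivI
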