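import Mathlib
import Groth.Prelude
import Groth.Agent.Helper3.PullDivI

set_option autoImplicit false
set_option linter.style.haveILetI false
set_option linter.unusedSectionVars false
set_option linter.unusedVariables false
set_option linter.deprecated false
set_option linter.style.haveILetI false
set_option linter.unusedSectionVars false
set_option linter.unusedVariables false

namespace Groth.Agent.Helper3.PullDivJ

universe u

open AlgebraicGeometry CategoryTheory IsLocalRing Groth.Agent.Helper6.Dim1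
  Groth.Agent.Helper5.StalkDict Groth.Agent.Helper3.PullDivI

section quot

variable {B : Type u} [CommRing B] (J : Ideal B)

theorem comap_map_mk (P : Ideal B) (hJ : J ≤ P) :
    (P.map (Ideal.Quotient.mk J)).comap (Ideal.Quotient.mk J) = P := by
  rw [Ideal.comap_map_of_surjective _ Ideal.Quotient.mk_surjective, ← RingHom.ker_eq_comap_bot,
    Ideal.mk_ker, sup_eq_left.mpr hJ]

theorem map_comap_mk (q' : Ideal (B ⧸ J)) :
    (q'.comap (Ideal.Quotient.mk J)).map (Ideal.Quotient.mk J) = q' :=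
  Ideal.map_comap_of_surjective _ Ideal.Quotient.mk_surjective _

theorem le_comap_mk (q' : Ideal (B ⧸ J)) : J ≤ q'.comap (Ideal.Quotient.mk J) := by
  intro b hb
  rw [Ideal.mem_comap, Ideal.Quotient.eq_zero_iff_mem.mpr hb]
  exact q'.zero_mem

theorem map_mk_isPrime (P : Ideal B) [hP : P.IsPrime] (hJ : J ≤ P) :
    (P.map (Ideal.Quotient.mk J)).IsPrime :=
  Ideal.map_isPrime_of_surjective Ideal.Quotient.mk_surjective (by rwa [Ideal.mk_ker])

end quot

section main

variable {X Y : Scheme.{u}} (f : X ⟶ Y) {δX : X → ℤ} {δY : Y → ℤ} {c : ℤ}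

/-- the prime of the local ring attached to a prime of the quotient -/
noncomputable def comapSpec (x : X) (J : Ideal (X.presheaf.stalk x))
    (q' : PrimeSpectrum (X.presheaf.stalk x ⧸ J)) : ↥(Spec (X.presheaf.stalk x)) :=
  ⟨q'.asIdeal.comap (Ideal.Quotient.mk J), inferInstance⟩

variable (H : Hyp f δX δY c) (x : X) (ξ0 : Y) (h0 : ξ0 ⤳ f x)

include H in
/-- the points attached to minimal primes of the quotient -/
theorem pt_mem [Flat f] (hcond : δX x + 1 = δY ξ0 + c) (J : Ideal (X.presheaf.stalk x))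
    (hJ : J = (RingHom.ker (Cyc.specMap (f x) ξ0 h0)).map (f.stalkMap x).hom)
    (q' : PrimeSpectrum (X.presheaf.stalk x ⧸ J))
    (hq' : q'.asIdeal ∈ minimalPrimes (X.presheaf.stalk x ⧸ J)) :
    f (X.fromSpecStalk x (comapSpec x J q')) = ξ0 ∧
      ∀ w : X, f w = f (X.fromSpecStalk x (comapSpec x J q')) →
        w ⤳ X.fromSpecStalk x (comapSpec x J q') → w = X.fromSpecStalk x (comapSpec x J q') := by
  have hJle : (RingHom.ker (Cyc.specMap (f x) ξ0 h0)).map (f.stalkMap x).hom ≤
      (comapSpec x J q').asIdeal := by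
    rw [← hJ]; exact le_comap_mk J q'.asIdeal
  apply pj f H x ξ0 h0 hcond (comapSpec x J q') hJle
  intro hpt
  have hcl : comapSpec x J q' = IsLocalRing.closedPoint (X.presheaf.stalk x) := by
    apply (X.fromSpecStalk x).isEmbedding.injective
    rw [hpt, Scheme.fromSpecStalk_closedPoint]
  apply px f H x ξ0 h0 hcond
  intro P'' hP''
  rw [← hJ] at hP''
  haveI := P''.isPrime
  haveI : (P''.asIdeal.map (Ideal.Quotient.mk J)).IsPrime := map_mk_isPrime J P''.asIdeal hP''
  have hle : P''.asIdeal.map (Ideal.Quotient.mk J) ≤ q'.asIdeal := by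
    rw [← map_comap_mk J q'.asIdeal]
    apply Ideal.map_mono
    have : q'.asIdeal.comap (Ideal.Quotient.mk J) = maximalIdeal (X.presheaf.stalk x) :=
      congrArg PrimeSpectrum.asIdeal hcl
    rw [this]
    exact IsLocalRing.le_maximalIdeal P''.isPrime.ne_top
  have heq : q'.asIdeal ≤ P''.asIdeal.map (Ideal.Quotient.mk J) :=
    hq'.2 ⟨inferInstance, bot_le⟩ hle
  rw [← hcl]
  apply PrimeSpectrum.ext
  show P''.asIdeal = q'.asIdeal.comap (Ideal.Quotient.mk J)
  rw [← comap_map_mk J P''.asIdeal hP'', le_antisymm hle heq]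

include H in
/-- the quotient of the local ring by the extended prime has dimension at most one -/
theorem krullDim_quot_le_one [Flat f] (hcond : δX x + 1 = δY ξ0 + c)
    (J : Ideal (X.presheaf.stalk x))
    (hJ : J = (RingHom.ker (Cyc.specMap (f x) ξ0 h0)).map (f.stalkMap x).hom) :
    ringKrullDim (X.presheaf.stalk x ⧸ J) ≤ 1 := by
  suffices hk : Ring.KrullDimLE 1 (X.presheaf.stalk x ⧸ J) by
    exact_mod_cast Ring.krullDimLE_iff.mp hk
  rw [Ring.krullDimLE_one_iff]
  intro I' hI'
  let q2 : PrimeSpectrum (X.presheaf.stalk x ⧸ J) := ⟨I', hI'⟩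
  have hJle : (RingHom.ker (Cyc.specMap (f x) ξ0 h0)).map (f.stalkMap x).hom ≤
      (comapSpec x J q2).asIdeal := by
    rw [← hJ]; exact le_comap_mk J I'
  by_cases hpt : X.fromSpecStalk x (comapSpec x J q2) = x
  · right
    have hcl : comapSpec x J q2 = IsLocalRing.closedPoint (X.presheaf.stalk x) := by
      apply (X.fromSpecStalk x).isEmbedding.injective
      rw [hpt, Scheme.fromSpecStalk_closedPoint]
    have h1 : I'.comap (Ideal.Quotient.mk J) = maximalIdeal (X.presheaf.stalk x) :=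
      congrArg PrimeSpectrum.asIdeal hcl
    have h2 := map_comap_mk J I'
    rw [h1] at h2
    rcases Ideal.map_eq_top_or_isMaximal_of_surjective (Ideal.Quotient.mk J)
      Ideal.Quotient.mk_surjective (IsLocalRing.maximalIdeal.isMaximal (X.presheaf.stalk x))
      with h3 | h3
    · rw [h2] at h3
      exact absurd h3 hI'.ne_top
    · rwa [h2] at h3
  · left
    obtain ⟨hf, hmax⟩ := pj f H x ξ0 h0 hcond (comapSpec x J q2) hJle hpt
    refine ⟨⟨hI', bot_le⟩, ?_⟩
    rintro I3 ⟨hI3, -⟩ hle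
    let q3 : PrimeSpectrum (X.presheaf.stalk x ⧸ J) := ⟨I3, hI3⟩
    have hJle' : (RingHom.ker (Cyc.specMap (f x) ξ0 h0)).map (f.stalkMap x).hom ≤
        (comapSpec x J q3).asIdeal := by
      rw [← hJ]; exact le_comap_mk J I3
    have h1 := pm f x ξ0 h0 (comapSpec x J q2) hf hmax (comapSpec x J q3) hJle'
      (Ideal.comap_mono hle)
    have h2 : I3.comap (Ideal.Quotient.mk J) = I'.comap (Ideal.Quotient.mk J) :=
      congrArg PrimeSpectrum.asIdeal h1
    rw [← map_comap_mk J I', ← h2, map_comap_mk J I3]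

include H in
/-- sums over the maximal points of the fibre over `ξ0` specializing to `x` -/
theorem sum_eq [Flat f] (hcond : δX x + 1 = δY ξ0 + c)
    (J : Ideal (X.presheaf.stalk x))
    (hJ : J = (RingHom.ker (Cyc.specMap (f x) ξ0 h0)).map (f.stalkMap x).hom)
    (F : X → ℤ) (hF : ∀ ξ, ¬ (ξ ⤳ x) → F ξ = 0) :
    haveI := H.nX
    ∑ᶠ ξ : {ξ : X // f ξ = ξ0 ∧ ∀ w : X, f w = f ξ → w ⤳ ξ → w = ξ}, F ξ.1 =
      ∑ q' ∈ (minSpec_finite (A := X.presheaf.stalk x ⧸ J)).toFinset,
        F (X.fromSpecStalk x (comapSpec x J q')) := by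
  haveI := H.nX
  let T := {ξ : X // f ξ = ξ0 ∧ ∀ w : X, f w = f ξ → w ⤳ ξ → w = ξ}
  let e : ↥(minSpec (X.presheaf.stalk x ⧸ J)) → T := fun q' =>
    ⟨X.fromSpecStalk x (comapSpec x J q'.1), pt_mem f H x ξ0 h0 hcond J hJ q'.1 q'.2⟩
  have he : Function.Injective e := by
    intro q1 q2 h12
    have h' := congrArg Subtype.val h12
    have h2 : comapSpec x J q1.1 = comapSpec x J q2.1 :=
      (X.fromSpecStalk x).isEmbedding.injective h'
    have h3 : q1.1.asIdeal.comap (Ideal.Quotient.mk J) = q2.1.asIdeal.comap (Ideal.Quotient.mk J) :=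
      congrArg PrimeSpectrum.asIdeal h2
    apply Subtype.ext
    apply PrimeSpectrum.ext
    rw [← map_comap_mk J q1.1.asIdeal, h3, map_comap_mk J q2.1.asIdeal]
  have hsupp : ∀ ξ ∈ Function.support (fun ξ : T => F ξ.1),
      ξ ∈ (Set.univ : Set T) ↔ ξ ∈ Set.range e := by
    intro ξ hξ
    refine ⟨fun _ => ?_, fun _ => trivial⟩
    have hsp : ξ.1 ⤳ x := by
      by_contra hcon
      exact hξ (hF ξ.1 hcon)
    obtain ⟨P, hP⟩ := exists_prime_of_specializes x ξ.1 hsp
    have hfP : f (X.fromSpecStalk x P) = ξ0 := by rw [hP]; exact ξ.2.1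
    have hmaxP : ∀ w : X, f w = f (X.fromSpecStalk x P) → w ⤳ X.fromSpecStalk x P →
        w = X.fromSpecStalk x P := by rw [hP]; exact ξ.2.2
    have hJP : J ≤ P.asIdeal := by rw [hJ]; exact le_of_map_eq f x ξ0 h0 P hfP
    haveI := P.isPrime
    haveI hprime : (P.asIdeal.map (Ideal.Quotient.mk J)).IsPrime := map_mk_isPrime J P.asIdeal hJP
    let q' : PrimeSpectrum (X.presheaf.stalk x ⧸ J) := ⟨P.asIdeal.map (Ideal.Quotient.mk J), hprime⟩
    have hcomap : comapSpec x J q' = P := PrimeSpectrum.ext (comap_map_mk J P.asIdeal hJP)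
    have hmin : q'.asIdeal ∈ minimalPrimes (X.presheaf.stalk x ⧸ J) := by
      refine ⟨⟨hprime, bot_le⟩, ?_⟩
      rintro I3 ⟨hI3, -⟩ hle
      let q3 : PrimeSpectrum (X.presheaf.stalk x ⧸ J) := ⟨I3, hI3⟩
      have hJle' : (RingHom.ker (Cyc.specMap (f x) ξ0 h0)).map (f.stalkMap x).hom ≤
          (comapSpec x J q3).asIdeal := by
        rw [← hJ]; exact le_comap_mk J I3
      have hle' : (comapSpec x J q3).asIdeal ≤ P.asIdeal := by
        have := Ideal.comap_mono (f := Ideal.Quotient.mk J) hle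
        rwa [comap_map_mk J P.asIdeal hJP] at this
      have h1 := pm f x ξ0 h0 P hfP hmaxP (comapSpec x J q3) hJle' hle'
      have h2 : I3.comap (Ideal.Quotient.mk J) = P.asIdeal := congrArg PrimeSpectrum.asIdeal h1
      show P.asIdeal.map (Ideal.Quotient.mk J) ≤ I3
      rw [← h2, map_comap_mk J I3]
    refine ⟨⟨q', hmin⟩, Subtype.ext ?_⟩
    show X.fromSpecStalk x (comapSpec x J q') = ξ.1
    rw [hcomap, hP]
  rw [← finsum_mem_univ, finsum_mem_inter_support_eq' _ _ _ hsupp, finsum_mem_range he]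
  have h1 := finsum_set_coe_eq_finsum_mem
    (f := fun q' : PrimeSpectrum (X.presheaf.stalk x ⧸ J) =>
      F (X.fromSpecStalk x (comapSpec x J q')))
    (minSpec (X.presheaf.stalk x ⧸ J))
  exact h1.trans (finsum_mem_eq_finite_toFinset_sum _ minSpec_finite)

end main

end Groth.Agent.Helper3.PullDivJ
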