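import Mathlib
import Groth.Prelude
import Groth.Agent.Helper3.PullDivJ

set_option autoImplicit false
set_option linter.style.haveILetI false
set_option linter.unusedSectionVars false
set_option linter.unusedVariables false
set_option linter.deprecated false
set_option linter.style.haveILetI false
set_option linter.unusedSectionVars false
set_option linter.unusedVariables false

namespace Groth.Agent.Helper3.PullDivK

universe u

open AlgebraicGeometry CategoryTheory IsLocalRing Groth.Agent.Helper6.Dim1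
  Groth.Agent.Helper5.StalkDict Groth.Agent.Helper3.PullDivI Groth.Agent.Helper3.PullDivJ

section alg

/-- ring homomorphism form of the general algebraic identity -/
theorem main'' {A B : Type u} [CommRing A] [CommRing B] [IsNoetherianRing A]
    [IsNoetherianRing B] [IsLocalRing A] [IsLocalRing B] (φ : A →+* B) (hφ : φ.Flat)
    [IsLocalHom φ] (p : Ideal A) [p.IsPrime] (hB : ringKrullDim (B ⧸ p.map φ) ≤ 1) {a b : A}
    (ha : a ∉ p) (hb : b ∉ p) :
    ∑ q ∈ (minSpec_finite (A := B ⧸ p.map φ)).toFinset,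
        ((Module.length (Localization.AtPrime q.asIdeal)
          (LocalizedModule q.asIdeal.primeCompl (B ⧸ p.map φ))).toNat : ℤ) *
        (((Module.length B (B ⧸ (q.asIdeal.comap (Ideal.Quotient.mk (p.map φ)) ⊔
            Ideal.span {φ a}))).toNat : ℤ) -
          ((Module.length B (B ⧸ (q.asIdeal.comap (Ideal.Quotient.mk (p.map φ)) ⊔
            Ideal.span {φ b}))).toNat : ℤ)) =
      (((Module.length A (A ⧸ (p ⊔ Ideal.span {a}))).toNat : ℤ) -
          ((Module.length A (A ⧸ (p ⊔ Ideal.span {b}))).toNat : ℤ)) *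
        ((Module.length B (B ⧸ (maximalIdeal A).map φ)).toNat : ℤ) := by
  letI : Algebra A B := φ.toAlgebra
  haveI : Module.Flat A B := hφ
  haveI : IsLocalHom (algebraMap A B) := ‹IsLocalHom φ›
  exact PullDivG.main p hB ha hb

theorem length_quot_sup_unit {A : Type u} [CommRing A] (p : Ideal A) {a : A} (ha : IsUnit a) :
    Module.length A (A ⧸ (p ⊔ Ideal.span {a})) = 0 := by
  rw [Module.length_eq_zero_iff, Ideal.span_singleton_eq_top.mpr ha, sup_top_eq]
  exact Ideal.Quotient.subsingleton_iff.mpr rfl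

end alg

section cast

variable {Y : Scheme.{u}}

theorem ker_congr (y y' ξ0 : Y) (e : y' = ξ0) (h' : y' ⤳ y) (h0 : ξ0 ⤳ y) :
    RingHom.ker (Cyc.specMap y y' h') = RingHom.ker (Cyc.specMap y ξ0 h0) := by
  subst e
  rfl

end cast

section main

variable {X Y : Scheme.{u}} (f : X ⟶ Y)

/-- the multiplicity of the fibre at a point -/
noncomputable def mult (ξ : X) : ℤ :=
  ((Module.length (X.presheaf.stalk ξ) (X.presheaf.stalk ξ ⧸
    (maximalIdeal (Y.presheaf.stalk (f ξ))).map (f.stalkMap ξ).hom)).toNat : ℤ)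

open Classical in
/-- the term of the sum attached to a point of `X` -/
noncomputable def G2 (δX : X → ℤ) (ξ0 : Y) (g : Y.residueField ξ0) (x : X) (ξ : X) : ℤ :=
  if h : f ξ = ξ0 then
    mult f ξ * Cyc.divFun δX ξ (f.residueFieldMap ξ ((Y.residueFieldCongr h.symm).hom g)) x
  else 0

/-- the multiplicity as the length of a localization of the quotient -/
theorem mult_eq (x ξ : X) (h : ξ ⤳ x) (ξ0 : Y) (h0 : ξ0 ⤳ f x) (hf : f ξ = ξ0)
    (J : Ideal (X.presheaf.stalk x))
    (hJ : J = (RingHom.ker (Cyc.specMap (f x) ξ0 h0)).map (f.stalkMap x).hom)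
    (q' : Ideal (X.presheaf.stalk x ⧸ J)) [q'.IsPrime]
    (hq : q'.comap (Ideal.Quotient.mk J) = RingHom.ker (Cyc.specMap x ξ h)) :
    mult f ξ = ((Module.length (Localization.AtPrime q')
      (LocalizedModule q'.primeCompl (X.presheaf.stalk x ⧸ J))).toNat : ℤ) := by
  unfold mult
  rw [← PullDivH.length_quot_eq x ξ h J q' hq]
  have hmap : J.map (X.presheaf.stalkSpecializes h).hom =
      (maximalIdeal (Y.presheaf.stalk (f ξ))).map (f.stalkMap ξ).hom := by
    rw [hJ, Ideal.map_map]
    have hcomp : (X.presheaf.stalkSpecializes h).hom.comp (f.stalkMap x).hom =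
        (f.stalkMap ξ).hom.comp (Y.presheaf.stalkSpecializes (h.map f.continuous)).hom := by
      have := Scheme.Hom.stalkSpecializes_stalkMap f ξ x h
      rw [← CommRingCat.hom_comp, ← CommRingCat.hom_comp]
      exact congrArg CommRingCat.Hom.hom this.symm
    rw [hcomp, ← Ideal.map_map, ← ker_congr (f x) (f ξ) ξ0 hf (h.map f.continuous) h0,
      PullDivH.map_ker_eq_maximalIdeal]
  rw [hmap]

variable {δX : X → ℤ} {δY : Y → ℤ} {c : ℤ} (H : Hyp f δX δY c)

include H in
theorem core [Flat f] (ξ0 : Y) (g : Y.residueField ξ0) (hg : g ≠ 0) (x : X) :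
    Cyc.pullFun f δX δY c (Cyc.divFun δY ξ0 g) x =
      ∑ᶠ ξ : {ξ : X // f ξ = ξ0 ∧ ∀ w : X, f w = f ξ → w ⤳ ξ → w = ξ},
        G2 f δX ξ0 g x ξ.1 := by
  haveI := H.nX
  haveI := H.nY
  -- the `δ` of the points of the index set
  have hδT : ∀ ξ : X, f ξ = ξ0 → (∀ w : X, f w = f ξ → w ⤳ ξ → w = ξ) → δX ξ = δY ξ0 + c := by
    intro ξ hf hmax
    rw [H.h2 ξ hmax, hf]
  by_cases h0 : ξ0 ⤳ f x
  swap
  · -- both sides vanish
    have hL : Cyc.pullFun f δX δY c (Cyc.divFun δY ξ0 g) x = 0 := by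
      unfold Cyc.pullFun
      split_ifs
      · unfold Cyc.divFun
        rw [dif_neg (fun h => h0 h.1), zero_mul]
      · rfl
    rw [hL]
    symm
    apply finsum_eq_zero_of_forall_eq_zero
    intro ξ
    unfold G2
    rw [dif_pos ξ.2.1]
    unfold Cyc.divFun
    rw [dif_neg, mul_zero]
    rintro ⟨hξx, -⟩
    apply h0
    rw [← ξ.2.1]
    exact hξx.map f.continuous
  by_cases hcond : δX x + 1 = δY ξ0 + c
  swap
  · have hL : Cyc.pullFun f δX δY c (Cyc.divFun δY ξ0 g) x = 0 := by
      unfold Cyc.pullFun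
      split_ifs with hx
      · unfold Cyc.divFun
        rw [dif_neg (fun h => hcond (by omega)), zero_mul]
      · rfl
    rw [hL]
    symm
    apply finsum_eq_zero_of_forall_eq_zero
    intro ξ
    unfold G2
    rw [dif_pos ξ.2.1]
    unfold Cyc.divFun
    rw [dif_neg, mul_zero]
    rintro ⟨-, h2⟩
    apply hcond
    rw [h2, hδT ξ.1 ξ.2.1 ξ.2.2]
  -- the main case
  set J : Ideal (X.presheaf.stalk x) :=
    (RingHom.ker (Cyc.specMap (f x) ξ0 h0)).map (f.stalkMap x).hom with hJ
  haveI hpprime : (RingHom.ker (Cyc.specMap (f x) ξ0 h0)).IsPrime := RingHom.ker_isPrime _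
  -- write `g` as a fraction
  obtain ⟨a, b, hb0, hgab⟩ := PullDivB.exists_div (f x) ξ0 h0 g
  have ha0 : Cyc.specMap (f x) ξ0 h0 a ≠ 0 := by
    intro h
    rw [h, zero_div] at hgab
    exact hg hgab
  have hap : a ∉ RingHom.ker (Cyc.specMap (f x) ξ0 h0) := fun h => ha0 (RingHom.mem_ker.mp h)
  have hbp : b ∉ RingHom.ker (Cyc.specMap (f x) ξ0 h0) := fun h => hb0 (RingHom.mem_ker.mp h)
  have hB' : ringKrullDim (X.presheaf.stalk x ⧸ J) ≤ 1 :=
    krullDim_quot_le_one f H x ξ0 h0 hcond J hJ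
  have hF : ∀ ξ : X, ¬ (ξ ⤳ x) → G2 f δX ξ0 g x ξ = 0 := by
    intro ξ hξ
    unfold G2
    split_ifs with h
    · unfold Cyc.divFun
      rw [dif_neg (fun h' => hξ h'.1), mul_zero]
    · rfl
  rw [sum_eq f H x ξ0 h0 hcond J hJ (G2 f δX ξ0 g x) hF]
  -- the terms of the sum
  have hterm : ∀ q' ∈ (minSpec_finite (A := X.presheaf.stalk x ⧸ J)).toFinset,
      G2 f δX ξ0 g x (X.fromSpecStalk x (comapSpec x J q')) =
        ((Module.length (Localization.AtPrime q'.asIdeal)
          (LocalizedModule q'.asIdeal.primeCompl (X.presheaf.stalk x ⧸ J))).toNat : ℤ) *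
        (((Module.length (X.presheaf.stalk x) (X.presheaf.stalk x ⧸
            (q'.asIdeal.comap (Ideal.Quotient.mk J) ⊔
              Ideal.span {(f.stalkMap x).hom a}))).toNat : ℤ) -
          ((Module.length (X.presheaf.stalk x) (X.presheaf.stalk x ⧸
            (q'.asIdeal.comap (Ideal.Quotient.mk J) ⊔
              Ideal.span {(f.stalkMap x).hom b}))).toNat : ℤ)) := by
    intro q' hq'
    have hq'' : q' ∈ minSpec (X.presheaf.stalk x ⧸ J) := (Set.Finite.mem_toFinset _).mp hq'
    have hqmin : q'.asIdeal ∈ minimalPrimes (X.presheaf.stalk x ⧸ J) := hq''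
    obtain ⟨hfξ, hmaxξ⟩ := pt_mem f H x ξ0 h0 hcond J hJ q' hqmin
    have hξx : X.fromSpecStalk x (comapSpec x J q') ⤳ x := fromSpecStalk_specializes x _
    have hker : RingHom.ker (Cyc.specMap x (X.fromSpecStalk x (comapSpec x J q')) hξx) =
        q'.asIdeal.comap (Ideal.Quotient.mk J) := PullDivB.ker_specMap x (comapSpec x J q') hξx
    have hδξ := hδT _ hfξ hmaxξ
    unfold G2
    rw [dif_pos hfξ, mult_eq f x _ hξx ξ0 h0 hfξ J hJ q'.asIdeal hker.symm]
    congr 1
    unfold Cyc.divFun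
    rw [dif_pos ⟨hξx, by rw [hδξ]; exact hcond⟩]
    have hgξ : f.residueFieldMap (X.fromSpecStalk x (comapSpec x J q'))
        ((Y.residueFieldCongr hfξ.symm).hom g) =
        Cyc.specMap x (X.fromSpecStalk x (comapSpec x J q')) hξx ((f.stalkMap x).hom a) /
          Cyc.specMap x (X.fromSpecStalk x (comapSpec x J q')) hξx ((f.stalkMap x).hom b) := by
      rw [hgab, map_div₀, map_div₀,
        PullDivD.congr_specMap (f x) ξ0 _ hfξ h0 (hξx.map f.continuous) a,
        PullDivD.congr_specMap (f x) ξ0 _ hfξ h0 (hξx.map f.continuous) b]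
      have e1 := DivTrB.specMap_stalkMap f x _ hξx a
      have e2 := DivTrB.specMap_stalkMap f x _ hξx b
      rw [← e1, ← e2]
    have hne : ∀ {t : Y.presheaf.stalk (f x)}, t ∉ RingHom.ker (Cyc.specMap (f x) ξ0 h0) →
        Cyc.specMap x (X.fromSpecStalk x (comapSpec x J q')) hξx ((f.stalkMap x).hom t) ≠ 0 := by
      intro t ht h0'
      apply ht
      rw [← (map_pt_eq_iff f x (comapSpec x J q') ξ0 h0).mp hfξ]
      show (f.stalkMap x).hom t ∈ (comapSpec x J q').asIdeal
      have : (comapSpec x J q').asIdeal = q'.asIdeal.comap (Ideal.Quotient.mk J) := rfl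
      rw [this, ← hker]
      exact RingHom.mem_ker.mpr h0'
    have hdim : ringKrullDim (Cyc.LocQuot x (X.fromSpecStalk x (comapSpec x J q')) hξx) ≤ 1 := by
      rw [Groth.Agent.Helper5.CycDim.ringKrullDim_locQuot δX H.dX x _ hξx]
      have : (δX (X.fromSpecStalk x (comapSpec x J q')) - δX x).toNat = 1 := by omega
      rw [this]
      rfl
    rw [hgξ, PullDivH.ordAt_div' x _ hξx hdim _ _ (hne hap) (hne hbp), hker]
  rw [Finset.sum_congr rfl hterm,
    main'' (f.stalkMap x).hom (Flat.stalkMap f x) (RingHom.ker (Cyc.specMap (f x) ξ0 h0)) hB'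
      hap hbp]
  unfold Cyc.pullFun
  by_cases hx : δX x = δY (f x) + c
  · rw [if_pos hx]
    have hy1 : δY (f x) + 1 = δY ξ0 := by omega
    congr 1
    unfold Cyc.divFun
    rw [dif_pos ⟨h0, hy1⟩]
    have hdim : ringKrullDim (Cyc.LocQuot (f x) ξ0 h0) ≤ 1 := by
      rw [Groth.Agent.Helper5.CycDim.ringKrullDim_locQuot δY H.dY (f x) ξ0 h0]
      have : (δY ξ0 - δY (f x)).toNat = 1 := by omega
      rw [this]
      rfl
    rw [hgab, PullDivH.ordAt_div' (f x) ξ0 h0 hdim a b ha0 hb0]
  · rw [if_neg hx]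
    have hle := H.h1 x
    have hyη : f x = ξ0 := by
      by_contra hne
      have := (H.dY ξ0 (f x) h0 (fun h => hne h.symm)).1
      omega
    have hker := PullDivD.ker_specMap_self (f x) ξ0 hyη h0
    have hunit : ∀ {t : Y.presheaf.stalk (f x)}, Cyc.specMap (f x) ξ0 h0 t ≠ 0 → IsUnit t := by
      intro t ht0
      by_contra hnu
      have : t ∈ maximalIdeal (Y.presheaf.stalk (f x)) := (IsLocalRing.mem_maximalIdeal t).mpr hnu
      rw [← hker] at this
      exact ht0 (RingHom.mem_ker.mp this)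
    rw [length_quot_sup_unit _ (hunit ha0), length_quot_sup_unit _ (hunit hb0)]
    simp

end main

end Groth.Agent.Helper3.PullDivK
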