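import Mathlib
import Groth.Prelude
import Groth.Agent.Helper3.PullDivK
import Groth.Agent.Helper3.DivTrC

set_option autoImplicit false
set_option linter.style.haveILetI false
set_option linter.unusedSectionVars false
set_option linter.unusedVariables false
set_option linter.deprecated false
set_option linter.style.haveILetI false
set_option linter.unusedSectionVars false
set_option linter.unusedVariables false

namespace Groth.Agent.Helper3.PullDivL

universe u

open AlgebraicGeometry CategoryTheory IsLocalRing Groth.Agent.Helper6.Dim1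
  Groth.Agent.Helper5.StalkDict Groth.Agent.Helper3.PullDivI Groth.Agent.Helper3.PullDivJ
  Groth.Agent.Helper3.PullDivK

section general

theorem finsum_sigma {ι : Type*} {T : ι → Type*} (F : (Σ i, T i) → ℤ) (hF : F.support.Finite) :
    ∑ᶠ j, F j = ∑ᶠ i, ∑ᶠ t : T i, F ⟨i, t⟩ := by
  classical
  let s := hF.toFinset
  have hs : Function.support F ⊆ ↑s := by
    intro j hj; exact (Set.Finite.mem_toFinset _).mpr hj
  rw [finsum_eq_sum_of_support_subset F hs]
  let si : (i : ι) → Finset (T i) := fun i =>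
    s.preimage (Sigma.mk i) (sigma_mk_injective.injOn)
  have hinner : ∀ i, ∑ᶠ t : T i, F ⟨i, t⟩ = ∑ t ∈ si i, F ⟨i, t⟩ := by
    intro i
    apply finsum_eq_sum_of_support_subset
    intro t ht
    rw [Finset.coe_preimage]
    exact hs ht
  have houter : Function.support (fun i => ∑ t ∈ si i, F ⟨i, t⟩) ⊆ ↑(s.image Sigma.fst) := by
    intro i hi
    rw [Function.mem_support] at hi
    obtain ⟨t, ht, -⟩ := Finset.exists_ne_zero_of_sum_ne_zero hi
    rw [Finset.mem_coe, Finset.mem_image]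
    exact ⟨⟨i, t⟩, (Finset.mem_preimage.mp ht), rfl⟩
  simp_rw [hinner]
  rw [finsum_eq_sum_of_support_subset _ houter, ← Finset.sum_sigma]
  apply Finset.sum_congr _ (fun _ _ => rfl)
  ext ⟨i, t⟩
  rw [Finset.mem_sigma, Finset.mem_image, Finset.mem_preimage]
  constructor
  · intro h
    exact ⟨⟨⟨i, t⟩, h, rfl⟩, h⟩
  · rintro ⟨-, h⟩
    exact h

theorem cycOrdFrac_pow (R : Type u) [CommRing R] (K : Type u) [Field K] [Algebra R K] (f : K)
    (m : ℕ) : CycAlg.ordFrac R K (f ^ m) = m * CycAlg.ordFrac R K f := by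
  classical
  unfold CycAlg.ordFrac
  by_cases h : IsNoetherianRing R ∧ Ring.KrullDimLE 1 R ∧ Nontrivial R ∧ IsFractionRing R K
  · rw [dif_pos h, dif_pos h]
    haveI := h.1; haveI := h.2.1; haveI := h.2.2.1; haveI := h.2.2.2
    haveI : IsDomain R := (IsFractionRing.injective R K).isDomain
    show WithZero.recZeroCoe (motive := fun _ => ℤ) 0 (fun z => Multiplicative.toAdd z)
      (Ring.ordFrac R (f ^ m)) = m * WithZero.recZeroCoe (motive := fun _ => ℤ) 0
        (fun z => Multiplicative.toAdd z) (Ring.ordFrac R f)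
    rw [map_pow]
    generalize Ring.ordFrac R f = w
    induction w using WithZero.recZeroCoe with
    | zero =>
      rcases Nat.eq_zero_or_pos m with rfl | hm
      · simp
      · rw [zero_pow (by omega)]
        simp
    | coe a =>
      rw [← WithZero.coe_pow, WithZero.recZeroCoe_coe, WithZero.recZeroCoe_coe, toAdd_pow]
      simp
  · rw [dif_neg h, dif_neg h]; simp

end general

variable {X : Scheme.{u}}

theorem divFun_pow (δ : X → ℤ) (ξ : X) (f : X.residueField ξ) (m : ℕ) (x : X) :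
    Cyc.divFun δ ξ (f ^ m) x = m * Cyc.divFun δ ξ f x := by
  unfold Cyc.divFun
  by_cases hc : ξ ⤳ x ∧ δ x + 1 = δ ξ
  · rw [dif_pos hc, dif_pos hc]
    unfold Cyc.ordAt
    exact cycOrdFrac_pow _ _ f m
  · rw [dif_neg hc, dif_neg hc]; simp

section hyp

variable {X X' : Scheme.{u}} (p : X' ⟶ X)

/-- every point has a generisation in its fibre which is maximal in the fibre -/
theorem exists_max_fibre (x' : X') :
    ∃ z : X', z ⤳ x' ∧ p z = p x' ∧ ∀ w : X', p w = p z → w ⤳ z → w = z := by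
  have hI : (maximalIdeal (X.presheaf.stalk (p x'))).map (p.stalkMap x').hom ≤
      maximalIdeal (X'.presheaf.stalk x') := by
    rw [Ideal.map_le_iff_le_comap]
    intro a ha
    exact map_nonunit (p.stalkMap x').hom a ha
  obtain ⟨P, hP, -⟩ := Ideal.exists_minimalPrimes_le hI
  let Ps : ↥(Spec (X'.presheaf.stalk x')) := ⟨P, hP.1.1⟩
  have hker := PullDivD.ker_specMap_self (p x') (p x') rfl (specializes_refl _)
  have hz : X'.fromSpecStalk x' Ps ⤳ x' := fromSpecStalk_specializes x' Ps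
  have hpz : p (X'.fromSpecStalk x' Ps) = p x' := by
    rw [map_pt_eq_iff p x' Ps (p x') (specializes_refl _), hker]
    symm
    apply (IsLocalRing.maximalIdeal.isMaximal _).eq_of_le
    · haveI : P.IsPrime := hP.1.1
      exact (Ideal.comap_isPrime (p.stalkMap x').hom P).ne_top
    · exact Ideal.map_le_iff_le_comap.mp hP.1.2
  refine ⟨X'.fromSpecStalk x' Ps, hz, hpz, ?_⟩
  intro w hw hwz
  obtain ⟨Pw, rfl⟩ := exists_prime_of_specializes x' w (hwz.trans hz)
  have hle : Pw.asIdeal ≤ P := (fromSpecStalk_specializes_iff x' Pw Ps).1 hwz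
  have hIw := le_of_map_eq p x' (p x') (specializes_refl _) Pw (hw.trans hpz)
  rw [hker] at hIw
  have hPle : P ≤ Pw.asIdeal := hP.2 ⟨Pw.isPrime, hIw⟩ hle
  have : Pw = Ps := PrimeSpectrum.ext (le_antisymm hle hPle)
  rw [this]

variable {δ : X → ℤ} {δ' : X' → ℤ} {c : ℤ}

theorem hyp_of_hc (hX : Cyc.IsSetup X δ) (hX' : Cyc.IsSetup X' δ')
    (hc : ∀ x' : X', (∀ y, p y = p x' → y ⤳ x' → y = x') → δ' x' = δ (p x') + c) :
    Hyp p δ' δ c := by
  have h1 : ∀ x' : X', δ' x' ≤ δ (p x') + c := by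
    intro x'
    obtain ⟨z, hz, hpz, hmax⟩ := exists_max_fibre p x'
    have h2 := hc z hmax
    by_cases hzx : z = x'
    · subst hzx
      exact h2.le
    · rw [hpz] at h2
      have := (hX'.2.2 z x' hz hzx).1
      omega
  refine ⟨hX'.1, hX.1, hX'.2.2, hX.2.2, h1, hc, ?_⟩
  intro x' hx' w hw hwx
  by_contra hne
  have h2 := (hX'.2.2 w x' hwx hne).1
  have h3 := h1 w
  rw [hw] at h3
  omega

end hyp

section locfin

variable {X X' : Scheme.{u}} (p : X' ⟶ X)

/-- the index type of the pulled back family -/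
abbrev Idx {ι : Type u} (ξ : ι → X) : Type u :=
  Σ i : ι, {z : X' // p z = ξ i ∧ ∀ w : X', p w = p z → w ⤳ z → w = z}

theorem locFin [IsLocallyNoetherian X'] {ι : Type u} (ξ : ι → X)
    (hlf : ∀ x : X, ∃ U : Set X, IsOpen U ∧ x ∈ U ∧ {i | (closure {ξ i} ∩ U).Nonempty}.Finite)
    (x' : X') :
    ∃ U : Set X', IsOpen U ∧ x' ∈ U ∧
      {j : Idx p ξ | (closure {j.2.1} ∩ U).Nonempty}.Finite := by
  classical
  obtain ⟨V, hVo, hxV, hVfin⟩ := hlf (p x')
  obtain ⟨W, hxW, hWn⟩ := DivTrC.exists_noetherian_nhd x'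
  haveI : TopologicalSpace.NoetherianSpace ↥W := hWn
  haveI : QuasiSober ↥W := W.isOpen.isOpenEmbedding_subtypeVal.quasiSober
  refine ⟨(W : Set X') ∩ p ⁻¹' V, W.isOpen.inter (hVo.preimage p.continuous), ⟨hxW, hxV⟩, ?_⟩
  -- the finite sets
  let C : ι → Set ↥W := fun i => (Subtype.val : ↥W → X') ⁻¹' (p ⁻¹' closure {ξ i})
  have hC : ∀ i, IsClosed (C i) := fun i =>
    (isClosed_closure.preimage p.continuous).preimage continuous_subtype_val
  have hM : ∀ i, ((Subtype.val : ↥W → X') ''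
      {y | y ∈ C i ∧ ∀ t ∈ C i, t ⤳ y → t = y}).Finite :=
    fun i => (DivTrC.finite_maximal (C i) (hC i)).image _
  have hfin : (⋃ i ∈ {i | (closure {ξ i} ∩ V).Nonempty},
      ({i} : Set ι) ×ˢ ((Subtype.val : ↥W → X') ''
        {y | y ∈ C i ∧ ∀ t ∈ C i, t ⤳ y → t = y})).Finite :=
    hVfin.biUnion (fun i _ => (Set.finite_singleton i).prod (hM i))
  let φ : Idx p ξ → ι × X' := fun j => (j.1, j.2.1)
  have hφ : Function.Injective φ := by
    rintro ⟨i, z, hz⟩ ⟨i', z', hz'⟩ h
    have h1 : i = i' := congrArg Prod.fst h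
    have h2 : z = z' := congrArg Prod.snd h
    subst h1
    subst h2
    rfl
  refine Set.Finite.of_finite_image (hfin.subset ?_) hφ.injOn
  rintro _ ⟨⟨i, z, hz, hmax⟩, ⟨y, hy1, hy2⟩, rfl⟩
  have hsp : z ⤳ y := specializes_iff_mem_closure.2 hy1
  have hzU : z ∈ (W : Set X') ∩ p ⁻¹' V :=
    hsp.mem_open (W.isOpen.inter (hVo.preimage p.continuous)) hy2
  have hi : i ∈ {i | (closure {ξ i} ∩ V).Nonempty} :=
    ⟨ξ i, subset_closure (Set.mem_singleton _), hz ▸ hzU.2⟩
  refine Set.mem_iUnion₂.2 ⟨i, hi, ?_⟩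
  refine ⟨rfl, ⟨z, hzU.1⟩, ⟨?_, ?_⟩, rfl⟩
  · show p z ∈ closure {ξ i}
    rw [hz]
    exact subset_closure (Set.mem_singleton _)
  · intro t ht htz
    have htz' : (t : X') ⤳ z := (subtype_specializes_iff _ _).1 htz
    have h1 : ξ i ⤳ p (t : X') := specializes_iff_mem_closure.2 ht
    have h2 : p (t : X') ⤳ p z := htz'.map p.continuous
    rw [hz] at h2
    have h3 : p (t : X') = ξ i := (h2.antisymm h1).eq
    exact Subtype.ext (hmax _ (h3.trans hz.symm) htz')

end locfin

section main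

theorem mult_nonneg {X Y : Scheme.{u}} (f : X ⟶ Y) (z : X) : 0 ≤ mult f z := by
  unfold mult
  exact Int.natCast_nonneg _

theorem main (X X' : Scheme.{u}) (δ : X → ℤ) (δ' : X' → ℤ) (hX : Cyc.IsSetup X δ)
    (hX' : Cyc.IsSetup X' δ') (p : X' ⟶ X) [Flat p] (c : ℤ)
    (hc : ∀ x' : X', (∀ y, p y = p x' → y ⤳ x' → y = x') → δ' x' = δ (p x') + c) (k : ℤ)
    (α : AlgebraicCycle X ℤ) (h0 : Cyc.RatEquivZero δ k α)
    (α' : AlgebraicCycle X' ℤ) (hα' : ⇑α' = Cyc.pullFun p δ' δ c ⇑α) :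
    Cyc.RatEquivZero δ' (k + c) α' := by
  classical
  have H := hyp_of_hc p hX hX' hc
  haveI := hX'.1
  obtain ⟨ι, ξ, g, hδξ, hg, hlf, hsum⟩ := h0
  refine ⟨Idx p ξ, fun j => j.2.1, fun j => (p.residueFieldMap j.2.1
    ((X.residueFieldCongr j.2.2.1.symm).hom (g j.1))) ^ (mult p j.2.1).toNat, ?_, ?_,
    locFin p ξ hlf, ?_⟩
  · intro j
    show δ' j.2.1 = k + c + 1
    rw [H.h2 j.2.1 j.2.2.2, j.2.2.1, hδξ]
    ring
  · intro j
    apply pow_ne_zero
    intro h
    apply hg j.1
    have h1 := (map_eq_zero_iff _ (p.residueFieldMap j.2.1).hom.injective).mp h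
    exact (map_eq_zero_iff _ (X.residueFieldCongr j.2.2.1.symm).hom.hom.injective).mp h1
  · intro x'
    rw [hα']
    have h1 : Cyc.pullFun p δ' δ c ⇑α x' =
        ∑ᶠ i, Cyc.pullFun p δ' δ c (Cyc.divFun δ (ξ i) (g i)) x' := by
      unfold Cyc.pullFun
      split_ifs with hx
      · rw [hsum, finsum_mul]
      · simp
    rw [h1]
    simp_rw [core p H _ _ (hg _) x']
    obtain ⟨U, hUo, hxU, hUfin⟩ := locFin p ξ hlf x'
    have hsupp : (Function.support (fun j : Idx p ξ => Cyc.divFun δ' j.2.1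
        ((p.residueFieldMap j.2.1 ((X.residueFieldCongr j.2.2.1.symm).hom (g j.1))) ^
          (mult p j.2.1).toNat) x')).Finite := by
      refine hUfin.subset ?_
      intro j hj
      rw [Function.mem_support] at hj
      refine ⟨x', ?_, hxU⟩
      unfold Cyc.divFun at hj
      split_ifs at hj with hcond
      · exact specializes_iff_mem_closure.1 hcond.1
      · exact absurd rfl hj
    rw [finsum_sigma _ hsupp]
    apply finsum_congr
    intro i
    apply finsum_congr
    intro t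
    unfold G2
    rw [dif_pos t.2.1, divFun_pow, Int.toNat_of_nonneg (mult_nonneg p t.1)]

end main

end Groth.Agent.Helper3.PullDivL
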