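import Mathlib
import Groth.Prelude
import Groth.Agent.Helper3.PullDivL

set_option autoImplicit false
set_option linter.style.haveILetI false
set_option linter.unusedSectionVars false
set_option linter.unusedVariables false
set_option linter.deprecated false
set_option linter.style.haveILetI false
set_option linter.unusedSectionVars false
set_option linter.unusedVariables false

namespace Groth.Agent.Helper3.CycLimA

universe u

open AlgebraicGeometry CategoryTheory IsLocalRing Groth.Agent.Helper6.Dim1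
  Groth.Agent.Helper5.StalkDict Groth.Agent.Helper3.PullDivI Groth.Agent.Helper3.PullDivJ
  Groth.Agent.Helper3.PullDivK

section mult

variable {X Y : Scheme.{u}} (f : X ⟶ Y)

/-- the only prime of `O_{X,z}` containing `m_{f z} O_{X,z}` is the maximal ideal, when `z` is
maximal in its fibre -/
theorem prime_eq_maximal (z : X) (hmax : ∀ w : X, f w = f z → w ⤳ z → w = z)
    (P : Ideal (X.presheaf.stalk z)) [hP : P.IsPrime]
    (hJP : (maximalIdeal (Y.presheaf.stalk (f z))).map (f.stalkMap z).hom ≤ P) :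
    P = maximalIdeal (X.presheaf.stalk z) := by
  let Ps : ↥(Spec (X.presheaf.stalk z)) := ⟨P, hP⟩
  have hker := PullDivD.ker_specMap_self (f z) (f z) rfl (specializes_refl _)
  have hpt : f (X.fromSpecStalk z Ps) = f z := by
    rw [map_pt_eq_iff f z Ps (f z) (specializes_refl _), hker]
    symm
    apply (IsLocalRing.maximalIdeal.isMaximal _).eq_of_le
    · exact (Ideal.comap_isPrime (f.stalkMap z).hom P).ne_top
    · exact Ideal.map_le_iff_le_comap.mp hJP
  have hsp : X.fromSpecStalk z Ps ⤳ z := fromSpecStalk_specializes z Ps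
  have heq : X.fromSpecStalk z Ps = z := hmax _ hpt hsp
  have h2 : X.fromSpecStalk z (closedPoint (X.presheaf.stalk z)) ⤳ X.fromSpecStalk z Ps := by
    rw [Scheme.fromSpecStalk_closedPoint, heq]
  rw [fromSpecStalk_specializes_iff] at h2
  exact le_antisymm (IsLocalRing.le_maximalIdeal hP.ne_top) h2

theorem mult_pos [IsLocallyNoetherian X] (z : X)
    (hmax : ∀ w : X, f w = f z → w ⤳ z → w = z) : 0 < mult f z := by
  unfold mult
  set J : Ideal (X.presheaf.stalk z) :=
    (maximalIdeal (Y.presheaf.stalk (f z))).map (f.stalkMap z).hom with hJ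
  have hJle : J ≤ maximalIdeal (X.presheaf.stalk z) := by
    rw [hJ, Ideal.map_le_iff_le_comap]
    intro a ha
    exact map_nonunit (f.stalkMap z).hom a ha
  haveI : Nontrivial (X.presheaf.stalk z ⧸ J) :=
    Ideal.Quotient.nontrivial_iff.mpr (fun h => (IsLocalRing.maximalIdeal.isMaximal _).ne_top
      (top_le_iff.mp (h ▸ hJle)))
  haveI : IsNoetherianRing (X.presheaf.stalk z ⧸ J) := inferInstance
  have hdim : Ring.KrullDimLE 0 (X.presheaf.stalk z ⧸ J) := by
    rw [Ring.krullDimLE_zero_iff]
    intro Q hQ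
    haveI := hQ
    have hP : (Q.comap (Ideal.Quotient.mk J)) = maximalIdeal (X.presheaf.stalk z) := by
      apply prime_eq_maximal f z hmax
      intro a ha
      rw [Ideal.mem_comap, Ideal.Quotient.eq_zero_iff_mem.mpr ha]
      exact Q.zero_mem
    have hQ' : Q = (maximalIdeal (X.presheaf.stalk z)).map (Ideal.Quotient.mk J) := by
      rw [← hP, Ideal.map_comap_of_surjective _ Ideal.Quotient.mk_surjective]
    rw [hQ']
    exact Ideal.IsMaximal.map_of_surjective_of_ker_le Ideal.Quotient.mk_surjective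
      (by rw [Ideal.mk_ker]; exact hJle)
  haveI : IsArtinianRing (X.presheaf.stalk z ⧸ J) :=
    isArtinianRing_iff_krullDimLE_zero.mpr hdim
  have hfin : IsFiniteLength (X.presheaf.stalk z) (X.presheaf.stalk z ⧸ J) := by
    rw [isFiniteLength_iff_isNoetherian_isArtinian]
    exact ⟨isNoetherian_quotient J,
      isArtinian_of_surjective_algebraMap (Ideal.Quotient.mk_surjective (I := J))⟩
  have hne : Module.length (X.presheaf.stalk z) (X.presheaf.stalk z ⧸ J) ≠ ⊤ :=
    Module.length_ne_top_iff.mpr hfin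
  have hpos : Module.length (X.presheaf.stalk z) (X.presheaf.stalk z ⧸ J) ≠ 0 := by
    rw [Ne, Module.length_eq_zero_iff]
    exact not_subsingleton _
  have : 0 < (Module.length (X.presheaf.stalk z) (X.presheaf.stalk z ⧸ J)).toNat := by
    rw [Nat.pos_iff_ne_zero, Ne, ENat.toNat_eq_zero]
    tauto
  exact_mod_cast this

end mult

section limit

open Limits

variable {I : Type u} [Preorder I] [IsDirected I (fun a b => a ≤ b)] [Nonempty I]
  (D : Iᵒᵖ ⥤ Scheme.{u}) (c : Limits.Cone D) (hc : Limits.IsLimit c)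
  (haff : ∀ (i j : Iᵒᵖ) (f : i ⟶ j), IsAffineHom (D.map f))
  (hqc : ∀ i, CompactSpace ↥(D.obj i))

include hc haff hqc in
/-- if the fibre of the limit over `x` is empty then the preimage of the closure of `x` is empty at
some stage -/
theorem exists_stage_empty (hflat' : ∀ i, Flat (c.π.app i)) (i : Iᵒᵖ) (x : D.obj i)
    (hx : ∀ s : c.pt, c.π.app i s ≠ x) :
    ∃ (j : Iᵒᵖ) (f : j ⟶ i), ∀ y : D.obj j, ¬ (x ⤳ D.map f y) := by
  haveI : ∀ {i j : Iᵒᵖ} (f : i ⟶ j), IsAffineHom (D.map f) := fun f => haff _ _ f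
  haveI := hqc
  by_contra! H
  obtain ⟨s, hs⟩ := exists_mem_of_isClosed_of_nonempty' D c hc
    (fun j f => (D.map f) ⁻¹' closure {x})
    (fun j f => isClosed_closure.preimage (D.map f).continuous)
    (fun j f => by
      obtain ⟨y, hy⟩ := H j f
      exact ⟨y, specializes_iff_mem_closure.1 hy⟩)
    (fun j f => (isClosed_closure.preimage (D.map f).continuous).isCompact)
    (fun j k fkj fji y hy => by
      simp only [Set.mem_preimage] at hy ⊢
      rwa [Functor.map_comp] at hy)
  have h1 := hs i (𝟙 i)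
  simp only [Set.mem_preimage, CategoryTheory.Functor.map_id] at h1
  have h2 : x ⤳ c.π.app i s := specializes_iff_mem_closure.2 h1
  haveI := hflat' i
  obtain ⟨s', -, hs'⟩ := (Flat.generalizingMap (c.π.app i)) h2
  exact hx s' hs'

include hc haff hqc in
theorem s6496 (hflat : ∀ (i j : Iᵒᵖ) (f : i ⟶ j), Flat (D.map f))
    (δ : (i : Iᵒᵖ) → ↥(D.obj i) → ℤ) (δ' : ↥c.pt → ℤ)
    (hset' : Cyc.IsSetup c.pt δ')
    (hflat' : ∀ i, Flat (c.π.app i))
    (hshift' : ∀ (i : Iᵒᵖ) (x : ↥c.pt),
      (∀ y, c.π.app i y = c.π.app i x → y ⤳ x → y = x) → δ' x = δ i (c.π.app i x))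
    (i : Iᵒᵖ) (α : AlgebraicCycle (D.obj i) ℤ)
    (h0 : Cyc.pullFun (c.π.app i) δ' (δ i) 0 ⇑α = 0) :
    ∃ (j : Iᵒᵖ) (f : j ⟶ i), Cyc.pullFun (D.map f) (δ j) (δ i) 0 ⇑α = 0 := by
  classical
  haveI := hset'.1
  haveI := hqc
  -- the fibres over the support are empty
  have hempty : ∀ x : D.obj i, α x ≠ 0 → ∀ s : c.pt, c.π.app i s ≠ x := by
    intro x hx s hs
    obtain ⟨z, -, hpz, hmax⟩ := PullDivL.exists_max_fibre (c.π.app i) s
    have hδ := hshift' i z hmax
    have h1 := congrFun h0 z
    unfold Cyc.pullFun at h1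
    rw [if_pos (by rw [hδ, add_zero])] at h1
    have hm := mult_pos (X := c.pt) (Y := D.obj i) (c.π.app i) z hmax
    unfold mult at hm
    simp only [Pi.zero_apply] at h1
    rcases mul_eq_zero.mp h1 with h | h
    · rw [hpz, hs] at h
      exact hx h
    · exact absurd h hm.ne'
  -- the support is finite
  have hfin : (Function.support ⇑α).Finite := by
    have := (Function.locallyFinsupp.locallyFiniteSupport α).finite_inter_support_of_isCompact
      (isCompact_univ (X := D.obj i))
    rwa [Set.univ_inter] at this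
  -- choose stages
  have hstage : ∀ x : D.obj i, α x ≠ 0 → ∃ (j : Iᵒᵖ) (f : j ⟶ i), ∀ y : D.obj j,
      ¬ (x ⤳ D.map f y) := fun x hx =>
    exists_stage_empty D c hc haff hqc hflat' i x (hempty x hx)
  choose! J F hJF using hstage
  obtain ⟨M, hM⟩ := (hfin.toFinset.image (fun x => (J x).unop)).exists_le
  obtain ⟨M', hM1, hM2⟩ := exists_ge_ge M i.unop
  refine ⟨Opposite.op M', (homOfLE hM2).op, ?_⟩
  funext y
  unfold Cyc.pullFun
  simp only [Pi.zero_apply]
  split_ifs with hcond
  · have hαy : α (D.map (homOfLE hM2).op y) = 0 := by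
      by_contra hne
      obtain ⟨x, hxdef⟩ : ∃ x, x = D.map (homOfLE hM2).op y := ⟨_, rfl⟩
      rw [← hxdef] at hne
      have hxM : (J x).unop ≤ M' := by
        refine le_trans (hM _ ?_) hM1
        rw [Finset.mem_image]
        exact ⟨x, (Set.Finite.mem_toFinset _).mpr hne, rfl⟩
      let g : Opposite.op M' ⟶ J x := (homOfLE hxM).op
      have hcomp : D.map (homOfLE hM2).op = D.map g ≫ D.map (F x hne) := by
        rw [← D.map_comp]
        congr 1
      apply hJF x hne (D.map g y)
      have : D.map (F x hne) (D.map g y) = x :=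
        calc D.map (F x hne) (D.map g y) = (D.map g ≫ D.map (F x hne)) y := rfl
          _ = D.map (homOfLE hM2).op y := by rw [← hcomp]
          _ = x := hxdef.symm
      rw [this]
    rw [hαy, zero_mul]
  · rfl

end limit

end Groth.Agent.Helper3.CycLimA
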