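import Mathlib
import Groth.Prelude
import Groth.Agent.Helper3.CycLimA

set_option autoImplicit false
set_option linter.style.haveILetI false
set_option linter.unusedSectionVars false
set_option linter.unusedVariables false
set_option linter.deprecated false
set_option linter.style.haveILetI false
set_option linter.unusedSectionVars false
set_option linter.unusedVariables false

namespace Groth.Agent.Helper3.CycLimB

universe u

open AlgebraicGeometry CategoryTheory Limits

section germ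

variable {I : Type u} [Category.{u} I] (D : I ⥤ Scheme.{u}) (c : Cone D) (hc : IsLimit c)

set_option backward.defeqAttrib.useBackward true in
set_option backward.isDefEq.respectTransparency false in
include hc in
open Scheme.Opens in
/-- every germ on the limit comes from some stage -/
theorem exists_stalkMap_eq [IsCofiltered I] [∀ {i j} (f : i ⟶ j), IsAffineHom (D.map f)]
    (x : c.pt) (t : c.pt.presheaf.stalk x) :
    ∃ (j : I) (τ : (D.obj j).presheaf.stalk (c.π.app j x)), (c.π.app j).stalkMap x τ = t := by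
  obtain ⟨W, hxW, σ, rfl⟩ := TopCat.Presheaf.exists_germ_eq c.pt.presheaf t
  obtain ⟨_, ⟨i, V, hV, rfl⟩, hxV, hVW'⟩ :=
    TopologicalSpace.Opens.isBasis_iff_nbhd.mp (isBasis_preimage_isAffineOpen D c hc) hxW
  let r : Γ(c.pt, c.π.app i ⁻¹ᵁ V) := c.pt.presheaf.map (homOfLE hVW').op σ
  have (j : _) : IsAffine ((opensDiagram D i V).op.obj j).unop := hV.preimage _
  have (j : _) : IsAffine ((opensDiagram D i V).obj j) := hV.preimage _
  obtain ⟨⟨j⟩, s, hs⟩ := (Types.jointly_surjective_of_isColimit (isColimitOfPreserves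
    (Scheme.Γ ⋙ forget _) (isLimitOpensCone D c hc i V).op) ((c.π.app i ⁻¹ᵁ V).topIso.inv r))
  obtain ⟨s, rfl⟩ := (D.map j.hom ⁻¹ᵁ V).topIso.symm.commRingCatIsoToRingEquiv.surjective s
  have h : c.π.app j.left ⁻¹ᵁ D.map j.hom ⁻¹ᵁ V = c.π.app i ⁻¹ᵁ V := congr($(c.w j.hom) ⁻¹ᵁ V)
  have hr : r = (c.π.app j.left).appLE (D.map j.hom ⁻¹ᵁ V) (c.π.app i ⁻¹ᵁ V) h.ge s := by
    convert!
      show r = ((topIso _).inv ≫ ((opensCone D c i V).π.app j).appTop ≫ (topIso _).hom) s from
        (c.π.app i ⁻¹ᵁ V).topIso.commRingCatIsoToRingEquiv.symm_apply_eq.mp hs.symm using 3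
    simp [Scheme.Hom.app_eq_appLE, Scheme.Hom.resLE_appLE]
  have hxj : c.π.app j.left x ∈ D.map j.hom ⁻¹ᵁ V := by
    show x ∈ c.π.app j.left ⁻¹ᵁ D.map j.hom ⁻¹ᵁ V
    rw [h]
    exact hxV
  refine ⟨j.left, (D.obj j.left).presheaf.germ (D.map j.hom ⁻¹ᵁ V) (c.π.app j.left x) hxj s, ?_⟩
  rw [Scheme.Hom.germ_stalkMap_apply]
  have h1 : c.pt.presheaf.germ W x hxW σ = c.pt.presheaf.germ (c.π.app i ⁻¹ᵁ V) x hxV r :=
    (TopCat.Presheaf.germ_res_apply c.pt.presheaf (homOfLE hVW') x hxV σ).symm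
  rw [h1, hr, Scheme.Hom.appLE]
  simp only [CommRingCat.comp_apply]
  exact (TopCat.Presheaf.germ_res_apply c.pt.presheaf _ x hxV _).symm

/-- factoring a germ through an intermediate stage -/
theorem exists_stalkMap_factor {X Y Z : Scheme.{u}} (a : X ⟶ Y) (b : Y ⟶ Z) (e : X ⟶ Z)
    (h : a ≫ b = e) (x : X) (τ : Z.presheaf.stalk (e x)) :
    ∃ τ' : Y.presheaf.stalk (a x), a.stalkMap x τ' = e.stalkMap x τ := by
  subst h
  refine ⟨b.stalkMap (a x) τ, ?_⟩
  rw [Scheme.Hom.stalkMap_comp]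
  rfl

include hc in
theorem map_π (j j' : I) (φ : j ⟶ j') (s : c.pt) : D.map φ (c.π.app j s) = c.π.app j' s := by
  rw [← c.w φ]
  rfl

include hc in
/-- (P1): the closure of a point of the limit is the preimage of the closure of its image at a late
stage -/
theorem exists_preimage_closure_subset [IsCofiltered I]
    [∀ {i j} (f : i ⟶ j), IsAffineHom (D.map f)]
    [TopologicalSpace.NoetherianSpace c.pt] (x : c.pt) :
    ∃ j0 : I, ∀ (j : I) (φ : j ⟶ j0),
      (c.π.app j) ⁻¹' closure {c.π.app j x} ⊆ closure {x} := by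
  let W : I → TopologicalSpace.Closeds c.pt := fun j =>
    ⟨(c.π.app j) ⁻¹' closure {c.π.app j x}, isClosed_closure.preimage (c.π.app j).continuous⟩
  have hmono : ∀ (j j' : I) (φ : j ⟶ j'), W j ≤ W j' := by
    intro j j' φ t ht
    have h1 : c.π.app j x ⤳ c.π.app j t := specializes_iff_mem_closure.2 ht
    have h2 := h1.map (D.map φ).continuous
    rw [map_π D c hc, map_π D c hc] at h2
    exact specializes_iff_mem_closure.1 h2
  obtain ⟨i0⟩ := IsCofiltered.nonempty (C := I)
  obtain ⟨m, ⟨j0, rfl⟩, hmin⟩ := WellFounded.has_min (wellFounded_lt (α := TopologicalSpace.Closeds c.pt))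
    (Set.range W) ⟨W i0, i0, rfl⟩
  refine ⟨j0, fun j φ t ht => ?_⟩
  have ht0 : t ∈ W j0 := hmono j j0 φ ht
  apply specializes_iff_mem_closure.1
  rw [specializes_iff_forall_open]
  intro U hU htU
  obtain ⟨_, ⟨i, V, hV, rfl⟩, htV, hVU⟩ :=
    TopologicalSpace.Opens.isBasis_iff_nbhd.mp (isBasis_preimage_isAffineOpen D c hc)
      (U := ⟨U, hU⟩) htU
  apply hVU
  have hk : W (IsCofiltered.min i j0) = W j0 :=
    eq_of_le_of_not_lt (hmono _ _ (IsCofiltered.minToRight i j0))
      (hmin _ ⟨_, rfl⟩)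
  have hti : t ∈ W i := hmono _ _ (IsCofiltered.minToLeft i j0) (hk ▸ ht0)
  have h1 : c.π.app i x ⤳ c.π.app i t := specializes_iff_mem_closure.2 hti
  exact h1.mem_open V.isOpen htV

include hc in
/-- (P2): the maximal ideal of a Noetherian local ring of the limit is generated by the maximal
ideal of a late stage -/
theorem exists_maximalIdeal_le_map [IsCofiltered I]
    [∀ {i j} (f : i ⟶ j), IsAffineHom (D.map f)] (x : c.pt)
    [IsNoetherianRing (c.pt.presheaf.stalk x)] :
    ∃ j0 : I, ∀ (j : I) (φ : j ⟶ j0), IsLocalRing.maximalIdeal (c.pt.presheaf.stalk x) ≤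
      (IsLocalRing.maximalIdeal ((D.obj j).presheaf.stalk (c.π.app j x))).map
        ((c.π.app j).stalkMap x).hom := by
  classical
  obtain ⟨S, hS⟩ := (IsNoetherian.noetherian (IsLocalRing.maximalIdeal (c.pt.presheaf.stalk x)))
  choose J T hJT using fun t : c.pt.presheaf.stalk x => exists_stalkMap_eq D c hc x t
  obtain ⟨j0, hj0⟩ := IsCofiltered.inf_objs_exists (S.image J)
  refine ⟨j0, fun j φ => ?_⟩
  rw [← hS, Submodule.span_le]
  intro t ht
  have hmem : J t ∈ S.image J := Finset.mem_image_of_mem J ht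
  obtain ⟨ψ0⟩ := hj0 hmem
  obtain ⟨τ', hτ'⟩ := exists_stalkMap_factor (c.π.app j) (D.map (φ ≫ ψ0)) (c.π.app (J t))
    (c.w (φ ≫ ψ0)) x (T t)
  rw [hJT t] at hτ'
  have htm : t ∈ IsLocalRing.maximalIdeal (c.pt.presheaf.stalk x) := by
    rw [← hS]
    exact Submodule.subset_span ht
  have hτm : τ' ∈ IsLocalRing.maximalIdeal ((D.obj j).presheaf.stalk (c.π.app j x)) := by
    rw [IsLocalRing.mem_maximalIdeal, mem_nonunits_iff]
    intro hu
    have := hu.map ((c.π.app j).stalkMap x).hom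
    rw [hτ'] at this
    exact (IsLocalRing.mem_maximalIdeal _).mp htm this
  rw [SetLike.mem_coe, ← hτ']
  exact Ideal.mem_map_of_mem _ hτm

end germ

end Groth.Agent.Helper3.CycLimB
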