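import Mathlib
import Groth.Prelude
import Groth.Agent.Helper3.CycLimB

set_option autoImplicit false
set_option linter.style.haveILetI false
set_option linter.unusedSectionVars false
set_option linter.unusedVariables false
set_option linter.deprecated false
set_option linter.style.haveILetI false
set_option linter.unusedSectionVars false
set_option linter.unusedVariables false

namespace Groth.Agent.Helper3.CycLimC

universe u

open AlgebraicGeometry CategoryTheory Limits IsLocalRing
  Groth.Agent.Helper5.StalkDict Groth.Agent.Helper3.PullDivI Groth.Agent.Helper3.PullDivK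

section basic

/-- a cycle from a finitely supported function -/
noncomputable def ofFinite {X : Scheme.{u}} (a : X → ℤ) (h : (Function.support a).Finite) :
    AlgebraicCycle X ℤ :=
  { toFun := a
    supportWithinDomain' := Set.subset_univ _
    supportLocallyFiniteWithinDomain' := by
      intro z _
      exact ⟨Set.univ, Filter.univ_mem, h.subset Set.inter_subset_right⟩ }

theorem coe_ofFinite {X : Scheme.{u}} (a : X → ℤ) (h : (Function.support a).Finite) :
    ⇑(ofFinite a h) = a := rfl

theorem finite_support_of_compact {X : Scheme.{u}} [CompactSpace X] (α : AlgebraicCycle X ℤ) :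
    (Function.support ⇑α).Finite := by
  have := (Function.locallyFinsupp.locallyFiniteSupport α).finite_inter_support_of_isCompact
    (isCompact_univ (X := X))
  rwa [Set.univ_inter] at this

theorem length_quot_maximalIdeal (R : Type u) [CommRing R] [IsLocalRing R] :
    Module.length R (R ⧸ maximalIdeal R) = 1 := by
  rw [Module.length_eq_one_iff, isSimpleModule_iff_isCoatom, ← Ideal.isMaximal_def]
  infer_instance

variable {X Y : Scheme.{u}} (g : X ⟶ Y)

/-- if the maximal ideal is generated from downstairs then the point is maximal in its fibre -/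
theorem max_of_le_map (s : X)
    (hb : maximalIdeal (X.presheaf.stalk s) ≤
      (maximalIdeal (Y.presheaf.stalk (g s))).map (g.stalkMap s).hom) :
    ∀ w : X, g w = g s → w ⤳ s → w = s := by
  intro w hw hws
  obtain ⟨P, rfl⟩ := exists_prime_of_specializes s w hws
  have hker := PullDivD.ker_specMap_self (g s) (g s) rfl (specializes_refl _)
  have h1 := (map_pt_eq_iff g s P (g s) (specializes_refl _)).mp hw
  rw [hker] at h1
  have h2 : maximalIdeal (X.presheaf.stalk s) ≤ P.asIdeal := by
    refine hb.trans ?_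
    rw [Ideal.map_le_iff_le_comap, h1]
  have h3 : P = closedPoint (X.presheaf.stalk s) :=
    PrimeSpectrum.ext (le_antisymm (IsLocalRing.le_maximalIdeal P.isPrime.ne_top) h2)
  rw [h3, Scheme.fromSpecStalk_closedPoint]

theorem mult_eq_one (s : X)
    (hb : maximalIdeal (X.presheaf.stalk s) ≤
      (maximalIdeal (Y.presheaf.stalk (g s))).map (g.stalkMap s).hom) :
    mult g s = 1 := by
  unfold mult
  have hle : (maximalIdeal (Y.presheaf.stalk (g s))).map (g.stalkMap s).hom ≤
      maximalIdeal (X.presheaf.stalk s) := by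
    rw [Ideal.map_le_iff_le_comap]
    intro a ha
    exact map_nonunit (g.stalkMap s).hom a ha
  rw [le_antisymm hle hb, length_quot_maximalIdeal]
  rfl

end basic

section descend

variable {X' X : Scheme.{u}} (g : X' ⟶ X) {δ' : X' → ℤ} {δ : X → ℤ} (H : Hyp g δ' δ 0)

include H in
/-- a cycle all of whose support points are "good" for `g` is a pullback -/
theorem exists_cycle_pull_eq (k : ℤ) (α' : AlgebraicCycle X' ℤ) (hα' : α' ∈ Cyc.Zk X' δ' k)
    (hfin : (Function.support ⇑α').Finite)
    (hgood : ∀ s : X', α' s ≠ 0 → g ⁻¹' closure {g s} ⊆ closure {s} ∧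
      maximalIdeal (X'.presheaf.stalk s) ≤
        (maximalIdeal (X.presheaf.stalk (g s))).map (g.stalkMap s).hom) :
    ∃ α : AlgebraicCycle X ℤ, α ∈ Cyc.Zk X δ k ∧ Cyc.pullFun g δ' δ 0 ⇑α = ⇑α' := by
  classical
  have hmaxS : ∀ s : X', α' s ≠ 0 → ∀ w : X', g w = g s → w ⤳ s → w = s :=
    fun s hs => max_of_le_map g s (hgood s hs).2
  -- points with the same image specialise
  have hsp : ∀ s t : X', α' s ≠ 0 → g s = g t → s ⤳ t := by
    intro s t hs hst
    apply specializes_iff_mem_closure.2
    apply (hgood s hs).1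
    show g t ∈ closure {g s}
    rw [hst]
    exact subset_closure (Set.mem_singleton _)
  have hinj : ∀ s t : X', α' s ≠ 0 → α' t ≠ 0 → g s = g t → s = t := by
    intro s t hs ht hst
    exact hmaxS t ht s hst (hsp s t hs hst)
  let a : X → ℤ := fun x => if h : ∃ s, α' s ≠ 0 ∧ g s = x then α' h.choose else 0
  have ha : ∀ s : X', α' s ≠ 0 → a (g s) = α' s := by
    intro s hs
    have hex : ∃ s', α' s' ≠ 0 ∧ g s' = g s := ⟨s, hs, rfl⟩
    show (if h : ∃ s', α' s' ≠ 0 ∧ g s' = g s then α' h.choose else 0) = α' s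
    rw [dif_pos hex]
    congr 1
    exact hinj _ _ hex.choose_spec.1 hs hex.choose_spec.2
  have ha0 : ∀ x : X, a x ≠ 0 → ∃ s, α' s ≠ 0 ∧ g s = x := by
    intro x hx
    by_contra hne
    apply hx
    show (if h : ∃ s, α' s ≠ 0 ∧ g s = x then α' h.choose else 0) = 0
    rw [dif_neg hne]
  have hafin : (Function.support a).Finite := by
    refine (hfin.image g).subset ?_
    intro x hx
    obtain ⟨s, hs, rfl⟩ := ha0 x hx
    exact ⟨s, hs, rfl⟩
  refine ⟨ofFinite a hafin, ?_, ?_⟩
  · intro x hx
    by_contra hne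
    obtain ⟨s, hs, rfl⟩ := ha0 x hne
    apply hx
    have h1 : δ' s = k := by
      by_contra h
      exact hs (hα' s h)
    have h2 := H.h2 s (hmaxS s hs)
    rw [← h1, h2, add_zero]
  · rw [coe_ofFinite]
    funext t
    unfold Cyc.pullFun
    by_cases hcond : δ' t = δ (g t) + 0
    · rw [if_pos hcond]
      have htmax := H.h3 t hcond
      by_cases ht : α' t = 0
      · rw [ht]
        have : a (g t) = 0 := by
          by_contra hne
          obtain ⟨s, hs, hst⟩ := ha0 _ hne
          have := htmax s hst (hsp s t hs hst)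
          rw [this] at hs
          exact hs ht
        rw [this, zero_mul]
      · rw [ha t ht]
        have := mult_eq_one g t (hgood t ht).2
        unfold mult at this
        rw [this, mul_one]
    · rw [if_neg hcond]
      by_contra hne
      apply hcond
      exact H.h2 t (hmaxS t (Ne.symm hne))

end descend

section stage

variable {I : Type u} [Category.{u} I] [IsCofiltered I] (D : I ⥤ Scheme.{u}) (c : Cone D)
  (hc : IsLimit c)

/-- the two properties of a stage `i` at a point `s` of the limit -/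
def Good (i : I) (s : c.pt) : Prop :=
  (c.π.app i) ⁻¹' closure {c.π.app i s} ⊆ closure {s} ∧
    maximalIdeal (c.pt.presheaf.stalk s) ≤
      (maximalIdeal ((D.obj i).presheaf.stalk (c.π.app i s))).map ((c.π.app i).stalkMap s).hom

include hc in
theorem exists_good_stage [∀ {i j} (f : i ⟶ j), IsAffineHom (D.map f)]
    [TopologicalSpace.NoetherianSpace c.pt] [IsLocallyNoetherian c.pt]
    (S' : Set c.pt) (hS' : S'.Finite) :
    ∃ i0 : I, ∀ (i : I) (φ : i ⟶ i0), ∀ s ∈ S', Good D c i s := by
  classical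
  choose J1 hJ1 using fun s : c.pt => CycLimB.exists_preimage_closure_subset D c hc s
  choose J2 hJ2 using fun s : c.pt => CycLimB.exists_maximalIdeal_le_map D c hc s
  obtain ⟨i0, hi0⟩ := IsCofiltered.inf_objs_exists
    (hS'.toFinset.image J1 ∪ hS'.toFinset.image J2)
  refine ⟨i0, fun i φ s hs => ⟨?_, ?_⟩⟩
  · have hmem : J1 s ∈ hS'.toFinset.image J1 ∪ hS'.toFinset.image J2 :=
      Finset.mem_union_left _ (Finset.mem_image_of_mem J1 ((Set.Finite.mem_toFinset _).mpr hs))
    obtain ⟨ψ⟩ := hi0 hmem
    exact hJ1 s i (φ ≫ ψ)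
  · have hmem : J2 s ∈ hS'.toFinset.image J1 ∪ hS'.toFinset.image J2 :=
      Finset.mem_union_right _ (Finset.mem_image_of_mem J2 ((Set.Finite.mem_toFinset _).mpr hs))
    obtain ⟨ψ⟩ := hi0 hmem
    exact hJ2 s i (φ ≫ ψ)

end stage

section main

theorem noetherianSpace_of {X : Scheme.{u}} [IsLocallyNoetherian X] [CompactSpace X] :
    TopologicalSpace.NoetherianSpace X := by
  haveI : IsNoetherian X := {}
  infer_instance

theorem s6495 (I : Type u) [Preorder I] [IsDirected I (fun a b => a ≤ b)] [Nonempty I]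
    (D : Iᵒᵖ ⥤ Scheme.{u}) (c : Limits.Cone D) (hc : Limits.IsLimit c)
    (haff : ∀ (i j : Iᵒᵖ) (f : i ⟶ j), IsAffineHom (D.map f))
    (hqc : ∀ i, CompactSpace ↥(D.obj i)) (δ : (i : Iᵒᵖ) → ↥(D.obj i) → ℤ) (δ' : ↥c.pt → ℤ)
    (hset : ∀ i, Cyc.IsSetup (D.obj i) (δ i)) (hset' : Cyc.IsSetup c.pt δ')
    (hflat' : ∀ i, Flat (c.π.app i))
    (hshift' : ∀ (i : Iᵒᵖ) (x : ↥c.pt),
      (∀ y, c.π.app i y = c.π.app i x → y ⤳ x → y = x) → δ' x = δ i (c.π.app i x))
    (k : ℤ) (α' : AlgebraicCycle c.pt ℤ) (hα' : α' ∈ Cyc.Zk c.pt δ' k) :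
    ∃ (i : Iᵒᵖ) (α : AlgebraicCycle (D.obj i) ℤ), α ∈ Cyc.Zk (D.obj i) (δ i) k ∧
      Cyc.pullFun (c.π.app i) δ' (δ i) 0 ⇑α = ⇑α' := by
  haveI : ∀ {i j : Iᵒᵖ} (f : i ⟶ j), IsAffineHom (D.map f) := fun f => haff _ _ f
  haveI := hqc
  haveI : CompactSpace c.pt := Scheme.compactSpace_of_isLimit D c hc
  haveI : IsLocallyNoetherian c.pt := hset'.1
  haveI : TopologicalSpace.NoetherianSpace c.pt := noetherianSpace_of
  have hfin := finite_support_of_compact α'
  obtain ⟨i0, hi0⟩ := exists_good_stage D c hc (Function.support ⇑α') hfin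
  have H : Hyp (c.π.app i0) δ' (δ i0) 0 :=
    PullDivL.hyp_of_hc (X := D.obj i0) (X' := c.pt) (c.π.app i0) (hset i0) hset'
      (fun x' hmax => by rw [hshift' i0 x' hmax, add_zero])
  obtain ⟨α, h1, h2⟩ := exists_cycle_pull_eq (X' := c.pt) (X := D.obj i0) (c.π.app i0) H k α' hα'
    hfin (fun s hs => hi0 i0 (𝟙 _) s hs)
  exact ⟨i0, α, h1, h2⟩

end main

end Groth.Agent.Helper3.CycLimC
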