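import Mathlib
import Groth.Prelude
import Groth.Agent.Helper3.CycLimC

set_option autoImplicit false
set_option linter.style.haveILetI false
set_option linter.unusedSectionVars false
set_option linter.unusedVariables false
set_option linter.deprecated false
set_option linter.style.haveILetI false
set_option linter.unusedSectionVars false
set_option linter.unusedVariables false

namespace Groth.Agent.Helper3.CycLimD

universe u

open AlgebraicGeometry CategoryTheory Limits IsLocalRing
  Groth.Agent.Helper5.StalkDict Groth.Agent.Helper3.PullDivI Groth.Agent.Helper3.PullDivK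

section unit

theorem cycOrdFrac_unit (R : Type u) [CommRing R] (K : Type u) [Field K] [Algebra R K] (r : R)
    (hr : IsUnit r) : CycAlg.ordFrac R K (algebraMap R K r) = 0 := by
  classical
  by_cases h : IsNoetherianRing R ∧ Ring.KrullDimLE 1 R ∧ Nontrivial R ∧ IsFractionRing R K
  · haveI := h.1; haveI := h.2.1; haveI := h.2.2.1; haveI := h.2.2.2
    haveI : IsDomain R := (IsFractionRing.injective R K).isDomain
    rw [Groth.Agent.Helper6.Dim1.ordFrac_algebraMap hr.ne_zero]
    have : Ideal.span {r} = ⊤ := Ideal.span_singleton_eq_top.mpr hr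
    rw [this]
    have h0 : Module.length R (R ⧸ (⊤ : Ideal R)) = 0 :=
      Module.length_eq_zero_iff.mpr inferInstance
    rw [h0]
    rfl
  · unfold CycAlg.ordFrac
    rw [dif_neg h]

variable {X : Scheme.{u}}

theorem ordAt_unit (y η : X) (h : η ⤳ y) (u : X.presheaf.stalk y) (hu : IsUnit u) :
    Cyc.ordAt y η h (Cyc.specMap y η h u) = 0 := by
  unfold Cyc.ordAt
  rw [← DivTrB.algebraMap_mk y η h u]
  exact cycOrdFrac_unit _ _ _ (hu.map _)

/-- a nonzero element of the residue field is the value of a unit section on a neighbourhood -/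
theorem exists_nhd_unit (η : X) (φ : X.residueField η) (hφ : φ ≠ 0) :
    ∃ W : X.Opens, η ∈ W ∧ ∀ (y : X) (hy : y ∈ W) (h : η ⤳ y),
      ∃ u : X.presheaf.stalk y, IsUnit u ∧ Cyc.specMap y η h u = φ := by
  obtain ⟨t, rfl⟩ := Scheme.residue_surjective X η φ
  have htu : IsUnit t := by
    by_contra hn
    apply hφ
    exact (IsLocalRing.residue_eq_zero_iff t).mpr ((IsLocalRing.mem_maximalIdeal t).mpr hn)
  obtain ⟨W0, hηW0, σ, rfl⟩ := TopCat.Presheaf.exists_germ_eq X.presheaf t
  refine ⟨X.basicOpen σ, ?_, ?_⟩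
  · rw [Scheme.mem_basicOpen _ _ _ hηW0]
    exact htu
  · intro y hy h
    have hyW0 : y ∈ W0 := X.basicOpen_le σ hy
    refine ⟨X.presheaf.germ W0 y hyW0 σ, ?_, ?_⟩
    · rwa [Scheme.mem_basicOpen _ _ _ hyW0] at hy
    · unfold Cyc.specMap
      simp only [CommRingCat.hom_comp, RingHom.coe_comp, Function.comp_apply]
      rw [TopCat.Presheaf.germ_stalkSpecializes_apply]

theorem finite_support_divFun [IsLocallyNoetherian X] [CompactSpace X] (δ : X → ℤ)
    (hδ : Cyc.IsDimFun X δ) (η : X) (φ : X.residueField η) (hφ : φ ≠ 0) :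
    (Function.support (Cyc.divFun δ η φ)).Finite := by
  obtain ⟨W, hηW, hW⟩ := exists_nhd_unit η φ hφ
  haveI : TopologicalSpace.NoetherianSpace X := CycLimC.noetherianSpace_of
  have hVn : TopologicalSpace.NoetherianSpace ↥(⊤ : X.Opens) :=
    TopologicalSpace.NoetherianSpace.set _
  refine (DivTrC.finite_boundary δ hδ W ⊤ hVn η hηW).subset ?_
  intro y hy
  rw [Function.mem_support] at hy
  unfold Cyc.divFun at hy
  split_ifs at hy with hcond
  · refine ⟨trivial, ?_, hcond.1, hcond.2⟩
    intro hyW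
    obtain ⟨u, hu, hφu⟩ := hW y hyW hcond.1
    apply hy
    rw [← hφu]
    exact ordAt_unit y η hcond.1 u hu
  · exact absurd rfl hy

end unit

section pull

variable {X' X : Scheme.{u}} (p : X' ⟶ X) {δ' : X' → ℤ} {δ : X → ℤ} {c : ℤ}

theorem finite_max_fibre [IsLocallyNoetherian X'] [CompactSpace X'] (x : X) :
    {y : X' | p y = x ∧ ∀ w : X', p w = p y → w ⤳ y → w = y}.Finite := by
  haveI : TopologicalSpace.NoetherianSpace X' := CycLimC.noetherianSpace_of
  have hC : IsClosed (p ⁻¹' closure {x}) := isClosed_closure.preimage p.continuous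
  refine (DivTrC.finite_maximal _ hC).subset ?_
  rintro y ⟨hy, hmax⟩
  refine ⟨?_, ?_⟩
  · show p y ∈ closure {x}
    rw [hy]
    exact subset_closure (Set.mem_singleton _)
  · intro t ht hty
    have h1 : x ⤳ p t := specializes_iff_mem_closure.2 ht
    have h2 : p t ⤳ p y := hty.map p.continuous
    rw [hy] at h2
    have h3 : p t = x := (h2.antisymm h1).eq
    exact hmax t (h3.trans hy.symm) hty

theorem finite_support_pullFun (H : Hyp p δ' δ c) [IsLocallyNoetherian X'] [CompactSpace X']
    (a : X → ℤ) (ha : (Function.support a).Finite) :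
    (Function.support (Cyc.pullFun p δ' δ c a)).Finite := by
  refine (ha.biUnion (fun x _ => finite_max_fibre p x)).subset ?_
  intro y hy
  rw [Function.mem_support] at hy
  unfold Cyc.pullFun at hy
  split_ifs at hy with hcond
  · have h1 : a (p y) ≠ 0 := fun h => hy (by rw [h, zero_mul])
    exact Set.mem_iUnion₂.2 ⟨p y, h1, rfl, H.h3 y hcond⟩
  · exact absurd rfl hy

end pull

section mainfun

open Groth.Agent.Helper3.PullDivL in
/-- `PullDivL.main` for a coefficient function downstairs -/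
theorem main_fun (X X' : Scheme.{u}) (δ : X → ℤ) (δ' : X' → ℤ) (hX : Cyc.IsSetup X δ)
    (hX' : Cyc.IsSetup X' δ') (p : X' ⟶ X) [Flat p] (c : ℤ)
    (hc : ∀ x' : X', (∀ y, p y = p x' → y ⤳ x' → y = x') → δ' x' = δ (p x') + c) (k : ℤ)
    (a : X → ℤ) {ι : Type u} (ξ : ι → X) (g : (i : ι) → X.residueField (ξ i))
    (hδξ : ∀ i, δ (ξ i) = k + 1) (hg : ∀ i, g i ≠ 0)
    (hlf : ∀ x : X, ∃ U : Set X, IsOpen U ∧ x ∈ U ∧ {i | (closure {ξ i} ∩ U).Nonempty}.Finite)
    (hsum : ∀ x : X, a x = ∑ᶠ i, Cyc.divFun δ (ξ i) (g i) x)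
    (α' : AlgebraicCycle X' ℤ) (hα' : ⇑α' = Cyc.pullFun p δ' δ c a) :
    Cyc.RatEquivZero δ' (k + c) α' := by
  classical
  have H := hyp_of_hc p hX hX' hc
  haveI := hX'.1
  refine ⟨Idx p ξ, fun j => j.2.1, fun j => (p.residueFieldMap j.2.1
    ((X.residueFieldCongr j.2.2.1.symm).hom (g j.1))) ^ (mult p j.2.1).toNat, ?_, ?_,
    locFin p ξ hlf, ?_⟩
  · intro j
    show δ' j.2.1 = k + c + 1
    rw [H.h2 j.2.1 j.2.2.2, j.2.2.1, hδξ]
    ring
  · intro j
    apply pow_ne_zero
    intro h
    apply hg j.1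
    have h1 := (map_eq_zero_iff _ (p.residueFieldMap j.2.1).hom.injective).mp h
    exact (map_eq_zero_iff _ (X.residueFieldCongr j.2.2.1.symm).hom.hom.injective).mp h1
  · intro x'
    rw [hα']
    have h1 : Cyc.pullFun p δ' δ c a x' =
        ∑ᶠ i, Cyc.pullFun p δ' δ c (Cyc.divFun δ (ξ i) (g i)) x' := by
      unfold Cyc.pullFun
      split_ifs with hx
      · rw [hsum, finsum_mul]
      · simp
    rw [h1]
    simp_rw [core p H _ _ (hg _) x']
    obtain ⟨U, hUo, hxU, hUfin⟩ := locFin p ξ hlf x'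
    have hsupp : (Function.support (fun j : Idx p ξ => Cyc.divFun δ' j.2.1
        ((p.residueFieldMap j.2.1 ((X.residueFieldCongr j.2.2.1.symm).hom (g j.1))) ^
          (mult p j.2.1).toNat) x')).Finite := by
      refine hUfin.subset ?_
      intro j hj
      rw [Function.mem_support] at hj
      refine ⟨x', ?_, hxU⟩
      unfold Cyc.divFun at hj
      split_ifs at hj with hcond
      · exact specializes_iff_mem_closure.1 hcond.1
      · exact absurd rfl hj
    rw [finsum_sigma _ hsupp]
    apply finsum_congr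
    intro i
    apply finsum_congr
    intro t
    unfold G2
    rw [dif_pos t.2.1, divFun_pow, Int.toNat_of_nonneg (mult_nonneg p t.1)]

end mainfun

section gooddiv

variable {X' X : Scheme.{u}} (p : X' ⟶ X) {δ' : X' → ℤ} {δ : X → ℤ}

theorem pull_div_good [Flat p] (H : Hyp p δ' δ 0) (ξ : X') (φ : X.residueField (p ξ)) (hφ : φ ≠ 0)
    (h1 : p ⁻¹' closure {p ξ} ⊆ closure {ξ})
    (h2 : maximalIdeal (X'.presheaf.stalk ξ) ≤
      (maximalIdeal (X.presheaf.stalk (p ξ))).map (p.stalkMap ξ).hom) :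
    Cyc.pullFun p δ' δ 0 (Cyc.divFun δ (p ξ) φ) = Cyc.divFun δ' ξ (p.residueFieldMap ξ φ) := by
  funext t
  rw [core p H (p ξ) φ hφ t]
  have hmax := CycLimC.max_of_le_map p ξ h2
  let T := {z : X' // p z = p ξ ∧ ∀ w : X', p w = p z → w ⤳ z → w = z}
  let d : T := ⟨ξ, rfl, hmax⟩
  letI : Unique T :=
    { default := d
      uniq := by
        rintro ⟨z, hz, hzmax⟩
        apply Subtype.ext
        show z = ξ
        have hsp : ξ ⤳ z := by
          apply specializes_iff_mem_closure.2
          apply h1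
          show p z ∈ closure {p ξ}
          rw [hz]
          exact subset_closure (Set.mem_singleton _)
        exact (hzmax ξ hz.symm hsp).symm }
  rw [finsum_unique]
  show G2 p δ' (p ξ) φ t ξ = _
  unfold G2
  rw [dif_pos rfl, CycLimC.mult_eq_one p ξ h2, one_mul]
  congr 2

end gooddiv

section reslift

variable {I : Type u} [Category.{u} I] [IsCofiltered I] (D : I ⥤ Scheme.{u}) (c : Cone D)
  (hc : IsLimit c)

include hc in
theorem exists_residue_lift [∀ {i j} (f : i ⟶ j), IsAffineHom (D.map f)] (x : c.pt)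
    (f : c.pt.residueField x) :
    ∃ j0 : I, ∀ (j : I) (φ : j ⟶ j0), ∃ φ' : (D.obj j).residueField (c.π.app j x),
      (c.π.app j).residueFieldMap x φ' = f := by
  obtain ⟨t, rfl⟩ := Scheme.residue_surjective c.pt x f
  obtain ⟨j0, τ, hτ⟩ := CycLimB.exists_stalkMap_eq D c hc x t
  refine ⟨j0, fun j φ => ?_⟩
  obtain ⟨τ', hτ'⟩ := CycLimB.exists_stalkMap_factor (c.π.app j) (D.map φ) (c.π.app j0) (c.w φ) x τ
  refine ⟨(D.obj j).residue (c.π.app j x) τ', ?_⟩
  have := congrArg (fun F => F.hom τ') (Scheme.residue_residueFieldMap (c.π.app j) x)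
  simp only [CommRingCat.hom_comp, RingHom.coe_comp, Function.comp_apply] at this
  rw [this, hτ', hτ]
  rfl

end reslift

end Groth.Agent.Helper3.CycLimD
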