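import Mathlib
import Groth.Prelude
import Groth.Agent.Helper5.CMAff1

set_option autoImplicit false
set_option linter.style.haveILetI false
set_option linter.unusedSectionVars false
set_option linter.unusedVariables false
set_option linter.deprecated false
set_option linter.style.haveILetI false
set_option linter.unusedSectionVars false
set_option linter.unusedVariables false

/-!
# The fibre of a slice has dimension zero at the point
-/

namespace Groth.Agent.Helper3.CMSlice
open CategoryTheory CategoryTheory.Limits AlgebraicGeometry TopologicalSpace Topology IsLocalRing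
open Groth.Agent.Helper5.CMFib

universe u

/-- general form: if the stalk map of `j` at `y` is surjective, kills `ls`, and every prime of the
local ring of `X` at `j y` containing `𝔪_s` and `ls` is maximal, then the local ring at `y` of the
fibre of `j ≫ f` has dimension zero. -/
theorem fibre_dim_zero₀ {Y X S : Scheme.{u}} (f : X ⟶ S) (j : Y ⟶ X) (y : Y)
    (hsurj : Function.Surjective (j.stalkMap y).hom)
    (ls : List (X.presheaf.stalk (j y)))
    (hls : ∀ l ∈ ls, (j.stalkMap y).hom l = 0)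
    (hprime : ∀ P : Ideal (X.presheaf.stalk (j y)), P.IsPrime →
      Ideal.map (f.stalkMap (j y)).hom (maximalIdeal (S.presheaf.stalk (f (j y)))) ≤ P →
      (∀ l ∈ ls, l ∈ P) → P = maximalIdeal (X.presheaf.stalk (j y))) :
    ringKrullDim (((j ≫ f).fiber ((j ≫ f) y)).presheaf.stalk ((j ≫ f).asFiber y)) = 0 := by
  obtain ⟨e⟩ := fibre_stalk_equiv' (j ≫ f) y
  rw [← ringKrullDim_eq_of_ringEquiv e]
  set K : Ideal (Y.presheaf.stalk y) := Ideal.map ((j ≫ f).stalkMap y).hom
    (maximalIdeal (S.presheaf.stalk ((j ≫ f) y))) with hK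
  have hKle : K ≤ maximalIdeal (Y.presheaf.stalk y) := by
    rw [hK, Ideal.map_le_iff_le_comap]
    intro a ha
    rw [Ideal.mem_comap]
    exact map_nonunit ((j ≫ f).stalkMap y).hom a ha
  have hKne : K ≠ ⊤ := fun h =>
    (maximalIdeal.isMaximal (Y.presheaf.stalk y)).ne_top (top_le_iff.mp (h ▸ hKle))
  haveI : Nontrivial (Y.presheaf.stalk y ⧸ K) := Ideal.Quotient.nontrivial_iff.mpr hKne
  let φ : X.presheaf.stalk (j y) →+* (Y.presheaf.stalk y ⧸ K) :=
    (Ideal.Quotient.mk K).comp (j.stalkMap y).hom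
  have hφsurj : Function.Surjective φ := Ideal.Quotient.mk_surjective.comp hsurj
  have hmax : ∀ P : Ideal (Y.presheaf.stalk y ⧸ K), P.IsPrime → P.IsMaximal := by
    intro P hP
    have hP₂ : (P.comap φ).IsPrime := Ideal.comap_isPrime φ P
    have h1 : Ideal.map (f.stalkMap (j y)).hom
        (maximalIdeal (S.presheaf.stalk (f (j y)))) ≤ P.comap φ := by
      rw [Ideal.map_le_iff_le_comap]
      intro a ha
      rw [Ideal.mem_comap, Ideal.mem_comap]
      have h2 : φ ((f.stalkMap (j y)).hom a) = 0 := by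
        show Ideal.Quotient.mk K ((j.stalkMap y).hom ((f.stalkMap (j y)).hom a)) = 0
        rw [Ideal.Quotient.eq_zero_iff_mem, hK]
        have h3 : (j.stalkMap y).hom ((f.stalkMap (j y)).hom a) =
            ((j ≫ f).stalkMap y).hom a := by
          rw [Scheme.Hom.stalkMap_comp]
          rfl
        rw [h3]
        exact Ideal.mem_map_of_mem _ ha
      rw [h2]
      exact P.zero_mem
    have h4 : ∀ l ∈ ls, l ∈ P.comap φ := by
      intro l hl
      rw [Ideal.mem_comap]
      have : φ l = 0 := by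
        show Ideal.Quotient.mk K ((j.stalkMap y).hom l) = 0
        rw [hls l hl, map_zero]
      rw [this]
      exact P.zero_mem
    have h5 := hprime (P.comap φ) hP₂ h1 h4
    have h6 : P = (P.comap φ).map φ := (Ideal.map_comap_of_surjective φ hφsurj P).symm
    rw [h6, h5]
    refine (Ideal.map_eq_top_or_isMaximal_of_surjective φ hφsurj
      (maximalIdeal.isMaximal _)).resolve_left ?_
    rw [← h5, ← h6]
    exact hP.ne_top
  haveI : Ring.KrullDimLE 0 (Y.presheaf.stalk y ⧸ K) := Ring.krullDimLE_zero_iff.mpr hmax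
  exact le_antisymm (Ring.krullDimLE_iff.mp inferInstance) ringKrullDim_nonneg_of_nontrivial

theorem app_eq_zero {X : Scheme.{u}} {V : X.Opens} (hV : IsAffineOpen V) (I : Ideal Γ(X, V)) (a : Γ(X, V))
    (ha : a ∈ I) :
    ((Spec.map (CommRingCat.ofHom (Ideal.Quotient.mk I)) ≫ hV.fromSpec).app V).hom a = 0 := by
  have h0 : (CommRingCat.ofHom (Ideal.Quotient.mk I)).hom a = 0 :=
    Ideal.Quotient.eq_zero_iff_mem.mpr ha
  have h1 := congrArg (fun ψ => ψ.hom a)
    (Scheme.ΓSpecIso_inv_naturality (CommRingCat.ofHom (Ideal.Quotient.mk I)))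
  simp only [CommRingCat.hom_comp, RingHom.comp_apply] at h1
  rw [h0, map_zero] at h1
  rw [Scheme.Hom.comp_app, hV.fromSpec_app_self, Category.assoc, Scheme.Hom.naturality]
  have h2 : ∀ (B : CommRingCat.{u}) (ψ : Γ(Spec (CommRingCat.of (Γ(X, V) ⧸ I)),
      Spec.map (CommRingCat.ofHom (Ideal.Quotient.mk I)) ⁻¹ᵁ ⊤) ⟶ B),
      ((Scheme.ΓSpecIso Γ(X, V)).inv ≫
          Scheme.Hom.app (Spec.map (CommRingCat.ofHom (Ideal.Quotient.mk I))) ⊤ ≫ ψ).hom a = 0 := by
    intro B ψ
    have h3 : (Scheme.Hom.appTop (Spec.map (CommRingCat.ofHom (Ideal.Quotient.mk I)))).hom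
      ((Scheme.ΓSpecIso Γ(X, V)).inv.hom a) = 0 := h1.symm
    exact (congrArg ψ.hom h3).trans (map_zero ψ.hom)
  exact h2 _ _

/-- the slice by an ideal of sections: dimension zero of the fibre at the point. -/
theorem fibre_dim_zero {X S : Scheme.{u}} (f : X ⟶ S) {V : X.Opens} (hV : IsAffineOpen V)
    (I : Ideal Γ(X, V)) (y : ↥(Spec (CommRingCat.of (Γ(X, V) ⧸ I))))
    (hyV : (Spec.map (CommRingCat.ofHom (Ideal.Quotient.mk I)) ≫ hV.fromSpec) y ∈ V)
    (ls : List (X.presheaf.stalk
      ((Spec.map (CommRingCat.ofHom (Ideal.Quotient.mk I)) ≫ hV.fromSpec) y)))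
    (hls : ∀ l ∈ ls, l ∈ I.map (X.presheaf.germ V
      ((Spec.map (CommRingCat.ofHom (Ideal.Quotient.mk I)) ≫ hV.fromSpec) y) hyV).hom)
    (hprime : ∀ P : Ideal (X.presheaf.stalk
        ((Spec.map (CommRingCat.ofHom (Ideal.Quotient.mk I)) ≫ hV.fromSpec) y)), P.IsPrime →
      Ideal.map (f.stalkMap ((Spec.map (CommRingCat.ofHom (Ideal.Quotient.mk I)) ≫
          hV.fromSpec) y)).hom (maximalIdeal (S.presheaf.stalk
        (f ((Spec.map (CommRingCat.ofHom (Ideal.Quotient.mk I)) ≫ hV.fromSpec) y)))) ≤ P →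
      (∀ l ∈ ls, l ∈ P) → P = maximalIdeal _) :
    ringKrullDim ((((Spec.map (CommRingCat.ofHom (Ideal.Quotient.mk I)) ≫ hV.fromSpec) ≫ f).fiber
      (((Spec.map (CommRingCat.ofHom (Ideal.Quotient.mk I)) ≫ hV.fromSpec) ≫ f) y)).presheaf.stalk
        (((Spec.map (CommRingCat.ofHom (Ideal.Quotient.mk I)) ≫ hV.fromSpec) ≫ f).asFiber y)) = 0 := by
  haveI : IsClosedImmersion (Spec.map (CommRingCat.ofHom (Ideal.Quotient.mk I))) :=
    IsClosedImmersion.spec_of_surjective _ Ideal.Quotient.mk_surjective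
  refine fibre_dim_zero₀ f (Spec.map (CommRingCat.ofHom (Ideal.Quotient.mk I)) ≫ hV.fromSpec) y
    (Scheme.Hom.stalkMap_surjective _ y) ls ?_ hprime
  intro l hl
  have hle : I.map (X.presheaf.germ V
      ((Spec.map (CommRingCat.ofHom (Ideal.Quotient.mk I)) ≫ hV.fromSpec) y) hyV).hom ≤
      RingHom.ker ((Spec.map (CommRingCat.ofHom (Ideal.Quotient.mk I)) ≫
        hV.fromSpec).stalkMap y).hom := by
    rw [Ideal.map_le_iff_le_comap]
    intro a ha
    rw [Ideal.mem_comap, RingHom.mem_ker]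
    have := Scheme.Hom.germ_stalkMap_apply
      (Spec.map (CommRingCat.ofHom (Ideal.Quotient.mk I)) ≫ hV.fromSpec) V y hyV a
    refine this.trans ?_
    rw [app_eq_zero hV I a ha, map_zero]
  exact RingHom.mem_ker.mp (hle (hls l hl))

end Groth.Agent.Helper3.CMSlice
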