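import Mathlib
import Groth.Agent.Helper5.FibStalk
import Groth.Agent.Helper3.CMSlice4

set_option autoImplicit false
set_option linter.style.haveILetI false
set_option linter.unusedSectionVars false
set_option linter.unusedVariables false
set_option linter.deprecated false
set_option linter.style.haveILetI false
set_option linter.unusedSectionVars false
set_option linter.unusedVariables false
universe u
open CategoryTheory CategoryTheory.Limits AlgebraicGeometry TopologicalSpace Topology

/-!
# The local ring of a base change of a preimmersion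
-/

namespace Groth.Agent.Helper3.GrpdSl

/-- the kernel of the stalk map of the base change of a preimmersion is contained in any ideal
whose quotient lifts to the source of the preimmersion -/
theorem ker_stalkMap_snd_le {Y U R : Scheme.{u}} (g : Y ⟶ U) [IsPreimmersion g] (t : R ⟶ U)
    (p : ↑(pullback g t)) (J : Ideal (R.presheaf.stalk (pullback.snd g t p))) (hJ : J ≠ ⊤)
    (b : Spec (CommRingCat.of (R.presheaf.stalk (pullback.snd g t p) ⧸ J)) ⟶ Y)
    (hb : b ≫ g = Spec.map (CommRingCat.ofHom (Ideal.Quotient.mk J)) ≫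
      R.fromSpecStalk (pullback.snd g t p) ≫ t) :
    RingHom.ker ((pullback.snd g t).stalkMap p).hom ≤ J := by
  let k := pullback.snd g t
  let x : R := k p
  let Rx := R.presheaf.stalk x
  haveI : Nontrivial (Rx ⧸ J) := Ideal.Quotient.nontrivial_iff.2 hJ
  haveI : IsLocalRing (Rx ⧸ J) :=
    IsLocalRing.of_surjective' (Ideal.Quotient.mk J) Ideal.Quotient.mk_surjective
  let Q : CommRingCat.{u} := CommRingCat.of (Rx ⧸ J)
  haveI : IsLocalRing Q := inferInstanceAs (IsLocalRing (Rx ⧸ J))
  let q : Rx ⟶ Q := CommRingCat.ofHom (Ideal.Quotient.mk J)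
  let a₁ : Spec Q ⟶ R := Spec.map q ≫ R.fromSpecStalk x
  have comm : b ≫ g = a₁ ≫ t := by
    rw [hb]; simp only [a₁, Category.assoc]; rfl
  let α : Spec Q ⟶ pullback g t := pullback.lift b a₁ comm
  have hα1 : α ≫ k = a₁ := pullback.lift_snd _ _ _
  have hinj : Function.Injective k := k.isEmbedding.injective
  have hqloc : IsLocalHom q.hom :=
    IsLocalHom.of_surjective _ Ideal.Quotient.mk_surjective
  have hpt : α (IsLocalRing.closedPoint Q) = p := by
    apply hinj
    rw [← Scheme.Hom.comp_apply, hα1]
    show R.fromSpecStalk x (Spec.map q (IsLocalRing.closedPoint Q)) = x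
    have h1 : Spec.map q (IsLocalRing.closedPoint Q) = IsLocalRing.closedPoint Rx :=
      IsLocalRing.comap_closedPoint q.hom
    rw [h1, Scheme.fromSpecStalk_closedPoint]
  let θ : (pullback g t).presheaf.stalk p ⟶ Q :=
    (pullback g t).presheaf.stalkSpecializes (specializes_of_eq hpt) ≫ Scheme.stalkClosedPointTo α
  have hθ : Spec.map θ ≫ (pullback g t).fromSpecStalk p = α := by
    rw [Spec.map_comp, Category.assoc, Scheme.SpecMap_stalkSpecializes_fromSpecStalk,
      Scheme.Spec_stalkClosedPointTo_fromSpecStalk]
  have hβ : Spec.map (k.stalkMap p) ≫ R.fromSpecStalk (k p) = (pullback g t).fromSpecStalk p ≫ k :=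
    Scheme.SpecMap_stalkMap_fromSpecStalk k
  have e : k.stalkMap p ≫ θ = q := by
    apply Spec.map_injective
    rw [Spec.map_comp, ← cancel_mono (R.fromSpecStalk x), Category.assoc, hβ, ← Category.assoc,
      hθ, hα1]
  intro a ha
  have h1 : q a = 0 := by
    rw [← e]
    show θ (k.stalkMap p a) = 0
    have h2 : k.stalkMap p a = 0 := ha
    rw [h2, map_zero]
  exact Ideal.Quotient.eq_zero_iff_mem.1 h1

/-- the local ring of the base change of `Spec κ(u) ⟶ U` -/
theorem stalk_pullback_residue {U R : Scheme.{u}} (u : U) (t : R ⟶ U)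
    (p : ↑(pullback (U.fromSpecResidueField u) t)) :
    Function.Surjective ((pullback.snd (U.fromSpecResidueField u) t).stalkMap p).hom ∧
      RingHom.ker ((pullback.snd (U.fromSpecResidueField u) t).stalkMap p).hom =
        Ideal.map (t.stalkMap (pullback.snd (U.fromSpecResidueField u) t p)).hom
          (IsLocalRing.maximalIdeal
            (U.presheaf.stalk (t (pullback.snd (U.fromSpecResidueField u) t p)))) := by
  let g := U.fromSpecResidueField u
  let k := pullback.snd g t
  refine ⟨k.stalkMap_surjective p, le_antisymm ?_ ?_⟩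
  · let x : R := k p
    have hx : t x = u := by
      have h1 : (pullback.fst g t ≫ g) p = (k ≫ t) p := by rw [pullback.condition]
      rw [Scheme.Hom.comp_apply, Scheme.Hom.comp_apply] at h1
      rw [← h1]
      exact Scheme.fromSpecResidueField_apply u _
    let Rx := R.presheaf.stalk x
    let J : Ideal Rx := Ideal.map (t.stalkMap x).hom
      (IsLocalRing.maximalIdeal (U.presheaf.stalk (t x)))
    have hJle : J ≤ IsLocalRing.maximalIdeal Rx := by
      have h0 : IsLocalHom (t.stalkMap x).hom := inferInstance
      exact ((IsLocalRing.local_hom_TFAE (t.stalkMap x).hom).out 0 2).1 h0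
    have hJne : J ≠ ⊤ := fun h => (IsLocalRing.maximalIdeal.isMaximal Rx).ne_top
      (top_le_iff.1 (h ▸ hJle))
    let Q : CommRingCat.{u} := CommRingCat.of (Rx ⧸ J)
    let q : Rx ⟶ Q := CommRingCat.ofHom (Ideal.Quotient.mk J)
    let κmap : U.residueField (t x) ⟶ Q := CommRingCat.ofHom
      (Ideal.Quotient.lift (IsLocalRing.maximalIdeal (U.presheaf.stalk (t x)))
        ((Ideal.Quotient.mk J).comp (t.stalkMap x).hom) (by
          intro a ha
          rw [RingHom.comp_apply, Ideal.Quotient.eq_zero_iff_mem]
          exact Ideal.mem_map_of_mem _ ha))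
    have hκ : U.residue (t x) ≫ κmap = t.stalkMap x ≫ q := by
      ext a
      rfl
    let b : Spec Q ⟶ Spec (U.residueField u) :=
      Spec.map ((U.residueFieldCongr hx.symm).hom ≫ κmap)
    have hb : b ≫ g = Spec.map q ≫ R.fromSpecStalk x ≫ t := by
      show Spec.map ((U.residueFieldCongr hx.symm).hom ≫ κmap) ≫ U.fromSpecResidueField u =
        Spec.map q ≫ R.fromSpecStalk x ≫ t
      rw [Spec.map_comp, Category.assoc,
        Scheme.residueFieldCongr_fromSpecResidueField, Scheme.fromSpecResidueField,
        ← Scheme.SpecMap_stalkMap_fromSpecStalk, ← Spec.map_comp_assoc, ← Spec.map_comp_assoc, hκ]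
    exact ker_stalkMap_snd_le g t p J hJne b hb
  · rw [Ideal.map_le_iff_le_comap]
    intro a ha
    have hcond : k ≫ t = pullback.fst g t ≫ g := pullback.condition.symm
    have h1 := Groth.Agent.Helper5.FibStalk.stalkMap_eq_zero_of_factors u (k ≫ t)
      (pullback.fst g t) hcond p a ha
    rw [Scheme.Hom.stalkMap_comp] at h1
    exact h1

end Groth.Agent.Helper3.GrpdSl
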