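import Mathlib
import Groth.Prelude
import Groth.Agent.Lead.Ref1K
import Groth.Agent.Helper3.CycLimD
import Groth.Agent.Helper4.QAffSec

/-!
# The order of a rational section of an invertible module along a specialization
-/

set_option autoImplicit false
set_option linter.style.haveILetI false
set_option linter.unusedSectionVars false
set_option linter.unusedVariables false
set_option linter.deprecated false
set_option linter.style.haveILetI false
set_option linter.unusedSectionVars false
set_option linter.unusedVariables false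

universe u

open CategoryTheory CategoryTheory.Limits AlgebraicGeometry TopologicalSpace Opposite

namespace Groth.Agent.Helper3.SecOrd

section alg

theorem cycOrdFrac_mul_unit (R : Type u) [CommRing R] (K : Type u) [Field K] [Algebra R K] (f : K)
    (r : R) (hr : IsUnit r) :
    CycAlg.ordFrac R K (f * algebraMap R K r) = CycAlg.ordFrac R K f := by
  classical
  by_cases h : IsNoetherianRing R ∧ Ring.KrullDimLE 1 R ∧ Nontrivial R ∧ IsFractionRing R K
  · haveI := h.1; haveI := h.2.1; haveI := h.2.2.1; haveI := h.2.2.2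
    haveI : IsDomain R := (IsFractionRing.injective R K).isDomain
    by_cases hf : f = 0
    · subst hf
      rw [zero_mul]
    · have hr' : algebraMap R K r ≠ 0 := by
        rw [Ne, map_eq_zero_iff _ (IsFractionRing.injective R K)]
        exact hr.ne_zero
      rw [Groth.Agent.Helper6.Dim1.ordFrac_mul hf hr', CycLimD.cycOrdFrac_unit R K r hr, add_zero]
  · unfold CycAlg.ordFrac
    rw [dif_neg h, dif_neg h]

variable {R : Type*} [CommRing R] {M : Type*} [AddCommGroup M] [Module R M]

/-- a spanning element differs from a free generator by a unit -/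
theorem exists_unit_of_span {t t' : M} (ht : Function.Bijective (fun a : R => a • t))
    (ht' : Submodule.span R {t'} = ⊤) : ∃ u : R, IsUnit u ∧ t' = u • t := by
  obtain ⟨u, hu⟩ := ht.2 t'
  have hu : u • t = t' := hu
  obtain ⟨v, hv⟩ : ∃ v : R, v • t' = t :=
    Submodule.mem_span_singleton.mp (ht' ▸ Submodule.mem_top)
  have huv : v * u = 1 := by
    apply ht.1
    change (v * u) • t = (1 : R) • t
    rw [mul_smul, hu, hv, one_smul]
  exact ⟨u, IsUnit.of_mul_eq_one v (by rw [mul_comm]; exact huv), hu.symm⟩

/-- a spanning element of a module with a free generator is a free generator -/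
theorem bijective_of_span {t t' : M} (ht : Function.Bijective (fun a : R => a • t))
    (ht' : Submodule.span R {t'} = ⊤) : Function.Bijective (fun a : R => a • t') := by
  obtain ⟨u, hu, rfl⟩ := exists_unit_of_span ht ht'
  have : (fun a : R => a • u • t) = (fun a : R => a • t) ∘ (fun a : R => a * u) := by
    funext a
    simp [mul_smul]
  rw [this]
  refine ht.comp ⟨?_, ?_⟩
  · intro a b hab
    exact hu.mul_left_injective hab
  · intro b
    obtain ⟨w, hw⟩ := hu.exists_left_inv
    exact ⟨b * w, by simp [mul_assoc, hw]⟩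

variable [IsLocalRing R]

/-- in the fibre of a module with a free generator, the class of the generator is a basis -/
theorem smul_mk_eq_zero_iff {t : M} (ht : Function.Bijective (fun a : R => a • t)) (φ : R) :
    φ • (Submodule.Quotient.mk t : M ⧸ (IsLocalRing.maximalIdeal R • (⊤ : Submodule R M))) = 0 ↔
      φ ∈ IsLocalRing.maximalIdeal R := by
  rw [← Submodule.Quotient.mk_smul, Submodule.Quotient.mk_eq_zero]
  constructor
  · intro h
    have key : ∀ m ∈ IsLocalRing.maximalIdeal R • (⊤ : Submodule R M),
        ∃ a ∈ IsLocalRing.maximalIdeal R, m = a • t := by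
      intro m hm
      refine Submodule.smul_induction_on hm ?_ ?_
      · intro a ha n _
        obtain ⟨b, rfl⟩ := ht.2 n
        exact ⟨a * b, Ideal.mul_mem_right _ _ ha, by simp [mul_smul]⟩
      · rintro m₁ m₂ ⟨a₁, ha₁, rfl⟩ ⟨a₂, ha₂, rfl⟩
        exact ⟨a₁ + a₂, Ideal.add_mem _ ha₁ ha₂, by rw [add_smul]⟩
    obtain ⟨a, ha, haφ⟩ := key _ h
    have : φ = a := ht.1 haφ
    rw [this]
    exact ha
  · intro h
    exact Submodule.smul_mem_smul h Submodule.mem_top

end alg

section geom

variable {X : Scheme.{u}}

theorem ordAt_mul_unit (x ξ : X) (h : ξ ⤳ x) (f : X.residueField ξ) (u : X.presheaf.stalk x)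
    (hu : IsUnit u) :
    Cyc.ordAt x ξ h (f * Cyc.specMap x ξ h u) = Cyc.ordAt x ξ h f := by
  unfold Cyc.ordAt
  rw [← DivTrB.algebraMap_mk x ξ h u]
  exact cycOrdFrac_mul_unit _ _ f _ (hu.map _)

/-- the class of an element of the stalk in the fibre -/
noncomputable def mkF (L : X.Modules) (ξ : X) :
    L.presheaf.stalk ξ →ₗ[X.presheaf.stalk ξ] Cyc.secFibre L ξ :=
  Submodule.mkQ _

theorem mkF_surjective (L : X.Modules) (ξ : X) : Function.Surjective (mkF L ξ) :=
  Submodule.mkQ_surjective _

/-- the specialization of a free generator is a free generator (for quasi-coherent modules with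
stalks free of rank one) -/
theorem bijective_sp (L : X.Modules) [L.IsQuasicoherent] {x ξ : X} (h : ξ ⤳ x)
    (hξ : Groth.Agent.Lead.Ref1D.FR1At L ξ) {t : L.presheaf.stalk x}
    (ht : Function.Bijective (fun a : X.presheaf.stalk x => a • t)) :
    Function.Bijective (fun c : X.presheaf.stalk ξ =>
      c • (L.presheaf.stalkSpecializes h).hom t) := by
  obtain ⟨t₀, ht₀⟩ := hξ
  refine bijective_of_span ht₀ ?_
  rw [eq_top_iff, ← Groth.Agent.Lead.Ref1H.span_range_sp L h, Submodule.span_le]
  rintro _ ⟨m, rfl⟩
  obtain ⟨a, rfl⟩ := ht.2 m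
  change (L.presheaf.stalkSpecializes h).hom (a • t) ∈ _
  rw [Groth.Agent.Lead.Ref1H.sp_smul]
  exact Submodule.smul_mem _ _ (Submodule.subset_span rfl)

/-- **the order of a rational section, computed with any free generator** -/
theorem secOrdAt_eq (L : X.Modules) {x ξ : X} (h : ξ ⤳ x) (t : L.presheaf.stalk x)
    (ht : Function.Bijective (fun a : X.presheaf.stalk x => a • t))
    (htξ : Function.Bijective (fun c : X.presheaf.stalk ξ =>
      c • (L.presheaf.stalkSpecializes h).hom t))
    (s : Cyc.secFibre L ξ) (φ : X.presheaf.stalk ξ)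
    (hs : s = φ • mkF L ξ ((L.presheaf.stalkSpecializes h).hom t)) :
    Cyc.secOrdAt L ξ x h s = Cyc.ordAt x ξ h (X.residue ξ φ) := by
  unfold Cyc.secOrdAt
  have hex1 : ∃ t : L.presheaf.stalk x, Submodule.span (X.presheaf.stalk x) {t} = ⊤ := by
    refine ⟨t, ?_⟩
    rw [eq_top_iff]
    intro v _
    obtain ⟨a, rfl⟩ := ht.2 v
    exact Submodule.mem_span_singleton.mpr ⟨a, rfl⟩
  rw [dif_pos hex1]
  obtain ⟨u, hu, hut⟩ := exists_unit_of_span ht (Classical.choose_spec hex1)
  have hsp : (L.presheaf.stalkSpecializes h).hom (Classical.choose hex1) =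
      (X.presheaf.stalkSpecializes h).hom u • (L.presheaf.stalkSpecializes h).hom t := by
    rw [hut, Groth.Agent.Lead.Ref1H.sp_smul]
  have hu' : IsUnit ((X.presheaf.stalkSpecializes h).hom u) := hu.map _
  obtain ⟨w, hw⟩ := hu'.exists_left_inv
  have hex2 : ∃ φ' : X.presheaf.stalk ξ,
      s = φ' • (Submodule.Quotient.mk ((L.presheaf.stalkSpecializes h) (Classical.choose hex1)) :
        Cyc.secFibre L ξ) := by
    refine ⟨φ * w, ?_⟩
    change s = (φ * w) • mkF L ξ ((L.presheaf.stalkSpecializes h).hom (Classical.choose hex1))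
    rw [hsp, map_smul, smul_smul, mul_assoc, hw, mul_one]
    exact hs
  rw [dif_pos hex2]
  have h2 := Classical.choose_spec hex2
  generalize Classical.choose hex2 = φ₂ at h2 ⊢
  change s = φ₂ •
    mkF L ξ ((L.presheaf.stalkSpecializes h).hom (Classical.choose hex1)) at h2
  rw [hsp, map_smul, smul_smul] at h2
  have h3 : (φ₂ * (X.presheaf.stalkSpecializes h).hom u - φ) •
      mkF L ξ ((L.presheaf.stalkSpecializes h).hom t) = 0 := by
    rw [sub_smul, ← h2, ← hs, sub_self]
  have h4 := (smul_mk_eq_zero_iff htξ _).mp h3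
  have h5 : X.residue ξ φ = X.residue ξ φ₂ * Cyc.specMap x ξ h u := by
    have : X.residue ξ (φ₂ * (X.presheaf.stalkSpecializes h).hom u - φ) = 0 :=
      (IsLocalRing.residue_eq_zero_iff _).mpr h4
    rw [map_sub, map_mul, sub_eq_zero] at this
    rw [← this]
    rfl
  rw [h5, ordAt_mul_unit x ξ h _ u hu]

end geom

end Groth.Agent.Helper3.SecOrd
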