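import Mathlib
import Groth.Prelude
import Groth.Agent.Helper9.SkyMod4
import Groth.Agent.Lead.Ref1H
import Groth.Agent.Helper3.SecOrdA

/-!
# The canonical map from the stalk of a module to the stalk of its pullback
-/

set_option autoImplicit false
set_option linter.style.haveILetI false
set_option linter.unusedSectionVars false
set_option linter.unusedVariables false
set_option linter.deprecated false
set_option linter.style.haveILetI false
set_option linter.unusedSectionVars false
set_option linter.unusedVariables false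

universe u

open CategoryTheory CategoryTheory.Limits AlgebraicGeometry TopologicalSpace Opposite

namespace Groth.Agent.Helper3.PullGen

open Groth.Agent.Helper9.SkyMod1 Groth.Agent.Helper9.SkyMod2 Groth.Agent.Helper9.SkyMod3
  Groth.Agent.Helper9.SkyMod4

variable {X Y : Scheme.{u}} (f : X ⟶ Y) (L : Y.Modules) (x : X)

/-- the morphism `L ⟶ sky_{f x} ((f^* L)_x)` adjoint to the identity of the stalk -/
noncomputable def θ : L ⟶ sky (f.base x)
    ((res f x).obj ((St x).obj ((Scheme.Modules.pullback f).obj L))) :=
  (Scheme.Modules.pullbackPushforwardAdjunction f).unit.app L ≫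
    (Scheme.Modules.pushforward f).map (toSky x ((Scheme.Modules.pullback f).obj L) _ (𝟙 _)) ≫
      pushSkyHom f x _

/-- the canonical map `L_{f x} ⟶ (f^* L)_x`, linear over the local ring at `f x` -/
noncomputable def pg : (St (f.base x)).obj L ⟶
    (res f x).obj ((St x).obj ((Scheme.Modules.pullback f).obj L)) :=
  fromSky (f.base x) L _ (θ f L x)

/-- the unit of the adjunction on sections -/
noncomputable def unitSec (V : Y.Opens) (τ : Γ(L, V)) :
    Γ((Scheme.Modules.pullback f).obj L, f ⁻¹ᵁ V) :=
  ((Scheme.Modules.pullbackPushforwardAdjunction f).unit.app L).app V τ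

theorem pg_germ (V : Y.Opens) (hx : f.base x ∈ V) (τ : Γ(L, V)) :
    (pg f L x).hom (L.presheaf.germ V (f.base x) hx τ) =
      ((Scheme.Modules.pullback f).obj L).presheaf.germ (f ⁻¹ᵁ V) x hx (unitSec f L V τ) := by
  rw [pg, fromSky_germ]
  rfl

/-- the canonical map as a plain function -/
noncomputable def pgFun (m : L.presheaf.stalk (f x)) :
    ((Scheme.Modules.pullback f).obj L).presheaf.stalk x :=
  (pg f L x).hom m

theorem pgFun_germ (V : Y.Opens) (hx : f x ∈ V) (τ : Γ(L, V)) :
    pgFun f L x (L.presheaf.germ V (f x) hx τ) =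
      ((Scheme.Modules.pullback f).obj L).presheaf.germ (f ⁻¹ᵁ V) x hx (unitSec f L V τ) :=
  pg_germ f L x V hx τ

theorem pgFun_add (m m' : L.presheaf.stalk (f x)) :
    pgFun f L x (m + m') = pgFun f L x m + pgFun f L x m' :=
  map_add (pg f L x).hom m m'

theorem pgFun_zero : pgFun f L x 0 = 0 := map_zero (pg f L x).hom

theorem pgFun_smul (a : Y.presheaf.stalk (f x)) (m : L.presheaf.stalk (f x)) :
    pgFun f L x (a • m) = (f.stalkMap x).hom a • pgFun f L x m :=
  map_smul (pg f L x).hom a m

/-- compatibility with generization maps -/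
theorem pgFun_sp {x ξ : X} (h : ξ ⤳ x) (m : L.presheaf.stalk (f x)) :
    (((Scheme.Modules.pullback f).obj L).presheaf.stalkSpecializes h).hom (pgFun f L x m) =
      pgFun f L ξ ((L.presheaf.stalkSpecializes (h.map f.continuous)).hom m) := by
  obtain ⟨V, hxV, τ, rfl⟩ := TopCat.Presheaf.exists_germ_eq L.presheaf m
  rw [pgFun_germ, Groth.Agent.Lead.Ref1H.sp_germ, Groth.Agent.Lead.Ref1H.sp_germ, pgFun_germ]


/-- the image of the canonical map generates the stalk of the pullback -/
theorem span_range_pgFun :
    Submodule.span (X.presheaf.stalk x) (Set.range (pgFun f L x)) = ⊤ := by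
  set P := (St x).obj ((Scheme.Modules.pullback f).obj L) with hP
  set S : Submodule (X.presheaf.stalk x)
      (((Scheme.Modules.pullback f).obj L).presheaf.stalk x) :=
    Submodule.span (X.presheaf.stalk x) (Set.range (pgFun f L x)) with hS
  let N' : ModuleCat.{u} (X.presheaf.stalk x) := ModuleCat.of (X.presheaf.stalk x)
    ((((Scheme.Modules.pullback f).obj L).presheaf.stalk x) ⧸ S)
  let π : P ⟶ N' := ModuleCat.ofHom S.mkQ
  let ψ : (Scheme.Modules.pullback f).obj L ⟶ sky x N' :=
    toSky x ((Scheme.Modules.pullback f).obj L) N' π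
  have hA : (Scheme.Modules.pullbackPushforwardAdjunction f).homEquiv L (sky x N') ψ = 0 := by
    rw [Adjunction.homEquiv_unit]
    ext V τ
    funext h
    change ((ψ.app (f ⁻¹ᵁ V) (unitSec f L V τ) : Γ(sky x N', f ⁻¹ᵁ V)) :
      PLift (x ∈ f ⁻¹ᵁ V) → N') h = 0
    rw [toSky_app_apply]
    change S.mkQ (((Scheme.Modules.pullback f).obj L).presheaf.germ (f ⁻¹ᵁ V) x h.down
      (unitSec f L V τ)) = 0
    rw [← pgFun_germ f L x V h.down τ, Submodule.mkQ_apply, Submodule.Quotient.mk_eq_zero]
    exact Submodule.subset_span ⟨_, rfl⟩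
  have hψ : ψ = 0 := by
    apply ((Scheme.Modules.pullbackPushforwardAdjunction f).homEquiv L (sky x N')).injective
    rw [hA, Adjunction.homEquiv_unit, Functor.map_zero, comp_zero]
  have hπ : π = 0 := by
    have h1 := (homEquiv x ((Scheme.Modules.pullback f).obj L) N').left_inv π
    change fromSky x _ N' ψ = π at h1
    rw [← h1, hψ]
    ext m
    obtain ⟨U, hxU, s, rfl⟩ :=
      ((Scheme.Modules.pullback f).obj L).presheaf.exists_germ_eq (x := x) m
    rw [fromSky_germ]
    rfl
  have hmk : S.mkQ = 0 := by
    have := congrArg ModuleCat.Hom.hom hπ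
    exact this
  rw [← Submodule.ker_mkQ S, hmk, LinearMap.ker_zero]


/-- the image of a free generator is a free generator, when the stalk of the pullback is free of
rank one -/
theorem bijective_pgFun
    (hP : ∃ t₀ : ((Scheme.Modules.pullback f).obj L).presheaf.stalk x,
      Function.Bijective (fun r : X.presheaf.stalk x => r • t₀))
    {t : L.presheaf.stalk (f x)}
    (ht : Function.Bijective (fun a : Y.presheaf.stalk (f x) => a • t)) :
    Function.Bijective (fun r : X.presheaf.stalk x => r • pgFun f L x t) := by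
  obtain ⟨t₀, ht₀⟩ := hP
  refine Groth.Agent.Helper3.SecOrd.bijective_of_span ht₀ ?_
  rw [eq_top_iff, ← span_range_pgFun f L x, Submodule.span_le]
  rintro _ ⟨m, rfl⟩
  obtain ⟨a, rfl⟩ := ht.2 m
  change pgFun f L x (a • t) ∈ _
  rw [pgFun_smul]
  exact Submodule.smul_mem _ _ (Submodule.subset_span rfl)


end Groth.Agent.Helper3.PullGen
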