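import Mathlib
import Groth.Prelude
import Groth.Agent.Helper3.SecOrdA
import Groth.Agent.Lead.Hartogs2

/-!
# Sums of principal divisors are rationally equivalent to zero; `c₁(O_X) ∩ α ∼ 0`
-/

set_option autoImplicit false
set_option linter.style.haveILetI false
set_option linter.unusedSectionVars false
set_option linter.unusedVariables false
set_option linter.deprecated false
set_option linter.style.haveILetI false
set_option linter.unusedSectionVars false
set_option linter.unusedVariables false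

universe u

open CategoryTheory CategoryTheory.Limits AlgebraicGeometry TopologicalSpace Opposite

namespace Groth.Agent.Helper3.SecOrd

section alg

theorem cycOrdFrac_one (R : Type u) [CommRing R] (K : Type u) [Field K] [Algebra R K] :
    CycAlg.ordFrac R K (1 : K) = 0 := by
  have := CycLimD.cycOrdFrac_unit R K 1 isUnit_one
  rwa [map_one] at this

theorem cycOrdFrac_mul (R : Type u) [CommRing R] (K : Type u) [Field K] [Algebra R K] (f g : K)
    (hf : f ≠ 0) (hg : g ≠ 0) :
    CycAlg.ordFrac R K (f * g) = CycAlg.ordFrac R K f + CycAlg.ordFrac R K g := by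
  classical
  by_cases h : IsNoetherianRing R ∧ Ring.KrullDimLE 1 R ∧ Nontrivial R ∧ IsFractionRing R K
  · haveI := h.1; haveI := h.2.1; haveI := h.2.2.1; haveI := h.2.2.2
    haveI : IsDomain R := (IsFractionRing.injective R K).isDomain
    exact Groth.Agent.Helper6.Dim1.ordFrac_mul hf hg
  · unfold CycAlg.ordFrac
    rw [dif_neg h, dif_neg h, dif_neg h, add_zero]

theorem cycOrdFrac_inv (R : Type u) [CommRing R] (K : Type u) [Field K] [Algebra R K] (f : K)
    (hf : f ≠ 0) : CycAlg.ordFrac R K f⁻¹ = - CycAlg.ordFrac R K f := by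
  have h := cycOrdFrac_mul R K f f⁻¹ hf (inv_ne_zero hf)
  rw [mul_inv_cancel₀ hf, cycOrdFrac_one] at h
  omega

theorem cycOrdFrac_pow (R : Type u) [CommRing R] (K : Type u) [Field K] [Algebra R K] (f : K)
    (hf : f ≠ 0) (n : ℕ) : CycAlg.ordFrac R K (f ^ n) = n * CycAlg.ordFrac R K f := by
  induction n with
  | zero => simp [cycOrdFrac_one]
  | succ n ih =>
    rw [pow_succ, cycOrdFrac_mul R K _ _ (pow_ne_zero n hf) hf, ih]
    push_cast
    ring

theorem cycOrdFrac_zpow (R : Type u) [CommRing R] (K : Type u) [Field K] [Algebra R K] (f : K)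
    (hf : f ≠ 0) (n : ℤ) : CycAlg.ordFrac R K (f ^ n) = n * CycAlg.ordFrac R K f := by
  obtain ⟨m, rfl | rfl⟩ := n.eq_nat_or_neg
  · rw [zpow_natCast, cycOrdFrac_pow R K f hf]
  · rw [zpow_neg, zpow_natCast, cycOrdFrac_inv R K _ (pow_ne_zero m hf), cycOrdFrac_pow R K f hf]
    ring

end alg

section geom

variable {X : Scheme.{u}}

theorem divFun_zpow (δ : X → ℤ) (ξ : X) (g : X.residueField ξ) (hg : g ≠ 0) (n : ℤ) (x : X) :
    Cyc.divFun δ ξ (g ^ n) x = n * Cyc.divFun δ ξ g x := by
  unfold Cyc.divFun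
  split_ifs with h
  · unfold Cyc.ordAt
    exact cycOrdFrac_zpow _ _ g hg n
  · rw [mul_zero]

/-- a locally finite integral combination of principal divisors of functions on subvarieties of
dimension `k + 1` is rationally equivalent to zero -/
theorem ratEquivZero_of_sum (δ : X → ℤ) (k : ℤ) (α : AlgebraicCycle X ℤ)
    (hα : α ∈ Cyc.Zk X δ (k + 1)) (g : (ξ : X) → X.residueField ξ) (hg : ∀ ξ, g ξ ≠ 0)
    (γ : AlgebraicCycle X ℤ) (hγ : ∀ x, γ x = ∑ᶠ ξ : X, α ξ * Cyc.divFun δ ξ (g ξ) x) :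
    Cyc.RatEquivZero δ k γ := by
  refine ⟨{ξ : X // α ξ ≠ 0}, fun i => i.1, fun i => g i.1 ^ (α i.1), ?_, ?_, ?_, ?_⟩
  · intro i
    by_contra hne
    exact i.2 (hα i.1 hne)
  · intro i
    exact zpow_ne_zero _ (hg i.1)
  · intro x
    obtain ⟨U, hU, hfin⟩ := α.supportLocallyFiniteWithinDomain x trivial
    obtain ⟨V, hVU, hVo, hxV⟩ := mem_nhds_iff.mp hU
    refine ⟨V, hVo, hxV, ?_⟩
    have hfin' : (V ∩ Function.support ⇑α).Finite :=
      hfin.subset (Set.inter_subset_inter_left _ hVU)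
    refine (hfin'.preimage (Subtype.val_injective.injOn)).subset ?_
    rintro i ⟨z, hz1, hz2⟩
    have hsp : i.1 ⤳ z := specializes_iff_mem_closure.mpr hz1
    exact ⟨hsp.mem_open hVo hz2, i.2⟩
  · intro x
    rw [hγ x]
    have h1 : ∀ i : {ξ : X // α ξ ≠ 0}, Cyc.divFun δ i.1 (g i.1 ^ (α i.1)) x =
        α i.1 * Cyc.divFun δ i.1 (g i.1) x := fun i => divFun_zpow δ i.1 (g i.1) (hg i.1) _ x
    rw [finsum_congr h1,
      finsum_subtype_eq_finsum_cond (f := fun ξ : X => α ξ * Cyc.divFun δ ξ (g ξ) x)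
        (fun ξ => α ξ ≠ 0)]
    refine finsum_congr (fun ξ => ?_)
    rw [finsum_eq_if]
    split_ifs with hξ
    · rfl
    · have : α ξ = 0 := not_not.mp hξ
      rw [this, zero_mul]

end geom

end Groth.Agent.Helper3.SecOrd
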