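import Mathlib
import Groth.Prelude
import Groth.Agent.Helper3.SecOrdB

/-!
# `c₁(O_X) ∩ α ∼ 0`
-/

set_option autoImplicit false
set_option linter.style.haveILetI false
set_option linter.unusedSectionVars false
set_option linter.unusedVariables false
set_option linter.deprecated false
set_option linter.style.haveILetI false
set_option linter.unusedSectionVars false
set_option linter.unusedVariables false

universe u

open CategoryTheory CategoryTheory.Limits AlgebraicGeometry TopologicalSpace Opposite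

namespace Groth.Agent.Helper3.SecOrd

open Groth.Agent.Lead.WeakAss

section unit

variable {X : Scheme.{u}}

/-- the germ of the section `1` freely generates the stalk of the structure module -/
theorem unit_gen (x : X) :
    Function.Bijective (fun a : X.presheaf.stalk x => a • germF ⊤ x trivial (1 : Γ(X, ⊤))) :=
  (Groth.Agent.Lead.Hartogs2.unitEquiv x).bijective

theorem sp_unit_gen {x ξ : X} (h : ξ ⤳ x) :
    ((Coh.structureModule X).presheaf.stalkSpecializes h).hom (germF ⊤ x trivial (1 : Γ(X, ⊤))) =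
      germF ⊤ ξ trivial (1 : Γ(X, ⊤)) :=
  Groth.Agent.Lead.Ref1H.sp_germ (Coh.structureModule X) h (U := ⊤) trivial _

/-- a rational section of a module on the closure of `ξ`, relative to a free generator `e` of the
stalk at `ξ`, is a rational function -/
theorem exists_coeff (L : X.Modules) (ξ : X) (e : L.presheaf.stalk ξ)
    (he : Function.Bijective (fun a : X.presheaf.stalk ξ => a • e)) (s : Cyc.secFibre L ξ)
    (hs : s ≠ 0) :
    ∃ φ : X.presheaf.stalk ξ, s = φ • mkF L ξ e ∧ X.residue ξ φ ≠ 0 := by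
  obtain ⟨m, rfl⟩ := mkF_surjective L ξ s
  obtain ⟨φ, rfl⟩ := he.2 m
  refine ⟨φ, map_smul _ _ _, ?_⟩
  intro h0
  apply hs
  have hφ : φ ∈ IsLocalRing.maximalIdeal (X.presheaf.stalk ξ) :=
    (IsLocalRing.residue_eq_zero_iff _).mp h0
  have := (smul_mk_eq_zero_iff he φ).mpr hφ
  change mkF L ξ (φ • e) = 0
  rw [map_smul]
  exact this

theorem exists_fun_unit (s : (ξ : X) → Cyc.secFibre (Coh.structureModule X) ξ)
    (hs : ∀ ξ, s ξ ≠ 0) :
    ∃ g : (ξ : X) → X.residueField ξ, (∀ ξ, g ξ ≠ 0) ∧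
      ∀ (δ : X → ℤ) (ξ : X), Cyc.secDivFun δ (Coh.structureModule X) ξ (s ξ) =
        Cyc.divFun δ ξ (g ξ) := by
  choose φ hφ1 hφ2 using fun ξ => exists_coeff (Coh.structureModule X) ξ
    (germF ⊤ ξ trivial (1 : Γ(X, ⊤))) (unit_gen ξ) (s ξ) (hs ξ)
  refine ⟨fun ξ => X.residue ξ (φ ξ), hφ2, ?_⟩
  intro δ ξ
  funext x
  unfold Cyc.secDivFun Cyc.divFun
  split_ifs with h
  · refine secOrdAt_eq (Coh.structureModule X) h.1 (germF ⊤ x trivial (1 : Γ(X, ⊤))) (unit_gen x)
      ?_ (s ξ) (φ ξ) ?_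
    · rw [sp_unit_gen h.1]
      exact unit_gen ξ
    · rw [sp_unit_gen h.1]
      exact hφ1 ξ
  · rfl

/-- **`c₁(O_X) ∩ α ∼ 0`** -/
theorem c1Cap_unit (δ : X → ℤ) (k : ℤ) (α : AlgebraicCycle X ℤ) (hα : α ∈ Cyc.Zk X δ (k + 1))
    (s : (ξ : X) → Cyc.secFibre (Coh.structureModule X) ξ) (hs : ∀ ξ, s ξ ≠ 0)
    (γ : AlgebraicCycle X ℤ) (hγ : ⇑γ = Cyc.c1CapFun δ (Coh.structureModule X) ⇑α s) :
    Cyc.RatEquivZero δ k γ := by
  obtain ⟨g, hg, hdiv⟩ := exists_fun_unit s hs
  refine ratEquivZero_of_sum δ k α hα g hg γ ?_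
  intro x
  rw [hγ]
  unfold Cyc.c1CapFun
  refine finsum_congr (fun ξ => ?_)
  rw [hdiv δ ξ]

end unit

end Groth.Agent.Helper3.SecOrd
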