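import Mathlib
import Groth.Prelude
import Groth.Agent.Helper3.SecOrdC
import Groth.Agent.Helper3.PullDivD

/-!
# The cycle of the zero scheme of a regular section is `c₁(L) ∩ [Y]`
-/

set_option autoImplicit false
set_option linter.style.haveILetI false
set_option linter.unusedSectionVars false
set_option linter.unusedVariables false
set_option linter.deprecated false
set_option linter.style.haveILetI false
set_option linter.unusedSectionVars false
set_option linter.unusedVariables false

universe u

open CategoryTheory CategoryTheory.Limits AlgebraicGeometry TopologicalSpace Opposite IsLocalRing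
  Groth.Agent.Helper6.Dim1 Groth.Agent.Helper5.StalkDict

namespace Groth.Agent.Helper3.ZeroSec

open Groth.Agent.Helper3.SecOrd

variable {Y : Scheme.{u}}

theorem subschemeFun_id (δ : Y → ℤ) (k : ℤ) (ξ : Y) :
    Cyc.subschemeFun δ k (𝟙 Y) ξ =
      if δ ξ = k then ((Module.length (Y.presheaf.stalk ξ) (Y.presheaf.stalk ξ)).toNat : ℤ)
      else 0 := by
  unfold Cyc.subschemeFun
  split_ifs with h
  · have : {z : Y | (𝟙 Y : Y ⟶ Y) z = ξ} = {ξ} := by
      ext z
      simp
    rw [this, finsum_mem_singleton]
  · rfl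

theorem span_eq_top_of_bijective {R M : Type*} [CommRing R] [AddCommGroup M] [Module R M] {t : M}
    (ht : Function.Bijective (fun a : R => a • t)) : Submodule.span R {t} = ⊤ := by
  rw [eq_top_iff]
  intro v _
  obtain ⟨a, rfl⟩ := ht.2 v
  exact Submodule.mem_span_singleton.mpr ⟨a, rfl⟩

theorem length_quot_sup_span_unit {A : Type u} [CommRing A] (q : Ideal A) {a : A} (ha : IsUnit a) :
    Module.length A (A ⧸ (q ⊔ Ideal.span {a})) = 0 := by
  rw [Module.length_eq_zero_iff, Ideal.span_singleton_eq_top.mpr ha, sup_top_eq]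
  exact Ideal.Quotient.subsingleton_iff.mpr rfl

/-- **`[Z(s)]_k = c₁(L) ∩ [Y]_{k+1}`, coefficientwise** -/
theorem main (δ : Y → ℤ) (hY : Cyc.IsSetup Y δ) (L : Y.Modules) (hL : PicF.IsInvertible L) (k : ℤ)
    (hdim : ∀ y : Y, δ y ≤ k + 1) (s : L.presheaf.obj (Opposite.op ⊤))
    (hreg : ∀ y : Y, δ y = k →
      Function.Injective (fun a : Y.presheaf.stalk y => a • (L.presheaf.germ ⊤ y trivial) s)) :
    Cyc.zeroSectionFun δ k L s =
      Cyc.c1CapFun δ L (Cyc.subschemeFun δ (k + 1) (𝟙 Y))
        (fun ξ => Submodule.Quotient.mk ((L.presheaf.germ ⊤ ξ trivial) s)) := by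
  haveI := hY.1
  haveI : L.IsQuasicoherent := Groth.Agent.Helper4.QAffSec.isQuasicoherent_of_isInvertible L hL
  funext x
  unfold Cyc.c1CapFun
  by_cases hx : δ x = k
  swap
  · unfold Cyc.zeroSectionFun
    rw [if_neg hx]
    symm
    apply finsum_eq_zero_of_forall_eq_zero
    intro ξ
    rw [subschemeFun_id]
    split_ifs with h1
    · unfold Cyc.secDivFun
      rw [dif_neg (fun h => hx (by omega)), mul_zero]
    · rw [zero_mul]
  · obtain ⟨t₀, ht₀⟩ := Groth.Agent.Lead.Ref1K.fr1At_of_isInvertible L hL x
    have hex1 : ∃ t : L.presheaf.stalk x, Submodule.span (Y.presheaf.stalk x) {t} = ⊤ :=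
      ⟨t₀, span_eq_top_of_bijective ht₀⟩
    have ht : Function.Bijective (fun a : Y.presheaf.stalk x => a • Classical.choose hex1) :=
      bijective_of_span ht₀ (Classical.choose_spec hex1)
    have hex2 : ∃ f : Y.presheaf.stalk x,
        (L.presheaf.germ ⊤ x trivial) s = f • Classical.choose hex1 := by
      obtain ⟨f, hf⟩ := ht.2 ((L.presheaf.germ ⊤ x trivial) s)
      exact ⟨f, hf.symm⟩
    have hf := Classical.choose_spec hex2
    have hLHS : Cyc.zeroSectionFun δ k L s x =
        ((Module.length (Y.presheaf.stalk x)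
          (Y.presheaf.stalk x ⧸ Ideal.span {Classical.choose hex2})).toNat : ℤ) := by
      unfold Cyc.zeroSectionFun
      rw [if_pos hx, dif_pos hex1, dif_pos hex2]
    generalize Classical.choose hex2 = f at hf hLHS
    generalize Classical.choose hex1 = t at ht hf
    rw [hLHS]
    -- `f` is a nonzerodivisor
    have hfreg : IsSMulRegular (Y.presheaf.stalk x) f := by
      intro a b hab
      apply hreg x hx
      change a • (L.presheaf.germ ⊤ x trivial) s = b • (L.presheaf.germ ⊤ x trivial) s
      rw [hf, smul_smul, smul_smul, mul_comm a f, mul_comm b f]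
      change f • a = f • b at hab
      rw [smul_eq_mul, smul_eq_mul] at hab
      rw [hab]
    have hfnzd : f ∈ nonZeroDivisors (Y.presheaf.stalk x) := by
      rw [mem_nonZeroDivisors_iff_right]
      intro a ha
      apply hfreg
      change f • a = f • 0
      rw [smul_eq_mul, smul_eq_mul, mul_zero, mul_comm]
      exact ha
    have hmin : ∀ p ∈ minimalPrimes (Y.presheaf.stalk x), f ∉ p :=
      not_mem_minimalPrimes_of_nzd hfnzd
    have hB : ringKrullDim (Y.presheaf.stalk x) ≤ 1 := by
      apply PullDivC.krullDim_stalk_le_one δ hY.2.2 x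
      intro ξ _ _
      have := hdim ξ
      omega
    -- the right hand side as a sum over minimal primes
    set T : Y → ℤ := fun ξ => Cyc.subschemeFun δ (k + 1) (𝟙 Y) ξ *
      Cyc.secDivFun δ L ξ (Submodule.Quotient.mk ((L.presheaf.germ ⊤ ξ trivial) s)) x with hT
    have hTmax : ∀ ξ, T ξ ≠ 0 → ∀ x' : Y, x' ⤳ ξ → x' = ξ := by
      intro ξ hξ x' hx'
      have h1 : δ ξ = k + 1 := by
        by_contra hne
        apply hξ
        rw [hT]
        simp only
        rw [subschemeFun_id, if_neg hne, zero_mul]
      by_contra hne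
      have := (hY.2.2 x' ξ hx' hne).1
      have := hdim x'
      omega
    have hTsp : ∀ ξ, ¬ (ξ ⤳ x) → T ξ = 0 := by
      intro ξ hξ
      rw [hT]
      simp only
      unfold Cyc.secDivFun
      rw [dif_neg (fun h => hξ h.1), mul_zero]
    have hsum : ∑ᶠ ξ : Y, T ξ = ∑ q ∈ (minSpec_finite (A := Y.presheaf.stalk x)).toFinset,
        T (Y.fromSpecStalk x q) := by
      rw [← PullDivB.finsum_eq_sum_minSpec x (fun ξ => ∀ x' : Y, x' ⤳ ξ → x' = ξ)
        (fun ξ h => h) (fun ξ h _ => h) T hTsp,
        finsum_subtype_eq_finsum_cond (f := T) (fun ξ => ∀ x' : Y, x' ⤳ ξ → x' = ξ)]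
      refine finsum_congr (fun ξ => ?_)
      classical
      rw [finsum_eq_if]
      split_ifs with h
      · rfl
      · by_contra hne
        exact h (hTmax ξ hne)
    change _ = ∑ᶠ ξ : Y, T ξ
    rw [hsum, ← PullDivA.length_quotSMulTop, toNat_length_quotSMulTop_eq_sum hB (M := Y.presheaf.stalk x) hmin hfreg]
    refine Finset.sum_congr rfl (fun q hq => ?_)
    have hq'' : q ∈ minSpec (Y.presheaf.stalk x) := (Set.Finite.mem_toFinset _).mp hq
    have hq' : q.asIdeal ∈ minimalPrimes (Y.presheaf.stalk x) := hq''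
    have hξx : Y.fromSpecStalk x q ⤳ x := fromSpecStalk_specializes x q
    have hker := PullDivB.ker_specMap x q hξx
    rw [hT]
    simp only
    rw [subschemeFun_id]
    by_cases hδq : δ (Y.fromSpecStalk x q) = k + 1
    · rw [if_pos hδq, PullDivB.length_stalk_eq]
      congr 1
      unfold Cyc.secDivFun
      rw [dif_pos ⟨hξx, by omega⟩]
      have htξ := bijective_sp L hξx
        (Groth.Agent.Lead.Ref1K.fr1At_of_isInvertible L hL (Y.fromSpecStalk x q)) ht
      have hs : (Submodule.Quotient.mk ((L.presheaf.germ ⊤ (Y.fromSpecStalk x q) trivial) s) :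
          Cyc.secFibre L (Y.fromSpecStalk x q)) =
          (Y.presheaf.stalkSpecializes hξx).hom f •
            mkF L (Y.fromSpecStalk x q) ((L.presheaf.stalkSpecializes hξx).hom t) := by
        rw [← map_smul, ← Groth.Agent.Lead.Ref1H.sp_smul, ← hf,
          Groth.Agent.Lead.Ref1H.sp_germ L hξx (U := ⊤) trivial s]
        rfl
      rw [secOrdAt_eq L hξx t ht htξ _ _ hs]
      have hf0 : Cyc.specMap x (Y.fromSpecStalk x q) hξx f ≠ 0 := by
        intro h0
        have : f ∈ RingHom.ker (Cyc.specMap x (Y.fromSpecStalk x q) hξx) := RingHom.mem_ker.mpr h0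
        rw [hker] at this
        exact hmin _ hq' this
      have h10 : Cyc.specMap x (Y.fromSpecStalk x q) hξx 1 ≠ 0 := by
        rw [map_one]
        exact one_ne_zero
      have hdiv := PullDivB.ordAt_div x (Y.fromSpecStalk x q) hB hξx f 1 hf0 h10
      rw [map_one, div_one, hker, length_quot_sup_span_unit _ isUnit_one] at hdiv
      simp only [ENat.toNat_zero, Nat.cast_zero, sub_zero] at hdiv
      rw [← hdiv]
      rfl
    · rw [if_neg hδq, zero_mul]
      have hqx : Y.fromSpecStalk x q = x := by
        by_contra hne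
        have := (hY.2.2 _ _ hξx hne).1
        have := hdim (Y.fromSpecStalk x q)
        omega
      have h4 : q = IsLocalRing.closedPoint _ := by
        apply (Y.fromSpecStalk x).isEmbedding.injective
        rw [hqx, Scheme.fromSpecStalk_closedPoint]
      have h5 : q.asIdeal = maximalIdeal _ := congrArg PrimeSpectrum.asIdeal h4
      have hfu : IsUnit f := by
        by_contra hnu
        have : f ∈ maximalIdeal (Y.presheaf.stalk x) := (IsLocalRing.mem_maximalIdeal f).mpr hnu
        rw [← h5] at this
        exact hmin _ hq' this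
      rw [length_quot_sup_span_unit _ hfu]
      simp

end Groth.Agent.Helper3.ZeroSec
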