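import Mathlib
import Groth.Prelude
import Groth.Agent.Helper3.ZeroSecA
import Groth.Agent.Lead.Ref1I

/-!
# `c₁(L) ∩ α + c₁(N) ∩ α ∼ c₁(L ⊗ N) ∩ α`
-/

set_option autoImplicit false
set_option linter.style.haveILetI false
set_option linter.unusedSectionVars false
set_option linter.unusedVariables false
set_option linter.deprecated false
set_option linter.style.haveILetI false
set_option linter.unusedSectionVars false
set_option linter.unusedVariables false

universe u

open CategoryTheory CategoryTheory.Limits AlgebraicGeometry TopologicalSpace Opposite TensorProduct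

namespace Groth.Agent.Helper3.SecOrd

section rel

variable {X : Scheme.{u}}

theorem ordAt_mul (x ξ : X) (h : ξ ⤳ x) (f g : X.residueField ξ) (hf : f ≠ 0) (hg : g ≠ 0) :
    Cyc.ordAt x ξ h (f * g) = Cyc.ordAt x ξ h f + Cyc.ordAt x ξ h g :=
  cycOrdFrac_mul _ _ f g hf hg

theorem ordAt_inv (x ξ : X) (h : ξ ⤳ x) (f : X.residueField ξ) (hf : f ≠ 0) :
    Cyc.ordAt x ξ h f⁻¹ = - Cyc.ordAt x ξ h f :=
  cycOrdFrac_inv _ _ f hf

theorem divFun_mul (δ : X → ℤ) (ξ : X) (f g : X.residueField ξ) (hf : f ≠ 0) (hg : g ≠ 0) (x : X) :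
    Cyc.divFun δ ξ (f * g) x = Cyc.divFun δ ξ f x + Cyc.divFun δ ξ g x := by
  unfold Cyc.divFun
  split_ifs with h
  · exact ordAt_mul x ξ h.1 f g hf hg
  · rw [add_zero]

theorem divFun_inv (δ : X → ℤ) (ξ : X) (f : X.residueField ξ) (hf : f ≠ 0) (x : X) :
    Cyc.divFun δ ξ f⁻¹ x = - Cyc.divFun δ ξ f x := by
  unfold Cyc.divFun
  split_ifs with h
  · exact ordAt_inv x ξ h.1 f hf
  · rw [neg_zero]

/-- the specialization of a free generator at `x` is a unit multiple of any free generator at `ξ` -/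
theorem exists_unit_sp (L : X.Modules) [L.IsQuasicoherent] {x ξ : X} (h : ξ ⤳ x)
    {e : L.presheaf.stalk ξ} (he : Function.Bijective (fun a : X.presheaf.stalk ξ => a • e))
    {t : L.presheaf.stalk x} (ht : Function.Bijective (fun a : X.presheaf.stalk x => a • t)) :
    ∃ u : X.presheaf.stalk ξ, IsUnit u ∧ (L.presheaf.stalkSpecializes h).hom t = u • e := by
  have h1 := bijective_sp L h ⟨e, he⟩ ht
  exact exists_unit_of_span he (Groth.Agent.Helper3.ZeroSec.span_eq_top_of_bijective h1)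

/-- the order of a rational section relative to generators at `ξ` and at `x` -/
theorem secOrdAt_eq_sub (L : X.Modules) [L.IsQuasicoherent] {x ξ : X} (h : ξ ⤳ x)
    {e : L.presheaf.stalk ξ} (he : Function.Bijective (fun a : X.presheaf.stalk ξ => a • e))
    {t : L.presheaf.stalk x} (ht : Function.Bijective (fun a : X.presheaf.stalk x => a • t))
    (u : X.presheaf.stalk ξ) (hu : IsUnit u) (hut : (L.presheaf.stalkSpecializes h).hom t = u • e)
    (s : Cyc.secFibre L ξ) (φ : X.presheaf.stalk ξ) (hs : s = φ • mkF L ξ e)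
    (hφ : X.residue ξ φ ≠ 0) :
    Cyc.secOrdAt L ξ x h s = Cyc.ordAt x ξ h (X.residue ξ φ) - Cyc.ordAt x ξ h (X.residue ξ u) := by
  obtain ⟨w, hw⟩ := hu.exists_left_inv
  have htξ := bijective_sp L h ⟨e, he⟩ ht
  have hs' : s = (φ * w) • mkF L ξ ((L.presheaf.stalkSpecializes h).hom t) := by
    rw [hut, map_smul, smul_smul, mul_assoc, hw, mul_one]
    exact hs
  rw [secOrdAt_eq L h t ht htξ s (φ * w) hs', map_mul]
  have hu0 : X.residue ξ u ≠ 0 := by
    intro h0
    have : u ∈ IsLocalRing.maximalIdeal (X.presheaf.stalk ξ) :=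
      (IsLocalRing.residue_eq_zero_iff _).mp h0
    exact (IsLocalRing.mem_maximalIdeal u).mp this hu
  have hwu : X.residue ξ w = (X.residue ξ u)⁻¹ := by
    have : X.residue ξ w * X.residue ξ u = 1 := by
      rw [← map_mul, hw, map_one]
    exact eq_inv_of_mul_eq_one_left this
  rw [hwu, ordAt_mul x ξ h _ _ hφ (inv_ne_zero hu0), ordAt_inv x ξ h _ hu0]
  ring

end rel

section tensor

variable {X : Scheme.{u}}

theorem sp_tensor (M N : X.Modules) {x ξ : X} (h : ξ ⤳ x) (m : M.presheaf.stalk x)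
    (n : N.presheaf.stalk x) :
    ((CohB1.tensorMod M N).presheaf.stalkSpecializes h).hom
        (Groth.Agent.Lead.Ref1B.stalkTensorEquiv M N x (m ⊗ₜ n)) =
      Groth.Agent.Lead.Ref1B.stalkTensorEquiv M N ξ
        ((M.presheaf.stalkSpecializes h).hom m ⊗ₜ (N.presheaf.stalkSpecializes h).hom n) := by
  obtain ⟨V, hxV, a, rfl⟩ := TopCat.Presheaf.exists_germ_eq M.presheaf m
  obtain ⟨V', hxV', b, rfl⟩ := TopCat.Presheaf.exists_germ_eq N.presheaf n
  rw [← TopCat.Presheaf.germ_res_apply M.presheaf (homOfLE (inf_le_left : V ⊓ V' ≤ V)) x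
      ⟨hxV, hxV'⟩,
    ← TopCat.Presheaf.germ_res_apply N.presheaf (homOfLE (inf_le_right : V ⊓ V' ≤ V')) x
      ⟨hxV, hxV'⟩]
  rw [Groth.Agent.Lead.Ref1H.sp_germ, Groth.Agent.Lead.Ref1H.sp_germ,
    Groth.Agent.Lead.Ref1B.stalkTensorEquiv_germ, Groth.Agent.Lead.Ref1B.stalkTensorEquiv_germ,
    Groth.Agent.Lead.Ref1H.sp_germ]

theorem tensor_gen (M N : X.Modules) (x : X) {a : M.presheaf.stalk x} {b : N.presheaf.stalk x}
    (ha : Function.Bijective (fun r : X.presheaf.stalk x => r • a))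
    (hb : Function.Bijective (fun r : X.presheaf.stalk x => r • b)) :
    Function.Bijective (fun r : X.presheaf.stalk x =>
      r • Groth.Agent.Lead.Ref1B.stalkTensorEquiv M N x (a ⊗ₜ b)) :=
  Groth.Agent.Lead.Ref1I.bijective_smul_map (Groth.Agent.Lead.Ref1B.stalkTensorEquiv M N x).toLinearMap
    (Groth.Agent.Lead.Ref1B.stalkTensorEquiv M N x).bijective
    (Groth.Agent.Lead.Ref1I.bijective_smul_tmul ha hb)

end tensor

end Groth.Agent.Helper3.SecOrd
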