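import Mathlib
import Groth.Prelude
import Groth.Agent.Helper3.SecOrdD

/-!
# `c₁(L) ∩ α + c₁(N) ∩ α ∼ c₁(L ⊗ N) ∩ α`
-/

set_option autoImplicit false
set_option linter.style.haveILetI false
set_option linter.unusedSectionVars false
set_option linter.unusedVariables false
set_option linter.deprecated false
set_option linter.style.haveILetI false
set_option linter.unusedSectionVars false
set_option linter.unusedVariables false

universe u

open CategoryTheory CategoryTheory.Limits AlgebraicGeometry TopologicalSpace Opposite TensorProduct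

namespace Groth.Agent.Helper3.SecOrd

section main

variable {X : Scheme.{u}}

/-- the three divisors of rational sections of `L`, `N`, `L ⊗ N` on the closure of `ξ` differ by a
principal divisor -/
theorem secDivFun_tensor (δ : X → ℤ) (L N : X.Modules) (hL : PicF.IsInvertible L)
    (hN : PicF.IsInvertible N) (ξ : X) (sL : Cyc.secFibre L ξ) (hsL : sL ≠ 0)
    (sN : Cyc.secFibre N ξ) (hsN : sN ≠ 0) (sT : Cyc.secFibre (CohB1.tensorMod L N) ξ)
    (hsT : sT ≠ 0) :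
    ∃ g : X.residueField ξ, g ≠ 0 ∧ ∀ x : X,
      Cyc.secDivFun δ L ξ sL x + Cyc.secDivFun δ N ξ sN x -
        Cyc.secDivFun δ (CohB1.tensorMod L N) ξ sT x = Cyc.divFun δ ξ g x := by
  haveI : L.IsQuasicoherent := Groth.Agent.Helper4.QAffSec.isQuasicoherent_of_isInvertible L hL
  haveI : N.IsQuasicoherent := Groth.Agent.Helper4.QAffSec.isQuasicoherent_of_isInvertible N hN
  haveI : (CohB1.tensorMod L N).IsQuasicoherent :=
    Groth.Agent.Lead.QcohTensor.isQuasicoherent_tensorMod L N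
  obtain ⟨a, ha⟩ := Groth.Agent.Lead.Ref1K.fr1At_of_isInvertible L hL ξ
  obtain ⟨b, hb⟩ := Groth.Agent.Lead.Ref1K.fr1At_of_isInvertible N hN ξ
  have hab := tensor_gen L N ξ ha hb
  obtain ⟨φL, hφL, hgL⟩ := exists_coeff L ξ a ha sL hsL
  obtain ⟨φN, hφN, hgN⟩ := exists_coeff N ξ b hb sN hsN
  obtain ⟨φT, hφT, hgT⟩ := exists_coeff (CohB1.tensorMod L N) ξ _ hab sT hsT
  refine ⟨X.residue ξ φL * X.residue ξ φN * (X.residue ξ φT)⁻¹,
    mul_ne_zero (mul_ne_zero hgL hgN) (inv_ne_zero hgT), ?_⟩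
  intro x
  unfold Cyc.secDivFun Cyc.divFun
  split_ifs with h
  · obtain ⟨tL, htL⟩ := Groth.Agent.Lead.Ref1K.fr1At_of_isInvertible L hL x
    obtain ⟨tN, htN⟩ := Groth.Agent.Lead.Ref1K.fr1At_of_isInvertible N hN x
    have htT := tensor_gen L N x htL htN
    obtain ⟨uL, huL, huL'⟩ := exists_unit_sp L h.1 ha htL
    obtain ⟨uN, huN, huN'⟩ := exists_unit_sp N h.1 hb htN
    have huT' : ((CohB1.tensorMod L N).presheaf.stalkSpecializes h.1).hom
        (Groth.Agent.Lead.Ref1B.stalkTensorEquiv L N x (tL ⊗ₜ tN)) =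
        (uL * uN) • Groth.Agent.Lead.Ref1B.stalkTensorEquiv L N ξ (a ⊗ₜ b) := by
      rw [sp_tensor, huL', huN', TensorProduct.smul_tmul_smul, map_smul]
    have huL0 : X.residue ξ uL ≠ 0 := by
      intro h0
      exact (IsLocalRing.mem_maximalIdeal uL).mp ((IsLocalRing.residue_eq_zero_iff _).mp h0) huL
    have huN0 : X.residue ξ uN ≠ 0 := by
      intro h0
      exact (IsLocalRing.mem_maximalIdeal uN).mp ((IsLocalRing.residue_eq_zero_iff _).mp h0) huN
    rw [secOrdAt_eq_sub L h.1 ha htL uL huL huL' sL φL hφL hgL,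
      secOrdAt_eq_sub N h.1 hb htN uN huN huN' sN φN hφN hgN,
      secOrdAt_eq_sub (CohB1.tensorMod L N) h.1 hab htT (uL * uN) (huL.mul huN) huT' sT φT hφT hgT,
      map_mul, ordAt_mul x ξ h.1 _ _ huL0 huN0,
      ordAt_mul x ξ h.1 _ _ (mul_ne_zero hgL hgN) (inv_ne_zero hgT),
      ordAt_mul x ξ h.1 _ _ hgL hgN, ordAt_inv x ξ h.1 _ hgT]
    ring
  · ring

/-- **`c₁(L) ∩ α + c₁(N) ∩ α ∼ c₁(L ⊗ N) ∩ α`** -/
theorem c1Cap_tensor (δ : X → ℤ) (L N : X.Modules) (hL : PicF.IsInvertible L)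
    (hN : PicF.IsInvertible N) (k : ℤ) (α : AlgebraicCycle X ℤ) (hα : α ∈ Cyc.Zk X δ (k + 1))
    (sL : (ξ : X) → Cyc.secFibre L ξ) (hsL : ∀ ξ, sL ξ ≠ 0)
    (sN : (ξ : X) → Cyc.secFibre N ξ) (hsN : ∀ ξ, sN ξ ≠ 0)
    (sT : (ξ : X) → Cyc.secFibre (CohB1.tensorMod L N) ξ) (hsT : ∀ ξ, sT ξ ≠ 0)
    (γL γN γT : AlgebraicCycle X ℤ) (hγL : ⇑γL = Cyc.c1CapFun δ L ⇑α sL)
    (hγN : ⇑γN = Cyc.c1CapFun δ N ⇑α sN)
    (hγT : ⇑γT = Cyc.c1CapFun δ (CohB1.tensorMod L N) ⇑α sT) :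
    Cyc.RatEquiv δ k (γL + γN) γT := by
  choose g hg hdiv using fun ξ =>
    secDivFun_tensor δ L N hL hN ξ (sL ξ) (hsL ξ) (sN ξ) (hsN ξ) (sT ξ) (hsT ξ)
  unfold Cyc.RatEquiv
  refine ratEquivZero_of_sum δ k α hα g hg _ ?_
  intro x
  rw [Function.locallyFinsuppWithin.coe_sub, Function.locallyFinsuppWithin.coe_add, Pi.sub_apply,
    Pi.add_apply, hγL, hγN, hγT]
  unfold Cyc.c1CapFun
  have hfin := Bivar.finite_support_specializes α x
  have hsupp : ∀ (M : X.Modules) (s : (ξ : X) → Cyc.secFibre M ξ),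
      (Function.support fun ξ => α ξ * Cyc.secDivFun δ M ξ (s ξ) x).Finite := by
    intro M s
    refine hfin.subset ?_
    intro ξ hξ
    rw [Function.mem_support] at hξ
    refine ⟨?_, fun h0 => hξ (by rw [h0, zero_mul])⟩
    by_contra hsp
    apply hξ
    unfold Cyc.secDivFun
    rw [dif_neg (fun h => hsp h.1), mul_zero]
  rw [← finsum_add_distrib (hsupp L sL) (hsupp N sN), ← finsum_sub_distrib]
  · refine finsum_congr (fun ξ => ?_)
    rw [← hdiv ξ x]
    ring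
  · exact ((hsupp L sL).union (hsupp N sN)).subset (Function.support_add _ _)
  · exact hsupp _ sT

end main

end Groth.Agent.Helper3.SecOrd
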