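import Mathlib
import Groth.Prelude
import Groth.Agent.Helper3.PullGenA
import Groth.Agent.Helper3.SecOrdE
import Groth.Agent.Helper3.PullDivL
import Groth.Agent.Helper4.PullSec

/-!
# Flat pullback commutes with `c₁(L) ∩ -` up to rational equivalence
-/

set_option autoImplicit false
set_option linter.style.haveILetI false
set_option linter.unusedSectionVars false
set_option linter.unusedVariables false
set_option linter.deprecated false
set_option linter.style.haveILetI false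
set_option linter.unusedSectionVars false
set_option linter.unusedVariables false

universe u

open CategoryTheory CategoryTheory.Limits AlgebraicGeometry TopologicalSpace Opposite

namespace Groth.Agent.Helper3.PullGen

open Groth.Agent.Helper3.SecOrd Groth.Agent.Helper3.PullDivI Groth.Agent.Helper3.PullDivK
  Groth.Agent.Helper3.PullDivL

section general

theorem finsum_comm' {α β : Type*} (F : α → β → ℤ)
    (h : (Function.support (Function.uncurry F)).Finite) :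
    ∑ᶠ a, ∑ᶠ b, F a b = ∑ᶠ b, ∑ᶠ a, F a b := by
  have h' : (Function.support (Function.uncurry fun b a => F a b)).Finite := by
    refine (h.image Prod.swap).subset ?_
    rintro ⟨b, a⟩ hba
    exact ⟨(a, b), hba, rfl⟩
  have e1 := finsum_curry (Function.uncurry F) h
  have e2 := finsum_curry (Function.uncurry fun b a => F a b) h'
  simp only [Function.uncurry_apply_pair] at e1 e2
  rw [← e1, ← e2]
  exact (finsum_comp_equiv (Equiv.prodComm β α) (f := Function.uncurry F)).symm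

end general

section pullcycle

variable {X X' : Scheme.{u}} (p : X' ⟶ X) {δ : X → ℤ} {δ' : X' → ℤ} {c : ℤ}

theorem locFin_pullFun [IsLocallyNoetherian X']
    (h3 : ∀ x, δ' x = δ (p x) + c → ∀ w, p w = p x → w ⤳ x → w = x)
    (α : AlgebraicCycle X ℤ) (x' : X') :
    ∃ U : Set X', IsOpen U ∧ x' ∈ U ∧
      (U ∩ Function.support (Cyc.pullFun p δ' δ c ⇑α)).Finite := by
  have hlf : ∀ x : X, ∃ U : Set X, IsOpen U ∧ x ∈ U ∧
      {i : {ξ : X // α ξ ≠ 0} | (closure {i.1} ∩ U).Nonempty}.Finite := by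
    intro x
    obtain ⟨U, hU, hfin⟩ := α.supportLocallyFiniteWithinDomain x trivial
    obtain ⟨V, hVU, hVo, hxV⟩ := mem_nhds_iff.mp hU
    refine ⟨V, hVo, hxV, ?_⟩
    have hfin' : (V ∩ Function.support ⇑α).Finite :=
      hfin.subset (Set.inter_subset_inter_left _ hVU)
    refine (hfin'.preimage (Subtype.val_injective.injOn)).subset ?_
    rintro i ⟨z, hz1, hz2⟩
    have hsp : i.1 ⤳ z := specializes_iff_mem_closure.mpr hz1
    exact ⟨hsp.mem_open hVo hz2, i.2⟩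
  obtain ⟨U, hUo, hxU, hUfin⟩ := locFin p (fun i : {ξ : X // α ξ ≠ 0} => i.1) hlf x'
  refine ⟨U, hUo, hxU, (hUfin.image (fun j => j.2.1)).subset ?_⟩
  rintro y ⟨hyU, hy⟩
  rw [Function.mem_support] at hy
  unfold Cyc.pullFun at hy
  split_ifs at hy with hδ
  · have hα : α (p y) ≠ 0 := fun h0 => hy (by rw [h0, zero_mul])
    exact ⟨⟨⟨p y, hα⟩, ⟨y, rfl, h3 y hδ⟩⟩, ⟨y, subset_closure rfl, hyU⟩, rfl⟩
  · exact absurd rfl hy

/-- the flat pullback of a cycle, as a cycle -/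
noncomputable def pullCycle [IsLocallyNoetherian X']
    (h3 : ∀ x, δ' x = δ (p x) + c → ∀ w, p w = p x → w ⤳ x → w = x)
    (α : AlgebraicCycle X ℤ) : AlgebraicCycle X' ℤ where
  toFun := Cyc.pullFun p δ' δ c ⇑α
  supportWithinDomain' := Set.subset_univ _
  supportLocallyFiniteWithinDomain' z _ := by
    obtain ⟨U, hUo, hzU, hfin⟩ := locFin_pullFun p h3 α z
    exact ⟨U, hUo.mem_nhds hzU, hfin⟩

theorem coe_pullCycle [IsLocallyNoetherian X']
    (h3 : ∀ x, δ' x = δ (p x) + c → ∀ w, p w = p x → w ⤳ x → w = x)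
    (α : AlgebraicCycle X ℤ) : ⇑(pullCycle p h3 α) = Cyc.pullFun p δ' δ c ⇑α := rfl

theorem pullCycle_mem_Zk [IsLocallyNoetherian X']
    (h3 : ∀ x, δ' x = δ (p x) + c → ∀ w, p w = p x → w ⤳ x → w = x)
    (α : AlgebraicCycle X ℤ) (k : ℤ) (hα : α ∈ Cyc.Zk X δ k) :
    pullCycle p h3 α ∈ Cyc.Zk X' δ' (k + c) := by
  intro x' hx'
  change Cyc.pullFun p δ' δ c ⇑α x' = 0
  unfold Cyc.pullFun
  split_ifs with h
  · rw [hα (p x') (by omega), zero_mul]
  · rfl

theorem pullFun_finsum {ι : Type*} (F : X → ℤ) (a : ι → ℤ) (D : ι → X → ℤ) (x' : X')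
    (h : F (p x') = ∑ᶠ i, a i * D i (p x')) :
    Cyc.pullFun p δ' δ c F x' = ∑ᶠ i, a i * Cyc.pullFun p δ' δ c (D i) x' := by
  unfold Cyc.pullFun
  split_ifs with hx
  · rw [h, finsum_mul]
    exact finsum_congr fun i => mul_assoc _ _ _
  · simp

end pullcycle

section loc

variable {X : Scheme.{u}}

theorem exists_w (L : X.Modules) [L.IsQuasicoherent] (ξ x : X)
    {e : L.presheaf.stalk ξ} (he : Function.Bijective (fun a : X.presheaf.stalk ξ => a • e))
    {t : L.presheaf.stalk x} (ht : Function.Bijective (fun a : X.presheaf.stalk x => a • t)) :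
    ∃ w : X.presheaf.stalk ξ, IsUnit w ∧
      ∀ h : ξ ⤳ x, (L.presheaf.stalkSpecializes h).hom t = w • e := by
  by_cases h : ξ ⤳ x
  · obtain ⟨w, hw, hwt⟩ := exists_unit_sp L h he ht
    exact ⟨w, hw, fun _ => hwt⟩
  · exact ⟨1, isUnit_one, fun h' => absurd h' h⟩

theorem residue_ne_zero_of_isUnit (ξ : X) {w : X.presheaf.stalk ξ} (hw : IsUnit w) :
    X.residue ξ w ≠ 0 := by
  intro h0
  exact (IsLocalRing.mem_maximalIdeal w).mp ((IsLocalRing.residue_eq_zero_iff _).mp h0) hw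

theorem secDivFun_eq_divFun (δ : X → ℤ) (L : X.Modules) [L.IsQuasicoherent] (ξ x : X)
    {e : L.presheaf.stalk ξ} (he : Function.Bijective (fun a : X.presheaf.stalk ξ => a • e))
    {t : L.presheaf.stalk x} (ht : Function.Bijective (fun a : X.presheaf.stalk x => a • t))
    (w : X.presheaf.stalk ξ) (hw : IsUnit w)
    (hwt : ∀ h : ξ ⤳ x, (L.presheaf.stalkSpecializes h).hom t = w • e)
    (s : Cyc.secFibre L ξ) (φ : X.presheaf.stalk ξ) (hs : s = φ • mkF L ξ e)
    (hφ : X.residue ξ φ ≠ 0) :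
    Cyc.secDivFun δ L ξ s x = Cyc.divFun δ ξ (X.residue ξ φ * (X.residue ξ w)⁻¹) x := by
  have hw0 := residue_ne_zero_of_isUnit ξ hw
  unfold Cyc.secDivFun Cyc.divFun
  split_ifs with h
  · rw [secOrdAt_eq_sub L h.1 he ht w hw (hwt h.1) s φ hs hφ,
      ordAt_mul x ξ h.1 _ _ hφ (inv_ne_zero hw0), ordAt_inv x ξ h.1 _ hw0]
    ring
  · rfl

end loc


section main

open Groth.Agent.Lead.Ref1K Groth.Agent.Helper4.QAffSec

theorem main (X X' : Scheme.{u}) (δ : X → ℤ) (δ' : X' → ℤ) (hX : Cyc.IsSetup X δ)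
    (hX' : Cyc.IsSetup X' δ') (p : X' ⟶ X) [Flat p] (c : ℤ)
    (hc : ∀ x' : X', (∀ y, p y = p x' → y ⤳ x' → y = x') → δ' x' = δ (p x') + c)
    (L : X.Modules) (hL : PicF.IsInvertible L) (k : ℤ) (α : AlgebraicCycle X ℤ)
    (hα : α ∈ Cyc.Zk X δ k) (v : (ξ : X) → Cyc.secFibre L ξ) (hv : ∀ ξ, v ξ ≠ 0)
    (u : (ξ : X') → Cyc.secFibre ((Scheme.Modules.pullback p).obj L) ξ) (hu : ∀ ξ, u ξ ≠ 0)
    (γ₁ γ₂ : AlgebraicCycle X' ℤ)
    (h₁ : ⇑γ₁ = Cyc.pullFun p δ' δ c (Cyc.c1CapFun δ L ⇑α v))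
    (h₂ : ⇑γ₂ = Cyc.c1CapFun δ' ((Scheme.Modules.pullback p).obj L)
      (Cyc.pullFun p δ' δ c ⇑α) u) :
    Cyc.RatEquiv δ' (k + c - 1) γ₁ γ₂ := by
  classical
  have H := hyp_of_hc p hX hX' hc
  haveI := hX'.1
  have hL' : PicF.IsInvertible ((Scheme.Modules.pullback p).obj L) :=
    Groth.Agent.Helper4.PullSec.isInvertible_pullback p hL
  haveI : L.IsQuasicoherent := isQuasicoherent_of_isInvertible L hL
  haveI : ((Scheme.Modules.pullback p).obj L).IsQuasicoherent :=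
    isQuasicoherent_of_isInvertible _ hL'
  choose t ht using fun y : X => fr1At_of_isInvertible L hL y
  have ht' : ∀ y' : X', Function.Bijective
      (fun r : X'.presheaf.stalk y' => r • pgFun p L y' (t (p y'))) :=
    fun y' => bijective_pgFun p L y' (fr1At_of_isInvertible _ hL' y') (ht (p y'))
  choose ψ hψ hgv using fun ξ => exists_coeff L ξ (t ξ) (ht ξ) (v ξ) (hv ξ)
  choose φ hφ hgu using fun ξ' =>
    exists_coeff ((Scheme.Modules.pullback p).obj L) ξ' _ (ht' ξ') (u ξ') (hu ξ')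
  have hα' : pullCycle p H.h3 α ∈ Cyc.Zk X' δ' (k + c - 1 + 1) := by
    have := pullCycle_mem_Zk p H.h3 α k hα
    rwa [show k + c - 1 + 1 = k + c by ring]
  unfold Cyc.RatEquiv
  refine ratEquivZero_of_sum δ' (k + c - 1) (pullCycle p H.h3 α) hα'
    (fun ξ' => p.residueFieldMap ξ' (X.residue (p ξ') (ψ (p ξ'))) *
      (X'.residue ξ' (φ ξ'))⁻¹) ?_ _ ?_
  · intro ξ'
    refine mul_ne_zero ?_ (inv_ne_zero (hgu ξ'))
    exact (map_ne_zero_iff _ (p.residueFieldMap ξ').hom.injective).mpr (hgv (p ξ'))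
  intro x'
  choose w hw hwt using fun ξ => exists_w L ξ (p x') (ht ξ) (ht (p x'))
  have hw0 : ∀ ξ, X.residue ξ (w ξ) ≠ 0 := fun ξ => residue_ne_zero_of_isUnit ξ (hw ξ)
  have hres : ∀ (ξ' : X') (a : X.presheaf.stalk (p ξ')),
      X'.residue ξ' ((p.stalkMap ξ').hom a) = p.residueFieldMap ξ' (X.residue (p ξ') a) := by
    intro ξ' a
    have := congrArg (fun f => f.hom a) (Scheme.residue_residueFieldMap p ξ')
    exact this.symm
  set G : (ξ : X) → X.residueField ξ :=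
    fun ξ => X.residue ξ (ψ ξ) * (X.residue ξ (w ξ))⁻¹ with hG
  have hG0 : ∀ ξ, G ξ ≠ 0 := fun ξ => mul_ne_zero (hgv ξ) (inv_ne_zero (hw0 ξ))
  have hc1 : Cyc.c1CapFun δ L ⇑α v (p x') = ∑ᶠ ξ, α ξ * Cyc.divFun δ ξ (G ξ) (p x') := by
    unfold Cyc.c1CapFun
    refine finsum_congr fun ξ => ?_
    rw [secDivFun_eq_divFun δ L ξ (p x') (ht ξ) (ht (p x')) (w ξ) (hw ξ) (hwt ξ) (v ξ) (ψ ξ)
      (hψ ξ) (hgv ξ)]
  have e1 : γ₁ x' = ∑ᶠ ξ' : X', (pullCycle p H.h3 α) ξ' *
      Cyc.divFun δ' ξ' (p.residueFieldMap ξ' (G (p ξ'))) x' := by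
    rw [h₁, pullFun_finsum p _ _ _ x' hc1]
    simp_rw [core p H _ _ (hG0 _) x']
    let FF : X → X' → ℤ := fun ξ ξ' =>
      if p ξ' = ξ ∧ (∀ w : X', p w = p ξ' → w ⤳ ξ' → w = ξ') then
        α ξ * G2 p δ' ξ (G ξ) x' ξ' else 0
    have hstep : ∀ ξ, α ξ * ∑ᶠ t : {ξ' : X' // p ξ' = ξ ∧
        ∀ w : X', p w = p ξ' → w ⤳ ξ' → w = ξ'}, G2 p δ' ξ (G ξ) x' t.1 = ∑ᶠ ξ', FF ξ ξ' := by
      intro ξ
      rw [mul_finsum, finsum_subtype_eq_finsum_cond
        (f := fun ξ' : X' => α ξ * G2 p δ' ξ (G ξ) x' ξ')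
        (fun ξ' => p ξ' = ξ ∧ ∀ w : X', p w = p ξ' → w ⤳ ξ' → w = ξ')]
      refine finsum_congr fun ξ' => ?_
      rw [finsum_eq_if]
    simp_rw [hstep]
    have hfin : (Function.support (Function.uncurry FF)).Finite := by
      refine ((Bivar.finite_support_specializes (pullCycle p H.h3 α) x').image
        (fun ξ' => (p ξ', ξ'))).subset ?_
      rintro ⟨ξ, ξ'⟩ hne
      rw [Function.mem_support, Function.uncurry_apply_pair] at hne
      simp only [FF] at hne
      split_ifs at hne with hcond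
      · obtain ⟨rfl, hmax⟩ := hcond
        have hα0 : α (p ξ') ≠ 0 := fun h0 => hne (by rw [h0, zero_mul])
        have hG2 : G2 p δ' (p ξ') (G (p ξ')) x' ξ' ≠ 0 := fun h0 => hne (by rw [h0, mul_zero])
        unfold G2 at hG2
        rw [dif_pos rfl] at hG2
        have hm : mult p ξ' ≠ 0 := fun h0 => hG2 (by rw [h0, zero_mul])
        refine ⟨ξ', ⟨?_, ?_⟩, rfl⟩
        · by_contra hsp
          apply hG2
          unfold Cyc.divFun
          rw [dif_neg (fun h => hsp h.1), mul_zero]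
        · change Cyc.pullFun p δ' δ c ⇑α ξ' ≠ 0
          unfold Cyc.pullFun
          rw [if_pos (H.h2 ξ' hmax)]
          exact mul_ne_zero hα0 hm
      · exact absurd rfl hne
    rw [finsum_comm' FF hfin]
    refine finsum_congr fun ξ' => ?_
    rw [finsum_eq_single _ (p ξ') (fun ξ hξ => if_neg (fun h => hξ h.1.symm))]
    change (if p ξ' = p ξ' ∧ (∀ w : X', p w = p ξ' → w ⤳ ξ' → w = ξ') then
        α (p ξ') * G2 p δ' (p ξ') (G (p ξ')) x' ξ' else 0) =
      Cyc.pullFun p δ' δ c ⇑α ξ' * _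
    by_cases hmax : ∀ w : X', p w = p ξ' → w ⤳ ξ' → w = ξ'
    · rw [if_pos ⟨rfl, hmax⟩]
      unfold G2 Cyc.pullFun
      rw [dif_pos rfl, if_pos (H.h2 ξ' hmax), ← mul_assoc]
      simp [mult]
    · rw [if_neg (fun h => hmax h.2)]
      unfold Cyc.pullFun
      rw [if_neg (fun h => hmax (H.h3 ξ' h)), zero_mul]
  have e2 : γ₂ x' = ∑ᶠ ξ' : X', (pullCycle p H.h3 α) ξ' *
      Cyc.divFun δ' ξ' (X'.residue ξ' (φ ξ') *
        (p.residueFieldMap ξ' (X.residue (p ξ') (w (p ξ'))))⁻¹) x' := by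
    rw [h₂]
    unfold Cyc.c1CapFun
    refine finsum_congr fun ξ' => ?_
    have hwt' : ∀ h' : ξ' ⤳ x',
        (((Scheme.Modules.pullback p).obj L).presheaf.stalkSpecializes h').hom
          (pgFun p L x' (t (p x'))) =
        (p.stalkMap ξ').hom (w (p ξ')) • pgFun p L ξ' (t (p ξ')) := by
      intro h'
      rw [pgFun_sp p L h', hwt (p ξ') (h'.map p.continuous), pgFun_smul]
    rw [secDivFun_eq_divFun δ' _ ξ' x' (ht' ξ') (ht' x') _ ((hw (p ξ')).map _) hwt' (u ξ') (φ ξ')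
      (hφ ξ') (hgu ξ'), hres]
    rfl
  have hsupp : ∀ g : (ξ' : X') → X'.residueField ξ',
      (Function.support fun ξ' => (pullCycle p H.h3 α) ξ' * Cyc.divFun δ' ξ' (g ξ') x').Finite := by
    intro g
    refine (Bivar.finite_support_specializes (pullCycle p H.h3 α) x').subset ?_
    intro ξ' hξ'
    rw [Function.mem_support] at hξ'
    refine ⟨?_, fun h0 => hξ' (by rw [h0, zero_mul])⟩
    by_contra hsp
    apply hξ'
    unfold Cyc.divFun
    rw [dif_neg (fun h => hsp h.1), mul_zero]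
  rw [Function.locallyFinsuppWithin.coe_sub, Pi.sub_apply, e1, e2,
    ← finsum_sub_distrib (hsupp _) (hsupp _)]
  refine finsum_congr fun ξ' => ?_
  have hP1 : p.residueFieldMap ξ' (X.residue (p ξ') (ψ (p ξ'))) ≠ 0 :=
    (map_ne_zero_iff _ (p.residueFieldMap ξ').hom.injective).mpr (hgv (p ξ'))
  have hP2 : p.residueFieldMap ξ' (X.residue (p ξ') (w (p ξ'))) ≠ 0 :=
    (map_ne_zero_iff _ (p.residueFieldMap ξ').hom.injective).mpr (hw0 (p ξ'))
  rw [hG, map_mul, map_inv₀, divFun_mul δ' ξ' _ _ hP1 (inv_ne_zero hP2),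
    divFun_mul δ' ξ' _ _ (hgu ξ') (inv_ne_zero hP2),
    divFun_mul δ' ξ' _ _ hP1 (inv_ne_zero (hgu ξ')), divFun_inv δ' ξ' _ (hgu ξ')]
  ring

end main

end Groth.Agent.Helper3.PullGen
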