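import Mathlib
import Groth.Prelude
import Groth.Agent.Helper3.PullGenB

/-!
# `c₁(L) ∩ α` does not depend on the rational sections, up to rational equivalence
-/

set_option autoImplicit false
set_option linter.style.haveILetI false
set_option linter.unusedSectionVars false
set_option linter.unusedVariables false
set_option linter.deprecated false
set_option linter.style.haveILetI false
set_option linter.unusedSectionVars false
set_option linter.unusedVariables false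

universe u

open CategoryTheory CategoryTheory.Limits AlgebraicGeometry TopologicalSpace Opposite

namespace Groth.Agent.Helper3.PullGen

open Groth.Agent.Helper3.SecOrd Groth.Agent.Lead.Ref1K Groth.Agent.Helper4.QAffSec

variable {X : Scheme.{u}}

/-- the finiteness of the support of the terms of `c₁(L) ∩ α` at a point -/
theorem finite_support_c1Cap_term (δ : X → ℤ) (α : AlgebraicCycle X ℤ) (M : X.Modules)
    (s : (ξ : X) → Cyc.secFibre M ξ) (x : X) :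
    (Function.support fun ξ => α ξ * Cyc.secDivFun δ M ξ (s ξ) x).Finite := by
  refine (Bivar.finite_support_specializes α x).subset ?_
  intro ξ hξ
  rw [Function.mem_support] at hξ
  refine ⟨?_, fun h0 => hξ (by rw [h0, zero_mul])⟩
  by_contra hsp
  apply hξ
  unfold Cyc.secDivFun
  rw [dif_neg (fun h => hsp h.1), mul_zero]

/-- **`c₁(L) ∩ α` is independent of the rational sections up to rational equivalence** -/
theorem c1Cap_indep (δ : X → ℤ) (L : X.Modules) (hL : PicF.IsInvertible L) (k : ℤ)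
    (α : AlgebraicCycle X ℤ) (hα : α ∈ Cyc.Zk X δ (k + 1))
    (s₁ : (ξ : X) → Cyc.secFibre L ξ) (hs₁ : ∀ ξ, s₁ ξ ≠ 0)
    (s₂ : (ξ : X) → Cyc.secFibre L ξ) (hs₂ : ∀ ξ, s₂ ξ ≠ 0)
    (γ₁ γ₂ : AlgebraicCycle X ℤ) (h₁ : ⇑γ₁ = Cyc.c1CapFun δ L ⇑α s₁)
    (h₂ : ⇑γ₂ = Cyc.c1CapFun δ L ⇑α s₂) : Cyc.RatEquiv δ k γ₁ γ₂ := by
  haveI : L.IsQuasicoherent := isQuasicoherent_of_isInvertible L hL
  choose t ht using fun y : X => fr1At_of_isInvertible L hL y
  choose φ₁ hφ₁ hg₁ using fun ξ => exists_coeff L ξ (t ξ) (ht ξ) (s₁ ξ) (hs₁ ξ)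
  choose φ₂ hφ₂ hg₂ using fun ξ => exists_coeff L ξ (t ξ) (ht ξ) (s₂ ξ) (hs₂ ξ)
  unfold Cyc.RatEquiv
  refine ratEquivZero_of_sum δ k α hα
    (fun ξ => X.residue ξ (φ₁ ξ) * (X.residue ξ (φ₂ ξ))⁻¹)
    (fun ξ => mul_ne_zero (hg₁ ξ) (inv_ne_zero (hg₂ ξ))) _ ?_
  intro x
  choose w hw hwt using fun ξ => exists_w L ξ x (ht ξ) (ht x)
  have hw0 : ∀ ξ, X.residue ξ (w ξ) ≠ 0 := fun ξ => residue_ne_zero_of_isUnit ξ (hw ξ)
  rw [Function.locallyFinsuppWithin.coe_sub, Pi.sub_apply, h₁, h₂]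
  unfold Cyc.c1CapFun
  rw [← finsum_sub_distrib (finite_support_c1Cap_term δ α L s₁ x)
    (finite_support_c1Cap_term δ α L s₂ x)]
  refine finsum_congr fun ξ => ?_
  rw [secDivFun_eq_divFun δ L ξ x (ht ξ) (ht x) (w ξ) (hw ξ) (hwt ξ) (s₁ ξ) (φ₁ ξ) (hφ₁ ξ) (hg₁ ξ),
    secDivFun_eq_divFun δ L ξ x (ht ξ) (ht x) (w ξ) (hw ξ) (hwt ξ) (s₂ ξ) (φ₂ ξ) (hφ₂ ξ) (hg₂ ξ),
    divFun_mul δ ξ _ _ (hg₁ ξ) (inv_ne_zero (hw0 ξ)),
    divFun_mul δ ξ _ _ (hg₂ ξ) (inv_ne_zero (hw0 ξ)),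
    divFun_mul δ ξ _ _ (hg₁ ξ) (inv_ne_zero (hg₂ ξ)), divFun_inv δ ξ _ (hg₂ ξ)]
  ring

theorem gysinChoice_ne_zero (L : X.Modules) (s : L.presheaf.obj (Opposite.op ⊤))
    (w : (ξ : X) → Cyc.secFibre L ξ) (hw : ∀ ξ, w ξ ≠ 0) (ξ : X) :
    Cyc.gysinChoice L s w ξ ≠ 0 := by
  unfold Cyc.gysinChoice
  split_ifs with h
  · exact h
  · exact hw ξ

end Groth.Agent.Helper3.PullGen
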