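import Mathlib
import Groth.Prelude
import Groth.Agent.Helper6.Dim1Ord

/-!
# The order of a rational function as a difference of colengths of colon ideals
-/

set_option autoImplicit false
set_option linter.style.haveILetI false
set_option linter.unusedSectionVars false
set_option linter.unusedVariables false
set_option linter.deprecated false
set_option linter.style.haveILetI false
set_option linter.unusedSectionVars false
set_option linter.unusedVariables false

universe u

namespace Groth.Agent.Helper3.DegZ

open Groth.Agent.Helper6.Dim1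

section Colon

variable (A : Type u) [CommRing A] {F : Type u} [Field F] [Algebra A F]

/-- the ideal of the `a` with `a f ∈ A` -/
def colonF (f : F) : Ideal A where
  carrier := {a | ∃ b : A, algebraMap A F b = algebraMap A F a * f}
  add_mem' := by
    rintro a a' ⟨b, hb⟩ ⟨b', hb'⟩
    exact ⟨b + b', by rw [map_add, map_add, hb, hb', add_mul]⟩
  zero_mem' := ⟨0, by simp⟩
  smul_mem' := by
    rintro c a ⟨b, hb⟩
    exact ⟨c * b, by rw [smul_eq_mul, map_mul, map_mul, hb, mul_assoc]⟩

variable {A}

theorem mem_colonF (f : F) (a : A) :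
    a ∈ colonF A f ↔ ∃ b : A, algebraMap A F b = algebraMap A F a * f := Iff.rfl

variable [IsDomain A] [IsFractionRing A F]

/-- the basic exact sequence `0 → A/(A : x/y) → A/yA → A/(x,y) → 0` -/
theorem length_quot_span_eq (x y : A) (hy : y ≠ 0) :
    Module.length A (A ⧸ Ideal.span {y}) =
      Module.length A (A ⧸ colonF A (algebraMap A F x / algebraMap A F y)) +
        Module.length A (A ⧸ Ideal.span {x, y}) := by
  have hy' : algebraMap A F y ≠ 0 := by
    rw [Ne, map_eq_zero_iff _ (IsFractionRing.injective A F)]; exact hy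
  have hinjF := IsFractionRing.injective A F
  -- the key equivalence
  have key : ∀ a : A, a ∈ colonF A (algebraMap A F x / algebraMap A F y) ↔
      a * x ∈ Ideal.span {y} := by
    intro a
    rw [mem_colonF, Ideal.mem_span_singleton']
    constructor
    · rintro ⟨b, hb⟩
      refine ⟨b, hinjF ?_⟩
      rw [map_mul, map_mul, hb]
      field_simp
    · rintro ⟨b, hb⟩
      refine ⟨b, ?_⟩
      have := congrArg (algebraMap A F) hb
      rw [map_mul, map_mul] at this
      field_simp
      exact this
  let m : A →ₗ[A] A := LinearMap.mulRight A x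
  have hm : ∀ a, m a = a * x := fun a => rfl
  have h1 : colonF A (algebraMap A F x / algebraMap A F y) ≤
      Submodule.comap m (Ideal.span {y}) := fun a ha => (key a).mp ha
  let φ := Submodule.mapQ (colonF A (algebraMap A F x / algebraMap A F y)) (Ideal.span {y}) m h1
  have h2 : (Ideal.span {y} : Ideal A) ≤ Submodule.comap (LinearMap.id : A →ₗ[A] A)
      (Ideal.span {x, y}) := by
    intro a ha
    exact Ideal.span_mono (by simp) ha
  let ψ := Submodule.mapQ (Ideal.span {y} : Ideal A) (Ideal.span {x, y}) LinearMap.id h2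
  have hφ : ∀ a : A, φ (Submodule.Quotient.mk a) = Submodule.Quotient.mk (a * x) := fun a => rfl
  have hψ : ∀ a : A, ψ (Submodule.Quotient.mk a) = Submodule.Quotient.mk a := fun a => rfl
  refine Module.length_eq_add_of_exact φ ψ ?_ ?_ ?_
  · rw [← LinearMap.ker_eq_bot, eq_bot_iff]
    intro t ht
    obtain ⟨a, rfl⟩ := Submodule.Quotient.mk_surjective _ t
    rw [LinearMap.mem_ker, hφ, Submodule.Quotient.mk_eq_zero] at ht
    rw [Submodule.mem_bot, Submodule.Quotient.mk_eq_zero]
    exact (key a).mpr ht
  · intro t
    obtain ⟨a, rfl⟩ := Submodule.Quotient.mk_surjective _ t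
    exact ⟨Submodule.Quotient.mk a, hψ a⟩
  · intro t
    obtain ⟨b, rfl⟩ := Submodule.Quotient.mk_surjective _ t
    rw [hψ, Submodule.Quotient.mk_eq_zero, Ideal.mem_span_pair]
    constructor
    · rintro ⟨a, c, hac⟩
      refine ⟨Submodule.Quotient.mk a, ?_⟩
      rw [hφ, Submodule.Quotient.eq, Ideal.mem_span_singleton']
      exact ⟨-c, by rw [← hac]; ring⟩
    · rintro ⟨s, hs⟩
      obtain ⟨a, rfl⟩ := Submodule.Quotient.mk_surjective _ s
      rw [hφ, Submodule.Quotient.eq, Ideal.mem_span_singleton'] at hs
      obtain ⟨c, hc⟩ := hs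
      exact ⟨a, -c, by linear_combination -hc⟩

variable [IsNoetherianRing A] [Ring.KrullDimLE 1 A]

theorem length_quot_span_ne_top (y : A) (hy : y ≠ 0) :
    Module.length A (A ⧸ Ideal.span {y}) ≠ ⊤ :=
  Ring.ord_ne_top (mem_nonZeroDivisors_of_ne_zero hy)

/-- **the order of a rational function as a difference of colengths** -/
theorem ordFrac_eq_sub (f : F) (hf : f ≠ 0) :
    Module.length A (A ⧸ colonF A f) ≠ ⊤ ∧ Module.length A (A ⧸ colonF A f⁻¹) ≠ ⊤ ∧
    CycAlg.ordFrac A F f = ((Module.length A (A ⧸ colonF A f⁻¹)).toNat : ℤ) -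
      ((Module.length A (A ⧸ colonF A f)).toNat : ℤ) := by
  obtain ⟨x, y, hy, rfl⟩ := IsFractionRing.div_surjective (A := A) f
  have hy0 : y ≠ 0 := nonZeroDivisors.ne_zero hy
  have hy' : algebraMap A F y ≠ 0 := by
    rw [Ne, map_eq_zero_iff _ (IsFractionRing.injective A F)]; exact hy0
  have hx' : algebraMap A F x ≠ 0 := fun h => hf (by rw [h, zero_div])
  have hx0 : x ≠ 0 := fun h => hx' (by rw [h, map_zero])
  have e1 := length_quot_span_eq (F := F) x y hy0
  have e2 := length_quot_span_eq (F := F) y x hx0
  rw [Set.pair_comm y x] at e2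
  have hinv : (algebraMap A F x / algebraMap A F y)⁻¹ = algebraMap A F y / algebraMap A F x :=
    inv_div _ _
  rw [hinv]
  have f1 := length_quot_span_ne_top y hy0
  have f2 := length_quot_span_ne_top x hx0
  have g1 : Module.length A (A ⧸ colonF A (algebraMap A F x / algebraMap A F y)) ≠ ⊤ := by
    intro h; rw [h, top_add] at e1; exact f1 e1
  have g2 : Module.length A (A ⧸ colonF A (algebraMap A F y / algebraMap A F x)) ≠ ⊤ := by
    intro h; rw [h, top_add] at e2; exact f2 e2
  have g3 : Module.length A (A ⧸ Ideal.span {x, y}) ≠ ⊤ := by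
    intro h; rw [h, add_top] at e1; exact f1 e1
  refine ⟨g1, g2, ?_⟩
  have hmul : algebraMap A F x / algebraMap A F y * algebraMap A F y = algebraMap A F x := by
    field_simp
  have h3 := ordFrac_mul (R := A) (K := F) hf hy'
  rw [hmul, ordFrac_algebraMap hx0, ordFrac_algebraMap hy0] at h3
  have t1 := congrArg ENat.toNat e1
  have t2 := congrArg ENat.toNat e2
  rw [ENat.toNat_add g1 g3] at t1
  rw [ENat.toNat_add g2 g3] at t2
  omega

end Colon

end Groth.Agent.Helper3.DegZ
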