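import Mathlib

/-!
# Colon subobjects for an automorphism of an overobject
-/

set_option autoImplicit false
set_option linter.style.haveILetI false
set_option linter.unusedSectionVars false
set_option linter.unusedVariables false
set_option linter.deprecated false
set_option linter.style.haveILetI false
set_option linter.unusedSectionVars false
set_option linter.unusedVariables false

universe u

namespace Groth.Agent.Helper3.DegZ

open CategoryTheory CategoryTheory.Limits

variable {C : Type*} [Category C] [Abelian C] {O R : C} (ι : O ⟶ R) [Mono ι]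

/-- the map whose kernel is the subobject of the `a` with `ν a ∈ O` -/
noncomputable def colMap (ν : R ⟶ R) : O ⟶ cokernel ι := ι ≫ ν ≫ cokernel.π ι

/-- `ν` maps the colon subobject into `O` -/
noncomputable def colTo (ν : R ⟶ R) : kernel (colMap ι ν) ⟶ O :=
  Abelian.monoLift ι (kernel.ι (colMap ι ν) ≫ ι ≫ ν) (by
    have := kernel.condition (colMap ι ν)
    simpa [colMap, Category.assoc] using this)

theorem colTo_comp (ν : R ⟶ R) : colTo ι ν ≫ ι = kernel.ι (colMap ι ν) ≫ ι ≫ ν :=
  Abelian.monoLift_comp _ _ _

/-- the comparison map between colon subobjects of mutually inverse endomorphisms -/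
noncomputable def colonHom (ν ν' : R ⟶ R) (h : ν ≫ ν' = 𝟙 R) :
    kernel (colMap ι ν) ⟶ kernel (colMap ι ν') :=
  kernel.lift (colMap ι ν') (colTo ι ν) (by
    have e : colMap ι ν' = ι ≫ ν' ≫ cokernel.π ι := rfl
    rw [e, ← Category.assoc, colTo_comp, Category.assoc, Category.assoc, reassoc_of% h,
      cokernel.condition, comp_zero])

theorem colonHom_ι (ν ν' : R ⟶ R) (h : ν ≫ ν' = 𝟙 R) :
    colonHom ι ν ν' h ≫ kernel.ι (colMap ι ν') = colTo ι ν :=
  kernel.lift_ι _ _ _

theorem colonHom_comp (ν ν' : R ⟶ R) (h : ν ≫ ν' = 𝟙 R) (h' : ν' ≫ ν = 𝟙 R) :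
    colonHom ι ν ν' h ≫ colonHom ι ν' ν h' = 𝟙 _ := by
  rw [← cancel_mono (kernel.ι (colMap ι ν)), ← cancel_mono ι, Category.assoc, Category.assoc,
    ← Category.assoc (colonHom ι ν' ν h'), colonHom_ι, colTo_comp, ← Category.assoc,
    ← Category.assoc, colonHom_ι, Category.assoc, ← Category.assoc (colTo ι ν), colTo_comp,
    Category.assoc, Category.assoc, h, Category.comp_id, Category.id_comp]

/-- **the two colon subobjects are isomorphic** -/
noncomputable def colonIso (μ : R ≅ R) : kernel (colMap ι μ.hom) ≅ kernel (colMap ι μ.inv) where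
  hom := colonHom ι μ.hom μ.inv μ.hom_inv_id
  inv := colonHom ι μ.inv μ.hom μ.inv_hom_id
  hom_inv_id := colonHom_comp ι _ _ _ _
  inv_hom_id := colonHom_comp ι _ _ _ _

end Groth.Agent.Helper3.DegZ
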