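import Mathlib
import Groth.Prelude
import Groth.Agent.Lead.RatSh
import Groth.Agent.Lead.Hartogs2
import Groth.Agent.Helper4.Scalar
import Groth.Agent.Helper4.SN98
import Groth.Agent.Helper4.SN92

/-!
# The stalks of the sheaf of rational functions, and multiplication by a rational function
-/

set_option autoImplicit false
set_option linter.style.haveILetI false
set_option linter.unusedSectionVars false
set_option linter.unusedVariables false
set_option linter.deprecated false
set_option linter.style.haveILetI false
set_option linter.unusedSectionVars false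
set_option linter.unusedVariables false

universe u

open CategoryTheory CategoryTheory.Limits AlgebraicGeometry TopologicalSpace Opposite

namespace Groth.Agent.Helper3.DegZ

open Groth.Agent.Lead.RatSh Groth.Agent.Helper4 Groth.Agent.Helper4.StalkDict

variable {X : Scheme.{u}} [IsIntegral X]

/-- the canonical map from the function field to the stalk of the sheaf of rational functions -/
noncomputable def th (x : X) (c : KK X) : (ratMod X).presheaf.stalk x :=
  (ratMod X).presheaf.germ ⊤ x trivial (ofFn' (kap ⊤ c))

theorem th_eq (x : X) {U : X.Opens} (hx : x ∈ U) (c : KK X) :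
    th x c = (ratMod X).presheaf.germ U x hx (ofFn' (kap U c)) := by
  unfold th
  rw [← TopCat.Presheaf.germ_res_apply (ratMod X).presheaf (homOfLE (le_top : U ≤ ⊤)) _ hx,
    res_kap]

theorem th_add (x : X) (c d : KK X) : th x (c + d) = th x c + th x d := by
  unfold th
  rw [map_add]
  exact map_add _ _ _

theorem th_zero (x : X) : th x (0 : KK X) = 0 := by
  unfold th
  rw [map_zero]
  exact map_zero _

theorem th_injective (x : X) : Function.Injective (th (X := X) x) := by
  intro c d h
  have h0 : th x (c - d) = 0 := by
    have := th_add x (c - d) d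
    rw [sub_add_cancel, h] at this
    exact (add_eq_right.mp this.symm)
  exact sub_eq_zero.mp (germ_kap_eq_zero (U := ⊤) x trivial _ h0)

theorem th_surjective (x : X) : Function.Surjective (th (X := X) x) := by
  intro m
  obtain ⟨U, hx, t, rfl⟩ := TopCat.Presheaf.exists_germ_eq (ratMod X).presheaf m
  obtain ⟨c, rfl⟩ := exists_kap (generic_mem x hx) t
  exact ⟨c, th_eq x hx c⟩

theorem th_smul (x : X) (a : X.presheaf.stalk x) (c : KK X) :
    th x (algebraMap (X.presheaf.stalk x) X.functionField a * c) = a • th x c := by
  obtain ⟨U, hx, a₀, rfl⟩ := TopCat.Presheaf.exists_germ_eq X.presheaf a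
  have hη := generic_mem x hx
  have e : algebraMap (X.presheaf.stalk x) X.functionField (X.presheaf.germ U x hx a₀) =
      X.presheaf.germ U (genericPoint X) hη a₀ := by
    rw [RingHom.algebraMap_toAlgebra]
    exact TopCat.Presheaf.germ_stalkSpecializes_apply X.presheaf hx
      ((genericPoint_spec X).specializes trivial) a₀
  rw [th_eq x hx, th_eq x hx, ← StalkDict.germ_smul, smul_kap hη, e]

/-- the canonical map as a linear equivalence -/
noncomputable def thEquiv (x : X) : X.functionField ≃ₗ[X.presheaf.stalk x]
    (ratMod X).presheaf.stalk x :=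
  LinearEquiv.ofBijective
    { toFun := th x
      map_add' := th_add x
      map_smul' := fun a c => by
        rw [Algebra.smul_def]
        exact th_smul x a c }
    ⟨th_injective x, th_surjective x⟩

theorem thEquiv_apply (x : X) (c : X.functionField) : thEquiv x c = th x c := rfl

/-- the inclusion of the structure sheaf into the sheaf of rational functions -/
noncomputable abbrev io (X : Scheme.{u}) [IsIntegral X] : Coh.structureModule X ⟶ ratMod X :=
  ClSub.unitToPush (xi X)

theorem stalkLin_io (x : X) (a : X.presheaf.stalk x) :
    stalkLin (io X) x (Groth.Agent.Lead.Hartogs2.unitEquiv x a) =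
      th x (algebraMap (X.presheaf.stalk x) X.functionField a) := by
  obtain ⟨U, hx, a₀, rfl⟩ := TopCat.Presheaf.exists_germ_eq X.presheaf a
  have hη := generic_mem x hx
  rw [Groth.Agent.Helper4.SN.unitEquiv_germ, th_eq x hx]
  unfold Groth.Agent.Lead.WeakAss.germF
  rw [StalkExact.stalkLin_germ]
  congr 1
  have h1 : (io X).app U (Groth.Agent.Lead.WeakAss.toF U a₀) = ofFn' ((xi X).app U a₀) := rfl
  have e : algebraMap (X.presheaf.stalk x) X.functionField (X.presheaf.germ U x hx a₀) =
      X.presheaf.germ U (genericPoint X) hη a₀ := by
    rw [RingHom.algebraMap_toAlgebra]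
    exact TopCat.Presheaf.germ_stalkSpecializes_apply X.presheaf hx
      ((genericPoint_spec X).specializes trivial) a₀
  rw [h1, xi_app hη, e]

/-- a rational function as a global function on the spectrum of the function field -/
noncomputable def gl (f : KK X) : Γ(Spec (KK X), ⊤) := (Scheme.ΓSpecIso (KK X)).inv f

theorem gl_mul (f g : KK X) : gl (f * g) = gl f * gl g := map_mul _ _ _

theorem gl_one : gl (1 : KK X) = 1 := map_one _

/-- multiplication by a rational function on the sheaf of rational functions -/
noncomputable def mu (f : KK X) : ratMod X ⟶ ratMod X :=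
  (Scheme.Modules.pushforward (xi X)).map
    (Scalar.scalar (gl f) (Coh.structureModule (Spec (KK X))))

theorem mu_comp (f g : KK X) : mu f ≫ mu g = mu (g * f) := by
  unfold mu
  rw [← Functor.map_comp, gl_mul, SN.scalar_mul]

theorem mu_one : mu (1 : KK X) = 𝟙 (ratMod X) := by
  unfold mu
  rw [gl_one, SN.scalar_one, CategoryTheory.Functor.map_id]

/-- multiplication by a nonzero rational function as an automorphism -/
noncomputable def muIso (f : KK X) (hf : f ≠ 0) : ratMod X ≅ ratMod X where
  hom := mu f
  inv := mu f⁻¹
  hom_inv_id := by rw [mu_comp, inv_mul_cancel₀ hf, mu_one]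
  inv_hom_id := by rw [mu_comp, mul_inv_cancel₀ hf, mu_one]

theorem mu_app_kap (f c : KK X) (U : X.Opens) :
    (mu f).app U (ofFn' (kap U c)) = ofFn' (kap U (f * c)) := by
  have h1 : (mu f).app U (ofFn' (kap U c)) =
      ofFn' (Scalar.res (gl f) (xi X ⁻¹ᵁ U) * kap U c) := rfl
  rw [h1, map_mul]
  rfl

theorem stalkLin_mu (x : X) (f c : KK X) : stalkLin (mu f) x (th x c) = th x (f * c) := by
  unfold th
  rw [StalkExact.stalkLin_germ, mu_app_kap]

end Groth.Agent.Helper3.DegZ
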