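import Mathlib
import Groth.Prelude
import Groth.Agent.Helper3.DegZA
import Groth.Agent.Helper3.DegZB
import Groth.Agent.Helper3.DegZC
import Groth.Agent.Helper4.SN17
import Groth.Agent.Helper4.AssMono
import Groth.Agent.Lead.StalkNhd
import Groth.Agent.Helper5.ConstrCurve

/-!
# The colon subsheaves of a rational function and their stalks
-/

set_option autoImplicit false
set_option linter.style.haveILetI false
set_option linter.unusedSectionVars false
set_option linter.unusedVariables false
set_option linter.deprecated false
set_option linter.style.haveILetI false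
set_option linter.unusedSectionVars false
set_option linter.unusedVariables false

universe u

open CategoryTheory CategoryTheory.Limits AlgebraicGeometry TopologicalSpace Opposite

namespace Groth.Agent.Helper3.DegZ

open Groth.Agent.Lead.RatSh Groth.Agent.Helper4 Groth.Agent.Helper4.StalkDict
open Groth.Agent.Lead.Hartogs2 (unitEquiv)
open Groth.Agent.Lead.StalkNhd (stalkLin_comp)

variable {X : Scheme.{u}} [IsIntegral X]

theorem algebraMap_injective (x : X) :
    Function.Injective (algebraMap (X.presheaf.stalk x) X.functionField) :=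
  IsFractionRing.injective _ _

instance mono_io : Mono (io X) := by
  apply AssMono.mono_of_stalkLin_injective
  intro x
  rw [injective_iff_map_eq_zero]
  intro m hm
  obtain ⟨a, rfl⟩ := (unitEquiv x).surjective m
  rw [stalkLin_io, ← th_zero x] at hm
  have h1 := th_injective x hm
  rw [← map_zero (algebraMap (X.presheaf.stalk x) X.functionField)] at h1
  rw [algebraMap_injective x h1, map_zero]

/-- the map `O_X → K_X / O_X`, `a ↦ f a` -/
noncomputable abbrev cm (f : KK X) : Coh.structureModule X ⟶ cokernel (io X) :=
  colMap (io X) (mu f)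

/-- the subsheaf of the `a` with `f a ∈ O_X` -/
noncomputable abbrev colSub (f : KK X) : X.Modules := kernel (cm f)

/-- the quotient of the structure sheaf by the colon subsheaf -/
noncomputable abbrev colQuot (f : KK X) : X.Modules := cokernel (kernel.ι (cm f))

theorem stalkLin_cm_eq_zero_iff (x : X) (f : KK X) (a : X.presheaf.stalk x) :
    stalkLin (cm f) x (unitEquiv x a) = 0 ↔ a ∈ colonF (X.presheaf.stalk x) (F := X.functionField) f := by
  have e : cm f = io X ≫ mu f ≫ cokernel.π (io X) := rfl
  rw [e, stalkLin_comp, stalkLin_comp, stalkLin_io, stalkLin_mu]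
  have hex := StalkExact.stalkLin_exact
    (ShortComplex.mk (io X) (cokernel.π (io X)) (cokernel.condition _))
    (ShortComplex.exact_cokernel _) x
  rw [hex _, mem_colonF]
  constructor
  · rintro ⟨m, hm⟩
    obtain ⟨b, rfl⟩ := (unitEquiv x).surjective m
    change stalkLin (io X) x (unitEquiv x b) = _ at hm
    rw [stalkLin_io] at hm
    refine ⟨b, ?_⟩
    rw [th_injective x hm, mul_comm]
  · rintro ⟨b, hb⟩
    refine ⟨unitEquiv x b, ?_⟩
    change stalkLin (io X) x (unitEquiv x b) = _
    rw [stalkLin_io, hb, mul_comm]

theorem len_colQuot (x : X) (f : KK X) :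
    SN.len (colQuot f) x =
      Module.length (X.presheaf.stalk x)
        (X.presheaf.stalk x ⧸ colonF (X.presheaf.stalk x) (F := X.functionField) f) := by
  let k := kernel.ι (cm f)
  let q := cokernel.π k
  let g : X.presheaf.stalk x →ₗ[X.presheaf.stalk x] (colQuot f).presheaf.stalk x :=
    (stalkLin q x).comp (unitEquiv x).toLinearMap
  have hg : ∀ a, g a = stalkLin q x (unitEquiv x a) := fun a => rfl
  have hsurj : Function.Surjective g :=
    (EpiStalk.stalkLin_surjective_of_epi q x).comp (unitEquiv x).surjective
  have hex1 := StalkExact.stalkLin_exact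
    (ShortComplex.mk k q (cokernel.condition _)) (ShortComplex.exact_cokernel _) x
  have hex2 := StalkExact.stalkLin_exact
    (ShortComplex.mk k (cm f) (kernel.condition _)) (ShortComplex.exact_kernel _) x
  have hker : LinearMap.ker g = colonF (X.presheaf.stalk x) (F := X.functionField) f := by
    ext a
    rw [LinearMap.mem_ker, hg, ← stalkLin_cm_eq_zero_iff, hex1 _, ← hex2 _]
  unfold SN.len
  rw [← (LinearMap.quotKerEquivOfSurjective g hsurj).length_eq]
  exact (Submodule.quotEquivOfEq _ _ hker).length_eq

theorem colonF_generic (x : X) (hx : x = genericPoint X) (f : KK X) :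
    colonF (X.presheaf.stalk x) (F := X.functionField) f = ⊤ := by
  rw [Ideal.eq_top_iff_one, mem_colonF]
  have hfield : IsField (X.presheaf.stalk x) := by
    rw [hx]
    exact Field.toIsField X.functionField
  have hs : Function.Surjective (algebraMap (X.presheaf.stalk x) X.functionField) :=
    IsFractionRing.surjective_iff_isField.mpr hfield
  obtain ⟨b, hb⟩ := hs f
  exact ⟨b, by rw [hb, map_one, one_mul]⟩

theorem generic_notMem_support (f : KK X) :
    genericPoint X ∉ CohB1.support (colQuot f) := by
  rw [← SN.len_eq_zero_iff, len_colQuot, Module.length_eq_zero_iff]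
  exact Ideal.Quotient.subsingleton_iff.mpr (colonF_generic _ rfl f)

/-- a set of closed points has dimension `< 1` -/
theorem dimLT_one_of_forall_isClosed (S : Set X) (hS : ∀ x ∈ S, IsClosed ({x} : Set X)) :
    SN.DimLT S 1 := by
  intro T hT
  obtain ⟨ξ, hξ⟩ := QuasiSober.sober T.isIrreducible T.isClosed
  have hξT : ξ ∈ (T : Set X) := hξ.mem
  have hT' : (T : Set X) = {ξ} := by
    rw [← hξ.def, (hS ξ (hT hξT)).closure_eq]
  have hmin : IsMin T := by
    intro T' hT'le
    intro y hy
    have hy' : y ∈ (T : Set X) := hy
    obtain ⟨z, hz⟩ := T'.isIrreducible.nonempty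
    have hz' : z ∈ (T : Set X) := hT'le hz
    rw [hT'] at hz' hy'
    rw [Set.mem_singleton_iff] at hz' hy'
    rw [hy', ← hz']
    exact hz
  rw [Order.height_eq_zero.mpr hmin]
  exact_mod_cast zero_lt_one

theorem dimLT_support_colQuot [NoetherianSpace X] (hdim : topologicalKrullDim X = 1) (f : KK X) :
    SN.DimLT (CohB1.support (colQuot f)) 1 := by
  apply dimLT_one_of_forall_isClosed
  intro x hx
  apply Groth.Agent.Helper5.ConstrCurve.isClosed_singleton_of_ne hdim.le x
  rintro rfl
  exact generic_notMem_support f hx

/-- the two colon subsheaves are isomorphic -/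
noncomputable def colSubIso (f : KK X) (hf : f ≠ 0) : colSub f ≅ colSub f⁻¹ :=
  colonIso (io X) (muIso f hf)

end Groth.Agent.Helper3.DegZ
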