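import Mathlib
import Groth.Prelude
import Groth.Agent.Helper3.DegZD
import Groth.Agent.Helper4.SN32
import Groth.Agent.Helper4.SN88
import Groth.Agent.Helper4.BddFib3

/-!
# The Euler characteristic of a coherent module with zero-dimensional support
-/

set_option autoImplicit false
set_option linter.style.haveILetI false
set_option linter.unusedSectionVars false
set_option linter.unusedVariables false
set_option linter.deprecated false
set_option linter.style.haveILetI false
set_option linter.unusedSectionVars false
set_option linter.unusedVariables false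

universe u

open CategoryTheory CategoryTheory.Limits AlgebraicGeometry TopologicalSpace Opposite

namespace Groth.Agent.Helper3.DegZ

open Groth.Agent.Helper4 Groth.Agent.Helper4.SN

attribute [local instance] Curv2.resAlgebra

section Top

variable {X : Scheme.{u}}

theorem topPt_zero_of_isClosed (x : X) (hx : IsClosed ({x} : Set X)) : TopPt 0 x := by
  rw [topPt_iff]
  have hmin : IsMin (irrCl x) := by
    intro T' hT'le y hy
    have hy' : y ∈ closure ({x} : Set X) := hy
    obtain ⟨z, hz⟩ := T'.isIrreducible.nonempty
    have hz' : z ∈ closure ({x} : Set X) := hT'le hz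
    rw [hx.closure_eq, Set.mem_singleton_iff] at hz' hy'
    rw [hy', ← hz']
    exact hz
  rw [Order.height_eq_zero.mpr hmin]
  rfl

theorem topPt_zero_iff_isClosed (x : X) : TopPt 0 x ↔ IsClosed ({x} : Set X) := by
  constructor
  · intro h
    rw [← closure_singleton_of_topPt_zero x h]
    exact isClosed_closure
  · exact topPt_zero_of_isClosed x

/-- a set of closed points has dimension `< 1` -/
theorem dimLT_one_of_forall_isClosed' (S : Set X) (hS : ∀ x ∈ S, IsClosed ({x} : Set X)) :
    SN.DimLT S 1 := by
  intro T hT
  obtain ⟨ξ, hξ⟩ := QuasiSober.sober T.isIrreducible T.isClosed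
  have hξT : ξ ∈ (T : Set X) := hξ.mem
  have hT' : (T : Set X) = {ξ} := by
    rw [← hξ.def, (hS ξ (hT hξT)).closure_eq]
  have hmin : IsMin T := by
    intro T' hT'le
    intro y hy
    have hy' : y ∈ (T : Set X) := hy
    obtain ⟨z, hz⟩ := T'.isIrreducible.nonempty
    have hz' : z ∈ (T : Set X) := hT'le hz
    rw [hT'] at hz' hy'
    rw [Set.mem_singleton_iff] at hz' hy'
    rw [hy', ← hz']
    exact hz
  rw [Order.height_eq_zero.mpr hmin]
  exact_mod_cast zero_lt_one

end Top

section ResDeg

/-- the residue degree over a field, in terms of the algebra structure of the residue field -/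
theorem residueDegree_eq_finrank (k : Type u) [Field k] (X : Scheme.{u})
    [X.Over (Spec (CommRingCat.of k))] (x : X) :
    (X ↘ Spec (CommRingCat.of k)).residueDegree x = Module.finrank k (X.residueField x) := by
  set p := X ↘ Spec (CommRingCat.of k) with hp
  unfold Scheme.Hom.residueDegree
  letI := (p.residueFieldMap x).hom.toAlgebra
  let e : k →+* (Spec (CommRingCat.of k)).residueField (p x) :=
    ((Scheme.ΓSpecIso (CommRingCat.of k)).inv ≫ (Spec (CommRingCat.of k)).Γevaluation (p x)).hom
  have he : Function.Bijective e := by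
    refine ⟨RingHom.injective e, ?_⟩
    have s1 : Function.Surjective (Scheme.ΓSpecIso (CommRingCat.of k)).inv.hom :=
      (ConcreteCategory.bijective_of_isIso (Scheme.ΓSpecIso (CommRingCat.of k)).inv).2
    haveI : IsArtinianRing (CommRingCat.of k) := inferInstanceAs (IsArtinianRing k)
    have s2 := Groth.Agent.Helper4.BddFib3.Γevaluation_surjective_Spec (CommRingCat.of k) (p x)
    intro c
    obtain ⟨b, rfl⟩ := s2 c
    obtain ⟨a, rfl⟩ := s1 b
    exact ⟨a, rfl⟩
  let i : k ≃+* (Spec (CommRingCat.of k)).residueField (p x) := RingEquiv.ofBijective e he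
  symm
  refine Algebra.finrank_eq_of_equiv_equiv i (RingEquiv.refl _) ?_
  ext c
  have hn := Scheme.Γevaluation_naturality_apply p x ((Scheme.ΓSpecIso (CommRingCat.of k)).inv c)
  exact hn

end ResDeg

section Chi

variable (k : Type u) [Field k] {X : Scheme.{u}} [X.Over (Spec (CommRingCat.of k))]
  [IsProper (X ↘ (Spec (CommRingCat.of k)))]

/-- the Euler characteristic of the residue field of a closed point -/
theorem chi_redMod (ξ : X) (hξ : TopPt 0 ξ) :
    chi k X (redMod ξ) = (Module.finrank k (X.residueField ξ) : ℤ) := by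
  haveI := Groth.Agent.Helper4.NApx82.isNoetherian_of_proper k X
  have hcl := closure_singleton_of_topPt_zero ξ hξ
  have hx : IsClosed ({ξ} : Set X) := by
    rw [← hcl]; exact isClosed_closure
  have hY : (⟨closure ({ξ} : Set X), isClosed_closure⟩ : Closeds X) = ⟨{ξ}, hx⟩ :=
    Closeds.ext hcl
  have hsupp : CohB1.support (redMod ξ) ⊆ {ξ} := by
    refine (support_quotMod_subset (Scheme.IdealSheafData.vanishingIdeal
      (⟨closure ({ξ} : Set X), isClosed_closure⟩ : Closeds X))).trans ?_
    rw [Scheme.IdealSheafData.coe_support_vanishingIdeal]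
    exact hcl.le
  have hdim : DimLT (CohB1.support (redMod ξ)) 1 := by
    apply dimLT_one_of_forall_isClosed'
    intro y hy
    rw [Set.mem_singleton_iff.mp (hsupp hy)]
    exact hx
  rw [chi_eq_h0_of_dimLT_one k (redMod ξ) (isCoh_quotMod _) hdim]
  unfold redMod
  rw [hY, finrank_h0_quotMod_point k ξ hx]

/-- **the Euler characteristic of a coherent module with zero-dimensional support** -/
theorem chi_eq_Psi_zero (F : X.Modules) (hF : Coh.IsCoh F)
    (hdim : DimLT (CohB1.support F) 1) :
    FinM 0 F ∧ chi k X F =
      Psi (fun ξ : X => (Module.finrank k (X.residueField ξ) : ℤ)) 0 F := by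
  haveI := Groth.Agent.Helper4.NApx82.isNoetherian_of_proper k X
  have hcl : IsClosed (CohB1.support F) := Groth.Agent.S0020.result _ _ hF.2
  have hX' : DimLT ((⟨CohB1.support F, hcl⟩ : Closeds X) : Set X) (0 + 1) := hdim
  have hsmall : ∀ F : X.Modules, Coh.IsCoh F → DimLT (CohB1.support F) 0 →
      chi k X F ∈ (⊥ : AddSubgroup ℤ) := by
    intro G hG hdim
    rw [AddSubgroup.mem_bot]
    apply chi_of_isZero
    apply Groth.Agent.Helper9.SkyMod5.isZero_of_stalks
    intro x
    have hclG : IsClosed (CohB1.support G) := Groth.Agent.S0020.result _ _ hG.2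
    have hx : x ∉ CohB1.support G := by
      intro hx
      have h1 : ((irrCl x : IrreducibleCloseds X) : Set X) ⊆ CohB1.support G :=
        closure_minimal (Set.singleton_subset_iff.mpr hx) hclG
      exact absurd (hdim (irrCl x) h1) (by simp)
    have h2 : Subsingleton (G.presheaf.stalk x) := not_not.mp hx
    exact @ModuleCat.isZero_of_subsingleton _ _ ((Groth.Agent.Helper9.SkyMod4.St x).obj G) h2
  have hK := mult_devissage (⊥ : AddSubgroup ℤ) (fun F => chi k X F)
    (fun ξ : X => (Module.finrank k (X.residueField ξ) : ℤ)) 0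
    (fun e => chi_iso k e)
    (fun S hS h1 h2 h3 => chi_add k S hS h1 h2 h3)
    (fun F hF => chi_of_isZero k hF) hsmall
    (fun ξ hξ => by
      rw [AddSubgroup.mem_bot, sub_eq_zero]
      exact chi_redMod k ξ hξ)
    ⟨CohB1.support F, hcl⟩ hX' F hF (le_refl _)
  obtain ⟨hfin, hmem⟩ := hK
  rw [AddSubgroup.mem_bot, sub_eq_zero] at hmem
  exact ⟨hfin, hmem⟩

end Chi

end Groth.Agent.Helper3.DegZ
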