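import Mathlib
import Groth.Prelude
import Groth.Agent.Helper3.DegZE
import Groth.Agent.Helper3.CurveFlat
import Groth.Agent.Helper2.CohQ1

/-!
# The degree of a principal divisor on a proper integral curve is zero (S1860)
-/

set_option autoImplicit false
set_option linter.style.haveILetI false
set_option linter.unusedSectionVars false
set_option linter.unusedVariables false
set_option linter.deprecated false
set_option linter.style.haveILetI false
set_option linter.unusedSectionVars false
set_option linter.unusedVariables false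

universe u

open CategoryTheory CategoryTheory.Limits AlgebraicGeometry TopologicalSpace Opposite

namespace Groth.Agent.Helper3.DegZ

open Groth.Agent.Lead.RatSh Groth.Agent.Helper4 Groth.Agent.Helper4.SN

attribute [local instance] Curv2.resAlgebra

section Coh0

variable {X : Scheme.{u}} [IsIntegral X]

theorem isCoh_unit : Coh.IsCoh (Coh.structureModule X) :=
  Groth.Agent.Helper1.SerreFin.isCoh_of_isInvertible _ TensorInv.isInvertible_structureModule

/-- the short exact sequence `0 → (O : f) → O → O/(O : f) → 0` -/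
noncomputable def colSC (f : KK X) : ShortComplex X.Modules :=
  ShortComplex.mk (kernel.ι (cm f)) (cokernel.π (kernel.ι (cm f))) (cokernel.condition _)

theorem colSC_shortExact (f : KK X) : (colSC f).ShortExact :=
  { exact := ShortComplex.exact_cokernel _
    mono_f := inferInstanceAs (Mono (kernel.ι (cm f)))
    epi_g := inferInstanceAs (Epi (cokernel.π (kernel.ι (cm f)))) }

end Coh0

section Coh

variable (k : Type u) [Field k] {X : Scheme.{u}} [IsIntegral X] [X.Over (Spec (CommRingCat.of k))]
  [IsProper (X ↘ (Spec (CommRingCat.of k)))]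

include k

theorem isQuasicoherent_ratMod : (ratMod X).IsQuasicoherent := by
  haveI : QuasiSeparatedSpace X :=
    quasiSeparatedSpace_of_quasiSeparated (X ↘ (Spec (CommRingCat.of k)))
  haveI : (Coh.structureModule (Spec (KK X))).IsQuasicoherent :=
    (Groth.Agent.Helper1.SerreFin.isCoh_of_isInvertible _
      TensorInv.isInvertible_structureModule).1
  exact QcohGlue.isQuasicoherent_pushforward (xi X) _

theorem isCoh_colSub (f : KK X) : Coh.IsCoh (colSub f) := by
  haveI := Groth.Agent.Helper4.NApx82.isNoetherian_of_proper k X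
  haveI : (Coh.structureModule X).IsQuasicoherent := (isCoh_unit (X := X)).1
  haveI := isQuasicoherent_ratMod k (X := X)
  haveI : (cokernel (io X)).IsQuasicoherent := QcohLimits.isQuasicoherent_cokernel (io X)
  exact Groth.Agent.Helper2.CohQ1.isCoh_of_mono (kernel.ι (cm f))
    (QcohLimits.isQuasicoherent_kernel (cm f)) isCoh_unit

theorem isCoh_colQuot (f : KK X) : Coh.IsCoh (colQuot f) := by
  haveI : (Coh.structureModule X).IsQuasicoherent := (isCoh_unit (X := X)).1
  haveI : (colSub f).IsQuasicoherent := (isCoh_colSub k f).1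
  exact Groth.Agent.Helper2.CohQ1.isCoh_of_epi (cokernel.π (kernel.ι (cm f))) isCoh_unit
    (QcohLimits.isQuasicoherent_cokernel (kernel.ι (cm f)))

theorem chi_colQuot_eq (f : KK X) (hf : f ≠ 0) :
    chi k X (colQuot f) = chi k X (colQuot f⁻¹) := by
  have h1 := chi_add k (colSC f) (colSC_shortExact f) (isCoh_colSub k f) isCoh_unit
    (isCoh_colQuot k f)
  have h2 := chi_add k (colSC f⁻¹) (colSC_shortExact f⁻¹) (isCoh_colSub k f⁻¹) isCoh_unit
    (isCoh_colQuot k f⁻¹)
  have h3 := chi_iso k (colSubIso f hf)
  change chi k X (Coh.structureModule X) = chi k X (colSub f) + chi k X (colQuot f) at h1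
  change chi k X (Coh.structureModule X) = chi k X (colSub f⁻¹) + chi k X (colQuot f⁻¹) at h2
  linarith

end Coh

section Main

/-- **S1860** -/
theorem main (K : Type u) [Field K] (X : Scheme.{u}) [IsIntegral X]
    (c : X ⟶ Spec (CommRingCat.of K)) [IsProper c] (hdim : topologicalKrullDim X = 1)
    (f : X.functionField) (hf : f ≠ 0) :
    ∑ᶠ (x : X) (_ : IsClosed ({x} : Set X)), (c.residueDegree x : ℤ) *
      CycAlg.ordFrac (X.presheaf.stalk x) X.functionField f = 0 := by
  classical
  letI : X.Over (Spec (CommRingCat.of K)) := ⟨c⟩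
  haveI : IsProper (X ↘ (Spec (CommRingCat.of K))) := ‹IsProper c›
  haveI := Groth.Agent.Helper4.NApx82.isNoetherian_of_proper K X
  have hfi : f⁻¹ ≠ 0 := inv_ne_zero hf
  obtain ⟨hfin1, hchi1⟩ := chi_eq_Psi_zero K (colQuot f) (isCoh_colQuot K f)
    (dimLT_support_colQuot hdim f)
  obtain ⟨hfin2, hchi2⟩ := chi_eq_Psi_zero K (colQuot f⁻¹) (isCoh_colQuot K f⁻¹)
    (dimLT_support_colQuot hdim f⁻¹)
  have hchi := chi_colQuot_eq K f hf
  set d : X → ℤ := fun ξ => (Module.finrank K (X.residueField ξ) : ℤ) with hd
  set g₁ : X → ℤ := fun ξ => if TopPt 0 ξ then (len (colQuot f) ξ).toNat • d ξ else 0 with hg₁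
  set g₂ : X → ℤ := fun ξ => if TopPt 0 ξ then (len (colQuot f⁻¹) ξ).toNat • d ξ else 0 with hg₂
  have hs1 : (Function.support g₁).Finite := hfin1.1.subset (support_term_subset d 0 (colQuot f))
  have hs2 : (Function.support g₂).Finite :=
    hfin2.1.subset (support_term_subset d 0 (colQuot f⁻¹))
  have hP1 : Psi d 0 (colQuot f) = ∑ᶠ ξ, g₁ ξ := by
    unfold Psi
    exact finsum_congr (fun ξ => by rw [hg₁])
  have hP2 : Psi d 0 (colQuot f⁻¹) = ∑ᶠ ξ, g₂ ξ := by
    unfold Psi
    exact finsum_congr (fun ξ => by rw [hg₂])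
  have hterm : ∀ x : X, (∑ᶠ (_ : IsClosed ({x} : Set X)), (c.residueDegree x : ℤ) *
      CycAlg.ordFrac (X.presheaf.stalk x) X.functionField f) = g₂ x - g₁ x := by
    intro x
    rw [finsum_eq_if]
    by_cases hx : IsClosed ({x} : Set X)
    · have ht : TopPt 0 x := topPt_zero_of_isClosed x hx
      rw [if_pos hx, hg₁, hg₂]
      simp only [if_pos ht]
      haveI : Ring.KrullDimLE 1 (X.presheaf.stalk x) := by
        rw [Ring.krullDimLE_iff]
        have := Groth.Agent.Helper3.CurveFlat.ringKrullDim_stalk_le X x
        rw [hdim] at this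
        exact_mod_cast this
      haveI : IsNoetherianRing (X.presheaf.stalk x) := inferInstance
      obtain ⟨n1, n2, hord⟩ := ordFrac_eq_sub (A := X.presheaf.stalk x)
        (F := X.functionField) f hf
      rw [hord, len_colQuot, len_colQuot]
      have hdeg : (c.residueDegree x : ℤ) = d x := by
        rw [hd]
        have := residueDegree_eq_finrank K X x
        change c.residueDegree x = _ at this
        rw [this]
      rw [hdeg, nsmul_eq_mul, nsmul_eq_mul]
      ring
    · have ht : ¬ TopPt 0 x := fun h => hx ((topPt_zero_iff_isClosed x).mp h)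
      rw [if_neg hx, hg₁, hg₂]
      simp only [if_neg ht, sub_zero]
  rw [finsum_congr hterm, finsum_sub_distrib hs2 hs1, ← hP1, ← hP2, ← hchi1, ← hchi2, hchi,
    sub_self]

end Main

end Groth.Agent.Helper3.DegZ
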