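import Mathlib
import Groth.Prelude
import Groth.Agent.Helper3.DegZF

/-!
# The degree of a principal divisor on a proper integral scheme of dimension at most one
-/

set_option autoImplicit false
set_option linter.style.haveILetI false
set_option linter.unusedSectionVars false
set_option linter.unusedVariables false
set_option linter.deprecated false
set_option linter.style.haveILetI false
set_option linter.unusedSectionVars false
set_option linter.unusedVariables false

universe u

open CategoryTheory CategoryTheory.Limits AlgebraicGeometry TopologicalSpace Opposite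

namespace Groth.Agent.Helper3.DegZ

open Groth.Agent.Lead.RatSh Groth.Agent.Helper4 Groth.Agent.Helper4.SN

attribute [local instance] Curv2.resAlgebra

theorem dimLT_support_colQuot_le {X : Scheme.{u}} [IsIntegral X] [NoetherianSpace X]
    (hdim : topologicalKrullDim X ≤ 1) (f : KK X) :
    SN.DimLT (CohB1.support (colQuot f)) 1 := by
  apply dimLT_one_of_forall_isClosed
  intro x hx
  apply Groth.Agent.Helper5.ConstrCurve.isClosed_singleton_of_ne hdim x
  rintro rfl
  exact generic_notMem_support f hx

section Main

/-- **S1860** for curves of dimension at most one -/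
theorem main_le (K : Type u) [Field K] (X : Scheme.{u}) [IsIntegral X]
    (c : X ⟶ Spec (CommRingCat.of K)) [IsProper c] (hdim : topologicalKrullDim X ≤ 1)
    (f : X.functionField) (hf : f ≠ 0) :
    ∑ᶠ (x : X) (_ : IsClosed ({x} : Set X)), (c.residueDegree x : ℤ) *
      CycAlg.ordFrac (X.presheaf.stalk x) X.functionField f = 0 := by
  classical
  letI : X.Over (Spec (CommRingCat.of K)) := ⟨c⟩
  haveI : IsProper (X ↘ (Spec (CommRingCat.of K))) := ‹IsProper c›
  haveI := Groth.Agent.Helper4.NApx82.isNoetherian_of_proper K X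
  have hfi : f⁻¹ ≠ 0 := inv_ne_zero hf
  obtain ⟨hfin1, hchi1⟩ := chi_eq_Psi_zero K (colQuot f) (isCoh_colQuot K f)
    (dimLT_support_colQuot_le hdim f)
  obtain ⟨hfin2, hchi2⟩ := chi_eq_Psi_zero K (colQuot f⁻¹) (isCoh_colQuot K f⁻¹)
    (dimLT_support_colQuot_le hdim f⁻¹)
  have hchi := chi_colQuot_eq K f hf
  set d : X → ℤ := fun ξ => (Module.finrank K (X.residueField ξ) : ℤ) with hd
  set g₁ : X → ℤ := fun ξ => if TopPt 0 ξ then (len (colQuot f) ξ).toNat • d ξ else 0 with hg₁
  set g₂ : X → ℤ := fun ξ => if TopPt 0 ξ then (len (colQuot f⁻¹) ξ).toNat • d ξ else 0 with hg₂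
  have hs1 : (Function.support g₁).Finite := hfin1.1.subset (support_term_subset d 0 (colQuot f))
  have hs2 : (Function.support g₂).Finite :=
    hfin2.1.subset (support_term_subset d 0 (colQuot f⁻¹))
  have hP1 : Psi d 0 (colQuot f) = ∑ᶠ ξ, g₁ ξ := by
    unfold Psi
    exact finsum_congr (fun ξ => by rw [hg₁])
  have hP2 : Psi d 0 (colQuot f⁻¹) = ∑ᶠ ξ, g₂ ξ := by
    unfold Psi
    exact finsum_congr (fun ξ => by rw [hg₂])
  have hterm : ∀ x : X, (∑ᶠ (_ : IsClosed ({x} : Set X)), (c.residueDegree x : ℤ) *
      CycAlg.ordFrac (X.presheaf.stalk x) X.functionField f) = g₂ x - g₁ x := by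
    intro x
    rw [finsum_eq_if]
    by_cases hx : IsClosed ({x} : Set X)
    · have ht : TopPt 0 x := topPt_zero_of_isClosed x hx
      rw [if_pos hx, hg₁, hg₂]
      simp only [if_pos ht]
      haveI : Ring.KrullDimLE 1 (X.presheaf.stalk x) := by
        rw [Ring.krullDimLE_iff]
        have := (Groth.Agent.Helper3.CurveFlat.ringKrullDim_stalk_le X x).trans hdim
        exact_mod_cast this
      haveI : IsNoetherianRing (X.presheaf.stalk x) := inferInstance
      obtain ⟨n1, n2, hord⟩ := ordFrac_eq_sub (A := X.presheaf.stalk x)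
        (F := X.functionField) f hf
      rw [hord, len_colQuot, len_colQuot]
      have hdeg : (c.residueDegree x : ℤ) = d x := by
        rw [hd]
        have := residueDegree_eq_finrank K X x
        change c.residueDegree x = _ at this
        rw [this]
      rw [hdeg, nsmul_eq_mul, nsmul_eq_mul]
      ring
    · have ht : ¬ TopPt 0 x := fun h => hx ((topPt_zero_iff_isClosed x).mp h)
      rw [if_neg hx, hg₁, hg₂]
      simp only [if_neg ht, sub_zero]
  rw [finsum_congr hterm, finsum_sub_distrib hs2 hs1, ← hP1, ← hP2, ← hchi1, ← hchi2, hchi,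
    sub_self]

end Main

end Groth.Agent.Helper3.DegZ
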