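import Mathlib
import Groth.Prelude
import Groth.Agent.Helper5.FibStalk

/-!
# The generic fibre of a dominant morphism of integral schemes
-/

set_option autoImplicit false
set_option linter.style.haveILetI false
set_option linter.unusedSectionVars false
set_option linter.unusedVariables false
set_option linter.deprecated false
set_option linter.style.haveILetI false
set_option linter.unusedSectionVars false
set_option linter.unusedVariables false

universe u

open CategoryTheory CategoryTheory.Limits AlgebraicGeometry TopologicalSpace Opposite

namespace Groth.Agent.Helper3.GenFib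

open Groth.Agent.Helper5.FibStalk

variable {X Y : Scheme.{u}} [IsIntegral X] [IsIntegral Y] (p : X ⟶ Y)

/-- the generic fibre -/
noncomputable abbrev gf : Scheme.{u} := p.fiber (genericPoint Y)

/-- the inclusion of the generic fibre -/
noncomputable abbrev gι : gf p ⟶ X := p.fiberι (genericPoint Y)

theorem isField_stalk_of_eq (y : Y) (hy : y = genericPoint Y) : IsField (Y.presheaf.stalk y) := by
  rw [hy]
  exact Field.toIsField Y.functionField

theorem stalkMap_bijective (z : gf p) : Function.Bijective ((gι p).stalkMap z).hom := by
  obtain ⟨hs, hk⟩ := s9501 p (genericPoint Y) z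
  refine ⟨?_, hs⟩
  rw [RingHom.injective_iff_ker_eq_bot, hk]
  have hf := isField_stalk_of_eq (p ((gι p) z)) (fiberι_apply p (genericPoint Y) z)
  rw [IsLocalRing.isField_iff_maximalIdeal_eq.1 hf, Ideal.map_bot]

/-- the stalk map as a ring isomorphism -/
noncomputable def stalkEquiv (z : gf p) :
    X.presheaf.stalk ((gι p) z) ≃+* (gf p).presheaf.stalk z :=
  RingEquiv.ofBijective _ (stalkMap_bijective p z)

theorem stalkEquiv_apply (z : gf p) (a : X.presheaf.stalk ((gι p) z)) :
    stalkEquiv p z a = ((gι p).stalkMap z).hom a := rfl

theorem gι_injective : Function.Injective (gι p) := (gι p).isEmbedding.injective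

theorem mem_range_gι (x : X) (hx : p x = genericPoint Y) : ∃ z : gf p, (gι p) z = x := by
  have h : x ∈ Set.range (gι p) := by
    rw [Scheme.Hom.range_fiberι]
    exact hx
  exact h

theorem p_gι (z : gf p) : p ((gι p) z) = genericPoint Y := fiberι_apply p (genericPoint Y) z

theorem specializes_iff (z z' : gf p) : z ⤳ z' ↔ (gι p) z ⤳ (gι p) z' :=
  ((gι p).isEmbedding.isInducing.specializes_iff).symm

variable (hdom : p (genericPoint X) = genericPoint Y)

include hdom in
theorem exists_generic : ∃ z₀ : gf p, (gι p) z₀ = genericPoint X := mem_range_gι p _ hdom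

include hdom in
theorem closure_generic (z₀ : gf p) (hz₀ : (gι p) z₀ = genericPoint X) :
    closure ({z₀} : Set (gf p)) = Set.univ := by
  rw [(gι p).isEmbedding.isInducing.closure_eq_preimage_closure_image, Set.image_singleton, hz₀,
    (genericPoint_spec X).def, Set.preimage_univ]

include hdom in
theorem irreducibleSpace : IrreducibleSpace (gf p) := by
  obtain ⟨z₀, hz₀⟩ := exists_generic p hdom
  have h1 : IsIrreducible (Set.univ : Set (gf p)) := by
    rw [← closure_generic p hdom z₀ hz₀]
    exact isIrreducible_singleton.closure
  haveI : Nonempty (gf p) := ⟨z₀⟩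
  exact ⟨h1.isPreirreducible⟩ |> fun h => { toPreirreducibleSpace := h, toNonempty := ⟨z₀⟩ }

theorem isReduced : IsReduced (gf p) := by
  haveI : ∀ z : gf p, _root_.IsReduced ((gf p).presheaf.stalk z) := by
    intro z
    exact isReduced_of_injective (stalkEquiv p z).symm.toRingHom (stalkEquiv p z).symm.injective
  exact isReduced_of_isReduced_stalk (gf p)

include hdom in
theorem isIntegral : IsIntegral (gf p) := by
  haveI := irreducibleSpace p hdom
  haveI := isReduced p
  exact isIntegral_of_irreducibleSpace_of_isReduced (gf p)

include hdom in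
theorem gι_genericPoint [IsIntegral (gf p)] : (gι p) (genericPoint (gf p)) = genericPoint X := by
  obtain ⟨z₀, hz₀⟩ := exists_generic p hdom
  have h1 : IsGenericPoint z₀ (Set.univ : Set (gf p)) := closure_generic p hdom z₀ hz₀
  have h2 : z₀ = genericPoint (gf p) := h1.eq (genericPoint_spec (gf p))
  rw [← h2, hz₀]

end Groth.Agent.Helper3.GenFib
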