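import Mathlib
import Groth.Prelude
import Groth.Agent.Helper3.GenFibA

/-!
# The generic fibre: dimension and closed points via a dimension function
-/

set_option autoImplicit false
set_option linter.style.haveILetI false
set_option linter.unusedSectionVars false
set_option linter.unusedVariables false
set_option linter.deprecated false
set_option linter.style.haveILetI false
set_option linter.unusedSectionVars false
set_option linter.unusedVariables false

universe u

open CategoryTheory CategoryTheory.Limits AlgebraicGeometry TopologicalSpace Opposite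

namespace Groth.Agent.Helper3.GenFib

variable {X Y : Scheme.{u}} [IsIntegral X] [IsIntegral Y] (p : X ⟶ Y)
  (δ : X → ℤ) (hδ : Cyc.IsDimFun X δ) (m : ℤ)
  (hlow : ∀ x : X, p x = genericPoint Y → m ≤ δ x) (htop : δ (genericPoint X) = m + 1)

theorem generic_specializes (x : X) : genericPoint X ⤳ x :=
  specializes_iff_mem_closure.mpr (by rw [(genericPoint_spec X).def]; trivial)

include hδ htop in
theorem eq_generic_of_delta (x : X) (h : δ x = m + 1) : x = genericPoint X := by
  by_contra hne
  have h1 := (hδ _ _ (generic_specializes x) (fun h0 => hne h0.symm)).1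
  omega

include hδ hlow htop in
theorem delta_mem (z : gf p) : δ ((gι p) z) = m ∨ δ ((gι p) z) = m + 1 := by
  have h1 := hlow _ (p_gι p z)
  by_cases hne : (gι p) z = genericPoint X
  · right; rw [hne, htop]
  · have h2 := (hδ _ _ (generic_specializes ((gι p) z)) (fun h0 => hne h0.symm)).1
    left; omega

include hδ hlow in
theorem isClosed_of_delta (z : gf p) (h : δ ((gι p) z) = m) : IsClosed ({z} : Set (gf p)) := by
  rw [← closure_subset_iff_isClosed]
  intro z' hz'
  have hsp : z ⤳ z' := specializes_iff_mem_closure.mpr hz'
  have hsp' : (gι p) z ⤳ (gι p) z' := (specializes_iff p z z').mp hsp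
  by_contra hne
  have hne' : (gι p) z ≠ (gι p) z' := fun h0 => hne (gι_injective p h0).symm
  have h1 := (hδ _ _ hsp' hne').1
  have h2 := hlow _ (p_gι p z')
  omega

include hδ hlow htop in
theorem dim_le_one (hdom : p (genericPoint X) = genericPoint Y) :
    topologicalKrullDim (gf p) ≤ 1 := by
  show Order.krullDim (IrreducibleCloseds (gf p)) ≤ 1
  rw [Order.krullDim_le_one_iff]
  intro T
  obtain ⟨z, hz⟩ := QuasiSober.sober T.isIrreducible T.isClosed
  rcases delta_mem p δ hδ m hlow htop z with h | h
  · left
    have hT' : (T : Set (gf p)) = {z} := by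
      rw [← hz.def, (isClosed_of_delta p δ hδ m hlow z h).closure_eq]
    intro T' hT'le y hy
    have hy' : y ∈ (T : Set (gf p)) := hy
    obtain ⟨w, hw⟩ := T'.isIrreducible.nonempty
    have hw' : w ∈ (T : Set (gf p)) := hT'le hw
    rw [hT'] at hw' hy'
    rw [Set.mem_singleton_iff] at hw' hy'
    rw [hy', ← hw']
    exact hw
  · right
    have h1 := eq_generic_of_delta δ hδ m htop _ h
    have hT' : (T : Set (gf p)) = Set.univ := by
      rw [← hz.def]
      exact closure_generic p hdom z h1
    intro T' hTT' y _
    have : y ∈ (T : Set (gf p)) := by rw [hT']; trivial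
    exact this

end Groth.Agent.Helper3.GenFib
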