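import Mathlib

/-!
Generic points of irreducible components in (quasi-)sober spaces.
-/

set_option autoImplicit false

namespace Groth.Agent.Helper3.GenPts

variable {X : Type*} [TopologicalSpace X]

/-- A generic point of an irreducible component has no proper generization. -/
lemma eq_of_specializes [T0Space X] {x x' : X} (hx : closure {x} ∈ irreducibleComponents X)
    (h : x' ⤳ x) : x' = x := by
  have h1 : closure ({x} : Set X) ⊆ closure {x'} := specializes_iff_closure_subset.mp h
  have h2 : IsIrreducible (closure ({x'} : Set X)) := isIrreducible_singleton.closure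
  have h3 : closure ({x'} : Set X) ⊆ closure {x} := hx.2 h2 h1
  exact ((specializes_iff_closure_subset.mpr h3).antisymm h).symm.eq

lemma exists_genPt_specializes [QuasiSober X] (z : X) :
    ∃ x, closure {x} ∈ irreducibleComponents X ∧ x ⤳ z := by
  have hirr := isIrreducible_irreducibleComponent (x := z)
  have hcl := isClosed_irreducibleComponent (x := z)
  obtain ⟨x, hx⟩ := QuasiSober.sober hirr hcl
  refine ⟨x, ?_, ?_⟩
  · rw [hx.def]
    exact irreducibleComponent_mem_irreducibleComponents z
  · rw [specializes_iff_mem_closure, hx.def]
    exact mem_irreducibleComponent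

lemma exists_genPt_mem_of_isOpen [QuasiSober X] {W : Set X} (hW : IsOpen W) (hne : W.Nonempty) :
    ∃ x, closure {x} ∈ irreducibleComponents X ∧ x ∈ W := by
  obtain ⟨z, hz⟩ := hne
  obtain ⟨x, hx, hxz⟩ := exists_genPt_specializes z
  exact ⟨x, hx, hxz.mem_open hW hz⟩

lemma dense_of_genPts_subset [QuasiSober X] {U : Set X}
    (h : ∀ x, closure {x} ∈ irreducibleComponents X → x ∈ U) : Dense U := by
  intro z
  obtain ⟨x, hx, hxz⟩ := exists_genPt_specializes z
  exact closure_mono (Set.singleton_subset_iff.mpr (h x hx)) (specializes_iff_mem_closure.mp hxz)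

lemma finite_genPts [T0Space X] (h : (irreducibleComponents X).Finite) :
    {x : X | closure {x} ∈ irreducibleComponents X}.Finite := by
  refine Set.Finite.preimage (f := fun x : X => closure ({x} : Set X)) ?_ h
  intro x _ x' _ hxx'
  exact ((specializes_iff_closure_subset.mpr hxx'.ge).antisymm
    (specializes_iff_closure_subset.mpr hxx'.le)).eq

end Groth.Agent.Helper3.GenPts
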