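import Mathlib
import Groth.Agent.Helper3.GenPts

/-!
A morphism which is a bijection on generic points of irreducible components (finitely many in the
source) and an open immersion near each generic point of the source restricts to an isomorphism
between dense opens.
-/

set_option autoImplicit false

namespace Groth.Agent.Helper3.BirDense

open AlgebraicGeometry CategoryTheory Limits

universe u

theorem exists_dense_opens_isIso {X Y : Scheme.{u}} (f : X ⟶ Y)
    (hXfin : (irreducibleComponents ↥X).Finite)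
    (hbij : Set.BijOn (fun x : X => f.base x) {x : X | closure {x} ∈ irreducibleComponents ↥X}
      {y : Y | closure {y} ∈ irreducibleComponents ↥Y})
    (hloc : ∀ x : X, closure {x} ∈ irreducibleComponents ↥X →
      ∃ U : X.Opens, x ∈ U ∧ IsOpenImmersion (U.ι ≫ f)) :
    ∃ (U : X.Opens) (V : Y.Opens) (hUV : U ≤ f ⁻¹ᵁ V), Dense (U : Set ↥X) ∧ Dense (V : Set ↥Y) ∧
      IsIso (f.resLE V U hUV) := by
  classical
  let G : Set X := {x | closure {x} ∈ irreducibleComponents ↥X}
  have hGfin : G.Finite := GenPts.finite_genPts hXfin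
  choose! U₀ hxU₀ hU₀ using hloc
  let C : X → Set X := fun x => ⋃ x' ∈ G \ {x}, closure {x'}
  have hC : ∀ x, IsClosed (C x) := fun x =>
    (hGfin.subset Set.sdiff_subset).isClosed_biUnion fun _ _ => isClosed_closure
  let U' : X → X.Opens := fun x => U₀ x ⊓ ⟨(C x)ᶜ, (hC x).isOpen_compl⟩
  have hxU' : ∀ x ∈ G, x ∈ U' x := by
    intro x hx
    refine ⟨hxU₀ x hx, ?_⟩
    intro hmem
    simp only [C, Set.mem_iUnion] at hmem
    obtain ⟨x', ⟨hx'G, hne⟩, hxx'⟩ := hmem
    exact hne (GenPts.eq_of_specializes hx (specializes_iff_mem_closure.mpr hxx'))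
  have hkey : ∀ x, ∀ x'' ∈ G, x'' ∈ U' x → x'' = x := by
    intro x x'' hx'' hmem
    by_contra hne
    exact hmem.2 (Set.mem_biUnion (⟨hx'', hne⟩ : x'' ∈ G \ {x}) (subset_closure rfl))
  -- every point of `U' x` is a specialization of `x`
  have hspec : ∀ x, ∀ z ∈ U' x, x ⤳ z := by
    intro x z hz
    obtain ⟨x'', hx'', hxz⟩ := GenPts.exists_genPt_specializes z
    have : x'' ∈ U' x := hxz.mem_open (U' x).2 hz
    rw [← hkey x x'' hx'' this]
    exact hxz
  have hle : ∀ x, U' x ≤ U₀ x := fun x => inf_le_left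
  have hU'imm : ∀ x ∈ G, IsOpenImmersion ((U' x).ι ≫ f) := by
    intro x hx
    have := hU₀ x hx
    rw [← X.homOfLE_ι (hle x), Category.assoc]
    infer_instance
  let U : X.Opens := ⨆ x : G, U' x
  -- injectivity on `U`
  have hinj : Function.Injective (U.ι ≫ f) := by
    rintro ⟨z, hz⟩ ⟨z', hz'⟩ h
    obtain ⟨⟨x, hx⟩, hzx⟩ := TopologicalSpace.Opens.mem_iSup.mp hz
    obtain ⟨⟨x', hx'⟩, hzx'⟩ := TopologicalSpace.Opens.mem_iSup.mp hz'
    have h' : f z = f z' := h
    have := hU'imm x hx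
    have := hU'imm x' hx'
    -- the common image point lies in both open images
    let W : Set Y := (((U' x).ι ≫ f).opensRange : Set Y) ∩ (((U' x').ι ≫ f).opensRange : Set Y)
    have hWopen : IsOpen W := ((U' x).ι ≫ f).opensRange.2.inter ((U' x').ι ≫ f).opensRange.2
    have hWne : W.Nonempty := ⟨f z, ⟨⟨z, hzx⟩, rfl⟩, ⟨⟨z', hzx'⟩, h'.symm⟩⟩
    obtain ⟨y, hy, hyW⟩ := GenPts.exists_genPt_mem_of_isOpen hWopen hWne
    obtain ⟨⟨⟨u, hu⟩, hfu⟩, ⟨⟨u', hu'⟩, hfu'⟩⟩ := hyW
    have hfu0 : f u = y := hfu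
    have hfu0' : f u' = y := hfu'
    have h1 : f x = y := GenPts.eq_of_specializes hy
      (hfu0 ▸ (hspec x u hu).map f.continuous)
    have h2 : f x' = y := GenPts.eq_of_specializes hy
      (hfu0' ▸ (hspec x' u' hu').map f.continuous)
    have hxx' : x = x' := hbij.injOn hx hx' (h1.trans h2.symm)
    subst hxx'
    have := ((U' x).ι ≫ f).isOpenEmbedding.injective
      (a₁ := ⟨z, hzx⟩) (a₂ := ⟨z', hzx'⟩) h'
    apply Subtype.ext
    exact congrArg (fun w : ↥(U' x) => (w : X)) this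
  have hUimm : IsOpenImmersion (U.ι ≫ f) := by
    refine IsOpenImmersion.of_openCover_source _ (Scheme.Opens.iSupOpenCover fun x : G => U' x)
      hinj ?_
    intro i
    have := hU'imm i.1 i.2
    change IsOpenImmersion (X.homOfLE (le_iSup (fun x : G => U' x) i) ≫ U.ι ≫ f)
    rw [← Category.assoc, X.homOfLE_ι]
    exact this
  let V : Y.Opens := (U.ι ≫ f).opensRange
  have hUV : U ≤ f ⁻¹ᵁ V := by
    intro z hz
    exact ⟨⟨z, hz⟩, rfl⟩
  refine ⟨U, V, hUV, ?_, ?_, ?_⟩
  · refine GenPts.dense_of_genPts_subset fun x hx => ?_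
    exact TopologicalSpace.Opens.mem_iSup.mpr ⟨⟨x, hx⟩, hxU' x hx⟩
  · refine GenPts.dense_of_genPts_subset fun y hy => ?_
    obtain ⟨x, hx, rfl⟩ := hbij.surjOn hy
    exact hUV (TopologicalSpace.Opens.mem_iSup.mpr ⟨⟨x, hx⟩, hxU' x hx⟩)
  · have : f.resLE V U hUV = (U.ι ≫ f).isoOpensRange.hom := by
      rw [← cancel_mono V.ι, Scheme.Hom.resLE_comp_ι]
      exact ((U.ι ≫ f).isoOpensRange_hom_ι).symm
    rw [this]
    infer_instance

end Groth.Agent.Helper3.BirDense
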