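import Mathlib

/-!
Ring-level spreading out of surjectivity / bijectivity of the local homomorphism `R_p → S_q` for a
finite type algebra `R → S`: there are `g ∉ q`, `r ∉ p` with `R_r → S_g` surjective / bijective.
-/

set_option autoImplicit false

namespace Groth.Agent.Helper3.LocalIsoRing

open Localization

universe u

variable {R S : Type u} [CommRing R] [CommRing S] [Algebra R S]

/-- Elementwise form of surjectivity of the local ring hom. -/
lemma exists_of_localRingHom_surjective (q : Ideal S) [q.IsPrime]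
    (H : Function.Surjective
      (localRingHom (q.comap (algebraMap R S)) q (algebraMap R S) rfl)) (y : S) :
    ∃ a : R, ∃ b : R, b ∉ q.comap (algebraMap R S) ∧ ∃ t : S, t ∉ q ∧
      t * (algebraMap R S b * y - algebraMap R S a) = 0 := by
  have := (IsLocalization.mk'_surjective (q.comap (algebraMap R S)).primeCompl).exists.mp
    (H (algebraMap _ _ y))
  simp only [localRingHom_mk', Prod.exists, Subtype.exists, Ideal.mem_primeCompl_iff,
    IsLocalization.mk'_eq_iff_eq_mul, exists_prop, ← map_mul,
    IsLocalization.eq_iff_exists q.primeCompl] at this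
  obtain ⟨a, b, hbp, c, hcq, hc⟩ := this
  refine ⟨a, b, hbp, c, hcq, ?_⟩
  rw [mul_sub, sub_eq_zero, hc]
  ring

/-- Common denominators: there are `T ∉ q` and `r₁ ∉ p` such that every `y : S` satisfies
`T ^ k * (r₁ ^ m • y - a) = 0` for suitable `m, k, a`. -/
lemma exists_common (q : Ideal S) [q.IsPrime] [Algebra.FiniteType R S]
    (H : Function.Surjective
      (localRingHom (q.comap (algebraMap R S)) q (algebraMap R S) rfl)) :
    ∃ T : S, T ∉ q ∧ ∃ r₁ : R, r₁ ∉ q.comap (algebraMap R S) ∧ ∀ y : S, ∃ (m : ℕ) (a : R) (k : ℕ),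
      T ^ k * (algebraMap R S r₁ ^ m * y - algebraMap R S a) = 0 := by
  classical
  obtain ⟨s, hs⟩ := Algebra.FiniteType.out (R := R) (A := S)
  choose a b hb t ht e using exists_of_localRingHom_surjective q H
  have hp : (q.comap (algebraMap R S)).IsPrime := inferInstance
  refine ⟨∏ y ∈ s, t y, ?_, ∏ y ∈ s, b y, ?_, ?_⟩
  · exact fun h => by
      obtain ⟨y, -, hy⟩ := (Ideal.IsPrime.prod_mem_iff (p := q)).mp h
      exact ht y hy
  · exact fun h => by
      obtain ⟨y, -, hy⟩ := (Ideal.IsPrime.prod_mem_iff (p := q.comap (algebraMap R S))).mp h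
      exact hb y hy
  · intro y
    have hy : y ∈ Algebra.adjoin R (s : Set S) := by rw [hs]; trivial
    induction hy using Algebra.adjoin_induction with
    | mem y hys =>
      refine ⟨1, a y * ∏ z ∈ s.erase y, b z, 1, ?_⟩
      have hys' : y ∈ s := hys
      rw [← Finset.mul_prod_erase s t hys', ← Finset.mul_prod_erase s b hys', pow_one, pow_one,
        map_mul, map_mul]
      have := e y
      linear_combination (algebraMap R S (∏ z ∈ s.erase y, b z) * ∏ z ∈ s.erase y, t z) * this
    | algebraMap r => exact ⟨0, r, 0, by simp⟩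
    | add y₁ y₂ _ _ h₁ h₂ =>
      obtain ⟨m₁, a₁, k₁, e₁⟩ := h₁
      obtain ⟨m₂, a₂, k₂, e₂⟩ := h₂
      refine ⟨m₁ + m₂, (∏ y ∈ s, b y) ^ m₂ * a₁ + (∏ y ∈ s, b y) ^ m₁ * a₂, k₁ + k₂, ?_⟩
      simp only [map_add, map_mul, map_pow, pow_add]
      linear_combination ((∏ y ∈ s, t y) ^ k₂ * algebraMap R S (∏ y ∈ s, b y) ^ m₂) * e₁ +
        ((∏ y ∈ s, t y) ^ k₁ * algebraMap R S (∏ y ∈ s, b y) ^ m₁) * e₂
    | mul y₁ y₂ _ _ h₁ h₂ =>
      obtain ⟨m₁, a₁, k₁, e₁⟩ := h₁
      obtain ⟨m₂, a₂, k₂, e₂⟩ := h₂
      refine ⟨m₁ + m₂, a₁ * a₂, k₁ + k₂, ?_⟩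
      simp only [map_mul, pow_add]
      linear_combination ((∏ y ∈ s, t y) ^ k₂ * (algebraMap R S (∏ y ∈ s, b y) ^ m₂ * y₂)) * e₁ +
        ((∏ y ∈ s, t y) ^ k₁ * algebraMap R S a₁) * e₂

lemma isUnit_algebraMap_away (T : S) (r : R) :
    IsUnit (algebraMap R (Localization.Away (T * algebraMap R S r)) r) := by
  rw [IsScalarTower.algebraMap_apply R S]
  have := IsLocalization.Away.algebraMap_isUnit (S := Localization.Away (T * algebraMap R S r))
    (T * algebraMap R S r)
  rw [map_mul, IsUnit.mul_iff] at this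
  exact this.2

lemma isUnit_algebraMap_away' (T : S) (r : R) :
    IsUnit (algebraMap S (Localization.Away (T * algebraMap R S r)) T) := by
  have := IsLocalization.Away.algebraMap_isUnit (S := Localization.Away (T * algebraMap R S r))
    (T * algebraMap R S r)
  rw [map_mul, IsUnit.mul_iff] at this
  exact this.1

/-- The canonical map `R_r → S_{T r}`. -/
noncomputable def awayLift (T : S) (r : R) :
    Localization.Away r →+* Localization.Away (T * algebraMap R S r) :=
  IsLocalization.Away.lift r (isUnit_algebraMap_away T r)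

lemma awayLift_algebraMap (T : S) (r : R) (a : R) :
    awayLift T r (algebraMap R (Localization.Away r) a) =
      algebraMap S (Localization.Away (T * algebraMap R S r)) (algebraMap R S a) := by
  rw [awayLift, IsLocalization.Away.lift_eq]
  exact IsScalarTower.algebraMap_apply R S _ a

/-- For `d ∣ r` the element `d` has an inverse in the range of `awayLift T r`. -/
lemma exists_inv_of_dvd (T : S) (r d : R) (hd : d ∣ r) :
    ∃ x : Localization.Away r, awayLift T r x *
      algebraMap S (Localization.Away (T * algebraMap R S r)) (algebraMap R S d) = 1 := by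
  obtain ⟨e, rfl⟩ := hd
  refine ⟨IsLocalization.mk' _ e (⟨d * e, Submonoid.mem_powers _⟩ : Submonoid.powers (d * e)), ?_⟩
  rw [← awayLift_algebraMap, ← map_mul, ← IsLocalization.mk'_one (M := Submonoid.powers (d * e))
    (Localization.Away (d * e)) d, ← IsLocalization.mk'_mul, mul_one]
  have : IsLocalization.mk' (Localization.Away (d * e)) (e * d)
      (⟨d * e, Submonoid.mem_powers _⟩ : Submonoid.powers (d * e)) = 1 := by
    rw [IsLocalization.mk'_eq_iff_eq_mul, one_mul, mul_comm]
  rw [this, map_one]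

theorem exists_awayLift_surjective (q : Ideal S) [q.IsPrime] [Algebra.FiniteType R S]
    (H : Function.Surjective
      (localRingHom (q.comap (algebraMap R S)) q (algebraMap R S) rfl)) :
    ∃ T : S, T ∉ q ∧ ∃ r₀ : R, r₀ ∉ q.comap (algebraMap R S) ∧ ∀ r : R, r₀ ∣ r →
      Function.Surjective (awayLift T r) := by
  obtain ⟨T, hT, r₁, hr₁, hA⟩ := exists_common q H
  obtain ⟨m, c, k, hc⟩ := hA T
  have hcp : c ∉ q.comap (algebraMap R S) := by
    intro hcq
    have h1 : T ^ k * (algebraMap R S r₁ ^ m * T) ∈ q := by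
      have : T ^ k * (algebraMap R S r₁ ^ m * T) = T ^ k * algebraMap R S c := by
        linear_combination hc
      rw [this]
      exact Ideal.mul_mem_left _ _ hcq
    rcases (‹q.IsPrime›.mem_or_mem h1) with h | h
    · exact hT (‹q.IsPrime›.mem_of_pow_mem _ h)
    · rcases (‹q.IsPrime›.mem_or_mem h) with h | h
      · exact hr₁ (‹q.IsPrime›.mem_of_pow_mem _ h)
      · exact hT h
  refine ⟨T, hT, r₁ * c, ?_, ?_⟩
  · exact fun h => (Ideal.IsPrime.mem_or_mem inferInstance h).elim hr₁ hcp
  intro r hr
  have hTu : IsUnit (algebraMap S (Localization.Away (T * algebraMap R S r)) T) := isUnit_algebraMap_away' T r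
  -- inverses
  obtain ⟨x₁, hx₁⟩ := exists_inv_of_dvd T r r₁ ((Dvd.intro _ rfl).trans hr)
  obtain ⟨xc, hxc⟩ := exists_inv_of_dvd T r c ((Dvd.intro_left _ rfl).trans hr)
  obtain ⟨xr, hxr⟩ := exists_inv_of_dvd T r r dvd_rfl
  -- every element of S lands in the range
  have hS : ∀ y : S, ∃ x, awayLift T r x = algebraMap S (Localization.Away (T * algebraMap R S r)) y := by
    intro y
    obtain ⟨m', a, k', e⟩ := hA y
    have e' : algebraMap S (Localization.Away (T * algebraMap R S r)) (algebraMap R S r₁) ^ m' * algebraMap S (Localization.Away (T * algebraMap R S r)) y =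
        algebraMap S (Localization.Away (T * algebraMap R S r)) (algebraMap R S a) := by
      have := congrArg (algebraMap S (Localization.Away (T * algebraMap R S r))) e
      simp only [map_mul, map_sub, map_pow, map_zero] at this
      have h2 := (hTu.pow k').mul_right_eq_zero.mp this
      exact sub_eq_zero.mp h2
    refine ⟨x₁ ^ m' * algebraMap R _ a, ?_⟩
    rw [map_mul, map_pow, awayLift_algebraMap, ← e', ← mul_assoc, ← mul_pow, hx₁, one_pow, one_mul]
  -- inverse of `T`
  have hTinv : ∃ x, awayLift T r x * algebraMap S (Localization.Away (T * algebraMap R S r)) T = 1 := by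
    have e' : algebraMap S (Localization.Away (T * algebraMap R S r)) (algebraMap R S r₁) ^ m * algebraMap S (Localization.Away (T * algebraMap R S r)) T =
        algebraMap S (Localization.Away (T * algebraMap R S r)) (algebraMap R S c) := by
      have := congrArg (algebraMap S (Localization.Away (T * algebraMap R S r))) hc
      simp only [map_mul, map_sub, map_pow, map_zero] at this
      have h2 := (hTu.pow k).mul_right_eq_zero.mp this
      exact sub_eq_zero.mp h2
    refine ⟨algebraMap R _ r₁ ^ m * xc, ?_⟩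
    rw [map_mul, map_pow, awayLift_algebraMap, mul_right_comm, e']
    exact (mul_comm _ _).trans hxc
  obtain ⟨xT, hxT⟩ := hTinv
  intro z
  obtain ⟨⟨y, ⟨_, n, rfl⟩⟩, hz⟩ := IsLocalization.surj (Submonoid.powers (T * algebraMap R S r)) z
  obtain ⟨x, hx⟩ := hS y
  refine ⟨x * (xT * xr) ^ n, ?_⟩
  simp only at hz
  rw [map_mul, map_pow, map_mul, hx, ← hz, map_pow, map_mul, mul_assoc, ← mul_pow]
  have : algebraMap S (Localization.Away (T * algebraMap R S r)) T * algebraMap S (Localization.Away (T * algebraMap R S r)) (algebraMap R S r) *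
      (awayLift T r xT * awayLift T r xr) = 1 := by
    calc _ = (awayLift T r xT * algebraMap S (Localization.Away (T * algebraMap R S r)) T) *
        (awayLift T r xr * algebraMap S (Localization.Away (T * algebraMap R S r)) (algebraMap R S r)) := by ring
      _ = 1 := by rw [hxT, hxr, one_mul]
  rw [this, one_pow, mul_one]

theorem awayLift_injective (q : Ideal S) [q.IsPrime] (T : S) (hT : T ∉ q)
    (H : Function.Injective
      (localRingHom (q.comap (algebraMap R S)) q (algebraMap R S) rfl))
    (r₂ : R) (h₂ : ∀ a : R, (∃ b : R, b ∉ q.comap (algebraMap R S) ∧ b * a = 0) → r₂ * a = 0)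
    (r : R) (hr : r₂ ∣ r) (hrp : r ∉ q.comap (algebraMap R S)) :
    Function.Injective (awayLift T r) := by
  rw [injective_iff_map_eq_zero]
  intro x hx
  obtain ⟨⟨a, ⟨_, n, rfl⟩⟩, hxa⟩ := IsLocalization.surj (Submonoid.powers r) x
  simp only at hxa
  have h1 : awayLift T r (algebraMap R _ a) = 0 := by
    rw [← hxa, map_mul, hx, zero_mul]
  rw [awayLift_algebraMap, IsLocalization.map_eq_zero_iff
    (Submonoid.powers (T * algebraMap R S r))] at h1
  obtain ⟨⟨_, j, rfl⟩, hj⟩ := h1
  simp only at hj
  have hTr : T * algebraMap R S r ∉ q := fun h =>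
    (‹q.IsPrime›.mem_or_mem h).elim hT hrp
  have h2 : algebraMap S (Localization.AtPrime q) (algebraMap R S a) = 0 := by
    rw [IsLocalization.map_eq_zero_iff q.primeCompl]
    exact ⟨⟨(T * algebraMap R S r) ^ j, fun h => hTr (‹q.IsPrime›.mem_of_pow_mem _ h)⟩, hj⟩
  have h3 : algebraMap R (Localization.AtPrime (q.comap (algebraMap R S))) a = 0 := by
    apply H
    rw [localRingHom_to_map, h2, map_zero]
  rw [IsLocalization.map_eq_zero_iff (q.comap (algebraMap R S)).primeCompl] at h3
  obtain ⟨⟨b, hb⟩, hba⟩ := h3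
  have h4 : r₂ * a = 0 := h₂ a ⟨b, hb, hba⟩
  have h5 : r * a = 0 := by
    obtain ⟨e, rfl⟩ := hr
    rw [mul_right_comm, h4, zero_mul]
  have h6 : algebraMap R (Localization.Away r) a = 0 := by
    rw [IsLocalization.map_eq_zero_iff (Submonoid.powers r)]
    exact ⟨⟨r, Submonoid.mem_powers _⟩, h5⟩
  rw [h6] at hxa
  have hu : IsUnit (algebraMap R (Localization.Away r) (r ^ n)) := by
    rw [map_pow]
    exact (IsLocalization.Away.algebraMap_isUnit r).pow n
  exact hu.mul_left_eq_zero.mp hxa

/-- Noetherian case of the uniform annihilator. -/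
lemma exists_uniform_of_isNoetherianRing [IsNoetherianRing R] (p : Ideal R) [p.IsPrime] :
    ∃ r₂ : R, r₂ ∉ p ∧ ∀ a : R, (∃ b : R, b ∉ p ∧ b * a = 0) → r₂ * a = 0 := by
  classical
  let J : Ideal R := RingHom.ker (algebraMap R (Localization.AtPrime p))
  obtain ⟨s, hs⟩ := (IsNoetherian.noetherian J : J.FG)
  have hmem : ∀ i ∈ s, ∃ b : R, b ∉ p ∧ b * i = 0 := by
    intro i hi
    have : i ∈ J := hs ▸ Ideal.subset_span hi
    rw [RingHom.mem_ker, IsLocalization.map_eq_zero_iff p.primeCompl] at this
    obtain ⟨⟨b, hb⟩, hbi⟩ := this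
    exact ⟨b, hb, hbi⟩
  choose! b hb hbi using hmem
  refine ⟨∏ i ∈ s, b i, ?_, ?_⟩
  · intro h
    obtain ⟨i, hi, hbi'⟩ := (Ideal.IsPrime.prod_mem_iff (p := p)).mp h
    exact hb i hi hbi'
  · have key : ∀ a ∈ Submodule.span R (s : Set R), (∏ i ∈ s, b i) * a = 0 := by
      intro a ha
      induction ha using Submodule.span_induction with
      | mem i hi =>
        rw [← Finset.mul_prod_erase s b hi, mul_right_comm, hbi i hi, zero_mul]
      | zero => simp
      | add x y _ _ hx hy => rw [mul_add, hx, hy, add_zero]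
      | smul c x _ hx => rw [smul_eq_mul, mul_left_comm, hx, mul_zero]
    rintro a ⟨c, hc, hca⟩
    have ha : a ∈ J := by
      rw [RingHom.mem_ker, IsLocalization.map_eq_zero_iff p.primeCompl]
      exact ⟨⟨c, hc⟩, hca⟩
    rw [← hs] at ha
    exact key a ha

/-- Reduced ring with finitely many minimal primes: the uniform annihilator. -/
lemma exists_uniform_of_isReduced [IsReduced R] (hfin : (minimalPrimes R).Finite) (p : Ideal R)
    [p.IsPrime] :
    ∃ r₀ : R, r₀ ∉ p ∧ ∀ a : R, (∃ b : R, b ∉ p ∧ b * a = 0) → r₀ * a = 0 := by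
  classical
  have hex : ∀ P : Ideal R, ¬ P ≤ p → ∃ c : R, c ∈ P ∧ c ∉ p := by
    intro P hP
    exact Set.not_subset.mp hP
  choose! c hcP hcp using hex
  let F := hfin.toFinset.filter fun P => ¬ P ≤ p
  refine ⟨∏ P ∈ F, c P, ?_, ?_⟩
  · intro h
    obtain ⟨P, hP, hc⟩ := (Ideal.IsPrime.prod_mem_iff (p := p)).mp h
    rw [Finset.mem_filter] at hP
    exact hcp P hP.2 hc
  · rintro a ⟨b, hb, hba⟩
    have hnil : (∏ P ∈ F, c P) * a ∈ nilradical R := by
      rw [nilradical, ← Ideal.sInf_minimalPrimes, Ideal.mem_sInf]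
      intro P hP
      have hP' : P ∈ minimalPrimes R := hP
      have hPprime : P.IsPrime := hP.1.1
      by_cases hle : P ≤ p
      · have : b * a ∈ P := by rw [hba]; exact P.zero_mem
        rcases hPprime.mem_or_mem this with h | h
        · exact absurd (hle h) hb
        · exact P.mul_mem_left _ h
      · have hPF : P ∈ F := by
          rw [Finset.mem_filter, Set.Finite.mem_toFinset]
          exact ⟨hP', hle⟩
        rw [← Finset.mul_prod_erase F c hPF, mul_assoc]
        exact P.mul_mem_right _ (hcP P hle)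
    rwa [nilradical_eq_zero, Ideal.zero_eq_bot, Ideal.mem_bot] at hnil

end Groth.Agent.Helper3.LocalIsoRing
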