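import Groth.Agent.Helper3.WEtale

/-! Flat + formally unramified + locally of finite type over a reduced base with locally finitely
many irreducible components is locally of finite presentation (hence étale). -/

open TensorProduct AlgebraicGeometry CategoryTheory TopologicalSpace

namespace Groth.Agent.Helper3.UnramFlat

universe u

/-- minimal primes of a flat quasi-finite algebra over a ring with finitely many minimal primes -/
lemma finite_minimalPrimes_of_flat_quasiFinite (A C : Type*) [CommRing A] [CommRing C]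
    [Algebra A C] [Module.Flat A C] [Algebra.QuasiFinite A C] (h : (minimalPrimes A).Finite) :
    (minimalPrimes C).Finite := by
  have hsub : minimalPrimes C ⊆ ⋃ p ∈ minimalPrimes A, p.primesOver C := by
    intro Q hQ
    haveI : Q.IsPrime := hQ.1.1
    simp only [Set.mem_iUnion]
    refine ⟨Q.under A, ?_, ⟨hQ.1.1, ⟨rfl⟩⟩⟩
    refine ⟨⟨inferInstance, bot_le⟩, fun p hp hle => ?_⟩
    haveI : p.IsPrime := hp.1
    by_contra hne
    have hlt : p < Q.under A := lt_of_le_not_ge hle hne
    obtain ⟨P, hPQ, hP, _⟩ := Ideal.exists_ideal_lt_liesOver_of_lt Q hlt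
    exact hPQ.not_ge (hQ.2 ⟨hP, bot_le⟩ hPQ.le)
  exact (h.biUnion (fun p _ => Algebra.QuasiFinite.finite_primesOver p)).subset hsub

/-- A pure ideal in a reduced ring with finitely many minimal primes is generated by an idempotent. -/
lemma exists_idempotent_of_pure (C : Type*) [CommRing C] [IsReduced C]
    (h : (minimalPrimes C).Finite) (I : Ideal C) [I.Pure] :
    ∃ e, IsIdempotentElem e ∧ I = Ideal.span {e} := by
  classical
  let S' := h.toFinset.filter (fun Q => ¬ I ≤ Q)
  let J : Ideal C := S'.inf id
  have hIJ : I ⊔ J = ⊤ := by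
    by_contra hne
    obtain ⟨m, hm, hle⟩ := Ideal.exists_le_maximal _ hne
    have hJm : J ≤ m := le_sup_right.trans hle
    have hIm : I ≤ m := le_sup_left.trans hle
    obtain ⟨Q, hQS, hQm⟩ : ∃ Q ∈ S', id Q ≤ m := (Ideal.IsPrime.inf_le' hm.isPrime).mp hJm
    have hQmin : Q ∈ minimalPrimes C := h.mem_toFinset.mp (Finset.mem_filter.mp hQS).1
    have hQp : Q.IsPrime := hQmin.1.1
    have : I ≤ Q := by
      intro x hx
      obtain ⟨y, hy, hxy⟩ := Ideal.exists_eq_mul_of_pure hx
      have h0 : x * (1 - y) = 0 := by rw [mul_sub, mul_one, ← hxy, sub_self]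
      rcases hQp.mem_or_mem (h0 ▸ Q.zero_mem : x * (1 - y) ∈ Q) with h | h
      · exact h
      · exfalso
        exact hm.ne_top ((Ideal.eq_top_iff_one _).mpr
          (by simpa using m.add_mem (hQm h) (hIm hy)))
    exact (Finset.mem_filter.mp hQS).2 this
  have hdisj : ∀ x, x ∈ I → x ∈ J → x = 0 := by
    intro x hxI hxJ
    have : x ∈ nilradical C := by
      rw [nilradical, ← Ideal.sInf_minimalPrimes, Ideal.mem_sInf]
      intro Q hQ
      by_cases hIQ : I ≤ Q
      · exact hIQ hxI
      · have hQS : Q ∈ S' := Finset.mem_filter.mpr ⟨h.mem_toFinset.mpr hQ, hIQ⟩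
        exact (Finset.inf_le hQS : J ≤ id Q) hxJ
    simpa [nilradical_eq_zero] using this
  have h1 : (1 : C) ∈ I ⊔ J := hIJ ▸ Submodule.mem_top
  obtain ⟨i, hi, j, hj, hij⟩ := Submodule.mem_sup.mp h1
  have hij0 : i * j = 0 := hdisj _ (I.mul_mem_right _ hi) (J.mul_mem_left _ hj)
  refine ⟨i, ?_, ?_⟩
  · show i * i = i
    calc i * i = i * i + i * j := by rw [hij0, add_zero]
      _ = i * (i + j) := by ring
      _ = i := by rw [hij, mul_one]
  · apply le_antisymm
    · intro x hx
      have hxj : x * j = 0 := hdisj _ (I.mul_mem_right _ hx) (J.mul_mem_left _ hj)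
      have : x = x * i := by
        calc x = x * (i + j) := by rw [hij, mul_one]
          _ = x * i + x * j := by ring
          _ = x * i := by rw [hxj, add_zero]
      rw [this]
      exact Ideal.mul_mem_left _ _ (Ideal.mem_span_singleton_self i)
    · rw [Ideal.span_singleton_le_iff_mem]
      exact hi

lemma pure_ker_of_flat_surjective {C M : Type*} [CommRing C] [CommRing M] [Algebra C M]
    [Module.Flat C M] (h : Function.Surjective (algebraMap C M)) :
    (RingHom.ker (algebraMap C M)).Pure := by
  have hsurj : Function.Surjective (Algebra.ofId C M) := h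
  let e : (C ⧸ RingHom.ker (Algebra.ofId C M)) ≃ₐ[C] M :=
    Ideal.quotientKerAlgEquivOfSurjective hsurj
  exact Module.Flat.of_linearEquiv e.toLinearEquiv

open Groth.Agent.Helper3.WEtale in
lemma finitePresentation_of_etale_surjection (A C M : Type u) [CommRing A] [CommRing C]
    [CommRing M] [Algebra A C] [Algebra A M] [Algebra C M] [IsScalarTower A C M]
    [Algebra.Etale A C] [Module.Flat A M] [IsReduced A] (hA : (minimalPrimes A).Finite)
    (h : Function.Surjective (algebraMap C M)) : Algebra.FinitePresentation A M := by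
  haveI : Module.Flat C M := flat_of_flat_lmul' A C (Algebra.WeaklyEtale.flat_lmul' A C) _
  haveI := pure_ker_of_flat_surjective h
  haveI : IsReduced C := isReduced_of_weaklyEtale A C
  have hC : (minimalPrimes C).Finite := finite_minimalPrimes_of_flat_quasiFinite A C hA
  obtain ⟨i, hi, hI⟩ := exists_idempotent_of_pure C hC (RingHom.ker (algebraMap C M))
  have hsurj : Function.Surjective (IsScalarTower.toAlgHom A C M) := h
  have hfg : (RingHom.ker (IsScalarTower.toAlgHom A C M)).FG := by
    have : RingHom.ker (IsScalarTower.toAlgHom A C M) = RingHom.ker (algebraMap C M) := rfl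
    rw [this, hI]
    exact ⟨{i}, by simp⟩
  exact Algebra.FinitePresentation.of_surjective hsurj hfg

theorem exists_finitePresentation_away (A B : Type u) [CommRing A] [CommRing B] [Algebra A B]
    [IsReduced A] (hA : (minimalPrimes A).Finite) [Algebra.FiniteType A B] [Module.Flat A B]
    [Algebra.FormallyUnramified A B] (Q : Ideal B) [Q.IsPrime] :
    ∃ g ∉ Q, Algebra.FinitePresentation A (Localization.Away g) := by
  obtain ⟨g, hgQ, P, φ, hφ⟩ :=
    Algebra.IsUnramifiedAt.exists_hasStandardEtaleSurjectionOn (R := A) Q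
  refine ⟨g, hgQ, ?_⟩
  letI : Algebra P.Ring (Localization.Away g) := φ.toRingHom.toAlgebra
  haveI : IsScalarTower A P.Ring (Localization.Away g) :=
    IsScalarTower.of_algebraMap_eq' φ.comp_algebraMap.symm
  exact finitePresentation_of_etale_surjection A P.Ring (Localization.Away g) hA hφ

lemma finite_irreducibleComponents_of_isOpenEmbedding {V X : Type*} [TopologicalSpace V]
    [TopologicalSpace X] {f : V → X} (hf : Topology.IsOpenEmbedding f)
    (h : (irreducibleComponents X).Finite) : (irreducibleComponents V).Finite := by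
  have key : ∀ Z ∈ irreducibleComponents V, ∃ T ∈ irreducibleComponents X, Z = f ⁻¹' T := by
    intro Z hZ
    have hZirr : IsIrreducible Z := hZ.1
    obtain ⟨T, hT, hZT⟩ := exists_mem_irreducibleComponents_subset_of_isIrreducible (f '' Z)
      (hZirr.image f hf.continuous.continuousOn)
    refine ⟨T, hT, ?_⟩
    have hsub : Z ⊆ f ⁻¹' T := fun z hz => hZT ⟨z, hz, rfl⟩
    have hpre : IsIrreducible (f ⁻¹' T) :=
      ⟨hZirr.nonempty.mono hsub, hT.1.isPreirreducible.preimage hf⟩
    exact le_antisymm hsub (hZ.2 hpre hsub)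
  exact (h.image (fun T => f ⁻¹' T)).subset (fun Z hZ => by
    obtain ⟨T, hT, rfl⟩ := key Z hZ
    exact ⟨T, hT, rfl⟩)

/-- An affine open inside an open with finitely many irreducible components has finitely many
minimal primes. -/
lemma finite_minimalPrimes_of_le {Y : Scheme.{u}} {U V : Y.Opens} (hV : IsAffineOpen V)
    (hVU : V ≤ U) (hU : (irreducibleComponents (U : Set Y)).Finite) :
    (minimalPrimes Γ(Y, V)).Finite := by
  have h1 : (irreducibleComponents (V : Set Y)).Finite :=
    finite_irreducibleComponents_of_isOpenEmbedding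
      (TopologicalSpace.Opens.isOpenEmbedding_of_le hVU) hU
  have h2 : (irreducibleComponents (PrimeSpectrum Γ(Y, V))).Finite :=
    finite_irreducibleComponents_of_isOpenEmbedding
      (Scheme.homeoOfIso hV.isoSpec).symm.isOpenEmbedding h1
  have e := minimalPrimes.equivIrreducibleComponents Γ(Y, V)
  have : Finite (irreducibleComponents (PrimeSpectrum Γ(Y, V)))ᵒᵈ := h2.to_subtype
  exact Set.finite_coe_iff.mp (Finite.of_equiv _ e.symm.toEquiv)

theorem locallyOfFinitePresentation_of_flat_unramified {X Y : Scheme.{u}} (f : X ⟶ Y)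
    [LocallyOfFiniteType f] [Flat f] [FormallyUnramified f] [IsReduced Y]
    (hY : ∀ y : Y, ∃ U : Y.Opens, y ∈ U ∧ (irreducibleComponents (U : Set Y)).Finite) :
    LocallyOfFinitePresentation f := by
  have hQ : RingHom.StableUnderCompositionWithLocalizationAwaySource
      RingHom.FinitePresentation :=
    (RingHom.finitePresentation_stableUnderComposition.stableUnderCompositionWithLocalizationAway
      RingHom.finitePresentation_holdsForLocalizationAway).left
  rw [HasRingHomProperty.iff_exists_appLE (P := @LocallyOfFinitePresentation) hQ]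
  intro x
  obtain ⟨U, hfxU, hU⟩ := hY (f x)
  obtain ⟨V, hV, hfxV, hVU⟩ := Opens.isBasis_iff_nbhd.mp Y.isBasis_affineOpens hfxU
  obtain ⟨W, hW, hxW, e⟩ := Opens.isBasis_iff_nbhd.mp X.isBasis_affineOpens
    (show x ∈ f ⁻¹ᵁ V from hfxV)
  have hA := finite_minimalPrimes_of_le hV hVU hU
  letI : Algebra Γ(Y, V) Γ(X, W) := (f.appLE V W e).hom.toAlgebra
  haveI : Algebra.FiniteType Γ(Y, V) Γ(X, W) := f.finiteType_appLE hV hW e
  haveI : Module.Flat Γ(Y, V) Γ(X, W) := f.flat_appLE hV hW e
  haveI : Algebra.FormallyUnramified Γ(Y, V) Γ(X, W) := f.formallyUnramified_appLE hV hW e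
  obtain ⟨g, hgQ, hfp⟩ := exists_finitePresentation_away Γ(Y, V) Γ(X, W) hA
    (hW.primeIdealOf ⟨x, hxW⟩).asIdeal
  have hxg : x ∈ X.basicOpen g := by
    have h1 : hW.primeIdealOf ⟨x, hxW⟩ ∈ hW.fromSpec ⁻¹ᵁ X.basicOpen g := by
      rw [hW.fromSpec_preimage_basicOpen]
      exact hgQ
    have h2 := hW.fromSpec_primeIdealOf ⟨x, hxW⟩
    have h3 : hW.fromSpec (hW.primeIdealOf ⟨x, hxW⟩) ∈ X.basicOpen g := h1
    rwa [h2] at h3
  refine ⟨⟨V, hV⟩, ⟨X.basicOpen g, hW.basicOpen g⟩, hxg, (X.basicOpen_le g).trans e, ?_⟩
  rw [← f.appLE_map e (homOfLE (X.basicOpen_le g)).op]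
  have hloc : IsLocalization.Away g Γ(X, X.basicOpen g) := hW.isLocalization_basicOpen g
  letI : Algebra Γ(Y, V) Γ(X, X.basicOpen g) :=
    ((f.appLE V W e) ≫ X.presheaf.map (homOfLE (X.basicOpen_le g)).op).hom.toAlgebra
  haveI : IsScalarTower Γ(Y, V) Γ(X, W) Γ(X, X.basicOpen g) :=
    IsScalarTower.of_algebraMap_eq' rfl
  let eq : Localization.Away g ≃ₐ[Γ(X, W)] Γ(X, X.basicOpen g) :=
    IsLocalization.algEquiv (Submonoid.powers g) _ _
  have : Algebra.FinitePresentation Γ(Y, V) Γ(X, X.basicOpen g) :=
    Algebra.FinitePresentation.equiv (eq.restrictScalars Γ(Y, V))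
  exact this


theorem etale_of_flat_unramified {X Y : Scheme.{u}} (f : X ⟶ Y)
    [LocallyOfFiniteType f] [Flat f] [FormallyUnramified f] [IsReduced Y]
    (hY : ∀ y : Y, ∃ U : Y.Opens, y ∈ U ∧ (irreducibleComponents (U : Set Y)).Finite) :
    Etale f := by
  haveI := locallyOfFinitePresentation_of_flat_unramified f hY
  exact Etale.of_formallyUnramified_of_flat f

open Groth.Agent.Helper3.WEtale in
/-- A flat algebra that is a quotient of an étale algebra is formally smooth. -/
lemma formallySmooth_of_etale_surjection (A C M : Type u) [CommRing A] [CommRing C]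
    [CommRing M] [Algebra A C] [Algebra A M] [Algebra C M] [IsScalarTower A C M]
    [Algebra.Etale A C] [Module.Flat A M]
    (h : Function.Surjective (algebraMap C M)) : Algebra.FormallySmooth A M := by
  haveI : Module.Flat C M := flat_of_flat_lmul' A C (Algebra.WeaklyEtale.flat_lmul' A C) _
  haveI := pure_ker_of_flat_surjective h
  haveI : Algebra.FormallySmooth C M :=
    (Algebra.FormallySmooth.iff_of_surjective h).mpr (Ideal.isIdempotentElem_of_pure _)
  exact Algebra.FormallySmooth.comp A C M

theorem exists_formallySmooth_away (A B : Type u) [CommRing A] [CommRing B] [Algebra A B]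
    [Algebra.FiniteType A B] [Module.Flat A B]
    [Algebra.FormallyUnramified A B] (Q : Ideal B) [Q.IsPrime] :
    ∃ g ∉ Q, Algebra.FormallySmooth A (Localization.Away g) := by
  obtain ⟨g, hgQ, P, φ, hφ⟩ :=
    Algebra.IsUnramifiedAt.exists_hasStandardEtaleSurjectionOn (R := A) Q
  refine ⟨g, hgQ, ?_⟩
  letI : Algebra P.Ring (Localization.Away g) := φ.toRingHom.toAlgebra
  haveI : IsScalarTower A P.Ring (Localization.Away g) :=
    IsScalarTower.of_algebraMap_eq' φ.comp_algebraMap.symm
  exact formallySmooth_of_etale_surjection A P.Ring (Localization.Away g) hφ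

/-- A flat, finite type, formally unramified algebra is formally étale. -/
theorem formallyEtale_of_flat_unramified (A B : Type u) [CommRing A] [CommRing B] [Algebra A B]
    [Algebra.FiniteType A B] [Module.Flat A B] [Algebra.FormallyUnramified A B] :
    Algebra.FormallyEtale A B := by
  have hH1 : Subsingleton (Algebra.H1Cotangent A B) := by
    refine ⟨fun m m' => ?_⟩
    suffices h : ∀ m : Algebra.H1Cotangent A B, m = 0 by rw [h m, h m']
    intro m
    let I : Ideal B := LinearMap.ker (LinearMap.toSpanSingleton B _ m)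
    have hI : I = ⊤ := by
      by_contra hne
      obtain ⟨Q, hQ, hle⟩ := Ideal.exists_le_maximal I hne
      haveI := hQ.isPrime
      obtain ⟨g, hgQ, hsm⟩ := exists_formallySmooth_away A B Q
      have h0 : Algebra.H1Cotangent.map A A B (Localization.Away g) m = 0 :=
        Subsingleton.elim _ _
      obtain ⟨c, hc⟩ := (IsLocalizedModule.eq_zero_iff (Submonoid.powers g)
        (Algebra.H1Cotangent.map A A B (Localization.Away g))).mp h0
      obtain ⟨n, hn⟩ := c.2
      have hcI : (c : B) ∈ I := by
        show LinearMap.toSpanSingleton B _ m (c : B) = 0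
        rw [LinearMap.toSpanSingleton_apply]
        exact hc
      have : g ^ n ∈ Q := by
        have h1 : g ^ n = (c : B) := hn
        rw [h1]
        exact hle hcI
      exact hgQ (hQ.isPrime.mem_of_pow_mem n this)
    have : (1 : B) ∈ I := hI ▸ Submodule.mem_top
    simpa [I, LinearMap.mem_ker] using this
  haveI : Algebra.FormallySmooth A B := ⟨inferInstance, hH1⟩
  exact Algebra.FormallyEtale.of_formallyUnramified_and_formallySmooth


end Groth.Agent.Helper3.UnramFlat
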