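import Mathlib
import Groth.Agent.Helper3.LocalIsoRing
import Groth.Agent.Helper3.UnramBC
import Groth.Agent.Helper3.UnramFlat

/-!
Local isomorphisms / local immersions at a point via the stalk map (scheme level).
-/

set_option autoImplicit false

namespace Groth.Agent.Helper3.LocalIso

open AlgebraicGeometry CategoryTheory Limits Groth.Agent.Helper3.LocalIsoRing

universe u

lemma bijective_respectsIso :
    RingHom.RespectsIso (fun {R S : Type u} [CommRing R] [CommRing S] (f : R →+* S) =>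
      Function.Bijective f) := by
  refine ⟨?_, ?_⟩
  · intro R S T _ _ _ f e hf
    exact e.bijective.comp hf
  · intro R S T _ _ _ f e hf
    exact hf.comp e.bijective

lemma surjective_respectsIso :
    RingHom.RespectsIso (fun {R S : Type u} [CommRing R] [CommRing S] (f : R →+* S) =>
      Function.Surjective f) := by
  refine ⟨?_, ?_⟩
  · intro R S T _ _ _ f e hf
    exact e.surjective.comp hf
  · intro R S T _ _ _ f e hf
    exact hf.comp e.surjective

/-- The chart data at a point: affine opens and the induced prime. -/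
theorem exists_chart {X Y : Scheme.{u}} (f : X ⟶ Y) (x : X)
    {Q' : ∀ {R S : Type u} [CommRing R] [CommRing S], (R →+* S) → Prop}
    (hQ' : RingHom.RespectsIso Q') (h : Q' (f.stalkMap x).hom) :
    ∃ (V : Y.Opens) (U : X.Opens) (hV : IsAffineOpen V) (hU : IsAffineOpen U) (hxU : x ∈ U)
      (e : U ≤ f ⁻¹ᵁ V),
      Q' (Localization.localRingHom
        ((hU.primeIdealOf ⟨x, hxU⟩).asIdeal.comap (f.appLE V U e).hom)
        (hU.primeIdealOf ⟨x, hxU⟩).asIdeal (f.appLE V U e).hom rfl) := by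
  obtain ⟨V, hV, hfx, _⟩ := TopologicalSpace.Opens.isBasis_iff_nbhd.mp Y.isBasis_affineOpens
    (TopologicalSpace.Opens.mem_top <| f x)
  obtain ⟨U, hU, hxU, e⟩ := TopologicalSpace.Opens.isBasis_iff_nbhd.mp X.isBasis_affineOpens
    (show x ∈ f ⁻¹ᵁ V from hfx)
  have hV : IsAffineOpen V := hV
  have hU : IsAffineOpen U := hU
  refine ⟨V, U, hV, hU, hxU, e, ?_⟩
  have hpt : hU.fromSpec (hU.primeIdealOf ⟨x, hxU⟩) = x := hU.fromSpec_primeIdealOf ⟨x, hxU⟩
  have sq : hU.fromSpec ≫ f = Spec.map (f.appLE V U e) ≫ hV.fromSpec :=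
    (hV.SpecMap_appLE_fromSpec f hU e).symm
  have h1 := (hQ'.arrow_mk_iso_iff (f.arrowStalkMapIsoOfEq hpt)).mpr h
  have h2 := (Groth.Agent.Helper3.UnramBC.stalkMap_iff_of_square hQ' f
    (Spec.map (f.appLE V U e)) hU.fromSpec hV.fromSpec sq (hU.primeIdealOf ⟨x, hxU⟩)).mpr h1
  exact (hQ'.arrow_mk_iso_iff (Scheme.arrowStalkMapSpecIso (f.appLE V U e)
    (hU.primeIdealOf ⟨x, hxU⟩))).mp h2

/-- Transport of a property along a square with open immersions to the restriction `resLE`. -/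
lemma resLE_of_square {P : MorphismProperty Scheme.{u}} [P.RespectsIso]
    {X Y X₀ Y₀ : Scheme.{u}} (f : X ⟶ Y) (f₀ : X₀ ⟶ Y₀) (j : X₀ ⟶ X) (i : Y₀ ⟶ Y)
    [IsOpenImmersion j] [IsOpenImmersion i] (w : j ≫ f = f₀ ≫ i)
    (h : j.opensRange ≤ f ⁻¹ᵁ i.opensRange) (hf₀ : P f₀) :
    P (f.resLE i.opensRange j.opensRange h) := by
  have key : j.isoOpensRange.hom ≫ f.resLE i.opensRange j.opensRange h =
      f₀ ≫ i.isoOpensRange.hom := by
    rw [← cancel_mono i.opensRange.ι, Category.assoc, Scheme.Hom.resLE_comp_ι,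
      ← Category.assoc, Scheme.Hom.isoOpensRange_hom_ι, Category.assoc,
      Scheme.Hom.isoOpensRange_hom_ι, w]
  have : f.resLE i.opensRange j.opensRange h =
      j.isoOpensRange.inv ≫ f₀ ≫ i.isoOpensRange.hom := by
    rw [← key, Iso.inv_hom_id_assoc]
  rw [this, P.cancel_left_of_respectsIso, P.cancel_right_of_respectsIso]
  exact hf₀

/-- The square attached to a chart and elements `T`, `r`. -/
theorem chart_square {X Y : Scheme.{u}} (f : X ⟶ Y) (x : X) {V : Y.Opens} {U : X.Opens}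
    (hV : IsAffineOpen V) (hU : IsAffineOpen U) (hxU : x ∈ U) (e : U ≤ f ⁻¹ᵁ V)
    [Algebra Γ(Y, V) Γ(X, U)] (halg : algebraMap Γ(Y, V) Γ(X, U) = (f.appLE V U e).hom)
    (T : Γ(X, U)) (r : Γ(Y, V)) (hT : T ∉ (hU.primeIdealOf ⟨x, hxU⟩).asIdeal)
    (hr : r ∉ (hU.primeIdealOf ⟨x, hxU⟩).asIdeal.comap (algebraMap Γ(Y, V) Γ(X, U))) :
      x ∈ Set.range (Spec.map (CommRingCat.ofHom (algebraMap Γ(X, U)
          (Localization.Away (T * algebraMap Γ(Y, V) Γ(X, U) r)))) ≫ hU.fromSpec) ∧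
      (Spec.map (CommRingCat.ofHom (algebraMap Γ(X, U)
          (Localization.Away (T * algebraMap Γ(Y, V) Γ(X, U) r)))) ≫ hU.fromSpec) ≫ f =
        Spec.map (CommRingCat.ofHom (awayLift T r)) ≫
          Spec.map (CommRingCat.ofHom (algebraMap Γ(Y, V) (Localization.Away r))) ≫
            hV.fromSpec := by
  constructor
  · have hg : T * algebraMap Γ(Y, V) Γ(X, U) r ∉ (hU.primeIdealOf ⟨x, hxU⟩).asIdeal := fun h =>
      ((hU.primeIdealOf ⟨x, hxU⟩).isPrime.mem_or_mem h).elim hT hr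
    have h1 : hU.primeIdealOf ⟨x, hxU⟩ ∈ Set.range (PrimeSpectrum.comap
        (algebraMap Γ(X, U) (Localization.Away (T * algebraMap Γ(Y, V) Γ(X, U) r)))) := by
      rw [PrimeSpectrum.localization_away_comap_range
        (Localization.Away (T * algebraMap Γ(Y, V) Γ(X, U) r))
        (T * algebraMap Γ(Y, V) Γ(X, U) r)]
      exact hg
    obtain ⟨t, ht⟩ := h1
    refine ⟨t, ?_⟩
    change hU.fromSpec ((Spec.map (CommRingCat.ofHom (algebraMap Γ(X, U)
      (Localization.Away (T * algebraMap Γ(Y, V) Γ(X, U) r))))) t) = x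
    have : (Spec.map (CommRingCat.ofHom (algebraMap Γ(X, U)
        (Localization.Away (T * algebraMap Γ(Y, V) Γ(X, U) r))))) t =
        hU.primeIdealOf ⟨x, hxU⟩ := ht
    rw [this]
    exact hU.fromSpec_primeIdealOf ⟨x, hxU⟩
  · rw [Category.assoc, ← hV.SpecMap_appLE_fromSpec f hU e, ← Spec.map_comp_assoc,
      ← Spec.map_comp_assoc]
    congr 2
    ext a
    simp only [CommRingCat.hom_comp, CommRingCat.hom_ofHom, RingHom.comp_apply]
    rw [awayLift_algebraMap, halg]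

/-- `f` locally of finite type with surjective stalk map at `x` is a closed immersion near `x`. -/
theorem exists_closedImmersion_nbhd {X Y : Scheme.{u}} (f : X ⟶ Y) [LocallyOfFiniteType f] (x : X)
    (hx : Function.Surjective (f.stalkMap x).hom) :
    ∃ (U : X.Opens) (V : Y.Opens) (h : U ≤ f ⁻¹ᵁ V), x ∈ U ∧
      IsClosedImmersion (f.resLE V U h) := by
  obtain ⟨V, U, hV, hU, hxU, e, hloc⟩ := exists_chart f x surjective_respectsIso hx
  letI : Algebra Γ(Y, V) Γ(X, U) := (f.appLE V U e).hom.toAlgebra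
  have hft : Algebra.FiniteType Γ(Y, V) Γ(X, U) := f.finiteType_appLE hV hU e
  obtain ⟨T, hT, r₀, hr₀, hsurj⟩ :=
    exists_awayLift_surjective (hU.primeIdealOf ⟨x, hxU⟩).asIdeal hloc
  obtain ⟨hxj, sq⟩ := chart_square f x hV hU hxU e rfl T r₀ hT hr₀
  have hcl : IsClosedImmersion (Spec.map (CommRingCat.ofHom (awayLift T r₀))) :=
    IsClosedImmersion.spec_of_surjective _ (hsurj r₀ dvd_rfl)
  have hle : (Spec.map (CommRingCat.ofHom (algebraMap Γ(X, U)
        (Localization.Away (T * algebraMap Γ(Y, V) Γ(X, U) r₀)))) ≫ hU.fromSpec).opensRange ≤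
      f ⁻¹ᵁ (Spec.map (CommRingCat.ofHom (algebraMap Γ(Y, V) (Localization.Away r₀))) ≫
        hV.fromSpec).opensRange := by
    rintro _ ⟨t, rfl⟩
    refine ⟨(Spec.map (CommRingCat.ofHom (awayLift T r₀))) t, ?_⟩
    have := congrArg (fun g => g t) sq
    simp only [Scheme.Hom.comp_apply] at this ⊢
    exact this.symm
  exact ⟨_, _, hle, hxj, resLE_of_square (P := @IsClosedImmersion) f _ _ _ sq hle hcl⟩

/-- `f` locally of finite type with bijective stalk map at `x` is an open immersion near `x`,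
provided the affine coordinate rings of the target have uniform annihilators. -/
theorem exists_isOpenImmersion_nbhd {X Y : Scheme.{u}} (f : X ⟶ Y) [LocallyOfFiniteType f] (x : X)
    (hx : Function.Bijective (f.stalkMap x).hom)
    (hunif : ∀ V : Y.Opens, IsAffineOpen V → ∀ p : Ideal Γ(Y, V), p.IsPrime →
      ∃ r₂ : Γ(Y, V), r₂ ∉ p ∧ ∀ a : Γ(Y, V), (∃ b : Γ(Y, V), b ∉ p ∧ b * a = 0) → r₂ * a = 0) :
    ∃ U : X.Opens, x ∈ U ∧ IsOpenImmersion (U.ι ≫ f) := by
  obtain ⟨V, U, hV, hU, hxU, e, hloc⟩ := exists_chart f x bijective_respectsIso hx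
  letI : Algebra Γ(Y, V) Γ(X, U) := (f.appLE V U e).hom.toAlgebra
  have hft : Algebra.FiniteType Γ(Y, V) Γ(X, U) := f.finiteType_appLE hV hU e
  obtain ⟨T, hT, r₀, hr₀, hsurj⟩ :=
    exists_awayLift_surjective (hU.primeIdealOf ⟨x, hxU⟩).asIdeal hloc.2
  obtain ⟨r₂, hr₂, h₂⟩ := hunif V hV
    ((hU.primeIdealOf ⟨x, hxU⟩).asIdeal.comap (algebraMap Γ(Y, V) Γ(X, U))) inferInstance
  have hr : r₀ * r₂ ∉ (hU.primeIdealOf ⟨x, hxU⟩).asIdeal.comap (algebraMap Γ(Y, V) Γ(X, U)) :=
    fun h => (Ideal.IsPrime.mem_or_mem inferInstance h).elim hr₀ hr₂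
  have hinj := awayLift_injective (hU.primeIdealOf ⟨x, hxU⟩).asIdeal T hT hloc.1 r₂ h₂
    (r₀ * r₂) (Dvd.intro_left _ rfl) hr
  have hbij : Function.Bijective (awayLift (S := Γ(X, U)) T (r₀ * r₂)) :=
    ⟨hinj, hsurj _ (Dvd.intro _ rfl)⟩
  obtain ⟨hxj, sq⟩ := chart_square f x hV hU hxU e rfl T (r₀ * r₂) hT hr
  have hiso : IsIso (Spec.map (CommRingCat.ofHom (awayLift (S := Γ(X, U)) T (r₀ * r₂)))) := by
    have : IsIso (CommRingCat.ofHom (awayLift (S := Γ(X, U)) T (r₀ * r₂))) :=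
      (ConcreteCategory.isIso_iff_bijective _).mpr hbij
    infer_instance
  refine StalkNbhd.exists_opens_of_isOpenImmersion (P := @IsOpenImmersion) f _ x hxj ?_
  rw [sq]
  infer_instance

end Groth.Agent.Helper3.LocalIso
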