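import Mathlib
import Groth.Agent.Helper3.LocalIsoRing

/-!
Finite presentation variant of `LocalIsoRing.awayLift_injective`: no uniform annihilator hypothesis
on `R` is needed when `S` is of finite presentation over `R`.
-/

set_option autoImplicit false

namespace Groth.Agent.Helper3.LocalIsoRing

open Localization

universe u

variable {R S : Type u} [CommRing R] [CommRing S] [Algebra R S]

/-- `awayLift` as an `R`-algebra homomorphism. -/
noncomputable def awayLiftₐ (T : S) (r : R) :
    Localization.Away r →ₐ[R] Localization.Away (T * algebraMap R S r) :=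
  { awayLift T r with
    commutes' := fun a => by
      change awayLift T r (algebraMap R _ a) = _
      rw [awayLift_algebraMap, ← IsScalarTower.algebraMap_apply] }

/-- An element of `R` killed in `S_{T r}` is killed by some element outside `p`. -/
lemma exists_mul_eq_zero_of_map_eq_zero (q : Ideal S) [q.IsPrime] (T : S) (hT : T ∉ q)
    (H : Function.Injective
      (localRingHom (q.comap (algebraMap R S)) q (algebraMap R S) rfl))
    (r : R) (hrp : r ∉ q.comap (algebraMap R S)) (a : R)
    (ha : algebraMap S (Localization.Away (T * algebraMap R S r)) (algebraMap R S a) = 0) :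
    ∃ b : R, b ∉ q.comap (algebraMap R S) ∧ b * a = 0 := by
  rw [IsLocalization.map_eq_zero_iff (Submonoid.powers (T * algebraMap R S r))] at ha
  obtain ⟨⟨_, j, rfl⟩, hj⟩ := ha
  simp only at hj
  have hTr : T * algebraMap R S r ∉ q := fun h =>
    (‹q.IsPrime›.mem_or_mem h).elim hT hrp
  have h2 : algebraMap S (Localization.AtPrime q) (algebraMap R S a) = 0 := by
    rw [IsLocalization.map_eq_zero_iff q.primeCompl]
    exact ⟨⟨(T * algebraMap R S r) ^ j, fun h => hTr (‹q.IsPrime›.mem_of_pow_mem _ h)⟩, hj⟩
  have h3 : algebraMap R (Localization.AtPrime (q.comap (algebraMap R S))) a = 0 := by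
    apply H
    rw [localRingHom_to_map, h2, map_zero]
  rw [IsLocalization.map_eq_zero_iff (q.comap (algebraMap R S)).primeCompl] at h3
  obtain ⟨⟨b, hb⟩, hba⟩ := h3
  exact ⟨b, hb, hba⟩

theorem exists_awayLift_injective_of_finitePresentation [Algebra.FinitePresentation R S]
    (q : Ideal S) [q.IsPrime] (T : S) (hT : T ∉ q)
    (H : Function.Injective
      (localRingHom (q.comap (algebraMap R S)) q (algebraMap R S) rfl))
    (r₀ : R) (hr₀ : r₀ ∉ q.comap (algebraMap R S))
    (hsurj : Function.Surjective (awayLift T r₀)) :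
    ∃ r₂ : R, r₂ ∉ q.comap (algebraMap R S) ∧ ∀ r : R, r₂ ∣ r → r ∉ q.comap (algebraMap R S) →
      Function.Injective (awayLift T r) := by
  classical
  have hp : (q.comap (algebraMap R S)).IsPrime := inferInstance
  haveI : Algebra.FinitePresentation R (Localization.Away (T * algebraMap R S r₀)) :=
    Algebra.FinitePresentation.trans R S _
  -- the kernel of `R_{r₀} → S_{T r₀}` is finitely generated
  obtain ⟨s, hs⟩ := Algebra.FinitePresentation.ker_fG_of_surjective (awayLiftₐ T r₀) hsurj
  -- numerators
  have hnum : ∀ k : Localization.Away r₀, ∃ a : R, ∃ n : ℕ,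
      k * algebraMap R _ (r₀ ^ n) = algebraMap R _ a := by
    intro k
    obtain ⟨⟨a, ⟨_, n, rfl⟩⟩, hka⟩ := IsLocalization.surj (Submonoid.powers r₀) k
    exact ⟨a, n, hka⟩
  choose num ex hnum using hnum
  have hker : ∀ k ∈ s, ∃ b : R, b ∉ q.comap (algebraMap R S) ∧ b * num k = 0 := by
    intro k hk
    have hk' : k ∈ RingHom.ker (awayLiftₐ T r₀).toRingHom := hs ▸ Ideal.subset_span hk
    have h0 : awayLift T r₀ k = 0 := hk'
    refine exists_mul_eq_zero_of_map_eq_zero q T hT H r₀ hr₀ (num k) ?_
    rw [← awayLift_algebraMap, ← hnum k, map_mul, h0, zero_mul]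
  choose! b hb hbnum using hker
  refine ⟨r₀ * ∏ k ∈ s, b k, ?_, ?_⟩
  · intro h
    rcases hp.mem_or_mem h with h | h
    · exact hr₀ h
    · obtain ⟨k, hk, hk'⟩ := (Ideal.IsPrime.prod_mem_iff (p := q.comap (algebraMap R S))).mp h
      exact hb k hk hk'
  intro r hr hrp
  have hr₀r : r₀ ∣ r := (Dvd.intro _ rfl).trans hr
  -- the transition map `R_{r₀} → R_r`
  have hunit : IsUnit (algebraMap R (Localization.Away r) r₀) := by
    obtain ⟨e, rfl⟩ := hr₀r
    have := IsLocalization.Away.algebraMap_isUnit (S := Localization.Away (r₀ * e)) (r₀ * e)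
    rw [map_mul, IsUnit.mul_iff] at this
    exact this.1
  let τ : Localization.Away r₀ →+* Localization.Away r := IsLocalization.Away.lift r₀ hunit
  have hτ : ∀ a : R, τ (algebraMap R _ a) = algebraMap R _ a := fun a =>
    IsLocalization.Away.lift_eq r₀ hunit a
  -- generators of the kernel die in `R_r`
  have hgen : ∀ k ∈ s, τ k = 0 := by
    intro k hk
    have h1 : algebraMap R (Localization.Away r) (num k) = 0 := by
      rw [IsLocalization.map_eq_zero_iff (Submonoid.powers r)]
      have hbr : b k ∣ r := ((Finset.dvd_prod_of_mem b hk).trans (Dvd.intro_left _ rfl)).trans hr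
      obtain ⟨e, rfl⟩ := hbr
      refine ⟨⟨b k * e, Submonoid.mem_powers _⟩, ?_⟩
      simp only
      rw [mul_right_comm, hbnum k hk, zero_mul]
    have h2 := congrArg τ (hnum k)
    rw [map_mul, hτ, hτ, h1] at h2
    have hu : IsUnit (algebraMap R (Localization.Away r) (r₀ ^ ex k)) := by
      rw [map_pow]; exact hunit.pow _
    exact hu.mul_left_eq_zero.mp h2
  have hkerτ : RingHom.ker (awayLiftₐ T r₀).toRingHom ≤ RingHom.ker τ := by
    rw [← hs, Ideal.span_le]
    intro k hk
    exact hgen k hk
  rw [injective_iff_map_eq_zero]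
  intro x hx
  obtain ⟨⟨a, ⟨_, n, rfl⟩⟩, hxa⟩ := IsLocalization.surj (Submonoid.powers r) x
  simp only at hxa
  have h1 : awayLift T r (algebraMap R _ a) = 0 := by
    rw [← hxa, map_mul, hx, zero_mul]
  rw [awayLift_algebraMap, IsLocalization.map_eq_zero_iff
    (Submonoid.powers (T * algebraMap R S r))] at h1
  obtain ⟨⟨_, j, rfl⟩, hj⟩ := h1
  simp only at hj
  -- `r^j a` dies in `S_{T r₀}`
  have h2 : awayLift T r₀ (algebraMap R _ (r ^ j * a)) = 0 := by
    rw [awayLift_algebraMap, IsLocalization.map_eq_zero_iff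
      (Submonoid.powers (T * algebraMap R S r₀))]
    refine ⟨⟨(T * algebraMap R S r₀) ^ j, j, rfl⟩, ?_⟩
    simp only
    have : (T * algebraMap R S r₀) ^ j * algebraMap R S (r ^ j * a) =
        algebraMap R S r₀ ^ j * ((T * algebraMap R S r) ^ j * algebraMap R S a) := by
      rw [map_mul, map_pow]; ring
    rw [this, hj, mul_zero]
  have h3 : τ (algebraMap R _ (r ^ j * a)) = 0 := hkerτ h2
  rw [hτ, map_mul] at h3
  have hu : IsUnit (algebraMap R (Localization.Away r) (r ^ j)) := by
    rw [map_pow]; exact (IsLocalization.Away.algebraMap_isUnit r).pow j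
  have h6 : algebraMap R (Localization.Away r) a = 0 := hu.mul_right_eq_zero.mp h3
  rw [h6] at hxa
  have hu' : IsUnit (algebraMap R (Localization.Away r) (r ^ n)) := by
    rw [map_pow]; exact (IsLocalization.Away.algebraMap_isUnit r).pow n
  exact hu'.mul_left_eq_zero.mp hxa

end Groth.Agent.Helper3.LocalIsoRing
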