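import Mathlib
import Groth.Agent.Helper3.LocalIso
import Groth.Agent.Helper3.LocalIsoRing2

/-!
`f` locally of finite presentation with bijective stalk map at `x` is an open immersion near `x`.
-/

set_option autoImplicit false

namespace Groth.Agent.Helper3.LocalIso

open AlgebraicGeometry CategoryTheory Limits Groth.Agent.Helper3.LocalIsoRing

universe u

theorem exists_isOpenImmersion_nbhd_of_lfp {X Y : Scheme.{u}} (f : X ⟶ Y)
    [LocallyOfFinitePresentation f] (x : X)
    (hx : Function.Bijective (f.stalkMap x).hom) :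
    ∃ U : X.Opens, x ∈ U ∧ IsOpenImmersion (U.ι ≫ f) := by
  obtain ⟨V, U, hV, hU, hxU, e, hloc⟩ := exists_chart f x bijective_respectsIso hx
  letI : Algebra Γ(Y, V) Γ(X, U) := (f.appLE V U e).hom.toAlgebra
  have hfp : Algebra.FinitePresentation Γ(Y, V) Γ(X, U) := f.finitePresentation_appLE hV hU e
  have hft : Algebra.FiniteType Γ(Y, V) Γ(X, U) := inferInstance
  obtain ⟨T, hT, r₀, hr₀, hsurj⟩ :=
    exists_awayLift_surjective (hU.primeIdealOf ⟨x, hxU⟩).asIdeal hloc.2
  obtain ⟨r₂, hr₂, h₂⟩ := exists_awayLift_injective_of_finitePresentation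
    (hU.primeIdealOf ⟨x, hxU⟩).asIdeal T hT hloc.1 r₀ hr₀ (hsurj r₀ dvd_rfl)
  have hr : r₀ * r₂ ∉ (hU.primeIdealOf ⟨x, hxU⟩).asIdeal.comap (algebraMap Γ(Y, V) Γ(X, U)) :=
    fun h => (Ideal.IsPrime.mem_or_mem inferInstance h).elim hr₀ hr₂
  have hinj := h₂ (r₀ * r₂) (Dvd.intro_left _ rfl) hr
  have hbij : Function.Bijective (awayLift (S := Γ(X, U)) T (r₀ * r₂)) :=
    ⟨hinj, hsurj _ (Dvd.intro _ rfl)⟩
  obtain ⟨hxj, sq⟩ := chart_square f x hV hU hxU e rfl T (r₀ * r₂) hT hr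
  have hiso : IsIso (Spec.map (CommRingCat.ofHom (awayLift (S := Γ(X, U)) T (r₀ * r₂)))) := by
    have : IsIso (CommRingCat.ofHom (awayLift (S := Γ(X, U)) T (r₀ * r₂))) :=
      (ConcreteCategory.isIso_iff_bijective _).mpr hbij
    infer_instance
  refine StalkNbhd.exists_opens_of_isOpenImmersion (P := @IsOpenImmersion) f _ x hxj ?_
  rw [sq]
  infer_instance

end Groth.Agent.Helper3.LocalIso
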