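import Mathlib
import Groth.Agent.Helper3.BirDense
import Groth.Agent.Helper3.LocalIso2

/-!
Birational morphisms (bijection on generic points + stalk isomorphisms there) restrict to
isomorphisms between dense opens, for `f` locally of finite presentation, or locally of finite type
with reduced target having finitely many irreducible components.
-/

set_option autoImplicit false

namespace Groth.Agent.Helper3.BirDense

open AlgebraicGeometry CategoryTheory Limits

universe u

lemma hunif_of_isReduced {Y : Scheme.{u}} [IsReduced Y]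
    (hYfin : (irreducibleComponents ↥Y).Finite) :
    ∀ V : Y.Opens, IsAffineOpen V → ∀ p : Ideal Γ(Y, V), p.IsPrime →
      ∃ r₂ : Γ(Y, V), r₂ ∉ p ∧ ∀ a : Γ(Y, V), (∃ b : Γ(Y, V), b ∉ p ∧ b * a = 0) → r₂ * a = 0 := by
  intro V hV p hp
  have h1 : (irreducibleComponents ((⊤ : Y.Opens) : Set Y)).Finite :=
    UnramFlat.finite_irreducibleComponents_of_isOpenEmbedding
      (f := (Subtype.val : ((⊤ : Y.Opens) : Set Y) → Y))
      (⊤ : Y.Opens).2.isOpenEmbedding_subtypeVal hYfin
  have h2 : (minimalPrimes Γ(Y, V)).Finite := UnramFlat.finite_minimalPrimes_of_le hV le_top h1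
  exact LocalIsoRing.exists_uniform_of_isReduced h2 p

theorem exists_dense_opens_isIso_of_birational {X Y : Scheme.{u}} (f : X ⟶ Y)
    (hXfin : (irreducibleComponents ↥X).Finite) (hYfin : (irreducibleComponents ↥Y).Finite)
    (hbij : Set.BijOn (fun x : X => f.base x) {x : X | closure {x} ∈ irreducibleComponents ↥X}
      {y : Y | closure {y} ∈ irreducibleComponents ↥Y})
    (hiso : ∀ x : X, closure {x} ∈ irreducibleComponents ↥X → IsIso (f.stalkMap x))
    (hf : (LocallyOfFiniteType f ∧ IsReduced Y) ∨ LocallyOfFinitePresentation f) :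
    ∃ (U : X.Opens) (V : Y.Opens) (hUV : U ≤ f ⁻¹ᵁ V), Dense (U : Set ↥X) ∧ Dense (V : Set ↥Y) ∧
      IsIso (f.resLE V U hUV) := by
  refine exists_dense_opens_isIso f hXfin hbij fun x hx => ?_
  have hb : Function.Bijective (f.stalkMap x).hom := by
    have := hiso x hx
    exact (ConcreteCategory.isIso_iff_bijective _).mp this
  rcases hf with ⟨h1, h2⟩ | h
  · exact LocalIso.exists_isOpenImmersion_nbhd f x hb (hunif_of_isReduced hYfin)
  · exact LocalIso.exists_isOpenImmersion_nbhd_of_lfp f x hb

end Groth.Agent.Helper3.BirDense
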