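import Mathlib
import Groth.Agent.Helper3.BirDense2

/-!
Integral `S`-schemes locally of finite type are `S`-birational iff their generic points lie over
the same point of `S` and their function fields are isomorphic over the residue field there.
-/

set_option autoImplicit false

namespace Groth.Agent.Helper3.BirResField

open AlgebraicGeometry CategoryTheory Limits

universe u

/-- Two open immersions from a common source, compatible with structure maps, induce a
compatible isomorphism of residue fields. -/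
lemma exists_residueField_iso {S X Y U : Scheme.{u}} (sX : X ⟶ S) (sY : Y ⟶ S)
    (a : U ⟶ X) (b : U ⟶ Y) [IsOpenImmersion a] [IsOpenImmersion b] (H : b ≫ sY = a ≫ sX)
    (u : U) (x : X) (y : Y) (hx : a u = x) (hy : b u = y) :
    ∃ (hs : sX.base x = sY.base y) (e : X.residueField x ≅ Y.residueField y),
      sX.residueFieldMap x ≫ e.hom =
        eqToHom (congrArg S.residueField hs) ≫ sY.residueFieldMap y := by
  subst hx hy
  have hs : sX (a u) = sY (b u) := by
    have := congrArg (fun g : U ⟶ S => g u) H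
    exact this.symm
  refine ⟨hs, asIso (a.residueFieldMap u) ≪≫ (asIso (b.residueFieldMap u)).symm, ?_⟩
  have key : sX.residueFieldMap (a u) ≫ a.residueFieldMap u =
      eqToHom (congrArg S.residueField hs) ≫ sY.residueFieldMap (b u) ≫ b.residueFieldMap u := by
    have h1 := Scheme.Hom.residueFieldMap_congr H.symm u
    rw [Scheme.residueFieldMap_comp, Scheme.residueFieldMap_comp] at h1
    exact h1
  simp only [Iso.trans_hom, asIso_hom, Iso.symm_hom, asIso_inv]
  rw [← Category.assoc, key, Category.assoc, Category.assoc, IsIso.hom_inv_id, Category.comp_id]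

theorem forward {S X Y : Scheme.{u}} [IsIntegral X] [IsIntegral Y] (sX : X ⟶ S) (sY : Y ⟶ S)
    (h : Scheme.BirationalOver sX sY) :
    ∃ (hs : sX.base (genericPoint ↥X) = sY.base (genericPoint ↥Y))
      (e : X.residueField (genericPoint ↥X) ≅ Y.residueField (genericPoint ↥Y)),
      sX.residueFieldMap (genericPoint ↥X) ≫ e.hom =
        eqToHom (congrArg S.residueField hs) ≫ sY.residueFieldMap (genericPoint ↥Y) := by
  obtain ⟨p, hp⟩ := h
  have hne : Nonempty p.source := by
    obtain ⟨z, hz⟩ := p.dense_source.nonempty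
    exact ⟨⟨z, hz⟩⟩
  have hint : IsIntegral (p.source : Scheme) := inferInstance
  have hp' : (p.iso.hom ≫ p.target.ι) ≫ sY = p.source.ι ≫ sX := by
    rw [Category.assoc]; exact hp
  exact exists_residueField_iso sX sY p.source.ι (p.iso.hom ≫ p.target.ι) hp'
    (genericPoint p.source) _ _ (genericPoint_eq_of_isOpenImmersion p.source.ι)
    (genericPoint_eq_of_isOpenImmersion (p.iso.hom ≫ p.target.ι))

lemma isIso_stalkClosedPointTo_congr {X : Scheme.{u}} {R : CommRingCat.{u}} [IsLocalRing R]
    {f f' : Spec R ⟶ X} (h : f = f') (hf : IsIso (Scheme.stalkClosedPointTo f)) :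
    IsIso (Scheme.stalkClosedPointTo f') := by
  subst h; exact hf

lemma isIso_stalkClosedPointTo_SpecMap_fromSpecStalk {X : Scheme.{u}} {R : CommRingCat.{u}}
    [IsLocalRing R] (x : X) (θ : X.presheaf.stalk x ⟶ R) [IsIso θ] :
    IsIso (Scheme.stalkClosedPointTo (Spec.map θ ≫ X.fromSpecStalk x)) := by
  have hloc : IsLocalHom θ.hom := isLocalHom_of_isIso θ
  have h1 := (SpecToEquivOfLocalRing X R).right_inv ⟨x, θ, hloc⟩
  obtain ⟨h₁, h₂⟩ := SpecToEquivOfLocalRing_eq_iff.mp h1
  have h₁' : (Spec.map θ ≫ X.fromSpecStalk x) (IsLocalRing.closedPoint R) = x := h₁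
  have h3 : Scheme.stalkClosedPointTo (Spec.map θ ≫ X.fromSpecStalk x) =
      (X.presheaf.stalkCongr (.of_eq h₁')).hom ≫ θ := h₂
  rw [h3]
  infer_instance

lemma spec_comp_eq {S X Y : Scheme.{u}} (sX : X ⟶ S) (sY : Y ⟶ S) (x : X) (y : Y)
    [IsIso (Y.residue y)]
    (hs : sX.base x = sY.base y) (e : X.residueField x ≅ Y.residueField y)
    (he : sX.residueFieldMap x ≫ e.hom =
      eqToHom (congrArg S.residueField hs) ≫ sY.residueFieldMap y) :
    (Spec.map (X.residue x ≫ e.hom ≫ inv (Y.residue y)) ≫ X.fromSpecStalk x) ≫ sX =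
      Y.fromSpecStalk y ≫ sY := by
  have h2 : Spec.map (eqToHom (congrArg S.residueField hs)) ≫ S.fromSpecResidueField (sX x) =
      S.fromSpecResidueField (sY y) := Scheme.residueFieldCongr_fromSpecResidueField hs
  have h3 : Spec.map e.hom ≫ X.fromSpecResidueField x ≫ sX = Y.fromSpecResidueField y ≫ sY := by
    rw [← Scheme.Hom.SpecMap_residueFieldMap_fromSpecResidueField, ← Spec.map_comp_assoc, he,
      Spec.map_comp_assoc, h2, Scheme.Hom.SpecMap_residueFieldMap_fromSpecResidueField]
  have h4 : Spec.map (X.residue x ≫ e.hom ≫ inv (Y.residue y)) ≫ X.fromSpecStalk x =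
      Spec.map (inv (Y.residue y)) ≫ Spec.map e.hom ≫ X.fromSpecResidueField x := by
    simp only [Spec.map_comp, Category.assoc, Scheme.fromSpecResidueField]
  rw [h4, Category.assoc, Category.assoc, h3, Scheme.fromSpecResidueField, Category.assoc,
    ← Spec.map_comp_assoc, IsIso.hom_inv_id, Spec.map_id, Category.id_comp]

lemma isDominant_of_isOpenImmersion {W X : Scheme.{u}} [IrreducibleSpace X] [Nonempty W]
    (f : W ⟶ X) [IsOpenImmersion f] : IsDominant f := by
  refine ⟨?_⟩
  have h1 : IsOpen (Set.range f) := f.isOpenEmbedding.isOpen_range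
  exact h1.dense (Set.range_nonempty _)

theorem backward_aux {S X Y : Scheme.{u}} [IsIntegral X] [IsIntegral Y] (sX : X ⟶ S) (sY : Y ⟶ S)
    [LocallyOfFiniteType sX] [LocallyOfFiniteType sY] (x : X) (y : Y)
    [IsIso (X.residue x)] [IsIso (Y.residue y)]
    (hs : sX.base x = sY.base y) (e : X.residueField x ≅ Y.residueField y)
    (he : sX.residueFieldMap x ≫ e.hom =
      eqToHom (congrArg S.residueField hs) ≫ sY.residueFieldMap y) :
    Scheme.BirationalOver sX sY := by
  let θ : X.presheaf.stalk x ⟶ Y.presheaf.stalk y := X.residue x ≫ e.hom ≫ inv (Y.residue y)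
  have hθ : IsIso θ := inferInstance
  have hΦ : (Spec.map θ ≫ X.fromSpecStalk x) ≫ sX = Y.fromSpecStalk y ≫ sY :=
    spec_comp_eq sX sY x y hs e he
  obtain ⟨V, hyV, g, hg1, hg2⟩ :=
    spread_out_of_isGermInjective' sY sX (Spec.map θ ≫ X.fromSpecStalk x) hΦ
  -- the stalk map of `g` at the image of the closed point is an isomorphism
  have h1 : IsIso (Scheme.stalkClosedPointTo (Spec.map θ ≫ X.fromSpecStalk x)) :=
    isIso_stalkClosedPointTo_SpecMap_fromSpecStalk x θ
  have h2 : IsIso (Scheme.stalkClosedPointTo (V.fromSpecStalkOfMem y hyV ≫ g)) :=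
    isIso_stalkClosedPointTo_congr hg1 h1
  rw [Scheme.stalkClosedPointTo_comp] at h2
  have h3 : IsIso (Scheme.stalkClosedPointTo (V.fromSpecStalkOfMem y hyV)) := by
    have h4 : IsIso (Scheme.stalkClosedPointTo (Spec.map (𝟙 _) ≫ Y.fromSpecStalk y)) :=
      isIso_stalkClosedPointTo_SpecMap_fromSpecStalk y (𝟙 _)
    have h5 : Spec.map (𝟙 _) ≫ Y.fromSpecStalk y = V.fromSpecStalkOfMem y hyV ≫ V.ι := by
      rw [Spec.map_id, Category.id_comp, Scheme.Opens.fromSpecStalkOfMem_ι]
    have h6 := isIso_stalkClosedPointTo_congr h5 h4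
    rw [Scheme.stalkClosedPointTo_comp] at h6
    exact @IsIso.of_isIso_comp_left _ _ _ _ _ (V.ι.stalkMap _)
      (Scheme.stalkClosedPointTo (V.fromSpecStalkOfMem y hyV)) inferInstance h6
  have h7 : IsIso (g.stalkMap
      ((V.fromSpecStalkOfMem y hyV) (IsLocalRing.closedPoint (Y.presheaf.stalk y)))) :=
    @IsIso.of_isIso_comp_right _ _ _ _ _ (g.stalkMap _)
      (Scheme.stalkClosedPointTo (V.fromSpecStalkOfMem y hyV)) h3 h2
  have hb : Function.Bijective (g.stalkMap
      ((V.fromSpecStalkOfMem y hyV) (IsLocalRing.closedPoint (Y.presheaf.stalk y)))).hom :=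
    (ConcreteCategory.isIso_iff_bijective _).mp h7
  have hlft : LocallyOfFiniteType g := by
    have : LocallyOfFiniteType (g ≫ sX) := by rw [hg2]; infer_instance
    exact locallyOfFiniteType_of_comp g sX
  have hXfin : (irreducibleComponents ↥X).Finite := by
    rw [irreducibleComponents_eq_singleton]
    exact Set.finite_singleton _
  obtain ⟨U', hvU', himm⟩ := LocalIso.exists_isOpenImmersion_nbhd g _ hb
    (BirDense.hunif_of_isReduced hXfin)
  have hne : Nonempty ↥(U' : Scheme) := ⟨⟨_, hvU'⟩⟩
  have hd1 : IsDominant (U'.ι ≫ g) := isDominant_of_isOpenImmersion _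
  have hd2 : IsDominant (U'.ι ≫ V.ι) := isDominant_of_isOpenImmersion _
  have hb1 : Scheme.BirationalOver ((U'.ι ≫ g) ≫ sX) sX :=
    Scheme.Hom.birationalOver (U'.ι ≫ g) sX _ rfl
  have hb2 : Scheme.BirationalOver ((U'.ι ≫ V.ι) ≫ sY) sY :=
    Scheme.Hom.birationalOver (U'.ι ≫ V.ι) sY _ rfl
  have heq : (U'.ι ≫ g) ≫ sX = (U'.ι ≫ V.ι) ≫ sY := by
    rw [Category.assoc, Category.assoc, hg2]
  rw [heq] at hb1
  exact hb1.symm.trans hb2

lemma isIso_residue_genericPoint (X : Scheme.{u}) [IsIntegral X] :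
    IsIso (X.residue (genericPoint ↥X)) := by
  rw [ConcreteCategory.isIso_iff_bijective]
  let _ : Field (X.presheaf.stalk (genericPoint ↥X)) :=
    inferInstanceAs (Field X.functionField)
  refine ⟨?_, X.residue_surjective _⟩
  exact RingHom.injective (X.residue (genericPoint ↥X)).hom

theorem main {S X Y : Scheme.{u}}
    [IsIntegral X] [IsIntegral Y] (sX : X ⟶ S) (sY : Y ⟶ S)
    [LocallyOfFiniteType sX] [LocallyOfFiniteType sY] :
    Scheme.BirationalOver sX sY ↔
      ∃ (hs : sX.base (genericPoint ↥X) = sY.base (genericPoint ↥Y))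
        (e : X.residueField (genericPoint ↥X) ≅ Y.residueField (genericPoint ↥Y)),
        sX.residueFieldMap (genericPoint ↥X) ≫ e.hom =
          eqToHom (congrArg S.residueField hs) ≫ sY.residueFieldMap (genericPoint ↥Y) := by
  refine ⟨forward sX sY, ?_⟩
  rintro ⟨hs, e, he⟩
  have := isIso_residue_genericPoint X
  have := isIso_residue_genericPoint Y
  exact backward_aux sX sY _ _ hs e he

end Groth.Agent.Helper3.BirResField
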