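import Mathlib

set_option linter.style.haveILetI false
set_option linter.unusedSectionVars false
set_option linter.unusedVariables false

namespace Groth.Agent.Helper3.LenLoc

universe u v

section General

variable {R : Type*} [CommRing R] (S : Submonoid R)
variable {A B C : Type*} [AddCommGroup A] [Module R A] [AddCommGroup B] [Module R B]
  [AddCommGroup C] [Module R C]

theorem length_loc_exact (f : A →ₗ[R] B) (g : B →ₗ[R] C) (hf : Function.Injective f)
    (hg : Function.Surjective g) (h : Function.Exact f g) :
    Module.length (Localization S) (LocalizedModule S B) =
      Module.length (Localization S) (LocalizedModule S A) +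
        Module.length (Localization S) (LocalizedModule S C) :=
  Module.length_eq_add_of_exact (LocalizedModule.map S f) (LocalizedModule.map S g)
    (LocalizedModule.map_injective S f hf) (LocalizedModule.map_surjective S g hg)
    (fun y => LocalizedModule.map_exact S f g h y)

theorem length_loc_equiv (e : A ≃ₗ[R] B) :
    Module.length (Localization S) (LocalizedModule S A) =
      Module.length (Localization S) (LocalizedModule S B) :=
  (IsLocalizedModule.mapEquiv S (LocalizedModule.mkLinearMap S A)
    (LocalizedModule.mkLinearMap S B) (Localization S) e).length_eq

theorem length_loc_le (M : Type*) [AddCommGroup M] [Module R M] :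
    Module.length (Localization S) (LocalizedModule S M) ≤ Module.length R M := by
  rw [← WithBot.coe_le_coe, Module.coe_length, Module.coe_length]
  exact Order.krullDim_le_of_strictMono _
    (Submodule.localized'gi (Localization S) S (LocalizedModule.mkLinearMap S M)).strictMono_u

/-- additivity for submodules -/
theorem length_loc_sub {M : Type*} [AddCommGroup M] [Module R M] (N N' : Submodule R M)
    (h : N ≤ N') :
    Module.length (Localization S) (LocalizedModule S N') =
      Module.length (Localization S) (LocalizedModule S N) +
        Module.length (Localization S)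
          (LocalizedModule S (N' ⧸ Submodule.comap N'.subtype N)) := by
  refine length_loc_exact S (Submodule.inclusion h) (Submodule.mkQ _)
    (Submodule.inclusion_injective h) (Submodule.mkQ_surjective _) ?_
  rw [LinearMap.exact_iff, Submodule.ker_mkQ, Submodule.range_inclusion]

end General

section Simple

variable {R : Type*} [CommRing R] (m : Ideal R) [m.IsMaximal]
  (Q : Type*) [AddCommGroup Q] [Module R Q] [IsSimpleModule R Q]

theorem length_loc_simple_eq_one (h : Module.annihilator R Q = m) :
    Module.length (Localization.AtPrime m) (LocalizedModule m.primeCompl Q) = 1 := by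
  apply le_antisymm
  · calc Module.length (Localization.AtPrime m) (LocalizedModule m.primeCompl Q)
        ≤ Module.length R Q := length_loc_le m.primeCompl Q
      _ = 1 := Module.length_eq_one R Q
  · rw [Order.one_le_iff_pos, Module.length_pos_iff]
    haveI : Nontrivial Q := IsSimpleModule.nontrivial R Q
    obtain ⟨x, hx⟩ := exists_ne (0 : Q)
    refine ⟨LocalizedModule.mkLinearMap m.primeCompl Q x, 0, ?_⟩
    intro h0
    have hk : x ∈ LinearMap.ker (LocalizedModule.mkLinearMap m.primeCompl Q) := h0
    rw [LocalizedModule.mem_ker_mkLinearMap_iff] at hk
    obtain ⟨r, hr, hrx⟩ := hk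
    have hker : LinearMap.ker (LinearMap.lsmul R Q r) = ⊤ := by
      rcases eq_bot_or_eq_top (LinearMap.ker (LinearMap.lsmul R Q r)) with hb | ht
      · exfalso
        have : x ∈ LinearMap.ker (LinearMap.lsmul R Q r) := by
          rw [LinearMap.mem_ker]; exact hrx
        rw [hb, Submodule.mem_bot] at this
        exact hx this
      · exact ht
    have hrann : r ∈ Module.annihilator R Q := by
      rw [Module.mem_annihilator]
      intro q
      have : q ∈ LinearMap.ker (LinearMap.lsmul R Q r) := by rw [hker]; trivial
      exact this
    rw [h] at hrann
    exact hr hrann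

theorem length_loc_simple_eq_zero (h : Module.annihilator R Q ≠ m) :
    Module.length (Localization.AtPrime m) (LocalizedModule m.primeCompl Q) = 0 := by
  rw [Module.length_eq_zero_iff, LocalizedModule.subsingleton_iff]
  have hmax : (Module.annihilator R Q).IsMaximal := IsSimpleModule.annihilator_isMaximal
  have hnle : ¬ Module.annihilator R Q ≤ m := fun hle =>
    h (hmax.eq_of_le (Ideal.IsMaximal.ne_top inferInstance) hle)
  obtain ⟨r, hr, hrm⟩ := Set.not_subset.mp hnle
  intro q
  exact ⟨r, hrm, Module.mem_annihilator.mp hr q⟩

open Classical in
theorem length_loc_simple :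
    Module.length (Localization.AtPrime m) (LocalizedModule m.primeCompl Q) =
      if Module.annihilator R Q = m then 1 else 0 := by
  split_ifs with h
  · exact length_loc_simple_eq_one m Q h
  · exact length_loc_simple_eq_zero m Q h

end Simple

section Telescope

theorem telescope (n : ℕ) (a : Fin (n + 1) → ℕ∞) (P : Fin n → Prop) [DecidablePred P]
    (h0 : a 0 = 0) (hs : ∀ i : Fin n, a i.succ = a i.castSucc + if P i then 1 else 0) :
    a (Fin.last n) = ((Finset.univ.filter P).card : ℕ∞) := by
  induction n with
  | zero =>
    simpa using h0
  | succ n ih =>
    have := ih (fun i => a i.castSucc) (fun i => P i.castSucc) (by simpa using h0)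
      (fun i => by
        have := hs i.castSucc
        simpa using this)
    have h2 := hs (Fin.last n)
    rw [Fin.succ_last] at h2
    rw [h2, this, Finset.card_filter, Finset.card_filter, Fin.sum_univ_castSucc]
    push_cast
    rfl

end Telescope

section CompSeries

variable {R : Type u} [CommRing R] (M : Type u) [AddCommGroup M] [Module R M]

theorem annihilator_quot (A B : Submodule R M) :
    Module.annihilator R (B ⧸ Submodule.comap B.subtype A) = A.colon (B : Set M) := by
  ext r
  rw [Module.mem_annihilator, Submodule.mem_colon]
  constructor
  · intro h b hb
    have := h (Submodule.Quotient.mk ⟨b, hb⟩)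
    rw [← Submodule.Quotient.mk_smul, Submodule.Quotient.mk_eq_zero] at this
    exact this
  · intro h q
    obtain ⟨⟨b, hb⟩, rfl⟩ := Submodule.Quotient.mk_surjective _ q
    rw [← Submodule.Quotient.mk_smul, Submodule.Quotient.mk_eq_zero]
    exact h b hb

theorem length_loc_of_eq_bot (S : Submonoid R) (N : Submodule R M) (h : N = ⊥) :
    Module.length (Localization S) (LocalizedModule S N) = 0 := by
  subst h
  rw [Module.length_eq_zero_iff]
  infer_instance

theorem length_loc_of_eq_top (S : Submonoid R) (N : Submodule R M) (h : N = ⊤) :
    Module.length (Localization S) (LocalizedModule S N) =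
      Module.length (Localization S) (LocalizedModule S M) := by
  subst h
  exact length_loc_equiv S Submodule.topEquiv

open Classical in
theorem main (s : CompositionSeries (Submodule R M)) (h0 : s.head = ⊥) (h1 : s.last = ⊤)
    (m : Ideal R) [m.IsMaximal] :
    ((Finset.univ.filter fun i : Fin s.length =>
      (s i.castSucc).colon (s i.succ : Set M) = m).card : ℕ∞) =
      Module.length (Localization.AtPrime m) (LocalizedModule m.primeCompl M) := by
  have key := telescope s.length
    (fun k => Module.length (Localization.AtPrime m) (LocalizedModule m.primeCompl (s k)))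
    (fun i : Fin s.length => (s i.castSucc).colon (s i.succ : Set M) = m)
    (length_loc_of_eq_bot M m.primeCompl _ h0)
    (fun i => by
      have hcov : s i.castSucc ⋖ s i.succ := s.step i
      have hle : s i.castSucc ≤ s i.succ := hcov.le
      haveI : IsSimpleModule R (↥(s i.succ) ⧸ Submodule.comap (s i.succ).subtype (s i.castSucc)) :=
        (covBy_iff_quot_is_simple hle).mp hcov
      simp only
      rw [length_loc_sub m.primeCompl _ _ hle, length_loc_simple m
        (↥(s i.succ) ⧸ Submodule.comap (s i.succ).subtype (s i.castSucc)), annihilator_quot])
  rw [← key]
  exact length_loc_of_eq_top M m.primeCompl _ h1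

end CompSeries

end Groth.Agent.Helper3.LenLoc
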