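import Mathlib
import Groth.Agent.Helper3.LenLoc

set_option linter.style.haveILetI false
set_option linter.unusedSectionVars false
set_option linter.unusedVariables false

namespace Groth.Agent.Helper3.LenSemi

open Groth.Agent.Helper3.LenLoc

universe u

variable (A B : Type u) [CommRing A] [CommRing B] [Algebra A B]

/-- the right hand side -/
noncomputable def F (M : Type u) [AddCommGroup M] [Module B M] : ℕ∞ :=
  ∑ᶠ n : MaximalSpectrum B,
    (Module.finrank (A ⧸ n.asIdeal.comap (algebraMap A B)) (B ⧸ n.asIdeal) : ℕ∞) *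
      Module.length (Localization.AtPrime n.asIdeal) (LocalizedModule n.asIdeal.primeCompl M)

variable [Finite (MaximalSpectrum B)]

theorem F_exact {N M P : Type u} [AddCommGroup N] [Module B N] [AddCommGroup M] [Module B M]
    [AddCommGroup P] [Module B P] (f : N →ₗ[B] M) (g : M →ₗ[B] P) (hf : Function.Injective f)
    (hg : Function.Surjective g) (h : Function.Exact f g) : F A B M = F A B N + F A B P := by
  unfold F
  rw [← finsum_add_distrib (Set.toFinite _) (Set.toFinite _)]
  congr 1
  funext n
  rw [length_loc_exact n.asIdeal.primeCompl f g hf hg h, mul_add]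

omit [Finite (MaximalSpectrum B)] in
theorem F_subsingleton (M : Type u) [AddCommGroup M] [Module B M] [Subsingleton M] :
    F A B M = 0 := by
  unfold F
  have : ∀ n : MaximalSpectrum B, Module.length (Localization.AtPrime n.asIdeal)
      (LocalizedModule n.asIdeal.primeCompl M) = 0 := fun n => by
    rw [Module.length_eq_zero_iff]
    infer_instance
  simp only [this, mul_zero, finsum_zero]

omit [Finite (MaximalSpectrum B)] in
theorem F_simple (Q : Type u) [AddCommGroup Q] [Module B Q] [IsSimpleModule B Q]
    (I : Ideal B) (hI : I.IsMaximal) (e : Q ≃ₗ[B] B ⧸ I) :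
    F A B Q = (Module.finrank (A ⧸ I.comap (algebraMap A B)) (B ⧸ I) : ℕ∞) := by
  unfold F
  have hann : Module.annihilator B Q = I := by
    rw [e.annihilator_eq, Ideal.annihilator_quotient]
  rw [finsum_eq_single _ (⟨I, hI⟩ : MaximalSpectrum B)]
  · haveI := hI
    rw [length_loc_simple_eq_one I Q hann, mul_one]
  · intro n hn
    haveI := n.isMaximal
    rw [length_loc_simple_eq_zero n.asIdeal Q, mul_zero]
    rw [hann]
    intro h
    apply hn
    exact MaximalSpectrum.ext h.symm

variable [IsLocalRing A]

omit [Finite (MaximalSpectrum B)] in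
theorem length_simple (hover : ∀ n : MaximalSpectrum B,
      n.asIdeal.comap (algebraMap A B) = IsLocalRing.maximalIdeal A)
    (hfin : ∀ n : MaximalSpectrum B,
      Module.Finite (A ⧸ n.asIdeal.comap (algebraMap A B)) (B ⧸ n.asIdeal))
    (Q : Type u) [AddCommGroup Q] [Module B Q] [Module A Q] [IsScalarTower A B Q]
    (I : Ideal B) (hI : I.IsMaximal) (e : Q ≃ₗ[B] B ⧸ I) :
    Module.length A Q = (Module.finrank (A ⧸ I.comap (algebraMap A B)) (B ⧸ I) : ℕ∞) := by
  rw [(e.restrictScalars A).length_eq]
  haveI : (I.comap (algebraMap A B)).IsMaximal := by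
    rw [hover ⟨I, hI⟩]; infer_instance
  letI := Ideal.Quotient.field (I.comap (algebraMap A B))
  haveI := hfin ⟨I, hI⟩
  rw [Module.length_eq_of_surjective (S := A) (R := A ⧸ I.comap (algebraMap A B))
    (M := B ⧸ I) Ideal.Quotient.mk_surjective]
  exact Module.length_eq_finrank _ _

theorem main' (hover : ∀ n : MaximalSpectrum B,
      n.asIdeal.comap (algebraMap A B) = IsLocalRing.maximalIdeal A)
    (hfin : ∀ n : MaximalSpectrum B,
      Module.Finite (A ⧸ n.asIdeal.comap (algebraMap A B)) (B ⧸ n.asIdeal))
    (M : Type u) [AddCommGroup M] [Module B M]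
    (hM : IsFiniteLength B M) :
    ∀ [Module A M] [IsScalarTower A B M], Module.length A M = F A B M := by
  induction hM with
  | of_subsingleton =>
    intro _ _
    rw [F_subsingleton, Module.length_eq_zero_iff]
    infer_instance
  | @of_simple_quotient M _ _ N _ hN ih =>
    intro _ _
    rw [F_exact A B N.subtype N.mkQ N.subtype_injective N.mkQ_surjective
      (LinearMap.exact_subtype_mkQ N)]
    rw [Module.length_eq_add_of_exact (N.subtype.restrictScalars A) (N.mkQ.restrictScalars A)
      N.subtype_injective N.mkQ_surjective (LinearMap.exact_subtype_mkQ N)]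
    rw [ih]
    congr 1
    obtain ⟨I, hI, ⟨e⟩⟩ := isSimpleModule_iff_quot_maximal.mp (inferInstance : IsSimpleModule B (M ⧸ N))
    rw [F_simple A B (M ⧸ N) I hI e, length_simple A B hover hfin (M ⧸ N) I hI e]

theorem main (hover : ∀ n : MaximalSpectrum B,
      n.asIdeal.comap (algebraMap A B) = IsLocalRing.maximalIdeal A)
    (hfin : ∀ n : MaximalSpectrum B,
      Module.Finite (A ⧸ n.asIdeal.comap (algebraMap A B)) (B ⧸ n.asIdeal))
    (M : Type u) [AddCommGroup M] [Module B M] [Module A M] [IsScalarTower A B M]
    (hM : IsFiniteLength B M) : Module.length A M = F A B M :=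
  main' A B hover hfin M hM

end Groth.Agent.Helper3.LenSemi
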