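import Mathlib
import Groth.Agent.Helper3.LenSemi

set_option linter.style.haveILetI false
set_option linter.unusedSectionVars false
set_option linter.unusedVariables false

namespace Groth.Agent.Helper3.FibLen

open Groth.Agent.Helper3.LenSemi

universe u

variable (A B : Type u) [CommRing A] [IsLocalRing A] [CommRing B] [Algebra A B]
  [Module.Finite A B]

theorem comap_eq (n : Ideal B) [n.IsMaximal] :
    n.comap (algebraMap A B) = IsLocalRing.maximalIdeal A := by
  haveI : Algebra.IsIntegral A B := Algebra.IsIntegral.of_finite A B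
  haveI := Ideal.isMaximal_comap_of_isIntegral_of_isMaximal (R := A) n
  exact IsLocalRing.eq_maximalIdeal this

theorem map_le (n : Ideal B) [n.IsMaximal] :
    Ideal.map (algebraMap A B) (IsLocalRing.maximalIdeal A) ≤ n := by
  rw [Ideal.map_le_iff_le_comap, comap_eq]

theorem finite_maxSpec (A B : Type u) [CommRing A] [IsLocalRing A] [CommRing B] [Algebra A B]
    [Module.Finite A B] : Finite (MaximalSpectrum B) := by
  have hfin := Algebra.QuasiFinite.finite_primesOver (S := B) (IsLocalRing.maximalIdeal A)
  haveI := hfin.to_subtype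
  let f : MaximalSpectrum B → (IsLocalRing.maximalIdeal A).primesOver B := fun n =>
    ⟨n.asIdeal, n.isMaximal.isPrime, ⟨by
      haveI := n.isMaximal
      exact (comap_eq A B n.asIdeal).symm⟩⟩
  refine Finite.of_injective f ?_
  intro n n' h
  apply MaximalSpectrum.ext
  exact congrArg Subtype.val h

attribute [local instance] Ideal.Quotient.field

theorem main [Module.Free A B] (d : ℕ) (hd : Module.finrank A B = d)
    (hres : ∀ (n : Ideal B) [n.IsMaximal]
      (h : Ideal.map (algebraMap A B) (IsLocalRing.maximalIdeal A) ≤ n),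
      Function.Bijective (Ideal.quotientMap n (algebraMap A B)
        (Ideal.map_le_iff_le_comap.mp h))) :
    finsum (fun n : {n : MaximalSpectrum B //
        Ideal.map (algebraMap A B) (IsLocalRing.maximalIdeal A) ≤ n.asIdeal} =>
      Module.length (Localization.AtPrime n.1.asIdeal)
        (LocalizedModule n.1.asIdeal.primeCompl
          (B ⧸ Ideal.map (algebraMap A B) (IsLocalRing.maximalIdeal A)))) = (d : ℕ∞) := by
  haveI := finite_maxSpec A B
  have hle : ∀ n : MaximalSpectrum B,
      Ideal.map (algebraMap A B) (IsLocalRing.maximalIdeal A) ≤ n.asIdeal := fun n => by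
    haveI := n.isMaximal
    exact map_le A B n.asIdeal
  have hover : ∀ n : MaximalSpectrum B,
      n.asIdeal.comap (algebraMap A B) = IsLocalRing.maximalIdeal A := fun n => by
    haveI := n.isMaximal
    exact comap_eq A B n.asIdeal
  have hfin : ∀ n : MaximalSpectrum B,
      Module.Finite (A ⧸ n.asIdeal.comap (algebraMap A B)) (B ⧸ n.asIdeal) := fun n =>
    Module.Finite.of_restrictScalars_finite A _ _
  -- finite length
  haveI : Module.Finite (A ⧸ IsLocalRing.maximalIdeal A)
      (B ⧸ Ideal.map (algebraMap A B) (IsLocalRing.maximalIdeal A)) :=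
    Module.Finite.of_restrictScalars_finite A _ _
  have hlenA : Module.length A
      (B ⧸ Ideal.map (algebraMap A B) (IsLocalRing.maximalIdeal A)) = d := by
    rw [Module.length_eq_of_surjective (S := A) (R := A ⧸ IsLocalRing.maximalIdeal A)
      Ideal.Quotient.mk_surjective, Module.length_eq_finrank,
      IsLocalRing.finrank_quotient_map, hd]
  have hflA : IsFiniteLength A
      (B ⧸ Ideal.map (algebraMap A B) (IsLocalRing.maximalIdeal A)) := by
    rw [← Module.length_ne_top_iff, hlenA]
    exact ENat.coe_ne_top d
  have hflB : IsFiniteLength B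
      (B ⧸ Ideal.map (algebraMap A B) (IsLocalRing.maximalIdeal A)) := by
    rw [isFiniteLength_iff_isNoetherian_isArtinian] at hflA ⊢
    obtain ⟨h1, h2⟩ := hflA
    exact ⟨isNoetherian_of_tower A h1, isArtinian_of_tower A h2⟩
  have key := LenSemi.main A B hover hfin
    (B ⧸ Ideal.map (algebraMap A B) (IsLocalRing.maximalIdeal A)) hflB
  rw [hlenA] at key
  rw [key]
  unfold F
  have hone : ∀ n : MaximalSpectrum B,
      Module.finrank (A ⧸ n.asIdeal.comap (algebraMap A B)) (B ⧸ n.asIdeal) = 1 := fun n => by
    haveI := n.isMaximal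
    have hb := hres n.asIdeal (hle n)
    have e : (A ⧸ n.asIdeal.comap (algebraMap A B)) ≃ₗ[A ⧸ n.asIdeal.comap (algebraMap A B)]
        (B ⧸ n.asIdeal) :=
      LinearEquiv.ofBijective (Algebra.linearMap _ _) (by
        refine ⟨Ideal.algebraMap_quotient_injective, fun y => ?_⟩
        obtain ⟨x, rfl⟩ := hb.2 y
        obtain ⟨a, rfl⟩ := Ideal.Quotient.mk_surjective x
        exact ⟨Ideal.Quotient.mk _ a, rfl⟩)
    rw [← e.finrank_eq, Module.finrank_self]
  simp only [hone, Nat.cast_one, one_mul]
  exact finsum_comp_equiv (Equiv.subtypeUnivEquiv hle) (f := fun n : MaximalSpectrum B =>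
    Module.length (Localization.AtPrime n.asIdeal)
      (LocalizedModule n.asIdeal.primeCompl
        (B ⧸ Ideal.map (algebraMap A B) (IsLocalRing.maximalIdeal A))))

end Groth.Agent.Helper3.FibLen
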