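import Mathlib
import Groth.Prelude
import Groth.Agent.Helper3.LenSemi
import Groth.Agent.Helper3.FibLen

set_option autoImplicit false
set_option linter.style.haveILetI false
set_option linter.unusedSectionVars false
set_option linter.unusedVariables false
set_option linter.deprecated false
set_option linter.style.haveILetI false
set_option linter.unusedSectionVars false
set_option linter.unusedVariables false

namespace Groth.Agent.Helper3.NormA

universe u

open IsLocalRing

/-- the length of a localized module does not depend on the model of the localization -/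
theorem locLen {R : Type u} [CommRing R] (S : Submonoid R) (R' : Type u) [CommRing R']
    [Algebra R R'] [IsLocalization S R'] {M M' : Type u} [AddCommGroup M] [Module R M]
    [AddCommGroup M'] [Module R M'] [Module R' M'] [IsScalarTower R R' M'] (f : M →ₗ[R] M')
    [IsLocalizedModule S f] :
    Module.length (Localization S) (LocalizedModule S M) = Module.length R' M' := by
  let σ : Localization S ≃ₐ[R] R' := IsLocalization.algEquiv S (Localization S) R'
  letI : Algebra (Localization S) R' := σ.toAlgHom.toRingHom.toAlgebra
  haveI : IsScalarTower R (Localization S) R' := IsScalarTower.of_algebraMap_eq (fun r => by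
    change algebraMap R R' r = σ (algebraMap R (Localization S) r)
    rw [σ.commutes])
  letI : Module (Localization S) M' := Module.compHom M' (algebraMap (Localization S) R')
  haveI : IsScalarTower (Localization S) R' M' := ⟨fun a b m => by
    change (algebraMap (Localization S) R' a * b) • m = algebraMap (Localization S) R' a • (b • m)
    rw [mul_smul]⟩
  haveI : IsScalarTower R (Localization S) M' := ⟨fun r a m => by
    change (algebraMap (Localization S) R' (r • a)) • m = r • (algebraMap (Localization S) R' a • m)
    rw [Algebra.smul_def, map_mul, mul_smul, ← IsScalarTower.algebraMap_apply, algebraMap_smul]⟩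
  have hsurj : Function.Surjective (algebraMap (Localization S) R') := σ.surjective
  rw [← Module.length_eq_of_surjective (S := Localization S) (R := R') (M := M') hsurj]
  let e : LocalizedModule S M ≃ₗ[R] M' := IsLocalizedModule.iso S f
  exact (e.extendScalarsOfIsLocalization S (Localization S)).length_eq


variable (A B : Type u) [CommRing A] [IsLocalRing A] [CommRing B] [Algebra A B]
  [Module.Finite A B]

theorem finrank_eq (n : Ideal B) [n.IsMaximal] (Bn : Type u) [CommRing Bn] [IsLocalRing Bn]
    [Algebra B Bn] [IsLocalization.AtPrime Bn n] [Algebra A Bn] [IsScalarTower A B Bn]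
    [IsLocalHom (algebraMap A Bn)] :
    Module.finrank (A ⧸ n.comap (algebraMap A B)) (B ⧸ n) =
      Module.finrank (ResidueField A) (ResidueField Bn) := by
  have h1 : n.comap (algebraMap A B) = maximalIdeal A := FibLen.comap_eq A B n
  let i : (A ⧸ n.comap (algebraMap A B)) ≃+* ResidueField A := Ideal.quotEquivOfEq h1
  let j : (B ⧸ n) ≃+* ResidueField Bn := IsLocalization.AtPrime.equivQuotMaximalIdeal n Bn
  refine Algebra.finrank_eq_of_equiv_equiv i j ?_
  apply Ideal.Quotient.ringHom_ext
  ext a
  change algebraMap (ResidueField A) (ResidueField Bn) (residue A a) =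
    Ideal.Quotient.mk _ (algebraMap B Bn (algebraMap A B a))
  rw [← IsScalarTower.algebraMap_apply]
  rfl

theorem length_loc_quot (n : Ideal B) [n.IsPrime] (Bn : Type u) [CommRing Bn]
    [Algebra B Bn] [IsLocalization.AtPrime Bn n] (J : Ideal B) :
    Module.length (Localization.AtPrime n) (LocalizedModule n.primeCompl (B ⧸ J)) =
      Module.length Bn (Bn ⧸ J.map (algebraMap B Bn)) := by
  have h := locLen n.primeCompl Bn
    (Submodule.toLocalizedQuotient' Bn n.primeCompl (Algebra.linearMap B Bn) J)
  rw [h]
  have h2 : Submodule.localized' Bn n.primeCompl (Algebra.linearMap B Bn) J =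
      J.map (algebraMap B Bn) := Ideal.localized'_eq_map Bn n.primeCompl J
  rw [h2]


theorem sl {ι : Type} [Fintype ι] (n : ι ≃ MaximalSpectrum B) (Bi : ι → Type u)
    [∀ i, CommRing (Bi i)] [∀ i, IsLocalRing (Bi i)] [∀ i, Algebra B (Bi i)]
    (hloc : ∀ i, haveI := (n i).isMaximal; IsLocalization.AtPrime (Bi i) (n i).asIdeal)
    [∀ i, Algebra A (Bi i)] [∀ i, IsScalarTower A B (Bi i)]
    [∀ i, IsLocalHom (algebraMap A (Bi i))]
    (J : Ideal B) (hfl : IsFiniteLength B (B ⧸ J)) :
    Module.length A (B ⧸ J) =
      ∑ i, (Module.finrank (ResidueField A) (ResidueField (Bi i)) : ℕ∞) *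
        Module.length (Bi i) (Bi i ⧸ J.map (algebraMap B (Bi i))) := by
  haveI := FibLen.finite_maxSpec A B
  have hover : ∀ m : MaximalSpectrum B,
      m.asIdeal.comap (algebraMap A B) = IsLocalRing.maximalIdeal A := fun m => by
    haveI := m.isMaximal
    exact FibLen.comap_eq A B m.asIdeal
  have hfin : ∀ m : MaximalSpectrum B,
      Module.Finite (A ⧸ m.asIdeal.comap (algebraMap A B)) (B ⧸ m.asIdeal) := fun m =>
    Module.Finite.of_restrictScalars_finite A _ _
  rw [LenSemi.main A B hover hfin (B ⧸ J) hfl]
  unfold LenSemi.F
  rw [← finsum_comp_equiv n, finsum_eq_sum_of_fintype]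
  refine Finset.sum_congr rfl (fun i _ => ?_)
  haveI := (n i).isMaximal
  haveI := hloc i
  rw [finrank_eq A B (n i).asIdeal (Bi i), length_loc_quot B (n i).asIdeal (Bi i) J]

end Groth.Agent.Helper3.NormA
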