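import Mathlib
import Groth.Prelude
import Groth.Agent.Helper3.NormA
import Groth.Agent.Helper6.Dim1Norm
import Groth.Agent.Helper5.IntegralDim

set_option autoImplicit false
set_option linter.style.haveILetI false
set_option linter.unusedSectionVars false
set_option linter.unusedVariables false
set_option linter.deprecated false
set_option linter.style.haveILetI false
set_option linter.unusedSectionVars false
set_option linter.unusedVariables false

namespace Groth.Agent.Helper3.NormB

universe u

open IsLocalRing Function Groth.Agent.Helper6.Dim1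

variable {A : Type u} [CommRing A] [IsDomain A] [IsLocalRing A] [IsNoetherianRing A]
  {B : Type u} [CommRing B] [IsDomain B] [Algebra A B] [Module.Finite A B]
  {K L : Type u} [Field K] [Field L] [Algebra A K] [IsFractionRing A K] [Algebra B L]
  [IsFractionRing B L] [Algebra K L] [Algebra A L] [IsScalarTower A B L] [IsScalarTower A K L]

include A B in
theorem finiteDimensional (hinj : Injective (algebraMap A B)) : FiniteDimensional K L := by
  haveI : FaithfulSMul A B := (faithfulSMul_iff_algebraMap_injective A B).mpr hinj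
  haveI : Algebra.IsIntegral A B := Algebra.IsIntegral.of_finite A B
  haveI : Algebra.IsAlgebraic A B := inferInstance
  exact Module.Finite.of_isLocalization A B (nonZeroDivisors A)

section loc

variable (n : Ideal B) [n.IsPrime] (Bn : Type u) [CommRing Bn] [Algebra B Bn]
  [IsLocalization.AtPrime Bn n]

include n in
theorem isDomain_loc : IsDomain Bn :=
  IsLocalization.isDomain_of_le_nonZeroDivisors Bn (Ideal.primeCompl_le_nonZeroDivisors n)

include A n in
theorem isNoetherianRing_loc : IsNoetherianRing Bn := by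
  haveI : IsNoetherian A B := isNoetherian_of_isNoetherianRing_of_finite A B
  haveI : IsNoetherianRing B := isNoetherian_of_tower A this
  exact IsLocalization.isNoetherianRing n.primeCompl Bn inferInstance

include A B n in
theorem dim_loc (hdim : ringKrullDim A ≤ 1) : ringKrullDim Bn ≤ 1 := by
  haveI : Algebra.IsIntegral A B := Algebra.IsIntegral.of_finite A B
  rw [IsLocalization.AtPrime.ringKrullDim_eq_height n Bn]
  exact (Ideal.height_le_ringKrullDim_of_isPrime).trans
    ((Groth.Agent.Helper5.IntegralDim.ringKrullDim_le_of_isIntegral (R := A) (S := B)).trans hdim)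

include n in
theorem isFractionRing_loc [Algebra Bn L] [IsScalarTower B Bn L] : IsFractionRing Bn L := by
  haveI := isDomain_loc n Bn
  exact IsFractionRing.isFractionRing_of_isDomain_of_isLocalization n.primeCompl Bn L

end loc


section main

variable (hdim : ringKrullDim A ≤ 1) (hinj : Injective (algebraMap A B))
  {ι : Type} [Fintype ι] (n : ι ≃ MaximalSpectrum B) (Bi : ι → Type u)
  [∀ i, CommRing (Bi i)] [∀ i, IsLocalRing (Bi i)] [∀ i, Algebra B (Bi i)]
  (hloc : ∀ i, haveI := (n i).isMaximal; IsLocalization.AtPrime (Bi i) (n i).asIdeal)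
  [∀ i, Algebra A (Bi i)] [∀ i, IsScalarTower A B (Bi i)]
  [∀ i, IsLocalHom (algebraMap A (Bi i))]
  [∀ i, Algebra (Bi i) L] [∀ i, IsScalarTower B (Bi i) L]

include hdim hinj hloc in
theorem claim (b : B) (hb : b ≠ 0) :
    CycAlg.ordFrac A K (Algebra.norm K (algebraMap B L b)) =
      ∑ i, (Module.finrank (ResidueField A) (ResidueField (Bi i)) : ℤ) *
        CycAlg.ordFrac (Bi i) L (algebraMap B L b) := by
  haveI := finiteDimensional (A := A) (B := B) (K := K) (L := L) hinj
  obtain ⟨hlt, heq⟩ := main_S14503 (A := A) (B := B) (K := K) (L := L) hdim hinj b hb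
  rw [← heq]
  have hflA : IsFiniteLength A (B ⧸ Ideal.span {b}) := Module.length_ne_top_iff.mp hlt.ne
  have hflB : IsFiniteLength B (B ⧸ Ideal.span {b}) := by
    rw [isFiniteLength_iff_isNoetherian_isArtinian] at hflA ⊢
    obtain ⟨h1, h2⟩ := hflA
    exact ⟨isNoetherian_of_tower A h1, isArtinian_of_tower A h2⟩
  rw [NormA.sl A B n Bi hloc (Ideal.span {b}) hflB]
  have hterm : ∀ i, ∃ m : ℕ,
      Module.length (Bi i) (Bi i ⧸ (Ideal.span {b}).map (algebraMap B (Bi i))) = (m : ℕ∞) ∧
      CycAlg.ordFrac (Bi i) L (algebraMap B L b) = (m : ℤ) := by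
    intro i
    haveI := (n i).isMaximal
    haveI := hloc i
    haveI := isDomain_loc (n i).asIdeal (Bi i)
    haveI := isNoetherianRing_loc (A := A) (n i).asIdeal (Bi i)
    have hd := dim_loc (A := A) (n i).asIdeal (Bi i) hdim
    haveI : Ring.KrullDimLE 1 (Bi i) := Ring.krullDimLE_iff.mpr (by exact_mod_cast hd)
    haveI := isFractionRing_loc (L := L) (n i).asIdeal (Bi i)
    have hb' : algebraMap B (Bi i) b ≠ 0 := by
      intro h0
      apply hb
      apply IsFractionRing.injective B L
      rw [IsScalarTower.algebraMap_apply B (Bi i) L, h0, map_zero, map_zero]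
    have hnzd : algebraMap B (Bi i) b ∈ nonZeroDivisors (Bi i) := mem_nonZeroDivisors_of_ne_zero hb'
    have hfin : Ring.ord (Bi i) (algebraMap B (Bi i) b) ≠ ⊤ := Ring.ord_ne_top hnzd
    refine ⟨(Ring.ord (Bi i) (algebraMap B (Bi i) b)).toNat, ?_, ?_⟩
    · rw [Ideal.map_span, Set.image_singleton, ENat.coe_toNat hfin]
      rfl
    · rw [IsScalarTower.algebraMap_apply B (Bi i) L, ordFrac_algebraMap hb']
      rfl
  choose m hm1 hm2 using hterm
  have h1 : ∑ i, (Module.finrank (ResidueField A) (ResidueField (Bi i)) : ℕ∞) *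
      Module.length (Bi i) (Bi i ⧸ (Ideal.span {b}).map (algebraMap B (Bi i))) =
      ((∑ i, Module.finrank (ResidueField A) (ResidueField (Bi i)) * m i : ℕ) : ℕ∞) := by
    rw [Nat.cast_sum]
    refine Finset.sum_congr rfl (fun i _ => ?_)
    rw [hm1 i, Nat.cast_mul]
  rw [h1, ENat.toNat_coe, Nat.cast_sum]
  refine Finset.sum_congr rfl (fun i _ => ?_)
  rw [hm2 i, Nat.cast_mul]

include hdim hinj hloc in
theorem nof_local (g : L) (hg : g ≠ 0) :
    CycAlg.ordFrac A K (Algebra.norm K g) =
      ∑ i, (Module.finrank (ResidueField A) (ResidueField (Bi i)) : ℤ) *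
        CycAlg.ordFrac (Bi i) L g := by
  haveI := finiteDimensional (A := A) (B := B) (K := K) (L := L) hinj
  obtain ⟨b₁, b₂, hb₂, rfl⟩ := IsFractionRing.div_surjective (A := B) g
  have hb₂0 : b₂ ≠ 0 := nonZeroDivisors.ne_zero hb₂
  have hb₂L : algebraMap B L b₂ ≠ 0 := by
    intro h0
    exact hb₂0 ((IsFractionRing.injective B L) (by rw [h0, map_zero]))
  have hb₁L : algebraMap B L b₁ ≠ 0 := by
    intro h0
    apply hg
    rw [h0, zero_div]
  have hb₁0 : b₁ ≠ 0 := by
    intro h0
    apply hb₁L
    rw [h0, map_zero]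
  have c1 := claim (K := K) (L := L) hdim hinj n Bi hloc b₁ hb₁0
  have c2 := claim (K := K) (L := L) hdim hinj n Bi hloc b₂ hb₂0
  have hmul : algebraMap B L b₁ / algebraMap B L b₂ * algebraMap B L b₂ = algebraMap B L b₁ :=
    div_mul_cancel₀ _ hb₂L
  haveI : Ring.KrullDimLE 1 A := Ring.krullDimLE_iff.mpr (by exact_mod_cast hdim)
  have hN : ∀ x : L, x ≠ 0 → Algebra.norm K x ≠ 0 := fun x hx =>
    (Algebra.norm_ne_zero_iff (R := K)).mpr hx
  have e1 : CycAlg.ordFrac A K (Algebra.norm K (algebraMap B L b₁ / algebraMap B L b₂)) +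
      CycAlg.ordFrac A K (Algebra.norm K (algebraMap B L b₂)) =
      CycAlg.ordFrac A K (Algebra.norm K (algebraMap B L b₁)) := by
    rw [← ordFrac_mul (hN _ hg) (hN _ hb₂L), ← map_mul, hmul]
  have e2 : ∀ i, CycAlg.ordFrac (Bi i) L (algebraMap B L b₁ / algebraMap B L b₂) +
      CycAlg.ordFrac (Bi i) L (algebraMap B L b₂) =
      CycAlg.ordFrac (Bi i) L (algebraMap B L b₁) := by
    intro i
    haveI := (n i).isMaximal
    haveI := hloc i
    haveI := isDomain_loc (n i).asIdeal (Bi i)
    haveI := isNoetherianRing_loc (A := A) (n i).asIdeal (Bi i)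
    have hd := dim_loc (A := A) (n i).asIdeal (Bi i) hdim
    haveI : Ring.KrullDimLE 1 (Bi i) := Ring.krullDimLE_iff.mpr (by exact_mod_cast hd)
    haveI := isFractionRing_loc (L := L) (n i).asIdeal (Bi i)
    rw [← ordFrac_mul hg hb₂L, hmul]
  have e3 : CycAlg.ordFrac A K (Algebra.norm K (algebraMap B L b₁ / algebraMap B L b₂)) =
      CycAlg.ordFrac A K (Algebra.norm K (algebraMap B L b₁)) -
      CycAlg.ordFrac A K (Algebra.norm K (algebraMap B L b₂)) := by linarith
  rw [e3, c1, c2, ← Finset.sum_sub_distrib]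
  refine Finset.sum_congr rfl (fun i _ => ?_)
  rw [← e2 i]
  ring

end main

end Groth.Agent.Helper3.NormB
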