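import Mathlib
import Groth.Prelude
import Groth.Agent.Helper3.NormB

set_option autoImplicit false
set_option linter.style.haveILetI false
set_option linter.unusedSectionVars false
set_option linter.unusedVariables false
set_option linter.deprecated false
set_option linter.style.haveILetI false
set_option linter.unusedSectionVars false
set_option linter.unusedVariables false

namespace Groth.Agent.Helper3.NormC

universe u

open IsLocalRing Function

variable {A₀ B₀ : Type u} [CommRing A₀] [CommRing B₀] [Algebra A₀ B₀] (𝔭 : Ideal A₀) [𝔭.IsPrime]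

/-- the semilocal ring of `B₀` over the prime `𝔭` -/
abbrev Bs : Type u := Localization (Algebra.algebraMapSubmonoid B₀ 𝔭.primeCompl)

variable {𝔭}

theorem disjoint_of_comap_eq {P : Ideal B₀} (hP : P.comap (algebraMap A₀ B₀) = 𝔭) :
    Disjoint ((Algebra.algebraMapSubmonoid B₀ 𝔭.primeCompl : Submonoid B₀) : Set B₀) (P : Set B₀) := by
  rw [Set.disjoint_left]
  rintro _ ⟨t, ht, rfl⟩ hmem
  apply ht
  rw [← hP]
  exact hmem

theorem map_isPrime {P : Ideal B₀} [hPp : P.IsPrime] (hP : P.comap (algebraMap A₀ B₀) = 𝔭) :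
    (P.map (algebraMap B₀ (Bs (B₀ := B₀) 𝔭))).IsPrime :=
  IsLocalization.isPrime_of_isPrime_disjoint _ _ P hPp (disjoint_of_comap_eq hP)

theorem comap_map {P : Ideal B₀} [hPp : P.IsPrime] (hP : P.comap (algebraMap A₀ B₀) = 𝔭) :
    (P.map (algebraMap B₀ (Bs (B₀ := B₀) 𝔭))).comap (algebraMap B₀ (Bs (B₀ := B₀) 𝔭)) = P :=
  IsLocalization.under_map_of_isPrime_disjoint _ _ hPp (disjoint_of_comap_eq hP)

section withA

variable (A : Type u) [CommRing A] [Algebra A₀ A] [IsLocalization.AtPrime A 𝔭]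
  [Algebra A (Bs (B₀ := B₀) 𝔭)] [IsScalarTower A₀ A (Bs (B₀ := B₀) 𝔭)]

/-- a prime of the semilocal ring lies over the prime `𝔭` when it lies over the maximal ideal -/
theorem comap_comap_eq [IsLocalRing A] (n : Ideal (Bs (B₀ := B₀) 𝔭))
    (hn : n.comap (algebraMap A (Bs (B₀ := B₀) 𝔭)) = maximalIdeal A) :
    (n.comap (algebraMap B₀ (Bs (B₀ := B₀) 𝔭))).comap (algebraMap A₀ B₀) = 𝔭 := by
  rw [Ideal.comap_comap, ← IsScalarTower.algebraMap_eq, IsScalarTower.algebraMap_eq A₀ A,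
    ← Ideal.comap_comap, hn]
  exact IsLocalization.AtPrime.under_maximalIdeal A 𝔭

/-- a prime of the semilocal ring lying over `𝔭` lies over the maximal ideal -/
theorem comap_eq_maximalIdeal [IsLocalRing A] (n : Ideal (Bs (B₀ := B₀) 𝔭)) [n.IsPrime]
    (hn : (n.comap (algebraMap B₀ (Bs (B₀ := B₀) 𝔭))).comap (algebraMap A₀ B₀) = 𝔭) :
    n.comap (algebraMap A (Bs (B₀ := B₀) 𝔭)) = maximalIdeal A := by
  rw [Ideal.comap_comap, ← IsScalarTower.algebraMap_eq, IsScalarTower.algebraMap_eq A₀ A,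
    ← Ideal.comap_comap] at hn
  have h1 := IsLocalization.map_under 𝔭.primeCompl A (n.comap (algebraMap A (Bs (B₀ := B₀) 𝔭)))
  have h2 := IsLocalization.map_under 𝔭.primeCompl A (maximalIdeal A)
  rw [← h1, ← h2]
  congr 1
  rw [Ideal.under_def, Ideal.under_def, hn]
  exact (IsLocalization.AtPrime.under_maximalIdeal A 𝔭).symm

end withA


section bi

variable {P : Ideal B₀} [P.IsPrime] (hP : P.comap (algebraMap A₀ B₀) = 𝔭) (Bp : Type u)
  [CommRing Bp] [Algebra B₀ Bp] [IsLocalization.AtPrime Bp P]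

include hP in
theorem le_primeCompl : Algebra.algebraMapSubmonoid B₀ 𝔭.primeCompl ≤ P.primeCompl := by
  rintro _ ⟨t, ht, rfl⟩ hmem
  apply ht
  rw [← hP]
  exact hmem

include hP in
theorem isUnit_of_mem (s : Algebra.algebraMapSubmonoid B₀ 𝔭.primeCompl) :
    IsUnit (algebraMap B₀ Bp s) :=
  IsLocalization.map_units Bp (⟨s.1, le_primeCompl hP s.2⟩ : P.primeCompl)

/-- the map from the semilocal ring to the local ring at a prime over `𝔭` -/
noncomputable def toBp : Bs (B₀ := B₀) 𝔭 →+* Bp :=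
  IsLocalization.lift (M := Algebra.algebraMapSubmonoid B₀ 𝔭.primeCompl) (isUnit_of_mem hP Bp)

theorem toBp_comp : (toBp hP Bp).comp (algebraMap B₀ (Bs (B₀ := B₀) 𝔭)) = algebraMap B₀ Bp :=
  IsLocalization.lift_comp _

theorem toBp_algebraMap (b : B₀) : toBp hP Bp (algebraMap B₀ (Bs (B₀ := B₀) 𝔭) b) =
    algebraMap B₀ Bp b :=
  IsLocalization.lift_eq _ b

theorem isLocalization_toBp :
    letI := (toBp hP Bp).toAlgebra
    haveI := map_isPrime (P := P) hP
    IsLocalization.AtPrime Bp (P.map (algebraMap B₀ (Bs (B₀ := B₀) 𝔭))) := by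
  letI := (toBp hP Bp).toAlgebra
  haveI := map_isPrime (P := P) hP
  haveI : IsScalarTower B₀ (Bs (B₀ := B₀) 𝔭) Bp := IsScalarTower.of_algebraMap_eq (fun b => by
    rw [RingHom.algebraMap_toAlgebra, toBp_algebraMap])
  haveI h1 : IsLocalization (P.primeCompl.map (algebraMap B₀ (Bs (B₀ := B₀) 𝔭))) Bp :=
    IsLocalization.isLocalization_of_submonoid_le (Bs (B₀ := B₀) 𝔭) Bp
      (Algebra.algebraMapSubmonoid B₀ 𝔭.primeCompl) P.primeCompl (le_primeCompl hP)
  have hcm := comap_map (P := P) hP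
  refine IsLocalization.isLocalization_of_is_exists_mul_mem Bp
    (P.primeCompl.map (algebraMap B₀ (Bs (B₀ := B₀) 𝔭))) _ ?_ ?_
  · rintro _ ⟨b, hb, rfl⟩ hmem
    apply hb
    rw [← hcm]
    exact hmem
  · rintro ⟨x, hx⟩
    obtain ⟨b, s, rfl⟩ := IsLocalization.exists_mk'_eq
      (Algebra.algebraMapSubmonoid B₀ 𝔭.primeCompl) x
    refine ⟨algebraMap B₀ _ s.1, ?_⟩
    rw [IsLocalization.mk'_spec']
    refine ⟨b, ?_, rfl⟩
    intro hb
    apply hx
    show IsLocalization.mk' (Bs (B₀ := B₀) 𝔭) b s ∈ Ideal.map (algebraMap B₀ (Bs (B₀ := B₀) 𝔭)) P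
    rw [IsLocalization.mk'_mem_map_algebraMap_iff]
    exact ⟨1, one_mem _, by rwa [one_mul]⟩

end bi


section main

variable {A₀ B₀ : Type u} [CommRing A₀] [CommRing B₀] [IsDomain A₀] [IsDomain B₀] [Algebra A₀ B₀]
  [Module.Finite A₀ B₀] (hinj : Injective (algebraMap A₀ B₀)) (𝔭 : Ideal A₀) [𝔭.IsPrime]
  {A : Type u} [CommRing A] [IsLocalRing A] [Algebra A₀ A] [IsLocalization.AtPrime A 𝔭]
  [IsNoetherianRing A] (hdim : ringKrullDim A ≤ 1)
  {K L : Type u} [Field K] [Field L] [Algebra A₀ K] [IsFractionRing A₀ K] [Algebra A K]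
  [IsScalarTower A₀ A K] [Algebra B₀ L] [IsFractionRing B₀ L] [Algebra K L] [Algebra A₀ L]
  [IsScalarTower A₀ B₀ L] [IsScalarTower A₀ K L]
  {ι : Type} [Fintype ι] (P : ι → Ideal B₀) [∀ i, (P i).IsPrime]
  (hPover : ∀ i, (P i).comap (algebraMap A₀ B₀) = 𝔭) (hPinj : Injective P)
  (hPsurj : ∀ Q : Ideal B₀, Q.IsPrime → Q.comap (algebraMap A₀ B₀) = 𝔭 → ∃ i, P i = Q)
  (Bi : ι → Type u) [∀ i, CommRing (Bi i)] [∀ i, IsLocalRing (Bi i)] [∀ i, Algebra B₀ (Bi i)]
  [∀ i, IsLocalization.AtPrime (Bi i) (P i)] [∀ i, Algebra (Bi i) L]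
  [∀ i, IsScalarTower B₀ (Bi i) L] [∀ i, Algebra A (Bi i)] [∀ i, Algebra A₀ (Bi i)]
  [∀ i, IsScalarTower A₀ A (Bi i)] [∀ i, IsScalarTower A₀ B₀ (Bi i)]
  [∀ i, IsLocalHom (algebraMap A (Bi i))]

include hinj hdim hPover hPinj hPsurj in
theorem nof₀ (g : L) (hg : g ≠ 0) :
    CycAlg.ordFrac A K (Algebra.norm K g) =
      ∑ i, (Module.finrank (ResidueField A) (ResidueField (Bi i)) : ℤ) *
        CycAlg.ordFrac (Bi i) L g := by
  classical
  haveI : IsDomain A :=
    IsLocalization.isDomain_of_le_nonZeroDivisors A 𝔭.primeCompl_le_nonZeroDivisors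
  have hS : Algebra.algebraMapSubmonoid B₀ 𝔭.primeCompl ≤ nonZeroDivisors B₀ := by
    rintro _ ⟨t, ht, rfl⟩
    apply mem_nonZeroDivisors_of_ne_zero
    intro h0
    apply ht
    have : t = 0 := hinj (by rw [h0, map_zero])
    rw [this]
    exact zero_mem _
  haveI : IsDomain (Bs (B₀ := B₀) 𝔭) := IsLocalization.isDomain_of_le_nonZeroDivisors _ hS
  letI : Algebra A (Bs (B₀ := B₀) 𝔭) := localizationAlgebra 𝔭.primeCompl B₀
  haveI : IsScalarTower A₀ A (Bs (B₀ := B₀) 𝔭) := isScalarTower_localizationAlgebra _ _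
  haveI : Module.Finite A (Bs (B₀ := B₀) 𝔭) := Module.Finite.of_isLocalization A₀ B₀ 𝔭.primeCompl
  have hinjB : Injective (algebraMap A (Bs (B₀ := B₀) 𝔭)) :=
    localizationAlgebra_injective A (Bs (B₀ := B₀) 𝔭) hinj
  haveI : IsFractionRing A K :=
    IsFractionRing.isFractionRing_of_isDomain_of_isLocalization 𝔭.primeCompl A K
  -- the semilocal ring inside `L`
  have hunitL : ∀ s : Algebra.algebraMapSubmonoid B₀ 𝔭.primeCompl, IsUnit (algebraMap B₀ L s) :=
    fun s => IsLocalization.map_units L (⟨s.1, hS s.2⟩ : nonZeroDivisors B₀)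
  letI : Algebra (Bs (B₀ := B₀) 𝔭) L := (IsLocalization.lift hunitL).toAlgebra
  haveI : IsScalarTower B₀ (Bs (B₀ := B₀) 𝔭) L := IsScalarTower.of_algebraMap_eq (fun b => by
    rw [RingHom.algebraMap_toAlgebra, IsLocalization.lift_eq])
  haveI : IsFractionRing (Bs (B₀ := B₀) 𝔭) L :=
    IsFractionRing.isFractionRing_of_isDomain_of_isLocalization
      (Algebra.algebraMapSubmonoid B₀ 𝔭.primeCompl) (Bs (B₀ := B₀) 𝔭) L
  letI : Algebra A L := ((algebraMap K L).comp (algebraMap A K)).toAlgebra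
  haveI : IsScalarTower A K L := IsScalarTower.of_algebraMap_eq (fun _ => rfl)
  haveI : IsScalarTower A (Bs (B₀ := B₀) 𝔭) L := IsScalarTower.of_algebraMap_eq' (by
    apply IsLocalization.ringHom_ext 𝔭.primeCompl (S := A)
    ext t
    simp only [RingHom.comp_apply]
    rw [← IsScalarTower.algebraMap_apply A₀ A (Bs (B₀ := B₀) 𝔭),
      IsScalarTower.algebraMap_apply A₀ B₀ (Bs (B₀ := B₀) 𝔭),
      ← IsScalarTower.algebraMap_apply B₀ (Bs (B₀ := B₀) 𝔭) L,
      ← IsScalarTower.algebraMap_apply A₀ B₀ L]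
    change algebraMap K L (algebraMap A K (algebraMap A₀ A t)) = _
    rw [← IsScalarTower.algebraMap_apply A₀ A K, ← IsScalarTower.algebraMap_apply A₀ K L])
  -- the local rings
  letI : ∀ i, Algebra (Bs (B₀ := B₀) 𝔭) (Bi i) := fun i => (toBp (hPover i) (Bi i)).toAlgebra
  haveI : ∀ i, IsScalarTower B₀ (Bs (B₀ := B₀) 𝔭) (Bi i) := fun i =>
    IsScalarTower.of_algebraMap_eq (fun b => by
      rw [RingHom.algebraMap_toAlgebra, toBp_algebraMap])
  haveI : ∀ i, IsScalarTower A (Bs (B₀ := B₀) 𝔭) (Bi i) := fun i =>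
    IsScalarTower.of_algebraMap_eq' (by
      apply IsLocalization.ringHom_ext 𝔭.primeCompl (S := A)
      ext t
      simp only [RingHom.comp_apply]
      rw [← IsScalarTower.algebraMap_apply A₀ A (Bs (B₀ := B₀) 𝔭),
        IsScalarTower.algebraMap_apply A₀ B₀ (Bs (B₀ := B₀) 𝔭),
        ← IsScalarTower.algebraMap_apply B₀ (Bs (B₀ := B₀) 𝔭) (Bi i),
        ← IsScalarTower.algebraMap_apply A₀ B₀ (Bi i),
        ← IsScalarTower.algebraMap_apply A₀ A (Bi i)])
  haveI : ∀ i, IsScalarTower (Bs (B₀ := B₀) 𝔭) (Bi i) L := fun i =>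
    IsScalarTower.of_algebraMap_eq' (by
      apply IsLocalization.ringHom_ext (Algebra.algebraMapSubmonoid B₀ 𝔭.primeCompl)
        (S := Bs (B₀ := B₀) 𝔭)
      ext b
      simp only [RingHom.comp_apply]
      rw [← IsScalarTower.algebraMap_apply B₀ (Bs (B₀ := B₀) 𝔭) L,
        ← IsScalarTower.algebraMap_apply B₀ (Bs (B₀ := B₀) 𝔭) (Bi i),
        ← IsScalarTower.algebraMap_apply B₀ (Bi i) L])
  -- the maximal ideals
  haveI : Algebra.IsIntegral A (Bs (B₀ := B₀) 𝔭) := Algebra.IsIntegral.of_finite A _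
  have hmax : ∀ i, ((P i).map (algebraMap B₀ (Bs (B₀ := B₀) 𝔭))).IsMaximal := fun i => by
    haveI := map_isPrime (P := P i) (hPover i)
    have h1 := comap_eq_maximalIdeal A ((P i).map (algebraMap B₀ (Bs (B₀ := B₀) 𝔭)))
      (by rw [comap_map (hPover i)]; exact hPover i)
    apply Ideal.isMaximal_of_isIntegral_of_isMaximal_comap (R := A)
    rw [h1]
    infer_instance
  let n : ι ≃ MaximalSpectrum (Bs (B₀ := B₀) 𝔭) :=
    Equiv.ofBijective (fun i => ⟨(P i).map (algebraMap B₀ (Bs (B₀ := B₀) 𝔭)), hmax i⟩) (by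
      constructor
      · intro i j hij
        apply hPinj
        have h1 : (P i).map (algebraMap B₀ (Bs (B₀ := B₀) 𝔭)) =
            (P j).map (algebraMap B₀ (Bs (B₀ := B₀) 𝔭)) := congrArg MaximalSpectrum.asIdeal hij
        rw [← comap_map (hPover i), ← comap_map (hPover j), h1]
      · intro m
        haveI := m.isMaximal
        have h1 := comap_comap_eq A m.asIdeal (FibLen.comap_eq A (Bs (B₀ := B₀) 𝔭) m.asIdeal)
        obtain ⟨i, hi⟩ := hPsurj (m.asIdeal.comap (algebraMap B₀ (Bs (B₀ := B₀) 𝔭)))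
          (Ideal.IsPrime.comap _) h1
        refine ⟨i, ?_⟩
        apply MaximalSpectrum.ext
        change (P i).map (algebraMap B₀ (Bs (B₀ := B₀) 𝔭)) = m.asIdeal
        rw [hi]
        exact IsLocalization.map_under (Algebra.algebraMapSubmonoid B₀ 𝔭.primeCompl) _ m.asIdeal)
  have hloc : ∀ i, haveI := (n i).isMaximal; IsLocalization.AtPrime (Bi i) (n i).asIdeal :=
    fun i => isLocalization_toBp (hPover i) (Bi i)
  exact NormB.nof_local hdim hinjB n Bi hloc g hg

end main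


theorem finrank_res {A B : Type u} [CommRing A] [IsLocalRing A] [CommRing B] [IsLocalRing B]
    (s : A →+* B) [IsLocalHom s] :
    letI := s.toAlgebra
    haveI : IsLocalHom (algebraMap A B) := (inferInstance : IsLocalHom s)
    Module.finrank (ResidueField A) (ResidueField B) =
    @Module.finrank (ResidueField A) (ResidueField B) _ _
          (ResidueField.map s).toAlgebra.toModule := by
  letI := s.toAlgebra
  haveI : IsLocalHom (algebraMap A B) := (inferInstance : IsLocalHom s)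
  have h0 : (ResidueField.instModule : Module (ResidueField A) (ResidueField B)) =
      (Algebra.toModule : Module (ResidueField A) (ResidueField B)) := by
    with_unfolding_all rfl
  rw [h0]
  refine @Algebra.finrank_eq_of_equiv_equiv (ResidueField A) (ResidueField B) _ _
    ResidueField.instAlgebra
    (ResidueField A) (ResidueField B) _ _ (ResidueField.map s).toAlgebra
    (RingEquiv.refl _) (RingEquiv.refl _) ?_
  ext x
  obtain ⟨x, rfl⟩ := residue_surjective x
  rfl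

/-- the norm formula in terms of ring homomorphisms -/
theorem nof {A₀ B₀ : Type u} [CommRing A₀] [CommRing B₀] [IsDomain A₀] [IsDomain B₀]
    (φ : A₀ →+* B₀) (hφfin : φ.Finite) (hφinj : Injective φ) (𝔭 : Ideal A₀) [𝔭.IsPrime]
    {A : Type u} [CommRing A] [IsLocalRing A] [IsNoetherianRing A] (hdim : ringKrullDim A ≤ 1)
    (a : A₀ →+* A) (ha : @IsLocalization.AtPrime A₀ _ A _ a.toAlgebra 𝔭 _)
    {K L : Type u} [Field K] [Field L] (k : A →+* K) (l : B₀ →+* L) (ψ : K →+* L)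
    (hk : @IsFractionRing A₀ _ K _ (k.comp a).toAlgebra)
    (hl : @IsFractionRing B₀ _ L _ l.toAlgebra)
    (hcomm : ψ.comp (k.comp a) = l.comp φ)
    {ι : Type} [Fintype ι] (P : ι → Ideal B₀) [∀ i, (P i).IsPrime]
    (hPover : ∀ i, (P i).comap φ = 𝔭) (hPinj : Injective P)
    (hPsurj : ∀ Q : Ideal B₀, Q.IsPrime → Q.comap φ = 𝔭 → ∃ i, P i = Q)
    (Bi : ι → Type u) [∀ i, CommRing (Bi i)] [∀ i, IsLocalRing (Bi i)]
    (b : ∀ i, B₀ →+* Bi i)
    (hb : ∀ i, @IsLocalization.AtPrime B₀ _ (Bi i) _ (b i).toAlgebra (P i) _)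
    (li : ∀ i, Bi i →+* L) (hli : ∀ i, (li i).comp (b i) = l)
    (s : ∀ i, A →+* Bi i) (hs : ∀ i, (s i).comp a = (b i).comp φ) [∀ i, IsLocalHom (s i)]
    (g : L) (hg : g ≠ 0) :
    @CycAlg.ordFrac A _ K _ k.toAlgebra (@Algebra.norm K L _ _ ψ.toAlgebra g) =
      ∑ i, (@Module.finrank (ResidueField A) (ResidueField (Bi i)) _ _
          (ResidueField.map (s i)).toAlgebra.toModule : ℤ) *
        @CycAlg.ordFrac (Bi i) _ L _ (li i).toAlgebra g := by
  letI : Algebra A₀ B₀ := φ.toAlgebra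
  haveI : Module.Finite A₀ B₀ := hφfin
  letI : Algebra A₀ A := a.toAlgebra
  haveI : IsLocalization.AtPrime A 𝔭 := ha
  letI : Algebra A K := k.toAlgebra
  letI : Algebra A₀ K := (k.comp a).toAlgebra
  haveI : IsFractionRing A₀ K := hk
  haveI : IsScalarTower A₀ A K := IsScalarTower.of_algebraMap_eq (fun _ => rfl)
  letI : Algebra B₀ L := l.toAlgebra
  haveI : IsFractionRing B₀ L := hl
  letI : Algebra K L := ψ.toAlgebra
  letI : Algebra A₀ L := (l.comp φ).toAlgebra
  haveI : IsScalarTower A₀ B₀ L := IsScalarTower.of_algebraMap_eq (fun _ => rfl)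
  haveI : IsScalarTower A₀ K L := IsScalarTower.of_algebraMap_eq (fun t => by
    change (l.comp φ) t = (ψ.comp (k.comp a)) t
    rw [hcomm])
  letI : ∀ i, Algebra B₀ (Bi i) := fun i => (b i).toAlgebra
  haveI : ∀ i, IsLocalization.AtPrime (Bi i) (P i) := hb
  letI : ∀ i, Algebra (Bi i) L := fun i => (li i).toAlgebra
  haveI : ∀ i, IsScalarTower B₀ (Bi i) L := fun i => IsScalarTower.of_algebraMap_eq (fun t => by
    change l t = ((li i).comp (b i)) t
    rw [hli])
  letI : ∀ i, Algebra A (Bi i) := fun i => (s i).toAlgebra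
  letI : ∀ i, Algebra A₀ (Bi i) := fun i => ((b i).comp φ).toAlgebra
  haveI : ∀ i, IsScalarTower A₀ B₀ (Bi i) := fun i => IsScalarTower.of_algebraMap_eq (fun _ => rfl)
  haveI : ∀ i, IsScalarTower A₀ A (Bi i) := fun i => IsScalarTower.of_algebraMap_eq (fun t => by
    change ((b i).comp φ) t = ((s i).comp a) t
    rw [hs])
  haveI : ∀ i, IsLocalHom (algebraMap A (Bi i)) := fun i => (inferInstance : IsLocalHom (s i))
  have key := nof₀ (A := A) (K := K) (L := L) hφinj 𝔭 hdim P hPover hPinj hPsurj Bi g hg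
  rw [key]
  refine Finset.sum_congr rfl (fun i _ => ?_)
  rw [finrank_res (s i)]

end Groth.Agent.Helper3.NormC
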