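import Mathlib
import Groth.Prelude
import Groth.Agent.Helper3.NormC
import Groth.Agent.Helper3.DivTrC
import Groth.Agent.Helper3.CycPush
import Groth.Agent.Lead.QFinD
import Groth.Agent.Helper3.PullDivC
import Groth.Agent.Helper3.DivTrA
import Groth.Agent.Helper3.DivTrB
import Groth.Agent.Helper3.BirResField

set_option autoImplicit false
set_option linter.style.haveILetI false
set_option linter.unusedSectionVars false
set_option linter.unusedVariables false
set_option linter.deprecated false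
set_option linter.style.haveILetI false
set_option linter.unusedSectionVars false
set_option linter.unusedVariables false

namespace Groth.Agent.Helper3.NormD

universe u

open AlgebraicGeometry CategoryTheory IsLocalRing Function TopologicalSpace

variable {X Y : Scheme.{u}}

/-- a fibre without nontrivial specializations of a quasi-compact morphism from a locally
Noetherian scheme is finite -/
theorem finite_fibre_of_no_spec (p : X ⟶ Y) [QuasiCompact p] [IsLocallyNoetherian X] (y : Y)
    (h : ∀ x x' : X, p x = y → p x' = y → x ⤳ x' → x = x') : (p ⁻¹' {y}).Finite := by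
  obtain ⟨U₀, hU₀, hyU₀, -⟩ := exists_isAffineOpen_mem_and_subset (x := y) (U := ⊤) trivial
  have hc : IsCompact (p ⁻¹ᵁ U₀ : Set X) := p.isCompact_preimage hU₀.isCompact
  haveI : CompactSpace ↥(p ⁻¹ᵁ U₀) := isCompact_iff_compactSpace.mp hc
  haveI : CompactSpace ↥(p ⁻¹ᵁ U₀ : Scheme.{u}) := isCompact_iff_compactSpace.mp hc
  haveI : AlgebraicGeometry.IsNoetherian (p ⁻¹ᵁ U₀ : Scheme.{u}) := ⟨⟩
  haveI : NoetherianSpace ↥(p ⁻¹ᵁ U₀) :=
    (inferInstance : NoetherianSpace ↥(p ⁻¹ᵁ U₀ : Scheme.{u}))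
  haveI : QuasiSober ↥(p ⁻¹ᵁ U₀) := (p ⁻¹ᵁ U₀).isOpen.isOpenEmbedding_subtypeVal.quasiSober
  let C : Set ↥(p ⁻¹ᵁ U₀) := (fun w => p (w : X)) ⁻¹' (closure {y})
  have hC : IsClosed C :=
    isClosed_closure.preimage (p.continuous.comp continuous_subtype_val)
  have hfin := DivTrC.finite_maximal C hC
  refine (hfin.image (Subtype.val : ↥(p ⁻¹ᵁ U₀) → X)).subset ?_
  intro x hx
  have hx' : p x = y := hx
  have hxW : x ∈ p ⁻¹ᵁ U₀ := by
    show p x ∈ U₀
    rw [hx']; exact hyU₀
  refine ⟨⟨x, hxW⟩, ⟨?_, ?_⟩, rfl⟩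
  · show p x ∈ closure {y}
    rw [hx']; exact subset_closure (Set.mem_singleton _)
  · rintro t ht hty
    have hty' : (t : X) ⤳ x := (subtype_specializes_iff _ _).1 hty
    have h1 : y ⤳ p (t : X) := specializes_iff_mem_closure.2 ht
    have h2 : p (t : X) ⤳ y := by
      rw [← hx']
      exact hty'.map p.continuous
    have h3 : p (t : X) = y := (h2.antisymm h1).eq
    exact Subtype.ext (h _ _ h3 hx' hty')


/-- over a point with finite fibre a proper morphism is finite between affine opens -/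
theorem exists_affine_finite (p : X ⟶ Y) [IsProper p] (y : Y) (hfin : (p ⁻¹' {y}).Finite) :
    ∃ U : Y.Opens, IsAffineOpen U ∧ y ∈ U ∧ IsAffineOpen (p ⁻¹ᵁ U) ∧ (p.app U).hom.Finite := by
  obtain ⟨V, hyV, hV⟩ := exists_isFinite_morphismRestrict_of_finite_preimage_singleton p y hfin
  obtain ⟨U, hU, hyU, hUV⟩ := exists_isAffineOpen_mem_and_subset (x := y) (U := V) hyV
  haveI : IsFinite (p ∣_ U) := Groth.Agent.Lead.QFin.isFinite_restrict_of_le p hUV hV
  haveI : IsAffine (U : Scheme.{u}) := hU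
  have h := (HasAffineProperty.iff_of_isAffine (P := @IsFinite) (f := p ∣_ U)).mp inferInstance
  refine ⟨U, hU, hyU, h.1, ?_⟩
  have h2 := h.2
  rw [morphismRestrict_appTop] at h2
  have h2' : (CommRingCat.Hom.hom ((Scheme.Hom.app p (U.ι ''ᵁ ⊤)) ≫
      X.presheaf.map (eqToHom (image_morphismRestrict_preimage p U ⊤)).op)).Finite := h2
  rw [CommRingCat.hom_comp, RingHom.finite_respectsIso.cancel_right_isIso] at h2'
  have h3 : (Scheme.Hom.app p (U.ι ''ᵁ ⊤)).hom.Finite := h2'
  rwa [Scheme.Opens.ι_image_top] at h3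


section general

variable {X : Scheme.{u}}

theorem specMap_germ (x ξ : X) (h : ξ ⤳ x) (U : X.Opens) (hxU : x ∈ U) (c : Γ(X, U)) :
    Cyc.specMap x ξ h (X.presheaf.germ U x hxU c) =
      (X.evaluation U ξ (h.mem_open U.isOpen hxU)).hom c := by
  unfold Cyc.specMap
  simp only [CommRingCat.hom_comp, RingHom.comp_apply]
  rw [TopCat.Presheaf.germ_stalkSpecializes_apply]
  rfl

theorem specMap_comp_germ (x ξ : X) (h : ξ ⤳ x) (U : X.Opens) (hxU : x ∈ U) :
    (Cyc.specMap x ξ h).comp (X.presheaf.germ U x hxU).hom =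
      (X.evaluation U ξ (h.mem_open U.isOpen hxU)).hom := by
  ext c
  exact specMap_germ x ξ h U hxU c

/-- the order along a specialization with trivial kernel is the order in the local ring -/
theorem ordAt_eq_of_ker_bot (x ξ : X) (h : ξ ⤳ x) (hk : RingHom.ker (Cyc.specMap x ξ h) = ⊥)
    (f : X.residueField ξ) :
    Cyc.ordAt x ξ h f =
      @CycAlg.ordFrac (X.presheaf.stalk x) _ (X.residueField ξ) _ (Cyc.specMap x ξ h).toAlgebra f := by
  letI : Algebra (X.presheaf.stalk x) (X.residueField ξ) := (Cyc.specMap x ξ h).toAlgebra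
  let φ : X.presheaf.stalk x ≃+* Cyc.LocQuot x ξ h :=
    RingEquiv.ofBijective (Ideal.Quotient.mk (RingHom.ker (Cyc.specMap x ξ h))) ⟨by
      rw [RingHom.injective_iff_ker_eq_bot, Ideal.mk_ker, hk], Ideal.Quotient.mk_surjective⟩
  have key := DivTrA.cycOrdFrac_equiv φ (RingEquiv.refl (X.residueField ξ)) (fun r => by
    change Cyc.specMap x ξ h r = algebraMap (Cyc.LocQuot x ξ h) (X.residueField ξ)
      (Ideal.Quotient.mk _ r)
    rw [DivTrB.algebraMap_mk]) f
  exact key

end general

section integral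

variable {X : Scheme.{u}} [IsIntegral X]

theorem ker_specMap_eq_bot' (ζ : X) (hζ : ζ = genericPoint X) (x : X) (h : ζ ⤳ x) :
    RingHom.ker (Cyc.specMap x ζ h) = ⊥ := by
  subst hζ
  exact PullDivC.ker_specMap_eq_bot x h

theorem evaluation_injective (ζ : X) (hζ : ζ = genericPoint X) (U : X.Opens) (hζU : ζ ∈ U) :
    Injective (X.evaluation U ζ hζU).hom := by
  subst hζ
  intro a b hab
  have h1 : (X.residue (genericPoint X)).hom (X.presheaf.germ U _ hζU a) =
      (X.residue (genericPoint X)).hom (X.presheaf.germ U _ hζU b) := hab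
  letI : Field (X.presheaf.stalk (genericPoint X)) :=
    (inferInstance : Field X.functionField)
  have h2 := (X.residue (genericPoint X)).hom.injective h1
  exact germ_injective_of_isIntegral X (genericPoint X) hζU h2


theorem isFractionRing_evaluation (ζ : X) (hζ : ζ = genericPoint X) (U : X.Opens)
    (hU : IsAffineOpen U) (hζU : ζ ∈ U) :
    @IsFractionRing Γ(X, U) _ (X.residueField ζ) _ (X.evaluation U ζ hζU).hom.toAlgebra := by
  subst hζ
  haveI : Nonempty U := ⟨⟨genericPoint X, hζU⟩⟩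
  haveI := functionField_isFractionRing_of_isAffineOpen X U hU
  haveI := BirResField.isIso_residue_genericPoint X
  letI : Algebra Γ(X, U) (X.residueField (genericPoint X)) :=
    (X.evaluation U (genericPoint X) hζU).hom.toAlgebra
  let ψ : X.functionField ≃+* X.residueField (genericPoint X) :=
    RingEquiv.ofBijective (X.residue (genericPoint X)).hom
      (ConcreteCategory.bijective_of_isIso (X.residue (genericPoint X)))
  exact DivTrA.isFractionRing_of_equiv (RingEquiv.refl Γ(X, U)) ψ (fun r => rfl)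

end integral


section primes

variable {X Y : Scheme.{u}} (p : X ⟶ Y)

theorem mem_primeIdealOf_iff {U : X.Opens} (hU : IsAffineOpen U) (x : X) (hx : x ∈ U)
    (s : Γ(X, U)) :
    s ∈ (hU.primeIdealOf ⟨x, hx⟩).asIdeal ↔
      X.presheaf.germ U x hx s ∈ maximalIdeal (X.presheaf.stalk x) := by
  letI := X.presheaf.algebra_section_stalk (⟨x, hx⟩ : U)
  haveI : IsLocalization.AtPrime (X.presheaf.stalk x) (hU.primeIdealOf ⟨x, hx⟩).asIdeal :=
    hU.isLocalization_stalk ⟨x, hx⟩
  exact (IsLocalization.AtPrime.to_map_mem_maximal_iff (X.presheaf.stalk x)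
    (hU.primeIdealOf ⟨x, hx⟩).asIdeal s).symm

theorem comap_primeIdealOf {U : Y.Opens} (hU : IsAffineOpen U) (hV : IsAffineOpen (p ⁻¹ᵁ U))
    (x : X) (hx : p x ∈ U) :
    (hV.primeIdealOf ⟨x, hx⟩).asIdeal.comap (p.app U).hom =
      (hU.primeIdealOf ⟨p x, hx⟩).asIdeal := by
  ext s
  rw [Ideal.mem_comap, mem_primeIdealOf_iff, mem_primeIdealOf_iff,
    ← Scheme.Hom.germ_stalkMap_apply]
  constructor
  · intro h1 h2
    exact h1 (h2.map (p.stalkMap x).hom)
  · intro h1 h2
    exact h1 ((isUnit_map_iff (p.stalkMap x).hom _).mp h2)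

theorem primeIdealOf_injective {U : X.Opens} (hU : IsAffineOpen U) (x x' : X) (hx : x ∈ U)
    (hx' : x' ∈ U)
    (h : (hU.primeIdealOf ⟨x, hx⟩).asIdeal = (hU.primeIdealOf ⟨x', hx'⟩).asIdeal) : x = x' := by
  have h3 : hU.primeIdealOf ⟨x, hx⟩ = hU.primeIdealOf ⟨x', hx'⟩ := PrimeSpectrum.ext h
  have h4 := congrArg hU.fromSpec h3
  rwa [hU.fromSpec_primeIdealOf, hU.fromSpec_primeIdealOf] at h4

theorem exists_primeIdealOf_eq {U : X.Opens} (hU : IsAffineOpen U) (Q : Ideal Γ(X, U))
    [hQ : Q.IsPrime] : ∃ (x : X) (hx : x ∈ U), (hU.primeIdealOf ⟨x, hx⟩).asIdeal = Q := by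
  have hmem : hU.fromSpec ⟨Q, hQ⟩ ∈ U := by
    have := hU.range_fromSpec
    rw [← SetLike.mem_coe, ← this]
    exact ⟨_, rfl⟩
  refine ⟨hU.fromSpec ⟨Q, hQ⟩, hmem, ?_⟩
  have h1 : hU.fromSpec (hU.primeIdealOf ⟨hU.fromSpec ⟨Q, hQ⟩, hmem⟩) = hU.fromSpec ⟨Q, hQ⟩ :=
    hU.fromSpec_primeIdealOf _
  have h2 := hU.fromSpec.isOpenEmbedding.injective h1
  rw [h2]

theorem primeIdealOf_congr {U : Y.Opens} (hU : IsAffineOpen U) (y y' : Y) (h : y' = y)
    (hy : y ∈ U) (hy' : y' ∈ U) :
    (hU.primeIdealOf ⟨y', hy'⟩).asIdeal = (hU.primeIdealOf ⟨y, hy⟩).asIdeal := by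
  subst h
  rfl

end primes


section smap

variable {X Y : Scheme.{u}} (p : X ⟶ Y)

/-- the map on local rings to a point of the fibre over `y` -/
noncomputable def sMap (x : X) (y : Y) (hpx : p x = y) :
    Y.presheaf.stalk y ⟶ X.presheaf.stalk x :=
  Y.presheaf.stalkSpecializes (show p x ⤳ y from hpx ▸ specializes_rfl) ≫ p.stalkMap x

theorem sMap_germ (x : X) (y : Y) (hpx : p x = y) (U : Y.Opens) (hyU : y ∈ U) (s : Γ(Y, U)) :
    (sMap p x y hpx).hom (Y.presheaf.germ U y hyU s) =
      X.presheaf.germ (p ⁻¹ᵁ U) x (show p x ∈ U from hpx ▸ hyU) (p.app U s) := by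
  subst hpx
  unfold sMap
  simp only [CommRingCat.hom_comp, RingHom.comp_apply]
  rw [TopCat.Presheaf.germ_stalkSpecializes_apply, Scheme.Hom.germ_stalkMap_apply]

instance sMap_isLocalHom (x : X) (y : Y) (hpx : p x = y) : IsLocalHom (sMap p x y hpx).hom := by
  subst hpx
  unfold sMap
  rw [TopCat.Presheaf.stalkSpecializes_refl, Category.id_comp]
  infer_instance

theorem finrank_congr {A B : Type u} [CommRing A] [IsLocalRing A] [CommRing B] [IsLocalRing B]
    (s s' : A →+* B) [IsLocalHom s] [IsLocalHom s'] (h : s = s') :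
    @Module.finrank (ResidueField A) (ResidueField B) _ _
      (ResidueField.map s).toAlgebra.toModule =
    @Module.finrank (ResidueField A) (ResidueField B) _ _
      (ResidueField.map s').toAlgebra.toModule := by
  subst h
  rfl

theorem finrank_sMap (x : X) (y : Y) (hpx : p x = y) :
    @Module.finrank (ResidueField (Y.presheaf.stalk y)) (ResidueField (X.presheaf.stalk x)) _ _
      (ResidueField.map (sMap p x y hpx).hom).toAlgebra.toModule = p.residueDegree x := by
  subst hpx
  have h1 : (sMap p x (p x) rfl).hom = (p.stalkMap x).hom := by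
    unfold sMap
    rw [TopCat.Presheaf.stalkSpecializes_refl, Category.id_comp]
  rw [finrank_congr _ _ h1]
  rfl

end smap


section core

variable {X Y : Scheme.{u}} [IsIntegral X] [IsIntegral Y] [IsLocallyNoetherian Y] (p : X ⟶ Y)

theorem core (hdom : p (genericPoint X) = genericPoint Y)
    (U : Y.Opens) (hU : IsAffineOpen U) (hV : IsAffineOpen (p ⁻¹ᵁ U))
    (hfin : (p.app U).hom.Finite) (hinj : Function.Injective (p.app U).hom)
    (y : Y) (hyU : y ∈ U) (hdim : ringKrullDim (Y.presheaf.stalk y) ≤ 1)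
    (hη : p (genericPoint X) ⤳ y)
    {n : ℕ} (x : Fin n → X) (hx : ∀ i, p (x i) = y) (hxinj : Function.Injective x)
    (hxsurj : ∀ x', p x' = y → ∃ i, x i = x')
    (hsp : ∀ i, genericPoint X ⤳ x i)
    (g : X.residueField (genericPoint X)) (hg : g ≠ 0) :
    @CycAlg.ordFrac (Y.presheaf.stalk y) _ (Y.residueField (p (genericPoint X))) _
        (Cyc.specMap y _ hη).toAlgebra (Cyc.normGen p (genericPoint X) g) =
      ∑ i, (p.residueDegree (x i) : ℤ) *
        @CycAlg.ordFrac (X.presheaf.stalk (x i)) _ (X.residueField (genericPoint X)) _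
          (Cyc.specMap (x i) _ (hsp i)).toAlgebra g := by
  have hηU : p (genericPoint X) ∈ U := hη.mem_open U.isOpen hyU
  have hηV : genericPoint X ∈ p ⁻¹ᵁ U := hηU
  have hxV : ∀ i, x i ∈ p ⁻¹ᵁ U := fun i => by
    show p (x i) ∈ U
    rw [hx i]; exact hyU
  haveI : IsDomain Γ(Y, U) := by
    haveI : Nonempty U := ⟨⟨y, hyU⟩⟩
    infer_instance
  haveI : IsDomain Γ(X, p ⁻¹ᵁ U) := by
    haveI : Nonempty (p ⁻¹ᵁ U : X.Opens) := ⟨⟨genericPoint X, hηV⟩⟩
    infer_instance
  have hka : (Cyc.specMap y _ hη).comp (Y.presheaf.germ U y hyU).hom =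
      (Y.evaluation U (p (genericPoint X)) hηU).hom := specMap_comp_germ y _ hη U hyU
  haveI hPprime : ∀ i, (hV.primeIdealOf ⟨x i, hxV i⟩).asIdeal.IsPrime := fun i =>
    (hV.primeIdealOf ⟨x i, hxV i⟩).isPrime
  have key := NormC.nof (p.app U).hom hfin hinj (hU.primeIdealOf ⟨y, hyU⟩).asIdeal
    (A := Y.presheaf.stalk y) hdim (Y.presheaf.germ U y hyU).hom
    (hU.isLocalization_stalk ⟨y, hyU⟩)
    (K := Y.residueField (p (genericPoint X))) (L := X.residueField (genericPoint X))
    (Cyc.specMap y _ hη) (X.evaluation (p ⁻¹ᵁ U) (genericPoint X) hηV).hom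
    (p.residueFieldMap (genericPoint X)).hom
    (by
      rw [hka]
      exact isFractionRing_evaluation _ hdom U hU hηU)
    (isFractionRing_evaluation _ rfl _ hV hηV)
    (by
      rw [hka]
      have := Scheme.evaluation_naturality p (genericPoint X) hηU
      exact congrArg CommRingCat.Hom.hom this)
    (fun i => (hV.primeIdealOf ⟨x i, hxV i⟩).asIdeal)
    (fun i => by
      rw [comap_primeIdealOf p hU hV (x i) (hxV i)]
      exact primeIdealOf_congr hU y (p (x i)) (hx i) hyU _)
    (fun i j hij => hxinj (primeIdealOf_injective hV _ _ (hxV i) (hxV j) hij))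
    (fun Q hQ hQover => by
      haveI := hQ
      obtain ⟨x', hx'V, hx'Q⟩ := exists_primeIdealOf_eq hV Q
      have h1 := comap_primeIdealOf p hU hV x' hx'V
      rw [hx'Q, hQover] at h1
      have h2 : y = p x' := primeIdealOf_injective hU _ _ hyU hx'V h1
      obtain ⟨i, hi⟩ := hxsurj x' h2.symm
      refine ⟨i, ?_⟩
      rw [← hx'Q]
      exact primeIdealOf_congr hV x' (x i) hi hx'V (hxV i))
    (fun i => X.presheaf.stalk (x i))
    (fun i => (X.presheaf.germ (p ⁻¹ᵁ U) (x i) (hxV i)).hom)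
    (fun i => hV.isLocalization_stalk ⟨x i, hxV i⟩)
    (fun i => Cyc.specMap (x i) _ (hsp i))
    (fun i => specMap_comp_germ (x i) _ (hsp i) _ (hxV i))
    (fun i => (sMap p (x i) y (hx i)).hom)
    (fun i => by
      ext t
      exact sMap_germ p (x i) y (hx i) U hyU t)
    g hg
  rw [show Cyc.normGen p (genericPoint X) g = @Algebra.norm _ _ _ _
    (p.residueFieldMap (genericPoint X)).hom.toAlgebra g from rfl, key]
  refine Finset.sum_congr rfl (fun i _ => ?_)
  rw [finrank_sMap p (x i) y (hx i)]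

end core


section final

variable {X Y : Scheme.{u}} [IsIntegral X] [IsIntegral Y]

theorem generic_specializes' (ζ : Y) (hζ : ζ = genericPoint Y) (y : Y) : ζ ⤳ y := by
  subst hζ
  exact PullDivC.generic_specializes y

theorem main (δX : X → ℤ) (δY : Y → ℤ) (hX : Cyc.IsSetup X δX) (hY : Cyc.IsSetup Y δY)
    (p : X ⟶ Y) [IsProper p] (hδ : Cyc.DeltaCompat p δX δY)
    (hdom : p (genericPoint X) = genericPoint Y)
    (hn : δX (genericPoint X) = δY (genericPoint Y)) (f : X.residueField (genericPoint X))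
    (hf : f ≠ 0) (α : AlgebraicCycle X ℤ) (hα : ⇑α = Cyc.divFun δX (genericPoint X) f) :
    ⇑(AlgebraicCycle.map p δX δY α) =
      Cyc.divFun δY (p (genericPoint X)) (Cyc.normGen p (genericPoint X) f) := by
  haveI : IsLocallyNoetherian X := hX.1
  haveI : IsLocallyNoetherian Y := hY.1
  have hn' : δY (p (genericPoint X)) = δX (genericPoint X) := by rw [hdom, hn]
  funext y
  simp only [AlgebraicCycle.map, Function.locallyFinsupp.map_apply]
  have hηy : p (genericPoint X) ⤳ y := generic_specializes' _ hdom y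
  by_cases hy : δY y + 1 = δY (p (genericPoint X))
  swap
  · -- trivial case
    rw [Cyc.divFun, dif_neg (fun h => hy h.2)]
    apply finsum_mem_eq_zero_of_forall_eq_zero
    intro x hx
    have hx' : p x = y := hx
    rw [hα]
    unfold Cyc.divFun AlgebraicCycle.mapCoeff
    by_cases h1 : genericPoint X ⤳ x ∧ δX x + 1 = δX (genericPoint X)
    · by_cases h2 : δX x = δY (p x)
      · exfalso
        apply hy
        rw [hn', ← h1.2, h2, hx']
      · rw [if_neg h2]
        simp
    · rw [dif_neg h1, zero_mul]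
  · -- main case
    have hfib : ∀ x : X, p x = y → δX x = δY y ∧ δX x + 1 = δX (genericPoint X) := by
      intro x hx
      have h1 : δY (p x) ≤ δX x := CycPush.delta_le p δX δY hδ x
      rw [hx] at h1
      have hne : genericPoint X ≠ x := by
        intro h0
        rw [← h0] at hx
        rw [hx] at hy
        omega
      have h2 := (hX.2.2 _ _ (PullDivC.generic_specializes x) hne).1
      constructor <;> omega
    have hnospec : ∀ x x' : X, p x = y → p x' = y → x ⤳ x' → x = x' := by
      intro x x' hx hx' hsp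
      by_contra hne
      have h1 := (hX.2.2 _ _ hsp hne).1
      have h2 := (hfib x hx).1
      have h3 := (hfib x' hx').1
      omega
    have hfin : (p ⁻¹' {y}).Finite := finite_fibre_of_no_spec p y hnospec
    obtain ⟨U, hU, hyU, hV, hφfin⟩ := exists_affine_finite p y hfin
    haveI : IsDominant p := ⟨by
      rw [DenseRange, dense_iff_closure_eq, ← Set.univ_subset_iff,
        ← (genericPoint_spec Y).def, ← hdom]
      exact closure_mono (Set.singleton_subset_iff.mpr ⟨_, rfl⟩)⟩
    haveI : IsSchemeTheoreticallyDominant p := IsSchemeTheoreticallyDominant.of_isDominant p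
    have hinj : Function.Injective (p.app U).hom := p.app_injective U
    have hdim : ringKrullDim (Y.presheaf.stalk y) ≤ 1 := by
      refine PullDivC.krullDim_stalk_le_one δY hY.2.2 y (fun ξ hξ _ => ?_)
      have h1 : ξ = genericPoint Y := (hξ _ (PullDivC.generic_specializes ξ)).symm
      rw [h1, ← hdom]
      omega
    haveI := hfin.to_subtype
    obtain ⟨m, ⟨e⟩⟩ := Finite.exists_equiv_fin (p ⁻¹' {y} : Set X)
    let x : Fin m → X := fun i => (e.symm i : X)
    have hx : ∀ i, p (x i) = y := fun i => (e.symm i).2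
    have hxinj : Function.Injective x := fun i j hij =>
      e.symm.injective (Subtype.ext hij)
    have hxsurj : ∀ x', p x' = y → ∃ i, x i = x' := fun x' hx' =>
      ⟨e ⟨x', hx'⟩, by simp [x]⟩
    have hsp : ∀ i, genericPoint X ⤳ x i := fun i => PullDivC.generic_specializes _
    have hcore := core p hdom U hU hV hφfin hinj y hyU hdim hηy x hx hxinj hxsurj hsp f hf
    rw [Cyc.divFun, dif_pos ⟨hηy, hy⟩,
      ordAt_eq_of_ker_bot y _ hηy (ker_specMap_eq_bot' _ hdom y hηy), hcore]
    rw [← finsum_set_coe_eq_finsum_mem (s := p ⁻¹' {y}), ← finsum_comp_equiv e.symm,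
      finsum_eq_sum_of_fintype]
    refine Finset.sum_congr rfl (fun i _ => ?_)
    have hxi := hfib (x i) (hx i)
    rw [hα]
    change Cyc.divFun δX (genericPoint X) f (x i) *
      ((AlgebraicCycle.mapCoeff p δX δY (x i) : ℕ) : ℤ) = _
    unfold Cyc.divFun AlgebraicCycle.mapCoeff
    rw [dif_pos ⟨hsp i, hxi.2⟩, if_pos (by rw [hxi.1]; exact congrArg δY (hx i).symm),
      ordAt_eq_of_ker_bot (x i) _ (hsp i) (ker_specMap_eq_bot' _ rfl (x i) (hsp i)), mul_comm]

end final

end Groth.Agent.Helper3.NormD
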