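import Mathlib
import Groth.Prelude
import Groth.Agent.Helper3.GenFibB
import Groth.Agent.Helper3.NormD
import Groth.Agent.Helper3.CycPush

/-!
# The generic fibre: orders of vanishing and residue degrees
-/

set_option autoImplicit false
set_option linter.style.haveILetI false
set_option linter.unusedSectionVars false
set_option linter.unusedVariables false
set_option linter.deprecated false
set_option linter.style.haveILetI false
set_option linter.unusedSectionVars false
set_option linter.unusedVariables false

universe u

open CategoryTheory CategoryTheory.Limits AlgebraicGeometry TopologicalSpace Opposite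

namespace Groth.Agent.Helper3.GenFib

section ResDeg

/-- a morphism with surjective stalk map has residue degree one -/
theorem residueDegree_eq_one_of_surjective {A B : Scheme.{u}} (g : A ⟶ B) (a : A)
    (hs : Function.Surjective (g.stalkMap a).hom) : g.residueDegree a = 1 := by
  unfold Scheme.Hom.residueDegree
  letI := (g.residueFieldMap a).hom.toAlgebra
  have hsurj : Function.Surjective (g.residueFieldMap a).hom := by
    intro t
    obtain ⟨s, rfl⟩ := IsLocalRing.residue_surjective t
    obtain ⟨r, rfl⟩ := hs s
    exact ⟨IsLocalRing.residue _ r, rfl⟩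
  have hbij : Function.Bijective (algebraMap (B.residueField (g a)) (A.residueField a)) :=
    ⟨(g.residueFieldMap a).hom.injective, hsurj⟩
  exact (LinearEquiv.ofBijective (Algebra.linearMap _ _) hbij).finrank_eq.symm.trans
    (Module.finrank_self _)

variable {X Y : Scheme.{u}} (p : X ⟶ Y) (y : Y)

theorem residueDegree_fiber (z : p.fiber y) :
    (p.fiberToSpecResidueField y).residueDegree z = p.residueDegree ((p.fiberι y) z) := by
  have h1 := CycPush.residueDegree_comp (p.fiberι y) p z
  have h2 := CycPush.residueDegree_comp (p.fiberToSpecResidueField y)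
    (Y.fromSpecResidueField y) z
  rw [Scheme.Hom.fiber_fac] at h1
  rw [h1] at h2
  rw [residueDegree_eq_one_of_surjective (p.fiberι y) z ((p.fiberι y).stalkMap_surjective z),
    mul_one] at h2
  rw [residueDegree_eq_one_of_surjective (Y.fromSpecResidueField y) _
    ((Y.fromSpecResidueField y).stalkMap_surjective _), one_mul] at h2
  exact h2.symm

end ResDeg

section Ord

variable {X Y : Scheme.{u}} [IsIntegral X] [IsIntegral Y] (p : X ⟶ Y)

theorem isIso_residue_of_eq (w : X) (hw : w = genericPoint X) : IsIso (X.residue w) := by
  subst hw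
  exact BirResField.isIso_residue_genericPoint X

/-- **transfer of the orders of vanishing to the generic fibre** -/
theorem exists_fZ [IsIntegral (gf p)] (ζ : X) (hζ : (gι p) (genericPoint (gf p)) = ζ)
    (hζ' : ζ = genericPoint X) (f : X.residueField ζ) (hf : f ≠ 0) :
    ∃ g : (gf p).functionField, g ≠ 0 ∧ ∀ (z : gf p) (h : ζ ⤳ (gι p) z),
      Cyc.ordAt ((gι p) z) ζ h f =
        CycAlg.ordFrac ((gf p).presheaf.stalk z) (gf p).functionField g := by
  subst hζ
  haveI := isIso_residue_of_eq ((gι p) (genericPoint (gf p))) hζ'
  let r : X.presheaf.stalk ((gι p) (genericPoint (gf p))) ≃+* X.residueField ((gι p) (genericPoint (gf p))) :=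
    RingEquiv.ofBijective (X.residue ((gι p) (genericPoint (gf p)))).hom
      (ConcreteCategory.bijective_of_isIso (X.residue ((gι p) (genericPoint (gf p)))))
  let ψ : X.residueField ((gι p) (genericPoint (gf p))) ≃+* (gf p).functionField := r.symm.trans (stalkEquiv p (genericPoint (gf p)))
  have hψr : ∀ b : X.presheaf.stalk ((gι p) (genericPoint (gf p))), ψ ((X.residue ((gι p) (genericPoint (gf p)))).hom b) =
      ((gι p).stalkMap (genericPoint (gf p))).hom b := by
    intro b
    change stalkEquiv p (genericPoint (gf p)) (r.symm (r b)) = _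
    rw [r.symm_apply_apply]
    rfl
  refine ⟨ψ f, (map_ne_zero_iff ψ ψ.injective).mpr hf, ?_⟩
  intro z h
  rw [NormD.ordAt_eq_of_ker_bot _ _ h (NormD.ker_specMap_eq_bot' _ hζ' _ h)]
  letI : Algebra (X.presheaf.stalk ((gι p) z)) (X.residueField ((gι p) (genericPoint (gf p)))) :=
    (Cyc.specMap ((gι p) z) ((gι p) (genericPoint (gf p))) h).toAlgebra
  have hsp : (genericPoint (gf p)) ⤳ z := (specializes_iff p (genericPoint (gf p)) z).mpr h
  refine (DivTrA.cycOrdFrac_equiv (stalkEquiv p z) ψ ?_ f).symm
  intro a
  change ψ (Cyc.specMap ((gι p) z) ((gι p) (genericPoint (gf p))) h a) = _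
  unfold Cyc.specMap
  rw [CommRingCat.hom_comp, RingHom.comp_apply, hψr]
  have h3 := Scheme.Hom.stalkSpecializes_stalkMap_apply (gι p) (genericPoint (gf p)) z hsp a
  rw [RingHom.algebraMap_toAlgebra]
  exact h3

end Ord

end Groth.Agent.Helper3.GenFib
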