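import Mathlib
import Groth.Prelude
import Groth.Agent.Helper3.GenFibC
import Groth.Agent.Helper3.DegZG

/-!
# Proper pushforward of a principal divisor when the dimension drops (S16921)
-/

set_option autoImplicit false
set_option linter.style.haveILetI false
set_option linter.unusedSectionVars false
set_option linter.unusedVariables false
set_option linter.deprecated false
set_option linter.style.haveILetI false
set_option linter.unusedSectionVars false
set_option linter.unusedVariables false

universe u

open CategoryTheory CategoryTheory.Limits AlgebraicGeometry TopologicalSpace Opposite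

namespace Groth.Agent.Helper3.GenFib

variable {X Y : Scheme.{u}} [IsIntegral X] [IsIntegral Y]

/-- the order of a rational function at a generic point vanishes -/
theorem ordFrac_generic_eq_zero (Z : Scheme.{u}) [IsIntegral Z] [IsLocallyNoetherian Z]
    (hdim : topologicalKrullDim Z ≤ 1) (z : Z) (hz : z = genericPoint Z) (g : Z.functionField)
    (hg : g ≠ 0) : CycAlg.ordFrac (Z.presheaf.stalk z) Z.functionField g = 0 := by
  haveI : Ring.KrullDimLE 1 (Z.presheaf.stalk z) := by
    rw [Ring.krullDimLE_iff]
    have := (Groth.Agent.Helper3.CurveFlat.ringKrullDim_stalk_le Z z).trans hdim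
    exact_mod_cast this
  obtain ⟨-, -, hord⟩ := DegZ.ordFrac_eq_sub (A := Z.presheaf.stalk z) (F := Z.functionField) g hg
  rw [hord, DegZ.colonF_generic z hz, DegZ.colonF_generic z hz]
  simp

theorem main (δX : X → ℤ) (δY : Y → ℤ) (hX : Cyc.IsSetup X δX) (hY : Cyc.IsSetup Y δY)
    (p : X ⟶ Y) [IsProper p] (hδ : Cyc.DeltaCompat p δX δY)
    (hdom : p (genericPoint X) = genericPoint Y)
    (hn : δX (genericPoint X) ≠ δY (genericPoint Y)) (f : X.residueField (genericPoint X))
    (hf : f ≠ 0) (α : AlgebraicCycle X ℤ) (hα : ⇑α = Cyc.divFun δX (genericPoint X) f) :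
    AlgebraicCycle.map p δX δY α = 0 := by
  classical
  ext y
  simp only [AlgebraicCycle.map, Function.locallyFinsupp.map_apply]
  change _ = (0 : ℤ)
  have hge : δY (genericPoint Y) + 1 ≤ δX (genericPoint X) := by
    have h1 := CycPush.delta_le p δX δY hδ (genericPoint X)
    rw [hdom] at h1
    omega
  by_cases hcase : y = genericPoint Y ∧ δX (genericPoint X) = δY (genericPoint Y) + 1
  swap
  · apply finsum_mem_eq_zero_of_forall_eq_zero
    intro x hx
    have hx' : p x = y := hx
    rw [hα]
    unfold Cyc.divFun AlgebraicCycle.mapCoeff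
    by_cases h1 : genericPoint X ⤳ x ∧ δX x + 1 = δX (genericPoint X)
    · by_cases h2 : δX x = δY (p x)
      · exfalso
        apply hcase
        rw [hx'] at h2
        by_cases hy : y = genericPoint Y
        · refine ⟨hy, ?_⟩
          rw [hy] at h2
          omega
        · have h3 := (hY.2.2 _ _ (generic_specializes y) (fun h0 => hy h0.symm)).1
          omega
      · rw [if_neg h2]
        simp
    · rw [dif_neg h1, zero_mul]
  · obtain ⟨rfl, htop⟩ := hcase
    set m := δY (genericPoint Y) with hm
    haveI := isIntegral p hdom
    have hlow : ∀ x : X, p x = genericPoint Y → m ≤ δX x := by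
      intro x hx
      have h1 := CycPush.delta_le p δX δY hδ x
      rw [hx] at h1
      exact h1
    have hdimZ := dim_le_one p δX hX.2.2 m hlow htop hdom
    let c : gf p ⟶ Spec (CommRingCat.of (Y.residueField (genericPoint Y))) :=
      p.fiberToSpecResidueField (genericPoint Y)
    haveI : IsProper c :=
      MorphismProperty.pullback_snd (P := @IsProper) p
        (Y.fromSpecResidueField (genericPoint Y)) inferInstance
    haveI : IsLocallyNoetherian (gf p) := LocallyOfFiniteType.isLocallyNoetherian c
    obtain ⟨g, hg, hord⟩ := exists_fZ p (genericPoint X) (gι_genericPoint p hdom) rfl f hf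
    have hmain := DegZ.main_le (Y.residueField (genericPoint Y)) (gf p) c hdimZ g hg
    rw [← hmain]
    have hbij : Set.BijOn (gι p) Set.univ (p ⁻¹' {genericPoint Y}) := by
      refine ⟨fun z _ => p_gι p z, (gι_injective p).injOn, ?_⟩
      intro x hx
      obtain ⟨z, hz⟩ := mem_range_gι p x hx
      exact ⟨z, trivial, hz⟩
    rw [← finsum_mem_univ (fun z : gf p => ∑ᶠ (_ : IsClosed ({z} : Set (gf p))),
      (c.residueDegree z : ℤ) * CycAlg.ordFrac ((gf p).presheaf.stalk z) (gf p).functionField g)]
    symm
    refine finsum_mem_eq_of_bijOn (gι p) hbij ?_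
    intro z _
    rw [finsum_eq_if, hα]
    change _ = Cyc.divFun δX (genericPoint X) f ((gι p) z) *
      ((AlgebraicCycle.mapCoeff p δX δY ((gι p) z) : ℕ) : ℤ)
    unfold Cyc.divFun AlgebraicCycle.mapCoeff
    have hsp : genericPoint X ⤳ (gι p) z := generic_specializes _
    rcases delta_mem p δX hX.2.2 m hlow htop z with h | h
    · have hcl := isClosed_of_delta p δX hX.2.2 m hlow z h
      rw [if_pos hcl, dif_pos ⟨hsp, by rw [h, htop]⟩, if_pos (by rw [h, p_gι p z]), hord z hsp,
        ← residueDegree_fiber p (genericPoint Y) z, mul_comm]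
    · have hz : (gι p) z = genericPoint X := eq_generic_of_delta δX hX.2.2 m htop _ h
      have hz' : z = genericPoint (gf p) := by
        apply gι_injective p
        rw [hz, gι_genericPoint p hdom]
      have hT := ordFrac_generic_eq_zero (gf p) hdimZ z hz' g hg
      have hne : ¬ (δX ((gι p) z) = δY (p ((gι p) z))) := by
        rw [h, p_gι p z]; omega
      rw [hT, mul_zero, ite_self, if_neg hne]
      simp

end Groth.Agent.Helper3.GenFib
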