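import Mathlib
import Groth.Prelude
import Groth.Agent.Helper3.NormD
import Groth.Agent.Helper3.GenFibD
import Groth.Agent.Helper3.CycLimD
import Groth.Agent.Helper3.DivTrE

/-!
# Principal divisors as cycles and their pushforward between integral schemes
-/

set_option autoImplicit false
set_option linter.style.haveILetI false
set_option linter.unusedSectionVars false
set_option linter.unusedVariables false
set_option linter.deprecated false
set_option linter.style.haveILetI false
set_option linter.unusedSectionVars false
set_option linter.unusedVariables false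

universe u

open CategoryTheory CategoryTheory.Limits AlgebraicGeometry TopologicalSpace Opposite

namespace Groth.Agent.Helper3.PushRat

section fin

variable {X : Scheme.{u}} [IsLocallyNoetherian X] (δ : X → ℤ) (hδ : Cyc.IsDimFun X δ)

include hδ in
/-- the support of a principal divisor meets a Noetherian open in a finite set -/
theorem finite_inter_support_divFun (η : X) (φ : X.residueField η) (hφ : φ ≠ 0) (V : X.Opens)
    (hVn : NoetherianSpace V) :
    ((V : Set X) ∩ Function.support (Cyc.divFun δ η φ)).Finite := by
  obtain ⟨W, hηW, hW⟩ := CycLimD.exists_nhd_unit η φ hφ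
  refine (DivTrC.finite_boundary δ hδ W V hVn η hηW).subset ?_
  rintro y ⟨hyV, hy⟩
  rw [Function.mem_support] at hy
  unfold Cyc.divFun at hy
  split_ifs at hy with hcond
  · refine ⟨hyV, ?_, hcond.1, hcond.2⟩
    intro hyW
    obtain ⟨u, hu, hφu⟩ := hW y hyW hcond.1
    apply hy
    rw [← hφu]
    exact CycLimD.ordAt_unit y η hcond.1 u hu
  · exact absurd rfl hy

/-- the principal divisor of a rational function on the closure of a point, as a cycle -/
noncomputable def divCycle (η : X) (φ : X.residueField η) (hφ : φ ≠ 0) : AlgebraicCycle X ℤ where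
  toFun := Cyc.divFun δ η φ
  supportWithinDomain' := Set.subset_univ _
  supportLocallyFiniteWithinDomain' z _ := by
    obtain ⟨V, hzV, hVn⟩ := DivTrC.exists_noetherian_nhd z
    exact ⟨V, V.isOpen.mem_nhds hzV, finite_inter_support_divFun δ hδ η φ hφ V hVn⟩

theorem coe_divCycle (η : X) (φ : X.residueField η) (hφ : φ ≠ 0) :
    ⇑(divCycle δ hδ η φ hφ) = Cyc.divFun δ η φ := rfl

include hδ in
/-- the support of a principal divisor meets a quasi-compact set in a finite set -/
theorem finite_inter_support_divFun_of_isCompact (η : X) (φ : X.residueField η) (hφ : φ ≠ 0)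
    (K : Set X) (hK : IsCompact K) : (K ∩ Function.support (Cyc.divFun δ η φ)).Finite := by
  have h := (divCycle δ hδ η φ hφ).supportLocallyFiniteWithinDomain
  choose V hV hVfin using fun z : X => h z trivial
  obtain ⟨t, -, ht⟩ := hK.elim_nhds_subcover V (fun z _ => hV z)
  refine ((t.finite_toSet.biUnion (fun z _ => hVfin z))).subset ?_
  rintro y ⟨hyK, hy⟩
  obtain ⟨z, hzt, hz⟩ := Set.mem_iUnion₂.1 (ht hyK)
  exact Set.mem_iUnion₂.2 ⟨z, hzt, hz, hy⟩

end fin

section int

variable {X Y : Scheme.{u}} [IsIntegral X] [IsIntegral Y]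

/-- **pushforward of a principal divisor between integral schemes**, coefficientwise -/
theorem push_div_int (δX : X → ℤ) (δY : Y → ℤ) (hX : Cyc.IsSetup X δX) (hY : Cyc.IsSetup Y δY)
    (p : X ⟶ Y) [IsProper p] (hδ : Cyc.DeltaCompat p δX δY)
    (hdom : p (genericPoint X) = genericPoint Y) (f : X.residueField (genericPoint X))
    (hf : f ≠ 0) (y : Y) :
    ∑ᶠ x ∈ (p : X → Y) ⁻¹' {y}, Cyc.divFun δX (genericPoint X) f x *
        ((AlgebraicCycle.mapCoeff p δX δY x : ℕ) : ℤ) =
      if δX (genericPoint X) = δY (genericPoint Y) then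
        Cyc.divFun δY (p (genericPoint X)) (Cyc.normGen p (genericPoint X) f) y else 0 := by
  haveI : IsLocallyNoetherian X := hX.1
  set α := divCycle δX hX.2.2 (genericPoint X) f hf with hα
  have hα' : ⇑α = Cyc.divFun δX (genericPoint X) f := rfl
  have hmap : (AlgebraicCycle.map p δX δY α) y =
      ∑ᶠ x ∈ (p : X → Y) ⁻¹' {y}, Cyc.divFun δX (genericPoint X) f x *
        ((AlgebraicCycle.mapCoeff p δX δY x : ℕ) : ℤ) := by
    simp only [AlgebraicCycle.map, Function.locallyFinsupp.map_apply]
    rfl
  rw [← hmap]
  by_cases hn : δX (genericPoint X) = δY (genericPoint Y)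
  · rw [if_pos hn]
    exact congrFun (NormD.main δX δY hX hY p hδ hdom hn f hf α hα') y
  · rw [if_neg hn, GenFib.main δX δY hX hY p hδ hdom hn f hf α hα']
    rfl

end int

end Groth.Agent.Helper3.PushRat
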