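import Mathlib
import Groth.Prelude
import Groth.Agent.Helper3.PushRatB
import Groth.Agent.Helper3.PushRatC
import Groth.Agent.Helper1.Dev10
import Groth.Agent.Helper4.SN88

/-!
# Pushforward of the principal divisor of a rational function on the closure of a point
-/

set_option autoImplicit false
set_option linter.style.haveILetI false
set_option linter.unusedSectionVars false
set_option linter.unusedVariables false
set_option linter.deprecated false
set_option linter.style.haveILetI false
set_option linter.unusedSectionVars false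
set_option linter.unusedVariables false

universe u

open CategoryTheory CategoryTheory.Limits AlgebraicGeometry TopologicalSpace Opposite

namespace Groth.Agent.Helper3.PushRat

section fact

/-- the closure of a point as an integral closed subscheme -/
theorem exists_integral_closed (X : Scheme.{u}) (ξ : X) :
    ∃ (W : Scheme.{u}) (i : W ⟶ X) (_ : IsClosedImmersion i) (_ : IsIntegral W),
      i (genericPoint W) = ξ := by
  let T : Closeds X := ⟨closure {ξ}, isClosed_closure⟩
  haveI := Groth.Agent.Helper1.Dev.isIntegral_subscheme T isIrreducible_singleton.closure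
  refine ⟨(Scheme.IdealSheafData.vanishingIdeal T).subscheme,
    (Scheme.IdealSheafData.vanishingIdeal T).subschemeι, inferInstance, inferInstance, ?_⟩
  exact (Groth.Agent.Helper1.Dev.eq_ι_genericPoint T ξ rfl).symm

/-- a morphism from an integral scheme factors through the integral closed subscheme on the
closure of the image of the generic point -/
theorem exists_factor {W Y : Scheme.{u}} [IsIntegral W] (r : W ⟶ Y) :
    ∃ (W' : Scheme.{u}) (i' : W' ⟶ Y) (_ : IsClosedImmersion i') (_ : IsIntegral W')
      (q : W ⟶ W'), q ≫ i' = r ∧ q (genericPoint W) = genericPoint W' := by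
  let T : Closeds Y := ⟨closure {r (genericPoint W)}, isClosed_closure⟩
  haveI := Groth.Agent.Helper1.Dev.isIntegral_subscheme T isIrreducible_singleton.closure
  set I' := Scheme.IdealSheafData.vanishingIdeal T with hI'
  have hrange : closure (Set.range r) ⊆ (T : Set Y) := by
    apply closure_minimal _ T.isClosed
    rintro _ ⟨w, rfl⟩
    have hsp : genericPoint W ⤳ w :=
      specializes_iff_mem_closure.mpr (by rw [(genericPoint_spec W).def]; trivial)
    exact specializes_iff_mem_closure.mp (hsp.map r.continuous)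
  have hker : I'.subschemeι.ker ≤ r.ker := by
    rw [Scheme.IdealSheafData.ker_subschemeι,
      Groth.Agent.Helper4.SN.ker_eq_vanishingIdeal_of_isReduced r
        ⟨closure (Set.range r), isClosed_closure⟩ rfl]
    exact Scheme.IdealSheafData.vanishingIdeal_antimono hrange
  let q := IsClosedImmersion.lift I'.subschemeι r hker
  have hq : q ≫ I'.subschemeι = r := IsClosedImmersion.lift_fac _ _ _
  refine ⟨I'.subscheme, I'.subschemeι, inferInstance, inferInstance, q, hq, ?_⟩
  have h1 := Groth.Agent.Helper1.Dev.eq_ι_genericPoint T (r (genericPoint W)) rfl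
  have h2 : r (genericPoint W) = I'.subschemeι (q (genericPoint W)) := by
    rw [← hq]; rfl
  rw [h2] at h1
  exact I'.subschemeι.isClosedEmbedding.injective h1

end fact

section P1

variable {W W' Y : Scheme.{u}} [IsIntegral W] [IsIntegral W']

/-- pushforward of a principal divisor along a morphism from an integral scheme, factored
through a closed immersion -/
theorem push_div_factor (q : W ⟶ W') (i' : W' ⟶ Y) [IsClosedImmersion i'] [IsProper (q ≫ i')]
    (δW : W → ℤ) (δY : Y → ℤ) (hW : Cyc.IsSetup W δW) (hY : Cyc.IsSetup Y δY)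
    (hδ : Cyc.DeltaCompat (q ≫ i') δW δY) (hgen : q (genericPoint W) = genericPoint W')
    (f : W.residueField (genericPoint W)) (hf : f ≠ 0) (y : Y) :
    ∑ᶠ w ∈ ((q ≫ i' : W ⟶ Y) : W → Y) ⁻¹' {y}, Cyc.divFun δW (genericPoint W) f w *
        ((AlgebraicCycle.mapCoeff (q ≫ i') δW δY w : ℕ) : ℤ) =
      if δW (genericPoint W) = δY ((q ≫ i') (genericPoint W)) then
        Cyc.divFun δY ((q ≫ i') (genericPoint W)) (Cyc.normGen (q ≫ i') (genericPoint W) f) y
      else 0 := by
  haveI : IsProper q := IsProper.of_comp q i'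
  have hW' : Cyc.IsSetup W' (fun w' => δY (i' w')) := isSetup_ci i' δY hY
  have hδq : Cyc.DeltaCompat q δW (fun w' => δY (i' w')) :=
    deltaCompat_of_comp_right q i' δW δY hδ
  have key := push_div_int δW (fun w' => δY (i' w')) hW hW' q hδq hgen f hf
  have hcond : (δW (genericPoint W) = δY ((q ≫ i') (genericPoint W))) ↔
      (δW (genericPoint W) = δY (i' (genericPoint W'))) := by
    have : (q ≫ i') (genericPoint W) = i' (q (genericPoint W)) := rfl
    rw [this, hgen]
  by_cases hy : y ∈ Set.range i'
  · obtain ⟨y', rfl⟩ := hy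
    have hset : ((q ≫ i' : W ⟶ Y) : W → Y) ⁻¹' {i' y'} = (q : W → W') ⁻¹' {y'} := by
      ext w
      simp only [Set.mem_preimage, Set.mem_singleton_iff]
      constructor
      · intro h
        exact i'.isClosedEmbedding.injective h
      · intro h
        change i' (q w) = i' y'
        rw [h]
    rw [hset]
    have hterm : ∀ w, Cyc.divFun δW (genericPoint W) f w *
        ((AlgebraicCycle.mapCoeff (q ≫ i') δW δY w : ℕ) : ℤ) =
        Cyc.divFun δW (genericPoint W) f w *
        ((AlgebraicCycle.mapCoeff q δW (fun w' => δY (i' w')) w : ℕ) : ℤ) := by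
      intro w
      rw [mapCoeff_comp_right q i' δW δY w]
    rw [finsum_mem_congr rfl (fun w _ => hterm w), key y']
    by_cases hc : δW (genericPoint W) = δY (i' (genericPoint W'))
    · rw [if_pos hc, if_pos (hcond.mpr hc)]
      have h1 := DivTrB.divFun_map i' δY y' (q (genericPoint W))
        (Cyc.normGen (q ≫ i') (genericPoint W) f)
      have h2 := normGen_comp_right q i' (genericPoint W) f
      change Cyc.divFun δY (i' (q (genericPoint W))) _ (i' y') = _ at h1
      rw [h2] at h1
      exact h1.symm
    · rw [if_neg hc, if_neg (fun h => hc (hcond.mp h))]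
  · have hset : ((q ≫ i' : W ⟶ Y) : W → Y) ⁻¹' {y} = ∅ := by
      ext w
      simp only [Set.mem_preimage, Set.mem_singleton_iff, Set.mem_empty_iff_false, iff_false]
      intro h
      exact hy ⟨q w, h⟩
    rw [hset, finsum_mem_empty]
    have h0 : Cyc.divFun δY ((q ≫ i') (genericPoint W))
        (Cyc.normGen (q ≫ i') (genericPoint W) f) y = 0 := by
      by_contra hne
      obtain ⟨hsp, -⟩ := DivTrE.divFun_cond δY _ _ y hne
      obtain ⟨w', hw'⟩ := exists_of_specializes i' (q (genericPoint W)) y hsp
      exact hy ⟨w', hw'⟩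
    rw [h0, ite_self]

/-- **pushforward of a principal divisor along a proper morphism from an integral scheme** -/
theorem push_div_of_integral (r : W ⟶ Y) [IsProper r]
    (δW : W → ℤ) (δY : Y → ℤ) (hW : Cyc.IsSetup W δW) (hY : Cyc.IsSetup Y δY)
    (hδ : Cyc.DeltaCompat r δW δY)
    (f : W.residueField (genericPoint W)) (hf : f ≠ 0) (y : Y) :
    ∑ᶠ w ∈ (r : W → Y) ⁻¹' {y}, Cyc.divFun δW (genericPoint W) f w *
        ((AlgebraicCycle.mapCoeff r δW δY w : ℕ) : ℤ) =
      if δW (genericPoint W) = δY (r (genericPoint W)) then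
        Cyc.divFun δY (r (genericPoint W)) (Cyc.normGen r (genericPoint W) f) y
      else 0 := by
  obtain ⟨W'', i', hi', hW'', q, hq, hgen⟩ := exists_factor r
  subst hq
  exact push_div_factor q i' δW δY hW hY hδ hgen f hf y

end P1

section P2

variable {X Y : Scheme.{u}}

/-- **pushforward of the principal divisor of a rational function on the closure of a point** -/
theorem push_div_point (δX : X → ℤ) (δY : Y → ℤ) (hX : Cyc.IsSetup X δX) (hY : Cyc.IsSetup Y δY)
    (p : X ⟶ Y) [IsProper p] (hδ : Cyc.DeltaCompat p δX δY) (ξ : X) (f : X.residueField ξ)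
    (hf : f ≠ 0) (y : Y) :
    ∑ᶠ x ∈ (p : X → Y) ⁻¹' {y}, Cyc.divFun δX ξ f x *
        ((AlgebraicCycle.mapCoeff p δX δY x : ℕ) : ℤ) =
      if δX ξ = δY (p ξ) then Cyc.divFun δY (p ξ) (Cyc.normGen p ξ f) y else 0 := by
  obtain ⟨W, i, hi, hWint, hξ⟩ := exists_integral_closed X ξ
  subst hξ
  have hW : Cyc.IsSetup W (fun w => δX (i w)) := isSetup_ci i δX hX
  have hδ' : Cyc.DeltaCompat (i ≫ p) (fun w => δX (i w)) δY := deltaCompat_comp_left i p δX δY hδ
  have hf' : (i.residueFieldMap (genericPoint W)).hom f ≠ 0 :=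
    (map_ne_zero_iff _ (i.residueFieldMap (genericPoint W)).hom.injective).mpr hf
  have key := push_div_of_integral (i ≫ p) (fun w => δX (i w)) δY hW hY hδ'
    ((i.residueFieldMap (genericPoint W)).hom f) hf' y
  rw [normGen_comp_left i p (genericPoint W) f] at key
  change _ = (if δX (i (genericPoint W)) = δY (p (i (genericPoint W))) then
    Cyc.divFun δY (p (i (genericPoint W))) (Cyc.normGen p (i (genericPoint W)) f) y else 0) at key
  rw [← key]
  -- reindexing along `i`
  set F : X → ℤ := fun x => Cyc.divFun δX (i (genericPoint W)) f x *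
    ((AlgebraicCycle.mapCoeff p δX δY x : ℕ) : ℤ) with hF
  have hsupp : ∀ x, F x ≠ 0 → x ∈ Set.range i := by
    intro x hx
    have h1 : Cyc.divFun δX (i (genericPoint W)) f x ≠ 0 := fun h0 => hx (by rw [hF]; simp [h0])
    obtain ⟨hsp, -⟩ := DivTrE.divFun_cond δX _ _ x h1
    obtain ⟨w, hw⟩ := exists_of_specializes i (genericPoint W) x hsp
    exact ⟨w, hw⟩
  have h1 : ∑ᶠ x ∈ (p : X → Y) ⁻¹' {y}, F x =
      ∑ᶠ x ∈ ((p : X → Y) ⁻¹' {y}) ∩ Set.range i, F x := by
    apply finsum_mem_inter_support_eq
    ext x
    simp only [Set.mem_inter_iff, Function.mem_support]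
    constructor
    · rintro ⟨h1, h2⟩
      exact ⟨⟨h1, hsupp x h2⟩, h2⟩
    · rintro ⟨⟨h1, -⟩, h2⟩
      exact ⟨h1, h2⟩
  rw [h1]
  symm
  refine finsum_mem_eq_of_bijOn i ?_ ?_
  · refine ⟨?_, i.isClosedEmbedding.injective.injOn, ?_⟩
    · intro w hw
      exact ⟨hw, ⟨w, rfl⟩⟩
    · rintro x ⟨hx, ⟨w, rfl⟩⟩
      exact ⟨w, hx, rfl⟩
  · intro w _
    rw [hF]
    change _ = Cyc.divFun δX (i (genericPoint W)) f (i w) *
      ((AlgebraicCycle.mapCoeff p δX δY (i w) : ℕ) : ℤ)
    rw [DivTrB.divFun_map i δX w (genericPoint W) f, mapCoeff_comp_left i p δX δY w]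

end P2

end Groth.Agent.Helper3.PushRat
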