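import Mathlib
import Groth.Prelude
import Groth.Agent.Helper3.PushRatD

/-!
# Proper pushforward preserves rational equivalence
-/

set_option autoImplicit false
set_option linter.style.haveILetI false
set_option linter.unusedSectionVars false
set_option linter.unusedVariables false
set_option linter.deprecated false
set_option linter.style.haveILetI false
set_option linter.unusedSectionVars false
set_option linter.unusedVariables false

universe u

open CategoryTheory CategoryTheory.Limits AlgebraicGeometry TopologicalSpace Opposite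

namespace Groth.Agent.Helper3.PushRat

section aux

theorem norm_ne_zero' {K L : Type*} [Field K] [Field L] [Algebra K L] (x : L) (hx : x ≠ 0) :
    Algebra.norm K x ≠ 0 := by
  by_cases hfin : Module.Finite K L
  · exact Algebra.norm_ne_zero_iff.mpr hx
  · rw [Algebra.norm_eq_one_of_not_module_finite hfin]
    exact one_ne_zero

variable {X Y : Scheme.{u}}

theorem normGen_ne_zero (p : X ⟶ Y) (ξ : X) (f : X.residueField ξ) (hf : f ≠ 0) :
    Cyc.normGen p ξ f ≠ 0 := by
  unfold Cyc.normGen
  letI := (p.residueFieldMap ξ).hom.toAlgebra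
  exact norm_ne_zero' _ hf

theorem finite_index_of_isCompact {ι : Type*} (ξ : ι → X)
    (hlf : ∀ x : X, ∃ U : Set X, IsOpen U ∧ x ∈ U ∧ {i | (closure {ξ i} ∩ U).Nonempty}.Finite)
    (K : Set X) (hK : IsCompact K) : {i | (closure {ξ i} ∩ K).Nonempty}.Finite := by
  choose U hUo hxU hUfin using hlf
  obtain ⟨t, -, ht⟩ := hK.elim_nhds_subcover U (fun x _ => (hUo x).mem_nhds (hxU x))
  refine (t.finite_toSet.biUnion (fun x _ => hUfin x)).subset ?_
  rintro i ⟨z, hz1, hz2⟩
  obtain ⟨x, hxt, hx⟩ := Set.mem_iUnion₂.1 (ht hz2)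
  exact Set.mem_iUnion₂.2 ⟨x, hxt, ⟨z, hz1, hx⟩⟩

end aux

section main

variable {X Y : Scheme.{u}}

/-- **proper pushforward preserves rational equivalence to zero** -/
theorem ratEquivZero_map (δX : X → ℤ) (δY : Y → ℤ) (hX : Cyc.IsSetup X δX)
    (hY : Cyc.IsSetup Y δY) (p : X ⟶ Y) [IsProper p] (hδ : Cyc.DeltaCompat p δX δY) (k : ℤ)
    (γ : AlgebraicCycle X ℤ) (h : Cyc.RatEquivZero δX k γ) :
    Cyc.RatEquivZero δY k (AlgebraicCycle.map p δX δY γ) := by
  obtain ⟨ι, ξ, f, hdim, hne, hlf, hsum⟩ := h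
  haveI : IsLocallyNoetherian X := hX.1
  refine ⟨{i : ι // δY (p (ξ i)) = k + 1}, fun j => p (ξ j.1),
    fun j => Cyc.normGen p (ξ j.1) (f j.1), fun j => j.2,
    fun j => normGen_ne_zero p _ _ (hne j.1), ?_, ?_⟩
  · -- local finiteness
    intro y
    obtain ⟨_, ⟨U, hU, rfl⟩, hyU, -⟩ :=
      (Y.isBasis_affineOpens).exists_subset_of_mem_open (show y ∈ (⊤ : Y.Opens) from trivial)
        (⊤ : Y.Opens).2
    refine ⟨U, U.2, hyU, ?_⟩
    have hc : IsCompact ((p : X → Y) ⁻¹' (U : Set Y)) :=
      QuasiCompact.isCompact_preimage (f := p) _ U.2 hU.isCompact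
    have hfin := finite_index_of_isCompact ξ hlf _ hc
    refine (hfin.preimage (Subtype.val_injective.injOn)).subset ?_
    rintro j ⟨z, hz1, hz2⟩
    have hsp : p (ξ j.1) ⤳ z := specializes_iff_mem_closure.mpr hz1
    have hmem : p (ξ j.1) ∈ (U : Set Y) := hsp.mem_open U.2 hz2
    exact ⟨ξ j.1, subset_closure rfl, hmem⟩
  · intro y
    set K : Set X := (p : X → Y) ⁻¹' {y} with hK
    have hKc : IsCompact K := p.isCompact_preimage_singleton y
    set c : X → ℤ := fun x => ((AlgebraicCycle.mapCoeff p δX δY x : ℕ) : ℤ) with hc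
    set D : ι → X → ℤ := fun i => Cyc.divFun δX (ξ i) (f i) with hD
    set E : ι → ℤ := fun i => Cyc.divFun δY (p (ξ i)) (Cyc.normGen p (ξ i) (f i)) y with hE
    have hmap : (AlgebraicCycle.map p δX δY γ) y = ∑ᶠ x ∈ K, γ x * c x := by
      simp only [AlgebraicCycle.map, Function.locallyFinsupp.map_apply]
      rfl
    have hI := finite_index_of_isCompact ξ hlf K hKc
    have hD0 : ∀ i, i ∉ hI.toFinset → ∀ x ∈ K, D i x = 0 := by
      intro i hi x hx
      by_contra hne0
      obtain ⟨hsp, -⟩ := DivTrE.divFun_cond δX _ _ x hne0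
      apply hi
      rw [Set.Finite.mem_toFinset]
      exact ⟨x, specializes_iff_mem_closure.mp hsp, hx⟩
    have hγ : ∀ x ∈ K, γ x = ∑ i ∈ hI.toFinset, D i x := by
      intro x hx
      rw [hsum x]
      apply finsum_eq_sum_of_support_subset
      intro i hi
      by_contra hiI
      exact hi (hD0 i hiI x hx)
    have hSfin : ∀ i, (K ∩ Function.support (D i)).Finite :=
      fun i => finite_inter_support_divFun_of_isCompact δX hX.2.2 (ξ i) (f i) (hne i) K hKc
    have hS : (⋃ i ∈ hI.toFinset, K ∩ Function.support (D i)).Finite :=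
      hI.toFinset.finite_toSet.biUnion (fun i _ => hSfin i)
    have hS_sub : ∀ x ∈ hS.toFinset, x ∈ K := by
      intro x hx
      rw [Set.Finite.mem_toFinset] at hx
      obtain ⟨i, -, hx'⟩ := Set.mem_iUnion₂.1 hx
      exact hx'.1
    have hS_mem : ∀ i ∈ hI.toFinset, ∀ x ∈ K, D i x ≠ 0 → x ∈ hS.toFinset := by
      intro i hi x hx hne0
      rw [Set.Finite.mem_toFinset]
      exact Set.mem_iUnion₂.2 ⟨i, hi, hx, hne0⟩
    -- the left hand side as a double finite sum
    have h1 : ∑ᶠ x ∈ K, γ x * c x = ∑ x ∈ hS.toFinset, ∑ i ∈ hI.toFinset, D i x * c x := by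
      have h1a : ∑ᶠ x ∈ K, γ x * c x = ∑ x ∈ hS.toFinset, γ x * c x := by
        apply finsum_mem_eq_sum_of_inter_support_eq
        ext x
        simp only [Set.mem_inter_iff, Function.mem_support, Finset.mem_coe]
        constructor
        · rintro ⟨hxK, hx⟩
          refine ⟨?_, hx⟩
          rw [hγ x hxK] at hx
          have : ∃ i ∈ hI.toFinset, D i x ≠ 0 := by
            by_contra hcon
            push Not at hcon
            apply hx
            rw [Finset.sum_eq_zero hcon, zero_mul]
          obtain ⟨i, hi, hne0⟩ := this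
          exact hS_mem i hi x hxK hne0
        · rintro ⟨hxS, hx⟩
          exact ⟨hS_sub x hxS, hx⟩
      rw [h1a]
      refine Finset.sum_congr rfl (fun x hx => ?_)
      rw [hγ x (hS_sub x hx), Finset.sum_mul]
    have h2 : ∀ i ∈ hI.toFinset, ∑ x ∈ hS.toFinset, D i x * c x =
        if δX (ξ i) = δY (p (ξ i)) then E i else 0 := by
      intro i hi
      rw [← push_div_point δX δY hX hY p hδ (ξ i) (f i) (hne i) y]
      symm
      apply finsum_mem_eq_sum_of_inter_support_eq
      ext x
      simp only [Set.mem_inter_iff, Function.mem_support, Finset.mem_coe]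
      constructor
      · rintro ⟨hxK, hx⟩
        refine ⟨?_, hx⟩
        refine hS_mem i hi x hxK ?_
        intro h0
        apply hx
        change D i x * c x = 0
        rw [h0, zero_mul]
      · rintro ⟨hxS, hx⟩
        exact ⟨hS_sub x hxS, hx⟩
    rw [hmap, h1, Finset.sum_comm, Finset.sum_congr rfl h2]
    -- the right hand side
    have h3 : ∑ᶠ j : {i : ι // δY (p (ξ i)) = k + 1},
        Cyc.divFun δY (p (ξ j.1)) (Cyc.normGen p (ξ j.1) (f j.1)) y =
        ∑ᶠ i, if δY (p (ξ i)) = k + 1 then E i else 0 := by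
      rw [finsum_subtype_eq_finsum_cond (f := fun i => E i) (fun i => δY (p (ξ i)) = k + 1)]
      refine finsum_congr (fun i => ?_)
      exact finsum_eq_if
    rw [h3]
    symm
    rw [finsum_eq_sum_of_support_subset (s := hI.toFinset)]
    · refine Finset.sum_congr rfl (fun i _ => ?_)
      by_cases hi : δY (p (ξ i)) = k + 1
      · rw [if_pos hi, if_pos (by rw [hdim i, hi])]
      · rw [if_neg hi, if_neg (fun h => hi (by rw [← h, hdim i]))]
    · intro i hi
      rw [Function.mem_support] at hi
      have hEi : E i ≠ 0 := by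
        intro h0
        apply hi
        rw [h0, ite_self]
      obtain ⟨hsp, -⟩ := DivTrE.divFun_cond δY _ _ y hEi
      have hcl : y ∈ closure ((p : X → Y) '' {ξ i}) := by
        rw [Set.image_singleton]
        exact specializes_iff_mem_closure.mp hsp
      rw [p.isClosedMap.closure_image_eq_of_continuous p.continuous] at hcl
      obtain ⟨x, hx1, hx2⟩ := hcl
      rw [Finset.mem_coe, Set.Finite.mem_toFinset]
      exact ⟨x, hx1, hx2⟩

end main

section final

variable {X Y : Scheme.{u}}

theorem finsum_mem_sub_distrib' {α : Type*} {s : Set α} (f g : α → ℤ)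
    (hf : (s ∩ Function.support f).Finite) (hg : (s ∩ Function.support g).Finite) :
    ∑ᶠ i ∈ s, (f i - g i) = ∑ᶠ i ∈ s, f i - ∑ᶠ i ∈ s, g i := by
  rw [finsum_mem_def, finsum_mem_def, finsum_mem_def, ← finsum_sub_distrib]
  · refine finsum_congr (fun i => ?_)
    by_cases hi : i ∈ s
    · simp [Set.indicator_of_mem hi]
    · simp [Set.indicator_of_notMem hi]
  · change (Function.support (s.indicator f)).Finite
    rwa [Set.support_indicator]
  · change (Function.support (s.indicator g)).Finite
    rwa [Set.support_indicator]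

theorem map_sub (δX : X → ℤ) (δY : Y → ℤ) (p : X ⟶ Y) [QuasiCompact p]
    (α β : AlgebraicCycle X ℤ) :
    AlgebraicCycle.map p δX δY (α - β) =
      AlgebraicCycle.map p δX δY α - AlgebraicCycle.map p δX δY β := by
  ext y
  have hα := CycPush.finite_fibre_support p α y
  have hβ := CycPush.finite_fibre_support p β y
  simp only [AlgebraicCycle.map, Function.locallyFinsupp.map_apply,
    Function.locallyFinsuppWithin.coe_sub, Pi.sub_apply]
  rw [← finsum_mem_sub_distrib']
  · refine finsum_mem_congr rfl (fun x _ => ?_)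
    rw [sub_mul]
  · refine hα.subset ?_
    rintro x ⟨hx1, hx2⟩
    refine ⟨hx1, fun h0 => hx2 ?_⟩
    simp only [h0, zero_mul]
  · refine hβ.subset ?_
    rintro x ⟨hx1, hx2⟩
    refine ⟨hx1, fun h0 => hx2 ?_⟩
    simp only [h0, zero_mul]

/-- **proper pushforward preserves rational equivalence** -/
theorem main (X Y : Scheme.{u}) (δX : X → ℤ) (δY : Y → ℤ) (hX : Cyc.IsSetup X δX)
    (hY : Cyc.IsSetup Y δY) (p : X ⟶ Y) [IsProper p] (hδ : Cyc.DeltaCompat p δX δY) (k : ℤ)
    (α β : AlgebraicCycle X ℤ) (h : Cyc.RatEquiv δX k α β) :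
    Cyc.RatEquiv δY k (AlgebraicCycle.map p δX δY α) (AlgebraicCycle.map p δX δY β) := by
  unfold Cyc.RatEquiv at h ⊢
  rw [← map_sub]
  exact ratEquivZero_map δX δY hX hY p hδ k _ h

end final

end Groth.Agent.Helper3.PushRat
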