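import Mathlib
import Groth.Prelude
import Groth.Agent.Helper3.PushRatE

/-!
# The proper pushforward of a locally finite sum of principal divisors, at a point
-/

set_option autoImplicit false
set_option linter.style.haveILetI false
set_option linter.unusedSectionVars false
set_option linter.unusedVariables false
set_option linter.deprecated false
set_option linter.style.haveILetI false
set_option linter.unusedSectionVars false
set_option linter.unusedVariables false

universe u

open CategoryTheory CategoryTheory.Limits AlgebraicGeometry TopologicalSpace Opposite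

namespace Groth.Agent.Helper3.PushRat

variable {X Y : Scheme.{u}}

/-- the coefficient at `y` of the pushforward of a cycle which, on the fibre over `y`, is a locally
finite sum of principal divisors -/
theorem map_apply_of_sum (δX : X → ℤ) (δY : Y → ℤ) (hX : Cyc.IsSetup X δX)
    (hY : Cyc.IsSetup Y δY) (p : X ⟶ Y) [IsProper p] (hδ : Cyc.DeltaCompat p δX δY)
    {ι : Type*} (ξ : ι → X) (f : (i : ι) → X.residueField (ξ i)) (hne : ∀ i, f i ≠ 0)
    (hlf : ∀ x : X, ∃ U : Set X, IsOpen U ∧ x ∈ U ∧ {i | (closure {ξ i} ∩ U).Nonempty}.Finite)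
    (γ : AlgebraicCycle X ℤ) (y : Y)
    (hsum : ∀ x, p x = y → γ x = ∑ᶠ i, Cyc.divFun δX (ξ i) (f i) x) :
    (AlgebraicCycle.map p δX δY γ) y =
      ∑ᶠ i, if δX (ξ i) = δY (p (ξ i)) then
        Cyc.divFun δY (p (ξ i)) (Cyc.normGen p (ξ i) (f i)) y else 0 := by
  classical
  haveI : IsLocallyNoetherian X := hX.1
  set K : Set X := (p : X → Y) ⁻¹' {y} with hK
  have hKc : IsCompact K := p.isCompact_preimage_singleton y
  set c : X → ℤ := fun x => ((AlgebraicCycle.mapCoeff p δX δY x : ℕ) : ℤ) with hc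
  set D : ι → X → ℤ := fun i => Cyc.divFun δX (ξ i) (f i) with hD
  set E : ι → ℤ := fun i => Cyc.divFun δY (p (ξ i)) (Cyc.normGen p (ξ i) (f i)) y with hE
  have hmap : (AlgebraicCycle.map p δX δY γ) y = ∑ᶠ x ∈ K, γ x * c x := by
    simp only [AlgebraicCycle.map, Function.locallyFinsupp.map_apply]
    rfl
  have hI := finite_index_of_isCompact ξ hlf K hKc
  have hD0 : ∀ i, i ∉ hI.toFinset → ∀ x ∈ K, D i x = 0 := by
    intro i hi x hx
    by_contra hne0
    obtain ⟨hsp, -⟩ := DivTrE.divFun_cond δX _ _ x hne0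
    apply hi
    rw [Set.Finite.mem_toFinset]
    exact ⟨x, specializes_iff_mem_closure.mp hsp, hx⟩
  have hγ : ∀ x ∈ K, γ x = ∑ i ∈ hI.toFinset, D i x := by
    intro x hx
    rw [hsum x hx]
    apply finsum_eq_sum_of_support_subset
    intro i hi
    by_contra hiI
    exact hi (hD0 i hiI x hx)
  have hSfin : ∀ i, (K ∩ Function.support (D i)).Finite :=
    fun i => finite_inter_support_divFun_of_isCompact δX hX.2.2 (ξ i) (f i) (hne i) K hKc
  have hS : (⋃ i ∈ hI.toFinset, K ∩ Function.support (D i)).Finite :=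
    hI.toFinset.finite_toSet.biUnion (fun i _ => hSfin i)
  have hS_sub : ∀ x ∈ hS.toFinset, x ∈ K := by
    intro x hx
    rw [Set.Finite.mem_toFinset] at hx
    obtain ⟨i, -, hx'⟩ := Set.mem_iUnion₂.1 hx
    exact hx'.1
  have hS_mem : ∀ i ∈ hI.toFinset, ∀ x ∈ K, D i x ≠ 0 → x ∈ hS.toFinset := by
    intro i hi x hx hne0
    rw [Set.Finite.mem_toFinset]
    exact Set.mem_iUnion₂.2 ⟨i, hi, hx, hne0⟩
  -- the left hand side as a double finite sum
  have h1 : ∑ᶠ x ∈ K, γ x * c x = ∑ x ∈ hS.toFinset, ∑ i ∈ hI.toFinset, D i x * c x := by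
    have h1a : ∑ᶠ x ∈ K, γ x * c x = ∑ x ∈ hS.toFinset, γ x * c x := by
      apply finsum_mem_eq_sum_of_inter_support_eq
      ext x
      simp only [Set.mem_inter_iff, Function.mem_support, Finset.mem_coe]
      constructor
      · rintro ⟨hxK, hx⟩
        refine ⟨?_, hx⟩
        rw [hγ x hxK] at hx
        have : ∃ i ∈ hI.toFinset, D i x ≠ 0 := by
          by_contra hcon
          push Not at hcon
          apply hx
          rw [Finset.sum_eq_zero hcon, zero_mul]
        obtain ⟨i, hi, hne0⟩ := this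
        exact hS_mem i hi x hxK hne0
      · rintro ⟨hxS, hx⟩
        exact ⟨hS_sub x hxS, hx⟩
    rw [h1a]
    refine Finset.sum_congr rfl (fun x hx => ?_)
    rw [hγ x (hS_sub x hx), Finset.sum_mul]
  have h2 : ∀ i ∈ hI.toFinset, ∑ x ∈ hS.toFinset, D i x * c x =
      if δX (ξ i) = δY (p (ξ i)) then E i else 0 := by
    intro i hi
    rw [← push_div_point δX δY hX hY p hδ (ξ i) (f i) (hne i) y]
    symm
    apply finsum_mem_eq_sum_of_inter_support_eq
    ext x
    simp only [Set.mem_inter_iff, Function.mem_support, Finset.mem_coe]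
    constructor
    · rintro ⟨hxK, hx⟩
      refine ⟨?_, hx⟩
      refine hS_mem i hi x hxK ?_
      intro h0
      apply hx
      change D i x * c x = 0
      rw [h0, zero_mul]
    · rintro ⟨hxS, hx⟩
      exact ⟨hS_sub x hxS, hx⟩
  rw [hmap, h1, Finset.sum_comm, Finset.sum_congr rfl h2]
  symm
  rw [finsum_eq_sum_of_support_subset (s := hI.toFinset)]
  intro i hi
  rw [Function.mem_support] at hi
  have hEi : E i ≠ 0 := by
    intro h0
    apply hi
    change (if δX (ξ i) = δY (p (ξ i)) then E i else 0) = 0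
    rw [h0, ite_self]
  obtain ⟨hsp, -⟩ := DivTrE.divFun_cond δY _ _ y hEi
  have hcl : y ∈ closure ((p : X → Y) '' {ξ i}) := by
    rw [Set.image_singleton]
    exact specializes_iff_mem_closure.mp hsp
  rw [p.isClosedMap.closure_image_eq_of_continuous p.continuous] at hcl
  obtain ⟨x, hx1, hx2⟩ := hcl
  rw [Finset.mem_coe, Set.Finite.mem_toFinset]
  exact ⟨x, hx1, hx2⟩

end Groth.Agent.Helper3.PushRat
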