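import Mathlib
import Groth.Prelude
import Groth.Agent.Helper3.PushRatF
import Groth.Agent.Helper3.PullGenC

/-!
# The projection formula for `c₁(L) ∩ -` and proper pushforward
-/

set_option autoImplicit false
set_option linter.style.haveILetI false
set_option linter.unusedSectionVars false
set_option linter.unusedVariables false
set_option linter.deprecated false
set_option linter.style.haveILetI false
set_option linter.unusedSectionVars false
set_option linter.unusedVariables false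

universe u

open CategoryTheory CategoryTheory.Limits AlgebraicGeometry TopologicalSpace Opposite

namespace Groth.Agent.Helper3.PushRat

open Groth.Agent.Helper3.SecOrd Groth.Agent.Helper3.PullGen

section norm

theorem norm_inv' {K L : Type*} [Field K] [Field L] [Algebra K L] (x : L) (hx : x ≠ 0) :
    Algebra.norm K x⁻¹ = (Algebra.norm K x)⁻¹ := by
  apply eq_inv_of_mul_eq_one_left
  rw [← map_mul, inv_mul_cancel₀ hx, map_one]

theorem norm_zpow' {K L : Type*} [Field K] [Field L] [Algebra K L] (x : L) (hx : x ≠ 0) (n : ℤ) :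
    Algebra.norm K (x ^ n) = (Algebra.norm K x) ^ n := by
  obtain ⟨m, rfl | rfl⟩ := n.eq_nat_or_neg
  · rw [zpow_natCast, zpow_natCast, map_pow]
  · rw [zpow_neg, zpow_neg, zpow_natCast, zpow_natCast, norm_inv' _ (pow_ne_zero _ hx), map_pow]

variable {X Y : Scheme.{u}} (p : X ⟶ Y)

theorem normGen_zpow (ξ : X) (f : X.residueField ξ) (hf : f ≠ 0) (n : ℤ) :
    Cyc.normGen p ξ (f ^ n) = (Cyc.normGen p ξ f) ^ n := by
  unfold Cyc.normGen
  letI := (p.residueFieldMap ξ).hom.toAlgebra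
  exact norm_zpow' f hf n

theorem normGen_mul (ξ : X) (f g : X.residueField ξ) :
    Cyc.normGen p ξ (f * g) = Cyc.normGen p ξ f * Cyc.normGen p ξ g := by
  unfold Cyc.normGen
  letI := (p.residueFieldMap ξ).hom.toAlgebra
  exact map_mul _ f g

theorem normGen_inv (ξ : X) (f : X.residueField ξ) (hf : f ≠ 0) :
    Cyc.normGen p ξ f⁻¹ = (Cyc.normGen p ξ f)⁻¹ := by
  unfold Cyc.normGen
  letI := (p.residueFieldMap ξ).hom.toAlgebra
  exact norm_inv' f hf

theorem normGen_map (ξ : X) (g : Y.residueField (p ξ)) :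
    Cyc.normGen p ξ (p.residueFieldMap ξ g) = g ^ p.residueDegree ξ := by
  unfold Cyc.normGen Scheme.Hom.residueDegree
  letI := (p.residueFieldMap ξ).hom.toAlgebra
  exact Algebra.norm_algebraMap g

end norm

section fibre

variable {X Y : Scheme.{u}} (p : X ⟶ Y)

/-- for a closed map, finitely many points of the support of a cycle have image specializing to a
given point -/
theorem finite_image_specializes [IsProper p] (α : AlgebraicCycle X ℤ) (y : Y) :
    {ξ : X | α ξ ≠ 0 ∧ p ξ ⤳ y}.Finite := by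
  have hlf : ∀ x : X, ∃ U : Set X, IsOpen U ∧ x ∈ U ∧
      {i : {ξ : X // α ξ ≠ 0} | (closure {i.1} ∩ U).Nonempty}.Finite := by
    intro x
    obtain ⟨U, hU, hfin⟩ := α.supportLocallyFiniteWithinDomain x trivial
    obtain ⟨V, hVU, hVo, hxV⟩ := mem_nhds_iff.mp hU
    refine ⟨V, hVo, hxV, ?_⟩
    have hfin' : (V ∩ Function.support ⇑α).Finite :=
      hfin.subset (Set.inter_subset_inter_left _ hVU)
    refine (hfin'.preimage (Subtype.val_injective.injOn)).subset ?_
    rintro i ⟨z, hz1, hz2⟩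
    have hsp : i.1 ⤳ z := specializes_iff_mem_closure.mpr hz1
    exact ⟨hsp.mem_open hVo hz2, i.2⟩
  have hKc : IsCompact ((p : X → Y) ⁻¹' {y}) := p.isCompact_preimage_singleton y
  have hI := finite_index_of_isCompact (fun i : {ξ : X // α ξ ≠ 0} => i.1) hlf _ hKc
  refine (hI.image Subtype.val).subset ?_
  rintro ξ ⟨hξ, hsp⟩
  have hcl : y ∈ closure ((p : X → Y) '' {ξ}) := by
    rw [Set.image_singleton]
    exact specializes_iff_mem_closure.mp hsp
  rw [p.isClosedMap.closure_image_eq_of_continuous p.continuous] at hcl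
  obtain ⟨x, hx1, hx2⟩ := hcl
  exact ⟨⟨ξ, hξ⟩, ⟨x, hx1, hx2⟩, rfl⟩

/-- a sum against the pushforward of a cycle, as a sum over the points of the source -/
theorem finsum_map_mul (δX : X → ℤ) (δY : Y → ℤ) [QuasiCompact p] (α : AlgebraicCycle X ℤ)
    (Φ : Y → ℤ) (hfin : {ξ : X | α ξ ≠ 0 ∧ Φ (p ξ) ≠ 0}.Finite) :
    ∑ᶠ η, (AlgebraicCycle.map p δX δY α) η * Φ η =
      ∑ᶠ ξ, α ξ * ((AlgebraicCycle.mapCoeff p δX δY ξ : ℕ) : ℤ) * Φ (p ξ) := by
  classical
  let FF : Y → X → ℤ := fun η ξ =>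
    if p ξ = η then α ξ * ((AlgebraicCycle.mapCoeff p δX δY ξ : ℕ) : ℤ) * Φ η else 0
  have h1 : ∀ η, (AlgebraicCycle.map p δX δY α) η * Φ η = ∑ᶠ ξ, FF η ξ := by
    intro η
    have hmap : (AlgebraicCycle.map p δX δY α) η =
        ∑ᶠ x ∈ (p : X → Y) ⁻¹' {η}, α x * ((AlgebraicCycle.mapCoeff p δX δY x : ℕ) : ℤ) := by
      simp only [AlgebraicCycle.map, Function.locallyFinsupp.map_apply]
    rw [hmap, finsum_mul]
    refine finsum_congr fun ξ => ?_
    rw [finsum_eq_if]
    simp only [FF, Set.mem_preimage, Set.mem_singleton_iff, ite_mul, zero_mul]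
  simp_rw [h1]
  have hfin' : (Function.support (Function.uncurry FF)).Finite := by
    refine (hfin.image (fun ξ => (p ξ, ξ))).subset ?_
    rintro ⟨η, ξ⟩ hne
    rw [Function.mem_support, Function.uncurry_apply_pair] at hne
    simp only [FF] at hne
    split_ifs at hne with hcond
    · subst hcond
      refine ⟨ξ, ⟨?_, ?_⟩, rfl⟩
      · intro h0
        apply hne
        rw [h0, zero_mul, zero_mul]
      · intro h0
        apply hne
        rw [h0, mul_zero]
    · exact absurd rfl hne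
  rw [finsum_comm' FF hfin']
  refine finsum_congr fun ξ => ?_
  rw [finsum_eq_single _ (p ξ) (fun η hη => if_neg (fun h => hη h.symm))]
  simp only [FF, if_true]

end fibre


section main

open Groth.Agent.Lead.Ref1K Groth.Agent.Helper4.QAffSec

variable {X Y : Scheme.{u}}

theorem locFin_support (α : AlgebraicCycle X ℤ) (x : X) :
    ∃ U : Set X, IsOpen U ∧ x ∈ U ∧
      {i : {ξ : X // α ξ ≠ 0} | (closure {i.1} ∩ U).Nonempty}.Finite := by
  obtain ⟨U, hU, hfin⟩ := α.supportLocallyFiniteWithinDomain x trivial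
  obtain ⟨V, hVU, hVo, hxV⟩ := mem_nhds_iff.mp hU
  refine ⟨V, hVo, hxV, ?_⟩
  have hfin' : (V ∩ Function.support ⇑α).Finite :=
    hfin.subset (Set.inter_subset_inter_left _ hVU)
  refine (hfin'.preimage (Subtype.val_injective.injOn)).subset ?_
  rintro i ⟨z, hz1, hz2⟩
  have hsp : i.1 ⤳ z := specializes_iff_mem_closure.mpr hz1
  exact ⟨hsp.mem_open hVo hz2, i.2⟩

theorem projection (X Y : Scheme.{u}) (δX : X → ℤ) (δY : Y → ℤ) (hX : Cyc.IsSetup X δX)
    (hY : Cyc.IsSetup Y δY) (p : X ⟶ Y) [IsProper p] (hδ : Cyc.DeltaCompat p δX δY)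
    (L : Y.Modules) (hL : PicF.IsInvertible L) (k : ℤ) (α : AlgebraicCycle X ℤ)
    (hα : α ∈ Cyc.Zk X δX (k + 1))
    (u : (ξ : X) → Cyc.secFibre ((Scheme.Modules.pullback p).obj L) ξ) (hu : ∀ ξ, u ξ ≠ 0)
    (v : (η : Y) → Cyc.secFibre L η) (hv : ∀ η, v η ≠ 0) (γ : AlgebraicCycle X ℤ)
    (hγ : ⇑γ = Cyc.c1CapFun δX ((Scheme.Modules.pullback p).obj L) ⇑α u)
    (γ' : AlgebraicCycle Y ℤ)
    (hγ' : ⇑γ' = Cyc.c1CapFun δY L ⇑(AlgebraicCycle.map p δX δY α) v) :
    Cyc.RatEquiv δY k (AlgebraicCycle.map p δX δY γ) γ' := by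
  classical
  haveI : IsLocallyNoetherian X := hX.1
  have hL' : PicF.IsInvertible ((Scheme.Modules.pullback p).obj L) :=
    Groth.Agent.Helper4.PullSec.isInvertible_pullback p hL
  haveI : L.IsQuasicoherent := isQuasicoherent_of_isInvertible L hL
  haveI : ((Scheme.Modules.pullback p).obj L).IsQuasicoherent :=
    isQuasicoherent_of_isInvertible _ hL'
  choose t ht using fun y : Y => fr1At_of_isInvertible L hL y
  have ht' : ∀ x : X, Function.Bijective
      (fun r : X.presheaf.stalk x => r • pgFun p L x (t (p x))) :=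
    fun x => bijective_pgFun p L x (fr1At_of_isInvertible _ hL' x) (ht (p x))
  choose ψ hψ hgv using fun η => exists_coeff L η (t η) (ht η) (v η) (hv η)
  choose φ hφ hgu using fun ξ =>
    exists_coeff ((Scheme.Modules.pullback p).obj L) ξ _ (ht' ξ) (u ξ) (hu ξ)
  choose w hw hwt using fun η y' : Y => exists_w L η y' (ht η) (ht y')
  have hw0 : ∀ η y', Y.residue η (w η y') ≠ 0 :=
    fun η y' => residue_ne_zero_of_isUnit η (hw η y')
  have hres : ∀ (ξ : X) (a : Y.presheaf.stalk (p ξ)),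
      X.residue ξ ((p.stalkMap ξ).hom a) = p.residueFieldMap ξ (Y.residue (p ξ) a) := by
    intro ξ a
    have := congrArg (fun f => f.hom a) (Scheme.residue_residueFieldMap p ξ)
    exact this.symm
  set H : (ξ : X) → Y.residueField (p ξ) := fun ξ =>
    Cyc.normGen p ξ (X.residue ξ (φ ξ)) * ((Y.residue (p ξ) (ψ (p ξ))) ^ p.residueDegree ξ)⁻¹
    with hH
  have hH0 : ∀ ξ, H ξ ≠ 0 := fun ξ =>
    mul_ne_zero (normGen_ne_zero p ξ _ (hgu ξ)) (inv_ne_zero (pow_ne_zero _ (hgv (p ξ))))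
  unfold Cyc.RatEquiv
  refine ⟨{ξ : X // α ξ ≠ 0 ∧ δX ξ = δY (p ξ)}, fun j => p j.1, fun j => (H j.1) ^ (α j.1),
    ?_, ?_, ?_, ?_⟩
  · intro j
    change δY (p j.1) = k + 1
    rw [← j.2.2]
    by_contra hne
    exact j.2.1 (hα j.1 hne)
  · intro j
    exact zpow_ne_zero _ (hH0 j.1)
  · intro y
    obtain ⟨_, ⟨U, hU, rfl⟩, hyU, -⟩ :=
      (Y.isBasis_affineOpens).exists_subset_of_mem_open (show y ∈ (⊤ : Y.Opens) from trivial)
        (⊤ : Y.Opens).2
    refine ⟨U, U.2, hyU, ?_⟩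
    have hc : IsCompact ((p : X → Y) ⁻¹' (U : Set Y)) :=
      QuasiCompact.isCompact_preimage (f := p) _ U.2 hU.isCompact
    have hfin := finite_index_of_isCompact (fun i : {ξ : X // α ξ ≠ 0} => i.1)
      (locFin_support α) _ hc
    have hinj : Function.Injective
        (fun j : {ξ : X // α ξ ≠ 0 ∧ δX ξ = δY (p ξ)} => (⟨j.1, j.2.1⟩ : {ξ : X // α ξ ≠ 0})) := by
      intro j j' h
      have h' : (⟨j.1, j.2.1⟩ : {ξ : X // α ξ ≠ 0}) = ⟨j'.1, j'.2.1⟩ := h
      exact Subtype.ext (congrArg (fun i : {ξ : X // α ξ ≠ 0} => i.1) h')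
    refine (hfin.preimage hinj.injOn).subset ?_
    rintro j ⟨z, hz1, hz2⟩
    have hsp : p j.1 ⤳ z := specializes_iff_mem_closure.mpr hz1
    have hmem : p j.1 ∈ (U : Set Y) := hsp.mem_open U.2 hz2
    exact ⟨j.1, subset_closure rfl, hmem⟩
  · intro y
    set a : (η : Y) → Y.residueField η := fun η => Y.residue η (w η y) with ha
    have ha0 : ∀ η, a η ≠ 0 := fun η => hw0 η y
    have hPa0 : ∀ ξ, p.residueFieldMap ξ (a (p ξ)) ≠ 0 := fun ξ =>
      (map_ne_zero_iff _ (p.residueFieldMap ξ).hom.injective).mpr (ha0 (p ξ))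
    set F : (ξ : X) → X.residueField ξ := fun ξ =>
      X.residue ξ (φ ξ) * (p.residueFieldMap ξ (a (p ξ)))⁻¹ with hF
    have hF0 : ∀ ξ, F ξ ≠ 0 := fun ξ => mul_ne_zero (hgu ξ) (inv_ne_zero (hPa0 ξ))
    set G : (η : Y) → Y.residueField η := fun η =>
      Y.residue η (ψ η) * (a η)⁻¹ with hG
    have hG0 : ∀ η, G η ≠ 0 := fun η => mul_ne_zero (hgv η) (inv_ne_zero (ha0 η))
    -- the left hand side
    have hsum : ∀ x, p x = y → γ x =
        ∑ᶠ i : {ξ : X // α ξ ≠ 0}, Cyc.divFun δX i.1 ((F i.1) ^ (α i.1)) x := by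
      intro x hx
      rw [hγ]
      unfold Cyc.c1CapFun
      have h1 : ∀ i : {ξ : X // α ξ ≠ 0}, Cyc.divFun δX i.1 (F i.1 ^ (α i.1)) x =
          α i.1 * Cyc.divFun δX i.1 (F i.1) x := fun i => divFun_zpow δX i.1 (F i.1) (hF0 i.1) _ x
      rw [finsum_congr h1,
        finsum_subtype_eq_finsum_cond (f := fun ξ : X => α ξ * Cyc.divFun δX ξ (F ξ) x)
          (fun ξ => α ξ ≠ 0)]
      refine finsum_congr fun ξ => ?_
      rw [finsum_eq_if]
      split_ifs with hξ
      · have hwt' : ∀ h' : ξ ⤳ x,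
            (((Scheme.Modules.pullback p).obj L).presheaf.stalkSpecializes h').hom
              (pgFun p L x (t (p x))) =
            (p.stalkMap ξ).hom (w (p ξ) (p x)) • pgFun p L ξ (t (p ξ)) := by
          intro h'
          rw [pgFun_sp p L h', hwt (p ξ) (p x) (h'.map p.continuous), pgFun_smul]
        rw [secDivFun_eq_divFun δX _ ξ x (ht' ξ) (ht' x) _ ((hw (p ξ) (p x)).map _) hwt' (u ξ)
          (φ ξ) (hφ ξ) (hgu ξ), hres, hx]
      · rw [not_not.mp hξ, zero_mul]
    have eL := map_apply_of_sum δX δY hX hY p hδ (fun i : {ξ : X // α ξ ≠ 0} => i.1)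
      (fun i => (F i.1) ^ (α i.1)) (fun i => zpow_ne_zero _ (hF0 i.1)) (locFin_support α) γ y hsum
    have eL' : (AlgebraicCycle.map p δX δY γ) y = ∑ᶠ ξ : X, α ξ *
        (if δX ξ = δY (p ξ) then Cyc.divFun δY (p ξ) (Cyc.normGen p ξ (F ξ)) y else 0) := by
      rw [eL]
      have h1 : ∀ i : {ξ : X // α ξ ≠ 0},
          (if δX i.1 = δY (p i.1) then
            Cyc.divFun δY (p i.1) (Cyc.normGen p i.1 ((F i.1) ^ (α i.1))) y else 0) =
          α i.1 * (if δX i.1 = δY (p i.1) then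
            Cyc.divFun δY (p i.1) (Cyc.normGen p i.1 (F i.1)) y else 0) := by
        intro i
        rw [normGen_zpow p i.1 (F i.1) (hF0 i.1),
          divFun_zpow δY _ _ (normGen_ne_zero p _ _ (hF0 i.1)), mul_ite, mul_zero]
      rw [finsum_congr h1, finsum_subtype_eq_finsum_cond
        (f := fun ξ : X => α ξ * (if δX ξ = δY (p ξ) then
          Cyc.divFun δY (p ξ) (Cyc.normGen p ξ (F ξ)) y else 0)) (fun ξ => α ξ ≠ 0)]
      refine finsum_congr fun ξ => ?_
      rw [finsum_eq_if]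
      by_cases hξ : α ξ ≠ 0
      · rw [if_pos hξ]
      · rw [if_neg hξ, not_not.mp hξ, zero_mul]
    have hfinS := finite_image_specializes p α y
    have eR : γ' y = ∑ᶠ ξ : X, α ξ * ((AlgebraicCycle.mapCoeff p δX δY ξ : ℕ) : ℤ) *
        Cyc.divFun δY (p ξ) (G (p ξ)) y := by
      rw [hγ']
      unfold Cyc.c1CapFun
      have h1 : ∀ η, (AlgebraicCycle.map p δX δY α) η * Cyc.secDivFun δY L η (v η) y =
          (AlgebraicCycle.map p δX δY α) η * Cyc.divFun δY η (G η) y := by
        intro η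
        rw [secDivFun_eq_divFun δY L η y (ht η) (ht y) (w η y) (hw η y) (hwt η y) (v η) (ψ η)
          (hψ η) (hgv η)]
      rw [finsum_congr h1]
      refine finsum_map_mul p δX δY α (fun η => Cyc.divFun δY η (G η) y) (hfinS.subset ?_)
      rintro ξ ⟨hξ, hne⟩
      exact ⟨hξ, (DivTrE.divFun_cond δY _ _ y hne).1⟩
    have hsuppA : (Function.support fun ξ : X => α ξ * (if δX ξ = δY (p ξ) then
        Cyc.divFun δY (p ξ) (Cyc.normGen p ξ (F ξ)) y else 0)).Finite := by
      refine hfinS.subset ?_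
      intro ξ hξ
      rw [Function.mem_support] at hξ
      refine ⟨fun h0 => hξ (by rw [h0, zero_mul]), ?_⟩
      by_contra hsp
      apply hξ
      split_ifs
      · unfold Cyc.divFun
        rw [dif_neg (fun h => hsp h.1), mul_zero]
      · rw [mul_zero]
    have hsuppB : (Function.support fun ξ : X =>
        α ξ * ((AlgebraicCycle.mapCoeff p δX δY ξ : ℕ) : ℤ) *
          Cyc.divFun δY (p ξ) (G (p ξ)) y).Finite := by
      refine hfinS.subset ?_
      intro ξ hξ
      rw [Function.mem_support] at hξ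
      refine ⟨fun h0 => hξ (by rw [h0, zero_mul, zero_mul]), ?_⟩
      by_contra hsp
      apply hξ
      unfold Cyc.divFun
      rw [dif_neg (fun h => hsp h.1), mul_zero]
    rw [Function.locallyFinsuppWithin.coe_sub, Pi.sub_apply, eL', eR,
      ← finsum_sub_distrib hsuppA hsuppB]
    have h2 : ∀ j : {ξ : X // α ξ ≠ 0 ∧ δX ξ = δY (p ξ)},
        Cyc.divFun δY (p j.1) ((H j.1) ^ (α j.1)) y =
          α j.1 * Cyc.divFun δY (p j.1) (H j.1) y :=
      fun j => divFun_zpow δY _ _ (hH0 j.1) _ y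
    rw [finsum_congr h2, finsum_subtype_eq_finsum_cond
      (f := fun ξ : X => α ξ * Cyc.divFun δY (p ξ) (H ξ) y)
      (fun ξ => α ξ ≠ 0 ∧ δX ξ = δY (p ξ))]
    refine finsum_congr fun ξ => ?_
    rw [finsum_eq_if]
    by_cases hT : δX ξ = δY (p ξ)
    · have hc : ((AlgebraicCycle.mapCoeff p δX δY ξ : ℕ) : ℤ) = (p.residueDegree ξ : ℤ) := by
        unfold AlgebraicCycle.mapCoeff
        rw [if_pos hT]
      rw [if_pos hT, hc]
      by_cases hξ : α ξ ≠ 0
      · rw [if_pos ⟨hξ, hT⟩]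
        have hN0 : Cyc.normGen p ξ (X.residue ξ (φ ξ)) ≠ 0 := normGen_ne_zero p ξ _ (hgu ξ)
        have e1 : Cyc.divFun δY (p ξ) (Cyc.normGen p ξ (F ξ)) y =
            Cyc.divFun δY (p ξ) (Cyc.normGen p ξ (X.residue ξ (φ ξ))) y -
              (p.residueDegree ξ : ℤ) * Cyc.divFun δY (p ξ) (a (p ξ)) y := by
          rw [hF]
          simp only []
          rw [normGen_mul, normGen_inv p ξ _ (hPa0 ξ), normGen_map,
            divFun_mul δY _ _ _ hN0 (inv_ne_zero (pow_ne_zero _ (ha0 (p ξ)))),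
            divFun_inv δY _ _ (pow_ne_zero _ (ha0 (p ξ))), PullDivL.divFun_pow]
          ring
        have e2 : Cyc.divFun δY (p ξ) (G (p ξ)) y =
            Cyc.divFun δY (p ξ) (Y.residue (p ξ) (ψ (p ξ))) y -
              Cyc.divFun δY (p ξ) (a (p ξ)) y := by
          rw [hG]
          simp only []
          rw [divFun_mul δY _ _ _ (hgv (p ξ)) (inv_ne_zero (ha0 (p ξ))),
            divFun_inv δY _ _ (ha0 (p ξ))]
          ring
        have e3 : Cyc.divFun δY (p ξ) (H ξ) y =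
            Cyc.divFun δY (p ξ) (Cyc.normGen p ξ (X.residue ξ (φ ξ))) y -
              (p.residueDegree ξ : ℤ) * Cyc.divFun δY (p ξ) (Y.residue (p ξ) (ψ (p ξ))) y := by
          rw [hH]
          simp only []
          rw [divFun_mul δY _ _ _ hN0 (inv_ne_zero (pow_ne_zero _ (hgv (p ξ)))),
            divFun_inv δY _ _ (pow_ne_zero _ (hgv (p ξ))), PullDivL.divFun_pow]
          ring
        rw [e1, e2, e3]
        ring
      · rw [if_neg (fun h => hξ h.1), not_not.mp hξ]
        ring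
    · have hc : ((AlgebraicCycle.mapCoeff p δX δY ξ : ℕ) : ℤ) = 0 := by
        unfold AlgebraicCycle.mapCoeff
        rw [if_neg hT]
        rfl
      rw [if_neg hT, if_neg (fun h => hT h.2), hc]
      ring

end main

end Groth.Agent.Helper3.PushRat
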