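import Mathlib
import Groth.Prelude
import Groth.Agent.Helper3.PushRatG
import Groth.Agent.Helper3.ZeroSecA

/-!
# `c₁(L) ∩ [Y]_{k+1} ∼ ι_*[Z(s)]_k`
-/

set_option autoImplicit false
set_option linter.style.haveILetI false
set_option linter.unusedSectionVars false
set_option linter.unusedVariables false
set_option linter.deprecated false
set_option linter.style.haveILetI false
set_option linter.unusedSectionVars false
set_option linter.unusedVariables false

universe u

open CategoryTheory CategoryTheory.Limits AlgebraicGeometry TopologicalSpace Opposite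

namespace Groth.Agent.Helper3.Gysin

open Groth.Agent.Helper3.SecOrd Groth.Agent.Helper3.PullGen Groth.Agent.Helper3.PushRat

section symm

variable {X : Scheme.{u}}

theorem ratEquivZero_neg (δ : X → ℤ) (k : ℤ) (γ : AlgebraicCycle X ℤ)
    (h : Cyc.RatEquivZero δ k γ) : Cyc.RatEquivZero δ k (-γ) := by
  obtain ⟨ι, ξ, f, hdim, hne, hlf, hsum⟩ := h
  refine ⟨ι, ξ, fun i => (f i)⁻¹, hdim, fun i => inv_ne_zero (hne i), hlf, ?_⟩
  intro x
  rw [Function.locallyFinsuppWithin.coe_neg, Pi.neg_apply, hsum x, ← finsum_neg_distrib]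
  exact finsum_congr fun i => (divFun_inv δ (ξ i) (f i) (hne i) x).symm

theorem ratEquiv_symm (δ : X → ℤ) (k : ℤ) (α β : AlgebraicCycle X ℤ)
    (h : Cyc.RatEquiv δ k α β) : Cyc.RatEquiv δ k β α := by
  unfold Cyc.RatEquiv at h ⊢
  have := ratEquivZero_neg δ k _ h
  rwa [neg_sub] at this

end symm

section fund

variable {Y : Scheme.{u}}

/-- the fundamental cycle in top dimension -/
noncomputable def fundCycle [IsLocallyNoetherian Y] (δ : Y → ℤ) (hδ : Cyc.IsDimFun Y δ) (k : ℤ)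
    (hdim : ∀ y : Y, δ y ≤ k) : AlgebraicCycle Y ℤ where
  toFun := Cyc.subschemeFun δ k (𝟙 Y)
  supportWithinDomain' := Set.subset_univ _
  supportLocallyFiniteWithinDomain' z _ := by
    obtain ⟨V, hzV, hVn⟩ := DivTrC.exists_noetherian_nhd z
    haveI : NoetherianSpace ↥V := hVn
    haveI : QuasiSober ↥V := V.isOpen.isOpenEmbedding_subtypeVal.quasiSober
    refine ⟨V, V.isOpen.mem_nhds hzV, ?_⟩
    have hfin := DivTrC.finite_maximal (Set.univ : Set ↥V) isClosed_univ
    refine (hfin.image Subtype.val).subset ?_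
    rintro y ⟨hyV, hy⟩
    rw [Function.mem_support, Groth.Agent.Helper3.ZeroSec.subschemeFun_id] at hy
    split_ifs at hy with hk
    · refine ⟨⟨y, hyV⟩, ⟨trivial, ?_⟩, rfl⟩
      intro t _ hty
      have hty' : (t : Y) ⤳ y := (subtype_specializes_iff _ _).1 hty
      by_contra hne
      have hne' : (t : Y) ≠ y := fun h => hne (Subtype.ext h)
      have := (hδ t y hty' hne').1
      have := hdim t
      omega
    · exact absurd rfl hy

theorem coe_fundCycle [IsLocallyNoetherian Y] (δ : Y → ℤ) (hδ : Cyc.IsDimFun Y δ) (k : ℤ)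
    (hdim : ∀ y : Y, δ y ≤ k) :
    ⇑(fundCycle δ hδ k hdim) = Cyc.subschemeFun δ k (𝟙 Y) := rfl

theorem fundCycle_mem_Zk [IsLocallyNoetherian Y] (δ : Y → ℤ) (hδ : Cyc.IsDimFun Y δ) (k : ℤ)
    (hdim : ∀ y : Y, δ y ≤ k) : fundCycle δ hδ k hdim ∈ Cyc.Zk Y δ k := by
  intro y hy
  change Cyc.subschemeFun δ k (𝟙 Y) y = 0
  rw [Groth.Agent.Helper3.ZeroSec.subschemeFun_id, if_neg hy]

variable {X : Scheme.{u}}

/-- the pushforward of the fundamental cycle of a closed subscheme -/
theorem map_fundCycle [IsLocallyNoetherian Y] (ι : Y ⟶ X) [IsClosedImmersion ι] (δ : X → ℤ)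
    (hδ : Cyc.IsDimFun Y (fun y => δ (ι y))) (k : ℤ) (hdim : ∀ y : Y, δ (ι y) ≤ k) :
    ⇑(AlgebraicCycle.map ι (fun y => δ (ι y)) δ (fundCycle (fun y => δ (ι y)) hδ k hdim)) =
      Cyc.subschemeFun δ k ι := by
  funext x
  by_cases hx : x ∈ Set.range ι
  · obtain ⟨z, rfl⟩ := hx
    rw [DivTrE.map_apply_of_preimmersion ι _ _ (fun _ => rfl), coe_fundCycle,
      Groth.Agent.Helper3.ZeroSec.subschemeFun_id]
    unfold Cyc.subschemeFun
    have hfib : {z' : Y | ι z' = ι z} = {z} := by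
      ext y
      simp only [Set.mem_setOf_eq, Set.mem_singleton_iff]
      exact ⟨fun h => ι.isEmbedding.injective h, fun h => by rw [h]⟩
    rw [hfib, finsum_mem_singleton]
  · rw [DivTrE.map_apply_of_notMem ι _ _ _ x hx]
    unfold Cyc.subschemeFun
    have hfib : {z' : Y | ι z' = x} = ∅ := by
      ext y
      simp only [Set.mem_setOf_eq, Set.mem_empty_iff_false, iff_false]
      exact fun h => hx ⟨y, h⟩
    rw [hfib, finsum_mem_empty, ite_self]

end fund


section main

open Groth.Agent.Lead.Ref1K Groth.Agent.Helper4.QAffSec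

theorem mkF_gen_ne_zero {Y : Scheme.{u}} (M : Y.Modules) (y : Y) {t : M.presheaf.stalk y}
    (ht : Function.Bijective (fun a : Y.presheaf.stalk y => a • t)) : mkF M y t ≠ 0 := by
  intro h0
  have h1 : (1 : Y.presheaf.stalk y) • mkF M y t = 0 := by rw [one_smul]; exact h0
  have h2 := (smul_mk_eq_zero_iff ht 1).mp h1
  exact (IsLocalRing.mem_maximalIdeal 1).mp h2 isUnit_one

theorem main (X Y : Scheme.{u}) (δ : X → ℤ) (hX : Cyc.IsSetup X δ) (L : X.Modules)
    (hL : PicF.IsInvertible L) (ι : Y ⟶ X) [IsClosedImmersion ι] (k : ℤ)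
    (hY : ∀ y : Y, δ (ι y) ≤ k + 1)
    (s : ((Scheme.Modules.pullback ι).obj L).presheaf.obj (Opposite.op ⊤))
    (hZ : ∀ y : Y, (((Scheme.Modules.pullback ι).obj L).presheaf.germ ⊤ y trivial) s ∈
      IsLocalRing.maximalIdeal (Y.presheaf.stalk y) •
        (⊤ : Submodule (Y.presheaf.stalk y) (((Scheme.Modules.pullback ι).obj L).presheaf.stalk y)) →
      δ (ι y) ≤ k)
    (hreg : ∀ y : Y, δ (ι y) = k → Function.Injective (fun a : Y.presheaf.stalk y =>
      a • (((Scheme.Modules.pullback ι).obj L).presheaf.germ ⊤ y trivial) s))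
    (v : (ξ : X) → Cyc.secFibre L ξ) (hv : ∀ ξ, v ξ ≠ 0) (γ : AlgebraicCycle X ℤ)
    (hγ : ⇑γ = Cyc.c1CapFun δ L (Cyc.subschemeFun δ (k + 1) ι) v) (ζ : AlgebraicCycle Y ℤ)
    (hζ : ⇑ζ = Cyc.zeroSectionFun (fun y => δ (ι y)) k ((Scheme.Modules.pullback ι).obj L) s) :
    Cyc.RatEquiv δ k γ (AlgebraicCycle.map ι (fun y => δ (ι y)) δ ζ) := by
  have hYs : Cyc.IsSetup Y (fun y => δ (ι y)) := isSetup_ci ι δ hX
  haveI := hYs.1
  have hL' : PicF.IsInvertible ((Scheme.Modules.pullback ι).obj L) :=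
    Groth.Agent.Helper4.PullSec.isInvertible_pullback ι hL
  choose t ht using fun y : Y => fr1At_of_isInvertible _ hL' y
  have hfb : ∀ y, mkF ((Scheme.Modules.pullback ι).obj L) y (t y) ≠ 0 :=
    fun y => mkF_gen_ne_zero _ y (ht y)
  have hu : ∀ y, Cyc.gysinChoice ((Scheme.Modules.pullback ι).obj L) s
      (fun y => mkF ((Scheme.Modules.pullback ι).obj L) y (t y)) y ≠ 0 :=
    gysinChoice_ne_zero _ s _ hfb
  have hα : fundCycle (fun y => δ (ι y)) hYs.2.2 (k + 1) hY ∈
      Cyc.Zk Y (fun y => δ (ι y)) (k + 1) := fundCycle_mem_Zk _ _ _ _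
  have hζ' : ⇑ζ = Cyc.c1CapFun (fun y => δ (ι y)) ((Scheme.Modules.pullback ι).obj L)
      ⇑(fundCycle (fun y => δ (ι y)) hYs.2.2 (k + 1) hY)
      (Cyc.gysinChoice ((Scheme.Modules.pullback ι).obj L) s
        (fun y => mkF ((Scheme.Modules.pullback ι).obj L) y (t y))) := by
    rw [hζ, Groth.Agent.Helper3.ZeroSec.main (fun y => δ (ι y)) hYs _ hL' k hY s hreg,
      coe_fundCycle]
    funext x
    unfold Cyc.c1CapFun
    refine finsum_congr fun ξ => ?_
    by_cases hξ : δ (ι ξ) = k + 1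
    · have hne : (Submodule.Quotient.mk
          ((((Scheme.Modules.pullback ι).obj L).presheaf.germ ⊤ ξ trivial) s) :
          Cyc.secFibre ((Scheme.Modules.pullback ι).obj L) ξ) ≠ 0 := by
        intro h0
        have := hZ ξ ((Submodule.Quotient.mk_eq_zero _).mp h0)
        omega
      have hch : Cyc.gysinChoice ((Scheme.Modules.pullback ι).obj L) s
          (fun y => mkF ((Scheme.Modules.pullback ι).obj L) y (t y)) ξ =
          Submodule.Quotient.mk
            ((((Scheme.Modules.pullback ι).obj L).presheaf.germ ⊤ ξ trivial) s) := by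
        unfold Cyc.gysinChoice
        rw [if_pos hne]
      rw [hch]
    · rw [Groth.Agent.Helper3.ZeroSec.subschemeFun_id, if_neg hξ, zero_mul, zero_mul]
  have hδc : Cyc.DeltaCompat ι (fun y => δ (ι y)) δ := by
    have := deltaCompat_comp_left ι (𝟙 X) δ δ (Bivar.deltaCompat_id δ)
    rwa [Category.comp_id] at this
  have hγ' : ⇑γ = Cyc.c1CapFun δ L ⇑(AlgebraicCycle.map ι (fun y => δ (ι y)) δ
      (fundCycle (fun y => δ (ι y)) hYs.2.2 (k + 1) hY)) v := by
    rw [map_fundCycle]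
    exact hγ
  exact ratEquiv_symm _ _ _ _ (projection Y X (fun y => δ (ι y)) δ hYs hX ι hδc L hL k _ hα _ hu
    v hv ζ hζ' γ hγ')

end main

end Groth.Agent.Helper3.Gysin
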