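import Mathlib
import Groth.Prelude
import Groth.Agent.Helper3.GysinA

/-!
# `i^* i_* α ∼ c₁(i^*L) ∩ α` for the zero scheme of a section
-/

set_option autoImplicit false
set_option linter.style.haveILetI false
set_option linter.unusedSectionVars false
set_option linter.unusedVariables false
set_option linter.deprecated false
set_option linter.style.haveILetI false
set_option linter.unusedSectionVars false
set_option linter.unusedVariables false

universe u

open CategoryTheory CategoryTheory.Limits AlgebraicGeometry TopologicalSpace Opposite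

namespace Groth.Agent.Helper3.Gysin

open Groth.Agent.Helper3.SecOrd Groth.Agent.Helper3.PullGen Groth.Agent.Helper3.PushRat
  Groth.Agent.Lead.Ref1K Groth.Agent.Helper4.QAffSec

section general

/-- a sum over the target of an injective map of a function supported on the range -/
theorem finsum_eq_finsum_comp {A B : Type*} (i : A → B) (hi : Function.Injective i) (F : B → ℤ)
    (hF : ∀ b, F b ≠ 0 → b ∈ Set.range i) : ∑ᶠ b, F b = ∑ᶠ a, F (i a) := by
  rw [← finsum_mem_range hi, ← finsum_mem_univ]
  apply finsum_mem_inter_support_eq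
  ext b
  simp only [Set.mem_inter_iff, Set.mem_univ, true_and, Function.mem_support]
  exact ⟨fun h => ⟨hF b h, h⟩, fun h => h.2⟩

end general

section main

variable {X D : Scheme.{u}}

/-- the cap product with `c₁(L)` of a cycle pushed forward from a closed subscheme, at a point of
the subscheme, in terms of the subscheme -/
theorem c1Cap_map_closed (δ : X → ℤ) (L : X.Modules) (i : D ⟶ X) [IsClosedImmersion i]
    (α : AlgebraicCycle D ℤ) (c : (ξ : X) → Cyc.secFibre L ξ) (x : X) :
    Cyc.c1CapFun δ L ⇑(AlgebraicCycle.map i (fun d => δ (i d)) δ α) c x =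
      ∑ᶠ e : D, α e * Cyc.secDivFun δ L (i e) (c (i e)) x := by
  unfold Cyc.c1CapFun
  rw [finsum_eq_finsum_comp (i : D → X) i.isEmbedding.injective]
  · refine finsum_congr fun e => ?_
    rw [DivTrE.map_apply_of_preimmersion i _ _ (fun _ => rfl)]
  · intro b hb
    by_contra hnot
    apply hb
    rw [DivTrE.map_apply_of_notMem i _ _ _ b hnot, zero_mul]

theorem gysin_push (X D : Scheme.{u}) (δ : X → ℤ) (hX : Cyc.IsSetup X δ) (L : X.Modules)
    (hL : PicF.IsInvertible L) (s : L.presheaf.obj (Opposite.op ⊤)) (i : D ⟶ X)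
    [IsClosedImmersion i] (hD : Cyc.IsZeroSchemeOf i L s) (k : ℤ) (α : AlgebraicCycle D ℤ)
    (hα : α ∈ Cyc.Zk D (fun d => δ (i d)) k) (w : (ξ : X) → Cyc.secFibre L ξ)
    (hw : ∀ ξ, w ξ ≠ 0) (t : (d : D) → Cyc.secFibre ((Scheme.Modules.pullback i).obj L) d)
    (ht : ∀ d, t d ≠ 0) (ζ₁ ζ₂ : AlgebraicCycle D ℤ)
    (h₁ : ∀ d, ζ₁ d = Cyc.c1CapFun δ L ⇑(AlgebraicCycle.map i (fun d => δ (i d)) δ α)
      (Cyc.gysinChoice L s w) (i d))
    (h₂ : ⇑ζ₂ = Cyc.c1CapFun (fun d => δ (i d)) ((Scheme.Modules.pullback i).obj L) ⇑α t) :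
    Cyc.RatEquiv (fun d => δ (i d)) (k - 1) ζ₁ ζ₂ := by
  classical
  have hL' : PicF.IsInvertible ((Scheme.Modules.pullback i).obj L) :=
    Groth.Agent.Helper4.PullSec.isInvertible_pullback i hL
  haveI : L.IsQuasicoherent := isQuasicoherent_of_isInvertible L hL
  haveI : ((Scheme.Modules.pullback i).obj L).IsQuasicoherent :=
    isQuasicoherent_of_isInvertible _ hL'
  choose g hg using fun y : X => fr1At_of_isInvertible L hL y
  have hg' : ∀ d : D, Function.Bijective
      (fun r : D.presheaf.stalk d => r • pgFun i L d (g (i d))) :=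
    fun d => bijective_pgFun i L d (fr1At_of_isInvertible _ hL' d) (hg (i d))
  choose ψ hψ hgw using fun ξ => exists_coeff L ξ (g ξ) (hg ξ) (w ξ) (hw ξ)
  choose φ hφ hgt using fun d =>
    exists_coeff ((Scheme.Modules.pullback i).obj L) d _ (hg' d) (t d) (ht d)
  have hres : ∀ (d : D) (a : X.presheaf.stalk (i d)),
      D.residue d ((i.stalkMap d).hom a) = i.residueFieldMap d (X.residue (i d) a) := by
    intro d a
    have := congrArg (fun f => f.hom a) (Scheme.residue_residueFieldMap i d)
    exact this.symm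
  have hchoice : ∀ e : D, Cyc.gysinChoice L s w (i e) = w (i e) := by
    intro e
    unfold Cyc.gysinChoice
    have hmem : i e ∈ Set.range ⇑i := ⟨e, rfl⟩
    rw [hD.1] at hmem
    rw [if_neg (fun h => h hmem)]
  have hα' : α ∈ Cyc.Zk D (fun d => δ (i d)) (k - 1 + 1) := by
    rwa [show k - 1 + 1 = k by ring]
  unfold Cyc.RatEquiv
  refine ratEquivZero_of_sum (fun d => δ (i d)) (k - 1) α hα'
    (fun e => i.residueFieldMap e (X.residue (i e) (ψ (i e))) * (D.residue e (φ e))⁻¹) ?_ _ ?_
  · intro e
    refine mul_ne_zero ?_ (inv_ne_zero (hgt e))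
    exact (map_ne_zero_iff _ (i.residueFieldMap e).hom.injective).mpr (hgw (i e))
  intro d
  choose a ha hat using fun ξ => exists_w L ξ (i d) (hg ξ) (hg (i d))
  have ha0 : ∀ ξ, X.residue ξ (a ξ) ≠ 0 := fun ξ => residue_ne_zero_of_isUnit ξ (ha ξ)
  have e1 : ζ₁ d = ∑ᶠ e : D, α e * Cyc.divFun (fun d => δ (i d)) e
      (i.residueFieldMap e (X.residue (i e) (ψ (i e)) * (X.residue (i e) (a (i e)))⁻¹)) d := by
    rw [h₁, c1Cap_map_closed]
    refine finsum_congr fun e => ?_
    rw [hchoice, secDivFun_eq_divFun δ L (i e) (i d) (hg (i e)) (hg (i d)) (a (i e)) (ha (i e))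
      (hat (i e)) (w (i e)) (ψ (i e)) (hψ (i e)) (hgw (i e)), DivTrB.divFun_map i δ d e]
  have e2 : ζ₂ d = ∑ᶠ e : D, α e * Cyc.divFun (fun d => δ (i d)) e
      (D.residue e (φ e) * (i.residueFieldMap e (X.residue (i e) (a (i e))))⁻¹) d := by
    rw [h₂]
    unfold Cyc.c1CapFun
    refine finsum_congr fun e => ?_
    have hwt' : ∀ h' : e ⤳ d,
        (((Scheme.Modules.pullback i).obj L).presheaf.stalkSpecializes h').hom
          (pgFun i L d (g (i d))) =
        (i.stalkMap e).hom (a (i e)) • pgFun i L e (g (i e)) := by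
      intro h'
      rw [pgFun_sp i L h', hat (i e) (h'.map i.continuous), pgFun_smul]
    rw [secDivFun_eq_divFun (fun d => δ (i d)) _ e d (hg' e) (hg' d) _ ((ha (i e)).map _) hwt'
      (t e) (φ e) (hφ e) (hgt e), hres]
  have hsupp : ∀ G : (e : D) → D.residueField e,
      (Function.support fun e => α e * Cyc.divFun (fun d => δ (i d)) e (G e) d).Finite := by
    intro G
    refine (Bivar.finite_support_specializes α d).subset ?_
    intro e he
    rw [Function.mem_support] at he
    refine ⟨?_, fun h0 => he (by rw [h0, zero_mul])⟩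
    by_contra hsp
    apply he
    unfold Cyc.divFun
    rw [dif_neg (fun h => hsp h.1), mul_zero]
  rw [Function.locallyFinsuppWithin.coe_sub, Pi.sub_apply, e1, e2,
    ← finsum_sub_distrib (hsupp _) (hsupp _)]
  refine finsum_congr fun e => ?_
  have hP1 : i.residueFieldMap e (X.residue (i e) (ψ (i e))) ≠ 0 :=
    (map_ne_zero_iff _ (i.residueFieldMap e).hom.injective).mpr (hgw (i e))
  have hP2 : i.residueFieldMap e (X.residue (i e) (a (i e))) ≠ 0 :=
    (map_ne_zero_iff _ (i.residueFieldMap e).hom.injective).mpr (ha0 (i e))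
  rw [map_mul, map_inv₀, divFun_mul _ e _ _ hP1 (inv_ne_zero hP2),
    divFun_mul _ e _ _ (hgt e) (inv_ne_zero hP2),
    divFun_mul _ e _ _ hP1 (inv_ne_zero (hgt e)), divFun_inv _ e _ (hgt e)]
  ring

end main

end Groth.Agent.Helper3.Gysin
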