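import Mathlib
import Groth.Prelude
import Groth.Agent.Helper3.GysinB
import Groth.Agent.Helper3.GrpdSl3

/-!
# The local ring of the base change of a closed immersion
-/

set_option autoImplicit false
set_option linter.style.haveILetI false
set_option linter.unusedSectionVars false
set_option linter.unusedVariables false
set_option linter.deprecated false
set_option linter.style.haveILetI false
set_option linter.unusedSectionVars false
set_option linter.unusedVariables false

universe u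

open CategoryTheory CategoryTheory.Limits AlgebraicGeometry TopologicalSpace Opposite

namespace Groth.Agent.Helper3.Gysin

open Groth.Agent.Helper3.SecOrd Groth.Agent.Helper3.PullGen Groth.Agent.Helper3.PushRat

section ker

variable {X' D X : Scheme.{u}} (f : X' ⟶ X) (i : D ⟶ X)

/-- the kernel of the stalk map of the base change of a preimmersion is contained in any ideal
whose quotient lifts to the source of the preimmersion -/
theorem ker_stalkMap_fst_le [IsPreimmersion i] (z : ↑(pullback f i))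
    (J : Ideal (X'.presheaf.stalk (pullback.fst f i z))) (hJ : J ≠ ⊤)
    (b : Spec (CommRingCat.of (X'.presheaf.stalk (pullback.fst f i z) ⧸ J)) ⟶ D)
    (hb : b ≫ i = Spec.map (CommRingCat.ofHom (Ideal.Quotient.mk J)) ≫
      X'.fromSpecStalk (pullback.fst f i z) ≫ f) :
    RingHom.ker ((pullback.fst f i).stalkMap z).hom ≤ J := by
  let k := pullback.fst f i
  let x : X' := k z
  let Rx := X'.presheaf.stalk x
  haveI : Nontrivial (Rx ⧸ J) := Ideal.Quotient.nontrivial_iff.2 hJ
  haveI : IsLocalRing (Rx ⧸ J) :=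
    IsLocalRing.of_surjective' (Ideal.Quotient.mk J) Ideal.Quotient.mk_surjective
  let Q : CommRingCat.{u} := CommRingCat.of (Rx ⧸ J)
  haveI : IsLocalRing Q := inferInstanceAs (IsLocalRing (Rx ⧸ J))
  let q : Rx ⟶ Q := CommRingCat.ofHom (Ideal.Quotient.mk J)
  let a₁ : Spec Q ⟶ X' := Spec.map q ≫ X'.fromSpecStalk x
  have comm : a₁ ≫ f = b ≫ i := by
    rw [hb]; simp only [a₁, Category.assoc]; rfl
  let α : Spec Q ⟶ pullback f i := pullback.lift a₁ b comm
  have hα1 : α ≫ k = a₁ := pullback.lift_fst _ _ _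
  haveI : IsPreimmersion k := inferInstanceAs (IsPreimmersion (pullback.fst f i))
  have hinj : Function.Injective k := k.isEmbedding.injective
  have hqloc : IsLocalHom q.hom :=
    IsLocalHom.of_surjective _ Ideal.Quotient.mk_surjective
  have hpt : α (IsLocalRing.closedPoint Q) = z := by
    apply hinj
    rw [← Scheme.Hom.comp_apply, hα1]
    show X'.fromSpecStalk x (Spec.map q (IsLocalRing.closedPoint Q)) = x
    have h1 : Spec.map q (IsLocalRing.closedPoint Q) = IsLocalRing.closedPoint Rx :=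
      IsLocalRing.comap_closedPoint q.hom
    rw [h1, Scheme.fromSpecStalk_closedPoint]
  let θ : (pullback f i).presheaf.stalk z ⟶ Q :=
    (pullback f i).presheaf.stalkSpecializes (specializes_of_eq hpt) ≫ Scheme.stalkClosedPointTo α
  have hθ : Spec.map θ ≫ (pullback f i).fromSpecStalk z = α := by
    rw [Spec.map_comp, Category.assoc, Scheme.SpecMap_stalkSpecializes_fromSpecStalk,
      Scheme.Spec_stalkClosedPointTo_fromSpecStalk]
  have hβ : Spec.map (k.stalkMap z) ≫ X'.fromSpecStalk (k z) = (pullback f i).fromSpecStalk z ≫ k :=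
    Scheme.SpecMap_stalkMap_fromSpecStalk k
  have e : k.stalkMap z ≫ θ = q := by
    apply Spec.map_injective
    rw [Spec.map_comp, ← cancel_mono (X'.fromSpecStalk x), Category.assoc, hβ, ← Category.assoc,
      hθ, hα1]
  intro a ha
  have h1 : q a = 0 := by
    rw [← e]
    show θ (k.stalkMap z a) = 0
    have h2 : k.stalkMap z a = 0 := ha
    rw [h2, map_zero]
  exact Ideal.Quotient.eq_zero_iff_mem.1 h1

end ker


section kereq

variable {X' D X : Scheme.{u}} (f : X' ⟶ X) (i : D ⟶ X)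

theorem cond_apply (z : ↑(pullback f i)) :
    i (pullback.snd f i z) = f (pullback.fst f i z) := by
  have := congrArg (fun ψ : pullback f i ⟶ X => ψ z) (pullback.condition (f := f) (g := i))
  exact this.symm

/-- the map `O_{X, f x'} → O_{D, d}` at a point of the fibre product -/
noncomputable def ρ (z : ↑(pullback f i)) :
    X.presheaf.stalk (f (pullback.fst f i z)) ⟶ D.presheaf.stalk (pullback.snd f i z) :=
  X.presheaf.stalkSpecializes (specializes_of_eq (cond_apply f i z)) ≫
    i.stalkMap (pullback.snd f i z)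

theorem ρ_comp (z : ↑(pullback f i)) :
    f.stalkMap (pullback.fst f i z) ≫ (pullback.fst f i).stalkMap z =
      ρ f i z ≫ (pullback.snd f i).stalkMap z := by
  have h1 := Scheme.Hom.stalkMap_congr_hom (pullback.fst f i ≫ f) (pullback.snd f i ≫ i)
    pullback.condition z
  rw [Scheme.Hom.stalkMap_comp, Scheme.Hom.stalkMap_comp] at h1
  rw [h1, ρ, Category.assoc]
  rfl

theorem ρ_surjective [IsClosedImmersion i] (z : ↑(pullback f i)) :
    Function.Surjective (ρ f i z).hom := by
  have h1 : Function.Surjective (i.stalkMap (pullback.snd f i z)).hom :=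
    i.stalkMap_surjective _
  have h2 : Function.Bijective
      (X.presheaf.stalkSpecializes (specializes_of_eq (cond_apply f i z))).hom := by
    have key : ∀ {a b : X} (h : a = b),
        IsIso (X.presheaf.stalkSpecializes (specializes_of_eq h)) := by
      intro a b h
      subst h
      have : X.presheaf.stalkSpecializes (specializes_of_eq (rfl : a = a)) = 𝟙 _ :=
        TopCat.Presheaf.stalkSpecializes_refl _ _
      rw [this]
      infer_instance
    haveI := key (cond_apply f i z)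
    exact ConcreteCategory.bijective_of_isIso _
  intro a
  obtain ⟨b, rfl⟩ := h1 a
  obtain ⟨c, rfl⟩ := h2.2 b
  exact ⟨c, rfl⟩

theorem ker_ρ_le [IsClosedImmersion i] (z : ↑(pullback f i)) :
    RingHom.ker (ρ f i z).hom ≤
      IsLocalRing.maximalIdeal (X.presheaf.stalk (f (pullback.fst f i z))) := by
  intro c hc
  rw [IsLocalRing.mem_maximalIdeal, mem_nonunits_iff]
  intro hu
  have h1 : IsUnit ((ρ f i z).hom c) := hu.map _
  rw [RingHom.mem_ker.mp hc] at h1
  exact not_isUnit_zero h1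

/-- **the ideal of the base change of a closed immersion at a point** -/
theorem ker_stalkMap_fst [IsClosedImmersion i] (z : ↑(pullback f i)) :
    RingHom.ker ((pullback.fst f i).stalkMap z).hom =
      Ideal.map (f.stalkMap (pullback.fst f i z)).hom (RingHom.ker (ρ f i z).hom) := by
  apply le_antisymm
  · set J : Ideal (X'.presheaf.stalk (pullback.fst f i z)) :=
      Ideal.map (f.stalkMap (pullback.fst f i z)).hom (RingHom.ker (ρ f i z).hom) with hJdef
    have hJle : J ≤ IsLocalRing.maximalIdeal (X'.presheaf.stalk (pullback.fst f i z)) := by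
      refine (Ideal.map_mono (ker_ρ_le f i z)).trans ?_
      have h0 : IsLocalHom (f.stalkMap (pullback.fst f i z)).hom := inferInstance
      exact ((IsLocalRing.local_hom_TFAE (f.stalkMap (pullback.fst f i z)).hom).out 0 2).1 h0
    have hJne : J ≠ ⊤ := fun h =>
      (IsLocalRing.maximalIdeal.isMaximal (X'.presheaf.stalk (pullback.fst f i z))).ne_top
        (top_le_iff.1 (h ▸ hJle))
    let Q : CommRingCat.{u} := CommRingCat.of (X'.presheaf.stalk (pullback.fst f i z) ⧸ J)
    let q : X'.presheaf.stalk (pullback.fst f i z) ⟶ Q :=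
      CommRingCat.ofHom (Ideal.Quotient.mk J)
    have hker : RingHom.ker (ρ f i z).hom ≤
        RingHom.ker ((Ideal.Quotient.mk J).comp (f.stalkMap (pullback.fst f i z)).hom) := by
      intro c hc
      rw [RingHom.mem_ker, RingHom.comp_apply, Ideal.Quotient.eq_zero_iff_mem]
      exact Ideal.mem_map_of_mem _ hc
    let θ' : D.presheaf.stalk (pullback.snd f i z) ⟶ Q := CommRingCat.ofHom
      ((ρ f i z).hom.liftOfSurjective (ρ_surjective f i z)
        ⟨(Ideal.Quotient.mk J).comp (f.stalkMap (pullback.fst f i z)).hom, hker⟩)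
    have hθ' : ρ f i z ≫ θ' = f.stalkMap (pullback.fst f i z) ≫ q := by
      ext a
      exact RingHom.liftOfSurjective_comp_apply (ρ f i z).hom (ρ_surjective f i z)
        ⟨(Ideal.Quotient.mk J).comp (f.stalkMap (pullback.fst f i z)).hom, hker⟩ a
    let b : Spec Q ⟶ D := Spec.map θ' ≫ D.fromSpecStalk (pullback.snd f i z)
    have hb : b ≫ i = Spec.map q ≫ X'.fromSpecStalk (pullback.fst f i z) ≫ f := by
      show (Spec.map θ' ≫ D.fromSpecStalk (pullback.snd f i z)) ≫ i = _
      rw [Category.assoc, ← Scheme.SpecMap_stalkMap_fromSpecStalk i,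
        ← Scheme.SpecMap_stalkMap_fromSpecStalk f, ← Spec.map_comp_assoc, ← Spec.map_comp_assoc,
        ← hθ', ρ, Category.assoc, Spec.map_comp, Spec.map_comp, Category.assoc, Category.assoc,
        Scheme.SpecMap_stalkSpecializes_fromSpecStalk, Spec.map_comp, Category.assoc]
    exact ker_stalkMap_fst_le f i z J hJne b hb
  · rw [Ideal.map_le_iff_le_comap]
    intro c hc
    rw [Ideal.mem_comap, RingHom.mem_ker]
    have h1 := congrArg (fun g => g.hom c) (ρ_comp f i z)
    simp only [CommRingCat.hom_comp, RingHom.comp_apply] at h1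
    rw [h1, RingHom.mem_ker.mp hc, map_zero]

end kereq


section formula

open Groth.Agent.Lead.Ref1K Groth.Agent.Helper4.QAffSec Groth.Agent.Helper3.PullDivI
  Groth.Agent.Helper3.PullDivK Groth.Agent.Helper3.PullDivL

/-- the difference between the flat pullback of `c₁(L) ∩ α` and `c₁(p^*L) ∩ p^*α`, in
coordinates -/
theorem main_formula (X X' : Scheme.{u}) (δ : X → ℤ) (δ' : X' → ℤ) (hX : Cyc.IsSetup X δ)
    (hX' : Cyc.IsSetup X' δ') (p : X' ⟶ X) [Flat p] (c : ℤ)
    (hc : ∀ x' : X', (∀ y, p y = p x' → y ⤳ x' → y = x') → δ' x' = δ (p x') + c)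
    (L : X.Modules) (hL : PicF.IsInvertible L) (α : AlgebraicCycle X ℤ)
    (t : (y : X) → L.presheaf.stalk y)
    (ht : ∀ y, Function.Bijective (fun a : X.presheaf.stalk y => a • t y))
    (v : (ξ : X) → Cyc.secFibre L ξ) (ψ : (ξ : X) → X.presheaf.stalk ξ)
    (hψ : ∀ ξ, v ξ = ψ ξ • mkF L ξ (t ξ)) (hgv : ∀ ξ, X.residue ξ (ψ ξ) ≠ 0)
    (u : (ξ : X') → Cyc.secFibre ((Scheme.Modules.pullback p).obj L) ξ)
    (φ : (ξ' : X') → X'.presheaf.stalk ξ')
    (hφ : ∀ ξ', u ξ' = φ ξ' • mkF ((Scheme.Modules.pullback p).obj L) ξ'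
      (pgFun p L ξ' (t (p ξ'))))
    (hgu : ∀ ξ', X'.residue ξ' (φ ξ') ≠ 0) (x' : X') :
    Cyc.pullFun p δ' δ c (Cyc.c1CapFun δ L ⇑α v) x' -
      Cyc.c1CapFun δ' ((Scheme.Modules.pullback p).obj L) (Cyc.pullFun p δ' δ c ⇑α) u x' =
    ∑ᶠ ξ' : X', Cyc.pullFun p δ' δ c ⇑α ξ' *
      Cyc.divFun δ' ξ' (p.residueFieldMap ξ' (X.residue (p ξ') (ψ (p ξ'))) *
        (X'.residue ξ' (φ ξ'))⁻¹) x' := by
  classical
  have H := hyp_of_hc p hX hX' hc
  haveI := hX'.1
  have hL' : PicF.IsInvertible ((Scheme.Modules.pullback p).obj L) :=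
    Groth.Agent.Helper4.PullSec.isInvertible_pullback p hL
  haveI : L.IsQuasicoherent := isQuasicoherent_of_isInvertible L hL
  haveI : ((Scheme.Modules.pullback p).obj L).IsQuasicoherent :=
    isQuasicoherent_of_isInvertible _ hL'
  have ht' : ∀ y' : X', Function.Bijective
      (fun r : X'.presheaf.stalk y' => r • pgFun p L y' (t (p y'))) :=
    fun y' => bijective_pgFun p L y' (fr1At_of_isInvertible _ hL' y') (ht (p y'))
  choose w hw hwt using fun ξ => exists_w L ξ (p x') (ht ξ) (ht (p x'))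
  have hw0 : ∀ ξ, X.residue ξ (w ξ) ≠ 0 := fun ξ => residue_ne_zero_of_isUnit ξ (hw ξ)
  have hres : ∀ (ξ' : X') (a : X.presheaf.stalk (p ξ')),
      X'.residue ξ' ((p.stalkMap ξ').hom a) = p.residueFieldMap ξ' (X.residue (p ξ') a) := by
    intro ξ' a
    have := congrArg (fun f => f.hom a) (Scheme.residue_residueFieldMap p ξ')
    exact this.symm
  set G : (ξ : X) → X.residueField ξ :=
    fun ξ => X.residue ξ (ψ ξ) * (X.residue ξ (w ξ))⁻¹ with hG
  have hG0 : ∀ ξ, G ξ ≠ 0 := fun ξ => mul_ne_zero (hgv ξ) (inv_ne_zero (hw0 ξ))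
  have hc1 : Cyc.c1CapFun δ L ⇑α v (p x') = ∑ᶠ ξ, α ξ * Cyc.divFun δ ξ (G ξ) (p x') := by
    unfold Cyc.c1CapFun
    refine finsum_congr fun ξ => ?_
    rw [secDivFun_eq_divFun δ L ξ (p x') (ht ξ) (ht (p x')) (w ξ) (hw ξ) (hwt ξ) (v ξ) (ψ ξ)
      (hψ ξ) (hgv ξ)]
  have e1 : Cyc.pullFun p δ' δ c (Cyc.c1CapFun δ L ⇑α v) x' = ∑ᶠ ξ' : X', (pullCycle p H.h3 α) ξ' *
      Cyc.divFun δ' ξ' (p.residueFieldMap ξ' (G (p ξ'))) x' := by
    rw [pullFun_finsum p _ _ _ x' hc1]
    simp_rw [core p H _ _ (hG0 _) x']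
    let FF : X → X' → ℤ := fun ξ ξ' =>
      if p ξ' = ξ ∧ (∀ w : X', p w = p ξ' → w ⤳ ξ' → w = ξ') then
        α ξ * G2 p δ' ξ (G ξ) x' ξ' else 0
    have hstep : ∀ ξ, α ξ * ∑ᶠ t : {ξ' : X' // p ξ' = ξ ∧
        ∀ w : X', p w = p ξ' → w ⤳ ξ' → w = ξ'}, G2 p δ' ξ (G ξ) x' t.1 = ∑ᶠ ξ', FF ξ ξ' := by
      intro ξ
      rw [mul_finsum, finsum_subtype_eq_finsum_cond
        (f := fun ξ' : X' => α ξ * G2 p δ' ξ (G ξ) x' ξ')
        (fun ξ' => p ξ' = ξ ∧ ∀ w : X', p w = p ξ' → w ⤳ ξ' → w = ξ')]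
      refine finsum_congr fun ξ' => ?_
      rw [finsum_eq_if]
    simp_rw [hstep]
    have hfin : (Function.support (Function.uncurry FF)).Finite := by
      refine ((Bivar.finite_support_specializes (pullCycle p H.h3 α) x').image
        (fun ξ' => (p ξ', ξ'))).subset ?_
      rintro ⟨ξ, ξ'⟩ hne
      rw [Function.mem_support, Function.uncurry_apply_pair] at hne
      simp only [FF] at hne
      split_ifs at hne with hcond
      · obtain ⟨rfl, hmax⟩ := hcond
        have hα0 : α (p ξ') ≠ 0 := fun h0 => hne (by rw [h0, zero_mul])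
        have hG2 : G2 p δ' (p ξ') (G (p ξ')) x' ξ' ≠ 0 := fun h0 => hne (by rw [h0, mul_zero])
        unfold G2 at hG2
        rw [dif_pos rfl] at hG2
        have hm : mult p ξ' ≠ 0 := fun h0 => hG2 (by rw [h0, zero_mul])
        refine ⟨ξ', ⟨?_, ?_⟩, rfl⟩
        · by_contra hsp
          apply hG2
          unfold Cyc.divFun
          rw [dif_neg (fun h => hsp h.1), mul_zero]
        · change Cyc.pullFun p δ' δ c ⇑α ξ' ≠ 0
          unfold Cyc.pullFun
          rw [if_pos (H.h2 ξ' hmax)]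
          exact mul_ne_zero hα0 hm
      · exact absurd rfl hne
    rw [finsum_comm' FF hfin]
    refine finsum_congr fun ξ' => ?_
    rw [finsum_eq_single _ (p ξ') (fun ξ hξ => if_neg (fun h => hξ h.1.symm))]
    change (if p ξ' = p ξ' ∧ (∀ w : X', p w = p ξ' → w ⤳ ξ' → w = ξ') then
        α (p ξ') * G2 p δ' (p ξ') (G (p ξ')) x' ξ' else 0) =
      Cyc.pullFun p δ' δ c ⇑α ξ' * _
    by_cases hmax : ∀ w : X', p w = p ξ' → w ⤳ ξ' → w = ξ'
    · rw [if_pos ⟨rfl, hmax⟩]
      unfold G2 Cyc.pullFun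
      rw [dif_pos rfl, if_pos (H.h2 ξ' hmax), ← mul_assoc]
      simp [mult]
    · rw [if_neg (fun h => hmax h.2)]
      unfold Cyc.pullFun
      rw [if_neg (fun h => hmax (H.h3 ξ' h)), zero_mul]
  have e2 : Cyc.c1CapFun δ' ((Scheme.Modules.pullback p).obj L)
      (Cyc.pullFun p δ' δ c ⇑α) u x' = ∑ᶠ ξ' : X', (pullCycle p H.h3 α) ξ' *
      Cyc.divFun δ' ξ' (X'.residue ξ' (φ ξ') *
        (p.residueFieldMap ξ' (X.residue (p ξ') (w (p ξ'))))⁻¹) x' := by
    unfold Cyc.c1CapFun
    refine finsum_congr fun ξ' => ?_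
    have hwt' : ∀ h' : ξ' ⤳ x',
        (((Scheme.Modules.pullback p).obj L).presheaf.stalkSpecializes h').hom
          (pgFun p L x' (t (p x'))) =
        (p.stalkMap ξ').hom (w (p ξ')) • pgFun p L ξ' (t (p ξ')) := by
      intro h'
      rw [pgFun_sp p L h', hwt (p ξ') (h'.map p.continuous), pgFun_smul]
    rw [secDivFun_eq_divFun δ' _ ξ' x' (ht' ξ') (ht' x') _ ((hw (p ξ')).map _) hwt' (u ξ') (φ ξ')
      (hφ ξ') (hgu ξ'), hres]
    rfl
  have hsupp : ∀ g : (ξ' : X') → X'.residueField ξ',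
      (Function.support fun ξ' => (pullCycle p H.h3 α) ξ' * Cyc.divFun δ' ξ' (g ξ') x').Finite := by
    intro g
    refine (Bivar.finite_support_specializes (pullCycle p H.h3 α) x').subset ?_
    intro ξ' hξ'
    rw [Function.mem_support] at hξ'
    refine ⟨?_, fun h0 => hξ' (by rw [h0, zero_mul])⟩
    by_contra hsp
    apply hξ'
    unfold Cyc.divFun
    rw [dif_neg (fun h => hsp h.1), mul_zero]
  rw [e1, e2,
    ← finsum_sub_distrib (hsupp _) (hsupp _)]
  refine finsum_congr fun ξ' => ?_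
  change _ = (pullCycle p H.h3 α) ξ' * _
  have hP1 : p.residueFieldMap ξ' (X.residue (p ξ') (ψ (p ξ'))) ≠ 0 :=
    (map_ne_zero_iff _ (p.residueFieldMap ξ').hom.injective).mpr (hgv (p ξ'))
  have hP2 : p.residueFieldMap ξ' (X.residue (p ξ') (w (p ξ'))) ≠ 0 :=
    (map_ne_zero_iff _ (p.residueFieldMap ξ').hom.injective).mpr (hw0 (p ξ'))
  rw [hG, map_mul, map_inv₀, divFun_mul δ' ξ' _ _ hP1 (inv_ne_zero hP2),
    divFun_mul δ' ξ' _ _ (hgu ξ') (inv_ne_zero hP2),
    divFun_mul δ' ξ' _ _ hP1 (inv_ne_zero (hgu ξ')), divFun_inv δ' ξ' _ (hgu ξ')]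
  ring


end formula

end Groth.Agent.Helper3.Gysin
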