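import Mathlib
import Groth.Prelude
import Groth.Agent.Helper3.GysinC
import Groth.Agent.Helper3.CycPBE
import Groth.Agent.Helper3.CycLimD
import Groth.Agent.Lead.PushLen

/-!
# The Gysin map commutes with flat pullback
-/

set_option autoImplicit false
set_option linter.style.haveILetI false
set_option linter.unusedSectionVars false
set_option linter.unusedVariables false
set_option linter.deprecated false
set_option linter.style.haveILetI false
set_option linter.unusedSectionVars false
set_option linter.unusedVariables false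

universe u

open CategoryTheory CategoryTheory.Limits AlgebraicGeometry TopologicalSpace Opposite

namespace Groth.Agent.Helper3.Gysin

open Groth.Agent.Helper3.SecOrd Groth.Agent.Helper3.PullGen Groth.Agent.Helper3.PushRat

section alg

/-- generators of the same principal ideal of a local ring are associated -/
theorem exists_unit_mul_of_span_eq {R : Type*} [CommRing R] [IsLocalRing R] {a b : R}
    (h : Ideal.span {a} = Ideal.span {b}) : ∃ e : R, IsUnit e ∧ a = e * b := by
  have ha : a ∈ Ideal.span {b} := h ▸ Ideal.subset_span rfl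
  have hb : b ∈ Ideal.span {a} := h.symm ▸ Ideal.subset_span rfl
  obtain ⟨c, rfl⟩ := Ideal.mem_span_singleton'.mp ha
  obtain ⟨d, hd⟩ := Ideal.mem_span_singleton'.mp hb
  by_cases hc : IsUnit c
  · exact ⟨c, hc, rfl⟩
  · have h1 : IsUnit (1 - d * c) := by
      have hdc : d * c ∈ IsLocalRing.maximalIdeal R :=
        Ideal.mul_mem_left _ _ ((IsLocalRing.mem_maximalIdeal c).mpr hc)
      have := IsLocalRing.isUnit_one_sub_self_of_mem_nonunits (d * c)
        ((IsLocalRing.mem_maximalIdeal _).mp hdc)
      exact this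
    have h2 : (1 - d * c) * b = 0 := by
      rw [sub_mul, one_mul, mul_assoc, hd, sub_self]
    have hb0 : b = 0 := by
      exact h1.mul_right_eq_zero.mp h2
    refine ⟨1, isUnit_one, ?_⟩
    rw [hb0, mul_zero, mul_zero]

/-- lengths of quotients along a surjective ring map -/
theorem length_quot_map_of_surjective {B B' : Type u} [CommRing B] [CommRing B'] (π : B →+* B')
    (hπ : Function.Surjective π) (I : Ideal B) (hI : RingHom.ker π ≤ I) :
    Module.length B' (B' ⧸ I.map π) = Module.length B (B ⧸ I) := by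
  have hcomap : (I.map π).comap π = I := by
    rw [Ideal.comap_map_of_surjective π hπ, ← RingHom.ker_eq_comap_bot, sup_eq_left]
    exact hI
  let e : (B ⧸ I) ≃+* (B' ⧸ I.map π) :=
    RingEquiv.ofBijective (Ideal.quotientMap (I.map π) π Ideal.le_comap_map)
      ⟨Ideal.quotientMap_injective' hcomap.le, Ideal.quotientMap_surjective hπ⟩
  symm
  refine Groth.Agent.Lead.PushLen.length_eq_of_semilinear B B' π hπ (B ⧸ I) (B' ⧸ I.map π)
    e.toAddEquiv ?_
  intro r n
  obtain ⟨m, rfl⟩ := Ideal.Quotient.mk_surjective n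
  change e (r • Ideal.Quotient.mk I m) = π r • e (Ideal.Quotient.mk I m)
  rw [Algebra.smul_def, map_mul, Algebra.smul_def]
  rfl

end alg

section mult

variable {X' D X : Scheme.{u}} (f : X' ⟶ X) (i : D ⟶ X) [IsClosedImmersion i]

theorem map_ρ_maximalIdeal (z : ↑(pullback f i)) :
    Ideal.map (ρ f i z).hom
      (IsLocalRing.maximalIdeal (X.presheaf.stalk (f (pullback.fst f i z)))) =
    IsLocalRing.maximalIdeal (D.presheaf.stalk (pullback.snd f i z)) := by
  apply le_antisymm
  · rw [Ideal.map_le_iff_le_comap]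
    intro c hc
    rw [Ideal.mem_comap, IsLocalRing.mem_maximalIdeal, mem_nonunits_iff]
    intro hu
    -- `ρ` is a local homomorphism
    have hloc : IsLocalHom (ρ f i z).hom := by
      unfold ρ
      rw [CommRingCat.hom_comp]
      haveI : IsLocalHom (i.stalkMap (pullback.snd f i z)).hom := inferInstance
      haveI : IsLocalHom
          (X.presheaf.stalkSpecializes (specializes_of_eq (cond_apply f i z))).hom := by
        have key : ∀ {a b : X} (h : a = b),
            IsLocalHom (X.presheaf.stalkSpecializes (specializes_of_eq h)).hom := by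
          intro a b h
          subst h
          have : X.presheaf.stalkSpecializes (specializes_of_eq (rfl : a = a)) = 𝟙 _ :=
            TopCat.Presheaf.stalkSpecializes_refl _ _
          rw [this]
          exact ⟨fun a ha => ha⟩
        exact key (cond_apply f i z)
      exact RingHom.isLocalHom_comp _ _
    exact (IsLocalRing.mem_maximalIdeal c).mp hc (hloc.map_nonunit c hu)
  · intro b hb
    obtain ⟨a, rfl⟩ := ρ_surjective f i z b
    refine Ideal.mem_map_of_mem _ ?_
    rw [IsLocalRing.mem_maximalIdeal, mem_nonunits_iff]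
    intro hu
    exact (IsLocalRing.mem_maximalIdeal _).mp hb (hu.map _)

/-- the fibre multiplicities of `f` and of its base change to `D` agree -/
theorem Lfun_snd (z : ↑(pullback f i)) :
    CycPBE.Lfun (pullback.snd f i) z = CycPBE.Lfun f (pullback.fst f i z) := by
  unfold CycPBE.Lfun
  set I := Ideal.map (f.stalkMap (pullback.fst f i z)).hom
    (IsLocalRing.maximalIdeal (X.presheaf.stalk (f (pullback.fst f i z)))) with hI
  have hker : RingHom.ker ((pullback.fst f i).stalkMap z).hom ≤ I := by
    rw [ker_stalkMap_fst]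
    exact Ideal.map_mono (ker_ρ_le f i z)
  have hmap : I.map ((pullback.fst f i).stalkMap z).hom =
      Ideal.map ((pullback.snd f i).stalkMap z).hom
        (IsLocalRing.maximalIdeal (D.presheaf.stalk (pullback.snd f i z))) := by
    rw [hI, Ideal.map_map, ← map_ρ_maximalIdeal f i z, Ideal.map_map]
    congr 1
    have := ρ_comp f i z
    rw [← CommRingCat.hom_comp, ← CommRingCat.hom_comp, this]
  rw [← hmap]
  exact length_quot_map_of_surjective _ ((pullback.fst f i).stalkMap_surjective z) I hker

theorem pullFun_snd (δ : X → ℤ) (δ' : X' → ℤ) (r : ℤ) (G : X → ℤ) (z : ↑(pullback f i)) :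
    Cyc.pullFun (pullback.snd f i) (fun z => δ' (pullback.fst f i z)) (fun d => δ (i d)) r
      (fun d => G (i d)) z = Cyc.pullFun f δ' δ r G (pullback.fst f i z) := by
  rw [CycPBE.pullFun_eq, CycPBE.pullFun_eq, Lfun_snd]
  simp only [cond_apply f i z]

end mult


section vanish

open Groth.Agent.Lead.Ref1H

variable {X X' : Scheme.{u}} (p : X' ⟶ X) (L : X.Modules) [L.IsQuasicoherent]
  [((Scheme.Modules.pullback p).obj L).IsQuasicoherent]

/-- two sections of `p^*L` which differ by a unit at a point have ratio of order zero there -/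
theorem divFun_ratio_eq_zero (δ' : X' → ℤ) (s : L.presheaf.obj (Opposite.op ⊤))
    (s' : ((Scheme.Modules.pullback p).obj L).presheaf.obj (Opposite.op ⊤))
    (t : (y : X) → L.presheaf.stalk y)
    (ht : ∀ y, Function.Bijective (fun a : X.presheaf.stalk y => a • t y))
    (ht' : ∀ y' : X', Function.Bijective
      (fun r : X'.presheaf.stalk y' => r • pgFun p L y' (t (p y'))))
    (b : (y : X) → X.presheaf.stalk y)
    (hb : ∀ y, (L.presheaf.germ ⊤ y trivial) s = b y • t y)
    (a : (x' : X') → X'.presheaf.stalk x')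
    (ha : ∀ x', (((Scheme.Modules.pullback p).obj L).presheaf.germ ⊤ x' trivial) s' =
      a x' • pgFun p L x' (t (p x')))
    (ξ' x' : X') (hab : ∃ e, IsUnit e ∧ a x' = e * (p.stalkMap x').hom (b (p x')))
    (hne : X'.residue ξ' (a ξ') ≠ 0) :
    Cyc.divFun δ' ξ' (p.residueFieldMap ξ' (X.residue (p ξ') (b (p ξ'))) *
      (X'.residue ξ' (a ξ'))⁻¹) x' = 0 := by
  unfold Cyc.divFun
  split_ifs with h
  swap
  · rfl
  obtain ⟨w, hw, hwt⟩ := exists_unit_sp L (h.1.map p.continuous) (ht (p ξ')) (ht (p x'))
  have hb' : b (p ξ') =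
      (X.presheaf.stalkSpecializes (h.1.map p.continuous)).hom (b (p x')) * w := by
    apply (ht (p ξ')).1
    change b (p ξ') • t (p ξ') = (_ * w) • t (p ξ')
    rw [← hb (p ξ'), ← sp_germ L (h.1.map p.continuous) (U := ⊤) trivial s, hb (p x'), sp_smul,
      hwt, smul_smul]
  have ha' : a ξ' = (X'.presheaf.stalkSpecializes h.1).hom (a x') * (p.stalkMap ξ').hom w := by
    apply (ht' ξ').1
    change a ξ' • pgFun p L ξ' (t (p ξ')) = (_ * _) • pgFun p L ξ' (t (p ξ'))
    rw [← ha ξ', ← sp_germ ((Scheme.Modules.pullback p).obj L) h.1 (U := ⊤) trivial s', ha x',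
      sp_smul, pgFun_sp p L h.1, hwt, pgFun_smul, smul_smul]
  obtain ⟨e, he, hae⟩ := hab
  have hcomm : (X'.presheaf.stalkSpecializes h.1).hom ((p.stalkMap x').hom (b (p x'))) =
      (p.stalkMap ξ').hom ((X.presheaf.stalkSpecializes (h.1.map p.continuous)).hom (b (p x'))) :=
    (Scheme.Hom.stalkSpecializes_stalkMap_apply p ξ' x' h.1 (b (p x'))).symm
  have key : a ξ' = (X'.presheaf.stalkSpecializes h.1).hom e * (p.stalkMap ξ').hom (b (p ξ')) := by
    rw [ha', hae, map_mul, hcomm, hb', map_mul]
    ring
  have hres : X'.residue ξ' ((p.stalkMap ξ').hom (b (p ξ'))) =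
      p.residueFieldMap ξ' (X.residue (p ξ') (b (p ξ'))) := by
    have := congrArg (fun f => f.hom (b (p ξ'))) (Scheme.residue_residueFieldMap p ξ')
    exact this.symm
  have hspec : X'.residue ξ' ((X'.presheaf.stalkSpecializes h.1).hom e) =
      Cyc.specMap x' ξ' h.1 e := rfl
  have hra : X'.residue ξ' (a ξ') = Cyc.specMap x' ξ' h.1 e *
      p.residueFieldMap ξ' (X.residue (p ξ') (b (p ξ'))) := by
    rw [key, map_mul, hres, hspec]
  have hP0 : p.residueFieldMap ξ' (X.residue (p ξ') (b (p ξ'))) ≠ 0 := by
    intro h0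
    apply hne
    rw [hra, h0, mul_zero]
  have he0 : Cyc.specMap x' ξ' h.1 e ≠ 0 := by
    intro h0
    apply hne
    rw [hra, h0, zero_mul]
  have hratio : p.residueFieldMap ξ' (X.residue (p ξ') (b (p ξ'))) * (X'.residue ξ' (a ξ'))⁻¹ =
      (Cyc.specMap x' ξ' h.1 e)⁻¹ := by
    rw [hra]
    field_simp
  rw [hratio, ordAt_inv x' ξ' h.1 _ he0, CycLimD.ordAt_unit x' ξ' h.1 e he, neg_zero]

end vanish


section units

open Groth.Agent.Lead.Ref1H Groth.Agent.Lead.Ref1K Groth.Agent.Helper4.QAffSec

variable {X' D X : Scheme.{u}}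

/-- the class of a section in the fibre, in coordinates -/
theorem mk_germ_eq_zero_iff (M : X.Modules) (y : X) {t : M.presheaf.stalk y}
    (ht : Function.Bijective (fun a : X.presheaf.stalk y => a • t)) (m : M.presheaf.stalk y)
    (b : X.presheaf.stalk y) (hb : m = b • t) :
    (Submodule.Quotient.mk m : Cyc.secFibre M y) = 0 ↔ ¬ IsUnit b := by
  rw [hb, Submodule.Quotient.mk_smul, smul_mk_eq_zero_iff ht b, IsLocalRing.mem_maximalIdeal,
    mem_nonunits_iff]

/-- the ideal of the zero scheme at a point, transported along an equality of points -/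
theorem ker_eq_span_of_zeroScheme (L : X.Modules) (s : L.presheaf.obj (Opposite.op ⊤))
    (i : D ⟶ X) (hD : Cyc.IsZeroSchemeOf i L s) (d : D) (y : X) (hy : i d = y)
    {t : L.presheaf.stalk y} (ht : Function.Bijective (fun a : X.presheaf.stalk y => a • t))
    (b : X.presheaf.stalk y) (hb : (L.presheaf.germ ⊤ y trivial) s = b • t) :
    RingHom.ker (X.presheaf.stalkSpecializes (specializes_of_eq hy) ≫ i.stalkMap d).hom =
      Ideal.span {b} := by
  subst hy
  have h1 : X.presheaf.stalkSpecializes (specializes_of_eq (rfl : i d = i d)) = 𝟙 _ :=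
    TopCat.Presheaf.stalkSpecializes_refl _ _
  rw [h1, Category.id_comp]
  obtain ⟨t₀, b₀, hspan₀, hs₀, hker₀⟩ := hD.2 d
  obtain ⟨e, he, hte⟩ := exists_unit_of_span ht hspan₀
  have hbe : b = b₀ * e := by
    apply ht.1
    change b • t = (b₀ * e) • t
    rw [← hb, hs₀, hte, smul_smul]
  rw [hker₀, hbe]
  exact (Ideal.span_singleton_mul_right_unit he b₀).symm

/-- **sections with zero schemes `D` and `f⁻¹ D` differ by a unit at every point** -/
theorem exists_unit_of_zeroSchemes (f : X' ⟶ X) (L : X.Modules) (hL : PicF.IsInvertible L)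
    (s : L.presheaf.obj (Opposite.op ⊤)) (i : D ⟶ X) [IsClosedImmersion i]
    (hD : Cyc.IsZeroSchemeOf i L s)
    (s' : ((Scheme.Modules.pullback f).obj L).presheaf.obj (Opposite.op ⊤))
    (hD' : Cyc.IsZeroSchemeOf (pullback.fst f i) ((Scheme.Modules.pullback f).obj L) s')
    (t : (y : X) → L.presheaf.stalk y)
    (ht : ∀ y, Function.Bijective (fun a : X.presheaf.stalk y => a • t y))
    (ht' : ∀ y' : X', Function.Bijective
      (fun r : X'.presheaf.stalk y' => r • pgFun f L y' (t (f y'))))
    (b : (y : X) → X.presheaf.stalk y)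
    (hb : ∀ y, (L.presheaf.germ ⊤ y trivial) s = b y • t y)
    (a : (x' : X') → X'.presheaf.stalk x')
    (ha : ∀ x', (((Scheme.Modules.pullback f).obj L).presheaf.germ ⊤ x' trivial) s' =
      a x' • pgFun f L x' (t (f x')))
    (x' : X') : ∃ e, IsUnit e ∧ a x' = e * (f.stalkMap x').hom (b (f x')) := by
  by_cases hx : x' ∈ Set.range (pullback.fst f i)
  · obtain ⟨z, rfl⟩ := hx
    obtain ⟨t'', a'', hspan, hs'', hker''⟩ := hD'.2 z
    obtain ⟨e₁, he₁, hte⟩ := exists_unit_of_span (ht' (pullback.fst f i z)) hspan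
    have hae : a (pullback.fst f i z) = a'' * e₁ := by
      apply (ht' (pullback.fst f i z)).1
      change a (pullback.fst f i z) • pgFun f L _ (t (f (pullback.fst f i z))) =
        (a'' * e₁) • pgFun f L _ (t (f (pullback.fst f i z)))
      rw [← ha, hs'', hte, smul_smul]
    have h1 : Ideal.span {a (pullback.fst f i z)} =
        RingHom.ker ((pullback.fst f i).stalkMap z).hom := by
      rw [hker'', hae]
      exact Ideal.span_singleton_mul_right_unit he₁ a''
    have h2 : RingHom.ker (ρ f i z).hom = Ideal.span {b (f (pullback.fst f i z))} :=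
      ker_eq_span_of_zeroScheme L s i hD (pullback.snd f i z) (f (pullback.fst f i z))
        (cond_apply f i z) (ht _) (b _) (hb _)
    have h3 : Ideal.span {a (pullback.fst f i z)} =
        Ideal.span {(f.stalkMap (pullback.fst f i z)).hom (b (f (pullback.fst f i z)))} := by
      rw [h1, ker_stalkMap_fst, h2, Ideal.map_span, Set.image_singleton]
    exact exists_unit_mul_of_span_eq h3
  · have hx1 : ¬ ((Submodule.Quotient.mk
        ((((Scheme.Modules.pullback f).obj L).presheaf.germ ⊤ x' trivial) s') :
        Cyc.secFibre ((Scheme.Modules.pullback f).obj L) x') = 0) := by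
      intro h0
      apply hx
      rw [hD'.1]
      exact h0
    rw [mk_germ_eq_zero_iff _ x' (ht' x') _ (a x') (ha x'), not_not] at hx1
    have hfx : f x' ∉ Set.range i := by
      intro hmem
      apply hx
      rw [Scheme.Pullback.range_fst]
      exact hmem
    have hx2 : ¬ ((Submodule.Quotient.mk ((L.presheaf.germ ⊤ (f x') trivial) s) :
        Cyc.secFibre L (f x')) = 0) := by
      intro h0
      apply hfx
      rw [hD.1]
      exact h0
    rw [mk_germ_eq_zero_iff L (f x') (ht (f x')) _ (b (f x')) (hb (f x')), not_not] at hx2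
    have hx3 : IsUnit ((f.stalkMap x').hom (b (f x'))) := hx2.map _
    obtain ⟨c, hc⟩ := hx3.exists_left_inv
    refine ⟨a x' * c, hx1.mul (IsUnit.of_mul_eq_one _ hc), ?_⟩
    rw [mul_assoc, hc, mul_one]

end units

end Groth.Agent.Helper3.Gysin
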