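import Mathlib
import Groth.Prelude
import Groth.Agent.Helper3.PullDivL
import Groth.Agent.Helper3.PullDivC

set_option autoImplicit false
set_option linter.style.haveILetI false
set_option linter.unusedSectionVars false
set_option linter.unusedVariables false
set_option linter.deprecated false
set_option linter.style.haveILetI false
set_option linter.unusedSectionVars false
set_option linter.unusedVariables false

namespace Groth.Agent.Helper3.PullDivM

universe u

open AlgebraicGeometry CategoryTheory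

theorem pullFun_sub {X Y : Scheme.{u}} (f : X ⟶ Y) (δX : X → ℤ) (δY : Y → ℤ) (r : ℤ)
    (a b : Y → ℤ) :
    Cyc.pullFun f δX δY r (a - b) = Cyc.pullFun f δX δY r a - Cyc.pullFun f δX δY r b := by
  funext x
  unfold Cyc.pullFun
  simp only [Pi.sub_apply]
  split_ifs
  · ring
  · ring

theorem main (X Y : Scheme.{u}) (δX : X → ℤ) (δY : Y → ℤ) (hX : Cyc.IsSetup X δX)
    (hY : Cyc.IsSetup Y δY) (f : X ⟶ Y) [Flat f] [LocallyOfFiniteType f] (r : ℕ)
    (hr : Cyc.HasRelDim f r) (hδ : Cyc.DeltaCompat f δX δY) (k : ℤ) (α β : AlgebraicCycle Y ℤ)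
    (h : Cyc.RatEquiv δY k α β)
    (α' β' : AlgebraicCycle X ℤ) (hα' : ⇑α' = Cyc.pullFun f δX δY r ⇑α)
    (hβ' : ⇑β' = Cyc.pullFun f δX δY r ⇑β) : Cyc.RatEquiv δX (k + r) α' β' := by
  unfold Cyc.RatEquiv at h ⊢
  refine PullDivL.main Y X δY δX hY hX f (r : ℤ)
    (fun x' hmax => PullDivC.delta_of_max f r hr δX δY hδ x' hmax) k (α - β) h (α' - β') ?_
  have e1 : ⇑(α' - β') = ⇑α' - ⇑β' := Function.locallyFinsuppWithin.coe_sub _ _
  have e2 : ⇑(α - β) = ⇑α - ⇑β := Function.locallyFinsuppWithin.coe_sub _ _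
  rw [e1, e2, pullFun_sub, hα', hβ']

end Groth.Agent.Helper3.PullDivM
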