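import Mathlib
import Groth.Prelude
import Groth.Agent.Helper3.GysinD
import Groth.Agent.Helper3.DivTrF
import Groth.Agent.Helper3.PullDivM

/-!
# The Gysin map commutes with flat pullback (assembly)
-/

set_option autoImplicit false
set_option linter.style.haveILetI false
set_option linter.unusedSectionVars false
set_option linter.unusedVariables false
set_option linter.deprecated false
set_option linter.style.haveILetI false
set_option linter.unusedSectionVars false
set_option linter.unusedVariables false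

universe u

open CategoryTheory CategoryTheory.Limits AlgebraicGeometry TopologicalSpace Opposite

namespace Groth.Agent.Helper3.Gysin

open Groth.Agent.Helper3.SecOrd Groth.Agent.Helper3.PullGen Groth.Agent.Helper3.PushRat
  Groth.Agent.Lead.Ref1K Groth.Agent.Helper4.QAffSec Groth.Agent.Helper3.PullDivL

section coords

variable {X : Scheme.{u}}

/-- coordinates for the Gysin choice of rational sections -/
theorem exists_gysin_coords (L : X.Modules) (s : L.presheaf.obj (Opposite.op ⊤))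
    (t : (y : X) → L.presheaf.stalk y)
    (ht : ∀ y, Function.Bijective (fun a : X.presheaf.stalk y => a • t y))
    (b : (y : X) → X.presheaf.stalk y)
    (hb : ∀ y, (L.presheaf.germ ⊤ y trivial) s = b y • t y)
    (w : (ξ : X) → Cyc.secFibre L ξ) (hw : ∀ ξ, w ξ ≠ 0) :
    ∃ ψ : (ξ : X) → X.presheaf.stalk ξ,
      (∀ ξ, Cyc.gysinChoice L s w ξ = ψ ξ • mkF L ξ (t ξ)) ∧ (∀ ξ, X.residue ξ (ψ ξ) ≠ 0) ∧
        ∀ ξ, IsUnit (b ξ) → ψ ξ = b ξ := by
  classical
  choose ψ₀ hψ₀ hgw using fun ξ => exists_coeff L ξ (t ξ) (ht ξ) (w ξ) (hw ξ)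
  refine ⟨fun ξ => if IsUnit (b ξ) then b ξ else ψ₀ ξ, ?_, ?_, ?_⟩
  · intro ξ
    unfold Cyc.gysinChoice
    dsimp only
    by_cases hu : IsUnit (b ξ)
    · have hne : (Submodule.Quotient.mk ((L.presheaf.germ ⊤ ξ trivial) s) :
          Cyc.secFibre L ξ) ≠ 0 := by
        rw [Ne, mk_germ_eq_zero_iff L ξ (ht ξ) _ (b ξ) (hb ξ), not_not]
        exact hu
      rw [if_pos hne, if_pos hu, hb ξ]
      rfl
    · have h0 : (Submodule.Quotient.mk ((L.presheaf.germ ⊤ ξ trivial) s) :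
          Cyc.secFibre L ξ) = 0 :=
        (mk_germ_eq_zero_iff L ξ (ht ξ) _ (b ξ) (hb ξ)).mpr hu
      rw [if_neg (not_not.mpr h0), if_neg hu]
      exact hψ₀ ξ
  · intro ξ
    dsimp only
    by_cases hu : IsUnit (b ξ)
    · rw [if_pos hu]
      exact residue_ne_zero_of_isUnit ξ hu
    · rw [if_neg hu]
      exact hgw ξ
  · intro ξ hu
    dsimp only
    rw [if_pos hu]

end coords


section main

theorem gysin_pull (X X' D : Scheme.{u}) (δ : X → ℤ) (δ' : X' → ℤ) (hX : Cyc.IsSetup X δ)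
    (hX' : Cyc.IsSetup X' δ') (f : X' ⟶ X) [Flat f] [LocallyOfFiniteType f] (r : ℕ)
    (hr : Cyc.HasRelDim f r) (hδ : Cyc.DeltaCompat f δ' δ) (L : X.Modules)
    (hL : PicF.IsInvertible L) (s : L.presheaf.obj (Opposite.op ⊤)) (i : D ⟶ X)
    [IsClosedImmersion i] (hD : Cyc.IsZeroSchemeOf i L s)
    (s' : ((Scheme.Modules.pullback f).obj L).presheaf.obj (Opposite.op ⊤))
    (hD' : Cyc.IsZeroSchemeOf (pullback.fst f i) ((Scheme.Modules.pullback f).obj L) s')
    (k : ℤ) (α : AlgebraicCycle X ℤ) (hα : α ∈ Cyc.Zk X δ (k + 1))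
    (w : (ξ : X) → Cyc.secFibre L ξ) (hw : ∀ ξ, w ξ ≠ 0)
    (w' : (ξ : X') → Cyc.secFibre ((Scheme.Modules.pullback f).obj L) ξ) (hw' : ∀ ξ, w' ξ ≠ 0)
    (ζ₁ ζ₂ : AlgebraicCycle (pullback f i) ℤ)
    (h₁ : ∀ z, ζ₁ z = Cyc.c1CapFun δ' ((Scheme.Modules.pullback f).obj L)
      (Cyc.pullFun f δ' δ r ⇑α) (Cyc.gysinChoice ((Scheme.Modules.pullback f).obj L) s' w')
      (pullback.fst f i z))
    (h₂ : ⇑ζ₂ = Cyc.pullFun (pullback.snd f i) (fun z => δ' (pullback.fst f i z))
      (fun d => δ (i d)) r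
      (fun d => Cyc.c1CapFun δ L ⇑α (Cyc.gysinChoice L s w) (i d))) :
    Cyc.RatEquiv (fun z => δ' (pullback.fst f i z)) (k + r) ζ₁ ζ₂ := by
  classical
  have hc : ∀ x' : X', (∀ y, f y = f x' → y ⤳ x' → y = x') → δ' x' = δ (f x') + (r : ℤ) :=
    fun x' hmax => Groth.Agent.Helper3.PullDivC.delta_of_max f r hr δ' δ hδ x' hmax
  have H := hyp_of_hc f hX hX' hc
  haveI := hX'.1
  have hL' : PicF.IsInvertible ((Scheme.Modules.pullback f).obj L) :=
    Groth.Agent.Helper4.PullSec.isInvertible_pullback f hL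
  haveI : L.IsQuasicoherent := isQuasicoherent_of_isInvertible L hL
  haveI : ((Scheme.Modules.pullback f).obj L).IsQuasicoherent :=
    isQuasicoherent_of_isInvertible _ hL'
  choose t ht using fun y : X => fr1At_of_isInvertible L hL y
  have ht' : ∀ y' : X', Function.Bijective
      (fun r : X'.presheaf.stalk y' => r • pgFun f L y' (t (f y'))) :=
    fun y' => bijective_pgFun f L y' (fr1At_of_isInvertible _ hL' y') (ht (f y'))
  choose b hb0 using fun y : X => (ht y).2 ((L.presheaf.germ ⊤ y trivial) s)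
  have hb : ∀ y, (L.presheaf.germ ⊤ y trivial) s = b y • t y := fun y => (hb0 y).symm
  choose a ha0 using fun x' : X' => (ht' x').2
    ((((Scheme.Modules.pullback f).obj L).presheaf.germ ⊤ x' trivial) s')
  have ha : ∀ x', (((Scheme.Modules.pullback f).obj L).presheaf.germ ⊤ x' trivial) s' =
      a x' • pgFun f L x' (t (f x')) := fun x' => (ha0 x').symm
  obtain ⟨ψ, hψ, hgv, hψb⟩ := exists_gysin_coords L s t ht b hb w hw
  obtain ⟨φ, hφ, hgu, hφa⟩ := exists_gysin_coords ((Scheme.Modules.pullback f).obj L) s'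
    (fun x' => pgFun f L x' (t (f x'))) ht' a ha w' hw'
  set hfun : (ξ' : X') → X'.residueField ξ' := fun ξ' =>
    f.residueFieldMap ξ' (X.residue (f ξ') (ψ (f ξ'))) * (X'.residue ξ' (φ ξ'))⁻¹ with hhfun
  have hh0 : ∀ ξ', hfun ξ' ≠ 0 := by
    intro ξ'
    refine mul_ne_zero ?_ (inv_ne_zero (hgu ξ'))
    exact (map_ne_zero_iff _ (f.residueFieldMap ξ').hom.injective).mpr (hgv (f ξ'))
  -- vanishing away from `D'`
  have hvan : ∀ ξ' x' : X', ξ' ∉ Set.range (pullback.fst f i) →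
      Cyc.divFun δ' ξ' (hfun ξ') x' = 0 := by
    intro ξ' x' hξ'
    have hua : IsUnit (a ξ') := by
      have hx1 : ¬ ((Submodule.Quotient.mk
          ((((Scheme.Modules.pullback f).obj L).presheaf.germ ⊤ ξ' trivial) s') :
          Cyc.secFibre ((Scheme.Modules.pullback f).obj L) ξ') = 0) := by
        intro h0
        apply hξ'
        rw [hD'.1]
        exact h0
      rwa [mk_germ_eq_zero_iff _ ξ' (ht' ξ') _ (a ξ') (ha ξ'), not_not] at hx1
    have hub : IsUnit (b (f ξ')) := by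
      have hfx : f ξ' ∉ Set.range i := by
        intro hmem
        apply hξ'
        rw [Scheme.Pullback.range_fst]
        exact hmem
      have hx2 : ¬ ((Submodule.Quotient.mk ((L.presheaf.germ ⊤ (f ξ') trivial) s) :
          Cyc.secFibre L (f ξ')) = 0) := by
        intro h0
        apply hfx
        rw [hD.1]
        exact h0
      rwa [mk_germ_eq_zero_iff L (f ξ') (ht (f ξ')) _ (b (f ξ')) (hb (f ξ')), not_not] at hx2
    rw [hhfun]
    simp only []
    rw [hψb (f ξ') hub, hφa ξ' hua]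
    exact divFun_ratio_eq_zero f L δ' s s' t ht ht' b hb a ha ξ' x'
      (exists_unit_of_zeroSchemes f L hL s i hD s' hD' t ht ht' b hb a ha x')
      (residue_ne_zero_of_isUnit ξ' hua)
  -- the family
  set A : X' → ℤ := Cyc.pullFun f δ' δ (r : ℤ) ⇑α with hA
  have hAdim : ∀ ξ', A ξ' ≠ 0 → δ' ξ' = k + r + 1 := by
    intro ξ' hne
    rw [hA] at hne
    unfold Cyc.pullFun at hne
    split_ifs at hne with hcond
    · have hα0 : α (f ξ') ≠ 0 := fun h0 => hne (by rw [h0, zero_mul])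
      have : δ (f ξ') = k + 1 := by
        by_contra hne'
        exact hα0 (hα (f ξ') hne')
      rw [hcond, this]
      ring
    · exact absurd rfl hne
  have hform : ∀ z, (ζ₂ - ζ₁) z =
      ∑ᶠ j : {ξ' : X' // A ξ' ≠ 0 ∧ ξ' ∈ Set.range (pullback.fst f i)},
        Cyc.divFun δ' j.1 ((hfun j.1) ^ (A j.1)) (pullback.fst f i z) := by
    intro z
    rw [Function.locallyFinsuppWithin.coe_sub, Pi.sub_apply, h₁ z, h₂, pullFun_snd f i δ δ' r
      (Cyc.c1CapFun δ L ⇑α (Cyc.gysinChoice L s w)) z,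
      main_formula X X' δ δ' hX hX' f (r : ℤ) hc L hL α t ht _ ψ hψ hgv _ φ hφ hgu
        (pullback.fst f i z)]
    have h2 : ∀ j : {ξ' : X' // A ξ' ≠ 0 ∧ ξ' ∈ Set.range (pullback.fst f i)},
        Cyc.divFun δ' j.1 ((hfun j.1) ^ (A j.1)) (pullback.fst f i z) =
          A j.1 * Cyc.divFun δ' j.1 (hfun j.1) (pullback.fst f i z) :=
      fun j => divFun_zpow δ' _ _ (hh0 j.1) _ _
    rw [finsum_congr h2, finsum_subtype_eq_finsum_cond
      (f := fun ξ' : X' => A ξ' * Cyc.divFun δ' ξ' (hfun ξ') (pullback.fst f i z))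
      (fun ξ' => A ξ' ≠ 0 ∧ ξ' ∈ Set.range (pullback.fst f i))]
    refine finsum_congr fun ξ' => ?_
    rw [finsum_eq_if]
    by_cases hcond : A ξ' ≠ 0 ∧ ξ' ∈ Set.range (pullback.fst f i)
    · rw [if_pos hcond]
    · rw [if_neg hcond]
      by_cases hA0 : A ξ' = 0
      · change A ξ' * _ = 0
        rw [hA0, zero_mul]
      · have hnr : ξ' ∉ Set.range (pullback.fst f i) := fun hmem => hcond ⟨hA0, hmem⟩
        change A ξ' * Cyc.divFun δ' ξ' (hfun ξ') (pullback.fst f i z) = 0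
        rw [hvan ξ' _ hnr, mul_zero]
  have hlf : ∀ x : X', ∃ U : Set X', IsOpen U ∧ x ∈ U ∧
      {j : {ξ' : X' // A ξ' ≠ 0 ∧ ξ' ∈ Set.range (pullback.fst f i)} |
        (closure {j.1} ∩ U).Nonempty}.Finite := by
    intro x
    obtain ⟨U, hUo, hxU, hfin⟩ := locFin_pullFun f H.h3 α x
    refine ⟨U, hUo, hxU, (hfin.preimage (Subtype.val_injective.injOn)).subset ?_⟩
    rintro j ⟨y, hy1, hy2⟩
    have hsp : j.1 ⤳ y := specializes_iff_mem_closure.mpr hy1
    exact ⟨hsp.mem_open hUo hy2, j.2.1⟩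
  refine ratEquiv_symm _ _ _ _ ?_
  exact Groth.Agent.Helper3.DivTrF.ratEquivZero_restrict (pullback.fst f i) δ' (k + r)
    {ξ' : X' // A ξ' ≠ 0 ∧ ξ' ∈ Set.range (pullback.fst f i)} (fun j => j.1)
    (fun j => (hfun j.1) ^ (A j.1)) (fun j => j.2.2) (fun j => hAdim j.1 j.2.1)
    (fun j => zpow_ne_zero _ (hh0 j.1)) hlf (ζ₂ - ζ₁) hform

end main

end Groth.Agent.Helper3.Gysin
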