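import Mathlib
import Groth.Prelude
import Groth.Agent.Helper3.GysinE
import Groth.Agent.Helper3.PullDivK
import Groth.Agent.Helper3.ZeroSecA
import Groth.Agent.Helper3.PushRatC

set_option autoImplicit false
set_option linter.style.haveILetI false
set_option linter.unusedSectionVars false
set_option linter.unusedVariables false
set_option linter.deprecated false
set_option linter.style.haveILetI false
set_option linter.unusedSectionVars false
set_option linter.unusedVariables false

universe u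

open CategoryTheory CategoryTheory.Limits AlgebraicGeometry TopologicalSpace Opposite IsLocalRing
open TensorProduct

namespace Groth.Agent.Helper3.Gysin

section alg

variable {A B C : Type u} [CommRing A] [CommRing B] [CommRing C]

/-- If `b` is regular on `B` and `B/(b)` is flat over `A`, then `b` is regular modulo `I B` for
every ideal `I` of `A`. -/
theorem mem_map_of_mul_mem (φ : A →+* B) (ψ : B →+* C) (hψ : Function.Surjective ψ) (b : B)
    (hker : RingHom.ker ψ = Ideal.span {b}) (hb : IsSMulRegular B b)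
    (hflat : (ψ.comp φ).Flat) (I : Ideal A) (c : B) (hc : b * c ∈ I.map φ) : c ∈ I.map φ := by
  letI : Algebra A B := φ.toAlgebra
  letI : Algebra A C := (ψ.comp φ).toAlgebra
  letI : Algebra B C := ψ.toAlgebra
  haveI : IsScalarTower A B C := IsScalarTower.of_algebraMap_eq (fun _ => rfl)
  haveI : Module.Flat A C := hflat
  let ψl : B →ₗ[A] C := (IsScalarTower.toAlgHom A B C).toLinearMap
  have hψl : ∀ x, ψl x = ψ x := fun x => rfl
  let mb : B →ₗ[A] B := LinearMap.mulLeft A b
  have hmb : ∀ x, mb x = b * x := fun x => rfl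
  have hex : Function.Exact mb ψl := by
    intro x
    rw [hψl, ← RingHom.mem_ker, hker, Ideal.mem_span_singleton']
    constructor
    · rintro ⟨a, rfl⟩
      exact ⟨a, by rw [hmb, mul_comm]⟩
    · rintro ⟨a, rfl⟩
      exact ⟨a, by rw [hmb, mul_comm]⟩
  have hsurj : Function.Surjective ψl := hψ
  let μB : I ⊗[A] B →ₗ[A] B := (TensorProduct.lid A B).toLinearMap ∘ₗ (I.subtype.rTensor B)
  let μC : I ⊗[A] C →ₗ[A] C := (TensorProduct.lid A C).toLinearMap ∘ₗ (I.subtype.rTensor C)
  have hμB : ∀ (a : I) (x : B), μB (a ⊗ₜ x) = φ a * x := by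
    intro a x
    simp only [μB, LinearMap.coe_comp, LinearEquiv.coe_coe, Function.comp_apply,
      LinearMap.rTensor_tmul, Submodule.subtype_apply, TensorProduct.lid_tmul]
    rfl
  have hμC : ∀ (a : I) (x : C), μC (a ⊗ₜ x) = ψ (φ a) * x := by
    intro a x
    simp only [μC, LinearMap.coe_comp, LinearEquiv.coe_coe, Function.comp_apply,
      LinearMap.rTensor_tmul, Submodule.subtype_apply, TensorProduct.lid_tmul]
    rfl
  have hμCinj : Function.Injective μC := by
    have h1 : Function.Injective (I.subtype.rTensor C) :=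
      Module.Flat.rTensor_preserves_injective_linearMap (M := C) I.subtype Subtype.val_injective
    exact (TensorProduct.lid A C).injective.comp h1
  have hnat : ∀ z, ψ (μB z) = μC (ψl.lTensor I z) := by
    intro z
    induction z using TensorProduct.induction_on with
    | zero => simp
    | tmul a x =>
      rw [LinearMap.lTensor_tmul, hμB, hμC, map_mul, hψl]
    | add z1 z2 h1 h2 => rw [map_add, map_add, map_add, map_add, h1, h2]
  have hnat2 : ∀ z, μB (mb.lTensor I z) = b * μB z := by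
    intro z
    induction z using TensorProduct.induction_on with
    | zero => simp
    | tmul a x =>
      rw [LinearMap.lTensor_tmul, hμB, hμB, hmb]
      ring
    | add z1 z2 h1 h2 => rw [map_add, map_add, map_add, h1, h2, mul_add]
  have hmulB : ∀ (r : B) (z : I ⊗[A] B), ∃ z', μB z' = r * μB z := by
    intro r z
    refine ⟨(LinearMap.mulLeft A r).lTensor I z, ?_⟩
    induction z using TensorProduct.induction_on with
    | zero => simp
    | tmul a x =>
      rw [LinearMap.lTensor_tmul, hμB, hμB, LinearMap.mulLeft_apply]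
      ring
    | add z1 z2 h1 h2 => rw [map_add, map_add, map_add, h1, h2, mul_add]
  have hrange : ∀ x ∈ I.map φ, ∃ z, μB z = x := by
    intro x hx
    unfold Ideal.map at hx
    induction hx using Submodule.span_induction with
    | mem x hx =>
      obtain ⟨a, ha, rfl⟩ := hx
      exact ⟨(⟨a, ha⟩ : I) ⊗ₜ 1, by rw [hμB, mul_one]⟩
    | zero => exact ⟨0, map_zero _⟩
    | add x y _ _ hx hy =>
      obtain ⟨z1, h1⟩ := hx
      obtain ⟨z2, h2⟩ := hy
      exact ⟨z1 + z2, by rw [map_add, h1, h2]⟩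
    | smul r x _ hx =>
      obtain ⟨z1, h1⟩ := hx
      obtain ⟨z', hz'⟩ := hmulB r z1
      exact ⟨z', by rw [hz', h1, smul_eq_mul]⟩
  have hmem : ∀ z, μB z ∈ I.map φ := by
    intro z
    induction z using TensorProduct.induction_on with
    | zero => rw [map_zero]; exact Ideal.zero_mem _
    | tmul a x =>
      rw [hμB]
      exact Ideal.mul_mem_right _ _ (Ideal.mem_map_of_mem φ a.2)
    | add z1 z2 h1 h2 => rw [map_add]; exact Ideal.add_mem _ h1 h2
  obtain ⟨z, hz⟩ := hrange _ hc
  have h0 : μC (ψl.lTensor I z) = 0 := by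
    rw [← hnat, hz, ← RingHom.mem_ker, hker]
    exact Ideal.mem_span_singleton'.mpr ⟨c, mul_comm c b⟩
  have h1 : ψl.lTensor I z = 0 := hμCinj (by rw [h0, map_zero])
  have hex' := lTensor_exact I hex hsurj
  obtain ⟨z', hz'⟩ := (hex' z).mp h1
  have h2 : b * c = b * μB z' := by
    rw [← hnat2, hz', hz]
  have h3 : c = μB z' := hb (by simpa [smul_eq_mul] using h2)
  rw [h3]
  exact hmem z'

/-- the length formula modulo an ideal, for an element regular modulo that ideal -/
theorem key_quot {B : Type u} [CommRing B] [IsNoetherianRing B] (J : Ideal B)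
    (hB : ringKrullDim (B ⧸ J) ≤ 1) (c : B)
    (hreg : IsSMulRegular (B ⧸ J) (Ideal.Quotient.mk J c)) :
    ∑ q ∈ (Groth.Agent.Helper6.Dim1.minSpec_finite (A := B ⧸ J)).toFinset,
        ((Module.length (Localization.AtPrime q.asIdeal)
          (LocalizedModule q.asIdeal.primeCompl (B ⧸ J))).toNat : ℤ) *
        ((Module.length B (B ⧸ (q.asIdeal.comap (Ideal.Quotient.mk J) ⊔
          Ideal.span {c}))).toNat : ℤ) =
      ((Module.length B (B ⧸ (J ⊔ Ideal.span {c}))).toNat : ℤ) := by
  have hnzd : Ideal.Quotient.mk J c ∈ nonZeroDivisors (B ⧸ J) := by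
    rw [mem_nonZeroDivisors_iff_right]
    intro a ha
    apply hreg
    change Ideal.Quotient.mk J c • a = Ideal.Quotient.mk J c • 0
    rw [smul_eq_mul, smul_eq_mul, mul_zero, mul_comm]
    exact ha
  have hmin : ∀ q ∈ minimalPrimes (B ⧸ J), Ideal.Quotient.mk J c ∉ q := by
    intro q hq hcq
    exact (Ideal.disjoint_nonZeroDivisors_of_mem_minimalPrimes hq).le_bot ⟨hcq, hnzd⟩
  have h1 := Groth.Agent.Helper6.Dim1.toNat_length_quotSMulTop_eq_sum hB (M := B ⧸ J) hmin hreg
  rw [PullDivA.length_quotSMulTop] at h1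
  have h2 := PullDivG.length_quot_map J (J ⊔ Ideal.span {c}) le_sup_left
  rw [Ideal.map_sup, Ideal.map_span, Set.image_singleton, Ideal.map_quotient_self, bot_sup_eq]
    at h2
  rw [← h2, h1]
  refine Finset.sum_congr rfl (fun q _ => ?_)
  rw [PullDivG.length_quot_sup]

end alg

section zero

variable {X : Scheme.{u}}

theorem ratEquivZero_zero (δ : X → ℤ) (k : ℤ) : Cyc.RatEquivZero δ k (0 : AlgebraicCycle X ℤ) := by
  refine ⟨PEmpty.{u + 1}, fun e => e.elim, fun e => e.elim, fun e => e.elim, fun e => e.elim,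
    fun x => ⟨Set.univ, isOpen_univ, trivial, ?_⟩, fun x => ?_⟩
  · exact Set.toFinite _
  · rw [finsum_of_isEmpty]
    rfl

theorem ratEquiv_of_eq (δ : X → ℤ) (k : ℤ) (α β : AlgebraicCycle X ℤ) (h : ∀ x, α x = β x) :
    Cyc.RatEquiv δ k α β := by
  unfold Cyc.RatEquiv
  have : α - β = 0 := by
    ext x
    rw [Function.locallyFinsuppWithin.coe_sub, Pi.sub_apply, h x, sub_self]
    rfl
  rw [this]
  exact ratEquivZero_zero δ k

end zero

section main

open Groth.Agent.Helper3.SecOrd Groth.Agent.Helper3.PullGen Groth.Agent.Helper3.PushRat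
  Groth.Agent.Lead.Ref1K Groth.Agent.Helper4.QAffSec Groth.Agent.Helper3.PullDivL
  Groth.Agent.Helper3.PullDivI Groth.Agent.Helper3.PullDivJ Groth.Agent.Helper3.PullDivK
  Groth.Agent.Helper6.Dim1 Groth.Agent.Helper5.StalkDict

theorem gysin_flat_pull_pt (X Y D : Scheme.{u}) (δX : X → ℤ) (δY : Y → ℤ)
    (hX : Cyc.IsSetup X δX) (hY : Cyc.IsSetup Y δY) (p : X ⟶ Y) [Flat p] [LocallyOfFiniteType p]
    (r : ℕ) (hr : Cyc.HasRelDim p (r + 1)) (hδ : Cyc.DeltaCompat p δX δY) (L : X.Modules)
    (hL : PicF.IsInvertible L) (s : L.presheaf.obj (Opposite.op ⊤))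
    (hreg : ∀ x : X, Function.Injective
      (fun a : X.presheaf.stalk x => a • (L.presheaf.germ ⊤ x trivial) s))
    (i : D ⟶ X) [IsClosedImmersion i] (hD : Cyc.IsZeroSchemeOf i L s) [Flat (i ≫ p)]
    (hrD : Cyc.HasRelDim (i ≫ p) r) (k : ℤ) (α : AlgebraicCycle Y ℤ)
    (hα : α ∈ Cyc.Zk Y δY (k + 1)) (w : (ξ : X) → Cyc.secFibre L ξ) (d : D) :
    Cyc.c1CapFun δX L (Cyc.pullFun p δX δY (r + 1) ⇑α) (Cyc.gysinChoice L s w) (i d) =
      Cyc.pullFun (i ≫ p) (fun d => δX (i d)) δY r ⇑α d := by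
  classical
  have hc : ∀ x : X, (∀ y, p y = p x → y ⤳ x → y = x) → δX x = δY (p x) + ((r : ℤ) + 1) := by
    intro x hmax
    have := PullDivC.delta_of_max p (r + 1) hr δX δY hδ x hmax
    rw [this]
    push_cast
    ring
  have H := hyp_of_hc p hY hX hc
  haveI := hX.1
  haveI := hY.1
  haveI : L.IsQuasicoherent := isQuasicoherent_of_isInvertible L hL
  have hδD := deltaCompat_comp_left i p δX δY hδ
  have hleD : δX (i d) ≤ δY (p (i d)) + r :=
    PullDivC.delta_le (i ≫ p) r hrD (fun d => δX (i d)) δY hδD d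
  obtain ⟨t, ht⟩ := fr1At_of_isInvertible L hL (i d)
  obtain ⟨b, hb0⟩ := ht.2 ((L.presheaf.germ ⊤ (i d) trivial) s)
  have hb : (L.presheaf.germ ⊤ (i d) trivial) s = b • t := hb0.symm
  unfold Cyc.c1CapFun
  set T : X → ℤ := fun ξ => Cyc.pullFun p δX δY (r + 1) ⇑α ξ *
    Cyc.secDivFun δX L ξ (Cyc.gysinChoice L s w ξ) (i d) with hT
  have hTnz : ∀ ξ, T ξ ≠ 0 → ξ ⤳ i d ∧ δX (i d) + 1 = δX ξ ∧
      δX ξ = δY (p ξ) + ((r : ℤ) + 1) ∧ p ξ = p (i d) := by
    intro ξ hne
    have h1 : Cyc.pullFun p δX δY (r + 1) ⇑α ξ ≠ 0 := fun h0 => hne (by rw [hT]; simp only; rw [h0, zero_mul])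
    have h2 : Cyc.secDivFun δX L ξ (Cyc.gysinChoice L s w ξ) (i d) ≠ 0 :=
      fun h0 => hne (by rw [hT]; simp only; rw [h0, mul_zero])
    have h3 : ξ ⤳ i d ∧ δX (i d) + 1 = δX ξ := by
      by_contra hcon
      apply h2
      unfold Cyc.secDivFun
      rw [dif_neg hcon]
    have h4 : δX ξ = δY (p ξ) + ((r : ℤ) + 1) := by
      by_contra hcon
      apply h1
      unfold Cyc.pullFun
      rw [if_neg hcon]
    refine ⟨h3.1, h3.2, h4, ?_⟩
    by_contra hne'
    have hsp : p ξ ⤳ p (i d) := h3.1.map p.continuous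
    have := (hY.2.2 (p ξ) (p (i d)) hsp hne').1
    omega
  by_cases hcond : δX (i d) = δY (p (i d)) + r
  swap
  · have hR : Cyc.pullFun (i ≫ p) (fun d => δX (i d)) δY r ⇑α d = 0 := by
      unfold Cyc.pullFun
      exact if_neg hcond
    rw [hR]
    apply finsum_eq_zero_of_forall_eq_zero
    intro ξ
    by_contra hne
    obtain ⟨h1, h2, h3, h4⟩ := hTnz ξ hne
    apply hcond
    rw [h4] at h3
    omega
  have hcond' : δX (i d) + 1 = δY (p (i d)) + ((r : ℤ) + 1) := by omega
  have h0 : p (i d) ⤳ p (i d) := specializes_rfl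
  set J : Ideal (X.presheaf.stalk (i d)) :=
    (RingHom.ker (Cyc.specMap (p (i d)) (p (i d)) h0)).map (p.stalkMap (i d)).hom with hJ
  have hJ' : J = (maximalIdeal (Y.presheaf.stalk (p (i d)))).map (p.stalkMap (i d)).hom := by
    rw [hJ, PullDivD.ker_specMap_self (p (i d)) (p (i d)) rfl h0]
  have hB' : ringKrullDim (X.presheaf.stalk (i d) ⧸ J) ≤ 1 :=
    krullDim_quot_le_one p H (i d) (p (i d)) h0 hcond' J hJ
  -- regularity of `b` modulo `J`
  have hbreg : IsSMulRegular (X.presheaf.stalk (i d)) b := by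
    intro a c hac
    apply hreg (i d)
    change a • (L.presheaf.germ ⊤ (i d) trivial) s = c • (L.presheaf.germ ⊤ (i d) trivial) s
    rw [hb, smul_smul, smul_smul, mul_comm a b, mul_comm c b]
    change b • a = b • c at hac
    rw [smul_eq_mul, smul_eq_mul] at hac
    rw [hac]
  have hker : RingHom.ker (i.stalkMap d).hom = Ideal.span {b} := by
    have := ker_eq_span_of_zeroScheme L s i hD d (i d) rfl ht b hb
    rwa [TopCat.Presheaf.stalkSpecializes_refl, Category.id_comp] at this
  have hsurj : Function.Surjective (i.stalkMap d).hom := i.stalkMap_surjective d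
  have hcomp : ((i ≫ p).stalkMap d).hom = (i.stalkMap d).hom.comp (p.stalkMap (i d)).hom := by
    rw [Scheme.Hom.stalkMap_comp]
    rfl
  have hflat : ((i.stalkMap d).hom.comp (p.stalkMap (i d)).hom).Flat := by
    rw [← hcomp]
    exact Flat.stalkMap (i ≫ p) d
  have hregJ : IsSMulRegular (X.presheaf.stalk (i d) ⧸ J) (Ideal.Quotient.mk J b) := by
    intro a c hac
    obtain ⟨a', rfl⟩ := Ideal.Quotient.mk_surjective a
    obtain ⟨c', rfl⟩ := Ideal.Quotient.mk_surjective c
    change Ideal.Quotient.mk J b • Ideal.Quotient.mk J a' =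
      Ideal.Quotient.mk J b • Ideal.Quotient.mk J c' at hac
    rw [smul_eq_mul, smul_eq_mul, ← map_mul, ← map_mul, Ideal.Quotient.eq, ← mul_sub] at hac
    rw [Ideal.Quotient.eq]
    rw [hJ'] at hac ⊢
    exact mem_map_of_mul_mem (p.stalkMap (i d)).hom (i.stalkMap d).hom hsurj b hker hbreg hflat
      _ _ hac
  have hnzd : Ideal.Quotient.mk J b ∈ nonZeroDivisors (X.presheaf.stalk (i d) ⧸ J) := by
    rw [mem_nonZeroDivisors_iff_right]
    intro a ha
    apply hregJ
    change Ideal.Quotient.mk J b • a = Ideal.Quotient.mk J b • 0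
    rw [smul_eq_mul, smul_eq_mul, mul_zero, mul_comm]
    exact ha
  have hmin : ∀ q ∈ minimalPrimes (X.presheaf.stalk (i d) ⧸ J), Ideal.Quotient.mk J b ∉ q := by
    intro q hq hcq
    exact (Ideal.disjoint_nonZeroDivisors_of_mem_minimalPrimes hq).le_bot ⟨hcq, hnzd⟩
  -- reduce the sum to the maximal points of the fibre
  have hTsp : ∀ ξ, ¬ (ξ ⤳ i d) → T ξ = 0 := by
    intro ξ hξ
    by_contra hne
    exact hξ (hTnz ξ hne).1
  have hsum1 : ∑ᶠ ξ : X, T ξ =
      ∑ᶠ ξ : {ξ : X // p ξ = p (i d) ∧ ∀ w : X, p w = p ξ → w ⤳ ξ → w = ξ}, T ξ.1 := by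
    rw [finsum_subtype_eq_finsum_cond (f := T)
      (fun ξ => p ξ = p (i d) ∧ ∀ w : X, p w = p ξ → w ⤳ ξ → w = ξ)]
    refine finsum_congr (fun ξ => ?_)
    rw [finsum_eq_if]
    split_ifs with h
    · rfl
    · by_contra hne
      obtain ⟨h1, h2, h3, h4⟩ := hTnz ξ hne
      exact h ⟨h4, H.h3 ξ h3⟩
  change ∑ᶠ ξ : X, T ξ = _
  rw [hsum1, sum_eq p H (i d) (p (i d)) h0 hcond' J hJ T hTsp]
  have hterm : ∀ q' ∈ (minSpec_finite (A := X.presheaf.stalk (i d) ⧸ J)).toFinset,
      T (X.fromSpecStalk (i d) (comapSpec (i d) J q')) =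
        α (p (i d)) * (((Module.length (Localization.AtPrime q'.asIdeal)
          (LocalizedModule q'.asIdeal.primeCompl (X.presheaf.stalk (i d) ⧸ J))).toNat : ℤ) *
        ((Module.length (X.presheaf.stalk (i d)) (X.presheaf.stalk (i d) ⧸
            (q'.asIdeal.comap (Ideal.Quotient.mk J) ⊔ Ideal.span {b}))).toNat : ℤ)) := by
    intro q' hq'
    have hq'' : q' ∈ minSpec (X.presheaf.stalk (i d) ⧸ J) := (Set.Finite.mem_toFinset _).mp hq'
    have hqmin : q'.asIdeal ∈ minimalPrimes (X.presheaf.stalk (i d) ⧸ J) := hq''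
    obtain ⟨hfξ, hmaxξ⟩ := pt_mem p H (i d) (p (i d)) h0 hcond' J hJ q' hqmin
    have hξx : X.fromSpecStalk (i d) (comapSpec (i d) J q') ⤳ i d :=
      fromSpecStalk_specializes (i d) _
    have hkerξ : RingHom.ker (Cyc.specMap (i d) (X.fromSpecStalk (i d) (comapSpec (i d) J q')) hξx) =
        q'.asIdeal.comap (Ideal.Quotient.mk J) :=
      PullDivB.ker_specMap (i d) (comapSpec (i d) J q') hξx
    generalize X.fromSpecStalk (i d) (comapSpec (i d) J q') = ξ at hfξ hmaxξ hξx hkerξ
    have hδξ : δX ξ = δY (p (i d)) + ((r : ℤ) + 1) := by rw [H.h2 ξ hmaxξ, hfξ]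
    rw [hT]
    simp only
    have hpf : Cyc.pullFun p δX δY (r + 1) ⇑α ξ = α (p (i d)) * mult p ξ := by
      unfold Cyc.pullFun mult
      rw [if_pos (by rw [hδξ, hfξ])]
      congr 1
      exact congrArg α hfξ
    rw [hpf, mult_eq p (i d) ξ hξx (p (i d)) h0 hfξ J hJ q'.asIdeal hkerξ.symm, mul_assoc]
    congr 2
    have hbq : Ideal.Quotient.mk J b ∉ q'.asIdeal := hmin _ hqmin
    have hb0' : Cyc.specMap (i d) ξ hξx b ≠ 0 := by
      intro h
      have : b ∈ RingHom.ker (Cyc.specMap (i d) ξ hξx) := RingHom.mem_ker.mpr h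
      rw [hkerξ] at this
      exact hbq this
    have hunit : IsUnit ((X.presheaf.stalkSpecializes hξx).hom b) := by
      by_contra hnu
      apply hb0'
      change X.residue ξ ((X.presheaf.stalkSpecializes hξx).hom b) = 0
      exact (IsLocalRing.residue_eq_zero_iff _).mpr ((IsLocalRing.mem_maximalIdeal _).mpr hnu)
    have htξ := bijective_sp L hξx (fr1At_of_isInvertible L hL ξ) ht
    have hgerm : (L.presheaf.germ ⊤ ξ trivial) s =
        (X.presheaf.stalkSpecializes hξx).hom b • (L.presheaf.stalkSpecializes hξx).hom t := by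
      rw [← Groth.Agent.Lead.Ref1H.sp_smul, ← hb,
        Groth.Agent.Lead.Ref1H.sp_germ L hξx (U := ⊤) trivial s]
    have hne : (Submodule.Quotient.mk ((L.presheaf.germ ⊤ ξ trivial) s) : Cyc.secFibre L ξ) ≠ 0 := by
      rw [Ne, mk_germ_eq_zero_iff L ξ htξ _ _ hgerm, not_not]
      exact hunit
    have hgc : Cyc.gysinChoice L s w ξ = (X.presheaf.stalkSpecializes hξx).hom b •
        mkF L ξ ((L.presheaf.stalkSpecializes hξx).hom t) := by
      unfold Cyc.gysinChoice
      rw [if_pos hne, hgerm]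
      rfl
    unfold Cyc.secDivFun
    rw [dif_pos ⟨hξx, by rw [hδξ]; exact hcond'⟩, secOrdAt_eq L hξx t ht htξ _ _ hgc]
    have hdim : ringKrullDim (Cyc.LocQuot (i d) ξ hξx) ≤ 1 := by
      rw [Groth.Agent.Helper5.CycDim.ringKrullDim_locQuot δX H.dX (i d) _ hξx]
      have : (δX ξ - δX (i d)).toNat = 1 := by omega
      rw [this]
      rfl
    have h10 : Cyc.specMap (i d) ξ hξx 1 ≠ 0 := by
      rw [map_one]
      exact one_ne_zero
    have hdiv := PullDivH.ordAt_div' (i d) ξ hξx hdim b 1 hb0' h10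
    rw [map_one, div_one, hkerξ, ZeroSec.length_quot_sup_span_unit _ isUnit_one] at hdiv
    simp only [ENat.toNat_zero, Nat.cast_zero, sub_zero] at hdiv
    rw [← hdiv]
    rfl
  rw [Finset.sum_congr rfl hterm, ← Finset.mul_sum, key_quot J hB' b hregJ]
  have hlen : Module.length (D.presheaf.stalk d) (D.presheaf.stalk d ⧸
      Ideal.map ((i ≫ p).stalkMap d).hom (maximalIdeal (Y.presheaf.stalk (p (i d))))) =
      Module.length (X.presheaf.stalk (i d)) (X.presheaf.stalk (i d) ⧸ (J ⊔ Ideal.span {b})) := by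
    have h1 := length_quot_map_of_surjective (i.stalkMap d).hom hsurj (J ⊔ Ideal.span {b})
      (by rw [hker]; exact le_sup_right)
    have hb0 : (i.stalkMap d).hom b = 0 := by
      rw [← RingHom.mem_ker, hker]
      exact Ideal.mem_span_singleton_self b
    have hmapJ : Ideal.map (i.stalkMap d).hom (J ⊔ Ideal.span {b}) =
        Ideal.map ((i ≫ p).stalkMap d).hom (maximalIdeal (Y.presheaf.stalk (p (i d)))) := by
      rw [Ideal.map_sup, Ideal.map_span, Set.image_singleton, hb0, Ideal.span_singleton_zero,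
        sup_bot_eq, hJ', Ideal.map_map, ← hcomp]
      rfl
    rw [← h1, hmapJ]
  unfold Cyc.pullFun
  rw [← hlen]
  exact (if_pos hcond).symm

end main

end Groth.Agent.Helper3.Gysin
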