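import Mathlib
import Groth.Prelude
import Groth.Agent.Helper4.StalkDict
import Groth.Agent.Lead.Ref1H
import Groth.Agent.Helper3.PullDivH

set_option autoImplicit false
set_option linter.style.haveILetI false
set_option linter.unusedSectionVars false
set_option linter.unusedVariables false
set_option linter.deprecated false
set_option linter.style.haveILetI false
set_option linter.unusedSectionVars false
set_option linter.unusedVariables false

universe u

open CategoryTheory CategoryTheory.Limits AlgebraicGeometry TopologicalSpace Opposite IsLocalRing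

namespace Groth.Agent.Helper3.ModLoc

open Groth.Agent.Helper4.StalkDict

variable {X : Scheme.{u}} (F : X.Modules) {x ξ : X} (h : ξ ⤳ x)

/-- the stalk at a generisation as a module over the local ring at `x` -/
@[reducible] noncomputable def spMod : Module (X.presheaf.stalk x) (F.presheaf.stalk ξ) :=
  Module.compHom _ (X.presheaf.stalkSpecializes h).hom

theorem spMod_smul (a : X.presheaf.stalk x) (n : F.presheaf.stalk ξ) :
    letI := spMod F h
    a • n = (X.presheaf.stalkSpecializes h).hom a • n := rfl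

/-- the specialization map of stalks as a linear map over the local ring at `x` -/
noncomputable def spLin :
    letI := spMod F h
    F.presheaf.stalk x →ₗ[X.presheaf.stalk x] F.presheaf.stalk ξ :=
  letI := spMod F h
  { toFun := (F.presheaf.stalkSpecializes h).hom
    map_add' := map_add _
    map_smul' := fun a m => Groth.Agent.Lead.Ref1H.sp_smul F h a m }

theorem spLin_apply (m : F.presheaf.stalk x) :
    spLin F h m = (F.presheaf.stalkSpecializes h).hom m := rfl

theorem isUnit_sp_of_notMem (b : X.presheaf.stalk x)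
    (hb : b ∉ RingHom.ker (Cyc.specMap x ξ h)) :
    IsUnit ((X.presheaf.stalkSpecializes h).hom b) := by
  by_contra hnu
  apply hb
  change Cyc.specMap x ξ h b = 0
  have : (X.presheaf.stalkSpecializes h).hom b ∈ maximalIdeal (X.presheaf.stalk ξ) :=
    (IsLocalRing.mem_maximalIdeal _).mpr hnu
  exact (IsLocalRing.residue_eq_zero_iff _).mpr this

theorem notMem_ker_of_isUnit (b : X.presheaf.stalk x)
    (hb : IsUnit ((X.presheaf.stalkSpecializes h).hom b)) :
    b ∉ RingHom.ker (Cyc.specMap x ξ h) := by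
  intro hmem
  have h1 : IsLocalRing.residue (X.presheaf.stalk ξ) ((X.presheaf.stalkSpecializes h).hom b) = 0 :=
    hmem
  exact (IsLocalRing.mem_maximalIdeal _).mp ((IsLocalRing.residue_eq_zero_iff _).mp h1) hb

/-- **the stalk at a generisation is the localization of the stalk at `x`** -/
theorem isLocalizedModule_spLin [F.IsQuasicoherent] :
    letI := spMod F h
    haveI : (RingHom.ker (Cyc.specMap x ξ h)).IsPrime := RingHom.ker_isPrime _
    IsLocalizedModule (RingHom.ker (Cyc.specMap x ξ h)).primeCompl (spLin F h) := by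
  letI := spMod F h
  haveI : (RingHom.ker (Cyc.specMap x ξ h)).IsPrime := RingHom.ker_isPrime _
  obtain ⟨_, ⟨U, hU : IsAffineOpen U, rfl⟩, hxU, -⟩ :=
    X.isBasis_affineOpens.exists_subset_of_mem_open (Set.mem_univ x) isOpen_univ
  have hξU : ξ ∈ U := h.mem_open U.isOpen hxU
  letI m1 := sectionModStalk F x hxU
  letI m2 := sectionModStalk F ξ hξU
  have l1 := isLocalizedModule_germ hU F x hxU
  have l2 := isLocalizedModule_germ hU F ξ hξU
  have hspO : ∀ c : Γ(X, U), (X.presheaf.stalkSpecializes h).hom (X.presheaf.germ U x hxU c) =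
      X.presheaf.germ U ξ hξU c := fun c =>
    TopCat.Presheaf.germ_stalkSpecializes_apply _ _ _ _
  have hspF : ∀ m : Γ(F, U), (F.presheaf.stalkSpecializes h).hom (F.presheaf.germ U x hxU m) =
      F.presheaf.germ U ξ hξU m := fun m => Groth.Agent.Lead.Ref1H.sp_germ F h hxU m
  -- elements outside the prime of `ξ` become units at `ξ`
  have hunitξ : ∀ s : Γ(X, U), s ∈ (hU.primeIdealOf ⟨ξ, hξU⟩).asIdeal.primeCompl →
      IsUnit (X.presheaf.germ U ξ hξU s) := by
    intro s hs
    have hs' : ξ ∈ X.basicOpen s := (mem_basicOpen_iff_notMem_primeIdealOf hU ξ hξU s).mpr hs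
    exact (X.mem_basicOpen s ξ hξU).mp hs'
  have hle : (hU.primeIdealOf ⟨x, hxU⟩).asIdeal.primeCompl ≤
      (hU.primeIdealOf ⟨ξ, hξU⟩).asIdeal.primeCompl := by
    intro s hs
    have hs' : x ∈ X.basicOpen s := (mem_basicOpen_iff_notMem_primeIdealOf hU x hxU s).mpr hs
    have : ξ ∈ X.basicOpen s := h.mem_open (X.basicOpen s).isOpen hs'
    exact (mem_basicOpen_iff_notMem_primeIdealOf hU ξ hξU s).mp this
  have hnotMem : ∀ s : Γ(X, U), s ∈ (hU.primeIdealOf ⟨ξ, hξU⟩).asIdeal.primeCompl →
      X.presheaf.germ U x hxU s ∈ (RingHom.ker (Cyc.specMap x ξ h)).primeCompl := by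
    intro s hs
    apply notMem_ker_of_isUnit h
    rw [hspO]
    exact hunitξ s hs
  refine ⟨?_, ?_, ?_⟩
  · rintro ⟨b, hb⟩
    have hu := isUnit_sp_of_notMem h b hb
    rw [Module.End.isUnit_iff]
    obtain ⟨v, hv⟩ := hu
    constructor
    · intro n₁ n₂ hn
      have hn' : (X.presheaf.stalkSpecializes h).hom b • n₁ =
          (X.presheaf.stalkSpecializes h).hom b • n₂ := hn
      rw [← hv] at hn'
      have := congrArg (fun z => (↑v⁻¹ : X.presheaf.stalk ξ) • z) hn'
      simpa [smul_smul] using this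
    · intro n
      refine ⟨(↑v⁻¹ : X.presheaf.stalk ξ) • n, ?_⟩
      change (X.presheaf.stalkSpecializes h).hom b • ((↑v⁻¹ : X.presheaf.stalk ξ) • n) = n
      rw [← hv, smul_smul]
      simp
  · intro n
    obtain ⟨⟨m₀, ⟨s₀, hs₀⟩⟩, hms⟩ := l2.surj n
    refine ⟨⟨F.presheaf.germ U x hxU m₀, ⟨X.presheaf.germ U x hxU s₀, hnotMem s₀ hs₀⟩⟩, ?_⟩
    change (X.presheaf.stalkSpecializes h).hom (X.presheaf.germ U x hxU s₀) • n =
      (F.presheaf.stalkSpecializes h).hom (F.presheaf.germ U x hxU m₀)
    rw [hspO, hspF]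
    exact hms
  · intro z₁ z₂ hz
    have hz' : (F.presheaf.stalkSpecializes h).hom z₁ = (F.presheaf.stalkSpecializes h).hom z₂ := hz
    obtain ⟨⟨m₀, ⟨u₀, hu₀⟩⟩, hmu⟩ := l1.surj (z₁ - z₂)
    have hmu' : X.presheaf.germ U x hxU u₀ • (z₁ - z₂) = F.presheaf.germ U x hxU m₀ := hmu
    have h0 : F.presheaf.germ U ξ hξU m₀ = 0 := by
      rw [← hspF, ← hmu', Groth.Agent.Lead.Ref1H.sp_smul, map_sub, hz', sub_self, smul_zero]
    have h0' : germLin F ξ hξU m₀ = germLin F ξ hξU 0 := by
      rw [map_zero]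
      exact h0
    obtain ⟨⟨s₀, hs₀⟩, hsm⟩ := l2.exists_of_eq h0'
    have hsm' : s₀ • m₀ = 0 := by
      have : s₀ • m₀ = s₀ • (0 : Γ(F, U)) := hsm
      rw [this, smul_zero]
    refine ⟨⟨X.presheaf.germ U x hxU (s₀ * u₀), hnotMem _ (Submonoid.mul_mem _ hs₀ (hle hu₀))⟩, ?_⟩
    change X.presheaf.germ U x hxU (s₀ * u₀) • z₁ = X.presheaf.germ U x hxU (s₀ * u₀) • z₂
    rw [← sub_eq_zero, ← smul_sub, map_mul, mul_smul, hmu', ← germ_smul, hsm', map_zero]

end Groth.Agent.Helper3.ModLoc
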