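import Mathlib
import Groth.Prelude
import Groth.Agent.Helper6.Dim1Colon2
import Groth.Agent.Helper3.PullDivG
import Groth.Agent.Helper3.PullDivA

set_option autoImplicit false
set_option linter.style.haveILetI false
set_option linter.unusedSectionVars false
set_option linter.unusedVariables false
set_option linter.deprecated false
set_option linter.style.haveILetI false
set_option linter.unusedSectionVars false
set_option linter.unusedVariables false

universe u

open IsLocalRing TensorProduct
open scoped Pointwise

namespace Groth.Agent.Helper3.ModLoc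

section loc

variable {B C : Type u} [CommRing B] [CommRing C] [Algebra B C] (q : Ideal B) [q.IsPrime]

/-- the length of a localized module computed over a quotient of the localized ring -/
theorem length_eq_of_isLocalizedModule
    (hC : ∀ s : q.primeCompl, IsUnit (algebraMap B C s))
    (hsurj : ∀ c : C, ∃ (b : B) (s : q.primeCompl), c * algebraMap B C s = algebraMap B C b)
    {M N : Type u} [AddCommGroup M] [Module B M] [AddCommGroup N] [Module B N] [Module C N]
    [IsScalarTower B C N] (g : M →ₗ[B] N) [IsLocalizedModule q.primeCompl g] :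
    Module.length C N =
      Module.length (Localization.AtPrime q) (LocalizedModule q.primeCompl M) := by
  let τ : Localization.AtPrime q →+* C := IsLocalization.lift (M := q.primeCompl) hC
  have hτ : ∀ b : B, τ (algebraMap B (Localization.AtPrime q) b) = algebraMap B C b :=
    fun b => IsLocalization.lift_eq hC b
  have hτsurj : Function.Surjective τ := by
    intro c
    obtain ⟨b, s, hbs⟩ := hsurj c
    refine ⟨IsLocalization.mk' (Localization.AtPrime q) b s, ?_⟩
    rw [IsLocalization.lift_mk'_spec]
    rw [mul_comm]
    exact hbs.symm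
  letI : Algebra (Localization.AtPrime q) C := τ.toAlgebra
  letI : Module (Localization.AtPrime q) N := Module.compHom N τ
  haveI : IsScalarTower (Localization.AtPrime q) C N :=
    IsScalarTower.of_algebraMap_smul (fun r m => rfl)
  haveI : IsScalarTower B (Localization.AtPrime q) N := by
    refine IsScalarTower.of_algebraMap_smul (fun b n => ?_)
    change τ (algebraMap B _ b) • n = b • n
    rw [hτ, algebraMap_smul]
  have h1 : Module.length (Localization.AtPrime q) N = Module.length C N :=
    Module.length_eq_of_surjective hτsurj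
  rw [← h1]
  let e := IsLocalizedModule.iso q.primeCompl g
  exact ((e.extendScalarsOfIsLocalization q.primeCompl (Localization.AtPrime q)).length_eq).symm

end loc

section formula

open Groth.Agent.Helper6.Dim1

variable {B : Type u} [CommRing B] [IsNoetherianRing B] (I : Ideal B)
  {M : Type u} [AddCommGroup M] [Module B M] [Module (B ⧸ I) M] [IsScalarTower B (B ⧸ I) M]

theorem mk_smul (b : B) (m : M) : Ideal.Quotient.mk I b • m = b • m :=
  algebraMap_smul (B ⧸ I) b m

/-- the two quotients by multiples of `f` -/
theorem length_quotSMulTop_quot (f : B) :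
    Module.length (B ⧸ I) (QuotSMulTop (Ideal.Quotient.mk I f) M) =
      Module.length B (QuotSMulTop f M) := by
  have h1 : Module.length B (QuotSMulTop (Ideal.Quotient.mk I f) M) =
      Module.length (B ⧸ I) (QuotSMulTop (Ideal.Quotient.mk I f) M) :=
    Module.length_eq_of_surjective Ideal.Quotient.mk_surjective
  rw [← h1]
  have heq : f • (⊤ : Submodule B M) =
      ((Ideal.Quotient.mk I f) • (⊤ : Submodule (B ⧸ I) M)).restrictScalars B := by
    ext y
    rw [Submodule.restrictScalars_mem, Submodule.mem_smul_pointwise_iff_exists,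
      Submodule.mem_smul_pointwise_iff_exists]
    constructor
    · rintro ⟨z, -, rfl⟩
      exact ⟨z, trivial, mk_smul I f z⟩
    · rintro ⟨z, -, rfl⟩
      exact ⟨z, trivial, (mk_smul I f z).symm⟩
  exact ((Submodule.quotEquivOfEq _ _ heq) ≪≫ₗ
    Submodule.Quotient.restrictScalarsEquiv B
      ((Ideal.Quotient.mk I f) • (⊤ : Submodule (B ⧸ I) M))).length_eq.symm

/-- localizing over the quotient ring or over the ring -/
theorem length_localized_quot (q' : Ideal (B ⧸ I)) [q'.IsPrime] :
    Module.length (Localization.AtPrime q') (LocalizedModule q'.primeCompl M) =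
      Module.length (Localization.AtPrime (q'.comap (Ideal.Quotient.mk I)))
        (LocalizedModule (q'.comap (Ideal.Quotient.mk I)).primeCompl M) := by
  have hM : Algebra.algebraMapSubmonoid (B ⧸ I) (q'.comap (Ideal.Quotient.mk I)).primeCompl =
      q'.primeCompl := by
    ext y
    constructor
    · rintro ⟨b, hb, rfl⟩
      exact hb
    · intro hy
      obtain ⟨b, rfl⟩ := Ideal.Quotient.mk_surjective y
      exact ⟨b, hy, rfl⟩
  haveI : IsLocalizedModule (Algebra.algebraMapSubmonoid (B ⧸ I)
      (q'.comap (Ideal.Quotient.mk I)).primeCompl) (LocalizedModule.mkLinearMap q'.primeCompl M) := by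
    rw [hM]
    infer_instance
  haveI := IsLocalizedModule.restrictScalars (q'.comap (Ideal.Quotient.mk I)).primeCompl
    (LocalizedModule.mkLinearMap q'.primeCompl M)
  refine length_eq_of_isLocalizedModule (q'.comap (Ideal.Quotient.mk I)) ?_ ?_
    ((LocalizedModule.mkLinearMap q'.primeCompl M).restrictScalars B)
  · rintro ⟨s, hs⟩
    rw [IsScalarTower.algebraMap_apply B (B ⧸ I) (Localization.AtPrime q')]
    exact IsLocalization.map_units (Localization.AtPrime q')
      (⟨algebraMap B (B ⧸ I) s, hs⟩ : q'.primeCompl)
  · intro c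
    obtain ⟨⟨a', ⟨t', ht'⟩⟩, h⟩ := IsLocalization.surj q'.primeCompl c
    obtain ⟨b, rfl⟩ := Ideal.Quotient.mk_surjective a'
    obtain ⟨s, rfl⟩ := Ideal.Quotient.mk_surjective t'
    refine ⟨b, ⟨s, ht'⟩, ?_⟩
    rw [IsScalarTower.algebraMap_apply B (B ⧸ I) (Localization.AtPrime q'),
      IsScalarTower.algebraMap_apply B (B ⧸ I) (Localization.AtPrime q')]
    exact h

/-- **the length formula for a module with one-dimensional support** -/
theorem length_quotSMulTop_eq_sum [Module.Finite B M] (hdim : ringKrullDim (B ⧸ I) ≤ 1) (f : B)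
    (hmin : ∀ q' ∈ minimalPrimes (B ⧸ I), Ideal.Quotient.mk I f ∉ q')
    (hreg : IsSMulRegular M f) :
    ((Module.length B (QuotSMulTop f M)).toNat : ℤ) =
      ∑ q' ∈ (minSpec_finite (A := B ⧸ I)).toFinset,
        ((Module.length (Localization.AtPrime (q'.asIdeal.comap (Ideal.Quotient.mk I)))
          (LocalizedModule (q'.asIdeal.comap (Ideal.Quotient.mk I)).primeCompl M)).toNat : ℤ) *
        ((Module.length B (B ⧸ (q'.asIdeal.comap (Ideal.Quotient.mk I) ⊔
          Ideal.span {f}))).toNat : ℤ) := by
  haveI : Module.Finite (B ⧸ I) M := Module.Finite.of_restrictScalars_finite B (B ⧸ I) M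
  have hreg' : IsSMulRegular M (Ideal.Quotient.mk I f) := by
    intro a c hac
    apply hreg
    change f • a = f • c
    rw [← mk_smul I f a, ← mk_smul I f c]
    exact hac
  have h1 := toNat_length_quotSMulTop_eq_sum hdim (M := M) hmin hreg'
  rw [length_quotSMulTop_quot] at h1
  rw [h1]
  refine Finset.sum_congr rfl (fun q' _ => ?_)
  rw [length_localized_quot I q'.asIdeal, PullDivG.length_quot_sup]

end formula

section tensor

/-- base change along a surjection with principal kernel -/
theorem length_tensor_of_surjective {B C : Type u} [CommRing B] [CommRing C] [Algebra B C]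
    (hsurj : Function.Surjective (algebraMap B C)) (b : B)
    (hker : RingHom.ker (algebraMap B C) = Ideal.span {b})
    (M : Type u) [AddCommGroup M] [Module B M] :
    Module.length C (C ⊗[B] M) = Module.length B (QuotSMulTop b M) := by
  have h1 : Module.length B (C ⊗[B] M) = Module.length C (C ⊗[B] M) :=
    Module.length_eq_of_surjective hsurj
  rw [← h1]
  have hsurj' : Function.Surjective (Algebra.ofId B C) := hsurj
  let e0 : (B ⧸ RingHom.ker (Algebra.ofId B C)) ≃ₐ[B] C :=
    Ideal.quotientKerAlgEquivOfSurjective hsurj'
  have hker' : RingHom.ker (Algebra.ofId B C) = Ideal.span {b} := hker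
  let e1 : (B ⧸ Ideal.span {b}) ≃ₗ[B] C :=
    (Ideal.quotientEquivAlgOfEq B hker'.symm).toLinearEquiv ≪≫ₗ e0.toLinearEquiv
  let e2 : C ⊗[B] M ≃ₗ[B] (B ⧸ Ideal.span {b}) ⊗[B] M :=
    TensorProduct.congr e1.symm (LinearEquiv.refl B M)
  let e3 := TensorProduct.quotTensorEquivQuotSMul M (Ideal.span {b})
  have heq : (Ideal.span {b}) • (⊤ : Submodule B M) = b • (⊤ : Submodule B M) :=
    Submodule.ideal_span_singleton_smul b ⊤
  exact (e2 ≪≫ₗ e3 ≪≫ₗ Submodule.quotEquivOfEq _ _ heq).length_eq

end tensor

end Groth.Agent.Helper3.ModLoc
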