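import Mathlib
import Groth.Prelude
import Groth.Agent.Helper3.ModLocA
import Groth.Agent.Helper3.ModLocB
import Groth.Agent.Helper3.PullDivJ
import Groth.Agent.Helper4.SecDict
import Groth.Agent.Helper3.GysinG

set_option autoImplicit false
set_option linter.style.haveILetI false
set_option linter.unusedSectionVars false
set_option linter.unusedVariables false
set_option linter.deprecated false
set_option linter.style.haveILetI false
set_option linter.unusedSectionVars false
set_option linter.unusedVariables false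

universe u

open CategoryTheory CategoryTheory.Limits AlgebraicGeometry TopologicalSpace Opposite IsLocalRing

namespace Groth.Agent.Helper3.ModLoc

open Groth.Agent.Helper4.StalkDict Groth.Agent.Helper5.StalkDict Groth.Agent.Helper6.Dim1
  Groth.Agent.Helper3.PullDivJ

variable {X : Scheme.{u}} (F : X.Modules) [F.IsQuasicoherent]

/-- the length of the stalk at a generisation as the length of a localized module -/
theorem length_stalk_eq_localized {x ξ : X} (h : ξ ⤳ x) (q : Ideal (X.presheaf.stalk x))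
    [q.IsPrime] (hq : q = RingHom.ker (Cyc.specMap x ξ h)) :
    Module.length (X.presheaf.stalk ξ) (F.presheaf.stalk ξ) =
      Module.length (Localization.AtPrime q)
        (LocalizedModule q.primeCompl (F.presheaf.stalk x)) := by
  subst hq
  letI a3 : Algebra (X.presheaf.stalk x) (X.presheaf.stalk ξ) :=
    (X.presheaf.stalkSpecializes h).hom.toAlgebra
  letI := spMod F h
  haveI : IsScalarTower (X.presheaf.stalk x) (X.presheaf.stalk ξ) (F.presheaf.stalk ξ) :=
    IsScalarTower.of_algebraMap_smul (fun r m => rfl)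
  haveI l := PullDivH.isLocalization_stalkSpecializes x ξ h
  haveI := isLocalizedModule_spLin F h
  refine length_eq_of_isLocalizedModule (RingHom.ker (Cyc.specMap x ξ h)) ?_ ?_ (spLin F h)
  · rintro ⟨s, hs⟩
    exact isUnit_sp_of_notMem h s hs
  · intro c
    obtain ⟨⟨b, s⟩, hbs⟩ := IsLocalization.surj (RingHom.ker (Cyc.specMap x ξ h)).primeCompl c
    exact ⟨b, s, hbs⟩

/-- the support of the stalk, in terms of the annihilator -/
theorem nontrivial_stalk_iff {x ξ : X} (h : ξ ⤳ x)
    [Module.Finite (X.presheaf.stalk x) (F.presheaf.stalk x)] :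
    Nontrivial (F.presheaf.stalk ξ) ↔
      Module.annihilator (X.presheaf.stalk x) (F.presheaf.stalk x) ≤
        RingHom.ker (Cyc.specMap x ξ h) := by
  letI := spMod F h
  haveI : (RingHom.ker (Cyc.specMap x ξ h)).IsPrime := RingHom.ker_isPrime _
  haveI := isLocalizedModule_spLin F h
  let e := IsLocalizedModule.iso (RingHom.ker (Cyc.specMap x ξ h)).primeCompl (spLin F h)
  have h1 := Module.mem_support_iff_of_finite (R := X.presheaf.stalk x)
    (M := F.presheaf.stalk x) (p := ⟨RingHom.ker (Cyc.specMap x ξ h), inferInstance⟩)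
  rw [Module.mem_support_iff] at h1
  rw [← h1]
  constructor
  · intro hn
    exact e.toEquiv.nontrivial
  · intro hn
    exact e.symm.toEquiv.nontrivial

omit [F.IsQuasicoherent] in
/-- stalks of coherent modules are finite -/
theorem finite_stalk (hF : Coh.IsCoh F) (x : X) :
    Module.Finite (X.presheaf.stalk x) (F.presheaf.stalk x) := by
  haveI : F.IsQuasicoherent := hF.1
  obtain ⟨_, ⟨U, hU : IsAffineOpen U, rfl⟩, hxU, -⟩ :=
    X.isBasis_affineOpens.exists_subset_of_mem_open (Set.mem_univ x) isOpen_univ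
  haveI : Module.Finite Γ(X, U) Γ(F, U) :=
    Groth.Agent.Helper4.SecDict.finite_sections hU F hF.1 hF.2
  letI := sectionModStalk F x hxU
  letI := X.presheaf.algebra_section_stalk ⟨x, hxU⟩
  haveI := hU.isLocalization_stalk ⟨x, hxU⟩
  haveI := isLocalizedModule_germ hU F x hxU
  haveI : IsScalarTower Γ(X, U) (X.presheaf.stalk x) (F.presheaf.stalk x) :=
    IsScalarTower.of_algebraMap_smul (fun r m => rfl)
  exact Module.Finite.of_isLocalizedModule
    (hU.primeIdealOf ⟨x, hxU⟩).asIdeal.primeCompl (germLin F x hxU)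

omit [F.IsQuasicoherent] in
/-- a sum over points supported on the points attached to the minimal primes of a quotient of the
local ring -/
theorem finsum_eq_sum_minSpec_quot (x : X) [IsNoetherianRing (X.presheaf.stalk x)]
    (J : Ideal (X.presheaf.stalk x)) (T : X → ℤ)
    (hT : ∀ ξ, T ξ ≠ 0 → ∃ q' ∈ minSpec (X.presheaf.stalk x ⧸ J),
      X.fromSpecStalk x (comapSpec x J q') = ξ) :
    ∑ᶠ ξ : X, T ξ =
      ∑ q' ∈ (minSpec_finite (A := X.presheaf.stalk x ⧸ J)).toFinset,
        T (X.fromSpecStalk x (comapSpec x J q')) := by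
  let e : ↥(minSpec (X.presheaf.stalk x ⧸ J)) → X := fun q' =>
    X.fromSpecStalk x (comapSpec x J q'.1)
  have he : Function.Injective e := by
    intro q1 q2 h12
    have h2 : comapSpec x J q1.1 = comapSpec x J q2.1 :=
      (X.fromSpecStalk x).isEmbedding.injective h12
    have h3 : q1.1.asIdeal.comap (Ideal.Quotient.mk J) = q2.1.asIdeal.comap (Ideal.Quotient.mk J) :=
      congrArg PrimeSpectrum.asIdeal h2
    apply Subtype.ext
    apply PrimeSpectrum.ext
    rw [← map_comap_mk J q1.1.asIdeal, h3, map_comap_mk J q2.1.asIdeal]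
  have hsupp : ∀ ξ ∈ Function.support T, ξ ∈ (Set.univ : Set X) ↔ ξ ∈ Set.range e := by
    intro ξ hξ
    refine ⟨fun _ => ?_, fun _ => trivial⟩
    obtain ⟨q', hq', hq'ξ⟩ := hT ξ hξ
    exact ⟨⟨q', hq'⟩, hq'ξ⟩
  rw [← finsum_mem_univ, finsum_mem_inter_support_eq' _ _ _ hsupp, finsum_mem_range he]
  have h1 := finsum_set_coe_eq_finsum_mem
    (f := fun q' : PrimeSpectrum (X.presheaf.stalk x ⧸ J) =>
      T (X.fromSpecStalk x (comapSpec x J q')))
    (minSpec (X.presheaf.stalk x ⧸ J))
  exact h1.trans (finsum_mem_eq_finite_toFinset_sum _ minSpec_finite)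

section main

open Groth.Agent.Helper3.SecOrd Groth.Agent.Helper3.Gysin Groth.Agent.Lead.Ref1K
  Groth.Agent.Helper4.QAffSec

theorem gysin_sheaf_pt (X D : Scheme.{u}) (δ : X → ℤ) (hX : Cyc.IsSetup X δ) (L : X.Modules)
    (hL : PicF.IsInvertible L) (s : L.presheaf.obj (Opposite.op ⊤)) (i : D ⟶ X)
    [IsClosedImmersion i] (hD : Cyc.IsZeroSchemeOf i L s) (k : ℤ) (F : X.Modules)
    (hF : Coh.IsCoh F) (hdim : ∀ x : X, Nontrivial (F.presheaf.stalk x) → δ x ≤ k + 1)
    (hreg : ∀ (x : X) (t : L.presheaf.stalk x) (f : X.presheaf.stalk x),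
      Submodule.span (X.presheaf.stalk x) {t} = ⊤ → (L.presheaf.germ ⊤ x trivial) s = f • t →
      Function.Injective (fun m : F.presheaf.stalk x => f • m))
    (w : (ξ : X) → Cyc.secFibre L ξ) (d : D) :
    Cyc.c1CapFun δ L (Cyc.sheafFun δ (k + 1) F) (Cyc.gysinChoice L s w) (i d) =
      Cyc.sheafFun (fun d => δ (i d)) k ((Scheme.Modules.pullback i).obj F) d := by
  classical
  haveI := hX.1
  haveI : F.IsQuasicoherent := hF.1
  haveI : L.IsQuasicoherent := isQuasicoherent_of_isInvertible L hL
  haveI hfin := finite_stalk F hF (i d)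
  obtain ⟨t, ht⟩ := fr1At_of_isInvertible L hL (i d)
  obtain ⟨b, hb0⟩ := ht.2 ((L.presheaf.germ ⊤ (i d) trivial) s)
  have hb : (L.presheaf.germ ⊤ (i d) trivial) s = b • t := hb0.symm
  have hbreg : IsSMulRegular (F.presheaf.stalk (i d)) b :=
    hreg (i d) t b (ZeroSec.span_eq_top_of_bijective ht) hb
  unfold Cyc.c1CapFun
  set T : X → ℤ := fun ξ => Cyc.sheafFun δ (k + 1) F ξ *
    Cyc.secDivFun δ L ξ (Cyc.gysinChoice L s w ξ) (i d) with hT
  have hTnz : ∀ ξ, T ξ ≠ 0 → ξ ⤳ i d ∧ δ (i d) + 1 = δ ξ ∧ δ ξ = k + 1 ∧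
      Nontrivial (F.presheaf.stalk ξ) := by
    intro ξ hne
    have h1 : Cyc.sheafFun δ (k + 1) F ξ ≠ 0 :=
      fun h0 => hne (by rw [hT]; simp only; rw [h0, zero_mul])
    have h2 : Cyc.secDivFun δ L ξ (Cyc.gysinChoice L s w ξ) (i d) ≠ 0 :=
      fun h0 => hne (by rw [hT]; simp only; rw [h0, mul_zero])
    have h3 : ξ ⤳ i d ∧ δ (i d) + 1 = δ ξ := by
      by_contra hcon
      apply h2
      unfold Cyc.secDivFun
      rw [dif_neg hcon]
    have h4 : δ ξ = k + 1 := by
      by_contra hcon
      apply h1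
      unfold Cyc.sheafFun
      rw [if_neg hcon]
    refine ⟨h3.1, h3.2, h4, ?_⟩
    by_contra hnt
    rw [not_nontrivial_iff_subsingleton] at hnt
    apply h1
    unfold Cyc.sheafFun
    rw [if_pos h4]
    have : Module.length (X.presheaf.stalk ξ) (F.presheaf.stalk ξ) = 0 :=
      Module.length_eq_zero_iff.mpr hnt
    rw [this]
    rfl
  by_cases hk : δ (i d) = k
  swap
  · have hR : Cyc.sheafFun (fun d => δ (i d)) k ((Scheme.Modules.pullback i).obj F) d = 0 := by
      unfold Cyc.sheafFun
      exact if_neg hk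
    rw [hR]
    apply finsum_eq_zero_of_forall_eq_zero
    intro ξ
    by_contra hne
    obtain ⟨h1, h2, h3, h4⟩ := hTnz ξ hne
    apply hk
    omega
  -- the main case
  set I : Ideal (X.presheaf.stalk (i d)) :=
    Module.annihilator (X.presheaf.stalk (i d)) (F.presheaf.stalk (i d)) with hI
  letI : Module (X.presheaf.stalk (i d) ⧸ I) (F.presheaf.stalk (i d)) := Module.quotientAnnihilator
  have hS : ∀ P : ↥(Spec (X.presheaf.stalk (i d))),
      Nontrivial (F.presheaf.stalk (X.fromSpecStalk (i d) P)) ↔ I ≤ P.asIdeal := by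
    intro P
    have hξx := fromSpecStalk_specializes (i d) P
    rw [nontrivial_stalk_iff F hξx, PullDivB.ker_specMap (i d) P hξx]
  have hδP : ∀ P : ↥(Spec (X.presheaf.stalk (i d))), I ≤ P.asIdeal →
      δ (X.fromSpecStalk (i d) P) ≤ k + 1 := fun P hP => hdim _ ((hS P).mpr hP)
  have hδP' : ∀ P : ↥(Spec (X.presheaf.stalk (i d))), I ≤ P.asIdeal →
      X.fromSpecStalk (i d) P ≠ i d → δ (X.fromSpecStalk (i d) P) = k + 1 := by
    intro P hP hne
    have h1 := (hX.2.2 _ _ (fromSpecStalk_specializes (i d) P) hne).1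
    have h2 := hδP P hP
    omega
  have huniq : ∀ P P3 : ↥(Spec (X.presheaf.stalk (i d))), I ≤ P3.asIdeal →
      P3.asIdeal ≤ P.asIdeal → X.fromSpecStalk (i d) P ≠ i d → P3 = P := by
    intro P P3 hP3 hle hne
    have hP : I ≤ P.asIdeal := hP3.trans hle
    have hsp : X.fromSpecStalk (i d) P3 ⤳ X.fromSpecStalk (i d) P :=
      (fromSpecStalk_specializes_iff (i d) P3 P).mpr hle
    by_contra hne3
    have hne3' : X.fromSpecStalk (i d) P3 ≠ X.fromSpecStalk (i d) P :=
      fun h => hne3 ((X.fromSpecStalk (i d)).isEmbedding.injective h)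
    have h1 := (hX.2.2 _ _ hsp hne3').1
    have h2 := hδP P3 hP3
    have h3 := hδP' P hP hne
    omega
  have hdimA : ringKrullDim (X.presheaf.stalk (i d) ⧸ I) ≤ 1 := by
    suffices hk' : Ring.KrullDimLE 1 (X.presheaf.stalk (i d) ⧸ I) by
      exact_mod_cast Ring.krullDimLE_iff.mp hk'
    rw [Ring.krullDimLE_one_iff]
    intro I' hI'
    let q2 : PrimeSpectrum (X.presheaf.stalk (i d) ⧸ I) := ⟨I', hI'⟩
    by_cases hpt : X.fromSpecStalk (i d) (comapSpec (i d) I q2) = i d
    · right
      have hcl : comapSpec (i d) I q2 = IsLocalRing.closedPoint (X.presheaf.stalk (i d)) := by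
        apply (X.fromSpecStalk (i d)).isEmbedding.injective
        rw [hpt, Scheme.fromSpecStalk_closedPoint]
      have h1 : I'.comap (Ideal.Quotient.mk I) = maximalIdeal (X.presheaf.stalk (i d)) :=
        congrArg PrimeSpectrum.asIdeal hcl
      have h2 := map_comap_mk I I'
      rw [h1] at h2
      rcases Ideal.map_eq_top_or_isMaximal_of_surjective (Ideal.Quotient.mk I)
        Ideal.Quotient.mk_surjective (IsLocalRing.maximalIdeal.isMaximal (X.presheaf.stalk (i d)))
        with h3 | h3
      · rw [h2] at h3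
        exact absurd h3 hI'.ne_top
      · rwa [h2] at h3
    · left
      refine ⟨⟨hI', bot_le⟩, ?_⟩
      rintro I3 ⟨hI3, -⟩ hle
      let q3 : PrimeSpectrum (X.presheaf.stalk (i d) ⧸ I) := ⟨I3, hI3⟩
      have h1 := huniq (comapSpec (i d) I q2) (comapSpec (i d) I q3) (le_comap_mk I I3)
        (Ideal.comap_mono hle) hpt
      have h2 : I3.comap (Ideal.Quotient.mk I) = I'.comap (Ideal.Quotient.mk I) :=
        congrArg PrimeSpectrum.asIdeal h1
      rw [← map_comap_mk I I', ← h2, map_comap_mk I I3]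
  have hmin : ∀ q' ∈ minimalPrimes (X.presheaf.stalk (i d) ⧸ I), Ideal.Quotient.mk I b ∉ q' := by
    intro q' hq' hbq
    have h1 : q'.comap (Ideal.Quotient.mk I) ∈ I.minimalPrimes := by
      rw [Ideal.minimalPrimes_eq_comap]
      exact ⟨q', hq', rfl⟩
    have h2 : q'.comap (Ideal.Quotient.mk I) ∈
        associatedPrimes (X.presheaf.stalk (i d)) (F.presheaf.stalk (i d)) :=
      Module.associatedPrimes.minimalPrimes_annihilator_subset_associatedPrimes _ _ h1
    have h3 : b ∈ ({r : X.presheaf.stalk (i d) | IsSMulRegular (F.presheaf.stalk (i d)) r}ᶜ :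
        Set (X.presheaf.stalk (i d))) := by
      rw [← biUnion_associatedPrimes_eq_compl_regular]
      simp only [Set.mem_iUnion]
      exact ⟨_, h2, hbq⟩
    exact h3 hbreg
  -- reindex the sum
  have hTq : ∀ ξ, T ξ ≠ 0 → ∃ q' ∈ minSpec (X.presheaf.stalk (i d) ⧸ I),
      X.fromSpecStalk (i d) (comapSpec (i d) I q') = ξ := by
    intro ξ hne
    obtain ⟨hsp, h2, h3, hnt⟩ := hTnz ξ hne
    obtain ⟨P, hP⟩ := exists_prime_of_specializes (i d) ξ hsp
    have hIP : I ≤ P.asIdeal := (hS P).mp (by rw [hP]; exact hnt)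
    have hne' : X.fromSpecStalk (i d) P ≠ i d := by
      rw [hP]
      intro h
      rw [h] at h2
      omega
    haveI := P.isPrime
    haveI hprime : (P.asIdeal.map (Ideal.Quotient.mk I)).IsPrime :=
      map_mk_isPrime I P.asIdeal hIP
    let q' : PrimeSpectrum (X.presheaf.stalk (i d) ⧸ I) :=
      ⟨P.asIdeal.map (Ideal.Quotient.mk I), hprime⟩
    have hcomap : comapSpec (i d) I q' = P := PrimeSpectrum.ext (comap_map_mk I P.asIdeal hIP)
    refine ⟨q', ?_, by rw [hcomap, hP]⟩
    refine ⟨⟨hprime, bot_le⟩, ?_⟩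
    rintro I3 ⟨hI3, -⟩ hle
    let q3 : PrimeSpectrum (X.presheaf.stalk (i d) ⧸ I) := ⟨I3, hI3⟩
    have hle' : (comapSpec (i d) I q3).asIdeal ≤ P.asIdeal := by
      have := Ideal.comap_mono (f := Ideal.Quotient.mk I) hle
      rwa [comap_map_mk I P.asIdeal hIP] at this
    have h1 := huniq P (comapSpec (i d) I q3) (le_comap_mk I I3) hle' hne'
    have h2' : I3.comap (Ideal.Quotient.mk I) = P.asIdeal := congrArg PrimeSpectrum.asIdeal h1
    show P.asIdeal.map (Ideal.Quotient.mk I) ≤ I3
    rw [← h2', map_comap_mk I I3]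
  change ∑ᶠ ξ : X, T ξ = _
  rw [finsum_eq_sum_minSpec_quot (i d) I T hTq]
  have hterm : ∀ q' ∈ (minSpec_finite (A := X.presheaf.stalk (i d) ⧸ I)).toFinset,
      T (X.fromSpecStalk (i d) (comapSpec (i d) I q')) =
        ((Module.length (Localization.AtPrime (q'.asIdeal.comap (Ideal.Quotient.mk I)))
          (LocalizedModule (q'.asIdeal.comap (Ideal.Quotient.mk I)).primeCompl
            (F.presheaf.stalk (i d)))).toNat : ℤ) *
        ((Module.length (X.presheaf.stalk (i d)) (X.presheaf.stalk (i d) ⧸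
            (q'.asIdeal.comap (Ideal.Quotient.mk I) ⊔ Ideal.span {b}))).toNat : ℤ) := by
    intro q' hq'
    have hq'' : q' ∈ minSpec (X.presheaf.stalk (i d) ⧸ I) := (Set.Finite.mem_toFinset _).mp hq'
    have hqmin : q'.asIdeal ∈ minimalPrimes (X.presheaf.stalk (i d) ⧸ I) := hq''
    have hbq : Ideal.Quotient.mk I b ∉ q'.asIdeal := hmin _ hqmin
    have hIP : I ≤ (comapSpec (i d) I q').asIdeal := le_comap_mk I q'.asIdeal
    have hξx : X.fromSpecStalk (i d) (comapSpec (i d) I q') ⤳ i d :=
      fromSpecStalk_specializes (i d) _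
    have hkerξ : RingHom.ker (Cyc.specMap (i d) (X.fromSpecStalk (i d) (comapSpec (i d) I q')) hξx) =
        q'.asIdeal.comap (Ideal.Quotient.mk I) :=
      PullDivB.ker_specMap (i d) (comapSpec (i d) I q') hξx
    by_cases hpt : X.fromSpecStalk (i d) (comapSpec (i d) I q') = i d
    · have hcl : comapSpec (i d) I q' = IsLocalRing.closedPoint (X.presheaf.stalk (i d)) := by
        apply (X.fromSpecStalk (i d)).isEmbedding.injective
        rw [hpt, Scheme.fromSpecStalk_closedPoint]
      have h1 : q'.asIdeal.comap (Ideal.Quotient.mk I) = maximalIdeal (X.presheaf.stalk (i d)) :=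
        congrArg PrimeSpectrum.asIdeal hcl
      have hbu : IsUnit b := by
        by_contra hnu
        apply hbq
        have : b ∈ maximalIdeal (X.presheaf.stalk (i d)) := (IsLocalRing.mem_maximalIdeal b).mpr hnu
        rw [← h1] at this
        exact this
      rw [ZeroSec.length_quot_sup_span_unit _ hbu, hT]
      simp only
      unfold Cyc.sheafFun
      rw [if_neg (by rw [hpt]; omega)]
      simp
    · have hδξ := hδP' _ hIP hpt
      generalize X.fromSpecStalk (i d) (comapSpec (i d) I q') = ξ at hξx hkerξ hpt hδξ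
      rw [hT]
      simp only
      congr 1
      · unfold Cyc.sheafFun
        rw [if_pos hδξ, length_stalk_eq_localized F hξx (q'.asIdeal.comap (Ideal.Quotient.mk I))
          hkerξ.symm]
      · have hb0' : Cyc.specMap (i d) ξ hξx b ≠ 0 := by
          intro h
          have : b ∈ RingHom.ker (Cyc.specMap (i d) ξ hξx) := RingHom.mem_ker.mpr h
          rw [hkerξ] at this
          exact hbq this
        have hunit : IsUnit ((X.presheaf.stalkSpecializes hξx).hom b) :=
          isUnit_sp_of_notMem hξx b (fun hmem => hb0' (RingHom.mem_ker.mp hmem))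
        have htξ := bijective_sp L hξx (fr1At_of_isInvertible L hL ξ) ht
        have hgerm : (L.presheaf.germ ⊤ ξ trivial) s =
            (X.presheaf.stalkSpecializes hξx).hom b • (L.presheaf.stalkSpecializes hξx).hom t := by
          rw [← Groth.Agent.Lead.Ref1H.sp_smul, ← hb,
            Groth.Agent.Lead.Ref1H.sp_germ L hξx (U := ⊤) trivial s]
        have hne : (Submodule.Quotient.mk ((L.presheaf.germ ⊤ ξ trivial) s) :
            Cyc.secFibre L ξ) ≠ 0 := by
          rw [Ne, mk_germ_eq_zero_iff L ξ htξ _ _ hgerm, not_not]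
          exact hunit
        have hgc : Cyc.gysinChoice L s w ξ = (X.presheaf.stalkSpecializes hξx).hom b •
            mkF L ξ ((L.presheaf.stalkSpecializes hξx).hom t) := by
          unfold Cyc.gysinChoice
          rw [if_pos hne, hgerm]
          rfl
        unfold Cyc.secDivFun
        rw [dif_pos ⟨hξx, by rw [hδξ, hk]⟩, secOrdAt_eq L hξx t ht htξ _ _ hgc]
        have hdim' : ringKrullDim (Cyc.LocQuot (i d) ξ hξx) ≤ 1 := by
          rw [Groth.Agent.Helper5.CycDim.ringKrullDim_locQuot δ hX.2.2 (i d) _ hξx]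
          have : (δ ξ - δ (i d)).toNat = 1 := by omega
          rw [this]
          rfl
        have h10 : Cyc.specMap (i d) ξ hξx 1 ≠ 0 := by
          rw [map_one]
          exact one_ne_zero
        have hdiv := PullDivH.ordAt_div' (i d) ξ hξx hdim' b 1 hb0' h10
        rw [map_one, div_one, hkerξ, ZeroSec.length_quot_sup_span_unit _ isUnit_one] at hdiv
        simp only [ENat.toNat_zero, Nat.cast_zero, sub_zero] at hdiv
        rw [← hdiv]
        rfl
  rw [Finset.sum_congr rfl hterm, ← length_quotSMulTop_eq_sum I hdimA b hmin hbreg]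
  have hker : RingHom.ker (i.stalkMap d).hom = Ideal.span {b} := by
    have := ker_eq_span_of_zeroScheme L s i hD d (i d) rfl ht b hb
    rwa [TopCat.Presheaf.stalkSpecializes_refl, Category.id_comp] at this
  have hsurj : Function.Surjective (i.stalkMap d).hom := i.stalkMap_surjective d
  have hlen : Module.length (D.presheaf.stalk d)
      (((Scheme.Modules.pullback i).obj F).presheaf.stalk d) =
      Module.length (X.presheaf.stalk (i d)) (QuotSMulTop b (F.presheaf.stalk (i d))) := by
    letI := (i.stalkMap d).hom.toAlgebra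
    obtain ⟨e⟩ := Groth.Agent.Lead.StalkPull.nonempty_stalk_pullback_equiv i F d
    rw [e.length_eq]
    exact length_tensor_of_surjective hsurj b hker _
  unfold Cyc.sheafFun
  rw [← hlen]
  exact (if_pos hk).symm

end main

end Groth.Agent.Helper3.ModLoc
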