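import Mathlib
import Groth.Prelude
import Groth.Agent.Helper3.ModLocC

set_option autoImplicit false
set_option linter.style.haveILetI false
set_option linter.unusedSectionVars false
set_option linter.unusedVariables false
set_option linter.deprecated false
set_option linter.style.haveILetI false
set_option linter.unusedSectionVars false
set_option linter.unusedVariables false

universe u

open CategoryTheory CategoryTheory.Limits AlgebraicGeometry TopologicalSpace Opposite IsLocalRing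

namespace Groth.Agent.Helper3.ModLoc

open Groth.Agent.Helper4.StalkDict Groth.Agent.Helper5.StalkDict Groth.Agent.Helper6.Dim1
  Groth.Agent.Helper3.PullDivJ

section core

open Classical in
/-- the cycle of `F/bF` at a point in terms of the cycle of `F`: the local computation -/
theorem core (X : Scheme.{u}) (δ : X → ℤ) [IsLocallyNoetherian X] (hδ : Cyc.IsDimFun X δ) (k : ℤ)
    (F : X.Modules) (hF : Coh.IsCoh F) (x₀ : X) (hk : δ x₀ = k)
    (hdim : ∀ ξ : X, ξ ⤳ x₀ → Nontrivial (F.presheaf.stalk ξ) → δ ξ ≤ k + 1)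
    (b : X.presheaf.stalk x₀) (hbreg : IsSMulRegular (F.presheaf.stalk x₀) b) :
    ∑ᶠ ξ : X, (if h : ξ ⤳ x₀ ∧ δ ξ = k + 1 then
        ((Module.length (X.presheaf.stalk ξ) (F.presheaf.stalk ξ)).toNat : ℤ) *
          ((Module.length (X.presheaf.stalk x₀) (X.presheaf.stalk x₀ ⧸
            (RingHom.ker (Cyc.specMap x₀ ξ h.1) ⊔ Ideal.span {b}))).toNat : ℤ)
        else 0) =
      ((Module.length (X.presheaf.stalk x₀) (QuotSMulTop b (F.presheaf.stalk x₀))).toNat : ℤ) := by
  classical
  haveI : F.IsQuasicoherent := hF.1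
  haveI hfin := finite_stalk F hF x₀
  set T : X → ℤ := fun ξ => if h : ξ ⤳ x₀ ∧ δ ξ = k + 1 then
        ((Module.length (X.presheaf.stalk ξ) (F.presheaf.stalk ξ)).toNat : ℤ) *
          ((Module.length (X.presheaf.stalk x₀) (X.presheaf.stalk x₀ ⧸
            (RingHom.ker (Cyc.specMap x₀ ξ h.1) ⊔ Ideal.span {b}))).toNat : ℤ)
        else 0 with hT
  have hTnz : ∀ ξ, T ξ ≠ 0 → ξ ⤳ x₀ ∧ δ ξ = k + 1 ∧ Nontrivial (F.presheaf.stalk ξ) := by
    intro ξ hne
    by_cases h : ξ ⤳ x₀ ∧ δ ξ = k + 1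
    · refine ⟨h.1, h.2, ?_⟩
      by_contra hnt
      rw [not_nontrivial_iff_subsingleton] at hnt
      apply hne
      rw [hT]
      simp only
      rw [dif_pos h]
      have : Module.length (X.presheaf.stalk ξ) (F.presheaf.stalk ξ) = 0 :=
        Module.length_eq_zero_iff.mpr hnt
      rw [this]
      simp
    · exfalso
      apply hne
      rw [hT]
      simp only
      rw [dif_neg h]
  set I : Ideal (X.presheaf.stalk x₀) :=
    Module.annihilator (X.presheaf.stalk x₀) (F.presheaf.stalk x₀) with hI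
  letI : Module (X.presheaf.stalk x₀ ⧸ I) (F.presheaf.stalk x₀) := Module.quotientAnnihilator
  have hS : ∀ P : ↥(Spec (X.presheaf.stalk x₀)),
      Nontrivial (F.presheaf.stalk (X.fromSpecStalk x₀ P)) ↔ I ≤ P.asIdeal := by
    intro P
    have hξx := fromSpecStalk_specializes x₀ P
    rw [nontrivial_stalk_iff F hξx, PullDivB.ker_specMap x₀ P hξx]
  have hδP : ∀ P : ↥(Spec (X.presheaf.stalk x₀)), I ≤ P.asIdeal →
      δ (X.fromSpecStalk x₀ P) ≤ k + 1 :=
    fun P hP => hdim _ (fromSpecStalk_specializes x₀ P) ((hS P).mpr hP)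
  have hδP' : ∀ P : ↥(Spec (X.presheaf.stalk x₀)), I ≤ P.asIdeal →
      X.fromSpecStalk x₀ P ≠ x₀ → δ (X.fromSpecStalk x₀ P) = k + 1 := by
    intro P hP hne
    have h1 := (hδ _ _ (fromSpecStalk_specializes x₀ P) hne).1
    have h2 := hδP P hP
    omega
  have huniq : ∀ P P3 : ↥(Spec (X.presheaf.stalk x₀)), I ≤ P3.asIdeal →
      P3.asIdeal ≤ P.asIdeal → X.fromSpecStalk x₀ P ≠ x₀ → P3 = P := by
    intro P P3 hP3 hle hne
    have hP : I ≤ P.asIdeal := hP3.trans hle
    have hsp : X.fromSpecStalk x₀ P3 ⤳ X.fromSpecStalk x₀ P :=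
      (fromSpecStalk_specializes_iff x₀ P3 P).mpr hle
    by_contra hne3
    have hne3' : X.fromSpecStalk x₀ P3 ≠ X.fromSpecStalk x₀ P :=
      fun h => hne3 ((X.fromSpecStalk x₀).isEmbedding.injective h)
    have h1 := (hδ _ _ hsp hne3').1
    have h2 := hδP P3 hP3
    have h3 := hδP' P hP hne
    omega
  have hdimA : ringKrullDim (X.presheaf.stalk x₀ ⧸ I) ≤ 1 := by
    suffices hk' : Ring.KrullDimLE 1 (X.presheaf.stalk x₀ ⧸ I) by
      exact_mod_cast Ring.krullDimLE_iff.mp hk'
    rw [Ring.krullDimLE_one_iff]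
    intro I' hI'
    let q2 : PrimeSpectrum (X.presheaf.stalk x₀ ⧸ I) := ⟨I', hI'⟩
    by_cases hpt : X.fromSpecStalk x₀ (comapSpec x₀ I q2) = x₀
    · right
      have hcl : comapSpec x₀ I q2 = IsLocalRing.closedPoint (X.presheaf.stalk x₀) := by
        apply (X.fromSpecStalk x₀).isEmbedding.injective
        rw [hpt, Scheme.fromSpecStalk_closedPoint]
      have h1 : I'.comap (Ideal.Quotient.mk I) = maximalIdeal (X.presheaf.stalk x₀) :=
        congrArg PrimeSpectrum.asIdeal hcl
      have h2 := map_comap_mk I I'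
      rw [h1] at h2
      rcases Ideal.map_eq_top_or_isMaximal_of_surjective (Ideal.Quotient.mk I)
        Ideal.Quotient.mk_surjective (IsLocalRing.maximalIdeal.isMaximal (X.presheaf.stalk x₀))
        with h3 | h3
      · rw [h2] at h3
        exact absurd h3 hI'.ne_top
      · rwa [h2] at h3
    · left
      refine ⟨⟨hI', bot_le⟩, ?_⟩
      rintro I3 ⟨hI3, -⟩ hle
      let q3 : PrimeSpectrum (X.presheaf.stalk x₀ ⧸ I) := ⟨I3, hI3⟩
      have h1 := huniq (comapSpec x₀ I q2) (comapSpec x₀ I q3) (le_comap_mk I I3)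
        (Ideal.comap_mono hle) hpt
      have h2 : I3.comap (Ideal.Quotient.mk I) = I'.comap (Ideal.Quotient.mk I) :=
        congrArg PrimeSpectrum.asIdeal h1
      rw [← map_comap_mk I I', ← h2, map_comap_mk I I3]
  have hmin : ∀ q' ∈ minimalPrimes (X.presheaf.stalk x₀ ⧸ I), Ideal.Quotient.mk I b ∉ q' := by
    intro q' hq' hbq
    have h1 : q'.comap (Ideal.Quotient.mk I) ∈ I.minimalPrimes := by
      rw [Ideal.minimalPrimes_eq_comap]
      exact ⟨q', hq', rfl⟩
    have h2 : q'.comap (Ideal.Quotient.mk I) ∈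
        associatedPrimes (X.presheaf.stalk x₀) (F.presheaf.stalk x₀) :=
      Module.associatedPrimes.minimalPrimes_annihilator_subset_associatedPrimes _ _ h1
    have h3 : b ∈ ({r : X.presheaf.stalk x₀ | IsSMulRegular (F.presheaf.stalk x₀) r}ᶜ :
        Set (X.presheaf.stalk x₀)) := by
      rw [← biUnion_associatedPrimes_eq_compl_regular]
      simp only [Set.mem_iUnion]
      exact ⟨_, h2, hbq⟩
    exact h3 hbreg
  -- reindex the sum
  have hTq : ∀ ξ, T ξ ≠ 0 → ∃ q' ∈ minSpec (X.presheaf.stalk x₀ ⧸ I),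
      X.fromSpecStalk x₀ (comapSpec x₀ I q') = ξ := by
    intro ξ hne
    obtain ⟨hsp, h3, hnt⟩ := hTnz ξ hne
    obtain ⟨P, hP⟩ := exists_prime_of_specializes x₀ ξ hsp
    have hIP : I ≤ P.asIdeal := (hS P).mp (by rw [hP]; exact hnt)
    have hne' : X.fromSpecStalk x₀ P ≠ x₀ := by
      rw [hP]
      intro h
      rw [h] at h3
      omega
    haveI := P.isPrime
    haveI hprime : (P.asIdeal.map (Ideal.Quotient.mk I)).IsPrime :=
      map_mk_isPrime I P.asIdeal hIP
    let q' : PrimeSpectrum (X.presheaf.stalk x₀ ⧸ I) :=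
      ⟨P.asIdeal.map (Ideal.Quotient.mk I), hprime⟩
    have hcomap : comapSpec x₀ I q' = P := PrimeSpectrum.ext (comap_map_mk I P.asIdeal hIP)
    refine ⟨q', ?_, by rw [hcomap, hP]⟩
    refine ⟨⟨hprime, bot_le⟩, ?_⟩
    rintro I3 ⟨hI3, -⟩ hle
    let q3 : PrimeSpectrum (X.presheaf.stalk x₀ ⧸ I) := ⟨I3, hI3⟩
    have hle' : (comapSpec x₀ I q3).asIdeal ≤ P.asIdeal := by
      have := Ideal.comap_mono (f := Ideal.Quotient.mk I) hle
      rwa [comap_map_mk I P.asIdeal hIP] at this
    have h1 := huniq P (comapSpec x₀ I q3) (le_comap_mk I I3) hle' hne'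
    have h2' : I3.comap (Ideal.Quotient.mk I) = P.asIdeal := congrArg PrimeSpectrum.asIdeal h1
    show P.asIdeal.map (Ideal.Quotient.mk I) ≤ I3
    rw [← h2', map_comap_mk I I3]
  change ∑ᶠ ξ : X, T ξ = _
  rw [finsum_eq_sum_minSpec_quot x₀ I T hTq]
  have hterm : ∀ q' ∈ (minSpec_finite (A := X.presheaf.stalk x₀ ⧸ I)).toFinset,
      T (X.fromSpecStalk x₀ (comapSpec x₀ I q')) =
        ((Module.length (Localization.AtPrime (q'.asIdeal.comap (Ideal.Quotient.mk I)))
          (LocalizedModule (q'.asIdeal.comap (Ideal.Quotient.mk I)).primeCompl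
            (F.presheaf.stalk x₀))).toNat : ℤ) *
        ((Module.length (X.presheaf.stalk x₀) (X.presheaf.stalk x₀ ⧸
            (q'.asIdeal.comap (Ideal.Quotient.mk I) ⊔ Ideal.span {b}))).toNat : ℤ) := by
    intro q' hq'
    have hq'' : q' ∈ minSpec (X.presheaf.stalk x₀ ⧸ I) := (Set.Finite.mem_toFinset _).mp hq'
    have hqmin : q'.asIdeal ∈ minimalPrimes (X.presheaf.stalk x₀ ⧸ I) := hq''
    have hbq : Ideal.Quotient.mk I b ∉ q'.asIdeal := hmin _ hqmin
    have hIP : I ≤ (comapSpec x₀ I q').asIdeal := le_comap_mk I q'.asIdeal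
    have hξx : X.fromSpecStalk x₀ (comapSpec x₀ I q') ⤳ x₀ :=
      fromSpecStalk_specializes x₀ _
    have hkerξ : RingHom.ker (Cyc.specMap x₀ (X.fromSpecStalk x₀ (comapSpec x₀ I q')) hξx) =
        q'.asIdeal.comap (Ideal.Quotient.mk I) :=
      PullDivB.ker_specMap x₀ (comapSpec x₀ I q') hξx
    by_cases hpt : X.fromSpecStalk x₀ (comapSpec x₀ I q') = x₀
    · have hcl : comapSpec x₀ I q' = IsLocalRing.closedPoint (X.presheaf.stalk x₀) := by
        apply (X.fromSpecStalk x₀).isEmbedding.injective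
        rw [hpt, Scheme.fromSpecStalk_closedPoint]
      have h1 : q'.asIdeal.comap (Ideal.Quotient.mk I) = maximalIdeal (X.presheaf.stalk x₀) :=
        congrArg PrimeSpectrum.asIdeal hcl
      have hbu : IsUnit b := by
        by_contra hnu
        apply hbq
        have : b ∈ maximalIdeal (X.presheaf.stalk x₀) := (IsLocalRing.mem_maximalIdeal b).mpr hnu
        rw [← h1] at this
        exact this
      rw [ZeroSec.length_quot_sup_span_unit _ hbu, hT]
      simp only
      rw [dif_neg (by rw [hpt]; intro h; omega)]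
      simp
    · have hδξ := hδP' _ hIP hpt
      generalize X.fromSpecStalk x₀ (comapSpec x₀ I q') = ξ at hξx hkerξ hpt hδξ
      rw [hT]
      simp only
      rw [dif_pos ⟨hξx, hδξ⟩, hkerξ,
        length_stalk_eq_localized F hξx (q'.asIdeal.comap (Ideal.Quotient.mk I)) hkerξ.symm]
  rw [Finset.sum_congr rfl hterm, ← length_quotSMulTop_eq_sum I hdimA b hmin hbreg]

end core

end Groth.Agent.Helper3.ModLoc
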