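import Mathlib
import Groth.Prelude
import Groth.Agent.Helper3.ProjSmooth

set_option autoImplicit false
set_option linter.style.haveILetI false
set_option linter.unusedSectionVars false
set_option linter.unusedVariables false
set_option linter.deprecated false
set_option linter.style.haveILetI false
set_option linter.unusedSectionVars false
set_option linter.unusedVariables false

universe u

open CategoryTheory CategoryTheory.Limits AlgebraicGeometry HomogeneousLocalization

namespace Groth.Agent.Helper3.P1Chart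

noncomputable section

open P1

/-- ring homs out of `ULift ℤ` are unique -/
theorem ringHom_R0_ext {S : Type*} [Semiring S] (f g : R0.{u} →+* S) : f = g := by
  have h : f.comp (ULift.ringEquiv.symm : ℤ ≃+* R0.{u}).toRingHom =
      g.comp (ULift.ringEquiv.symm : ℤ ≃+* R0.{u}).toRingHom := RingHom.ext_int _ _
  ext r
  have hr : (ULift.ringEquiv.symm : ℤ ≃+* R0.{u}) (ULift.ringEquiv r) = r :=
    RingEquiv.symm_apply_apply _ r
  have h2 := congrArg (fun φ => φ (ULift.ringEquiv r)) h
  simp only [RingHom.comp_apply] at h2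
  calc f r = f ((ULift.ringEquiv.symm : ℤ ≃+* R0.{u}) (ULift.ringEquiv r)) := by rw [hr]
    _ = g ((ULift.ringEquiv.symm : ℤ ≃+* R0.{u}) (ULift.ringEquiv r)) := h2
    _ = g r := by rw [hr]

/-- the degree zero part of the localisation at `T_i` -/
abbrev Aw (i : Fin (1 + 1)) : Type u := Away grading.{u} (T.{u} i)

/-- `τ i j = T_j / T_i` -/
def τ (i j : Fin (1 + 1)) : Aw.{u} i := Away.isLocalizationElem (X_mem.{u} i) (X_mem.{u} j)

theorem val_τ (i j : Fin (1 + 1)) :
    (τ.{u} i j).val = Localization.mk (T.{u} j) ⟨T.{u} i, Submonoid.mem_powers _⟩ := by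
  unfold τ Away.isLocalizationElem
  rw [Away.val_mk]
  congr 1
  · exact pow_one _
  · exact Subtype.ext (pow_one _)

theorem evalAway_τ (i j : Fin (1 + 1)) (hij : i ≠ j) : evalAway.{u} i (τ i j) = 0 := by
  unfold evalAway
  rw [RingHom.comp_apply]
  show (IsLocalization.Away.lift (T.{u} i) _) (τ.{u} i j).val = 0
  rw [val_τ, Localization.mk_eq_mk', IsLocalization.Away.lift, IsLocalization.lift_mk'_spec]
  simp [Pi.single_apply, hij.symm]

theorem evalAway_surjective (i : Fin (1 + 1)) : Function.Surjective (evalAway.{u} i) := by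
  intro r
  refine ⟨ProjSmooth.strHom 1 R0.{u} i r, ?_⟩
  exact congrArg (fun φ : R0.{u} →+* R0.{u} => φ r)
    (ringHom_R0_ext ((evalAway.{u} i).comp (ProjSmooth.strHom 1 R0.{u} i)) (RingHom.id _))

/-- the ring hom `MvPolynomial → (A_{T_i})_0`, `T_k ↦ T_k / T_i` -/
def r₀ (i : Fin (1 + 1)) : MvPolynomial (Fin (1 + 1)) R0.{u} →+* Aw.{u} i :=
  (ProjSmooth.rho 1 R0.{u} i).comp (algebraMap _ _)

theorem r₀_surjective (i : Fin (1 + 1)) : Function.Surjective (r₀.{u} i) := by
  intro z
  obtain ⟨⟨a, s⟩, h⟩ := IsLocalization.surj (Submonoid.powers (T.{u} i)) z.val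
  obtain ⟨n, hn⟩ := s.2
  have hT : ProjSmooth.rho 1 R0.{u} i (algebraMap _ _ (T.{u} i)) = 1 := by
    unfold ProjSmooth.rho
    rw [RingHom.comp_apply, Groth.Agent.Helper1.LA.Phi_algebraMap,
      Groth.Agent.Helper1.LA.phi0_f]
    show (AddMonoidAlgebra.lift _ _ ℤ (1 : Multiplicative ℤ →* _))
      (AddMonoidAlgebra.single (1 : ℤ) 1) = 1
    rw [AddMonoidAlgebra.lift_single]
    simp
  refine ⟨a, ?_⟩
  have h2 := congrArg (ProjSmooth.rho 1 R0.{u} i) h
  rw [map_mul, ProjSmooth.rho_val] at h2
  have h3 : ProjSmooth.rho 1 R0.{u} i (algebraMap _ _ (s : MvPolynomial (Fin (1 + 1)) R0.{u})) = 1 := by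
    rw [← hn, map_pow, map_pow, hT, one_pow]
  rw [h3, mul_one] at h2
  exact h2.symm

theorem r₀_T (i j : Fin (1 + 1)) : r₀.{u} i (T j) = τ i j := by
  unfold r₀ ProjSmooth.rho
  rw [RingHom.comp_apply, RingHom.comp_apply, Groth.Agent.Helper1.LA.Phi_algebraMap,
    Groth.Agent.Helper1.LA.phi0_of_mem (ProjSmooth.X_mem 1 R0.{u} i) (ProjSmooth.X_mem 1 R0.{u} j)]
  show (AddMonoidAlgebra.lift _ _ ℤ (1 : Multiplicative ℤ →* _))
      (AddMonoidAlgebra.single _ _) = _
  rw [AddMonoidAlgebra.lift_single]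
  simp only [MonoidHom.one_apply, smul_eq_mul, mul_one]
  apply HomogeneousLocalization.val_injective
  rw [val_τ, Groth.Agent.Helper1.LA.val_mk1]
  congr 1
  exact Subtype.ext (pow_one _)

theorem τ_self (i : Fin (1 + 1)) : τ.{u} i i = 1 := by
  apply HomogeneousLocalization.val_injective
  rw [val_τ, HomogeneousLocalization.val_one]
  exact Localization.mk_self ⟨T.{u} i, Submonoid.mem_powers _⟩

/-- the ring hom `ℤ[X] → (A_{T_i})_0`, `X ↦ T_j / T_i` -/
def ρ' (i j : Fin (1 + 1)) : Polynomial R0.{u} →+* Aw.{u} i :=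
  Polynomial.eval₂RingHom (ProjSmooth.strHom 1 R0.{u} i) (τ i j)

theorem ρ'_surjective (i j : Fin (1 + 1)) (hij : i ≠ j) : Function.Surjective (ρ'.{u} i j) := by
  let e : MvPolynomial (Fin (1 + 1)) R0.{u} →+* Polynomial R0.{u} :=
    MvPolynomial.eval₂Hom Polynomial.C (fun k => if k = i then 1 else Polynomial.X)
  have h : r₀.{u} i = (ρ' i j).comp e := by
    apply MvPolynomial.ringHom_ext
    · intro r
      exact congrArg (fun φ : R0.{u} →+* Aw.{u} i => φ r)
        (ringHom_R0_ext ((r₀ i).comp MvPolynomial.C) (((ρ' i j).comp e).comp MvPolynomial.C))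
    · intro k
      rw [show (MvPolynomial.X k : MvPolynomial (Fin (1 + 1)) R0.{u}) = T k from rfl, r₀_T,
        RingHom.comp_apply]
      show _ = ρ' i j (MvPolynomial.eval₂Hom _ _ (MvPolynomial.X k))
      rw [MvPolynomial.eval₂Hom_X']
      by_cases hk : k = i
      · rw [if_pos hk, map_one, hk, τ_self]
      · rw [if_neg hk]
        have hkj : k = j := by
          fin_cases i <;> fin_cases j <;> fin_cases k <;> simp_all
        rw [hkj]
        unfold ρ'
        simp
  intro z
  obtain ⟨a, ha⟩ := r₀_surjective i z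
  exact ⟨e a, by rw [← RingHom.comp_apply, ← h, ha]⟩

theorem evalAway_ρ' (i j : Fin (1 + 1)) (hij : i ≠ j) (g : Polynomial R0.{u}) :
    evalAway.{u} i (ρ' i j g) = g.eval 0 := by
  have h : (evalAway.{u} i).comp (ρ' i j) = Polynomial.evalRingHom (0 : R0.{u}) := by
    apply Polynomial.ringHom_ext
    · intro r
      exact congrArg (fun φ : R0.{u} →+* R0.{u} => φ r)
        (ringHom_R0_ext (((evalAway i).comp (ρ' i j)).comp Polynomial.C)
          ((Polynomial.evalRingHom (0 : R0.{u})).comp Polynomial.C))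
    · rw [RingHom.comp_apply]
      unfold ρ'
      simp [evalAway_τ i j hij]
  exact congrArg (fun φ => φ g) h

/-- **the kernel of evaluation at `T_j = 0` is generated by `T_j / T_i`** -/
theorem ker_evalAway (i j : Fin (1 + 1)) (hij : i ≠ j) :
    RingHom.ker (evalAway.{u} i) = Ideal.span {τ i j} := by
  apply le_antisymm
  · intro z hz
    obtain ⟨g, rfl⟩ := ρ'_surjective i j hij z
    rw [RingHom.mem_ker, evalAway_ρ' i j hij] at hz
    have h1 : Polynomial.X ∣ g := by
      rw [Polynomial.X_dvd_iff, Polynomial.coeff_zero_eq_eval_zero]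
      exact hz
    obtain ⟨h, rfl⟩ := h1
    rw [map_mul]
    have : ρ'.{u} i j Polynomial.X = τ i j := by
      unfold ρ'; simp
    rw [this]
    exact Ideal.mul_mem_right _ _ (Ideal.mem_span_singleton_self _)
  · rw [Ideal.span_le, Set.singleton_subset_iff]
    exact evalAway_τ i j hij

end

end Groth.Agent.Helper3.P1Chart
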