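import Mathlib
import Groth.Prelude
import Groth.Agent.Helper3.P1ChartA

set_option autoImplicit false
set_option linter.style.haveILetI false
set_option linter.unusedSectionVars false
set_option linter.unusedVariables false
set_option linter.deprecated false
set_option linter.style.haveILetI false
set_option linter.unusedSectionVars false
set_option linter.unusedVariables false

universe u

open CategoryTheory CategoryTheory.Limits AlgebraicGeometry HomogeneousLocalization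

namespace Groth.Agent.Helper3.P1Chart

noncomputable section

open P1

/-- `P^1` over (a lift of) `ℤ` -/
abbrev PZ : Scheme.{u} := Proj grading.{u}

/-- the standard chart `Spec (A_{T_i})_0 → P^1` -/
abbrev c (i : Fin (1 + 1)) : Spec (CommRingCat.of (Aw.{u} i)) ⟶ PZ.{u} :=
  Proj.awayι grading.{u} (T i) (X_mem i) one_pos

/-- the standard open `D_+(T_i)` -/
abbrev D (i : Fin (1 + 1)) : PZ.{u}.Opens := Proj.basicOpen grading.{u} (T i)

theorem opensRange_c (i : Fin (1 + 1)) : (c.{u} i).opensRange = D i :=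
  Proj.opensRange_awayι _ _ _ _

theorem range_c (i : Fin (1 + 1)) : Set.range (c.{u} i) = (D.{u} i : Set PZ.{u}) := by
  rw [← opensRange_c]; rfl

theorem D_cover : D.{u} 0 ⊔ D.{u} 1 = ⊤ := by
  have h := Proj.iSup_basicOpen_eq_top grading.{u} (fun i : Fin (1 + 1) => T.{u} i)
    (ProjSmooth.irrelevant_le_span 1 R0.{u})
  rw [← h]
  apply le_antisymm
  · exact sup_le (le_iSup (fun i : Fin (1 + 1) => Proj.basicOpen grading.{u} (T.{u} i)) 0)
      (le_iSup (fun i : Fin (1 + 1) => Proj.basicOpen grading.{u} (T.{u} i)) 1)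
  · refine iSup_le fun i => ?_
    fin_cases i
    · exact le_sup_left
    · exact le_sup_right

theorem mem_D_or (i j : Fin (1 + 1)) (hij : i ≠ j) (z : PZ.{u}) : z ∈ D.{u} i ∨ z ∈ D.{u} j := by
  have h : z ∈ D.{u} 0 ⊔ D.{u} 1 := by rw [D_cover]; trivial
  have h' : z ∈ D.{u} 0 ∨ z ∈ D.{u} 1 := h
  fin_cases i <;> fin_cases j <;> simp_all <;> tauto

theorem c_preimage_D (i j : Fin (1 + 1)) :
    c.{u} i ⁻¹ᵁ D j = PrimeSpectrum.basicOpen (τ.{u} i j) :=
  Proj.awayι_preimage_basicOpen grading.{u} (X_mem i) one_pos (X_mem j) one_pos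

/-- the point `T_j = 0` as a morphism to `Proj` -/
def pt (i : Fin (1 + 1)) : Spec (CommRingCat.of R0.{u}) ⟶ PZ.{u} :=
  Spec.map (CommRingCat.ofHom (evalAway.{u} i)) ≫ c i

theorem point_eq (i : Fin (1 + 1)) :
    pt.{u} i = Spec.map (CommRingCat.ofHom (evalAway.{u} i)) ≫ c i := rfl

theorem point_eq_pt (i : Fin (1 + 1)) : point.{u} i = pt.{u} i := rfl

theorem range_point (i j : Fin (1 + 1)) (hij : i ≠ j) :
    Set.range (pt.{u} i) = ((D.{u} j : Set PZ.{u}))ᶜ := by
  ext z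
  constructor
  · rintro ⟨w, rfl⟩ hz
    rw [point_eq, Scheme.Hom.comp_apply] at hz
    have h1 : Spec.map (CommRingCat.ofHom (evalAway.{u} i)) w ∈ c.{u} i ⁻¹ᵁ D j := hz
    rw [c_preimage_D] at h1
    apply h1
    show τ.{u} i j ∈ (Spec.map (CommRingCat.ofHom (evalAway.{u} i)) w).asIdeal
    show evalAway.{u} i (τ.{u} i j) ∈ w.asIdeal
    rw [evalAway_τ i j hij]
    exact zero_mem _
  · intro hz
    have hzi : z ∈ D.{u} i := (mem_D_or i j hij z).resolve_right hz
    rw [← SetLike.mem_coe, ← range_c] at hzi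
    obtain ⟨w', rfl⟩ := hzi
    have h1 : w' ∉ c.{u} i ⁻¹ᵁ D j := hz
    rw [c_preimage_D] at h1
    have h2 : τ.{u} i j ∈ w'.asIdeal := by
      by_contra hcon
      exact h1 hcon
    have h3 : w' ∈ Set.range (PrimeSpectrum.comap (evalAway.{u} i)) := by
      rw [_root_.range_comap_of_surjective _ _ (evalAway_surjective i), ker_evalAway i j hij]
      exact (PrimeSpectrum.mem_zeroLocus (w' : PrimeSpectrum (Aw.{u} i)) _).mpr (by
        rw [SetLike.coe_subset_coe, Ideal.span_le, Set.singleton_subset_iff]; exact h2)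
    obtain ⟨w, hw⟩ := h3
    exact ⟨w, by rw [point_eq, Scheme.Hom.comp_apply]; exact congrArg (c.{u} i) hw⟩

/-- the function `T_j / T_i` on `D_+(T_i)` -/
def σ (i j : Fin (1 + 1)) : Γ(PZ.{u}, D i) :=
  (Proj.awayToSection grading.{u} (T i)).hom (τ i j)

theorem c_le (i : Fin (1 + 1)) : (⊤ : (Spec (CommRingCat.of (Aw.{u} i))).Opens) ≤ c.{u} i ⁻¹ᵁ D i := by
  intro w _
  show c.{u} i w ∈ (D.{u} i : Set PZ.{u})
  rw [← range_c]
  exact ⟨w, rfl⟩

theorem awayToSection_c (i : Fin (1 + 1)) :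
    Proj.awayToSection grading.{u} (T i) ≫ (c.{u} i).appLE (D i) ⊤ (c_le i) =
      (Scheme.ΓSpecIso _).inv := by
  have hA : (c.{u} i).appLE (D i) ⊤ (c_le i) =
      (D.{u} i).topIso.inv ≫ (Proj.basicOpenIsoSpec grading.{u} (T i) (X_mem i) one_pos).inv.appTop := by
    have h1 := Scheme.Hom.appLE_comp_appLE
      (Proj.basicOpenIsoSpec grading.{u} (T i) (X_mem i) one_pos).inv (D.{u} i).ι (D i) ⊤ ⊤
      (by intro w _; exact w.2) le_top
    have h2 : (D.{u} i).ι.appLE (D i) ⊤ (by intro w _; exact w.2) = (D.{u} i).topIso.inv := by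
      rw [Scheme.Opens.ι_appLE]
      rfl
    refine h1.symm.trans ?_
    rw [h2]
    rfl
  have hB := Proj.basicOpenToSpec_app_top grading.{u} (T.{u} i)
  have hB' : Proj.awayToSection grading.{u} (T i) ≫ (D.{u} i).topIso.inv =
      (Scheme.ΓSpecIso _).inv ≫
        (Proj.basicOpenIsoSpec grading.{u} (T i) (X_mem i) one_pos).hom.appTop := by
    rw [Proj.basicOpenIsoSpec_hom, Iso.eq_inv_comp]
    exact hB.symm
  rw [hA, ← Category.assoc, hB', Category.assoc, ← Scheme.Hom.comp_appTop, Iso.inv_hom_id]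
  simp

theorem c_σ (i j : Fin (1 + 1)) :
    ((c.{u} i).appLE (D i) ⊤ (c_le i)).hom (σ i j) = (Scheme.ΓSpecIso _).inv.hom (τ.{u} i j) :=
  congrArg (fun φ => φ.hom (τ.{u} i j)) (awayToSection_c i)

theorem lift_le {Z : Scheme.{u}} (i : Fin (1 + 1)) (ℓ : Z ⟶ Spec (CommRingCat.of (Aw.{u} i))) :
    (⊤ : Z.Opens) ≤ (ℓ ≫ c.{u} i) ⁻¹ᵁ D i := by
  intro z _
  show (ℓ ≫ c.{u} i) z ∈ (D.{u} i : Set PZ.{u})
  rw [← range_c, Scheme.Hom.comp_apply]
  exact ⟨ℓ z, rfl⟩

/-- sections of `T_j / T_i` pulled back along a morphism which factors through the chart -/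
theorem lift_σ {Z : Scheme.{u}} (i j : Fin (1 + 1)) (ℓ : Z ⟶ Spec (CommRingCat.of (Aw.{u} i))) :
    ((ℓ ≫ c.{u} i).appLE (D i) ⊤ (lift_le i ℓ)).hom (σ i j) =
      ℓ.appTop.hom ((Scheme.ΓSpecIso _).inv.hom (τ.{u} i j)) := by
  have h1 := Scheme.Hom.appLE_comp_appLE ℓ (c.{u} i) (D i) ⊤ ⊤ (c_le i) le_top
  have h2 : ℓ.appLE ⊤ ⊤ le_top = ℓ.appTop := by
    simp [Scheme.Hom.appLE]
  rw [h2] at h1
  have h3 := congrArg (fun φ => φ.hom (σ.{u} i j)) h1
  simp only [CommRingCat.hom_comp, RingHom.comp_apply] at h3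
  rw [← h3, c_σ]

/-- `T_j/T_i · T_i/T_j = 1` in the degree zero part of the localisation at `T_i T_j` -/
theorem awayMap_τ_mul (i j : Fin (1 + 1)) :
    awayMap grading.{u} (X_mem j) (rfl : T.{u} i * T j = T i * T j) (τ i j) *
      awayMap grading.{u} (X_mem i) (mul_comm (T.{u} i) (T j)) (τ j i) = 1 := by
  unfold τ Away.isLocalizationElem
  rw [awayMap_mk, awayMap_mk]
  apply HomogeneousLocalization.val_injective
  rw [HomogeneousLocalization.val_mul, Away.val_mk, Away.val_mk, HomogeneousLocalization.val_one,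
    Localization.mk_mul]
  have : (T.{u} j ^ 1 * T j ^ 1) * (T.{u} i ^ 1 * T i ^ 1) = (T.{u} i * T j) ^ 1 * (T i * T j) ^ 1 := by
    ring
  rw [Localization.mk_eq_mk', this]
  exact IsLocalization.mk'_self' (M := Submonoid.powers (T.{u} i * T j)) (Localization (Submonoid.powers (T.{u} i * T j)))

/-- the open `D_+(T_i T_j)` -/
abbrev Dx (i j : Fin (1 + 1)) : PZ.{u}.Opens := Proj.basicOpen grading.{u} (T i * T j)

theorem Dx_eq (i j : Fin (1 + 1)) : Dx.{u} i j = D i ⊓ D j := Proj.basicOpen_mul _ _ _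

theorem Dx_le_left (i j : Fin (1 + 1)) : Dx.{u} i j ≤ D i := by rw [Dx_eq]; exact inf_le_left

theorem Dx_le_right (i j : Fin (1 + 1)) : Dx.{u} i j ≤ D j := by rw [Dx_eq]; exact inf_le_right

theorem σ_mul (i j : Fin (1 + 1)) :
    (PZ.{u}.presheaf.map (homOfLE (Dx_le_left i j)).op).hom (σ i j) *
      (PZ.{u}.presheaf.map (homOfLE (Dx_le_right i j)).op).hom (σ j i) = 1 := by
  have h1 := Proj.awayMap_awayToSection grading.{u} (X_mem.{u} j)
    (rfl : T.{u} i * T j = T i * T j)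
  have h2 := Proj.awayMap_awayToSection grading.{u} (X_mem.{u} i) (mul_comm (T.{u} i) (T j))
  have e1 := congrArg (fun φ => φ.hom (τ.{u} i j)) h1
  have e2 := congrArg (fun φ => φ.hom (τ.{u} j i)) h2
  simp only [CommRingCat.hom_comp, RingHom.comp_apply, CommRingCat.hom_ofHom] at e1 e2
  have e1' : (PZ.{u}.presheaf.map (homOfLE (Dx_le_left i j)).op).hom (σ i j) =
      (Proj.awayToSection grading.{u} (T i * T j)).hom
        (awayMap grading.{u} (X_mem j) (rfl : T.{u} i * T j = T i * T j) (τ i j)) := e1.symm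
  have e2' : (PZ.{u}.presheaf.map (homOfLE (Dx_le_right i j)).op).hom (σ j i) =
      (Proj.awayToSection grading.{u} (T i * T j)).hom
        (awayMap grading.{u} (X_mem i) (mul_comm (T.{u} i) (T j)) (τ j i)) := e2.symm
  rw [e1', e2', ← map_mul, awayMap_τ_mul, map_one]

/-- restricted to any open inside both charts, `T_j/T_i · T_i/T_j = 1` -/
theorem σ_mul' (i j : Fin (1 + 1)) (V : PZ.{u}.Opens) (h1 : V ≤ D i) (h2 : V ≤ D j) :
    (PZ.{u}.presheaf.map (homOfLE h1).op).hom (σ i j) *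
      (PZ.{u}.presheaf.map (homOfLE h2).op).hom (σ j i) = 1 := by
  have hV : V ≤ Dx.{u} i j := by rw [Dx_eq]; exact le_inf h1 h2
  have := congrArg (PZ.{u}.presheaf.map (homOfLE hV).op).hom (σ_mul i j)
  rw [map_mul, map_one] at this
  rw [← this]
  congr 1

end

end Groth.Agent.Helper3.P1Chart
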