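import Mathlib
import Groth.Prelude
import Groth.Agent.Helper3.P1ChartB

set_option autoImplicit false
set_option linter.style.haveILetI false
set_option linter.unusedSectionVars false
set_option linter.unusedVariables false
set_option linter.deprecated false
set_option linter.style.haveILetI false
set_option linter.unusedSectionVars false
set_option linter.unusedVariables false

universe u

open CategoryTheory CategoryTheory.Limits AlgebraicGeometry HomogeneousLocalization

namespace Groth.Agent.Helper3.P1Chart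

noncomputable section

open P1

variable (X : Scheme.{u})

/-- `P^1_X` -/
abbrev PX : Scheme.{u} := CohB1.ProjSpaceOver 1 X

/-- the structure morphism -/
abbrev π : PX X ⟶ X := CohB1.ProjSpaceOver.toBase 1 X

/-- the projection to `P^1_ℤ` -/
def q : PX X ⟶ PZ.{u} :=
  (pullback.fst (CohB1.ProjSpace.toSpec 1 R0.{u}) (specULiftZIsTerminal.from X) :
    PX X ⟶ CohB1.ProjSpace 1 R0.{u})

/-- the structure morphism of `P^1_ℤ` -/
def toZ : PZ.{u} ⟶ Spec (CommRingCat.of R0.{u}) := CohB1.ProjSpace.toSpec 1 R0.{u}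

theorem isPullback_PX : IsPullback (q X) (π X) toZ.{u} (specULiftZIsTerminal.from X) :=
  IsPullback.of_hasPullback (CohB1.ProjSpace.toSpec 1 R0.{u}) (specULiftZIsTerminal.from X)

theorem sect_π (i : Fin (1 + 1)) : sect X i ≫ π X = 𝟙 X :=
  pullback.lift_snd _ _ _

theorem sect_q (i : Fin (1 + 1)) : sect X i ≫ q X = specULiftZIsTerminal.from X ≫ pt.{u} i :=
  pullback.lift_fst _ _ _

theorem isPullback_sect (i : Fin (1 + 1)) :
    IsPullback (sect X i) (specULiftZIsTerminal.from X) (q X) (pt.{u} i) := by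
  have hbig : IsPullback (sect X i ≫ π X) (specULiftZIsTerminal.from X)
      (specULiftZIsTerminal.from X) (pt.{u} i ≫ toZ.{u}) := by
    rw [sect_π, show pt.{u} i ≫ toZ.{u} = 𝟙 _ from specULiftZIsTerminal.hom_ext _ _]
    exact IsPullback.id_horiz _
  exact IsPullback.of_right hbig (sect_q X i) (isPullback_PX X).flip

/-- the two standard opens of `P^1_X` -/
def U (i : Fin (1 + 1)) : (PX X).Opens := q X ⁻¹ᵁ D.{u} i

theorem mem_U_iff (i : Fin (1 + 1)) (y : PX X) : y ∈ U X i ↔ q X y ∈ D.{u} i := Iff.rfl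

theorem mem_U_or (i j : Fin (1 + 1)) (hij : i ≠ j) (y : PX X) : y ∈ U X i ∨ y ∈ U X j :=
  mem_D_or i j hij (q X y)

theorem range_sect (i j : Fin (1 + 1)) (hij : i ≠ j) :
    Set.range (sect X i) = ((U X j : Set (PX X)))ᶜ := by
  have h := isPullback_sect X i
  have h1 : Set.range (sect X i) = (q X) ⁻¹' Set.range (pt.{u} i) := by
    have hs : Set.range h.isoPullback.hom = Set.univ :=
      Set.range_eq_univ.mpr h.isoPullback.hom.homeomorph.surjective
    rw [← Scheme.Pullback.range_fst, ← h.isoPullback_hom_fst, Scheme.Hom.comp_base,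
      TopCat.coe_comp, Set.range_comp, hs, Set.image_univ]
  rw [h1, range_point i j hij]
  rfl

theorem sect_mem_U (i : Fin (1 + 1)) (x : X) : sect X i x ∈ U X i := by
  obtain ⟨j, hij⟩ : ∃ j : Fin (1 + 1), i ≠ j := by
    fin_cases i
    · exact ⟨1, by decide⟩
    · exact ⟨0, by decide⟩
  refine (mem_U_or X i j hij _).resolve_right ?_
  have : sect X i x ∈ Set.range (sect X i) := ⟨x, rfl⟩
  rw [range_sect X i j hij] at this
  exact this

/-- the coordinate function `T_j / T_i` on the chart `U i` -/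
def t (i j : Fin (1 + 1)) : Γ(PX X, U X i) := ((q X).app (D.{u} i)).hom (σ i j)

/-- on the overlap of the two charts, `T_j/T_i · T_i/T_j = 1` -/
theorem germ_t_mul (i j : Fin (1 + 1)) (y : PX X) (hi : y ∈ U X i) (hj : y ∈ U X j) :
    ((PX X).presheaf.germ (U X i) y hi).hom (t X i j) *
      ((PX X).presheaf.germ (U X j) y hj).hom (t X j i) = 1 := by
  have hV : y ∈ q X ⁻¹ᵁ (D.{u} i ⊓ D.{u} j) := ⟨hi, hj⟩
  have e1 : ((PX X).presheaf.germ (U X i) y hi).hom (t X i j) =
      ((PX X).presheaf.germ (q X ⁻¹ᵁ (D.{u} i ⊓ D.{u} j)) y hV).hom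
        (((q X).app (D.{u} i ⊓ D.{u} j)).hom
          ((PZ.{u}.presheaf.map (homOfLE (inf_le_left : D.{u} i ⊓ D.{u} j ≤ D i)).op).hom (σ i j))) := by
    have hn := (q X).naturality (homOfLE (inf_le_left : D.{u} i ⊓ D.{u} j ≤ D i)).op
    have hn' := congrArg (fun φ => φ.hom (σ.{u} i j)) hn
    simp only [CommRingCat.hom_comp, RingHom.comp_apply] at hn'
    rw [hn']
    unfold t
    rw [← RingHom.comp_apply, ← CommRingCat.hom_comp, TopCat.Presheaf.germ_res]
    rfl
  have e2 : ((PX X).presheaf.germ (U X j) y hj).hom (t X j i) =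
      ((PX X).presheaf.germ (q X ⁻¹ᵁ (D.{u} i ⊓ D.{u} j)) y hV).hom
        (((q X).app (D.{u} i ⊓ D.{u} j)).hom
          ((PZ.{u}.presheaf.map (homOfLE (inf_le_right : D.{u} i ⊓ D.{u} j ≤ D j)).op).hom (σ j i))) := by
    have hn := (q X).naturality (homOfLE (inf_le_right : D.{u} i ⊓ D.{u} j ≤ D j)).op
    have hn' := congrArg (fun φ => φ.hom (σ.{u} j i)) hn
    simp only [CommRingCat.hom_comp, RingHom.comp_apply] at hn'
    rw [hn']
    unfold t
    rw [← RingHom.comp_apply, ← CommRingCat.hom_comp, TopCat.Presheaf.germ_res]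
    rfl
  rw [e1, e2, ← map_mul, ← map_mul, σ_mul' i j _ inf_le_left inf_le_right, map_one, map_one]

end

end Groth.Agent.Helper3.P1Chart
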