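import Mathlib
import Groth.Prelude
import Groth.Agent.Helper3.P1ChartC

set_option autoImplicit false
set_option linter.style.haveILetI false
set_option linter.unusedSectionVars false
set_option linter.unusedVariables false
set_option linter.deprecated false
set_option linter.style.haveILetI false
set_option linter.unusedSectionVars false
set_option linter.unusedVariables false

universe u

open CategoryTheory CategoryTheory.Limits AlgebraicGeometry HomogeneousLocalization

namespace Groth.Agent.Helper3.P1Chart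

noncomputable section

open P1

/-- a criterion bounding the kernel of a stalk map: a lift of `Spec (O_{P,s x}/I)` through `s` -/
theorem ker_stalkMap_le {X P : Scheme.{u}} (s : X ⟶ P) (x : X)
    (I : Ideal (P.presheaf.stalk (s x))) (hI : I ≠ ⊤)
    (α : Spec (CommRingCat.of (P.presheaf.stalk (s x) ⧸ I)) ⟶ X)
    (hα : α ≫ s = Spec.map (CommRingCat.ofHom (Ideal.Quotient.mk I)) ≫ P.fromSpecStalk (s x))
    (hpt : ∀ z : Spec (CommRingCat.of (P.presheaf.stalk (s x) ⧸ I)),
      Spec.map (CommRingCat.ofHom (Ideal.Quotient.mk I)) z =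
        IsLocalRing.closedPoint (P.presheaf.stalk (s x)) → α z = x) :
    RingHom.ker (s.stalkMap x).hom ≤ I := by
  let R := P.presheaf.stalk (s x)
  haveI : Nontrivial (R ⧸ I) := Ideal.Quotient.nontrivial_iff.2 hI
  haveI : IsLocalRing (R ⧸ I) :=
    IsLocalRing.of_surjective' (Ideal.Quotient.mk I) Ideal.Quotient.mk_surjective
  let Q : CommRingCat.{u} := CommRingCat.of (R ⧸ I)
  haveI : IsLocalRing Q := inferInstanceAs (IsLocalRing (R ⧸ I))
  let qq : R ⟶ Q := CommRingCat.ofHom (Ideal.Quotient.mk I)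
  have hqloc : IsLocalHom qq.hom :=
    IsLocalHom.of_surjective _ Ideal.Quotient.mk_surjective
  have hpt' : α (IsLocalRing.closedPoint Q) = x :=
    hpt _ (IsLocalRing.comap_closedPoint qq.hom)
  let θ : X.presheaf.stalk x ⟶ Q :=
    X.presheaf.stalkSpecializes (specializes_of_eq hpt') ≫ Scheme.stalkClosedPointTo α
  have hθ : Spec.map θ ≫ X.fromSpecStalk x = α := by
    rw [Spec.map_comp, Category.assoc, Scheme.SpecMap_stalkSpecializes_fromSpecStalk,
      Scheme.Spec_stalkClosedPointTo_fromSpecStalk]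
  have hβ : Spec.map (s.stalkMap x) ≫ P.fromSpecStalk (s x) = X.fromSpecStalk x ≫ s :=
    Scheme.SpecMap_stalkMap_fromSpecStalk s
  have e : s.stalkMap x ≫ θ = qq := by
    apply Spec.map_injective
    rw [Spec.map_comp, ← cancel_mono (P.fromSpecStalk (s x)), Category.assoc, hβ, ← Category.assoc,
      hθ, hα]
    rfl
  intro a ha
  have h1 : qq a = 0 := by
    rw [← e]
    show θ (s.stalkMap x a) = 0
    have h2 : s.stalkMap x a = 0 := ha
    rw [h2, map_zero]
  exact Ideal.Quotient.eq_zero_iff_mem.1 h1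

variable (X : Scheme.{u})

/-- the coordinate `T_j / T_i` vanishes along the section `T_j = 0` -/
theorem stalkMap_sect_t (i j : Fin (1 + 1)) (hij : i ≠ j) (x : X) :
    ((sect X i).stalkMap x).hom
      (((PX X).presheaf.germ (U X i) (sect X i x) (sect_mem_U X i x)).hom (t X i j)) = 0 := by
  have h1 := Scheme.Hom.germ_stalkMap (sect X i) (U X i) x (sect_mem_U X i x)
  have h2 := congrArg (fun φ => φ.hom (t X i j)) h1
  simp only [CommRingCat.hom_comp, RingHom.comp_apply] at h2
  rw [h2]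
  -- the section of `t` pulled back along `sect`
  set ℓ : X ⟶ Spec (CommRingCat.of (Aw.{u} i)) :=
    specULiftZIsTerminal.from X ≫ Spec.map (CommRingCat.ofHom (evalAway.{u} i)) with hℓ
  have hfac : sect X i ≫ q X = ℓ ≫ c.{u} i := by
    rw [sect_q, hℓ, Category.assoc]; rfl
  have key : ∀ (f : X ⟶ PZ.{u}) (hf : f = ℓ ≫ c.{u} i) (e : (⊤ : X.Opens) ≤ f ⁻¹ᵁ D.{u} i),
      (f.appLE (D.{u} i) ⊤ e).hom (σ i j) = 0 := by
    intro f hf e
    subst hf
    rw [lift_σ i j ℓ, hℓ, Scheme.Hom.comp_appTop, CommRingCat.hom_comp, RingHom.comp_apply]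
    have hn := Scheme.ΓSpecIso_inv_naturality (CommRingCat.ofHom (evalAway.{u} i))
    have hn' := congrArg (fun φ => φ.hom (τ.{u} i j)) hn
    simp only [CommRingCat.hom_comp, RingHom.comp_apply, CommRingCat.hom_ofHom] at hn'
    rw [← hn', evalAway_τ i j hij, map_zero, map_zero]
  have e0 : (⊤ : X.Opens) ≤ (sect X i ≫ q X) ⁻¹ᵁ D.{u} i := by
    intro z _
    exact sect_mem_U X i z
  have h3 := key (sect X i ≫ q X) hfac e0
  -- compare `app` with `appLE`
  have h4 : ((sect X i).app (U X i)).hom (t X i j) =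
      ((sect X i ≫ q X).app (D.{u} i)).hom (σ i j) := by
    rfl
  rw [h4]
  have h5 : (sect X i ≫ q X).appLE (D.{u} i) ⊤ e0 =
      (sect X i ≫ q X).app (D.{u} i) ≫ X.presheaf.map (homOfLE e0).op := rfl
  rw [h5, CommRingCat.hom_comp, RingHom.comp_apply] at h3
  have h6 := TopCat.Presheaf.germ_res X.presheaf (homOfLE e0) x (Set.mem_univ x)
  have h7 := congrArg (fun φ => φ.hom (((sect X i ≫ q X).app (D.{u} i)).hom (σ i j))) h6
  simp only [CommRingCat.hom_comp, RingHom.comp_apply] at h7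
  rw [h3, map_zero] at h7
  exact h7.symm

/-- the composite `Spec (O_y/(t)) → P^1_X → P^1_ℤ` factors through the point `T_j = 0` -/
theorem quot_q_eq (i j : Fin (1 + 1)) (hij : i ≠ j) (y : PX X) (hy : y ∈ U X i)
    (I : Ideal ((PX X).presheaf.stalk y))
    (hI : ((PX X).presheaf.germ (U X i) y hy).hom (t X i j) ∈ I) :
    (Spec.map (CommRingCat.ofHom (Ideal.Quotient.mk I)) ≫ (PX X).fromSpecStalk y) ≫ q X =
      specULiftZIsTerminal.from _ ≫ pt.{u} i := by
  set Q : CommRingCat.{u} := CommRingCat.of ((PX X).presheaf.stalk y ⧸ I) with hQ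
  set a₁ : Spec Q ⟶ PX X :=
    Spec.map (CommRingCat.ofHom (Ideal.Quotient.mk I)) ≫ (PX X).fromSpecStalk y with ha₁
  have ha₁U : ∀ z, a₁ z ∈ U X i := by
    intro z
    have h1 : a₁ z ∈ Set.range ((PX X).fromSpecStalk y) := by
      rw [ha₁, Scheme.Hom.comp_apply]; exact ⟨_, rfl⟩
    rw [Scheme.range_fromSpecStalk] at h1
    exact h1.mem_open (U X i).2 hy
  have hrange : Set.range (a₁ ≫ q X) ⊆ Set.range (c.{u} i) := by
    rintro _ ⟨z, rfl⟩
    rw [range_c, Scheme.Hom.comp_apply]
    exact ha₁U z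
  set ℓ : Spec Q ⟶ Spec (CommRingCat.of (Aw.{u} i)) :=
    IsOpenImmersion.lift (c.{u} i) (a₁ ≫ q X) hrange with hℓdef
  have hℓ : ℓ ≫ c.{u} i = a₁ ≫ q X := IsOpenImmersion.lift_fac _ _ _
  set ψ : CommRingCat.of (Aw.{u} i) ⟶ Q := Spec.preimage ℓ with hψdef
  have hψ : Spec.map ψ = ℓ := Spec.map_preimage ℓ
  -- `ψ τ = 0`
  have e0 : (⊤ : (Spec Q).Opens) ≤ (a₁ ≫ q X) ⁻¹ᵁ D.{u} i := fun z _ => ha₁U z
  have key : ∀ (f : Spec Q ⟶ PZ.{u}) (hf : ℓ ≫ c.{u} i = f) (e : (⊤ : (Spec Q).Opens) ≤ f ⁻¹ᵁ D.{u} i),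
      (f.appLE (D.{u} i) ⊤ e).hom (σ i j) =
        ℓ.appTop.hom ((Scheme.ΓSpecIso _).inv.hom (τ.{u} i j)) := by
    intro f hf e
    subst hf
    exact lift_σ i j ℓ
  have h1 := key (a₁ ≫ q X) hℓ e0
  have e1 : (⊤ : (Spec Q).Opens) ≤ a₁ ⁻¹ᵁ U X i := fun z _ => ha₁U z
  have h2 : ((a₁ ≫ q X).appLE (D.{u} i) ⊤ e0).hom (σ i j) = (a₁.appLE (U X i) ⊤ e1).hom (t X i j) := by
    rw [Scheme.Hom.comp_appLE, CommRingCat.hom_comp, RingHom.comp_apply]
    rfl
  have e2 : (⊤ : (Spec ((PX X).presheaf.stalk y)).Opens) ≤ (PX X).fromSpecStalk y ⁻¹ᵁ U X i := by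
    intro z _
    have h1 : (PX X).fromSpecStalk y z ∈ Set.range ((PX X).fromSpecStalk y) := ⟨_, rfl⟩
    rw [Scheme.range_fromSpecStalk] at h1
    exact h1.mem_open (U X i).2 hy
  have h3 : a₁.appLE (U X i) ⊤ e1 =
      ((PX X).fromSpecStalk y).appLE (U X i) ⊤ e2 ≫
        (Spec.map (CommRingCat.ofHom (Ideal.Quotient.mk I))).appTop := by
    have := Scheme.Hom.appLE_comp_appLE (Spec.map (CommRingCat.ofHom (Ideal.Quotient.mk I)))
      ((PX X).fromSpecStalk y) (U X i) ⊤ ⊤ e2 le_top
    have h' : (Spec.map (CommRingCat.ofHom (Ideal.Quotient.mk I))).appLE ⊤ ⊤ le_top =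
        (Spec.map (CommRingCat.ofHom (Ideal.Quotient.mk I))).appTop := by
      simp [Scheme.Hom.appLE]
    rw [h'] at this
    rw [this]
  have h4 : ((PX X).fromSpecStalk y).appLE (U X i) ⊤ e2 =
      (PX X).presheaf.germ (U X i) y hy ≫ (Scheme.ΓSpecIso ((PX X).presheaf.stalk y)).inv := by
    rw [Scheme.Hom.appLE, Scheme.fromSpecStalk_app hy, Category.assoc, Category.assoc,
      ← Functor.map_comp]
    have : ((homOfLE le_top).op ≫ (homOfLE e2).op :
        Opposite.op (⊤ : (Spec ((PX X).presheaf.stalk y)).Opens) ⟶ Opposite.op ⊤) = 𝟙 _ := rfl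
    rw [this, CategoryTheory.Functor.map_id, Category.comp_id]
  have hn := Scheme.ΓSpecIso_inv_naturality (CommRingCat.ofHom (Ideal.Quotient.mk I))
  have h5 : (a₁.appLE (U X i) ⊤ e1).hom (t X i j) = 0 := by
    rw [h3, h4]
    simp only [CommRingCat.hom_comp, RingHom.comp_apply]
    have hn' := congrArg (fun φ => φ.hom (((PX X).presheaf.germ (U X i) y hy).hom (t X i j))) hn
    simp only [CommRingCat.hom_comp, RingHom.comp_apply, CommRingCat.hom_ofHom] at hn'
    refine hn'.symm.trans ?_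
    rw [Ideal.Quotient.eq_zero_iff_mem.mpr hI, map_zero]
  have hn2 := Scheme.ΓSpecIso_inv_naturality ψ
  have h6 : (Scheme.ΓSpecIso Q).inv.hom (ψ.hom (τ.{u} i j)) = 0 := by
    have := congrArg (fun φ => φ.hom (τ.{u} i j)) hn2
    simp only [CommRingCat.hom_comp, RingHom.comp_apply] at this
    rw [this, hψ, ← h1, h2, h5]
  have hψτ : ψ.hom (τ.{u} i j) = 0 := by
    have hinj : Function.Injective (Scheme.ΓSpecIso Q).inv.hom :=
      (ConcreteCategory.bijective_of_isIso (Scheme.ΓSpecIso Q).inv).1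
    exact hinj (by rw [h6, map_zero])
  -- `ψ` factors through the evaluation
  have hker : RingHom.ker (evalAway.{u} i) ≤ RingHom.ker ψ.hom := by
    rw [ker_evalAway i j hij, Ideal.span_le, Set.singleton_subset_iff]
    exact hψτ
  have hrinv : Function.RightInverse (ProjSmooth.strHom 1 R0.{u} i) (evalAway.{u} i) := fun r =>
    congrArg (fun φ : R0.{u} →+* R0.{u} => φ r)
      (ringHom_R0_ext ((evalAway.{u} i).comp (ProjSmooth.strHom 1 R0.{u} i)) (RingHom.id _))
  let φ : R0.{u} →+* Q :=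
    RingHom.liftOfRightInverse (evalAway.{u} i) (ProjSmooth.strHom 1 R0.{u} i) hrinv ⟨ψ.hom, hker⟩
  have hφ : φ.comp (evalAway.{u} i) = ψ.hom :=
    RingHom.liftOfRightInverse_comp (evalAway.{u} i) (ProjSmooth.strHom 1 R0.{u} i) hrinv ⟨ψ.hom, hker⟩
  have hfac : ψ = CommRingCat.ofHom (evalAway.{u} i) ≫ CommRingCat.ofHom φ := by
    ext z
    exact (congrArg (fun f => f z) hφ).symm
  rw [← hℓ, ← hψ, hfac, Spec.map_comp, Category.assoc]
  have : Spec.map (CommRingCat.ofHom φ) =
      specULiftZIsTerminal.from _ := specULiftZIsTerminal.hom_ext _ _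
  rw [this]
  rfl

theorem π_sect_apply (i : Fin (1 + 1)) (x : X) : π X (sect X i x) = x := by
  have := congrArg (fun f : X ⟶ X => f x) (sect_π X i)
  simpa using this

/-- **the section `T_j = 0` is cut out, at the level of local rings, by the coordinate `T_j/T_i`** -/
theorem ker_stalkMap_sect (i j : Fin (1 + 1)) (hij : i ≠ j) (x : X) :
    RingHom.ker ((sect X i).stalkMap x).hom =
      Ideal.span {((PX X).presheaf.germ (U X i) (sect X i x) (sect_mem_U X i x)).hom (t X i j)} := by
  set g := ((PX X).presheaf.germ (U X i) (sect X i x) (sect_mem_U X i x)).hom (t X i j) with hg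
  have hge : Ideal.span {g} ≤ RingHom.ker ((sect X i).stalkMap x).hom := by
    rw [Ideal.span_le, Set.singleton_subset_iff]
    exact stalkMap_sect_t X i j hij x
  apply le_antisymm
  · have hI : Ideal.span {g} ≠ ⊤ := by
      intro htop
      have h1 : (1 : (PX X).presheaf.stalk (sect X i x)) ∈
          RingHom.ker ((sect X i).stalkMap x).hom := hge (htop ▸ Submodule.mem_top)
      rw [RingHom.mem_ker, map_one] at h1
      exact one_ne_zero h1
    refine ker_stalkMap_le (sect X i) x (Ideal.span {g}) hI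
      ((Spec.map (CommRingCat.ofHom (Ideal.Quotient.mk (Ideal.span {g}))) ≫
        (PX X).fromSpecStalk (sect X i x)) ≫ π X) ?_ ?_
    · apply pullback.hom_ext
      · show (((Spec.map (CommRingCat.ofHom (Ideal.Quotient.mk (Ideal.span {g}))) ≫
          (PX X).fromSpecStalk (sect X i x)) ≫ π X) ≫ sect X i) ≫ q X =
          (Spec.map (CommRingCat.ofHom (Ideal.Quotient.mk (Ideal.span {g}))) ≫
          (PX X).fromSpecStalk (sect X i x)) ≫ q X
        rw [Category.assoc, sect_q, quot_q_eq X i j hij (sect X i x) (sect_mem_U X i x)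
          (Ideal.span {g}) (Ideal.mem_span_singleton_self g), ← Category.assoc]
        congr 1
        exact specULiftZIsTerminal.hom_ext _ _
      · show (((Spec.map (CommRingCat.ofHom (Ideal.Quotient.mk (Ideal.span {g}))) ≫
          (PX X).fromSpecStalk (sect X i x)) ≫ π X) ≫ sect X i) ≫ π X =
          (Spec.map (CommRingCat.ofHom (Ideal.Quotient.mk (Ideal.span {g}))) ≫
          (PX X).fromSpecStalk (sect X i x)) ≫ π X
        rw [Category.assoc, sect_π, Category.comp_id]
    · intro z hz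
      rw [Scheme.Hom.comp_apply, Scheme.Hom.comp_apply, hz, Scheme.fromSpecStalk_closedPoint]
      exact π_sect_apply X i x
  · exact hge

theorem isClosedImmersion_sect (i : Fin (1 + 1)) : IsClosedImmersion (sect X i) := by
  haveI : IsProper (π X) := Groth.Agent.Helper6.HProj.isProper_toBase 1 X
  haveI : IsClosedImmersion (sect X i ≫ π X) := by
    rw [sect_π]; infer_instance
  exact IsClosedImmersion.of_comp (sect X i) (π X)

theorem stalkMap_sect_surjective (i : Fin (1 + 1)) (x : X) :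
    Function.Surjective ((sect X i).stalkMap x).hom := by
  haveI := isClosedImmersion_sect X i
  exact (sect X i).stalkMap_surjective x

end

end Groth.Agent.Helper3.P1Chart
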