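import Mathlib
import Groth.Prelude
import Groth.Agent.Helper3.PushRatG
import Groth.Agent.Helper3.GysinE

/-!
# The projection formula for `c₁`, pointwise and for coefficient functions
-/

set_option autoImplicit false
set_option linter.style.haveILetI false
set_option linter.unusedSectionVars false
set_option linter.unusedVariables false
set_option linter.deprecated false
set_option linter.style.haveILetI false
set_option linter.unusedSectionVars false
set_option linter.unusedVariables false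

universe u

open CategoryTheory CategoryTheory.Limits AlgebraicGeometry TopologicalSpace Opposite

namespace Groth.Agent.Helper3.PushRat

open Groth.Agent.Helper3.SecOrd Groth.Agent.Helper3.PullGen

variable {X Y : Scheme.{u}}

/-- the weighted sum over the fibre over `y` of a function which, on this fibre, is a locally
finite sum of principal divisors -/
theorem fibre_sum_of_sum (δX : X → ℤ) (δY : Y → ℤ) (hX : Cyc.IsSetup X δX)
    (hY : Cyc.IsSetup Y δY) (p : X ⟶ Y) [IsProper p] (hδ : Cyc.DeltaCompat p δX δY)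
    {ι : Type*} (ξ : ι → X) (f : (i : ι) → X.residueField (ξ i)) (hne : ∀ i, f i ≠ 0)
    (hlf : ∀ x : X, ∃ U : Set X, IsOpen U ∧ x ∈ U ∧ {i | (closure {ξ i} ∩ U).Nonempty}.Finite)
    (γ : X → ℤ) (y : Y)
    (hsum : ∀ x, p x = y → γ x = ∑ᶠ i, Cyc.divFun δX (ξ i) (f i) x) :
    ∑ᶠ x ∈ (p : X → Y) ⁻¹' {y}, γ x * ((AlgebraicCycle.mapCoeff p δX δY x : ℕ) : ℤ) =
      ∑ᶠ i, if δX (ξ i) = δY (p (ξ i)) then
        Cyc.divFun δY (p (ξ i)) (Cyc.normGen p (ξ i) (f i)) y else 0 := by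
  classical
  haveI : IsLocallyNoetherian X := hX.1
  set K : Set X := (p : X → Y) ⁻¹' {y} with hK
  have hKc : IsCompact K := p.isCompact_preimage_singleton y
  set c : X → ℤ := fun x => ((AlgebraicCycle.mapCoeff p δX δY x : ℕ) : ℤ) with hc
  set D : ι → X → ℤ := fun i => Cyc.divFun δX (ξ i) (f i) with hD
  set E : ι → ℤ := fun i => Cyc.divFun δY (p (ξ i)) (Cyc.normGen p (ξ i) (f i)) y with hE
  have hmap : ∑ᶠ x ∈ (p : X → Y) ⁻¹' {y}, γ x * ((AlgebraicCycle.mapCoeff p δX δY x : ℕ) : ℤ) =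
      ∑ᶠ x ∈ K, γ x * c x := rfl
  have hI := finite_index_of_isCompact ξ hlf K hKc
  have hD0 : ∀ i, i ∉ hI.toFinset → ∀ x ∈ K, D i x = 0 := by
    intro i hi x hx
    by_contra hne0
    obtain ⟨hsp, -⟩ := DivTrE.divFun_cond δX _ _ x hne0
    apply hi
    rw [Set.Finite.mem_toFinset]
    exact ⟨x, specializes_iff_mem_closure.mp hsp, hx⟩
  have hγ : ∀ x ∈ K, γ x = ∑ i ∈ hI.toFinset, D i x := by
    intro x hx
    rw [hsum x hx]
    apply finsum_eq_sum_of_support_subset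
    intro i hi
    by_contra hiI
    exact hi (hD0 i hiI x hx)
  have hSfin : ∀ i, (K ∩ Function.support (D i)).Finite :=
    fun i => finite_inter_support_divFun_of_isCompact δX hX.2.2 (ξ i) (f i) (hne i) K hKc
  have hS : (⋃ i ∈ hI.toFinset, K ∩ Function.support (D i)).Finite :=
    hI.toFinset.finite_toSet.biUnion (fun i _ => hSfin i)
  have hS_sub : ∀ x ∈ hS.toFinset, x ∈ K := by
    intro x hx
    rw [Set.Finite.mem_toFinset] at hx
    obtain ⟨i, -, hx'⟩ := Set.mem_iUnion₂.1 hx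
    exact hx'.1
  have hS_mem : ∀ i ∈ hI.toFinset, ∀ x ∈ K, D i x ≠ 0 → x ∈ hS.toFinset := by
    intro i hi x hx hne0
    rw [Set.Finite.mem_toFinset]
    exact Set.mem_iUnion₂.2 ⟨i, hi, hx, hne0⟩
  -- the left hand side as a double finite sum
  have h1 : ∑ᶠ x ∈ K, γ x * c x = ∑ x ∈ hS.toFinset, ∑ i ∈ hI.toFinset, D i x * c x := by
    have h1a : ∑ᶠ x ∈ K, γ x * c x = ∑ x ∈ hS.toFinset, γ x * c x := by
      apply finsum_mem_eq_sum_of_inter_support_eq
      ext x
      simp only [Set.mem_inter_iff, Function.mem_support, Finset.mem_coe]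
      constructor
      · rintro ⟨hxK, hx⟩
        refine ⟨?_, hx⟩
        rw [hγ x hxK] at hx
        have : ∃ i ∈ hI.toFinset, D i x ≠ 0 := by
          by_contra hcon
          push Not at hcon
          apply hx
          rw [Finset.sum_eq_zero hcon, zero_mul]
        obtain ⟨i, hi, hne0⟩ := this
        exact hS_mem i hi x hxK hne0
      · rintro ⟨hxS, hx⟩
        exact ⟨hS_sub x hxS, hx⟩
    rw [h1a]
    refine Finset.sum_congr rfl (fun x hx => ?_)
    rw [hγ x (hS_sub x hx), Finset.sum_mul]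
  have h2 : ∀ i ∈ hI.toFinset, ∑ x ∈ hS.toFinset, D i x * c x =
      if δX (ξ i) = δY (p (ξ i)) then E i else 0 := by
    intro i hi
    rw [← push_div_point δX δY hX hY p hδ (ξ i) (f i) (hne i) y]
    symm
    apply finsum_mem_eq_sum_of_inter_support_eq
    ext x
    simp only [Set.mem_inter_iff, Function.mem_support, Finset.mem_coe]
    constructor
    · rintro ⟨hxK, hx⟩
      refine ⟨?_, hx⟩
      refine hS_mem i hi x hxK ?_
      intro h0
      apply hx
      change D i x * c x = 0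
      rw [h0, zero_mul]
    · rintro ⟨hxS, hx⟩
      exact ⟨hS_sub x hxS, hx⟩
  rw [hmap, h1, Finset.sum_comm, Finset.sum_congr rfl h2]
  symm
  rw [finsum_eq_sum_of_support_subset (s := hI.toFinset)]
  intro i hi
  rw [Function.mem_support] at hi
  have hEi : E i ≠ 0 := by
    intro h0
    apply hi
    change (if δX (ξ i) = δY (p (ξ i)) then E i else 0) = 0
    rw [h0, ite_self]
  obtain ⟨hsp, -⟩ := DivTrE.divFun_cond δY _ _ y hEi
  have hcl : y ∈ closure ((p : X → Y) '' {ξ i}) := by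
    rw [Set.image_singleton]
    exact specializes_iff_mem_closure.mp hsp
  rw [p.isClosedMap.closure_image_eq_of_continuous p.continuous] at hcl
  obtain ⟨x, hx1, hx2⟩ := hcl
  rw [Finset.mem_coe, Set.Finite.mem_toFinset]
  exact ⟨x, hx1, hx2⟩


section formula

open Groth.Agent.Lead.Ref1K Groth.Agent.Helper4.QAffSec

/-- **the projection formula for `c₁`, pointwise and in coordinates** -/
theorem projection_formula (X Y : Scheme.{u}) (δX : X → ℤ) (δY : Y → ℤ) (hX : Cyc.IsSetup X δX)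
    (hY : Cyc.IsSetup Y δY) (p : X ⟶ Y) [IsProper p] (hδ : Cyc.DeltaCompat p δX δY)
    (L : Y.Modules) (hL : PicF.IsInvertible L) (α : AlgebraicCycle X ℤ)
    (t : (y : Y) → L.presheaf.stalk y)
    (ht : ∀ y, Function.Bijective (fun a : Y.presheaf.stalk y => a • t y))
    (v : (η : Y) → Cyc.secFibre L η) (ψ : (η : Y) → Y.presheaf.stalk η)
    (hψ : ∀ η, v η = ψ η • mkF L η (t η)) (hgv : ∀ η, Y.residue η (ψ η) ≠ 0)
    (u : (ξ : X) → Cyc.secFibre ((Scheme.Modules.pullback p).obj L) ξ)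
    (φ : (ξ : X) → X.presheaf.stalk ξ)
    (hφ : ∀ ξ, u ξ = φ ξ • mkF ((Scheme.Modules.pullback p).obj L) ξ (pgFun p L ξ (t (p ξ))))
    (hgu : ∀ ξ, X.residue ξ (φ ξ) ≠ 0) (y : Y) :
    ∑ᶠ x ∈ (p : X → Y) ⁻¹' {y},
        Cyc.c1CapFun δX ((Scheme.Modules.pullback p).obj L) ⇑α u x *
          ((AlgebraicCycle.mapCoeff p δX δY x : ℕ) : ℤ) -
      Cyc.c1CapFun δY L ⇑(AlgebraicCycle.map p δX δY α) v y =
    ∑ᶠ j : {ξ : X // α ξ ≠ 0 ∧ δX ξ = δY (p ξ)},
      Cyc.divFun δY (p j.1) ((Cyc.normGen p j.1 (X.residue j.1 (φ j.1)) *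
        ((Y.residue (p j.1) (ψ (p j.1))) ^ p.residueDegree j.1)⁻¹) ^ (α j.1)) y := by
  classical
  haveI : IsLocallyNoetherian X := hX.1
  have hL' : PicF.IsInvertible ((Scheme.Modules.pullback p).obj L) :=
    Groth.Agent.Helper4.PullSec.isInvertible_pullback p hL
  haveI : L.IsQuasicoherent := isQuasicoherent_of_isInvertible L hL
  haveI : ((Scheme.Modules.pullback p).obj L).IsQuasicoherent :=
    isQuasicoherent_of_isInvertible _ hL'
  have ht' : ∀ x : X, Function.Bijective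
      (fun r : X.presheaf.stalk x => r • pgFun p L x (t (p x))) :=
    fun x => bijective_pgFun p L x (fr1At_of_isInvertible _ hL' x) (ht (p x))
  choose w hw hwt using fun η y' : Y => exists_w L η y' (ht η) (ht y')
  have hw0 : ∀ η y', Y.residue η (w η y') ≠ 0 :=
    fun η y' => residue_ne_zero_of_isUnit η (hw η y')
  have hres : ∀ (ξ : X) (a : Y.presheaf.stalk (p ξ)),
      X.residue ξ ((p.stalkMap ξ).hom a) = p.residueFieldMap ξ (Y.residue (p ξ) a) := by
    intro ξ a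
    have := congrArg (fun f => f.hom a) (Scheme.residue_residueFieldMap p ξ)
    exact this.symm
  set H : (ξ : X) → Y.residueField (p ξ) := fun ξ =>
    Cyc.normGen p ξ (X.residue ξ (φ ξ)) * ((Y.residue (p ξ) (ψ (p ξ))) ^ p.residueDegree ξ)⁻¹
    with hH
  have hH0 : ∀ ξ, H ξ ≠ 0 := fun ξ =>
    mul_ne_zero (normGen_ne_zero p ξ _ (hgu ξ)) (inv_ne_zero (pow_ne_zero _ (hgv (p ξ))))
  change _ = ∑ᶠ j : {ξ : X // α ξ ≠ 0 ∧ δX ξ = δY (p ξ)},
      Cyc.divFun δY (p j.1) ((H j.1) ^ (α j.1)) y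
  set a : (η : Y) → Y.residueField η := fun η => Y.residue η (w η y) with ha
  have ha0 : ∀ η, a η ≠ 0 := fun η => hw0 η y
  have hPa0 : ∀ ξ, p.residueFieldMap ξ (a (p ξ)) ≠ 0 := fun ξ =>
    (map_ne_zero_iff _ (p.residueFieldMap ξ).hom.injective).mpr (ha0 (p ξ))
  set F : (ξ : X) → X.residueField ξ := fun ξ =>
    X.residue ξ (φ ξ) * (p.residueFieldMap ξ (a (p ξ)))⁻¹ with hF
  have hF0 : ∀ ξ, F ξ ≠ 0 := fun ξ => mul_ne_zero (hgu ξ) (inv_ne_zero (hPa0 ξ))
  set G : (η : Y) → Y.residueField η := fun η =>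
    Y.residue η (ψ η) * (a η)⁻¹ with hG
  have hG0 : ∀ η, G η ≠ 0 := fun η => mul_ne_zero (hgv η) (inv_ne_zero (ha0 η))
  -- the left hand side
  have hsum : ∀ x, p x = y →
      Cyc.c1CapFun δX ((Scheme.Modules.pullback p).obj L) ⇑α u x =
      ∑ᶠ i : {ξ : X // α ξ ≠ 0}, Cyc.divFun δX i.1 ((F i.1) ^ (α i.1)) x := by
    intro x hx
    unfold Cyc.c1CapFun
    have h1 : ∀ i : {ξ : X // α ξ ≠ 0}, Cyc.divFun δX i.1 (F i.1 ^ (α i.1)) x =
        α i.1 * Cyc.divFun δX i.1 (F i.1) x := fun i => divFun_zpow δX i.1 (F i.1) (hF0 i.1) _ x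
    rw [finsum_congr h1,
      finsum_subtype_eq_finsum_cond (f := fun ξ : X => α ξ * Cyc.divFun δX ξ (F ξ) x)
        (fun ξ => α ξ ≠ 0)]
    refine finsum_congr fun ξ => ?_
    rw [finsum_eq_if]
    split_ifs with hξ
    · have hwt' : ∀ h' : ξ ⤳ x,
          (((Scheme.Modules.pullback p).obj L).presheaf.stalkSpecializes h').hom
            (pgFun p L x (t (p x))) =
          (p.stalkMap ξ).hom (w (p ξ) (p x)) • pgFun p L ξ (t (p ξ)) := by
        intro h'
        rw [pgFun_sp p L h', hwt (p ξ) (p x) (h'.map p.continuous), pgFun_smul]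
      rw [secDivFun_eq_divFun δX _ ξ x (ht' ξ) (ht' x) _ ((hw (p ξ) (p x)).map _) hwt' (u ξ)
        (φ ξ) (hφ ξ) (hgu ξ), hres, hx]
    · rw [not_not.mp hξ, zero_mul]
  have eL := fibre_sum_of_sum δX δY hX hY p hδ (fun i : {ξ : X // α ξ ≠ 0} => i.1)
    (fun i => (F i.1) ^ (α i.1)) (fun i => zpow_ne_zero _ (hF0 i.1)) (locFin_support α)
    (Cyc.c1CapFun δX ((Scheme.Modules.pullback p).obj L) ⇑α u) y hsum
  have eL' : ∑ᶠ x ∈ (p : X → Y) ⁻¹' {y},
      Cyc.c1CapFun δX ((Scheme.Modules.pullback p).obj L) ⇑α u x *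
        ((AlgebraicCycle.mapCoeff p δX δY x : ℕ) : ℤ) = ∑ᶠ ξ : X, α ξ *
      (if δX ξ = δY (p ξ) then Cyc.divFun δY (p ξ) (Cyc.normGen p ξ (F ξ)) y else 0) := by
    rw [eL]
    have h1 : ∀ i : {ξ : X // α ξ ≠ 0},
        (if δX i.1 = δY (p i.1) then
          Cyc.divFun δY (p i.1) (Cyc.normGen p i.1 ((F i.1) ^ (α i.1))) y else 0) =
        α i.1 * (if δX i.1 = δY (p i.1) then
          Cyc.divFun δY (p i.1) (Cyc.normGen p i.1 (F i.1)) y else 0) := by
      intro i
      rw [normGen_zpow p i.1 (F i.1) (hF0 i.1),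
        divFun_zpow δY _ _ (normGen_ne_zero p _ _ (hF0 i.1)), mul_ite, mul_zero]
    rw [finsum_congr h1, finsum_subtype_eq_finsum_cond
      (f := fun ξ : X => α ξ * (if δX ξ = δY (p ξ) then
        Cyc.divFun δY (p ξ) (Cyc.normGen p ξ (F ξ)) y else 0)) (fun ξ => α ξ ≠ 0)]
    refine finsum_congr fun ξ => ?_
    rw [finsum_eq_if]
    by_cases hξ : α ξ ≠ 0
    · rw [if_pos hξ]
    · rw [if_neg hξ, not_not.mp hξ, zero_mul]
  have hfinS := finite_image_specializes p α y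
  have eR : Cyc.c1CapFun δY L ⇑(AlgebraicCycle.map p δX δY α) v y = ∑ᶠ ξ : X, α ξ * ((AlgebraicCycle.mapCoeff p δX δY ξ : ℕ) : ℤ) *
      Cyc.divFun δY (p ξ) (G (p ξ)) y := by
    unfold Cyc.c1CapFun
    have h1 : ∀ η, (AlgebraicCycle.map p δX δY α) η * Cyc.secDivFun δY L η (v η) y =
        (AlgebraicCycle.map p δX δY α) η * Cyc.divFun δY η (G η) y := by
      intro η
      rw [secDivFun_eq_divFun δY L η y (ht η) (ht y) (w η y) (hw η y) (hwt η y) (v η) (ψ η)
        (hψ η) (hgv η)]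
    rw [finsum_congr h1]
    refine finsum_map_mul p δX δY α (fun η => Cyc.divFun δY η (G η) y) (hfinS.subset ?_)
    rintro ξ ⟨hξ, hne⟩
    exact ⟨hξ, (DivTrE.divFun_cond δY _ _ y hne).1⟩
  have hsuppA : (Function.support fun ξ : X => α ξ * (if δX ξ = δY (p ξ) then
      Cyc.divFun δY (p ξ) (Cyc.normGen p ξ (F ξ)) y else 0)).Finite := by
    refine hfinS.subset ?_
    intro ξ hξ
    rw [Function.mem_support] at hξ
    refine ⟨fun h0 => hξ (by rw [h0, zero_mul]), ?_⟩
    by_contra hsp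
    apply hξ
    split_ifs
    · unfold Cyc.divFun
      rw [dif_neg (fun h => hsp h.1), mul_zero]
    · rw [mul_zero]
  have hsuppB : (Function.support fun ξ : X =>
      α ξ * ((AlgebraicCycle.mapCoeff p δX δY ξ : ℕ) : ℤ) *
        Cyc.divFun δY (p ξ) (G (p ξ)) y).Finite := by
    refine hfinS.subset ?_
    intro ξ hξ
    rw [Function.mem_support] at hξ
    refine ⟨fun h0 => hξ (by rw [h0, zero_mul, zero_mul]), ?_⟩
    by_contra hsp
    apply hξ
    unfold Cyc.divFun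
    rw [dif_neg (fun h => hsp h.1), mul_zero]
  rw [eL', eR, ← finsum_sub_distrib hsuppA hsuppB]
  have h2 : ∀ j : {ξ : X // α ξ ≠ 0 ∧ δX ξ = δY (p ξ)},
      Cyc.divFun δY (p j.1) ((H j.1) ^ (α j.1)) y =
        α j.1 * Cyc.divFun δY (p j.1) (H j.1) y :=
    fun j => divFun_zpow δY _ _ (hH0 j.1) _ y
  rw [finsum_congr h2, finsum_subtype_eq_finsum_cond
    (f := fun ξ : X => α ξ * Cyc.divFun δY (p ξ) (H ξ) y)
    (fun ξ => α ξ ≠ 0 ∧ δX ξ = δY (p ξ))]
  refine finsum_congr fun ξ => ?_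
  rw [finsum_eq_if]
  by_cases hT : δX ξ = δY (p ξ)
  · have hc : ((AlgebraicCycle.mapCoeff p δX δY ξ : ℕ) : ℤ) = (p.residueDegree ξ : ℤ) := by
      unfold AlgebraicCycle.mapCoeff
      rw [if_pos hT]
    rw [if_pos hT, hc]
    by_cases hξ : α ξ ≠ 0
    · rw [if_pos ⟨hξ, hT⟩]
      have hN0 : Cyc.normGen p ξ (X.residue ξ (φ ξ)) ≠ 0 := normGen_ne_zero p ξ _ (hgu ξ)
      have e1 : Cyc.divFun δY (p ξ) (Cyc.normGen p ξ (F ξ)) y =
          Cyc.divFun δY (p ξ) (Cyc.normGen p ξ (X.residue ξ (φ ξ))) y -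
            (p.residueDegree ξ : ℤ) * Cyc.divFun δY (p ξ) (a (p ξ)) y := by
        rw [hF]
        simp only []
        rw [normGen_mul, normGen_inv p ξ _ (hPa0 ξ), normGen_map,
          divFun_mul δY _ _ _ hN0 (inv_ne_zero (pow_ne_zero _ (ha0 (p ξ)))),
          divFun_inv δY _ _ (pow_ne_zero _ (ha0 (p ξ))), PullDivL.divFun_pow]
        ring
      have e2 : Cyc.divFun δY (p ξ) (G (p ξ)) y =
          Cyc.divFun δY (p ξ) (Y.residue (p ξ) (ψ (p ξ))) y -
            Cyc.divFun δY (p ξ) (a (p ξ)) y := by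
        rw [hG]
        simp only []
        rw [divFun_mul δY _ _ _ (hgv (p ξ)) (inv_ne_zero (ha0 (p ξ))),
          divFun_inv δY _ _ (ha0 (p ξ))]
        ring
      have e3 : Cyc.divFun δY (p ξ) (H ξ) y =
          Cyc.divFun δY (p ξ) (Cyc.normGen p ξ (X.residue ξ (φ ξ))) y -
            (p.residueDegree ξ : ℤ) * Cyc.divFun δY (p ξ) (Y.residue (p ξ) (ψ (p ξ))) y := by
        rw [hH]
        simp only []
        rw [divFun_mul δY _ _ _ hN0 (inv_ne_zero (pow_ne_zero _ (hgv (p ξ)))),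
          divFun_inv δY _ _ (pow_ne_zero _ (hgv (p ξ))), PullDivL.divFun_pow]
        ring
      rw [e1, e2, e3]
      ring
    · rw [if_neg (fun h => hξ h.1), not_not.mp hξ]
      ring
  · have hc : ((AlgebraicCycle.mapCoeff p δX δY ξ : ℕ) : ℤ) = 0 := by
      unfold AlgebraicCycle.mapCoeff
      rw [if_neg hT]
      rfl
    rw [if_neg hT, if_neg (fun h => hT h.2), hc]
    ring


end formula

end Groth.Agent.Helper3.PushRat
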