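import Mathlib
import Groth.Prelude
import Groth.Agent.Helper3.NormC

set_option autoImplicit false
set_option linter.style.haveILetI false
set_option linter.unusedSectionVars false
set_option linter.unusedVariables false
set_option linter.deprecated false
set_option linter.style.haveILetI false
set_option linter.unusedSectionVars false
set_option linter.unusedVariables false

namespace Groth.Agent.Helper3.NormE

universe u

open IsLocalRing Function Groth.Agent.Helper3.NormC

/-- the rank of a localized module does not depend on the model of the localization -/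
theorem locFinrank {R : Type u} [CommRing R] (S : Submonoid R) (R' : Type u) [CommRing R']
    [Algebra R R'] [IsLocalization S R'] {M M' : Type u} [AddCommGroup M] [Module R M]
    [AddCommGroup M'] [Module R M'] [Module R' M'] [IsScalarTower R R' M'] (f : M →ₗ[R] M')
    [IsLocalizedModule S f] :
    Module.finrank (Localization S) (LocalizedModule S M) = Module.finrank R' M' := by
  let σ : Localization S ≃ₐ[R] R' := IsLocalization.algEquiv S (Localization S) R'
  letI : Algebra (Localization S) R' := σ.toAlgHom.toRingHom.toAlgebra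
  haveI : IsScalarTower R (Localization S) R' := IsScalarTower.of_algebraMap_eq (fun r => by
    change algebraMap R R' r = σ (algebraMap R (Localization S) r)
    rw [σ.commutes])
  letI : Module (Localization S) M' := Module.compHom M' (algebraMap (Localization S) R')
  haveI : IsScalarTower (Localization S) R' M' := ⟨fun a b m => by
    change (algebraMap (Localization S) R' a * b) • m = algebraMap (Localization S) R' a • (b • m)
    rw [mul_smul]⟩
  haveI : IsScalarTower R (Localization S) M' := ⟨fun r a m => by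
    change (algebraMap (Localization S) R' (r • a)) • m = r • (algebraMap (Localization S) R' a • m)
    rw [Algebra.smul_def, map_mul, mul_smul, ← IsScalarTower.algebraMap_apply, algebraMap_smul]⟩
  let e : LocalizedModule S M ≃ₗ[R] M' := IsLocalizedModule.iso S f
  rw [(e.extendScalarsOfIsLocalization S (Localization S)).finrank_eq]
  unfold Module.finrank
  congr 1
  exact rank_eq_of_equiv_equiv (algebraMap (Localization S) R') (AddEquiv.refl M') σ.bijective
    (fun r m => rfl)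

section main

variable {A₀ B₀ : Type u} [CommRing A₀] [CommRing B₀] [Algebra A₀ B₀]
  [Module.Finite A₀ B₀] [Module.Flat A₀ B₀] (𝔭 : Ideal A₀) [𝔭.IsPrime]
  {A : Type u} [CommRing A] [IsLocalRing A] [Algebra A₀ A] [IsLocalization.AtPrime A 𝔭]
  {ι : Type} [Fintype ι] (P : ι → Ideal B₀) [∀ i, (P i).IsPrime]
  (hPover : ∀ i, (P i).comap (algebraMap A₀ B₀) = 𝔭) (hPinj : Injective P)
  (hPsurj : ∀ Q : Ideal B₀, Q.IsPrime → Q.comap (algebraMap A₀ B₀) = 𝔭 → ∃ i, P i = Q)
  (Bi : ι → Type u) [∀ i, CommRing (Bi i)] [∀ i, IsLocalRing (Bi i)] [∀ i, Algebra B₀ (Bi i)]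
  [∀ i, IsLocalization.AtPrime (Bi i) (P i)] [∀ i, Algebra A (Bi i)] [∀ i, Algebra A₀ (Bi i)]
  [∀ i, IsScalarTower A₀ A (Bi i)] [∀ i, IsScalarTower A₀ B₀ (Bi i)]
  [∀ i, IsLocalHom (algebraMap A (Bi i))]

include hPover hPinj hPsurj in
theorem rank₀ :
    ∑ i, (Module.finrank (ResidueField A) (ResidueField (Bi i)) : ℕ∞) *
        Module.length (Bi i) (Bi i ⧸ (maximalIdeal A).map (algebraMap A (Bi i))) =
      (Module.rankAtStalk (R := A₀) B₀ ⟨𝔭, inferInstance⟩ : ℕ∞) := by
  classical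
  letI : Algebra A (Bs (B₀ := B₀) 𝔭) := localizationAlgebra 𝔭.primeCompl B₀
  haveI : IsScalarTower A₀ A (Bs (B₀ := B₀) 𝔭) := isScalarTower_localizationAlgebra _ _
  haveI : Module.Finite A (Bs (B₀ := B₀) 𝔭) := Module.Finite.of_isLocalization A₀ B₀ 𝔭.primeCompl
  -- the local rings
  letI : ∀ i, Algebra (Bs (B₀ := B₀) 𝔭) (Bi i) := fun i => (toBp (hPover i) (Bi i)).toAlgebra
  haveI : ∀ i, IsScalarTower B₀ (Bs (B₀ := B₀) 𝔭) (Bi i) := fun i =>
    IsScalarTower.of_algebraMap_eq (fun b => by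
      rw [RingHom.algebraMap_toAlgebra, toBp_algebraMap])
  haveI : ∀ i, IsScalarTower A (Bs (B₀ := B₀) 𝔭) (Bi i) := fun i =>
    IsScalarTower.of_algebraMap_eq' (by
      apply IsLocalization.ringHom_ext 𝔭.primeCompl (S := A)
      ext t
      simp only [RingHom.comp_apply]
      rw [← IsScalarTower.algebraMap_apply A₀ A (Bs (B₀ := B₀) 𝔭),
        IsScalarTower.algebraMap_apply A₀ B₀ (Bs (B₀ := B₀) 𝔭),
        ← IsScalarTower.algebraMap_apply B₀ (Bs (B₀ := B₀) 𝔭) (Bi i),
        ← IsScalarTower.algebraMap_apply A₀ B₀ (Bi i),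
        ← IsScalarTower.algebraMap_apply A₀ A (Bi i)])
  -- the maximal ideals
  haveI : Algebra.IsIntegral A (Bs (B₀ := B₀) 𝔭) := Algebra.IsIntegral.of_finite A _
  have hmax : ∀ i, ((P i).map (algebraMap B₀ (Bs (B₀ := B₀) 𝔭))).IsMaximal := fun i => by
    haveI := map_isPrime (P := P i) (hPover i)
    have h1 := comap_eq_maximalIdeal A ((P i).map (algebraMap B₀ (Bs (B₀ := B₀) 𝔭)))
      (by rw [comap_map (hPover i)]; exact hPover i)
    apply Ideal.isMaximal_of_isIntegral_of_isMaximal_comap (R := A)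
    rw [h1]
    infer_instance
  let n : ι ≃ MaximalSpectrum (Bs (B₀ := B₀) 𝔭) :=
    Equiv.ofBijective (fun i => ⟨(P i).map (algebraMap B₀ (Bs (B₀ := B₀) 𝔭)), hmax i⟩) (by
      constructor
      · intro i j hij
        apply hPinj
        have h1 : (P i).map (algebraMap B₀ (Bs (B₀ := B₀) 𝔭)) =
            (P j).map (algebraMap B₀ (Bs (B₀ := B₀) 𝔭)) := congrArg MaximalSpectrum.asIdeal hij
        rw [← comap_map (hPover i), ← comap_map (hPover j), h1]
      · intro m
        haveI := m.isMaximal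
        have h1 := comap_comap_eq A m.asIdeal (FibLen.comap_eq A (Bs (B₀ := B₀) 𝔭) m.asIdeal)
        obtain ⟨i, hi⟩ := hPsurj (m.asIdeal.comap (algebraMap B₀ (Bs (B₀ := B₀) 𝔭)))
          (Ideal.IsPrime.comap _) h1
        refine ⟨i, ?_⟩
        apply MaximalSpectrum.ext
        change (P i).map (algebraMap B₀ (Bs (B₀ := B₀) 𝔭)) = m.asIdeal
        rw [hi]
        exact IsLocalization.map_under (Algebra.algebraMapSubmonoid B₀ 𝔭.primeCompl) _ m.asIdeal)
  have hloc : ∀ i, haveI := (n i).isMaximal; IsLocalization.AtPrime (Bi i) (n i).asIdeal :=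
    fun i => isLocalization_toBp (hPover i) (Bi i)
  -- freeness and rank
  haveI : IsLocalizedModule 𝔭.primeCompl
      (IsScalarTower.toAlgHom A₀ B₀ (Bs (B₀ := B₀) 𝔭)).toLinearMap :=
    isLocalizedModule_iff_isLocalization.mpr inferInstance
  haveI : Module.Flat A (Bs (B₀ := B₀) 𝔭) :=
    Module.Flat.of_isLocalizedModule A 𝔭.primeCompl
      (IsScalarTower.toAlgHom A₀ B₀ (Bs (B₀ := B₀) 𝔭)).toLinearMap
  haveI : Module.Free A (Bs (B₀ := B₀) 𝔭) := Module.free_of_flat_of_isLocalRing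
  have hrank : Module.finrank A (Bs (B₀ := B₀) 𝔭) =
      Module.rankAtStalk (R := A₀) B₀ ⟨𝔭, inferInstance⟩ :=
    (locFinrank 𝔭.primeCompl A
      (IsScalarTower.toAlgHom A₀ B₀ (Bs (B₀ := B₀) 𝔭)).toLinearMap).symm
  haveI : Module.Finite (A ⧸ maximalIdeal A)
      (Bs (B₀ := B₀) 𝔭 ⧸ (maximalIdeal A).map (algebraMap A (Bs (B₀ := B₀) 𝔭))) :=
    Module.Finite.of_restrictScalars_finite A _ _
  letI := Ideal.Quotient.field (maximalIdeal A)
  have hlenA : Module.length A
      (Bs (B₀ := B₀) 𝔭 ⧸ (maximalIdeal A).map (algebraMap A (Bs (B₀ := B₀) 𝔭))) =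
      (Module.finrank A (Bs (B₀ := B₀) 𝔭) : ℕ∞) := by
    rw [Module.length_eq_of_surjective (S := A) (R := A ⧸ maximalIdeal A)
      Ideal.Quotient.mk_surjective, Module.length_eq_finrank, IsLocalRing.finrank_quotient_map]
  have hflA : IsFiniteLength A
      (Bs (B₀ := B₀) 𝔭 ⧸ (maximalIdeal A).map (algebraMap A (Bs (B₀ := B₀) 𝔭))) := by
    rw [← Module.length_ne_top_iff, hlenA]
    exact ENat.coe_ne_top _
  have hflB : IsFiniteLength (Bs (B₀ := B₀) 𝔭)
      (Bs (B₀ := B₀) 𝔭 ⧸ (maximalIdeal A).map (algebraMap A (Bs (B₀ := B₀) 𝔭))) := by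
    rw [isFiniteLength_iff_isNoetherian_isArtinian] at hflA ⊢
    obtain ⟨h1, h2⟩ := hflA
    exact ⟨isNoetherian_of_tower A h1, isArtinian_of_tower A h2⟩
  have key := NormA.sl A (Bs (B₀ := B₀) 𝔭) n Bi hloc
    ((maximalIdeal A).map (algebraMap A (Bs (B₀ := B₀) 𝔭))) hflB
  rw [hlenA, hrank] at key
  rw [key]
  refine Finset.sum_congr rfl (fun i _ => ?_)
  have hmap : ((maximalIdeal A).map (algebraMap A (Bs (B₀ := B₀) 𝔭))).map
      (algebraMap (Bs (B₀ := B₀) 𝔭) (Bi i)) = (maximalIdeal A).map (algebraMap A (Bi i)) := by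
    rw [Ideal.map_map, ← IsScalarTower.algebraMap_eq]
  rw [hmap]

end main


/-- the fibre rank formula in terms of ring homomorphisms -/
theorem rank {A₀ B₀ : Type u} [CommRing A₀] [CommRing B₀]
    (φ : A₀ →+* B₀) (hφfin : φ.Finite) (hφflat : φ.Flat) (𝔭 : Ideal A₀) [𝔭.IsPrime]
    {A : Type u} [CommRing A] [IsLocalRing A]
    (a : A₀ →+* A) (ha : @IsLocalization.AtPrime A₀ _ A _ a.toAlgebra 𝔭 _)
    {ι : Type} [Fintype ι] (P : ι → Ideal B₀) [∀ i, (P i).IsPrime]
    (hPover : ∀ i, (P i).comap φ = 𝔭) (hPinj : Injective P)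
    (hPsurj : ∀ Q : Ideal B₀, Q.IsPrime → Q.comap φ = 𝔭 → ∃ i, P i = Q)
    (Bi : ι → Type u) [∀ i, CommRing (Bi i)] [∀ i, IsLocalRing (Bi i)]
    (b : ∀ i, B₀ →+* Bi i)
    (hb : ∀ i, @IsLocalization.AtPrime B₀ _ (Bi i) _ (b i).toAlgebra (P i) _)
    (s : ∀ i, A →+* Bi i) (hs : ∀ i, (s i).comp a = (b i).comp φ) [∀ i, IsLocalHom (s i)] :
    ∑ i, (@Module.finrank (ResidueField A) (ResidueField (Bi i)) _ _
          (ResidueField.map (s i)).toAlgebra.toModule : ℕ∞) *
        Module.length (Bi i) (Bi i ⧸ (maximalIdeal A).map (s i)) =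
      (φ.finrank ⟨𝔭, inferInstance⟩ : ℕ∞) := by
  letI : Algebra A₀ B₀ := φ.toAlgebra
  haveI : Module.Finite A₀ B₀ := hφfin
  haveI : Module.Flat A₀ B₀ := hφflat
  letI : Algebra A₀ A := a.toAlgebra
  haveI : IsLocalization.AtPrime A 𝔭 := ha
  letI : ∀ i, Algebra B₀ (Bi i) := fun i => (b i).toAlgebra
  haveI : ∀ i, IsLocalization.AtPrime (Bi i) (P i) := hb
  letI : ∀ i, Algebra A (Bi i) := fun i => (s i).toAlgebra
  letI : ∀ i, Algebra A₀ (Bi i) := fun i => ((b i).comp φ).toAlgebra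
  haveI : ∀ i, IsScalarTower A₀ B₀ (Bi i) := fun i => IsScalarTower.of_algebraMap_eq (fun _ => rfl)
  haveI : ∀ i, IsScalarTower A₀ A (Bi i) := fun i => IsScalarTower.of_algebraMap_eq (fun t => by
    change ((b i).comp φ) t = ((s i).comp a) t
    rw [hs])
  haveI : ∀ i, IsLocalHom (algebraMap A (Bi i)) := fun i => (inferInstance : IsLocalHom (s i))
  have key := rank₀ (A := A) 𝔭 P hPover hPinj hPsurj Bi
  have h2 : φ.finrank ⟨𝔭, inferInstance⟩ = Module.rankAtStalk (R := A₀) B₀ ⟨𝔭, inferInstance⟩ :=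
    rfl
  rw [h2, ← key]
  refine Finset.sum_congr rfl (fun i _ => ?_)
  rw [finrank_res (s i)]
  rfl

end Groth.Agent.Helper3.NormE
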