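import Mathlib
import Groth.Prelude
import Groth.Agent.Helper3.NormD
import Groth.Agent.Helper3.NormE
import Groth.Agent.Helper5.PbFibre

set_option autoImplicit false
set_option linter.style.haveILetI false
set_option linter.unusedSectionVars false
set_option linter.unusedVariables false
set_option linter.deprecated false
set_option linter.style.haveILetI false
set_option linter.unusedSectionVars false
set_option linter.unusedVariables false

namespace Groth.Agent.Helper3.NormF

universe u

open AlgebraicGeometry CategoryTheory IsLocalRing TopologicalSpace Groth.Agent.Helper3.NormD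

variable {X Y : Scheme.{u}}

/-- a locally quasi-finite morphism has relative dimension zero -/
theorem hasRelDim_zero (f : X ⟶ Y) [LocallyQuasiFinite f] : Cyc.HasRelDim f 0 := by
  intro y T hT
  have hirr : IsIrreducible T := hT.1
  obtain ⟨t, ht⟩ := hirr.nonempty
  haveI : DiscreteTopology ↥(f.fiber y) := inferInstance
  rw [Nat.cast_zero]
  apply le_antisymm (topologicalKrullDim_zero_of_discreteTopology ↥T)
  haveI : Nonempty (IrreducibleCloseds ↥T) :=
    ⟨⟨closure {⟨t, ht⟩}, isIrreducible_singleton.closure, isClosed_closure⟩⟩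
  exact Order.krullDim_nonneg

theorem delta_eq (f : X ⟶ Y) [LocallyQuasiFinite f] (δX : X → ℤ) (δY : Y → ℤ)
    (hδ : Cyc.DeltaCompat f δX δY) (x : X) : δX x = δY (f x) := by
  obtain ⟨n, hn1, hn2⟩ := hδ x
  letI := (f.residueFieldMap x).hom.toAlgebra
  haveI : Module.Finite (Y.residueField (f x)) (X.residueField x) :=
    Groth.Agent.Helper5.PbFibre.finite_residueFieldMap_of_lqf f x
  haveI : Algebra.IsAlgebraic (Y.residueField (f x)) (X.residueField x) := inferInstance
  have h0 : Algebra.trdeg (Y.residueField (f x)) (X.residueField x) = 0 := trdeg_eq_zero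
  rw [h0] at hn1
  have : n = 0 := by exact_mod_cast hn1.symm
  rw [hn2, this]
  simp

/-- the rank of a finite flat morphism at a point of an affine open, in terms of sections -/
theorem finrank_eq (f : X ⟶ Y) [IsFinite f] [Flat f] (U : Y.Opens) (hU : IsAffineOpen U)
    (y : Y) (hy : y ∈ U) :
    (f.app U).hom.finrank (hU.primeIdealOf ⟨y, hy⟩) = f.finrank y := by
  have hV : IsAffineOpen (f ⁻¹ᵁ U) := hU.preimage f
  have hfin : (f.app U).hom.Finite := f.finite_app U hU
  have hflat : (f.app U).hom.Flat := by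
    rw [Scheme.Hom.app_eq_appLE]
    exact f.flat_appLE hU hV le_rfl
  have hpb : IsPullback (Spec.map (f.app U)) hV.fromSpec hU.fromSpec f := by
    refine IsOpenImmersion.isPullback _ _ _ _ ?_ ?_
    · rw [Scheme.Hom.app_eq_appLE]
      exact (IsAffineOpen.SpecMap_appLE_fromSpec f hU hV le_rfl).symm
    · rw [hU.opensRange_fromSpec, hV.opensRange_fromSpec]
  have h1 := Scheme.Hom.finrank_of_isPullback hV.fromSpec (Spec.map (f.app U)) f hU.fromSpec
    hpb.flip (hU.primeIdealOf ⟨y, hy⟩)
  rw [hU.fromSpec_primeIdealOf] at h1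
  rw [← h1, Scheme.Hom.finrank_SpecMap_eq_finrank hfin hflat]


/-- the multiplicity at a point of the fibre, with respect to the map of local rings to the fibre -/
theorem length_sMap (f : X ⟶ Y) (x : X) (y : Y) (hpx : f x = y) :
    Module.length (X.presheaf.stalk x)
      (X.presheaf.stalk x ⧸ (maximalIdeal (Y.presheaf.stalk y)).map (sMap f x y hpx).hom) =
    Module.length (X.presheaf.stalk x)
      (X.presheaf.stalk x ⧸ (maximalIdeal (Y.presheaf.stalk (f x))).map (f.stalkMap x).hom) := by
  subst hpx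
  have h1 : (sMap f x (f x) rfl).hom = (f.stalkMap x).hom := by
    unfold sMap
    rw [TopCat.Presheaf.stalkSpecializes_refl, Category.id_comp]
  rw [h1]

theorem core₂ (f : X ⟶ Y) [IsFinite f] [Flat f] (y : Y)
    {n : ℕ} (x : Fin n → X) (hx : ∀ i, f (x i) = y) (hxinj : Function.Injective x)
    (hxsurj : ∀ x', f x' = y → ∃ i, x i = x') :
    ∑ i, (f.residueDegree (x i) : ℕ∞) *
        Module.length (X.presheaf.stalk (x i))
          (X.presheaf.stalk (x i) ⧸
            (maximalIdeal (Y.presheaf.stalk (f (x i)))).map (f.stalkMap (x i)).hom) =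
      (f.finrank y : ℕ∞) := by
  obtain ⟨U, hU, hyU, -⟩ := exists_isAffineOpen_mem_and_subset (x := y) (U := ⊤) trivial
  have hV : IsAffineOpen (f ⁻¹ᵁ U) := hU.preimage f
  have hfin : (f.app U).hom.Finite := f.finite_app U hU
  have hflat : (f.app U).hom.Flat := by
    rw [Scheme.Hom.app_eq_appLE]
    exact f.flat_appLE hU hV le_rfl
  have hxV : ∀ i, x i ∈ f ⁻¹ᵁ U := fun i => by
    show f (x i) ∈ U
    rw [hx i]; exact hyU
  haveI hPprime : ∀ i, (hV.primeIdealOf ⟨x i, hxV i⟩).asIdeal.IsPrime := fun i =>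
    (hV.primeIdealOf ⟨x i, hxV i⟩).isPrime
  have key := NormE.rank (f.app U).hom hfin hflat (hU.primeIdealOf ⟨y, hyU⟩).asIdeal
    (A := Y.presheaf.stalk y) (Y.presheaf.germ U y hyU).hom
    (hU.isLocalization_stalk ⟨y, hyU⟩)
    (fun i => (hV.primeIdealOf ⟨x i, hxV i⟩).asIdeal)
    (fun i => by
      rw [comap_primeIdealOf f hU hV (x i) (hxV i)]
      exact primeIdealOf_congr hU y (f (x i)) (hx i) hyU _)
    (fun i j hij => hxinj (primeIdealOf_injective hV _ _ (hxV i) (hxV j) hij))
    (fun Q hQ hQover => by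
      haveI := hQ
      obtain ⟨x', hx'V, hx'Q⟩ := exists_primeIdealOf_eq hV Q
      have h1 := comap_primeIdealOf f hU hV x' hx'V
      rw [hx'Q, hQover] at h1
      have h2 : y = f x' := primeIdealOf_injective hU _ _ hyU hx'V h1
      obtain ⟨i, hi⟩ := hxsurj x' h2.symm
      refine ⟨i, ?_⟩
      rw [← hx'Q]
      exact primeIdealOf_congr hV x' (x i) hi hx'V (hxV i))
    (fun i => X.presheaf.stalk (x i))
    (fun i => (X.presheaf.germ (f ⁻¹ᵁ U) (x i) (hxV i)).hom)
    (fun i => hV.isLocalization_stalk ⟨x i, hxV i⟩)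
    (fun i => (sMap f (x i) y (hx i)).hom)
    (fun i => by
      ext t
      exact sMap_germ f (x i) y (hx i) U hyU t)
  have h2 : (f.app U).hom.finrank ⟨(hU.primeIdealOf ⟨y, hyU⟩).asIdeal, inferInstance⟩ =
      f.finrank y := finrank_eq f U hU y hyU
  rw [h2] at key
  rw [← key]
  refine Finset.sum_congr rfl (fun i _ => ?_)
  rw [finrank_sMap f (x i) y (hx i), length_sMap f (x i) y (hx i)]


theorem main (δX : X → ℤ) (δY : Y → ℤ) (hX : Cyc.IsSetup X δX) (hY : Cyc.IsSetup Y δY)
    (f : X ⟶ Y) [IsFinite f] [Flat f] (d : ℕ) (hd : ∀ y : Y, f.finrank y = d)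
    (hδ : Cyc.DeltaCompat f δX δY) (k : ℤ) :
    Cyc.HasRelDim f 0 ∧ ∀ (α : AlgebraicCycle Y ℤ), α ∈ Cyc.Zk Y δY k →
      ∀ α' : AlgebraicCycle X ℤ, ⇑α' = Cyc.pullFun f δX δY 0 ⇑α →
        AlgebraicCycle.map f δX δY α' = d • α := by
  refine ⟨hasRelDim_zero f, ?_⟩
  intro α hα α' hα'
  ext y
  simp only [AlgebraicCycle.map, Function.locallyFinsupp.map_apply,
    Function.locallyFinsuppWithin.coe_nsmul, Pi.smul_apply]
  have hfin : (f ⁻¹' {y}).Finite := f.finite_preimage_singleton y
  haveI := hfin.to_subtype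
  obtain ⟨m, ⟨e⟩⟩ := Finite.exists_equiv_fin (f ⁻¹' {y} : Set X)
  let x : Fin m → X := fun i => (e.symm i : X)
  have hx : ∀ i, f (x i) = y := fun i => (e.symm i).2
  have hxinj : Function.Injective x := fun i j hij =>
    e.symm.injective (Subtype.ext hij)
  have hxsurj : ∀ x', f x' = y → ∃ i, x i = x' := fun x' hx' =>
    ⟨e ⟨x', hx'⟩, by simp [x]⟩
  have hcore := core₂ f y x hx hxinj hxsurj
  rw [hd y] at hcore
  -- each length is finite
  have hterm : ∀ i, ∃ l : ℕ, Module.length (X.presheaf.stalk (x i))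
      (X.presheaf.stalk (x i) ⧸
        (maximalIdeal (Y.presheaf.stalk (f (x i)))).map (f.stalkMap (x i)).hom) = (l : ℕ∞) := by
    intro i
    have hdeg : f.residueDegree (x i) ≠ 0 := by
      unfold Scheme.Hom.residueDegree
      letI := (f.residueFieldMap (x i)).hom.toAlgebra
      haveI : Module.Finite (Y.residueField (f (x i))) (X.residueField (x i)) :=
        Groth.Agent.Helper5.PbFibre.finite_residueFieldMap_of_lqf f (x i)
      exact (Module.finrank_pos (R := Y.residueField (f (x i)))
        (M := X.residueField (x i))).ne'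
    have hne : (f.residueDegree (x i) : ℕ∞) *
        Module.length (X.presheaf.stalk (x i))
          (X.presheaf.stalk (x i) ⧸
            (maximalIdeal (Y.presheaf.stalk (f (x i)))).map (f.stalkMap (x i)).hom) ≠ ⊤ := by
      intro htop
      have hle := Finset.single_le_sum (f := fun i => (f.residueDegree (x i) : ℕ∞) *
        Module.length (X.presheaf.stalk (x i))
          (X.presheaf.stalk (x i) ⧸
            (maximalIdeal (Y.presheaf.stalk (f (x i)))).map (f.stalkMap (x i)).hom))
        (fun j _ => zero_le) (Finset.mem_univ i)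
      rw [hcore] at hle
      simp only [htop, top_le_iff] at hle
      exact ENat.coe_ne_top d hle
    have hlen : Module.length (X.presheaf.stalk (x i))
        (X.presheaf.stalk (x i) ⧸
          (maximalIdeal (Y.presheaf.stalk (f (x i)))).map (f.stalkMap (x i)).hom) ≠ ⊤ := by
      intro htop
      apply hne
      rw [htop, ENat.mul_top]
      exact_mod_cast hdeg
    exact ⟨_, (ENat.coe_toNat hlen).symm⟩
  choose l hl using hterm
  have hsum : ∑ i, f.residueDegree (x i) * l i = d := by
    have h1 : ((∑ i, f.residueDegree (x i) * l i : ℕ) : ℕ∞) = (d : ℕ∞) := by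
      rw [← hcore, Nat.cast_sum]
      refine Finset.sum_congr rfl (fun i _ => ?_)
      rw [hl i, Nat.cast_mul]
    exact_mod_cast h1
  rw [← finsum_set_coe_eq_finsum_mem (s := f ⁻¹' {y}), ← finsum_comp_equiv e.symm,
    finsum_eq_sum_of_fintype]
  have hterm2 : ∀ i : Fin m, α' ((e.symm i : X)) *
      ((AlgebraicCycle.mapCoeff f δX δY (e.symm i : X) : ℕ) : ℤ) =
      α y * ((f.residueDegree (x i) * l i : ℕ) : ℤ) := by
    intro i
    change α' (x i) * ((AlgebraicCycle.mapCoeff f δX δY (x i) : ℕ) : ℤ) = _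
    have hδx := delta_eq f δX δY hδ (x i)
    rw [hα']
    unfold Cyc.pullFun AlgebraicCycle.mapCoeff
    rw [if_pos (by rw [hδx, add_zero]), if_pos hδx, hl i, ENat.toNat_coe, hx i]
    push_cast
    ring
  rw [Finset.sum_congr rfl (fun i _ => hterm2 i), ← Finset.mul_sum, ← Nat.cast_sum, hsum]
  simp [mul_comm]

end Groth.Agent.Helper3.NormF
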