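import Mathlib
import Groth.Prelude
import Groth.Agent.Helper3.NormF
import Groth.Agent.Helper3.GenFibC
import Groth.Agent.Helper3.CycPBE

set_option autoImplicit false
set_option linter.style.haveILetI false
set_option linter.unusedSectionVars false
set_option linter.unusedVariables false
set_option linter.deprecated false
set_option linter.style.haveILetI false
set_option linter.unusedSectionVars false
set_option linter.unusedVariables false

universe u

open CategoryTheory CategoryTheory.Limits AlgebraicGeometry TopologicalSpace Opposite IsLocalRing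
open TensorProduct

namespace Groth.Agent.Helper3.PBC

open Groth.Agent.Helper3.CycPBE (Lfun)

section general

variable {W Z : Scheme.{u}}

/-- total length of the local ring at a point of a flat morphism -/
theorem length_stalk_flat (π : W ⟶ Z) [Flat π] (w : W) (z : Z) (h : π w = z) :
    Module.length (W.presheaf.stalk w) (W.presheaf.stalk w) =
      Module.length (Z.presheaf.stalk z) (Z.presheaf.stalk z) * Lfun π w := by
  subst h
  letI := (π.stalkMap w).hom.toAlgebra
  haveI : Module.Flat (Z.presheaf.stalk (π w)) (W.presheaf.stalk w) := Flat.stalkMap π w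
  haveI : IsLocalHom (algebraMap (Z.presheaf.stalk (π w)) (W.presheaf.stalk w)) :=
    inferInstanceAs (IsLocalHom (π.stalkMap w).hom)
  have h1 := IsLocalRing.length_baseChange (Z.presheaf.stalk (π w)) (W.presheaf.stalk w)
    (Z.presheaf.stalk (π w))
  have e1 : (W.presheaf.stalk w ⊗[Z.presheaf.stalk (π w)] Z.presheaf.stalk (π w))
      ≃ₗ[W.presheaf.stalk w] W.presheaf.stalk w :=
    (Algebra.TensorProduct.rid (Z.presheaf.stalk (π w)) (W.presheaf.stalk w)
      (W.presheaf.stalk w)).toLinearEquiv
  rw [e1.length_eq] at h1
  exact h1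

/-- the degree formula for a finite flat morphism, with total lengths -/
theorem total_length_formula (π : W ⟶ Z) [IsFinite π] [Flat π] (z : Z)
    {n : ℕ} (w : Fin n → W) (hw : ∀ i, π (w i) = z) (hinj : Function.Injective w)
    (hsurj : ∀ w', π w' = z → ∃ i, w i = w') :
    ∑ i, (π.residueDegree (w i) : ℕ∞) *
        Module.length (W.presheaf.stalk (w i)) (W.presheaf.stalk (w i)) =
      (π.finrank z : ℕ∞) * Module.length (Z.presheaf.stalk z) (Z.presheaf.stalk z) := by
  rw [← NormF.core₂ π z w hw hinj hsurj, Finset.sum_mul]
  refine Finset.sum_congr rfl fun i _ => ?_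
  rw [length_stalk_flat π (w i) z (hw i)]
  unfold Lfun
  ring

/-- the local ring of the fibre -/
theorem length_fiber_stalk {X S : Scheme.{u}} (f : X ⟶ S) (s : S) (y : ↥(f.fiber s)) :
    Module.length ((f.fiber s).presheaf.stalk y) ((f.fiber s).presheaf.stalk y) =
      Lfun f (f.fiberι s y) := by
  obtain ⟨hsurj, hker⟩ := Groth.Agent.Helper5.FibStalk.s9501 f s y
  unfold Lfun
  rw [← hker]
  letI := ((f.fiberι s).stalkMap y).hom.toAlgebra
  have e2 : (X.presheaf.stalk (f.fiberι s y) ⧸
      RingHom.ker (algebraMap (X.presheaf.stalk (f.fiberι s y))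
        ((f.fiber s).presheaf.stalk y))) ≃ₗ[X.presheaf.stalk (f.fiberι s y)]
      (f.fiber s).presheaf.stalk y :=
    (Ideal.quotientKerAlgEquivOfSurjective
      (f := Algebra.ofId (X.presheaf.stalk (f.fiberι s y)) ((f.fiber s).presheaf.stalk y))
      hsurj).toLinearEquiv
  have e3 : Module.length (X.presheaf.stalk (f.fiberι s y))
      (X.presheaf.stalk (f.fiberι s y) ⧸
        RingHom.ker ((f.fiberι s).stalkMap y).hom) =
      Module.length (X.presheaf.stalk (f.fiberι s y)) ((f.fiber s).presheaf.stalk y) :=
    e2.length_eq
  rw [e3]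
  exact (Module.length_eq_of_surjective hsurj).symm

/-- the inclusion of a fibre has residue degree one -/
theorem residueDegree_fiberι {X S : Scheme.{u}} (f : X ⟶ S) (s : S) (y : ↥(f.fiber s)) :
    (f.fiberι s).residueDegree y = 1 :=
  GenFib.residueDegree_eq_one_of_surjective (f.fiberι s) y
    (Groth.Agent.Helper5.FibStalk.s9501 f s y).1

end general

end Groth.Agent.Helper3.PBC
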