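import Mathlib
import Groth.Prelude
import Groth.Agent.Helper3.DvrB
import Groth.Agent.Helper3.ModLocD
import Groth.Agent.Helper3.PBCa

set_option autoImplicit false
set_option linter.style.haveILetI false
set_option linter.unusedSectionVars false
set_option linter.unusedVariables false
set_option linter.deprecated false
set_option linter.style.haveILetI false
set_option linter.unusedSectionVars false
set_option linter.unusedVariables false

universe u

open CategoryTheory CategoryTheory.Limits AlgebraicGeometry TopologicalSpace Opposite IsLocalRing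

namespace Groth.Agent.Helper3.SpFun

open Groth.Agent.Helper3.DvrBase

section base

variable (R : Type u) [CommRing R] [IsDomain R] [IsDiscreteValuationRing R]

/-- the maximal ideal of a local ring of the spectrum of a discrete valuation ring is principal -/
theorem maximalIdeal_stalk_eq_span (p : ↥(Spec (CommRingCat.of R))) :
    ∃ t : (Spec (CommRingCat.of R)).presheaf.stalk p,
      maximalIdeal ((Spec (CommRingCat.of R)).presheaf.stalk p) = Ideal.span {t} ∧
      (p.asIdeal ≠ ⊥ → t ∈ nonZeroDivisors ((Spec (CommRingCat.of R)).presheaf.stalk p)) ∧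
      (p.asIdeal = ⊥ → t = 0) := by
  letI : Algebra R ((Spec (CommRingCat.of R)).presheaf.stalk p) :=
    StructureSheaf.stalkAlgebra R p
  haveI : IsLocalization.AtPrime ((Spec (CommRingCat.of R)).presheaf.stalk p) p.asIdeal :=
    StructureSheaf.IsLocalization.to_stalk R p
  have hle : p.asIdeal.primeCompl ≤ nonZeroDivisors R := Ideal.primeCompl_le_nonZeroDivisors _
  haveI hd : IsDomain ((Spec (CommRingCat.of R)).presheaf.stalk p) :=
    IsLocalization.isDomain_of_le_nonZeroDivisors _ hle
  obtain ⟨g, hg⟩ := (IsPrincipalIdealRing.principal p.asIdeal).principal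
  have hg' : p.asIdeal = Ideal.span {g} := hg
  refine ⟨algebraMap R _ g, ?_, ?_, ?_⟩
  · rw [← IsLocalization.AtPrime.map_eq_maximalIdeal p.asIdeal, hg', Ideal.map_span,
      Set.image_singleton]
  · intro hne
    have hg0 : g ≠ 0 := by
      intro h0
      apply hne
      rw [hg', h0]
      exact Ideal.span_singleton_eq_bot.mpr rfl
    have hinj : Function.Injective
        (algebraMap R ((Spec (CommRingCat.of R)).presheaf.stalk p)) :=
      IsLocalization.injective _ hle
    apply mem_nonZeroDivisors_of_ne_zero
    intro h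
    exact hg0 (hinj (h.trans (map_zero _).symm))
  · intro h0
    have : g = 0 := by
      rw [hg'] at h0
      exact Ideal.span_singleton_eq_bot.mp h0
    rw [this, map_zero]

theorem closedPoint_asIdeal_ne_bot :
    (IsLocalRing.closedPoint R : ↥(Spec (CommRingCat.of R))).asIdeal ≠ ⊥ :=
  IsDiscreteValuationRing.not_a_field R

theorem genericPoint_asIdeal :
    (genericPoint ↥(Spec (CommRingCat.of R))).asIdeal = ⊥ := by
  rw [genericPoint_eq_bot_of_affine]
  rfl

theorem genericPoint_ne_closedPoint :
    genericPoint ↥(Spec (CommRingCat.of R)) ≠ IsLocalRing.closedPoint R := by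
  intro h
  apply closedPoint_asIdeal_ne_bot R
  rw [← h]
  exact genericPoint_asIdeal R

theorem δR_genericPoint : δR R (genericPoint ↥(Spec (CommRingCat.of R))) = 1 :=
  δR_of_ne R _ (genericPoint_ne_closedPoint R)

theorem eq_generic_or_closed (p : ↥(Spec (CommRingCat.of R))) :
    p = genericPoint ↥(Spec (CommRingCat.of R)) ∨ p = IsLocalRing.closedPoint R := by
  by_cases h : p.asIdeal = ⊥
  · left
    apply PrimeSpectrum.ext
    rw [h, genericPoint_asIdeal]
  · right
    exact eq_closedPoint_of_ne_bot R p h

end base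

section total

variable {R : Type u} [CommRing R] [IsDomain R] [IsDiscreteValuationRing R] {X : Scheme.{u}}
  (a : X ⟶ Spec (CommRingCat.of R)) [LocallyOfFiniteType a]

/-- the dimension function on the total space -/
noncomputable def δT : X → ℤ := indDelta a (δR R)

theorem isSetup_δT : Cyc.IsSetup X (δT a) := isSetup_indDelta a (δR R) (isSetup_specR R)

theorem deltaCompat_δT : Cyc.DeltaCompat a (δT a) (δR R) := deltaCompat_indDelta a (δR R)

variable (δη : ↥(a.fiber (genericPoint ↥(Spec (CommRingCat.of R)))) → ℤ)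
  (δs : ↥(a.fiber (IsLocalRing.closedPoint R)) → ℤ)
  (hδη : Cyc.DeltaCompat (a.fiberToSpecResidueField (genericPoint ↥(Spec (CommRingCat.of R))))
    δη (fun _ => 0))
  (hδs : Cyc.DeltaCompat (a.fiberToSpecResidueField (IsLocalRing.closedPoint R)) δs (fun _ => 0))

include hδη in
theorem δT_generic (ζ : ↥(a.fiber (genericPoint ↥(Spec (CommRingCat.of R))))) :
    δT a (a.fiberι _ ζ) = 1 + δη ζ := by
  rw [δT, delta_fiberι a (δR R) (deltaCompat_indDelta a (δR R)) _ δη hδη ζ, δR_genericPoint]

include hδs in
theorem δT_closed (x : ↥(a.fiber (IsLocalRing.closedPoint R))) :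
    δT a (a.fiberι _ x) = δs x := by
  rw [δT, delta_fiberι a (δR R) (deltaCompat_indDelta a (δR R)) _ δs hδs x, δR_closedPoint,
    zero_add]

/-- every point of the total space lies in one of the two fibres -/
theorem mem_range_fiberι (z : X) :
    z ∈ Set.range (a.fiberι (genericPoint ↥(Spec (CommRingCat.of R)))) ∨
      z ∈ Set.range (a.fiberι (IsLocalRing.closedPoint R)) := by
  rw [Scheme.Hom.range_fiberι, Scheme.Hom.range_fiberι]
  exact eq_generic_or_closed R (a z)

/-- the local rings of the generic fibre are the local rings of the total space -/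
theorem stalkMap_fiberι_generic_bijective
    (ζ : ↥(a.fiber (genericPoint ↥(Spec (CommRingCat.of R))))) :
    Function.Bijective ((a.fiberι _).stalkMap ζ).hom := by
  obtain ⟨hs, hk⟩ := Groth.Agent.Helper5.FibStalk.s9501 a _ ζ
  refine ⟨?_, hs⟩
  rw [RingHom.injective_iff_ker_eq_bot, hk]
  obtain ⟨t, ht1, -, ht3⟩ := maximalIdeal_stalk_eq_span R (a (a.fiberι _ ζ))
  have h0 : (a (a.fiberι _ ζ)).asIdeal = ⊥ := by
    rw [Groth.Agent.Helper5.FibStalk.fiberι_apply a _ ζ]
    exact genericPoint_asIdeal R
  rw [ht1, ht3 h0, Ideal.span_singleton_eq_bot.mpr rfl, Ideal.map_bot]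

/-- the local rings of the closed fibre are the quotients by a uniformizer -/
theorem exists_uniformizer (x : ↥(a.fiber (IsLocalRing.closedPoint R))) :
    ∃ b : X.presheaf.stalk (a.fiberι _ x),
      RingHom.ker ((a.fiberι _).stalkMap x).hom = Ideal.span {b} ∧
      (maximalIdeal ((Spec (CommRingCat.of R)).presheaf.stalk (a (a.fiberι _ x)))).map
        (a.stalkMap (a.fiberι _ x)).hom = Ideal.span {b} ∧
      ∀ F : X.Modules, FlatMod.IsFlatOver a F →
        IsSMulRegular (F.presheaf.stalk (a.fiberι _ x)) b := by
  obtain ⟨hs, hk⟩ := Groth.Agent.Helper5.FibStalk.s9501 a _ x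
  obtain ⟨t, ht1, ht2, -⟩ := maximalIdeal_stalk_eq_span R (a (a.fiberι _ x))
  have hne : (a (a.fiberι _ x)).asIdeal ≠ ⊥ := by
    rw [Groth.Agent.Helper5.FibStalk.fiberι_apply a _ x]
    exact closedPoint_asIdeal_ne_bot R
  have hmap : (maximalIdeal ((Spec (CommRingCat.of R)).presheaf.stalk (a (a.fiberι _ x)))).map
      (a.stalkMap (a.fiberι _ x)).hom = Ideal.span {(a.stalkMap (a.fiberι _ x)).hom t} := by
    rw [ht1, Ideal.map_span, Set.image_singleton]
  refine ⟨(a.stalkMap (a.fiberι _ x)).hom t, by rw [hk, hmap], hmap, ?_⟩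
  intro F hF
  have hfl := hF (a.fiberι _ x)
  unfold FlatMod.IsFlatOverAt at hfl
  letI := FlatMod.moduleStalkOver a F (a.fiberι _ x)
  have h1 : IsSMulRegular (F.presheaf.stalk (a.fiberι _ x)) t :=
    Module.Flat.isSMulRegular_of_nonZeroDivisors (ht2 hne)
  intro m1 m2 h
  exact h1 h

end total

end Groth.Agent.Helper3.SpFun
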