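import Mathlib
import Groth.Prelude
import Groth.Agent.Helper3.SpFunA
import Groth.Agent.Helper3.CycPBB

set_option autoImplicit false
set_option linter.style.haveILetI false
set_option linter.unusedSectionVars false
set_option linter.unusedVariables false
set_option linter.deprecated false
set_option linter.style.haveILetI false
set_option linter.unusedSectionVars false
set_option linter.unusedVariables false

universe u

open CategoryTheory CategoryTheory.Limits AlgebraicGeometry TopologicalSpace Opposite IsLocalRing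
open scoped Pointwise

namespace Groth.Agent.Helper3.SpFun

open Groth.Agent.Helper3.DvrBase Groth.Agent.Helper3.ModLoc Groth.Agent.Helper5.StalkDict

section stalks

variable {X W : Scheme.{u}} (i : W ⟶ X) (F : X.Modules) [F.IsQuasicoherent]

/-- the length of the stalk of a pullback along a morphism whose stalk map is surjective with
principal kernel -/
theorem length_stalk_pullback_of_ker (w : W) (hsurj : Function.Surjective (i.stalkMap w).hom)
    (b : X.presheaf.stalk (i w)) (hker : RingHom.ker (i.stalkMap w).hom = Ideal.span {b}) :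
    Module.length (W.presheaf.stalk w) (((Scheme.Modules.pullback i).obj F).presheaf.stalk w) =
      Module.length (X.presheaf.stalk (i w)) (QuotSMulTop b (F.presheaf.stalk (i w))) := by
  letI := (i.stalkMap w).hom.toAlgebra
  obtain ⟨e⟩ := Groth.Agent.Lead.StalkPull.nonempty_stalk_pullback_equiv i F w
  rw [e.length_eq]
  exact length_tensor_of_surjective hsurj b hker _

/-- the length of the stalk of a pullback along a morphism whose stalk map is bijective -/
theorem length_stalk_pullback_of_bijective (w : W)
    (hbij : Function.Bijective (i.stalkMap w).hom) :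
    Module.length (W.presheaf.stalk w) (((Scheme.Modules.pullback i).obj F).presheaf.stalk w) =
      Module.length (X.presheaf.stalk (i w)) (F.presheaf.stalk (i w)) := by
  have hker : RingHom.ker (i.stalkMap w).hom = Ideal.span {(0 : X.presheaf.stalk (i w))} := by
    rw [(RingHom.injective_iff_ker_eq_bot _).mp hbij.1, Ideal.span_singleton_eq_bot.mpr rfl]
  rw [length_stalk_pullback_of_ker i F w hbij.2 0 hker]
  have h0 : (0 : X.presheaf.stalk (i w)) • (⊤ : Submodule (X.presheaf.stalk (i w))
      (F.presheaf.stalk (i w))) = ⊥ := by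
    rw [eq_bot_iff]
    rintro m hm
    obtain ⟨m', -, rfl⟩ := (Submodule.mem_smul_pointwise_iff_exists _ _ _).mp hm
    rw [zero_smul]
    exact Submodule.zero_mem _
  exact (Submodule.quotEquivOfEqBot _ h0).length_eq

end stalks

section mult

variable {X S : Scheme.{u}} (f : X ⟶ S)

/-- the multiplicity in the specialization map in terms of a generator of the ideal of the fibre -/
theorem length_mult (x₀ ξ : X) (hsp : ξ ⤳ x₀) (b : X.presheaf.stalk x₀)
    (hb : (maximalIdeal (S.presheaf.stalk (f x₀))).map (f.stalkMap x₀).hom = Ideal.span {b}) :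
    Module.length (X.presheaf.stalk x₀)
      (Cyc.LocQuot x₀ ξ hsp ⧸ (maximalIdeal (S.presheaf.stalk (f x₀))).map
        ((Ideal.Quotient.mk (RingHom.ker (Cyc.specMap x₀ ξ hsp))).comp (f.stalkMap x₀).hom)) =
    Module.length (X.presheaf.stalk x₀)
      (X.presheaf.stalk x₀ ⧸ (RingHom.ker (Cyc.specMap x₀ ξ hsp) ⊔ Ideal.span {b})) := by
  set K' := RingHom.ker (Cyc.specMap x₀ ξ hsp) with hK'
  set τ := (f.stalkMap x₀).hom with hτ
  have hideal : (maximalIdeal (S.presheaf.stalk (f x₀))).map ((Ideal.Quotient.mk K').comp τ) =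
      (K' ⊔ Ideal.span {b}).map (Ideal.Quotient.mk K') := by
    rw [Ideal.map_sup, Ideal.map_quotient_self, bot_sup_eq, ← hb, Ideal.map_map]
  have h1 : Module.length (X.presheaf.stalk x₀)
      ((X.presheaf.stalk x₀ ⧸ K') ⧸ (K' ⊔ Ideal.span {b}).map (Ideal.Quotient.mk K')) =
      Module.length (X.presheaf.stalk x₀ ⧸ K')
      ((X.presheaf.stalk x₀ ⧸ K') ⧸ (K' ⊔ Ideal.span {b}).map (Ideal.Quotient.mk K')) :=
    Module.length_eq_of_surjective Ideal.Quotient.mk_surjective
  show Module.length (X.presheaf.stalk x₀)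
      ((X.presheaf.stalk x₀ ⧸ K') ⧸ (maximalIdeal (S.presheaf.stalk (f x₀))).map
        ((Ideal.Quotient.mk K').comp τ)) = _
  rw [hideal, h1, PullDivG.length_quot_map K' _ le_sup_left]

end mult

section main

variable {R : Type u} [CommRing R] [IsDomain R] [IsDiscreteValuationRing R] {X : Scheme.{u}}
  (a : X ⟶ Spec (CommRingCat.of R)) [LocallyOfFiniteType a]
  (δη : ↥(a.fiber (genericPoint ↥(Spec (CommRingCat.of R)))) → ℤ)
  (δs : ↥(a.fiber (IsLocalRing.closedPoint R)) → ℤ)
  (hδη : Cyc.DeltaCompat (a.fiberToSpecResidueField (genericPoint ↥(Spec (CommRingCat.of R))))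
    δη (fun _ => 0))
  (hδs : Cyc.DeltaCompat (a.fiberToSpecResidueField (IsLocalRing.closedPoint R)) δs (fun _ => 0))
  (r : ℤ) (F : X.Modules) (hF : Coh.IsCoh F) (hflat : FlatMod.IsFlatOver a F)
  (hdim : ∀ ζ : ↥(a.fiber (genericPoint ↥(Spec (CommRingCat.of R)))),
    Nontrivial (((Scheme.Modules.pullback (a.fiberι (genericPoint ↥(Spec (CommRingCat.of R))))).obj
      F).presheaf.stalk ζ) → δη ζ ≤ r)

include hδη hF hdim in
/-- points of the generic fibre in the support have dimension at most `r + 1` in the total space -/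
theorem δT_le_generic (ζ : ↥(a.fiber (genericPoint ↥(Spec (CommRingCat.of R)))))
    (hnt : Nontrivial (F.presheaf.stalk (a.fiberι _ ζ))) : δT a (a.fiberι _ ζ) ≤ r + 1 := by
  haveI : F.IsQuasicoherent := hF.1
  rw [δT_generic a δη hδη ζ]
  have h1 : Nontrivial (((Scheme.Modules.pullback (a.fiberι
      (genericPoint ↥(Spec (CommRingCat.of R))))).obj F).presheaf.stalk ζ) := by
    have hlen := length_stalk_pullback_of_bijective (a.fiberι _) F ζ
      (stalkMap_fiberι_generic_bijective a ζ)
    by_contra hcon
    rw [not_nontrivial_iff_subsingleton] at hcon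
    rw [Module.length_eq_zero_iff.mpr hcon] at hlen
    have := Module.length_eq_zero_iff.mp hlen.symm
    exact not_subsingleton _ this
  have := hdim ζ h1
  omega

include hδη hδs hF hflat hdim in
/-- the support of a flat coherent module in the closed fibre has dimension at most `r` -/
theorem δs_le_of_nontrivial (x : ↥(a.fiber (IsLocalRing.closedPoint R)))
    (hnt : Nontrivial (F.presheaf.stalk (a.fiberι _ x))) : δs x ≤ r := by
  haveI : F.IsQuasicoherent := hF.1
  haveI : IsLocallyNoetherian X := (isSetup_δT a).1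
  obtain ⟨b, hker, hmap, hreg⟩ := exists_uniformizer a x
  have hbreg := hreg F hflat
  haveI hfin := finite_stalk F hF (a.fiberι _ x)
  have hx0 : a (a.fiberι _ x) = IsLocalRing.closedPoint R :=
    Groth.Agent.Helper5.FibStalk.fiberι_apply a _ x
  have hδx : δT a (a.fiberι _ x) = δs x := δT_closed a δs hδs x
  clear hker hreg
  generalize a.fiberι _ x = x₀ at *
  set I : Ideal (X.presheaf.stalk x₀) :=
    Module.annihilator (X.presheaf.stalk x₀) (F.presheaf.stalk x₀) with hI
  have hIne : I ≠ ⊤ := by
    intro htop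
    have h1 : (1 : X.presheaf.stalk x₀) ∈ I := by rw [htop]; trivial
    obtain ⟨m1, m2, hne⟩ := hnt
    apply hne
    have e1 := Module.mem_annihilator.mp h1 m1
    have e2 := Module.mem_annihilator.mp h1 m2
    rw [one_smul] at e1 e2
    rw [e1, e2]
  obtain ⟨q, hq⟩ := Ideal.exists_minimalPrimes_le (show I ≤ maximalIdeal _ from
    IsLocalRing.le_maximalIdeal hIne)
  have hqmin := hq.1
  haveI : q.IsPrime := hqmin.1.1
  have hass : q ∈ associatedPrimes (X.presheaf.stalk x₀) (F.presheaf.stalk x₀) :=
    Module.associatedPrimes.minimalPrimes_annihilator_subset_associatedPrimes _ _ hqmin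
  have hbq : b ∉ q := by
    intro hbq
    have h3 : b ∈ ({r : X.presheaf.stalk x₀ | IsSMulRegular (F.presheaf.stalk x₀) r}ᶜ :
        Set (X.presheaf.stalk x₀)) := by
      rw [← biUnion_associatedPrimes_eq_compl_regular]
      simp only [Set.mem_iUnion]
      exact ⟨_, hass, hbq⟩
    exact h3 hbreg
  let Q : ↥(Spec (X.presheaf.stalk x₀)) := ⟨q, inferInstance⟩
  set ξ := X.fromSpecStalk x₀ Q with hξ
  have hξx : ξ ⤳ x₀ := fromSpecStalk_specializes x₀ Q
  have hntξ : Nontrivial (F.presheaf.stalk ξ) := by
    rw [nontrivial_stalk_iff F hξx, PullDivB.ker_specMap x₀ Q hξx]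
    exact hqmin.1.2
  -- `ξ` lies in the generic fibre
  have haξ : a ξ ≠ IsLocalRing.closedPoint R := by
    intro hcl
    rw [hξ, map_fromSpecStalk] at hcl
    have h1 : Spec.map (a.stalkMap x₀) Q =
        IsLocalRing.closedPoint ((Spec (CommRingCat.of R)).presheaf.stalk (a x₀)) := by
      apply ((Spec (CommRingCat.of R)).fromSpecStalk (a x₀)).isEmbedding.injective
      rw [hcl, Scheme.fromSpecStalk_closedPoint, hx0]
    have h2 := congrArg PrimeSpectrum.asIdeal h1
    change q.comap (a.stalkMap x₀).hom = maximalIdeal _ at h2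
    apply hbq
    have h3 : Ideal.span {b} ≤ q := by
      rw [← hmap, Ideal.map_le_iff_le_comap, h2]
    exact h3 (Ideal.subset_span rfl)
  rcases mem_range_fiberι a ξ with ⟨ζ, hζ⟩ | ⟨x', hx'⟩
  · have h1 := δT_le_generic a δη hδη r F hF hdim ζ (by rw [hζ]; exact hntξ)
    rw [hζ] at h1
    have hne : ξ ≠ x₀ := by
      intro h
      apply haξ
      rw [h]
      exact hx0
    have h2 := ((isSetup_δT a).2.2 _ _ hξx hne).1
    rw [hδx] at h2
    omega
  · exfalso
    apply haξ
    rw [← hx']
    exact Groth.Agent.Helper5.FibStalk.fiberι_apply a _ x'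

end main

end Groth.Agent.Helper3.SpFun
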