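import Mathlib
import Groth.Prelude
import Groth.Agent.Helper3.SpFunB
import Groth.Agent.Helper3.GysinB

set_option autoImplicit false
set_option linter.style.haveILetI false
set_option linter.unusedSectionVars false
set_option linter.unusedVariables false
set_option linter.deprecated false
set_option linter.style.haveILetI false
set_option linter.unusedSectionVars false
set_option linter.unusedVariables false

universe u

open CategoryTheory CategoryTheory.Limits AlgebraicGeometry TopologicalSpace Opposite IsLocalRing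
open scoped Pointwise

namespace Groth.Agent.Helper3.SpFun

open Groth.Agent.Helper3.DvrBase Groth.Agent.Helper3.ModLoc Groth.Agent.Helper5.StalkDict

section main

variable {R : Type u} [CommRing R] [IsDomain R] [IsDiscreteValuationRing R] {X : Scheme.{u}}
  (a : X ⟶ Spec (CommRingCat.of R)) [LocallyOfFiniteType a]
  (δη : ↥(a.fiber (genericPoint ↥(Spec (CommRingCat.of R)))) → ℤ)
  (δs : ↥(a.fiber (IsLocalRing.closedPoint R)) → ℤ)
  (hδη : Cyc.DeltaCompat (a.fiberToSpecResidueField (genericPoint ↥(Spec (CommRingCat.of R))))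
    δη (fun _ => 0))
  (hδs : Cyc.DeltaCompat (a.fiberToSpecResidueField (IsLocalRing.closedPoint R)) δs (fun _ => 0))
  (r : ℤ) (F : X.Modules) (hF : Coh.IsCoh F) (hflat : FlatMod.IsFlatOver a F)
  (hdim : ∀ ζ : ↥(a.fiber (genericPoint ↥(Spec (CommRingCat.of R)))),
    Nontrivial (((Scheme.Modules.pullback (a.fiberι (genericPoint ↥(Spec (CommRingCat.of R))))).obj
      F).presheaf.stalk ζ) → δη ζ ≤ r)

include hδη hδs hF hflat hdim in
open Classical in
/-- specialization of the cycle of a flat coherent module -/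
theorem spFun_sheafFun :
    (∀ x : ↥(a.fiber (IsLocalRing.closedPoint R)),
      Nontrivial (((Scheme.Modules.pullback (a.fiberι (IsLocalRing.closedPoint R))).obj
        F).presheaf.stalk x) → δs x ≤ r) ∧
    Cyc.spFun a (genericPoint ↥(Spec (CommRingCat.of R))) (IsLocalRing.closedPoint R) δη δs r
      (Cyc.sheafFun δη r ((Scheme.Modules.pullback
        (a.fiberι (genericPoint ↥(Spec (CommRingCat.of R))))).obj F)) =
      Cyc.sheafFun δs r ((Scheme.Modules.pullback (a.fiberι (IsLocalRing.closedPoint R))).obj F) := by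
  haveI : F.IsQuasicoherent := hF.1
  haveI : IsLocallyNoetherian X := (isSetup_δT a).1
  have hnt_of : ∀ x : ↥(a.fiber (IsLocalRing.closedPoint R)),
      Nontrivial (((Scheme.Modules.pullback (a.fiberι (IsLocalRing.closedPoint R))).obj
        F).presheaf.stalk x) → Nontrivial (F.presheaf.stalk (a.fiberι _ x)) := by
    intro x hnt
    by_contra hcon
    rw [not_nontrivial_iff_subsingleton] at hcon
    have := CycPBB.subsingleton_stalk_pullback (a.fiberι (IsLocalRing.closedPoint R)) F x hcon
    exact not_subsingleton _ this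
  refine ⟨fun x hnt => δs_le_of_nontrivial a δη δs hδη hδs r F hF hflat hdim x (hnt_of x hnt), ?_⟩
  funext x
  unfold Cyc.spFun
  simp only
  by_cases hx : δs x = r
  swap
  · rw [if_neg hx]
    unfold Cyc.sheafFun
    rw [if_neg hx]
  rw [if_pos hx]
  obtain ⟨b, hker, hmap, hreg⟩ := exists_uniformizer a x
  have hsurj := (Groth.Agent.Helper5.FibStalk.s9501 a _ x).1
  have hR : Cyc.sheafFun δs r ((Scheme.Modules.pullback
      (a.fiberι (IsLocalRing.closedPoint R))).obj F) x =
      ((Module.length (X.presheaf.stalk (a.fiberι _ x))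
        (QuotSMulTop b (F.presheaf.stalk (a.fiberι _ x)))).toNat : ℤ) := by
    unfold Cyc.sheafFun
    rw [if_pos hx, length_stalk_pullback_of_ker (a.fiberι _) F x hsurj b hker]
  rw [hR]
  have hdimT : ∀ ξ : X, ξ ⤳ a.fiberι _ x → Nontrivial (F.presheaf.stalk ξ) →
      δT a ξ ≤ r + 1 := by
    intro ξ _ hnt
    rcases mem_range_fiberι a ξ with ⟨ζ, rfl⟩ | ⟨x', rfl⟩
    · exact δT_le_generic a δη hδη r F hF hdim ζ hnt
    · rw [δT_closed a δs hδs x']
      have := δs_le_of_nontrivial a δη δs hδη hδs r F hF hflat hdim x' hnt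
      omega
  have hk : δT a (a.fiberι _ x) = r := by rw [δT_closed a δs hδs x, hx]
  rw [← core X (δT a) (isSetup_δT a).2.2 r F hF (a.fiberι _ x) hk hdimT b (hreg F hflat)]
  set T : X → ℤ := fun ξ => if h : ξ ⤳ a.fiberι _ x ∧ δT a ξ = r + 1 then
        ((Module.length (X.presheaf.stalk ξ) (F.presheaf.stalk ξ)).toNat : ℤ) *
          ((Module.length (X.presheaf.stalk (a.fiberι _ x)) (X.presheaf.stalk (a.fiberι _ x) ⧸
            (RingHom.ker (Cyc.specMap (a.fiberι _ x) ξ h.1) ⊔ Ideal.span {b}))).toNat : ℤ)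
        else 0 with hT
  let g : {ζ : ↥(a.fiber (genericPoint ↥(Spec (CommRingCat.of R)))) //
      δη ζ = r ∧ (a.fiberι _ ζ) ⤳ (a.fiberι _ x)} → X := fun ζ => a.fiberι _ ζ.1
  have hginj : Function.Injective g := by
    intro ζ1 ζ2 h
    exact Subtype.ext ((a.fiberι _).isEmbedding.injective h)
  have hTrange : ∀ ξ, T ξ ≠ 0 → ξ ∈ Set.range g := by
    intro ξ hne
    by_cases h : ξ ⤳ a.fiberι _ x ∧ δT a ξ = r + 1
    swap
    · exfalso
      apply hne
      rw [hT]
      simp only
      rw [dif_neg h]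
    have hnt : Nontrivial (F.presheaf.stalk ξ) := by
      by_contra hcon
      rw [not_nontrivial_iff_subsingleton] at hcon
      apply hne
      rw [hT]
      simp only
      rw [dif_pos h, Module.length_eq_zero_iff.mpr hcon]
      simp
    rcases mem_range_fiberι a ξ with ⟨ζ, hζ⟩ | ⟨x', hx'⟩
    · have h1 : δη ζ = r := by
        have := h.2
        rw [← hζ, δT_generic a δη hδη ζ] at this
        omega
      exact ⟨⟨ζ, h1, by rw [hζ]; exact h.1⟩, hζ⟩
    · exfalso
      have h1 := δs_le_of_nontrivial a δη δs hδη hδs r F hF hflat hdim x' (by rw [hx']; exact hnt)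
      have h2 := h.2
      rw [← hx', δT_closed a δs hδs x'] at h2
      omega
  change _ = ∑ᶠ ξ, T ξ
  rw [Groth.Agent.Helper3.Gysin.finsum_eq_finsum_comp g hginj T hTrange]
  apply finsum_congr
  rintro ⟨ζ, hζ1, hζ2⟩
  have hcond : a.fiberι _ ζ ⤳ a.fiberι _ x ∧ δT a (a.fiberι _ ζ) = r + 1 :=
    ⟨hζ2, by rw [δT_generic a δη hδη ζ, hζ1]; ring⟩
  show _ = T (a.fiberι _ ζ)
  rw [hT]
  simp only
  rw [dif_pos hcond]
  congr 1
  · unfold Cyc.sheafFun
    rw [if_pos hζ1, length_stalk_pullback_of_bijective (a.fiberι _) F ζ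
      (stalkMap_fiberι_generic_bijective a ζ)]
  · rw [length_mult a (a.fiberι _ x) (a.fiberι _ ζ) hζ2 b hmap]

end main

end Groth.Agent.Helper3.SpFun
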