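import Mathlib
import Groth.Prelude
import Groth.Agent.Helper3.SpFunC
import Groth.Agent.Lead.BCMap7
import Groth.Agent.Helper4.PullUnit
import Groth.Agent.Helper9.Chart17
import Groth.Agent.S9349
import Groth.Agent.S0019
import Groth.Agent.Lead.HomShH
import Groth.Agent.Lead.PushLen
import Groth.Agent.Lead.PullFF

set_option autoImplicit false
set_option linter.style.haveILetI false
set_option linter.unusedSectionVars false
set_option linter.unusedVariables false
set_option linter.deprecated false
set_option linter.style.haveILetI false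
set_option linter.unusedSectionVars false
set_option linter.unusedVariables false

universe u

open CategoryTheory CategoryTheory.Limits AlgebraicGeometry TopologicalSpace Opposite IsLocalRing
open scoped Pointwise

namespace Groth.Agent.Helper3.SpFun

open Groth.Agent.Helper3.DvrBase Groth.Agent.Helper3.ModLoc Groth.Agent.Helper5.StalkDict

/-- isomorphic modules have stalks of the same length -/
theorem length_stalk_of_iso {X : Scheme.{u}} {M N : X.Modules} (e : M ≅ N) (x : X) :
    Module.length (X.presheaf.stalk x) (M.presheaf.stalk x) =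
      Module.length (X.presheaf.stalk x) (N.presheaf.stalk x) := by
  have hb := Groth.Agent.Lead.PullFF.stalkLin_bijective_of_isIso e.hom x
  exact (LinearEquiv.ofBijective (Groth.Agent.Helper4.StalkDict.stalkLin e.hom x) hb).length_eq

theorem sheafFun_of_iso {X : Scheme.{u}} (δ : X → ℤ) (k : ℤ) {M N : X.Modules} (e : M ≅ N) :
    Cyc.sheafFun δ k M = Cyc.sheafFun δ k N := by
  funext x
  unfold Cyc.sheafFun
  rw [length_stalk_of_iso e x]

/-- base change of the pushed-forward structure sheaf of a closed subscheme -/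
theorem nonempty_iso_pullback_push_unit {X W Y : Scheme.{u}} (ι : W ⟶ X) [IsClosedImmersion ι]
    (g : Y ⟶ X) :
    Nonempty ((Scheme.Modules.pullback g).obj
      ((Scheme.Modules.pushforward ι).obj (Coh.structureModule W)) ≅
      (Scheme.Modules.pushforward (pullback.snd ι g)).obj
        (Coh.structureModule (pullback ι g))) := by
  haveI : (Coh.structureModule W).IsQuasicoherent := (Groth.Agent.Lead.HomShH.isCoh_unit W).1
  haveI := Groth.Agent.Lead.BCMap.isIso_bcMap_of_isAffineHom ι g (pullback.fst ι g)
    (pullback.snd ι g) (IsPullback.of_hasPullback ι g) (Coh.structureModule W)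
  exact ⟨asIso (Groth.Agent.Lead.BCMap.bcMap ι g (pullback.fst ι g) (pullback.snd ι g)
      (IsPullback.of_hasPullback ι g).w (Coh.structureModule W)) ≪≫
    (Scheme.Modules.pushforward (pullback.snd ι g)).mapIso
      (Groth.Agent.Helper4.PullUnit.pullbackUnitIso (pullback.fst ι g))⟩

theorem sheafFun_pullback_push_unit {X W Y : Scheme.{u}} (ι : W ⟶ X) [IsClosedImmersion ι]
    (g : Y ⟶ X) (δ : Y → ℤ) (k : ℤ) :
    Cyc.sheafFun δ k ((Scheme.Modules.pullback g).obj
      ((Scheme.Modules.pushforward ι).obj (Coh.structureModule W))) =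
    Cyc.subschemeFun δ k (pullback.snd ι g) := by
  obtain ⟨e⟩ := nonempty_iso_pullback_push_unit ι g
  rw [Groth.Agent.Lead.PushLen.subschemeFun_eq_sheafFun, sheafFun_of_iso δ k e]

/-- the stalk of `ι_* O_W` at a point of `W` is nontrivial -/
theorem nontrivial_stalk_push_unit {X W : Scheme.{u}} (ι : W ⟶ X) [IsClosedImmersion ι] (w : W) :
    Nontrivial (((Scheme.Modules.pushforward ι).obj (Coh.structureModule W)).presheaf.stalk
      (ι w)) := by
  have h1 := Groth.Agent.Lead.PushLen.length_eq_of_semilinear (X.presheaf.stalk (ι w))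
    (W.presheaf.stalk w)
    (ι.stalkMap w).hom (ι.stalkMap_surjective w)
    (((Scheme.Modules.pushforward ι).obj (Coh.structureModule W)).presheaf.stalk (ι w))
    ((Coh.structureModule W).presheaf.stalk w)
    (AddEquiv.ofBijective (Groth.Agent.Lead.PushStalk.psHom ι (Coh.structureModule W) w)
      (Groth.Agent.Lead.PushStalk.psHom_bijective ι (Coh.structureModule W)
        ι.isEmbedding.isInducing w))
    (fun r n => Groth.Agent.Lead.PushStalk.psHom_smul ι (Coh.structureModule W) w r n)
  rw [Groth.Agent.Lead.PushLen.length_stalk_structureModule] at h1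
  by_contra hcon
  rw [not_nontrivial_iff_subsingleton] at hcon
  rw [Module.length_eq_zero_iff.mpr hcon] at h1
  have := Module.length_eq_zero_iff.mp h1.symm
  exact not_subsingleton _ this

section main

variable {R : Type u} [CommRing R] [IsDomain R] [IsDiscreteValuationRing R] {X : Scheme.{u}}
  (a : X ⟶ Spec (CommRingCat.of R)) [LocallyOfFiniteType a]
  (δη : ↥(a.fiber (genericPoint ↥(Spec (CommRingCat.of R)))) → ℤ)
  (δs : ↥(a.fiber (IsLocalRing.closedPoint R)) → ℤ)
  (hδη : Cyc.DeltaCompat (a.fiberToSpecResidueField (genericPoint ↥(Spec (CommRingCat.of R))))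
    δη (fun _ => 0))
  (hδs : Cyc.DeltaCompat (a.fiberToSpecResidueField (IsLocalRing.closedPoint R)) δs (fun _ => 0))
  (r : ℤ) (W : Scheme.{u}) (ι : W ⟶ X) [IsClosedImmersion ι] [Flat (ι ≫ a)]
  (hdim : ∀ ζ : ↥(a.fiber (genericPoint ↥(Spec (CommRingCat.of R)))),
    a.fiberι (genericPoint ↥(Spec (CommRingCat.of R))) ζ ∈ Set.range ⇑ι → δη ζ ≤ r)

include hδη hδs hdim in
/-- specialization of the cycle of a flat closed subscheme -/
theorem spFun_subschemeFun :
    (∀ x : ↥(a.fiber (IsLocalRing.closedPoint R)),
      a.fiberι (IsLocalRing.closedPoint R) x ∈ Set.range ⇑ι → δs x ≤ r) ∧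
    Cyc.spFun a (genericPoint ↥(Spec (CommRingCat.of R))) (IsLocalRing.closedPoint R) δη δs r
      (Cyc.subschemeFun δη r (pullback.snd ι
        (a.fiberι (genericPoint ↥(Spec (CommRingCat.of R)))))) =
      Cyc.subschemeFun δs r (pullback.snd ι (a.fiberι (IsLocalRing.closedPoint R))) := by
  haveI : IsLocallyNoetherian X := (isSetup_δT a).1
  have hF : Coh.IsCoh ((Scheme.Modules.pushforward ι).obj (Coh.structureModule W)) :=
    Groth.Agent.S0019.result ι _ (Groth.Agent.Lead.HomShH.isCoh_unit W)
  have hflat : FlatMod.IsFlatOver a ((Scheme.Modules.pushforward ι).obj (Coh.structureModule W)) :=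
    (Groth.Agent.S9349.result ι a (Coh.structureModule W)
      (Groth.Agent.Lead.HomShH.isCoh_unit W).1).mp
      ((Groth.Agent.Helper9.Chart17.isFlatOver_unit_iff (ι ≫ a)).mpr inferInstance)
  haveI : ((Scheme.Modules.pushforward ι).obj (Coh.structureModule W)).IsQuasicoherent := hF.1
  have hdim' : ∀ ζ : ↥(a.fiber (genericPoint ↥(Spec (CommRingCat.of R)))),
      Nontrivial (((Scheme.Modules.pullback
        (a.fiberι (genericPoint ↥(Spec (CommRingCat.of R))))).obj
        ((Scheme.Modules.pushforward ι).obj (Coh.structureModule W))).presheaf.stalk ζ) →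
      δη ζ ≤ r := by
    intro ζ hnt
    apply hdim ζ
    by_contra hcon
    haveI := Groth.Agent.Lead.PushStalk.subsingleton_stalk_of_notMem_range ι
      (Coh.structureModule W) ι.isClosedEmbedding.isClosed_range _ hcon
    have := CycPBB.subsingleton_stalk_pullback
      (a.fiberι (genericPoint ↥(Spec (CommRingCat.of R))))
      ((Scheme.Modules.pushforward ι).obj (Coh.structureModule W)) ζ inferInstance
    exact not_subsingleton _ this
  obtain ⟨h1, h2⟩ := spFun_sheafFun a δη δs hδη hδs r
    ((Scheme.Modules.pushforward ι).obj (Coh.structureModule W)) hF hflat hdim'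
  refine ⟨?_, ?_⟩
  · rintro x ⟨w, hw⟩
    have hnt := nontrivial_stalk_push_unit ι w
    rw [hw] at hnt
    exact δs_le_of_nontrivial a δη δs hδη hδs r _ hF hflat hdim' x hnt
  · rw [← sheafFun_pullback_push_unit, ← sheafFun_pullback_push_unit]
    exact h2

end main

end Groth.Agent.Helper3.SpFun
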