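import Mathlib
import Groth.Prelude
import Groth.Agent.Helper3.P1ChartD
import Groth.Agent.Helper3.SpFunD
import Groth.Agent.Helper3.PushRatH
import Groth.Agent.Helper3.CycLimD
import Groth.Agent.Helper3.PullDivH

set_option autoImplicit false
set_option linter.style.haveILetI false
set_option linter.unusedSectionVars false
set_option linter.unusedVariables false
set_option linter.deprecated false
set_option linter.style.haveILetI false
set_option linter.unusedSectionVars false
set_option linter.unusedVariables false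

universe u

open CategoryTheory CategoryTheory.Limits AlgebraicGeometry IsLocalRing

namespace Groth.Agent.Helper3.P1Cyc

noncomputable section

open P1 Groth.Agent.Helper3.P1Chart

section general

variable {P : Scheme.{u}}

/-- regularity of an element of the local ring on a stalk, tested on associated points -/
theorem isSMulRegular_of_assoc [IsLocallyNoetherian P] (F : P.Modules) [F.IsQuasicoherent]
    (y : P) (b : P.presheaf.stalk y)
    (H : ∀ (ξ : P) (h : ξ ⤳ y),
      IsAssociatedPrime (maximalIdeal (P.presheaf.stalk ξ)) (F.presheaf.stalk ξ) →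
      Cyc.specMap y ξ h b ≠ 0) :
    IsSMulRegular (F.presheaf.stalk y) b := by
  by_contra hreg
  have hmem : b ∈ {r : P.presheaf.stalk y | IsSMulRegular (F.presheaf.stalk y) r}ᶜ := hreg
  rw [← biUnion_associatedPrimes_eq_compl_regular] at hmem
  obtain ⟨p, hp, hbp⟩ := Set.mem_iUnion₂.mp hmem
  haveI : p.IsPrime := hp.isPrime
  set Pp : ↥(Spec (P.presheaf.stalk y)) := ⟨p, inferInstance⟩ with hPp
  set ξ : P := P.fromSpecStalk y Pp with hξ
  have h : ξ ⤳ y := by
    have : ξ ∈ Set.range (P.fromSpecStalk y) := ⟨Pp, rfl⟩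
    rw [Scheme.range_fromSpecStalk] at this
    exact this
  have hker : RingHom.ker (Cyc.specMap y ξ h) = p := PullDivB.ker_specMap y Pp h
  letI a3 : Algebra (P.presheaf.stalk y) (P.presheaf.stalk ξ) :=
    (P.presheaf.stalkSpecializes h).hom.toAlgebra
  haveI hprime : (RingHom.ker (Cyc.specMap y ξ h)).IsPrime := RingHom.ker_isPrime _
  haveI l := PullDivH.isLocalization_stalkSpecializes y ξ h
  letI := ModLoc.spMod F h
  haveI lm := ModLoc.isLocalizedModule_spLin F h
  haveI : IsScalarTower (P.presheaf.stalk y) (P.presheaf.stalk ξ) (F.presheaf.stalk ξ) :=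
    IsScalarTower.of_algebraMap_smul (fun a n => rfl)
  have hcomap : (maximalIdeal (P.presheaf.stalk ξ)).comap
      (algebraMap (P.presheaf.stalk y) (P.presheaf.stalk ξ)) = RingHom.ker (Cyc.specMap y ξ h) := by
    ext a
    rw [Ideal.mem_comap, RingHom.mem_ker]
    exact (IsLocalRing.residue_eq_zero_iff _).symm
  have hass : maximalIdeal (P.presheaf.stalk ξ) ∈
      associatedPrimes (P.presheaf.stalk ξ) (F.presheaf.stalk ξ) := by
    refine Module.associatedPrimes.mem_associatedPrimes_of_comap_mem_associatedPrimes_of_isLocalizedModule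
      (RingHom.ker (Cyc.specMap y ξ h)).primeCompl (ModLoc.spLin F h) _ ?_
    rw [hcomap, hker]
    exact hp
  refine H ξ h hass ?_
  have : b ∈ RingHom.ker (Cyc.specMap y ξ h) := by rw [hker]; exact hbp
  exact this

/-- the order of (the image of) an element of the local ring along an immediate generisation -/
theorem ordAt_specMap (x ξ : P) [IsNoetherianRing (P.presheaf.stalk x)] (h : ξ ⤳ x)
    (hdim : ringKrullDim (Cyc.LocQuot x ξ h) ≤ 1) (c : P.presheaf.stalk x)
    (hc : Cyc.specMap x ξ h c ≠ 0) :
    Cyc.ordAt x ξ h (Cyc.specMap x ξ h c) =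
      ((Module.length (P.presheaf.stalk x) (P.presheaf.stalk x ⧸
        (RingHom.ker (Cyc.specMap x ξ h) ⊔ Ideal.span {c}))).toNat : ℤ) := by
  have h1 := PullDivH.ordAt_div' x ξ h hdim c 1 hc (by rw [map_one]; exact one_ne_zero)
  rw [map_one, div_one] at h1
  rw [h1]
  have h2 : Module.length (P.presheaf.stalk x) (P.presheaf.stalk x ⧸
      (RingHom.ker (Cyc.specMap x ξ h) ⊔ Ideal.span {(1 : P.presheaf.stalk x)})) = 0 := by
    rw [Module.length_eq_zero_iff, Ideal.span_singleton_one, sup_top_eq]
    exact Ideal.Quotient.subsingleton_iff.mpr rfl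
  rw [h2]
  simp

end general

section sect

variable (X : Scheme.{u})

theorem residueDegree_π_sect (i : Fin (1 + 1)) (x : X) :
    (π X).residueDegree (sect X i x) = 1 := by
  have h1 := CycPush.residueDegree_comp (sect X i) (π X) x
  rw [sect_π, Scheme.Hom.residueDegree_id,
    GenFib.residueDegree_eq_one_of_surjective (sect X i) x (stalkMap_sect_surjective X i x),
    mul_one] at h1
  exact h1.symm

variable {X} (δ : X → ℤ) (δP : ↥(CohB1.ProjSpaceOver 1 X) → ℤ)
  (hP : Cyc.DeltaCompat (CohB1.ProjSpaceOver.toBase 1 X) δP δ)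

include hP in
theorem delta_sect (i : Fin (1 + 1)) (x : X) : δP (sect X i x) = δ x := by
  obtain ⟨n, hn, hd⟩ := hP (sect X i x)
  have hx : (CohB1.ProjSpaceOver.toBase 1 X) (sect X i x) = x := π_sect_apply X i x
  letI := ((CohB1.ProjSpaceOver.toBase 1 X).residueFieldMap (sect X i x)).hom.toAlgebra
  have hdeg : Module.finrank (X.residueField ((CohB1.ProjSpaceOver.toBase 1 X) (sect X i x)))
      ((CohB1.ProjSpaceOver 1 X).residueField (sect X i x)) = 1 := residueDegree_π_sect X i x
  haveI : Module.Finite (X.residueField ((CohB1.ProjSpaceOver.toBase 1 X) (sect X i x)))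
      ((CohB1.ProjSpaceOver 1 X).residueField (sect X i x)) :=
    Module.finite_of_finrank_pos (by rw [hdeg]; exact one_pos)
  have h0 : Algebra.trdeg (X.residueField ((CohB1.ProjSpaceOver.toBase 1 X) (sect X i x)))
      ((CohB1.ProjSpaceOver 1 X).residueField (sect X i x)) = 0 := trdeg_eq_zero
  have hn0 : n = 0 := by
    have : (n : Cardinal.{u}) = 0 := hn.symm.trans h0
    exact_mod_cast this
  rw [hd, hn0, hx]
  simp

include hP in
theorem mapCoeff_sect (i : Fin (1 + 1)) (x : X) :
    AlgebraicCycle.mapCoeff (CohB1.ProjSpaceOver.toBase 1 X) δP δ (sect X i x) = 1 := by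
  unfold AlgebraicCycle.mapCoeff
  have hx : (CohB1.ProjSpaceOver.toBase 1 X) (sect X i x) = x := π_sect_apply X i x
  rw [if_pos]
  · exact residueDegree_π_sect X i x
  · rw [delta_sect δ δP hP i x]
    exact congrArg δ hx.symm

end sect

end

end Groth.Agent.Helper3.P1Cyc
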