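import Mathlib
import Groth.Prelude
import Groth.Agent.Helper3.P1CycA
import Groth.Agent.Helper3.ModLocD

set_option autoImplicit false
set_option linter.style.haveILetI false
set_option linter.unusedSectionVars false
set_option linter.unusedVariables false
set_option linter.deprecated false
set_option linter.style.haveILetI false
set_option linter.unusedSectionVars false
set_option linter.unusedVariables false

universe u

open CategoryTheory CategoryTheory.Limits AlgebraicGeometry IsLocalRing

namespace Groth.Agent.Helper3.P1Cyc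

noncomputable section

open P1 Groth.Agent.Helper3.P1Chart Groth.Agent.Helper5.StalkDict

section general2

variable {P : Scheme.{u}} [IsLocallyNoetherian P] (F : P.Modules) (hF : Coh.IsCoh F)

include hF in
/-- at a generic point of the support, the maximal ideal is an associated prime of the stalk -/
theorem maximalIdeal_mem_ass (ξ : P) (hnt : Nontrivial (F.presheaf.stalk ξ))
    (hgen : ∀ ξ' : P, ξ' ⤳ ξ → Nontrivial (F.presheaf.stalk ξ') → ξ' = ξ) :
    IsAssociatedPrime (maximalIdeal (P.presheaf.stalk ξ)) (F.presheaf.stalk ξ) := by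
  haveI : F.IsQuasicoherent := hF.1
  haveI := ModLoc.finite_stalk F hF ξ
  obtain ⟨p, hp⟩ := associatedPrimes.nonempty (P.presheaf.stalk ξ) (F.presheaf.stalk ξ)
  haveI : p.IsPrime := hp.isPrime
  set Pp : ↥(Spec (P.presheaf.stalk ξ)) := ⟨p, inferInstance⟩ with hPp
  have h : P.fromSpecStalk ξ Pp ⤳ ξ := fromSpecStalk_specializes ξ Pp
  have hker : RingHom.ker (Cyc.specMap ξ (P.fromSpecStalk ξ Pp) h) = p :=
    PullDivB.ker_specMap ξ Pp h
  have hnt' : Nontrivial (F.presheaf.stalk (P.fromSpecStalk ξ Pp)) := by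
    rw [ModLoc.nontrivial_stalk_iff F h, hker]
    have := hp.annihilator_le
    rwa [Submodule.annihilator_top] at this
  have heq := hgen _ h hnt'
  have hcl : Pp = IsLocalRing.closedPoint (P.presheaf.stalk ξ) := by
    apply (P.fromSpecStalk ξ).isEmbedding.injective
    rw [heq, Scheme.fromSpecStalk_closedPoint]
  have hpm : p = maximalIdeal (P.presheaf.stalk ξ) := congrArg PrimeSpectrum.asIdeal hcl
  rw [← hpm]
  exact hp

variable (δ : P → ℤ) (hδ : Cyc.IsDimFun P δ) (k : ℤ)

include hF hδ in
/-- finitely many generic points of the support of dimension `k + 1` pass through a point -/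
theorem finite_gen (y : P)
    (hdim : ∀ ξ : P, ξ ⤳ y → Nontrivial (F.presheaf.stalk ξ) → δ ξ ≤ k + 1) :
    {ξ : P | ξ ⤳ y ∧ δ ξ = k + 1 ∧ Nontrivial (F.presheaf.stalk ξ)}.Finite := by
  haveI : F.IsQuasicoherent := hF.1
  haveI := ModLoc.finite_stalk F hF y
  set I : Ideal (P.presheaf.stalk y) :=
    Module.annihilator (P.presheaf.stalk y) (F.presheaf.stalk y) with hI
  have hfin : I.minimalPrimes.Finite := Ideal.finite_minimalPrimes_of_isNoetherianRing _ I
  let g : {p : Ideal (P.presheaf.stalk y) // p ∈ I.minimalPrimes} → P := fun p =>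
    P.fromSpecStalk y ⟨p.1, p.2.1.1⟩
  haveI : Finite {p : Ideal (P.presheaf.stalk y) // p ∈ I.minimalPrimes} := hfin.to_subtype
  refine (Set.finite_range g).subset ?_
  rintro ξ ⟨hsp, hd, hnt⟩
  obtain ⟨Pp, rfl⟩ := exists_prime_of_specializes y ξ hsp
  have hS : ∀ Q : ↥(Spec (P.presheaf.stalk y)),
      Nontrivial (F.presheaf.stalk (P.fromSpecStalk y Q)) ↔ I ≤ Q.asIdeal := by
    intro Q
    have hξx := fromSpecStalk_specializes y Q
    rw [ModLoc.nontrivial_stalk_iff F hξx, PullDivB.ker_specMap y Q hξx]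
  have hIP : I ≤ Pp.asIdeal := (hS Pp).mp hnt
  have hmin : Pp.asIdeal ∈ I.minimalPrimes := by
    refine ⟨⟨Pp.isPrime, hIP⟩, ?_⟩
    rintro Q ⟨hQ, hIQ⟩ hle
    let Q' : ↥(Spec (P.presheaf.stalk y)) := ⟨Q, hQ⟩
    have hspQ : P.fromSpecStalk y Q' ⤳ P.fromSpecStalk y Pp :=
      (fromSpecStalk_specializes_iff y Q' Pp).mpr hle
    have hntQ : Nontrivial (F.presheaf.stalk (P.fromSpecStalk y Q')) := (hS Q').mpr hIQ
    have hdQ := hdim _ (fromSpecStalk_specializes y Q') hntQ
    by_contra hnle
    have hne : P.fromSpecStalk y Q' ≠ P.fromSpecStalk y Pp := by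
      intro h
      have : Q' = Pp := (P.fromSpecStalk y).isEmbedding.injective h
      apply hnle
      rw [← this]
    have := (hδ _ _ hspQ hne).1
    omega
  exact ⟨⟨Pp.asIdeal, hmin⟩, rfl⟩

end general2

end

end Groth.Agent.Helper3.P1Cyc
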