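import Mathlib
import Groth.Prelude
import Groth.Agent.Helper3.P1CycB
import Groth.Agent.Helper3.DvrB
import Groth.Agent.Helper5.CycDim3

set_option autoImplicit false
set_option linter.style.haveILetI false
set_option linter.unusedSectionVars false
set_option linter.unusedVariables false
set_option linter.deprecated false
set_option linter.style.haveILetI false
set_option linter.unusedSectionVars false
set_option linter.unusedVariables false

universe u

open CategoryTheory CategoryTheory.Limits AlgebraicGeometry IsLocalRing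

namespace Groth.Agent.Helper3.P1Cyc

noncomputable section

open P1 Groth.Agent.Helper3.P1Chart Groth.Agent.Helper5.StalkDict

variable (X : Scheme.{u})

open Classical in
/-- the value of the coordinate `T_j / T_i` at a point (zero outside the chart `U i`) -/
def tb (i j : Fin (1 + 1)) (ξ : PX X) : (PX X).residueField ξ :=
  if hξ : ξ ∈ U X i then
    ((PX X).residue ξ).hom (((PX X).presheaf.germ (U X i) ξ hξ).hom (t X i j))
  else 0

theorem tb_mul (i j : Fin (1 + 1)) (ξ : PX X) (hi : ξ ∈ U X i) (hj : ξ ∈ U X j) :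
    tb X i j ξ * tb X j i ξ = 1 := by
  unfold tb
  rw [dif_pos hi, dif_pos hj, ← map_mul, germ_t_mul X i j ξ hi hj, map_one]

theorem tb_ne_zero (i j : Fin (1 + 1)) (ξ : PX X) (hi : ξ ∈ U X i) (hj : ξ ∈ U X j) :
    tb X i j ξ ≠ 0 := by
  intro h
  have := tb_mul X i j ξ hi hj
  rw [h, zero_mul] at this
  exact zero_ne_one this

theorem tb_inv (i j : Fin (1 + 1)) (ξ : PX X) (hi : ξ ∈ U X i) (hj : ξ ∈ U X j) :
    tb X j i ξ = (tb X i j ξ)⁻¹ :=
  eq_inv_of_mul_eq_one_right (tb_mul X i j ξ hi hj)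

theorem specMap_germ_t (i j : Fin (1 + 1)) (y ξ : PX X) (h : ξ ⤳ y) (hy : y ∈ U X i) :
    Cyc.specMap y ξ h (((PX X).presheaf.germ (U X i) y hy).hom (t X i j)) = tb X i j ξ := by
  have hξ : ξ ∈ U X i := h.mem_open (U X i).2 hy
  unfold tb
  rw [dif_pos hξ]
  unfold Cyc.specMap
  rw [CommRingCat.hom_comp, RingHom.comp_apply]
  congr 1
  exact TopCat.Presheaf.germ_stalkSpecializes_apply _ _ _ _

/-- at a point of both charts the coordinate is (the image of) a unit -/
theorem isUnit_germ_t (i j : Fin (1 + 1)) (y : PX X) (hi : y ∈ U X i) (hj : y ∈ U X j) :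
    IsUnit (((PX X).presheaf.germ (U X i) y hi).hom (t X i j)) :=
  IsUnit.of_mul_eq_one _ (germ_t_mul X i j y hi hj)

variable {X}
variable (δ : X → ℤ) (hX : Cyc.IsSetup X δ) (δP : ↥(CohB1.ProjSpaceOver 1 X) → ℤ)
  (hP : Cyc.DeltaCompat (CohB1.ProjSpaceOver.toBase 1 X) δP δ)

include hX hP in
theorem isSetup_PX : Cyc.IsSetup (CohB1.ProjSpaceOver 1 X) δP := by
  haveI : IsLocallyNoetherian X := hX.1
  haveI : IsProper (CohB1.ProjSpaceOver.toBase 1 X) :=
    Groth.Agent.Helper6.HProj.isProper_toBase 1 X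
  refine ⟨LocallyOfFiniteType.isLocallyNoetherian (CohB1.ProjSpaceOver.toBase 1 X), fun x => ?_,
    CycPBE.isDimFun_of_deltaCompat (CohB1.ProjSpaceOver.toBase 1 X) δ δP hX hP⟩
  letI := ((CohB1.ProjSpaceOver.toBase 1 X).stalkMap x).hom.toAlgebra
  haveI : Algebra.EssFiniteType (X.presheaf.stalk ((CohB1.ProjSpaceOver.toBase 1 X) x))
      ((CohB1.ProjSpaceOver 1 X).presheaf.stalk x) := by
    rw [← RingHom.essFiniteType_algebraMap, RingHom.algebraMap_toAlgebra]
    exact LocallyOfFiniteType.stalkMap (CohB1.ProjSpaceOver.toBase 1 X) x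
  exact Groth.Agent.S9126.result _ _ (hX.2.1 ((CohB1.ProjSpaceOver.toBase 1 X) x))

variable (k : ℤ) (F : (CohB1.ProjSpaceOver 1 X).Modules) (hF : Coh.IsCoh F)

include hX hP hF in
open Classical in
/-- **the cycle of the restriction of a coherent module to a section, in terms of the orders of
the coordinate along the components of the support** -/
theorem length_pullback_sect (i j : Fin (1 + 1)) (hij : i ≠ j) (x : X) (hk : δ x = k)
    (hsupp : ∀ p : ↥(CohB1.ProjSpaceOver 1 X), Nontrivial (F.presheaf.stalk p) → δP p ≤ k + 1)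
    (hreg : IsSMulRegular (F.presheaf.stalk (sect X i x))
      (((PX X).presheaf.germ (U X i) (sect X i x) (sect_mem_U X i x)).hom (t X i j)))
    (hne : ∀ ξ : ↥(CohB1.ProjSpaceOver 1 X), ξ ⤳ sect X i x → δP ξ = k + 1 →
      Nontrivial (F.presheaf.stalk ξ) → ξ ∈ U X j) :
    ((Module.length (X.presheaf.stalk x)
      (((Scheme.Modules.pullback (sect X i)).obj F).presheaf.stalk x)).toNat : ℤ) =
    ∑ᶠ ξ : ↥(CohB1.ProjSpaceOver 1 X), (if h : ξ ⤳ sect X i x ∧ δP ξ = k + 1 then
      ((Module.length ((CohB1.ProjSpaceOver 1 X).presheaf.stalk ξ) (F.presheaf.stalk ξ)).toNat : ℤ) *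
        Cyc.ordAt (sect X i x) ξ h.1 (tb X i j ξ) else 0) := by
  haveI : F.IsQuasicoherent := hF.1
  have hS := isSetup_PX δ hX δP hP
  haveI : IsLocallyNoetherian (CohB1.ProjSpaceOver 1 X) := hS.1
  set y := sect X i x with hy
  have hyk : δP y = k := by rw [hy, delta_sect δ δP hP i x, hk]
  set b := ((PX X).presheaf.germ (U X i) y (sect_mem_U X i x)).hom (t X i j) with hb
  rw [SpFun.length_stalk_pullback_of_ker (sect X i) F x (stalkMap_sect_surjective X i x) b
    (ker_stalkMap_sect X i j hij x)]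
  rw [← ModLoc.core (CohB1.ProjSpaceOver 1 X) δP hS.2.2 k F hF y hyk
    (fun ξ _ hnt => hsupp ξ hnt) b hreg]
  apply finsum_congr
  intro ξ
  by_cases h : ξ ⤳ y ∧ δP ξ = k + 1
  · rw [dif_pos h, dif_pos h]
    by_cases hnt : Nontrivial (F.presheaf.stalk ξ)
    · congr 1
      have hξj : ξ ∈ U X j := hne ξ h.1 h.2 hnt
      have hξi : ξ ∈ U X i := h.1.mem_open (U X i).2 (sect_mem_U X i x)
      have hsm : Cyc.specMap y ξ h.1 b = tb X i j ξ := specMap_germ_t X i j y ξ h.1 _
      have hdimL : ringKrullDim (Cyc.LocQuot y ξ h.1) ≤ 1 := by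
        rw [Groth.Agent.Helper5.CycDim.ringKrullDim_locQuot δP hS.2.2 y ξ h.1]
        have : (δP ξ - δP y).toNat = 1 := by rw [h.2, hyk]; simp
        rw [this]
        exact le_rfl
      haveI : IsNoetherianRing ((CohB1.ProjSpaceOver 1 X).presheaf.stalk y) := inferInstance
      have := ordAt_specMap y ξ h.1 hdimL b (by rw [hsm]; exact tb_ne_zero X i j ξ hξi hξj)
      rw [hsm] at this
      exact this.symm
    · rw [not_nontrivial_iff_subsingleton] at hnt
      have : Module.length ((CohB1.ProjSpaceOver 1 X).presheaf.stalk ξ) (F.presheaf.stalk ξ) = 0 :=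
        Module.length_eq_zero_iff.mpr hnt
      rw [this]
      simp
  · rw [dif_neg h, dif_neg h]

end

end Groth.Agent.Helper3.P1Cyc
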