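import Mathlib
import Groth.Prelude
import Groth.Agent.S0020
import Groth.Agent.S1693

set_option autoImplicit false
set_option linter.style.haveILetI false
set_option linter.unusedSectionVars false
set_option linter.unusedVariables false
set_option linter.deprecated false
set_option linter.style.haveILetI false
set_option linter.unusedSectionVars false
set_option linter.unusedVariables false

universe u

open CategoryTheory CategoryTheory.Limits AlgebraicGeometry IsLocalRing

namespace Groth.Agent.Helper3.P1Cyc

noncomputable section

variable {P : Scheme.{u}} [IsLocallyNoetherian P] (F : P.Modules) (hF : Coh.IsCoh F)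
  (δ : P → ℤ) (hδ : Cyc.IsDimFun P δ) (k : ℤ)

include hF hδ in
/-- only finitely many top-dimensional generic points of the support of a coherent module have
closure meeting a given compact set -/
theorem finite_gen_of_isCompact
    (hsupp : ∀ p : P, Nontrivial (F.presheaf.stalk p) → δ p ≤ k + 1)
    (K : Set P) (hK : IsCompact K) :
    {ξ : P | δ ξ = k + 1 ∧ Nontrivial (F.presheaf.stalk ξ) ∧ (closure {ξ} ∩ K).Nonempty}.Finite := by
  set T : Set P := {x : P | Nontrivial (F.presheaf.stalk x)} with hT
  have hcl : IsClosed T := by
    have h := Groth.Agent.S0020.result P F hF.2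
    have h2 : CohB1.support F = T := by
      ext x
      simp only [CohB1.support, hT, Set.mem_setOf_eq, not_subsingleton_iff_nontrivial]
    rwa [h2] at h
  have LF := Groth.Agent.S1693.result P T hcl
  have fin := LF.finite_nonempty_inter_compact hK
  -- the component attached to a point
  let Zf : P → Set ↥T := fun ξ => Subtype.val ⁻¹' closure {ξ}
  have himage : ∀ ξ : P, ξ ∈ T → (Subtype.val '' Zf ξ : Set P) = closure {ξ} := by
    intro ξ hξ
    rw [Subtype.image_preimage_coe, Set.inter_eq_right]
    exact hcl.closure_subset_iff.mpr (Set.singleton_subset_iff.mpr hξ)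
  have hcomp : ∀ ξ : P, δ ξ = k + 1 → ξ ∈ T → Zf ξ ∈ irreducibleComponents ↥T := by
    intro ξ hd hξ
    have hZeq : Zf ξ = closure {(⟨ξ, hξ⟩ : ↥T)} := by
      rw [Topology.IsInducing.subtypeVal.closure_eq_preimage_closure_image]
      simp [Zf]
    refine ⟨?_, ?_⟩
    · rw [hZeq]
      exact isIrreducible_singleton.closure
    · intro C hC hle
      have hC' : IsIrreducible (closure (Subtype.val '' C : Set P)) :=
        (hC.image _ continuous_subtype_val.continuousOn).closure
      have hgen := hC'.isGenericPoint_genericPoint_closure
      set η := hC'.genericPoint with hη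
      rw [closure_closure] at hgen
      have hsubT : closure (Subtype.val '' C : Set P) ⊆ T := by
        refine hcl.closure_subset_iff.mpr ?_
        rintro _ ⟨z, -, rfl⟩
        exact z.2
      have hηmem : η ∈ closure (Subtype.val '' C : Set P) := by
        rw [← hgen.def]; exact subset_closure rfl
      have hηT : η ∈ T := hsubT hηmem
      have hξC : ξ ∈ closure (Subtype.val '' C : Set P) := by
        apply subset_closure
        refine ⟨⟨ξ, hξ⟩, hle ?_, rfl⟩
        show ξ ∈ closure {ξ}
        exact subset_closure rfl
      have hsp : η ⤳ ξ := by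
        rw [specializes_iff_mem_closure, hgen.def]; exact hξC
      have heq : η = ξ := by
        by_contra hne
        have h1 := (hδ η ξ hsp hne).1
        have h2 := hsupp η hηT
        omega
      intro z hz
      show z.1 ∈ closure {ξ}
      rw [← heq, hgen.def]
      exact subset_closure ⟨z, hz, rfl⟩
  refine Set.Finite.of_finite_image (f := Zf) ?_ ?_
  · refine (fin.image Subtype.val).subset ?_
    rintro _ ⟨ξ, ⟨hd, hnt, hne⟩, rfl⟩
    refine ⟨⟨Zf ξ, hcomp ξ hd hnt⟩, ?_, rfl⟩
    show ((Subtype.val '' Zf ξ : Set P) ∩ K).Nonempty
    rw [himage ξ hnt]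
    exact hne
  · rintro ξ ⟨hd, hnt, -⟩ ξ' ⟨hd', hnt', -⟩ heq
    have h1 : closure ({ξ} : Set P) = closure {ξ'} := by
      rw [← himage ξ hnt, ← himage ξ' hnt']
      exact congrArg _ heq
    have hs1 : ξ ⤳ ξ' := by
      rw [specializes_iff_mem_closure, h1]; exact subset_closure rfl
    have hs2 : ξ' ⤳ ξ := by
      rw [specializes_iff_mem_closure, ← h1]; exact subset_closure rfl
    exact (hs1.antisymm hs2).eq

end

end Groth.Agent.Helper3.P1Cyc
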