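import Mathlib
import Groth.Prelude
import Groth.Agent.Helper3.P1CycC
import Groth.Agent.Helper3.P1CycD
import Groth.Agent.Helper3.PullDivL

set_option autoImplicit false
set_option linter.style.haveILetI false
set_option linter.unusedSectionVars false
set_option linter.unusedVariables false
set_option linter.deprecated false
set_option linter.style.haveILetI false
set_option linter.unusedSectionVars false
set_option linter.unusedVariables false

universe u

open CategoryTheory CategoryTheory.Limits AlgebraicGeometry IsLocalRing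

namespace Groth.Agent.Helper3.P1Cyc

noncomputable section

open P1 Groth.Agent.Helper3.P1Chart Groth.Agent.Helper5.StalkDict

variable {X : Scheme.{u}} (δ : X → ℤ) (hX : Cyc.IsSetup X δ)
  (δP : ↥(CohB1.ProjSpaceOver 1 X) → ℤ)
  (hP : Cyc.DeltaCompat (CohB1.ProjSpaceOver.toBase 1 X) δP δ)

theorem fin2_cases (i : Fin (1 + 1)) : i = 0 ∨ i = 1 := by
  fin_cases i
  · left; rfl
  · right; rfl

theorem sect_ne (x x' : X) : sect X 0 x ≠ sect X 1 x' := by
  intro h
  have h1 : sect X 1 x' ∈ U X 1 := sect_mem_U X 1 x'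
  have h2 : sect X 0 x ∈ Set.range (sect X 0) := ⟨x, rfl⟩
  rw [range_sect X 0 1 (by decide)] at h2
  rw [h] at h2
  exact h2 h1

include hP in
open Classical in
/-- the pushforward of the divisor of the coordinate on a subvariety through neither section only
sees the two sections -/
theorem push_div_two (ξ : ↥(CohB1.ProjSpaceOver 1 X)) (h0 : ξ ∈ U X 0) (h1 : ξ ∈ U X 1) (x : X) :
    ∑ᶠ y ∈ ((CohB1.ProjSpaceOver.toBase 1 X : ↥(CohB1.ProjSpaceOver 1 X) → X)) ⁻¹' {x},
        Cyc.divFun δP ξ (tb X 0 1 ξ) y *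
          ((AlgebraicCycle.mapCoeff (CohB1.ProjSpaceOver.toBase 1 X) δP δ y : ℕ) : ℤ) =
      Cyc.divFun δP ξ (tb X 0 1 ξ) (sect X 0 x) + Cyc.divFun δP ξ (tb X 0 1 ξ) (sect X 1 x) := by
  set g : ↥(CohB1.ProjSpaceOver 1 X) → ℤ := fun y => Cyc.divFun δP ξ (tb X 0 1 ξ) y *
    ((AlgebraicCycle.mapCoeff (CohB1.ProjSpaceOver.toBase 1 X) δP δ y : ℕ) : ℤ) with hg
  have hvan : ∀ y : ↥(CohB1.ProjSpaceOver 1 X), y ∈ U X 0 → y ∈ U X 1 → g y = 0 := by
    intro y hy0 hy1
    have : Cyc.divFun δP ξ (tb X 0 1 ξ) y = 0 := by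
      unfold Cyc.divFun
      split_ifs with h
      · rw [← specMap_germ_t X 0 1 y ξ h.1 hy0]
        exact CycLimD.ordAt_unit y ξ h.1 _ (isUnit_germ_t X 0 1 y hy0 hy1)
      · rfl
    rw [hg]
    simp only
    rw [this, zero_mul]
  have hsupp : ((CohB1.ProjSpaceOver.toBase 1 X : ↥(CohB1.ProjSpaceOver 1 X) → X)) ⁻¹' {x} ∩
      Function.support g =
      (↑({sect X 0 x, sect X 1 x} : Finset ↥(CohB1.ProjSpaceOver 1 X)) : Set _) ∩
        Function.support g := by
    ext y
    simp only [Set.mem_inter_iff, Set.mem_preimage, Set.mem_singleton_iff, Function.mem_support,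
      Finset.coe_insert, Finset.coe_singleton, Set.mem_insert_iff]
    constructor
    · rintro ⟨hy, hne⟩
      refine ⟨?_, hne⟩
      by_contra hcon
      rw [not_or] at hcon
      apply hne
      apply hvan y
      · by_contra hn
        have : y ∈ Set.range (sect X 1) := by rw [range_sect X 1 0 (by decide)]; exact hn
        obtain ⟨x', rfl⟩ := this
        have : x' = x := by rw [← hy]; exact (π_sect_apply X 1 x').symm
        exact hcon.2 (by rw [this])
      · by_contra hn
        have : y ∈ Set.range (sect X 0) := by rw [range_sect X 0 1 (by decide)]; exact hn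
        obtain ⟨x', rfl⟩ := this
        have : x' = x := by rw [← hy]; exact (π_sect_apply X 0 x').symm
        exact hcon.1 (by rw [this])
    · rintro ⟨hy, hne⟩
      refine ⟨?_, hne⟩
      rcases hy with rfl | rfl
      · exact π_sect_apply X 0 x
      · exact π_sect_apply X 1 x
  rw [finsum_mem_eq_sum_of_inter_support_eq g hsupp, Finset.sum_pair (sect_ne x x)]
  rw [hg]
  simp only
  rw [mapCoeff_sect δ δP hP 0 x, mapCoeff_sect δ δP hP 1 x]
  simp

end

end Groth.Agent.Helper3.P1Cyc
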