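import Mathlib
import Groth.Prelude
import Groth.Agent.Helper3.P1CycE

set_option autoImplicit false
set_option linter.style.haveILetI false
set_option linter.unusedSectionVars false
set_option linter.unusedVariables false
set_option linter.deprecated false
set_option linter.style.haveILetI false
set_option linter.unusedSectionVars false
set_option linter.unusedVariables false

universe u

open CategoryTheory CategoryTheory.Limits AlgebraicGeometry IsLocalRing

namespace Groth.Agent.Helper3.P1Cyc

noncomputable section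

open P1 Groth.Agent.Helper3.P1Chart Groth.Agent.Helper5.StalkDict

variable {X : Scheme.{u}} (δ : X → ℤ) (hX : Cyc.IsSetup X δ)
  (δP : ↥(CohB1.ProjSpaceOver 1 X) → ℤ)
  (hP : Cyc.DeltaCompat (CohB1.ProjSpaceOver.toBase 1 X) δP δ)
  (k : ℤ) (F : (CohB1.ProjSpaceOver 1 X).Modules) (hF : Coh.IsCoh F)
  (hsupp : ∀ p : ↥(CohB1.ProjSpaceOver 1 X), Nontrivial (F.presheaf.stalk p) → δP p ≤ k + 1)
  (hemb : ∀ p : ↥(CohB1.ProjSpaceOver 1 X),
    IsAssociatedPrime (IsLocalRing.maximalIdeal ((CohB1.ProjSpaceOver 1 X).presheaf.stalk p))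
      (F.presheaf.stalk p) →
    p ∉ Set.range ⇑(P1.sect X 0) ∪ Set.range ⇑(P1.sect X 1) ∨ δP p < k)

include hX hP hF hsupp hemb in
/-- top-dimensional generic points of the support lie on neither section -/
theorem mem_U_of_gen (ξ : ↥(CohB1.ProjSpaceOver 1 X)) (hd : δP ξ = k + 1)
    (hnt : Nontrivial (F.presheaf.stalk ξ)) : ξ ∈ U X 0 ∧ ξ ∈ U X 1 := by
  have hS := isSetup_PX δ hX δP hP
  haveI : IsLocallyNoetherian (CohB1.ProjSpaceOver 1 X) := hS.1
  have hass := maximalIdeal_mem_ass F hF ξ hnt (fun ξ' hsp hnt' => by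
    by_contra hne
    have h1 := (hS.2.2 ξ' ξ hsp hne).1
    have h2 := hsupp ξ' hnt'
    omega)
  rcases hemb ξ hass with h | h
  · rw [Set.mem_union, not_or] at h
    constructor
    · by_contra hn
      exact h.2 (by rw [range_sect X 1 0 (by decide)]; exact hn)
    · by_contra hn
      exact h.1 (by rw [range_sect X 0 1 (by decide)]; exact hn)
  · omega

include hX hP hF hemb in
/-- the coordinate is a nonzerodivisor on the stalk at a point of a section of dimension `k` -/
theorem isSMulRegular_germ_t (i j : Fin (1 + 1)) (hij : i ≠ j) (x : X) (hk : δ x = k) :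
    IsSMulRegular (F.presheaf.stalk (sect X i x))
      (((PX X).presheaf.germ (U X i) (sect X i x) (sect_mem_U X i x)).hom (t X i j)) := by
  have hS := isSetup_PX δ hX δP hP
  haveI : IsLocallyNoetherian (CohB1.ProjSpaceOver 1 X) := hS.1
  haveI : F.IsQuasicoherent := hF.1
  apply isSMulRegular_of_assoc F (sect X i x) _
  intro ξ h hass
  rw [specMap_germ_t X i j _ ξ h (sect_mem_U X i x)]
  rcases hemb ξ hass with h' | h'
  · have hξi : ξ ∈ U X i := h.mem_open (U X i).2 (sect_mem_U X i x)
    have hξj : ξ ∈ U X j := by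
      rw [Set.mem_union, not_or] at h'
      have hnr : ξ ∉ Set.range (sect X i) := by
        rcases fin2_cases i with rfl | rfl
        · exact h'.1
        · exact h'.2
      by_contra hn
      exact hnr (by rw [range_sect X i j hij]; exact hn)
    exact tb_ne_zero X i j ξ hξi hξj
  · exfalso
    have hyk : δP (sect X i x) = k := by rw [delta_sect δ δP hP, hk]
    by_cases hne : ξ = sect X i x
    · rw [hne, hyk] at h'; omega
    · have := (hS.2.2 ξ _ h hne).1; omega

/-- the multiplicity of a coherent module at a point -/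
def mult (ξ : ↥(CohB1.ProjSpaceOver 1 X)) : ℕ :=
  (Module.length ((CohB1.ProjSpaceOver 1 X).presheaf.stalk ξ) (F.presheaf.stalk ξ)).toNat

open Classical in
/-- the local contribution at a section -/
def Aterm (i j : Fin (1 + 1)) (x : X) (ξ : ↥(CohB1.ProjSpaceOver 1 X)) : ℤ :=
  if h : ξ ⤳ sect X i x ∧ δP ξ = k + 1 then
    ((Module.length ((CohB1.ProjSpaceOver 1 X).presheaf.stalk ξ) (F.presheaf.stalk ξ)).toNat : ℤ) *
      Cyc.ordAt (sect X i x) ξ h.1 (tb X i j ξ) else 0

include hX hP hF hsupp hemb in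
theorem sheafFun_eq_finsum (i j : Fin (1 + 1)) (hij : i ≠ j) (x : X) (hk : δ x = k) :
    Cyc.sheafFun δ k ((Scheme.Modules.pullback (sect X i)).obj F) x =
      ∑ᶠ ξ : ↥(CohB1.ProjSpaceOver 1 X), Aterm δP k F i j x ξ := by
  unfold Cyc.sheafFun
  rw [if_pos hk]
  exact length_pullback_sect δ hX δP hP k F hF i j hij x hk hsupp
    (isSMulRegular_germ_t δ hX δP hP k F hF hemb i j hij x hk)
    (fun ξ _ hd hnt => by
      have := mem_U_of_gen δ hX δP hP k F hF hsupp hemb ξ hd hnt
      rcases fin2_cases j with rfl | rfl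
      · exact this.1
      · exact this.2)

include hX hP hF hsupp in
theorem finite_support_Aterm (i j : Fin (1 + 1)) (x : X) :
    (Function.support (Aterm δP k F i j x)).Finite := by
  have hS := isSetup_PX δ hX δP hP
  haveI : IsLocallyNoetherian (CohB1.ProjSpaceOver 1 X) := hS.1
  refine (finite_gen F hF δP hS.2.2 k (sect X i x) (fun ξ _ hnt => hsupp ξ hnt)).subset ?_
  intro ξ hξ
  rw [Function.mem_support] at hξ
  unfold Aterm at hξ
  by_cases h : ξ ⤳ sect X i x ∧ δP ξ = k + 1
  · refine ⟨h.1, h.2, ?_⟩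
    by_contra hnt
    rw [not_nontrivial_iff_subsingleton] at hnt
    apply hξ
    rw [dif_pos h, Module.length_eq_zero_iff.mpr hnt]
    simp
  · exfalso
    apply hξ
    rw [dif_neg h]

end

end Groth.Agent.Helper3.P1Cyc
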