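import Mathlib
import Groth.Prelude
import Groth.Agent.Helper3.P1CycF

set_option autoImplicit false
set_option linter.style.haveILetI false
set_option linter.unusedSectionVars false
set_option linter.unusedVariables false
set_option linter.deprecated false
set_option linter.style.haveILetI false
set_option linter.unusedSectionVars false
set_option linter.unusedVariables false

universe u

open CategoryTheory CategoryTheory.Limits AlgebraicGeometry IsLocalRing

namespace Groth.Agent.Helper3.P1Cyc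

noncomputable section

open P1 Groth.Agent.Helper3.P1Chart Groth.Agent.Helper5.StalkDict

variable {X : Scheme.{u}} (δ : X → ℤ) (hX : Cyc.IsSetup X δ)
  (δP : ↥(CohB1.ProjSpaceOver 1 X) → ℤ)
  (hP : Cyc.DeltaCompat (CohB1.ProjSpaceOver.toBase 1 X) δP δ)
  (k : ℤ) (F : (CohB1.ProjSpaceOver 1 X).Modules) (hF : Coh.IsCoh F)
  (hsupp : ∀ p : ↥(CohB1.ProjSpaceOver 1 X), Nontrivial (F.presheaf.stalk p) → δP p ≤ k + 1)
  (hemb : ∀ p : ↥(CohB1.ProjSpaceOver 1 X),
    IsAssociatedPrime (IsLocalRing.maximalIdeal ((CohB1.ProjSpaceOver 1 X).presheaf.stalk p))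
      (F.presheaf.stalk p) →
    p ∉ Set.range ⇑(P1.sect X 0) ∪ Set.range ⇑(P1.sect X 1) ∨ δP p < k)

include hX hP hF hsupp hemb in
open Classical in
theorem Aterm_sub (x : X) (hk : δ x = k) (ξ : ↥(CohB1.ProjSpaceOver 1 X)) :
    Aterm δP k F 0 1 x ξ - Aterm δP k F 1 0 x ξ =
      if (δP ξ = k + 1 ∧ Nontrivial (F.presheaf.stalk ξ) ∧
          δP ξ = δ ((CohB1.ProjSpaceOver.toBase 1 X) ξ)) then
        Cyc.divFun δ ((CohB1.ProjSpaceOver.toBase 1 X) ξ)
          ((Cyc.normGen (CohB1.ProjSpaceOver.toBase 1 X) ξ (tb X 0 1 ξ)) ^ (mult F ξ)) x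
      else 0 := by
  have hS := isSetup_PX δ hX δP hP
  haveI : IsProper (CohB1.ProjSpaceOver.toBase 1 X) :=
    Groth.Agent.Helper6.HProj.isProper_toBase 1 X
  by_cases hd : δP ξ = k + 1
  · by_cases hnt : Nontrivial (F.presheaf.stalk ξ)
    · obtain ⟨h0, h1⟩ := mem_U_of_gen δ hX δP hP k F hF hsupp hemb ξ hd hnt
      have hf : tb X 0 1 ξ ≠ 0 := tb_ne_zero X 0 1 ξ h0 h1
      have hA0 : Aterm δP k F 0 1 x ξ =
          (mult F ξ : ℤ) * Cyc.divFun δP ξ (tb X 0 1 ξ) (sect X 0 x) := by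
        unfold Aterm Cyc.divFun mult
        have hyk : δP (sect X 0 x) = k := by rw [delta_sect δ δP hP, hk]
        by_cases hsp : ξ ⤳ sect X 0 x
        · rw [dif_pos ⟨hsp, hd⟩, dif_pos ⟨hsp, by rw [hyk, hd]⟩]
        · rw [dif_neg (fun h => hsp h.1), dif_neg (fun h => hsp h.1), mul_zero]
      have hA1 : Aterm δP k F 1 0 x ξ =
          - ((mult F ξ : ℤ) * Cyc.divFun δP ξ (tb X 0 1 ξ) (sect X 1 x)) := by
        unfold Aterm Cyc.divFun mult
        have hyk : δP (sect X 1 x) = k := by rw [delta_sect δ δP hP, hk]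
        by_cases hsp : ξ ⤳ sect X 1 x
        · rw [dif_pos ⟨hsp, hd⟩, dif_pos ⟨hsp, by rw [hyk, hd]⟩, tb_inv X 0 1 ξ h0 h1,
            SecOrd.ordAt_inv _ _ _ _ hf, mul_neg]
        · rw [dif_neg (fun h => hsp h.1), dif_neg (fun h => hsp h.1), mul_zero, neg_zero]
      rw [hA0, hA1, sub_neg_eq_add, ← mul_add, ← push_div_two δ δP hP ξ h0 h1 x,
        PushRat.push_div_point δP δ hS hX (CohB1.ProjSpaceOver.toBase 1 X) hP ξ (tb X 0 1 ξ) hf x]
      by_cases hdd : δP ξ = δ ((CohB1.ProjSpaceOver.toBase 1 X) ξ)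
      · rw [if_pos hdd, if_pos ⟨hd, hnt, hdd⟩, PullDivL.divFun_pow]
      · rw [if_neg hdd, if_neg (fun h => hdd h.2.2), mul_zero]
    · rw [if_neg (fun h => hnt h.2.1)]
      have hnt' := hnt
      rw [not_nontrivial_iff_subsingleton] at hnt'
      have hl : Module.length ((CohB1.ProjSpaceOver 1 X).presheaf.stalk ξ) (F.presheaf.stalk ξ) = 0 :=
        Module.length_eq_zero_iff.mpr hnt'
      unfold Aterm
      rw [hl]
      simp
  · rw [if_neg (fun h => hd h.1)]
    unfold Aterm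
    rw [dif_neg (fun h => hd h.2), dif_neg (fun h => hd h.2), sub_zero]

include hX hP hF hsupp hemb in
/-- **the fibres at zero and at infinity of a coherent module on the projective line over `X` are
rationally equivalent** -/
theorem main_coh (α β : AlgebraicCycle X ℤ)
    (hα : ⇑α = Cyc.sheafFun δ k ((Scheme.Modules.pullback (P1.sect X 0)).obj F))
    (hβ : ⇑β = Cyc.sheafFun δ k ((Scheme.Modules.pullback (P1.sect X 1)).obj F)) :
    Cyc.RatEquiv δ k α β := by
  classical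
  have hS := isSetup_PX δ hX δP hP
  haveI : IsLocallyNoetherian (CohB1.ProjSpaceOver 1 X) := hS.1
  haveI : IsProper (CohB1.ProjSpaceOver.toBase 1 X) :=
    Groth.Agent.Helper6.HProj.isProper_toBase 1 X
  unfold Cyc.RatEquiv Cyc.RatEquivZero
  refine ⟨{ξ : ↥(CohB1.ProjSpaceOver 1 X) // δP ξ = k + 1 ∧ Nontrivial (F.presheaf.stalk ξ) ∧
      δP ξ = δ ((CohB1.ProjSpaceOver.toBase 1 X) ξ)},
    fun i => (CohB1.ProjSpaceOver.toBase 1 X) i.1,
    fun i => (Cyc.normGen (CohB1.ProjSpaceOver.toBase 1 X) i.1 (tb X 0 1 i.1)) ^ (mult F i.1),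
    ?_, ?_, ?_, ?_⟩
  · intro i
    rw [← i.2.2.2, i.2.1]
  · intro i
    obtain ⟨h0, h1⟩ := mem_U_of_gen δ hX δP hP k F hF hsupp hemb i.1 i.2.1 i.2.2.1
    exact pow_ne_zero _ (PushRat.normGen_ne_zero _ i.1 _ (tb_ne_zero X 0 1 i.1 h0 h1))
  · intro x
    obtain ⟨_, ⟨V, hV : IsAffineOpen V, rfl⟩, hxV, -⟩ :=
      X.isBasis_affineOpens.exists_subset_of_mem_open (Set.mem_univ x) isOpen_univ
    refine ⟨V, V.2, hxV, ?_⟩
    have hK : IsCompact ((CohB1.ProjSpaceOver.toBase 1 X : ↥(CohB1.ProjSpaceOver 1 X) → X) ⁻¹'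
        (V : Set X)) :=
      QuasiCompact.isCompact_preimage (f := CohB1.ProjSpaceOver.toBase 1 X) _ V.2 hV.isCompact
    have fin := finite_gen_of_isCompact F hF δP hS.2.2 k hsupp _ hK
    refine Set.Finite.of_finite_image (f := Subtype.val) (fin.subset ?_)
      Subtype.val_injective.injOn
    rintro _ ⟨i, ⟨z, hz1, hz2⟩, rfl⟩
    refine ⟨i.2.1, i.2.2.1, i.1, subset_closure rfl, ?_⟩
    have hsp : (CohB1.ProjSpaceOver.toBase 1 X) i.1 ⤳ z := specializes_iff_mem_closure.mpr hz1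
    exact hsp.mem_open V.2 hz2
  · intro x
    rw [Function.locallyFinsuppWithin.coe_sub, Pi.sub_apply, hα, hβ]
    by_cases hk : δ x = k
    · rw [sheafFun_eq_finsum δ hX δP hP k F hF hsupp hemb 0 1 (by decide) x hk,
        sheafFun_eq_finsum δ hX δP hP k F hF hsupp hemb 1 0 (by decide) x hk,
        ← finsum_sub_distrib (finite_support_Aterm δ hX δP hP k F hF hsupp 0 1 x)
          (finite_support_Aterm δ hX δP hP k F hF hsupp 1 0 x)]
      rw [finsum_congr (Aterm_sub δ hX δP hP k F hF hsupp hemb x hk)]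
      rw [finsum_subtype_eq_finsum_cond (fun ξ : ↥(CohB1.ProjSpaceOver 1 X) =>
          δP ξ = k + 1 ∧ Nontrivial (F.presheaf.stalk ξ) ∧
            δP ξ = δ ((CohB1.ProjSpaceOver.toBase 1 X) ξ))
        (f := fun ξ => Cyc.divFun δ ((CohB1.ProjSpaceOver.toBase 1 X) ξ)
          ((Cyc.normGen (CohB1.ProjSpaceOver.toBase 1 X) ξ (tb X 0 1 ξ)) ^ (mult F ξ)) x)]
      exact finsum_congr (fun ξ => finsum_eq_if.symm)
    · unfold Cyc.sheafFun
      rw [if_neg hk, if_neg hk, sub_self]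
      symm
      apply finsum_eq_zero_of_forall_eq_zero
      intro i
      unfold Cyc.divFun
      rw [dif_neg]
      rintro ⟨-, h2⟩
      apply hk
      dsimp only at h2
      have := i.2.2.2
      have h3 := i.2.1
      omega

end

end Groth.Agent.Helper3.P1Cyc
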