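import Mathlib
import Groth.Prelude
import Groth.Agent.Helper3.P1CycG

set_option autoImplicit false
set_option linter.style.haveILetI false
set_option linter.unusedSectionVars false
set_option linter.unusedVariables false
set_option linter.deprecated false
set_option linter.style.haveILetI false
set_option linter.unusedSectionVars false
set_option linter.unusedVariables false

universe u

open CategoryTheory CategoryTheory.Limits AlgebraicGeometry IsLocalRing

namespace Groth.Agent.Helper3.P1Cyc

noncomputable section

open P1 Groth.Agent.Helper3.P1Chart Groth.Agent.Helper5.StalkDict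

/-- transfer of "the maximal ideal is an associated prime" along a semilinear additive
equivalence over a surjection of local rings -/
theorem isAssociatedPrime_of_semilinear {A B : Type u} [CommRing A] [CommRing B] [IsLocalRing A]
    [IsLocalRing B] (φ : A →+* B) (hφ : Function.Surjective φ) {M N : Type u} [AddCommGroup M]
    [Module A M] [AddCommGroup N] [Module B N] (e : M ≃+ N)
    (he : ∀ (a : A) (m : M), e (a • m) = φ a • e m)
    (h : IsAssociatedPrime (maximalIdeal A) M) : IsAssociatedPrime (maximalIdeal B) N := by
  obtain ⟨hp, x, hx⟩ := h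
  haveI : IsLocalHom φ := IsLocalHom.of_surjective φ hφ
  refine ⟨inferInstance, e x, ?_⟩
  have key : ∀ (a : A) (n : ℕ), (φ a) ^ n • e x = 0 ↔ a ^ n • x = 0 := by
    intro a n
    rw [← map_pow, ← he, EmbeddingLike.map_eq_zero_iff]
  ext b
  obtain ⟨a, rfl⟩ := hφ b
  rw [Ideal.mem_radical_iff]
  simp only [Submodule.mem_colon_singleton, Submodule.mem_bot]
  constructor
  · intro hb
    have ha : a ∈ maximalIdeal A := by
      rw [mem_maximalIdeal, mem_nonunits_iff] at hb ⊢
      intro hu
      exact hb (hu.map φ)
    rw [hx, Ideal.mem_radical_iff] at ha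
    obtain ⟨n, hn⟩ := ha
    rw [Submodule.mem_colon_singleton, Submodule.mem_bot] at hn
    exact ⟨n, (key a n).mpr hn⟩
  · rintro ⟨n, hn⟩
    have ha : a ∈ maximalIdeal A := by
      rw [hx, Ideal.mem_radical_iff]
      refine ⟨n, ?_⟩
      rw [Submodule.mem_colon_singleton, Submodule.mem_bot]
      exact (key a n).mp hn
    rw [mem_maximalIdeal, mem_nonunits_iff] at ha ⊢
    intro hu
    exact ha (isUnit_of_map_unit φ a hu)

/-- in a local domain, the maximal ideal is associated only if it is zero -/
theorem maximalIdeal_eq_bot_of_isAssociatedPrime {R : Type u} [CommRing R] [IsDomain R]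
    [IsLocalRing R] (h : IsAssociatedPrime (maximalIdeal R) R) : maximalIdeal R = ⊥ := by
  obtain ⟨hp, x, hx⟩ := h
  by_cases hx0 : x = 0
  · exfalso
    apply hp.ne_top
    rw [hx, hx0]
    have : (Submodule.colon (⊥ : Submodule R R) {(0 : R)}) = ⊤ := by
      ext a
      simp [Submodule.mem_colon_singleton]
    rw [this, Ideal.radical_top]
  · rw [hx]
    have : (Submodule.colon (⊥ : Submodule R R) {x}) = ⊥ := by
      ext a
      simp [Submodule.mem_colon_singleton, hx0]
    rw [this]
    exact Ideal.radical_bot_of_noZeroDivisors

/-- on an integral scheme, the only point whose local ring has zero maximal ideal is the generic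
point -/
theorem eq_genericPoint_of_maximalIdeal_eq_bot (W : Scheme.{u}) [IsIntegral W] (w : W)
    (h : maximalIdeal (W.presheaf.stalk w) = ⊥) : w = genericPoint W := by
  have hsp : genericPoint W ⤳ w := genericPoint_specializes w
  obtain ⟨p, hp⟩ := exists_prime_of_specializes w (genericPoint W) hsp
  have hple : p.asIdeal ≤ maximalIdeal (W.presheaf.stalk w) :=
    IsLocalRing.le_maximalIdeal p.isPrime.ne_top
  rw [h, le_bot_iff] at hple
  have hcl : p = IsLocalRing.closedPoint (W.presheaf.stalk w) := by
    apply PrimeSpectrum.ext
    rw [hple]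
    exact h.symm
  rw [hcl, Scheme.fromSpecStalk_closedPoint] at hp
  exact hp

end

end Groth.Agent.Helper3.P1Cyc
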