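import Mathlib
import Groth.Prelude
import Groth.Agent.Helper3.P1CycH
import Groth.Agent.S0019

set_option autoImplicit false
set_option linter.style.haveILetI false
set_option linter.unusedSectionVars false
set_option linter.unusedVariables false
set_option linter.deprecated false
set_option linter.style.haveILetI false
set_option linter.unusedSectionVars false
set_option linter.unusedVariables false

universe u

open CategoryTheory CategoryTheory.Limits AlgebraicGeometry IsLocalRing

namespace Groth.Agent.Helper3.P1Cyc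

noncomputable section

open P1 Groth.Agent.Helper3.P1Chart Groth.Agent.Helper5.StalkDict

open Groth.Agent.Helper4.FinLocFree Groth.Agent.Helper4.FinLocFree2 in
/-- the stalk of the structure module is the local ring, linearly -/
theorem nonempty_linearEquiv_stalk_structureModule (Z : Scheme.{u}) (z : Z) :
    Nonempty ((Coh.structureModule Z).presheaf.stalk z ≃ₗ[Z.presheaf.stalk z]
      Z.presheaf.stalk z) := by
  have hfree : IsFreeAlong (Coh.structureModule Z) (⊤ : Z.Opens).ι 1 :=
    ⟨Scheme.Modules.restrictUnitIso (⊤ : Z.Opens).ι ≪≫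
      (coproductUniqueIso (fun _ : Fin 1 =>
        Coh.structureModule ((⊤ : Z.Opens) : Scheme.{u}))).symm⟩
  haveI : (Coh.structureModule Z).IsQuasicoherent :=
    Groth.Agent.Helper4.FinLocFree4.isQuasicoherent_of_isFinLocFree _
      Groth.Agent.Helper4.FinLocFree6.isFinLocFree_unit
  obtain ⟨b⟩ := nonempty_basis_stalk_of_isFreeAlong (Coh.structureModule Z) hfree z trivial
  exact ⟨b.equivFun ≪≫ₗ LinearEquiv.funUnique (Fin 1) _ _⟩

/-- **the fibres at zero and at infinity of a closed subscheme of the projective line over `X`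
are rationally equivalent** -/
theorem main_sub {X : Scheme.{u}} (δ : X → ℤ) (hX : Cyc.IsSetup X δ)
    (δP : ↥(CohB1.ProjSpaceOver 1 X) → ℤ)
    (hP : Cyc.DeltaCompat (CohB1.ProjSpaceOver.toBase 1 X) δP δ) (k : ℤ) (Z : Scheme.{u})
    (ι : Z ⟶ CohB1.ProjSpaceOver 1 X) [IsClosedImmersion ι] (hZ : ∀ z : Z, δP (ι z) ≤ k + 1)
    (hemb : ∀ z : Z, IsAssociatedPrime (IsLocalRing.maximalIdeal (Z.presheaf.stalk z))
      (Z.presheaf.stalk z) →
      ι z ∉ Set.range ⇑(P1.sect X 0) ∪ Set.range ⇑(P1.sect X 1) ∨ δP (ι z) < k)
    (α β : AlgebraicCycle X ℤ)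
    (hα : ⇑α = Cyc.subschemeFun δ k (pullback.snd ι (P1.sect X 0)))
    (hβ : ⇑β = Cyc.subschemeFun δ k (pullback.snd ι (P1.sect X 1))) :
    Cyc.RatEquiv δ k α β := by
  have hS := isSetup_PX δ hX δP hP
  haveI : IsLocallyNoetherian (CohB1.ProjSpaceOver 1 X) := hS.1
  have hF : Coh.IsCoh ((Scheme.Modules.pushforward ι).obj (Coh.structureModule Z)) :=
    Groth.Agent.S0019.result ι _ (Groth.Agent.Lead.HomShH.isCoh_unit Z)
  refine main_coh δ hX δP hP k _ hF ?_ ?_ α β ?_ ?_
  · intro p hnt
    by_cases hp : p ∈ Set.range ι.base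
    · obtain ⟨z, rfl⟩ := hp
      exact hZ z
    · exfalso
      have := Groth.Agent.Lead.PushStalk.subsingleton_stalk_of_notMem_range ι
        (Coh.structureModule Z) ι.isClosedEmbedding.isClosed_range p hp
      exact not_subsingleton _ this
  · intro p hass
    by_cases hp : p ∈ Set.range ι.base
    · obtain ⟨z, rfl⟩ := hp
      apply hemb z
      have h1 := isAssociatedPrime_of_semilinear (ι.stalkMap z).hom (ι.stalkMap_surjective z)
        (AddEquiv.ofBijective (Groth.Agent.Lead.PushStalk.psHom ι (Coh.structureModule Z) z)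
          (Groth.Agent.Lead.PushStalk.psHom_bijective ι (Coh.structureModule Z)
            ι.isEmbedding.isInducing z))
        (fun r n => Groth.Agent.Lead.PushStalk.psHom_smul ι (Coh.structureModule Z) z r n) hass
      obtain ⟨e⟩ := nonempty_linearEquiv_stalk_structureModule Z z
      exact (LinearEquiv.isAssociatedPrime_iff e).mp h1
    · exfalso
      have := Groth.Agent.Lead.PushStalk.subsingleton_stalk_of_notMem_range ι
        (Coh.structureModule Z) ι.isClosedEmbedding.isClosed_range p hp
      have hem : associatedPrimes ((CohB1.ProjSpaceOver 1 X).presheaf.stalk p)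
          (((Scheme.Modules.pushforward ι).obj (Coh.structureModule Z)).presheaf.stalk p) = ∅ :=
        associatedPrimes.eq_empty_of_subsingleton
      have hmem : IsLocalRing.maximalIdeal ((CohB1.ProjSpaceOver 1 X).presheaf.stalk p) ∈
          associatedPrimes ((CohB1.ProjSpaceOver 1 X).presheaf.stalk p)
          (((Scheme.Modules.pushforward ι).obj (Coh.structureModule Z)).presheaf.stalk p) := hass
      rw [hem] at hmem
      exact hmem
  · rw [hα, Groth.Agent.Helper3.SpFun.sheafFun_pullback_push_unit]
  · rw [hβ, Groth.Agent.Helper3.SpFun.sheafFun_pullback_push_unit]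

/-- **the fibres at zero and at infinity of an integral closed subscheme of the projective line
over `X` whose generic point lies on neither section are rationally equivalent** -/
theorem main_int {X : Scheme.{u}} (δ : X → ℤ) (hX : Cyc.IsSetup X δ)
    (δP : ↥(CohB1.ProjSpaceOver 1 X) → ℤ)
    (hP : Cyc.DeltaCompat (CohB1.ProjSpaceOver.toBase 1 X) δP δ) (k : ℤ) (W : Scheme.{u})
    [IsIntegral W] (ι : W ⟶ CohB1.ProjSpaceOver 1 X) [IsClosedImmersion ι]
    (hW : δP (ι (genericPoint W)) = k + 1)
    (h0 : ι (genericPoint W) ∉ Set.range ⇑(P1.sect X 0))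
    (h1 : ι (genericPoint W) ∉ Set.range ⇑(P1.sect X 1)) (α β : AlgebraicCycle X ℤ)
    (hα : ⇑α = Cyc.subschemeFun δ k (pullback.snd ι (P1.sect X 0)))
    (hβ : ⇑β = Cyc.subschemeFun δ k (pullback.snd ι (P1.sect X 1))) :
    Cyc.RatEquiv δ k α β := by
  have hS := isSetup_PX δ hX δP hP
  refine main_sub δ hX δP hP k W ι ?_ ?_ α β hα hβ
  · intro w
    have hsp : ι (genericPoint W) ⤳ ι w :=
      (genericPoint_specializes w).map ι.continuous
    by_cases he : ι (genericPoint W) = ι w
    · rw [← he, hW]
    · have := (hS.2.2 _ _ hsp he).1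
      rw [hW] at this
      exact this.le
  · intro w hass
    left
    haveI : IsDomain (W.presheaf.stalk w) := inferInstance
    have hbot := maximalIdeal_eq_bot_of_isAssociatedPrime hass
    have hw := eq_genericPoint_of_maximalIdeal_eq_bot W w hbot
    rw [hw]
    rintro (h | h)
    · exact h0 h
    · exact h1 h

end

end Groth.Agent.Helper3.P1Cyc
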