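import Mathlib
import Groth.Prelude.Def_Found

/-! Helper lemmas on the comparison map `M ⊗ ∏ Qᵢ → ∏ (M ⊗ Qᵢ)` (Mittag-Leffler modules). -/

universe u

open scoped TensorProduct

namespace Groth.Agent.Helper3

variable {R : Type u} [CommRing R]

/-- Naturality of `piRightHom` in the first variable. -/
theorem piRightHom_rTensor {ι : Type u} (Q : ι → Type u) [∀ i, AddCommGroup (Q i)]
    [∀ i, Module R (Q i)] {A B : Type u} [AddCommGroup A] [Module R A] [AddCommGroup B]
    [Module R B] (φ : A →ₗ[R] B) (z : A ⊗[R] (∀ i, Q i)) :
    TensorProduct.piRightHom R R B Q (φ.rTensor (∀ i, Q i) z) =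
      fun i => (φ.rTensor (Q i)) (TensorProduct.piRightHom R R A Q z i) := by
  induction z using TensorProduct.induction_on with
  | zero =>
    funext i
    simp
  | tmul m q =>
    funext i
    simp
  | add a b ha hb =>
    rw [map_add, map_add, ha, hb]
    funext i
    simp

/-- Every element of `F ⊗ Q` is a combination `∑ eₖ ⊗ qₖ` of generators `eₖ` of `F`. -/
theorem exists_sum_tmul_of_span_eq_top {F : Type u} [AddCommGroup F] [Module R F] {n : ℕ}
    (e : Fin n → F) (he : Submodule.span R (Set.range e) = ⊤) (Q : Type u) [AddCommGroup Q]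
    [Module R Q] (t : F ⊗[R] Q) : ∃ q : Fin n → Q, t = ∑ k, e k ⊗ₜ[R] q k := by
  induction t using TensorProduct.induction_on with
  | zero => exact ⟨fun _ => 0, by simp⟩
  | tmul f q =>
    have hf : f ∈ Submodule.span R (Set.range e) := he ▸ Submodule.mem_top
    obtain ⟨c, rfl⟩ := (Submodule.mem_span_range_iff_exists_fun R).mp hf
    refine ⟨fun k => c k • q, ?_⟩
    rw [TensorProduct.sum_tmul]
    refine Finset.sum_congr rfl (fun k _ => ?_)
    rw [TensorProduct.smul_tmul]
  | add a b ha hb =>
    obtain ⟨qa, rfl⟩ := ha
    obtain ⟨qb, rfl⟩ := hb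
    refine ⟨fun k => qa k + qb k, ?_⟩
    rw [← Finset.sum_add_distrib]
    refine Finset.sum_congr rfl (fun k _ => ?_)
    rw [TensorProduct.tmul_add]

/-- For a finite module `F`, the comparison map `F ⊗ ∏ Qᵢ → ∏ (F ⊗ Qᵢ)` is surjective. -/
theorem piRightHom_surjective_of_finite {ι : Type u} (Q : ι → Type u) [∀ i, AddCommGroup (Q i)]
    [∀ i, Module R (Q i)] (F : Type u) [AddCommGroup F] [Module R F] [Module.Finite R F] :
    Function.Surjective (TensorProduct.piRightHom R R F Q) := by
  obtain ⟨n, e, he⟩ := Module.Finite.exists_fin (R := R) (M := F)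
  intro t
  choose q hq using fun i => exists_sum_tmul_of_span_eq_top e he (Q i) (t i)
  refine ⟨∑ k, e k ⊗ₜ[R] (fun i => q i k), ?_⟩
  rw [map_sum]
  funext i
  rw [Finset.sum_apply, hq i]
  refine Finset.sum_congr rfl (fun k _ => ?_)
  rfl

/-- `R` is Mittag-Leffler over itself. -/
theorem isML_self (R : Type u) [CommRing R] : CAlg.IsMittagLeffler R R := by
  intro ι Q _ _
  rw [injective_iff_map_eq_zero]
  intro z hz
  have h : ∀ (z : R ⊗[R] (∀ i, Q i)) (i : ι), (TensorProduct.lid R (∀ i, Q i) z) i =
      TensorProduct.lid R (Q i) (TensorProduct.piRightHom R R R Q z i) := by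
    intro z i
    induction z using TensorProduct.induction_on with
    | zero => simp
    | tmul r q => simp
    | add a b ha hb => simp [ha, hb]
  apply (TensorProduct.lid R (∀ i, Q i)).injective
  rw [map_zero]
  funext i
  rw [h, hz]
  simp

/-- Free modules are Mittag-Leffler. -/
theorem isML_of_free (R : Type u) [CommRing R] (F : Type u) [AddCommGroup F] [Module R F]
    [Module.Free R F] : CAlg.IsMittagLeffler R F := by
  classical
  intro ι Q _ _
  let b := Module.Free.chooseBasis R F
  rw [injective_iff_map_eq_zero]
  intro x hx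
  have hj : ∀ j, (b.coord j).rTensor (∀ i, Q i) x = 0 := by
    intro j
    apply isML_self R ι Q
    rw [piRightHom_rTensor, hx, map_zero]
    funext i
    simp
  let e : F ⊗[R] (∀ i, Q i) ≃ₗ[R] (Module.Free.ChooseBasisIndex R F →₀ (∀ i, Q i)) :=
    (TensorProduct.congr b.repr (LinearEquiv.refl R (∀ i, Q i))).trans
      (TensorProduct.finsuppScalarLeft R (∀ i, Q i) _)
  have hcoord : ∀ (z : F ⊗[R] (∀ i, Q i)) j, e z j =
      TensorProduct.lid R (∀ i, Q i) ((b.coord j).rTensor (∀ i, Q i) z) := by
    intro z j
    induction z using TensorProduct.induction_on with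
    | zero => simp
    | tmul f n => simp [e]
    | add a c ha hc => rw [map_add, Finsupp.add_apply, ha, hc, map_add, map_add]
  apply e.injective
  rw [map_zero]
  ext j : 1
  rw [hcoord, hj j]
  simp

/-- The quotient of a Mittag-Leffler module by a finitely generated submodule is
Mittag-Leffler. -/
theorem isML_quotient_of_fg {R : Type u} [CommRing R] {M : Type u} [AddCommGroup M] [Module R M]
    (N : Submodule R M) (hN : N.FG) (hM : CAlg.IsMittagLeffler R M) :
    CAlg.IsMittagLeffler R (M ⧸ N) := by
  intro ι Q _ _
  haveI : Module.Finite R N := Module.Finite.iff_fg.mpr hN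
  have hex : Function.Exact N.subtype N.mkQ := LinearMap.exact_subtype_mkQ N
  have hg : Function.Surjective N.mkQ := Submodule.mkQ_surjective N
  rw [injective_iff_map_eq_zero]
  intro z hz
  obtain ⟨y, rfl⟩ := LinearMap.rTensor_surjective (∀ i, Q i) hg z
  rw [piRightHom_rTensor] at hz
  have hw' : ∀ i, ∃ w' : N ⊗[R] Q i,
      (N.subtype.rTensor (Q i)) w' = TensorProduct.piRightHom R R M Q y i := by
    intro i
    exact (rTensor_exact (Q i) hex hg _).mp (congrFun hz i)
  choose w' hw' using hw'
  obtain ⟨w, hw⟩ := piRightHom_surjective_of_finite Q N w'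
  have hy : (N.subtype.rTensor (∀ i, Q i)) w = y := by
    apply hM ι Q
    rw [piRightHom_rTensor, hw]
    funext i
    exact hw' i
  rw [← hy]
  exact (rTensor_exact (∀ i, Q i) hex hg).apply_apply_eq_zero w

/-- Mittag-Leffler is invariant under linear equivalence. -/
theorem isML_of_equiv {R : Type u} [CommRing R] {M M' : Type u} [AddCommGroup M] [Module R M]
    [AddCommGroup M'] [Module R M'] (e : M ≃ₗ[R] M') (h : CAlg.IsMittagLeffler R M') :
    CAlg.IsMittagLeffler R M := by
  intro ι Q _ _ a b hab
  have inj : Function.Injective (e.toLinearMap.rTensor (∀ i, Q i)) := by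
    rw [← LinearEquiv.coe_rTensor]
    exact (LinearEquiv.rTensor (∀ i, Q i) e).injective
  apply inj
  apply h ι Q
  rw [piRightHom_rTensor, piRightHom_rTensor, hab]

/-- For a finitely presented module the comparison map is bijective. -/
theorem piRightHom_bijective_of_finitePresentation {R : Type u} [CommRing R] {ι : Type u}
    (Q : ι → Type u) [∀ i, AddCommGroup (Q i)] [∀ i, Module R (Q i)] (P : Type u)
    [AddCommGroup P] [Module R P] [Module.FinitePresentation R P] :
    Function.Bijective (TensorProduct.piRightHom R R P Q) := by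
  refine ⟨?_, piRightHom_surjective_of_finite Q P⟩
  obtain ⟨n, K, e, hK⟩ := Module.FinitePresentation.exists_fin R P
  have h1 : CAlg.IsMittagLeffler R (Fin n → R) := isML_of_free R _
  exact isML_of_equiv e (isML_quotient_of_fg K hK h1) ι Q

/-- Restriction of scalars along `R → S` when `S ⊗_R -` commutes with products. -/
theorem isML_restrictScalars_of_bijective (R S : Type u) [CommRing R] [CommRing S] [Algebra R S]
    (M : Type u) [AddCommGroup M] [Module S M] [Module R M] [IsScalarTower R S M]
    (hS : ∀ (ι : Type u) (Q : ι → Type u) [∀ i, AddCommGroup (Q i)] [∀ i, Module R (Q i)],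
      Function.Bijective (TensorProduct.piRightHom R R S Q))
    (hM : CAlg.IsMittagLeffler S M) : CAlg.IsMittagLeffler R M := by
  intro ι Q _ _
  have hα : Function.Bijective (TensorProduct.piRightHom R S S Q) := by
    have h1 : ∀ z, TensorProduct.piRightHom R S S Q z = TensorProduct.piRightHom R R S Q z := by
      intro z
      induction z using TensorProduct.induction_on with
      | zero => simp
      | tmul s q => rfl
      | add a b ha hb => rw [map_add, map_add, ha, hb]
    have h2 : ⇑(TensorProduct.piRightHom R S S Q) = ⇑(TensorProduct.piRightHom R R S Q) :=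
      funext h1
    rw [h2]
    exact hS ι Q
  have hMα : Function.Injective
      (LinearMap.lTensor M (TensorProduct.piRightHom R S S Q)) := by
    have := (LinearEquiv.lTensor M (LinearEquiv.ofBijective _ hα)).injective
    rwa [← LinearEquiv.coe_toLinearMap, LinearEquiv.coe_lTensor] at this
  have hβ : Function.Injective (TensorProduct.piRightHom S S M (fun i => S ⊗[R] Q i)) :=
    hM ι (fun i => S ⊗[R] Q i)
  have hnat : ∀ x : M ⊗[S] (S ⊗[R] (∀ i, Q i)),
      TensorProduct.piRightHom R R M Q
        (TensorProduct.AlgebraTensorModule.cancelBaseChange R S S M (∀ i, Q i) x) =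
      fun i => TensorProduct.AlgebraTensorModule.cancelBaseChange R S S M (Q i)
        (TensorProduct.piRightHom S S M (fun i => S ⊗[R] Q i)
          (LinearMap.lTensor M (TensorProduct.piRightHom R S S Q) x) i) := by
    intro x
    induction x using TensorProduct.induction_on with
    | zero =>
      funext i
      simp
    | tmul m w =>
      induction w using TensorProduct.induction_on with
      | zero =>
        funext i
        simp
      | tmul s q =>
        funext i
        simp
      | add a b ha hb =>
        rw [TensorProduct.tmul_add, map_add, map_add, ha, hb]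
        funext i
        simp
    | add a b ha hb =>
      rw [map_add, map_add, ha, hb]
      funext i
      simp
  rw [injective_iff_map_eq_zero]
  intro y hy
  obtain ⟨x, rfl⟩ := (TensorProduct.AlgebraTensorModule.cancelBaseChange R S S M
    (∀ i, Q i)).surjective y
  rw [hnat] at hy
  have h1 : TensorProduct.piRightHom S S M (fun i => S ⊗[R] Q i)
      (LinearMap.lTensor M (TensorProduct.piRightHom R S S Q) x) = 0 := by
    funext i
    have := congrFun hy i
    exact (TensorProduct.AlgebraTensorModule.cancelBaseChange R S S M (Q i)).map_eq_zero_iff.mp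
      this
  have h2 := hMα (a₁ := x) (a₂ := 0) (by rw [map_zero]; exact hβ (by rw [h1, map_zero]))
  rw [h2, map_zero]

end Groth.Agent.Helper3
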