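import Mathlib

universe u
open scoped TensorProduct
open MvPolynomial

namespace Groth.Agent.Helper3.GlobalLift

section Etale

variable {A : Type u} [CommRing A] {ι σ : Type} [Finite ι] [Finite σ]
  (r : σ → MvPolynomial ι A) (a : σ → ι) (ha : Function.Injective a)

/-- The quotient `A[x_ι]/(r_σ)`. -/
abbrev T := MvPolynomial ι A ⧸ Ideal.span (Set.range r)

/-- The naive presubmersive presentation. -/
noncomputable abbrev PT : Algebra.PreSubmersivePresentation A (T r) ι σ :=
  Algebra.PreSubmersivePresentation.naive a ha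

/-- The Jacobian. -/
noncomputable abbrev Δ : T r := (PT r a ha).jacobian

theorem etale_away (hcard : Nat.card ι = Nat.card σ) :
    Algebra.Etale A (Localization.Away (Δ r a ha)) := by
  classical
  let Q : Algebra.PreSubmersivePresentation (T r) (Localization.Away (Δ r a ha)) Unit Unit :=
    Algebra.PreSubmersivePresentation.localizationAway (Localization.Away (Δ r a ha)) (Δ r a ha)
  let QP := Q.comp (PT r a ha)
  have hjac : IsUnit QP.jacobian := by
    rw [Algebra.PreSubmersivePresentation.comp_jacobian_eq_jacobian_smul_jacobian]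
    rw [Algebra.PreSubmersivePresentation.localizationAway_jacobian, Algebra.smul_def]
    exact (IsLocalization.Away.algebraMap_isUnit _).mul (IsLocalization.Away.algebraMap_isUnit _)
  let SP : Algebra.SubmersivePresentation A (Localization.Away (Δ r a ha)) (Unit ⊕ ι) (Unit ⊕ σ) :=
    ⟨QP, hjac⟩
  have hdim : SP.dimension = 0 := by
    change QP.dimension = 0
    rw [Algebra.PreSubmersivePresentation.dimension_comp_eq_dimension_add_dimension]
    simp [Algebra.Presentation.dimension, hcard]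
  have := SP.isStandardSmoothOfRelativeDimension hdim
  exact Algebra.Etale.iff_isStandardSmoothOfRelativeDimension_zero.mpr this

end Etale

end Groth.Agent.Helper3.GlobalLift

namespace Groth.Agent.Helper3.GlobalLift

theorem aeval_map_algebraMap' {A R₀ C : Type*} [CommRing A] [CommRing R₀] [CommRing C]
    [Algebra A R₀] [Algebra R₀ C] [Algebra A C] [IsScalarTower A R₀ C] {ι : Type*} (x : ι → C)
    (p : MvPolynomial ι A) : aeval x (map (algebraMap A R₀) p) = aeval x p := by
  rw [aeval_def, aeval_def, eval₂_map, ← IsScalarTower.algebraMap_eq]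

section Iso

variable {A : Type u} [CommRing A] (I : Ideal A) {C : Type u} [CommRing C] [Algebra (A ⧸ I) C]
  [Algebra A C] [IsScalarTower A (A ⧸ I) C] {ι σ : Type} [Finite ι] [Finite σ]
  (P : Algebra.SubmersivePresentation (A ⧸ I) C ι σ) (r : σ → MvPolynomial ι A)
  (hr : ∀ j, map (Ideal.Quotient.mk I) (r j) = P.relation j)

/-- The map `T → C`. -/
noncomputable def φ₁ : T r →ₐ[A] C :=
  Ideal.Quotient.liftₐ _ (aeval P.val) (by
    intro p hp
    have hle : Ideal.span (Set.range r) ≤ RingHom.ker (aeval (R := A) P.val) := by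
      rw [Ideal.span_le]
      rintro _ ⟨j, rfl⟩
      rw [SetLike.mem_coe, RingHom.mem_ker]
      have := aeval_map_algebraMap' (R₀ := A ⧸ I) P.val (r j)
      rw [← this]
      change aeval P.val (map (Ideal.Quotient.mk I) (r j)) = 0
      rw [hr j]
      exact P.aeval_val_relation j
    exact hle hp)

include hr in
theorem φ₁_mk (p : MvPolynomial ι A) :
    φ₁ I P r hr (Ideal.Quotient.mk _ p) = aeval P.val p := rfl

include hr in
theorem φ₁_Δ : φ₁ I P r hr (Δ r P.map P.map_inj) = P.jacobian := by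
  classical
  letI : Fintype σ := Fintype.ofFinite σ
  rw [Δ, Algebra.PreSubmersivePresentation.jacobian_eq_jacobiMatrix_det,
    Algebra.PreSubmersivePresentation.jacobian_eq_jacobiMatrix_det]
  have h1 : ∀ p : MvPolynomial ι A, algebraMap (PT r P.map P.map_inj).Ring (T r) p =
      Ideal.Quotient.mk _ p := by
    intro p
    rw [Algebra.Generators.algebraMap_apply]
    have : (aeval (PT r P.map P.map_inj).val : MvPolynomial ι A →ₐ[A] T r) =
        Ideal.Quotient.mkₐ A _ := by
      apply MvPolynomial.algHom_ext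
      intro i
      simp [PT, Algebra.PreSubmersivePresentation.naive, Algebra.Presentation.naive,
        Algebra.Generators.naive]
    exact DFunLike.congr_fun this p
  rw [h1, φ₁_mk, Algebra.Generators.algebraMap_apply,
    ← aeval_map_algebraMap' (R₀ := A ⧸ I) P.val]
  congr 1
  change (map (Ideal.Quotient.mk I)) _ = _
  rw [RingHom.map_det]
  congr 1
  ext i j : 1
  rw [RingHom.mapMatrix_apply, Matrix.map_apply,
    Algebra.PreSubmersivePresentation.jacobiMatrix_apply,
    Algebra.PreSubmersivePresentation.jacobiMatrix_apply, ← pderiv_map]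
  congr 1
  exact hr j

/-- The map `B = T_Δ → C`. -/
noncomputable def φ : Localization.Away (Δ r P.map P.map_inj) →ₐ[A] C :=
  IsLocalization.Away.liftAlgHom (Δ r P.map P.map_inj) (f := φ₁ I P r hr) (by
    rw [φ₁_Δ]; exact P.jacobian_isUnit)

include hr in
theorem φ_algebraMap (t : T r) :
    φ I P r hr (algebraMap (T r) (Localization.Away (Δ r P.map P.map_inj)) t) = φ₁ I P r hr t := by
  simp [φ]

/-- The image of `X i` in `B`. -/
noncomputable def xB (i : ι) : Localization.Away (Δ r P.map P.map_inj) :=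
  algebraMap (T r) _ (Ideal.Quotient.mk _ (X i))

theorem aeval_xB (p : MvPolynomial ι A) :
    aeval (xB I P r) p = algebraMap (T r) (Localization.Away (Δ r P.map P.map_inj))
      (Ideal.Quotient.mk _ p) := by
  have : (aeval (xB I P r) : MvPolynomial ι A →ₐ[A] _) =
      (IsScalarTower.toAlgHom A (T r) (Localization.Away (Δ r P.map P.map_inj))).comp
        (Ideal.Quotient.mkₐ A _) := by
    apply MvPolynomial.algHom_ext
    intro i
    simp [xB]
  exact DFunLike.congr_fun this p

theorem aeval_one_tmul_xB (p : MvPolynomial ι A) :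
    aeval (R := A ⧸ I) (fun i => (1 : A ⧸ I) ⊗ₜ[A] xB I P r i) (map (Ideal.Quotient.mk I) p) =
      (1 : A ⧸ I) ⊗ₜ[A] aeval (xB I P r) p := by
  have h1 := aeval_map_algebraMap' (R₀ := A ⧸ I)
    (fun i => (1 : A ⧸ I) ⊗ₜ[A] xB I P r i) p
  change aeval (R := A ⧸ I) (fun i => (1 : A ⧸ I) ⊗ₜ[A] xB I P r i)
    (map (algebraMap A (A ⧸ I)) p) = _
  rw [h1]
  have h2 := MvPolynomial.comp_aeval (xB I P r)
    (Algebra.TensorProduct.includeRight : _ →ₐ[A] (A ⧸ I) ⊗[A] Localization.Away (Δ r P.map P.map_inj))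
  have h3 := DFunLike.congr_fun h2 p
  simp only [AlgHom.coe_comp, Function.comp_apply, Algebra.TensorProduct.includeRight_apply] at h3
  rw [h3]

/-- The map `(A/I) ⊗ B → C`. -/
noncomputable def ψ : (A ⧸ I) ⊗[A] Localization.Away (Δ r P.map P.map_inj) →ₐ[A ⧸ I] C :=
  Algebra.TensorProduct.lift (Algebra.ofId (A ⧸ I) C) (φ I P r hr) (fun _ _ => Commute.all _ _)

/-- The map `C → (A/I) ⊗ B`. -/
noncomputable def χ : C →ₐ[A ⧸ I] (A ⧸ I) ⊗[A] Localization.Away (Δ r P.map P.map_inj) :=
  let χ₀ : MvPolynomial ι (A ⧸ I) →ₐ[A ⧸ I]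
      (A ⧸ I) ⊗[A] Localization.Away (Δ r P.map P.map_inj) :=
    aeval (fun i => (1 : A ⧸ I) ⊗ₜ[A] xB I P r i)
  (Ideal.Quotient.liftₐ P.ker χ₀ (by
    intro p hp
    have hle : P.ker ≤ RingHom.ker χ₀ := by
      rw [← P.span_range_relation_eq_ker, Ideal.span_le]
      rintro _ ⟨j, rfl⟩
      rw [SetLike.mem_coe, RingHom.mem_ker, ← hr j]
      change aeval (R := A ⧸ I) (fun i => (1 : A ⧸ I) ⊗ₜ[A] xB I P r i)
        (map (Ideal.Quotient.mk I) (r j)) = 0
      rw [aeval_one_tmul_xB, aeval_xB]
      have : Ideal.Quotient.mk (Ideal.span (Set.range r)) (r j) = 0 :=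
        Ideal.Quotient.eq_zero_iff_mem.2 (Ideal.subset_span ⟨j, rfl⟩)
      rw [this, map_zero, TensorProduct.tmul_zero]
    exact hle hp)).comp
    ((P.quotientEquiv.restrictScalars (A ⧸ I)).symm : C →ₐ[A ⧸ I] P.Quotient)

include hr in
theorem ψ_one_tmul_xB (i : ι) : ψ I P r hr ((1 : A ⧸ I) ⊗ₜ[A] xB I P r i) = P.val i := by
  simp only [ψ, Algebra.TensorProduct.lift_tmul, map_one, one_mul]
  rw [xB, φ_algebraMap, φ₁_mk, aeval_X]

theorem χ_algebraMap (q : MvPolynomial ι (A ⧸ I)) :
    χ I P r hr (algebraMap P.Ring C q) =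
      aeval (R := A ⧸ I) (fun i => (1 : A ⧸ I) ⊗ₜ[A] xB I P r i) q := by
  have h1 : (P.quotientEquiv.restrictScalars (A ⧸ I)).symm (algebraMap P.Ring C q) =
      Ideal.Quotient.mk P.ker q := by
    rw [AlgEquiv.symm_apply_eq]
    rfl
  simp only [χ, AlgHom.coe_comp, Function.comp_apply]
  erw [h1]
  rfl

theorem ψ_comp_χ : (ψ I P r hr).comp (χ I P r hr) = AlgHom.id (A ⧸ I) C := by
  ext c
  obtain ⟨q, rfl⟩ := P.algebraMap_surjective c
  simp only [AlgHom.coe_comp, Function.comp_apply, AlgHom.coe_id, id_eq]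
  rw [χ_algebraMap]
  have : (ψ I P r hr).comp (aeval (R := A ⧸ I) (fun i => (1 : A ⧸ I) ⊗ₜ[A] xB I P r i)) =
      aeval (R := A ⧸ I) P.val := by
    apply MvPolynomial.algHom_ext
    intro i
    simp only [AlgHom.coe_comp, Function.comp_apply, aeval_X]
    exact ψ_one_tmul_xB I P r hr i
  have h2 := DFunLike.congr_fun this q
  simp only [AlgHom.coe_comp, Function.comp_apply] at h2
  rw [h2, Algebra.Generators.algebraMap_apply]

theorem χ_comp_ψ : (χ I P r hr).comp (ψ I P r hr) = AlgHom.id (A ⧸ I) _ := by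
  apply Algebra.TensorProduct.ext
  · ext
  · apply IsLocalization.algHom_ext (Submonoid.powers (Δ r P.map P.map_inj))
    apply Ideal.Quotient.algHom_ext
    apply MvPolynomial.algHom_ext
    intro i
    simp only [AlgHom.coe_comp, Function.comp_apply, AlgHom.coe_restrictScalars',
      Algebra.TensorProduct.includeRight_apply, AlgHom.coe_id, id_eq, Ideal.Quotient.mkₐ_eq_mk,
      Algebra.algHom_apply]
    change χ I P r hr (ψ I P r hr ((1 : A ⧸ I) ⊗ₜ[A] xB I P r i)) = (1 : A ⧸ I) ⊗ₜ[A] xB I P r i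
    rw [ψ_one_tmul_xB]
    have : P.val i = algebraMap P.Ring C (X i) := by
      rw [Algebra.Generators.algebraMap_apply, aeval_X]
    rw [this, χ_algebraMap, aeval_X]

/-- The isomorphism `(A/I) ⊗ B ≃ C`. -/
noncomputable def equiv :
    ((A ⧸ I) ⊗[A] Localization.Away (Δ r P.map P.map_inj)) ≃ₐ[A ⧸ I] C :=
  AlgEquiv.ofAlgHom (ψ I P r hr) (χ I P r hr) (ψ_comp_χ I P r hr) (χ_comp_ψ I P r hr)

end Iso

/-- Global lifting of étale algebras along `A → A/I` (Stacks 04D1). -/
theorem exists_etale_lift (A : Type u) [CommRing A] (I : Ideal A) (C : Type u) [CommRing C]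
    [Algebra (A ⧸ I) C] [Algebra.Etale (A ⧸ I) C] :
    ∃ (B : Type u) (_ : CommRing B) (_ : Algebra A B), Algebra.Etale A B ∧
      Nonempty (((A ⧸ I) ⊗[A] B) ≃ₐ[A ⧸ I] C) := by
  obtain ⟨ι, σ, _, _, P, hP⟩ :=
    (Algebra.Etale.iff_isStandardSmoothOfRelativeDimension_zero.mp
      (inferInstance : Algebra.Etale (A ⧸ I) C)).out
  letI : Algebra A C := ((algebraMap (A ⧸ I) C).comp (Ideal.Quotient.mk I)).toAlgebra
  haveI : IsScalarTower A (A ⧸ I) C := IsScalarTower.of_algebraMap_eq' rfl
  have hsurj := MvPolynomial.map_surjective (σ := ι) (Ideal.Quotient.mk I)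
    Ideal.Quotient.mk_surjective
  choose r hr using fun j => hsurj (P.relation j)
  have hcard : Nat.card ι = Nat.card σ := by
    have h1 : Nat.card σ ≤ Nat.card ι :=
      Algebra.PreSubmersivePresentation.card_relations_le_card_vars_of_isFinite
        P.toPreSubmersivePresentation
    have h2 : Nat.card ι - Nat.card σ = 0 := hP
    omega
  exact ⟨Localization.Away (Δ r P.map P.map_inj), inferInstance, inferInstance,
    etale_away r P.map P.map_inj hcard, ⟨equiv I P r hr⟩⟩

end Groth.Agent.Helper3.GlobalLift
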