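import Mathlib

/-!
Principal open neighbourhoods of a closed subset `V(K)` of `Spec R`, of the form `D(j)` with
`j ≡ 1 mod K`, and the fact that `R/K → R_j/K R_j` is bijective for such `j`.
-/

namespace Groth.Agent.Helper3.NearClosed

universe u

/-- An open set containing `V(K)` contains some `D(j)` with `j ≡ 1` modulo `K`. -/
theorem exists_sub_one_mem_basicOpen_subset {R : Type*} [CommRing R] (K : Ideal R)
    (U : Set (PrimeSpectrum R)) (hU : IsOpen U) (h : PrimeSpectrum.zeroLocus (K : Set R) ⊆ U) :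
    ∃ j : R, j - 1 ∈ K ∧ (PrimeSpectrum.basicOpen j : Set (PrimeSpectrum R)) ⊆ U := by
  obtain ⟨J, hJ⟩ := (PrimeSpectrum.isClosed_iff_zeroLocus_ideal _).1 hU.isClosed_compl
  have htop : K ⊔ J = ⊤ := by
    rw [← PrimeSpectrum.zeroLocus_empty_iff_eq_top, PrimeSpectrum.zeroLocus_sup, ← hJ]
    rw [Set.eq_empty_iff_forall_notMem]
    rintro x ⟨hx1, hx2⟩
    exact hx2 (h hx1)
  have h1 : (1 : R) ∈ K ⊔ J := by rw [htop]; trivial
  obtain ⟨k, hk, j, hj, hkj⟩ := Submodule.mem_sup.1 h1
  refine ⟨j, ?_, ?_⟩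
  · have : j - 1 = -k := by rw [← hkj]; ring
    rw [this]; exact K.neg_mem hk
  · intro q hq
    by_contra hqU
    have : q ∈ PrimeSpectrum.zeroLocus (J : Set R) := by rw [← hJ]; exact hqU
    exact hq (this hj)

/-- If `j ≡ 1` modulo `K` then `R/K → R_j/K R_j` is bijective. -/
theorem quotientMap_away_bijective {R : Type*} [CommRing R] (K : Ideal R) (j : R)
    (hj : j - 1 ∈ K) (T : Type*) [CommRing T] [Algebra R T] [IsLocalization.Away j T] :
    Function.Bijective (Ideal.quotientMap (K.map (algebraMap R T)) (algebraMap R T)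
      Ideal.le_comap_map) := by
  have hpow : ∀ n : ℕ, j ^ n - 1 ∈ K := by
    intro n
    induction n with
    | zero => simp
    | succ n ih =>
      have : j ^ (n + 1) - 1 = j ^ n * (j - 1) + (j ^ n - 1) := by ring
      rw [this]
      exact K.add_mem (K.mul_mem_left _ hj) ih
  constructor
  · rw [injective_iff_map_eq_zero]
    intro x hx
    obtain ⟨x, rfl⟩ := Ideal.Quotient.mk_surjective x
    rw [Ideal.quotientMap_mk, Ideal.Quotient.eq_zero_iff_mem,
      IsLocalization.mem_map_algebraMap_iff (Submonoid.powers j)] at hx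
    obtain ⟨⟨⟨k, hk⟩, ⟨_, n, rfl⟩⟩, hx⟩ := hx
    simp only at hx
    rw [← map_mul] at hx
    obtain ⟨⟨_, m, rfl⟩, hc⟩ := (IsLocalization.eq_iff_exists (Submonoid.powers j) T).1 hx
    simp only at hc
    rw [Ideal.Quotient.eq_zero_iff_mem]
    have h1 : j ^ m * (x * j ^ n) ∈ K := by rw [hc]; exact K.mul_mem_left _ hk
    have h2 : x = j ^ m * (x * j ^ n) - x * (j ^ (m + n) - 1) := by ring
    rw [h2]
    exact K.sub_mem h1 (K.mul_mem_left _ (hpow _))
  · intro y
    obtain ⟨y, rfl⟩ := Ideal.Quotient.mk_surjective y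
    obtain ⟨x, ⟨_, n, rfl⟩, rfl⟩ := IsLocalization.exists_mk'_eq (Submonoid.powers j) y
    refine ⟨Ideal.Quotient.mk _ x, ?_⟩
    rw [Ideal.quotientMap_mk, Ideal.Quotient.eq]
    set s : Submonoid.powers j := ⟨j ^ n, n, rfl⟩ with hs
    have : algebraMap R T x - IsLocalization.mk' T x s =
        IsLocalization.mk' T x s * algebraMap R T (j ^ n - 1) := by
      have h := IsLocalization.mk'_spec T x s
      simp only [hs] at h
      rw [map_sub, map_one, mul_sub, h, mul_one]
    rw [this]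
    exact Ideal.mul_mem_left _ _ (Ideal.mem_map_of_mem _ (hpow n))

end Groth.Agent.Helper3.NearClosed
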