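import Groth.Agent.Helper3.HensQF2

/-!
Zariski's main theorem near a finite part of `V(IB)` (S9313).
-/

namespace Groth.Agent.Helper3.ZMTNear

universe u

section Good

variable (A : Type*) {B : Type*} [CommRing A] [CommRing B] [Algebra A B]

/-- `r` is good if `B[1/r]` is integral over `A` "up to powers of `r`". -/
def Good (r : B) : Prop := ∀ x : B, ∃ m : ℕ, IsIntegral A (r ^ m * x)

variable {A}

theorem Good.isIntegral {r : B} (h : Good A r) : IsIntegral A r := by
  obtain ⟨m, hm⟩ := h r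
  rw [← pow_succ] at hm
  exact IsIntegral.of_pow (Nat.succ_pos m) hm

theorem Good.mul_right {r s : B} (h : Good A r) (hs : IsIntegral A s) : Good A (r * s) := by
  intro x
  obtain ⟨m, hm⟩ := h x
  refine ⟨m, ?_⟩
  have : (r * s) ^ m * x = (r ^ m * x) * s ^ m := by rw [mul_pow]; ring
  rw [this]
  exact hm.mul (hs.pow m)

theorem Good.pow_mul {r : B} (h : Good A r) {m : ℕ} {x : B} (hm : IsIntegral A (r ^ m * x))
    (k : ℕ) : IsIntegral A (r ^ (m + k) * x) := by
  have : r ^ (m + k) * x = r ^ k * (r ^ m * x) := by rw [pow_add]; ring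
  rw [this]
  exact (h.isIntegral.pow k).mul hm

theorem Good.zero : Good A (0 : B) := fun x => ⟨1, by simpa using isIntegral_zero⟩

theorem Good.add {r₁ r₂ : B} (h₁ : Good A r₁) (h₂ : Good A r₂) : Good A (r₁ + r₂) := by
  intro x
  obtain ⟨m₁, hm₁⟩ := h₁ x
  obtain ⟨m₂, hm₂⟩ := h₂ x
  refine ⟨m₁ + m₂, ?_⟩
  rw [add_pow, Finset.sum_mul]
  refine IsIntegral.sum _ fun k hk => ?_
  have hk' : k ≤ m₁ + m₂ := Nat.lt_succ_iff.1 (Finset.mem_range.1 hk)
  have hc : IsIntegral A (((m₁ + m₂).choose k : ℕ) : B) := isIntegral_natCast _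
  rcases le_or_gt m₁ k with hle | hlt
  · obtain ⟨j, rfl⟩ := Nat.exists_eq_add_of_le hle
    have : r₁ ^ (m₁ + j) * r₂ ^ (m₁ + m₂ - (m₁ + j)) * ((m₁ + m₂).choose (m₁ + j) : ℕ) * x =
        r₂ ^ (m₁ + m₂ - (m₁ + j)) * ((m₁ + m₂).choose (m₁ + j) : ℕ) * (r₁ ^ (m₁ + j) * x) := by
      ring
    rw [this]
    exact ((h₂.isIntegral.pow _).mul hc).mul (h₁.pow_mul hm₁ j)
  · have hge : m₂ ≤ m₁ + m₂ - k := by omega
    obtain ⟨j, hj⟩ := Nat.exists_eq_add_of_le hge
    rw [hj]
    have : r₁ ^ k * r₂ ^ (m₂ + j) * ((m₁ + m₂).choose k : ℕ) * x =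
        r₁ ^ k * ((m₁ + m₂).choose k : ℕ) * (r₂ ^ (m₂ + j) * x) := by ring
    rw [this]
    exact ((h₁.isIntegral.pow _).mul hc).mul (h₂.pow_mul hm₂ j)

/-- For good `r` and any `b`, `r^m b` is good for some `m`. -/
theorem Good.exists_pow_mul {r : B} (h : Good A r) (b : B) : ∃ m : ℕ, Good A (r ^ m * b) := by
  obtain ⟨m, hm⟩ := h b
  refine ⟨m + 1, ?_⟩
  have : r ^ (m + 1) * b = r * (r ^ m * b) := by rw [pow_succ]; ring
  rw [this]
  exact h.mul_right hm

variable (A B)

/-- The ideal of good elements in the integral closure. -/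
def goodIdeal : Ideal (integralClosure A B) where
  carrier := {r | Good A (r : B)}
  add_mem' := fun h₁ h₂ => Good.add h₁ h₂
  zero_mem' := Good.zero
  smul_mem' := fun c r hr => by
    change Good A ((c * r : integralClosure A B) : B)
    have : ((c * r : integralClosure A B) : B) = (r : B) * (c : B) := by
      rw [mul_comm]; rfl
    rw [this]
    exact Good.mul_right hr c.2

theorem mem_goodIdeal {r : integralClosure A B} : r ∈ goodIdeal A B ↔ Good A (r : B) := Iff.rfl

end Good

/-- Quasi-finiteness at a prime of `B/IB` lifts to `B`. -/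
theorem qfAt_of_quot {A B : Type u} [CommRing A] [CommRing B] [Algebra A B]
    [Algebra.FiniteType A B] (I : Ideal A) (J : Ideal B) (hJ : J = I.map (algebraMap A B))
    (qbar : Ideal (B ⧸ J)) [hqb : qbar.IsPrime]
    [hqf : Algebra.QuasiFiniteAt A qbar] (q : Ideal B) [hq : q.IsPrime]
    (hqq : q = qbar.comap (Ideal.Quotient.mk J)) :
    Algebra.QuasiFiniteAt A q := by
  have hft : Algebra.FiniteType A (B ⧸ J) :=
    Algebra.FiniteType.of_surjective (Ideal.Quotient.mkₐ A J) Ideal.Quotient.mk_surjective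
  let Qb : PrimeSpectrum (B ⧸ J) := ⟨qbar, hqb⟩
  let Q : PrimeSpectrum B := ⟨q, hq⟩
  have hopen := (Algebra.quasiFiniteAt_iff_isOpen_singleton_fiber (R := A) Qb).1 hqf
  refine (Algebra.quasiFiniteAt_iff_isOpen_singleton_fiber (R := A) Q).2 ?_
  obtain ⟨W', hW', hW'eq⟩ := isOpen_induced_iff.1 hopen
  let ι : PrimeSpectrum (B ⧸ J) → PrimeSpectrum B := PrimeSpectrum.comap (Ideal.Quotient.mk J)
  have hemb : Topology.IsClosedEmbedding ι :=
    PrimeSpectrum.isClosedEmbedding_comap_of_surjective _ _ Ideal.Quotient.mk_surjective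
  obtain ⟨W, hW, hWW'⟩ := hemb.isInducing.isOpen_iff.1 hW'
  have hιQ : ι Qb = Q := by
    apply PrimeSpectrum.ext
    exact hqq.symm
  rw [isOpen_induced_iff]
  refine ⟨W, hW, ?_⟩
  ext ⟨x, hx⟩
  simp only [Set.mem_preimage, Set.mem_singleton_iff]
  -- `x` contains `J`
  have hIp : ∀ i ∈ I, algebraMap A B i ∈ x.asIdeal := by
    intro i hi
    have h1 : PrimeSpectrum.comap (algebraMap A B) x = PrimeSpectrum.comap (algebraMap A B) Q := hx
    have h2 : algebraMap A B i ∈ Q.asIdeal := by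
      change algebraMap A B i ∈ q
      rw [hqq, Ideal.mem_comap]
      have : Ideal.Quotient.mk J (algebraMap A B i) = 0 :=
        Ideal.Quotient.eq_zero_iff_mem.2 (hJ ▸ Ideal.mem_map_of_mem _ hi)
      rw [this]; exact qbar.zero_mem
    have h3 : i ∈ (PrimeSpectrum.comap (algebraMap A B) Q).asIdeal := h2
    rw [← h1] at h3
    exact h3
  have hJx : J ≤ x.asIdeal := by
    rw [hJ, Ideal.map_le_iff_le_comap]
    exact fun i hi => hIp i hi
  have hxrange : x ∈ Set.range ι := by
    rw [_root_.range_comap_of_surjective _ _ Ideal.Quotient.mk_surjective,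
      PrimeSpectrum.mem_zeroLocus, Ideal.mk_ker]
    exact hJx
  obtain ⟨xb, hxb'⟩ := hxrange
  have hxb : xb ∈ PrimeSpectrum.comap (algebraMap A (B ⧸ J)) ⁻¹'
      {PrimeSpectrum.comap (algebraMap A (B ⧸ J)) Qb} := by
    change PrimeSpectrum.comap (algebraMap A (B ⧸ J)) xb =
      PrimeSpectrum.comap (algebraMap A (B ⧸ J)) Qb
    have h1 : PrimeSpectrum.comap (algebraMap A B) (ι xb) =
        PrimeSpectrum.comap (algebraMap A B) (ι Qb) := by
      rw [hxb', hιQ]; exact hx
    exact h1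
  have hmem := Set.ext_iff.1 hW'eq ⟨xb, hxb⟩
  simp only [Set.mem_preimage, Set.mem_singleton_iff] at hmem
  have h5 : x ∈ W ↔ xb ∈ W' := by
    rw [← hWW', ← hxb']; rfl
  rw [h5, hmem]
  constructor
  · intro h
    have h6 : xb = Qb := congrArg Subtype.val h
    apply Subtype.ext
    change x = Q
    rw [← hxb', h6, hιQ]
  · intro h
    have h6 : x = Q := congrArg Subtype.val h
    apply Subtype.ext
    change xb = Qb
    exact hemb.injective (by rw [hxb', hιQ, h6])

/-- There is a good element restricting to `1` on the finite part. -/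
theorem exists_good_one (A B : Type u) [CommRing A] [CommRing B]
    [Algebra A B] [Algebra.FiniteType A B] (I : Ideal A) (J : Ideal B)
    (hJ : J = I.map (algebraMap A B)) (e : B ⧸ J)
    (he : IsIdempotentElem e)
    (hfinA : Module.Finite A ((B ⧸ J) ⧸ Ideal.span {1 - e})) :
    ∃ g₀ : integralClosure A B, Good A (g₀ : B) ∧
      Ideal.Quotient.mk (Ideal.span {1 - e}) (Ideal.Quotient.mk J (g₀ : B)) = 1 := by
  have hintA : Algebra.IsIntegral A ((B ⧸ J) ⧸ Ideal.span {1 - e}) :=
    Algebra.IsIntegral.of_finite A _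
  have hintB' : Algebra.IsIntegral (integralClosure A B) ((B ⧸ J) ⧸ Ideal.span {1 - e}) :=
    ⟨fun c => (Algebra.IsIntegral.isIntegral (R := A) c).tower_top⟩
  have halg : ∀ r : integralClosure A B,
      algebraMap (integralClosure A B) ((B ⧸ J) ⧸ Ideal.span {1 - e}) r =
        Ideal.Quotient.mk (Ideal.span {1 - e}) (Ideal.Quotient.mk J (r : B)) := fun r => rfl
  by_contra hcon
  push Not at hcon
  have hne : RingHom.ker (algebraMap (integralClosure A B) ((B ⧸ J) ⧸ Ideal.span {1 - e})) ⊔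
      goodIdeal A B ≠ ⊤ := by
    intro htop
    have h1 : (1 : integralClosure A B) ∈
        RingHom.ker (algebraMap (integralClosure A B) ((B ⧸ J) ⧸ Ideal.span {1 - e})) ⊔
          goodIdeal A B := by rw [htop]; trivial
    obtain ⟨k, hk, g, hg, hkg⟩ := Submodule.mem_sup.1 h1
    refine hcon g hg ?_
    rw [← halg, ← sub_eq_zero]
    have : algebraMap (integralClosure A B) ((B ⧸ J) ⧸ Ideal.span {1 - e}) g - 1 =
        - algebraMap (integralClosure A B) ((B ⧸ J) ⧸ Ideal.span {1 - e}) k := by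
      rw [← map_one (algebraMap (integralClosure A B) ((B ⧸ J) ⧸ Ideal.span {1 - e})), ← hkg,
        map_add]
      ring
    rw [this, RingHom.mem_ker.1 hk, neg_zero]
  obtain ⟨𝔪, h𝔪, hle⟩ := Ideal.exists_le_maximal _ hne
  have h𝔪p : 𝔪.IsPrime := h𝔪.isPrime
  obtain ⟨Q, -, hQ, hQ𝔪⟩ := Ideal.exists_ideal_over_prime_of_isIntegral 𝔪
    (⊥ : Ideal ((B ⧸ J) ⧸ Ideal.span {1 - e}))
    (by rw [← RingHom.ker_eq_comap_bot]; exact le_sup_left.trans hle)
  have hqfC : Algebra.QuasiFiniteAt A Q :=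
    Algebra.QuasiFinite.of_isLocalization (S := (B ⧸ J) ⧸ Ideal.span {1 - e}) Q.primeCompl
  have hftJ : Algebra.FiniteType A (B ⧸ J) :=
    Algebra.FiniteType.of_surjective (Ideal.Quotient.mkₐ A J) Ideal.Quotient.mk_surjective
  set qbar : Ideal (B ⧸ J) := Q.comap (Ideal.Quotient.mk (Ideal.span {1 - e})) with hqbar
  have hqbarp : qbar.IsPrime := Ideal.comap_isPrime _ _
  have hqf1 : Algebra.QuasiFiniteAt A qbar :=
    HensQF.qfAt_of_quot_idem (R := A) (1 - e) he.one_sub Q qbar rfl
  set q : Ideal B := qbar.comap (Ideal.Quotient.mk J) with hq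
  have hqp : q.IsPrime := Ideal.comap_isPrime _ _
  have hqf2 : Algebra.QuasiFiniteAt A q := qfAt_of_quot I J hJ qbar q rfl
  obtain ⟨r, hrq, hr⟩ := Algebra.zariskisMainProperty_iff'.1
    (Algebra.ZariskisMainProperty.of_finiteType (R := A) q)
  have hrgood : Good A r := hr
  have hmem : (⟨r, hrgood.isIntegral⟩ : integralClosure A B) ∈ 𝔪 :=
    hle (Ideal.mem_sup_right hrgood)
  rw [← hQ𝔪, Ideal.mem_comap, halg] at hmem
  exact hrq hmem

/-- Bijectivity of `B'_g → B_g` for good `g`. -/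
theorem bijective_of_good {A B : Type*} [CommRing A] [CommRing B] [Algebra A B]
    (g : integralClosure A B) (hg : Good A (g : B)) :
    Function.Bijective (algebraMap (Localization.Away g)
      (Localization (Algebra.algebraMapSubmonoid B (Submonoid.powers g)))) := by
  refine ⟨localizationAlgebra_injective _ _ Subtype.val_injective, fun y => ?_⟩
  obtain ⟨b, ⟨s, hs⟩, rfl⟩ := IsLocalization.exists_mk'_eq
    (Algebra.algebraMapSubmonoid B (Submonoid.powers g)) y
  obtain ⟨t, ⟨k, rfl⟩, rfl⟩ := hs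
  obtain ⟨m, hm⟩ := hg b
  let w : integralClosure A B := ⟨(g : B) ^ m * b, hm⟩
  have hmapeq : ∀ x : integralClosure A B,
      algebraMap (Localization.Away g)
        (Localization (Algebra.algebraMapSubmonoid B (Submonoid.powers g)))
        (algebraMap _ (Localization.Away g) x) =
      algebraMap B (Localization (Algebra.algebraMapSubmonoid B (Submonoid.powers g))) (x : B) := by
    intro x
    rw [localizationAlgebraMap_def, IsLocalization.map_eq]
    rfl
  set LB := Localization (Algebra.algebraMapSubmonoid B (Submonoid.powers g)) with hLB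
  obtain ⟨u, hu⟩ := IsLocalization.Away.algebraMap_isUnit (S := Localization.Away g) g
  refine ⟨algebraMap _ (Localization.Away g) w * ↑(u⁻¹ ^ (m + k)), ?_⟩
  have hU : algebraMap (Localization.Away g) LB ↑u = algebraMap B LB (g : B) := by
    rw [hu, hmapeq]
  have hUV : algebraMap B LB (g : B) * algebraMap (Localization.Away g) LB ↑u⁻¹ = 1 := by
    rw [← hU, ← map_mul, Units.mul_inv, map_one]
  have hw : algebraMap (Localization.Away g) LB (algebraMap _ (Localization.Away g) w) =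
      algebraMap B LB (g : B) ^ m * algebraMap B LB b := by
    rw [hmapeq]
    change algebraMap B LB ((g : B) ^ m * b) = _
    rw [map_mul, map_pow]
  have hspec := IsLocalization.mk'_spec LB b
    (⟨algebraMap _ B (g ^ k), g ^ k, ⟨k, rfl⟩, rfl⟩ :
      Algebra.algebraMapSubmonoid B (Submonoid.powers g))
  simp only at hspec
  set Y := IsLocalization.mk' LB b
    (⟨algebraMap _ B (g ^ k), g ^ k, ⟨k, rfl⟩, rfl⟩ :
      Algebra.algebraMapSubmonoid B (Submonoid.powers g)) with hY
  have hgk : algebraMap B LB (algebraMap (integralClosure A B) B (g ^ k)) =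
      algebraMap B LB (g : B) ^ k := by
    rw [← map_pow]; rfl
  rw [hgk] at hspec
  rw [map_mul, hw, Units.val_pow_eq_pow_val, map_pow, ← hspec]
  set U := algebraMap B LB (g : B)
  set V := algebraMap (Localization.Away g) LB ↑u⁻¹
  calc U ^ m * (Y * U ^ k) * V ^ (m + k) = Y * (U * V) ^ (m + k) := by
        rw [mul_pow, pow_add, pow_add]; ring
    _ = Y := by rw [hUV, one_pow, mul_one]

/-- An element with `x^m (x^2 - x) = 0` has idempotent power `x^(m+1)`. -/
theorem isIdempotentElem_pow_of_mul_eq_zero {R : Type*} [CommRing R] (x : R) (m : ℕ)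
    (h : x ^ m * (x * x - x) = 0) : IsIdempotentElem (x ^ (m + 1)) := by
  have h1 : x ^ (m + 2) = x ^ (m + 1) := by
    have : x ^ (m + 2) - x ^ (m + 1) = x ^ m * (x * x - x) := by ring
    rw [← sub_eq_zero, this, h]
  have h2 : ∀ k : ℕ, x ^ (m + 1 + k) = x ^ (m + 1) := by
    intro k
    induction k with
    | zero => rfl
    | succ k ih =>
      calc x ^ (m + 1 + (k + 1)) = x ^ (m + 2) * x ^ k := by rw [← pow_add]; congr 1; omega
        _ = x ^ (m + 1) * x ^ k := by rw [h1]
        _ = x ^ (m + 1 + k) := by rw [← pow_add]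
        _ = x ^ (m + 1) := ih
  change x ^ (m + 1) * x ^ (m + 1) = x ^ (m + 1)
  rw [← pow_add, h2]

/-- S9313. -/
theorem main (A B : Type u) [CommRing A] [CommRing B]
    [Algebra A B] [Algebra.FiniteType A B] (I : Ideal A) (e : B ⧸ Ideal.map (algebraMap A B) I)
    (he : IsIdempotentElem e)
    (hfin : Module.Finite (A ⧸ I) ((B ⧸ Ideal.map (algebraMap A B) I) ⧸ Ideal.span {1 - e})) :
    ∃ g : integralClosure A B, Good A (g : B) ∧
      IsIdempotentElem (Ideal.Quotient.mk (Ideal.map (algebraMap A (integralClosure A B)) I) g) ∧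
      Ideal.Quotient.mk (Ideal.map (algebraMap A B) I) (g : B) = e := by
  have hfinA : Module.Finite A ((B ⧸ Ideal.map (algebraMap A B) I) ⧸ Ideal.span {1 - e}) :=
    Module.Finite.trans (A ⧸ I) _
  obtain ⟨g₀, hg₀, hg₀1⟩ := exists_good_one A B I _ rfl e he hfinA
  obtain ⟨et, het⟩ := Ideal.Quotient.mk_surjective e
  have h1 : e * Ideal.Quotient.mk (I.map (algebraMap A B)) (g₀ : B) = e := by
    have hmem : Ideal.Quotient.mk (I.map (algebraMap A B)) (g₀ : B) - 1 ∈
        Ideal.span {1 - e} := by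
      rw [← Ideal.Quotient.eq, hg₀1, map_one]
    obtain ⟨y, hy⟩ := Ideal.mem_span_singleton'.1 hmem
    have h0 : e * (Ideal.Quotient.mk (I.map (algebraMap A B)) (g₀ : B) - 1) = 0 := by
      rw [← hy]
      calc e * (y * (1 - e)) = y * (e - e * e) := by ring
        _ = 0 := by rw [he.eq, sub_self, mul_zero]
    linear_combination h0
  have h1' : ∀ k : ℕ, e * Ideal.Quotient.mk (I.map (algebraMap A B)) (g₀ : B) ^ k = e := by
    intro k
    induction k with
    | zero => rw [pow_zero, mul_one]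
    | succ k ih => rw [pow_succ, ← mul_assoc, ih, h1]
  obtain ⟨m₁, hm₁⟩ := hg₀.exists_pow_mul et
  set g : B := (g₀ : B) ^ m₁ * et with hg
  have hgimg : Ideal.Quotient.mk (I.map (algebraMap A B)) g = e := by
    rw [hg, map_mul, map_pow, het, mul_comm, h1']
  have hgg : g * g - g ∈ I.map (algebraMap A B) := by
    rw [← Ideal.Quotient.eq, map_mul, hgimg]
    exact he
  let gB : integralClosure A B := ⟨g, hm₁.isIntegral⟩
  -- the key claim
  have key : ∀ z ∈ I.map (algebraMap A B), ∃ (m : ℕ) (w : integralClosure A B),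
      w ∈ I.map (algebraMap A (integralClosure A B)) ∧ (w : B) = g ^ m * z := by
    intro z hz
    refine Submodule.span_induction (p := fun z _ => ∃ (m : ℕ) (w : integralClosure A B),
      w ∈ I.map (algebraMap A (integralClosure A B)) ∧ (w : B) = g ^ m * z) ?_ ?_ ?_ ?_ hz
    · rintro _ ⟨i, hi, rfl⟩
      exact ⟨0, algebraMap A _ i, Ideal.mem_map_of_mem _ hi, by rw [pow_zero, one_mul]; rfl⟩
    · exact ⟨0, 0, Ideal.zero_mem _, by simp⟩
    · rintro z₁ z₂ - - ⟨m₁, w₁, hw₁, e₁⟩ ⟨m₂, w₂, hw₂, e₂⟩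
      refine ⟨m₁ + m₂, gB ^ m₂ * w₁ + gB ^ m₁ * w₂,
        Ideal.add_mem _ (Ideal.mul_mem_left _ _ hw₁) (Ideal.mul_mem_left _ _ hw₂), ?_⟩
      change g ^ m₂ * (w₁ : B) + g ^ m₁ * (w₂ : B) = _
      rw [e₁, e₂, pow_add]; ring
    · rintro b z - ⟨m, w, hw, e₁⟩
      obtain ⟨m₀, hm₀⟩ := hm₁ b
      let s : integralClosure A B := ⟨g ^ m₀ * b, hm₀⟩
      refine ⟨m₀ + m, s * w, Ideal.mul_mem_left _ _ hw, ?_⟩
      change (g ^ m₀ * b) * (w : B) = _
      rw [e₁, pow_add, smul_eq_mul]; ring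
  obtain ⟨m, w, hw, hwz⟩ := key _ hgg
  set x := Ideal.Quotient.mk (I.map (algebraMap A (integralClosure A B))) gB with hx
  have hx0 : x ^ m * (x * x - x) = 0 := by
    rw [hx, ← map_mul, ← map_sub, ← map_pow, ← map_mul, Ideal.Quotient.eq_zero_iff_mem]
    have : gB ^ m * (gB * gB - gB) = w := by
      apply Subtype.ext
      rw [hwz]
      rfl
    rw [this]
    exact hw
  have hidem := isIdempotentElem_pow_of_mul_eq_zero x m hx0
  refine ⟨gB ^ (m + 1), ?_, ?_, ?_⟩
  · change Good A (g ^ (m + 1))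
    rw [pow_succ']
    exact hm₁.mul_right (hm₁.isIntegral.pow m)
  · rw [map_pow]
    exact hidem
  · change Ideal.Quotient.mk (I.map (algebraMap A B)) (g ^ (m + 1)) = e
    rw [map_pow, hgimg, he.pow_succ_eq]

end Groth.Agent.Helper3.ZMTNear
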