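import Mathlib
import Groth.Agent.Helper3.HensRows
import Groth.Agent.Helper3.ZMTNear
import Groth.Agent.Helper3.NearClosed
import Groth.Agent.Helper3.GlobalLift

universe u
open scoped TensorProduct

namespace Groth.Agent.Helper3.FinPart

open Groth.Agent.Helper3.ZMTNear Groth.Agent.Helper3.HensTFAE

/-- Finite part over a henselian pair: if `B` is of finite type over `A` and `B/IB` is finite, there
is `h ≡ 1 mod IB` with `B_h` finite over `A`. -/
theorem exists_finite_away (A : Type u) [CommRing A] (I : Ideal A) [hA : HenselianRing A I]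
    (B : Type u) [CommRing B] [Algebra A B] [Algebra.FiniteType A B]
    (hfin : Module.Finite (A ⧸ I) (B ⧸ I.map (algebraMap A B))) :
    ∃ h : B, h - 1 ∈ I.map (algebraMap A B) ∧ Module.Finite A (Localization.Away h) := by
  have hfin' : Module.Finite (A ⧸ I) ((B ⧸ I.map (algebraMap A B)) ⧸
      Ideal.span {1 - (1 : B ⧸ I.map (algebraMap A B))}) :=
    Module.Finite.of_surjective
      ((Ideal.Quotient.mkₐ (A ⧸ I)
        (Ideal.span {1 - (1 : B ⧸ I.map (algebraMap A B))})).toLinearMap)
      (Ideal.Quotient.mkₐ_surjective (A ⧸ I) _)
  set J := I.map (algebraMap A B) with hJ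
  obtain ⟨g, hgood, hgidem, hg1⟩ := ZMTNear.main A B I 1 (IsIdempotentElem.one) hfin'
  -- lift the idempotent
  have hbij := (HensRows.hens_iff_integral A I).mp hA (integralClosure A B) inferInstance
  obtain ⟨ε, hε, hεg⟩ := hbij.surjOn hgidem
  have hε' : IsIdempotentElem ε := hε
  rw [Ideal.Quotient.eq] at hεg
  set J'' := I.map (algebraMap A (integralClosure A B)) with hJ''
  -- J'' maps into J
  have hJJ : ∀ x : integralClosure A B, x ∈ J'' → (x : B) ∈ J := by
    intro x hx
    have h1 : J''.map (integralClosure A B).val.toRingHom ≤ J := by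
      rw [hJ'', Ideal.map_map]
      exact le_of_eq rfl
    exact h1 (Ideal.mem_map_of_mem _ hx)
  have hg1' : (g : B) - 1 ∈ J := by
    rw [← Ideal.Quotient.eq, hg1, map_one]
  have hεg' : (ε : B) - (g : B) ∈ J := hJJ (ε - g) hεg
  -- unit
  have hJac := map_le_jacobson_of_isIntegral (B := integralClosure A B) I hA.jac
  have hy : IsUnit (g * ε + (1 - ε)) := by
    have h1 : ε * (g - ε) ∈ J'' := by
      have : g - ε = -(ε - g) := by ring
      rw [this]
      exact J''.mul_mem_left _ (J''.neg_mem hεg)
    have h2 := (Ideal.mem_jacobson_bot.mp (hJac h1)) 1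
    have : ε * (g - ε) * 1 + 1 = g * ε + (1 - ε) := by
      have := hε'.eq
      linear_combination -this
    rwa [this] at h2
  obtain ⟨u, hu⟩ := hy.exists_right_inv
  have hgu : g * ε * u = ε := by
    have h3 : ε * ((g * ε + (1 - ε)) * u) = ε := by rw [hu, mul_one]
    have := hε'.eq
    linear_combination h3 + (-(g * u) + u) * this
  refine ⟨((g * ε : integralClosure A B) : B), ?_, ?_⟩
  · have : ((g * ε : integralClosure A B) : B) - 1 =
        (g : B) * ((ε : B) - (g : B)) + (g : B) * ((g : B) - 1) + ((g : B) - 1) := by
      push_cast; ring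
    rw [this]
    exact J.add_mem (J.add_mem (J.mul_mem_left _ hεg') (J.mul_mem_left _ hg1')) hg1'
  · set h : B := ((g * ε : integralClosure A B) : B) with hh
    have hgoodh : Good A h := by
      rw [hh]; push_cast
      exact Good.mul_right hgood ε.2
    have hint : Algebra.IsIntegral A (Localization.Away h) := by
      refine ⟨fun x => ?_⟩
      obtain ⟨n, b, hb⟩ := IsLocalization.Away.surj h x
      obtain ⟨m, hm⟩ := hgoodh b
      -- x = (h^m b) u^(m+n)
      have hu1 : algebraMap B (Localization.Away h) h * algebraMap B (Localization.Away h) (u : B) = 1 := by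
        have hunit : IsUnit (algebraMap B (Localization.Away h) h) :=
          IsLocalization.Away.algebraMap_isUnit h
        have hε1 : algebraMap B (Localization.Away h) (ε : B) = 1 := by
          have h5 : algebraMap B (Localization.Away h) h * algebraMap B (Localization.Away h) (ε : B) =
              algebraMap B (Localization.Away h) h := by
            rw [← map_mul]
            congr 1
            rw [hh]
            have := congrArg (Subtype.val) (show g * ε * ε = g * ε by rw [mul_assoc, hε'.eq])
            simpa using this
          exact (hunit.mul_right_inj).mp (by rw [h5, mul_one])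
        have h6 := congrArg (fun z : integralClosure A B => algebraMap B (Localization.Away h) (z : B)) hgu
        beta_reduce at h6
        have h7 : ((g * ε * u : integralClosure A B) : B) = h * (u : B) := rfl
        rw [h7, map_mul, hε1] at h6
        exact h6
      have hx : x = algebraMap B (Localization.Away h) (h ^ m * b) *
          algebraMap B (Localization.Away h) (u : B) ^ (m + n) := by
        have hupow : algebraMap B (Localization.Away h) h ^ (m + n) *
            algebraMap B (Localization.Away h) (u : B) ^ (m + n) = 1 := by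
          rw [← mul_pow, hu1, one_pow]
        have hunit : IsUnit (algebraMap B (Localization.Away h) h ^ n) :=
          (IsLocalization.Away.algebraMap_isUnit h).pow n
        apply (hunit.mul_left_inj).mp
        rw [hb]
        calc algebraMap B (Localization.Away h) b
            = algebraMap B (Localization.Away h) b * (algebraMap B (Localization.Away h) h ^ (m + n) *
              algebraMap B (Localization.Away h) (u : B) ^ (m + n)) := by rw [hupow, mul_one]
          _ = _ := by rw [map_mul, map_pow, pow_add]; ring
      rw [hx]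
      exact (hm.map (IsScalarTower.toAlgHom A B (Localization.Away h))).mul
        ((u.2.map (IsScalarTower.toAlgHom A B (Localization.Away h))).pow _)
    have hft : Algebra.FiniteType A (Localization.Away h) :=
      Algebra.FiniteType.trans (inferInstance : Algebra.FiniteType A B)
        (IsLocalization.finiteType_of_monoid_fg (Submonoid.powers h) (Localization.Away h))
    exact Algebra.IsIntegral.finite

end Groth.Agent.Helper3.FinPart

namespace Groth.Agent.Helper3.FinPart

/-- Localizing at `h ≡ 1 mod IB` does not change the reduction mod `I`. -/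
theorem tensor_away_bijective {A : Type u} [CommRing A] (I : Ideal A) (B : Type u) [CommRing B]
    [Algebra A B] (h : B) (hh : h - 1 ∈ I.map (algebraMap A B)) :
    Function.Bijective (Algebra.TensorProduct.map (AlgHom.id (A ⧸ I) (A ⧸ I))
      (IsScalarTower.toAlgHom A B (Localization.Away h))) := by
  let e₀ := Algebra.TensorProduct.quotIdealMapEquivQuotTensor B I
  let e₁ := Algebra.TensorProduct.quotIdealMapEquivQuotTensor (Localization.Away h) I
  have hq := NearClosed.quotientMap_away_bijective (I.map (algebraMap A B)) h hh (Localization.Away h)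
  have hmapmap : (I.map (algebraMap A B)).map (algebraMap B (Localization.Away h)) =
      I.map (algebraMap A (Localization.Away h)) := by
    rw [Ideal.map_map, ← IsScalarTower.algebraMap_eq]
  let eq := Ideal.quotEquivOfEq hmapmap
  have hcomm : ∀ x : B ⧸ I.map (algebraMap A B),
      Algebra.TensorProduct.map (AlgHom.id (A ⧸ I) (A ⧸ I))
        (IsScalarTower.toAlgHom A B (Localization.Away h)) (e₀ x) =
      e₁ (eq (Ideal.quotientMap ((I.map (algebraMap A B)).map (algebraMap B (Localization.Away h)))
        (algebraMap B (Localization.Away h)) Ideal.le_comap_map x)) := by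
    intro x
    obtain ⟨b, rfl⟩ := Ideal.Quotient.mk_surjective x
    rw [Ideal.quotientMap_mk]
    change Algebra.TensorProduct.map (AlgHom.id (A ⧸ I) (A ⧸ I))
        (IsScalarTower.toAlgHom A B (Localization.Away h))
        (Algebra.TensorProduct.quotIdealMapEquivQuotTensor B I (Ideal.Quotient.mk _ b)) =
      Algebra.TensorProduct.quotIdealMapEquivQuotTensor (Localization.Away h) I
        (Ideal.quotEquivOfEq hmapmap (Ideal.Quotient.mk _ (algebraMap B (Localization.Away h) b)))
    rw [Ideal.quotEquivOfEq_mk]
    change Algebra.TensorProduct.map (AlgHom.id (A ⧸ I) (A ⧸ I))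
        (IsScalarTower.toAlgHom A B (Localization.Away h)) ((1 : A ⧸ I) ⊗ₜ[A] b) =
      (1 : A ⧸ I) ⊗ₜ[A] (algebraMap B (Localization.Away h) b)
    simp
  have : (Algebra.TensorProduct.map (AlgHom.id (A ⧸ I) (A ⧸ I))
      (IsScalarTower.toAlgHom A B (Localization.Away h)) : _ → _) =
      (e₁ ∘ eq ∘ (Ideal.quotientMap ((I.map (algebraMap A B)).map
        (algebraMap B (Localization.Away h))) (algebraMap B (Localization.Away h))
        Ideal.le_comap_map)) ∘ e₀.symm := by
    funext y
    obtain ⟨x, rfl⟩ := e₀.surjective y
    simp only [Function.comp_apply, AlgEquiv.symm_apply_apply]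
    exact hcomm x
  rw [this]
  exact ((e₁.bijective.comp (eq.bijective.comp hq))).comp e₀.symm.bijective

/-- S0532. -/
theorem exists_finite_etale_lift (A : Type u) [CommRing A] (I : Ideal A) [HenselianRing A I]
    (C : Type u) [CommRing C] [Algebra (A ⧸ I) C] [Module.Finite (A ⧸ I) C]
    [Algebra.Etale (A ⧸ I) C] :
    ∃ (B : Type u) (_ : CommRing B) (_ : Algebra A B), Module.Finite A B ∧ Algebra.Etale A B ∧
      Nonempty (TensorProduct A (A ⧸ I) B ≃ₐ[A ⧸ I] C) := by
  obtain ⟨B₀, _, _, hB₀, ⟨e⟩⟩ := GlobalLift.exists_etale_lift A I C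
  have hfin0 : Module.Finite (A ⧸ I) ((A ⧸ I) ⊗[A] B₀) :=
    Module.Finite.equiv e.symm.toLinearEquiv
  have hfin : Module.Finite (A ⧸ I) (B₀ ⧸ I.map (algebraMap A B₀)) :=
    Module.Finite.equiv (Algebra.TensorProduct.quotIdealMapEquivQuotTensor B₀ I).symm.toLinearEquiv
  obtain ⟨h, hh, hfinh⟩ := exists_finite_away A I B₀ hfin
  have : Algebra.Etale A (Localization.Away h) := Algebra.Etale.comp A B₀ (Localization.Away h)
  refine ⟨Localization.Away h, inferInstance, inferInstance, hfinh, inferInstance, ⟨?_⟩⟩
  exact (AlgEquiv.ofBijective _ (tensor_away_bijective I B₀ h hh)).symm.trans e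

end Groth.Agent.Helper3.FinPart
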