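import Mathlib

set_option autoImplicit false
set_option linter.style.haveILetI false
set_option linter.unusedSectionVars false
set_option linter.unusedVariables false
set_option linter.style.haveILetI false
set_option linter.unusedSectionVars false
set_option linter.unusedVariables false

universe u

open TensorProduct IsLocalRing

namespace Groth.Agent.Helper3.FinComp1

section
variable (A : Type u) [CommRing A] [IsLocalRing A] [IsNoetherianRing A]
  [IsAdicComplete (maximalIdeal A) A]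
  (B : Type u) [CommRing B] [Algebra A B] [Module.Finite A B]

/-- a finite module over a complete Noetherian local ring is complete -/
theorem isAdicComplete_module : IsAdicComplete (maximalIdeal A) B := by
  rw [isAdicComplete_iff]
  refine ⟨inferInstance, ?_⟩
  rw [← AdicCompletion.of_surjective_iff]
  intro y
  obtain ⟨t, rfl⟩ := AdicCompletion.ofTensorProduct_surjective_of_finite (maximalIdeal A) B y
  induction t using TensorProduct.induction_on with
  | zero => exact ⟨0, by simp⟩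
  | tmul r x =>
    obtain ⟨a, rfl⟩ := AdicCompletion.of_surjective (maximalIdeal A) A r
    refine ⟨a • x, ?_⟩
    rw [AdicCompletion.ofTensorProduct_tmul]
    ext n
    rw [AdicCompletion.smul_eval]
    rfl
  | add s t hs ht =>
    obtain ⟨a, ha⟩ := hs
    obtain ⟨b, hb⟩ := ht
    exact ⟨a + b, by rw [map_add, map_add, ha, hb]⟩

theorem isAdicComplete_map :
    IsAdicComplete ((maximalIdeal A).map (algebraMap A B)) B :=
  (IsAdicComplete.map_algebraMap_iff (I := maximalIdeal A) (M := B) (S := B)).mpr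
    (isAdicComplete_module A B)

/-- every maximal ideal of `B` contains `𝔪 B` -/
theorem map_le_of_isMaximal (𝔫 : Ideal B) [𝔫.IsMaximal] :
    (maximalIdeal A).map (algebraMap A B) ≤ 𝔫 := by
  haveI : Algebra.IsIntegral A B := Algebra.IsIntegral.of_finite A B
  haveI : (𝔫.comap (algebraMap A B)).IsMaximal :=
    Ideal.isMaximal_comap_of_isIntegral_of_isMaximal 𝔫
  rw [Ideal.map_le_iff_le_comap, ← IsLocalRing.eq_maximalIdeal this]

theorem hausdorff (b : B)
    (h : ∀ n : ℕ, b ∈ ((maximalIdeal A) ^ n).map (algebraMap A B)) : b = 0 := by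
  haveI := isAdicComplete_map A B
  refine IsHausdorff.haus (I := (maximalIdeal A).map (algebraMap A B))
    (inferInstance) b (fun n => ?_)
  rw [SModEq.zero, smul_eq_mul, Ideal.mul_top, ← Ideal.map_pow]
  exact h n

end

section Artinian
variable (R : Type u) [CommRing R] [IsArtinianRing R]

/-- in an Artinian ring every maximal ideal is cut out by an idempotent -/
theorem exists_idempotent_artinian (𝔪 : MaximalSpectrum R) :
    ∃ e : R, IsIdempotentElem e ∧ e ∉ 𝔪.asIdeal ∧
      ∀ 𝔪' : MaximalSpectrum R, 𝔪' ≠ 𝔪 → e ∈ 𝔪'.asIdeal := by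
  classical
  let φ := IsArtinianRing.quotNilradicalEquivPi R
  let ε : R ⧸ nilradical R := φ.symm (Pi.single 𝔪 1)
  have hε : IsIdempotentElem ε := by
    have h1 : IsIdempotentElem (Pi.single 𝔪 (1 : R ⧸ 𝔪.asIdeal) : ∀ I : MaximalSpectrum R, R ⧸ I.asIdeal) := by
      change _ * _ = _
      rw [← Pi.single_mul, one_mul]
    change ε * ε = ε
    rw [← map_mul, h1.eq]
  obtain ⟨e, he, hmk⟩ := exists_isIdempotentElem_eq_of_ker_isNilpotent
    (Ideal.Quotient.mk (nilradical R)) (fun x hx => by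
      rw [RingHom.mem_ker, Ideal.Quotient.eq_zero_iff_mem] at hx
      exact hx) ε (by
        obtain ⟨x, hx⟩ := Ideal.Quotient.mk_surjective ε
        exact ⟨x, hx⟩) hε
  have hφ : ∀ 𝔪' : MaximalSpectrum R, Ideal.Quotient.mk 𝔪'.asIdeal e =
      (Pi.single 𝔪 (1 : R ⧸ 𝔪.asIdeal) : ∀ I : MaximalSpectrum R, R ⧸ I.asIdeal) 𝔪' := by
    intro 𝔪'
    have h1 : φ (Ideal.Quotient.mk (nilradical R) e) = Pi.single 𝔪 1 := by
      rw [hmk]; exact φ.apply_symm_apply _
    rw [← h1]
    rfl
  refine ⟨e, he, ?_, ?_⟩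
  · intro hmem
    have h2 := hφ 𝔪
    rw [Pi.single_eq_same, Ideal.Quotient.eq_zero_iff_mem.mpr hmem] at h2
    haveI := 𝔪.isMaximal
    haveI : Nontrivial (R ⧸ 𝔪.asIdeal) := Ideal.Quotient.nontrivial_iff.mpr (Ideal.IsMaximal.ne_top ‹_›)
    exact zero_ne_one h2
  · intro 𝔪' hne
    have := hφ 𝔪'
    rw [Pi.single_eq_of_ne hne] at this
    exact Ideal.Quotient.eq_zero_iff_mem.mp this

end Artinian

section
variable (A : Type u) [CommRing A] [IsLocalRing A] [IsNoetherianRing A]
  [IsAdicComplete (maximalIdeal A) A]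
  (B : Type u) [CommRing B] [Algebra A B] [Module.Finite A B]

include A in
/-- every maximal ideal of `B` is cut out by an idempotent -/
theorem exists_idempotent (𝔫 : Ideal B) [h𝔫 : 𝔫.IsMaximal] :
    ∃ e : B, IsIdempotentElem e ∧ e ∉ 𝔫 ∧
      ∀ 𝔫' : Ideal B, 𝔫'.IsMaximal → 𝔫' ≠ 𝔫 → e ∈ 𝔫' := by
  classical
  set I := (maximalIdeal A).map (algebraMap A B) with hI
  haveI : IsArtinianRing (B ⧸ I) := by
    letI : Field (A ⧸ maximalIdeal A) := Ideal.Quotient.field _
    haveI : Module.Finite (A ⧸ maximalIdeal A) (B ⧸ I) :=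
      Module.Finite.of_restrictScalars_finite A _ _
    exact IsArtinianRing.of_finite (A ⧸ maximalIdeal A) _
  have hsurj : Function.Surjective (Ideal.Quotient.mk I) := Ideal.Quotient.mk_surjective
  have hcm : ∀ 𝔫' : Ideal B, 𝔫'.IsMaximal → (𝔫'.map (Ideal.Quotient.mk I)).comap (Ideal.Quotient.mk I) = 𝔫' := by
    intro 𝔫' h'
    rw [Ideal.comap_map_of_surjective _ hsurj, ← RingHom.ker_eq_comap_bot, Ideal.mk_ker, sup_eq_left]
    exact map_le_of_isMaximal A B 𝔫'
  have hmax : ∀ 𝔫' : Ideal B, 𝔫'.IsMaximal → (𝔫'.map (Ideal.Quotient.mk I)).IsMaximal := by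
    intro 𝔫' h'
    rcases Ideal.map_eq_top_or_isMaximal_of_surjective (Ideal.Quotient.mk I) hsurj h' with h | h
    · exfalso
      have := hcm 𝔫' h'
      rw [h, Ideal.comap_top] at this
      exact h'.ne_top this.symm
    · exact h
  obtain ⟨ē, hē, hē1, hē2⟩ := exists_idempotent_artinian (B ⧸ I) ⟨𝔫.map (Ideal.Quotient.mk I), hmax 𝔫 h𝔫⟩
  obtain ⟨a₀, rfl⟩ := hsurj ē
  haveI := isAdicComplete_map A B
  haveI : HenselianRing B I := IsAdicComplete.henselianRing B I
  haveI : Nontrivial B := by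
    by_contra h
    rw [not_nontrivial_iff_subsingleton] at h
    exact h𝔫.ne_top (Subsingleton.elim _ _)
  have hf : (Polynomial.X ^ 2 - Polynomial.X : Polynomial B).Monic := by
    apply Polynomial.monic_X_pow_sub
    rw [Polynomial.degree_X]; norm_num
  have h0 : Polynomial.eval a₀ (Polynomial.X ^ 2 - Polynomial.X : Polynomial B) ∈ I := by
    simp only [Polynomial.eval_sub, Polynomial.eval_pow, Polynomial.eval_X]
    rw [← Ideal.Quotient.eq_zero_iff_mem, map_sub, map_pow, sq, hē.eq, sub_self]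
  have hder : Polynomial.eval a₀
      (Polynomial.derivative (Polynomial.X ^ 2 - Polynomial.X : Polynomial B)) = 2 * a₀ - 1 := by
    simp
    ring
  have h1 : IsUnit (Ideal.Quotient.mk I (Polynomial.eval a₀
      (Polynomial.derivative (Polynomial.X ^ 2 - Polynomial.X : Polynomial B)))) := by
    rw [hder]
    have hmul : (Ideal.Quotient.mk I a₀) * (Ideal.Quotient.mk I a₀) = Ideal.Quotient.mk I a₀ := hē.eq
    refine IsUnit.of_mul_eq_one (Ideal.Quotient.mk I (2 * a₀ - 1)) ?_
    simp only [map_sub, map_mul, map_one, map_ofNat]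
    linear_combination 4 * hmul
  obtain ⟨a, ha, haa⟩ := HenselianRing.is_henselian _ hf a₀ h0 h1
  have ha' : IsIdempotentElem a := by
    have : a ^ 2 - a = 0 := by simpa [Polynomial.IsRoot] using ha
    change a * a = a
    linear_combination this
  have hmk : Ideal.Quotient.mk I a = Ideal.Quotient.mk I a₀ := (Ideal.Quotient.eq).mpr haa
  refine ⟨a, ha', ?_, ?_⟩
  · intro hmem
    apply hē1
    change Ideal.Quotient.mk I a₀ ∈ 𝔫.map (Ideal.Quotient.mk I)
    rw [← hmk]
    exact Ideal.mem_map_of_mem _ hmem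
  · intro 𝔫' h' hne
    have hne' : (⟨𝔫'.map (Ideal.Quotient.mk I), hmax 𝔫' h'⟩ : MaximalSpectrum (B ⧸ I)) ≠
        ⟨𝔫.map (Ideal.Quotient.mk I), hmax 𝔫 h𝔫⟩ := by
      intro heq
      apply hne
      have h2 : 𝔫'.map (Ideal.Quotient.mk I) = 𝔫.map (Ideal.Quotient.mk I) :=
        congrArg MaximalSpectrum.asIdeal heq
      rw [← hcm 𝔫' h', ← hcm 𝔫 h𝔫, h2]
    have h3 := hē2 _ hne'
    change Ideal.Quotient.mk I a₀ ∈ 𝔫'.map (Ideal.Quotient.mk I) at h3
    rw [← hmk] at h3
    have h4 : a ∈ (𝔫'.map (Ideal.Quotient.mk I)).comap (Ideal.Quotient.mk I) := h3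
    rwa [hcm 𝔫' h'] at h4

end

section
variable {B : Type u} [CommRing B]

/-- the quotient by `1 - e` is local when `e` singles out one maximal ideal -/
theorem isLocalRing_quot (e : B) (he : IsIdempotentElem e) (𝔫 : Ideal B) [h𝔫 : 𝔫.IsMaximal]
    (h1 : e ∉ 𝔫) (h2 : ∀ 𝔫' : Ideal B, 𝔫'.IsMaximal → 𝔫' ≠ 𝔫 → e ∈ 𝔫') :
    IsLocalRing (B ⧸ Ideal.span {1 - e}) := by
  set J : Ideal B := Ideal.span {1 - e} with hJ
  have hsurj : Function.Surjective (Ideal.Quotient.mk J) := Ideal.Quotient.mk_surjective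
  have hJ𝔫 : J ≤ 𝔫 := by
    rw [hJ, Ideal.span_le, Set.singleton_subset_iff]
    have h0 : e * (1 - e) ∈ 𝔫 := by
      have : e * (1 - e) = 0 := by rw [mul_sub, mul_one, he.eq, sub_self]
      rw [this]; exact 𝔫.zero_mem
    exact (h𝔫.isPrime.mem_or_mem h0).resolve_left h1
  have hcm : (𝔫.map (Ideal.Quotient.mk J)).comap (Ideal.Quotient.mk J) = 𝔫 := by
    rw [Ideal.comap_map_of_surjective _ hsurj, ← RingHom.ker_eq_comap_bot, Ideal.mk_ker, sup_eq_left]
    exact hJ𝔫
  have hmax : (𝔫.map (Ideal.Quotient.mk J)).IsMaximal := by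
    rcases Ideal.map_eq_top_or_isMaximal_of_surjective (Ideal.Quotient.mk J) hsurj h𝔫 with h | h
    · exfalso
      rw [h, Ideal.comap_top] at hcm
      exact h𝔫.ne_top hcm.symm
    · exact h
  refine IsLocalRing.of_unique_max_ideal ⟨𝔫.map (Ideal.Quotient.mk J), hmax, ?_⟩
  intro M hM
  have hM' : (M.comap (Ideal.Quotient.mk J)).IsMaximal := Ideal.comap_isMaximal_of_surjective _ hsurj
  have hJM : J ≤ M.comap (Ideal.Quotient.mk J) := by
    intro x hx
    rw [Ideal.mem_comap, Ideal.Quotient.eq_zero_iff_mem.mpr hx]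
    exact M.zero_mem
  have heM : e ∉ M.comap (Ideal.Quotient.mk J) := by
    intro hmem
    have h1e : 1 - e ∈ M.comap (Ideal.Quotient.mk J) := hJM (Ideal.subset_span rfl)
    have : (1 : B) ∈ M.comap (Ideal.Quotient.mk J) := by
      have := Ideal.add_mem _ hmem h1e
      simpa using this
    exact hM'.ne_top ((Ideal.eq_top_iff_one _).mpr this)
  have heq : M.comap (Ideal.Quotient.mk J) = 𝔫 := by
    by_contra hne
    exact heM (h2 _ hM' hne)
  rw [← heq, Ideal.map_comap_of_surjective _ hsurj]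

end

end Groth.Agent.Helper3.FinComp1
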