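import Mathlib
import Groth.Agent.Helper2.FPColim2

set_option autoImplicit false
set_option linter.style.haveILetI false
set_option linter.unusedSectionVars false
set_option linter.unusedVariables false
set_option linter.style.haveILetI false
set_option linter.unusedSectionVars false
set_option linter.unusedVariables false

universe u

open CategoryTheory CategoryTheory.Limits

namespace Groth.Agent.Helper3.ArtinFun

open Groth.Agent.Helper2.FPColim

/-- S14624 -/
theorem main (A : Type u) [CommRing A]
    (m : Ideal A) (hm : m ≠ ⊤)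
    (hAP : ∀ (k l c : ℕ) (f : Fin l → MvPolynomial (Fin k) A) (â : Fin k → AdicCompletion m A),
      (∀ i, MvPolynomial.aeval â (f i) = 0) →
      ∃ a : Fin k → A, (∀ i, MvPolynomial.eval a (f i) = 0) ∧
        ∀ j, Ideal.Quotient.mk (m ^ c) (a j) = AdicCompletion.evalₐ m c (â j))
    (F : Under (CommRingCat.of A) ⥤ Type u)
    (hF : ∀ (J : Type u) [SmallCategory J] [IsFiltered J], PreservesColimitsOfShape J F)
    (c : ℕ)
    (π : Under.mk (CommRingCat.ofHom (algebraMap A (AdicCompletion m A))) ⟶
      Under.mk (CommRingCat.ofHom (algebraMap A (A ⧸ m ^ c))))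
    (hπ : π.right = CommRingCat.ofHom
      (AdicCompletion.evalₐ m c : AdicCompletion m A →ₐ[A] A ⧸ m ^ c).toRingHom)
    (ρ : Under.mk (𝟙 (CommRingCat.of A)) ⟶ Under.mk (CommRingCat.ofHom (algebraMap A (A ⧸ m ^ c))))
    (ξ : F.obj (Under.mk (CommRingCat.ofHom (algebraMap A (AdicCompletion m A))))) :
    ∃ η : F.obj (Under.mk (𝟙 (CommRingCat.of A))), F.map ρ η = F.map π ξ := by
  classical
  haveI := hF (GIdx A (AdicCompletion m A))
  have hcol : IsColimit (F.mapCocone (genCocone (R := A) (B := AdicCompletion m A))) :=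
    isColimitOfPreserves F genCoconeIsColimit
  obtain ⟨i, ξi, hξi⟩ := Types.jointly_surjective_of_isColimit hcol ξ
  -- reindex by `Fin`
  let e : i.s ≃ Fin i.s.card := i.s.equivFin
  let e' : i.t ≃ Fin i.t.card := i.t.equivFin
  let f : Fin i.t.card → MvPolynomial (Fin i.s.card) A :=
    fun j => MvPolynomial.rename e ((e'.symm j : i.t) : MvPolynomial i.s A)
  let â : Fin i.s.card → AdicCompletion m A := fun j => ((e.symm j : i.s) : AdicCompletion m A)
  have hf : ∀ j, MvPolynomial.aeval â (f j) = 0 := by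
    intro j
    change MvPolynomial.aeval â (MvPolynomial.rename e _) = 0
    rw [MvPolynomial.aeval_rename]
    have := i.ht _ (e'.symm j).2
    have hfun : (â ∘ ⇑e) = fun b : i.s => (b : AdicCompletion m A) := by
      funext b
      change ((e.symm (e b) : i.s) : AdicCompletion m A) = _
      rw [Equiv.symm_apply_apply]
    rw [hfun]
    exact this
  obtain ⟨a, ha0, hac⟩ := hAP i.s.card i.t.card c f â hf
  -- the algebra map to `A`
  let ψ0 : MvPolynomial i.s A →ₐ[A] A := MvPolynomial.aeval (fun b : i.s => a (e b))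
  have hψ0 : ∀ p ∈ i.rel, ψ0 p = 0 := by
    intro p hp
    have hle : i.rel ≤ RingHom.ker ψ0.toRingHom := by
      rw [GIdx.rel, Ideal.span_le]
      intro q hq
      have h1 := ha0 (e' ⟨q, hq⟩)
      change MvPolynomial.eval a (MvPolynomial.rename e ((e'.symm (e' ⟨q, hq⟩) : i.t) : MvPolynomial i.s A)) = 0 at h1
      rw [Equiv.symm_apply_apply, MvPolynomial.eval_rename] at h1
      change ψ0 q = 0
      change MvPolynomial.aeval (fun b : i.s => a (e b)) q = 0
      rw [MvPolynomial.aeval_eq_eval]  
      exact h1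
    exact hle hp
  let ψ : GIdx.Alg i →ₐ[A] A := Ideal.Quotient.liftₐ i.rel ψ0 hψ0
  let Ψ : (genFunctor (R := A) (B := AdicCompletion m A)).obj i ⟶ Under.mk (𝟙 (CommRingCat.of A)) :=
    Under.homMk (CommRingCat.ofHom ψ.toRingHom) (by
      ext x
      exact ψ.commutes x)
  refine ⟨F.map Ψ ξi, ?_⟩
  rw [← hξi]
  change (F.map Ψ ≫ F.map ρ) ξi = (F.map ((genCocone (R := A) (B := AdicCompletion m A)).ι.app i) ≫ F.map π) ξi
  rw [← F.map_comp, ← F.map_comp]
  have key : Ψ ≫ ρ = (genCocone (R := A) (B := AdicCompletion m A)).ι.app i ≫ π := by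
    apply Under.UnderMorphism.ext
    change CommRingCat.ofHom ψ.toRingHom ≫ ρ.right =
      CommRingCat.ofHom (GIdx.toB i).toRingHom ≫ π.right
    have hρ : ρ.right = CommRingCat.ofHom (algebraMap A (A ⧸ m ^ c)) := by
      have := Under.w ρ
      simpa using this
    rw [hρ, hπ]
    ext x
    · change algebraMap A (A ⧸ m ^ c) (ψ0 (algebraMap A _ x)) =
        AdicCompletion.evalₐ m c (i.ev (algebraMap A _ x))
      rw [AlgHom.commutes, AlgHom.commutes, AlgHom.commutes]
      rfl
    · change algebraMap A (A ⧸ m ^ c) (MvPolynomial.aeval (fun b : i.s => a (e b)) (MvPolynomial.X x)) =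
        AdicCompletion.evalₐ m c (MvPolynomial.aeval (fun b : i.s => (b : AdicCompletion m A)) (MvPolynomial.X x))
      rw [MvPolynomial.aeval_X, MvPolynomial.aeval_X]
      have h2 := hac (e x)
      change _ = AdicCompletion.evalₐ m c ((e.symm (e x) : i.s) : AdicCompletion m A) at h2
      rw [Equiv.symm_apply_apply] at h2
      exact h2
  rw [key]

end Groth.Agent.Helper3.ArtinFun
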