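import Mathlib

set_option autoImplicit false




namespace Groth.Agent.Helper3.ComplMap

universe u

section Lift

variable {R S : Type*} [CommRing R] [CommRing S] (a : Ideal R) (c : Ideal S) (g : R →+* S)
  (hg : a.map g ≤ c)

include hg in
theorem pow_le_comap (n : ℕ) : a ^ n ≤ (c ^ n).comap g := by
  rw [← Ideal.map_le_iff_le_comap, Ideal.map_pow]
  exact Ideal.pow_right_mono hg n

/-- the `n`-th level map `R̂ → S/c^n`. -/
noncomputable def level (n : ℕ) : AdicCompletion a R →+* S ⧸ c ^ n :=
  (Ideal.quotientMap (c ^ n) g (pow_le_comap a c g hg n)).comp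
    (AdicCompletion.evalₐ a n : AdicCompletion a R →+* R ⧸ a ^ n)

theorem level_compat {m n : ℕ} (hle : m ≤ n) :
    (Ideal.Quotient.factorPow c hle).comp (level a c g hg n) = level a c g hg m := by
  ext x
  obtain ⟨x, rfl⟩ := AdicCompletion.mk_surjective a R x
  simp only [level, RingHom.comp_apply, RingHom.coe_coe, AdicCompletion.evalₐ_mk,
    Ideal.quotientMap_mk]
  show Ideal.Quotient.mk (c ^ m) (g (x.val n)) = Ideal.Quotient.mk (c ^ m) (g (x.val m))
  have h1 := AdicCompletion.Ideal.mk_eq_mk a hle x
  rw [Ideal.Quotient.mk_eq_mk_iff_sub_mem] at h1 ⊢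
  rw [← map_sub]
  exact pow_le_comap a c g hg m h1

/-- the induced map on completions. -/
noncomputable def lift : AdicCompletion a R →+* AdicCompletion c S :=
  AdicCompletion.liftRingHom c (level a c g hg) (level_compat a c g hg)

theorem lift_of (r : R) :
    lift a c g hg (algebraMap R (AdicCompletion a R) r) =
      algebraMap S (AdicCompletion c S) (g r) := by
  apply AdicCompletion.ext_evalₐ
  intro n
  rw [lift, AdicCompletion.evalₐ_liftRingHom]
  show _ = AdicCompletion.evalₐ c n (AdicCompletion.of c S (g r))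
  rw [AdicCompletion.evalₐ_of]
  show (Ideal.quotientMap (c ^ n) g (pow_le_comap a c g hg n))
    (AdicCompletion.evalₐ a n (AdicCompletion.of a R r)) = _
  rw [AdicCompletion.evalₐ_of, Ideal.quotientMap_mk]

theorem lift_comp :
    (lift a c g hg).comp (algebraMap R (AdicCompletion a R)) =
      (algebraMap S (AdicCompletion c S)).comp g :=
  RingHom.ext (lift_of a c g hg)

end Lift

section Uniq

variable {R : Type*} [CommRing R] [IsNoetherianRing R] (a : Ideal R)

/-- every element of the completion is congruent to an element of `R` modulo `a^k`. -/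
theorem exists_sub_mem_pow (k : ℕ) (x : AdicCompletion a R) :
    ∃ r : R, x - algebraMap R _ r ∈ (a ^ k).map (algebraMap R (AdicCompletion a R)) := by
  have hfg := a.fg_of_isNoetherianRing
  have hmem : ∀ t : AdicCompletion a R,
      t ∈ (a ^ k).map (algebraMap R (AdicCompletion a R)) ↔
        AdicCompletion.eval a R k t = 0 := by
    intro t
    rw [← LinearMap.mem_ker, ← AdicCompletion.pow_smul_top_eq_ker_eval hfg, Ideal.smul_top_eq_map,
      Submodule.restrictScalars_mem]
  obtain ⟨r, hr⟩ := Submodule.Quotient.mk_surjective _ (AdicCompletion.eval a R k x)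
  refine ⟨r, ?_⟩
  rw [hmem, map_sub, AdicCompletion.algebraMap_apply, Algebra.algebraMap_self, RingHom.id_apply,
    AdicCompletion.eval_of, sub_eq_zero]
  exact hr.symm

theorem ringHom_ext {S : Type*} [CommRing S] (c : Ideal S) [IsHausdorff c S]
    (φ₁ φ₂ : AdicCompletion a R →+* S)
    (h : φ₁.comp (algebraMap R (AdicCompletion a R)) = φ₂.comp (algebraMap R (AdicCompletion a R)))
    (hc : a.map (φ₁.comp (algebraMap R (AdicCompletion a R))) ≤ c) : φ₁ = φ₂ := by
  ext x
  rw [← sub_eq_zero]
  apply IsHausdorff.haus' (I := c)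
  intro n
  rw [SModEq.zero, smul_eq_mul, Ideal.mul_top]
  obtain ⟨r, hr⟩ := exists_sub_mem_pow a n x
  have h1 : φ₁ x - φ₂ x = φ₁ (x - algebraMap R _ r) - φ₂ (x - algebraMap R _ r) := by
    have := RingHom.congr_fun h r
    simp only [RingHom.comp_apply] at this
    rw [map_sub, map_sub, this]; ring
  rw [h1]
  have key : ∀ φ : AdicCompletion a R →+* S, a.map (φ.comp (algebraMap R (AdicCompletion a R))) ≤ c →
      φ (x - algebraMap R _ r) ∈ c ^ n := by
    intro φ hφ
    have h2 : ((a ^ n).map (algebraMap R (AdicCompletion a R))).map φ ≤ c ^ n := by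
      rw [Ideal.map_map, Ideal.map_pow]
      exact Ideal.pow_right_mono hφ n
    exact h2 (Ideal.mem_map_of_mem _ hr)
  exact Ideal.sub_mem _ (key φ₁ hc) (key φ₂ (h ▸ hc))

end Uniq

end Groth.Agent.Helper3.ComplMap
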