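import Mathlib
import Groth.Agent.S0543
import Groth.Agent.Helper5.ComplTest
import Groth.Agent.Helper3.ComplMap
set_option linter.style.haveILetI false
set_option linter.unusedSectionVars false
set_option linter.unusedVariables false
open TensorProduct IsLocalRing
universe u
namespace Groth.Agent.Helper3.ComplFam

/-- the completed local ring of `T` at `Q`. -/
abbrev Chat (T : Type u) [CommRing T] (Q : Ideal T) [Q.IsPrime] : Type u :=
  AdicCompletion (maximalIdeal (Localization.AtPrime Q)) (Localization.AtPrime Q)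

section Chat
variable (A : Type u) [CommRing A] (T : Type u) [CommRing T] [IsNoetherianRing T] [Algebra A T]
  (Q : Ideal T) [Q.IsPrime]

instance : IsNoetherianRing (Chat T Q) := Groth.Agent.S0543.result (Localization.AtPrime Q) _

theorem chat_complete : IsAdicComplete (maximalIdeal (Chat T Q)) (Chat T Q) := inferInstance

theorem chat_flat_self : Module.Flat T (Chat T Q) := by
  haveI : Module.Flat T (Localization.AtPrime Q) := IsLocalization.flat _ Q.primeCompl
  exact Module.Flat.trans T (Localization.AtPrime Q) _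

theorem chat_flat [Module.Flat A T] : Module.Flat A (Chat T Q) := by
  haveI := chat_flat_self T Q
  exact Module.Flat.trans A T _

theorem chat_comap : (maximalIdeal (Chat T Q)).comap (algebraMap T (Chat T Q)) = Q := by
  rw [IsScalarTower.algebraMap_eq T (Localization.AtPrime Q) (Chat T Q), ← Ideal.comap_comap]
  have h1 : (maximalIdeal (Chat T Q)).comap (algebraMap (Localization.AtPrime Q) (Chat T Q)) =
      maximalIdeal (Localization.AtPrime Q) := by
    apply le_antisymm
    · exact IsLocalRing.le_maximalIdeal (Ideal.comap_ne_top _ (maximalIdeal.isMaximal _).ne_top)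
    · rw [← Ideal.map_le_iff_le_comap, AdicCompletion.maximalIdeal_eq_map]
  rw [h1]
  exact IsLocalization.AtPrime.comap_maximalIdeal (Localization.AtPrime Q) Q

theorem chat_map_le : Q.map (algebraMap T (Chat T Q)) ≤ maximalIdeal (Chat T Q) := by
  rw [Ideal.map_le_iff_le_comap, chat_comap]

end Chat

/-- Lemma L: a complete local `A`-algebra over `p` receives a map from the completion at `p`. -/
theorem exists_algHom (A : Type u) [CommRing A] [IsNoetherianRing A] (p : Ideal A) [p.IsPrime]
    (B : Type u) [CommRing B] [Algebra A B] [IsLocalRing B]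
    (hB : IsAdicComplete (maximalIdeal B) B)
    (hp : (maximalIdeal B).comap (algebraMap A B) = p) : Nonempty (Chat A p →ₐ[A] B) := by
  have hunit : ∀ y : p.primeCompl, IsUnit (algebraMap A B y) := by
    rintro ⟨y, hy⟩
    by_contra hnu
    apply hy
    have : y ∈ (maximalIdeal B).comap (algebraMap A B) := hnu
    rw [hp] at this
    exact this
  let φ₀ : Localization.AtPrime p →+* B := IsLocalization.lift (M := p.primeCompl) hunit
  have hφ₀ : (maximalIdeal (Localization.AtPrime p)).map φ₀ ≤ maximalIdeal B := by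
    rw [← IsLocalization.AtPrime.map_eq_maximalIdeal p (Localization.AtPrime p), Ideal.map_map,
      IsLocalization.lift_comp, Ideal.map_le_iff_le_comap, hp]
  let ψ := Groth.Agent.Helper3.ComplMap.lift (maximalIdeal (Localization.AtPrime p))
    (maximalIdeal B) φ₀ hφ₀
  haveI := hB
  let e : AdicCompletion (maximalIdeal B) B ≃ₐ[B] B :=
    (AdicCompletion.ofAlgEquiv (maximalIdeal B)).symm
  let g : Chat A p →+* B := e.toRingEquiv.toRingHom.comp ψ
  refine ⟨{ g with commutes' := fun a => ?_ }⟩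
  show e (ψ (algebraMap A (Chat A p) a)) = algebraMap A B a
  rw [IsScalarTower.algebraMap_apply A (Localization.AtPrime p) (Chat A p)]
  have h1 := Groth.Agent.Helper3.ComplMap.lift_of (maximalIdeal (Localization.AtPrime p))
    (maximalIdeal B) φ₀ hφ₀ (algebraMap A (Localization.AtPrime p) a)
  rw [h1, IsLocalization.lift_eq]
  show (AdicCompletion.ofAlgEquiv (maximalIdeal B)).symm
    (AdicCompletion.of (maximalIdeal B) B (algebraMap A B a)) = _
  rw [AdicCompletion.ofAlgEquiv_symm_of]

/-- Lemma β: vanishing in all completed localizations over `p` gives `A \ p`-torsion. -/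
theorem exists_smul_eq_zero (A : Type u) [CommRing A] (p : Ideal A) [p.IsPrime]
    (R : Type u) [CommRing R] [Algebra A R] [IsNoetherianRing R]
    (M : Type u) [AddCommGroup M] [Module A M] (hpM : ∀ a ∈ p, ∀ m : M, a • m = 0)
    (y : R ⊗[A] M)
    (h : ∀ (Q : Ideal R) [Q.IsPrime], Q.comap (algebraMap A R) = p →
      LinearMap.rTensor M (IsScalarTower.toAlgHom A R (Chat R Q)).toLinearMap y = 0) :
    ∃ s ∈ p.primeCompl, s • y = 0 := by
  by_contra hne
  push Not at hne
  let 𝔞 : Ideal R := LinearMap.ker (LinearMap.toSpanSingleton R (R ⊗[A] M) y)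
  have h𝔞 : ∀ r : R, r ∈ 𝔞 ↔ r • y = 0 := by
    intro r
    simp [𝔞, LinearMap.mem_ker, LinearMap.toSpanSingleton_apply]
  let S' : Submonoid R := p.primeCompl.map (algebraMap A R)
  have hdisj : Disjoint (𝔞 : Set R) (S' : Set R) := by
    rw [Set.disjoint_left]
    rintro r hr ⟨s, hs, rfl⟩
    apply hne s hs
    have := (h𝔞 _).mp hr
    rwa [algebraMap_smul] at this
  obtain ⟨Q, hQ, h𝔞Q, hQS⟩ := Ideal.exists_le_prime_disjoint 𝔞 S' hdisj
  haveI := hQ
  have hpy : ∀ a ∈ p, ∀ z : R ⊗[A] M, a • z = 0 := by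
    intro a ha z
    induction z with
    | zero => simp
    | tmul r m => rw [TensorProduct.smul_tmul', TensorProduct.smul_tmul, hpM a ha, tmul_zero]
    | add y1 y2 h1 h2 => rw [smul_add, h1, h2, add_zero]
  have hQp : Q.comap (algebraMap A R) = p := by
    apply le_antisymm
    · intro a ha
      by_contra hap
      exact Set.disjoint_left.mp hQS ha ⟨a, hap, rfl⟩
    · intro a ha
      rw [Ideal.mem_comap]
      apply h𝔞Q
      rw [h𝔞, algebraMap_smul]
      exact hpy a ha y
  have h0 := h Q hQp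
  let B' := Chat R Q
  haveI : Module.Flat R B' := chat_flat_self R Q
  -- transfer to `B' ⊗[R] (R ⊗[A] M)`
  have hcb : ∀ z : R ⊗[A] M,
      (TensorProduct.AlgebraTensorModule.cancelBaseChange A R B' B' M) ((1 : B') ⊗ₜ[R] z) =
        LinearMap.rTensor M (IsScalarTower.toAlgHom A R B').toLinearMap z := by
    intro z
    induction z with
    | zero => simp
    | tmul r m =>
      rw [TensorProduct.AlgebraTensorModule.cancelBaseChange_tmul, LinearMap.rTensor_tmul,
        Algebra.smul_def, mul_one]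
      rfl
    | add y1 y2 h1 h2 => rw [tmul_add, map_add, map_add, h1, h2]
  have h1 : (1 : B') ⊗ₜ[R] y = 0 := by
    apply (TensorProduct.AlgebraTensorModule.cancelBaseChange A R B' B' M).injective
    rw [hcb, h0, map_zero]
  have h2 := Groth.Agent.Helper5.ComplTest.one_mem_map_of_tmul_eq_zero R B' (R ⊗[A] M) y h1
  have h3 : Ideal.map (algebraMap R B') 𝔞 ≤ maximalIdeal B' :=
    (Ideal.map_mono h𝔞Q).trans (chat_map_le R Q)
  exact (maximalIdeal.isMaximal B').ne_top ((Ideal.eq_top_iff_one _).2 (h3 h2))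

/-- Lemma α: elements of `Â_p ⊗ A/p` are fractions. -/
theorem exists_smul_eq_tmul (A : Type u) [CommRing A] [IsNoetherianRing A] (p : Ideal A)
    [p.IsPrime] (x : Chat A p ⊗[A] (A ⧸ p)) :
    ∃ s ∈ p.primeCompl, ∃ m : A ⧸ p, s • x = (1 : Chat A p) ⊗ₜ[A] m := by
  let Ap := Localization.AtPrime p
  let Rh := Chat A p
  -- elements of `p Rh` kill
  have hkill : ∀ t ∈ p.map (algebraMap A Rh), ∀ ā : A ⧸ p, t ⊗ₜ[A] ā = (0 : Rh ⊗[A] (A ⧸ p)) := by
    let 𝔨 : Ideal Rh :=
      { carrier := {t | ∀ ā : A ⧸ p, t ⊗ₜ[A] ā = (0 : Rh ⊗[A] (A ⧸ p))}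
        add_mem' := fun {a b} ha hb ā => by rw [add_tmul, ha, hb, add_zero]
        zero_mem' := fun ā => zero_tmul _ _
        smul_mem' := fun c t ht ā => by
          rw [smul_eq_mul, ← smul_eq_mul, ← TensorProduct.smul_tmul', ht, smul_zero] }
    have : p.map (algebraMap A Rh) ≤ 𝔨 := by
      rw [Ideal.map_le_iff_le_comap]
      intro π hπ
      show ∀ ā : A ⧸ p, (algebraMap A Rh π) ⊗ₜ[A] ā = (0 : Rh ⊗[A] (A ⧸ p))
      intro ā
      rw [Algebra.algebraMap_eq_smul_one, TensorProduct.smul_tmul]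
      obtain ⟨a, rfl⟩ := Ideal.Quotient.mk_surjective ā
      have : π • (Ideal.Quotient.mk p a) = 0 := by
        rw [← Ideal.Quotient.mk_eq_mk, ← Submodule.Quotient.mk_smul]
        rw [Submodule.Quotient.mk_eq_zero]
        exact p.mul_mem_right a hπ
      rw [this, tmul_zero]
    exact fun t ht => this ht
  induction x with
  | zero => exact ⟨1, p.primeCompl.one_mem, 0, by simp⟩
  | add x1 x2 h1 h2 =>
    obtain ⟨s1, hs1, m1, e1⟩ := h1
    obtain ⟨s2, hs2, m2, e2⟩ := h2
    refine ⟨s1 * s2, p.primeCompl.mul_mem hs1 hs2, s2 • m1 + s1 • m2, ?_⟩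
    rw [smul_add, mul_smul, mul_smul, smul_comm s1 s2 x1, e1, e2, tmul_add, tmul_smul,
      tmul_smul]
  | tmul r ā =>
    obtain ⟨c, hc⟩ := Groth.Agent.Helper3.ComplMap.exists_sub_mem_pow (maximalIdeal Ap) 1 r
    rw [pow_one] at hc
    obtain ⟨a, ⟨s, hs⟩, rfl⟩ := IsLocalization.exists_mk'_eq p.primeCompl c
    refine ⟨s, hs, a • ā, ?_⟩
    have hmap : (maximalIdeal Ap).map (algebraMap Ap Rh) = p.map (algebraMap A Rh) := by
      have hmax := IsLocalization.AtPrime.map_eq_maximalIdeal p Ap
      calc (maximalIdeal Ap).map (algebraMap Ap Rh)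
          = (p.map (algebraMap A Ap)).map (algebraMap Ap Rh) :=
            congrArg (Ideal.map (algebraMap Ap Rh)) hmax.symm
        _ = p.map (algebraMap A Rh) := by
            rw [Ideal.map_map, ← IsScalarTower.algebraMap_eq]
    rw [hmap] at hc
    set c := IsLocalization.mk' Ap a (⟨s, hs⟩ : p.primeCompl) with hcdef
    have hsc : s • algebraMap Ap Rh c = algebraMap A Rh a := by
      rw [← algebraMap_smul Ap s (algebraMap Ap Rh c), Algebra.smul_def, ← map_mul,
        IsScalarTower.algebraMap_apply A Ap Rh]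
      congr 1
      rw [mul_comm]
      exact IsLocalization.mk'_spec Ap a (⟨s, hs⟩ : p.primeCompl)
    have ht : s • (r - algebraMap Ap Rh c) ∈ p.map (algebraMap A Rh) := by
      rw [← algebraMap_smul Rh s (r - algebraMap Ap Rh c), smul_eq_mul]
      exact Ideal.mul_mem_left _ _ hc
    have hsr : s • r = s • (r - algebraMap Ap Rh c) + algebraMap A Rh a := by
      rw [smul_sub, hsc]; ring
    rw [TensorProduct.smul_tmul', hsr, add_tmul, hkill _ ht, zero_add,
      Algebra.algebraMap_eq_smul_one, TensorProduct.smul_tmul]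

theorem smul_injective_of_flat (A : Type u) [CommRing A] (p : Ideal A) [p.IsPrime]
    (B : Type u) [CommRing B] [Algebra A B] [Module.Flat A B] (s : A) (hs : s ∉ p) :
    Function.Injective (fun z : B ⊗[A] (A ⧸ p) => s • z) := by
  have hinj : Function.Injective (LinearMap.lsmul A (A ⧸ p) s) := by
    intro a b hab
    simp only [LinearMap.lsmul_apply, Algebra.smul_def] at hab
    have hne : algebraMap A (A ⧸ p) s ≠ 0 := by
      rw [Ideal.Quotient.algebraMap_eq, Ne, Ideal.Quotient.eq_zero_iff_mem]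
      exact hs
    exact mul_left_cancel₀ hne hab
  have h1 := Module.Flat.lTensor_preserves_injective_linearMap (M := B)
    (LinearMap.lsmul A (A ⧸ p) s) hinj
  have h2 : ∀ z : B ⊗[A] (A ⧸ p), LinearMap.lTensor B (LinearMap.lsmul A (A ⧸ p) s) z = s • z := by
    intro z
    induction z with
    | zero => simp
    | tmul b a => rw [LinearMap.lTensor_tmul, LinearMap.lsmul_apply, tmul_smul]
    | add z1 z2 h1 h2 => rw [map_add, h1, h2, smul_add]
  intro z1 z2 h
  apply h1
  rw [h2, h2]
  exact h

section Fam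
variable (A : Type u) [CommRing A]

/-- families indexed by complete local flat algebras -/
def FamT (M : Type u) [AddCommGroup M] [Module A M] : Type (u + 1) :=
  ∀ (B : Type u) [CommRing B] [Algebra A B] [IsNoetherianRing B] [IsLocalRing B],
    IsAdicComplete (IsLocalRing.maximalIdeal B) B → Module.Flat A B → B ⊗[A] M

def Compat (M : Type u) [AddCommGroup M] [Module A M] (x : FamT A M) : Prop :=
  ∀ (B : Type u) [CommRing B] [Algebra A B] [IsNoetherianRing B] [IsLocalRing B]
    (hB : IsAdicComplete (IsLocalRing.maximalIdeal B) B) (hBf : Module.Flat A B)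
    (B' : Type u) [CommRing B'] [Algebra A B'] [IsNoetherianRing B'] [IsLocalRing B']
    (hB' : IsAdicComplete (IsLocalRing.maximalIdeal B') B') (hB'f : Module.Flat A B')
    (g : B →ₐ[A] B'), LinearMap.rTensor M g.toLinearMap (x B hB hBf) = x B' hB' hB'f

def Good (M : Type u) [AddCommGroup M] [Module A M] : Prop :=
  ∀ x : FamT A M, Compat A M x → ∃ m : M,
    ∀ (B : Type u) [CommRing B] [Algebra A B] [IsNoetherianRing B] [IsLocalRing B]
      (hB : IsAdicComplete (IsLocalRing.maximalIdeal B) B) (hBf : Module.Flat A B),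
      x B hB hBf = (1 : B) ⊗ₜ[A] m

theorem good_domain [IsNoetherianRing A] (p : Ideal A) [p.IsPrime] : Good A (A ⧸ p) := by
  intro x hx
  have hfp : Module.Flat A (Chat A p) := chat_flat A A p
  have hcp : IsAdicComplete (maximalIdeal (Chat A p)) (Chat A p) := chat_complete A p
  obtain ⟨s, hs, m₀, h0⟩ := exists_smul_eq_tmul A p (x (Chat A p) hcp hfp)
  have hpM : ∀ a ∈ p, ∀ m : A ⧸ p, a • m = 0 := by
    intro a ha m
    obtain ⟨b, rfl⟩ := Ideal.Quotient.mk_surjective m
    rw [← Ideal.Quotient.mk_eq_mk, ← Submodule.Quotient.mk_smul, Submodule.Quotient.mk_eq_zero]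
    exact p.mul_mem_right b ha
  -- key
  have key : ∀ (B : Type u) [CommRing B] [Algebra A B] [IsNoetherianRing B] [IsLocalRing B]
      (hB : IsAdicComplete (IsLocalRing.maximalIdeal B) B) (hBf : Module.Flat A B),
      s • x B hB hBf = (1 : B) ⊗ₜ[A] m₀ := by
    intro B _ _ _ _ hB hBf
    rw [← sub_eq_zero]
    set y := s • x B hB hBf - (1 : B) ⊗ₜ[A] m₀ with hy
    have hβ := exists_smul_eq_zero A p B (A ⧸ p) hpM y ?_
    · obtain ⟨t, ht, hty⟩ := hβ
      have := smul_injective_of_flat A p B t ht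
      apply this
      simp only [smul_zero]
      exact hty
    · intro Q _ hQp
      let B' := Chat B Q
      have hB'f : Module.Flat A B' := chat_flat A B Q
      have hB'c : IsAdicComplete (maximalIdeal B') B' := chat_complete B Q
      have hcomap : (maximalIdeal B').comap (algebraMap A B') = p := by
        rw [IsScalarTower.algebraMap_eq A B B', ← Ideal.comap_comap, chat_comap, hQp]
      obtain ⟨g⟩ := exists_algHom A p B' hB'c hcomap
      have e1 := hx (Chat A p) hcp hfp B' hB'c hB'f g
      have e2 := hx B hB hBf B' hB'c hB'f (IsScalarTower.toAlgHom A B B')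
      rw [hy, map_sub, map_smul, e2, ← e1, ← map_smul, h0, LinearMap.rTensor_tmul,
        LinearMap.rTensor_tmul]
      simp
  -- step 3
  let L : Submodule A (A ⧸ p) := LinearMap.range (LinearMap.lsmul A (A ⧸ p) s)
  have hN : L.mkQ m₀ = 0 := by
    apply Groth.Agent.Helper5.ComplTest.main A ((A ⧸ p) ⧸ L) (L.mkQ m₀)
    intro B _ _ _ _ hB hBf
    have hkill : ∀ z : B ⊗[A] ((A ⧸ p) ⧸ L), s • z = 0 := by
      intro z
      induction z with
      | zero => simp
      | tmul b n =>
        obtain ⟨a, rfl⟩ := L.mkQ_surjective n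
        rw [← tmul_smul, ← map_smul]
        have : L.mkQ (s • a) = 0 := by
          rw [Submodule.mkQ_apply, Submodule.Quotient.mk_eq_zero]
          exact ⟨a, rfl⟩
        rw [this, tmul_zero]
      | add z1 z2 h1 h2 => rw [smul_add, h1, h2, add_zero]
    have h1 : (1 : B) ⊗ₜ[A] (L.mkQ m₀) = LinearMap.lTensor B L.mkQ ((1 : B) ⊗ₜ[A] m₀) := by
      rw [LinearMap.lTensor_tmul]
    rw [h1, ← key B hB hBf, map_smul, hkill]
  rw [Submodule.mkQ_apply, Submodule.Quotient.mk_eq_zero] at hN
  obtain ⟨m, hm⟩ := hN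
  simp only [LinearMap.lsmul_apply] at hm
  refine ⟨m, ?_⟩
  intro B _ _ _ _ hB hBf
  apply smul_injective_of_flat A p B s hs
  show s • x B hB hBf = s • ((1 : B) ⊗ₜ[A] m)
  rw [key B hB hBf, ← tmul_smul, hm]

theorem good_of_subsingleton (M : Type u) [AddCommGroup M] [Module A M] [Subsingleton M] :
    Good A M := by
  intro x _
  refine ⟨0, ?_⟩
  intro B _ _ _ _ hB hBf
  haveI : Subsingleton (B ⊗[A] M) := by
    refine ⟨fun a b => ?_⟩
    have h0 : ∀ z : B ⊗[A] M, z = 0 := by
      intro z
      induction z with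
      | zero => rfl
      | tmul b m => rw [Subsingleton.elim m 0, tmul_zero]
      | add z1 z2 h1 h2 => rw [h1, h2, add_zero]
    rw [h0 a, h0 b]
  exact Subsingleton.elim _ _

theorem good_of_exact (N₁ N₂ N₃ : Type u) [AddCommGroup N₁] [Module A N₁] [AddCommGroup N₂]
    [Module A N₂] [AddCommGroup N₃] [Module A N₃] (f : N₁ →ₗ[A] N₂) (g : N₂ →ₗ[A] N₃)
    (hf : Function.Injective f) (hg : Function.Surjective g) (hfg : Function.Exact f g)
    (h₁ : Good A N₁) (h₃ : Good A N₃) : Good A N₂ := by
  intro x hx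
  -- push forward to N₃
  let x₃ : FamT A N₃ := fun B _ _ _ _ hB hBf => LinearMap.lTensor B g (x B hB hBf)
  have hx₃ : Compat A N₃ x₃ := by
    intro B _ _ _ _ hB hBf B' _ _ _ _ hB' hB'f φ
    show LinearMap.rTensor N₃ φ.toLinearMap (LinearMap.lTensor B g (x B hB hBf)) =
      LinearMap.lTensor B' g (x B' hB' hB'f)
    rw [← hx B hB hBf B' hB' hB'f φ, ← LinearMap.comp_apply, ← LinearMap.comp_apply,
      LinearMap.rTensor_comp_lTensor, LinearMap.lTensor_comp_rTensor]
  obtain ⟨m₃, hm₃⟩ := h₃ x₃ hx₃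
  obtain ⟨m₂, rfl⟩ := hg m₃
  -- the difference lies in the image of N₁
  have hex : ∀ (B : Type u) [CommRing B] [Algebra A B] [IsNoetherianRing B] [IsLocalRing B]
      (hB : IsAdicComplete (IsLocalRing.maximalIdeal B) B) (hBf : Module.Flat A B),
      ∃ z : B ⊗[A] N₁, LinearMap.lTensor B f z = x B hB hBf - (1 : B) ⊗ₜ[A] m₂ := by
    intro B _ _ _ _ hB hBf
    have hE := lTensor_exact B hfg hg
    apply (hE _).mp
    rw [map_sub, LinearMap.lTensor_tmul]
    exact sub_eq_zero.mpr (hm₃ B hB hBf)
  let x₁ : FamT A N₁ := fun B _ _ _ _ hB hBf => (hex B hB hBf).choose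
  have hx₁s : ∀ (B : Type u) [CommRing B] [Algebra A B] [IsNoetherianRing B] [IsLocalRing B]
      (hB : IsAdicComplete (IsLocalRing.maximalIdeal B) B) (hBf : Module.Flat A B),
      LinearMap.lTensor B f (x₁ B hB hBf) = x B hB hBf - (1 : B) ⊗ₜ[A] m₂ :=
    fun B _ _ _ _ hB hBf => (hex B hB hBf).choose_spec
  have hx₁ : Compat A N₁ x₁ := by
    intro B _ _ _ _ hB hBf B' _ _ _ _ hB' hB'f φ
    haveI := hB'f
    apply Module.Flat.lTensor_preserves_injective_linearMap (M := B') f hf
    rw [hx₁s B' hB' hB'f, ← LinearMap.comp_apply, LinearMap.lTensor_comp_rTensor,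
      ← LinearMap.rTensor_comp_lTensor, LinearMap.comp_apply, hx₁s B hB hBf, map_sub,
      hx B hB hBf B' hB' hB'f φ, LinearMap.rTensor_tmul]
    simp
  obtain ⟨m₁, hm₁⟩ := h₁ x₁ hx₁
  refine ⟨f m₁ + m₂, ?_⟩
  intro B _ _ _ _ hB hBf
  have := hx₁s B hB hBf
  rw [hm₁ B hB hBf, LinearMap.lTensor_tmul] at this
  rw [tmul_add, this]
  abel

theorem good_of_finite [IsNoetherianRing A] (M : Type u) [AddCommGroup M] [Module A M]
    [hM : Module.Finite A M] : Good A M := by
  refine IsNoetherianRing.induction_on_isQuotientEquivQuotientPrime A hM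
    (motive := fun N _ _ _ => Good A N) ?_ ?_ ?_
  · intro N _ _ _ _
    exact good_of_subsingleton A N
  · intro N _ _ _ p e
    exact good_of_exact A (A ⧸ p.asIdeal) N PUnit.{u + 1} e.symm.toLinearMap 0
      e.symm.injective (Function.surjective_to_subsingleton _)
      ((e.symm.exact_zero_iff_surjective _).2 e.symm.surjective)
      (good_domain A p.asIdeal) (good_of_subsingleton A _)
  · intro N₁ _ _ _ N₂ _ _ _ N₃ _ _ _ f g hf hg hfg h1 h3
    exact good_of_exact A N₁ N₂ N₃ f g hf hg hfg h1 h3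

end Fam

theorem main (A : Type u) [CommRing A] [IsNoetherianRing A] (M : Type u) [AddCommGroup M] [Module A M] [Module.Finite A M] (x : ∀ (B : Type u) [CommRing B] [Algebra A B] [IsNoetherianRing B] [IsLocalRing B], IsAdicComplete (IsLocalRing.maximalIdeal B) B → Module.Flat A B → TensorProduct A B M) (hx : ∀ (B : Type u) [CommRing B] [Algebra A B] [IsNoetherianRing B] [IsLocalRing B] (hB : IsAdicComplete (IsLocalRing.maximalIdeal B) B) (hBf : Module.Flat A B) (B' : Type u) [CommRing B'] [Algebra A B'] [IsNoetherianRing B'] [IsLocalRing B'] (hB' : IsAdicComplete (IsLocalRing.maximalIdeal B') B') (hB'f : Module.Flat A B') (g : B →ₐ[A] B'), LinearMap.rTensor M g.toLinearMap (x B hB hBf) = x B' hB' hB'f) : ∃! m : M, ∀ (B : Type u) [CommRing B] [Algebra A B] [IsNoetherianRing B] [IsLocalRing B] (hB : IsAdicComplete (IsLocalRing.maximalIdeal B) B) (hBf : Module.Flat A B), x B hB hBf = (1 : B) ⊗ₜ[A] m := by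
  obtain ⟨m, hm⟩ := good_of_finite A M x hx
  refine ⟨m, hm, ?_⟩
  intro m' hm'
  rw [← sub_eq_zero]
  apply Groth.Agent.Helper5.ComplTest.main A M (m' - m)
  intro B _ _ _ _ hB hBf
  rw [tmul_sub, ← hm B hB hBf, ← hm' B hB hBf, sub_self]

end Groth.Agent.Helper3.ComplFam
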