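import Groth.Agent.Helper3.HensProd2

/-!
Quasi-finite algebras over henselian local rings split off a finite part.
-/

namespace Groth.Agent.Helper3.HensQF

open Groth.Agent.Helper3.HensGabber

universe u

/-- In a finite product of local rings, a maximal ideal is cut out by a primitive idempotent. -/
theorem pi_local_idem {ι : Type*} [Fintype ι] [DecidableEq ι] (C : ι → Type*)
    [∀ j, CommRing (C j)] [∀ j, IsLocalRing (C j)]
    (t : Ideal (∀ j, C j)) [ht : t.IsMaximal] :
    ∃ ε : ∀ j, C j, IsIdempotentElem ε ∧ ε ∉ t ∧ ∀ y, y ∉ t → ∃ s, ε * y * s = ε := by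
  have h1 : ∃ j, (Pi.single j 1 : ∀ j, C j) ∉ t := by
    by_contra hcon
    push Not at hcon
    have : (1 : ∀ j, C j) ∈ t := by
      rw [← Finset.univ_sum_single (1 : ∀ j, C j)]
      exact t.sum_mem fun j _ => hcon j
    exact (Ideal.ne_top_iff_one t).1 ht.ne_top this
  obtain ⟨j, hj⟩ := h1
  have hidem : IsIdempotentElem (Pi.single j 1 : ∀ j, C j) := by
    rw [IsIdempotentElem, ← Pi.single_mul, mul_one]
  refine ⟨Pi.single j 1, hidem, hj, ?_⟩
  intro y hy
  set J : Ideal (∀ j, C j) :=
    Ideal.comap (Pi.evalRingHom C j) (IsLocalRing.maximalIdeal (C j)) with hJ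
  have hJtop : J ≠ ⊤ := by
    rw [Ideal.ne_top_iff_one, hJ, Ideal.mem_comap, map_one]
    exact (Ideal.ne_top_iff_one _).1 (IsLocalRing.maximalIdeal.isMaximal _).ne_top
  have hle : t ≤ J := by
    intro x hx
    rw [hJ, Ideal.mem_comap]
    change x j ∈ IsLocalRing.maximalIdeal (C j)
    by_contra hxj
    have hu : IsUnit (x j) := by
      by_contra hnu
      exact hxj ((IsLocalRing.mem_maximalIdeal _).2 hnu)
    obtain ⟨v, hv⟩ := hu.exists_left_inv
    apply hj
    have : (Pi.single j 1 : ∀ j, C j) = Pi.single j v * x := by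
      ext k
      by_cases hk : k = j
      · subst hk; simp [hv]
      · simp [Pi.single_eq_of_ne hk]
    rw [this]
    exact t.mul_mem_left _ hx
  have hEq : t = J := ht.eq_of_le hJtop hle
  have hyj : IsUnit (y j) := by
    by_contra hnu
    apply hy
    rw [hEq, hJ, Ideal.mem_comap]
    exact (IsLocalRing.mem_maximalIdeal _).2 hnu
  obtain ⟨v, hv⟩ := hyj.exists_right_inv
  refine ⟨Pi.single j v, ?_⟩
  ext k
  by_cases hk : k = j
  · subst hk; simp [hv]
  · simp [Pi.single_eq_of_ne hk]

/-- In a finite algebra over a henselian local ring, a maximal ideal is cut out by an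
idempotent with local factor. -/
theorem exists_idem_finite (R : Type u) [CommRing R] [HenselianLocalRing R]
    (T : Type u) [CommRing T] [Algebra R T] [Module.Finite R T]
    (t : Ideal T) [ht : t.IsMaximal] :
    ∃ ε : T, IsIdempotentElem ε ∧ ε ∉ t ∧ ∀ y, y ∉ t → ∃ s, ε * y * s = ε := by
  classical
  obtain ⟨ι, _, C, _, hC, ⟨φ⟩⟩ := HensProd.finite_pi_of_hens R T
  haveI := hC
  haveI : (Ideal.comap (φ.symm : (∀ j, C j) →+* T) t).IsMaximal :=
    Ideal.comap_isMaximal_of_surjective _ φ.symm.surjective
  obtain ⟨ε, hε, hεt, hεy⟩ := pi_local_idem C (Ideal.comap (φ.symm : (∀ j, C j) →+* T) t)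
  refine ⟨φ.symm ε, hε.map φ.symm, hεt, ?_⟩
  intro y hy
  have hy' : φ y ∉ Ideal.comap (φ.symm : (∀ j, C j) →+* T) t := by
    rw [Ideal.mem_comap]
    change φ.symm (φ y) ∉ t
    rwa [φ.symm_apply_apply]
  obtain ⟨s, hs⟩ := hεy _ hy'
  refine ⟨φ.symm s, ?_⟩
  have := congrArg φ.symm hs
  rwa [map_mul, map_mul, φ.symm_apply_apply] at this

/-- Over a henselian local ring, a prime over the closed point at which a finite type algebra is
quasi-finite is contained in a finite clopen part. -/
theorem exists_idem_of_qfAt (R : Type u) [CommRing R] [HenselianLocalRing R]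
    (S : Type u) [CommRing S] [Algebra R S] [Algebra.FiniteType R S]
    (q : Ideal S) [q.IsPrime] [hq : q.LiesOver (IsLocalRing.maximalIdeal R)]
    [Algebra.QuasiFiniteAt R q] :
    ∃ e : S, IsIdempotentElem e ∧ e ∉ q ∧ ((Ideal.span {e}).restrictScalars R).FG := by
  obtain ⟨T, hT, r, hrq, hr⟩ :=
    Algebra.QuasiFiniteAt.exists_fg_and_exists_notMem_and_awayMap_bijective (R := R) q
  haveI : Module.Finite R T := ⟨(Submodule.fg_top _).2 hT⟩
  set t : Ideal T := q.comap (algebraMap T S) with ht
  haveI : t.IsPrime := Ideal.comap_isPrime _ _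
  have htm : t.comap (algebraMap R T) = IsLocalRing.maximalIdeal R := by
    rw [ht, Ideal.comap_comap, ← IsScalarTower.algebraMap_eq]
    exact hq.over.symm
  haveI : t.IsMaximal := by
    refine Ideal.isMaximal_of_isIntegral_of_isMaximal_comap (R := R) t ?_
    rw [htm]; infer_instance
  obtain ⟨ε, hε, hεt, hεy⟩ := exists_idem_finite R T t
  have hrt : r ∉ t := hrq
  obtain ⟨s, hs⟩ := hεy r hrt
  have hpow : ∀ m : ℕ, ε * (r ^ m * s ^ m) = ε := by
    intro m
    induction m with
    | zero => simp
    | succ m ih =>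
      calc ε * (r ^ (m + 1) * s ^ (m + 1)) = (ε * r * s) * (r ^ m * s ^ m) := by ring
        _ = ε := by rw [hs, ih]
  have hidem : IsIdempotentElem (ε : S) := by
    have := congrArg Subtype.val hε
    simpa [IsIdempotentElem] using this
  refine ⟨(ε : S), hidem, hεt, ?_⟩
  have hEq : (Ideal.span {(ε : S)}).restrictScalars R =
      Submodule.map (LinearMap.mulLeft R (ε : S)) (Subalgebra.toSubmodule T) := by
    apply le_antisymm
    · intro y hy
      rw [Submodule.restrictScalars_mem, Ideal.mem_span_singleton'] at hy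
      obtain ⟨z, rfl⟩ := hy
      obtain ⟨b, m, hb⟩ := Localization.awayMap_surjective_iff.1 hr.2 z
      have hb' : (b : S) = (r : S) ^ m * z := hb
      refine ⟨((ε * s ^ m * b : T) : S), (ε * s ^ m * b : T).2, ?_⟩
      change (ε : S) * ((ε * s ^ m * b : T) : S) = z * (ε : S)
      have h1 : ((ε * s ^ m * b : T) : S) = (ε : S) * (s : S) ^ m * ((r : S) ^ m * z) := by
        rw [← hb']; simp
      have h2 : (ε : S) * ((r : S) ^ m * (s : S) ^ m) = (ε : S) := by
        have := congrArg Subtype.val (hpow m)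
        simpa using this
      rw [h1]
      linear_combination ((ε : S) * z) * h2 + z * hidem.eq
    · rintro _ ⟨x, -, rfl⟩
      rw [Submodule.restrictScalars_mem]
      change (ε : S) * x ∈ Ideal.span {(ε : S)}
      exact Ideal.mul_mem_right _ _ (Ideal.mem_span_singleton_self _)
  rw [hEq]
  exact hT.map _

section Join

variable {R : Type*} [CommRing R] {S : Type*} [CommRing S] [Algebra R S]

/-- Join of idempotents with finite parts. -/
theorem exists_idem_of_finset (Q : Finset (Ideal S))
    (hQ : ∀ q ∈ Q, ∃ e : S, IsIdempotentElem e ∧ e ∉ q ∧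
      ((Ideal.span {e}).restrictScalars R).FG) :
    ∃ e : S, IsIdempotentElem e ∧ (∀ q ∈ Q, e ∉ q) ∧ ((Ideal.span {e}).restrictScalars R).FG := by
  classical
  induction Q using Finset.induction_on with
  | empty =>
    refine ⟨0, IsIdempotentElem.zero, by simp, ?_⟩
    have : (Ideal.span {(0 : S)}).restrictScalars R = ⊥ := by
      rw [Ideal.span_singleton_zero]; rfl
    rw [this]; exact Submodule.fg_bot
  | insert q Q hq ih =>
    obtain ⟨e₁, he₁, he₁q, hfg₁⟩ := hQ q (Finset.mem_insert_self _ _)
    obtain ⟨e₂, he₂, he₂Q, hfg₂⟩ := ih fun q' hq' => hQ q' (Finset.mem_insert_of_mem hq')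
    set e := e₁ + e₂ - e₁ * e₂ with he
    have h1 : e₁ * e = e₁ := by
      rw [he]; linear_combination (1 - e₂) * he₁.eq
    have h2 : e₂ * e = e₂ := by
      rw [he]; linear_combination (1 - e₁) * he₂.eq
    have hidem : IsIdempotentElem e := by
      change e * e = e
      have : e * e = e₁ * e + e₂ * e - e₁ * (e₂ * e) := by rw [he]; ring
      rw [this, h1, h2]
    refine ⟨e, hidem, ?_, ?_⟩
    · intro q' hq' heq'
      rcases Finset.mem_insert.1 hq' with rfl | hq''
      · exact he₁q (h1 ▸ q'.mul_mem_left e₁ heq')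
      · exact he₂Q q' hq'' (h2 ▸ q'.mul_mem_left e₂ heq')
    · have hsup : Ideal.span {e} = Ideal.span {e₁} ⊔ Ideal.span {e₂} := by
        apply le_antisymm
        · rw [Ideal.span_singleton_le_iff_mem, he]
          refine Ideal.sub_mem _ (Ideal.add_mem _ (Ideal.mem_sup_left (Ideal.mem_span_singleton_self _))
            (Ideal.mem_sup_right (Ideal.mem_span_singleton_self _))) ?_
          exact Ideal.mem_sup_left (Ideal.mul_mem_right _ _ (Ideal.mem_span_singleton_self _))
        · rw [sup_le_iff, Ideal.span_singleton_le_iff_mem, Ideal.span_singleton_le_iff_mem]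
          constructor
          · rw [← h1]; exact Ideal.mul_mem_left _ _ (Ideal.mem_span_singleton_self _)
          · rw [← h2]; exact Ideal.mul_mem_left _ _ (Ideal.mem_span_singleton_self _)
      have : (Ideal.span {e}).restrictScalars R =
          (Ideal.span {e₁}).restrictScalars R ⊔ (Ideal.span {e₂}).restrictScalars R := by
        rw [hsup, Submodule.restrictScalars_sup]
      rw [this]
      exact hfg₁.sup hfg₂

/-- From finiteness of `eS` to finiteness of `S/(1-e)`. -/
theorem finite_quot_of_fg (e : S) (hfg : ((Ideal.span {e}).restrictScalars R).FG) :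
    Module.Finite R (S ⧸ Ideal.span ({1 - e} : Set S)) := by
  haveI : Module.Finite R ((Ideal.span {e}).restrictScalars R) := ⟨(Submodule.fg_top _).2 hfg⟩
  let f : ((Ideal.span {e}).restrictScalars R) →ₗ[R] (S ⧸ Ideal.span ({1 - e} : Set S)) :=
    ((Ideal.Quotient.mkₐ R (Ideal.span ({1 - e} : Set S))).toLinearMap).comp
      (Submodule.subtype _)
  refine Module.Finite.of_surjective f ?_
  intro y
  obtain ⟨x, rfl⟩ := Ideal.Quotient.mk_surjective y
  refine ⟨⟨e * x, ?_⟩, ?_⟩
  · rw [Submodule.restrictScalars_mem]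
    exact Ideal.mul_mem_right _ _ (Ideal.mem_span_singleton_self _)
  · change Ideal.Quotient.mk _ (e * x) = Ideal.Quotient.mk _ x
    rw [Ideal.Quotient.eq]
    have : e * x - x = -((1 - e) * x) := by ring
    rw [this]
    exact (Ideal.span ({1 - e} : Set S)).neg_mem
      (Ideal.mul_mem_right _ _ (Ideal.mem_span_singleton_self _))

end Join

/-- S0503 -/
theorem qf_split (R : Type u) [CommRing R] [HenselianLocalRing R]
    (S : Type u) [CommRing S] [Algebra R S] [Algebra.FiniteType R S] [Algebra.QuasiFinite R S] :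
    ∃ e : S, IsIdempotentElem e ∧ Module.Finite R (S ⧸ Ideal.span ({1 - e} : Set S)) ∧
      Ideal.map (algebraMap R (S ⧸ Ideal.span ({e} : Set S))) (IsLocalRing.maximalIdeal R) = ⊤ := by
  classical
  set m := IsLocalRing.maximalIdeal R with hm
  have hfin : (m.primesOver S).Finite := Algebra.QuasiFinite.finite_primesOver m
  obtain ⟨e, he, heQ, hfg⟩ := exists_idem_of_finset (R := R) hfin.toFinset (by
    intro q hq
    rw [Set.Finite.mem_toFinset] at hq
    haveI := hq.1
    haveI := hq.2
    exact exists_idem_of_qfAt R S q)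
  refine ⟨e, he, finite_quot_of_fg e hfg, ?_⟩
  by_contra hne
  obtain ⟨M, hM, hle⟩ := Ideal.exists_le_maximal _ hne
  set q := M.comap (Ideal.Quotient.mk (Ideal.span ({e} : Set S))) with hq
  haveI : q.IsPrime := Ideal.comap_isPrime _ _
  have heq : e ∈ q := by
    rw [hq, Ideal.mem_comap]
    have : Ideal.Quotient.mk (Ideal.span ({e} : Set S)) e = 0 :=
      Ideal.Quotient.eq_zero_iff_mem.2 (Ideal.mem_span_singleton_self _)
    rw [this]; exact M.zero_mem
  have hover : q.LiesOver m := by
    constructor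
    have hle' : m ≤ q.under R := by
      intro x hx
      rw [Ideal.under, Ideal.mem_comap, hq, Ideal.mem_comap]
      exact hle (Ideal.mem_map_of_mem _ hx)
    have hne' : q.under R ≠ ⊤ := (Ideal.comap_isPrime (algebraMap R S) q).ne_top
    exact (IsLocalRing.maximalIdeal.isMaximal R).eq_of_le hne' hle'
  exact heQ q (by rw [Set.Finite.mem_toFinset]; exact ⟨inferInstance, hover⟩) heq

end Groth.Agent.Helper3.HensQF
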