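import Mathlib
import Groth.Agent.Helper3.ComplFlat
import Groth.Agent.Helper1.InvLimMod

set_option autoImplicit false
set_option linter.style.haveILetI false

namespace Groth.Agent.Helper3.ComplUnram

open TensorProduct IsLocalRing AdicCompletion

universe u

/-- Complete Nakayama: over a precomplete ring, a Hausdorff module which is finite modulo `I`
is finite. -/
theorem finite_of_finite_quotient {R : Type u} [CommRing R] (I : Ideal R) [IsPrecomplete I R]
    {N : Type*} [AddCommGroup N] [Module R N] [IsHausdorff I N]
    [Module.Finite R (N ⧸ (I • ⊤ : Submodule R N))] : Module.Finite R N := by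
  obtain ⟨n, p, hp⟩ := Module.Finite.exists_fin' R (N ⧸ (I • ⊤ : Submodule R N))
  obtain ⟨f, hf⟩ := Module.projective_lifting_property (Submodule.mkQ (I • ⊤ : Submodule R N)) p
    (Submodule.mkQ_surjective _)
  haveI := Groth.Agent.Helper1.InvLimMod.isPrecomplete_pi I n
  have : Function.Surjective f := surjective_of_mkQ_comp_surjective (I := I) (by rw [hf]; exact hp)
  exact Module.Finite.of_surjective f this

section Main

variable (A B : Type u) [CommRing A] [CommRing B] [IsLocalRing A] [IsLocalRing B]
  [IsNoetherianRing A] [IsNoetherianRing B] [Algebra A B] [IsLocalHom (algebraMap A B)]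
  (ψ : AdicCompletion (maximalIdeal A) A →+* AdicCompletion (maximalIdeal B) B)
  (hψ : ψ.comp (algebraMap A (AdicCompletion (maximalIdeal A) A)) =
    (algebraMap B (AdicCompletion (maximalIdeal B) B)).comp (algebraMap A B))

local notation "Â" => AdicCompletion (maximalIdeal A) A
local notation "B̂" => AdicCompletion (maximalIdeal B) B

include hψ

theorem map_maximalIdeal_eq :
    (maximalIdeal Â).map ψ = ((maximalIdeal A).map (algebraMap A B)).map (algebraMap B B̂) := by
  rw [maximalIdeal_eq_map, Ideal.map_map, hψ, ← Ideal.map_map]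

theorem map_maximalIdeal_le : (maximalIdeal Â).map ψ ≤ maximalIdeal B̂ := by
  rw [map_maximalIdeal_eq A B ψ hψ, maximalIdeal_eq_map (R := B)]
  refine Ideal.map_mono ?_
  exact Ideal.map_le_iff_le_comap.mpr (IsLocalRing.maximalIdeal_comap (algebraMap A B)).ge

theorem isLocalHom : IsLocalHom ψ :=
  ((IsLocalRing.local_hom_TFAE ψ).out 0 2).mpr (map_maximalIdeal_le A B ψ hψ)

/-- `m_Â B̂ = m_B̂` iff `m_A B = m_B`. -/
theorem map_maximalIdeal_eq_iff :
    (maximalIdeal Â).map ψ = maximalIdeal B̂ ↔
      (maximalIdeal A).map (algebraMap A B) = maximalIdeal B := by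
  rw [map_maximalIdeal_eq A B ψ hψ, maximalIdeal_eq_map (R := B)]
  haveI : Module.FaithfullyFlat B B̂ := Module.FaithfullyFlat.of_flat_of_isLocalHom
  exact ⟨fun h => Ideal.map_injective_of_faithfullyFlat (B := B̂) h, fun h => by rw [h]⟩

omit hψ in
/-- The residue field isomorphism `κ(A) ≃ κ(Â)`. -/
noncomputable def resEquiv : ResidueField A ≃+* ResidueField Â :=
  RingEquiv.ofBijective (ResidueField.map (algebraMap A Â)) (residueField_map_bijective A)

theorem res_square [Algebra Â B̂] (halg : algebraMap Â B̂ = ψ) [IsLocalHom (algebraMap Â B̂)] :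
    (algebraMap (ResidueField Â) (ResidueField B̂)).comp ((resEquiv A : _ ≃+* _) : _ →+* _) =
      ((resEquiv B : _ ≃+* _) : _ →+* _).comp (algebraMap (ResidueField A) (ResidueField B)) := by
  apply RingHom.ext
  intro x
  obtain ⟨a, rfl⟩ := residue_surjective x
  simp only [RingHom.comp_apply, RingEquiv.coe_toRingHom, resEquiv, RingEquiv.ofBijective_apply,
    ResidueField.algebraMap_residue, ResidueField.map_residue]
  rw [halg]
  exact congrArg _ (RingHom.congr_fun hψ a)

theorem res_square_symm [Algebra Â B̂] (halg : algebraMap Â B̂ = ψ) [IsLocalHom (algebraMap Â B̂)] :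
    (algebraMap (ResidueField A) (ResidueField B)).comp (((resEquiv A).symm : _ ≃+* _) : _ →+* _) =
      (((resEquiv B).symm : _ ≃+* _) : _ →+* _).comp
        (algebraMap (ResidueField Â) (ResidueField B̂)) := by
  apply RingHom.ext
  intro x
  have h := RingHom.congr_fun (res_square A B ψ hψ halg) ((resEquiv A).symm x)
  simp only [RingHom.comp_apply, RingEquiv.coe_toRingHom, RingEquiv.apply_symm_apply] at h
  simp only [RingHom.comp_apply, RingEquiv.coe_toRingHom]
  rw [h, RingEquiv.symm_apply_apply]

/-- The completion of `B` is finite over the completion of `A` if `m_A B = m_B` and the residue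
field extension is finite. -/
theorem finite_completion [Algebra Â B̂] (halg : algebraMap Â B̂ = ψ)
    (hm : (maximalIdeal A).map (algebraMap A B) = maximalIdeal B)
    [Module.Finite (ResidueField A) (ResidueField B)] : Module.Finite Â B̂ := by
  have hmax : (maximalIdeal Â).map (algebraMap Â B̂) = maximalIdeal B̂ := by
    rw [halg]; exact (map_maximalIdeal_eq_iff A B ψ hψ).mpr hm
  haveI : IsLocalHom (algebraMap Â B̂) := by rw [halg]; exact isLocalHom A B ψ hψ
  haveI : Module.Finite (ResidueField Â) (ResidueField B̂) :=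
    Module.Finite.of_equiv_equiv (resEquiv A) (resEquiv B) (res_square A B ψ hψ halg)
  haveI : Module.Finite Â (ResidueField B̂) := Module.Finite.trans (ResidueField Â) _
  haveI : IsHausdorff (maximalIdeal Â) B̂ := by
    rw [← IsHausdorff.map_algebraMap_iff (S := B̂), hmax]; infer_instance
  have hsub : (maximalIdeal Â • ⊤ : Submodule Â B̂) = (maximalIdeal B̂).restrictScalars Â := by
    rw [Ideal.smul_top_eq_map, hmax]
  haveI : Module.Finite Â (B̂ ⧸ (maximalIdeal Â • ⊤ : Submodule Â B̂)) := by
    refine Module.Finite.equiv (M := ResidueField B̂) ?_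
    exact ((Submodule.quotEquivOfEq _ _ hsub) ≪≫ₗ
      Submodule.Quotient.restrictScalarsEquiv Â (maximalIdeal B̂)).symm
  exact finite_of_finite_quotient (maximalIdeal Â)

theorem unramified_iff :
    ((maximalIdeal A).map (algebraMap A B) = maximalIdeal B ∧
        Module.Finite (ResidueField A) (ResidueField B) ∧
        Algebra.IsSeparable (ResidueField A) (ResidueField B)) ↔
      (ψ.FiniteType ∧ ψ.FormallyUnramified) := by
  letI := ψ.toAlgebra
  have halg : algebraMap Â B̂ = ψ := rfl
  haveI : IsLocalHom (algebraMap Â B̂) := isLocalHom A B ψ hψ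
  constructor
  · rintro ⟨hm, hfin, hsep⟩
    haveI := finite_completion A B ψ hψ halg hm
    have hmax : (maximalIdeal Â).map (algebraMap Â B̂) = maximalIdeal B̂ :=
      (map_maximalIdeal_eq_iff A B ψ hψ).mpr hm
    haveI : Algebra.IsSeparable (ResidueField Â) (ResidueField B̂) :=
      Algebra.IsSeparable.of_equiv_equiv (resEquiv A) (resEquiv B) (res_square A B ψ hψ halg)
    refine ⟨?_, ?_⟩
    · change Algebra.FiniteType Â B̂
      infer_instance
    · change Algebra.FormallyUnramified Â B̂
      exact Algebra.FormallyUnramified.of_map_maximalIdeal hmax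
  · rintro ⟨hft, hun⟩
    haveI : Algebra.FiniteType Â B̂ := hft
    haveI : Algebra.FormallyUnramified Â B̂ := hun
    have hmax := Algebra.FormallyUnramified.map_maximalIdeal (R := Â) (S := B̂)
    refine ⟨(map_maximalIdeal_eq_iff A B ψ hψ).mp hmax, ?_, ?_⟩
    · exact Module.Finite.of_equiv_equiv (resEquiv A).symm (resEquiv B).symm
        (res_square_symm A B ψ hψ halg)
    · exact Algebra.IsSeparable.of_equiv_equiv (resEquiv A).symm (resEquiv B).symm
        (res_square_symm A B ψ hψ halg)

end Main

end Groth.Agent.Helper3.ComplUnram
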