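import Groth.Agent.Helper3.HensEtale

/-!
Homomorphisms of finite étale algebras over a henselian pair.
-/

namespace Groth.Agent.Helper3.HensFEt

open Groth.Agent.Helper3.HensGabber
open scoped TensorProduct

universe u

/-- Two maps out of an unramified algebra that agree modulo an ideal in the Jacobson radical
are equal. -/
theorem unram_unique {A : Type*} [CommRing A] {B C : Type*} [CommRing B] [CommRing C]
    [Algebra A B] [Algebra A C] [Algebra.FormallyUnramified A B] [Algebra.EssFiniteType A B]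
    (J : Ideal C) (hJ : J ≤ Ideal.jacobson ⊥)
    (φ ψ : B →ₐ[A] C) (h : ∀ b, φ b - ψ b ∈ J) : φ = ψ := by
  set t := Algebra.FormallyUnramified.elem A B with ht
  let Φ : B ⊗[A] B →ₐ[A] C := Algebra.TensorProduct.productMap ψ φ
  let Ψ : B ⊗[A] B →ₐ[A] C := Algebra.TensorProduct.productMap ψ ψ
  have hΦΨ : ∀ x, Φ x - Ψ x ∈ J := by
    intro x
    induction x using TensorProduct.induction_on with
    | zero => simp
    | tmul a b =>
      have : Φ (a ⊗ₜ b) - Ψ (a ⊗ₜ b) = ψ a * (φ b - ψ b) := by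
        simp only [Φ, Ψ, Algebra.TensorProduct.productMap_apply_tmul]; ring
      rw [this]
      exact J.mul_mem_left _ (h b)
    | add x y hx hy =>
      have : Φ (x + y) - Ψ (x + y) = (Φ x - Ψ x) + (Φ y - Ψ y) := by
        rw [map_add, map_add]; ring
      rw [this]
      exact J.add_mem hx hy
  have hΨ : Ψ t = 1 := by
    have : Ψ = ψ.comp (Algebra.TensorProduct.lmul' A) := by
      apply Algebra.TensorProduct.ext'
      intro a b
      simp [Ψ]
    rw [this, AlgHom.comp_apply, ht, Algebra.FormallyUnramified.lmul_elem, map_one]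
  have hc : IsUnit (Φ t) := by
    refine isUnit_of_sub_one_mem hJ ?_
    rw [← hΨ]
    exact hΦΨ t
  ext s
  have h0 := Algebra.FormallyUnramified.one_tmul_sub_tmul_one_mul_elem (R := A) (S := B) s
  have h1 : (φ s - ψ s) * Φ t = 0 := by
    have := congrArg Φ h0
    rw [map_mul, map_sub, map_zero] at this
    simpa [Φ] using this
  have := (hc.mul_left_eq_zero).1 h1
  exact sub_eq_zero.1 this

/-- Over a henselian pair, reduction mod `I` is bijective on homs between finite étale algebras. -/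
theorem fet_hom_bijective (A : Type u) [CommRing A] (I : Ideal A) [HenselianRing A I]
    (B₁ B₂ : Type u) [CommRing B₁] [CommRing B₂] [Algebra A B₁] [Algebra A B₂]
    [Algebra.Etale A B₁] [Module.Finite A B₂] :
    Function.Bijective (fun φ : B₁ →ₐ[A] B₂ =>
      Algebra.TensorProduct.map (AlgHom.id (A ⧸ I) (A ⧸ I)) φ) := by
  set J := I.map (algebraMap A B₂) with hJ
  haveI hB₂ : HenselianRing B₂ J := HensRows.hens_of_isIntegral A I B₂
  let e₂ : (B₂ ⧸ J) ≃ₐ[A ⧸ I] (A ⧸ I) ⊗[A] B₂ :=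
    Algebra.TensorProduct.quotIdealMapEquivQuotTensor B₂ I
  have he₂ : ∀ b : B₂, e₂ (Ideal.Quotient.mk J b) = 1 ⊗ₜ[A] b := fun b => rfl
  constructor
  · intro φ ψ hφψ
    refine unram_unique J hB₂.jac φ ψ fun b => ?_
    have h1 : (1 : A ⧸ I) ⊗ₜ[A] φ b = 1 ⊗ₜ[A] ψ b := by
      have := congr($hφψ (1 ⊗ₜ[A] b))
      simpa using this
    rw [← he₂, ← he₂] at h1
    exact Ideal.Quotient.eq.1 (e₂.injective h1)
  · intro g
    let g' : B₁ →ₐ[A] B₂ ⧸ J :=
      ((e₂.symm.toAlgHom.restrictScalars A).comp (g.restrictScalars A)).comp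
        Algebra.TensorProduct.includeRight
    have hg' : ∀ b, e₂ (g' b) = g (1 ⊗ₜ[A] b) := by
      intro b
      change e₂ (e₂.symm (g (1 ⊗ₜ[A] b))) = _
      rw [e₂.apply_symm_apply]
    let σ : B₂ ⊗[A] B₁ →ₐ[B₂] B₂ ⧸ J :=
      Algebra.TensorProduct.lift (Algebra.ofId B₂ (B₂ ⧸ J)) g' (fun _ _ => Commute.all _ _)
    obtain ⟨τ, hτ⟩ := HensEtale.etale_lift J (B₂ ⊗[A] B₁) σ
    let φ : B₁ →ₐ[A] B₂ := (τ.restrictScalars A).comp Algebra.TensorProduct.includeRight
    have hφ : ∀ b, Ideal.Quotient.mk J (φ b) = g' b := by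
      intro b
      have := congr($hτ (1 ⊗ₜ[A] b))
      have h2 : σ (1 ⊗ₜ[A] b) = g' b := by
        simp [σ]
      rw [h2] at this
      exact this
    refine ⟨φ, ?_⟩
    apply Algebra.TensorProduct.ext'
    intro a b
    have h3 : (Algebra.TensorProduct.map (AlgHom.id (A ⧸ I) (A ⧸ I)) φ) (a ⊗ₜ[A] b) =
        a • ((1 : A ⧸ I) ⊗ₜ[A] φ b) := by
      rw [Algebra.TensorProduct.map_tmul, TensorProduct.smul_tmul', smul_eq_mul, mul_one]
      rfl
    have h4 : g (a ⊗ₜ[A] b) = a • g (1 ⊗ₜ[A] b) := by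
      rw [← map_smul, TensorProduct.smul_tmul', smul_eq_mul, mul_one]
    rw [h3, h4, ← hg', ← hφ, he₂]

end Groth.Agent.Helper3.HensFEt
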