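import Mathlib
import Groth.Prelude.Def_Found
import Groth.Agent.Helper3.ML

/-! Mittag-Leffler modules: domination by maps to finitely presented modules. -/

universe u

open scoped TensorProduct

namespace Groth.Agent.Helper3

variable {R : Type u} [CommRing R]

theorem exists_fg_rTensor_eq_zero' {M N : Type*} [AddCommGroup M] [Module R M]
    [AddCommGroup N] [Module R N]
    (P : Submodule R M) (hP : P.FG) (u : P ⊗[R] N) (hu : (P.subtype.rTensor N) u = 0) :
    ∃ (Q : Submodule R M) (_ : Q.FG) (hPQ : P ≤ Q), ((Submodule.inclusion hPQ).rTensor N) u = 0 := by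
  classical
  have h1 : Module.DirectLimit.of R {P : Submodule R M // P.FG} (fun P => P.val ⊗[R] N)
      (fun _ _ h => (Submodule.inclusion h).rTensor N) ⟨P, hP⟩ u = 0 := by
    apply (Submodule.FG.rTensor.directLimit R M N).injective
    rw [Submodule.FG.rTensor.directLimit_apply' R M N hP, hu, map_zero]
  obtain ⟨Q, hPQ, h⟩ := Module.DirectLimit.of.zero_exact h1
  exact ⟨Q.1, Q.2, hPQ, h⟩

/-- Key lemma: an element of the kernel of `f ⊗ N` (with `f : Rⁿ → M`) is already killed by a
factorization of `f` through a finitely presented module. -/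
theorem exists_fac_rTensor_eq_zero {M : Type u} [AddCommGroup M] [Module R M] {n : ℕ}
    (f : (Fin n → R) →ₗ[R] M) (N : Type u) [AddCommGroup N] [Module R N]
    (y : (Fin n → R) ⊗[R] N) (hy : f.rTensor N y = 0) :
    ∃ (m : ℕ) (K : Submodule R (Fin m → R)) (_ : K.FG)
      (g : (Fin n → R) →ₗ[R] (Fin m → R) ⧸ K) (h : ((Fin m → R) ⧸ K) →ₗ[R] M),
      h ∘ₗ g = f ∧ g.rTensor N y = 0 := by
  classical
  set e : Fin n → (Fin n → R) := fun a => Pi.single a 1 with he_def
  have he : Submodule.span R (Set.range e) = ⊤ := by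
    have := (Pi.basisFun R (Fin n)).span_eq
    convert this using 3
    funext a
    simp [e]
  obtain ⟨yy, rfl⟩ := exists_sum_tmul_of_span_eq_top e he N y
  have hy' : ∑ a, f (e a) ⊗ₜ[R] yy a = 0 := by
    rw [map_sum] at hy
    simpa using hy
  -- the finitely generated submodule
  let P0 : Submodule R M := Submodule.span R (Set.range (fun a => f (e a)))
  have hP0 : P0.FG := Submodule.fg_span (Set.finite_range _)
  have hmem : ∀ a, f (e a) ∈ P0 := fun a => Submodule.subset_span ⟨a, rfl⟩
  let u0 : P0 ⊗[R] N := ∑ a, (⟨f (e a), hmem a⟩ : P0) ⊗ₜ[R] yy a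
  have hu0 : (P0.subtype.rTensor N) u0 = 0 := by
    simp only [u0, map_sum, LinearMap.rTensor_tmul, Submodule.subtype_apply]
    exact hy'
  obtain ⟨M', hM'fg, hle, hu⟩ := exists_fg_rTensor_eq_zero' P0 hP0 u0 hu0
  have : Module.Finite R M' := Module.Finite.iff_fg.mpr hM'fg
  obtain ⟨p, gen, hgen⟩ := Module.Finite.exists_fin (R := R) (M := M')
  have hmem' : ∀ a, f (e a) ∈ M' := fun a => hle (hmem a)
  let mm : Fin (n + p) → M' := Fin.append (fun a => (⟨f (e a), hmem' a⟩ : M')) gen
  let nn : Fin (n + p) → N := Fin.append yy (fun _ => 0)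
  have hspan : Submodule.span R (Set.range mm) = ⊤ := by
    rw [← top_le_iff, ← hgen]
    refine Submodule.span_le.mpr ?_
    rintro _ ⟨b, rfl⟩
    exact Submodule.subset_span ⟨Fin.natAdd n b, by simp [mm]⟩
  have hsum : ∑ i, mm i ⊗ₜ[R] nn i = 0 := by
    rw [Fin.sum_univ_add]
    simp only [mm, nn, Fin.append_left, Fin.append_right, TensorProduct.tmul_zero,
      Finset.sum_const_zero, add_zero]
    have hu' : ((Submodule.inclusion hle).rTensor N) u0 =
        ∑ x, (⟨f (e x), hmem' x⟩ : M') ⊗ₜ[R] yy x := by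
      simp only [u0, map_sum, LinearMap.rTensor_tmul]
      rfl
    rw [← hu', hu]
  obtain ⟨k, a, y', h1, h2⟩ := TensorProduct.vanishesTrivially_of_sum_tmul_eq_zero R hspan hsum
  let K : Submodule R (Fin (n + p) → R) := Submodule.span R (Set.range (fun j : Fin k => fun i => a i j))
  have hK : K.FG := Submodule.fg_span (Set.finite_range _)
  let g0 : (Fin n → R) →ₗ[R] (Fin (n + p) → R) :=
    Fintype.linearCombination R (fun a => (Pi.single (Fin.castAdd p a) (1 : R) : Fin (n + p) → R))
  let h0 : (Fin (n + p) → R) →ₗ[R] M := M'.subtype ∘ₗ Fintype.linearCombination R mm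
  have hK0 : K ≤ LinearMap.ker h0 := by
    refine Submodule.span_le.mpr ?_
    rintro _ ⟨j, rfl⟩
    simp only [SetLike.mem_coe, LinearMap.mem_ker, h0, LinearMap.comp_apply,
      Fintype.linearCombination_apply, h2 j, map_zero]
  refine ⟨n + p, K, hK, K.mkQ ∘ₗ g0, K.liftQ h0 hK0, ?_, ?_⟩
  · refine (Pi.basisFun R (Fin n)).ext fun a => ?_
    simp only [LinearMap.comp_apply, Pi.basisFun_apply, g0, Submodule.mkQ_apply,
      Submodule.liftQ_apply, h0, Submodule.subtype_apply]
    rw [Fintype.linearCombination_apply_single, one_smul, Fintype.linearCombination_apply_single,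
      one_smul]
    simp [mm, e]
  · rw [map_sum]
    have h3 : ∀ a', ((K.mkQ ∘ₗ g0).rTensor N) (e a' ⊗ₜ[R] yy a') =
        K.mkQ (Pi.single (Fin.castAdd p a') 1) ⊗ₜ[R] nn (Fin.castAdd p a') := by
      intro a'
      simp only [LinearMap.rTensor_tmul, LinearMap.comp_apply, g0, e, nn, Fin.append_left]
      rw [Fintype.linearCombination_apply_single, one_smul]
    rw [Finset.sum_congr rfl (fun a' _ => h3 a')]
    have h4 : ∑ i, K.mkQ (Pi.single i 1) ⊗ₜ[R] nn i = 0 := by
      apply TensorProduct.sum_tmul_eq_zero_of_vanishesTrivially R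
      refine ⟨k, a, y', h1, fun j => ?_⟩
      simp only [← map_smul, ← map_sum]
      rw [Submodule.mkQ_apply, Submodule.Quotient.mk_eq_zero]
      refine Submodule.subset_span ⟨j, ?_⟩
      funext i
      simp [Finset.sum_apply, Pi.single_apply]
    rw [Fin.sum_univ_add] at h4
    simpa [nn] using h4

/-- Factorizations of `f` through finitely presented quotients of finite free modules. -/
structure Fac {M : Type u} [AddCommGroup M] [Module R M] {n : ℕ} (f : (Fin n → R) →ₗ[R] M) :
    Type u where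
  m : ℕ
  K : Submodule R (Fin m → R)
  fg : K.FG
  g : (Fin n → R) →ₗ[R] (Fin m → R) ⧸ K
  h : ((Fin m → R) ⧸ K) →ₗ[R] M
  comm : h ∘ₗ g = f

theorem finitePresentation_quot {m : ℕ} (K : Submodule R (Fin m → R)) (hK : K.FG) :
    Module.FinitePresentation R ((Fin m → R) ⧸ K) :=
  Module.finitePresentation_of_free_of_surjective K.mkQ (Submodule.mkQ_surjective K)
    (by rwa [Submodule.ker_mkQ])

theorem ker_rTensor_le_of_comp {A B C : Type u} [AddCommGroup A] [Module R A] [AddCommGroup B]
    [Module R B] [AddCommGroup C] [Module R C] {f : A →ₗ[R] C} {g : A →ₗ[R] B} {h : B →ₗ[R] C}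
    (hc : h ∘ₗ g = f) (N : Type u) [AddCommGroup N] [Module R N] :
    LinearMap.ker (g.rTensor N) ≤ LinearMap.ker (f.rTensor N) := by
  intro x hx
  rw [LinearMap.mem_ker] at hx ⊢
  rw [← hc, LinearMap.rTensor_comp, LinearMap.comp_apply, hx, map_zero]

/-- Mittag-Leffler modules: every map from a finite free module is dominated by a factorization
through a finitely presented module. -/
theorem exists_dom_of_isML {M : Type u} [AddCommGroup M] [Module R M]
    (hM : CAlg.IsMittagLeffler R M) {n : ℕ} (f : (Fin n → R) →ₗ[R] M) :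
    ∃ (m : ℕ) (K : Submodule R (Fin m → R)) (_ : K.FG)
      (g : (Fin n → R) →ₗ[R] (Fin m → R) ⧸ K) (h : ((Fin m → R) ⧸ K) →ₗ[R] M),
      h ∘ₗ g = f ∧ ∀ (N : Type u) [AddCommGroup N] [Module R N],
        LinearMap.ker (f.rTensor N) = LinearMap.ker (g.rTensor N) := by
  classical
  by_contra hcon
  have key : ∀ j : Fac f, ∃ (N : Type u) (_ : AddCommGroup N) (_ : Module R N)
      (y : (Fin n → R) ⊗[R] N), f.rTensor N y = 0 ∧ j.g.rTensor N y ≠ 0 := by
    intro j
    by_contra hj
    apply hcon
    refine ⟨j.m, j.K, j.fg, j.g, j.h, j.comm, fun N _ _ => le_antisymm ?_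
      (ker_rTensor_le_of_comp j.comm N)⟩
    intro y hy
    by_contra hy'
    exact hj ⟨N, inferInstance, inferInstance, y, hy, hy'⟩
  choose N i1 i2 y hy1 hy2 using key
  obtain ⟨yy, hyy⟩ := piRightHom_surjective_of_finite N (Fin n → R) (fun j => y j)
  have h0 : (f.rTensor (∀ j, N j)) yy = 0 := by
    apply hM (Fac f) N
    rw [piRightHom_rTensor, map_zero, hyy]
    funext j
    exact hy1 j
  obtain ⟨m, K, hK, g, h, hc, hg⟩ := exists_fac_rTensor_eq_zero f (∀ j, N j) yy h0
  have h1 := piRightHom_rTensor N g yy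
  rw [hg, map_zero, hyy] at h1
  exact hy2 ⟨m, K, hK, g, h, hc⟩ (congrFun h1 ⟨m, K, hK, g, h, hc⟩).symm

/-- every element of `M ⊗ N` comes from a finite free module -/
theorem exists_rTensor_eq {M N : Type u} [AddCommGroup M] [Module R M] [AddCommGroup N]
    [Module R N] (x : M ⊗[R] N) :
    ∃ (n : ℕ) (f : (Fin n → R) →ₗ[R] M) (y : (Fin n → R) ⊗[R] N), f.rTensor N y = x := by
  classical
  obtain ⟨S, rfl⟩ := TensorProduct.exists_finset x
  let e : Fin S.card ≃ S := S.equivFin.symm
  refine ⟨S.card, Fintype.linearCombination R (fun a => (e a).1.1),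
    ∑ a, (Pi.single a (1 : R) : Fin S.card → R) ⊗ₜ[R] (e a).1.2, ?_⟩
  rw [map_sum]
  simp only [LinearMap.rTensor_tmul]
  rw [← Finset.sum_coe_sort S, ← Equiv.sum_comp e]
  refine Finset.sum_congr rfl fun a _ => ?_
  rw [Fintype.linearCombination_apply_single, one_smul]

/-- domination ⇒ Mittag-Leffler -/
theorem isML_of_forall_exists_dom {M : Type u} [AddCommGroup M] [Module R M]
    (h : ∀ (n : ℕ) (f : (Fin n → R) →ₗ[R] M),
        ∃ (Q : Type u) (_ : AddCommGroup Q) (_ : Module R Q) (_ : Module.FinitePresentation R Q)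
          (g : (Fin n → R) →ₗ[R] Q),
          ∀ (N : Type u) [AddCommGroup N] [Module R N],
            LinearMap.ker (f.rTensor N) = LinearMap.ker (g.rTensor N)) :
    CAlg.IsMittagLeffler R M := by
  intro ι Q _ _
  rw [injective_iff_map_eq_zero]
  intro x hx
  obtain ⟨n, f, y, rfl⟩ := exists_rTensor_eq x
  obtain ⟨P, _, _, _, g, hg⟩ := h n f
  rw [piRightHom_rTensor] at hx
  have h1 : TensorProduct.piRightHom R R P Q (g.rTensor (∀ i, Q i) y) = 0 := by
    rw [piRightHom_rTensor]
    funext i
    have := congrFun hx i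
    have h3 : TensorProduct.piRightHom R R (Fin n → R) Q y i ∈ LinearMap.ker (f.rTensor (Q i)) :=
      this
    rw [hg (Q i)] at h3
    exact h3
  have h2 : g.rTensor (∀ i, Q i) y = 0 :=
    (piRightHom_bijective_of_finitePresentation Q P).1 (by rw [h1, map_zero])
  have h4 : y ∈ LinearMap.ker (g.rTensor (∀ i, Q i)) := h2
  rw [← hg] at h4
  exact h4

/-- Factor a linear map through a surjection whose kernel it kills. -/
theorem exists_factor_of_surjective {A B C : Type*} [AddCommGroup A] [Module R A]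
    [AddCommGroup B] [Module R B] [AddCommGroup C] [Module R C] (π : A →ₗ[R] B)
    (hπ : Function.Surjective π) (g : A →ₗ[R] C) (hle : LinearMap.ker π ≤ LinearMap.ker g) :
    ∃ g' : B →ₗ[R] C, g' ∘ₗ π = g := by
  refine ⟨(LinearMap.ker π).liftQ g hle ∘ₗ (π.quotKerEquivOfSurjective hπ).symm.toLinearMap, ?_⟩
  ext v
  simp only [LinearMap.comp_apply, LinearEquiv.coe_coe]
  rw [LinearMap.quotKerEquivOfSurjective_symm_apply, Submodule.liftQ_apply]

/-- Mittag-Leffler modules: every map from a finite module is dominated by a factorization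
through a finitely presented module. -/
theorem exists_dom_of_isML_of_finite {M : Type u} [AddCommGroup M] [Module R M]
    (hM : CAlg.IsMittagLeffler R M) {P : Type u} [AddCommGroup P] [Module R P] [Module.Finite R P]
    (f : P →ₗ[R] M) :
    ∃ (Q : Type u) (_ : AddCommGroup Q) (_ : Module R Q) (_ : Module.FinitePresentation R Q)
      (g : P →ₗ[R] Q) (h : Q →ₗ[R] M),
      h ∘ₗ g = f ∧ ∀ (N : Type u) [AddCommGroup N] [Module R N],
        LinearMap.ker (f.rTensor N) = LinearMap.ker (g.rTensor N) := by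
  obtain ⟨n, π, hπ⟩ := Module.Finite.exists_fin' R P
  obtain ⟨m, K, hK, g, h, hc, hg⟩ := exists_dom_of_isML hM (f ∘ₗ π)
  have hle : LinearMap.ker π ≤ LinearMap.ker g := by
    intro v hv
    have h1 : v ⊗ₜ[R] (1 : R) ∈ LinearMap.ker ((f ∘ₗ π).rTensor R) := by
      rw [LinearMap.mem_ker, LinearMap.rTensor_tmul, LinearMap.comp_apply,
        LinearMap.mem_ker.mp hv, map_zero, TensorProduct.zero_tmul]
    rw [hg R, LinearMap.mem_ker, LinearMap.rTensor_tmul] at h1
    have h2 := congrArg (TensorProduct.rid R _) h1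
    rw [TensorProduct.rid_tmul, one_smul, map_zero] at h2
    exact h2
  obtain ⟨g', hg'⟩ := exists_factor_of_surjective π hπ g hle
  have hc' : h ∘ₗ g' = f := by
    apply LinearMap.ext
    intro p
    obtain ⟨v, rfl⟩ := hπ p
    have := LinearMap.congr_fun hc v
    rw [← hg'] at this
    exact this
  refine ⟨(Fin m → R) ⧸ K, inferInstance, inferInstance, finitePresentation_quot K hK, g', h, hc',
    fun N _ _ => ?_⟩
  ext z
  obtain ⟨w, rfl⟩ := LinearMap.rTensor_surjective N hπ z
  have h1 : (f.rTensor N) (π.rTensor N w) = ((f ∘ₗ π).rTensor N) w := by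
    rw [LinearMap.rTensor_comp, LinearMap.comp_apply]
  have h2 : (g'.rTensor N) (π.rTensor N w) = (g.rTensor N) w := by
    rw [← hg', LinearMap.rTensor_comp, LinearMap.comp_apply]
  rw [LinearMap.mem_ker, LinearMap.mem_ker, h1, h2, ← LinearMap.mem_ker, ← LinearMap.mem_ker, hg N]

end Groth.Agent.Helper3
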