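import Mathlib

/-! Universally injective maps and flatness: helper lemmas. -/

universe u

namespace Groth.Agent.Helper3

open TensorProduct

/-- `x ⊗ 1 = 0` in `M ⊗ R/I` iff `x ∈ I M`. -/
theorem tmul_one_eq_zero_iff {R : Type u} [CommRing R] (I : Ideal R) (M : Type u) [AddCommGroup M]
    [Module R M] (x : M) :
    (x ⊗ₜ[R] (1 : R ⧸ I) = 0) ↔ x ∈ I • (⊤ : Submodule R M) := by
  rw [← (TensorProduct.tensorQuotEquivQuotSMul M I).map_eq_zero_iff]
  have : (TensorProduct.tensorQuotEquivQuotSMul M I) (x ⊗ₜ[R] (1 : R ⧸ I))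
      = Submodule.Quotient.mk x := by
    have := TensorProduct.tensorQuotEquivQuotSMul_tmul_mk (M := M) I x 1
    simpa using this
  rw [this, Submodule.Quotient.mk_eq_zero]

/-- If `f ⊗ R/I` is injective and `f z ∈ I M₂` then `z ∈ I M₁`. -/
theorem mem_smul_top_of_rTensor_quotient_injective {R : Type u} [CommRing R] (I : Ideal R)
    {M₁ M₂ : Type u} [AddCommGroup M₁] [Module R M₁] [AddCommGroup M₂] [Module R M₂]
    (f : M₁ →ₗ[R] M₂) (hf : Function.Injective (f.rTensor (R ⧸ I))) (z : M₁)
    (hz : f z ∈ I • (⊤ : Submodule R M₂)) : z ∈ I • (⊤ : Submodule R M₁) := by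
  rw [← tmul_one_eq_zero_iff] at hz ⊢
  apply hf
  rw [map_zero, LinearMap.rTensor_tmul]
  exact hz

/-- Key chase: `M₁ → M₂ → M₃ → 0` exact, `M₂` flat and `M₁/IM₁ → M₂/IM₂` injective for an ideal `I`
implies `I ⊗ M₃ → R ⊗ M₃` injective. -/
theorem rTensor_subtype_injective_of_exact {R : Type u} [CommRing R] (I : Ideal R)
    {M₁ M₂ M₃ : Type u} [AddCommGroup M₁] [Module R M₁] [AddCommGroup M₂] [Module R M₂]
    [AddCommGroup M₃] [Module R M₃] (f : M₁ →ₗ[R] M₂) (g : M₂ →ₗ[R] M₃)
    (hexact : Function.Exact f g) (hg : Function.Surjective g) [Module.Flat R M₂]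
    (hf : Function.Injective (f.rTensor (R ⧸ I))) :
    Function.Injective (I.subtype.rTensor M₃) := by
  rw [injective_iff_map_eq_zero]
  intro x hx
  obtain ⟨y, rfl⟩ := LinearMap.lTensor_surjective I hg x
  -- y' : image of y in M₂
  have h1 : g.lTensor R (I.subtype.rTensor M₂ y) = 0 := by
    rw [← LinearMap.comp_apply, LinearMap.lTensor_comp_rTensor, ← LinearMap.rTensor_comp_lTensor,
      LinearMap.comp_apply, hx]
  set y' : M₂ := TensorProduct.lid R M₂ (I.subtype.rTensor M₂ y) with hy'
  have h2 : g y' = 0 := by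
    have h3 : g y' = TensorProduct.lid R M₃ (g.lTensor R (I.subtype.rTensor M₂ y)) := by
      rw [hy']
      generalize (I.subtype.rTensor M₂ y) = w
      induction w using TensorProduct.induction_on with
      | zero => simp
      | add a b ha hb => simp only [map_add, ha, hb]
      | tmul r m => simp
    rw [h3, h1, map_zero]
  obtain ⟨z, hz⟩ := (hexact y').1 h2
  have h4 : f z ∈ I • (⊤ : Submodule R M₂) := by
    rw [hz, ← Ideal.subtype_rTensor_range]
    exact ⟨y, rfl⟩
  have h5 : z ∈ I • (⊤ : Submodule R M₁) := mem_smul_top_of_rTensor_quotient_injective I f hf z h4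
  rw [← Ideal.subtype_rTensor_range] at h5
  obtain ⟨w, hw⟩ := h5
  -- y = (f.lTensor I) w
  have h6 : I.subtype.rTensor M₂ (f.lTensor I w) = I.subtype.rTensor M₂ y := by
    apply (TensorProduct.lid R M₂).injective
    rw [← hy', ← hz, ← hw]
    simp only [LinearMap.comp_apply, LinearEquiv.coe_coe]
    rw [← LinearMap.comp_apply (LinearMap.rTensor M₂ _), LinearMap.rTensor_comp_lTensor,
      ← LinearMap.lTensor_comp_rTensor, LinearMap.comp_apply]
    generalize (I.subtype.rTensor M₁ w) = v
    induction v using TensorProduct.induction_on with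
    | zero => simp
    | add a b ha hb => simp only [map_add, ha, hb]
    | tmul r m => simp
  have h7 : f.lTensor I w = y :=
    (Module.Flat.iff_rTensor_injective'.1 inferInstance I) h6
  rw [← h7, ← LinearMap.comp_apply, ← LinearMap.lTensor_comp, hexact.linearMap_comp_eq_zero]
  simp

/-- `M₁ → M₂ → M₃ → 0` exact, `M₂` flat, `M₁/IM₁ → M₂/IM₂` injective for all f.g. `I`: `M₃` flat. -/
theorem flat_of_exact_of_rTensor_quotient_injective {R : Type u} [CommRing R]
    {M₁ M₂ M₃ : Type u} [AddCommGroup M₁] [Module R M₁] [AddCommGroup M₂] [Module R M₂]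
    [AddCommGroup M₃] [Module R M₃] (f : M₁ →ₗ[R] M₂) (g : M₂ →ₗ[R] M₃)
    (hexact : Function.Exact f g) (hg : Function.Surjective g) [Module.Flat R M₂]
    (hf : ∀ I : Ideal R, I.FG → Function.Injective (f.rTensor (R ⧸ I))) : Module.Flat R M₃ := by
  rw [Module.Flat.iff_rTensor_injective]
  intro I hI
  exact rTensor_subtype_injective_of_exact I f g hexact hg (hf I hI)

end Groth.Agent.Helper3

namespace Groth.Agent.Helper3

open TensorProduct

section Purity

variable {R : Type u} [CommRing R]

/-- The map `(Fin n → M) → (Fin m → M)` induced by a matrix, through tensor products. -/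
noncomputable def matMap {m n : ℕ} (a : Matrix (Fin m) (Fin n) R) (M : Type u) [AddCommGroup M]
    [Module R M] : (Fin n → M) →ₗ[R] (Fin m → M) :=
  ((TensorProduct.piScalarRight R R M (Fin m)).toLinearMap).comp
    ((a.mulVecLin.lTensor M).comp (TensorProduct.piScalarRight R R M (Fin n)).symm.toLinearMap)

theorem matMap_apply {m n : ℕ} (a : Matrix (Fin m) (Fin n) R) (M : Type u) [AddCommGroup M]
    [Module R M] (y : Fin n → M) (i : Fin m) : matMap a M y i = ∑ j, a i j • y j := by
  classical
  have hy : y = ∑ j, Pi.single j (y j) := (Finset.univ_sum_single y).symm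
  have key : ∀ (j : Fin n) (x : M), matMap a M (Pi.single j x) i = a i j • x := by
    intro j x
    simp [matMap, Matrix.mulVec_single]
  conv_lhs => rw [hy]
  rw [map_sum, Finset.sum_apply]
  refine Finset.sum_congr rfl fun j _ => ?_
  rw [key]

/-- Purity: a linear system with constants in `M₁`, solvable in `M₂`, is solvable in `M₁` when
`M₁ → M₂` is universally injective. -/
theorem purity {M₁ M₂ : Type u} [AddCommGroup M₁] [Module R M₁] [AddCommGroup M₂] [Module R M₂]
    (f : M₁ →ₗ[R] M₂)
    (hf : ∀ (Q : Type u) [AddCommGroup Q] [Module R Q], Function.Injective (f.rTensor Q))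
    {m n : ℕ} (a : Matrix (Fin m) (Fin n) R) (z : Fin m → M₁) (y : Fin n → M₂)
    (h : ∀ i, ∑ j, a i j • y j = f (z i)) : ∃ w : Fin n → M₁, ∀ i, ∑ j, a i j • w j = z i := by
  classical
  let B : (Fin n → R) →ₗ[R] (Fin m → R) := a.mulVecLin
  let q : (Fin m → R) →ₗ[R] ((Fin m → R) ⧸ LinearMap.range B) := (LinearMap.range B).mkQ
  have hq : Function.Surjective q := Submodule.mkQ_surjective _
  have hBq : Function.Exact B q := LinearMap.exact_map_mkQ_range B
  -- Φ_M
  let Φ : ∀ (M : Type u) [AddCommGroup M] [Module R M],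
      (Fin m → M) →ₗ[R] M ⊗[R] ((Fin m → R) ⧸ LinearMap.range B) :=
    fun M _ _ => (q.lTensor M).comp (TensorProduct.piScalarRight R R M (Fin m)).symm.toLinearMap
  -- naturality
  have hnat : ∀ z' : Fin m → M₁, (f.rTensor _) (Φ M₁ z') = Φ M₂ (fun i => f (z' i)) := by
    intro z'
    have hz' : z' = ∑ i, Pi.single i (z' i) := (Finset.univ_sum_single z').symm
    have hfz' : (fun i => f (z' i)) = ∑ i, Pi.single i (f (z' i)) := by
      funext k
      simp [Finset.sum_apply, Pi.single_apply]
    rw [hfz']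
    conv_lhs => rw [hz']
    simp only [map_sum]
    refine Finset.sum_congr rfl fun i _ => ?_
    simp [Φ]
  -- Φ kills the image of matMap
  have hkill : ∀ (M : Type u) [AddCommGroup M] [Module R M] (y' : Fin n → M),
      Φ M (matMap a M y') = 0 := by
    intro M _ _ y'
    simp only [Φ, matMap, LinearMap.comp_apply, LinearEquiv.coe_coe, LinearEquiv.symm_apply_apply]
    rw [← LinearMap.comp_apply, ← LinearMap.lTensor_comp, hBq.linearMap_comp_eq_zero]
    simp
  -- f ∘ z is in the image of matMap
  have h1 : (fun i => f (z i)) = matMap a M₂ y := by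
    funext i
    rw [matMap_apply, h i]
  have h2 : Φ M₁ z = 0 := by
    apply hf
    rw [hnat, h1, hkill, map_zero]
  -- exactness
  have hex : Function.Exact (B.lTensor M₁) (q.lTensor M₁) := lTensor_exact M₁ hBq hq
  obtain ⟨ω, hω⟩ := (hex ((TensorProduct.piScalarRight R R M₁ (Fin m)).symm z)).1 h2
  refine ⟨TensorProduct.piScalarRight R R M₁ (Fin n) ω, fun i => ?_⟩
  rw [← matMap_apply]
  simp only [matMap, LinearMap.comp_apply, LinearEquiv.coe_coe, LinearEquiv.symm_apply_apply]
  rw [hω, LinearEquiv.apply_symm_apply]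

end Purity

end Groth.Agent.Helper3
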