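import Mathlib
import Groth.Prelude.Def_Found
import Groth.Agent.Helper3.UnivInj
import Groth.Agent.Helper3.MLDom

/-! Universally injective maps with finitely presented cokernel split; domination and
factorization. -/

universe u

open scoped TensorProduct

namespace Groth.Agent.Helper3

variable {R : Type u} [CommRing R]

theorem injective_of_rTensor_injective {M₁ M₂ : Type u} [AddCommGroup M₁] [Module R M₁]
    [AddCommGroup M₂] [Module R M₂] (ι : M₁ →ₗ[R] M₂)
    (hι : Function.Injective (ι.rTensor R)) : Function.Injective ι := by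
  rw [injective_iff_map_eq_zero]
  intro x hx
  have h1 : (ι.rTensor R) (x ⊗ₜ[R] (1 : R)) = 0 := by
    rw [LinearMap.rTensor_tmul, hx, TensorProduct.zero_tmul]
  have h2 := hι (a₁ := x ⊗ₜ[R] (1 : R)) (a₂ := 0) (by rw [h1, map_zero])
  have h3 := congrArg (TensorProduct.rid R _) h2
  rw [TensorProduct.rid_tmul, one_smul, map_zero] at h3
  exact h3

/-- A universally injective map with finitely presented cokernel has a retraction. -/
theorem exists_retraction_of_univInj {M₁ M₂ C : Type u} [AddCommGroup M₁] [Module R M₁]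
    [AddCommGroup M₂] [Module R M₂] [AddCommGroup C] [Module R C]
    (ι : M₁ →ₗ[R] M₂) (q : M₂ →ₗ[R] C) (hq : Function.Surjective q) (hex : Function.Exact ι q)
    (hι : ∀ (Q : Type u) [AddCommGroup Q] [Module R Q], Function.Injective (ι.rTensor Q))
    [Module.FinitePresentation R C] : ∃ r : M₂ →ₗ[R] M₁, r ∘ₗ ι = LinearMap.id := by
  classical
  obtain ⟨n, K, e, hK⟩ := Module.FinitePresentation.exists_fin R C
  obtain ⟨m, k, hk⟩ := Submodule.fg_iff_exists_fin_generating_family.mp hK
  let π : (Fin n → R) →ₗ[R] C := e.symm.toLinearMap ∘ₗ K.mkQ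
  have hπ : Function.Surjective π := e.symm.surjective.comp (Submodule.mkQ_surjective K)
  have hkerπ : LinearMap.ker π = K := by
    ext v
    simp [π]
  choose y hy using fun j : Fin n => hq (π (Pi.single j 1))
  have hki : ∀ i, k i ∈ K := fun i => hk ▸ Submodule.subset_span ⟨i, rfl⟩
  have hrow : ∀ i, q (∑ j, k i j • y j) = 0 := by
    intro i
    have h0 : ∑ j, k i j • (Pi.single j (1 : R) : Fin n → R) = k i := by
      funext j'
      simp [Finset.sum_apply, Pi.single_apply]
    have h1 : q (∑ j, k i j • y j) = π (∑ j, k i j • (Pi.single j (1 : R) : Fin n → R)) := by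
      simp only [map_sum, map_smul, hy]
    rw [h1, h0, ← LinearMap.mem_ker, hkerπ]
    exact hki i
  choose z hz using fun i => (hex _).1 (hrow i)
  obtain ⟨w, hw⟩ := purity ι hι (k : Matrix (Fin m) (Fin n) R) z y (fun i => (hz i).symm)
  let y' : Fin n → M₂ := fun j => y j - ι (w j)
  let s0 : (Fin n → R) →ₗ[R] M₂ := Fintype.linearCombination R y'
  have hs0 : LinearMap.ker π ≤ LinearMap.ker s0 := by
    rw [hkerπ, ← hk]
    refine Submodule.span_le.mpr ?_
    rintro _ ⟨i, rfl⟩
    simp only [SetLike.mem_coe, LinearMap.mem_ker, s0, Fintype.linearCombination_apply, y',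
      smul_sub, Finset.sum_sub_distrib]
    rw [sub_eq_zero, ← hz i, ← hw i, map_sum]
    simp
  obtain ⟨s, hs⟩ := exists_factor_of_surjective π hπ s0 hs0
  have hqs0 : q ∘ₗ s0 = π := by
    refine (Pi.basisFun R (Fin n)).ext fun j => ?_
    simp only [LinearMap.comp_apply, Pi.basisFun_apply, s0]
    rw [Fintype.linearCombination_apply_single, one_smul]
    simp only [y', map_sub, hy]
    rw [(hex _).2 ⟨w j, rfl⟩, sub_zero]
  have hqs : ∀ c, q (s c) = c := by
    intro c
    obtain ⟨v, rfl⟩ := hπ c
    have h1 := LinearMap.congr_fun hs v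
    have h2 := LinearMap.congr_fun hqs0 v
    simp only [LinearMap.comp_apply] at h1 h2
    rw [h1, h2]
  have hinj : Function.Injective ι := injective_of_rTensor_injective ι (hι R)
  let P : M₂ →ₗ[R] M₂ := LinearMap.id - s ∘ₗ q
  have hP : ∀ x, P x ∈ LinearMap.range ι := by
    intro x
    apply (hex _).1
    simp only [P, LinearMap.sub_apply, LinearMap.id_apply, LinearMap.comp_apply, map_sub, hqs,
      sub_self]
  refine ⟨(LinearEquiv.ofInjective ι hinj).symm.toLinearMap ∘ₗ P.codRestrict _ hP, ?_⟩
  ext x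
  simp only [LinearMap.comp_apply, LinearEquiv.coe_coe, LinearMap.id_apply]
  rw [LinearEquiv.symm_apply_eq]
  apply Subtype.ext
  rw [LinearMap.codRestrict_apply, LinearEquiv.ofInjective_apply]
  simp only [P, LinearMap.sub_apply, LinearMap.id_apply, LinearMap.comp_apply]
  rw [(hex _).2 ⟨x, rfl⟩, map_zero, sub_zero]

/-- If `g` dominates `f` and the cokernel of `f` is finitely presented, then `g` factors
through `f`. -/
theorem exists_factor_of_dom {M N M' : Type u} [AddCommGroup M] [Module R M] [AddCommGroup N]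
    [Module R N] [AddCommGroup M'] [Module R M'] (f : M →ₗ[R] N) (g : M →ₗ[R] M')
    [Module.FinitePresentation R (N ⧸ LinearMap.range f)]
    (hdom : ∀ (Q : Type u) [AddCommGroup Q] [Module R Q],
      LinearMap.ker (f.rTensor Q) ≤ LinearMap.ker (g.rTensor Q)) :
    ∃ h : N →ₗ[R] M', g = h ∘ₗ f := by
  classical
  -- the pushout
  let φ : M →ₗ[R] N × M' := f.prod (-g)
  let S : Submodule R (N × M') := LinearMap.range φ
  let ι' : M' →ₗ[R] (N × M') ⧸ S := S.mkQ ∘ₗ LinearMap.inr R N M'
  let ιN : N →ₗ[R] (N × M') ⧸ S := S.mkQ ∘ₗ LinearMap.inl R N M'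
  have hsq : ∀ m, ιN (f m) = ι' (g m) := by
    intro m
    simp only [ιN, ι', LinearMap.comp_apply, Submodule.mkQ_apply]
    rw [Submodule.Quotient.eq]
    refine ⟨m, ?_⟩
    simp [φ]
  -- the cokernel map
  let q0 : N × M' →ₗ[R] N ⧸ LinearMap.range f := (LinearMap.range f).mkQ ∘ₗ LinearMap.fst R N M'
  have hq0 : S ≤ LinearMap.ker q0 := by
    rintro _ ⟨m, rfl⟩
    simp [q0, φ]
  let q : ((N × M') ⧸ S) →ₗ[R] N ⧸ LinearMap.range f := S.liftQ q0 hq0
  have hq : Function.Surjective q := by
    intro c
    obtain ⟨n, rfl⟩ := Submodule.mkQ_surjective _ c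
    exact ⟨S.mkQ (n, 0), by simp [q, q0]⟩
  have hex : Function.Exact ι' q := by
    intro x
    constructor
    · intro hx
      obtain ⟨⟨n, m'⟩, rfl⟩ := Submodule.mkQ_surjective S x
      have h1 : n ∈ LinearMap.range f := by
        simpa [q, q0] using hx
      obtain ⟨m, rfl⟩ := h1
      refine ⟨m' + g m, ?_⟩
      simp only [ι', LinearMap.comp_apply, Submodule.mkQ_apply]
      rw [Submodule.Quotient.eq]
      refine ⟨-m, ?_⟩
      simp [φ]
    · rintro ⟨m', rfl⟩
      simp [ι', q, q0]
  -- universal injectivity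
  have hι : ∀ (Q : Type u) [AddCommGroup Q] [Module R Q], Function.Injective (ι'.rTensor Q) := by
    intro Q _ _
    rw [injective_iff_map_eq_zero]
    intro z hz
    have hex2 : Function.Exact (S.subtype.rTensor Q) (S.mkQ.rTensor Q) :=
      rTensor_exact Q (LinearMap.exact_subtype_mkQ S) (Submodule.mkQ_surjective S)
    have h1 : (S.mkQ.rTensor Q) ((LinearMap.inr R N M').rTensor Q z) = 0 := by
      rw [← LinearMap.comp_apply, ← LinearMap.rTensor_comp]
      exact hz
    obtain ⟨s, hs⟩ := (hex2 _).1 h1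
    have hφ : Function.Surjective (φ.rangeRestrict.rTensor Q) :=
      LinearMap.rTensor_surjective Q φ.surjective_rangeRestrict
    obtain ⟨w, rfl⟩ := hφ s
    have h0 : S.subtype ∘ₗ φ.rangeRestrict = φ := by
      ext m <;> rfl
    rw [← LinearMap.comp_apply, ← LinearMap.rTensor_comp, h0] at hs
    have h2 := congrArg ((LinearMap.fst R N M').rTensor Q) hs
    simp only [← LinearMap.comp_apply, ← LinearMap.rTensor_comp] at h2
    have h3 : LinearMap.fst R N M' ∘ₗ φ = f := by
      ext m
      simp [φ]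
    have h4 : LinearMap.fst R N M' ∘ₗ LinearMap.inr R N M' = 0 := by
      ext m
      simp
    rw [h3, h4, LinearMap.rTensor_zero, LinearMap.zero_apply] at h2
    have h5 : w ∈ LinearMap.ker (g.rTensor Q) := hdom Q h2
    have h6 := congrArg ((LinearMap.snd R N M').rTensor Q) hs
    simp only [← LinearMap.comp_apply, ← LinearMap.rTensor_comp] at h6
    have h7 : LinearMap.snd R N M' ∘ₗ φ = -g := by
      ext m
      simp [φ]
    have h8 : LinearMap.snd R N M' ∘ₗ LinearMap.inr R N M' = LinearMap.id := by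
      ext m
      simp
    rw [h7, h8, LinearMap.rTensor_id, LinearMap.id_apply, LinearMap.rTensor_neg,
      LinearMap.neg_apply, LinearMap.mem_ker.mp h5, neg_zero] at h6
    exact h6.symm
  obtain ⟨r, hr⟩ := exists_retraction_of_univInj ι' q hq hex hι
  refine ⟨r ∘ₗ ιN, ?_⟩
  ext m
  simp only [LinearMap.comp_apply]
  rw [hsq m]
  exact (LinearMap.congr_fun hr (g m)).symm

end Groth.Agent.Helper3
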