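import Mathlib
import Groth.Prelude.Def_Found
import Groth.Agent.Helper3.MLSplit

/-! Mittag-Leffler modules: more on domination. -/

universe u

open scoped TensorProduct

namespace Groth.Agent.Helper3

variable {R : Type u} [CommRing R]

/-- `lTensor` version of `exists_fac_rTensor_eq_zero`. -/
theorem exists_fac_lTensor_eq_zero {Q : Type u} [AddCommGroup Q] [Module R Q] {n : ℕ}
    (u : (Fin n → R) →ₗ[R] Q) (N : Type u) [AddCommGroup N] [Module R N]
    (z : N ⊗[R] (Fin n → R)) (hz : u.lTensor N z = 0) :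
    ∃ (m : ℕ) (K : Submodule R (Fin m → R)) (_ : K.FG)
      (g : (Fin n → R) →ₗ[R] (Fin m → R) ⧸ K) (h : ((Fin m → R) ⧸ K) →ₗ[R] Q),
      h ∘ₗ g = u ∧ g.lTensor N z = 0 := by
  have h1 : u.rTensor N (TensorProduct.comm R N _ z) = 0 := by
    rw [LinearMap.rTensor_comm, hz, map_zero]
  obtain ⟨m, K, hK, g, h, hc, hg⟩ := exists_fac_rTensor_eq_zero u N _ h1
  refine ⟨m, K, hK, g, h, hc, ?_⟩
  rw [LinearMap.rTensor_comm] at hg
  exact (TensorProduct.comm R N _).map_eq_zero_iff.mp hg

theorem exists_lTensor_eq {M N : Type u} [AddCommGroup M] [Module R M] [AddCommGroup N]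
    [Module R N] (x : M ⊗[R] N) :
    ∃ (n : ℕ) (u : (Fin n → R) →ₗ[R] N) (y : M ⊗[R] (Fin n → R)), u.lTensor M y = x := by
  obtain ⟨n, u, y, hy⟩ := exists_rTensor_eq (TensorProduct.comm R M N x)
  refine ⟨n, u, TensorProduct.comm R _ M y, ?_⟩
  rw [LinearMap.lTensor_comm, hy]
  exact (TensorProduct.comm R M N).symm_apply_apply x

/-- Domination can be tested on finitely presented modules. -/
theorem dom_of_forall_finitePresentation {M N M' : Type u} [AddCommGroup M] [Module R M]
    [AddCommGroup N] [Module R N] [AddCommGroup M'] [Module R M'] (f : M →ₗ[R] N)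
    (g : M →ₗ[R] M')
    (hfp : ∀ (Q : Type u) [AddCommGroup Q] [Module R Q], Module.FinitePresentation R Q →
        LinearMap.ker (f.rTensor Q) ≤ LinearMap.ker (g.rTensor Q))
    (Q : Type u) [AddCommGroup Q] [Module R Q] :
    LinearMap.ker (f.rTensor Q) ≤ LinearMap.ker (g.rTensor Q) := by
  intro x hx
  rw [LinearMap.mem_ker] at hx ⊢
  obtain ⟨n, u, x'', rfl⟩ := exists_lTensor_eq x
  have hz : u.lTensor N (f.rTensor (Fin n → R) x'') = 0 := by
    rw [← LinearMap.comp_apply, LinearMap.lTensor_comp_rTensor, ← LinearMap.rTensor_comp_lTensor,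
      LinearMap.comp_apply, hx]
  obtain ⟨m, K, hK, g', h', hc, hg'⟩ := exists_fac_lTensor_eq_zero u N _ hz
  have h1 : (g'.lTensor M) x'' ∈ LinearMap.ker (f.rTensor ((Fin m → R) ⧸ K)) := by
    rw [LinearMap.mem_ker, ← LinearMap.comp_apply, LinearMap.rTensor_comp_lTensor,
      ← LinearMap.lTensor_comp_rTensor, LinearMap.comp_apply, hg']
  have h2 := hfp _ (finitePresentation_quot K hK) h1
  rw [LinearMap.mem_ker] at h2
  rw [← hc, LinearMap.lTensor_comp, LinearMap.comp_apply, ← LinearMap.comp_apply (g.rTensor Q),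
    LinearMap.rTensor_comp_lTensor, ← LinearMap.lTensor_comp_rTensor, LinearMap.comp_apply, h2,
    map_zero]

/-- The tensor product of two finitely presented modules is finitely presented. -/
theorem finitePresentation_tensor (P Q : Type u) [AddCommGroup P] [Module R P] [AddCommGroup Q]
    [Module R Q] [Module.FinitePresentation R P] [Module.FinitePresentation R Q] :
    Module.FinitePresentation R (P ⊗[R] Q) := by
  obtain ⟨n, π, hπ⟩ := Module.Finite.exists_fin' R P
  have hK : (LinearMap.ker π).FG := Module.FinitePresentation.fg_ker π hπ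
  have : Module.Finite R (LinearMap.ker π) := Module.Finite.iff_fg.mpr hK
  have e : ((Fin n → R) ⊗[R] Q) ≃ₗ[R] (Fin n → Q) :=
    (TensorProduct.comm R (Fin n → R) Q).trans (TensorProduct.piScalarRight R R Q (Fin n))
  have : Module.FinitePresentation R ((Fin n → R) ⊗[R] Q) := Module.FinitePresentation.of_equiv e.symm
  refine Module.finitePresentation_of_surjective (π.rTensor Q) (LinearMap.rTensor_surjective Q hπ) ?_
  have hex : Function.Exact ((LinearMap.ker π).subtype.rTensor Q) (π.rTensor Q) :=
    rTensor_exact Q (LinearMap.exact_subtype_ker_map π) hπ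
  rw [hex.linearMap_ker_eq, LinearMap.range_eq_map]
  exact (Module.Finite.iff_fg.mp inferInstance).map _

/-- Mutual domination of two maps with the same source. -/
def MDom {A M M' : Type u} [AddCommGroup A] [Module R A] [AddCommGroup M] [Module R M]
    [AddCommGroup M'] [Module R M'] (p : A →ₗ[R] M) (p' : A →ₗ[R] M') : Prop :=
  ∀ (T : Type u) [AddCommGroup T] [Module R T],
    LinearMap.ker (p.rTensor T) = LinearMap.ker (p'.rTensor T)

section MDom

variable {A M M' : Type u} [AddCommGroup A] [Module R A] [AddCommGroup M] [Module R M]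
  [AddCommGroup M'] [Module R M'] {p : A →ₗ[R] M} {p' : A →ₗ[R] M'}

theorem MDom.comp_right (h : MDom p p') {X : Type u} [AddCommGroup X] [Module R X]
    (w : X →ₗ[R] A) : MDom (p ∘ₗ w) (p' ∘ₗ w) := by
  intro T _ _
  ext x
  simp only [LinearMap.mem_ker, LinearMap.rTensor_comp, LinearMap.comp_apply]
  rw [← LinearMap.mem_ker, h T, LinearMap.mem_ker]

theorem MDom.equiv_left (h : MDom p p') {M₁ M₂ : Type u} [AddCommGroup M₁] [Module R M₁]
    [AddCommGroup M₂] [Module R M₂] (e₁ : M ≃ₗ[R] M₁) (e₂ : M' ≃ₗ[R] M₂) :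
    MDom (e₁.toLinearMap ∘ₗ p) (e₂.toLinearMap ∘ₗ p') := by
  intro T _ _
  ext x
  simp only [LinearMap.mem_ker, LinearMap.rTensor_comp, LinearMap.comp_apply]
  have h1 : ∀ z, (e₁.toLinearMap.rTensor T) z = 0 ↔ z = 0 := fun z =>
    (LinearEquiv.rTensor T e₁).map_eq_zero_iff
  have h2 : ∀ z, (e₂.toLinearMap.rTensor T) z = 0 ↔ z = 0 := fun z =>
    (LinearEquiv.rTensor T e₂).map_eq_zero_iff
  rw [h1, h2, ← LinearMap.mem_ker, h T, LinearMap.mem_ker]

theorem MDom.rTensor (h : MDom p p') (N : Type u) [AddCommGroup N] [Module R N] :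
    MDom (p.rTensor N) (p'.rTensor N) := by
  intro T _ _
  ext x
  have h1 := LinearMap.congr_fun (LinearMap.rTensor_tensor (M := N) (N := T) p)
    (TensorProduct.assoc R A N T x)
  have h2 := LinearMap.congr_fun (LinearMap.rTensor_tensor (M := N) (N := T) p')
    (TensorProduct.assoc R A N T x)
  simp only [LinearMap.comp_apply, LinearEquiv.coe_coe, LinearEquiv.symm_apply_apply] at h1 h2
  have h3 : TensorProduct.assoc R A N T x ∈ LinearMap.ker (p.rTensor (N ⊗[R] T)) ↔
      TensorProduct.assoc R A N T x ∈ LinearMap.ker (p'.rTensor (N ⊗[R] T)) := by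
    rw [h (N ⊗[R] T)]
  rw [LinearMap.mem_ker, LinearMap.mem_ker, h1, h2, LinearEquiv.map_eq_zero_iff,
    LinearEquiv.map_eq_zero_iff] at h3
  exact h3

theorem MDom.lTensor (h : MDom p p') (N : Type u) [AddCommGroup N] [Module R N] :
    MDom (p.lTensor N) (p'.lTensor N) := by
  have h1 := ((h.rTensor N).comp_right (TensorProduct.comm R N A).toLinearMap).equiv_left
    (TensorProduct.comm R M N) (TensorProduct.comm R M' N)
  have e1 : (TensorProduct.comm R M N).toLinearMap ∘ₗ p.rTensor N ∘ₗ
      (TensorProduct.comm R N A).toLinearMap = p.lTensor N := by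
    apply TensorProduct.ext'
    intro n a
    simp
  have e2 : (TensorProduct.comm R M' N).toLinearMap ∘ₗ p'.rTensor N ∘ₗ
      (TensorProduct.comm R N A).toLinearMap = p'.lTensor N := by
    apply TensorProduct.ext'
    intro n a
    simp
  rw [e1, e2] at h1
  exact h1

theorem MDom.map (h : MDom p p') {B N N' : Type u} [AddCommGroup B] [Module R B]
    [AddCommGroup N] [Module R N] [AddCommGroup N'] [Module R N'] {v : B →ₗ[R] N}
    {v' : B →ₗ[R] N'} (hv : MDom v v') : MDom (TensorProduct.map p v) (TensorProduct.map p' v') := by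
  have h1 : MDom (TensorProduct.map p v) (TensorProduct.map p' v) := by
    have := (h.rTensor N).comp_right (v.lTensor A)
    rwa [LinearMap.rTensor_comp_lTensor, LinearMap.rTensor_comp_lTensor] at this
  have h2 : MDom (TensorProduct.map p' v) (TensorProduct.map p' v') := by
    have := (hv.lTensor M').comp_right (p'.rTensor B)
    rwa [LinearMap.lTensor_comp_rTensor, LinearMap.lTensor_comp_rTensor] at this
  intro T _ _
  rw [h1 T, h2 T]

end MDom

/-- A general criterion: every element of `M ⊗ T` comes from a map `P → M` which is mutually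
dominated by a map to a finitely presented module. -/
theorem isML_of_forall_exists_mdom {M : Type u} [AddCommGroup M] [Module R M]
    (h : ∀ (T : Type u) [AddCommGroup T] [Module R T] (x : M ⊗[R] T),
      ∃ (P : Type u) (_ : AddCommGroup P) (_ : Module R P) (f : P →ₗ[R] M) (y : P ⊗[R] T),
        f.rTensor T y = x ∧
        ∃ (Q : Type u) (_ : AddCommGroup Q) (_ : Module R Q) (_ : Module.FinitePresentation R Q)
          (g : P →ₗ[R] Q), MDom f g) :
    CAlg.IsMittagLeffler R M := by
  intro ι Q _ _
  rw [injective_iff_map_eq_zero]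
  intro x hx
  obtain ⟨P, _, _, f, y, rfl, P', _, _, _, g, hg⟩ := h (∀ i, Q i) x
  rw [piRightHom_rTensor] at hx
  have h1 : TensorProduct.piRightHom R R P' Q (g.rTensor (∀ i, Q i) y) = 0 := by
    rw [piRightHom_rTensor]
    funext i
    have := congrFun hx i
    have h3 : TensorProduct.piRightHom R R P Q y i ∈ LinearMap.ker (f.rTensor (Q i)) := this
    rw [hg (Q i)] at h3
    exact h3
  have h2 : g.rTensor (∀ i, Q i) y = 0 :=
    (piRightHom_bijective_of_finitePresentation Q P').1 (by rw [h1, map_zero])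
  have h4 : y ∈ LinearMap.ker (g.rTensor (∀ i, Q i)) := h2
  rw [← hg] at h4
  exact h4

/-- Every element of `(M ⊗ N) ⊗ T` comes from `(A ⊗ B) ⊗ T` for finitely generated submodules
`A ≤ M`, `B ≤ N`. -/
theorem exists_fg_map_rTensor_eq {M N T : Type u} [AddCommGroup M] [Module R M] [AddCommGroup N]
    [Module R N] [AddCommGroup T] [Module R T] (x : (M ⊗[R] N) ⊗[R] T) :
    ∃ (A : Submodule R M) (B : Submodule R N) (_ : A.FG) (_ : B.FG) (y : (A ⊗[R] B) ⊗[R] T),
      (TensorProduct.map A.subtype B.subtype).rTensor T y = x := by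
  obtain ⟨W, hW, hx⟩ := TensorProduct.exists_finite_submodule_left_of_setFinite {x}
    (Set.finite_singleton x)
  obtain ⟨y', hy'⟩ := hx (Set.mem_singleton x)
  obtain ⟨s, hs⟩ := Module.Finite.iff_fg.mp hW
  obtain ⟨A, B, hA, hB, hsub⟩ := TensorProduct.exists_finite_submodule_of_setFinite
    (s : Set (M ⊗[R] N)) s.finite_toSet
  have hWle : W ≤ LinearMap.range (TensorProduct.map A.subtype B.subtype) := by
    rw [← hs]
    exact Submodule.span_le.mpr hsub
  set I := LinearMap.range (TensorProduct.map A.subtype B.subtype) with hI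
  have hsurj : Function.Surjective ((TensorProduct.map A.subtype B.subtype).rangeRestrict.rTensor T) :=
    LinearMap.rTensor_surjective T (LinearMap.surjective_rangeRestrict _)
  obtain ⟨y, hy⟩ := hsurj ((Submodule.inclusion hWle).rTensor T y')
  refine ⟨A, B, Module.Finite.iff_fg.mp hA, Module.Finite.iff_fg.mp hB, y, ?_⟩
  have h0 : I.subtype ∘ₗ (TensorProduct.map A.subtype B.subtype).rangeRestrict =
      TensorProduct.map A.subtype B.subtype := by
    ext a b
    rfl
  have h1 : I.subtype ∘ₗ Submodule.inclusion hWle = W.subtype := by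
    ext w
    rfl
  rw [← h0, LinearMap.rTensor_comp, LinearMap.comp_apply, hy, ← LinearMap.comp_apply,
    ← LinearMap.rTensor_comp, h1]
  exact hy'

/-- The tensor product of two Mittag-Leffler modules is Mittag-Leffler. -/
theorem isML_tensor {M N : Type u} [AddCommGroup M] [Module R M] [AddCommGroup N] [Module R N]
    (hM : CAlg.IsMittagLeffler R M) (hN : CAlg.IsMittagLeffler R N) :
    CAlg.IsMittagLeffler R (M ⊗[R] N) := by
  apply isML_of_forall_exists_mdom
  intro T _ _ x
  obtain ⟨A, B, hA, hB, y, hy⟩ := exists_fg_map_rTensor_eq x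
  have : Module.Finite R A := Module.Finite.iff_fg.mpr hA
  have : Module.Finite R B := Module.Finite.iff_fg.mpr hB
  obtain ⟨QM, _, _, _, u', -, -, hu⟩ := exists_dom_of_isML_of_finite hM A.subtype
  obtain ⟨QN, _, _, _, v', -, -, hv⟩ := exists_dom_of_isML_of_finite hN B.subtype
  have hu' : MDom A.subtype u' := hu
  have hv' : MDom B.subtype v' := hv
  exact ⟨A ⊗[R] B, inferInstance, inferInstance, TensorProduct.map A.subtype B.subtype, y, hy,
    QM ⊗[R] QN, inferInstance, inferInstance, finitePresentation_tensor QM QN,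
    TensorProduct.map u' v', hu'.map hv'⟩

end Groth.Agent.Helper3
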