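import Mathlib
import Groth.Prelude.Def_Found
import Groth.Agent.Helper3.MLDom2

/-! Mittag-Leffler direct limits of finitely presented modules. -/

universe u

set_option linter.unusedSectionVars false
set_option linter.style.haveILetI false

open scoped TensorProduct

namespace Groth.Agent.Helper3

variable {R : Type u} [CommRing R]

section

variable {ι : Type u} [Preorder ι] [IsDirected ι (· ≤ ·)] [Nonempty ι] [DecidableEq ι]
  (G : ι → Type u) [∀ i, AddCommGroup (G i)] [∀ i, Module R (G i)]
  (f : ∀ i j, i ≤ j → G i →ₗ[R] G j) [DirectedSystem G fun i j h => f i j h]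

theorem exists_rTensor_map_eq_zero (T : Type u) [AddCommGroup T] [Module R T] (i : ι)
    (y : G i ⊗[R] T) (hy : (Module.DirectLimit.of R ι G f i).rTensor T y = 0) :
    ∃ j, ∃ hij : i ≤ j, (f i j hij).rTensor T y = 0 := by
  have h1 := TensorProduct.directLimitLeft_rTensor_of f T y
  rw [hy, map_zero] at h1
  obtain ⟨j, hij, h⟩ := Module.DirectLimit.of.zero_exact h1.symm
  exact ⟨j, hij, h⟩

theorem exists_rTensor_of_eq (T : Type u) [AddCommGroup T] [Module R T]
    (x : Module.DirectLimit G f ⊗[R] T) :
    ∃ i, ∃ y : G i ⊗[R] T, (Module.DirectLimit.of R ι G f i).rTensor T y = x := by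
  obtain ⟨i, y, hy⟩ := Module.DirectLimit.exists_of (TensorProduct.directLimitLeft f T x)
  refine ⟨i, y, ?_⟩
  apply (TensorProduct.directLimitLeft f T).injective
  rw [TensorProduct.directLimitLeft_rTensor_of, hy]

theorem of_comp_f (i j : ι) (hij : i ≤ j) :
    Module.DirectLimit.of R ι G f j ∘ₗ f i j hij = Module.DirectLimit.of R ι G f i := by
  ext x
  exact Module.DirectLimit.of_f

/-- Mittag-Leffler direct limit: stabilisation of the kernels. -/
theorem exists_ker_le_of_isML [∀ i, Module.Finite R (G i)]
    (hM : CAlg.IsMittagLeffler R (Module.DirectLimit G f)) (i : ι) :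
    ∃ j, ∃ hij : i ≤ j, ∀ (T : Type u) [AddCommGroup T] [Module R T],
      LinearMap.ker ((Module.DirectLimit.of R ι G f i).rTensor T) ≤
        LinearMap.ker ((f i j hij).rTensor T) := by
  classical
  by_contra hcon
  have key : ∀ j : {j // i ≤ j}, ∃ (T : Type u) (_ : AddCommGroup T) (_ : Module R T)
      (y : G i ⊗[R] T), (Module.DirectLimit.of R ι G f i).rTensor T y = 0 ∧
        (f i j.1 j.2).rTensor T y ≠ 0 := by
    intro j
    by_contra hj
    apply hcon
    refine ⟨j.1, j.2, fun T _ _ y hy => ?_⟩
    by_contra hy'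
    exact hj ⟨T, inferInstance, inferInstance, y, hy, hy'⟩
  choose T i1 i2 y hy1 hy2 using key
  obtain ⟨yy, hyy⟩ := piRightHom_surjective_of_finite T (G i) (fun j => y j)
  have h0 : ((Module.DirectLimit.of R ι G f i).rTensor (∀ j, T j)) yy = 0 := by
    apply hM _ T
    rw [piRightHom_rTensor, map_zero, hyy]
    funext j
    exact hy1 j
  obtain ⟨j, hij, hj⟩ := exists_rTensor_map_eq_zero G f _ i yy h0
  have h1 := piRightHom_rTensor T (f i j hij) yy
  rw [hj, map_zero, hyy] at h1
  exact hy2 ⟨j, hij⟩ (congrFun h1 ⟨j, hij⟩).symm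

theorem finitePresentation_quot_range {A B : Type u} [AddCommGroup A] [Module R A]
    [AddCommGroup B] [Module R B] [Module.Finite R A] [Module.FinitePresentation R B]
    (g : A →ₗ[R] B) : Module.FinitePresentation R (B ⧸ LinearMap.range g) := by
  refine Module.finitePresentation_of_surjective (LinearMap.range g).mkQ
    (Submodule.mkQ_surjective _) ?_
  rw [Submodule.ker_mkQ, LinearMap.range_eq_map]
  exact (Module.Finite.iff_fg.mp inferInstance).map _

theorem isML_directLimit_iff [∀ i, Module.FinitePresentation R (G i)] :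
    CAlg.IsMittagLeffler R (Module.DirectLimit G f) ↔
      ∀ i, ∃ (j : ι) (hij : i ≤ j), ∀ (k : ι) (hik : i ≤ k),
        ∃ h : G k →ₗ[R] G j, f i j hij = h ∘ₗ f i k hik := by
  constructor
  · intro hM i
    obtain ⟨j, hij, hj⟩ := exists_ker_le_of_isML G f hM i
    refine ⟨j, hij, fun k hik => ?_⟩
    haveI := finitePresentation_quot_range (f i k hik)
    apply exists_factor_of_dom (f i k hik) (f i j hij)
    intro Q _ _
    refine le_trans ?_ (hj Q)
    exact ker_rTensor_le_of_comp (of_comp_f G f i k hik) Q
  · intro h ι' Q _ _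
    rw [injective_iff_map_eq_zero]
    intro x hx
    obtain ⟨i, xi, rfl⟩ := exists_rTensor_of_eq G f _ x
    obtain ⟨j, hij, hj⟩ := h i
    rw [piRightHom_rTensor] at hx
    have h1 : TensorProduct.piRightHom R R (G j) Q ((f i j hij).rTensor (∀ a, Q a) xi) = 0 := by
      rw [piRightHom_rTensor]
      funext a
      have h2 := congrFun hx a
      obtain ⟨k, hik, hk⟩ := exists_rTensor_map_eq_zero G f (Q a) i _ h2
      obtain ⟨h', hh'⟩ := hj k hik
      rw [hh', LinearMap.rTensor_comp, LinearMap.comp_apply, hk, map_zero]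
      rfl
    have h3 : (f i j hij).rTensor (∀ a, Q a) xi = 0 :=
      (piRightHom_bijective_of_finitePresentation Q (G j)).1 (by rw [h1, map_zero])
    rw [← of_comp_f G f i j hij, LinearMap.rTensor_comp, LinearMap.comp_apply, h3, map_zero]

end

end Groth.Agent.Helper3
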