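import Mathlib
import Groth.Prelude.Def_Found
import Groth.Agent.Helper3.MLLim

/-! Countably generated Mittag-Leffler modules. -/

universe u

set_option linter.unusedSectionVars false
set_option linter.style.haveILetI false

open scoped TensorProduct

namespace Groth.Agent.Helper3

variable {R : Type u} [CommRing R] {M : Type u} [AddCommGroup M] [Module R M]

/-- a finitely presented module mapping to `M` -/
structure Stage (R : Type u) [CommRing R] (M : Type u) [AddCommGroup M] [Module R M] :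
    Type (u + 1) where
  Q : Type u
  [i1 : AddCommGroup Q]
  [i2 : Module R Q]
  [i3 : Module.FinitePresentation R Q]
  u : Q →ₗ[R] M

attribute [instance] Stage.i1 Stage.i2 Stage.i3

theorem Stage.exists_next (hM : CAlg.IsMittagLeffler R M) (s : Stage R M) (W : Submodule R M)
    (hW : W.FG) :
    ∃ (s' : Stage R M) (t : s.Q →ₗ[R] s'.Q), s'.u ∘ₗ t = s.u ∧
      (∀ (T : Type u) [AddCommGroup T] [Module R T],
        LinearMap.ker (s.u.rTensor T) ≤ LinearMap.ker (t.rTensor T)) ∧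
      W ≤ LinearMap.range s'.u := by
  classical
  let P' : Submodule R M := LinearMap.range s.u ⊔ W
  have hrfg : (LinearMap.range s.u).FG := by
    rw [LinearMap.range_eq_map]
    exact (Module.Finite.iff_fg.mp inferInstance).map _
  have hP' : P'.FG := hrfg.sup hW
  haveI : Module.Finite R P' := Module.Finite.iff_fg.mpr hP'
  obtain ⟨Q', _, _, _, g, h, hc, hg⟩ := exists_dom_of_isML_of_finite hM P'.subtype
  let u0 : s.Q →ₗ[R] P' := s.u.codRestrict P' (fun q =>
    (le_sup_left : LinearMap.range s.u ≤ P') (LinearMap.mem_range_self _ q))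
  have hu0 : P'.subtype ∘ₗ u0 = s.u := by
    ext q
    rfl
  refine ⟨⟨Q', h⟩, g ∘ₗ u0, ?_, ?_, ?_⟩
  · show h ∘ₗ (g ∘ₗ u0) = s.u
    rw [← LinearMap.comp_assoc, hc, hu0]
  · intro T _ _ y hy
    rw [LinearMap.mem_ker] at hy ⊢
    rw [← hu0, LinearMap.rTensor_comp, LinearMap.comp_apply, ← LinearMap.mem_ker, hg T,
      LinearMap.mem_ker] at hy
    rw [LinearMap.rTensor_comp, LinearMap.comp_apply, hy]
  · intro w hw
    have hw' : w ∈ P' := (le_sup_right : W ≤ P') hw
    refine ⟨g ⟨w, hw'⟩, ?_⟩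
    show h (g ⟨w, hw'⟩) = w
    have := LinearMap.congr_fun hc ⟨w, hw'⟩
    exact this

noncomputable def Stage.next (hM : CAlg.IsMittagLeffler R M) (s : Stage R M) (W : Submodule R M)
    (hW : W.FG) : Stage R M :=
  Classical.choose (Stage.exists_next hM s W hW)

noncomputable def Stage.nextMap (hM : CAlg.IsMittagLeffler R M) (s : Stage R M)
    (W : Submodule R M) (hW : W.FG) : s.Q →ₗ[R] (s.next hM W hW).Q :=
  Classical.choose (Classical.choose_spec (Stage.exists_next hM s W hW))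

theorem Stage.next_spec (hM : CAlg.IsMittagLeffler R M) (s : Stage R M) (W : Submodule R M)
    (hW : W.FG) :
    (s.next hM W hW).u ∘ₗ s.nextMap hM W hW = s.u ∧
      (∀ (T : Type u) [AddCommGroup T] [Module R T],
        LinearMap.ker (s.u.rTensor T) ≤ LinearMap.ker ((s.nextMap hM W hW).rTensor T)) ∧
      W ≤ LinearMap.range (s.next hM W hW).u :=
  Classical.choose_spec (Classical.choose_spec (Stage.exists_next hM s W hW))

noncomputable def stageSeq (hM : CAlg.IsMittagLeffler R M) (s0 : Stage R M) (x : ℕ → M) :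
    ℕ → Stage R M
  | 0 => s0
  | k + 1 => (stageSeq hM s0 x k).next hM (Submodule.span R {x k}) (Submodule.fg_span_singleton _)

noncomputable def stageMap (hM : CAlg.IsMittagLeffler R M) (s0 : Stage R M) (x : ℕ → M) (k : ℕ) :
    (stageSeq hM s0 x k).Q →ₗ[R] (stageSeq hM s0 x (k + 1)).Q :=
  (stageSeq hM s0 x k).nextMap hM (Submodule.span R {x k}) (Submodule.fg_span_singleton _)

theorem stage_spec (hM : CAlg.IsMittagLeffler R M) (s0 : Stage R M) (x : ℕ → M) (k : ℕ) :
    (stageSeq hM s0 x (k + 1)).u ∘ₗ stageMap hM s0 x k = (stageSeq hM s0 x k).u ∧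
      (∀ (T : Type u) [AddCommGroup T] [Module R T],
        LinearMap.ker ((stageSeq hM s0 x k).u.rTensor T) ≤
          LinearMap.ker ((stageMap hM s0 x k).rTensor T)) ∧
      x k ∈ LinearMap.range (stageSeq hM s0 x (k + 1)).u := by
  obtain ⟨h1, h2, h3⟩ := (stageSeq hM s0 x k).next_spec hM (Submodule.span R {x k})
    (Submodule.fg_span_singleton _)
  exact ⟨h1, h2, h3 (Submodule.mem_span_singleton_self _)⟩

/-- a linear map from its graph -/
theorem exists_linearMap_of_graph {X : Type u} [AddCommGroup X] [Module R X]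
    (Γ : Submodule R (M × X)) (hdom : ∀ x, ∃ z, (x, z) ∈ Γ)
    (huniq : ∀ z, ((0 : M), z) ∈ Γ → z = 0) : ∃ b : M →ₗ[R] X, ∀ x, (x, b x) ∈ Γ := by
  choose b hb using hdom
  have hu : ∀ x z, (x, z) ∈ Γ → z = b x := by
    intro x z hz
    have := Γ.sub_mem hz (hb x)
    simp only [Prod.mk_sub_mk, sub_self] at this
    exact sub_eq_zero.mp (huniq _ this)
  refine ⟨⟨⟨b, fun x y => ?_⟩, fun r x => ?_⟩, hb⟩
  · exact (hu _ _ (by simpa using Γ.add_mem (hb x) (hb y))).symm
  · exact (hu _ _ (by simpa using Γ.smul_mem r (hb x))).symm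

theorem ker_le_of_ker_rTensor_le {A B C : Type u} [AddCommGroup A] [Module R A]
    [AddCommGroup B] [Module R B] [AddCommGroup C] [Module R C] (p : A →ₗ[R] B) (q : A →ₗ[R] C)
    (h : LinearMap.ker (p.rTensor R) ≤ LinearMap.ker (q.rTensor R)) :
    LinearMap.ker p ≤ LinearMap.ker q := by
  intro v hv
  have h1 : v ⊗ₜ[R] (1 : R) ∈ LinearMap.ker (p.rTensor R) := by
    rw [LinearMap.mem_ker, LinearMap.rTensor_tmul, LinearMap.mem_ker.mp hv, TensorProduct.zero_tmul]
  have h2 := h h1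
  rw [LinearMap.mem_ker, LinearMap.rTensor_tmul] at h2
  have h3 := congrArg (TensorProduct.rid R _) h2
  rw [TensorProduct.rid_tmul, one_smul, map_zero] at h3
  exact h3

theorem exists_endo_of_isML_countable (hM : CAlg.IsMittagLeffler R M)
    (hc : CAlg.IsCountablyGenerated R M) {P : Type u} [AddCommGroup P] [Module R P]
    [Module.Finite R P] (f : P →ₗ[R] M) :
    ∃ (Q : Type u) (_ : AddCommGroup Q) (_ : Module R Q) (_ : Module.FinitePresentation R Q)
      (b : M →ₗ[R] Q) (c : Q →ₗ[R] M), (c ∘ₗ b) ∘ₗ f = f := by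
  classical
  -- enumerate generators
  obtain ⟨s, hs, hspan⟩ := hc
  have hs' : (s ∪ {0}).Countable := hs.union (Set.countable_singleton 0)
  obtain ⟨x, hx⟩ := hs'.exists_eq_range ⟨0, Or.inr rfl⟩
  have hxspan : Submodule.span R (Set.range x) = ⊤ := by
    rw [← hx, ← top_le_iff, ← hspan]
    exact Submodule.span_mono Set.subset_union_left
  -- initial stage
  let triv : Stage R M := ⟨PUnit.{u + 1}, 0⟩
  have hrf : (LinearMap.range f).FG := by
    rw [LinearMap.range_eq_map]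
    exact (Module.Finite.iff_fg.mp inferInstance).map _
  let s0 : Stage R M := triv.next hM (LinearMap.range f) hrf
  have hs0 : LinearMap.range f ≤ LinearMap.range s0.u := (triv.next_spec hM _ hrf).2.2
  -- the sequence
  let S : ℕ → Stage R M := stageSeq hM s0 x
  let t : ∀ k, (S k).Q →ₗ[R] (S (k + 1)).Q := stageMap hM s0 x
  have ht1 : ∀ k, (S (k + 1)).u ∘ₗ t k = (S k).u := fun k => (stage_spec hM s0 x k).1
  have ht2 : ∀ k (T : Type u) [AddCommGroup T] [Module R T],
      LinearMap.ker ((S k).u.rTensor T) ≤ LinearMap.ker ((t k).rTensor T) :=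
    fun k => (stage_spec hM s0 x k).2.1
  have ht3 : ∀ k, x k ∈ LinearMap.range (S (k + 1)).u := fun k => (stage_spec hM s0 x k).2.2
  have ht4 : ∀ k, LinearMap.ker (S k).u ≤ LinearMap.ker (t k) := fun k =>
    ker_le_of_ker_rTensor_le _ _ (ht2 k R)
  -- factorization
  have hfac : ∀ k, ∃ h : (S (k + 2)).Q →ₗ[R] (S (k + 1)).Q, t k = h ∘ₗ (t (k + 1) ∘ₗ t k) := by
    intro k
    haveI := finitePresentation_quot_range (t (k + 1) ∘ₗ t k)
    apply exists_factor_of_dom (t (k + 1) ∘ₗ t k) (t k)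
    intro T _ _
    refine le_trans ?_ (ht2 k T)
    apply ker_rTensor_le_of_comp (h := (S (k + 2)).u)
    rw [← LinearMap.comp_assoc, ht1 (k + 1), ht1 k]
  -- the target
  let X := (S 1).Q
  -- stable maps
  have claim : ∀ k (φ : {φ : (S k).Q →ₗ[R] X // ∃ φ' : (S (k + 1)).Q →ₗ[R] X, φ = φ' ∘ₗ t k}),
      ∃ ψ : {ψ : (S (k + 1)).Q →ₗ[R] X // ∃ ψ' : (S (k + 2)).Q →ₗ[R] X, ψ = ψ' ∘ₗ t (k + 1)},
        ψ.1 ∘ₗ t k = φ.1 := by
    rintro k ⟨φ, φ', rfl⟩
    obtain ⟨h, hh⟩ := hfac k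
    refine ⟨⟨(φ' ∘ₗ h) ∘ₗ t (k + 1), φ' ∘ₗ h, rfl⟩, ?_⟩
    show ((φ' ∘ₗ h) ∘ₗ t (k + 1)) ∘ₗ t k = φ' ∘ₗ t k
    conv_rhs => rw [hh]
    rfl
  choose nxt hnxt using claim
  let phi : ∀ k, {φ : (S k).Q →ₗ[R] X // ∃ φ' : (S (k + 1)).Q →ₗ[R] X, φ = φ' ∘ₗ t k} :=
    fun k => Nat.rec ⟨t 0, LinearMap.id, rfl⟩ (fun k p => nxt k p) k
  have hphi : ∀ k, (phi (k + 1)).1 ∘ₗ t k = (phi k).1 := fun k => hnxt k (phi k)
  have hphi0 : (phi 0).1 = t 0 := rfl
  have hphiker : ∀ k, LinearMap.ker (S k).u ≤ LinearMap.ker (phi k).1 := by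
    intro k q hq
    obtain ⟨φ', hφ'⟩ := (phi k).2
    rw [LinearMap.mem_ker, hφ', LinearMap.comp_apply, LinearMap.mem_ker.mp (ht4 k hq), map_zero]
  -- the graph
  let Γk : ℕ → Submodule R (M × X) := fun k => LinearMap.range ((S k).u.prod (phi k).1)
  have hΓmono : Monotone Γk := by
    apply monotone_nat_of_le_succ
    rintro k _ ⟨q, rfl⟩
    refine ⟨t k q, ?_⟩
    have h1 := LinearMap.congr_fun (ht1 k) q
    have h2 := LinearMap.congr_fun (hphi k) q
    simp only [LinearMap.comp_apply] at h1 h2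
    show ((S (k + 1)).u (t k q), (phi (k + 1)).1 (t k q)) = ((S k).u q, (phi k).1 q)
    rw [h1, h2]
  let Γ : Submodule R (M × X) := ⨆ k, Γk k
  have hΓmem : ∀ p, p ∈ Γ ↔ ∃ k, p ∈ Γk k := fun p =>
    Submodule.mem_iSup_of_directed Γk hΓmono.directed_le
  -- the ranges
  have hrmono : Monotone (fun k => LinearMap.range (S k).u) := by
    apply monotone_nat_of_le_succ
    rintro k _ ⟨q, rfl⟩
    exact ⟨t k q, LinearMap.congr_fun (ht1 k) q⟩
  have hrtop : (⨆ k, LinearMap.range (S k).u) = ⊤ := by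
    rw [← top_le_iff, ← hxspan]
    refine Submodule.span_le.mpr ?_
    rintro _ ⟨k, rfl⟩
    exact (le_iSup (fun k => LinearMap.range (S k).u) (k + 1)) (ht3 k)
  have hdom : ∀ y : M, ∃ z, (y, z) ∈ Γ := by
    intro y
    have hy : y ∈ ⨆ k, LinearMap.range (S k).u := hrtop ▸ Submodule.mem_top
    obtain ⟨k, q, rfl⟩ := (Submodule.mem_iSup_of_directed _ hrmono.directed_le).mp hy
    exact ⟨(phi k).1 q, (hΓmem _).mpr ⟨k, q, rfl⟩⟩
  have huniq : ∀ z, ((0 : M), z) ∈ Γ → z = 0 := by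
    intro z hz
    obtain ⟨k, q, hq⟩ := (hΓmem _).mp hz
    have hq1 : (S k).u q = 0 := congrArg Prod.fst hq
    have hq2 : (phi k).1 q = z := congrArg Prod.snd hq
    rw [← hq2]
    exact hphiker k hq1
  obtain ⟨b, hb⟩ := exists_linearMap_of_graph Γ hdom huniq
  have hb0 : ∀ q, b ((S 0).u q) = t 0 q := by
    intro q
    have h1 : ((S 0).u q, t 0 q) ∈ Γ := (hΓmem _).mpr ⟨0, q, rfl⟩
    have h2 := Γ.sub_mem (hb ((S 0).u q)) h1
    simp only [Prod.mk_sub_mk, sub_self] at h2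
    exact sub_eq_zero.mp (huniq _ h2)
  refine ⟨X, inferInstance, inferInstance, inferInstance, b, (S 1).u, ?_⟩
  ext p
  obtain ⟨q, hq⟩ := hs0 (LinearMap.mem_range_self f p)
  have hq' : (S 0).u q = f p := hq
  simp only [LinearMap.comp_apply]
  rw [← hq']
  exact (congrArg (S 1).u (hb0 q)).trans (LinearMap.congr_fun (ht1 0) q)

end Groth.Agent.Helper3
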