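import Groth.Agent.Helper3.HensTFAE

/-!
S0518: lifting finite étale algebras from the residue field of a local ring.
-/

namespace Groth.Agent.Helper3.HensFEtLift

open Groth.Agent.Helper3.HensGabber Groth.Agent.Helper3.HensTFAE IsLocalRing Polynomial
open scoped TensorProduct IntermediateField

universe u

/-- `AdjoinRoot P` is étale over `R` when `P` is monic with `P'` invertible in the quotient. -/
theorem etale_adjoinRoot {R : Type u} [CommRing R] (P : R[X]) (hP : P.Monic)
    (hu : IsUnit (AdjoinRoot.mk P (derivative P))) : Algebra.Etale R (AdjoinRoot P) := by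
  let Q : StandardEtalePair R := ⟨P, hP, derivative P, ⟨1, 0, 1, by ring⟩⟩
  let e1 : Q.Ring ≃ₐ[R] Localization.Away (AdjoinRoot.mk P (derivative P)) :=
    Q.equivAwayAdjoinRoot
  let e2 : AdjoinRoot P ≃ₐ[AdjoinRoot P] Localization.Away (AdjoinRoot.mk P (derivative P)) :=
    IsLocalization.atUnit (AdjoinRoot P) _ (AdjoinRoot.mk P (derivative P)) hu
  exact Algebra.Etale.of_equiv (e1.trans (e2.restrictScalars R).symm)

/-- Lifting a finite separable extension of the residue field to a finite étale algebra. -/
theorem lift_sep_ext (R : Type u) [CommRing R] [IsLocalRing R]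
    (K : Type u) [Field K] [Algebra (ResidueField R) K] [Module.Finite (ResidueField R) K]
    [Algebra.IsSeparable (ResidueField R) K] :
    ∃ (S : Type u) (_ : CommRing S) (_ : Algebra R S), Module.Finite R S ∧ Algebra.Etale R S ∧
      Nonempty ((ResidueField R) ⊗[R] S ≃ₐ[ResidueField R] K) := by
  obtain ⟨α, hα⟩ := Field.exists_primitive_element (ResidueField R) K
  have hint : IsIntegral (ResidueField R) α := Algebra.IsIntegral.isIntegral α
  set p := minpoly (ResidueField R) α with hp
  have hpmonic : p.Monic := minpoly.monic hint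
  have hpsep : p.Separable := Algebra.IsSeparable.isSeparable (ResidueField R) α
  obtain ⟨P, hPmap, hPdeg, hPmonic⟩ := Polynomial.lifts_and_natDegree_eq_and_monic
    (Polynomial.mem_lifts_of_surjective residue_surjective p) hpmonic
  have hI : maximalIdeal R ≤ Ideal.jacobson ⊥ :=
    le_of_eq (IsLocalRing.jacobson_eq_maximalIdeal ⊥ bot_ne_top).symm
  have hfin : Module.Finite R (AdjoinRoot P) := (AdjoinRoot.powerBasis' hPmonic).finite
  have hfree : Module.Free R (AdjoinRoot P) := Module.Free.of_basis (AdjoinRoot.powerBasis' hPmonic).basis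
  have hint' : Algebra.IsIntegral R (AdjoinRoot P) := Algebra.IsIntegral.of_finite R _
  -- the derivative is a unit
  have hu : IsUnit (AdjoinRoot.mk P (derivative P)) := by
    obtain ⟨a, b, hab⟩ := hpsep
    obtain ⟨A₀, hA₀⟩ := Polynomial.map_surjective (residue R) residue_surjective a
    obtain ⟨B₀, hB₀⟩ := Polynomial.map_surjective (residue R) residue_surjective b
    set q := A₀ * P + B₀ * derivative P - 1 with hq
    have hqmap : q.map (Ideal.Quotient.mk (maximalIdeal R)) = 0 := by
      change q.map (residue R) = 0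
      rw [hq, Polynomial.map_sub, Polynomial.map_add, Polynomial.map_mul, Polynomial.map_mul,
        Polynomial.map_one, ← Polynomial.derivative_map, hA₀, hB₀, hPmap, hab, sub_self]
    have hmem := mk_mem_map_of_map_eq_zero (maximalIdeal R) P q hqmap
    have hmk : AdjoinRoot.mk P q =
        AdjoinRoot.mk P B₀ * AdjoinRoot.mk P (derivative P) - 1 := by
      rw [hq, map_sub, map_add, map_mul, map_mul, AdjoinRoot.mk_self, mul_zero, zero_add, map_one]
    rw [hmk] at hmem
    have hunit : IsUnit (AdjoinRoot.mk P B₀ * AdjoinRoot.mk P (derivative P)) :=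
      isUnit_of_sub_one_mem (map_le_jacobson_of_isIntegral (maximalIdeal R) hI) hmem
    exact isUnit_of_mul_isUnit_right hunit
  have hetale : Algebra.Etale R (AdjoinRoot P) := etale_adjoinRoot P hPmonic hu
  refine ⟨AdjoinRoot P, inferInstance, inferInstance, hfin, hetale, ?_⟩
  letI : Algebra R K := ((algebraMap (ResidueField R) K).comp (algebraMap R (ResidueField R))).toAlgebra
  haveI : IsScalarTower R (ResidueField R) K := IsScalarTower.of_algebraMap_eq (fun _ => rfl)
  have hroot : eval₂ (algebraMap R K) α P = 0 := by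
    have h1 : eval₂ (algebraMap R K) α P =
        eval₂ (algebraMap (ResidueField R) K) α (P.map (algebraMap R (ResidueField R))) := by
      rw [eval₂_map]; rfl
    rw [h1, ResidueField.algebraMap_eq, hPmap]
    exact minpoly.aeval (ResidueField R) α
  let ψ₀ : AdjoinRoot P →ₐ[R] K := AdjoinRoot.liftAlgHom P (Algebra.ofId R K) α hroot
  let Ψ : (ResidueField R) ⊗[R] AdjoinRoot P →ₐ[ResidueField R] K :=
    Algebra.TensorProduct.lift (Algebra.ofId (ResidueField R) K) ψ₀ (fun _ _ => Commute.all _ _)
  have htop : Algebra.adjoin (ResidueField R) {α} = ⊤ := by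
    rw [← IntermediateField.adjoin_simple_toSubalgebra_of_isAlgebraic hint.isAlgebraic, hα]
    rfl
  have hsurj : Function.Surjective Ψ := by
    rw [← AlgHom.range_eq_top, eq_top_iff, ← htop, Algebra.adjoin_le_iff,
      Set.singleton_subset_iff]
    refine ⟨1 ⊗ₜ AdjoinRoot.root P, ?_⟩
    change Ψ (1 ⊗ₜ AdjoinRoot.root P) = α
    rw [Algebra.TensorProduct.lift_tmul, map_one, one_mul]
    exact AdjoinRoot.liftAlgHom_root _ _ _ _
  have hrank : Module.finrank (ResidueField R) ((ResidueField R) ⊗[R] AdjoinRoot P) =
      Module.finrank (ResidueField R) K := by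
    rw [Module.finrank_baseChange, (AdjoinRoot.powerBasis' hPmonic).finrank,
      AdjoinRoot.powerBasis'_dim, hPdeg, ← IntermediateField.finrank_top', ← hα,
      IntermediateField.adjoin.finrank hint]
  have hinj : Function.Injective Ψ :=
    (LinearMap.injective_iff_surjective_of_finrank_eq_finrank
      (f := Ψ.toLinearMap) hrank).2 hsurj
  exact ⟨AlgEquiv.ofBijective Ψ ⟨hinj, hsurj⟩⟩

/-- S0518 (no henselian hypothesis needed). -/
theorem fet_lift_local (R : Type u) [CommRing R] [IsLocalRing R] (A : Type u) [CommRing A]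
    [Algebra (ResidueField R) A] [Module.Finite (ResidueField R) A]
    [Algebra.Etale (ResidueField R) A] :
    ∃ (S : Type u) (_ : CommRing S) (_ : Algebra R S), Module.Finite R S ∧ Algebra.Etale R S ∧
      Nonempty ((ResidueField R) ⊗[R] S ≃ₐ[ResidueField R] A) := by
  classical
  obtain ⟨I, hI, K, hK, hKalg, e, hsep⟩ :=
    (Algebra.Etale.iff_exists_algEquiv_prod (K := ResidueField R) (A := A)).1 inferInstance
  haveI : Fintype I := Fintype.ofFinite I
  have hex : ∀ i, ∃ (S : Type u) (_ : CommRing S) (_ : Algebra R S), Module.Finite R S ∧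
      Algebra.Etale R S ∧ Nonempty ((ResidueField R) ⊗[R] S ≃ₐ[ResidueField R] K i) := by
    intro i
    haveI := (hsep i).1
    haveI := (hsep i).2
    exact lift_sep_ext R (K i)
  choose S hScr hSalg hfin het hiso using hex
  refine ⟨∀ i, S i, inferInstance, inferInstance, inferInstance, inferInstance, ?_⟩
  let e1 : (ResidueField R) ⊗[R] (∀ i, S i) ≃ₐ[ResidueField R]
      ∀ i, (ResidueField R) ⊗[R] S i :=
    Algebra.TensorProduct.piRight R (ResidueField R) (ResidueField R) S
  let e2 : (∀ i, (ResidueField R) ⊗[R] S i) ≃ₐ[ResidueField R] ∀ i, K i :=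
    AlgEquiv.piCongrRight fun i => (hiso i).some
  exact ⟨(e1.trans e2).trans e.symm⟩

end Groth.Agent.Helper3.HensFEtLift
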