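import Mathlib

set_option linter.style.haveILetI false
set_option linter.unusedSectionVars false
set_option linter.unusedVariables false
set_option linter.style.haveILetI false
set_option linter.unusedSectionVars false
set_option linter.unusedVariables false

namespace Groth.Agent.Helper3.FlatColon

universe u

/-- Flat base change of colon ideals by finitely generated ideals: if `X ∈ B` satisfies
`f ∣ X * x` for all `x ∈ J` (with `J` finitely generated) then `X ∈ (fA : J) B`. -/
theorem mem_map_colon {A B : Type u} [CommRing A] [CommRing B] [Algebra A B] [Module.Flat A B]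
    (f : A) (J : Ideal A) (hJ : J.FG) (X : B)
    (hX : ∀ x ∈ J, algebraMap A B f ∣ X * algebraMap A B x) :
    X ∈ Ideal.map (algebraMap A B) ((Ideal.span {f}).colon (J : Set A)) := by
  classical
  obtain ⟨r, x, hx⟩ := Submodule.fg_iff_exists_fin_generating_family.1 hJ
  have hxJ : ∀ j, x j ∈ J := fun j => by rw [← hx]; exact Submodule.subset_span ⟨j, rfl⟩
  choose b hb using fun j => hX (x j) (hxJ j)
  -- the maps
  let fmap : (Fin r → A) →ₗ[A] (A × (Fin r → A)) :=
    { toFun := fun c => (∑ j, x j * c j, fun j => -(f * c j))
      map_add' := fun c c' => by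
        ext
        · simp [mul_add, Finset.sum_add_distrib]
        · simp [mul_add]; ring
      map_smul' := fun s c => by
        ext
        · simp [Finset.mul_sum]
          apply Finset.sum_congr rfl; intro j _; ring
        · simp; ring }
  let xmap : (A × (Fin r → A)) →ₗ[A] B :=
    { toFun := fun p => algebraMap A B p.1 * X + ∑ j, algebraMap A B (p.2 j) * b j
      map_add' := fun p p' => by
        simp [add_mul, Finset.sum_add_distrib]; ring
      map_smul' := fun s p => by
        simp [Finset.mul_sum, Algebra.smul_def, mul_add, mul_assoc] }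
  have hcomp : xmap ∘ₗ fmap = 0 := by
    apply LinearMap.ext
    intro c
    show algebraMap A B (∑ j, x j * c j) * X + ∑ j, algebraMap A B (-(f * c j)) * b j = 0
    rw [map_sum, Finset.sum_mul, ← Finset.sum_add_distrib]
    apply Finset.sum_eq_zero
    intro j _
    rw [map_mul, map_neg, map_mul]
    have := hb j
    linear_combination (algebraMap A B (c j)) * this
  obtain ⟨k, a, y, hya, haf⟩ := Module.Flat.exists_factorization_of_comp_eq_zero_of_free hcomp
  -- X = Σ α_l • y_l
  set α : Fin k → A := fun l => a (1, 0) l with hα
  have hXeq : X = ∑ l, algebraMap A B (α l) * y (Finsupp.single l 1) := by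
    have h1 : X = xmap (1, 0) := by
      show X = algebraMap A B 1 * X + ∑ j, algebraMap A B ((0 : Fin r → A) j) * b j
      simp
    rw [h1, hya, LinearMap.comp_apply]
    conv_lhs => rw [← Finsupp.sum_single (a (1, 0))]
    rw [Finsupp.sum_fintype _ _ (fun _ => by simp), map_sum]
    apply Finset.sum_congr rfl
    intro l _
    rw [← mul_one (a (1, 0) l), ← smul_eq_mul, ← Finsupp.smul_single, map_smul, Algebra.smul_def]
  have hαmem : ∀ l, α l ∈ (Ideal.span {f}).colon (J : Set A) := by
    intro l
    rw [← hx, ← Ideal.span, Ideal.colon_span, Submodule.mem_colon]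
    rintro _ ⟨j, rfl⟩
    rw [smul_eq_mul, Ideal.mem_span_singleton]
    have h2 : a (fmap (Pi.single j 1)) = 0 := by
      rw [← LinearMap.comp_apply, haf, LinearMap.zero_apply]
    have h3 : fmap (Pi.single j 1) = (x j) • ((1 : A), (0 : Fin r → A)) +
        (-f) • ((0 : A), (Pi.single j 1 : Fin r → A)) := by
      show ((∑ i, x i * (Pi.single j 1 : Fin r → A) i,
        fun i => -(f * (Pi.single j 1 : Fin r → A) i)) : A × (Fin r → A)) = _
      ext i
      · simp only [Prod.smul_mk, smul_zero, Prod.mk_add_mk, add_zero, smul_eq_mul, mul_one,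
          mul_zero]
        rw [Finset.sum_eq_single j]
        · simp
        · intro i _ hij; simp [Pi.single_eq_of_ne hij]
        · simp
      · simp
    rw [h3, map_add, map_smul, map_smul] at h2
    have h4 := DFunLike.congr_fun h2 l
    simp only [Finsupp.coe_add, Finsupp.coe_smul, Pi.add_apply, Pi.smul_apply, smul_eq_mul,
      Finsupp.coe_zero, Pi.zero_apply] at h4
    refine ⟨a (0, Pi.single j 1) l, ?_⟩
    simp only [hα]
    linear_combination h4
  rw [hXeq]
  refine Ideal.sum_mem _ fun l _ => Ideal.mul_mem_right _ _ (Ideal.mem_map_of_mem _ (hαmem l))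

end Groth.Agent.Helper3.FlatColon
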