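import Mathlib
import Groth.Prelude.Def_HopfRep

/-! Comodules over a coalgebra over a field: the fundamental theorem. -/

universe u v w

open scoped TensorProduct

namespace Groth.Agent.Helper3

open HopfRep

variable {k : Type u} {C : Type v} [Field k] [AddCommGroup C] [Module k C] [Coalgebra k C]
  {V : Type w} [AddCommGroup V] [Module k V] [HopfRep.Comod k C V]

/-- Fundamental theorem of comodules: every vector lies in a finite-dimensional subcomodule. -/
theorem exists_finite_subcomod (v : V) :
    ∃ W : Submodule k V, Module.Finite k W ∧ v ∈ W ∧ HopfRep.IsSubcomod (k := k) (A := C) W := by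
  classical
  let b := Module.Basis.ofVectorSpace k C
  let ρ : V →ₗ[k] V ⊗[k] C := HopfRep.Comod.coact (k := k) (A := C)
  let E := TensorProduct.equivFinsuppOfBasisRight (M := V) b
  let c : Module.Basis.ofVectorSpaceIndex k C →₀ V := E (ρ v)
  have hc : ρ v = c.sum fun i m => m ⊗ₜ[k] b i := by
    rw [← TensorProduct.equivFinsuppOfBasisRight_symm_apply, LinearEquiv.symm_apply_apply]
  let W : Submodule k V := Submodule.span k (↑(c.support.image c) : Set V)
  have hcW : ∀ i, c i ∈ W := by
    intro i
    by_cases hi : i ∈ c.support
    · exact Submodule.subset_span (Finset.mem_coe.mpr (Finset.mem_image_of_mem c hi))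
    · rw [Finsupp.notMem_support_iff.mp hi]
      exact W.zero_mem
  refine ⟨W, Module.Finite.span_of_finite k (Finset.finite_toSet _), ?_, ?_⟩
  · -- counit
    have h1 := LinearMap.congr_fun (HopfRep.Comod.counit_comp (k := k) (A := C) (V := V)) v
    simp only [LinearMap.comp_apply, LinearMap.flip_apply, TensorProduct.mk_apply] at h1
    have h2 := congrArg (TensorProduct.rid k V) h1
    rw [TensorProduct.rid_tmul, one_smul] at h2
    rw [← h2]
    change (TensorProduct.rid k V) ((LinearMap.lTensor V CoalgebraStruct.counit) (ρ v)) ∈ W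
    rw [hc, Finsupp.sum, map_sum, map_sum]
    refine Submodule.sum_mem _ fun i _ => ?_
    rw [LinearMap.lTensor_tmul, TensorProduct.rid_tmul]
    exact W.smul_mem _ (hcW i)
  · -- subcomodule
    have hkey : ∀ j, ρ (c j) ∈ LinearMap.range (W.subtype.rTensor C) := by
      intro j
      let Φ : V ⊗[k] (C ⊗[k] C) →ₗ[k] V ⊗[k] C :=
        LinearMap.lTensor V ((TensorProduct.rid k C).toLinearMap ∘ₗ LinearMap.lTensor C (b.coord j))
      have hΦ : ∀ (x : V ⊗[k] C) (c' : C),
          Φ (TensorProduct.assoc k V C C (x ⊗ₜ[k] c')) = b.coord j c' • x := by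
        intro x c'
        induction x using TensorProduct.induction_on with
        | zero => simp
        | tmul w c0 =>
          simp only [Φ, TensorProduct.assoc_tmul, LinearMap.lTensor_tmul, LinearMap.comp_apply,
            LinearEquiv.coe_coe, TensorProduct.rid_tmul]
          rw [TensorProduct.tmul_smul]
        | add x y hx hy =>
          rw [TensorProduct.add_tmul, map_add, map_add, hx, hy, smul_add]
      have h1 := LinearMap.congr_fun (HopfRep.Comod.coassoc (k := k) (A := C) (V := V)) v
      simp only [LinearMap.comp_apply, LinearEquiv.coe_coe] at h1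
      have h2 := congrArg Φ h1
      change Φ (TensorProduct.assoc k V C C ((LinearMap.rTensor C ρ) (ρ v))) =
        Φ ((LinearMap.lTensor V CoalgebraStruct.comul) (ρ v)) at h2
      have hL : Φ (TensorProduct.assoc k V C C ((LinearMap.rTensor C ρ) (ρ v))) = ρ (c j) := by
        rw [hc, Finsupp.sum, map_sum, map_sum, map_sum]
        simp only [LinearMap.rTensor_tmul, hΦ]
        rw [Finset.sum_eq_single j]
        · simp
        · intro i _ hij
          rw [Module.Basis.coord_apply, Module.Basis.repr_self, Finsupp.single_eq_of_ne hij.symm, zero_smul]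
        · intro hj
          rw [Finsupp.notMem_support_iff.mp hj, map_zero, smul_zero]
      rw [hL] at h2
      rw [h2, hc, Finsupp.sum, map_sum, map_sum]
      refine Submodule.sum_mem _ fun i _ => ?_
      simp only [Φ, LinearMap.lTensor_tmul]
      exact ⟨(⟨c i, hcW i⟩ : W) ⊗ₜ[k] _, by rw [LinearMap.rTensor_tmul]; rfl⟩
    have hle : W ≤ (LinearMap.range (W.subtype.rTensor C)).comap ρ := by
      refine Submodule.span_le.mpr ?_
      intro x hx
      obtain ⟨i, _, rfl⟩ := Finset.mem_image.mp (Finset.mem_coe.mp hx)
      exact hkey i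
    intro w hw
    exact hle hw

end Groth.Agent.Helper3
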