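import Mathlib
import Groth.Agent.Helper4.GeomConnSch

set_option linter.style.haveILetI false
set_option linter.unusedSectionVars false
set_option linter.unusedVariables false
set_option linter.style.haveILetI false
set_option linter.unusedSectionVars false
set_option linter.unusedVariables false

namespace Groth.Agent.Helper3.ConnProd

open AlgebraicGeometry CategoryTheory Limits

universe u

theorem geometricallyConnected_of_section (k : Type u) [Field k] (X : Scheme.{u})
    (f : X ⟶ Spec (CommRingCat.of k)) [ConnectedSpace X]
    (x : Spec (CommRingCat.of k) ⟶ X) (hx : x ≫ f = 𝟙 _) : GeometricallyConnected f := by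
  haveI : Nonempty ↥(Spec (CommRingCat.of k)) :=
    inferInstanceAs (Nonempty (PrimeSpectrum k))
  haveI : GeometricallyConnected (x ≫ f) := by
    rw [hx]
    refine ⟨fun K _ y Z fst snd h => ?_⟩
    haveI : IsIso snd := h.isIso_snd_of_isIso
    haveI : ConnectedSpace ↥(Spec (CommRingCat.of K)) := by
      haveI : IrreducibleSpace (PrimeSpectrum K) := inferInstance
      exact inferInstanceAs (ConnectedSpace (PrimeSpectrum K))
    exact (asIso snd).hom.homeomorph.connectedSpace_iff.mpr inferInstance
  exact Groth.Agent.Helper4.GeomConnSch.geometricallyConnected_of_source x f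

theorem main (k : Type u) [Field k] (X Y : Scheme.{u})
    (f : X ⟶ Spec (CommRingCat.of k)) (g : Y ⟶ Spec (CommRingCat.of k)) [ConnectedSpace X]
    [ConnectedSpace Y]
    (x : Spec (CommRingCat.of k) ⟶ X) (hx : x ≫ f = 𝟙 _) : ConnectedSpace ↥(pullback f g) := by
  haveI := geometricallyConnected_of_section k X f x hx
  infer_instance

end Groth.Agent.Helper3.ConnProd
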