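import Mathlib

/-!
Gabber's criterion for henselian pairs (elementary part): `HenselianRing A I` iff `I ≤ rad A` and
every polynomial `T^n (T - 1) + p` (coefficients of `p` in `I`, `deg p ≤ n`, `n ≥ 1`) has a
root congruent to `1` modulo `I`.
-/

namespace Groth.Agent.Helper3.HensGabber

open Polynomial

universe u

variable {A : Type*} [CommRing A]

theorem isUnit_of_isUnit_mk {I : Ideal A} (hI : I ≤ Ideal.jacobson ⊥) {x : A}
    (hx : IsUnit (Ideal.Quotient.mk I x)) : IsUnit x :=
  (isLocalHom_of_le_jacobson_bot I hI).map_nonunit _ hx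

theorem isUnit_of_sub_one_mem {I : Ideal A} (hI : I ≤ Ideal.jacobson ⊥) {x : A}
    (hx : x - 1 ∈ I) : IsUnit x := by
  refine isUnit_of_isUnit_mk hI ?_
  have : Ideal.Quotient.mk I x = 1 := by
    rw [← sub_eq_zero, ← map_one (Ideal.Quotient.mk I), ← map_sub]
    exact Ideal.Quotient.eq_zero_iff_mem.2 hx
  rw [this]; exact isUnit_one

theorem isUnit_add_of_mem_jacobson {u j : A} (hu : IsUnit u)
    (hj : j ∈ Ideal.jacobson (⊥ : Ideal A)) : IsUnit (u + j) := by
  obtain ⟨u, rfl⟩ := hu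
  have h := (Ideal.mem_jacobson_bot.mp hj) (↑u⁻¹ : A)
  have : (↑u : A) + j = ↑u * (j * ↑u⁻¹ + 1) := by
    rw [mul_add, mul_one, mul_comm j, ← mul_assoc, Units.mul_inv, one_mul, add_comm]
  rw [this]
  exact u.isUnit.mul h

theorem map_le_jacobson_bot {B : Type*} [CommRing B] (φ : A →+* B) (hφ : Function.Surjective φ)
    {J : Ideal A} (hJ : J ≤ Ideal.jacobson ⊥) : J.map φ ≤ Ideal.jacobson ⊥ := by
  intro y hy
  obtain ⟨x, hx, rfl⟩ := (Ideal.mem_map_iff_of_surjective φ hφ).mp hy
  rw [Ideal.mem_jacobson_bot]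
  intro z
  obtain ⟨w, rfl⟩ := hφ z
  have := (Ideal.mem_jacobson_bot.mp (hJ hx)) w
  simpa using this.map φ

theorem root_unique_of_sub_mem_jacobson (f : A[X]) {a b : A} (ha : f.eval a = 0)
    (hb : f.eval b = 0) (hab : a - b ∈ Ideal.jacobson (⊥ : Ideal A))
    (hu : IsUnit (f.derivative.eval b)) : a = b := by
  obtain ⟨k, hk⟩ := Polynomial.binomExpansion f b (a - b)
  rw [add_sub_cancel, ha, hb, zero_add] at hk
  have h1 : (f.derivative.eval b + k * (a - b)) * (a - b) = 0 := by
    rw [hk]; ring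
  have h2 : IsUnit (f.derivative.eval b + k * (a - b)) :=
    isUnit_add_of_mem_jacobson hu (Ideal.mul_mem_left _ _ hab)
  exact sub_eq_zero.mp (h2.mul_right_eq_zero.mp h1)

/-- A polynomial with coefficients in `I` takes values in `I`. -/
theorem eval_mem_of_coeff_mem {I : Ideal A} {p : A[X]} (hp : ∀ i, p.coeff i ∈ I) (x : A) :
    p.eval x ∈ I := by
  rw [eval_eq_sum_range]
  exact I.sum_mem fun k _ => I.mul_mem_right _ (hp k)

theorem map_eq_zero_of_coeff_mem {I : Ideal A} {p : A[X]} (hp : ∀ i, p.coeff i ∈ I) :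
    p.map (Ideal.Quotient.mk I) = 0 := by
  ext k
  rw [coeff_map, coeff_zero]
  exact Ideal.Quotient.eq_zero_iff_mem.2 (hp k)

/-- Gabber's condition. -/
def Gab (A : Type*) [CommRing A] (I : Ideal A) : Prop :=
  ∀ (n : ℕ), 0 < n → ∀ p : A[X], p.natDegree ≤ n → (∀ i, p.coeff i ∈ I) →
    ∃ α : A, α - 1 ∈ I ∧ IsRoot (X ^ n * (X - 1) + p) α

theorem gabPoly_monic [Nontrivial A] (n : ℕ) (p : A[X]) (hp : p.natDegree ≤ n) :
    (X ^ n * (X - 1) + p : A[X]).Monic := by
  have hX1 : (X - 1 : A[X]) = X - C 1 := by simp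
  have h1 : (X ^ n * (X - 1) : A[X]).Monic := by
    rw [hX1]; exact (monic_X_pow n).mul (monic_X_sub_C (1 : A))
  refine h1.add_of_left ?_
  have hd : (X ^ n * (X - 1) : A[X]).natDegree = n + 1 := by
    rw [hX1, ((monic_X_pow n).natDegree_mul (monic_X_sub_C (1 : A))), natDegree_X_pow,
      natDegree_X_sub_C]
  have h2 : (X ^ n * (X - 1) : A[X]).degree = ((n + 1 : ℕ) : WithBot ℕ) := by
    rw [degree_eq_natDegree h1.ne_zero, hd]
  rw [h2]
  refine lt_of_le_of_lt degree_le_natDegree ?_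
  exact_mod_cast Nat.lt_succ_of_le hp

theorem gabPoly_deriv_eval (I : Ideal A) (n : ℕ) (p : A[X]) (hpI : ∀ i, p.coeff i ∈ I) (α : A)
    (hα : α - 1 ∈ I) :
    Ideal.Quotient.mk I ((X ^ n * (X - 1) + p : A[X]).derivative.eval α) = 1 := by
  have h1 : Ideal.Quotient.mk I α = 1 := by
    rw [← sub_eq_zero, ← map_one (Ideal.Quotient.mk I), ← map_sub]
    exact Ideal.Quotient.eq_zero_iff_mem.2 hα
  have h2 : Ideal.Quotient.mk I (p.derivative.eval α) = 0 := by
    refine Ideal.Quotient.eq_zero_iff_mem.2 (eval_mem_of_coeff_mem (fun i => ?_) α)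
    rw [coeff_derivative]
    exact I.mul_mem_right _ (hpI _)
  rw [derivative_add, eval_add, map_add, h2, add_zero, derivative_mul, derivative_X_pow,
    derivative_sub, derivative_X, derivative_one, sub_zero, mul_one]
  simp only [eval_add, eval_mul, eval_pow, eval_X, eval_sub, eval_one, eval_natCast,
    map_add, map_mul, map_pow, map_sub, map_one, h1, map_natCast, one_pow, sub_self, mul_zero,
    zero_add]

theorem gab_of_hens (I : Ideal A) [h : HenselianRing A I] : Gab A I := by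
  intro n hn p hp hpI
  rcases subsingleton_or_nontrivial A with hs | hnt
  · exact ⟨1, by simp, Subsingleton.elim _ _⟩
  have hmonic := gabPoly_monic n p hp
  have h1 : (X ^ n * (X - 1) + p : A[X]).eval 1 ∈ I := by
    have : (X ^ n * (X - 1) + p : A[X]).eval 1 = p.eval 1 := by simp
    rw [this]; exact eval_mem_of_coeff_mem hpI 1
  have h2 : IsUnit (Ideal.Quotient.mk I ((X ^ n * (X - 1) + p : A[X]).derivative.eval 1)) := by
    rw [gabPoly_deriv_eval I n p hpI 1 (by simp)]; exact isUnit_one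
  obtain ⟨α, hα, hα1⟩ := h.is_henselian _ hmonic 1 h1 h2
  exact ⟨α, hα1, hα⟩

theorem gab_unique (I : Ideal A) (hI : I ≤ Ideal.jacobson ⊥) (n : ℕ) (p : A[X])
    (hpI : ∀ i, p.coeff i ∈ I) {α β : A} (hα : α - 1 ∈ I) (hβ : β - 1 ∈ I)
    (h1 : IsRoot (X ^ n * (X - 1) + p) α) (h2 : IsRoot (X ^ n * (X - 1) + p) β) : α = β := by
  refine root_unique_of_sub_mem_jacobson _ h1 h2 (hI ?_) ?_
  · have : α - β = (α - 1) - (β - 1) := by ring
    rw [this]; exact I.sub_mem hα hβ
  · refine isUnit_of_isUnit_mk hI ?_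
    rw [gabPoly_deriv_eval I n p hpI β hβ]; exact isUnit_one

theorem one_notMem_jacobson_bot [Nontrivial A] : (1 : A) ∉ Ideal.jacobson (⊥ : Ideal A) := by
  intro h
  have := Ideal.mem_jacobson_bot.1 h (-1)
  simp at this

theorem hens_of_gab (I : Ideal A) (hI : I ≤ Ideal.jacobson ⊥) (hG : Gab A I) :
    HenselianRing A I := by
  refine ⟨hI, fun f hf a₀ h₁ h₂ => ?_⟩
  rcases subsingleton_or_nontrivial A with hs | hnt
  · exact ⟨a₀, Subsingleton.elim _ _, by simp⟩
  set F := taylor a₀ f with hF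
  set c : ℕ → A := fun k => F.coeff k with hc
  have hc0 : c 0 = f.eval a₀ := taylor_coeff_zero _ _
  have hc1 : c 1 = f.derivative.eval a₀ := taylor_coeff_one _ _
  have hc0I : c 0 ∈ I := hc0 ▸ h₁
  obtain ⟨v, hv⟩ := (isUnit_of_isUnit_mk hI h₂).exists_right_inv
  rw [← hc1] at hv
  have hn : F.natDegree = f.natDegree := natDegree_taylor f a₀
  have hn0 : f.natDegree ≠ 0 := by
    intro h0
    have hf1 : f = 1 := (hf.natDegree_eq_zero).1 h0
    rw [hf1, eval_one] at h₁
    exact one_notMem_jacobson_bot (hI h₁)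
  obtain ⟨n', hn'⟩ := Nat.exists_eq_succ_of_ne_zero hn0
  set n := f.natDegree with hndef
  set d : ℕ → A := fun k => c (k + 1) * (-v) ^ (k + 1) * (c 0) ^ k with hd
  have hdI : ∀ k, d (k + 1) ∈ I := by
    intro k
    simp only [hd, pow_succ]
    exact I.mul_mem_left _ (I.mul_mem_left _ hc0I)
  set P : A[X] := ∑ k ∈ Finset.range n', C (d (k + 1)) * X ^ (n' - k) with hP
  have hPdeg : P.natDegree ≤ n := by
    refine natDegree_sum_le_of_forall_le _ _ fun k _ => ?_
    refine (natDegree_C_mul_X_pow_le _ _).trans ?_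
    rw [hn']; omega
  have hPI : ∀ i, P.coeff i ∈ I := by
    intro i
    rw [hP, finsetSum_coeff]
    refine I.sum_mem fun k _ => ?_
    rw [coeff_C_mul_X_pow]
    split_ifs
    · exact hdI k
    · exact I.zero_mem
  have hnpos : 0 < n := Nat.pos_of_ne_zero hn0
  obtain ⟨w, hw1, hw⟩ := hG n hnpos P hPdeg hPI
  obtain ⟨u, hu⟩ := (isUnit_of_sub_one_mem hI hw1).exists_right_inv
  set t : A := -(c 0 * v * u) with ht
  -- the value of `F` at `t`
  set Q : A := 1 + ∑ k ∈ Finset.range n, d k * u ^ (k + 1) with hQ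
  have hFt : F.eval t = c 0 * Q := by
    rw [eval_eq_sum_range, hn, Finset.sum_range_succ', hQ, mul_add, mul_one, Finset.mul_sum,
      pow_zero, mul_one, add_comm]
    congr 1
    refine Finset.sum_congr rfl fun k _ => ?_
    simp only [hd, ht, hc]
    ring
  have hd0 : d 0 * u ^ (0 + 1) = -u := by
    simp only [hd, pow_zero, mul_one, zero_add, pow_one]
    calc c 1 * -v * u = -(c 1 * v) * u := by ring
      _ = -u := by rw [hv]; ring
  have hQ' : Q = 1 - u + ∑ k ∈ Finset.range n', d (k + 1) * u ^ (k + 2) := by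
    rw [hQ, hn', Finset.sum_range_succ', hd0]
    ring
  have hwQ : w ^ (n + 1) * Q = 0 := by
    have hwk : ∀ k ∈ Finset.range n', w ^ (n + 1) * (d (k + 1) * u ^ (k + 2)) =
        d (k + 1) * w ^ (n' - k) := by
      intro k hk
      have hk' : k < n' := Finset.mem_range.1 hk
      have : n + 1 = (n' - k) + (k + 2) := by rw [hn']; omega
      rw [this, pow_add]
      calc w ^ (n' - k) * w ^ (k + 2) * (d (k + 1) * u ^ (k + 2))
          = d (k + 1) * w ^ (n' - k) * (w * u) ^ (k + 2) := by rw [mul_pow]; ring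
        _ = d (k + 1) * w ^ (n' - k) := by rw [hu, one_pow, mul_one]
    have hPw : P.eval w = ∑ k ∈ Finset.range n', d (k + 1) * w ^ (n' - k) := by
      rw [hP, eval_finsetSum]
      refine Finset.sum_congr rfl fun k _ => ?_
      simp
    have hroot : w ^ n * (w - 1) + P.eval w = 0 := by
      have := hw
      simpa [IsRoot] using this
    rw [hQ', mul_add, Finset.mul_sum, Finset.sum_congr rfl hwk, ← hPw, ← hroot]
    have : w ^ (n + 1) * (1 - u) = w ^ n * (w - 1) := by
      calc w ^ (n + 1) * (1 - u) = w ^ n * (w - w * u) := by ring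
        _ = w ^ n * (w - 1) := by rw [hu]
    rw [this]
  have hQ0 : Q = 0 := by
    have : u ^ (n + 1) * (w ^ (n + 1) * Q) = Q := by
      rw [← mul_assoc, ← mul_pow, mul_comm u w, hu, one_pow, one_mul]
    rw [← this, hwQ, mul_zero]
  refine ⟨t + a₀, ?_, ?_⟩
  · rw [IsRoot, ← taylor_eval, ← hF, hFt, hQ0, mul_zero]
  · rw [add_sub_cancel_right, ht]
    exact I.neg_mem (I.mul_mem_right _ (I.mul_mem_right _ hc0I))

/-- Gabber's criterion, with uniqueness. -/
theorem hens_iff_gab (A : Type u) [CommRing A] (I : Ideal A) :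
    HenselianRing A I ↔ (I ≤ Ideal.jacobson ⊥ ∧
      ∀ (n : ℕ), 0 < n → ∀ p : Polynomial A, p.natDegree ≤ n → (∀ i, p.coeff i ∈ I) →
        ∃! α : A, α - 1 ∈ I ∧
          Polynomial.IsRoot (Polynomial.X ^ n * (Polynomial.X - 1) + p) α) := by
  constructor
  · intro h
    refine ⟨h.jac, fun n hn p hp hpI => ?_⟩
    obtain ⟨α, hα1, hα⟩ := gab_of_hens I n hn p hp hpI
    exact ⟨α, ⟨hα1, hα⟩, fun β hβ => (gab_unique I h.jac n p hpI hα1 hβ.1 hα hβ.2).symm⟩
  · rintro ⟨hI, h⟩
    refine hens_of_gab I hI fun n hn p hp hpI => ?_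
    obtain ⟨α, hα, -⟩ := h n hn p hp hpI
    exact ⟨α, hα.1, hα.2⟩

/-- Gabber's condition passes to quotients. -/
theorem gab_map_of_surjective {B : Type*} [CommRing B] (I : Ideal A) (hG : Gab A I)
    (φ : A →+* B) (hφ : Function.Surjective φ) : Gab B (I.map φ) := by
  intro n hn p hp hpI
  have hlift : ∀ k, ∃ y ∈ I, φ y = p.coeff k := fun k =>
    (Ideal.mem_map_iff_of_surjective φ hφ).mp (hpI k)
  choose y hyI hy using hlift
  set q : A[X] := ∑ k ∈ Finset.range (n + 1), C (y k) * X ^ k with hq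
  have hqdeg : q.natDegree ≤ n := by
    refine natDegree_sum_le_of_forall_le _ _ fun k hk => ?_
    refine (natDegree_C_mul_X_pow_le _ _).trans ?_
    exact Nat.lt_succ_iff.1 (Finset.mem_range.1 hk)
  have hqI : ∀ i, q.coeff i ∈ I := by
    intro i
    rw [hq, finsetSum_coeff]
    refine I.sum_mem fun k _ => ?_
    rw [coeff_C_mul_X_pow]
    split_ifs
    · exact hyI k
    · exact I.zero_mem
  have hqp : q.map φ = p := by
    ext i
    rw [coeff_map, hq, finsetSum_coeff, map_sum]
    simp only [coeff_C_mul_X_pow, apply_ite φ, map_zero, hy]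
    rw [Finset.sum_ite_eq]
    split_ifs with h
    · rfl
    · rw [Finset.mem_range, not_lt] at h
      exact (coeff_eq_zero_of_natDegree_lt (lt_of_le_of_lt hp h)).symm
  obtain ⟨α, hα1, hα⟩ := hG n hn q hqdeg hqI
  refine ⟨φ α, ?_, ?_⟩
  · rw [← map_one φ, ← map_sub]; exact Ideal.mem_map_of_mem φ hα1
  · have := congrArg φ hα
    rw [IsRoot, ← hqp]
    rw [IsRoot.def] at hα
    have h2 : (X ^ n * (X - 1) + q.map φ : B[X]) = (X ^ n * (X - 1) + q : A[X]).map φ := by
      simp
    rw [h2, eval_map, eval₂_hom, hα, map_zero]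

/-- The image of a henselian pair under a surjective ring map is a henselian pair. -/
theorem henselian_map_of_surjective {B : Type*} [CommRing B] (I : Ideal A) [hA : HenselianRing A I]
    (φ : A →+* B) (hφ : Function.Surjective φ) : HenselianRing B (I.map φ) :=
  hens_of_gab _ (map_le_jacobson_bot φ hφ hA.jac) (gab_map_of_surjective I (gab_of_hens I) φ hφ)

/-- Idempotents of `A/I` lift to idempotents of `A` for a henselian pair. -/
theorem idem_lift (I : Ideal A) [h : HenselianRing A I] (a : A) (ha : a * a - a ∈ I) :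
    ∃ e : A, IsIdempotentElem e ∧ e - a ∈ I := by
  have hmon : (X ^ 2 - X : A[X]).Monic := by
    rcases subsingleton_or_nontrivial A with hs | hnt
    · exact Subsingleton.elim _ _
    · exact monic_X_pow_sub (by rw [degree_X]; norm_num)
  have h1 : (X ^ 2 - X : A[X]).eval a ∈ I := by
    have : (X ^ 2 - X : A[X]).eval a = a * a - a := by simp [sq]
    rw [this]; exact ha
  have h2 : IsUnit (Ideal.Quotient.mk I ((X ^ 2 - X : A[X]).derivative.eval a)) := by
    have hd : (X ^ 2 - X : A[X]).derivative.eval a = 2 * a - 1 := by simp; ring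
    rw [hd]
    refine IsUnit.of_mul_eq_one (Ideal.Quotient.mk I (2 * a - 1)) ?_
    rw [← map_mul, ← map_one (Ideal.Quotient.mk I), Ideal.Quotient.eq]
    have : (2 * a - 1) * (2 * a - 1) - 1 = 4 * (a * a - a) := by ring
    rw [this]; exact I.mul_mem_left _ ha
  obtain ⟨e, he, hea⟩ := h.is_henselian _ hmon a h1 h2
  refine ⟨e, ?_, hea⟩
  have : e ^ 2 - e = 0 := by simpa [IsRoot] using he
  change e * e = e
  rw [← sub_eq_zero, ← this]; ring

end Groth.Agent.Helper3.HensGabber
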