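import Mathlib

set_option autoImplicit false
set_option linter.style.haveILetI false
set_option linter.unusedSectionVars false
set_option linter.unusedVariables false
set_option linter.deprecated false
set_option linter.style.haveILetI false
set_option linter.unusedSectionVars false
set_option linter.unusedVariables false

universe u v w

/-!
# The Eakin–Nagata theorem (Formanek's proof)
-/

namespace Groth.Agent.Helper3.EakinNagata

variable {B : Type u} [CommRing B] {M : Type v} [AddCommGroup M] [Module B M]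

/-- The annihilator of `M ⧸ N`, as the set of `b` with `b • M ⊆ N`. -/
def ann (N : Submodule B M) : Ideal B := N.colon Set.univ

lemma mem_ann {N : Submodule B M} {b : B} : b ∈ ann N ↔ ∀ m : M, b • m ∈ N := by
  unfold ann
  rw [Submodule.mem_colon]
  exact ⟨fun h m => h m (Set.mem_univ m), fun h m _ => h m⟩

lemma ann_mono {N N' : Submodule B M} (h : N ≤ N') : ann N ≤ ann N' := by
  intro b hb
  rw [mem_ann] at hb ⊢
  exact fun m => h (hb m)

/-- If `M ⧸ N` is Noetherian and `M` is finitely generated, `B ⧸ ann N` is a Noetherian module. -/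
theorem noeth_quot_ann [Module.Finite B M] (N : Submodule B M) (h : IsNoetherian B (M ⧸ N)) :
    IsNoetherian B (B ⧸ ann N) := by
  classical
  obtain ⟨s, hs⟩ := (Module.finite_def.mp (inferInstance : Module.Finite B M))
  let φ : B →ₗ[B] (s → M ⧸ N) := LinearMap.pi fun m => LinearMap.toSpanSingleton B (M ⧸ N) (N.mkQ m.1)
  have hker : LinearMap.ker φ = ann N := by
    ext b
    rw [LinearMap.mem_ker, mem_ann]
    constructor
    · intro hb
      have h1 : ∀ m ∈ (s : Set M), b • m ∈ N := by
        intro m hm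
        have := congrFun hb ⟨m, hm⟩
        simp only [φ, LinearMap.pi_apply, LinearMap.toSpanSingleton_apply, Pi.zero_apply] at this
        rw [← map_smul, Submodule.mkQ_apply, Submodule.Quotient.mk_eq_zero] at this
        exact this
      intro m
      have hm : m ∈ Submodule.span B (s : Set M) := by rw [hs]; trivial
      induction hm using Submodule.span_induction with
      | mem x hx => exact h1 x hx
      | zero => rw [smul_zero]; exact N.zero_mem
      | add x y _ _ hx hy => rw [smul_add]; exact N.add_mem hx hy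
      | smul a x _ hx => rw [smul_comm]; exact N.smul_mem a hx
    · intro hb
      funext m
      simp only [φ, LinearMap.pi_apply, LinearMap.toSpanSingleton_apply, Pi.zero_apply]
      rw [← map_smul, Submodule.mkQ_apply, Submodule.Quotient.mk_eq_zero]
      exact hb m.1
  have e1 : (B ⧸ LinearMap.ker φ) ≃ₗ[B] LinearMap.range φ := φ.quotKerEquivRange
  have e2 : (B ⧸ ann N) ≃ₗ[B] (B ⧸ LinearMap.ker φ) := Submodule.quotEquivOfEq _ _ hker.symm
  exact isNoetherian_of_linearEquiv (e2.trans e1).symm

/-- If `B ⧸ 𝔞` is a Noetherian module and `𝔞` kills the finitely generated `M ⧸ N`, then `M ⧸ N` is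
Noetherian. -/
theorem noeth_quot_of_ann [Module.Finite B M] (N : Submodule B M) (𝔞 : Ideal B) (h𝔞 : 𝔞 ≤ ann N)
    (h : IsNoetherian B (B ⧸ 𝔞)) : IsNoetherian B (M ⧸ N) := by
  classical
  obtain ⟨s, hs⟩ := (Module.finite_def.mp (inferInstance : Module.Finite B M))
  let f : s → ((B ⧸ 𝔞) →ₗ[B] (M ⧸ N)) := fun m =>
    Submodule.liftQ 𝔞 (LinearMap.toSpanSingleton B (M ⧸ N) (N.mkQ m.1)) (by
      intro b hb
      rw [LinearMap.mem_ker, LinearMap.toSpanSingleton_apply, ← map_smul, Submodule.mkQ_apply,
        Submodule.Quotient.mk_eq_zero]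
      exact mem_ann.mp (h𝔞 hb) m.1)
  let ψ : (s → B ⧸ 𝔞) →ₗ[B] (M ⧸ N) := LinearMap.lsum B (fun _ : s => B ⧸ 𝔞) B f
  apply isNoetherian_of_surjective ψ
  rw [LinearMap.range_eq_top]
  intro y
  obtain ⟨m, rfl⟩ := N.mkQ_surjective y
  have hm : m ∈ Submodule.span B (s : Set M) := by rw [hs]; trivial
  induction hm using Submodule.span_induction with
  | mem x hx =>
    refine ⟨Pi.single ⟨x, hx⟩ (Submodule.Quotient.mk 1), ?_⟩
    simp only [ψ, LinearMap.lsum_apply, LinearMap.coe_sum, Finset.sum_apply, LinearMap.comp_apply,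
      LinearMap.proj_apply]
    rw [Finset.sum_eq_single ⟨x, hx⟩]
    · simp only [Pi.single_eq_same, f]
      rw [Submodule.liftQ_apply, LinearMap.toSpanSingleton_apply, one_smul]
    · intro b _ hb
      rw [Pi.single_eq_of_ne hb, map_zero]
    · intro h; exact absurd (Finset.mem_univ _) h
  | zero => exact ⟨0, by rw [map_zero, map_zero]⟩
  | add x y _ _ hx hy =>
    obtain ⟨a, ha⟩ := hx
    obtain ⟨b, hb⟩ := hy
    exact ⟨a + b, by rw [map_add, map_add, ha, hb]⟩
  | smul c x _ hx =>
    obtain ⟨a, ha⟩ := hx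
    exact ⟨c • a, by rw [map_smul, map_smul, ha]⟩

/-- Elements `b` with `b • m ∈ N` for all `m` in a generating set lie in `ann N`. -/
lemma mem_ann_of_span {s : Set M} (hs : Submodule.span B s = ⊤) {N : Submodule B M} {b : B}
    (h : ∀ m ∈ s, b • m ∈ N) : b ∈ ann N := by
  rw [mem_ann]
  intro m
  have hm : m ∈ Submodule.span B s := by rw [hs]; trivial
  induction hm using Submodule.span_induction with
  | mem x hx => exact h x hx
  | zero => rw [smul_zero]; exact N.zero_mem
  | add x y _ _ hx hy => rw [smul_add]; exact N.add_mem hx hy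
  | smul a x _ hx => rw [smul_comm]; exact N.smul_mem a hx

/-- **Formanek's theorem**: a finitely generated module satisfying the ascending chain condition
on the submodules `I • ⊤` is Noetherian. -/
theorem isNoetherian_of_acc [Module.Finite B M]
    (hacc : WellFoundedGT {N : Submodule B M // ∃ I : Ideal B, N = I • (⊤ : Submodule B M)}) :
    IsNoetherian B M := by
  classical
  by_contra hM
  have h0 : ¬ IsNoetherian B (M ⧸ (⊥ : Submodule B M)) := fun h =>
    hM (isNoetherian_of_linearEquiv (Submodule.quotEquivOfEqBot ⊥ rfl))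
  let S : Set {N : Submodule B M // ∃ I : Ideal B, N = I • (⊤ : Submodule B M)} :=
    {N | ¬ IsNoetherian B (M ⧸ N.1)}
  have hS : S.Nonempty := ⟨⟨⊥, ⊥, by rw [Submodule.bot_smul]⟩, h0⟩
  obtain ⟨⟨N₁, I₁, hI₁⟩, hN₁S, hN₁max⟩ := hacc.wf.has_min S hS
  have hN₁ : ¬ IsNoetherian B (M ⧸ N₁) := hN₁S
  have hmax : ∀ I : Ideal B, N₁ < I • (⊤ : Submodule B M) →
      IsNoetherian B (M ⧸ (I • (⊤ : Submodule B M))) := by
    intro I hI
    by_contra hcon
    exact hN₁max ⟨I • ⊤, I, rfl⟩ hcon hI
  obtain ⟨s, hs⟩ := (Module.finite_def.mp (inferInstance : Module.Finite B M))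
  -- Zorn
  let Γ : Set (Submodule B M) := {N | N₁ ≤ N ∧ ann N ≤ ann N₁}
  obtain ⟨N₂, hN₁₂, hN₂max⟩ := zorn_le_nonempty₀ Γ (by
    intro c hcΓ hc y hy
    refine ⟨sSup c, ⟨(hcΓ hy).1.trans (le_sSup hy), ?_⟩, fun z hz => le_sSup hz⟩
    intro b hb
    rw [mem_ann] at hb
    have key : ∀ t : Finset M, ∃ N ∈ c, ∀ m ∈ t, b • m ∈ N := by
      intro t
      induction t using Finset.induction_on with
      | empty => exact ⟨y, hy, fun m hm => absurd hm (Finset.notMem_empty m)⟩
      | insert a t _ ih =>
        obtain ⟨N, hNc, hN⟩ := ih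
        obtain ⟨N', hN'c, hN'⟩ :=
          (Submodule.mem_sSup_of_directed ⟨y, hy⟩ hc.directedOn).mp (hb a)
        rcases hc.total hNc hN'c with h | h
        · refine ⟨N', hN'c, fun m hm => ?_⟩
          rcases Finset.mem_insert.mp hm with rfl | hm
          · exact hN'
          · exact h (hN m hm)
        · refine ⟨N, hNc, fun m hm => ?_⟩
          rcases Finset.mem_insert.mp hm with rfl | hm
          · exact h hN'
          · exact hN m hm
    obtain ⟨N, hNc, hN⟩ := key s
    exact (hcΓ hNc).2 (mem_ann_of_span hs (fun m hm => hN m hm))) N₁ ⟨le_refl _, le_refl _⟩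
  -- `M ⧸ N₂` is Noetherian
  have hP₂ : IsNoetherian B (M ⧸ N₂) := by
    refine ⟨fun N' => ?_⟩
    by_cases hN' : N' = ⊥
    · rw [hN']; exact Submodule.fg_bot
    let N := N'.comap N₂.mkQ
    have hN₂N : N₂ ≤ N := by
      intro x hx
      change N₂.mkQ x ∈ N'
      rw [Submodule.mkQ_apply, (Submodule.Quotient.mk_eq_zero N₂).mpr hx]
      exact N'.zero_mem
    have hmapN : N.map N₂.mkQ = N' := Submodule.map_comap_eq_of_surjective N₂.mkQ_surjective N'
    have hNne : N ≠ N₂ := by
      intro h
      apply hN'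
      rw [← hmapN, h, Submodule.mkQ_map_self]
    have hNΓ : N ∉ Γ := fun h => hNne (le_antisymm (hN₂max.2 h hN₂N) hN₂N)
    have hnot : ¬ ann N ≤ ann N₁ := fun h => hNΓ ⟨hN₁₂.trans hN₂N, h⟩
    obtain ⟨b, hbN, hbN₁⟩ := Set.not_subset.mp hnot
    let I : Ideal B := I₁ ⊔ Ideal.span {b}
    let K : Submodule B M := I • (⊤ : Submodule B M)
    have hK : K = N₁ ⊔ Ideal.span {b} • (⊤ : Submodule B M) := by
      change (I₁ ⊔ Ideal.span {b}) • (⊤ : Submodule B M) = _
      rw [Submodule.sup_smul, ← hI₁]
    have hbK : Ideal.span {b} • (⊤ : Submodule B M) ≤ N := by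
      rw [Submodule.smul_le]
      intro r hr m _
      obtain ⟨c, rfl⟩ := Ideal.mem_span_singleton'.mp hr
      rw [mul_smul]
      exact N.smul_mem c (mem_ann.mp hbN m)
    have hKN : K ≤ N := by
      rw [hK]; exact sup_le (hN₁₂.trans hN₂N) hbK
    have hN₁K : N₁ < K := by
      rw [hK]
      refine lt_of_le_of_ne le_sup_left ?_
      intro h
      apply hbN₁
      change b ∈ ann N₁
      rw [mem_ann]
      intro m
      rw [h]
      exact Submodule.mem_sup_right
        (Submodule.smul_mem_smul (Ideal.mem_span_singleton_self b) trivial)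
    have hPK : IsNoetherian B (M ⧸ K) := hmax I hN₁K
    let K' : Submodule B (M ⧸ N₂) := K.map N₂.mkQ
    have hK'fg : K'.FG := by
      have h1 : K' = (Ideal.span {b} • (⊤ : Submodule B M)).map N₂.mkQ := by
        change K.map N₂.mkQ = _
        rw [hK, Submodule.map_sup]
        have : N₁.map N₂.mkQ = ⊥ := by
          rw [eq_bot_iff, Submodule.map_le_iff_le_comap, Submodule.comap_bot, Submodule.ker_mkQ]
          exact hN₁₂
        rw [this, bot_sup_eq]
      rw [h1]
      apply Submodule.FG.map
      exact Submodule.FG.smul ⟨{b}, by simp⟩ (Module.finite_def.mp inferInstance)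
    have hK'N' : K' ≤ N' := by
      rw [← hmapN]; exact Submodule.map_mono hKN
    have hPK' : IsNoetherian B ((M ⧸ N₂) ⧸ K') := by
      have hle : K ≤ LinearMap.ker (K'.mkQ ∘ₗ N₂.mkQ) := by
        intro x hx
        rw [LinearMap.mem_ker, LinearMap.comp_apply, Submodule.mkQ_apply (p := K'),
          Submodule.Quotient.mk_eq_zero]
        exact Submodule.mem_map_of_mem hx
      apply isNoetherian_of_surjective (Submodule.liftQ K (K'.mkQ ∘ₗ N₂.mkQ) hle)
      rw [Submodule.range_liftQ, LinearMap.range_eq_top]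
      exact K'.mkQ_surjective.comp N₂.mkQ_surjective
    apply Submodule.fg_of_fg_map_of_fg_inf_ker K'.mkQ
    · exact IsNoetherian.noetherian _
    · rw [Submodule.ker_mkQ, inf_eq_right.mpr hK'N']
      exact hK'fg
  have h1 := noeth_quot_ann N₂ hP₂
  exact hN₁ (noeth_quot_of_ann N₁ (ann N₂) hN₂max.1.2 h1)

/-- **Eakin–Nagata**: if `A` is a Noetherian ring, finite as a module over a subring `B`, then `B`
is Noetherian. -/
theorem isNoetherianRing_of_finite_injective (B : Type u) (A : Type v) [CommRing B] [CommRing A]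
    [Algebra B A] [Module.Finite B A] [IsNoetherianRing A]
    (hinj : Function.Injective (algebraMap B A)) : IsNoetherianRing B := by
  have hacc : WellFoundedGT
      {N : Submodule B A // ∃ I : Ideal B, N = I • (⊤ : Submodule B A)} := by
    let g : {N : Submodule B A // ∃ I : Ideal B, N = I • (⊤ : Submodule B A)} → Ideal A :=
      fun N => (Classical.choose N.2).map (algebraMap B A)
    have hg : ∀ N, N.1 = (g N).restrictScalars B := by
      intro N
      have := Classical.choose_spec N.2
      rw [Ideal.smul_top_eq_map] at this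
      exact this
    have hmono : StrictMono g := by
      intro N N' hlt
      have h1 : N.1 < N'.1 := hlt
      rw [hg N, hg N'] at h1
      exact (Submodule.restrictScalars_lt B).mp h1
    exact hmono.wellFoundedGT
  haveI : IsNoetherian B A := isNoetherian_of_acc hacc
  exact isNoetherian_of_injective (Algebra.linearMap B A) hinj

end Groth.Agent.Helper3.EakinNagata
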