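import Mathlib
import Groth.Prelude.Def_W4stkcategoriessitesFib

set_option autoImplicit false
set_option linter.style.haveILetI false
universe v₃ u₃ v₂ u₂ v u

namespace Groth.Agent.Helper3.FibGrpd
open CategoryTheory Functor

variable {C : Type u} [Category.{v} C]

section plain
variable {𝒳 : Type u₂} [Category.{v₂} 𝒳] {p : 𝒳 ⥤ C}

/-- In a category fibred in groupoids, every morphism is strongly cartesian over whatever it lifts. -/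
theorem isStronglyCartesian (h : FibCat.IsFibGrpd p) {R T : C} (f : R ⟶ T) {a b : 𝒳} (φ : a ⟶ b)
    [hφ : p.IsHomLift f φ] : p.IsStronglyCartesian f φ := by
  cases hφ
  exact h.isStronglyCartesian φ

theorem isIso_of_lift_id (h : FibCat.IsFibGrpd p) {U : C} {a b : 𝒳} (φ : a ⟶ b)
    [p.IsHomLift (𝟙 U) φ] : IsIso φ := by
  haveI := isStronglyCartesian h (𝟙 U) φ
  exact IsStronglyCartesian.isIso_of_base_isIso p (𝟙 U) φ

theorem isIso_of_lift_iso (h : FibCat.IsFibGrpd p) {R T : C} (f : R ⟶ T) [IsIso f] {a b : 𝒳}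
    (φ : a ⟶ b) [p.IsHomLift f φ] : IsIso φ := by
  haveI := isStronglyCartesian h f φ
  exact IsStronglyCartesian.isIso_of_base_isIso p f φ

theorem isFibered (h : FibCat.IsFibGrpd p) : p.IsFibered := by
  apply Functor.IsFibered.of_exists_isStronglyCartesian
  intro a R f
  obtain ⟨y, φ, hφ⟩ := h.exists_lift f
  exact ⟨y, φ, isStronglyCartesian h f φ⟩

theorem isGroupoid_fiber (h : FibCat.IsFibGrpd p) (U : C) : IsGroupoid (p.Fiber U) := by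
  refine ⟨fun {X Y} f => ?_⟩
  haveI := f.2
  haveI : IsIso f.1 := isIso_of_lift_id h (U := U) f.1
  refine ⟨⟨⟨inv f.1, inferInstance⟩, ?_, ?_⟩⟩
  · apply Functor.Fiber.hom_ext
    exact IsIso.hom_inv_id f.1
  · apply Functor.Fiber.hom_ext
    exact IsIso.inv_hom_id f.1

theorem of_isFibered_of_isGroupoid [hfib : p.IsFibered] (hgrp : ∀ U : C, IsGroupoid (p.Fiber U)) :
    FibCat.IsFibGrpd p := by
  refine ⟨?_, ?_⟩
  · intro x V f
    obtain ⟨y, φ, hφ⟩ := IsPreFibered.exists_isCartesian p rfl f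
    exact ⟨y, φ, inferInstance⟩
  · intro y x φ
    obtain ⟨y', ψ, hψ⟩ := IsPreFibered.exists_isCartesian p rfl (p.map φ)
    let χ := Functor.IsCartesian.map p (p.map φ) ψ φ
    have hfac : χ ≫ ψ = φ := Functor.IsCartesian.fac p (p.map φ) ψ φ
    have hy' : p.obj y' = p.obj y := IsHomLift.domain_eq p (p.map φ) ψ
    let χ' : (Functor.Fiber.mk (p := p) (rfl : p.obj y = p.obj y)) ⟶ Functor.Fiber.mk hy' :=
      ⟨χ, Functor.IsCartesian.map_isHomLift p (p.map φ) ψ φ⟩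
    haveI := (hgrp (p.obj y)).all_isIso χ'
    haveI : IsIso χ := by
      have := Functor.map_isIso (Functor.Fiber.fiberInclusion (p := p) (S := p.obj y)) χ'
      exact this
    haveI : p.IsStronglyCartesian (𝟙 (p.obj y)) χ := Functor.IsStronglyCartesian.of_isIso p _ χ
    haveI : p.IsStronglyCartesian (p.map φ) ψ := inferInstance
    have := Functor.IsStronglyCartesian.comp p (f := 𝟙 (p.obj y)) (g := p.map φ) (φ := χ) (ψ := ψ)
    rw [hfac, Category.id_comp] at this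
    exact this

/-- The base over itself is fibred in groupoids. -/
theorem isFibGrpd_id : FibCat.IsFibGrpd (𝟭 C) := by
  refine ⟨fun {x V} f => ⟨V, f, Functor.IsHomLift.map (p := 𝟭 C) f⟩, ?_⟩
  intro y x φ
  refine { toIsHomLift := inferInstance, universal_property' := ?_ }
  intro a' g φ' hφ'
  have h1 : φ' = g ≫ φ := by
    have := IsHomLift.fac (𝟭 C) (g ≫ (𝟭 C).map φ) φ'
    simpa using this.symm
  refine ⟨g, ⟨Functor.IsHomLift.map (p := 𝟭 C) g, h1.symm⟩, ?_⟩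
  rintro χ ⟨hχ, -⟩
  have := IsHomLift.fac (𝟭 C) g χ
  simpa using this.symm

/-- In a category fibred in setoids, two morphisms over the same base morphism are equal. -/
theorem hom_ext_of_isFibSetoid (h : FibCat.IsFibSetoid p) {R T : C} (f : R ⟶ T) {a b : 𝒳}
    (φ ψ : a ⟶ b) [p.IsHomLift f φ] [p.IsHomLift f ψ] : φ = ψ := by
  obtain ⟨hg, hthin⟩ := h
  haveI := isStronglyCartesian hg f ψ
  let χ := IsStronglyCartesian.map p f ψ (Category.id_comp f).symm φ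
  have hχ : χ ≫ ψ = φ := IsStronglyCartesian.fac p f ψ _ _
  have hχl : p.IsHomLift (𝟙 R) χ := IsStronglyCartesian.map_isHomLift p f ψ _ _
  have ha : p.obj a = R := IsHomLift.domain_eq p f φ
  let a' : p.Fiber R := ⟨a, ha⟩
  let χ' : a' ⟶ a' := ⟨χ, hχl⟩
  have : χ' = 𝟙 a' := (hthin R a' a').elim _ _
  have hχ1 : χ = 𝟙 a := congrArg Subtype.val this
  rw [← hχ, hχ1, Category.id_comp]

/-- Lift of a morphism with prescribed source in the base, as an `IsHomLift`. -/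
theorem exists_lift' (h : FibCat.IsFibGrpd p) {x : 𝒳} {V W : C} (hx : p.obj x = W) (f : V ⟶ W) :
    ∃ (y : 𝒳) (φ : y ⟶ x), p.IsHomLift f φ := by
  subst hx
  exact h.exists_lift f

end plain

section based
variable {𝒳 : BasedCategory.{v₂, u₂} C} {𝒴 : BasedCategory.{v₃, u₃} C} (G : 𝒳 ⥤ᵇ 𝒴)

/-- The image of `ψ : G a ⟶ G b` in the base, transported to `p a ⟶ p b`. -/
def baseOf {a b : 𝒳.obj} (ψ : G.obj a ⟶ G.obj b) : 𝒳.p.obj a ⟶ 𝒳.p.obj b :=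
  eqToHom (G.w_obj a).symm ≫ 𝒴.p.map ψ ≫ eqToHom (G.w_obj b)

instance {a b : 𝒳.obj} (ψ : G.obj a ⟶ G.obj b) : 𝒴.p.IsHomLift (baseOf G ψ) ψ := by
  unfold baseOf
  infer_instance

theorem baseOf_map {a b : 𝒳.obj} (φ : a ⟶ b) : baseOf G (G.map φ) = 𝒳.p.map φ := by
  have h1 : 𝒴.p.IsHomLift (𝒳.p.map φ) (G.map φ) := inferInstance
  have h2 : 𝒴.p.IsHomLift (baseOf G (G.map φ)) (G.map φ) := inferInstance
  rw [IsHomLift.fac 𝒴.p (𝒳.p.map φ) (G.map φ), IsHomLift.fac 𝒴.p (baseOf G (G.map φ)) (G.map φ)]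

theorem faithful_of_fiber (h𝒳 : FibCat.IsFibGrpd 𝒳.p) (h𝒴 : FibCat.IsFibGrpd 𝒴.p)
    (H : ∀ U : C, (FibCat.fiberFunctor G U).Faithful) : G.toFunctor.Faithful := by
  refine ⟨fun {a b} φ ψ hφψ => ?_⟩
  have hφψ' : G.map φ = G.map ψ := hφψ
  have hbase : 𝒳.p.map φ = 𝒳.p.map ψ := by
    rw [← baseOf_map G φ, ← baseOf_map G ψ, hφψ']
  haveI : 𝒳.p.IsHomLift (𝒳.p.map ψ) φ := by rw [← hbase]; infer_instance
  haveI := isStronglyCartesian h𝒳 (𝒳.p.map ψ) ψ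
  -- factor φ through ψ
  let χ := IsStronglyCartesian.map 𝒳.p (𝒳.p.map ψ) ψ (Category.id_comp _).symm φ
  have hχ : χ ≫ ψ = φ := IsStronglyCartesian.fac 𝒳.p (𝒳.p.map ψ) ψ (Category.id_comp _).symm φ
  haveI hχl : 𝒳.p.IsHomLift (𝟙 (𝒳.p.obj a)) χ :=
    IsStronglyCartesian.map_isHomLift 𝒳.p (𝒳.p.map ψ) ψ (Category.id_comp _).symm φ
  haveI := isStronglyCartesian h𝒴 (𝒳.p.map ψ) (G.map ψ)
  have hGχ : G.map χ = 𝟙 (G.obj a) := by
    apply IsStronglyCartesian.ext 𝒴.p (𝒳.p.map ψ) (G.map ψ) (𝟙 (𝒳.p.obj a))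
    rw [← G.map_comp, hχ, Category.id_comp, hφψ']
  let a' : 𝒳.p.Fiber (𝒳.p.obj a) := ⟨a, rfl⟩
  let χ' : a' ⟶ a' := ⟨χ, hχl⟩
  have : χ' = 𝟙 a' := by
    apply (H (𝒳.p.obj a)).map_injective
    apply Functor.Fiber.hom_ext
    change G.map χ = G.map (𝟙 a)
    rw [hGχ, G.map_id]
  have hχ1 : χ = 𝟙 a := congrArg Subtype.val this
  rw [← hχ, hχ1, Category.id_comp]

theorem faithful_fiber (H : G.toFunctor.Faithful) (U : C) : (FibCat.fiberFunctor G U).Faithful := by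
  refine ⟨fun {a b} φ ψ hφψ => ?_⟩
  apply Functor.Fiber.hom_ext
  apply H.map_injective
  exact congrArg Subtype.val hφψ

theorem full_fiber (H : G.toFunctor.Full) (U : C) : (FibCat.fiberFunctor G U).Full := by
  refine ⟨fun {a b} ψ => ?_⟩
  obtain ⟨φ, hφ⟩ := H.map_surjective (X := a.1) (Y := b.1) ψ.1
  haveI : 𝒴.p.IsHomLift (𝟙 U) (G.map φ) := by
    have : G.map φ = ψ.1 := hφ
    rw [this]; exact ψ.2
  haveI : 𝒳.p.IsHomLift (𝟙 U) φ := G.isHomLift_map (𝟙 U) φ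
  refine ⟨⟨φ, inferInstance⟩, ?_⟩
  apply Functor.Fiber.hom_ext
  exact hφ

theorem full_of_fiber (h𝒳 : FibCat.IsFibGrpd 𝒳.p) (h𝒴 : FibCat.IsFibGrpd 𝒴.p)
    (H : ∀ U : C, (FibCat.fiberFunctor G U).Full) : G.toFunctor.Full := by
  refine ⟨fun {a b} ψ => ?_⟩
  obtain ⟨a₁, φ, hφ⟩ := h𝒳.exists_lift (x := b) (baseOf G ψ)
  haveI := isStronglyCartesian h𝒴 (baseOf G ψ) (G.map φ)
  let χ := IsStronglyCartesian.map 𝒴.p (baseOf G ψ) (G.map φ) (Category.id_comp _).symm ψ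
  have hχ : χ ≫ G.map φ = ψ :=
    IsStronglyCartesian.fac 𝒴.p (baseOf G ψ) (G.map φ) (Category.id_comp _).symm ψ
  have hχl : 𝒴.p.IsHomLift (𝟙 (𝒳.p.obj a)) χ :=
    IsStronglyCartesian.map_isHomLift 𝒴.p (baseOf G ψ) (G.map φ) (Category.id_comp _).symm ψ
  have ha₁ : 𝒳.p.obj a₁ = 𝒳.p.obj a := IsHomLift.domain_eq 𝒳.p (baseOf G ψ) φ
  let x : 𝒳.p.Fiber (𝒳.p.obj a) := ⟨a, rfl⟩
  let x₁ : 𝒳.p.Fiber (𝒳.p.obj a) := ⟨a₁, ha₁⟩
  let χ' : (FibCat.fiberFunctor G _).obj x ⟶ (FibCat.fiberFunctor G _).obj x₁ := ⟨χ, hχl⟩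
  obtain ⟨χ₀, hχ₀⟩ := (H (𝒳.p.obj a)).map_surjective χ'
  have hχ₀' : G.map χ₀.1 = χ := congrArg Subtype.val hχ₀
  refine ⟨χ₀.1 ≫ φ, ?_⟩
  change G.map (χ₀.1 ≫ φ) = ψ
  rw [G.map_comp, hχ₀', hχ]

theorem essSurj_of_fiber (H : ∀ U : C, (FibCat.fiberFunctor G U).EssSurj) :
    G.toFunctor.EssSurj := by
  refine ⟨fun y => ?_⟩
  let y' : 𝒴.p.Fiber (𝒴.p.obj y) := ⟨y, rfl⟩
  obtain ⟨x, ⟨e⟩⟩ := (H (𝒴.p.obj y)).mem_essImage y'
  exact ⟨x.1, ⟨(Functor.Fiber.fiberInclusion).mapIso e⟩⟩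

theorem essSurj_fiber (h𝒳 : FibCat.IsFibGrpd 𝒳.p) (h𝒴 : FibCat.IsFibGrpd 𝒴.p)
    (H : G.toFunctor.EssSurj) (U : C) : (FibCat.fiberFunctor G U).EssSurj := by
  refine ⟨fun y => ?_⟩
  obtain ⟨x, ⟨θ⟩⟩ := H.mem_essImage y.1
  -- θ : G x ≅ y, lying over g : p x ⟶ U
  have hx : 𝒴.p.obj (G.obj x) = 𝒳.p.obj x := G.w_obj x
  let g : 𝒳.p.obj x ⟶ U := eqToHom hx.symm ≫ 𝒴.p.map θ.hom ≫ eqToHom y.2
  haveI hθ : 𝒴.p.IsHomLift g θ.hom := by unfold g; infer_instance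
  haveI : IsIso g := IsHomLift.isIso_of_lift_isIso 𝒴.p g θ.hom
  obtain ⟨x', φ, hφ⟩ := h𝒳.exists_lift (x := x) (inv g)
  haveI : IsIso φ := isIso_of_lift_iso h𝒳 (inv g) φ
  have hx' : 𝒳.p.obj x' = U := IsHomLift.domain_eq 𝒳.p (inv g) φ
  have hh : 𝒴.p.IsHomLift (𝟙 U) (G.map φ ≫ θ.hom) := by
    have : 𝒴.p.IsHomLift (inv g ≫ g) (G.map φ ≫ θ.hom) := inferInstance
    rwa [IsIso.inv_hom_id] at this
  let ψ : (FibCat.fiberFunctor G U).obj ⟨x', hx'⟩ ⟶ y := ⟨G.map φ ≫ θ.hom, hh⟩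
  haveI := (isGroupoid_fiber h𝒴 U).all_isIso ψ
  exact ⟨⟨x', hx'⟩, ⟨asIso ψ⟩⟩

end based

end Groth.Agent.Helper3.FibGrpd
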