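import Mathlib
import Groth.Agent.Helper3.FibGrpd

set_option autoImplicit false
set_option linter.style.haveILetI false
universe v₃ u₃ v₂ u₂ v u

namespace Groth.Agent.Helper3.EquivOver
open CategoryTheory Functor

variable {C : Type u} [Category.{v} C]
variable {𝒳 : BasedCategory.{v₂, u₂} C} {𝒴 : BasedCategory.{v₃, u₃} C}

theorem symm {F : 𝒳 ⥤ᵇ 𝒴} (hF : FibCat.IsEquivOver F) :
    ∃ G : 𝒴 ⥤ᵇ 𝒳, FibCat.IsEquivOver G ∧
      Nonempty (BasedFunctor.comp F G ≅ BasedFunctor.id 𝒳) ∧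
      Nonempty (BasedFunctor.comp G F ≅ BasedFunctor.id 𝒴) := by
  obtain ⟨G, h1, h2⟩ := hF
  exact ⟨G, ⟨F, h2, h1⟩, h1, h2⟩

theorem isEquivalence {F : 𝒳 ⥤ᵇ 𝒴} (hF : FibCat.IsEquivOver F) : F.toFunctor.IsEquivalence := by
  obtain ⟨G, ⟨η⟩, ⟨ε⟩⟩ := hF
  let η' : F.toFunctor ⋙ G.toFunctor ≅ 𝟭 𝒳.obj := (BasedNatTrans.forgetful _ _).mapIso η
  let ε' : G.toFunctor ⋙ F.toFunctor ≅ 𝟭 𝒴.obj := (BasedNatTrans.forgetful _ _).mapIso ε
  exact (CategoryTheory.Equivalence.mk F.toFunctor G.toFunctor η'.symm ε').isEquivalence_functor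

theorem exists_iso {F : 𝒳 ⥤ᵇ 𝒴} (hF : FibCat.IsEquivOver F) (y : 𝒴.obj) :
    ∃ (x : 𝒳.obj) (e : F.obj x ≅ y), 𝒴.p.IsHomLift (𝟙 (𝒴.p.obj y)) e.hom := by
  obtain ⟨G, ⟨η⟩, ⟨ε⟩⟩ := hF
  let ε' : G.toFunctor ⋙ F.toFunctor ≅ 𝟭 𝒴.obj := (BasedNatTrans.forgetful _ _).mapIso ε
  refine ⟨G.obj y, ε'.app y, ?_⟩
  exact ε.hom.isHomLift' y


section construct
variable (F : 𝒳 ⥤ᵇ 𝒴) [F.toFunctor.Full] [F.toFunctor.Faithful]
  (H : ∀ y : 𝒴.obj, ∃ (x : 𝒳.obj) (e : F.obj x ≅ y), 𝒴.p.IsHomLift (𝟙 (𝒴.p.obj y)) e.hom)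

/-- the inverse functor -/
noncomputable def invFunctor : 𝒴.obj ⥤ 𝒳.obj where
  obj y := (H y).choose
  map {y y'} g := F.toFunctor.preimage ((H y).choose_spec.choose.hom ≫ g ≫
    (H y').choose_spec.choose.inv)
  map_id y := F.toFunctor.map_injective (by simp)
  map_comp g g' := F.toFunctor.map_injective (by simp)

/-- chosen iso -/
noncomputable def invIso (y : 𝒴.obj) : F.obj ((invFunctor F H).obj y) ≅ y :=
  (H y).choose_spec.choose

instance invIso_lift (y : 𝒴.obj) : 𝒴.p.IsHomLift (𝟙 (𝒴.p.obj y)) (invIso F H y).hom :=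
  (H y).choose_spec.choose_spec

theorem map_invFunctor_map {y y' : 𝒴.obj} (g : y ⟶ y') :
    F.map ((invFunctor F H).map g) = (invIso F H y).hom ≫ g ≫ (invIso F H y').inv :=
  F.toFunctor.map_preimage _

theorem invFunctor_map_lift {y y' : 𝒴.obj} (g : y ⟶ y') :
    𝒳.p.IsHomLift (𝒴.p.map g) ((invFunctor F H).map g) := by
  haveI : 𝒴.p.IsHomLift (𝒴.p.map g) (F.map ((invFunctor F H).map g)) := by
    rw [map_invFunctor_map]
    infer_instance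
  exact F.isHomLift_map _ _

/-- the inverse based functor -/
noncomputable def invBased : 𝒴 ⥤ᵇ 𝒳 where
  toFunctor := invFunctor F H
  w := by
    refine CategoryTheory.Functor.ext (fun y => ?_) (fun y y' g => ?_)
    · exact (F.w_obj _).symm.trans (IsHomLift.domain_eq 𝒴.p (𝟙 (𝒴.p.obj y)) (invIso F H y).hom)
    · haveI := invFunctor_map_lift F H g
      exact IsHomLift.fac' 𝒳.p (𝒴.p.map g) ((invFunctor F H).map g)

/-- counit -/
noncomputable def invCounit : BasedFunctor.comp (invBased F H) F ≅ BasedFunctor.id 𝒴 :=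
  BasedNatIso.mkNatIso
    (NatIso.ofComponents (fun y => invIso F H y) (fun {y y'} g => by
      change F.map ((invFunctor F H).map g) ≫ (invIso F H y').hom = (invIso F H y).hom ≫ g
      rw [map_invFunctor_map]
      simp))
    (fun y => invIso_lift F H y)

theorem lift_transport {y : 𝒴.obj} {S : C} (hS : 𝒴.p.obj y = S) {x : 𝒴.obj} (e : x ⟶ y)
    [h : 𝒴.p.IsHomLift (𝟙 (𝒴.p.obj y)) e] : 𝒴.p.IsHomLift (𝟙 S) e := by
  subst hS; exact h

/-- unit -/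
noncomputable def invUnit : BasedFunctor.comp F (invBased F H) ≅ BasedFunctor.id 𝒳 :=
  BasedNatIso.mkNatIso
    (NatIso.ofComponents (fun x => F.toFunctor.preimageIso (invIso F H (F.obj x)))
      (fun {x x'} φ => by
        apply F.toFunctor.map_injective
        change F.map ((invFunctor F H).map (F.map φ) ≫ F.toFunctor.preimage _) =
          F.map (F.toFunctor.preimage _ ≫ φ)
        rw [F.map_comp, F.map_comp, map_invFunctor_map]
        simp))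
    (fun x => by
      haveI : 𝒴.p.IsHomLift (𝟙 (𝒳.p.obj x))
          (F.map (F.toFunctor.preimage (invIso F H (F.obj x)).hom)) := by
        rw [F.toFunctor.map_preimage]
        exact lift_transport (F.w_obj x) _
      exact F.isHomLift_map (𝟙 (𝒳.p.obj x)) (F.toFunctor.preimage (invIso F H (F.obj x)).hom))

theorem isEquivOver_of (F : 𝒳 ⥤ᵇ 𝒴) [F.toFunctor.Full] [F.toFunctor.Faithful]
    (H : ∀ y : 𝒴.obj, ∃ (x : 𝒳.obj) (e : F.obj x ≅ y), 𝒴.p.IsHomLift (𝟙 (𝒴.p.obj y)) e.hom) :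
    FibCat.IsEquivOver F :=
  ⟨invBased F H, ⟨invUnit F H⟩, ⟨invCounit F H⟩⟩

end construct


/-- An equivalence of underlying categories out of a fibred category is an equivalence over `C`. -/
theorem isEquivOver_of_isEquivalence (F : 𝒳 ⥤ᵇ 𝒴) [𝒳.p.IsFibered] [hF : F.toFunctor.IsEquivalence] :
    FibCat.IsEquivOver F := by
  haveI := hF.full
  haveI := hF.faithful
  apply isEquivOver_of F
  intro y
  obtain ⟨x, ⟨θ⟩⟩ := hF.essSurj.mem_essImage y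
  have hx : 𝒴.p.obj (F.obj x) = 𝒳.p.obj x := F.w_obj x
  let g : 𝒳.p.obj x ⟶ 𝒴.p.obj y := eqToHom hx.symm ≫ 𝒴.p.map θ.hom
  haveI hθ : 𝒴.p.IsHomLift g θ.hom := by unfold g; infer_instance
  haveI : IsIso g := IsHomLift.isIso_of_lift_isIso 𝒴.p g θ.hom
  obtain ⟨x', φ, hφ⟩ := IsPreFibered.exists_isCartesian 𝒳.p (a := x) rfl (inv g)
  haveI : 𝒳.p.IsStronglyCartesian (inv g) φ := inferInstance
  haveI : IsIso φ := IsStronglyCartesian.isIso_of_base_isIso 𝒳.p (inv g) φ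
  have hh : 𝒴.p.IsHomLift (𝟙 (𝒴.p.obj y)) (F.map φ ≫ θ.hom) := by
    have : 𝒴.p.IsHomLift (inv g ≫ g) (F.map φ ≫ θ.hom) := inferInstance
    rwa [IsIso.inv_hom_id] at this
  exact ⟨x', asIso (F.map φ) ≪≫ θ, hh⟩

/-- Equivalences over `C` preserve strongly cartesian morphisms. -/
theorem map_isStronglyCartesian {F : 𝒳 ⥤ᵇ 𝒴} (hF : FibCat.IsEquivOver F)
    {R S : C} (f : R ⟶ S) {a b : 𝒳.obj} (φ : a ⟶ b) [𝒳.p.IsStronglyCartesian f φ] :
    𝒴.p.IsStronglyCartesian f (F.map φ) := by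
  have hE := isEquivalence hF
  haveI := hE.full
  haveI := hE.faithful
  refine { toIsHomLift := inferInstance, universal_property' := ?_ }
  intro y' g ψ hψ
  obtain ⟨x', e, he⟩ := exists_iso hF y'
  have hR' : 𝒴.p.obj y' = _ := IsHomLift.domain_eq 𝒴.p (g ≫ f) ψ
  haveI he' := lift_transport hR' e.hom
  -- ψ' = e ≫ ψ : F x' ⟶ F b
  obtain ⟨ψ₀, hψ₀⟩ := F.toFunctor.map_surjective (e.hom ≫ ψ)
  have hψ₀' : F.map ψ₀ = e.hom ≫ ψ := hψ₀
  haveI : 𝒴.p.IsHomLift (g ≫ f) (F.map ψ₀) := by rw [hψ₀']; infer_instance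
  haveI : 𝒳.p.IsHomLift (g ≫ f) ψ₀ := F.isHomLift_map _ _
  obtain ⟨χ₀, ⟨hχ₀l, hχ₀⟩, huniq⟩ :=
    IsStronglyCartesian.universal_property 𝒳.p f φ g (g ≫ f) rfl ψ₀
  refine ⟨e.inv ≫ F.map χ₀, ⟨inferInstance, ?_⟩, ?_⟩
  · rw [Category.assoc, ← F.map_comp, hχ₀, hψ₀', Iso.inv_hom_id_assoc]
  · rintro χ' ⟨hχ'l, hχ'⟩
    obtain ⟨χ₁, hχ₁⟩ := F.toFunctor.map_surjective (e.hom ≫ χ')
    have hχ₁' : F.map χ₁ = e.hom ≫ χ' := hχ₁
    haveI : 𝒴.p.IsHomLift g (F.map χ₁) := by rw [hχ₁']; infer_instance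
    haveI : 𝒳.p.IsHomLift g χ₁ := F.isHomLift_map _ _
    have h1 : χ₁ = χ₀ := by
      apply huniq χ₁ ⟨inferInstance, ?_⟩
      apply F.toFunctor.map_injective
      change F.map (χ₁ ≫ φ) = F.map ψ₀
      rw [F.map_comp, hχ₁', Category.assoc, hχ', hψ₀']
    rw [← h1, hχ₁', Iso.inv_hom_id_assoc]

/-- Equivalences over `C` reflect strongly cartesian morphisms. -/
theorem isStronglyCartesian_of_map {F : 𝒳 ⥤ᵇ 𝒴} (hF : FibCat.IsEquivOver F)
    {R S : C} (f : R ⟶ S) {a b : 𝒳.obj} (φ : a ⟶ b) [𝒴.p.IsStronglyCartesian f (F.map φ)] :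
    𝒳.p.IsStronglyCartesian f φ := by
  have hE := isEquivalence hF
  haveI := hE.full
  haveI := hE.faithful
  haveI : 𝒳.p.IsHomLift f φ := F.isHomLift_map _ _
  refine { toIsHomLift := inferInstance, universal_property' := ?_ }
  intro a' g ψ hψ
  obtain ⟨χ, ⟨hχl, hχ⟩, huniq⟩ :=
    IsStronglyCartesian.universal_property 𝒴.p f (F.map φ) g (g ≫ f) rfl (F.map ψ)
  obtain ⟨χ₀, hχ₀⟩ := F.toFunctor.map_surjective χ
  have hχ₀' : F.map χ₀ = χ := hχ₀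
  haveI : 𝒴.p.IsHomLift g (F.map χ₀) := by rw [hχ₀']; exact hχl
  haveI : 𝒳.p.IsHomLift g χ₀ := F.isHomLift_map _ _
  refine ⟨χ₀, ⟨inferInstance, ?_⟩, ?_⟩
  · apply F.toFunctor.map_injective
    change F.map (χ₀ ≫ φ) = F.map ψ
    rw [F.map_comp, hχ₀', hχ]
  · rintro χ' ⟨hχ'l, hχ'⟩
    apply F.toFunctor.map_injective
    change F.map χ' = F.map χ₀
    rw [hχ₀']
    apply huniq (F.map χ') ⟨inferInstance, ?_⟩
    rw [← F.map_comp, hχ']

theorem isFibered_of_isEquivOver {F : 𝒳 ⥤ᵇ 𝒴} (hF : FibCat.IsEquivOver F) [𝒳.p.IsFibered] :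
    𝒴.p.IsFibered := by
  apply Functor.IsFibered.of_exists_isStronglyCartesian
  intro y R f
  obtain ⟨x, e, he⟩ := exists_iso hF y
  have hx : 𝒳.p.obj x = 𝒴.p.obj y :=
    (F.w_obj x).symm.trans (IsHomLift.domain_eq 𝒴.p (𝟙 (𝒴.p.obj y)) e.hom)
  obtain ⟨x', φ, hφ⟩ := IsPreFibered.exists_isCartesian 𝒳.p (a := x) hx f
  haveI : 𝒳.p.IsStronglyCartesian f φ := inferInstance
  haveI := map_isStronglyCartesian hF f φ
  haveI : 𝒴.p.IsStronglyCartesian (𝟙 (𝒴.p.obj y)) e.hom := IsStronglyCartesian.of_iso 𝒴.p _ e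
  have := IsStronglyCartesian.comp 𝒴.p (f := f) (g := 𝟙 (𝒴.p.obj y)) (φ := F.map φ) (ψ := e.hom)
  rw [Category.comp_id] at this
  exact ⟨_, _, this⟩

theorem isFibered_iff {F : 𝒳 ⥤ᵇ 𝒴} (hF : FibCat.IsEquivOver F) :
    𝒳.p.IsFibered ↔ 𝒴.p.IsFibered := by
  obtain ⟨G, hG, -, -⟩ := symm hF
  exact ⟨fun _ => isFibered_of_isEquivOver hF, fun _ => isFibered_of_isEquivOver hG⟩

end Groth.Agent.Helper3.EquivOver
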