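import Mathlib
import Groth.Agent.Helper3.EquivOver

set_option autoImplicit false
set_option linter.style.haveILetI false
universe v₄ u₄ v₃ u₃ v₂ u₂ v u

namespace Groth.Agent.Helper3.Fp
open CategoryTheory Functor FibCat Limits

variable {C : Type u} [Category.{v} C]
variable {𝒳 : BasedCategory.{v₂, u₂} C} {𝒴 : BasedCategory.{v₃, u₃} C} {𝒮 : BasedCategory.{v₄, u₄} C}
variable (F : 𝒳 ⥤ᵇ 𝒮) (G : 𝒴 ⥤ᵇ 𝒮)

theorem isHomLift_of_fst {R S : C} (f : R ⟶ S) {a b : (fp F G).obj} (Φ : a ⟶ b)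
    (h : 𝒳.p.IsHomLift f Φ.hom.fst) : (fp F G).p.IsHomLift f Φ := by
  have key : ∀ {a' b' : 𝒳.obj} (ψ : a' ⟶ b'), 𝒳.p.IsHomLift f ψ →
      ∀ (a b : (fp F G).obj) (ha : a.obj.fst = a') (hb : b.obj.fst = b') (Φ : a ⟶ b),
        Φ.hom.fst = eqToHom ha ≫ ψ ≫ eqToHom hb.symm → (fp F G).p.IsHomLift f Φ := by
    intro a' b' ψ hψ
    cases hψ
    intro a b ha hb Φ hΦ
    subst ha hb
    simp only [eqToHom_refl, Category.id_comp, Category.comp_id] at hΦ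
    subst hΦ
    exact Functor.IsHomLift.map (p := (fp F G).p) Φ
  exact key Φ.hom.fst h a b rfl rfl Φ (by simp)

theorem fst_isHomLift {R S : C} (f : R ⟶ S) {a b : (fp F G).obj} (Φ : a ⟶ b)
    (h : (fp F G).p.IsHomLift f Φ) : 𝒳.p.IsHomLift f Φ.hom.fst := by
  cases h
  exact Functor.IsHomLift.map (p := 𝒳.p) Φ.hom.fst

theorem snd_isHomLift {R S : C} (f : R ⟶ S) {a b : (fp F G).obj} (Φ : a ⟶ b)
    (h : (fp F G).p.IsHomLift f Φ) : 𝒴.p.IsHomLift f Φ.hom.snd := by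
  cases h
  exact fp_isHomLift_snd F G Φ

instance iso_isHomLift (x : (fp F G).obj) :
    𝒮.p.IsHomLift (𝟙 (𝒳.p.obj x.obj.fst)) x.obj.iso.hom := x.property

theorem snd_obj_eq (x : (fp F G).obj) : 𝒴.p.obj x.obj.snd = 𝒳.p.obj x.obj.fst :=
  (G.w_obj x.obj.snd).symm.trans
    (IsHomLift.codomain_eq 𝒮.p (𝟙 (𝒳.p.obj x.obj.fst)) x.obj.iso.hom)

/-- A morphism of `fp F G` both of whose components are strongly cartesian (and whose image in `𝒮`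
is strongly cartesian) is strongly cartesian. -/
theorem isStronglyCartesian_of {R S : C} (f : R ⟶ S) {a b : (fp F G).obj} (Φ : a ⟶ b)
    [h₁ : 𝒳.p.IsStronglyCartesian f Φ.hom.fst] [h₂ : 𝒴.p.IsStronglyCartesian f Φ.hom.snd]
    [h₃ : 𝒮.p.IsStronglyCartesian f (G.map Φ.hom.snd)] :
    (fp F G).p.IsStronglyCartesian f Φ := by
  refine { toIsHomLift := isHomLift_of_fst F G f Φ h₁.toIsHomLift, universal_property' := ?_ }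
  intro z g Ψ hΨ
  change 𝒳.p.obj z.obj.fst ⟶ R at g
  have hΨ₁ : 𝒳.p.IsHomLift (g ≫ f) Ψ.hom.fst := fst_isHomLift F G _ Ψ hΨ
  have hΨ₂ : 𝒴.p.IsHomLift (g ≫ f) Ψ.hom.snd := snd_isHomLift F G _ Ψ hΨ
  obtain ⟨χ₁, ⟨hχ₁l, hχ₁⟩, huniq₁⟩ :=
    IsStronglyCartesian.universal_property 𝒳.p f Φ.hom.fst g (g ≫ f) rfl Ψ.hom.fst
  obtain ⟨χ₂, ⟨hχ₂l, hχ₂⟩, huniq₂⟩ :=
    IsStronglyCartesian.universal_property 𝒴.p f Φ.hom.snd g (g ≫ f) rfl Ψ.hom.snd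
  have hR : 𝒳.p.obj a.obj.fst = R := IsHomLift.domain_eq 𝒳.p f Φ.hom.fst
  have ha' : 𝒮.p.IsHomLift (𝟙 R) a.obj.iso.hom := by
    subst hR; infer_instance
  have hw : F.map χ₁ ≫ a.obj.iso.hom = z.obj.iso.hom ≫ G.map χ₂ := by
    haveI : 𝒮.p.IsHomLift g (F.map χ₁ ≫ a.obj.iso.hom) := inferInstance
    haveI : 𝒮.p.IsHomLift g (z.obj.iso.hom ≫ G.map χ₂) := inferInstance
    apply IsStronglyCartesian.ext 𝒮.p f (G.map Φ.hom.snd) g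
    rw [Category.assoc, Category.assoc, ← G.map_comp, hχ₂, ← Φ.hom.w, ← Category.assoc,
      ← F.map_comp, hχ₁, Ψ.hom.w]
  refine ⟨ObjectProperty.homMk ⟨χ₁, χ₂, hw⟩, ⟨isHomLift_of_fst F G g _ hχ₁l, ?_⟩, ?_⟩
  · apply ObjectProperty.hom_ext
    apply CategoricalPullback.hom_ext
    · exact hχ₁
    · exact hχ₂
  · rintro χ' ⟨hχ'l, hχ'⟩
    apply ObjectProperty.hom_ext
    apply CategoricalPullback.hom_ext
    · apply huniq₁ χ'.hom.fst ⟨fst_isHomLift F G g χ' hχ'l, ?_⟩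
      exact congrArg (fun t => t.hom.fst) hχ'
    · apply huniq₂ χ'.hom.snd ⟨snd_isHomLift F G g χ' hχ'l, ?_⟩
      exact congrArg (fun t => t.hom.snd) hχ'

/-- Lifting an object of `fp F G` along compatible strongly cartesian lifts of its components. -/
theorem exists_lift_obj (x : (fp F G).obj) {R : C} (f : R ⟶ 𝒳.p.obj x.obj.fst)
    {a' : 𝒳.obj} (φ₁ : a' ⟶ x.obj.fst) {b' : 𝒴.obj} (φ₂ : b' ⟶ x.obj.snd)
    [𝒳.p.IsHomLift f φ₁] [𝒴.p.IsHomLift f φ₂]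
    [𝒮.p.IsStronglyCartesian f (F.map φ₁)] [𝒮.p.IsStronglyCartesian f (G.map φ₂)] :
    ∃ (x' : (fp F G).obj) (Φ : x' ⟶ x) (h₁ : x'.obj.fst = a') (h₂ : x'.obj.snd = b'),
      Φ.hom.fst = eqToHom h₁ ≫ φ₁ ∧ Φ.hom.snd = eqToHom h₂ ≫ φ₂ := by
  have ha' : 𝒳.p.obj a' = R := IsHomLift.domain_eq 𝒳.p f φ₁
  subst ha'
  haveI : 𝒮.p.IsHomLift f (F.map φ₁ ≫ x.obj.iso.hom) := inferInstance
  haveI : 𝒮.p.IsHomLift f (G.map φ₂ ≫ x.obj.iso.inv) := inferInstance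
  let θ := IsStronglyCartesian.map 𝒮.p f (G.map φ₂) (Category.id_comp f).symm
    (F.map φ₁ ≫ x.obj.iso.hom)
  let θ' := IsStronglyCartesian.map 𝒮.p f (F.map φ₁) (Category.id_comp f).symm
    (G.map φ₂ ≫ x.obj.iso.inv)
  have hθ : θ ≫ G.map φ₂ = F.map φ₁ ≫ x.obj.iso.hom := IsStronglyCartesian.fac 𝒮.p f _ _ _
  have hθ' : θ' ≫ F.map φ₁ = G.map φ₂ ≫ x.obj.iso.inv := IsStronglyCartesian.fac 𝒮.p f _ _ _
  haveI hθl : 𝒮.p.IsHomLift (𝟙 (𝒳.p.obj a')) θ := IsStronglyCartesian.map_isHomLift 𝒮.p f _ _ _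
  haveI hθ'l : 𝒮.p.IsHomLift (𝟙 (𝒳.p.obj a')) θ' := IsStronglyCartesian.map_isHomLift 𝒮.p f _ _ _
  have h1 : θ ≫ θ' = 𝟙 (F.obj a') := by
    apply IsStronglyCartesian.ext 𝒮.p f (F.map φ₁) (𝟙 (𝒳.p.obj a'))
    rw [Category.assoc, hθ', ← Category.assoc, hθ, Category.assoc, Iso.hom_inv_id, Category.comp_id,
      Category.id_comp]
  have h2 : θ' ≫ θ = 𝟙 (G.obj b') := by
    haveI : 𝒮.p.IsHomLift (𝟙 (𝒳.p.obj a')) (𝟙 (G.obj b')) :=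
      IsHomLift.id ((G.w_obj b').trans (IsHomLift.domain_eq 𝒴.p f φ₂))
    apply IsStronglyCartesian.ext 𝒮.p f (G.map φ₂) (𝟙 (𝒳.p.obj a'))
    rw [Category.assoc, hθ, ← Category.assoc, hθ', Category.assoc, Iso.inv_hom_id, Category.comp_id,
      Category.id_comp]
  refine ⟨⟨⟨a', b', ⟨θ, θ', h1, h2⟩⟩, hθl⟩, ObjectProperty.homMk ⟨φ₁, φ₂, hθ.symm⟩, rfl, rfl,
    by simp, by simp⟩


theorem base_eq_of_isHomLift {𝒵 : Type*} [Category 𝒵] (p : 𝒵 ⥤ C) {R S : C} (f f' : R ⟶ S)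
    {a b : 𝒵} (φ : a ⟶ b) [p.IsHomLift f φ] [p.IsHomLift f' φ] : f = f' := by
  rw [IsHomLift.fac p f φ, IsHomLift.fac p f' φ]

theorem fpFst_aux (h𝒴 : IsFibGrpd 𝒴.p) (h𝒮 : IsFibGrpd 𝒮.p) {y x z : (fp F G).obj} (Φ : y ⟶ x)
    (g : z.obj.fst ⟶ y.obj.fst) (Ψ : z ⟶ x) (hΨ₁ : Ψ.hom.fst = g ≫ Φ.hom.fst) :
    ∃! χ : z ⟶ y, χ.hom.fst = g ∧ χ ≫ Φ = Ψ := by
  have hΦ₂ : 𝒴.p.IsHomLift (𝒳.p.map Φ.hom.fst) Φ.hom.snd := fp_isHomLift_snd F G Φ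
  haveI := FibGrpd.isStronglyCartesian h𝒴 (𝒳.p.map Φ.hom.fst) Φ.hom.snd
  have hΨ₂ : 𝒴.p.IsHomLift (𝒳.p.map g ≫ 𝒳.p.map Φ.hom.fst) Ψ.hom.snd := by
    have h := fp_isHomLift_snd F G Ψ
    have e : (fp F G).p.map Ψ = 𝒳.p.map g ≫ 𝒳.p.map Φ.hom.fst := by
      change 𝒳.p.map Ψ.hom.fst = _
      rw [hΨ₁, 𝒳.p.map_comp]
    rwa [e] at h
  obtain ⟨χ₂, ⟨hχ₂l, hχ₂⟩, huniq₂⟩ :=
    IsStronglyCartesian.universal_property 𝒴.p (𝒳.p.map Φ.hom.fst) Φ.hom.snd (𝒳.p.map g)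
      (𝒳.p.map g ≫ 𝒳.p.map Φ.hom.fst) rfl Ψ.hom.snd
  haveI := FibGrpd.isStronglyCartesian h𝒮 (𝒳.p.map Φ.hom.fst) (G.map Φ.hom.snd)
  have hw : F.map g ≫ y.obj.iso.hom = z.obj.iso.hom ≫ G.map χ₂ := by
    haveI : 𝒮.p.IsHomLift (𝒳.p.map g) (F.map g ≫ y.obj.iso.hom) := inferInstance
    haveI : 𝒮.p.IsHomLift (𝒳.p.map g) (z.obj.iso.hom ≫ G.map χ₂) := inferInstance
    apply IsStronglyCartesian.ext 𝒮.p (𝒳.p.map Φ.hom.fst) (G.map Φ.hom.snd) (𝒳.p.map g)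
    rw [Category.assoc, Category.assoc, ← G.map_comp, hχ₂, ← Φ.hom.w, ← Category.assoc,
      ← F.map_comp, ← hΨ₁, Ψ.hom.w]
  refine ⟨ObjectProperty.homMk ⟨g, χ₂, hw⟩, ⟨rfl, ?_⟩, ?_⟩
  · apply ObjectProperty.hom_ext
    apply CategoricalPullback.hom_ext
    · exact hΨ₁.symm
    · exact hχ₂
  · rintro χ' ⟨h1, hχ'⟩
    apply ObjectProperty.hom_ext
    apply CategoricalPullback.hom_ext
    · exact h1
    · have h2 : 𝒴.p.IsHomLift (𝒳.p.map g) χ'.hom.snd := by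
        have h := fp_isHomLift_snd F G χ'
        have e : (fp F G).p.map χ' = 𝒳.p.map g := by
          change 𝒳.p.map χ'.hom.fst = _
          rw [h1]
        rwa [e] at h
      apply huniq₂ χ'.hom.snd ⟨h2, ?_⟩
      exact congrArg (fun t => t.hom.snd) hχ'

theorem fpFst_isHomLift_iff {z y : (fp F G).obj} (g : z.obj.fst ⟶ y.obj.fst) (χ : z ⟶ y) :
    (fpFst F G).toFunctor.IsHomLift g χ ↔ χ.hom.fst = g := by
  constructor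
  · intro h
    exact (@IsHomLift.eq_of_isHomLift _ _ _ _ (fpFst F G).toFunctor _ _ g χ h).symm
  · rintro rfl
    exact Functor.IsHomLift.map (p := (fpFst F G).toFunctor) χ

/-- The first projection of `fp F G` is fibred in groupoids when `𝒴` and `𝒮` are. -/
theorem isFibGrpd_fpFst (h𝒴 : IsFibGrpd 𝒴.p) (h𝒮 : IsFibGrpd 𝒮.p) :
    IsFibGrpd (fpFst F G).toFunctor := by
  refine ⟨?_, ?_⟩
  · intro x a' ψ
    change a' ⟶ x.obj.fst at ψ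
    obtain ⟨b', φ₂, hφ₂⟩ := FibGrpd.exists_lift' h𝒴 (snd_obj_eq F G x) (𝒳.p.map ψ)
    haveI := FibGrpd.isStronglyCartesian h𝒮 (𝒳.p.map ψ) (F.map ψ)
    haveI := FibGrpd.isStronglyCartesian h𝒮 (𝒳.p.map ψ) (G.map φ₂)
    obtain ⟨x', Φ, h₁, h₂, hΦ₁, hΦ₂⟩ := exists_lift_obj F G x (𝒳.p.map ψ) ψ φ₂
    refine ⟨x', Φ, ?_⟩
    apply IsHomLift.of_fac' (fpFst F G).toFunctor ψ Φ h₁ rfl
    change Φ.hom.fst = eqToHom h₁ ≫ ψ ≫ 𝟙 _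
    rw [hΦ₁, Category.comp_id]
  · intro y x Φ
    refine { toIsHomLift := inferInstance, universal_property' := ?_ }
    intro z g Ψ hΨ
    have hΨ₁ : Ψ.hom.fst = g ≫ Φ.hom.fst :=
      (fpFst_isHomLift_iff F G (g ≫ Φ.hom.fst) Ψ).1 hΨ
    obtain ⟨χ, ⟨h1, h2⟩, huniq⟩ := fpFst_aux F G h𝒴 h𝒮 Φ g Ψ hΨ₁
    refine ⟨χ, ⟨(fpFst_isHomLift_iff F G g χ).2 h1, h2⟩, ?_⟩
    rintro χ' ⟨hχ'l, hχ'⟩
    exact huniq χ' ⟨(fpFst_isHomLift_iff F G g χ').1 hχ'l, hχ'⟩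


/-- base morphism of a morphism between second components -/
def sndBase {z y : (fp F G).obj} (g : z.obj.snd ⟶ y.obj.snd) :
    𝒳.p.obj z.obj.fst ⟶ 𝒳.p.obj y.obj.fst :=
  eqToHom (snd_obj_eq F G z).symm ≫ 𝒴.p.map g ≫ eqToHom (snd_obj_eq F G y)

instance sndBase_isHomLift {z y : (fp F G).obj} (g : z.obj.snd ⟶ y.obj.snd) :
    𝒴.p.IsHomLift (sndBase F G g) g := by
  unfold sndBase; infer_instance

theorem fst_isHomLift_sndBase {z y : (fp F G).obj} (χ : z ⟶ y) :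
    𝒳.p.IsHomLift (sndBase F G χ.hom.snd) χ.hom.fst := by
  have h1 : 𝒴.p.IsHomLift (𝒳.p.map χ.hom.fst) χ.hom.snd := fp_isHomLift_snd F G χ
  have h2 : 𝒴.p.IsHomLift (sndBase F G χ.hom.snd) χ.hom.snd := inferInstance
  have e : 𝒳.p.map χ.hom.fst = sndBase F G χ.hom.snd := base_eq_of_isHomLift 𝒴.p _ _ χ.hom.snd
  rw [← e]; infer_instance

theorem fpSnd_aux (h𝒳 : IsFibGrpd 𝒳.p) (h𝒮 : IsFibGrpd 𝒮.p) {y x z : (fp F G).obj} (Φ : y ⟶ x)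
    (g : z.obj.snd ⟶ y.obj.snd) (Ψ : z ⟶ x) (hΨ₂ : Ψ.hom.snd = g ≫ Φ.hom.snd) :
    ∃! χ : z ⟶ y, χ.hom.snd = g ∧ χ ≫ Φ = Ψ := by
  haveI := FibGrpd.isStronglyCartesian h𝒳 (𝒳.p.map Φ.hom.fst) Φ.hom.fst
  have hΦ₂ : 𝒴.p.IsHomLift (𝒳.p.map Φ.hom.fst) Φ.hom.snd := fp_isHomLift_snd F G Φ
  have hΨ₁ : 𝒳.p.IsHomLift (sndBase F G g ≫ 𝒳.p.map Φ.hom.fst) Ψ.hom.fst := by
    have h1 : 𝒴.p.IsHomLift (𝒳.p.map Ψ.hom.fst) Ψ.hom.snd := fp_isHomLift_snd F G Ψ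
    have h2 : 𝒴.p.IsHomLift (sndBase F G g ≫ 𝒳.p.map Φ.hom.fst) Ψ.hom.snd := by
      rw [hΨ₂]; infer_instance
    have e : 𝒳.p.map Ψ.hom.fst = sndBase F G g ≫ 𝒳.p.map Φ.hom.fst :=
      base_eq_of_isHomLift 𝒴.p _ _ Ψ.hom.snd
    rw [← e]; infer_instance
  obtain ⟨χ₁, ⟨hχ₁l, hχ₁⟩, huniq₁⟩ :=
    IsStronglyCartesian.universal_property 𝒳.p (𝒳.p.map Φ.hom.fst) Φ.hom.fst (sndBase F G g)
      (sndBase F G g ≫ 𝒳.p.map Φ.hom.fst) rfl Ψ.hom.fst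
  haveI := FibGrpd.isStronglyCartesian h𝒮 (𝒳.p.map Φ.hom.fst) (G.map Φ.hom.snd)
  have hw : F.map χ₁ ≫ y.obj.iso.hom = z.obj.iso.hom ≫ G.map g := by
    haveI : 𝒮.p.IsHomLift (sndBase F G g) (F.map χ₁ ≫ y.obj.iso.hom) := inferInstance
    haveI : 𝒮.p.IsHomLift (sndBase F G g) (z.obj.iso.hom ≫ G.map g) := inferInstance
    apply IsStronglyCartesian.ext 𝒮.p (𝒳.p.map Φ.hom.fst) (G.map Φ.hom.snd) (sndBase F G g)
    rw [Category.assoc, Category.assoc, ← G.map_comp, ← hΨ₂, ← Φ.hom.w, ← Category.assoc,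
      ← F.map_comp, hχ₁, Ψ.hom.w]
  refine ⟨ObjectProperty.homMk ⟨χ₁, g, hw⟩, ⟨rfl, ?_⟩, ?_⟩
  · apply ObjectProperty.hom_ext
    apply CategoricalPullback.hom_ext
    · exact hχ₁
    · exact hΨ₂.symm
  · rintro χ' ⟨h1, hχ'⟩
    apply ObjectProperty.hom_ext
    apply CategoricalPullback.hom_ext
    · have h2 : 𝒳.p.IsHomLift (sndBase F G g) χ'.hom.fst := by
        have := fst_isHomLift_sndBase F G χ'
        rwa [h1] at this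
      apply huniq₁ χ'.hom.fst ⟨h2, ?_⟩
      exact congrArg (fun t => t.hom.fst) hχ'
    · exact h1

theorem fpSnd_isHomLift_iff {z y : (fp F G).obj} (g : z.obj.snd ⟶ y.obj.snd) (χ : z ⟶ y) :
    (fpSnd F G).toFunctor.IsHomLift g χ ↔ χ.hom.snd = g := by
  constructor
  · intro h
    exact (@IsHomLift.eq_of_isHomLift _ _ _ _ (fpSnd F G).toFunctor _ _ g χ h).symm
  · rintro rfl
    exact Functor.IsHomLift.map (p := (fpSnd F G).toFunctor) χ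

/-- The second projection of `fp F G` is fibred in groupoids when `𝒳` and `𝒮` are. -/
theorem isFibGrpd_fpSnd (h𝒳 : IsFibGrpd 𝒳.p) (h𝒮 : IsFibGrpd 𝒮.p) :
    IsFibGrpd (fpSnd F G).toFunctor := by
  refine ⟨?_, ?_⟩
  · intro x b' ψ
    change b' ⟶ x.obj.snd at ψ
    -- base morphism
    let f₀ : 𝒴.p.obj b' ⟶ 𝒳.p.obj x.obj.fst := 𝒴.p.map ψ ≫ eqToHom (snd_obj_eq F G x)
    haveI hψ : 𝒴.p.IsHomLift f₀ ψ := by unfold f₀; infer_instance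
    obtain ⟨a', φ₁, hφ₁⟩ := h𝒳.exists_lift (x := x.obj.fst) f₀
    haveI := FibGrpd.isStronglyCartesian h𝒮 f₀ (F.map φ₁)
    haveI := FibGrpd.isStronglyCartesian h𝒮 f₀ (G.map ψ)
    obtain ⟨x', Φ, h₁, h₂, hΦ₁, hΦ₂⟩ := exists_lift_obj F G x f₀ φ₁ ψ
    refine ⟨x', Φ, ?_⟩
    apply IsHomLift.of_fac' (fpSnd F G).toFunctor ψ Φ h₂ rfl
    change Φ.hom.snd = eqToHom h₂ ≫ ψ ≫ 𝟙 _
    rw [hΦ₂, Category.comp_id]
  · intro y x Φ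
    refine { toIsHomLift := inferInstance, universal_property' := ?_ }
    intro z g Ψ hΨ
    have hΨ₂ : Ψ.hom.snd = g ≫ Φ.hom.snd :=
      (fpSnd_isHomLift_iff F G (g ≫ Φ.hom.snd) Ψ).1 hΨ
    obtain ⟨χ, ⟨h1, h2⟩, huniq⟩ := fpSnd_aux F G h𝒳 h𝒮 Φ g Ψ hΨ₂
    refine ⟨χ, ⟨(fpSnd_isHomLift_iff F G g χ).2 h1, h2⟩, ?_⟩
    rintro χ' ⟨hχ'l, hχ'⟩
    exact huniq χ' ⟨(fpSnd_isHomLift_iff F G g χ').1 hχ'l, hχ'⟩

end Groth.Agent.Helper3.Fp
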