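import Mathlib
import Groth.Agent.Helper3.HensRows

open PrimeSpectrum

universe u

namespace Groth.Agent.Helper3.IdemOpen

open Groth.Agent.Helper3.HensTFAE Groth.Agent.Helper3.HensRows

/-- Over a henselian pair `(A, I)`, for an integral algebra `B` and an open `U ⊆ Spec B` such that
`U ∩ V(IB)` is closed, there is an idempotent `e` with `D(e) ⊆ U` and `D(e) ∩ V(IB) = U ∩ V(IB)`. -/
theorem exists_idem (A : Type u) [CommRing A] (I : Ideal A) [hA : HenselianRing A I]
    (B : Type u) [CommRing B] [Algebra A B] [Algebra.IsIntegral A B]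
    (U : Set (PrimeSpectrum B)) (hU : IsOpen U)
    (hcl : IsClosed (U ∩ zeroLocus (I.map (algebraMap A B) : Set B))) :
    ∃ e : B, IsIdempotentElem e ∧ (basicOpen e : Set (PrimeSpectrum B)) ⊆ U ∧
      U ∩ zeroLocus (I.map (algebraMap A B) : Set B) ⊆ basicOpen e := by
  set J := I.map (algebraMap A B) with hJ
  have hJjac : J ≤ Ideal.jacobson ⊥ := map_le_jacobson_of_isIntegral I hA.jac
  let π := Ideal.Quotient.mk J
  have hπ : Function.Surjective π := Ideal.Quotient.mk_surjective
  have hrange : Set.range (comap π) = zeroLocus (J : Set B) := by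
    rw [range_comap_of_surjective _ _ hπ, Ideal.mk_ker]
  have hclopen : IsClopen (comap π ⁻¹' U) := by
    refine ⟨?_, hU.preimage (continuous_comap π)⟩
    have : comap π ⁻¹' U = comap π ⁻¹' (U ∩ zeroLocus (J : Set B)) := by
      ext P
      simp only [Set.mem_preimage, Set.mem_inter_iff, iff_self_and]
      intro _
      rw [← hrange]; exact ⟨P, rfl⟩
    rw [this]
    exact hcl.preimage (continuous_comap π)
  obtain ⟨ē, hē, hēU⟩ := PrimeSpectrum.isClopen_iff.mp hclopen
  obtain ⟨e, he, rfl⟩ := (bijOn_of_idemLift I hA.jac B (idemLift_of_hens I B)).surjOn hē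
  have he' : IsIdempotentElem e := he
  -- points of `V(J)`
  have key : ∀ P : PrimeSpectrum B, P ∈ zeroLocus (J : Set B) → (P ∈ U ↔ e ∉ P.asIdeal) := by
    intro P hP
    rw [← hrange] at hP
    obtain ⟨Q, rfl⟩ := hP
    have h1 : comap π Q ∈ U ↔ Q ∈ comap π ⁻¹' U := Iff.rfl
    rw [h1, hēU]
    simp only [SetLike.mem_coe, mem_basicOpen, comap_asIdeal, Ideal.mem_comap]
    rfl
  refine ⟨e, he', ?_, ?_⟩
  · intro P hP
    have heP : e ∉ P.asIdeal := hP
    have hne : P.asIdeal ⊔ Ideal.span {1 - e} ≠ ⊤ := by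
      intro htop
      rw [Ideal.eq_top_iff_one, Submodule.mem_sup] at htop
      obtain ⟨p, hp, q, hq, hpq⟩ := htop
      obtain ⟨b, rfl⟩ := Ideal.mem_span_singleton'.mp hq
      apply heP
      have : e = p * e := by
        have h2 : (1 - e) * e = 0 := by
          rw [sub_mul, one_mul, he'.eq, sub_self]
        calc e = (p + b * (1 - e)) * e := by rw [hpq, one_mul]
          _ = p * e + b * ((1 - e) * e) := by ring
          _ = p * e := by rw [h2, mul_zero, add_zero]
      rw [this]
      exact Ideal.mul_mem_right _ _ hp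
    obtain ⟨M, hM, hle⟩ := Ideal.exists_le_maximal _ hne
    have hPM : P.asIdeal ≤ M := le_sup_left.trans hle
    have h1e : 1 - e ∈ M := hle (Ideal.mem_sup_right (Ideal.subset_span rfl))
    have heM : e ∉ M := by
      intro h
      apply hM.ne_top
      rw [Ideal.eq_top_iff_one]
      have := M.add_mem h h1e
      simpa using this
    let M' : PrimeSpectrum B := ⟨M, hM.isPrime⟩
    have hMJ : M' ∈ zeroLocus (J : Set B) := by
      intro x hx
      have : Ideal.jacobson (⊥ : Ideal B) ≤ M := sInf_le ⟨bot_le, hM⟩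
      exact this (hJjac hx)
    have hMU : M' ∈ U := (key M' hMJ).mpr heM
    have hspec : P ⤳ M' := (le_iff_specializes P M').mp hPM
    exact hspec.mem_open hU hMU
  · rintro P ⟨hPU, hPJ⟩
    exact (key P hPJ).mp hPU

end Groth.Agent.Helper3.IdemOpen
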