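import Groth.Agent.Helper3.WEtale

/-! Weakly étale ring maps and morphisms: `HasRingHomProperty`, stalkwise criterion. -/

open TensorProduct AlgebraicGeometry CategoryTheory CategoryTheory.Limits

namespace Groth.Agent.Helper3.WEtale

universe u v

/-- A localization is weakly étale. -/
theorem weaklyEtale_of_isLocalization {C : Type*} [CommRing C] (M : Submonoid C) (B : Type*)
    [CommRing B] [Algebra C B] [IsLocalization M B] : Algebra.WeaklyEtale C B := by
  have hflat : Module.Flat C B := IsLocalization.flat B M
  refine ⟨hflat, ?_⟩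
  apply RingHom.Flat.of_bijective
  exact IsLocalization.bijective_linearMap_mul' M B

/-- weakly étale ring homomorphisms -/
def WE {R S : Type u} [CommRing R] [CommRing S] (f : R →+* S) : Prop :=
  f.Flat ∧ (letI := f.toAlgebra; (Algebra.TensorProduct.lmul' R (S := S)).toRingHom.Flat)

lemma WE_iff {R S : Type u} [CommRing R] [CommRing S] (f : R →+* S) :
    WE f ↔ (letI := f.toAlgebra; Algebra.WeaklyEtale R S) := by
  letI := f.toAlgebra
  exact (Algebra.weaklyEtale_iff R S).symm

lemma WE_algebraMap_iff {R S : Type u} [CommRing R] [CommRing S] [inst : Algebra R S] :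
    WE (algebraMap R S) ↔ Algebra.WeaklyEtale R S := by
  rw [WE_iff]
  have h : (algebraMap R S).toAlgebra = inst := Algebra.algebra_ext _ _ (fun _ => rfl)
  rw [h]

/-- localization of weakly étale is weakly étale -/
lemma WE.localRingHom {R S : Type u} [CommRing R] [CommRing S] (f : R →+* S) (hf : WE f)
    (J : Ideal S) (hJ : J.IsPrime) : WE (Localization.localRingHom _ J f rfl) := by
  rw [WE_iff] at hf ⊢
  algebraize [f, Localization.localRingHom (Ideal.comap f J) J f rfl]
  haveI : IsScalarTower R (Localization.AtPrime (Ideal.comap f J)) (Localization.AtPrime J) :=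
    .of_algebraMap_eq fun x ↦ (Localization.localRingHom_to_map _ _ _ rfl x).symm
  haveI : Algebra.WeaklyEtale R S := hf
  haveI : Algebra.WeaklyEtale S (Localization.AtPrime J) :=
    weaklyEtale_of_isLocalization J.primeCompl _
  haveI : Algebra.WeaklyEtale R (Localization.AtPrime J) := Algebra.WeaklyEtale.trans R S _
  haveI : Algebra.WeaklyEtale R (Localization.AtPrime (Ideal.comap f J)) :=
    weaklyEtale_of_isLocalization (Ideal.comap f J).primeCompl _
  exact weaklyEtale_of_weaklyEtale R (Localization.AtPrime (Ideal.comap f J))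
    (Localization.AtPrime J)

lemma WE.ofLocalizationPrime : RingHom.OfLocalizationPrime WE := by
  intro R S _ _ f h
  refine ⟨RingHom.Flat.ofLocalizationPrime f (fun J hJ => (h J hJ).1), ?_⟩
  algebraize [f]
  letI : Algebra (S ⊗[R] S) S := (Algebra.TensorProduct.lmul' R (S := S)).toRingHom.toAlgebra
  show Module.Flat (S ⊗[R] S) S
  apply Module.flat_of_isLocalized_maximal S S (fun P _ => Localization.AtPrime P)
    (fun P _ => Algebra.linearMap S _)
  intro P hP
  have hP' : P.IsPrime := hP.isPrime
  rw [← RingHom.flat_algebraMap_iff]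
  have h2 := (h P hP').2
  algebraize [Localization.localRingHom (Ideal.comap f P) P f rfl]
  haveI : IsScalarTower R (Localization.AtPrime (Ideal.comap f P)) (Localization.AtPrime P) :=
    .of_algebraMap_eq fun x ↦ (Localization.localRingHom_to_map _ _ _ rfl x).symm
  let g₁ : S ⊗[R] S →ₐ[R] Localization.AtPrime P ⊗[R] Localization.AtPrime P :=
    Algebra.TensorProduct.map (IsScalarTower.toAlgHom R S _) (IsScalarTower.toAlgHom R S _)
  let g₂ := (IsLocalization.algebraTensorEquiv (Ideal.comap f P).primeCompl
    (Localization.AtPrime (Ideal.comap f P)) (Localization.AtPrime P) (Localization.AtPrime P)).symm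
  let g₃ := Algebra.TensorProduct.lmul' (Localization.AtPrime (Ideal.comap f P))
    (S := Localization.AtPrime P)
  have hcomp : algebraMap (S ⊗[R] S) (Localization.AtPrime P) =
      (g₃.toRingHom.comp (g₂ : _ →+* _)).comp g₁.toRingHom := by
    refine RingHom.ext fun x => ?_
    rw [IsScalarTower.algebraMap_apply (S ⊗[R] S) S (Localization.AtPrime P)]
    show algebraMap S _ (Algebra.TensorProduct.lmul' R (S := S) x) = g₃ (g₂ (g₁ x))
    induction x using TensorProduct.induction_on with
    | zero => simp
    | add x y hx hy => simp only [map_add, hx, hy]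
    | tmul a b =>
      have key : ∀ a b : Localization.AtPrime P, g₂ (a ⊗ₜ[R] b) = a ⊗ₜ b := fun a b => rfl
      simp [g₁, g₃, key]
  rw [hcomp]
  have hfl : (IsScalarTower.toAlgHom R S (Localization.AtPrime P)).Flat := by
    show (algebraMap S (Localization.AtPrime P)).Flat
    rw [RingHom.flat_algebraMap_iff]
    exact IsLocalization.flat _ P.primeCompl
  refine RingHom.Flat.comp (RingHom.Flat.tensorProductMap hfl hfl) ?_
  refine RingHom.Flat.comp (RingHom.Flat.of_bijective g₂.bijective) ?_
  exact h2

theorem weaklyEtale_SpecMap_iff {R S : Type u} [CommRing R] [CommRing S] (f : R →+* S) :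
    WeaklyEtale (Spec.map (CommRingCat.ofHom f)) ↔ WE f := by
  algebraize [f]
  have hf : f = algebraMap R S := rfl
  constructor
  · intro h
    refine ⟨?_, ?_⟩
    · have := h.flat
      rwa [Flat.SpecMap_iff] at this
    · have h1 := h.flat_diagonal
      rw [hf, diagonal_SpecMap] at h1
      have h2 : Flat ((Spec.map (CommRingCat.ofHom
          (Algebra.TensorProduct.lmul' R : S ⊗[R] S →ₐ[R] S).toRingHom) ≫
            (pullbackSpecIso R S S).inv) ≫ (pullbackSpecIso R S S).hom) := inferInstance
      rw [Category.assoc, Iso.inv_hom_id, Category.comp_id, Flat.SpecMap_iff] at h2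
      exact h2
  · intro h
    refine ⟨by rw [Flat.SpecMap_iff]; exact h.1, ?_⟩
    rw [hf, diagonal_SpecMap]
    have h2 : Flat (Spec.map (CommRingCat.ofHom
        (Algebra.TensorProduct.lmul' R : S ⊗[R] S →ₐ[R] S).toRingHom)) := by
      rw [Flat.SpecMap_iff]
      exact h.2
    infer_instance

instance : HasRingHomProperty @WeaklyEtale WE :=
  haveI := HasRingHomProperty.of_isZariskiLocalAtSource_of_isZariskiLocalAtTarget @WeaklyEtale
  HasRingHomProperty.copy (P := @WeaklyEtale) rfl (fun f => weaklyEtale_SpecMap_iff f)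

theorem weaklyEtale_iff_stalkMap {X Y : Scheme.{u}} (f : X ⟶ Y) :
    WeaklyEtale f ↔ ∀ x : X, WE (f.stalkMap x).hom :=
  ⟨fun hf x => HasRingHomProperty.stalkMap (P := @WeaklyEtale) (fun f hf J hJ => WE.localRingHom f hf J hJ) hf x,
   fun H => HasRingHomProperty.of_stalkMap (P := @WeaklyEtale) WE.ofLocalizationPrime H⟩

theorem weaklyEtale_iff_appLE {X Y : Scheme.{u}} (f : X ⟶ Y) :
    WeaklyEtale f ↔ ∀ (U : Y.affineOpens) (V : X.affineOpens) (e : V.1 ≤ f ⁻¹ᵁ U.1),
      WE (f.appLE U V e).hom :=
  HasRingHomProperty.iff_appLE (P := @WeaklyEtale)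

end Groth.Agent.Helper3.WEtale
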