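import Mathlib

/-!
Spreading out morphisms `Spec 𝒪_{X,x} ⟶ Y` over `S` when `Y` is locally of finite presentation
over `S` (no germ-injectivity hypothesis on `X`).
-/

set_option autoImplicit false

namespace Groth.Agent.Helper3.SpreadFP

open AlgebraicGeometry CategoryTheory Limits Opposite

universe u

variable {X : Scheme.{u}}

/-- Restriction of sections as a ring hom. -/
noncomputable def res {V W : X.Opens} (h : V ≤ W) : Γ(X, W) →+* Γ(X, V) :=
  (X.presheaf.map (homOfLE h).op).hom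

lemma res_res {V W Z : X.Opens} (h1 : V ≤ W) (h2 : W ≤ Z) (s : Γ(X, Z)) :
    res h1 (res h2 s) = res (h1.trans h2) s := by
  have : X.presheaf.map (homOfLE h2).op ≫ X.presheaf.map (homOfLE h1).op =
      X.presheaf.map (homOfLE (h1.trans h2)).op := by
    rw [← Functor.map_comp]; rfl
  have h3 := congrArg (fun f => f.hom s) this
  exact h3

lemma germ_res {V W : X.Opens} (h : V ≤ W) {x : X} (hx : x ∈ V) (s : Γ(X, W)) :
    X.presheaf.germ V x hx (res h s) = X.presheaf.germ W x (h hx) s :=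
  TopCat.Presheaf.germ_res_apply X.presheaf (homOfLE h) x hx s

/-- If the germ of a section vanishes at `x`, the section vanishes on a neighbourhood of `x`. -/
lemma exists_res_eq_zero {V : X.Opens} {x : X} (hx : x ∈ V) (s : Γ(X, V))
    (hs : X.presheaf.germ V x hx s = 0) : ∃ W : X.Opens, x ∈ W ∧ ∃ h : W ≤ V, res h s = 0 := by
  have h0 : X.presheaf.germ V x hx s = X.presheaf.germ V x hx 0 := by rw [hs, map_zero]
  obtain ⟨W, hxW, iU, iV, hW⟩ := TopCat.Presheaf.germ_eq X.presheaf x hx hx s 0 h0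
  refine ⟨W, hxW, iU.le, ?_⟩
  have : (X.presheaf.map iV.op).hom 0 = 0 := map_zero _
  exact hW.trans this

lemma exists_lift_of_finitePresentation {R A : CommRingCat.{u}} {x : X} {U : X.Opens}
    (hxU : x ∈ U) (φ : A ⟶ X.presheaf.stalk x) (φRA : R ⟶ A) (φRX : R ⟶ Γ(X, U))
    (hφRA : RingHom.FinitePresentation φRA.hom)
    (e : φRA ≫ φ = φRX ≫ X.presheaf.germ U x hxU) :
    ∃ (V : X.Opens) (hxV : x ∈ V) (φ' : A ⟶ Γ(X, V)) (i : V ≤ U), IsAffineOpen V ∧
      φ = φ' ≫ X.presheaf.germ V x hxV ∧ φRX ≫ X.presheaf.map i.hom.op = φRA ≫ φ' := by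
  classical
  let _ := φRA.hom.toAlgebra
  have hfp : Algebra.FinitePresentation R A := hφRA
  obtain ⟨n, π, hπ, hker⟩ := hfp.out
  obtain ⟨F, hF⟩ := hker
  -- representatives of the images of the variables
  choose W hxW a ha using fun i : Fin n => X.presheaf.exists_germ_eq (φ (π (MvPolynomial.X i)))
  let V0 : X.Opens := (Finset.univ.inf W) ⊓ U
  have hxV0 : x ∈ V0 := by
    refine ⟨?_, hxU⟩
    rw [TopologicalSpace.Opens.coe_finset_inf]
    simpa using fun i => hxW i
  have hV0W : ∀ i, V0 ≤ W i := fun i => inf_le_left.trans (Finset.inf_le (Finset.mem_univ i))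
  have hV0U : V0 ≤ U := inf_le_right
  let ev0 : MvPolynomial (Fin n) R →+* Γ(X, V0) :=
    MvPolynomial.eval₂Hom ((res hV0U).comp φRX.hom) (fun i => res (hV0W i) (a i))
  have h0 : ∀ p, X.presheaf.germ V0 x hxV0 (ev0 p) = φ (π p) := by
    have : (X.presheaf.germ V0 x hxV0).hom.comp ev0 = φ.hom.comp π.toRingHom := by
      refine MvPolynomial.ringHom_ext (fun r => ?_) (fun i => ?_)
      · simp only [RingHom.comp_apply, ev0, MvPolynomial.eval₂Hom_C]
        erw [germ_res hV0U hxV0]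
        have h1 := congrArg (fun f => f.hom r) e
        simp only [CommRingCat.hom_comp, RingHom.comp_apply] at h1
        rw [← h1]
        have : π (MvPolynomial.C r) = φRA.hom r := π.commutes r
        erw [this]
      · simp only [RingHom.comp_apply, ev0, MvPolynomial.eval₂Hom_X']
        erw [germ_res (hV0W i) hxV0]
        exact ha i
    intro p
    exact congrArg (fun f => f p) this
  -- kill the relations
  have hFker : ∀ p ∈ F, π p = 0 := by
    intro p hp
    have : p ∈ RingHom.ker π.toRingHom := hF ▸ Ideal.subset_span hp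
    exact this
  have hex : ∀ p : MvPolynomial (Fin n) R, p ∈ F →
      ∃ W' : X.Opens, x ∈ W' ∧ ∃ h : W' ≤ V0, res h (ev0 p) = 0 := by
    intro p hp
    refine exists_res_eq_zero hxV0 (ev0 p) ?_
    rw [h0, hFker p hp, map_zero]
  choose! W' hxW' hW'V0 hW'0 using hex
  let V1 : X.Opens := (F.inf W') ⊓ V0
  have hxV1 : x ∈ V1 := by
    refine ⟨?_, hxV0⟩
    rw [TopologicalSpace.Opens.coe_finset_inf]
    simpa using fun p hp => hxW' p hp
  have hV1V0 : V1 ≤ V0 := inf_le_right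
  have hV1W' : ∀ p ∈ F, V1 ≤ W' p := fun p hp => inf_le_left.trans (Finset.inf_le hp)
  let ev1 : MvPolynomial (Fin n) R →+* Γ(X, V1) := (res hV1V0).comp ev0
  have hle : RingHom.ker π.toRingHom ≤ RingHom.ker ev1 := by
    rw [← hF, Ideal.span_le]
    intro p hp
    change ev1 p = 0
    change res hV1V0 (ev0 p) = 0
    rw [← res_res (hV1W' p hp) (hW'V0 p hp), hW'0 p hp, map_zero]
  let φ1 : A →+* Γ(X, V1) := π.toRingHom.liftOfSurjective hπ ⟨ev1, hle⟩
  have hφ1 : ∀ p, φ1 (π p) = ev1 p := fun p =>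
    RingHom.liftOfSurjective_comp_apply π.toRingHom hπ ⟨ev1, hle⟩ p
  obtain ⟨_, ⟨V, hV, rfl⟩, hxV, hVV1⟩ :=
    X.isBasis_affineOpens.exists_subset_of_mem_open hxV1 V1.2
  have hVV1' : V ≤ V1 := hVV1
  refine ⟨V, hxV, CommRingCat.ofHom ((res hVV1').comp φ1), hVV1'.trans (hV1V0.trans hV0U), hV,
    ?_, ?_⟩
  · ext b
    obtain ⟨p, rfl⟩ := hπ b
    change φ (π p) = X.presheaf.germ V x hxV (res hVV1' (φ1 (π p)))
    rw [hφ1, germ_res hVV1' hxV]
    change _ = X.presheaf.germ V1 x _ (res hV1V0 (ev0 p))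
    rw [germ_res hV1V0, h0]
  · ext r
    change res (hVV1'.trans (hV1V0.trans hV0U)) (φRX.hom r) = res hVV1' (φ1 (φRA.hom r))
    have : φRA.hom r = π (MvPolynomial.C r) := (π.commutes r).symm
    rw [this, hφ1]
    change _ = res hVV1' (res hV1V0 (ev0 (MvPolynomial.C r)))
    simp only [ev0, MvPolynomial.eval₂Hom_C, RingHom.comp_apply]
    rw [res_res, res_res]

variable {Y S : Scheme.{u}} (sX : X ⟶ S) (sY : Y ⟶ S)

set_option backward.isDefEq.respectTransparency.types false in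
/-- Spreading out for a target locally of finite presentation (adapted from Mathlib's
`spread_out_of_isGermInjective`). -/
lemma spread_out_of_lfp [LocallyOfFinitePresentation sY] {x : X} {y : Y}
    (e : sX x = sY y) (φ : Y.presheaf.stalk y ⟶ X.presheaf.stalk x)
    (h : sY.stalkMap y ≫ φ =
      S.presheaf.stalkSpecializes (Inseparable.of_eq e).specializes ≫ sX.stalkMap x) :
    ∃ (U : X.Opens) (hxU : x ∈ U) (f : U.toScheme ⟶ Y),
      Spec.map φ ≫ Y.fromSpecStalk y = U.fromSpecStalkOfMem x hxU ≫ f ∧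
      f ≫ sY = U.ι ≫ sX := by
  obtain ⟨_, ⟨U, hU, rfl⟩, hxU, -⟩ :=
    S.isBasis_affineOpens.exists_subset_of_mem_open (Set.mem_univ (sX x)) isOpen_univ
  have hyU : sY y ∈ U := e ▸ hxU
  obtain ⟨_, ⟨V : Y.Opens, hV, rfl⟩, hyV, iVU⟩ :=
    Y.isBasis_affineOpens.exists_subset_of_mem_open hyU (sY ⁻¹ᵁ U).2
  have : sY.appLE U V iVU ≫ Y.presheaf.germ V y hyV ≫ φ =
      sX.app U ≫ X.presheaf.germ (sX ⁻¹ᵁ U) x hxU := by
    rw [Scheme.Hom.appLE, Category.assoc, Y.presheaf.germ_res_assoc,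
      ← Scheme.Hom.germ_stalkMap_assoc, h]
    simp
  obtain ⟨W, hxW, φ', i, hW, h₁, h₂⟩ :=
    exists_lift_of_finitePresentation (R := Γ(S, U)) (A := Γ(Y, V)) (U := sX ⁻¹ᵁ U) (x := x) hxU
    (Y.presheaf.germ _ y hyV ≫ φ) (sY.appLE U V iVU) (sX.app U)
    (sY.finitePresentation_appLE hU hV _) this
  refine ⟨W, hxW, W.toSpecΓ ≫ Spec.map φ' ≫ hV.fromSpec, ?_, ?_⟩
  · rw [W.fromSpecStalkOfMem_toSpecΓ_assoc x hxW, ← Spec.map_comp_assoc, ← h₁,
      Spec.map_comp, Category.assoc, ← IsAffineOpen.fromSpecStalk,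
      IsAffineOpen.fromSpecStalk_eq_fromSpecStalk]
  · simp only [Category.assoc]
    rw [← IsAffineOpen.SpecMap_appLE_fromSpec sY hU hV iVU, ← Spec.map_comp_assoc, ← h₂,
      ← Scheme.Hom.appLE, ← hW.isoSpec_hom, IsAffineOpen.SpecMap_appLE_fromSpec sX hU hW i,
      ← Iso.eq_inv_comp, IsAffineOpen.isoSpec_inv_ι_assoc]

set_option backward.isDefEq.respectTransparency.types false in
lemma spread_out_of_lfp' [LocallyOfFinitePresentation sY] {x : X}
    (φ : Spec (X.presheaf.stalk x) ⟶ Y)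
    (h : φ ≫ sY = X.fromSpecStalk x ≫ sX) :
    ∃ (U : X.Opens) (hxU : x ∈ U) (f : U.toScheme ⟶ Y),
      φ = U.fromSpecStalkOfMem x hxU ≫ f ∧ f ≫ sY = U.ι ≫ sX := by
  have := spread_out_of_lfp sX sY ?_ (Scheme.stalkClosedPointTo φ) ?_
  · simpa only [Scheme.Spec_stalkClosedPointTo_fromSpecStalk] using this
  · rw [← Scheme.Hom.comp_apply, h, Scheme.Hom.comp_apply, Scheme.fromSpecStalk_closedPoint]
  · apply Spec.map_injective
    rw [← cancel_mono (S.fromSpecStalk _)]
    simpa only [Spec.map_comp, Category.assoc, Scheme.SpecMap_stalkMap_fromSpecStalk,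
      Scheme.Spec_stalkClosedPointTo_fromSpecStalk_assoc,
      Scheme.SpecMap_stalkSpecializes_fromSpecStalk]

end Groth.Agent.Helper3.SpreadFP
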