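import Mathlib
import Groth.Agent.Helper3.BirResField
import Groth.Agent.Helper3.SpreadFP
import Groth.Agent.Helper3.LocalIso2
import Groth.Agent.Helper4.SchLFP

/-!
Irreducible `S`-schemes locally of finite presentation are `S`-birational iff their generic points
lie over the same point `s` of `S` and their generic stalks are isomorphic over `𝒪_{S,s}`.
-/

set_option autoImplicit false

namespace Groth.Agent.Helper3.BirStalkIso

open AlgebraicGeometry CategoryTheory Limits

universe u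

lemma stalkMap_congr_eqToHom {U S : Scheme.{u}} {F G : U ⟶ S} (e : F = G) (u : U) :
    F.stalkMap u = eqToHom (by rw [e]) ≫ G.stalkMap u := by
  subst e; simp

/-- Two open immersions from a common source, compatible with structure maps, induce a
compatible isomorphism of stalks. -/
lemma exists_stalk_iso {S X Y U : Scheme.{u}} (sX : X ⟶ S) (sY : Y ⟶ S)
    (a : U ⟶ X) (b : U ⟶ Y) [IsOpenImmersion a] [IsOpenImmersion b] (H : b ≫ sY = a ≫ sX)
    (u : U) (x : X) (y : Y) (hx : a u = x) (hy : b u = y) :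
    ∃ (hs : sX.base x = sY.base y) (e : X.presheaf.stalk x ≅ Y.presheaf.stalk y),
      sX.stalkMap x ≫ e.hom =
        eqToHom (congrArg S.presheaf.stalk hs) ≫ sY.stalkMap y := by
  subst hx hy
  have hs : sX (a u) = sY (b u) := by
    have := congrArg (fun g : U ⟶ S => g u) H
    exact this.symm
  refine ⟨hs, asIso (a.stalkMap u) ≪≫ (asIso (b.stalkMap u)).symm, ?_⟩
  have key : sX.stalkMap (a u) ≫ a.stalkMap u =
      eqToHom (congrArg S.presheaf.stalk hs) ≫ sY.stalkMap (b u) ≫ b.stalkMap u := by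
    have h1 := stalkMap_congr_eqToHom H.symm u
    rw [Scheme.Hom.stalkMap_comp, Scheme.Hom.stalkMap_comp] at h1
    exact h1
  simp only [Iso.trans_hom, asIso_hom, Iso.symm_hom, asIso_inv]
  rw [← Category.assoc, key, Category.assoc, Category.assoc, IsIso.hom_inv_id, Category.comp_id]

theorem forward {S X Y : Scheme.{u}} [IrreducibleSpace ↥X] [IrreducibleSpace ↥Y]
    (sX : X ⟶ S) (sY : Y ⟶ S) (h : Scheme.BirationalOver sX sY) :
    ∃ (hs : sX.base (genericPoint ↥X) = sY.base (genericPoint ↥Y))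
      (e : X.presheaf.stalk (genericPoint ↥X) ≅ Y.presheaf.stalk (genericPoint ↥Y)),
      sX.stalkMap (genericPoint ↥X) ≫ e.hom =
        eqToHom (congrArg S.presheaf.stalk hs) ≫ sY.stalkMap (genericPoint ↥Y) := by
  obtain ⟨p, hp⟩ := h
  have hne : Nonempty p.source := by
    obtain ⟨z, hz⟩ := p.dense_source.nonempty
    exact ⟨⟨z, hz⟩⟩
  have hirr : IrreducibleSpace ↥(p.source : Scheme) := by
    have h1 : IsIrreducible ((p.source : Set X)) :=
      ⟨p.dense_source.nonempty, (PreirreducibleSpace.isPreirreducible_univ (X := X)).open_subset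
        p.source.2 (Set.subset_univ _)⟩
    exact (isIrreducible_iff_irreducibleSpace.mp h1 :)
  have hp' : (p.iso.hom ≫ p.target.ι) ≫ sY = p.source.ι ≫ sX := by
    rw [Category.assoc]; exact hp
  exact exists_stalk_iso sX sY p.source.ι (p.iso.hom ≫ p.target.ι) hp'
    (genericPoint p.source) _ _ (genericPoint_eq_of_isOpenImmersion p.source.ι)
    (genericPoint_eq_of_isOpenImmersion (p.iso.hom ≫ p.target.ι))

lemma eqToHom_fromSpecStalk {S : Scheme.{u}} {s s' : S} (h : s = s') :
    Spec.map (eqToHom (congrArg S.presheaf.stalk h)) ≫ S.fromSpecStalk s = S.fromSpecStalk s' := by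
  subst h; simp

lemma spec_comp_eq {S X Y : Scheme.{u}} (sX : X ⟶ S) (sY : Y ⟶ S) (x : X) (y : Y)
    (hs : sX.base x = sY.base y) (e : X.presheaf.stalk x ≅ Y.presheaf.stalk y)
    (he : sX.stalkMap x ≫ e.hom = eqToHom (congrArg S.presheaf.stalk hs) ≫ sY.stalkMap y) :
    (Spec.map e.hom ≫ X.fromSpecStalk x) ≫ sX = Y.fromSpecStalk y ≫ sY := by
  rw [Category.assoc, ← Scheme.SpecMap_stalkMap_fromSpecStalk, ← Spec.map_comp_assoc, he,
    Spec.map_comp_assoc, eqToHom_fromSpecStalk hs, Scheme.SpecMap_stalkMap_fromSpecStalk]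

theorem backward_aux {S X Y : Scheme.{u}} [IrreducibleSpace ↥X] [IrreducibleSpace ↥Y]
    (sX : X ⟶ S) (sY : Y ⟶ S)
    [LocallyOfFinitePresentation sX] [LocallyOfFinitePresentation sY] (x : X) (y : Y)
    (hs : sX.base x = sY.base y) (e : X.presheaf.stalk x ≅ Y.presheaf.stalk y)
    (he : sX.stalkMap x ≫ e.hom = eqToHom (congrArg S.presheaf.stalk hs) ≫ sY.stalkMap y) :
    Scheme.BirationalOver sX sY := by
  have hΦ : (Spec.map e.hom ≫ X.fromSpecStalk x) ≫ sX = Y.fromSpecStalk y ≫ sY :=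
    spec_comp_eq sX sY x y hs e he
  obtain ⟨V, hyV, g, hg1, hg2⟩ :=
    SpreadFP.spread_out_of_lfp' sY sX (Spec.map e.hom ≫ X.fromSpecStalk x) hΦ
  have h1 : IsIso (Scheme.stalkClosedPointTo (Spec.map e.hom ≫ X.fromSpecStalk x)) :=
    BirResField.isIso_stalkClosedPointTo_SpecMap_fromSpecStalk x e.hom
  have h2 : IsIso (Scheme.stalkClosedPointTo (V.fromSpecStalkOfMem y hyV ≫ g)) :=
    BirResField.isIso_stalkClosedPointTo_congr hg1 h1
  rw [Scheme.stalkClosedPointTo_comp] at h2
  have h3 : IsIso (Scheme.stalkClosedPointTo (V.fromSpecStalkOfMem y hyV)) := by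
    have h4 : IsIso (Scheme.stalkClosedPointTo (Spec.map (𝟙 _) ≫ Y.fromSpecStalk y)) :=
      BirResField.isIso_stalkClosedPointTo_SpecMap_fromSpecStalk y (𝟙 _)
    have h5 : Spec.map (𝟙 _) ≫ Y.fromSpecStalk y = V.fromSpecStalkOfMem y hyV ≫ V.ι := by
      rw [Spec.map_id, Category.id_comp, Scheme.Opens.fromSpecStalkOfMem_ι]
    have h6 := BirResField.isIso_stalkClosedPointTo_congr h5 h4
    rw [Scheme.stalkClosedPointTo_comp] at h6
    exact @IsIso.of_isIso_comp_left _ _ _ _ _ (V.ι.stalkMap _)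
      (Scheme.stalkClosedPointTo (V.fromSpecStalkOfMem y hyV)) inferInstance h6
  have h7 : IsIso (g.stalkMap
      ((V.fromSpecStalkOfMem y hyV) (IsLocalRing.closedPoint (Y.presheaf.stalk y)))) :=
    @IsIso.of_isIso_comp_right _ _ _ _ _ (g.stalkMap _)
      (Scheme.stalkClosedPointTo (V.fromSpecStalkOfMem y hyV)) h3 h2
  have hb : Function.Bijective (g.stalkMap
      ((V.fromSpecStalkOfMem y hyV) (IsLocalRing.closedPoint (Y.presheaf.stalk y)))).hom :=
    (ConcreteCategory.isIso_iff_bijective _).mp h7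
  have hlfp : LocallyOfFinitePresentation g := by
    have : LocallyOfFinitePresentation (g ≫ sX) := by rw [hg2]; infer_instance
    exact Groth.Agent.Helper4.SchLFP.locallyOfFinitePresentation_of_comp g sX
  obtain ⟨U', hvU', himm⟩ := LocalIso.exists_isOpenImmersion_nbhd_of_lfp g _ hb
  have hne : Nonempty ↥(U' : Scheme) := ⟨⟨_, hvU'⟩⟩
  have hd1 : IsDominant (U'.ι ≫ g) := BirResField.isDominant_of_isOpenImmersion _
  have hd2 : IsDominant (U'.ι ≫ V.ι) := BirResField.isDominant_of_isOpenImmersion _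
  have hb1 : Scheme.BirationalOver ((U'.ι ≫ g) ≫ sX) sX :=
    Scheme.Hom.birationalOver (U'.ι ≫ g) sX _ rfl
  have hb2 : Scheme.BirationalOver ((U'.ι ≫ V.ι) ≫ sY) sY :=
    Scheme.Hom.birationalOver (U'.ι ≫ V.ι) sY _ rfl
  have heq : (U'.ι ≫ g) ≫ sX = (U'.ι ≫ V.ι) ≫ sY := by
    rw [Category.assoc, Category.assoc, hg2]
  rw [heq] at hb1
  exact hb1.symm.trans hb2

theorem main {S X Y : Scheme.{u}}
    [IrreducibleSpace ↥X] [IrreducibleSpace ↥Y] (sX : X ⟶ S) (sY : Y ⟶ S)
    [LocallyOfFinitePresentation sX] [LocallyOfFinitePresentation sY] :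
    Scheme.BirationalOver sX sY ↔
      ∃ (hs : sX.base (genericPoint ↥X) = sY.base (genericPoint ↥Y))
        (e : X.presheaf.stalk (genericPoint ↥X) ≅ Y.presheaf.stalk (genericPoint ↥Y)),
        sX.stalkMap (genericPoint ↥X) ≫ e.hom =
          eqToHom (congrArg S.presheaf.stalk hs) ≫ sY.stalkMap (genericPoint ↥Y) := by
  refine ⟨forward sX sY, ?_⟩
  rintro ⟨hs, e, he⟩
  exact backward_aux sX sY _ _ hs e he

end Groth.Agent.Helper3.BirStalkIso
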