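import Mathlib
import Groth.Prelude.Def_SheafNL

set_option autoImplicit false
set_option linter.style.haveILetI false
set_option linter.unusedSectionVars false
set_option linter.unusedVariables false
set_option linter.style.haveILetI false
set_option linter.unusedSectionVars false
set_option linter.unusedVariables false

universe u

open CategoryTheory CategoryTheory.Limits TensorProduct Algebra HomologicalComplex

namespace Groth.Agent.Helper3.NLA

section DoubleHomotopy

variable {C : Type*} [Category C] [Preadditive C] [HasZeroObject C]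
  {X₀ X₁ Y₀ Y₁ : C} (dX : X₀ ⟶ X₁) (dY : Y₀ ⟶ Y₁)

lemma hne : (-1 : ℤ) ≠ 0 := by decide

/-- homotopy between two maps of two-term complexes given by a diagonal map. -/
noncomputable def doubleHomotopy (hr hr' : (ComplexShape.up ℤ).Rel (-1) 0)
    (φ ψ : double dX hr ⟶ double dY hr') (s : X₁ ⟶ Y₀)
    (h0 : φ.f (-1) = (doubleXIso₀ dX hr).hom ≫ dX ≫ s ≫ (doubleXIso₀ dY hr').inv + ψ.f (-1))
    (h1 : φ.f 0 = (doubleXIso₁ dX hr hne).hom ≫ s ≫ dY ≫ (doubleXIso₁ dY hr' hne).inv + ψ.f 0) :
    Homotopy φ ψ where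
  hom i j := if h : i = 0 ∧ j = -1 then
      eqToHom (by rw [h.1]) ≫ (doubleXIso₁ dX hr hne).hom ≫ s ≫ (doubleXIso₀ dY hr').inv ≫
        eqToHom (by rw [h.2])
    else 0
  zero i j hij := by
    rw [dif_neg]
    rintro ⟨rfl, rfl⟩
    exact hij (by simp)
  comm i := by
    by_cases hi0 : i = -1
    · subst hi0
      rw [dNext_eq _ (show (ComplexShape.up ℤ).Rel (-1) 0 by simp),
        prevD_eq _ (show (ComplexShape.up ℤ).Rel (-2) (-1) by simp)]
      rw [dif_pos ⟨rfl, rfl⟩, dif_neg (by decide), zero_comp, add_zero, h0, double_d _ _ hne]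
      simp
    · by_cases hi1 : i = 0
      · subst hi1
        rw [dNext_eq _ (show (ComplexShape.up ℤ).Rel 0 1 by simp),
          prevD_eq _ (show (ComplexShape.up ℤ).Rel (-1) 0 by simp)]
        rw [dif_neg (by decide), dif_pos ⟨rfl, rfl⟩, comp_zero, zero_add, h1, double_d _ _ hne]
        simp
      · exact (isZero_double_X dX hr i hi0 hi1).eq_of_src _ _

end DoubleHomotopy

section Isos

variable {R S : Type u} [CommRing R] [CommRing S] [Algebra R S] (P : Extension.{u} R S)

noncomputable def cxIso₀ : (NLCx.cx P).X (-1) ≅ ModuleCat.of S P.Cotangent :=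
  doubleXIso₀ _ _

noncomputable def cxIso₁ : (NLCx.cx P).X 0 ≅ ModuleCat.of S P.CotangentSpace :=
  doubleXIso₁ _ _ hne

lemma cx_d : (NLCx.cx P).d (-1) 0 =
    (cxIso₀ P).hom ≫ ModuleCat.ofHom P.cotangentComplex ≫ (cxIso₁ P).inv :=
  double_d _ _ hne

lemma isZero_cx_X (i : ℤ) (h0 : i ≠ -1) (h1 : i ≠ 0) : IsZero ((NLCx.cx P).X i) :=
  isZero_double_X _ _ i h0 h1

variable (S' : Type u) [CommRing S'] [Algebra S S']

noncomputable def bcIso₀ : (NLCx.bcCx P S').X (-1) ≅ ModuleCat.of S' (S' ⊗[S] P.Cotangent) :=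
  doubleXIso₀ _ _

noncomputable def bcIso₁ : (NLCx.bcCx P S').X 0 ≅ ModuleCat.of S' (S' ⊗[S] P.CotangentSpace) :=
  doubleXIso₁ _ _ hne

lemma bcCx_d : (NLCx.bcCx P S').d (-1) 0 =
    (bcIso₀ P S').hom ≫ ModuleCat.ofHom (P.cotangentComplex.baseChange S') ≫ (bcIso₁ P S').inv :=
  double_d _ _ hne

lemma isZero_bcCx_X (i : ℤ) (h0 : i ≠ -1) (h1 : i ≠ 0) : IsZero ((NLCx.bcCx P S').X i) :=
  isZero_double_X _ _ i h0 h1

end Isos

section NL

variable {R S R' S' : Type u} [CommRing R] [CommRing S] [CommRing R'] [CommRing S']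
  [Algebra R S] [Algebra R' S'] [Algebra R R'] [Algebra S S'] [Algebra R S']
  [IsScalarTower R R' S'] [IsScalarTower R S S']
  {P : Extension.{u} R S} {P' : Extension.{u} R' S'}

lemma lbc_sub_cot (f g : P.Hom P') :
    LinearMap.liftBaseChange S' (Extension.Cotangent.map f) =
    LinearMap.liftBaseChange S' (f.sub g) ∘ₗ P.cotangentComplex.baseChange S' +
      LinearMap.liftBaseChange S' (Extension.Cotangent.map g) := by
  ext x
  have := congr($(Extension.Cotangent.map_sub_map f g) x)
  change LinearMap.liftBaseChange S' (Extension.Cotangent.map f) (1 ⊗ₜ x) =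
    LinearMap.liftBaseChange S' (f.sub g) (P.cotangentComplex.baseChange S' (1 ⊗ₜ x)) +
    LinearMap.liftBaseChange S' (Extension.Cotangent.map g) (1 ⊗ₜ x)
  rw [LinearMap.baseChange_tmul, LinearMap.liftBaseChange_tmul, LinearMap.liftBaseChange_tmul,
    LinearMap.liftBaseChange_tmul, one_smul, one_smul, one_smul]
  exact sub_eq_iff_eq_add.mp this

lemma lbc_sub_sp (f g : P.Hom P') :
    LinearMap.liftBaseChange S' (Extension.CotangentSpace.map f) =
    P'.cotangentComplex ∘ₗ LinearMap.liftBaseChange S' (f.sub g) +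
      LinearMap.liftBaseChange S' (Extension.CotangentSpace.map g) := by
  apply TensorProduct.AlgebraTensorModule.curry_injective
  ext x
  have := congr($(Extension.CotangentSpace.map_sub_map f g) x)
  change LinearMap.liftBaseChange S' (Extension.CotangentSpace.map f) (1 ⊗ₜ x) =
    P'.cotangentComplex (LinearMap.liftBaseChange S' (f.sub g) (1 ⊗ₜ x)) +
    LinearMap.liftBaseChange S' (Extension.CotangentSpace.map g) (1 ⊗ₜ x)
  rw [LinearMap.liftBaseChange_tmul, LinearMap.liftBaseChange_tmul,
    LinearMap.liftBaseChange_tmul, one_smul, one_smul, one_smul]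
  exact sub_eq_iff_eq_add.mp this

lemma bcMap_f₀ (f : P.Hom P') : (NLCx.bcMap f).f (-1) =
    (bcIso₀ P S').hom ≫
      ModuleCat.ofHom (LinearMap.liftBaseChange S' (Extension.Cotangent.map f)) ≫
      (cxIso₀ P').inv := by
  dsimp only [NLCx.bcMap]
  rw [mkHomFromDouble_f₀]
  rfl

lemma bcMap_f₁ (f : P.Hom P') : (NLCx.bcMap f).f 0 =
    (bcIso₁ P S').hom ≫
      ModuleCat.ofHom (LinearMap.liftBaseChange S' (Extension.CotangentSpace.map f)) ≫
      (cxIso₁ P').inv := by
  dsimp only [NLCx.bcMap]
  rw [mkHomFromDouble_f₁]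
  rfl

/-- two morphisms of extensions induce homotopic base change maps. -/
noncomputable def bcHomotopy (f g : P.Hom P') : Homotopy (NLCx.bcMap f) (NLCx.bcMap g) :=
  doubleHomotopy _ _ _ _ _ _ (ModuleCat.ofHom (LinearMap.liftBaseChange S' (f.sub g)))
    (by
      rw [bcMap_f₀, bcMap_f₀]
      have key : ModuleCat.ofHom (LinearMap.liftBaseChange S' (Extension.Cotangent.map f)) =
          ModuleCat.ofHom (P.cotangentComplex.baseChange S') ≫
            ModuleCat.ofHom (LinearMap.liftBaseChange S' (f.sub g)) +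
          ModuleCat.ofHom (LinearMap.liftBaseChange S' (Extension.Cotangent.map g)) := by
        rw [lbc_sub_cot f g, ModuleCat.ofHom_add, ModuleCat.ofHom_comp]
      rw [key]
      simp only [Preadditive.add_comp, Preadditive.comp_add, Category.assoc]
      rfl)
    (by
      rw [bcMap_f₁, bcMap_f₁]
      have key : ModuleCat.ofHom (LinearMap.liftBaseChange S' (Extension.CotangentSpace.map f)) =
          ModuleCat.ofHom (LinearMap.liftBaseChange S' (f.sub g)) ≫
            ModuleCat.ofHom P'.cotangentComplex +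
          ModuleCat.ofHom (LinearMap.liftBaseChange S' (Extension.CotangentSpace.map g)) := by
        rw [lbc_sub_sp f g, ModuleCat.ofHom_add, ModuleCat.ofHom_comp]
      rw [key]
      simp only [Preadditive.add_comp, Preadditive.comp_add, Category.assoc]
      rfl)

end NL

section SameTop

variable {R S : Type u} [CommRing R] [CommRing S] [Algebra R S]
  {P P' P'' : Extension.{u} R S}

lemma map_f₀ (f : P.Hom P') : (NLCx.map f).f (-1) =
    (cxIso₀ P).hom ≫ ModuleCat.ofHom (Extension.Cotangent.map f) ≫ (cxIso₀ P').inv := by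
  dsimp only [NLCx.map]
  rw [mkHomFromDouble_f₀]
  rfl

lemma map_f₁ (f : P.Hom P') : (NLCx.map f).f 0 =
    (cxIso₁ P).hom ≫ ModuleCat.ofHom (Extension.CotangentSpace.map f) ≫ (cxIso₁ P').inv := by
  dsimp only [NLCx.map]
  rw [mkHomFromDouble_f₁]
  rfl

lemma cx_hom_ext {K : CochainComplex (ModuleCat.{u} S) ℤ} {φ ψ : NLCx.cx P ⟶ K}
    (h0 : φ.f (-1) = ψ.f (-1)) (h1 : φ.f 0 = ψ.f 0) : φ = ψ :=
  from_double_hom_ext h0 h1

lemma map_id : NLCx.map (Extension.Hom.id P) = 𝟙 _ := by
  apply cx_hom_ext
  · rw [map_f₀, Extension.Cotangent.map_id]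
    change (cxIso₀ P).hom ≫ 𝟙 _ ≫ (cxIso₀ P).inv = 𝟙 _
    simp
  · rw [map_f₁, Extension.CotangentSpace.map_id]
    change (cxIso₁ P).hom ≫ 𝟙 _ ≫ (cxIso₁ P).inv = 𝟙 _
    simp

lemma map_comp (f : P.Hom P') (g : P'.Hom P'') :
    NLCx.map (g.comp f) = NLCx.map f ≫ NLCx.map g := by
  apply cx_hom_ext
  · rw [HomologicalComplex.comp_f, map_f₀, map_f₀, map_f₀]
    simp only [Category.assoc, Iso.inv_hom_id_assoc]
    congr 1
    rw [← Category.assoc, ← ModuleCat.ofHom_comp]
    congr 2
    rw [Extension.Cotangent.map_comp]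
    rfl
  · rw [HomologicalComplex.comp_f, map_f₁, map_f₁, map_f₁]
    simp only [Category.assoc, Iso.inv_hom_id_assoc]
    congr 1
    rw [← Category.assoc, ← ModuleCat.ofHom_comp]
    congr 2
    rw [Extension.CotangentSpace.map_comp]
    rfl

/-- two morphisms of extensions of the same algebra induce homotopic maps. -/
noncomputable def mapHomotopy (f g : P.Hom P') : Homotopy (NLCx.map f) (NLCx.map g) :=
  doubleHomotopy _ _ _ _ _ _ (ModuleCat.ofHom (f.sub g))
    (by
      rw [map_f₀, map_f₀]
      have key : ModuleCat.ofHom (Extension.Cotangent.map f) =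
          ModuleCat.ofHom P.cotangentComplex ≫ ModuleCat.ofHom (f.sub g) +
          ModuleCat.ofHom (Extension.Cotangent.map g) := by
        rw [← ModuleCat.ofHom_comp, ← ModuleCat.ofHom_add]
        congr 1
        ext x
        have := congr($(Extension.Cotangent.map_sub_map f g) x)
        exact sub_eq_iff_eq_add.mp this
      rw [key]
      simp only [Preadditive.add_comp, Preadditive.comp_add, Category.assoc]
      rfl)
    (by
      rw [map_f₁, map_f₁]
      have key : ModuleCat.ofHom (Extension.CotangentSpace.map f) =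
          ModuleCat.ofHom (f.sub g) ≫ ModuleCat.ofHom P'.cotangentComplex +
          ModuleCat.ofHom (Extension.CotangentSpace.map g) := by
        rw [← ModuleCat.ofHom_comp, ← ModuleCat.ofHom_add]
        congr 1
        apply LinearMap.ext
        intro x
        have := congr($(Extension.CotangentSpace.map_sub_map f g) x)
        exact sub_eq_iff_eq_add.mp this
      rw [key]
      simp only [Preadditive.add_comp, Preadditive.comp_add, Category.assoc]
      rfl)

/-- mutually inverse-up-to-homotopy comparison maps. -/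
noncomputable def homotopyEquiv (f : P.Hom P') (g : P'.Hom P) :
    HomotopyEquiv (NLCx.cx P) (NLCx.cx P') where
  hom := NLCx.map f
  inv := NLCx.map g
  homotopyHomInvId := by
    rw [← map_comp, ← map_id]
    exact mapHomotopy _ _
  homotopyInvHomId := by
    rw [← map_comp, ← map_id]
    exact mapHomotopy _ _

end SameTop

section Comp

variable {R S R' S' : Type u} [CommRing R] [CommRing S] [CommRing R'] [CommRing S']
  [Algebra R S] [Algebra R' S'] [Algebra R R'] [Algebra S S'] [Algebra R S']
  [IsScalarTower R R' S'] [IsScalarTower R S S']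
  {P : Extension.{u} R S} {P' P'' : Extension.{u} R' S'}

lemma bcCx_hom_ext {K : CochainComplex (ModuleCat.{u} S') ℤ} {φ ψ : NLCx.bcCx P S' ⟶ K}
    (h0 : φ.f (-1) = ψ.f (-1)) (h1 : φ.f 0 = ψ.f 0) : φ = ψ :=
  from_double_hom_ext h0 h1

lemma bcMap_comp (f : P.Hom P') (g : P'.Hom P'') :
    NLCx.bcMap (g.comp f) = NLCx.bcMap f ≫ NLCx.map g := by
  apply bcCx_hom_ext
  · rw [HomologicalComplex.comp_f, bcMap_f₀, bcMap_f₀, map_f₀]
    simp only [Category.assoc, Iso.inv_hom_id_assoc]
    congr 1
    rw [← Category.assoc, ← ModuleCat.ofHom_comp]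
    congr 2
    ext x
    change LinearMap.liftBaseChange S' (Extension.Cotangent.map (g.comp f)) (1 ⊗ₜ x) =
      Extension.Cotangent.map g (LinearMap.liftBaseChange S' (Extension.Cotangent.map f) (1 ⊗ₜ x))
    rw [LinearMap.liftBaseChange_tmul, LinearMap.liftBaseChange_tmul, one_smul, one_smul,
      Extension.Cotangent.map_comp]
    rfl
  · rw [HomologicalComplex.comp_f, bcMap_f₁, bcMap_f₁, map_f₁]
    simp only [Category.assoc, Iso.inv_hom_id_assoc]
    congr 1
    rw [← Category.assoc, ← ModuleCat.ofHom_comp]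
    congr 2
    apply TensorProduct.AlgebraTensorModule.curry_injective
    ext x
    change LinearMap.liftBaseChange S' (Extension.CotangentSpace.map (g.comp f)) (1 ⊗ₜ x) =
      Extension.CotangentSpace.map g
        (LinearMap.liftBaseChange S' (Extension.CotangentSpace.map f) (1 ⊗ₜ x))
    rw [LinearMap.liftBaseChange_tmul, LinearMap.liftBaseChange_tmul, one_smul, one_smul,
      Extension.CotangentSpace.map_comp]
    rfl

end Comp

section Criteria

variable {R S R' S' : Type u} [CommRing R] [CommRing S] [CommRing R'] [CommRing S']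
  [Algebra R S] [Algebra R' S'] [Algebra R R'] [Algebra S S'] [Algebra R S']
  [IsScalarTower R R' S'] [IsScalarTower R S S']
  {P : Extension.{u} R S} {P' : Extension.{u} R' S'}

lemma lbc_comm (f : P.Hom P') :
    P'.cotangentComplex ∘ₗ LinearMap.liftBaseChange S' (Extension.Cotangent.map f) =
      LinearMap.liftBaseChange S' (Extension.CotangentSpace.map f) ∘ₗ
        P.cotangentComplex.baseChange S' := by
  ext y
  simpa using (Extension.CotangentSpace.map_cotangentComplex f y).symm

lemma lbc_comm_apply (f : P.Hom P') (x : S' ⊗[S] P.Cotangent) :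
    P'.cotangentComplex (LinearMap.liftBaseChange S' (Extension.Cotangent.map f) x) =
      LinearMap.liftBaseChange S' (Extension.CotangentSpace.map f)
        (P.cotangentComplex.baseChange S' x) :=
  congr($(lbc_comm f) x)

theorem isIso_bcMap (f : P.Hom P')
    (h1 : Function.Bijective (LinearMap.liftBaseChange S' (Extension.Cotangent.map f)))
    (h2 : Function.Bijective (LinearMap.liftBaseChange S' (Extension.CotangentSpace.map f))) :
    IsIso (NLCx.bcMap f) := by
  have i1 : IsIso (ModuleCat.ofHom (LinearMap.liftBaseChange S' (Extension.Cotangent.map f))) := by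
    rw [ConcreteCategory.isIso_iff_bijective]
    exact h1
  have i2 : IsIso (ModuleCat.ofHom
      (LinearMap.liftBaseChange S' (Extension.CotangentSpace.map f))) := by
    rw [ConcreteCategory.isIso_iff_bijective]
    exact h2
  apply (config := { allowSynthFailures := true }) HomologicalComplex.Hom.isIso_of_components
  intro i
  by_cases hi0 : i = -1
  · subst hi0
    rw [bcMap_f₀]
    infer_instance
  · by_cases hi1 : i = 0
    · subst hi1
      rw [bcMap_f₁]
      infer_instance
    · exact ⟨0, (isZero_bcCx_X P S' i hi0 hi1).eq_of_src _ _,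
        (isZero_cx_X P' i hi0 hi1).eq_of_src _ _⟩

theorem bcH1Map_surjective (f : P.Hom P')
    (h1 : Function.Surjective (LinearMap.liftBaseChange S' (Extension.Cotangent.map f)))
    (h2 : Function.Injective (LinearMap.liftBaseChange S' (Extension.CotangentSpace.map f))) :
    Function.Surjective (NLCx.bcH1Map f) := by
  intro y
  obtain ⟨x, hx⟩ := h1 y.val
  have hy : P'.cotangentComplex y.val = 0 := y.2
  have hx' : x ∈ NLCx.bcH1 P S' := by
    change P.cotangentComplex.baseChange S' x = 0
    apply h2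
    rw [← lbc_comm_apply, hx, hy, map_zero]
  refine ⟨⟨x, hx'⟩, ?_⟩
  apply Subtype.ext
  exact hx

/-- the map on `bcH1` does not depend on the morphism of extensions. -/
theorem bcH1Map_eq (f g : P.Hom P') : NLCx.bcH1Map f = NLCx.bcH1Map g := by
  apply LinearMap.ext
  intro x
  apply Subtype.ext
  change LinearMap.liftBaseChange S' (Extension.Cotangent.map f) x.val =
    LinearMap.liftBaseChange S' (Extension.Cotangent.map g) x.val
  rw [lbc_sub_cot f g]
  have hx : P.cotangentComplex.baseChange S' x.val = 0 := x.2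
  rw [LinearMap.add_apply, LinearMap.comp_apply, hx, map_zero, zero_add]

end Criteria

end Groth.Agent.Helper3.NLA
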