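import Mathlib

/-!
Absolutely integrally closed + Zariski pair + lifting of idempotents ⇒ henselian pair.
-/

namespace Groth.Agent.Helper3.AICHens

open Polynomial

universe u

section ring
variable {R : Type*} [CommRing R] {ι : Type*} [Fintype ι] [DecidableEq ι]

theorem eps_mul (x : ι → R) (v : R) (h0 : ∏ i, x i = 0) (j : ι) :
    (v * ∏ i ∈ Finset.univ.erase j, x i) * x j = 0 := by
  rw [mul_assoc, Finset.prod_erase_mul _ _ (Finset.mem_univ j), h0, mul_zero]

theorem eps_orth (x : ι → R) (v : R) (h0 : ∏ i, x i = 0) {j k : ι} (hjk : j ≠ k) :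
    (v * ∏ i ∈ Finset.univ.erase j, x i) * (v * ∏ i ∈ Finset.univ.erase k, x i) = 0 := by
  have hk : k ∈ Finset.univ.erase j := Finset.mem_erase.2 ⟨hjk.symm, Finset.mem_univ k⟩
  rw [← Finset.mul_prod_erase _ _ hk]
  have h : x k * ∏ i ∈ Finset.univ.erase k, x i = 0 := by
    rw [Finset.mul_prod_erase _ _ (Finset.mem_univ k), h0]
  calc _ = v * v * (∏ i ∈ (Finset.univ.erase j).erase k, x i) *
        (x k * ∏ i ∈ Finset.univ.erase k, x i) := by ring
    _ = 0 := by rw [h, mul_zero]

theorem eps_sum (x : ι → R) (v : R) (hv : v * ∑ j, ∏ i ∈ Finset.univ.erase j, x i = 1) :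
    ∑ j, v * ∏ i ∈ Finset.univ.erase j, x i = 1 := by
  rw [← Finset.mul_sum, hv]

theorem idem_unique {A : Type*} [CommRing A] (I : Ideal A) (hI : I ≤ Ideal.jacobson ⊥) {e e' : A}
    (he : IsIdempotentElem e) (he' : IsIdempotentElem e') (h : e - e' ∈ I) : e = e' := by
  have h1 : e * e = e := he
  have h2 : e' * e' = e' := he'
  have h3 : (e - e') ^ 3 = e - e' := by
    calc (e - e') ^ 3 = e * e * e - 3 * (e * e) * e' + 3 * e * (e' * e') - e' * e' * e' := by ring
      _ = e - e' := by rw [h1, h1, h2, h2]; ring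
  have hd : (e - e') * (1 - (e - e') ^ 2) = 0 := by
    calc (e - e') * (1 - (e - e') ^ 2) = (e - e') - (e - e') ^ 3 := by ring
      _ = 0 := by rw [h3]; ring
  have hu : IsUnit (1 - (e - e') ^ 2) := by
    have hm : -(e - e') * (e - e') ∈ Ideal.jacobson (⊥ : Ideal A) := hI (I.mul_mem_left _ h)
    have := Ideal.mem_jacobson_bot.1 hm 1
    convert this using 1; ring
  exact sub_eq_zero.1 (hu.mul_left_eq_zero.1 hd)

end ring

theorem main (A : Type u) [CommRing A]
    (hA : ∀ f : A[X], f.Monic → ∃ s : Multiset A, f = (s.map fun a => X - C a).prod) (I : Ideal A)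
    (hI : I ≤ Ideal.jacobson (⊥ : Ideal A))
    (hidem : ∀ e : A ⧸ I, IsIdempotentElem e →
      ∃ e' : A, IsIdempotentElem e' ∧ Ideal.Quotient.mk I e' = e) :
    HenselianRing A I := by
  refine ⟨hI, fun f hf a₀ h₁ h₂ => ?_⟩
  obtain ⟨s, hs⟩ := hA f hf
  obtain ⟨l, rfl⟩ := Quot.exists_rep s
  have hf' : f = ∏ i : Fin l.length, (X - C l[i.1]) := by
    rw [hs, Fin.prod_univ_fun_getElem l (fun a => X - C a)]
    rfl
  obtain ⟨n, a, hfa⟩ : ∃ (n : ℕ) (a : Fin n → A), f = ∏ i : Fin n, (X - C (a i)) :=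
    ⟨l.length, fun i => l[i.1], hf'⟩
  clear hf' hs l
  -- the elements x i = a₀ - a i
  set x : Fin n → A := fun i => a₀ - a i with hx
  have hev : f.eval a₀ = ∏ i, x i := by
    rw [hfa, eval_prod]; simp [hx]
  have hder : f.derivative.eval a₀ = ∑ j, ∏ i ∈ Finset.univ.erase j, x i := by
    rw [hfa, derivative_prod_finset, eval_finsetSum]
    refine Finset.sum_congr rfl fun j _ => ?_
    simp [eval_prod, hx]
  let q := Ideal.Quotient.mk I
  have h0 : ∏ i, q (x i) = 0 := by
    rw [← map_prod, ← hev]; exact Ideal.Quotient.eq_zero_iff_mem.2 h₁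
  obtain ⟨v, hv⟩ := h₂.exists_left_inv
  have hv' : v * ∑ j, ∏ i ∈ Finset.univ.erase j, q (x i) = 1 := by
    rw [← hv, hder, map_sum]; simp only [map_prod]; rfl
  -- idempotents downstairs
  set ε : Fin n → A ⧸ I := fun j => v * ∏ i ∈ Finset.univ.erase j, q (x i) with hε
  have hεsum : ∑ j, ε j = 1 := eps_sum _ v hv'
  have hεorth : ∀ j k, j ≠ k → ε j * ε k = 0 := fun j k hjk => eps_orth _ v h0 hjk
  have hεx : ∀ j, ε j * q (x j) = 0 := fun j => eps_mul _ v h0 j
  have hεid : ∀ j, IsIdempotentElem (ε j) := by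
    intro j
    have : ε j * ∑ k, ε k = ε j := by rw [hεsum, mul_one]
    rw [Finset.mul_sum, Finset.sum_eq_single j (fun k _ hk => hεorth j k hk.symm)
      (fun h => (h (Finset.mem_univ j)).elim)] at this
    exact this
  choose e he_id he_q using fun j => hidem (ε j) (hεid j)
  have he_orth : ∀ j k, j ≠ k → e j * e k = 0 := by
    intro j k hjk
    have h1 : IsIdempotentElem (e j * e k) := (he_id j).mul (he_id k)
    refine idem_unique I hI h1 IsIdempotentElem.zero ?_
    rw [sub_zero, ← Ideal.Quotient.eq_zero_iff_mem, map_mul, he_q, he_q, hεorth j k hjk]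
  have he_sum : ∑ j, e j = 1 := by
    have h1 : IsIdempotentElem (∑ j, e j) := by
      change (∑ j, e j) * (∑ j, e j) = ∑ j, e j
      rw [Finset.sum_mul]
      refine Finset.sum_congr rfl fun j _ => ?_
      rw [Finset.mul_sum, Finset.sum_eq_single j (fun k _ hk => he_orth j k hk.symm)
        (fun h => (h (Finset.mem_univ j)).elim)]
      exact he_id j
    refine idem_unique I hI h1 IsIdempotentElem.one ?_
    rw [← Ideal.Quotient.eq_zero_iff_mem, map_sub, map_sum, map_one]
    simp only [he_q, hεsum, sub_self]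
  -- the root
  refine ⟨∑ j, e j * a j, ?_, ?_⟩
  · have hj : ∀ j, e j * (∑ k, e k * a k - a j) = 0 := by
      intro j
      rw [mul_sub, Finset.mul_sum, Finset.sum_eq_single j
        (fun k _ hk => by rw [← mul_assoc, he_orth j k hk.symm, zero_mul])
        (fun h => (h (Finset.mem_univ j)).elim), ← mul_assoc, (he_id j).eq, sub_self]
    have hroot : f.eval (∑ j, e j * a j) = ∏ i, (∑ k, e k * a k - a i) := by
      rw [hfa, eval_prod]; simp
    rw [IsRoot, hroot]
    have : ∀ j, e j * ∏ i, (∑ k, e k * a k - a i) = 0 := by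
      intro j
      rw [← Finset.mul_prod_erase _ _ (Finset.mem_univ j), ← mul_assoc, hj j, zero_mul]
    calc ∏ i, (∑ k, e k * a k - a i) = (∑ j, e j) * ∏ i, (∑ k, e k * a k - a i) := by
          rw [he_sum, one_mul]
      _ = 0 := by rw [Finset.sum_mul]; exact Finset.sum_eq_zero fun j _ => this j
  · have : ∑ j, e j * a j - a₀ = -∑ j, e j * x j := by
      calc ∑ j, e j * a j - a₀ = ∑ j, e j * a j - (∑ j, e j) * a₀ := by rw [he_sum, one_mul]
        _ = -∑ j, e j * x j := by
          rw [Finset.sum_mul, ← Finset.sum_sub_distrib, ← Finset.sum_neg_distrib]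
          refine Finset.sum_congr rfl fun j _ => ?_
          simp only [hx]; ring
    rw [this]
    refine I.neg_mem (I.sum_mem fun j _ => ?_)
    rw [← Ideal.Quotient.eq_zero_iff_mem, map_mul, he_q]
    exact hεx j

end Groth.Agent.Helper3.AICHens
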