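import Mathlib

/-!
Lemma K: for a Zariski pair `(A, I)`, a monic `f`, an idempotent `e` of `A[X]/(f)` compatible modulo
`I` with monic `g₀`, `h₀` (`deg g₀ + deg h₀ = deg f`, `e g₀ ≡ 0`, `(1-e) h₀ ≡ 0` mod `I`), `f`
factors as `g * h` with `g ≡ g₀`, `h ≡ h₀` mod `I`.
-/

namespace Groth.Agent.Helper3.HensK

open Polynomial

universe u

variable {A : Type u} [CommRing A]

/-- Elements of `I • ⊤` in `degreeLT A r` have all coefficients in `I`. -/
theorem coeff_mem_of_mem_smul_top (I : Ideal A) (r : ℕ) (p : degreeLT A r)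
    (hp : p ∈ I • (⊤ : Submodule A (degreeLT A r))) (i : ℕ) : (p : A[X]).coeff i ∈ I := by
  let L : degreeLT A r →ₗ[A] A := (lcoeff A i).comp (degreeLT A r).subtype
  have h1 : L p ∈ (I • (⊤ : Submodule A (degreeLT A r))).map L := Submodule.mem_map_of_mem hp
  rw [Submodule.map_smul''] at h1
  have h2 : I • Submodule.map L ⊤ ≤ I • (⊤ : Submodule A A) := Submodule.smul_mono le_rfl le_top
  have h3 := h2 h1
  rw [smul_eq_mul, Ideal.mul_top] at h3
  exact h3

theorem monic_degree_eq {p : A[X]} [Nontrivial A] (hp : p.Monic) :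
    p.degree = (p.natDegree : WithBot ℕ) := degree_eq_natDegree hp.ne_zero

/-- Two monic polynomials of the same degree differ by a polynomial of smaller degree. -/
theorem sub_mem_degreeLT [Nontrivial A] {p q : A[X]} (hp : p.Monic) (hq : q.Monic) {r : ℕ}
    (hpr : p.natDegree = r) (hqr : q.natDegree = r) : p - q ∈ degreeLT A r := by
  rw [mem_degreeLT]
  have hd : p.degree = q.degree := by rw [monic_degree_eq hp, monic_degree_eq hq, hpr, hqr]
  have := degree_sub_lt_left hd hp.ne_zero (by rw [hp.leadingCoeff, hq.leadingCoeff])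
  rwa [monic_degree_eq hp, hpr] at this

theorem lemmaK (I : Ideal A) (hI : I ≤ Ideal.jacobson ⊥)
    (f : A[X]) (hf : f.Monic) (e : AdjoinRoot f) (he : IsIdempotentElem e)
    (g₀ h₀ : A[X]) (hg₀ : g₀.Monic) (hh₀ : h₀.Monic)
    (hdeg : g₀.natDegree + h₀.natDegree = f.natDegree)
    (h1 : e * AdjoinRoot.mk f g₀ ∈ I.map (algebraMap A (AdjoinRoot f)))
    (h2 : (1 - e) * AdjoinRoot.mk f h₀ ∈ I.map (algebraMap A (AdjoinRoot f))) :
    ∃ g h : A[X], g.Monic ∧ h.Monic ∧ f = g * h ∧
      g.map (Ideal.Quotient.mk I) = g₀.map (Ideal.Quotient.mk I) ∧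
      h.map (Ideal.Quotient.mk I) = h₀.map (Ideal.Quotient.mk I) ∧
      e * AdjoinRoot.mk f g = 0 ∧ (1 - e) * AdjoinRoot.mk f h = 0 := by
  rcases subsingleton_or_nontrivial A with hs | hnt
  · have : Subsingleton (AdjoinRoot f) := (AdjoinRoot.mk_surjective (g := f)).subsingleton
    exact ⟨g₀, h₀, hg₀, hh₀, Subsingleton.elim _ _, rfl, rfl, Subsingleton.elim _ _,
      Subsingleton.elim _ _⟩
  set r := g₀.natDegree with hr
  set s := h₀.natDegree with hs
  set J : Submodule A (AdjoinRoot f) := I • ⊤ with hJ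
  have hJmem : ∀ w : AdjoinRoot f, w ∈ J ↔ w ∈ I.map (algebraMap A (AdjoinRoot f)) := by
    intro w; rw [hJ, Ideal.smul_top_eq_map]; rfl
  have he' : e * (1 - e) = 0 := by rw [mul_sub, mul_one, he.eq, sub_self]
  have he'' : (1 - e) * (1 - e) = 1 - e := he.one_sub.eq
  let mkL : A[X] →ₗ[A] AdjoinRoot f := (AdjoinRoot.mkₐ f).toLinearMap
  let φ₁ : degreeLT A r →ₗ[A] AdjoinRoot f :=
    (LinearMap.mulLeft A e).comp (mkL.comp (degreeLT A r).subtype)
  let φ₂ : degreeLT A s →ₗ[A] AdjoinRoot f :=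
    (LinearMap.mulLeft A (1 - e)).comp (mkL.comp (degreeLT A s).subtype)
  let φ : degreeLT A r × degreeLT A s →ₗ[A] AdjoinRoot f := φ₁.coprod φ₂
  have φ_apply : ∀ (u : degreeLT A r) (v : degreeLT A s),
      φ (u, v) = e * AdjoinRoot.mk f u + (1 - e) * AdjoinRoot.mk f v := by
    intro u v; rfl
  -- Step 1: surjectivity of φ by Nakayama
  have hmodg : ∀ p : A[X], e * AdjoinRoot.mk f p ∈ LinearMap.range φ ⊔ J := by
    intro p
    have hp : p = g₀ * (p /ₘ g₀) + p %ₘ g₀ := by
      rw [add_comm]; exact (modByMonic_add_div p g₀).symm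
    have hmem : p %ₘ g₀ ∈ degreeLT A r := by
      rw [mem_degreeLT]
      exact lt_of_lt_of_le (degree_modByMonic_lt p hg₀) degree_le_natDegree
    have h3 : e * AdjoinRoot.mk f p =
        φ (⟨p %ₘ g₀, hmem⟩, 0) + (e * AdjoinRoot.mk f g₀) * AdjoinRoot.mk f (p /ₘ g₀) := by
      rw [φ_apply]
      conv_lhs => rw [hp]
      simp only [map_add, map_mul, Submodule.coe_zero, map_zero, mul_zero, add_zero]
      ring
    rw [h3]
    refine Submodule.add_mem _ (Submodule.mem_sup_left ⟨_, rfl⟩) (Submodule.mem_sup_right ?_)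
    rw [hJmem]
    exact Ideal.mul_mem_right _ _ h1
  have hmodh : ∀ p : A[X], (1 - e) * AdjoinRoot.mk f p ∈ LinearMap.range φ ⊔ J := by
    intro p
    have hp : p = h₀ * (p /ₘ h₀) + p %ₘ h₀ := by
      rw [add_comm]; exact (modByMonic_add_div p h₀).symm
    have hmem : p %ₘ h₀ ∈ degreeLT A s := by
      rw [mem_degreeLT]
      exact lt_of_lt_of_le (degree_modByMonic_lt p hh₀) degree_le_natDegree
    have h3 : (1 - e) * AdjoinRoot.mk f p =
        φ (0, ⟨p %ₘ h₀, hmem⟩) + ((1 - e) * AdjoinRoot.mk f h₀) * AdjoinRoot.mk f (p /ₘ h₀) := by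
      rw [φ_apply]
      conv_lhs => rw [hp]
      simp only [map_add, map_mul, Submodule.coe_zero, map_zero, mul_zero, zero_add]
      ring
    rw [h3]
    refine Submodule.add_mem _ (Submodule.mem_sup_left ⟨_, rfl⟩) (Submodule.mem_sup_right ?_)
    rw [hJmem]
    exact Ideal.mul_mem_right _ _ h2
  have : Module.Finite A (AdjoinRoot f) := (AdjoinRoot.powerBasis' hf).finite
  have hsurj : Function.Surjective φ := by
    rw [← LinearMap.range_eq_top]
    refine eq_top_iff.2 (Submodule.le_of_le_smul_of_le_jacobson_bot Module.Finite.fg_top hI ?_)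
    intro w _
    obtain ⟨p, rfl⟩ := AdjoinRoot.mk_surjective w
    have : AdjoinRoot.mk f p = e * AdjoinRoot.mk f p + (1 - e) * AdjoinRoot.mk f p := by ring
    rw [this]
    exact Submodule.add_mem _ (hmodg p) (hmodh p)
  -- Step 2: bijectivity
  have hfr : ∀ k, Module.finrank A (degreeLT A k) = k := by
    intro k
    rw [(degreeLTEquiv A k).finrank_eq, Module.finrank_fin_fun]
  have : ∀ k, Module.Finite A (degreeLT A k) := fun k =>
    Module.Finite.equiv (degreeLTEquiv A k).symm
  have : ∀ k, Module.Free A (degreeLT A k) := fun k =>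
    Module.Free.of_equiv (degreeLTEquiv A k).symm
  have : Module.Free A (AdjoinRoot f) := Module.Free.of_basis (AdjoinRoot.powerBasis' hf).basis
  have hbij : Function.Bijective φ := by
    refine OrzechProperty.bijective_of_surjective_of_finrank_le φ hsurj ?_
    have e1 : Module.finrank A (degreeLT A r × degreeLT A s) = r + s := by
      rw [Module.finrank_prod, hfr, hfr]
    have e2 : Module.finrank A (AdjoinRoot f) = f.natDegree := by
      rw [(AdjoinRoot.powerBasis' hf).finrank, AdjoinRoot.powerBasis'_dim]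
    rw [e1, e2, hdeg]
  let Φ : (degreeLT A r × degreeLT A s) ≃ₗ[A] AdjoinRoot f := LinearEquiv.ofBijective φ hbij
  -- Step 5 tool: if φ w ∈ J then components of w have coefficients in I
  have hcoeff : ∀ (u : degreeLT A r) (v : degreeLT A s), φ (u, v) ∈ J →
      (∀ i, (u : A[X]).coeff i ∈ I) ∧ (∀ i, (v : A[X]).coeff i ∈ I) := by
    intro u v huv
    have h3 : (u, v) ∈ I • (⊤ : Submodule A (degreeLT A r × degreeLT A s)) := by
      have h4 : Φ (u, v) ∈ (I • (⊤ : Submodule A (degreeLT A r × degreeLT A s))).map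
          (Φ : (degreeLT A r × degreeLT A s) →ₗ[A] AdjoinRoot f) := by
        rw [Submodule.map_smul'', Submodule.map_top, LinearEquiv.range]
        exact huv
      obtain ⟨w, hw, hwe⟩ := h4
      have : w = (u, v) := Φ.injective hwe
      rwa [this] at hw
    constructor
    · intro i
      refine coeff_mem_of_mem_smul_top I r u ?_ i
      have := Submodule.mem_map_of_mem (f := LinearMap.fst A (degreeLT A r) (degreeLT A s)) h3
      rw [Submodule.map_smul''] at this
      exact Submodule.smul_mono le_rfl le_top this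
    · intro i
      refine coeff_mem_of_mem_smul_top I s v ?_ i
      have := Submodule.mem_map_of_mem (f := LinearMap.snd A (degreeLT A r) (degreeLT A s)) h3
      rw [Submodule.map_smul''] at this
      exact Submodule.smul_mono le_rfl le_top this
  -- Step 3: construct g, h
  obtain ⟨⟨u, v⟩, huv⟩ := hsurj (e * AdjoinRoot.mk f (X ^ r))
  obtain ⟨⟨u', v'⟩, huv'⟩ := hsurj ((1 - e) * AdjoinRoot.mk f (X ^ s))
  have hu : e * AdjoinRoot.mk f (X ^ r) = e * AdjoinRoot.mk f u := by
    have := congrArg (fun z => e * z) huv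
    simp only [φ_apply] at this
    rw [mul_add, ← mul_assoc, he.eq, ← mul_assoc e (1 - e), he', zero_mul, add_zero,
      ← mul_assoc, he.eq] at this
    exact this.symm
  have hv' : (1 - e) * AdjoinRoot.mk f (X ^ s) = (1 - e) * AdjoinRoot.mk f v' := by
    have := congrArg (fun z => (1 - e) * z) huv'
    simp only [φ_apply] at this
    rw [mul_add, ← mul_assoc, mul_comm (1 - e) e, he', zero_mul, zero_add, ← mul_assoc, he'',
      ← mul_assoc, he''] at this
    exact this.symm
  have hudeg : (u : A[X]).degree < r := mem_degreeLT.1 u.2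
  have hvdeg : (v' : A[X]).degree < s := mem_degreeLT.1 v'.2
  set g : A[X] := X ^ r - (u : A[X]) with hg
  set h : A[X] := X ^ s - (v' : A[X]) with hh
  have hgm : g.Monic := monic_X_pow_sub hudeg
  have hhm : h.Monic := monic_X_pow_sub hvdeg
  have hgdeg : g.natDegree = r := by
    refine natDegree_eq_of_degree_eq_some ?_
    rw [hg, degree_sub_eq_left_of_degree_lt (by rwa [degree_X_pow]), degree_X_pow]
  have hhdeg : h.natDegree = s := by
    refine natDegree_eq_of_degree_eq_some ?_
    rw [hh, degree_sub_eq_left_of_degree_lt (by rwa [degree_X_pow]), degree_X_pow]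
  have heg : e * AdjoinRoot.mk f g = 0 := by
    rw [hg, map_sub, mul_sub, hu, sub_self]
  have heh : (1 - e) * AdjoinRoot.mk f h = 0 := by
    rw [hh, map_sub, mul_sub, hv', sub_self]
  -- Step 4: f = g * h
  have hgh0 : AdjoinRoot.mk f (g * h) = 0 := by
    rw [map_mul]
    calc AdjoinRoot.mk f g * AdjoinRoot.mk f h
        = (e * AdjoinRoot.mk f g) * AdjoinRoot.mk f h +
          ((1 - e) * AdjoinRoot.mk f h) * AdjoinRoot.mk f g := by ring
      _ = 0 := by rw [heg, heh, zero_mul, zero_mul, add_zero]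
  have hfgh : g * h = f := by
    refine eq_of_monic_of_dvd_of_natDegree_le hf (hgm.mul hhm) (AdjoinRoot.mk_eq_zero.1 hgh0) ?_
    rw [hgm.natDegree_mul hhm, hgdeg, hhdeg, hdeg]
  -- Step 5: reductions
  have hgred : g.map (Ideal.Quotient.mk I) = g₀.map (Ideal.Quotient.mk I) := by
    have hmem : g₀ - g ∈ degreeLT A r := sub_mem_degreeLT hg₀ hgm rfl hgdeg
    have h3 : φ (⟨g₀ - g, hmem⟩, 0) ∈ J := by
      rw [φ_apply, hJmem]
      simp only [Submodule.coe_zero, map_zero, mul_zero, add_zero, map_sub, mul_sub, heg, sub_zero]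
      exact h1
    have h4 := (hcoeff _ _ h3).1
    have h5 : (g₀ - g).map (Ideal.Quotient.mk I) = 0 := by
      ext k
      rw [coeff_map, coeff_zero]
      exact Ideal.Quotient.eq_zero_iff_mem.2 (h4 k)
    rw [Polynomial.map_sub, sub_eq_zero] at h5
    exact h5.symm
  have hhred : h.map (Ideal.Quotient.mk I) = h₀.map (Ideal.Quotient.mk I) := by
    have hmem : h₀ - h ∈ degreeLT A s := sub_mem_degreeLT hh₀ hhm rfl hhdeg
    have h3 : φ (0, ⟨h₀ - h, hmem⟩) ∈ J := by
      rw [φ_apply, hJmem]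
      simp only [Submodule.coe_zero, map_zero, mul_zero, zero_add, map_sub, mul_sub, heh, sub_zero]
      exact h2
    have h4 := (hcoeff _ _ h3).2
    have h5 : (h₀ - h).map (Ideal.Quotient.mk I) = 0 := by
      ext k
      rw [coeff_map, coeff_zero]
      exact Ideal.Quotient.eq_zero_iff_mem.2 (h4 k)
    rw [Polynomial.map_sub, sub_eq_zero] at h5
    exact h5.symm
  exact ⟨g, h, hgm, hhm, hfgh.symm, hgred, hhred, heg, heh⟩

end Groth.Agent.Helper3.HensK
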