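import Groth.Agent.Helper3.HensGabber
import Groth.Agent.Helper3.HensK
import Groth.Agent.Helper3.AICHens

/-!
Equivalences between characterizations of henselian pairs (Stacks 09XI), all parts except
"root lifting ⇒ factorization lifting" (see `HensUniv`).
-/

namespace Groth.Agent.Helper3.HensTFAE

open Polynomial
open Groth.Agent.Helper3.HensGabber

universe u

variable {A : Type u} [CommRing A]

/-- Factorization lifting. -/
def FactLift (A : Type u) [CommRing A] (I : Ideal A) : Prop :=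
  ∀ f : A[X], f.Monic → ∀ g₀ h₀ : (A ⧸ I)[X], g₀.Monic → h₀.Monic → IsCoprime g₀ h₀ →
    f.map (Ideal.Quotient.mk I) = g₀ * h₀ →
    ∃ g h : A[X], g.Monic ∧ h.Monic ∧ f = g * h ∧ g.map (Ideal.Quotient.mk I) = g₀ ∧
      h.map (Ideal.Quotient.mk I) = h₀

/-- Idempotent lifting for an `A`-algebra `B` along `B → B/IB`. -/
def IdemLift (A : Type u) [CommRing A] (I : Ideal A) (B : Type*) [CommRing B] [Algebra A B] :
    Prop :=
  ∀ b : B, b * b - b ∈ I.map (algebraMap A B) →
    ∃ e : B, IsIdempotentElem e ∧ e - b ∈ I.map (algebraMap A B)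

theorem nontrivial_quotient [Nontrivial A] (I : Ideal A) (hI : I ≤ Ideal.jacobson ⊥) :
    Nontrivial (A ⧸ I) :=
  Ideal.Quotient.nontrivial_iff.2
    (fun htop => one_notMem_jacobson_bot (hI (htop ▸ Submodule.mem_top)))

/-- (2) ⇒ (1) -/
theorem hens_of_factLift (I : Ideal A) (hI : I ≤ Ideal.jacobson ⊥) (h : FactLift A I) :
    HenselianRing A I := by
  refine ⟨hI, fun f hf a₀ h₁ h₂ => ?_⟩
  rcases subsingleton_or_nontrivial A with hs | hnt
  · exact ⟨a₀, Subsingleton.elim _ _, by simp⟩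
  have : Nontrivial (A ⧸ I) := nontrivial_quotient I hI
  set q := Ideal.Quotient.mk I with hq
  set ā := q a₀ with hā
  set fb := f.map q with hfbdef
  have hroot : fb.IsRoot ā := by
    rw [IsRoot, hfbdef, eval_map, eval₂_hom]; exact Ideal.Quotient.eq_zero_iff_mem.2 h₁
  set h₀ := fb /ₘ (X - C ā) with hh₀
  have hfb : (X - C ā) * h₀ = fb := mul_divByMonic_eq_iff_isRoot.2 hroot
  have hfbm : fb.Monic := hf.map q
  have hh₀m : h₀.Monic := (monic_X_sub_C ā).of_mul_monic_left (hfb ▸ hfbm)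
  have hder : fb.derivative.eval ā = h₀.eval ā := by
    rw [← hfb, derivative_mul]; simp
  have hunit : IsUnit (h₀.eval ā) := by
    rw [← hder, hfbdef, derivative_map, eval_map, eval₂_hom]; exact h₂
  have hcop : IsCoprime (X - C ā) h₀ := by
    obtain ⟨w, hw⟩ := hunit.exists_left_inv
    obtain ⟨q', hq'⟩ := X_sub_C_dvd_sub_C_eval (a := ā) (p := h₀)
    refine ⟨-(C w * q'), C w, ?_⟩
    have h3 : h₀ - (X - C ā) * q' = C (h₀.eval ā) := by rw [← hq']; ring
    calc -(C w * q') * (X - C ā) + C w * h₀ = C w * (h₀ - (X - C ā) * q') := by ring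
      _ = 1 := by rw [h3, ← C_mul, hw, C_1]
  obtain ⟨g, h', hg, hh', hfgh, hgm, hhm⟩ :=
    h f hf (X - C ā) h₀ (monic_X_sub_C ā) hh₀m hcop hfb.symm
  have hgdeg : g.natDegree = 1 := by
    rw [← hg.natDegree_map q, hgm, natDegree_X_sub_C]
  have hgX := hg.eq_X_add_C hgdeg
  refine ⟨-(g.coeff 0), ?_, ?_⟩
  · rw [IsRoot, hfgh, eval_mul]
    have : g.eval (-(g.coeff 0)) = 0 := by
      conv_lhs => rw [hgX]
      simp
    rw [this, zero_mul]
  · have h3 : q (g.coeff 0) = -ā := by
      rw [← coeff_map, hgm]; simp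
    rw [← Ideal.Quotient.eq, map_neg]
    change -q (g.coeff 0) = q a₀
    rw [h3, neg_neg]

/-- integral extensions of Zariski pairs are Zariski pairs -/
theorem map_le_jacobson_of_isIntegral {B : Type*} [CommRing B] [Algebra A B]
    [Algebra.IsIntegral A B] (I : Ideal A) (hI : I ≤ Ideal.jacobson ⊥) :
    I.map (algebraMap A B) ≤ Ideal.jacobson ⊥ := by
  rw [Ideal.jacobson, le_sInf_iff]
  rintro M ⟨-, hM⟩
  rw [Ideal.map_le_iff_le_comap]
  have : (M.comap (algebraMap A B)).IsMaximal :=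
    Ideal.isMaximal_comap_of_isIntegral_of_isMaximal M
  exact hI.trans (sInf_le ⟨bot_le, this⟩)

/-- Zariski from injectivity on idempotents for cyclic algebras. -/
theorem le_jacobson_of_injOn (I : Ideal A)
    (h : ∀ u : A, u - 1 ∈ I →
      Set.InjOn (Ideal.Quotient.mk (I.map (algebraMap A (A ⧸ Ideal.span {u}))))
        {e | IsIdempotentElem e}) : I ≤ Ideal.jacobson ⊥ := by
  intro i hi
  rw [Ideal.mem_jacobson_bot]
  intro y
  set u := i * y + 1 with hu
  have hu1 : u - 1 ∈ I := by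
    have : u - 1 = i * y := by rw [hu]; ring
    rw [this]; exact I.mul_mem_right _ hi
  have h01 : Ideal.Quotient.mk (I.map (algebraMap A (A ⧸ Ideal.span {u}))) 1 =
      Ideal.Quotient.mk (I.map (algebraMap A (A ⧸ Ideal.span {u}))) 0 := by
    rw [Ideal.Quotient.eq, sub_zero]
    have h1 : (1 : A ⧸ Ideal.span {u}) = algebraMap A (A ⧸ Ideal.span {u}) (-(u - 1)) := by
      have h2 : algebraMap A (A ⧸ Ideal.span {u}) u = 0 :=
        Ideal.Quotient.eq_zero_iff_mem.2 (Ideal.mem_span_singleton_self u)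
      rw [map_neg, map_sub, h2, map_one]; ring
    rw [h1]
    exact Ideal.mem_map_of_mem _ (I.neg_mem hu1)
  have := h u hu1 IsIdempotentElem.one IsIdempotentElem.zero h01
  have h1 : (1 : A) ∈ Ideal.span {u} := by
    rw [← Ideal.Quotient.eq_zero_iff_mem, map_one]; exact this
  rw [← Ideal.span_singleton_eq_top, Ideal.eq_top_iff_one]
  exact h1

/-- A polynomial with zero reduction modulo `I` maps into `I B` under any evaluation. -/
theorem aeval_mem_map_of_map_eq_zero {B : Type*} [CommRing B] [Algebra A B] (I : Ideal A)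
    (p : A[X]) (hp : p.map (Ideal.Quotient.mk I) = 0) (b : B) :
    aeval b p ∈ I.map (algebraMap A B) := by
  rw [aeval_eq_sum_range]
  refine Ideal.sum_mem _ fun k _ => ?_
  have hk : p.coeff k ∈ I := by
    rw [← Ideal.Quotient.eq_zero_iff_mem, ← coeff_map, hp, coeff_zero]
  rw [Algebra.smul_def]
  exact Ideal.mul_mem_right _ _ (Ideal.mem_map_of_mem _ hk)

theorem mk_mem_map_of_map_eq_zero (I : Ideal A) (f : A[X])
    (p : A[X]) (hp : p.map (Ideal.Quotient.mk I) = 0) :
    AdjoinRoot.mk f p ∈ I.map (algebraMap A (AdjoinRoot f)) := by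
  rw [← AdjoinRoot.aeval_eq]
  exact aeval_mem_map_of_map_eq_zero I p hp _

/-- (4) for the algebras `A[X]/(f)` ⇒ (2) -/
theorem factLift_of_idemLift (I : Ideal A) (hI : I ≤ Ideal.jacobson ⊥)
    (h : ∀ f : A[X], f.Monic → IdemLift A I (AdjoinRoot f)) : FactLift A I := by
  intro f hf gb hb hgb hhb hcop hfgh
  rcases subsingleton_or_nontrivial A with hs | hnt
  · have : Subsingleton (A ⧸ I) := Ideal.Quotient.mk_surjective.subsingleton
    exact ⟨1, 1, monic_one, monic_one, Subsingleton.elim _ _, Subsingleton.elim _ _,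
      Subsingleton.elim _ _⟩
  have : Nontrivial (A ⧸ I) := nontrivial_quotient I hI
  set q := Ideal.Quotient.mk I with hq
  have hqs : Function.Surjective q := Ideal.Quotient.mk_surjective
  obtain ⟨g₀, hg₀, hg₀d, hg₀m⟩ :=
    lifts_and_degree_eq_and_monic (mem_lifts_of_surjective hqs gb) hgb
  obtain ⟨h₀, hh₀, hh₀d, hh₀m⟩ :=
    lifts_and_degree_eq_and_monic (mem_lifts_of_surjective hqs hb) hhb
  obtain ⟨ub, vb, huv⟩ := hcop
  obtain ⟨u₀, hu₀⟩ := map_surjective q hqs ub
  obtain ⟨v₀, hv₀⟩ := map_surjective q hqs vb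
  -- the approximate idempotent
  set ε₀ : AdjoinRoot f := AdjoinRoot.mk f (v₀ * h₀) with hε₀
  set J := I.map (algebraMap A (AdjoinRoot f)) with hJ
  have hmod : ∀ p : A[X], p.map q = 0 → AdjoinRoot.mk f p ∈ J :=
    fun p hp => mk_mem_map_of_map_eq_zero I f p hp
  have hfmap : f.map q = g₀.map q * h₀.map q := by rw [hg₀, hh₀, hfgh]
  have huv' : u₀.map q * g₀.map q + v₀.map q * h₀.map q = 1 := by rw [hu₀, hv₀, hg₀, hh₀, huv]
  have hε₀idem : ε₀ * ε₀ - ε₀ ∈ J := by
    have h1 : ε₀ * ε₀ - ε₀ = AdjoinRoot.mk f ((v₀ * h₀) * (v₀ * h₀) - v₀ * h₀ + u₀ * v₀ * f) := by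
      rw [map_add, map_sub, map_mul, map_mul (AdjoinRoot.mk f) (u₀ * v₀) f, AdjoinRoot.mk_self,
        mul_zero, add_zero]
    rw [h1]
    refine hmod _ ?_
    simp only [Polynomial.map_add, Polynomial.map_sub, Polynomial.map_mul, hfmap]
    linear_combination (v₀.map q * h₀.map q) * huv'
  obtain ⟨e, he, heε⟩ := h f hf ε₀ hε₀idem
  -- hypotheses of Lemma K
  have hK1 : e * AdjoinRoot.mk f g₀ ∈ J := by
    have h1 : e * AdjoinRoot.mk f g₀ =
        (e - ε₀) * AdjoinRoot.mk f g₀ + AdjoinRoot.mk f (v₀ * h₀ * g₀ - v₀ * f) := by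
      rw [map_sub, map_mul (AdjoinRoot.mk f) v₀ f, AdjoinRoot.mk_self, mul_zero, sub_zero, map_mul,
        ← hε₀]
      ring
    rw [h1]
    refine J.add_mem (J.mul_mem_right _ heε) (hmod _ ?_)
    simp only [Polynomial.map_sub, Polynomial.map_mul, hfmap]; ring
  have hK2 : (1 - e) * AdjoinRoot.mk f h₀ ∈ J := by
    have h1 : (1 - e) * AdjoinRoot.mk f h₀ =
        -((e - ε₀) * AdjoinRoot.mk f h₀) +
          AdjoinRoot.mk f ((1 - v₀ * h₀) * h₀ - u₀ * f) := by
      rw [map_sub, map_mul (AdjoinRoot.mk f) u₀ f, AdjoinRoot.mk_self, mul_zero, sub_zero, map_mul,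
        map_sub, map_one, ← hε₀]
      ring
    rw [h1]
    refine J.add_mem (J.neg_mem (J.mul_mem_right _ heε)) (hmod _ ?_)
    simp only [Polynomial.map_sub, Polynomial.map_mul, Polynomial.map_one, hfmap]
    linear_combination (-(h₀.map q)) * huv'
  have hdeg : g₀.natDegree + h₀.natDegree = f.natDegree := by
    have h1 : (f.map q).natDegree = f.natDegree := hf.natDegree_map q
    have h2 : (g₀.map q).natDegree = g₀.natDegree := hg₀m.natDegree_map q
    have h3 : (h₀.map q).natDegree = h₀.natDegree := hh₀m.natDegree_map q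
    rw [← h1, hfmap, (hg₀m.map q).natDegree_mul (hh₀m.map q), h2, h3]
  obtain ⟨g, h', hgm, hhm, hfgh', hgred, hhred, -, -⟩ :=
    HensK.lemmaK I hI f hf e he g₀ h₀ hg₀m hh₀m hdeg hK1 hK2
  exact ⟨g, h', hgm, hhm, hfgh', hgred.trans hg₀, hhred.trans hh₀⟩

/-- closing lemma for idempotents. -/
theorem idem_close {B : Type*} [CommRing B] (J : Ideal B) (b e u₀ v₀ : B) (m : ℕ)
    (hb : b * b - b ∈ J) (h1 : e - u₀ * b ^ (m + 1) ∈ J)
    (h2 : (1 - e) - v₀ * (b - 1) ^ (m + 1) ∈ J) : e - b ∈ J := by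
  have e1 : e * (1 - b) ∈ J := by
    have : e * (1 - b) = (e - u₀ * b ^ (m + 1)) * (1 - b) + (-(u₀ * b ^ m)) * (b * b - b) := by
      ring
    rw [this]
    exact J.add_mem (J.mul_mem_right _ h1) (J.mul_mem_left _ hb)
  have e2 : (1 - e) * b ∈ J := by
    have : (1 - e) * b = ((1 - e) - v₀ * (b - 1) ^ (m + 1)) * b +
        (v₀ * (b - 1) ^ m) * (b * b - b) := by ring
    rw [this]
    exact J.add_mem (J.mul_mem_right _ h2) (J.mul_mem_left _ hb)
  have : e - b = e * (1 - b) - (1 - e) * b := by ring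
  rw [this]
  exact J.sub_mem e1 e2

/-- For `b` in an integral algebra with `b² - b ∈ IB` there is a monic `F` with `F(b) = 0`
and `F ≡ (X² - X)^(m+1)` modulo `I`. -/
theorem exists_F {B : Type*} [CommRing B] [Algebra A B] [Algebra.IsIntegral A B] (I : Ideal A)
    (b : B) (hb : b * b - b ∈ I.map (algebraMap A B)) :
    ∃ (m : ℕ) (F : A[X]), F.Monic ∧
      F.map (Ideal.Quotient.mk I) = (X ^ 2 - X) ^ (m + 1) ∧ aeval b F = 0 := by
  rcases subsingleton_or_nontrivial A with hs | hnt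
  · have : Subsingleton (A ⧸ I) := Ideal.Quotient.mk_surjective.subsingleton
    have : Subsingleton B := Module.subsingleton A B
    exact ⟨0, 1, monic_one, Subsingleton.elim _ _, Subsingleton.elim _ _⟩
  obtain ⟨p, hp, hpc, hpI⟩ := exists_monic_aeval_eq_zero_forall_mem_of_mem_map hb
  set m := p.natDegree with hm
  have hpmap : p.map (Ideal.Quotient.mk I) = X ^ m := by
    ext k
    rw [coeff_map, coeff_X_pow]
    split_ifs with hk
    · rw [hk, hm, hp.coeff_natDegree, map_one]
    · exact Ideal.Quotient.eq_zero_iff_mem.2 (hpI k hk)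
  have hq2 : (X ^ 2 - X : A[X]).Monic := monic_X_pow_sub (by rw [degree_X]; norm_num)
  have hq2d : (X ^ 2 - X : A[X]).natDegree ≠ 0 := by
    have : (X ^ 2 - X : A[X]).natDegree = 2 := by
      refine natDegree_eq_of_degree_eq_some ?_
      rw [degree_sub_eq_left_of_degree_lt (by rw [degree_X_pow, degree_X]; norm_num),
        degree_X_pow]
    rw [this]; norm_num
  refine ⟨m, (p * X).comp (X ^ 2 - X), (hp.mul monic_X).comp hq2 hq2d, ?_, ?_⟩
  · rw [Polynomial.map_comp, Polynomial.map_mul, hpmap, Polynomial.map_X]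
    simp [pow_succ]
  · rw [aeval_comp]
    have : aeval b (X ^ 2 - X : A[X]) = b * b - b := by simp [sq]
    rw [this, map_mul, hpc, zero_mul]

/-- Coprimality of monic polynomials lifts along a Zariski pair. -/
theorem isCoprime_of_map (I : Ideal A) (hI : I ≤ Ideal.jacobson ⊥) [Nontrivial A]
    {G H : A[X]} (hG : G.Monic) (hH : H.Monic)
    (h : IsCoprime (G.map (Ideal.Quotient.mk I)) (H.map (Ideal.Quotient.mk I))) :
    IsCoprime G H := by
  have : Nontrivial (A ⧸ I) := nontrivial_quotient I hI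
  rw [← isUnit_resultant_iff_isCoprime hG]
  refine isUnit_of_isUnit_mk hI ?_
  rw [← isUnit_resultant_iff_isCoprime (hG.map _)] at h
  rwa [hG.natDegree_map, hH.natDegree_map, resultant_map_map] at h

theorem isCoprime_X_sub_one_pow (R : Type*) [CommRing R] (m n : ℕ) :
    IsCoprime ((X - 1 : R[X]) ^ m) (X ^ n) := by
  refine IsCoprime.pow ⟨-1, 1, ?_⟩
  ring

/-- (2) ⇒ (4) for integral algebras. -/
theorem idemLift_of_factLift (I : Ideal A) (hI : I ≤ Ideal.jacobson ⊥) (h : FactLift A I)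
    (B : Type*) [CommRing B] [Algebra A B] [Algebra.IsIntegral A B] : IdemLift A I B := by
  intro b hb
  rcases subsingleton_or_nontrivial A with hs | hnt
  · have : Subsingleton B := Module.subsingleton A B
    exact ⟨b, Subsingleton.elim _ _, by simp⟩
  obtain ⟨m, F, hF, hFmap, hFb⟩ := exists_F I b hb
  set q := Ideal.Quotient.mk I with hq
  have hfact : F.map q = (X - 1) ^ (m + 1) * X ^ (m + 1) := by
    rw [hFmap, ← mul_pow]; congr 1; ring
  have hmon1 : ((X - 1 : (A ⧸ I)[X]) ^ (m + 1)).Monic := by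
    have := (monic_X_sub_C (1 : A ⧸ I)).pow (m + 1)
    simpa using this
  obtain ⟨G, H, hG, hH, hFGH, hGm, hHm⟩ := h F hF ((X - 1) ^ (m + 1)) (X ^ (m + 1))
    hmon1 (monic_X_pow _) (isCoprime_X_sub_one_pow _ _ _) hfact
  have hcop : IsCoprime G H := by
    refine isCoprime_of_map I hI hG hH ?_
    rw [hGm, hHm]; exact isCoprime_X_sub_one_pow _ _ _
  obtain ⟨u, v, huv⟩ := hcop
  set J := I.map (algebraMap A B) with hJ
  refine ⟨aeval b (v * H), ?_, ?_⟩
  · change aeval b (v * H) * aeval b (v * H) = aeval b (v * H)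
    rw [← sub_eq_zero, ← map_mul, ← map_sub]
    have : v * H * (v * H) - v * H = -(u * v) * F := by
      rw [hFGH]; linear_combination (v * H) * huv
    rw [this, map_mul, hFb, mul_zero]
  · refine idem_close J b _ (aeval b v) (aeval b u) m hb ?_ ?_
    · have : aeval b (v * H) - aeval b v * b ^ (m + 1) = aeval b v * aeval b (H - X ^ (m + 1)) := by
        simp only [map_mul, map_sub, map_pow, aeval_X]; ring
      rw [this]
      refine J.mul_mem_left _ (aeval_mem_map_of_map_eq_zero I _ ?_ b)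
      rw [Polynomial.map_sub, hHm, Polynomial.map_pow, map_X, sub_self]
    · have : 1 - aeval b (v * H) - aeval b u * (b - 1) ^ (m + 1) =
          aeval b u * aeval b (G - (X - 1) ^ (m + 1)) := by
        have h1 : (1 : B) - aeval b (v * H) = aeval b (u * G) := by
          rw [← map_one (aeval (R := A) b), ← map_sub]; congr 1; linear_combination -huv
        rw [h1]
        simp only [map_mul, map_sub, map_pow, aeval_X, map_one]; ring
      rw [this]
      refine J.mul_mem_left _ (aeval_mem_map_of_map_eq_zero I _ ?_ b)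
      rw [Polynomial.map_sub, hGm, Polynomial.map_pow, Polynomial.map_sub, map_X,
        Polynomial.map_one, sub_self]

/-- Idempotent lifting for the special algebras `A[T]/(p)`, `p ≡ (T² - T)^m`, implies idempotent
lifting for all integral algebras. -/
theorem idemLift_of_special (I : Ideal A)
    (h : ∀ (m : ℕ) (p : A[X]), p.Monic →
      p.map (Ideal.Quotient.mk I) = ((X ^ 2 - X) ^ m : A[X]).map (Ideal.Quotient.mk I) →
      Set.SurjOn (Ideal.Quotient.mk (Ideal.map (algebraMap A (AdjoinRoot p)) I))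
        {e : AdjoinRoot p | IsIdempotentElem e} {e | IsIdempotentElem e})
    (B : Type*) [CommRing B] [Algebra A B] [Algebra.IsIntegral A B] : IdemLift A I B := by
  intro b hb
  obtain ⟨m, F, hF, hFmap, hFb⟩ := exists_F I b hb
  set q := Ideal.Quotient.mk I with hq
  have hFmap' : F.map q = ((X ^ 2 - X) ^ (m + 1) : A[X]).map q := by
    rw [hFmap]; simp
  obtain ⟨v₁, u₁, huv⟩ := isCoprime_X_sub_one_pow A (m + 1) (m + 1)
  -- u₁ * X^(m+1) + v₁ * (X-1)^(m+1) = 1
  set J' := I.map (algebraMap A (AdjoinRoot F)) with hJ'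
  set ε₀ : AdjoinRoot F := AdjoinRoot.mk F (u₁ * X ^ (m + 1)) with hε₀
  have hε₀idem : IsIdempotentElem (Ideal.Quotient.mk J' ε₀) := by
    change Ideal.Quotient.mk J' ε₀ * Ideal.Quotient.mk J' ε₀ = Ideal.Quotient.mk J' ε₀
    rw [← map_mul, Ideal.Quotient.eq]
    have h1 : ε₀ * ε₀ - ε₀ =
        AdjoinRoot.mk F (-(u₁ * v₁)) * AdjoinRoot.mk F ((X ^ 2 - X) ^ (m + 1) - F) := by
      have e1 : AdjoinRoot.mk F ((X ^ 2 - X) ^ (m + 1) - F) =
          AdjoinRoot.mk F ((X ^ 2 - X) ^ (m + 1)) := by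
        rw [map_sub, AdjoinRoot.mk_self, sub_zero]
      rw [e1, hε₀, ← map_mul, ← map_mul, ← map_sub]
      congr 1
      have : (X ^ 2 - X : A[X]) ^ (m + 1) = X ^ (m + 1) * (X - 1) ^ (m + 1) := by
        rw [← mul_pow]; congr 1; ring
      rw [this]
      linear_combination (u₁ * X ^ (m + 1)) * huv
    rw [h1]
    refine J'.mul_mem_left _ (mk_mem_map_of_map_eq_zero I F _ ?_)
    rw [Polynomial.map_sub, hFmap', sub_self]
  obtain ⟨ε, hε, hεε₀⟩ := h (m + 1) F hF hFmap' hε₀idem
  have hεmem : ε - ε₀ ∈ J' := Ideal.Quotient.eq.1 hεε₀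
  -- the algebra map to B
  have hFb' : F.eval₂ (Algebra.ofId A B : A →+* B) b = 0 := hFb
  let ψ : AdjoinRoot F →ₐ[A] B := AdjoinRoot.liftAlgHom F (Algebra.ofId A B) b hFb'
  have ψ_mk : ∀ p : A[X], ψ (AdjoinRoot.mk F p) = aeval b p := fun p => rfl
  set J := I.map (algebraMap A B) with hJ
  have hψJ : ∀ w ∈ J', ψ w ∈ J := by
    intro w hw
    have : J' ≤ J.comap (ψ : AdjoinRoot F →+* B) := by
      rw [hJ', Ideal.map_le_iff_le_comap]
      intro i hi
      rw [Ideal.mem_comap, Ideal.mem_comap]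
      change ψ (algebraMap A (AdjoinRoot F) i) ∈ J
      rw [ψ.commutes]
      exact Ideal.mem_map_of_mem _ hi
    exact this hw
  refine ⟨ψ ε, hε.map ψ, ?_⟩
  refine idem_close J b _ (aeval b u₁) (aeval b v₁) m hb ?_ ?_
  · have : ψ ε - aeval b u₁ * b ^ (m + 1) = ψ (ε - ε₀) := by
      rw [map_sub, hε₀, ψ_mk]; simp
    rw [this]; exact hψJ _ hεmem
  · have : 1 - ψ ε - aeval b v₁ * (b - 1) ^ (m + 1) = -ψ (ε - ε₀) := by
      have h1 : (1 : AdjoinRoot F) - ε₀ = AdjoinRoot.mk F (v₁ * (X - 1) ^ (m + 1)) := by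
        rw [hε₀, ← map_one (AdjoinRoot.mk F), ← map_sub]; congr 1; linear_combination -huv
      have h2 : ψ (1 - ε₀) = aeval b v₁ * (b - 1) ^ (m + 1) := by
        rw [h1, ψ_mk]; simp
      rw [← h2, map_sub, map_sub, map_one]; ring
    rw [this]; exact J.neg_mem (hψJ _ hεmem)

theorem isIntegral_adjoinRoot {f : A[X]} (hf : f.Monic) : Algebra.IsIntegral A (AdjoinRoot f) := by
  have : Module.Finite A (AdjoinRoot f) := (AdjoinRoot.powerBasis' hf).finite
  exact Algebra.IsIntegral.of_finite A (AdjoinRoot f)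

/-- S17968 -/
theorem hens_of_special (A : Type u) [CommRing A]
    (I : Ideal A) (hI : I ≤ Ideal.jacobson ⊥)
    (h : ∀ (m : ℕ) (p : Polynomial A), p.Monic →
      Polynomial.map (Ideal.Quotient.mk I) p =
        Polynomial.map (Ideal.Quotient.mk I) ((Polynomial.X ^ 2 - Polynomial.X) ^ m) →
      Set.SurjOn (Ideal.Quotient.mk (Ideal.map (algebraMap A (AdjoinRoot p)) I))
        {e : AdjoinRoot p | IsIdempotentElem e} {e | IsIdempotentElem e}) :
    HenselianRing A I := by
  refine hens_of_factLift I hI (factLift_of_idemLift I hI fun f hf => ?_)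
  have := isIntegral_adjoinRoot hf
  exact idemLift_of_special I h (AdjoinRoot f)

end Groth.Agent.Helper3.HensTFAE
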