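import Mathlib

set_option autoImplicit false
set_option linter.style.haveILetI false
set_option linter.unusedSectionVars false
set_option linter.unusedVariables false
set_option linter.deprecated false
set_option linter.style.haveILetI false
set_option linter.unusedSectionVars false
set_option linter.unusedVariables false

/-!
# Chase–Harrison–Rosenberg: a finite group acting without inertia gives a finite étale extension

`G` finite acting on `R` by `B`-algebra automorphisms.  If every `σ ≠ 1` moves some element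
outside every maximal ideal, there are `x_i, y_i` with `∑ x_i σ(y_i) = δ_{σ,1}`.  Consequently
`R ⊗_B R ≅ ∏_G R`, and if moreover `B → R` is injective with image the invariants, `R` is a finite
projective, étale `B`-algebra.
-/

namespace Groth.Agent.Helper3.CHR

open TensorProduct

universe u v w

section Core

variable (B : Type u) (R : Type v) (G : Type w) [CommRing B] [CommRing R] [Algebra B R]
  [Group G] [MulSemiringAction G R] [SMulCommClass G B R]

/-- `a ⊗ b ↦ (σ ↦ a * σ b)` as an algebra map. -/
noncomputable def phi : R ⊗[B] R →ₐ[B] (G → R) :=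
  Algebra.TensorProduct.productMap (Pi.constAlgHom B G R)
    (Pi.algHom B (fun _ : G => R) (fun σ => MulSemiringAction.toAlgHom B R σ))

@[simp] lemma phi_tmul (a b : R) (σ : G) : phi B R G (a ⊗ₜ b) σ = a * σ • b := by
  simp [phi]

/-- The ideal of values at `1` of elements of `R ⊗ R` vanishing at `σ`. -/
def J (σ : G) : Ideal R where
  carrier := {r | ∃ t : R ⊗[B] R, phi B R G t 1 = r ∧ phi B R G t σ = 0}
  zero_mem' := ⟨0, by simp, by simp⟩
  add_mem' := by
    rintro _ _ ⟨t, rfl, h⟩ ⟨t', rfl, h'⟩
    exact ⟨t + t', by simp, by simp [h, h']⟩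
  smul_mem' := by
    rintro c _ ⟨t, rfl, h⟩
    refine ⟨(c ⊗ₜ 1) * t, ?_, ?_⟩
    · simp [map_mul]
    · simp [map_mul, h]

lemma sub_smul_mem_J (σ : G) (x : R) : x - σ • x ∈ J B R G σ := by
  refine ⟨1 ⊗ₜ x - (σ • x) ⊗ₜ 1, ?_, ?_⟩
  · simp
  · simp

variable {B R G}

lemma J_eq_top {σ : G}
    (h : ∀ q : Ideal R, q.IsMaximal → ∃ x : R, σ • x - x ∉ q) : J B R G σ = ⊤ := by
  by_contra hne
  obtain ⟨M, hM, hle⟩ := Ideal.exists_le_maximal _ hne
  obtain ⟨x, hx⟩ := h M hM
  apply hx
  have := hle (sub_smul_mem_J B R G σ x)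
  have h2 : σ • x - x = -(x - σ • x) := by ring
  rw [h2]
  exact neg_mem this

variable [Finite G]

open Classical in
/-- The key element: `t` with `φ(t) = δ_1`. -/
theorem exists_delta
    (h : ∀ σ : G, σ ≠ 1 → ∀ q : Ideal R, q.IsMaximal → ∃ x : R, σ • x - x ∉ q) :
    ∃ t : R ⊗[B] R, ∀ σ : G, phi B R G t σ = if σ = 1 then 1 else 0 := by
  classical
  cases nonempty_fintype G
  have key : ∀ σ : G, σ ≠ 1 → ∃ t : R ⊗[B] R, phi B R G t 1 = 1 ∧ phi B R G t σ = 0 := by
    intro σ hσ
    have h1 : (1 : R) ∈ J B R G σ := by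
      rw [J_eq_top (h σ hσ)]; trivial
    exact h1
  choose! t ht1 htσ using key
  refine ⟨∏ σ ∈ Finset.univ.erase (1 : G), t σ, fun τ => ?_⟩
  rw [map_prod, Finset.prod_apply]
  split_ifs with hτ
  · subst hτ
    apply Finset.prod_eq_one
    intro σ hσ
    exact ht1 σ (Finset.ne_of_mem_erase hσ)
  · apply Finset.prod_eq_zero (i := τ) (Finset.mem_erase.mpr ⟨hτ, Finset.mem_univ _⟩)
    exact htσ τ hτ

open Classical in
variable (B) in
include B in
theorem exists_dual
    (h : ∀ σ : G, σ ≠ 1 → ∀ q : Ideal R, q.IsMaximal → ∃ x : R, σ • x - x ∉ q) :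
    ∃ (n : ℕ) (x y : Fin n → R), ∀ σ : G, ∑ i, x i * σ • y i = if σ = 1 then 1 else 0 := by
  obtain ⟨t, ht⟩ := exists_delta (B := B) h
  obtain ⟨n, x, y, rfl⟩ := TensorProduct.exists_sum_tmul_eq t
  refine ⟨n, x, y, fun σ => ?_⟩
  rw [← ht σ, map_sum, Finset.sum_apply]
  simp

end Core

section Dual

variable (B : Type u) (R : Type v) (G : Type w) [CommRing B] [CommRing R] [Algebra B R]
  [Group G] [Fintype G] [MulSemiringAction G R] [SMulCommClass G B R]

/-- Sum over the group, as a `B`-linear endomorphism. -/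
noncomputable def T : R →ₗ[B] R := ∑ σ : G, (MulSemiringAction.toAlgHom B R σ).toLinearMap

lemma T_apply (r : R) : T B R G r = ∑ σ : G, σ • r := by
  simp [T, LinearMap.sum_apply]

lemma smul_T (τ : G) (r : R) : τ • T B R G r = T B R G r := by
  rw [T_apply, Finset.smul_sum]
  exact Fintype.sum_equiv (Equiv.mulLeft τ) _ _ (fun σ => by simp [mul_smul])

variable [Algebra.IsInvariant B R G] (hinj : Function.Injective (algebraMap B R))

/-- The trace `R → B`. -/
noncomputable def tr : R →ₗ[B] B :=
  (LinearEquiv.ofInjective (Algebra.linearMap B R) hinj).symm.toLinearMap ∘ₗ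
    (T B R G).codRestrict (LinearMap.range (Algebra.linearMap B R)) (fun r => by
      obtain ⟨b, hb⟩ := Algebra.IsInvariant.isInvariant (A := B) (G := G) (T B R G r)
        (fun g => smul_T B R G g r)
      exact ⟨b, hb⟩)

lemma algebraMap_tr (r : R) : algebraMap B R (tr B R G hinj r) = ∑ σ : G, σ • r := by
  rw [← T_apply B R G r]
  have := LinearEquiv.ofInjective_symm_apply (f := Algebra.linearMap B R) (h := hinj)
    ((T B R G).codRestrict (LinearMap.range (Algebra.linearMap B R)) (fun r => by
      obtain ⟨b, hb⟩ := Algebra.IsInvariant.isInvariant (A := B) (G := G) (T B R G r)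
        (fun g => smul_T B R G g r)
      exact ⟨b, hb⟩) r)
  exact this

section System

open Classical

variable {B R G}
variable {n : ℕ} {x y : Fin n → R}
  (hxy : ∀ σ : G, ∑ i, x i * σ • y i = if σ = 1 then 1 else 0)

include hxy in
lemma hxy' (σ : G) : ∑ i, σ • x i * y i = if σ = 1 then 1 else 0 := by
  have h := congrArg (fun r => σ • r) (hxy σ⁻¹)
  simp only [Finset.smul_sum, smul_mul', smul_inv_smul] at h
  rw [h]
  by_cases hσ : σ = 1
  · simp [hσ]
  · simp [hσ]

include hxy in
lemma recon1 (r : R) : ∑ i, algebraMap B R (tr B R G hinj (y i * r)) * x i = r := by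
  simp_rw [algebraMap_tr, Finset.sum_mul]
  rw [Finset.sum_comm]
  have : ∀ σ : G, ∑ i, σ • (y i * r) * x i = σ • r * ∑ i, x i * σ • y i := by
    intro σ
    rw [Finset.mul_sum]
    refine Finset.sum_congr rfl fun i _ => ?_
    rw [smul_mul']; ring
  simp_rw [this, hxy]
  simp

include hxy in
lemma recon2 (r : R) : ∑ i, algebraMap B R (tr B R G hinj (r * x i)) * y i = r := by
  simp_rw [algebraMap_tr, Finset.sum_mul]
  rw [Finset.sum_comm]
  have : ∀ σ : G, ∑ i, σ • (r * x i) * y i = σ • r * ∑ i, σ • x i * y i := by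
    intro σ
    rw [Finset.mul_sum]
    refine Finset.sum_congr rfl fun i _ => ?_
    rw [smul_mul']; ring
  simp_rw [this, hxy' hxy]
  simp

include hxy hinj in
theorem projective_finite : Module.Projective B R ∧ Module.Finite B R := by
  let i : R →ₗ[B] (Fin n → B) := LinearMap.pi fun j => tr B R G hinj ∘ₗ LinearMap.mulLeft B (y j)
  let s : (Fin n → B) →ₗ[B] R := Fintype.linearCombination B x
  have hsi : s ∘ₗ i = LinearMap.id := by
    ext r
    simp only [LinearMap.comp_apply, LinearMap.id_apply, s, i, Fintype.linearCombination_apply,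
      LinearMap.pi_apply, LinearMap.mulLeft_apply]
    simp_rw [Algebra.smul_def]
    exact recon1 hinj hxy r
  refine ⟨Module.Projective.of_split i s hsi, Module.Finite.of_surjective s fun r => ⟨i r, ?_⟩⟩
  exact LinearMap.congr_fun hsi r

include hxy hinj in
theorem phi_injective : Function.Injective (phi B R G) := by
  let ψ : (G → R) → R ⊗[B] R := fun f => ∑ i, (∑ τ : G, f τ * τ • x i) ⊗ₜ[B] y i
  have hψadd : ∀ f g, ψ (f + g) = ψ f + ψ g := by
    intro f g
    simp only [ψ, Pi.add_apply, add_mul, Finset.sum_add_distrib, add_tmul]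
  have hψ : ∀ t, ψ (phi B R G t) = t := by
    intro t
    induction t using TensorProduct.induction_on with
    | zero => simp [ψ]
    | tmul a b =>
      simp only [ψ, phi_tmul]
      have h1 : ∀ i, ∑ τ : G, a * τ • b * τ • x i = a * algebraMap B R (tr B R G hinj (b * x i)) := by
        intro i
        rw [algebraMap_tr, Finset.mul_sum]
        refine Finset.sum_congr rfl fun τ _ => ?_
        rw [smul_mul']; ring
      simp_rw [h1]
      have h2 : ∀ i, (a * algebraMap B R (tr B R G hinj (b * x i))) ⊗ₜ[B] y i =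
          a ⊗ₜ[B] (algebraMap B R (tr B R G hinj (b * x i)) * y i) := by
        intro i
        rw [mul_comm a, ← Algebra.smul_def, ← Algebra.smul_def, TensorProduct.smul_tmul]
      simp_rw [h2]
      rw [← tmul_sum, recon2 hinj hxy]
    | add t t' iht iht' => rw [map_add, hψadd, iht, iht']
  exact Function.LeftInverse.injective hψ

include hxy in
theorem phi_surjective : Function.Surjective (phi B R G) := by
  intro f
  refine ⟨∑ σ : G, ∑ i, (f σ * x i) ⊗ₜ[B] (σ⁻¹ • y i), ?_⟩
  ext τ
  rw [map_sum, Finset.sum_apply]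
  simp_rw [map_sum, Finset.sum_apply, phi_tmul]
  have : ∀ σ : G, ∑ i, f σ * x i * τ • σ⁻¹ • y i = f σ * if τ * σ⁻¹ = 1 then 1 else 0 := by
    intro σ
    rw [← hxy, Finset.mul_sum]
    refine Finset.sum_congr rfl fun i _ => ?_
    rw [mul_smul]; ring
  simp_rw [this, mul_inv_eq_one]
  simp

include hxy hinj in
theorem formallyUnramified : Algebra.FormallyUnramified B R := by
  haveI := (projective_finite hinj hxy).2
  rw [Algebra.FormallyUnramified.iff_exists_tensorProduct]
  refine ⟨∑ i, x i ⊗ₜ[B] y i, fun s => ?_, ?_⟩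
  · apply phi_injective hinj hxy
    ext τ
    rw [map_mul, map_zero, map_sub, Pi.mul_apply, Pi.sub_apply, map_sum, Finset.sum_apply]
    simp_rw [phi_tmul, hxy]
    by_cases hτ : τ = 1
    · simp [hτ]
    · simp [hτ]
  · rw [map_sum]
    simp_rw [Algebra.TensorProduct.lmul'_apply_tmul]
    simpa using hxy 1

include hxy hinj in
theorem etale : Algebra.Etale B R := by
  obtain ⟨h1, h2⟩ := projective_finite hinj hxy
  haveI := formallyUnramified hinj hxy
  haveI : Module.FinitePresentation B R := Module.finitePresentation_of_projective B R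
  haveI : Algebra.FinitePresentation B R := Algebra.FinitePresentation.of_finitePresentation B R
  exact Algebra.Etale.of_formallyUnramified_of_flat

end System

end Dual

end Groth.Agent.Helper3.CHR
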