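import Mathlib

set_option autoImplicit false
set_option linter.style.haveILetI false
set_option linter.unusedSectionVars false
set_option linter.unusedVariables false
set_option linter.deprecated false
set_option linter.style.haveILetI false
set_option linter.unusedSectionVars false
set_option linter.unusedVariables false

/-!
# A group action on an algebra localizes along a submonoid of the base

`G` acting on `R` by `B`-algebra automorphisms, `M ⊆ B` a submonoid: `G` acts on `M⁻¹R`, by
`M⁻¹B`-algebra automorphisms, and if `B → R` has image the invariants then so has `M⁻¹B → M⁻¹R`.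
-/

namespace Groth.Agent.Helper3.CHR

universe u v w

section Loc

variable (B : Type u) (R : Type v) (G : Type w) [CommRing B] [CommRing R] [Algebra B R]
  [Group G] [MulSemiringAction G R] [SMulCommClass G B R] (M : Submonoid B)

/-- The localized ring. -/
abbrev Rm := Localization (Algebra.algebraMapSubmonoid R M)

lemma le_comap (σ : G) : Algebra.algebraMapSubmonoid R M ≤
    (Algebra.algebraMapSubmonoid R M).comap (MulSemiringAction.toRingHom G R σ) := by
  rintro _ ⟨b, hb, rfl⟩
  exact ⟨b, hb, (smul_algebraMap σ b).symm⟩

/-- The action on the localization, as a monoid hom to ring endomorphisms. -/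
noncomputable def actHom : G →* (Rm B R M →+* Rm B R M) where
  toFun σ := IsLocalization.map (Rm B R M) (MulSemiringAction.toRingHom G R σ) (le_comap B R G M σ)
  map_one' := by
    apply IsLocalization.ringHom_ext (Algebra.algebraMapSubmonoid R M)
    ext r
    simp [IsLocalization.map_eq]
  map_mul' σ τ := by
    apply IsLocalization.ringHom_ext (Algebra.algebraMapSubmonoid R M)
    ext r
    simp [IsLocalization.map_eq, mul_smul]

/-- The action on the localization. -/
noncomputable def locAction : MulSemiringAction G (Rm B R M) :=
  MulSemiringAction.compHom (Rm B R M) (actHom B R G M)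

attribute [local instance] locAction

lemma smul_algebraMap_loc (σ : G) (r : R) :
    σ • algebraMap R (Rm B R M) r = algebraMap R (Rm B R M) (σ • r) := by
  change IsLocalization.map (Rm B R M) (MulSemiringAction.toRingHom G R σ) (le_comap B R G M σ)
    (algebraMap R (Rm B R M) r) = _
  rw [IsLocalization.map_eq]
  rfl

lemma smul_algebraMap_base (σ : G) (b : Localization M) :
    σ • algebraMap (Localization M) (Rm B R M) b = algebraMap (Localization M) (Rm B R M) b := by
  have h : ((MulSemiringAction.toRingHom G (Rm B R M) σ).comp
      (algebraMap (Localization M) (Rm B R M))) = algebraMap (Localization M) (Rm B R M) := by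
    apply IsLocalization.ringHom_ext M
    ext c
    simp only [RingHom.comp_apply, MulSemiringAction.toRingHom_apply]
    rw [← IsScalarTower.algebraMap_apply, IsScalarTower.algebraMap_apply B R (Rm B R M),
      smul_algebraMap_loc, smul_algebraMap]
  exact RingHom.congr_fun h b

instance : SMulCommClass G (Localization M) (Rm B R M) where
  smul_comm σ b z := by
    rw [Algebra.smul_def, Algebra.smul_def, smul_mul', smul_algebraMap_base]

variable [Finite G] [Algebra.IsInvariant B R G]

instance isInvariant_loc : Algebra.IsInvariant (Localization M) (Rm B R M) G where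
  isInvariant z hz := by
    classical
    cases nonempty_fintype G
    obtain ⟨⟨r, m⟩, hrm⟩ := IsLocalization.surj (Algebra.algebraMapSubmonoid R M) z
    obtain ⟨b, hb, hbm⟩ := m.2
    simp only at hrm
    have key : ∀ σ : G, ∃ c : M, algebraMap B R c * σ • r = algebraMap B R c * r := by
      intro σ
      have h1 : algebraMap R (Rm B R M) (σ • r) = algebraMap R (Rm B R M) r := by
        rw [← smul_algebraMap_loc, ← hrm, smul_mul', hz σ, ← hbm, smul_algebraMap_loc,
          smul_algebraMap]
      obtain ⟨⟨_, c, hc, rfl⟩, hc'⟩ :=
        (IsLocalization.eq_iff_exists (Algebra.algebraMapSubmonoid R M) _).mp h1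
      exact ⟨⟨c, hc⟩, hc'⟩
    choose c hc using key
    let d : M := ∏ σ, c σ
    have hd : ∀ σ : G, algebraMap B R d * σ • r = algebraMap B R d * r := by
      intro σ
      have h2 : (d : B) = (∏ τ ∈ Finset.univ.erase σ, (c τ : B)) * c σ := by
        simp only [d, Submonoid.coe_finset_prod]
        rw [Finset.prod_erase_mul _ _ (Finset.mem_univ σ)]
      rw [h2, map_mul, mul_assoc, hc σ, mul_assoc]
    obtain ⟨a, ha⟩ := Algebra.IsInvariant.isInvariant (A := B) (G := G) (algebraMap B R d * r)
      (fun σ => by rw [smul_mul', smul_algebraMap, hd σ])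
    refine ⟨IsLocalization.mk' (Localization M) a (d * ⟨b, hb⟩), ?_⟩
    have hu : IsUnit (algebraMap R (Rm B R M) (algebraMap B R ((d * ⟨b, hb⟩ : M) : B))) :=
      IsLocalization.map_units (Rm B R M)
        (⟨_, (d * ⟨b, hb⟩ : M), (d * ⟨b, hb⟩ : M).2, rfl⟩ : Algebra.algebraMapSubmonoid R M)
    apply hu.mul_right_cancel
    have h3 : algebraMap R (Rm B R M) (algebraMap B R ((d * ⟨b, hb⟩ : M) : B)) =
        algebraMap (Localization M) (Rm B R M) (algebraMap B (Localization M) ((d * ⟨b, hb⟩ : M) : B)) := by
      rw [← IsScalarTower.algebraMap_apply, ← IsScalarTower.algebraMap_apply]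
    rw [h3, ← map_mul, IsLocalization.mk'_spec, ← IsScalarTower.algebraMap_apply,
      IsScalarTower.algebraMap_apply B R (Rm B R M), ha, ← h3]
    simp only [Submonoid.coe_mul, map_mul]
    rw [hbm, ← hrm]
    ring

include G in
lemma injective_loc (hinj : Function.Injective (algebraMap B R)) :
    Function.Injective (algebraMap (Localization M) (Rm B R M)) :=
  localizationAlgebra_injective _ _ hinj

end Loc

end Groth.Agent.Helper3.CHR
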