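import Mathlib
import Groth.Agent.Helper3.CHR1
import Groth.Agent.Helper3.CHR2

set_option autoImplicit false
set_option linter.style.haveILetI false
set_option linter.unusedSectionVars false
set_option linter.unusedVariables false
set_option linter.deprecated false
set_option linter.style.haveILetI false
set_option linter.unusedSectionVars false
set_option linter.unusedVariables false

/-!
# Free actions: global and local étaleness over the invariants
-/

namespace Groth.Agent.Helper3.CHR

universe u v w

section Global

variable (B : Type u) (R : Type v) (G : Type w) [CommRing B] [CommRing R] [Algebra B R]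
  [Group G] [Finite G] [MulSemiringAction G R] [SMulCommClass G B R] [Algebra.IsInvariant B R G]

/-- Chase–Harrison–Rosenberg: if no `σ ≠ 1` lies in the inertia group of a maximal ideal, then
`R` is finite projective and étale over the invariants `B`, and `R ⊗_B R ≅ ∏_G R`. -/
theorem global (hinj : Function.Injective (algebraMap B R))
    (h : ∀ σ : G, σ ≠ 1 → ∀ q : Ideal R, q.IsMaximal → ∃ x : R, σ • x - x ∉ q) :
    Module.Projective B R ∧ Module.Finite B R ∧ Algebra.Etale B R ∧
      Function.Bijective (phi B R G) := by
  classical
  cases nonempty_fintype G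
  obtain ⟨n, x, y, hxy⟩ := exists_dual B h
  have hxy' : ∀ σ : G, ∑ i, x i * σ • y i = if σ = 1 then 1 else 0 := by
    intro σ; convert hxy σ
  exact ⟨(projective_finite hinj hxy').1, (projective_finite hinj hxy').2, etale hinj hxy',
    phi_injective hinj hxy', phi_surjective hxy'⟩

end Global

section Local

variable (B : Type u) (R : Type v) (G : Type w) [CommRing B] [CommRing R] [Algebra B R]
  [Group G] [Finite G] [MulSemiringAction G R] [SMulCommClass G B R] [Algebra.IsInvariant B R G]

attribute [local instance] locAction

/-- Local form: if the primes of `R` over `p` have trivial inertia, then `R_p` is finite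
projective and étale over `B_p`. -/
theorem local_main (hinj : Function.Injective (algebraMap B R)) (p : Ideal B) [p.IsPrime]
    (h : ∀ q : Ideal R, q.IsPrime → q.comap (algebraMap B R) = p →
      ∀ σ : G, σ ≠ 1 → ∃ x : R, σ • x - x ∉ q) :
    Module.Projective (Localization.AtPrime p) (Rm B R p.primeCompl) ∧
      Module.Finite (Localization.AtPrime p) (Rm B R p.primeCompl) ∧
      Algebra.Etale (Localization.AtPrime p) (Rm B R p.primeCompl) ∧
      Function.Bijective (phi (Localization.AtPrime p) (Rm B R p.primeCompl) G) := by
  apply global (Localization.AtPrime p) (Rm B R p.primeCompl) G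
    (injective_loc B R G p.primeCompl hinj)
  intro σ hσ 𝔫 h𝔫
  haveI : Algebra.IsIntegral (Localization.AtPrime p) (Rm B R p.primeCompl) :=
    Algebra.IsInvariant.isIntegral _ _ G
  have h1 : 𝔫.comap (algebraMap (Localization.AtPrime p) (Rm B R p.primeCompl)) =
      IsLocalRing.maximalIdeal (Localization.AtPrime p) :=
    IsLocalRing.eq_maximalIdeal (Ideal.isMaximal_comap_of_isIntegral_of_isMaximal 𝔫)
  have h2 : (𝔫.comap (algebraMap R (Rm B R p.primeCompl))).comap (algebraMap B R) = p := by
    rw [Ideal.comap_comap, ← IsScalarTower.algebraMap_eq,
      IsScalarTower.algebraMap_eq B (Localization.AtPrime p) (Rm B R p.primeCompl),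
      ← Ideal.comap_comap, h1]
    exact Localization.AtPrime.comap_maximalIdeal (I := p)
  obtain ⟨x, hx⟩ := h _ (Ideal.comap_isPrime _ 𝔫) h2 σ hσ
  refine ⟨algebraMap R _ x, ?_⟩
  rw [smul_algebraMap_loc, ← map_sub]
  exact hx

end Local

end Groth.Agent.Helper3.CHR
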