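import Mathlib
import Groth.Agent.Helper3.CHR3

set_option autoImplicit false
set_option linter.style.haveILetI false
set_option linter.unusedSectionVars false
set_option linter.unusedVariables false
set_option linter.deprecated false
set_option linter.style.haveILetI false
set_option linter.unusedSectionVars false
set_option linter.unusedVariables false

/-!
# Étaleness at a prime with trivial inertia
-/

namespace Groth.Agent.Helper3.CHR

open scoped Pointwise

universe u v w

section AtPrime

variable (B : Type u) (R : Type v) (G : Type w) [CommRing B] [CommRing R] [Algebra B R]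
  [Group G] [Finite G] [MulSemiringAction G R] [SMulCommClass G B R] [Algebra.IsInvariant B R G]

attribute [local instance] locAction

/-- trivial inertia passes to conjugate primes -/
lemma inertia_conj (q : Ideal R) (hq : ∀ σ : G, σ ≠ 1 → ∃ x : R, σ • x - x ∉ q) (τ : G)
    (σ : G) (hσ : σ ≠ 1) : ∃ x : R, σ • x - x ∉ τ • q := by
  have h1 : τ⁻¹ * σ * τ ≠ 1 := by
    intro h
    apply hσ
    have : σ = τ * (τ⁻¹ * σ * τ) * τ⁻¹ := by group
    rw [this, h]; group
  obtain ⟨x, hx⟩ := hq _ h1
  refine ⟨τ • x, fun hmem => hx ?_⟩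
  rw [Ideal.mem_pointwise_smul_iff_inv_smul_mem] at hmem
  rw [smul_sub, smul_smul, smul_smul, inv_smul_smul] at hmem
  exact hmem

/-- If no `σ ≠ 1` lies in the inertia group of the prime `q`, then `R_q` is formally étale over the
invariants `B`. -/
theorem formallyEtale_atPrime (hinj : Function.Injective (algebraMap B R))
    (q : Ideal R) [q.IsPrime] (hq : ∀ σ : G, σ ≠ 1 → ∃ x : R, σ • x - x ∉ q) :
    Algebra.FormallyEtale B (Localization.AtPrime q) := by
  set p := q.comap (algebraMap B R) with hp
  haveI : p.IsPrime := Ideal.comap_isPrime _ _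
  obtain ⟨-, -, het, -⟩ := local_main B R G hinj p (fun q' hq' hq'p σ hσ => by
    haveI := hq'
    obtain ⟨τ, rfl⟩ := Algebra.IsInvariant.exists_smul_of_under_eq B R G q q' hq'p.symm
    exact inertia_conj R G q hq τ σ hσ)
  set Bp := Localization.AtPrime p
  set Rp := Rm B R p.primeCompl
  set Rq := Localization.AtPrime q
  have hle : Algebra.algebraMapSubmonoid R p.primeCompl ≤ q.primeCompl := by
    rintro _ ⟨b, hb, rfl⟩ hbq
    exact hb hbq
  letI : Algebra Rp Rq := IsLocalization.localizationAlgebraOfSubmonoidLe Rp Rq _ _ hle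
  haveI : IsScalarTower R Rp Rq :=
    IsLocalization.localization_isScalarTower_of_submonoid_le Rp Rq _ _ hle
  haveI : IsLocalization (q.primeCompl.map (algebraMap R Rp)) Rq :=
    IsLocalization.isLocalization_of_submonoid_le Rp Rq _ _ hle
  haveI : Algebra.FormallyEtale Rp Rq :=
    Algebra.FormallyEtale.of_isLocalization (q.primeCompl.map (algebraMap R Rp))
  letI : Algebra Bp Rq := ((algebraMap Rp Rq).comp (algebraMap Bp Rp)).toAlgebra
  haveI : IsScalarTower Bp Rp Rq := IsScalarTower.of_algebraMap_eq' rfl
  haveI : IsScalarTower B Bp Rq := IsScalarTower.of_algebraMap_eq' (by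
    rw [RingHom.algebraMap_toAlgebra, RingHom.comp_assoc, ← IsScalarTower.algebraMap_eq B Bp Rp,
      IsScalarTower.algebraMap_eq B R Rp, ← RingHom.comp_assoc,
      ← IsScalarTower.algebraMap_eq R Rp Rq, ← IsScalarTower.algebraMap_eq B R Rq])
  haveI : Algebra.FormallyEtale Bp Rq := Algebra.FormallyEtale.comp Bp Rp Rq
  haveI : Algebra.FormallyEtale B Bp := Algebra.FormallyEtale.of_isLocalization p.primeCompl
  exact Algebra.FormallyEtale.comp B Bp Rq

end AtPrime

section Converse

open IsLocalRing

/-- A ring endomorphism of a Noetherian local ring fixing generators of the maximal ideal and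
representatives of the residue field is the identity. -/
theorem endo_eq_id (S : Type*) [CommRing S] [IsLocalRing S] [IsNoetherianRing S]
    (τ : S →+* S) (gens : Set S) (hgens : Ideal.span gens = maximalIdeal S)
    (hfix : ∀ g ∈ gens, τ g = g)
    (hres : ∀ z : S, ∃ c : S, τ c = c ∧ z - c ∈ maximalIdeal S) (z : S) : τ z = z := by
  have key : ∀ n : ℕ, ∀ z : S, τ z - z ∈ maximalIdeal S ^ n := by
    intro n
    induction n with
    | zero => intro z; simp
    | succ n ih =>
      have hm : ∀ y ∈ maximalIdeal S, τ y - y ∈ maximalIdeal S ^ (n + 1) := by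
        intro y hy
        rw [← hgens] at hy
        suffices h : y ∈ maximalIdeal S ∧ τ y - y ∈ maximalIdeal S ^ (n + 1) from h.2
        induction hy using Submodule.span_induction with
        | mem g hg =>
          refine ⟨hgens ▸ Ideal.subset_span hg, ?_⟩
          rw [hfix g hg, sub_self]; exact zero_mem _
        | zero => exact ⟨zero_mem _, by simp⟩
        | add a b _ _ ha hb =>
          refine ⟨add_mem ha.1 hb.1, ?_⟩
          have : τ (a + b) - (a + b) = (τ a - a) + (τ b - b) := by rw [map_add]; ring
          rw [this]; exact add_mem ha.2 hb.2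
        | smul a y _ hy =>
          refine ⟨Ideal.mul_mem_left _ _ hy.1, ?_⟩
          have : τ (a • y) - a • y = τ a * (τ y - y) + (τ a - a) * y := by
            rw [smul_eq_mul, map_mul]; ring
          rw [this]
          refine add_mem (Ideal.mul_mem_left _ _ hy.2) ?_
          rw [pow_succ]
          exact Ideal.mul_mem_mul (ih a) hy.1
      intro z
      obtain ⟨c, hc, hzc⟩ := hres z
      have : τ z - z = τ (z - c) - (z - c) := by rw [map_sub, hc]; ring
      rw [this]
      exact hm _ hzc
  have h0 : τ z - z ∈ (⨅ n, maximalIdeal S ^ n : Ideal S) := by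
    rw [Ideal.mem_iInf]; intro n; exact key n z
  rw [Ideal.iInf_pow_eq_bot_of_isLocalRing _ (maximalIdeal.isMaximal S).ne_top] at h0
  exact sub_eq_zero.mp h0

variable (B : Type u) (R : Type v) (G : Type w) [CommRing B] [CommRing R] [Algebra B R]
  [Group G] [MulSemiringAction G R] [SMulCommClass G B R]

/-- If `R` is unramified over `B` at a maximal ideal `m` whose residue field is covered by
invariant elements, the stabilizer of `m` acts trivially. -/
theorem stabilizer_eq_bot_of_unramified [IsDomain R] [IsNoetherianRing R] [FaithfulSMul G R]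
    [Algebra.EssFiniteType B R] (m : Ideal R) [m.IsMaximal]
    [Algebra.FormallyUnramified B (Localization.AtPrime m)]
    (hres : ∀ r : R, ∃ c : R, (∀ σ : G, σ • c = c) ∧ r - c ∈ m) :
    MulAction.stabilizer G m = ⊥ := by
  rw [eq_bot_iff]
  intro σ hσ
  rw [MulAction.mem_stabilizer_iff] at hσ
  rw [Subgroup.mem_bot]
  set Rm := Localization.AtPrime m
  set p := m.under B with hp
  haveI : m.LiesOver p := ⟨rfl⟩
  letI := Localization.AtPrime.algebraOfLiesOver p m
  have hmap : p.map (algebraMap B Rm) = maximalIdeal Rm :=
    ((Algebra.isUnramifiedAt_iff_map_eq B p m).mp ‹_›).2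
  have hσm : m.primeCompl ≤ m.primeCompl.comap (MulSemiringAction.toRingHom G R σ) := by
    intro r hr hmem
    apply hr
    have h1 : σ • r ∈ σ • m := by rw [hσ]; exact hmem
    exact (Ideal.smul_mem_pointwise_smul_iff).mp h1
  let τ : Rm →+* Rm := IsLocalization.map Rm (MulSemiringAction.toRingHom G R σ) hσm
  have hτ : ∀ r : R, τ (algebraMap R Rm r) = algebraMap R Rm (σ • r) := by
    intro r
    exact IsLocalization.map_eq hσm r
  have hid : ∀ z : Rm, τ z = z := by
    apply endo_eq_id Rm τ (algebraMap B Rm '' p) hmap
    · rintro _ ⟨b, -, rfl⟩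
      rw [IsScalarTower.algebraMap_apply B R Rm, hτ, smul_algebraMap]
    · intro z
      let e := IsLocalization.AtPrime.equivQuotMaximalIdeal m Rm
      obtain ⟨rbar, hr⟩ := e.surjective (Ideal.Quotient.mk _ z)
      obtain ⟨r, rfl⟩ := Ideal.Quotient.mk_surjective rbar
      rw [IsLocalization.AtPrime.equivQuotMaximalIdeal_apply_mk] at hr
      obtain ⟨c, hc, hrc⟩ := hres r
      refine ⟨algebraMap R Rm c, by rw [hτ, hc], ?_⟩
      have h1 : z - algebraMap R Rm r ∈ maximalIdeal Rm := by
        rw [← Ideal.Quotient.eq]; exact hr.symm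
      have h2 : algebraMap R Rm (r - c) ∈ maximalIdeal Rm := by
        rw [← Localization.AtPrime.map_eq_maximalIdeal]
        exact Ideal.mem_map_of_mem _ hrc
      have : z - algebraMap R Rm c = (z - algebraMap R Rm r) + algebraMap R Rm (r - c) := by
        rw [map_sub]; ring
      rw [this]
      exact add_mem h1 h2
  apply FaithfulSMul.eq_of_smul_eq_smul (α := R)
  intro r
  rw [one_smul]
  apply IsLocalization.injective Rm m.primeCompl_le_nonZeroDivisors
  rw [← hτ, hid]

end Converse

end Groth.Agent.Helper3.CHR
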