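import Mathlib
import Groth.Prelude
import Groth.Agent.Helper7.FinCMFlat
import Groth.Agent.Helper5.NormCM1

set_option autoImplicit false
set_option linter.style.haveILetI false
set_option linter.unusedSectionVars false
set_option linter.unusedVariables false
set_option linter.deprecated false
set_option linter.style.haveILetI false
set_option linter.unusedSectionVars false
set_option linter.unusedVariables false

universe u v w

namespace Groth.Agent.Helper3.Pur2

open IsLocalRing

/-- Single-universe version: a normal domain of dimension `≤ 2`, finite and injective over a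
regular local ring, is flat. -/
theorem flat_of_normal_dim_two' (R A : Type u) [CommRing R] [IsRegularLocalRing R] [CommRing A]
    [IsDomain A] [IsIntegrallyClosed A] [Algebra R A] [Module.Finite R A]
    (hinj : Function.Injective (algebraMap R A)) (hdim : ringKrullDim A ≤ 2) :
    Module.Flat R A := by
  haveI : IsNoetherianRing A := IsNoetherianRing.of_finite R A
  apply Groth.Agent.Helper7.FinCMFlat.main R A hinj
  intro q hq
  haveI : IsIntegrallyClosed (Localization.AtPrime q) :=
    isIntegrallyClosed_of_isLocalization (Localization.AtPrime q) q.primeCompl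
      q.primeCompl_le_nonZeroDivisors
  apply Groth.Agent.Helper5.NormCM.cm_of_normal_dim_le_two
  rw [IsLocalization.AtPrime.ringKrullDim_eq_height q]
  exact (Ideal.height_le_ringKrullDim_of_ne_top hq.ne_top).trans hdim

theorem flat_transport {R R' A A' : Type*} [CommRing R] [CommRing R'] [CommRing A] [CommRing A']
    [Algebra R A] [Algebra R' A'] (eR : R' ≃+* R) (eA : A' ≃+* A)
    (he : (algebraMap R A).comp eR.toRingHom = eA.toRingHom.comp (algebraMap R' A'))
    (h : Module.Flat R' A') : Module.Flat R A := by
  rw [← RingHom.flat_algebraMap_iff] at h ⊢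
  have h1 : algebraMap R A = (eA.toRingHom.comp (algebraMap R' A')).comp eR.symm.toRingHom := by
    rw [← he]
    ext x
    simp
  rw [h1]
  exact RingHom.Flat.comp (RingHom.Flat.of_bijective eR.symm.bijective)
    (RingHom.Flat.comp h (RingHom.Flat.of_bijective eA.bijective))

/-- Universe-polymorphic version. -/
theorem flat_of_normal_dim_two (R : Type u) (A : Type v) [CommRing R] [IsRegularLocalRing R]
    [CommRing A] [IsDomain A] [IsIntegrallyClosed A] [Algebra R A] [Module.Finite R A]
    (hinj : Function.Injective (algebraMap R A)) (hdim : ringKrullDim A ≤ 2) :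
    Module.Flat R A := by
  let eR : ULift.{v} R ≃+* R := ULift.ringEquiv
  let eA : ULift.{u} A ≃+* A := ULift.ringEquiv
  let alg : Algebra (ULift.{v} R) (ULift.{u} A) :=
    (eA.symm.toRingHom.comp ((algebraMap R A).comp eR.toRingHom)).toAlgebra
  haveI : IsRegularLocalRing (ULift.{v} R) := IsRegularLocalRing.of_ringEquiv eR.symm
  haveI : IsDomain (ULift.{u} A) := eA.toMulEquiv.isDomain
  haveI : IsIntegrallyClosed (ULift.{u} A) := IsIntegrallyClosed.of_equiv eA.symm
  have hfin : @Module.Finite (ULift.{v} R) (ULift.{u} A) _ _ alg.toModule :=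
    @Module.Finite.of_equiv_equiv R A (ULift.{v} R) (ULift.{u} A) _ _ _ _ _ alg eR.symm eA.symm
      (by ext; rfl) _
  have hinj' : Function.Injective (@algebraMap (ULift.{v} R) (ULift.{u} A) _ _ alg) := by
    intro x y hxy
    have h1 : eA.symm (algebraMap R A (eR x)) = eA.symm (algebraMap R A (eR y)) := hxy
    exact eR.injective (hinj (eA.symm.injective h1))
  have hdim' : ringKrullDim (ULift.{u} A) ≤ 2 := by
    rw [ringKrullDim_eq_of_ringEquiv eA]; exact hdim
  have hflat' : @Module.Flat (ULift.{v} R) (ULift.{u} A) _ _ alg.toModule :=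
    @flat_of_normal_dim_two' (ULift.{v} R) (ULift.{u} A) _ _ _ _ _ alg hfin hinj' hdim'
  exact @flat_transport R (ULift.{v} R) A (ULift.{u} A) _ _ _ _ _ alg eR eA (by ext; rfl) hflat'

end Groth.Agent.Helper3.Pur2
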