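import Mathlib
import Groth.Prelude
import Groth.Agent.Helper1.TraceEtale

set_option autoImplicit false
set_option linter.style.haveILetI false
set_option linter.unusedSectionVars false
set_option linter.unusedVariables false
set_option linter.deprecated false
set_option linter.style.haveILetI false
set_option linter.unusedSectionVars false
set_option linter.unusedVariables false

universe u v w

namespace Groth.Agent.Helper3.Pur2

open IsLocalRing

/-- Purity for finite free algebras over a local ring in which every non-unit lies in a
non-maximal prime: étale over the punctured spectrum implies étale. -/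
theorem etale_of_free (R : Type u) (A : Type v) [CommRing R] [IsLocalRing R] [CommRing A]
    [Algebra R A] [Module.Free R A] [Module.Finite R A]
    (hd : ∀ d : R, d ∈ maximalIdeal R →
      ∃ 𝔭 : Ideal R, 𝔭.IsPrime ∧ 𝔭 ≠ maximalIdeal R ∧ d ∈ 𝔭)
    (h : ∀ (𝔭 : Ideal R) [𝔭.IsPrime], 𝔭 ≠ maximalIdeal R →
      Algebra.Etale (Localization.AtPrime 𝔭)
        (Localization (Algebra.algebraMapSubmonoid A 𝔭.primeCompl))) :
    Algebra.Etale R A := by
  classical
  let b := Module.Free.chooseBasis R A
  rw [Groth.Agent.Helper1.TraceEtale.etale_iff_exists_dualFamily b,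
    Groth.Agent.Helper1.TraceEtale.exists_dualFamily_iff_isUnit_discr b]
  by_contra hnu
  have hdm : Algebra.discr R b ∈ maximalIdeal R := (mem_maximalIdeal _).mpr hnu
  obtain ⟨𝔭, h𝔭, hne, hmem⟩ := hd _ hdm
  haveI := h𝔭
  have het := h 𝔭 hne
  have hb' := Algebra.discr_localizationLocalization R 𝔭.primeCompl
    (Localization (Algebra.algebraMapSubmonoid A 𝔭.primeCompl))
    (Rₘ := Localization.AtPrime 𝔭) b
  have hunit : IsUnit (Algebra.discr (Localization.AtPrime 𝔭)
      (b.localizationLocalization (Localization.AtPrime 𝔭) 𝔭.primeCompl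
        (Localization (Algebra.algebraMapSubmonoid A 𝔭.primeCompl)))) := by
    rw [← Groth.Agent.Helper1.TraceEtale.exists_dualFamily_iff_isUnit_discr,
      ← Groth.Agent.Helper1.TraceEtale.etale_iff_exists_dualFamily]
    exact het
  rw [hb'] at hunit
  have := (IsLocalization.AtPrime.isUnit_to_map_iff (Localization.AtPrime 𝔭) 𝔭 _).mp hunit
  exact this hmem

end Groth.Agent.Helper3.Pur2
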