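import Mathlib
import Groth.Prelude

set_option autoImplicit false
set_option linter.style.haveILetI false
set_option linter.unusedSectionVars false
set_option linter.unusedVariables false
set_option linter.deprecated false
set_option linter.style.haveILetI false
set_option linter.unusedSectionVars false
set_option linter.unusedVariables false

universe u

namespace Groth.Agent.Helper3.PosA
open IsLocalRing

section Len
variable {A B : Type u} [CommRing A] [CommRing B] [Algebra A B] [IsLocalRing B]

/-- a simple module over a local ring `B` stays simple over `A` when `A → B / 𝔪_B` is onto -/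
theorem isSimpleModule_restrict
    (hres : ∀ b : B, ∃ a : A, b - algebraMap A B a ∈ maximalIdeal B)
    (S : Type u) [AddCommGroup S] [Module A S] [Module B S] [IsScalarTower A B S]
    [IsSimpleModule B S] : IsSimpleModule A S := by
  have hann : Module.annihilator B S = maximalIdeal B :=
    IsLocalRing.eq_maximalIdeal IsSimpleModule.annihilator_isMaximal
  haveI : Nontrivial S := IsSimpleModule.nontrivial B S
  have key : ∀ N : Submodule A S, ∃ N' : Submodule B S, (N' : Set S) = N := by
    intro N
    refine ⟨{ carrier := N, add_mem' := N.add_mem, zero_mem' := N.zero_mem, smul_mem' := ?_ }, rfl⟩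
    intro b s hs
    obtain ⟨a, ha⟩ := hres b
    have h0 : (b - algebraMap A B a) • s = 0 := by
      have : b - algebraMap A B a ∈ Module.annihilator B S := hann ▸ ha
      exact Module.mem_annihilator.mp this s
    have h1 : b • s = a • s := by
      rw [sub_smul, sub_eq_zero] at h0
      rw [h0, algebraMap_smul]
    show b • s ∈ N
    rw [h1]
    exact N.smul_mem a hs
  rw [isSimpleModule_iff]
  refine { exists_pair_ne := ⟨⊥, ⊤, bot_ne_top⟩, eq_bot_or_eq_top := ?_ }
  intro N
  obtain ⟨N', hN'⟩ := key N
  rcases eq_bot_or_eq_top N' with h | h
  · left
    apply SetLike.coe_injective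
    rw [← hN', h]
    rfl
  · right
    apply SetLike.coe_injective
    rw [← hN', h]
    rfl

theorem length_restrict_le
    (hres : ∀ b : B, ∃ a : A, b - algebraMap A B a ∈ maximalIdeal B)
    (M : Type u) [AddCommGroup M] [Module B M] (h : IsFiniteLength B M) :
    ∀ [Module A M] [IsScalarTower A B M], Module.length A M ≤ Module.length B M := by
  induction h with
  | of_subsingleton =>
    intro _ _
    rw [Module.length_eq_zero, Module.length_eq_zero]
  | @of_simple_quotient M _ _ N _ _ ih =>
    intro _ _
    have h1 := Module.length_eq_add_of_exact (N.subtype.restrictScalars A)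
      (N.mkQ.restrictScalars A) (Submodule.subtype_injective _) (Submodule.mkQ_surjective _)
      (LinearMap.exact_subtype_mkQ N)
    have h2 := Module.length_eq_add_of_exact N.subtype N.mkQ (Submodule.subtype_injective _)
      (Submodule.mkQ_surjective _) (LinearMap.exact_subtype_mkQ N)
    haveI : IsSimpleModule A (M ⧸ N) := isSimpleModule_restrict hres (M ⧸ N)
    rw [h1, h2, Module.length_eq_one (R := A) (M := M ⧸ N), Module.length_eq_one (R := B) (M := M ⧸ N)]
    gcongr
    exact ih

theorem length_restrict
    (hres : ∀ b : B, ∃ a : A, b - algebraMap A B a ∈ maximalIdeal B)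
    (M : Type u) [AddCommGroup M] [Module A M] [Module B M] [IsScalarTower A B M] :
    Module.length A M = Module.length B M := by
  apply le_antisymm
  · by_cases h : IsFiniteLength B M
    · exact length_restrict_le hres M h
    · rw [← Module.length_ne_top_iff, not_not] at h
      rw [h]
      exact le_top
  · have := Submodule.length_le_length_restrictScalars A (⊤ : Submodule B M)
    rw [Module.length_top] at this
    refine this.trans ?_
    have e : ((⊤ : Submodule B M).restrictScalars A) ≃ₗ[A] M :=
      (LinearEquiv.ofEq _ _ (Submodule.restrictScalars_top A B M)).trans Submodule.topEquiv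
    exact e.length_eq.le

theorem length_semilinear
    (hres : ∀ b : B, ∃ a : A, b - algebraMap A B a ∈ maximalIdeal B)
    (M : Type u) [AddCommGroup M] [Module A M] (M' : Type u) [AddCommGroup M'] [Module B M']
    (σ : M →ₛₗ[algebraMap A B] M') (hσ : Function.Bijective σ) :
    Module.length A M = Module.length B M' := by
  letI : Module A M' := Module.compHom M' (algebraMap A B)
  haveI : IsScalarTower A B M' := IsScalarTower.of_algebraMap_smul fun r x => rfl
  let e0 : M →ₗ[A] M' :=
    { toFun := σ, map_add' := σ.map_add, map_smul' := fun a m => σ.map_smulₛₗ a m }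
  let e : M ≃ₗ[A] M' := LinearEquiv.ofBijective e0 hσ
  rw [e.length_eq]
  exact length_restrict hres M'

end Len

end Groth.Agent.Helper3.PosA
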