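import Mathlib

open Polynomial IntermediateField

namespace Groth.Agent.Helper3.PurInsepGen

/-- If `F` is generated as a field by the images of `K` and `M`, `K / k` is algebraic and the minimal
polynomials of the separable elements of `K` split in `M`, then `F / M` is purely inseparable. -/
theorem isPurelyInseparable_of_splits {k K M F : Type*} [Field k] [Field K] [Field M] [Field F]
    [Algebra k K] [Algebra k M] [Algebra K F] [Algebra M F] [Algebra k F] [IsScalarTower k K F]
    [IsScalarTower k M F] [Algebra.IsAlgebraic k K]
    (hspl : ∀ c : K, IsSeparable k c → ((minpoly k c).map (algebraMap k M)).Splits)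
    (hgen : ∀ y : F, ∃ n d : F,
      n ∈ Subring.closure (Set.range (algebraMap K F) ∪ Set.range (algebraMap M F)) ∧
      d ∈ Subring.closure (Set.range (algebraMap K F) ∪ Set.range (algebraMap M F)) ∧
      d ≠ 0 ∧ y * d = n) :
    IsPurelyInseparable M F := by
  set q := ringExpChar k with hq
  haveI : ExpChar k q := ringExpChar.expChar k
  haveI : ExpChar M q := expChar_of_injective_algebraMap (algebraMap k M).injective q
  haveI : ExpChar K q := expChar_of_injective_algebraMap (algebraMap k K).injective q
  haveI : ExpChar (separableClosure k K) q :=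
    expChar_of_injective_algebraMap (algebraMap k (separableClosure k K)).injective q
  rw [isPurelyInseparable_iff_perfectClosure_eq_top, eq_top_iff]
  have step1 : ∀ c : K, algebraMap K F c ∈ perfectClosure M F := by
    intro c
    obtain ⟨n, ⟨c', hc'⟩, hcc'⟩ := IsPurelyInseparable.pow_mem (separableClosure k K) q c
    have hsep : IsSeparable k c' := mem_separableClosure_iff.mp hc'
    have hint : IsIntegral k c' := hsep.isIntegral
    have hne : (minpoly k c').map (algebraMap k M) ≠ 0 :=
      (Polynomial.map_ne_zero_iff (algebraMap k M).injective).mpr (minpoly.ne_zero hint)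
    have hroot : (((minpoly k c').map (algebraMap k M)).map (algebraMap M F)).IsRoot
        (algebraMap K F c') := by
      rw [Polynomial.map_map, ← IsScalarTower.algebraMap_eq, IsRoot.def, eval_map_algebraMap,
        aeval_algebraMap_apply, minpoly.aeval, map_zero]
    obtain ⟨m, hm⟩ := (hspl c' hsep).mem_range_of_isRoot hne hroot
    rw [mem_perfectClosure_iff_pow_mem q]
    refine ⟨n, m, ?_⟩
    rw [hm, ← map_pow, ← hcc']
    rfl
  have step2 : Subring.closure (Set.range (algebraMap K F) ∪ Set.range (algebraMap M F)) ≤
      (perfectClosure M F).toSubalgebra.toSubring := by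
    rw [Subring.closure_le]
    rintro _ (⟨c, rfl⟩ | ⟨m, rfl⟩)
    · exact step1 c
    · exact (perfectClosure M F).algebraMap_mem m
  intro y _
  obtain ⟨n, d, hn, hd, hd0, hy⟩ := hgen y
  have : y = n / d := by rw [eq_div_iff hd0, hy]
  rw [this]
  exact div_mem (step2 hn) (step2 hd)

end Groth.Agent.Helper3.PurInsepGen
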