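import Mathlib
import Groth.Agent.Helper3.QFRes
import Groth.Agent.Helper3.PurInsepGen

open AlgebraicGeometry CategoryTheory CategoryTheory.Limits TopologicalSpace Opposite

universe u

namespace Groth.Agent.Helper3.PtResidue

open Scheme.Pullback

variable {X S U : Scheme.{u}} (f : X ⟶ S) (g : U ⟶ S)

/-- the image of `ofPointTensor` lies in the subring generated by the two residue fields -/
theorem range_ofPointTensor_le (v : ↑(pullback f g)) (z : (Triplet.ofPoint v).tensor) :
    (ofPointTensor v).hom z ∈ Subring.closure
      (Set.range ((pullback.fst f g).residueFieldMap v).hom ∪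
        Set.range ((pullback.snd f g).residueFieldMap v).hom) := by
  set R₁ := Subring.closure
      (Set.range ((pullback.fst f g).residueFieldMap v).hom ∪
        Set.range ((pullback.snd f g).residueFieldMap v).hom) with hR₁
  let incl : CommRingCat.of R₁ ⟶ (pullback f g).residueField v := CommRingCat.ofHom R₁.subtype
  let φ₁ : X.residueField (pullback.fst f g v) ⟶ CommRingCat.of R₁ :=
    CommRingCat.ofHom (((pullback.fst f g).residueFieldMap v).hom.codRestrict R₁
      (fun a => Subring.subset_closure (Or.inl ⟨a, rfl⟩)))
  let φ₂ : U.residueField (pullback.snd f g v) ⟶ CommRingCat.of R₁ :=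
    CommRingCat.ofHom (((pullback.snd f g).residueFieldMap v).hom.codRestrict R₁
      (fun a => Subring.subset_closure (Or.inr ⟨a, rfl⟩)))
  have h1 : φ₁ ≫ incl = (pullback.fst f g).residueFieldMap v := by ext a; rfl
  have h2 : φ₂ ≫ incl = (pullback.snd f g).residueFieldMap v := by ext a; rfl
  have hcomm := residueFieldCongr_inv_residueFieldMap_ofPoint (f := f) (g := g) v
  have h3 : ((S.residueFieldCongr (Triplet.ofPoint v).hx).inv ≫
      f.residueFieldMap (Triplet.ofPoint v).x) ≫ φ₁ =
      ((S.residueFieldCongr (Triplet.ofPoint v).hy).inv ≫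
        g.residueFieldMap (Triplet.ofPoint v).y) ≫ φ₂ := by
    ext a
    exact congr($(hcomm).hom a)
  let χ : (Triplet.ofPoint v).tensor ⟶ CommRingCat.of R₁ := pushout.desc φ₁ φ₂ h3
  have h4 : χ ≫ incl = ofPointTensor v := by
    apply pushout.hom_ext
    · exact (pushout.inl_desc_assoc φ₁ φ₂ h3 incl).trans (h1.trans (pushout.inl_desc _ _ _).symm)
    · exact (pushout.inr_desc_assoc φ₁ φ₂ h3 incl).trans (h2.trans (pushout.inr_desc _ _ _).symm)
  have h5 : (ofPointTensor v).hom z = (χ.hom z : (pullback f g).residueField v) := by
    rw [← h4]; rfl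
  rw [h5]
  exact (χ.hom z).2


set_option backward.isDefEq.respectTransparency.types false in
theorem fromSpecResidueField_eq (A : CommRingCat.{u}) (p : Spec A) :
    (Spec A).fromSpecResidueField p = Spec.map (QFRes.ev A p) := by
  rw [QFRes.ev_eq, Spec.map_comp]
  exact (Scheme.Spec.map_residueFieldIso_inv_eq_fromSpecResidueField A p).symm

theorem frac_ofPointTensor (T : Triplet f g) (p : Spec T.tensor)
    (y : (pullback f g).residueField (T.SpecTensorTo p)) :
    ∃ n d : (Triplet.ofPoint (T.SpecTensorTo p)).tensor,
      (ofPointTensor (T.SpecTensorTo p)).hom d ≠ 0 ∧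
      y * (ofPointTensor (T.SpecTensorTo p)).hom d = (ofPointTensor (T.SpecTensorTo p)).hom n := by
  have H := Triplet.Spec_ofPointTensor_SpecTensorTo T p
  rw [fromSpecResidueField_eq, ← Spec.map_comp, ← Spec.map_comp] at H
  have H' := Spec.map_injective H
  set ρ := (Scheme.Hom.residueFieldMap T.SpecTensorTo p) with hρ
  set c := (Triplet.tensorCongr (T.ofPoint_SpecTensorTo p).symm).hom with hc
  obtain ⟨n, d, hd, hnd⟩ := QFRes.ev_fraction T.tensor p (ρ.hom y)
  have e1 : ∀ a : T.tensor, ρ.hom ((ofPointTensor (T.SpecTensorTo p)).hom (c.hom a)) =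
      (QFRes.ev T.tensor p).hom a := fun a => congr($(H').hom a)
  refine ⟨c.hom n, c.hom d, ?_, ?_⟩
  · intro h0
    apply hd
    rw [← e1, h0, map_zero]
  · apply ρ.hom.injective
    rw [map_mul, e1, e1, mul_comm]
    exact hnd


theorem gen (v : ↑(pullback f g)) (y : (pullback f g).residueField v) :
    ∃ n d : (pullback f g).residueField v,
      n ∈ Subring.closure (Set.range ((pullback.fst f g).residueFieldMap v).hom ∪
        Set.range ((pullback.snd f g).residueFieldMap v).hom) ∧
      d ∈ Subring.closure (Set.range ((pullback.fst f g).residueFieldMap v).hom ∪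
        Set.range ((pullback.snd f g).residueFieldMap v).hom) ∧ d ≠ 0 ∧ y * d = n := by
  obtain ⟨⟨T, p⟩, rfl⟩ := (carrierEquiv (f := f) (g := g)).symm.surjective v
  obtain ⟨n, d, hd, hnd⟩ := frac_ofPointTensor f g T p y
  exact ⟨_, _, range_ofPointTensor_le f g _ n, range_ofPointTensor_le f g _ d, hd, hnd⟩

/-- `κ(x)` is algebraic over `κ(s)` and the minimal polynomials of its separable elements split
in `κ(u)`. -/
def SplitAt (x : X) (u : U) (s : S) (hx : f x = s) (hu : g u = s) : Prop :=
  letI := ((S.residueFieldCongr hx).inv ≫ f.residueFieldMap x).hom.toAlgebra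
  letI := ((S.residueFieldCongr hu).inv ≫ g.residueFieldMap u).hom.toAlgebra
  Algebra.IsAlgebraic (S.residueField s) (X.residueField x) ∧
    ∀ c : X.residueField x, IsSeparable (S.residueField s) c →
      ((minpoly (S.residueField s) c).map
        (algebraMap (S.residueField s) (U.residueField u))).Splits

theorem SplitAt.congr {x : X} {u : U} {s : S} {hx : f x = s} {hu : g u = s}
    (h : SplitAt f g x u s hx hu) (v : ↑(pullback f g)) (e1 : pullback.fst f g v = x)
    (e2 : pullback.snd f g v = u) :
    SplitAt f g (pullback.fst f g v) (pullback.snd f g v) s (e1 ▸ hx) (e2 ▸ hu) := by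
  subst e1 e2
  exact h

theorem isPurelyInseparable_of_splitAt (v : ↑(pullback f g)) (s : S)
    (hx : f (pullback.fst f g v) = s) (hu : g (pullback.snd f g v) = s)
    (h : SplitAt f g (pullback.fst f g v) (pullback.snd f g v) s hx hu) :
    letI := ((pullback.snd f g).residueFieldMap v).hom.toAlgebra
    IsPurelyInseparable (U.residueField (pullback.snd f g v)) ((pullback f g).residueField v) := by
  subst hx
  letI a1 : Algebra (S.residueField (f (pullback.fst f g v))) (X.residueField (pullback.fst f g v)) :=
    ((S.residueFieldCongr rfl).inv ≫ f.residueFieldMap (pullback.fst f g v)).hom.toAlgebra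
  letI a2 : Algebra (S.residueField (f (pullback.fst f g v))) (U.residueField (pullback.snd f g v)) :=
    ((S.residueFieldCongr hu).inv ≫ g.residueFieldMap (pullback.snd f g v)).hom.toAlgebra
  letI a3 : Algebra (X.residueField (pullback.fst f g v)) ((pullback f g).residueField v) :=
    ((pullback.fst f g).residueFieldMap v).hom.toAlgebra
  letI a4 : Algebra (U.residueField (pullback.snd f g v)) ((pullback f g).residueField v) :=
    ((pullback.snd f g).residueFieldMap v).hom.toAlgebra
  letI a5 : Algebra (S.residueField (f (pullback.fst f g v))) ((pullback f g).residueField v) :=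
    ((algebraMap (X.residueField (pullback.fst f g v)) ((pullback f g).residueField v)).comp
      (algebraMap (S.residueField (f (pullback.fst f g v)))
        (X.residueField (pullback.fst f g v)))).toAlgebra
  haveI : IsScalarTower (S.residueField (f (pullback.fst f g v)))
      (X.residueField (pullback.fst f g v)) ((pullback f g).residueField v) :=
    IsScalarTower.of_algebraMap_eq' rfl
  haveI : IsScalarTower (S.residueField (f (pullback.fst f g v)))
      (U.residueField (pullback.snd f g v)) ((pullback f g).residueField v) := by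
    apply IsScalarTower.of_algebraMap_eq'
    have hcomm := residueFieldCongr_inv_residueFieldMap_ofPoint (f := f) (g := g) v
    exact congr($(hcomm).hom)
  obtain ⟨halg, hspl⟩ := h
  haveI := halg
  exact PurInsepGen.isPurelyInseparable_of_splits hspl (gen f g v)

end Groth.Agent.Helper3.PtResidue
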