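import Mathlib
import Groth.Agent.Helper3.PtResidue
import Groth.Agent.Helper3.QFResFin

open AlgebraicGeometry CategoryTheory CategoryTheory.Limits TopologicalSpace Opposite

universe u

namespace Groth.Agent.Helper3.PtResidue

variable {X S U : Scheme.{u}} (f : X ⟶ S) (g : U ⟶ S)

theorem finite_of_quasiFiniteAt (x : X) (s : S) (hx : f x = s) (hq : f.QuasiFiniteAt x) :
    letI := ((S.residueFieldCongr hx).inv ≫ f.residueFieldMap x).hom.toAlgebra
    Module.Finite (S.residueField s) (X.residueField x) := by
  subst hx
  have h1 := QFResFin.finite_residueFieldMap f x hq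
  have key : ((S.residueFieldCongr (rfl : f x = f x)).inv ≫ f.residueFieldMap x).hom.toAlgebra =
      (f.residueFieldMap x).hom.toAlgebra := by
    apply Algebra.algebra_ext
    intro r
    show ((S.residueFieldCongr rfl).inv ≫ f.residueFieldMap x).hom r = (f.residueFieldMap x).hom r
    simp
  rw [key]
  exact h1

theorem SplitAt.precomp {U' : Scheme.{u}} (h : U' ⟶ U) {x : X} {u' : U'} {s : S} {hx : f x = s}
    {hu : g (h u') = s} (H : SplitAt f g x (h u') s hx hu) (hu' : (h ≫ g) u' = s) :
    SplitAt f (h ≫ g) x u' s hx hu' := by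
  obtain ⟨halg, hspl⟩ := H
  refine ⟨halg, fun c hc => ?_⟩
  have h1 := hspl c hc
  letI a1 : Algebra (S.residueField s) (X.residueField x) :=
    ((S.residueFieldCongr hx).inv ≫ f.residueFieldMap x).hom.toAlgebra
  have h2 : ((S.residueFieldCongr hu').inv ≫ (h ≫ g).residueFieldMap u').hom =
      (h.residueFieldMap u').hom.comp
        ((S.residueFieldCongr hu).inv ≫ g.residueFieldMap (h u')).hom := by
    rw [Scheme.residueFieldMap_comp]
    rfl
  show (Polynomial.map ((S.residueFieldCongr hu').inv ≫ (h ≫ g).residueFieldMap u').hom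
    (minpoly (S.residueField s) c)).Splits
  rw [h2, ← Polynomial.map_map]
  exact h1.map _

theorem SplitAt.of_algEquiv {x : X} {u : U} {s : S} (hx : f x = s) (hu : g u = s)
    (L : Type u) [Field L] [Algebra (S.residueField s) L]
    (e : letI := ((S.residueFieldCongr hu).inv ≫ g.residueFieldMap u).hom.toAlgebra
      L ≃ₐ[S.residueField s] U.residueField u)
    (halg : letI := ((S.residueFieldCongr hx).inv ≫ f.residueFieldMap x).hom.toAlgebra
      Algebra.IsAlgebraic (S.residueField s) (X.residueField x))
    (hspl : letI := ((S.residueFieldCongr hx).inv ≫ f.residueFieldMap x).hom.toAlgebra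
      ∀ c : X.residueField x, IsSeparable (S.residueField s) c →
        ((minpoly (S.residueField s) c).map (algebraMap (S.residueField s) L)).Splits) :
    SplitAt f g x u s hx hu := by
  refine ⟨halg, fun c hc => ?_⟩
  have h1 := hspl c hc
  letI a1 : Algebra (S.residueField s) (X.residueField x) :=
    ((S.residueFieldCongr hx).inv ≫ f.residueFieldMap x).hom.toAlgebra
  letI a2 : Algebra (S.residueField s) (U.residueField u) :=
    ((S.residueFieldCongr hu).inv ≫ g.residueFieldMap u).hom.toAlgebra
  have h2 : algebraMap (S.residueField s) (U.residueField u) =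
      (e : L →+* U.residueField u).comp (algebraMap (S.residueField s) L) := by
    ext r
    exact (e.commutes r).symm
  rw [h2, ← Polynomial.map_map]
  exact h1.map _

end Groth.Agent.Helper3.PtResidue
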