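import Mathlib
import Groth.Agent.Helper3.QFSch
import Groth.Agent.Helper3.QFMulti

open AlgebraicGeometry CategoryTheory CategoryTheory.Limits TopologicalSpace Opposite TensorProduct

universe u

namespace Groth.Agent.Helper3.QFMultiSch

/-- the chart, together with the finite open pieces cut out by idempotents -/
theorem chart_full {X S : Scheme.{u}} (f : X ⟶ S) {S₀ : S.Opens} (hS₀ : IsAffineOpen S₀)
    {W : X.Opens} (hW : IsAffineOpen W) (hWS : W ≤ f ⁻¹ᵁ S₀) (R' : Type u) [CommRing R']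
    [Algebra Γ(S, S₀) R'] :
    letI : Algebra Γ(S, S₀) Γ(X, W) := (f.appLE S₀ W hWS).hom.toAlgebra
    ∃ ρ : Spec (CommRingCat.of (R' ⊗[Γ(S, S₀)] Γ(X, W))) ⟶
        pullback f (Spec.map (CommRingCat.ofHom (algebraMap Γ(S, S₀) R')) ≫ hS₀.fromSpec),
      IsOpenImmersion ρ ∧
      ρ ≫ pullback.fst f _ = Spec.map (CommRingCat.ofHom
        (Algebra.TensorProduct.includeRight :
          Γ(X, W) →ₐ[Γ(S, S₀)] R' ⊗[Γ(S, S₀)] Γ(X, W)).toRingHom) ≫ hW.fromSpec ∧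
      ρ ≫ pullback.snd f _ =
        Spec.map (CommRingCat.ofHom Algebra.TensorProduct.includeLeftRingHom) ∧
      Set.range ρ = (pullback.fst f _) ⁻¹' W ∧
      ∀ e : R' ⊗[Γ(S, S₀)] Γ(X, W), IsIdempotentElem e →
        Module.Finite R' ((R' ⊗[Γ(S, S₀)] Γ(X, W)) ⧸ Ideal.span {1 - e}) →
        ∃ V : (pullback f (Spec.map (CommRingCat.ofHom (algebraMap Γ(S, S₀) R')) ≫
            hS₀.fromSpec)).Opens,
          IsFinite (V.ι ≫ pullback.snd f _) ∧ (V : Set _) ⊆ Set.range ρ ∧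
          ∀ t', ρ t' ∈ V ↔ e ∉ t'.asIdeal := by
  letI : Algebra Γ(S, S₀) Γ(X, W) := (f.appLE S₀ W hWS).hom.toAlgebra
  obtain ⟨ρ, hρo, hρ1, hρ2, hρr⟩ := EtLocalSch.chart f hS₀ hW hWS R'
  refine ⟨ρ, hρo, hρ1, hρ2, hρr, fun e he hfin => ?_⟩
  let T := R' ⊗[Γ(S, S₀)] Γ(X, W)
  let g := Spec.map (CommRingCat.ofHom (algebraMap Γ(S, S₀) R')) ≫ hS₀.fromSpec
  let θ : Spec (CommRingCat.of (T ⧸ Ideal.span {1 - e})) ⟶ Spec (CommRingCat.of T) :=
    Spec.map (CommRingCat.ofHom (Ideal.Quotient.mk (Ideal.span {1 - e})))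
  haveI hθo : IsOpenImmersion θ := (QFSch.idem_piece e he).1
  have hθr : Set.range θ = {t : Spec (CommRingCat.of T) | e ∉ t.asIdeal} :=
    (QFSch.idem_piece e he).2
  let j := θ ≫ ρ
  have hjs : j ≫ pullback.snd f g =
      Spec.map (CommRingCat.ofHom (algebraMap R' (T ⧸ Ideal.span {1 - e}))) := by
    show (θ ≫ ρ) ≫ pullback.snd f g = _
    rw [Category.assoc, hρ2, ← Spec.map_comp]
    rfl
  refine ⟨j.opensRange, ?_, ?_, ?_⟩
  · have h1 : j.opensRange.ι ≫ pullback.snd f g = j.isoOpensRange.inv ≫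
        Spec.map (CommRingCat.ofHom (algebraMap R' (T ⧸ Ideal.span {1 - e}))) := by
      rw [← hjs, ← Category.assoc, Scheme.Hom.isoOpensRange_inv_comp]
    rw [h1]
    haveI : IsFinite (Spec.map (CommRingCat.ofHom (algebraMap R' (T ⧸ Ideal.span {1 - e})))) := by
      rw [IsFinite.SpecMap_iff]
      exact RingHom.finite_algebraMap.mpr hfin
    infer_instance
  · rintro _ ⟨a, rfl⟩
    exact ⟨θ a, rfl⟩
  · intro t'
    constructor
    · rintro ⟨a, ha⟩
      have h2 : θ a = t' := ρ.isOpenEmbedding.injective ha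
      have : θ a ∈ Set.range θ := ⟨a, rfl⟩
      rw [hθr, h2] at this
      exact this
    · intro h
      have : t' ∈ Set.range θ := by rw [hθr]; exact h
      obtain ⟨a, rfl⟩ := this
      exact ⟨a, rfl⟩

set_option maxHeartbeats 1600000 in
theorem stageA {X S : Scheme.{u}} (f : X ⟶ S) [LocallyOfFiniteType f] (s : S) {ι : Type}
    [Finite ι] (x : ι → X) (hs : ∀ i, f (x i) = s) (hx : ∀ i, f.QuasiFiniteAt (x i))
    {S₀ : S.Opens} (hS₀ : IsAffineOpen S₀) (hsS₀ : s ∈ S₀)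
    (R₀ : Type u) [CommRing R₀] [Algebra Γ(S, S₀) R₀] [Algebra.Etale Γ(S, S₀) R₀]
    (u₀ : Spec (CommRingCat.of R₀))
    (hu₀ : (Spec.map (CommRingCat.ofHom (algebraMap Γ(S, S₀) R₀)) ≫ hS₀.fromSpec) u₀ = s) :
    ∃ (R' : Type u) (_ : CommRing R') (_ : Algebra R₀ R') (_ : Algebra Γ(S, S₀) R')
      (_ : IsScalarTower Γ(S, S₀) R₀ R') (_ : Algebra.Etale Γ(S, S₀) R')
      (u : Spec (CommRingCat.of R')),
      Spec.map (CommRingCat.ofHom (algebraMap R₀ R')) u = u₀ ∧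
      ∀ i, ∃ (m : ℕ)
        (V : Fin m → (pullback f (Spec.map (CommRingCat.ofHom (algebraMap Γ(S, S₀) R')) ≫
          hS₀.fromSpec)).Opens)
        (v : Fin m → ↑(pullback f (Spec.map (CommRingCat.ofHom (algebraMap Γ(S, S₀) R')) ≫
          hS₀.fromSpec))),
        (∀ j, v j ∈ V j ∧ IsFinite ((V j).ι ≫ pullback.snd f _) ∧
          pullback.snd f _ (v j) = u ∧ pullback.fst f _ (v j) = x i ∧
          ∀ w, w ∈ V j → pullback.snd f _ w = u → w = v j) ∧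
        Function.Injective v ∧
        ∀ w, pullback.snd f _ w = u → pullback.fst f _ w = x i → ∃ j, w = v j := by
  classical
  haveI := hS₀.isOpenImmersion_fromSpec
  have hW : ∀ i, ∃ W : X.Opens, IsAffineOpen W ∧ x i ∈ W ∧ W ≤ f ⁻¹ᵁ S₀ := by
    intro i
    have hxS₀ : x i ∈ f ⁻¹ᵁ S₀ := by
      show f (x i) ∈ S₀
      rw [hs i]; exact hsS₀
    obtain ⟨_, ⟨W, hW, rfl⟩, hxW, hWS⟩ :=
      X.isBasis_affineOpens.exists_subset_of_mem_open hxS₀ (f ⁻¹ᵁ S₀).2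
    exact ⟨W, hW, hxW, hWS⟩
  choose W hW hxW hWS using hW
  letI algC : ∀ i, Algebra Γ(S, S₀) Γ(X, W i) := fun i => (f.appLE S₀ (W i) (hWS i)).hom.toAlgebra
  haveI : ∀ i, Algebra.FiniteType Γ(S, S₀) Γ(X, W i) := fun i =>
    f.finiteType_appLE hS₀ (hW i) (hWS i)
  let p := (hS₀.primeIdealOf ⟨s, hsS₀⟩).asIdeal
  let q : ∀ i, Ideal Γ(X, W i) := fun i => ((hW i).primeIdealOf ⟨x i, hxW i⟩).asIdeal
  haveI : p.IsPrime := (hS₀.primeIdealOf ⟨s, hsS₀⟩).isPrime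
  haveI : ∀ i, (q i).IsPrime := fun i => ((hW i).primeIdealOf ⟨x i, hxW i⟩).isPrime
  haveI : ∀ i, (q i).LiesOver p := fun i => by
    have h1 := QFSch.liesOver_primeIdealOf f hS₀ (hW i) (hWS i) (x i) (hxW i)
    have h2 : hS₀.primeIdealOf ⟨f (x i), hWS i (hxW i)⟩ = hS₀.primeIdealOf ⟨s, hsS₀⟩ := by
      congr 1
      exact Subtype.ext (hs i)
    rw [h2] at h1
    exact h1
  haveI : ∀ i, Algebra.QuasiFiniteAt Γ(S, S₀) (q i) := fun i =>
    (hx i).quasiFiniteAt (hW i) hS₀ (hWS i) (hxW i)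
  let P₀ : Ideal R₀ := u₀.asIdeal
  haveI : P₀.IsPrime := u₀.isPrime
  haveI : P₀.LiesOver p := by
    constructor
    have h1 : Spec.map (CommRingCat.ofHom (algebraMap Γ(S, S₀) R₀)) u₀ =
        hS₀.primeIdealOf ⟨s, hsS₀⟩ := by
      apply hS₀.fromSpec.isOpenEmbedding.injective
      rw [hS₀.fromSpec_primeIdealOf]
      exact hu₀
    exact (congrArg PrimeSpectrum.asIdeal h1).symm
  obtain ⟨R', _, _, _, _, _, P, _, _, H⟩ := QFMulti.ringA Γ(S, S₀) p (fun i => Γ(X, W i)) q R₀ P₀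
  let u : Spec (CommRingCat.of R') := ⟨P, ‹_›⟩
  refine ⟨R', ‹_›, ‹_›, ‹_›, ‹_›, ‹_›, u, ?_, fun i => ?_⟩
  · apply PrimeSpectrum.ext
    exact (P.over_def P₀).symm
  obtain ⟨m, e, t, Hj, htinj, Hcov⟩ := H i
  obtain ⟨ρ, hρo, hρ1, hρ2, hρr, hpc⟩ := chart_full f hS₀ (hW i) (hWS i) R'
  let T := R' ⊗[Γ(S, S₀)] Γ(X, W i)
  let g := Spec.map (CommRingCat.ofHom (algebraMap Γ(S, S₀) R')) ≫ hS₀.fromSpec
  let inr : Γ(X, W i) ⟶ CommRingCat.of T :=
    CommRingCat.ofHom (Algebra.TensorProduct.includeRight :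
      Γ(X, W i) →ₐ[Γ(S, S₀)] T).toRingHom
  haveI := (hW i).isOpenImmersion_fromSpec
  have htp : ∀ t' : Spec (CommRingCat.of T), pullback.snd f g (ρ t') = u ↔
      t'.asIdeal.comap (algebraMap R' T) = P := by
    intro t'
    have h5 : pullback.snd f g (ρ t') = (ρ ≫ pullback.snd f g) t' := rfl
    rw [h5, hρ2]
    constructor
    · intro h; exact congrArg PrimeSpectrum.asIdeal h
    · intro h; exact PrimeSpectrum.ext h
  have h6 : ∀ t' : Spec (CommRingCat.of T),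
      pullback.fst f g (ρ t') = (hW i).fromSpec (Spec.map inr t') := by
    intro t'
    show (ρ ≫ pullback.fst f g) t' = _
    rw [hρ1]
    rfl
  have h7 : ∀ t' : Spec (CommRingCat.of T), pullback.fst f g (ρ t') = x i ↔
      t'.asIdeal.comap (Algebra.TensorProduct.includeRight :
        Γ(X, W i) →ₐ[Γ(S, S₀)] T).toRingHom = q i := by
    intro t'
    rw [h6]
    constructor
    · intro h
      have : Spec.map inr t' = (hW i).primeIdealOf ⟨x i, hxW i⟩ := by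
        apply (hW i).fromSpec.isOpenEmbedding.injective
        rw [h, (hW i).fromSpec_primeIdealOf]
      exact congrArg PrimeSpectrum.asIdeal this
    · intro h
      have : Spec.map inr t' = (hW i).primeIdealOf ⟨x i, hxW i⟩ := PrimeSpectrum.ext h
      rw [this, (hW i).fromSpec_primeIdealOf]
  choose V hVfin hVsub hVmem using fun j => hpc (e j) (Hj j).1 (Hj j).2.1
  let tt : Fin m → Spec (CommRingCat.of T) := fun j => ⟨t j, (Hj j).2.2.1⟩
  refine ⟨m, V, fun j => ρ (tt j), fun j => ⟨?_, hVfin j, ?_, ?_, ?_⟩, ?_, ?_⟩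
  · rw [hVmem j]
    exact ((Hj j).2.2.2.2.2 (t j) (Hj j).2.2.1 (Hj j).2.2.2.1).mpr rfl
  · exact (htp (tt j)).mpr (Hj j).2.2.2.1
  · exact (h7 (tt j)).mpr (Hj j).2.2.2.2.1
  · intro w hwV hwu
    obtain ⟨t', rfl⟩ := hVsub j hwV
    have h1 := (hVmem j t').mp hwV
    have h2 := (htp t').mp hwu
    have h3 := ((Hj j).2.2.2.2.2 t'.asIdeal t'.isPrime h2).mp h1
    have : t' = tt j := PrimeSpectrum.ext h3
    rw [this]
  · intro j j' hjj'
    have h1 : tt j = tt j' := ρ.isOpenEmbedding.injective hjj'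
    exact htinj (congrArg PrimeSpectrum.asIdeal h1)
  · intro w hwu hwx
    have hwr : w ∈ Set.range ρ := by
      rw [hρr]
      show pullback.fst f g w ∈ W i
      rw [hwx]; exact hxW i
    obtain ⟨t', rfl⟩ := hwr
    obtain ⟨j, hj⟩ := Hcov t'.asIdeal t'.isPrime ((htp t').mp hwu) ((h7 t').mp hwx)
    refine ⟨j, ?_⟩
    have : t' = tt j := PrimeSpectrum.ext hj
    rw [this]

end Groth.Agent.Helper3.QFMultiSch
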