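import Mathlib
import Groth.Agent.Helper3.ResNbhdSch

open AlgebraicGeometry CategoryTheory Limits

universe u

namespace Groth.Agent.Helper3.ResNbhdSch

set_option maxHeartbeats 400000 in
theorem main' {S : Scheme.{u}} {V : S.Opens} (hV : IsAffineOpen V) (s : S) (hsV : s ∈ V)
    (k : Type u) [Field k]
    [Algebra (S.residueField s) k] [FiniteDimensional (S.residueField s) k]
    [Algebra.IsSeparable (S.residueField s) k] :
    ∃ (R' : Type u) (_ : CommRing R') (_ : Algebra Γ(S, V) R') (_ : Algebra.Etale Γ(S, V) R')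
      (g : Spec (CommRingCat.of R') ⟶ S)
      (_ : g = Spec.map (CommRingCat.ofHom (algebraMap Γ(S, V) R')) ≫ hV.fromSpec)
      (u : Spec (CommRingCat.of R')) (hu : g u = s),
      letI := ((S.residueFieldCongr hu).inv ≫ g.residueFieldMap u).hom.toAlgebra
      Nonempty (k ≃ₐ[S.residueField s] (Spec (CommRingCat.of R')).residueField u) := by
  let ev := S.evaluation V s hsV
  letI : Algebra Γ(S, V) (S.residueField s) := ev.hom.toAlgebra
  letI : Algebra Γ(S, V) k := ((algebraMap (S.residueField s) k).comp ev.hom).toAlgebra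
  haveI : IsScalarTower Γ(S, V) (S.residueField s) k := .of_algebraMap_eq' rfl
  obtain ⟨R', _, _, hR', β, hβ⟩ := ResNbhd.exists_etale_algHom Γ(S, V) (S.residueField s)
    (exists_fraction hV s hsV) k
  let φ : S.residueField s ⟶ CommRingCat.of k := CommRingCat.ofHom (algebraMap (S.residueField s) k)
  let a : Spec (CommRingCat.of k) ⟶ S := Spec.map φ ≫ S.fromSpecResidueField s
  let g : Spec (CommRingCat.of R') ⟶ S :=
    Spec.map (CommRingCat.ofHom (algebraMap Γ(S, V) R')) ≫ hV.fromSpec
  let b : Spec (CommRingCat.of k) ⟶ Spec (CommRingCat.of R') :=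
    Spec.map (CommRingCat.ofHom β.toRingHom)
  haveI hjo : IsOpenImmersion hV.fromSpec := hV.isOpenImmersion_fromSpec
  have hget : Etale g := by
    have : Etale (Spec.map (CommRingCat.ofHom (algebraMap Γ(S, V) R'))) :=
      HasRingHomProperty.Spec_iff.mpr (RingHom.etale_algebraMap.mpr hR')
    show Etale (Spec.map (CommRingCat.ofHom (algebraMap Γ(S, V) R')) ≫ hV.fromSpec)
    infer_instance
  have hev : Spec.map ev ≫ hV.fromSpec = S.fromSpecResidueField s := by
    rw [Scheme.fromSpecResidueField, ← hV.fromSpecStalk_eq_fromSpecStalk hsV]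
    unfold IsAffineOpen.fromSpecStalk
    rw [← Category.assoc, ← Spec.map_comp, Scheme.germ_residue]
  have hbg : b ≫ g = a := by
    simp only [b, g, a]
    rw [← Category.assoc, ← Spec.map_comp, ← hev, ← Category.assoc, ← Spec.map_comp]
    congr 2
    ext r
    show β (algebraMap Γ(S, V) R' r) = algebraMap Γ(S, V) k r
    exact β.commutes r
  set u := b.base (IsLocalRing.closedPoint k) with hu_def
  have hu : g.base u = s := by
    have : (b ≫ g).base (IsLocalRing.closedPoint k) = s := by
      rw [hbg]
      show (S.fromSpecResidueField s).base ((Spec.map φ).base _) = s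
      exact Scheme.fromSpecResidueField_apply s _
    exact this
  let δ : (Spec (CommRingCat.of R')).residueField u ⟶ CommRingCat.of k :=
    Scheme.descResidueField (Scheme.stalkClosedPointTo b)
  -- compatibility with the residue field of `s`
  have hcompat : (S.residueFieldCongr hu).inv ≫ g.residueFieldMap u ≫ δ = φ := by
    have h1 := Scheme.descResidueField_stalkClosedPointTo_comp g b
    have h2 : (Scheme.SpecToEquivOfField k S) (b ≫ g) = ⟨s, φ⟩ := by
      rw [hbg]
      exact (Scheme.SpecToEquivOfField k S).right_inv ⟨s, φ⟩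
    rw [Scheme.SpecToEquivOfField_eq_iff] at h2
    obtain ⟨e, he⟩ := h2
    simp only [Scheme.SpecToEquivOfField_apply_snd] at he
    rw [Iso.inv_comp_eq]
    rw [← h1]
    exact he
  have hfac : ∃ γ : CommRingCat.of R' ⟶ (Spec (CommRingCat.of R')).residueField u,
      γ ≫ δ = CommRingCat.ofHom β.toRingHom := by
    obtain ⟨γ, hγ⟩ := Spec.map_surjective ((Spec (CommRingCat.of R')).fromSpecResidueField u)
    refine ⟨γ, ?_⟩
    apply Spec.map_injective
    rw [Spec.map_comp, hγ]
    exact Scheme.descResidueField_stalkClosedPointTo_fromSpecResidueField k _ b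
  obtain ⟨γ, hγ⟩ := hfac
  have hbij : Function.Bijective δ.hom := by
    refine ⟨δ.hom.injective, ?_⟩
    have hle : Subfield.closure (Set.range β) ≤ δ.hom.fieldRange := by
      rw [Subfield.closure_le]
      rintro _ ⟨x, rfl⟩
      exact ⟨γ.hom x, congr($(hγ).hom x)⟩
    rw [hβ] at hle
    intro x
    exact hle (Subfield.mem_top x)
  refine ⟨R', ‹CommRing R'›, ‹Algebra Γ(S, V) R'›, hR', g, rfl, u, hu, ?_⟩
  letI := ((S.residueFieldCongr hu).inv ≫ g.residueFieldMap u).hom.toAlgebra
  let δ' : (Spec (CommRingCat.of R')).residueField u →ₐ[S.residueField s] k :=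
    { δ.hom with
      commutes' := fun c => by
        have := congr($(hcompat).hom c)
        exact this }
  exact ⟨(AlgEquiv.ofBijective δ' hbij).symm⟩

end Groth.Agent.Helper3.ResNbhdSch
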