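import Mathlib

open Polynomial IntermediateField

universe u

namespace Groth.Agent.Helper3.SplitExt

/-- A finite separable extension splitting the minimal polynomials of all separable elements of
finitely many finite extensions. -/
theorem exists_splitting_ext (k : Type u) [Field k] {ι : Type} [Finite ι] (K : ι → Type u)
    [∀ i, Field (K i)] [∀ i, Algebra k (K i)] [∀ i, FiniteDimensional k (K i)] :
    ∃ (L : Type u) (_ : Field L) (_ : Algebra k L) (_ : FiniteDimensional k L)
      (_ : Algebra.IsSeparable k L),
      ∀ i (c : K i), IsSeparable k c → ((minpoly k c).map (algebraMap k L)).Splits := by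
  let Ω := SeparableClosure k
  let E : ∀ i, IntermediateField k (K i) := fun i => separableClosure k (K i)
  let σ : ∀ i, E i →ₐ[k] Ω := fun i => IsSepClosed.lift
  let N : ι → IntermediateField k Ω := fun i => normalClosure k (E i) Ω
  let L : IntermediateField k Ω := ⨆ i, N i
  haveI : ∀ i, Normal k (N i) := fun i => normalClosure.normal k (E i) Ω
  haveI : ∀ i, FiniteDimensional k (N i) := fun i => normalClosure.is_finiteDimensional k (E i) Ω
  haveI : Normal k L := normal_iSup k Ω N
  haveI : FiniteDimensional k L := finiteDimensional_iSup_of_finite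
  haveI : Algebra.IsSeparable k L := Algebra.isSeparable_tower_bot_of_isSeparable k L Ω
  refine ⟨L, inferInstance, inferInstance, inferInstance, inferInstance, fun i c hc => ?_⟩
  let c' : E i := ⟨c, mem_separableClosure_iff.mpr hc⟩
  have h1 : σ i c' ∈ L := by
    have h2 : σ i c' ∈ (σ i).fieldRange := ⟨c', rfl⟩
    exact (le_iSup N i) ((σ i).fieldRange_le_normalClosure h2)
  let ℓ : L := ⟨σ i c', h1⟩
  have h3 : minpoly k ℓ = minpoly k c := by
    have e1 : minpoly k ℓ = minpoly k (σ i c') := (IntermediateField.minpoly_eq ℓ)
    have e2 : minpoly k (σ i c') = minpoly k c' := minpoly.algHom_eq (σ i) (σ i).injective c'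
    have e3 : minpoly k c' = minpoly k c := (IntermediateField.minpoly_eq c')
    rw [e1, e2, e3]
  rw [← h3]
  exact Normal.splits inferInstance ℓ

end Groth.Agent.Helper3.SplitExt
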