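import Mathlib
import Groth.Agent.Helper3.QFMultiSch
import Groth.Agent.Helper3.PtResidue2
import Groth.Agent.Helper3.SplitExt
import Groth.Agent.Helper3.ResNbhdSch2

open AlgebraicGeometry CategoryTheory CategoryTheory.Limits TopologicalSpace Opposite TensorProduct

universe u

namespace Groth.Agent.Helper3.QFFinal

/-- the étale neighbourhood with split residue field, and the decomposition of the points over
it -/
theorem stageB {X S : Scheme.{u}} (f : X ⟶ S) [LocallyOfFiniteType f] (s : S) {ι : Type}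
    [Finite ι] (x : ι → X) (hs : ∀ i, f (x i) = s) (hx : ∀ i, f.QuasiFiniteAt (x i)) :
    ∃ (U : Scheme.{u}) (g : U ⟶ S) (u : U) (hu : g u = s), Etale g ∧
      (∀ i, PtResidue.SplitAt f g (x i) u s (hs i) hu) ∧
      ∀ i, ∃ (m : ℕ) (V : Fin m → (pullback f g).Opens) (v : Fin m → ↑(pullback f g)),
        (∀ j, v j ∈ V j ∧ IsFinite ((V j).ι ≫ pullback.snd f g) ∧
          pullback.snd f g (v j) = u ∧ pullback.fst f g (v j) = x i ∧
          ∀ w, w ∈ V j → pullback.snd f g w = u → w = v j) ∧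
        Function.Injective v ∧
        ∀ w, pullback.snd f g w = u → pullback.fst f g w = x i → ∃ j, w = v j := by
  obtain ⟨_, ⟨S₀, hS₀, rfl⟩, hsS₀, -⟩ := S.isBasis_affineOpens.exists_subset_of_mem_open
    (Set.mem_univ s) isOpen_univ
  replace hS₀ : IsAffineOpen S₀ := hS₀
  letI algK : ∀ i, Algebra (S.residueField s) (X.residueField (x i)) := fun i =>
    ((S.residueFieldCongr (hs i)).inv ≫ f.residueFieldMap (x i)).hom.toAlgebra
  haveI finK : ∀ i, FiniteDimensional (S.residueField s) (X.residueField (x i)) := fun i =>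
    PtResidue.finite_of_quasiFiniteAt f (x i) s (hs i) (hx i)
  obtain ⟨L, _, _, _, _, hL⟩ := SplitExt.exists_splitting_ext (S.residueField s)
    (fun i => X.residueField (x i))
  obtain ⟨R₀, _, _, _, g₀, hg₀, u₀, hu₀, ⟨e⟩⟩ := ResNbhdSch.main' hS₀ s hsS₀ L
  subst hg₀
  obtain ⟨R', _, _, _, _, _, u, huu₀, H⟩ := QFMultiSch.stageA f s x hs hx hS₀ hsS₀ R₀ u₀ hu₀
  subst huu₀
  let h : Spec (CommRingCat.of R') ⟶ Spec (CommRingCat.of R₀) :=
    Spec.map (CommRingCat.ofHom (algebraMap R₀ R'))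
  let g₀ : Spec (CommRingCat.of R₀) ⟶ S :=
    Spec.map (CommRingCat.ofHom (algebraMap Γ(S, S₀) R₀)) ≫ hS₀.fromSpec
  have hgh : Spec.map (CommRingCat.ofHom (algebraMap Γ(S, S₀) R')) ≫ hS₀.fromSpec = h ≫ g₀ := by
    show _ = Spec.map _ ≫ Spec.map _ ≫ _
    rw [← Category.assoc, ← Spec.map_comp, ← CommRingCat.ofHom_comp,
      ← IsScalarTower.algebraMap_eq]
  haveI : Etale (Spec.map (CommRingCat.ofHom (algebraMap Γ(S, S₀) R')) ≫ hS₀.fromSpec) := by
    haveI := hS₀.isOpenImmersion_fromSpec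
    have hψ : (CommRingCat.ofHom (algebraMap Γ(S, S₀) R')).hom.Etale :=
      RingHom.etale_algebraMap.mpr inferInstance
    haveI : Etale (Spec.map (CommRingCat.ofHom (algebraMap Γ(S, S₀) R'))) :=
      HasRingHomProperty.Spec_iff.mpr hψ
    infer_instance
  have key : ∀ (g : Spec (CommRingCat.of R') ⟶ S) (_ : g = h ≫ g₀), ∃ (hu : g u = s),
      (∀ i, PtResidue.SplitAt f g (x i) u s (hs i) hu) := by
    rintro _ rfl
    have hu : (h ≫ g₀) u = s := hu₀
    refine ⟨hu, fun i => ?_⟩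
    exact (PtResidue.SplitAt.of_algEquiv f g₀ (hs i) hu₀ L e
      (Algebra.IsAlgebraic.of_finite _ _) (hL i)).precomp f g₀ h hu
  obtain ⟨hu, hsplit⟩ := key _ hgh
  exact ⟨Spec (CommRingCat.of R'), _, u, hu, inferInstance, hsplit, H⟩

set_option maxHeartbeats 800000 in
theorem main {X S : Scheme.{u}} (f : X ⟶ S) [LocallyOfFiniteType f] (s : S) {ι : Type} [Finite ι]
    (x : ι → ↑X) (hinj : Function.Injective x) (hs : ∀ i, f (x i) = s)
    (hx : ∀ i, f.QuasiFiniteAt (x i)) :
    ∃ (U : Scheme.{u}) (g : U ⟶ S) (u : U), Etale g ∧ g u = s ∧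
      ∃ (J : ι → Type) (_ : ∀ i, Finite (J i)) (V : ∀ i, J i → (pullback f g).Opens)
        (v : ∀ i, J i → ↑(pullback f g)),
        (∀ i j, v i j ∈ V i j ∧ IsFinite ((V i j).ι ≫ pullback.snd f g) ∧
          pullback.snd f g (v i j) = u ∧
          (∀ w : ↑(pullback f g), w ∈ V i j → pullback.snd f g w = u → w = v i j) ∧
          (letI := ((pullback.snd f g).residueFieldMap (v i j)).hom.toAlgebra
           Module.Finite ↑(U.residueField (pullback.snd f g (v i j)))
             ↑((pullback f g).residueField (v i j)) ∧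
           IsPurelyInseparable ↑(U.residueField (pullback.snd f g (v i j)))
             ↑((pullback f g).residueField (v i j))) ∧
          pullback.fst f g (v i j) = x i) ∧
        (∀ i j i' j', v i j = v i' j' → i = i' ∧ HEq j j') ∧
        (∀ (w : ↑(pullback f g)) (i : ι), pullback.snd f g w = u → pullback.fst f g w = x i →
          ∃ j, w = v i j) := by
  obtain ⟨U, g, u, hu, hget, hsplit, H⟩ := stageB f s x hs hx
  choose m V v H1 H2 H3 using H
  refine ⟨U, g, u, hget, hu, fun i => Fin (m i), fun i => inferInstance, V, v,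
    fun i j => ⟨(H1 i j).1, (H1 i j).2.1, (H1 i j).2.2.1, (H1 i j).2.2.2.2, ⟨?_, ?_⟩,
      (H1 i j).2.2.2.1⟩, ?_, fun w i hw1 hw2 => H3 i w hw1 hw2⟩
  · haveI := (H1 i j).2.1
    exact QFResFin.finite_residue_of_isFinite (pullback.snd f g) (V i j) ⟨v i j, (H1 i j).1⟩
  · have h1 := (hsplit i).congr f g (v i j) (H1 i j).2.2.2.1 (H1 i j).2.2.1
    exact PtResidue.isPurelyInseparable_of_splitAt f g (v i j) s _ _ h1
  · intro i j i' j' hvv
    have h1 : x i = x i' := by
      rw [← (H1 i j).2.2.2.1, ← (H1 i' j').2.2.2.1, hvv]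
    have h2 : i = i' := hinj h1
    subst h2
    exact ⟨rfl, heq_of_eq (H2 i hvv)⟩

end Groth.Agent.Helper3.QFFinal
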