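import Mathlib
import Groth.Prelude

open AlgebraicGeometry CategoryTheory CategoryTheory.Limits TopologicalSpace Opposite TensorProduct

universe u

namespace Groth.Agent.Helper3.SchDense

open Groth

/-- a section all of whose germs vanish is zero -/
theorem eq_zero_of_germ {X : Scheme.{u}} {V : X.Opens} (a : Γ(X, V))
    (h : ∀ (x : X) (hx : x ∈ V), X.presheaf.germ V x hx a = 0) : a = 0 := by
  apply TopCat.Presheaf.section_ext X.sheaf V a 0
  intro x hx
  rw [map_zero]
  exact h x hx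

/-- schematic density is monotone -/
theorem mono {X : Scheme.{u}} {U U' : X.Opens} (hUU' : U ≤ U') (hU : CInt.IsSchematicallyDense U) :
    CInt.IsSchematicallyDense U' := by
  intro V
  have h1 := hU V
  have hle : V ⊓ U ≤ V ⊓ U' := inf_le_inf_left V hUU'
  have h2 : X.presheaf.map (homOfLE (inf_le_left : V ⊓ U ≤ V)).op =
      X.presheaf.map (homOfLE (inf_le_left : V ⊓ U' ≤ V)).op ≫ X.presheaf.map (homOfLE hle).op := by
    rw [← Functor.map_comp]
    rfl
  rw [h2] at h1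
  intro a b hab
  apply h1
  simp only [CommRingCat.hom_comp, RingHom.coe_comp, Function.comp_apply]
  rw [hab]

/-- key local statement: if `a` restricts to zero on `V ⊓ X_s` then `s_x^n a_x = 0` for some `n` -/
theorem exists_pow_mul_germ_eq_zero {X : Scheme.{u}} (s : Γ(X, ⊤)) {V : X.Opens} (a : Γ(X, V))
    (ha : X.presheaf.map (homOfLE (inf_le_left : V ⊓ X.basicOpen s ≤ V)).op a = 0)
    (x : X) (hx : x ∈ V) :
    ∃ n : ℕ, (X.presheaf.germ ⊤ x trivial s) ^ n * X.presheaf.germ V x hx a = 0 := by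
  obtain ⟨_, ⟨W, hW, rfl⟩, hxW, hWV : W ≤ V⟩ :=
    X.isBasis_affineOpens.exists_subset_of_mem_open hx V.2
  replace hW : IsAffineOpen W := hW
  let f : Γ(X, W) := X.presheaf.map (homOfLE (le_top : W ≤ ⊤)).op s
  let aW : Γ(X, W) := X.presheaf.map (homOfLE hWV).op a
  have hbo : X.basicOpen f = W ⊓ X.basicOpen s := Scheme.basicOpen_res _ _ _
  have hle : X.basicOpen f ≤ V ⊓ X.basicOpen s := by
    rw [hbo]; exact inf_le_inf_right _ hWV
  have h0 : X.presheaf.map (homOfLE (X.basicOpen_le f)).op aW = 0 := by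
    have : X.presheaf.map (homOfLE (X.basicOpen_le f)).op aW =
        X.presheaf.map (homOfLE hle).op
          (X.presheaf.map (homOfLE (inf_le_left : V ⊓ X.basicOpen s ≤ V)).op a) := by
      show (X.presheaf.map (homOfLE hWV).op ≫ X.presheaf.map (homOfLE (X.basicOpen_le f)).op) a =
        (X.presheaf.map (homOfLE (inf_le_left : V ⊓ X.basicOpen s ≤ V)).op ≫
          X.presheaf.map (homOfLE hle).op) a
      rw [← Functor.map_comp, ← Functor.map_comp]
      rfl
    rw [this, ha, map_zero]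
  haveI := hW.isLocalization_basicOpen f
  have h1 : algebraMap Γ(X, W) Γ(X, X.basicOpen f) aW = 0 := h0
  rw [IsLocalization.map_eq_zero_iff (Submonoid.powers f)] at h1
  obtain ⟨⟨_, n, rfl⟩, hn⟩ := h1
  refine ⟨n, ?_⟩
  have h2 : X.presheaf.germ W x hxW (f ^ n * aW) = 0 := by
    rw [hn, map_zero]
  rw [map_mul, map_pow] at h2
  have e1 : X.presheaf.germ W x hxW f = X.presheaf.germ ⊤ x trivial s :=
    TopCat.Presheaf.germ_res_apply _ _ _ _ _
  have e2 : X.presheaf.germ W x hxW aW = X.presheaf.germ V x hx a :=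
    TopCat.Presheaf.germ_res_apply _ _ _ _ _
  rw [e1, e2] at h2
  exact h2

/-- S3833 -/
theorem basicOpen_of_germ_regular (X : Scheme.{u}) (s : Γ(X, ⊤))
    (hs : ∀ x : ↥X, (X.presheaf.germ ⊤ x trivial s) ∈ nonZeroDivisors ↑(X.presheaf.stalk x)) :
    CInt.IsSchematicallyDense (X.basicOpen s) := by
  intro V
  rw [injective_iff_map_eq_zero]
  intro a ha
  apply eq_zero_of_germ
  intro x hx
  obtain ⟨n, hn⟩ := exists_pow_mul_germ_eq_zero s a ha x hx
  have h1 : (X.presheaf.germ ⊤ x trivial s) ^ n ∈ nonZeroDivisors ↑(X.presheaf.stalk x) :=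
    pow_mem (hs x) n
  exact (mul_left_mem_nonZeroDivisors_eq_zero_iff h1).mp hn

/-- flat base change preserves the triviality of the simultaneous annihilator of finitely many
elements -/
theorem flat_core {A B : Type*} [CommRing A] [CommRing B] [Algebra A B] [Module.Flat A B]
    {ι : Type*} [Fintype ι] [DecidableEq ι] (c : ι → A)
    (hinj : ∀ r : A, (∀ i, c i * r = 0) → r = 0) (b : B)
    (hb : ∀ i, algebraMap A B (c i) * b = 0) : b = 0 := by
  let g : A →ₗ[A] (ι → A) := LinearMap.pi fun i => LinearMap.mulLeft A (c i)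
  have hg : Function.Injective g := by
    rw [injective_iff_map_eq_zero]
    intro r hr
    apply hinj
    intro i
    exact congrFun hr i
  have h1 := Module.Flat.lTensor_preserves_injective_linearMap (M := B) g hg
  have h2 : (g.lTensor B) (b ⊗ₜ 1) = 0 := by
    apply (TensorProduct.piScalarRight A A B ι).injective
    rw [map_zero, LinearMap.lTensor_tmul, TensorProduct.piScalarRight_apply,
      TensorProduct.piScalarRightHom_tmul]
    ext i
    show (c i * 1) • b = 0
    rw [mul_one, Algebra.smul_def]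
    exact hb i
  have h3 : b ⊗ₜ[A] (1 : A) = 0 := h1 (h2.trans (map_zero _).symm)
  have h4 := congrArg (TensorProduct.rid A B) h3
  simpa using h4


/-- a finite cover of an open of a Noetherian affine open by basic opens -/
theorem finite_cover {X : Scheme.{u}} {W : X.Opens} (hW : IsAffineOpen W)
    [IsNoetherianRing Γ(X, W)] (O : X.Opens) (hO : O ≤ W) :
    ∃ T : Finset Γ(X, W), (∀ t ∈ T, X.basicOpen t ≤ O) ∧
      ∀ x ∈ O, ∃ t ∈ T, x ∈ X.basicOpen t := by
  haveI : NoetherianSpace W := noetherianSpace_of_isAffineOpen W hW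
  have hc : IsCompact (O : Set X) :=
    (noetherianSpace_set_iff (W : Set X)).mp ‹_› _ hO
  have hex : ∀ x : O, ∃ f : Γ(X, W), X.basicOpen f ≤ O ∧ (x : X) ∈ X.basicOpen f :=
    fun x => hW.exists_basicOpen_le x (hO x.2)
  choose f hf1 hf2 using hex
  obtain ⟨F, hF⟩ := hc.elim_finite_subcover (fun x : O => (X.basicOpen (f x) : Set X))
    (fun x => (X.basicOpen (f x)).2) (fun x hx => Set.mem_iUnion.mpr ⟨⟨x, hx⟩, hf2 ⟨x, hx⟩⟩)
  classical
  refine ⟨F.image f, ?_, ?_⟩
  · intro t ht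
    obtain ⟨x, -, rfl⟩ := Finset.mem_image.mp ht
    exact hf1 x
  · intro x hx
    obtain ⟨y, hy⟩ := Set.mem_iUnion.mp (hF hx)
    obtain ⟨hyF, hxy⟩ := Set.mem_iUnion.mp hy
    exact ⟨f y, Finset.mem_image_of_mem f hyF, hxy⟩

/-- schematic density kills simultaneous annihilators -/
theorem ann_trivial {X : Scheme.{u}} {V : X.Opens} (hV : CInt.IsSchematicallyDense V)
    {W : X.Opens} (T : Finset Γ(X, W)) (hT : ∀ x ∈ W ⊓ V, ∃ t ∈ T, x ∈ X.basicOpen t) (N : ℕ)
    (r : Γ(X, W)) (hr : ∀ t ∈ T, t ^ N * r = 0) : r = 0 := by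
  apply hV W
  rw [map_zero]
  apply eq_zero_of_germ
  intro x hx
  obtain ⟨t, ht, hxt⟩ := hT x hx
  have hxW : x ∈ W := hx.1
  have e2 : X.presheaf.germ (W ⊓ V) x hx
      (X.presheaf.map (homOfLE (inf_le_left : W ⊓ V ≤ W)).op r) = X.presheaf.germ W x hxW r :=
    TopCat.Presheaf.germ_res_apply _ _ _ _ _
  rw [e2]
  have hu : IsUnit (X.presheaf.germ W x hxW t) := (Scheme.mem_basicOpen X t x hxW).mp hxt
  have h2 : X.presheaf.germ W x hxW (t ^ N * r) = 0 := by rw [hr t ht, map_zero]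
  rw [map_mul, map_pow] at h2
  exact (hu.pow N).mul_right_eq_zero.mp h2

/-- a section vanishing on a basic open is killed by a power -/
theorem exists_pow_mul_eq_zero {X : Scheme.{u}} {W : X.Opens} (hW : IsAffineOpen W)
    (t a : Γ(X, W)) (h0 : X.presheaf.map (homOfLE (X.basicOpen_le t)).op a = 0) :
    ∃ n : ℕ, t ^ n * a = 0 := by
  haveI := hW.isLocalization_basicOpen t
  have h1 : algebraMap Γ(X, W) Γ(X, X.basicOpen t) a = 0 := h0
  rw [IsLocalization.map_eq_zero_iff (Submonoid.powers t)] at h1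
  obtain ⟨⟨_, n, rfl⟩, hn⟩ := h1
  exact ⟨n, hn⟩

set_option maxHeartbeats 800000 in
/-- the local statement for S3844 -/
theorem local_flat {X X' : Scheme.{u}} (f : X' ⟶ X) [Flat f] (V : X.Opens)
    (hV : CInt.IsSchematicallyDense V) {W : X.Opens} (hW : IsAffineOpen W)
    [IsNoetherianRing Γ(X, W)] {W' : X'.Opens} (hW' : IsAffineOpen W') (e : W' ≤ f ⁻¹ᵁ W)
    (a : Γ(X', W'))
    (ha : X'.presheaf.map (homOfLE (inf_le_left : W' ⊓ f ⁻¹ᵁ V ≤ W')).op a = 0) : a = 0 := by
  classical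
  obtain ⟨T, hT1, hT2⟩ := finite_cover hW (W ⊓ V) inf_le_left
  have hflat : (f.appLE W W' e).hom.Flat := f.flat_appLE hW hW' e
  letI : Algebra Γ(X, W) Γ(X', W') := (f.appLE W W' e).hom.toAlgebra
  haveI : Module.Flat Γ(X, W) Γ(X', W') := hflat
  -- powers killing `a`
  have hn : ∀ t : Γ(X, W), t ∈ T → ∃ n : ℕ, (f.appLE W W' e t) ^ n * a = 0 := by
    intro t ht
    apply exists_pow_mul_eq_zero hW'
    have hle : X'.basicOpen (f.appLE W W' e t) ≤ W' ⊓ f ⁻¹ᵁ V := by
      rw [Scheme.basicOpen_appLE]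
      refine inf_le_inf_left _ ?_
      intro y hy
      exact (hT1 t ht hy).2
    have : X'.presheaf.map (homOfLE (X'.basicOpen_le (f.appLE W W' e t))).op a =
        X'.presheaf.map (homOfLE hle).op
          (X'.presheaf.map (homOfLE (inf_le_left : W' ⊓ f ⁻¹ᵁ V ≤ W')).op a) := by
      show _ = (X'.presheaf.map (homOfLE (inf_le_left : W' ⊓ f ⁻¹ᵁ V ≤ W')).op ≫
          X'.presheaf.map (homOfLE hle).op) a
      rw [← Functor.map_comp]
      rfl
    rw [this, ha, map_zero]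
  choose! n hn using hn
  let N := T.sup n
  have hN : ∀ t ∈ T, (f.appLE W W' e t) ^ N * a = 0 := by
    intro t ht
    have hle : n t ≤ N := Finset.le_sup ht
    rw [← Nat.sub_add_cancel hle, pow_add, mul_assoc, hn t ht, mul_zero]
  refine flat_core (A := Γ(X, W)) (B := Γ(X', W')) (ι := ↥T) (fun i => (i : Γ(X, W)) ^ N) ?_ a ?_
  · intro r hr
    exact ann_trivial hV T hT2 N r (fun t ht => hr ⟨t, ht⟩)
  · intro i
    show (f.appLE W W' e) ((i : Γ(X, W)) ^ N) * a = 0
    rw [map_pow]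
    exact hN i i.2

/-- S3844 -/
theorem preimage_of_flat_locallyNoetherian {X X' : Scheme.{u}} (f : X' ⟶ X) [Flat f]
    [IsLocallyNoetherian X] (V : X.Opens) (hV : CInt.IsSchematicallyDense V) :
    CInt.IsSchematicallyDense (f ⁻¹ᵁ V) := by
  intro V'
  rw [injective_iff_map_eq_zero]
  intro a ha
  apply eq_zero_of_germ
  intro x' hx'
  obtain ⟨_, ⟨W, hW, rfl⟩, hxW, -⟩ := X.isBasis_affineOpens.exists_subset_of_mem_open
    (Set.mem_univ (f x')) isOpen_univ
  replace hW : IsAffineOpen W := hW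
  have hx'2 : x' ∈ V' ⊓ f ⁻¹ᵁ W := ⟨hx', hxW⟩
  obtain ⟨_, ⟨W', hW', rfl⟩, hxW', hW'V : W' ≤ V' ⊓ f ⁻¹ᵁ W⟩ :=
    X'.isBasis_affineOpens.exists_subset_of_mem_open hx'2 (V' ⊓ f ⁻¹ᵁ W).2
  replace hW' : IsAffineOpen W' := hW'
  haveI : IsNoetherianRing Γ(X, W) := IsLocallyNoetherian.component_noetherian ⟨W, hW⟩
  have hW'V' : W' ≤ V' := hW'V.trans inf_le_left
  let aW : Γ(X', W') := X'.presheaf.map (homOfLE hW'V').op a
  have haW : aW = 0 := by
    apply local_flat f V hV hW hW' (hW'V.trans inf_le_right)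
    have hle : W' ⊓ f ⁻¹ᵁ V ≤ V' ⊓ f ⁻¹ᵁ V := inf_le_inf_right _ hW'V'
    have : X'.presheaf.map (homOfLE (inf_le_left : W' ⊓ f ⁻¹ᵁ V ≤ W')).op aW =
        X'.presheaf.map (homOfLE hle).op
          (X'.presheaf.map (homOfLE (inf_le_left : V' ⊓ f ⁻¹ᵁ V ≤ V')).op a) := by
      show (X'.presheaf.map (homOfLE hW'V').op ≫
          X'.presheaf.map (homOfLE (inf_le_left : W' ⊓ f ⁻¹ᵁ V ≤ W')).op) a =
        (X'.presheaf.map (homOfLE (inf_le_left : V' ⊓ f ⁻¹ᵁ V ≤ V')).op ≫
          X'.presheaf.map (homOfLE hle).op) a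
      rw [← Functor.map_comp, ← Functor.map_comp]
      rfl
    rw [this, ha, map_zero]
  have e2 : X'.presheaf.germ W' x' hxW' aW = X'.presheaf.germ V' x' hx' a :=
    TopCat.Presheaf.germ_res_apply _ _ _ _ _
  rw [← e2, haW, map_zero]

end Groth.Agent.Helper3.SchDense
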