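import Groth.Agent.Helper3.HensProd2

/-!
S1964: a domain integral over a henselian local ring is henselian local.
-/

namespace Groth.Agent.Helper3.HensDomain

open Groth.Agent.Helper3.HensGabber IsLocalRing Polynomial

universe u

/-- Integral extensions of a local ring with nontrivial target are local homomorphisms. -/
theorem isLocalHom_of_isIntegral (A B : Type*) [CommRing A] [IsLocalRing A] [CommRing B]
    [Nontrivial B] [Algebra A B] [Algebra.IsIntegral A B] : IsLocalHom (algebraMap A B) := by
  constructor
  intro a ha
  by_contra hnu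
  have ham : a ∈ maximalIdeal A := (mem_maximalIdeal _).2 hnu
  have hker : RingHom.ker (algebraMap A B) ≤ maximalIdeal A := by
    apply IsLocalRing.le_maximalIdeal
    rw [Ne, Ideal.eq_top_iff_one, RingHom.mem_ker, map_one]
    exact one_ne_zero
  obtain ⟨Q, hQ, hQA⟩ := Ideal.exists_ideal_over_maximal_of_isIntegral (S := B)
    (maximalIdeal A) hker
  have : algebraMap A B a ∈ Q := by
    rw [← Ideal.mem_comap, hQA]; exact ham
  exact hQ.ne_top (Ideal.eq_top_of_isUnit_mem _ this ha)

/-- A finite algebra over a henselian local ring which is a domain is local. -/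
theorem local_of_finite_domain (A : Type u) [CommRing A] [HenselianLocalRing A]
    (B : Type u) [CommRing B] [IsDomain B] [Algebra A B] [Module.Finite A B] : IsLocalRing B := by
  classical
  obtain ⟨ι, hι, C, hC, hCloc, ⟨φ⟩⟩ := HensProd.finite_pi_of_hens A B
  haveI := hCloc
  have hdom : ∀ x y : (∀ i, C i), x * y = 0 → x = 0 ∨ y = 0 := by
    intro x y hxy
    have := congrArg φ.symm hxy
    rw [map_mul, map_zero] at this
    rcases mul_eq_zero.1 this with h | h
    · left; simpa using congrArg φ h
    · right; simpa using congrArg φ h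
  have hsub : Subsingleton ι := by
    constructor
    intro i j
    by_contra hij
    have h0 : (Pi.single i (1 : C i) : ∀ i, C i) * Pi.single j (1 : C j) = 0 := by
      ext k
      by_cases hk : k = i
      · subst hk; simp [Pi.single_eq_of_ne hij]
      · simp [Pi.single_eq_of_ne hk]
    rcases hdom _ _ h0 with h | h
    · have := congrFun h i
      simp at this
    · have := congrFun h j
      simp at this
  have hne : Nonempty ι := by
    by_contra hemp
    rw [not_nonempty_iff] at hemp
    have : (1 : ∀ i, C i) = 0 := Subsingleton.elim _ _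
    have h2 := congrArg φ.symm this
    rw [map_one, map_zero] at h2
    exact one_ne_zero h2
  obtain ⟨i₀⟩ := hne
  haveI : Unique ι := ⟨⟨i₀⟩, fun j => Subsingleton.elim _ _⟩
  let ψ : B ≃+* C default := φ.trans (RingEquiv.piUnique C)
  exact ψ.symm.isLocalRing

/-- A domain integral over a henselian local ring is local. -/
theorem local_of_integral_domain (A B : Type u) [CommRing A] [HenselianLocalRing A] [CommRing B]
    [IsDomain B] [Algebra A B] [Algebra.IsIntegral A B] : IsLocalRing B := by
  refine IsLocalRing.of_isUnit_or_isUnit_one_sub_self fun b => ?_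
  haveI : Module.Finite A (Algebra.adjoin A {b}) :=
    Algebra.finite_adjoin_simple_of_isIntegral (Algebra.IsIntegral.isIntegral b)
  haveI : IsLocalRing (Algebra.adjoin A {b}) := local_of_finite_domain A _
  let b₀ : Algebra.adjoin A {b} := ⟨b, Algebra.subset_adjoin rfl⟩
  rcases IsLocalRing.isUnit_or_isUnit_one_sub_self b₀ with h | h
  · left; exact h.map (Algebra.adjoin A {b}).val
  · right
    have := h.map (Algebra.adjoin A {b}).val
    simpa [b₀] using this

/-- A domain integral over a henselian local ring is henselian local. -/
theorem hens_of_integral_domain (A B : Type u) [CommRing A] [HenselianLocalRing A] [CommRing B]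
    [IsDomain B] [Algebra A B] [Algebra.IsIntegral A B] : HenselianLocalRing B := by
  haveI : IsLocalRing B := local_of_integral_domain A B
  refine ⟨fun f hf a₀ h₁ h₂ => ?_⟩
  classical
  set s : Set B := ↑f.coeffs ∪ {a₀} with hs
  have hsfin : s.Finite := (Finset.finite_toSet _).union (Set.finite_singleton _)
  haveI : Module.Finite A (Algebra.adjoin A s) :=
    Algebra.finite_adjoin_of_finite_of_isIntegral hsfin
      (fun x _ => Algebra.IsIntegral.isIntegral x)
  haveI : IsLocalRing (Algebra.adjoin A s) := local_of_finite_domain A _
  haveI : HenselianLocalRing (Algebra.adjoin A s) := HensLocal.finite_local A _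
  haveI : Algebra.IsIntegral (Algebra.adjoin A s) B := Algebra.IsIntegral.tower_top (R := A)
  haveI hloc : IsLocalHom (algebraMap (Algebra.adjoin A s) B) := isLocalHom_of_isIntegral _ B
  have hlift : f ∈ Polynomial.lifts (algebraMap (Algebra.adjoin A s) B) := by
    rw [Polynomial.lifts_iff_coeff_lifts]
    intro n
    by_cases h0 : f.coeff n = 0
    · exact ⟨0, by rw [map_zero, h0]⟩
    · refine ⟨⟨f.coeff n, Algebra.subset_adjoin (Or.inl ?_)⟩, rfl⟩
      exact Polynomial.coeff_mem_coeffs h0
  obtain ⟨f₀, hf₀map, -, hf₀monic⟩ := Polynomial.lifts_and_degree_eq_and_monic hlift hf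
  let a₀' : Algebra.adjoin A s := ⟨a₀, Algebra.subset_adjoin (Or.inr rfl)⟩
  have hev : ∀ (p : (Algebra.adjoin A s)[X]) (x : Algebra.adjoin A s),
      (p.map (algebraMap (Algebra.adjoin A s) B)).eval (algebraMap _ B x) =
        algebraMap _ B (p.eval x) := by
    intro p x
    rw [Polynomial.eval_map, Polynomial.eval₂_at_apply]
  have h₁' : f₀.eval a₀' ∈ maximalIdeal (Algebra.adjoin A s) := by
    rw [mem_maximalIdeal]
    intro hu
    have := hu.map (algebraMap (Algebra.adjoin A s) B)
    rw [← hev, hf₀map] at this
    exact (mem_maximalIdeal _).1 h₁ this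
  have h₂' : IsUnit (f₀.derivative.eval a₀') := by
    apply hloc.map_nonunit
    rw [← hev, ← Polynomial.derivative_map, hf₀map]
    exact h₂
  obtain ⟨a, ha, haa⟩ := HenselianLocalRing.is_henselian f₀ hf₀monic a₀' h₁' h₂'
  refine ⟨algebraMap _ B a, ?_, ?_⟩
  · rw [IsRoot, ← hf₀map, hev, ha.eq_zero, map_zero]
  · rw [mem_maximalIdeal]
    intro hu
    have h3 : algebraMap (Algebra.adjoin A s) B (a - a₀') = algebraMap _ B a - a₀ := by
      rw [map_sub]; rfl
    rw [← h3] at hu
    exact (mem_maximalIdeal _).1 haa (hloc.map_nonunit _ hu)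

/-- The residue field extension of an integral local homomorphism is algebraic. -/
theorem residue_algebraic (A B : Type*) [CommRing A] [IsLocalRing A] [CommRing B]
    [IsLocalRing B] [Algebra A B] [Algebra.IsIntegral A B] [IsLocalHom (algebraMap A B)] :
    letI := (ResidueField.map (algebraMap A B)).toAlgebra
    Algebra.IsAlgebraic (ResidueField A) (ResidueField B) := by
  letI := (ResidueField.map (algebraMap A B)).toAlgebra
  have halg : algebraMap (ResidueField A) (ResidueField B) =
      ResidueField.map (algebraMap A B) := rfl
  haveI : Algebra.IsIntegral (ResidueField A) (ResidueField B) := by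
    constructor
    intro x
    obtain ⟨β, rfl⟩ := residue_surjective x
    obtain ⟨P, hPmonic, hP⟩ := Algebra.IsIntegral.isIntegral (R := A) β
    refine ⟨P.map (residue A), hPmonic.map _, ?_⟩
    rw [Polynomial.eval₂_map, halg, ResidueField.map_comp_residue, ← Polynomial.hom_eval₂, hP,
      map_zero]
  exact Algebra.IsIntegral.isAlgebraic

/-- S1964 -/
theorem main (A B : Type u) [CommRing A] [HenselianLocalRing A] [CommRing B]
    [IsDomain B] [Algebra A B] [Algebra.IsIntegral A B] :
    ∃ _ : HenselianLocalRing B, IsLocalHom (algebraMap A B) ∧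
      (IsSepClosed (IsLocalRing.ResidueField A) →
        IsSepClosed (IsLocalRing.ResidueField B) ∧
        ∀ _ : IsLocalHom (algebraMap A B),
          letI := (IsLocalRing.ResidueField.map (algebraMap A B)).toAlgebra
          IsPurelyInseparable (IsLocalRing.ResidueField A) (IsLocalRing.ResidueField B)) := by
  have hB : HenselianLocalRing B := hens_of_integral_domain A B
  have hloc : IsLocalHom (algebraMap A B) := isLocalHom_of_isIntegral A B
  refine ⟨hB, hloc, fun hsep => ⟨?_, fun hloc' => ?_⟩⟩
  · letI := (ResidueField.map (algebraMap A B)).toAlgebra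
    haveI := residue_algebraic A B
    exact Algebra.IsAlgebraic.isSepClosed (F := ResidueField A)
  · letI := (ResidueField.map (algebraMap A B)).toAlgebra
    haveI := residue_algebraic A B
    infer_instance

end Groth.Agent.Helper3.HensDomain
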