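import Mathlib
import Groth.Prelude
import Groth.Agent.Helper5.Rigid3

set_option autoImplicit false
set_option linter.style.haveILetI false
set_option linter.unusedSectionVars false
set_option linter.unusedVariables false
set_option linter.style.haveILetI false
set_option linter.unusedSectionVars false
set_option linter.unusedVariables false
universe u
open AlgebraicGeometry CategoryTheory CategoryTheory.Limits MorphismProperty
open MonoidalCategory CartesianMonoidalCategory

namespace Groth.Agent.Helper3.RigidGen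

open Groth.Agent.Helper5.GammaBC Groth.Agent.Helper5.GrpDense Groth.Agent.Helper5.Rigid

variable {k : Type u} [Field k] {V W U : Over (Spec (CommRingCat.of k))}

/-- local form (generalised): only `Γ(V) = k` is used -/
theorem factor_of_affine' [IsProper V.hom] (hΓ : Function.Bijective V.hom.appTop.hom)
    (W₁ : Over (Spec (CommRingCat.of k))) [IsAffine W₁.left]
    (f₁ : V ⊗ W₁ ⟶ U) (U₀ : U.left.Opens) (hU₀ : IsAffineOpen U₀)
    (hf₁ : Set.range f₁.left ⊆ (U₀ : Set U.left))
    (s : W₁ ⟶ V ⊗ W₁) (hs : s ≫ snd V W₁ = 𝟙 _) :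
    f₁ = snd V W₁ ≫ s ≫ f₁ := by
  have hf₁' : Set.range f₁.left ⊆ Set.range U₀.ι := by
    rw [Scheme.Opens.range_ι]; exact hf₁
  let g₀ : (V ⊗ W₁).left ⟶ U₀.toScheme := IsOpenImmersion.lift U₀.ι f₁.left hf₁'
  have hg₀ : g₀ ≫ U₀.ι = f₁.left := IsOpenImmersion.lift_fac _ _ _
  have hbij : Function.Bijective (snd V W₁).left.appTop.hom := by
    have H' : IsPullback (fst V W₁).left (snd V W₁).left V.hom W₁.hom :=
      IsPullback.of_hasPullback V.hom W₁.hom
    haveI : CompactSpace V.left := (quasiCompact_iff_compactSpace V.hom).mp inferInstance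
    haveI : QuasiSeparatedSpace V.left := quasiSeparatedSpace_of_quasiSeparated V.hom
    exact bijective_appTop_of_bijective H' hΓ
  have hs' : s.left ≫ (snd V W₁).left = 𝟙 _ := by
    rw [← Over.comp_left, hs]; rfl
  have hid := appTop_comp_eq_id (snd V W₁).left s.left hs' hbij
  have hkey : g₀ = (snd V W₁).left ≫ s.left ≫ g₀ := by
    haveI : IsAffine U₀.toScheme := hU₀
    apply ext_of_isAffine
    rw [Scheme.Hom.comp_appTop, Scheme.Hom.comp_appTop, Category.assoc, hid, Category.comp_id]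
  ext1
  rw [Over.comp_left, Over.comp_left, ← hg₀, ← Category.assoc, ← Category.assoc,
    Category.assoc _ s.left, ← hkey]

/-- **Rigidity lemma**, generalised: `V` proper with `Γ(V) = k`, `V × W` reduced, `W` irreducible. -/
theorem rigidity_factor' [IsProper V.hom] (hΓ : Function.Bijective V.hom.appTop.hom)
    [IsReduced (V ⊗ W).left] [IrreducibleSpace W.left] [IsSeparated U.hom]
    (f : V ⊗ W ⟶ U) (v₀ : 𝟙_ (Over (Spec (CommRingCat.of k))) ⟶ V) (w : W.left) (u : U.left)
    (hw : ∀ z : (V ⊗ W).left, (snd V W).left z = w → f.left z = u) :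
    f = snd V W ≫ lift (toUnit W ≫ v₀) (𝟙 W) ≫ f := by
  obtain ⟨_, ⟨U₀, hU₀, rfl⟩, huU₀, -⟩ :=
    U.left.isBasis_affineOpens.exists_subset_of_mem_open (Set.mem_univ u) isOpen_univ
  let Z : Set (V ⊗ W).left := f.left ⁻¹' (U₀ : Set U.left)ᶜ
  have hZ : IsClosed Z := (U₀.2.isClosed_compl).preimage f.left.continuous
  haveI : UniversallyClosed (snd V W).left :=
    MorphismProperty.pullback_snd (P := @UniversallyClosed) V.hom W.hom inferInstance
  have hT : IsClosed ((snd V W).left '' Z) := (snd V W).left.isClosedMap _ hZ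
  have hwT : w ∉ (snd V W).left '' Z := by
    rintro ⟨z, hz, hzw⟩
    exact hz (by rw [hw z hzw]; exact huU₀)
  obtain ⟨_, ⟨W''', hW'', rfl⟩, hwW'', hsub⟩ :=
    W.left.isBasis_affineOpens.exists_subset_of_mem_open hwT hT.isOpen_compl
  let W'' : W.left.Opens := W'''
  let W₁ : Over (Spec (CommRingCat.of k)) := Over.mk (W''.ι ≫ W.hom)
  let j : W₁ ⟶ W := Over.homMk W''.ι rfl
  haveI : IsAffine W₁.left := show IsAffine W''.toScheme from hW''
  have hrange : Set.range (V ◁ j).left = (snd V W).left ⁻¹' (W'' : Set W.left) := by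
    rw [range_whiskerLeft]
    congr 1
    exact Scheme.Opens.range_ι W''
  let f₁ : V ⊗ W₁ ⟶ U := (V ◁ j) ≫ f
  have hf₁ : Set.range f₁.left ⊆ (U₀ : Set U.left) := by
    rintro _ ⟨p, rfl⟩
    by_contra hcon
    have hz : (V ◁ j).left p ∈ Z := hcon
    have h1 : (V ◁ j).left p ∈ Set.range (V ◁ j).left := ⟨p, rfl⟩
    rw [hrange] at h1
    exact hsub h1 ⟨_, hz, rfl⟩
  let s : W₁ ⟶ V ⊗ W₁ := lift (toUnit W₁ ≫ v₀) (𝟙 W₁)
  have hs : s ≫ snd V W₁ = 𝟙 _ := lift_snd _ _
  have hfac := factor_of_affine' hΓ W₁ f₁ U₀ hU₀ hf₁ s hs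
  have hcmp : (V ◁ j) ≫ f = (V ◁ j) ≫ (snd V W ≫ lift (toUnit W ≫ v₀) (𝟙 W) ≫ f) := by
    have h1 : s ≫ (V ◁ j) = j ≫ lift (toUnit W ≫ v₀) (𝟙 W) := by
      apply CartesianMonoidalCategory.hom_ext
      · simp only [Category.assoc, whiskerLeft_fst, lift_fst, s]
        rw [← Category.assoc, toUnit_unique (j ≫ toUnit W) (toUnit W₁)]
      · simp [s]
    calc (V ◁ j) ≫ f = f₁ := rfl
      _ = snd V W₁ ≫ s ≫ f₁ := hfac
      _ = snd V W₁ ≫ (s ≫ (V ◁ j)) ≫ f := by simp only [f₁, Category.assoc]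
      _ = snd V W₁ ≫ (j ≫ lift (toUnit W ≫ v₀) (𝟙 W)) ≫ f := by rw [h1]
      _ = (V ◁ j) ≫ (snd V W ≫ lift (toUnit W ≫ v₀) (𝟙 W) ≫ f) := by
        simp only [Category.assoc]
        rw [← Category.assoc (V ◁ j), whiskerLeft_snd, Category.assoc]
  haveI : UniversallyOpen V.hom := universallyOpen_of_artinian k V.hom
  haveI : UniversallyOpen (pullback.snd V.hom W.hom) := inferInstance
  have hopen : IsOpenMap (snd V W).left :=
    (pullback.snd V.hom W.hom).isOpenMap
  haveI : IsOpenImmersion (V ◁ j).left :=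
    MorphismProperty.of_isPullback (P := @IsOpenImmersion) (isPullback_whiskerLeft V j).flip
      (inferInstanceAs (IsOpenImmersion W''.ι))
  haveI : IsDominant (V ◁ j).left := by
    refine ⟨?_⟩
    show Dense (Set.range (V ◁ j).left)
    rw [hrange]
    have hd : Dense (W'' : Set W.left) := W''.2.dense ⟨w, hwW''⟩
    exact hd.preimage hopen
  ext1
  refine ext_of_isDominant_of_isSeparated U.hom ?_ (V ◁ j).left ?_
  · rw [CategoryTheory.Over.w, CategoryTheory.Over.w]
  · rw [← Over.comp_left, ← Over.comp_left, hcmp]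

end Groth.Agent.Helper3.RigidGen
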