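import Mathlib

set_option autoImplicit false
set_option linter.style.haveILetI false
set_option linter.unusedSectionVars false
set_option linter.unusedVariables false
set_option linter.style.haveILetI false
set_option linter.unusedSectionVars false
set_option linter.unusedVariables false
universe u
open scoped TensorProduct
open CategoryTheory CategoryTheory.Limits

namespace Groth.Agent.Helper3.TensorKrull

section Alg

variable {K A R R' : Type*} [CommRing K] [CommRing A] [Algebra K A] [CommRing R] [Algebra K R]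
  [CommRing R'] [Algebra K R']

/-- coordinates w.r.t. a base-changed basis are natural in the base-change ring -/
theorem repr_map {ι : Type*} (b : Module.Basis ι K A) (ρ : R →ₐ[K] R') (t : R ⊗[K] A) (i : ι) :
    (Algebra.TensorProduct.basis R' b).repr (Algebra.TensorProduct.map ρ (AlgHom.id K A) t) i =
      ρ ((Algebra.TensorProduct.basis R b).repr t i) := by
  induction t using TensorProduct.induction_on with
  | zero => simp
  | tmul r a =>
    simp [Algebra.TensorProduct.basis_repr_tmul]
  | add x y hx hy =>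
    simp only [map_add, Finsupp.coe_add, Pi.add_apply, hx, hy]

theorem repr_mem_ker {ι : Type*} (b : Module.Basis ι K A) (ρ : R →ₐ[K] R') (t : R ⊗[K] A)
    (h : Algebra.TensorProduct.map ρ (AlgHom.id K A) t = 0) (i : ι) :
    (Algebra.TensorProduct.basis R b).repr t i ∈ RingHom.ker (ρ : R →+* R') := by
  rw [RingHom.mem_ker]
  have := repr_map b ρ t i
  rw [h] at this
  simpa using this.symm

end Alg

theorem eq_zero_of_forall {K A R : Type*} [CommRing K] [CommRing A] [Algebra K A] [Module.Free K A]
    [CommRing R] [Algebra K R] {I : Type*}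
    {Rn : I → Type*} [∀ n, CommRing (Rn n)] [∀ n, Algebra K (Rn n)] (ρ : ∀ n, R →ₐ[K] Rn n)
    (hρ : ∀ x : R, (∀ n, ρ n x = 0) → x = 0)
    (t : R ⊗[K] A) (h : ∀ n, Algebra.TensorProduct.map (ρ n) (AlgHom.id K A) t = 0) : t = 0 := by
  let b := Module.Free.chooseBasis K A
  apply (Algebra.TensorProduct.basis R b).repr.injective
  ext i
  have hi : ∀ n, ρ n ((Algebra.TensorProduct.basis R b).repr t i) = 0 :=
    fun n => repr_mem_ker b (ρ n) t (h n) i
  simpa using hρ _ hi

theorem free_of_isField {K A : Type*} [CommRing K] [AddCommGroup A] [Module K A] (hK : IsField K) :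
    Module.Free K A := by
  letI : Field K := hK.toField
  exact Module.Free.of_divisionRing K A

theorem eq_zero_cat {K A R B : CommRingCat.{u}} (hK : IsField K) {a : K ⟶ A} {r : K ⟶ R}
    {iA : A ⟶ B} {iR : R ⟶ B}
    (H : IsPushout r a iR iA) {I : Type*}
    {Rn Bn : I → CommRingCat.{u}} (ρ : ∀ n, R ⟶ Rn n) (iAn : ∀ n, A ⟶ Bn n)
    (iRn : ∀ n, Rn n ⟶ Bn n)
    (Hn : ∀ n, IsPushout (r ≫ ρ n) a (iRn n) (iAn n))
    (β : ∀ n, B ⟶ Bn n) (hβA : ∀ n, iA ≫ β n = iAn n) (hβR : ∀ n, iR ≫ β n = ρ n ≫ iRn n)
    (hρ : ∀ x : R, (∀ n, (ρ n).hom x = 0) → x = 0)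
    (s : B) (hs : ∀ n, (β n).hom s = 0) : s = 0 := by
  letI : Algebra K A := a.hom.toAlgebra
  letI : Algebra K R := r.hom.toAlgebra
  letI : ∀ n, Algebra K (Rn n) := fun n => (r ≫ ρ n).hom.toAlgebra
  haveI : Module.Free K A := free_of_isField hK
  let ρ' : ∀ n, R →ₐ[K] Rn n := fun n => { (ρ n).hom with commutes' := fun x => rfl }
  have HT := CommRingCat.isPushout_tensorProduct K R A
  have HTn := fun n => CommRingCat.isPushout_tensorProduct K (Rn n) A
  let e : CommRingCat.of (R ⊗[K] A) ≅ B := HT.isoIsPushout _ _ H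
  let en : ∀ n, CommRingCat.of (Rn n ⊗[K] A) ≅ Bn n := fun n => (HTn n).isoIsPushout _ _ (Hn n)
  have hcomm : ∀ n, e.hom ≫ β n =
      CommRingCat.ofHom (Algebra.TensorProduct.map (ρ' n) (AlgHom.id K A)).toRingHom ≫ (en n).hom := by
    intro n
    apply HT.hom_ext
    · rw [IsPushout.inl_isoIsPushout_hom_assoc, hβR]
      have h1 : CommRingCat.ofHom (Algebra.TensorProduct.includeLeftRingHom (R := K) (A := R) (B := A)) ≫
          CommRingCat.ofHom (Algebra.TensorProduct.map (ρ' n) (AlgHom.id K A)).toRingHom =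
          ρ n ≫ CommRingCat.ofHom (Algebra.TensorProduct.includeLeftRingHom (R := K) (A := Rn n) (B := A)) := by
        ext x
        simp [ρ']
      rw [← Category.assoc, h1, Category.assoc]
      congr 1
      exact ((HTn n).inl_isoIsPushout_hom _ _ (Hn n)).symm
    · rw [IsPushout.inr_isoIsPushout_hom_assoc, hβA]
      have h1 : CommRingCat.ofHom (Algebra.TensorProduct.includeRight (R := K) (A := R) (B := A)).toRingHom ≫
          CommRingCat.ofHom (Algebra.TensorProduct.map (ρ' n) (AlgHom.id K A)).toRingHom =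
          CommRingCat.ofHom (Algebra.TensorProduct.includeRight (R := K) (A := Rn n) (B := A)).toRingHom := by
        ext x
        simp [ρ']
      rw [← Category.assoc, h1]
      exact ((HTn n).inr_isoIsPushout_hom _ _ (Hn n)).symm
  obtain ⟨t, rfl⟩ : ∃ t : R ⊗[K] A, e.hom.hom t = s := ⟨e.inv.hom s, by
    rw [← CommRingCat.comp_apply, e.inv_hom_id]; rfl⟩
  have ht : t = 0 := by
    apply eq_zero_of_forall ρ' hρ t
    intro n
    have h2 := hs n
    rw [← CommRingCat.comp_apply, hcomm n, CommRingCat.comp_apply] at h2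
    have hinj : Function.Injective (en n).hom.hom := by
      intro x y hxy
      have := congrArg (en n).inv.hom hxy
      simpa [← CommRingCat.comp_apply] using this
    exact hinj (h2.trans (map_zero _).symm)
  rw [ht, map_zero]

end Groth.Agent.Helper3.TensorKrull
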