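import Mathlib
import Groth.Prelude.Def_AlgGrp
import Groth.Agent.Helper3.TensorKrull
import Groth.Agent.Helper3.RigidGen

set_option autoImplicit false
set_option linter.style.haveILetI false
set_option linter.unusedSectionVars false
set_option linter.unusedVariables false
set_option linter.style.haveILetI false
set_option linter.unusedSectionVars false
set_option linter.unusedVariables false
universe u
open scoped TensorProduct
open CategoryTheory CategoryTheory.Limits MonoidalCategory CartesianMonoidalCategory MonObj AlgebraicGeometry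

namespace Groth.Agent.Helper3.KrullStep

open Groth.Agent.Helper5.GrpDense

variable {k : Type u} [Field k]

/-- an affine scheme `Spec R'` over `k` via `Spec R' → Spec R → Spec k` -/
noncomputable abbrev fam {R : CommRingCat.{u}} (w : Spec R ⟶ Spec (CommRingCat.of k))
    {R' : CommRingCat.{u}} (φ : R ⟶ R') : Over (Spec (CommRingCat.of k)) :=
  Over.mk (Spec.map φ ≫ w)

noncomputable abbrev famι {R : CommRingCat.{u}} (w : Spec R ⟶ Spec (CommRingCat.of k))
    {R' : CommRingCat.{u}} (φ : R ⟶ R') : fam w φ ⟶ Over.mk w :=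
  Over.homMk (Spec.map φ)

lemma appLE_top_eq_zero {R R' : CommRingCat.{u}} (φ : R ⟶ R') (x : Γ(Spec R, ⊤))
    (hx : ((Spec.map φ).appLE ⊤ ⊤ (by simp)).hom x = 0) :
    φ.hom ((Scheme.ΓSpecIso R).hom.hom x) = 0 := by
  have happ : (Spec.map φ).appLE ⊤ ⊤ (by simp) = (Spec.map φ).appTop := by
    simp [Scheme.Hom.appTop, Scheme.Hom.appLE]
  rw [happ] at hx
  have hnat := Scheme.ΓSpecIso_naturality φ
  have h0 := congr($(hnat).hom x)
  rw [CommRingCat.comp_apply, CommRingCat.comp_apply, hx, map_zero] at h0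
  exact h0.symm

/-- Two morphisms `X × Spec R → Z` (`Z` separated over the field `k`) that agree on `X × Spec Rᵢ`
for a jointly injective family `R → Rᵢ` are equal. -/
theorem ext_family (X Z : Over (Spec (CommRingCat.of k))) [IsSeparated Z.hom]
    (R : CommRingCat.{u}) (w : Spec R ⟶ Spec (CommRingCat.of k))
    {I : Type*} {Rn : I → CommRingCat.{u}} (φ : ∀ i, R ⟶ Rn i)
    (hφ : ∀ x : R, (∀ i, (φ i).hom x = 0) → x = 0)
    (a b : X ⊗ Over.mk w ⟶ Z)
    (h : ∀ n, (X ◁ famι w (φ n)) ≫ a = (X ◁ famι w (φ n)) ≫ b) : a = b := by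
  let W : Over (Spec (CommRingCat.of k)) := Over.mk w
  haveI : IsClosedImmersion (equalizer.ι a b).left := inferInstance
  have hfac : ∀ n, (equalizer.lift (X ◁ famι w (φ n)) (h n)).left ≫ (equalizer.ι a b).left =
      (X ◁ famι w (φ n)).left := by
    intro n; rw [← Over.comp_left, equalizer.lift_ι]
  have hle : ∀ n, (equalizer.ι a b).left.ker ≤ (X ◁ famι w (φ n)).left.ker := by
    intro n; rw [← hfac n]; exact Scheme.Hom.le_ker_comp _ _
  suffices hker : (equalizer.ι a b).left.ker = ⊥ by
    haveI : IsIso (equalizer.ι a b).left := IsClosedImmersion.isIso_iff_ker_eq_bot.mpr hker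
    ext1
    rw [← cancel_epi (equalizer.ι a b).left]
    exact congr($(equalizer.condition a b).left)
  haveI : IsAffineHom W.hom := inferInstanceAs (IsAffineHom w)
  haveI : IsAffineHom (fst X W).left :=
    MorphismProperty.pullback_fst (P := @IsAffineHom) X.hom W.hom inferInstance
  refine Scheme.IdealSheafData.ext_of_iSup_eq_top
    (fun U : X.left.affineOpens => ⟨(fst X W).left ⁻¹ᵁ U.1, U.2.preimage _⟩) ?_ ?_
  · rw [eq_top_iff]
    intro p _
    obtain ⟨_, ⟨U, hU, rfl⟩, hpU, -⟩ := X.left.isBasis_affineOpens.exists_subset_of_mem_open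
      (Set.mem_univ ((fst X W).left p)) isOpen_univ
    exact TopologicalSpace.Opens.mem_iSup.mpr ⟨⟨U, hU⟩, hpU⟩
  · intro U
    change _ = (⊥ : Ideal _)
    rw [eq_bot_iff]
    intro s hs
    rw [Ideal.mem_bot]
    let UY : (X ⊗ W).left.Opens := (fst X W).left ⁻¹ᵁ U.1
    have H : IsPullback (fst X W).left (snd X W).left X.hom W.hom :=
      IsPullback.of_hasPullback X.hom W.hom
    have hpo := (isIso_pushoutSection_iff H (US := ⊤) (UT := ⊤) (UX := U.1) (UY := UY)
      (by simp) (by simp) (by simp [UY])).mp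
      (isIso_pushoutSection_of_isAffineOpen H _ _ _ (isAffineOpen_top _)
        (isAffineOpen_top (Spec R)) U.2)
    let Wn : I → Over (Spec (CommRingCat.of k)) := fun n => fam w (φ n)
    have Hn : ∀ n, IsPullback (fst X (Wn n)).left (snd X (Wn n)).left X.hom (Wn n).hom :=
      fun n => IsPullback.of_hasPullback _ _
    let UYn : ∀ n, (X ⊗ Wn n).left.Opens := fun n => (fst X (Wn n)).left ⁻¹ᵁ U.1
    have hpon := fun n => (isIso_pushoutSection_iff (Hn n) (US := ⊤) (UT := ⊤) (UX := U.1)
      (UY := UYn n) (by simp) (by simp) (by simp [UYn])).mp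
      (isIso_pushoutSection_of_isAffineOpen (Hn n) _ _ _ (isAffineOpen_top _)
        (isAffineOpen_top (Spec _)) U.2)
    have hK : IsField Γ(Spec (CommRingCat.of k), ⊤) :=
      MulEquiv.isField (Field.toIsField k)
        (Scheme.ΓSpecIso (CommRingCat.of k)).commRingCatIsoToRingEquiv.toMulEquiv
    have hjfst : ∀ n, (X ◁ famι w (φ n)).left ≫ (fst X W).left = (fst X (Wn n)).left := by
      intro n; rw [← Over.comp_left, whiskerLeft_fst]
    have hjsnd : ∀ n, (X ◁ famι w (φ n)).left ≫ (snd X W).left =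
        (snd X (Wn n)).left ≫ (famι w (φ n)).left := by
      intro n; rw [← Over.comp_left, ← Over.comp_left, whiskerLeft_snd]
    have hUYn : ∀ n, UYn n ≤ (X ◁ famι w (φ n)).left ⁻¹ᵁ UY := by
      intro n
      simp only [UYn, UY, ← Scheme.Hom.comp_preimage, hjfst n]
      exact le_rfl
    refine TensorKrull.eq_zero_cat hK hpo.flip
      (Rn := fun n => Γ((Wn n).left, ⊤)) (Bn := fun n => Γ((X ⊗ Wn n).left, UYn n))
      (fun n => (famι w (φ n)).left.appLE ⊤ ⊤ (by simp))
      (fun n => (fst X (Wn n)).left.appLE U.1 (UYn n) (by simp [UYn]))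
      (fun n => (snd X (Wn n)).left.appLE ⊤ (UYn n) (by simp))
      ?_
      (fun n => (X ◁ famι w (φ n)).left.appLE UY (UYn n) (hUYn n))
      ?_ ?_ ?_ s ?_
    · intro n
      have hr : (Wn n).hom.appLE ⊤ ⊤ (by simp) =
          W.hom.appLE ⊤ ⊤ (by simp) ≫ (famι w (φ n)).left.appLE ⊤ ⊤ (by simp) := by
        rw [Scheme.Hom.appLE_comp_appLE]; rfl
      rw [← hr]; exact (hpon n).flip
    · intro n
      rw [Scheme.Hom.appLE_comp_appLE]
      congr 1
      exact hjfst n
    · intro n
      rw [Scheme.Hom.appLE_comp_appLE, Scheme.Hom.appLE_comp_appLE]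
      congr 1
      exact hjsnd n
    · intro x hx
      have h1 : (Scheme.ΓSpecIso R).hom.hom x = 0 :=
        hφ _ (fun i => appLE_top_eq_zero (φ i) x (hx i))
      have h3 : x = (Scheme.ΓSpecIso R).inv.hom ((Scheme.ΓSpecIso R).hom.hom x) := by
        rw [← CommRingCat.comp_apply, Iso.hom_inv_id]; rfl
      rw [h3, h1, map_zero]
    · intro n
      haveI : QuasiCompact (X ◁ famι w (φ n)).left :=
        MorphismProperty.of_isPullback (P := @QuasiCompact)
          (isPullback_whiskerLeft X (famι w (φ n))).flip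
          (inferInstanceAs (QuasiCompact (Spec.map (φ n))))
      have h1 := (hle n) _ hs
      rw [Scheme.Hom.ker_apply, RingHom.mem_ker] at h1
      rw [Scheme.Hom.appLE, CommRingCat.comp_apply, h1, map_zero]

/-- Krull intersection: the quotient maps `R → R/𝔪ⁿ` are jointly injective. -/
lemma krull_jointly_injective (R : Type*) [CommRing R] [IsLocalRing R] [IsNoetherianRing R] (x : R)
    (hx : ∀ n : ℕ, Ideal.Quotient.mk (IsLocalRing.maximalIdeal R ^ n) x = 0) : x = 0 := by
  have hbot := Ideal.iInf_pow_eq_bot_of_isLocalRing (IsLocalRing.maximalIdeal R)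
    Ideal.IsPrime.ne_top'
  have : x ∈ (⨅ n, IsLocalRing.maximalIdeal R ^ n : Ideal R) := by
    rw [Ideal.mem_iInf]
    intro n
    exact Ideal.Quotient.eq_zero_iff_mem.mp (hx n)
  rw [hbot] at this
  simpa using this

end Groth.Agent.Helper3.KrullStep
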