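import Mathlib.Topology.NoetherianSpace
import Mathlib.Topology.Sober
import Mathlib.Topology.Constructible
import Mathlib.Topology.Inseparable

/-!
# Helper lemmas in general topology (helper3)
-/

set_option autoImplicit false
universe u

namespace Groth.Agent.Helper3

open Topology

/-- In a Noetherian quasi-sober space, if `x` lies in the closure of `T`, there is a
generalization `ξ` of `x` such that `T` is dense in the closure of `ξ`. -/
theorem exists_generic_of_mem_closure {X : Type u} [TopologicalSpace X]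
    [TopologicalSpace.NoetherianSpace X] [QuasiSober X] {T : Set X} {x : X}
    (hx : x ∈ closure T) :
    ∃ ξ : X, ξ ⤳ x ∧ closure {ξ} ⊆ closure (closure {ξ} ∩ T) ∧ (closure {ξ} ∩ T).Nonempty := by
  let P : Set (TopologicalSpace.Closeds X) := {C | x ∈ closure ((C : Set X) ∩ T)}
  have hP : P.Nonempty := ⟨⊤, by simpa [P] using hx⟩
  obtain ⟨C, hC, hmin⟩ := wellFounded_lt.has_min P hP
  have hCx : x ∈ closure ((C : Set X) ∩ T) := hC
  have hne : ((C : Set X) ∩ T).Nonempty := by
    by_contra h
    rw [Set.not_nonempty_iff_eq_empty] at h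
    rw [h, closure_empty] at hCx
    exact hCx
  obtain ⟨t, htC, htT⟩ := hne
  have hirr : IsIrreducible (C : Set X) := by
    refine ⟨⟨t, htC⟩, ?_⟩
    rw [isPreirreducible_iff_isClosed_union_isClosed]
    intro z₁ z₂ hz₁ hz₂ hsub
    have hcov : (C : Set X) ∩ T ⊆ (((C : Set X) ∩ z₁) ∩ T) ∪ (((C : Set X) ∩ z₂) ∩ T) := by
      rintro a ⟨haC, haT⟩
      rcases hsub haC with h | h
      · exact Or.inl ⟨⟨haC, h⟩, haT⟩
      · exact Or.inr ⟨⟨haC, h⟩, haT⟩
    have hx2 := closure_mono hcov hCx
    rw [closure_union] at hx2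
    rcases hx2 with h | h
    · left
      let C1 : TopologicalSpace.Closeds X := ⟨(C : Set X) ∩ z₁, C.isClosed.inter hz₁⟩
      have hC1 : C1 ∈ P := h
      have hle : C1 ≤ C := fun a ha => ha.1
      have : ¬ C1 < C := hmin C1 hC1
      have heq : C1 = C := by
        by_contra hne
        exact this (lt_of_le_of_ne hle hne)
      intro a ha
      have : a ∈ (C1 : Set X) := by rw [heq]; exact ha
      exact this.2
    · right
      let C2 : TopologicalSpace.Closeds X := ⟨(C : Set X) ∩ z₂, C.isClosed.inter hz₂⟩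
      have hC2 : C2 ∈ P := h
      have hle : C2 ≤ C := fun a ha => ha.1
      have : ¬ C2 < C := hmin C2 hC2
      have heq : C2 = C := by
        by_contra hne
        exact this (lt_of_le_of_ne hle hne)
      intro a ha
      have : a ∈ (C2 : Set X) := by rw [heq]; exact ha
      exact this.2
  have hCcl : (C : Set X) ⊆ closure ((C : Set X) ∩ T) := by
    let C3 : TopologicalSpace.Closeds X := ⟨closure ((C : Set X) ∩ T), isClosed_closure⟩
    have hle : C3 ≤ C := by
      intro a ha
      exact (closure_minimal Set.inter_subset_left C.isClosed) ha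
    have hC3 : C3 ∈ P := by
      change x ∈ closure (closure ((C : Set X) ∩ T) ∩ T)
      refine closure_mono ?_ hCx
      intro a ha
      exact ⟨subset_closure ha, ha.2⟩
    have : ¬ C3 < C := hmin C3 hC3
    have heq : C3 = C := by
      by_contra hne
      exact this (lt_of_le_of_ne hle hne)
    intro a ha
    have : a ∈ (C3 : Set X) := by rw [heq]; exact ha
    exact this
  obtain ⟨ξ, hξ⟩ := QuasiSober.sober hirr C.isClosed
  have hxC : x ∈ (C : Set X) := closure_minimal Set.inter_subset_left C.isClosed hCx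
  refine ⟨ξ, ?_, ?_, ?_⟩
  · rw [specializes_iff_mem_closure, hξ.def]
    exact hxC
  · rw [hξ.def]
    exact hCcl
  · rw [hξ.def]
    exact ⟨t, htC, htT⟩

/-- The "generic point" property of sets in the Boolean algebra generated by open sets
(in particular of constructible sets): around a point `ξ`, the set `E` either contains or is
disjoint from a neighbourhood of `ξ` in `closure {ξ}`. -/
theorem IsConstructible.exists_isOpen_inter_closure_singleton {X : Type u} [TopologicalSpace X]
    {E : Set X} (hE : IsConstructible E) (ξ : X) :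
    (ξ ∈ E → ∃ U : Set X, IsOpen U ∧ ξ ∈ U ∧ U ∩ closure {ξ} ⊆ E) ∧
    (ξ ∉ E → ∃ U : Set X, IsOpen U ∧ ξ ∈ U ∧ U ∩ closure {ξ} ⊆ Eᶜ) := by
  induction hE using IsConstructible.empty_union_induction with
  | open_retrocompact U hUopen hUcomp =>
    refine ⟨fun h => ⟨U, hUopen, h, Set.inter_subset_left⟩, fun h => ⟨Set.univ, isOpen_univ,
      Set.mem_univ _, ?_⟩⟩
    rintro z ⟨-, hz⟩ hzU
    have : ξ ⤳ z := specializes_iff_mem_closure.2 hz
    exact h (this.mem_open hUopen hzU)
  | union s hs t ht ihs iht =>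
    constructor
    · rintro (h | h)
      · obtain ⟨U, hU, hξU, hsub⟩ := ihs.1 h
        exact ⟨U, hU, hξU, hsub.trans Set.subset_union_left⟩
      · obtain ⟨U, hU, hξU, hsub⟩ := iht.1 h
        exact ⟨U, hU, hξU, hsub.trans Set.subset_union_right⟩
    · intro h
      have h1 : ξ ∉ s := fun h' => h (Or.inl h')
      have h2 : ξ ∉ t := fun h' => h (Or.inr h')
      obtain ⟨U, hU, hξU, hsub⟩ := ihs.2 h1
      obtain ⟨V, hV, hξV, hsub'⟩ := iht.2 h2
      refine ⟨U ∩ V, hU.inter hV, ⟨hξU, hξV⟩, ?_⟩
      rintro z ⟨⟨hzU, hzV⟩, hz⟩ (hzs | hzt)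
      · exact hsub ⟨hzU, hz⟩ hzs
      · exact hsub' ⟨hzV, hz⟩ hzt
  | compl s hs ih =>
    constructor
    · intro h
      exact ih.2 h
    · intro h
      have : ξ ∈ s := by
        by_contra h'
        exact h h'
      obtain ⟨U, hU, hξU, hsub⟩ := ih.1 this
      exact ⟨U, hU, hξU, by rwa [compl_compl]⟩

/-- In a Noetherian sober space, a constructible set stable under generalization is open. -/
theorem IsConstructible.isOpen_of_stableUnderGeneralization {X : Type u} [TopologicalSpace X]
    [TopologicalSpace.NoetherianSpace X] [QuasiSober X] {E : Set X} (hE : IsConstructible E)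
    (hg : StableUnderGeneralization E) : IsOpen E := by
  rw [← isClosed_compl_iff, ← closure_subset_iff_isClosed]
  intro x hx hxE
  change x ∈ E at hxE
  obtain ⟨ξ, hξx, hdense, -⟩ := exists_generic_of_mem_closure hx
  have hξE : ξ ∈ E := hg hξx hxE
  obtain ⟨U, hU, hξU, hsub⟩ := (IsConstructible.exists_isOpen_inter_closure_singleton hE ξ).1 hξE
  have h1 : ξ ∈ closure (closure {ξ} ∩ Eᶜ) := hdense (subset_closure (Set.mem_singleton ξ))
  rw [mem_closure_iff] at h1
  obtain ⟨z, hzU, hz, hzE⟩ := h1 U hU hξU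
  exact hzE (hsub ⟨hzU, hz⟩)

end Groth.Agent.Helper3
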