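import Mathlib
import Groth.Prelude.Def_AlgGrp
import Groth.Agent.Helper3.KrullStep
import Groth.Agent.Helper3.RigidGen
import Groth.Agent.Helper3.Topology

set_option autoImplicit false
set_option linter.style.haveILetI false
set_option linter.unusedSectionVars false
set_option linter.unusedVariables false
set_option linter.style.haveILetI false
set_option linter.unusedSectionVars false
set_option linter.unusedVariables false
universe u
open scoped TensorProduct
open CategoryTheory CategoryTheory.Limits MonoidalCategory CartesianMonoidalCategory MonObj AlgebraicGeometry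

namespace Groth.Agent.Helper3.AntiAffRigid

open Groth.Agent.Helper5.GrpDense Groth.Agent.Helper5.GammaBC Groth.Agent.Helper5.Rigid
open Groth.Agent.Helper3.KrullStep

variable {k : Type u} [Field k] {X Y Z : Over (Spec (CommRingCat.of k))}

/-- section of `snd` through the rational point `x₀` -/
noncomputable abbrev sec (x₀ : 𝟙_ (Over (Spec (CommRingCat.of k))) ⟶ X)
    (W : Over (Spec (CommRingCat.of k))) : W ⟶ X ⊗ W := lift (toUnit W ≫ x₀) (𝟙 W)

/-- `f` made constant along `X` -/
noncomputable abbrev gg (x₀ : 𝟙_ (Over (Spec (CommRingCat.of k))) ⟶ X) (f : X ⊗ Y ⟶ Z) :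
    X ⊗ Y ⟶ Z := snd X Y ≫ sec x₀ Y ≫ f

lemma whisker_gg (x₀ : 𝟙_ (Over (Spec (CommRingCat.of k))) ⟶ X) (f : X ⊗ Y ⟶ Z)
    {W : Over (Spec (CommRingCat.of k))} (t : W ⟶ Y) :
    (X ◁ t) ≫ gg x₀ f = snd X W ≫ sec x₀ W ≫ (X ◁ t) ≫ f := by
  unfold gg sec
  rw [← Category.assoc, whiskerLeft_snd, Category.assoc]
  congr 1
  rw [← Category.assoc, ← Category.assoc]
  congr 1
  apply CartesianMonoidalCategory.hom_ext <;> simp

/-- local form: only `Γ(V) = k`, `V` qcqs is used -/
theorem factor_of_affine'' {V U : Over (Spec (CommRingCat.of k))}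
    [QuasiCompact V.hom] [QuasiSeparated V.hom] (hΓ : Function.Bijective V.hom.appTop.hom)
    (W₁ : Over (Spec (CommRingCat.of k))) [IsAffine W₁.left]
    (f₁ : V ⊗ W₁ ⟶ U) (U₀ : U.left.Opens) (hU₀ : IsAffineOpen U₀)
    (hf₁ : Set.range f₁.left ⊆ (U₀ : Set U.left))
    (s : W₁ ⟶ V ⊗ W₁) (hs : s ≫ snd V W₁ = 𝟙 _) :
    f₁ = snd V W₁ ≫ s ≫ f₁ := by
  have hf₁' : Set.range f₁.left ⊆ Set.range U₀.ι := by
    rw [Scheme.Opens.range_ι]; exact hf₁
  let g₀ : (V ⊗ W₁).left ⟶ U₀.toScheme := IsOpenImmersion.lift U₀.ι f₁.left hf₁'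
  have hg₀ : g₀ ≫ U₀.ι = f₁.left := IsOpenImmersion.lift_fac _ _ _
  have hbij : Function.Bijective (snd V W₁).left.appTop.hom := by
    have H' : IsPullback (fst V W₁).left (snd V W₁).left V.hom W₁.hom :=
      IsPullback.of_hasPullback V.hom W₁.hom
    haveI : CompactSpace V.left := (quasiCompact_iff_compactSpace V.hom).mp inferInstance
    haveI : QuasiSeparatedSpace V.left := quasiSeparatedSpace_of_quasiSeparated V.hom
    exact bijective_appTop_of_bijective H' hΓ
  have hs' : s.left ≫ (snd V W₁).left = 𝟙 _ := by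
    rw [← Over.comp_left, hs]; rfl
  have hid := appTop_comp_eq_id (snd V W₁).left s.left hs' hbij
  have hkey : g₀ = (snd V W₁).left ≫ s.left ≫ g₀ := by
    haveI : IsAffine U₀.toScheme := hU₀
    apply ext_of_isAffine
    rw [Scheme.Hom.comp_appTop, Scheme.Hom.comp_appTop, Category.assoc, hid, Category.comp_id]
  ext1
  rw [Over.comp_left, Over.comp_left, ← hg₀, ← Category.assoc, ← Category.assoc,
    Category.assoc _ s.left, ← hkey]

theorem agree_of_affine [QuasiCompact X.hom] [QuasiSeparated X.hom]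
    (hΓ : Function.Bijective X.hom.appTop.hom)
    (x₀ : 𝟙_ (Over (Spec (CommRingCat.of k))) ⟶ X) (f : X ⊗ Y ⟶ Z)
    (W₁ : Over (Spec (CommRingCat.of k))) [IsAffine W₁.left] (t : W₁ ⟶ Y)
    (U₀ : Z.left.Opens) (hU₀ : IsAffineOpen U₀)
    (hr : Set.range ((X ◁ t) ≫ f).left ⊆ (U₀ : Set Z.left)) :
    (X ◁ t) ≫ f = (X ◁ t) ≫ gg x₀ f := by
  rw [whisker_gg]
  exact factor_of_affine'' hΓ W₁ ((X ◁ t) ≫ f) U₀ hU₀ hr (sec x₀ W₁) (lift_snd _ _)

/-- the local scheme of `Y` at `y`, over `k` -/
noncomputable abbrev loc (Y : Over (Spec (CommRingCat.of k))) (y : Y.left) :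
    Over (Spec (CommRingCat.of k)) := Over.mk (Y.left.fromSpecStalk y ≫ Y.hom)

noncomputable abbrev locι (Y : Over (Spec (CommRingCat.of k))) (y : Y.left) : loc Y y ⟶ Y :=
  Over.homMk (Y.left.fromSpecStalk y)

lemma spec_quot_pow (R : CommRingCat.{u}) [IsLocalRing R] (n : ℕ)
    (c : Spec (CommRingCat.of (R ⧸ IsLocalRing.maximalIdeal R ^ n))) :
    (Spec.map (CommRingCat.ofHom (Ideal.Quotient.mk (IsLocalRing.maximalIdeal R ^ n)))) c =
      IsLocalRing.closedPoint R := by
  apply PrimeSpectrum.ext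
  change Ideal.comap (Ideal.Quotient.mk (IsLocalRing.maximalIdeal R ^ n)) c.asIdeal =
    IsLocalRing.maximalIdeal R
  symm
  apply (IsLocalRing.maximalIdeal.isMaximal R).eq_of_le
  · exact (Ideal.IsPrime.comap _).ne_top
  · intro x hx
    rw [Ideal.mem_comap]
    have h1 : (Ideal.Quotient.mk (IsLocalRing.maximalIdeal R ^ n) x) ^ n = 0 := by
      rw [← map_pow, Ideal.Quotient.eq_zero_iff_mem]
      exact Ideal.pow_mem_pow hx n
    exact c.isPrime.mem_of_pow_mem n (h1 ▸ c.asIdeal.zero_mem)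

theorem agree_loc [QuasiCompact X.hom] [QuasiSeparated X.hom]
    (hΓ : Function.Bijective X.hom.appTop.hom) [IsLocallyNoetherian Y.left] [IsSeparated Z.hom]
    (x₀ : 𝟙_ (Over (Spec (CommRingCat.of k))) ⟶ X) (f : X ⊗ Y ⟶ Z) (y : Y.left) (z : Z.left)
    (hz : ∀ p, (snd X Y).left p = y → f.left p = z) :
    (X ◁ locι Y y) ≫ f = (X ◁ locι Y y) ≫ gg x₀ f := by
  obtain ⟨_, ⟨U₀, hU₀, rfl⟩, hzU₀, -⟩ :=
    Z.left.isBasis_affineOpens.exists_subset_of_mem_open (Set.mem_univ z) isOpen_univ
  apply ext_family X Z (Y.left.presheaf.stalk y) (Y.left.fromSpecStalk y ≫ Y.hom)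
    (fun n : ℕ => CommRingCat.ofHom (Ideal.Quotient.mk
      (IsLocalRing.maximalIdeal (Y.left.presheaf.stalk y) ^ n)))
    (krull_jointly_injective _)
  intro n
  rw [← Category.assoc, ← Category.assoc, ← MonoidalCategory.whiskerLeft_comp]
  haveI : IsAffine (fam (Y.left.fromSpecStalk y ≫ Y.hom) (CommRingCat.ofHom (Ideal.Quotient.mk
      (IsLocalRing.maximalIdeal (Y.left.presheaf.stalk y) ^ n)))).left :=
    inferInstanceAs (IsAffine (Spec _))
  apply agree_of_affine hΓ x₀ f _ _ U₀ hU₀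
  rintro _ ⟨p, rfl⟩
  rw [Over.comp_left, Scheme.Hom.comp_apply]
  have : f.left ((X ◁ (famι (Y.left.fromSpecStalk y ≫ Y.hom) (CommRingCat.ofHom (Ideal.Quotient.mk
      (IsLocalRing.maximalIdeal (Y.left.presheaf.stalk y) ^ n))) ≫ locι Y y)).left p) = z := by
    apply hz
    rw [← Scheme.Hom.comp_apply, ← Over.comp_left, whiskerLeft_snd, Over.comp_left,
      Scheme.Hom.comp_apply, Over.comp_left, Scheme.Hom.comp_apply]
    have h1 := spec_quot_pow (Y.left.presheaf.stalk y) n ((snd X (fam (Y.left.fromSpecStalk y ≫ Y.hom)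
      (CommRingCat.ofHom (Ideal.Quotient.mk
      (IsLocalRing.maximalIdeal (Y.left.presheaf.stalk y) ^ n))))).left p)
    exact (congrArg (Y.left.fromSpecStalk y) h1).trans Scheme.fromSpecStalk_closedPoint
  rw [this]
  exact hzU₀

/-- the affine open `V ⊆ Y` as an object over `k`, literally `Spec Γ(Y, V)` -/
noncomputable abbrev aff (Y : Over (Spec (CommRingCat.of k))) {V : Y.left.Opens}
    (hV : IsAffineOpen V) : Over (Spec (CommRingCat.of k)) := Over.mk (hV.fromSpec ≫ Y.hom)

noncomputable abbrev affι (Y : Over (Spec (CommRingCat.of k))) {V : Y.left.Opens}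
    (hV : IsAffineOpen V) : aff Y hV ⟶ Y := Over.homMk hV.fromSpec

/-- morphisms `X × Y → Z` agreeing on all `X × Spec 𝒪_{Y,y}` are equal (`Z` separated). -/
theorem eq_of_agree_loc [IsSeparated Z.hom] (a b : X ⊗ Y ⟶ Z)
    (h : ∀ y : Y.left, (X ◁ locι Y y) ≫ a = (X ◁ locι Y y) ≫ b) : a = b := by
  have key : ∀ (V : Y.left.Opens) (hV : IsAffineOpen V),
      (X ◁ affι Y hV) ≫ a = (X ◁ affι Y hV) ≫ b := by
    intro V hV
    apply ext_family X Z Γ(Y.left, V) (hV.fromSpec ≫ Y.hom) (I := V)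
      (fun y => Y.left.presheaf.germ V y.1 y.2) ?_
    · intro y
      let c : fam (hV.fromSpec ≫ Y.hom) (Y.left.presheaf.germ V y.1 y.2) ⟶ loc Y y.1 :=
        Over.homMk (𝟙 _) (by
          change 𝟙 _ ≫ Y.left.fromSpecStalk y.1 ≫ Y.hom = Spec.map _ ≫ hV.fromSpec ≫ Y.hom
          rw [Category.id_comp, ← hV.fromSpecStalk_eq_fromSpecStalk y.2,
            IsAffineOpen.fromSpecStalk, Category.assoc])
      have hc : c ≫ locι Y y.1 = famι (hV.fromSpec ≫ Y.hom) (Y.left.presheaf.germ V y.1 y.2) ≫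
          affι Y hV := by
        ext1
        change 𝟙 _ ≫ Y.left.fromSpecStalk y.1 = Spec.map _ ≫ hV.fromSpec
        rw [Category.id_comp, ← hV.fromSpecStalk_eq_fromSpecStalk y.2,
          IsAffineOpen.fromSpecStalk]
      rw [← Category.assoc, ← Category.assoc, ← MonoidalCategory.whiskerLeft_comp, ← hc,
        MonoidalCategory.whiskerLeft_comp, Category.assoc, Category.assoc, h y.1]
    · intro s hs
      refine TopCat.Presheaf.section_ext Y.left.sheaf V s 0 (fun y hy => ?_)
      rw [map_zero]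
      exact hs ⟨y, hy⟩
  ext1
  refine Scheme.Cover.hom_ext ((X ⊗ Y).left.openCoverOfIsOpenCover _
    (.comap (iSup_affineOpens_eq_top Y.left) (snd X Y).left.base.1)) _ _ fun U ↦ ?_
  haveI : IsOpenImmersion (X ◁ affι Y U.2).left :=
    MorphismProperty.of_isPullback (P := @IsOpenImmersion) (isPullback_whiskerLeft X (affι Y U.2)).flip
      (inferInstanceAs (IsOpenImmersion U.2.fromSpec))
  have hrange : Set.range ((snd X Y).left ⁻¹ᵁ U.1).ι ⊆ Set.range (X ◁ affι Y U.2).left := by
    rw [range_whiskerLeft, Scheme.Opens.range_ι]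
    change _ ⊆ (snd X Y).left ⁻¹' Set.range U.2.fromSpec
    rw [U.2.range_fromSpec]
    exact subset_rfl
  change ((snd X Y).left ⁻¹ᵁ U.1).ι ≫ a.left = ((snd X Y).left ⁻¹ᵁ U.1).ι ≫ b.left
  rw [← IsOpenImmersion.lift_fac (X ◁ affι Y U.2).left _ hrange, Category.assoc, Category.assoc,
    ← Over.comp_left, ← Over.comp_left, key U.1 U.2]

/-- In a locally Noetherian scheme, a closed set stable under generalization is open. -/
lemma isOpen_of_isClosed_of_stableUnderGeneralization {Y : Scheme.{u}} [IsLocallyNoetherian Y]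
    (T : Set Y) (hc : IsClosed T) (hg : StableUnderGeneralization T) : IsOpen T := by
  rw [isOpen_iff_forall_mem_open]
  intro y hy
  obtain ⟨_, ⟨V, hV, rfl⟩, hyV, -⟩ :=
    Y.isBasis_affineOpens.exists_subset_of_mem_open (Set.mem_univ y) isOpen_univ
  haveI : IsNoetherianRing Γ(Y, V) := IsLocallyNoetherian.component_noetherian ⟨V, hV⟩
  haveI : TopologicalSpace.NoetherianSpace V := noetherianSpace_of_isAffineOpen V hV
  haveI : QuasiSober V := inferInstanceAs (QuasiSober (Scheme.Opens.toScheme V))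
  let E : Set V := Subtype.val ⁻¹' T
  have hEc : IsClosed E := hc.preimage continuous_subtype_val
  have hEcons : Topology.IsConstructible E := by
    rw [← Topology.isConstructible_compl]
    refine IsRetrocompact.isConstructible hEc.isOpen_compl ?_
    intro U _ _
    exact TopologicalSpace.NoetherianSpace.isCompact _
  have hEg : StableUnderGeneralization E := by
    intro a b hab ha
    exact hg (hab.map continuous_subtype_val) ha
  have hEo : IsOpen E :=
    Groth.Agent.Helper3.IsConstructible.isOpen_of_stableUnderGeneralization hEcons hEg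
  refine ⟨Subtype.val '' E, ?_, V.isOpen.isOpenMap_subtype_val _ hEo, ⟨⟨y, hyV⟩, hy, rfl⟩⟩
  rintro _ ⟨a, ha, rfl⟩
  exact ha

/-- **Rigidity for anti-affine `X`**: if `f : X × Y → Z` contracts one fibre `X × {y₀}` to a
point (set-theoretically), `Y` connected locally Noetherian, `Z` separated, `Γ(X) = k`, `X` qcqs
with a rational point `x₀`, then `f(x, y) = f(x₀, y)`. -/
theorem rigid [QuasiCompact X.hom] [QuasiSeparated X.hom]
    (hΓ : Function.Bijective X.hom.appTop.hom) [IsLocallyNoetherian Y.left]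
    [PreconnectedSpace Y.left] [IsSeparated Z.hom]
    (x₀ : 𝟙_ (Over (Spec (CommRingCat.of k))) ⟶ X) (f : X ⊗ Y ⟶ Z) (y₀ : Y.left) (z₀ : Z.left)
    (h₀ : ∀ p, (snd X Y).left p = y₀ → f.left p = z₀) : f = gg x₀ f := by
  apply eq_of_agree_loc
  haveI : IsClosedImmersion (equalizer.ι f (gg x₀ f)).left := inferInstance
  let T : Set Y.left :=
    {y | ∀ p, (snd X Y).left p = y → p ∈ Set.range (equalizer.ι f (gg x₀ f)).left}
  have hT1 : ∀ y, y ∈ T → (X ◁ locι Y y) ≫ f = (X ◁ locι Y y) ≫ gg x₀ f := by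
    intro y hy
    apply agree_loc hΓ x₀ f y (f.left ((sec x₀ Y).left y))
    intro p hp
    obtain ⟨e, rfl⟩ := hy p hp
    have h1 : (equalizer.ι f (gg x₀ f) ≫ f).left e = (equalizer.ι f (gg x₀ f) ≫ gg x₀ f).left e := by
      rw [equalizer.condition]
    rw [Over.comp_left, Scheme.Hom.comp_apply, Over.comp_left, Scheme.Hom.comp_apply] at h1
    rw [h1]
    simp only [gg, Over.comp_left, Scheme.Hom.comp_apply]
    rw [hp]
  have hT2 : ∀ y, (X ◁ locι Y y) ≫ f = (X ◁ locι Y y) ≫ gg x₀ f → y ∈ T := by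
    intro y hy p hp
    have hmem : p ∈ Set.range (X ◁ locι Y y).left := by
      rw [range_whiskerLeft]
      change (snd X Y).left p ∈ Set.range (Y.left.fromSpecStalk y)
      rw [hp]
      exact ⟨IsLocalRing.closedPoint _, Scheme.fromSpecStalk_closedPoint⟩
    obtain ⟨p', rfl⟩ := hmem
    refine ⟨(equalizer.lift (X ◁ locι Y y) hy).left p', ?_⟩
    rw [← Scheme.Hom.comp_apply, ← Over.comp_left, equalizer.lift_ι]
  have hTgen : StableUnderGeneralization T := by
    intro y y' hyy' hy
    apply hT2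
    have hag := hT1 y hy
    let c : loc Y y' ⟶ loc Y y :=
      Over.homMk (Spec.map (Y.left.presheaf.stalkSpecializes hyy')) (by
        change Spec.map _ ≫ Y.left.fromSpecStalk y ≫ Y.hom = Y.left.fromSpecStalk y' ≫ Y.hom
        rw [← Category.assoc, Scheme.SpecMap_stalkSpecializes_fromSpecStalk])
    have hc : c ≫ locι Y y = locι Y y' := by
      ext1; exact Scheme.SpecMap_stalkSpecializes_fromSpecStalk hyy'
    rw [← hc, MonoidalCategory.whiskerLeft_comp, Category.assoc, Category.assoc, hag]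
  have hTclosed : IsClosed T := by
    haveI : UniversallyOpen X.hom := universallyOpen_of_artinian k X.hom
    haveI : UniversallyOpen (snd X Y).left :=
      MorphismProperty.pullback_snd (P := @UniversallyOpen) X.hom Y.hom inferInstance
    have hop : IsOpenMap (snd X Y).left := (snd X Y).left.isOpenMap
    have hcl : IsClosed (Set.range (equalizer.ι f (gg x₀ f)).left) :=
      (equalizer.ι f (gg x₀ f)).left.isClosedEmbedding.isClosed_range
    have : T = ((snd X Y).left '' (Set.range (equalizer.ι f (gg x₀ f)).left)ᶜ)ᶜ := by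
      ext y
      simp only [T, Set.mem_setOf_eq, Set.mem_compl_iff, Set.mem_image, not_exists, not_and]
      constructor
      · intro h p hp hpy
        exact hp (h p hpy)
      · intro h p hpy
        by_contra hp
        exact h p hp hpy
    rw [this]
    exact (hop _ hcl.isOpen_compl).isClosed_compl
  have hTopen : IsOpen T := isOpen_of_isClosed_of_stableUnderGeneralization T hTclosed hTgen
  have hTuniv : T = Set.univ :=
    IsClopen.eq_univ ⟨hTclosed, hTopen⟩ ⟨y₀, hT2 y₀ (agree_loc hΓ x₀ f y₀ z₀ h₀)⟩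
  intro y
  exact hT1 y (hTuniv ▸ Set.mem_univ y)

end Groth.Agent.Helper3.AntiAffRigid
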