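import Mathlib

set_option autoImplicit false
set_option linter.style.haveILetI false
set_option linter.unusedSectionVars false
set_option linter.unusedVariables false
set_option linter.style.haveILetI false
set_option linter.unusedSectionVars false
set_option linter.unusedVariables false
universe u
open CategoryTheory CategoryTheory.Limits AlgebraicGeometry Opposite TopologicalSpace

namespace Groth.Agent.Helper3.Fib

/-- `f : X ⟶ Y` is a *fibration* if `𝒪_Y → f_* 𝒪_X` is an isomorphism. -/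
def IsFib {X Y : Scheme.{u}} (f : X ⟶ Y) : Prop :=
  ∀ U : Y.Opens, Function.Bijective (f.app U).hom

variable {X Y : Scheme.{u}} (f : X ⟶ Y)

lemma app_res {U V : Y.Opens} (h : V ≤ U) (s : Γ(Y, U)) :
    (f.app V).hom (Y.presheaf.map (homOfLE h).op s) =
      X.presheaf.map (homOfLE (show f ⁻¹ᵁ V ≤ f ⁻¹ᵁ U from fun _ hx => h hx)).op
        ((f.app U).hom s) := by
  have := f.naturality (homOfLE h).op
  exact congr($(this).hom s)

/-- bijectivity of `f.app` on a basis of opens implies bijectivity on all opens -/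
theorem bijective_app_of_basis (ℬ : Set Y.Opens)
    (hℬ : ∀ (U : Y.Opens) (y : Y), y ∈ U → ∃ V ∈ ℬ, y ∈ V ∧ V ≤ U)
    (hb : ∀ V ∈ ℬ, Function.Bijective (f.app V).hom) : IsFib f := by
  intro U
  let ι := {V : Y.Opens // V ∈ ℬ ∧ V ≤ U}
  let Uι : ι → Y.Opens := fun i => i.1
  have hle : ∀ i : ι, Uι i ≤ U := fun i => i.2.2
  have hcover : U ≤ iSup Uι := by
    intro y hy
    obtain ⟨V, hV, hyV, hVU⟩ := hℬ U y hy
    exact Opens.mem_iSup.mpr ⟨⟨V, hV, hVU⟩, hyV⟩
  have hcover' : f ⁻¹ᵁ U ≤ iSup (fun i => f ⁻¹ᵁ Uι i) := by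
    intro x hx
    obtain ⟨i, hi⟩ := Opens.mem_iSup.mp (hcover hx)
    exact Opens.mem_iSup.mpr ⟨i, hi⟩
  constructor
  · intro s₁ s₂ h12
    refine Y.sheaf.eq_of_locally_eq' Uι U (fun i => homOfLE (hle i)) hcover s₁ s₂ (fun i => ?_)
    apply (hb _ i.2.1).1
    change (f.app (Uι i)).hom (Y.presheaf.map _ s₁) = (f.app (Uι i)).hom (Y.presheaf.map _ s₂)
    rw [app_res f (hle i), app_res f (hle i), h12]
  · intro t
    have hsf : ∀ i : ι, ∃ s : Γ(Y, Uι i), (f.app (Uι i)).hom s =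
        X.presheaf.map (homOfLE (show f ⁻¹ᵁ Uι i ≤ f ⁻¹ᵁ U from fun _ hx => hle i hx)).op t :=
      fun i => (hb _ i.2.1).2 _
    choose sf hsf using hsf
    have hcompat : TopCat.Presheaf.IsCompatible Y.sheaf.1 Uι sf := by
      intro i j
      let κ := {W : Y.Opens // W ∈ ℬ ∧ W ≤ Uι i ⊓ Uι j}
      have hcov2 : Uι i ⊓ Uι j ≤ iSup (fun k : κ => k.1) := by
        intro y hy
        obtain ⟨W, hW, hyW, hWU⟩ := hℬ (Uι i ⊓ Uι j) y hy
        exact Opens.mem_iSup.mpr ⟨⟨W, hW, hWU⟩, hyW⟩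
      refine Y.sheaf.eq_of_locally_eq' (fun k : κ => k.1) (Uι i ⊓ Uι j)
        (fun k => homOfLE k.2.2) hcov2 _ _ (fun k => ?_)
      apply (hb _ k.2.1).1
      change (f.app k.1).hom (Y.presheaf.map _ (Y.presheaf.map _ (sf i))) =
        (f.app k.1).hom (Y.presheaf.map _ (Y.presheaf.map _ (sf j)))
      simp only [← CommRingCat.comp_apply, ← Functor.map_comp, ← op_comp]
      have e1 := app_res f (k.2.2.trans inf_le_left) (sf i)
      have e2 := app_res f (k.2.2.trans inf_le_right) (sf j)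
      rw [hsf i] at e1
      rw [hsf j] at e2
      simp only [← CommRingCat.comp_apply, ← Functor.map_comp, ← op_comp] at e1 e2
      exact e1.trans e2.symm
    obtain ⟨s, hs, -⟩ := Y.sheaf.existsUnique_gluing' Uι U (fun i => homOfLE (hle i)) hcover sf hcompat
    refine ⟨s, ?_⟩
    refine X.sheaf.eq_of_locally_eq' (fun i => f ⁻¹ᵁ Uι i) (f ⁻¹ᵁ U)
      (fun i => homOfLE (fun _ hx => hle i hx)) hcover' _ _ (fun i => ?_)
    change X.presheaf.map _ ((f.app U).hom s) = X.presheaf.map _ t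
    rw [← app_res f (hle i), ← hsf i]
    congr 1
    exact hs i

variable {f}

lemma IsFib.restrict (hf : IsFib f) (W : Y.Opens) : IsFib (f ∣_ W) := by
  intro V
  rw [morphismRestrict_app]
  have h1 := hf (W.ι ''ᵁ V)
  have h2 : Function.Bijective (X.presheaf.map
      (eqToHom (image_morphismRestrict_preimage f W V)).op).hom :=
    ConcreteCategory.bijective_of_isIso _
  exact h2.comp h1

lemma IsFib.surjective_of_isClosedMap (hf : IsFib f) (hc : IsClosedMap f.base) :
    Function.Surjective f.base := by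
  intro y
  by_contra hy
  have hcl : IsClosed (Set.range f.base) := by
    rw [← Set.image_univ]; exact hc _ isClosed_univ
  let W : Y.Opens := ⟨(Set.range f.base)ᶜ, hcl.isOpen_compl⟩
  have hyW : y ∈ W := fun h => hy (by obtain ⟨x, hx⟩ := h; exact ⟨x, hx⟩)
  have hbot : f ⁻¹ᵁ W = ⊥ := by
    ext x
    simp only [Opens.coe_bot, Set.mem_empty_iff_false, iff_false]
    intro hx
    exact hx ⟨x, rfl⟩
  haveI : Subsingleton (X.sheaf.obj.obj (op (f ⁻¹ᵁ W))) :=
    CommRingCat.subsingleton_of_isTerminal (X.sheaf.isTerminalOfEqEmpty hbot)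
  haveI : Nonempty W := ⟨⟨y, hyW⟩⟩
  haveI : Nontrivial Γ(Y, W) := inferInstance
  have h01 : (f.app W).hom 0 = (f.app W).hom 1 := Subsingleton.elim (α := X.sheaf.obj.obj (op (f ⁻¹ᵁ W))) _ _
  exact zero_ne_one ((hf W).1 h01)

/-- flat base change of a qcqs fibration is a fibration -/
theorem IsFib.baseChange_flat [QuasiCompact f] [QuasiSeparated f] (hf : IsFib f)
    {Y' : Scheme.{u}} (g : Y' ⟶ Y) [Flat g] : IsFib (pullback.snd f g) := by
  let ℬ : Set Y'.Opens := {V' | IsAffineOpen V' ∧ ∃ V : Y.Opens, IsAffineOpen V ∧ V' ≤ g ⁻¹ᵁ V}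
  refine bijective_app_of_basis _ ℬ ?_ ?_
  · intro U y hy
    obtain ⟨_, ⟨V, hV, rfl⟩, hyV, -⟩ :=
      Y.isBasis_affineOpens.exists_subset_of_mem_open (Set.mem_univ (g y)) isOpen_univ
    obtain ⟨_, ⟨V', hV', rfl⟩, hyV', hV'U⟩ :=
      Y'.isBasis_affineOpens.exists_subset_of_mem_open (show y ∈ (U ⊓ g ⁻¹ᵁ V : Y'.Opens) from ⟨hy, hyV⟩)
        (U ⊓ g ⁻¹ᵁ V).isOpen
    exact ⟨V', ⟨hV', V, hV, fun z hz => (hV'U hz).2⟩, hyV', fun z hz => (hV'U hz).1⟩
  · rintro V' ⟨hV', V, hV, hV'V⟩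
    have H : IsPullback (pullback.fst f g) (pullback.snd f g) f g := IsPullback.of_hasPullback f g
    have hUY : pullback.snd f g ⁻¹ᵁ V' = pullback.fst f g ⁻¹ᵁ (f ⁻¹ᵁ V) ⊓ pullback.snd f g ⁻¹ᵁ V' := by
      rw [eq_comm, inf_eq_right, ← Scheme.Hom.comp_preimage, pullback.condition,
        Scheme.Hom.comp_preimage]
      intro z hz
      exact hV'V hz
    have hiso := isIso_pushoutSection_of_isQuasiSeparated_of_flat_right H
      (US := V) (UT := V') (UX := f ⁻¹ᵁ V) (UY := pullback.snd f g ⁻¹ᵁ V') hV'V le_rfl hUY hV hV'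
      (f.isCompact_preimage hV.isCompact) (f.isQuasiSeparated_preimage hV.isQuasiSeparated)
    rw [isIso_pushoutSection_iff] at hiso
    haveI : IsIso (f.appLE V (f ⁻¹ᵁ V) le_rfl) := by
      rw [Scheme.Hom.appLE_eq_app]
      exact (ConcreteCategory.isIso_iff_bijective _).mpr (hf V)
    have := hiso.isIso_inr_of_isIso
    rw [Scheme.Hom.appLE_eq_app] at this
    exact (ConcreteCategory.isIso_iff_bijective _).mp this

end Groth.Agent.Helper3.Fib
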