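import Mathlib
import Groth.Agent.Helper3.Fib1

set_option autoImplicit false
set_option linter.style.haveILetI false
set_option linter.unusedSectionVars false
set_option linter.unusedVariables false
set_option linter.style.haveILetI false
set_option linter.unusedSectionVars false
set_option linter.unusedVariables false
universe u
open CategoryTheory CategoryTheory.Limits AlgebraicGeometry Opposite TopologicalSpace

namespace Groth.Agent.Helper3.Fib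

/-- morphisms into an affine scheme factor through a map inducing a bijection on global
functions -/
theorem factor_affine {P Q V : Scheme.{u}} [IsAffine V] {π : P ⟶ Q}
    (hπ : Function.Bijective π.appTop.hom) (h : P ⟶ V) : ∃ r : Q ⟶ V, π ≫ r = h := by
  haveI : IsIso π.appTop := (ConcreteCategory.isIso_iff_bijective _).mpr hπ
  refine ⟨Q.toSpecΓ ≫ Spec.map (h.appTop ≫ inv π.appTop) ≫ V.isoSpec.inv, ?_⟩
  rw [← cancel_mono V.isoSpec.hom]
  simp only [Category.assoc, Iso.inv_hom_id, Category.comp_id]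
  rw [Scheme.isoSpec_hom, Scheme.toSpecΓ_naturality, ← Category.assoc, Scheme.toSpecΓ_naturality,
    Category.assoc, ← Spec.map_comp, Category.assoc, IsIso.inv_hom_id, Category.comp_id]

/-- a surjective fibration is an epimorphism of schemes -/
theorem IsFib.cancel {P Q Y' : Scheme.{u}} {π : P ⟶ Q} (hπ : IsFib π)
    (hs : Function.Surjective π.base) (a b : Q ⟶ Y') (h : π ≫ a = π ≫ b) : a = b := by
  have hpt : ∀ q : Q, a q = b q := by
    intro q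
    obtain ⟨p, rfl⟩ := hs q
    rw [← Scheme.Hom.comp_apply, ← Scheme.Hom.comp_apply, h]
  have hcov : IsOpenCover (fun V : Y'.affineOpens => a ⁻¹ᵁ V.1 ⊓ b ⁻¹ᵁ V.1) := by
    rw [IsOpenCover, eq_top_iff]
    intro q _
    obtain ⟨_, ⟨V, hV, rfl⟩, hqV, -⟩ :=
      Y'.isBasis_affineOpens.exists_subset_of_mem_open (Set.mem_univ (a q)) isOpen_univ
    exact Opens.mem_iSup.mpr ⟨⟨V, hV⟩, hqV, by change b q ∈ V; rw [← hpt q]; exact hqV⟩
  refine Scheme.Cover.hom_ext (Q.openCoverOfIsOpenCover _ hcov) _ _ fun V => ?_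
  change (a ⁻¹ᵁ V.1 ⊓ b ⁻¹ᵁ V.1).ι ≫ a = (a ⁻¹ᵁ V.1 ⊓ b ⁻¹ᵁ V.1).ι ≫ b
  set O : Q.Opens := a ⁻¹ᵁ V.1 ⊓ b ⁻¹ᵁ V.1 with hO
  have hra : Set.range (O.ι ≫ a) ⊆ Set.range V.1.ι := by
    rw [Scheme.Opens.range_ι]
    rintro _ ⟨q, rfl⟩
    exact q.2.1
  have hrb : Set.range (O.ι ≫ b) ⊆ Set.range V.1.ι := by
    rw [Scheme.Opens.range_ι]
    rintro _ ⟨q, rfl⟩
    exact q.2.2
  let a' : O.toScheme ⟶ V.1.toScheme := IsOpenImmersion.lift V.1.ι (O.ι ≫ a) hra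
  let b' : O.toScheme ⟶ V.1.toScheme := IsOpenImmersion.lift V.1.ι (O.ι ≫ b) hrb
  have ha' : a' ≫ V.1.ι = O.ι ≫ a := IsOpenImmersion.lift_fac _ _ _
  have hb' : b' ≫ V.1.ι = O.ι ≫ b := IsOpenImmersion.lift_fac _ _ _
  suffices hab : a' = b' by rw [← ha', ← hb', hab]
  have hcomp : (π ∣_ O) ≫ a' = (π ∣_ O) ≫ b' := by
    rw [← cancel_mono V.1.ι, Category.assoc, Category.assoc, ha', hb', ← Category.assoc,
      ← Category.assoc, morphismRestrict_ι, Category.assoc, Category.assoc, h]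
  haveI : IsAffine V.1.toScheme := V.2
  apply ext_of_isAffine
  have hinj : Function.Injective (π ∣_ O).appTop.hom := ((hπ.restrict O) ⊤).1
  ext x
  apply hinj
  have := congr($(congrArg Scheme.Hom.appTop hcomp).hom x)
  simpa [Scheme.Hom.comp_appTop] using this

/-- local factorization of a map contracting a fibre of a closed fibration -/
theorem local_factor {X Y S : Scheme.{u}} {ξ : X ⟶ S} (hξ : IsFib ξ) (hc : IsClosedMap ξ.base)
    (f : X ⟶ Y) (s : S) (y : Y) (hy : ∀ x : X, ξ.base x = s → f.base x = y) :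
    ∃ (W : S.Opens) (r : W.toScheme ⟶ Y), s ∈ W ∧ (ξ ∣_ W) ≫ r = (ξ ⁻¹ᵁ W).ι ≫ f := by
  obtain ⟨_, ⟨V₀, hV, rfl⟩, hyV, -⟩ :=
    Y.isBasis_affineOpens.exists_subset_of_mem_open (Set.mem_univ y) isOpen_univ
  obtain ⟨V, hVV⟩ : ∃ V : Y.Opens, V = V₀ := ⟨V₀, rfl⟩
  subst hVV
  let Z : Set X := f.base ⁻¹' (V : Set Y)ᶜ
  have hZ : IsClosed Z := V.isOpen.isClosed_compl.preimage f.continuous
  let W : S.Opens := ⟨(ξ.base '' Z)ᶜ, (hc _ hZ).isOpen_compl⟩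
  have hsW : s ∈ W := by
    rintro ⟨x, hxZ, hxs⟩
    exact hxZ (by rw [hy x hxs]; exact hyV)
  have hfV : ∀ x : X, x ∈ ξ ⁻¹ᵁ W → f.base x ∈ V := by
    intro x hx
    by_contra hcon
    exact hx ⟨x, hcon, rfl⟩
  have hr : Set.range ((ξ ⁻¹ᵁ W).ι ≫ f) ⊆ Set.range V.ι := by
    rw [Scheme.Opens.range_ι]
    rintro _ ⟨x, rfl⟩
    exact hfV x.1 x.2
  let h : (ξ ⁻¹ᵁ W).toScheme ⟶ V.toScheme := IsOpenImmersion.lift V.ι ((ξ ⁻¹ᵁ W).ι ≫ f) hr
  have hh : h ≫ V.ι = (ξ ⁻¹ᵁ W).ι ≫ f := IsOpenImmersion.lift_fac _ _ _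
  haveI : IsAffine V.toScheme := hV
  obtain ⟨r₀, hr₀⟩ := factor_affine (π := ξ ∣_ W) ((hξ.restrict W) ⊤) h
  exact ⟨W, r₀ ≫ V.ι, hsW, by rw [← Category.assoc, hr₀, hh]⟩

/-- global factorization when every fibre is contracted -/
theorem global_factor {X Y S : Scheme.{u}} {ξ : X ⟶ S} [QuasiCompact ξ] [QuasiSeparated ξ]
    (hξ : IsFib ξ) (hc : IsClosedMap ξ.base)
    (f : X ⟶ Y) (hall : ∀ s : S, ∃ y : Y, ∀ x : X, ξ.base x = s → f.base x = y) :
    ∃ r : S ⟶ Y, ξ ≫ r = f := by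
  have hsurj : Function.Surjective ξ.base := hξ.surjective_of_isClosedMap hc
  haveI : Surjective ξ := ⟨hsurj⟩
  choose y hy using hall
  have hloc := fun s => local_factor hξ hc f s (y s) (hy s)
  choose W r hsW hr using hloc
  have hcov : IsOpenCover W := by
    rw [IsOpenCover, eq_top_iff]
    intro s _
    exact Opens.mem_iSup.mpr ⟨s, hsW s⟩
  let 𝒲 := S.openCoverOfIsOpenCover W hcov
  have compat : ∀ i j : S, pullback.fst (𝒲.f i) (𝒲.f j) ≫ r i = pullback.snd (𝒲.f i) (𝒲.f j) ≫ r j := by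
    intro i j
    change pullback.fst (W i).ι (W j).ι ≫ r i = pullback.snd (W i).ι (W j).ι ≫ r j
    let e : pullback (W i).ι (W j).ι ⟶ S := pullback.fst (W i).ι (W j).ι ≫ (W i).ι
    have he2 : e = pullback.snd (W i).ι (W j).ι ≫ (W j).ι := pullback.condition
    have hfibE : IsFib (pullback.snd ξ e) := hξ.baseChange_flat e
    have hsurjE : Function.Surjective (pullback.snd ξ e).base :=
      (inferInstance : Surjective (pullback.snd ξ e)).surj
    apply hfibE.cancel hsurjE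
    -- both sides equal `pullback.fst ξ e ≫ f`
    have key : ∀ (k : S) (p : pullback (W i).ι (W j).ι ⟶ (W k).toScheme) (hp : p ≫ (W k).ι = e),
        pullback.snd ξ e ≫ p ≫ r k = pullback.fst ξ e ≫ f := by
      intro k p hp
      have hrange : Set.range (pullback.fst ξ e) ⊆ Set.range (ξ ⁻¹ᵁ W k).ι := by
        rw [Scheme.Opens.range_ι]
        rintro _ ⟨z, rfl⟩
        change ξ.base ((pullback.fst ξ e).base z) ∈ W k
        have h3 : pullback.snd ξ e ≫ e = (pullback.snd ξ e ≫ p) ≫ (W k).ι := by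
          rw [Category.assoc, hp]
        rw [← Scheme.Hom.comp_apply, pullback.condition, h3, Scheme.Hom.comp_apply]
        exact ((pullback.snd ξ e ≫ p) z).2
      let q : pullback ξ e ⟶ (ξ ⁻¹ᵁ W k).toScheme :=
        IsOpenImmersion.lift (ξ ⁻¹ᵁ W k).ι (pullback.fst ξ e) hrange
      have hq : q ≫ (ξ ⁻¹ᵁ W k).ι = pullback.fst ξ e := IsOpenImmersion.lift_fac _ _ _
      have hq2 : q ≫ (ξ ∣_ W k) = pullback.snd ξ e ≫ p := by
        rw [← cancel_mono (W k).ι, Category.assoc, morphismRestrict_ι, ← Category.assoc, hq,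
          pullback.condition, Category.assoc, hp]
      rw [← Category.assoc, ← hq2, Category.assoc, hr k, ← Category.assoc, hq]
    rw [key i _ rfl, key j _ he2.symm]
  let r' : S ⟶ Y := 𝒲.glueMorphisms r compat
  have hr' : ∀ i : S, (W i).ι ≫ r' = r i := fun i => 𝒲.ι_glueMorphisms r compat i
  refine ⟨r', ?_⟩
  refine Scheme.Cover.hom_ext (X.openCoverOfIsOpenCover (fun i => ξ ⁻¹ᵁ W i)
    (hcov.comap ξ.base.1)) _ _ fun i => ?_
  change (ξ ⁻¹ᵁ W i).ι ≫ ξ ≫ r' = (ξ ⁻¹ᵁ W i).ι ≫ f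
  rw [← Category.assoc, ← morphismRestrict_ι, Category.assoc, hr' i, hr i]

theorem s14666 {X Y S : Scheme.{u}} [IsLocallyNoetherian S]
    (ξ : X ⟶ S) [IsProper ξ] [GeometricallyIntegral ξ]
    (h0 : ∀ U : S.Opens, Function.Bijective (ξ.app U).hom)
    (v : Y ⟶ S) (f : X ⟶ Y) (hf : f ≫ v = ξ) :
    IsOpen {s : ↥S | ∃ y : ↥Y, ∀ x : ↥X, ξ.base x = s → f.base x = y} ∧
    ∀ (T : Scheme.{u}) (τ : T ⟶ S),
      ((∃ r : T ⟶ Y, r ≫ v = τ ∧ pullback.fst ξ τ ≫ f = pullback.snd ξ τ ≫ r) ↔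
        ∀ t : ↥T, τ.base t ∈ {s : ↥S | ∃ y : ↥Y, ∀ x : ↥X, ξ.base x = s → f.base x = y}) := by
  have hξ : IsFib ξ := h0
  have hc : IsClosedMap ξ.base := ξ.isClosedMap
  have hopen : IsOpen {s : ↥S | ∃ y : ↥Y, ∀ x : ↥X, ξ.base x = s → f.base x = y} := by
    rw [isOpen_iff_forall_mem_open]
    rintro s ⟨y, hy⟩
    obtain ⟨W, r, hsW, hr⟩ := local_factor hξ hc f s y hy
    refine ⟨W, ?_, W.isOpen, hsW⟩
    intro s' hs'
    refine ⟨r ⟨s', hs'⟩, ?_⟩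
    intro x hx
    have hxW : x ∈ ξ ⁻¹ᵁ W := by change ξ.base x ∈ W; rw [hx]; exact hs'
    have h1 : ((ξ ∣_ W) ≫ r) ⟨x, hxW⟩ = ((ξ ⁻¹ᵁ W).ι ≫ f) ⟨x, hxW⟩ := by rw [hr]
    rw [Scheme.Hom.comp_apply, Scheme.Hom.comp_apply] at h1
    have h2 : (ξ ∣_ W) ⟨x, hxW⟩ = ⟨s', hs'⟩ := by
      apply Subtype.ext
      rw [morphismRestrict_base_coe]
      exact hx
    rw [h2] at h1
    exact h1.symm
  refine ⟨hopen, ?_⟩
  let U𝒰 : S.Opens := ⟨_, hopen⟩
  have hall : ∀ s' : U𝒰.toScheme, ∃ y : Y, ∀ x' : (ξ ⁻¹ᵁ U𝒰).toScheme,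
      (ξ ∣_ U𝒰).base x' = s' → ((ξ ⁻¹ᵁ U𝒰).ι ≫ f).base x' = y := by
    rintro ⟨s, y, hy⟩
    refine ⟨y, fun x' hx' => hy x'.1 ?_⟩
    have := congrArg Subtype.val hx'
    rwa [morphismRestrict_base_coe] at this
  obtain ⟨r', hr'⟩ := global_factor (hξ.restrict U𝒰) (ξ ∣_ U𝒰).isClosedMap
    ((ξ ⁻¹ᵁ U𝒰).ι ≫ f) hall
  have hr'v : r' ≫ v = U𝒰.ι := by
    apply (hξ.restrict U𝒰).cancel
      ((hξ.restrict U𝒰).surjective_of_isClosedMap (ξ ∣_ U𝒰).isClosedMap)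
    rw [← Category.assoc, hr', Category.assoc, hf, morphismRestrict_ι]
  intro T τ
  constructor
  · rintro ⟨r, hrv, hr⟩ t
    refine ⟨r t, fun x hx => ?_⟩
    obtain ⟨p, hp1, hp2⟩ := Scheme.Pullback.exists_preimage_pullback (f := ξ) (g := τ) x t hx
    rw [← hp1, ← Scheme.Hom.comp_apply, hr, Scheme.Hom.comp_apply, hp2]
  · intro hT
    have hrange : Set.range τ ⊆ Set.range U𝒰.ι := by
      rw [Scheme.Opens.range_ι]; rintro _ ⟨t, rfl⟩; exact hT t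
    let τ' : T ⟶ U𝒰.toScheme := IsOpenImmersion.lift U𝒰.ι τ hrange
    have hτ' : τ' ≫ U𝒰.ι = τ := IsOpenImmersion.lift_fac _ _ _
    refine ⟨τ' ≫ r', by rw [Category.assoc, hr'v, hτ'], ?_⟩
    have hrange2 : Set.range (pullback.fst ξ τ) ⊆ Set.range (ξ ⁻¹ᵁ U𝒰).ι := by
      rw [Scheme.Opens.range_ι]
      rintro _ ⟨z, rfl⟩
      change ξ.base ((pullback.fst ξ τ).base z) ∈ U𝒰
      rw [← Scheme.Hom.comp_apply, pullback.condition, Scheme.Hom.comp_apply]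
      exact hT _
    let q := IsOpenImmersion.lift (ξ ⁻¹ᵁ U𝒰).ι (pullback.fst ξ τ) hrange2
    have hq : q ≫ (ξ ⁻¹ᵁ U𝒰).ι = pullback.fst ξ τ := IsOpenImmersion.lift_fac _ _ _
    have hq2 : q ≫ (ξ ∣_ U𝒰) = pullback.snd ξ τ ≫ τ' := by
      rw [← cancel_mono U𝒰.ι, Category.assoc, morphismRestrict_ι, ← Category.assoc, hq,
        pullback.condition, Category.assoc, hτ']
    rw [← hq, Category.assoc, ← hr', ← Category.assoc, hq2, Category.assoc]

end Groth.Agent.Helper3.Fib
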