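import Mathlib

set_option autoImplicit false
set_option linter.style.haveILetI false
set_option linter.unusedSectionVars false
set_option linter.unusedVariables false
set_option linter.style.haveILetI false
set_option linter.unusedSectionVars false
set_option linter.unusedVariables false

open AlgebraicGeometry CategoryTheory CategoryTheory.Limits TopologicalSpace Opposite

universe u

namespace Groth.Agent.Helper3.KrullNbhd

lemma fromSpecStalk_preimage_eq_top {X : Scheme.{u}} (x : X) (V : X.Opens) (hx : x ∈ V) :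
    X.fromSpecStalk x ⁻¹ᵁ V = ⊤ := by
  ext y
  simp only [Opens.coe_top, Set.mem_univ, iff_true]
  have hy : X.fromSpecStalk x y ∈ Set.range (X.fromSpecStalk x) := ⟨y, rfl⟩
  rw [Scheme.range_fromSpecStalk] at hy
  exact hy.mem_open V.isOpen hx

lemma isIso_res_of_eq_top {Y : Scheme.{u}} (W : Y.Opens) (hW : W = ⊤) :
    IsIso (Y.presheaf.map (homOfLE (le_top : W ≤ ⊤)).op) := by
  subst hW
  have : (homOfLE (le_top : (⊤ : Y.Opens) ≤ ⊤)) = 𝟙 _ := rfl
  rw [this, op_id, Y.presheaf.map_id]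
  infer_instance

theorem ker_le_of_stalk {X : Scheme.{u}} (x : X) (V : X.Opens) (hx : x ∈ V) (B : CommRingCat.{u})
    (q : X.presheaf.stalk x ⟶ B) (s : Γ(X, V))
    (h : ((Spec.map q ≫ X.fromSpecStalk x).app V).hom s = 0) :
    q.hom ((X.presheaf.germ V x hx).hom s) = 0 := by
  have hW : Spec.map q ⁻¹ᵁ (X.fromSpecStalk x ⁻¹ᵁ V) = ⊤ := by
    rw [fromSpecStalk_preimage_eq_top x V hx]; rfl
  have key : (Spec.map q ≫ X.fromSpecStalk x).app V =
      X.presheaf.germ V x hx ≫ q ≫ (Scheme.ΓSpecIso B).inv ≫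
        (Spec B).presheaf.map (homOfLE (le_top :
          Spec.map q ⁻¹ᵁ (X.fromSpecStalk x ⁻¹ᵁ V) ≤ ⊤)).op := by
    rw [Scheme.Hom.comp_app, Scheme.fromSpecStalk_app hx]
    simp only [Category.assoc]
    rw [Scheme.Hom.naturality]
    have e := Scheme.ΓSpecIso_inv_naturality q
    rw [← Category.assoc q, e, Category.assoc]
    rfl
  rw [key] at h
  haveI := isIso_res_of_eq_top _ hW
  have hinj : Function.Injective ((Scheme.ΓSpecIso B).inv ≫
      (Spec B).presheaf.map (homOfLE (le_top :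
          Spec.map q ⁻¹ᵁ (X.fromSpecStalk x ⁻¹ᵁ V) ≤ ⊤)).op).hom :=
    (ConcreteCategory.bijective_of_isIso _).1
  apply hinj
  rw [map_zero]
  exact h

theorem germ_eq_zero_of_le_ker {X S : Scheme.{u}} [IsLocallyNoetherian X] (p : X ⟶ S) (x : X)
    (I : X.IdealSheafData)
    (h : ∀ n : ℕ, I ≤ (pullback.fst p (Spec.map (CommRingCat.ofHom (Ideal.Quotient.mk
        (IsLocalRing.maximalIdeal ↑(S.presheaf.stalk (p.base x)) ^ (n + 1)))) ≫
          S.fromSpecStalk (p.base x))).ker)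
    (V : X.affineOpens) (hx : x ∈ V.1) (s : Γ(X, V.1)) (hs : s ∈ I.ideal V) :
    (X.presheaf.germ V.1 x hx).hom s = 0 := by
  let B := X.presheaf.stalk x
  let R := S.presheaf.stalk (p.base x)
  let φ : R →+* B := (p.stalkMap x).hom
  have hmem : ∀ n : ℕ, (X.presheaf.germ V.1 x hx).hom s ∈ IsLocalRing.maximalIdeal B ^ (n + 1) := by
    intro n
    let 𝔫 : Ideal B := Ideal.map φ (IsLocalRing.maximalIdeal R ^ (n + 1))
    let q : B →+* B ⧸ 𝔫 := Ideal.Quotient.mk 𝔫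
    let ρ : (R ⧸ IsLocalRing.maximalIdeal R ^ (n + 1)) →+* B ⧸ 𝔫 :=
      Ideal.quotientMap 𝔫 φ Ideal.le_comap_map
    have hρ : ρ.comp (Ideal.Quotient.mk _) = q.comp φ := Ideal.quotientMap_comp_mk _
    let σ : Spec (CommRingCat.of (B ⧸ 𝔫)) ⟶ X := Spec.map (CommRingCat.ofHom q) ≫ X.fromSpecStalk x
    let w : Spec (CommRingCat.of (B ⧸ 𝔫)) ⟶
        Spec (CommRingCat.of (R ⧸ IsLocalRing.maximalIdeal R ^ (n + 1))) :=
      Spec.map (CommRingCat.ofHom ρ)
    have hcomm : σ ≫ p = w ≫ Spec.map (CommRingCat.ofHom (Ideal.Quotient.mk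
        (IsLocalRing.maximalIdeal R ^ (n + 1)))) ≫ S.fromSpecStalk (p.base x) := by
      change (Spec.map _ ≫ X.fromSpecStalk x) ≫ p = Spec.map _ ≫ Spec.map _ ≫ _
      rw [Category.assoc, ← Scheme.SpecMap_stalkMap_fromSpecStalk, ← Category.assoc,
        ← Category.assoc, ← Spec.map_comp, ← Spec.map_comp]
      congr 2
    let ℓ := pullback.lift σ w hcomm
    have hℓ : ℓ ≫ pullback.fst p _ = σ := pullback.lift_fst _ _ _
    have h1 : I ≤ σ.ker := by
      rw [← hℓ]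
      exact (h n).trans (Scheme.Hom.le_ker_comp ℓ _)
    have h2 : s ∈ RingHom.ker (σ.app V.1).hom := (Scheme.Hom.ideal_ker_le σ V) (h1 V hs)
    have h3 := ker_le_of_stalk x V.1 hx (CommRingCat.of (B ⧸ 𝔫)) (CommRingCat.ofHom q) s h2
    have h4 : (X.presheaf.germ V.1 x hx).hom s ∈ 𝔫 := Ideal.Quotient.eq_zero_iff_mem.mp h3
    have hle : 𝔫 ≤ IsLocalRing.maximalIdeal B ^ (n + 1) := by
      change Ideal.map φ _ ≤ _
      rw [Ideal.map_pow]
      apply Ideal.pow_right_mono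
      exact ((IsLocalRing.local_hom_TFAE φ).out 0 2).mp (inferInstance : IsLocalHom (p.stalkMap x).hom)
    exact hle h4
  have hkrull := Ideal.iInf_pow_eq_bot_of_isLocalRing (IsLocalRing.maximalIdeal B)
    Ideal.IsPrime.ne_top'
  have : (X.presheaf.germ V.1 x hx).hom s ∈ ⨅ i : ℕ, IsLocalRing.maximalIdeal B ^ i := by
    rw [Ideal.mem_iInf]
    intro i
    cases i with
    | zero => rw [pow_zero, Ideal.one_eq_top]; trivial
    | succ n => exact hmem n
  rw [hkrull] at this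
  exact this

theorem exists_affine_ideal_eq_bot {X : Scheme.{u}} [IsLocallyNoetherian X] (x : X)
    (I : X.IdealSheafData)
    (h : ∀ (V : X.affineOpens) (hx : x ∈ V.1) (s : Γ(X, V.1)), s ∈ I.ideal V →
      (X.presheaf.germ V.1 x hx).hom s = 0) :
    ∃ W : X.affineOpens, x ∈ W.1 ∧ I.ideal W = ⊥ := by
  classical
  obtain ⟨_, ⟨V, hV, rfl⟩, hxV, -⟩ :=
    X.isBasis_affineOpens.exists_subset_of_mem_open (Set.mem_univ x) isOpen_univ
  obtain ⟨V', hV'⟩ : ∃ V' : X.Opens, V' = V := ⟨V, rfl⟩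
  subst hV'
  haveI : IsNoetherianRing Γ(X, V') := IsLocallyNoetherian.component_noetherian ⟨V', hV⟩
  obtain ⟨T, hT⟩ := (isNoetherianRing_iff_ideal_fg Γ(X, V')).mp inferInstance (I.ideal ⟨V', hV⟩)
  have hTI : ∀ s ∈ T, s ∈ I.ideal ⟨V', hV⟩ := fun s hs => hT ▸ Ideal.subset_span hs
  -- a common neighbourhood on which all generators vanish
  have key : ∀ T' : Finset Γ(X, V'), (∀ s ∈ T', s ∈ I.ideal ⟨V', hV⟩) →
      ∃ (W : X.Opens) (hW : W ≤ V'), x ∈ W ∧ ∀ s ∈ T', (X.presheaf.map (homOfLE hW).op).hom s = 0 := by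
    intro T'
    induction T' using Finset.induction_on with
    | empty => exact fun _ => ⟨V', le_rfl, hxV, fun s hs => absurd hs (Finset.notMem_empty s)⟩
    | insert a T'' ha ih =>
      intro hmem
      obtain ⟨W, hW, hxW, hW0⟩ := ih (fun s hs => hmem s (Finset.mem_insert_of_mem hs))
      have hga := h ⟨V', hV⟩ hxV a (hmem a (Finset.mem_insert_self a T''))
      have hg0 : (X.presheaf.germ V' x hxV).hom a = (X.presheaf.germ V' x hxV).hom 0 := by
        rw [hga, map_zero]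
      obtain ⟨W₁, hxW₁, i₁, i₂, he⟩ := X.presheaf.germ_eq x hxV hxV a 0 hg0
      refine ⟨W ⊓ W₁, inf_le_left.trans hW, ⟨hxW, hxW₁⟩, ?_⟩
      intro s hs
      rcases Finset.mem_insert.mp hs with rfl | hs'
      · have e1 : (X.presheaf.map (homOfLE (inf_le_left.trans hW : W ⊓ W₁ ≤ V')).op).hom s =
            (X.presheaf.map (homOfLE (inf_le_right : W ⊓ W₁ ≤ W₁)).op).hom
              ((X.presheaf.map i₁.op).hom s) := by
          simp only [← CommRingCat.comp_apply, ← Functor.map_comp, ← op_comp]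
          rfl
        rw [e1]
        have he' : (X.presheaf.map i₁.op).hom s = (X.presheaf.map i₂.op).hom 0 := he
        rw [he', map_zero, map_zero]
      · have e1 : (X.presheaf.map (homOfLE (inf_le_left.trans hW : W ⊓ W₁ ≤ V')).op).hom s =
            (X.presheaf.map (homOfLE (inf_le_left : W ⊓ W₁ ≤ W)).op).hom
              ((X.presheaf.map (homOfLE hW).op).hom s) := by
          simp only [← CommRingCat.comp_apply, ← Functor.map_comp, ← op_comp]
          rfl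
        rw [e1, hW0 s hs', map_zero]
  obtain ⟨W, hW, hxW, hW0⟩ := key T hTI
  obtain ⟨f, hfW, hxf⟩ := hV.exists_basicOpen_le ⟨x, hxW⟩ hxV
  refine ⟨X.affineBasicOpen (U := ⟨V', hV⟩) f, hxf, ?_⟩
  have hle : X.affineBasicOpen (U := ⟨V', hV⟩) f ≤ (⟨V', hV⟩ : X.affineOpens) :=
    X.affineBasicOpen_le (V := ⟨V', hV⟩) f
  rw [← I.map_ideal hle, ← hT, Ideal.map_span, Ideal.span_eq_bot]
  rintro _ ⟨s, hs, rfl⟩
  have e1 : (X.presheaf.map (homOfLE hle).op).hom s =
      (X.presheaf.map (homOfLE (hfW : X.basicOpen f ≤ W)).op).hom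
        ((X.presheaf.map (homOfLE hW).op).hom s) := by
    simp only [← CommRingCat.comp_apply, ← Functor.map_comp, ← op_comp]
    rfl
  refine e1.trans ?_
  rw [hW0 s hs, map_zero]
  rfl

/-- If `U` is covered by affine opens on which `I` vanishes then `U → X` factors through `V(I)`. -/
theorem le_ker_ι_of_cover {X : Scheme.{u}} (I : X.IdealSheafData) (U : X.Opens)
    (hU : ∀ x ∈ U, ∃ W : X.affineOpens, x ∈ W.1 ∧ W.1 ≤ U ∧ I.ideal W = ⊥) :
    I ≤ U.ι.ker := by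
  refine Scheme.IdealSheafData.le_ofIdeals_iff.mpr fun V s hs => ?_
  rw [RingHom.mem_ker, Scheme.Opens.ι_app]
  apply X.IsSheaf.section_ext
  rintro x ⟨y, hy, rfl⟩
  obtain ⟨W, hxW, hWU, hW⟩ := hU _ y.2
  have hxV : U.ι y ∈ V.1 := hy
  obtain ⟨_, ⟨W', hW', rfl⟩, hxW', hW'le⟩ :=
    X.isBasis_affineOpens.exists_subset_of_mem_open (show U.ι y ∈ (W.1 ⊓ V.1 : X.Opens) from
      ⟨hxW, hxV⟩) (W.1 ⊓ V.1).isOpen
  obtain ⟨W'', hW''⟩ : ∃ W'' : X.Opens, W'' = W' := ⟨W', rfl⟩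
  subst hW''
  have hle : W'' ≤ U.ι ''ᵁ U.ι ⁻¹ᵁ V.1 := by
    intro z hz
    have hzW : z ∈ W.1 := (hW'le hz).1
    have hzV : z ∈ V.1 := (hW'le hz).2
    exact ⟨⟨z, hWU hzW⟩, hzV, rfl⟩
  refine ⟨W'', hle, hxW', ?_⟩
  have hWW : (⟨W'', hW'⟩ : X.affineOpens) ≤ W := fun z hz => (hW'le hz).1
  have hWV : (⟨W'', hW'⟩ : X.affineOpens) ≤ V := fun z hz => (hW'le hz).2
  have h0 : I.ideal ⟨W'', hW'⟩ = ⊥ := by
    rw [← I.map_ideal hWW, hW, Ideal.map_bot]
  have h1 : (X.presheaf.map (homOfLE hWV).op).hom s ∈ I.ideal ⟨W'', hW'⟩ :=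
    I.ideal_le_comap_ideal hWV hs
  rw [h0, Ideal.mem_bot] at h1
  have h2 : (X.presheaf.map (homOfLE hle).op).hom
      ((X.presheaf.map (homOfLE (x := U.ι ''ᵁ U.ι ⁻¹ᵁ V.1)
        (Set.image_preimage_subset _ _)).op).hom s) =
      (X.presheaf.map (homOfLE hWV).op).hom s := by
    simp only [← CommRingCat.comp_apply, ← Functor.map_comp, ← op_comp]
    rfl
  have h3 : (X.presheaf.map (homOfLE hle).op).hom 0 = 0 := map_zero _
  exact (h2.trans h1).trans h3.symm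

theorem main {X S : Scheme.{u}} [IsLocallyNoetherian X] (p : X ⟶ S) (t : S)
    (I : X.IdealSheafData)
    (h : ∀ n : ℕ, ∃ g : pullback p (Spec.map (CommRingCat.ofHom (Ideal.Quotient.mk
        (IsLocalRing.maximalIdeal ↑(S.presheaf.stalk t) ^ (n + 1)))) ≫ S.fromSpecStalk t) ⟶
          I.subscheme, g ≫ I.subschemeι = pullback.fst p _) :
    ∃ U : X.Opens, (∀ x : X, p.base x = t → x ∈ U) ∧
      ∃ g : (U : Scheme.{u}) ⟶ I.subscheme, g ≫ I.subschemeι = U.ι := by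
  have hle : ∀ n : ℕ, I ≤ (pullback.fst p (Spec.map (CommRingCat.ofHom (Ideal.Quotient.mk
        (IsLocalRing.maximalIdeal ↑(S.presheaf.stalk t) ^ (n + 1)))) ≫ S.fromSpecStalk t)).ker := by
    intro n
    obtain ⟨g, hg⟩ := h n
    rw [← hg]
    conv_lhs => rw [← I.ker_subschemeι]
    exact Scheme.Hom.le_ker_comp g I.subschemeι
  have hpt : ∀ x : X, p.base x = t → ∃ W : X.affineOpens, x ∈ W.1 ∧ I.ideal W = ⊥ := by
    intro x hx
    subst hx
    exact exists_affine_ideal_eq_bot x I (fun V hxV s hs => germ_eq_zero_of_le_ker p x I hle V hxV s hs)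
  let U : X.Opens := ⨆ W : {W : X.affineOpens // I.ideal W = ⊥}, W.1.1
  have hU : ∀ x ∈ U, ∃ W : X.affineOpens, x ∈ W.1 ∧ W.1 ≤ U ∧ I.ideal W = ⊥ := by
    intro x hx
    obtain ⟨W, hxW⟩ := Opens.mem_iSup.mp hx
    exact ⟨W.1, hxW, le_iSup (fun W : {W : X.affineOpens // I.ideal W = ⊥} => W.1.1) W, W.2⟩
  refine ⟨U, ?_, ?_⟩
  · intro x hx
    obtain ⟨W, hxW, hW⟩ := hpt x hx
    exact Opens.mem_iSup.mpr ⟨⟨W, hW⟩, hxW⟩
  · have hker : I.subschemeι.ker ≤ U.ι.ker := by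
      rw [I.ker_subschemeι]
      exact le_ker_ι_of_cover I U hU
    exact ⟨IsClosedImmersion.lift I.subschemeι U.ι hker, IsClosedImmersion.lift_fac _ _ _⟩

end Groth.Agent.Helper3.KrullNbhd
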