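import Mathlib
import Groth.Agent.Helper3.KrullNbhd
import Groth.Agent.Helper3.Fib2
import Groth.Agent.Helper3.AntiAffRigid

set_option autoImplicit false
set_option linter.style.haveILetI false
set_option linter.unusedSectionVars false
set_option linter.unusedVariables false
set_option linter.style.haveILetI false
set_option linter.unusedSectionVars false
set_option linter.unusedVariables false

open AlgebraicGeometry CategoryTheory CategoryTheory.Limits TopologicalSpace Opposite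

universe u

namespace Groth.Agent.Helper3.Rig1

/-- the equalizer of two morphisms into a scheme separated over a base, as a closed subscheme -/
theorem exists_equalizer {X Y S' : Scheme.{u}} (f h : X ⟶ Y) (q : Y ⟶ S') [IsSeparated q]
    (hq : f ≫ q = h ≫ q) :
    ∃ (E : Scheme.{u}) (ι : E ⟶ X), IsClosedImmersion ι ∧ ι ≫ f = ι ≫ h ∧
      ∀ {W : Scheme.{u}} (w : W ⟶ X), w ≫ f = w ≫ h → ∃ l : W ⟶ E, l ≫ ι = w := by
  let X' : Over S' := Over.mk (f ≫ q)
  let Y' : Over S' := Over.mk q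
  let f' : X' ⟶ Y' := Over.homMk f rfl
  let h' : X' ⟶ Y' := Over.homMk h hq.symm
  haveI : IsSeparated Y'.hom := inferInstanceAs (IsSeparated q)
  refine ⟨(equalizer f' h').left, (equalizer.ι f' h').left, inferInstance, ?_, ?_⟩
  · have := congrArg (fun k => k.left) (equalizer.condition f' h')
    simp only [Over.comp_left] at this
    exact this
  · intro W w hw
    let W' : Over S' := Over.mk (w ≫ f ≫ q)
    let w' : W' ⟶ X' := Over.homMk w rfl
    have hw' : w' ≫ f' = w' ≫ h' := by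
      ext1
      exact hw
    refine ⟨(equalizer.lift w' hw').left, ?_⟩
    rw [← Over.comp_left, equalizer.lift_ι]
    rfl

/-- Krull-intersection neighbourhood lemma for a closed immersion. -/
theorem krull_nbhd {X S E : Scheme.{u}} [IsLocallyNoetherian X] (p : X ⟶ S) (t : S)
    (ι : E ⟶ X) [IsClosedImmersion ι]
    (h : ∀ n : ℕ, ∃ g : pullback p (Spec.map (CommRingCat.ofHom (Ideal.Quotient.mk
        (IsLocalRing.maximalIdeal ↑(S.presheaf.stalk t) ^ (n + 1)))) ≫ S.fromSpecStalk t) ⟶ E,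
        g ≫ ι = pullback.fst p _) :
    ∃ U : X.Opens, (∀ x : X, p.base x = t → x ∈ U) ∧
      ∃ g : (U : Scheme.{u}) ⟶ E, g ≫ ι = U.ι := by
  obtain ⟨U, hU, g, hg⟩ := KrullNbhd.main p t ι.ker (fun n => by
    obtain ⟨g, hg⟩ := h n
    refine ⟨g ≫ ι.toImage, ?_⟩
    rw [Category.assoc]
    change g ≫ ι.toImage ≫ ι.imageι = _
    rw [Scheme.Hom.toImage_imageι, hg])
  haveI : IsIso ι.toImage := inferInstance
  refine ⟨U, hU, g ≫ inv ι.toImage, ?_⟩
  rw [Category.assoc, ← hg]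
  congr 1
  rw [IsIso.inv_comp_eq]
  exact (Scheme.Hom.toImage_imageι ι).symm

/-- the `n`-th infinitesimal neighbourhood of `t` in `T` -/
noncomputable abbrev σ {T : Scheme.{u}} (t : T) (n : ℕ) :
    Spec (CommRingCat.of (T.presheaf.stalk t ⧸
      IsLocalRing.maximalIdeal (T.presheaf.stalk t) ^ (n + 1))) ⟶ T :=
  Spec.map (CommRingCat.ofHom (Ideal.Quotient.mk
    (IsLocalRing.maximalIdeal (T.presheaf.stalk t) ^ (n + 1)))) ≫ T.fromSpecStalk t

lemma σ_apply {T : Scheme.{u}} (t : T) (n : ℕ) (c) : (σ t n) c = t := by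
  rw [σ, Scheme.Hom.comp_apply]
  have h1 := AntiAffRigid.spec_quot_pow (T.presheaf.stalk t) (n + 1) c
  exact (congrArg (T.fromSpecStalk t) h1).trans Scheme.fromSpecStalk_closedPoint

theorem agree_nth {X T Y : Scheme.{u}} (p : X ⟶ T) (ε : T ⟶ X) (hε : ε ≫ p = 𝟙 T) (f : X ⟶ Y)
    (t : T) (n : ℕ)
    (hΓ : Function.Bijective (pullback.snd p (σ t n)).appTop.hom)
    (hc : ∀ x x' : X, p x = t → p x' = t → f x = f x') :
    pullback.fst p (σ t n) ≫ f = pullback.fst p (σ t n) ≫ p ≫ ε ≫ f := by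
  obtain ⟨_, ⟨V, hV, rfl⟩, hyV, -⟩ :=
    Y.isBasis_affineOpens.exists_subset_of_mem_open (Set.mem_univ (f (ε t))) isOpen_univ
  obtain ⟨V', hV'⟩ : ∃ V' : Y.Opens, V' = V := ⟨V, rfl⟩
  subst hV'
  have hpε : p (ε t) = t := by
    rw [← Scheme.Hom.comp_apply, hε]; rfl
  have hrange : Set.range (pullback.fst p (σ t n) ≫ f) ⊆ Set.range V'.ι := by
    rw [Scheme.Opens.range_ι]
    rintro _ ⟨z, rfl⟩
    rw [Scheme.Hom.comp_apply]
    have h1 : p (pullback.fst p (σ t n) z) = t := by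
      rw [← Scheme.Hom.comp_apply, pullback.condition, Scheme.Hom.comp_apply]
      exact σ_apply t n _
    rw [hc _ _ h1 hpε]
    exact hyV
  let f' := IsOpenImmersion.lift V'.ι (pullback.fst p (σ t n) ≫ f) hrange
  have hf' : f' ≫ V'.ι = pullback.fst p (σ t n) ≫ f := IsOpenImmersion.lift_fac _ _ _
  haveI : IsAffine V'.toScheme := hV
  obtain ⟨r, hr⟩ := Fib.factor_affine hΓ f'
  let εn : Spec (CommRingCat.of (T.presheaf.stalk t ⧸
      IsLocalRing.maximalIdeal (T.presheaf.stalk t) ^ (n + 1))) ⟶ pullback p (σ t n) :=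
    pullback.lift (σ t n ≫ ε) (𝟙 _) (by rw [Category.assoc, hε, Category.comp_id, Category.id_comp])
  have h1 : εn ≫ pullback.fst p (σ t n) = σ t n ≫ ε := pullback.lift_fst _ _ _
  have h2 : εn ≫ pullback.snd p (σ t n) = 𝟙 _ := pullback.lift_snd _ _ _
  have h3 : εn ≫ f' = r := by
    rw [← hr, ← Category.assoc, h2, Category.id_comp]
  calc pullback.fst p (σ t n) ≫ f = f' ≫ V'.ι := hf'.symm
    _ = (pullback.snd p (σ t n) ≫ εn ≫ f') ≫ V'.ι := by rw [h3, hr]
    _ = pullback.snd p (σ t n) ≫ εn ≫ pullback.fst p (σ t n) ≫ f := by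
        simp only [Category.assoc, hf']
    _ = pullback.snd p (σ t n) ≫ σ t n ≫ ε ≫ f := by
        rw [← Category.assoc εn, h1, Category.assoc]
    _ = pullback.fst p (σ t n) ≫ p ≫ ε ≫ f := by
        rw [← Category.assoc, ← pullback.condition, Category.assoc]

theorem local_agree {X T Y S' : Scheme.{u}} [IsLocallyNoetherian X] (p : X ⟶ T) (ε : T ⟶ X)
    (hε : ε ≫ p = 𝟙 T) (f : X ⟶ Y) (q : Y ⟶ S') [IsSeparated q]
    (hq : f ≫ q = p ≫ ε ≫ f ≫ q) (t : T)
    (hΓ : ∀ n : ℕ, Function.Bijective (pullback.snd p (σ t n)).appTop.hom)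
    (hc : ∀ x x' : X, p x = t → p x' = t → f x = f x') :
    ∃ U : X.Opens, (∀ x : X, p x = t → x ∈ U) ∧ U.ι ≫ f = U.ι ≫ p ≫ ε ≫ f := by
  obtain ⟨E, ι, hι, hcond, hlift⟩ := exists_equalizer f (p ≫ ε ≫ f) q (by simpa using hq)
  obtain ⟨U, hU, g, hg⟩ := krull_nbhd p t ι (fun n => by
    obtain ⟨l, hl⟩ := hlift (pullback.fst p (σ t n)) (by
      simpa using agree_nth p ε hε f t n (hΓ n) hc)
    exact ⟨l, hl⟩)
  refine ⟨U, hU, ?_⟩
  rw [← hg, Category.assoc, hcond]
  simp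

lemma pt_eq {X T Y W : Scheme.{u}} (p : X ⟶ T) (ε : T ⟶ X) (f : X ⟶ Y) (w : W ⟶ X)
    (hw : w ≫ f = w ≫ p ≫ ε ≫ f) (z : W) : f (w z) = f (ε (p (w z))) := by
  have := congrArg (fun k : W ⟶ Y => k z) hw
  simpa only [Scheme.Hom.comp_apply] using this

section RS

variable {X T Y S' : Scheme.{u}} [IsLocallyNoetherian X] [IsLocallyNoetherian T] (p : X ⟶ T)
  (ε : T ⟶ X) (hε : ε ≫ p = 𝟙 T) (f : X ⟶ Y) (q : Y ⟶ S') [IsSeparated q]
  (hq : f ≫ q = p ≫ ε ≫ f ≫ q)
  (hΓ : ∀ (t : T) (n : ℕ), Function.Bijective (pullback.snd p (σ t n)).appTop.hom)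

/-- the locus of points of the base whose fibre is contracted by `f` -/
def C (p : X ⟶ T) (f : X ⟶ Y) : Set T := {t | ∀ x x' : X, p x = t → p x' = t → f x = f x'}

include hε hq hΓ in
theorem isOpen_C (hcl : IsClosedMap p.base) : IsOpen (C p f) := by
  rw [isOpen_iff_forall_mem_open]
  intro t ht
  obtain ⟨U, hU, hUeq⟩ := local_agree p ε hε f q hq t (hΓ t) ht
  refine ⟨(p.base '' (U : Set X)ᶜ)ᶜ, ?_, (hcl _ U.isOpen.isClosed_compl).isOpen_compl, ?_⟩
  · intro t' ht' x x' hx hx'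
    have hxU : x ∈ U := by
      by_contra hn
      exact ht' ⟨x, hn, hx⟩
    have hx'U : x' ∈ U := by
      by_contra hn
      exact ht' ⟨x', hn, hx'⟩
    have e1 := pt_eq p ε f U.ι hUeq ⟨x, hxU⟩
    have e2 := pt_eq p ε f U.ι hUeq ⟨x', hx'U⟩
    change f x = f (ε (p x)) at e1
    change f x' = f (ε (p x')) at e2
    rw [e1, e2, hx, hx']
  · rintro ⟨x, hxU, hx⟩
    exact hxU (hU x hx)

include hε hq hΓ in
theorem isClosed_C [Flat p] (hcl : IsClosedMap p.base) : IsClosed (C p f) := by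
  have hopen := isOpen_C p ε hε f q hq hΓ hcl
  rw [← isOpen_compl_iff]
  apply AntiAffRigid.isOpen_of_isClosed_of_stableUnderGeneralization _ hopen.isClosed_compl
  intro t t' htt' ht hn
  apply ht
  -- `t' ⤳ t`, `t' ∈ C`; show `t ∈ C`
  obtain ⟨U, hU, hUeq⟩ := local_agree p ε hε f q hq t' (hΓ t') hn
  obtain ⟨E, ι, hι, hcond, hlift⟩ := exists_equalizer f (p ≫ ε ≫ f) q (by simpa using hq)
  obtain ⟨l, hl⟩ := hlift U.ι (by simpa using hUeq)
  have hZ : IsClosed (Set.range ι) := ι.isClosedEmbedding.isClosed_range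
  have key : ∀ x : X, p x = t → f x = f (ε t) := by
    intro x hx
    have hgen : GeneralizingMap p := Flat.generalizingMap p
    obtain ⟨x'', hx''x, hx''⟩ := hgen (a := x) (b := t') (by rw [hx]; exact htt')
    have hx''U : x'' ∈ U := hU x'' hx''
    have hx''Z : x'' ∈ Set.range ι := by
      refine ⟨l ⟨x'', hx''U⟩, ?_⟩
      rw [← Scheme.Hom.comp_apply, hl]
      rfl
    obtain ⟨e, rfl⟩ := hx''x.mem_closed hZ hx''Z
    have := pt_eq p ε f ι (by simpa using hcond) e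
    rw [this, hx]
  intro x x' hx hx'
  rw [key x hx, key x' hx']

include hε hq hΓ in
theorem eq_of_C_eq_univ (hC : C p f = Set.univ) : f = p ≫ ε ≫ f := by
  have hloc : ∀ t : T, ∃ U : X.Opens, (∀ x : X, p x = t → x ∈ U) ∧ U.ι ≫ f = U.ι ≫ p ≫ ε ≫ f :=
    fun t => local_agree p ε hε f q hq t (hΓ t)
      (show t ∈ C p f by rw [hC]; exact Set.mem_univ t)
  choose U hU hUeq using hloc
  have hcov : IsOpenCover U := by
    rw [IsOpenCover, eq_top_iff]
    intro x _
    exact Opens.mem_iSup.mpr ⟨p x, hU (p x) x rfl⟩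
  refine Scheme.Cover.hom_ext (X.openCoverOfIsOpenCover _ hcov) _ _ fun t => ?_
  exact hUeq t

include hε hq hΓ in
theorem rigid_section [Flat p] [PreconnectedSpace T] (hcl : IsClosedMap p.base) (t₀ : T)
    (h₀ : ∀ x x' : X, p x = t₀ → p x' = t₀ → f x = f x') : f = p ≫ ε ≫ f := by
  apply eq_of_C_eq_univ p ε hε f q hq hΓ
  have hclopen : IsClopen (C p f) :=
    ⟨isClosed_C p ε hε f q hq hΓ hcl, isOpen_C p ε hε f q hq hΓ hcl⟩
  exact hclopen.eq_univ ⟨t₀, h₀⟩

end RS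

end Groth.Agent.Helper3.Rig1
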