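import Mathlib
import Groth.Prelude
import Groth.Agent.Helper3.GlueUnits
import Groth.Agent.Helper4.SN413
import Groth.Agent.Helper4.AmpleEventual

set_option autoImplicit false
set_option linter.style.haveILetI false
set_option linter.unusedSectionVars false
set_option linter.unusedVariables false
set_option linter.deprecated false
set_option linter.style.haveILetI false
set_option linter.unusedSectionVars false
set_option linter.unusedVariables false

universe u

open CategoryTheory CategoryTheory.Limits AlgebraicGeometry TopologicalSpace Opposite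

namespace Groth.Agent.Helper3.GenLocA

open Scheme.Modules Groth.Agent.Helper4.TwistExt Groth.Agent.Helper4.GenLoc

variable {X : Scheme.{u}}

theorem isFrame_one (T : X.Opens) : IsFrame (Coh.structureModule X) T (one X T) := by
  intro V h
  have h1 : (Coh.structureModule X).presheaf.map (homOfLE h).op (one X T) = one X V :=
    map_one (X.presheaf.map (homOfLE h).op).hom
  rw [h1]
  constructor
  · intro m
    exact ⟨toFn m, (mul_one (toFn m)).symm⟩
  · intro r hr
    have := smul_one V r
    rw [hr] at this
    exact this.symm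

/-- **Gluing two trivial modules along a unit, with the two tautological sections.** -/
theorem exists_two (U V : X.Opens) (hcov : ∀ x : X, x ∉ U → x ∈ V) (a : Γ(X, U)) (c : Γ(X, V))
    (hac : X.presheaf.map (homOfLE (inf_le_right : V ⊓ U ≤ U)).op a *
      X.presheaf.map (homOfLE (inf_le_left : V ⊓ U ≤ V)).op c = 1) :
    ∃ (L : X.Modules) (σ τ : Coh.structureModule X ⟶ L), PicF.IsInvertible L ∧
      U ≤ CohB1.genLocus L σ ∧ CohB1.genLocus L σ ⊓ V = X.basicOpen c ∧
      V ≤ CohB1.genLocus L τ := by
  classical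
  -- restrictions to the overlap
  set a' : Γ(X, V ⊓ U) := X.presheaf.map (homOfLE (inf_le_right : V ⊓ U ≤ U)).op a with ha'
  set c' : Γ(X, V ⊓ U) := X.presheaf.map (homOfLE (inf_le_left : V ⊓ U ≤ V)).op c with hc'
  have hunit : IsUnit a' := IsUnit.of_mul_eq_one c' hac
  obtain ⟨L, s₀, s, hinv, hF₀, hF, hrel⟩ :=
    Groth.Agent.Helper3.GlueUnits.exists_of_units U (Z := PUnit.{u+1}) (fun _ => V)
      (fun z z' h => absurd (Subsingleton.elim z z') h) (fun x hx => ⟨PUnit.unit, hcov x hx⟩)
      (fun _ => a') (fun _ => hunit)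
  have hrel' := hrel PUnit.unit
  have hFV := hF PUnit.unit
  set sV : Γ(L, V) := s PUnit.unit with hsV
  -- the section σ : s₀ on U, c • s on V
  obtain ⟨σ, hσ₀, hσV⟩ := Groth.Agent.Helper3.FrameHom.exists_hom (Coh.structureModule X) L U
    (Z := PUnit.{u+1}) (fun _ => V)
    (fun z z' h => absurd (Subsingleton.elim z z') h) (fun x hx => ⟨PUnit.unit, hcov x hx⟩)
    (one X U) (isFrame_one U) (fun _ => one X V) (fun _ => isFrame_one V)
    s₀ (fun _ => c • sV) (fun _ => 1)
    (by
      intro z
      rw [one_smul]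
      exact (map_one (X.presheaf.map (homOfLE (inf_le_left : V ⊓ U ≤ V)).op).hom).trans
        (map_one (X.presheaf.map (homOfLE (inf_le_right : V ⊓ U ≤ U)).op).hom).symm)
    (by
      intro z
      rw [one_smul, Scheme.Modules.map_smul, hrel', smul_smul]
      have : c' * a' = 1 := by rw [mul_comm]; exact hac
      rw [this, one_smul])
  have hσV' := hσV PUnit.unit
  -- the section τ : a • s₀ on U, s on V
  obtain ⟨τ, hτ₀, hτV⟩ := Groth.Agent.Helper3.FrameHom.exists_hom (Coh.structureModule X) L U
    (Z := PUnit.{u+1}) (fun _ => V)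
    (fun z z' h => absurd (Subsingleton.elim z z') h) (fun x hx => ⟨PUnit.unit, hcov x hx⟩)
    (one X U) (isFrame_one U) (fun _ => one X V) (fun _ => isFrame_one V)
    (a • s₀) (fun _ => sV) (fun _ => 1)
    (by
      intro z
      rw [one_smul]
      exact (map_one (X.presheaf.map (homOfLE (inf_le_left : V ⊓ U ≤ V)).op).hom).trans
        (map_one (X.presheaf.map (homOfLE (inf_le_right : V ⊓ U ≤ U)).op).hom).symm)
    (by
      intro z
      rw [one_smul, Scheme.Modules.map_smul, hrel'])
  have hτV' := hτV PUnit.unit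
  refine ⟨L, σ, τ, hinv, ?_, ?_, ?_⟩
  · have h1 := Groth.Agent.Helper4.SN413.genLocus_inf_eq_basicOpen_of_isFrame σ hF₀ (1 : Γ(X, U))
      (by rw [one_smul]; exact hσ₀)
    have h2 : X.basicOpen (1 : Γ(X, U)) = U := X.basicOpen_of_isUnit isUnit_one
    rw [h2] at h1
    exact inf_eq_right.mp h1
  · exact Groth.Agent.Helper4.SN413.genLocus_inf_eq_basicOpen_of_isFrame σ hFV c hσV'
  · have h1 := Groth.Agent.Helper4.SN413.genLocus_inf_eq_basicOpen_of_isFrame τ hFV (1 : Γ(X, V))
      (by rw [one_smul]; exact hτV')
    have h2 : X.basicOpen (1 : Γ(X, V)) = V := X.basicOpen_of_isUnit isUnit_one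
    rw [h2] at h1
    exact inf_eq_right.mp h1

end Groth.Agent.Helper3.GenLocA
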