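import Mathlib
import Groth.Prelude
import Groth.Agent.Helper3.GenLocA

set_option autoImplicit false
set_option linter.style.haveILetI false
set_option linter.unusedSectionVars false
set_option linter.unusedVariables false
set_option linter.deprecated false
set_option linter.style.haveILetI false
set_option linter.unusedSectionVars false
set_option linter.unusedVariables false

universe u

open CategoryTheory CategoryTheory.Limits AlgebraicGeometry TopologicalSpace Opposite

namespace Groth.Agent.Helper3.GenLocD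

open Scheme.Modules Groth.Agent.Helper4.TwistExt Groth.Agent.Helper4.GenLoc
  Groth.Agent.Helper3.GenLocA

variable {X : Scheme.{u}}

/-- **Gluing trivial modules along a unit, family version.** -/
theorem exists_family (U : X.Opens) {Z : Type u} (V : Z → X.Opens)
    (hV : ∀ z z' : Z, z ≠ z' → V z ⊓ V z' ≤ U) (hcov : ∀ x : X, x ∉ U → ∃ z, x ∈ V z)
    (a : Γ(X, U)) (c : ∀ z, Γ(X, V z))
    (hac : ∀ z, X.presheaf.map (homOfLE (inf_le_right : V z ⊓ U ≤ U)).op a *
      X.presheaf.map (homOfLE (inf_le_left : V z ⊓ U ≤ V z)).op (c z) = 1) :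
    ∃ (L : X.Modules) (σ τ : Coh.structureModule X ⟶ L), PicF.IsInvertible L ∧
      U ≤ CohB1.genLocus L σ ∧ (∀ z, CohB1.genLocus L σ ⊓ V z = X.basicOpen (c z)) ∧
      ∀ z, V z ≤ CohB1.genLocus L τ := by
  classical
  let a' : ∀ z, Γ(X, V z ⊓ U) := fun z => X.presheaf.map (homOfLE (inf_le_right : V z ⊓ U ≤ U)).op a
  let c' : ∀ z, Γ(X, V z ⊓ U) := fun z =>
    X.presheaf.map (homOfLE (inf_le_left : V z ⊓ U ≤ V z)).op (c z)
  have hunit : ∀ z, IsUnit (a' z) := fun z => IsUnit.of_mul_eq_one (c' z) (hac z)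
  obtain ⟨L, s₀, s, hinv, hF₀, hF, hrel⟩ :=
    Groth.Agent.Helper3.GlueUnits.exists_of_units U V hV hcov a' hunit
  -- the section σ : s₀ on U, c • s on V
  obtain ⟨σ, hσ₀, hσV⟩ := Groth.Agent.Helper3.FrameHom.exists_hom (Coh.structureModule X) L U
    V hV hcov
    (one X U) (isFrame_one U) (fun z => one X (V z)) (fun z => isFrame_one (V z))
    s₀ (fun z => c z • s z) (fun _ => 1)
    (by
      intro z
      rw [one_smul]
      exact (map_one (X.presheaf.map (homOfLE (inf_le_left : V z ⊓ U ≤ V z)).op).hom).trans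
        (map_one (X.presheaf.map (homOfLE (inf_le_right : V z ⊓ U ≤ U)).op).hom).symm)
    (by
      intro z
      rw [one_smul, Scheme.Modules.map_smul, hrel z, smul_smul]
      have : c' z * a' z = 1 := by rw [mul_comm]; exact hac z
      rw [this, one_smul])
  -- the section τ : a • s₀ on U, s on V
  obtain ⟨τ, hτ₀, hτV⟩ := Groth.Agent.Helper3.FrameHom.exists_hom (Coh.structureModule X) L U
    V hV hcov
    (one X U) (isFrame_one U) (fun z => one X (V z)) (fun z => isFrame_one (V z))
    (a • s₀) (fun z => s z) (fun _ => 1)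
    (by
      intro z
      rw [one_smul]
      exact (map_one (X.presheaf.map (homOfLE (inf_le_left : V z ⊓ U ≤ V z)).op).hom).trans
        (map_one (X.presheaf.map (homOfLE (inf_le_right : V z ⊓ U ≤ U)).op).hom).symm)
    (by
      intro z
      rw [one_smul, Scheme.Modules.map_smul, hrel z])
  refine ⟨L, σ, τ, hinv, ?_, ?_, ?_⟩
  · have h1 := Groth.Agent.Helper4.SN413.genLocus_inf_eq_basicOpen_of_isFrame σ hF₀ (1 : Γ(X, U))
      (by rw [one_smul]; exact hσ₀)
    have h2 : X.basicOpen (1 : Γ(X, U)) = U := X.basicOpen_of_isUnit isUnit_one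
    rw [h2] at h1
    exact inf_eq_right.mp h1
  · intro z
    exact Groth.Agent.Helper4.SN413.genLocus_inf_eq_basicOpen_of_isFrame σ (hF z) (c z) (hσV z)
  · intro z
    have h1 := Groth.Agent.Helper4.SN413.genLocus_inf_eq_basicOpen_of_isFrame τ (hF z)
      (1 : Γ(X, V z)) (by rw [one_smul]; exact hτV z)
    have h2 : X.basicOpen (1 : Γ(X, V z)) = V z := X.basicOpen_of_isUnit isUnit_one
    rw [h2] at h1
    exact inf_eq_right.mp h1

/-- the resulting pair `(L, s)`: `L` globally generated, `X_s = U`. -/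
theorem exists_pair (U : X.Opens) {Z : Type u} (V : Z → X.Opens)
    (hV : ∀ z z' : Z, z ≠ z' → V z ⊓ V z' ≤ U) (hcov : ∀ x : X, x ∉ U → ∃ z, x ∈ V z)
    (a : Γ(X, U)) (c : ∀ z, Γ(X, V z))
    (hac : ∀ z, X.presheaf.map (homOfLE (inf_le_right : V z ⊓ U ≤ U)).op a *
      X.presheaf.map (homOfLE (inf_le_left : V z ⊓ U ≤ V z)).op (c z) = 1)
    (hc : ∀ z, X.basicOpen (c z) ≤ U) :
    ∃ (L : X.Modules) (s : Coh.structureModule X ⟶ L), PicF.IsInvertible L ∧
      Curv2.IsGloballyGenerated L ∧ CohB1.genLocus L s = U := by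
  obtain ⟨L, σ, τ, hinv, h1, h2, h3⟩ := exists_family U V hV hcov a c hac
  refine ⟨L, σ, hinv, ?_, ?_⟩
  · apply Groth.Agent.Helper4.AmpleEventual.isGloballyGenerated_of_genLocus_cover L
      (ι := ULift.{u} Bool) (fun i => if i.down then σ else τ)
    intro x
    by_cases hx : x ∈ U
    · exact ⟨⟨true⟩, by simpa using h1 hx⟩
    · obtain ⟨z, hz⟩ := hcov x hx
      exact ⟨⟨false⟩, by simpa using h3 z hz⟩
  · apply le_antisymm
    · intro x hx
      by_contra hxU
      obtain ⟨z, hz⟩ := hcov x hxU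
      have : x ∈ CohB1.genLocus L σ ⊓ V z := ⟨hx, hz⟩
      rw [h2 z] at this
      exact hxU (hc z this)
    · exact h1

end Groth.Agent.Helper3.GenLocD
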