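import Mathlib
import Groth.Prelude
import Groth.Agent.Helper5.KA4

set_option autoImplicit false
set_option linter.style.haveILetI false
set_option linter.unusedSectionVars false
set_option linter.unusedVariables false
set_option linter.deprecated false
set_option linter.style.haveILetI false
set_option linter.unusedSectionVars false
set_option linter.unusedVariables false

universe u

namespace Groth.Agent.Helper3.AffDim1

open IsDedekindDomain

section N
variable {A : Type u} [CommRing A] [IsDomain A] [IsLocalRing A] [Ring.KrullDimLE 1 A]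

theorem mem_radical_span_of_ne_zero (s : A) (hs : s ∈ IsLocalRing.maximalIdeal A) (q : A)
    (hq : q ≠ 0) : s ∈ (Ideal.span {q}).radical := by
  rw [Ideal.radical_eq_sInf, Ideal.mem_sInf]
  rintro P ⟨hqP, hP⟩
  have hPne : P ≠ ⊥ := by
    rintro rfl
    exact hq (by simpa using hqP (Ideal.mem_span_singleton_self q))
  have hPmax : P.IsMaximal := hP.isMaximal_of_ne_bot hPne
  rw [IsLocalRing.eq_maximalIdeal hPmax]; exact hs

variable {K : Type u} [Field K] [Algebra A K] [IsFractionRing A K]

/-- (N): in a local domain of dimension `≤ 1`, a power of any element of the maximal ideal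
clears any denominator. -/
theorem exists_pow_mul_mem (s : A) (hs : s ∈ IsLocalRing.maximalIdeal A) (z : K) :
    ∃ n : ℕ, ∃ a : A, algebraMap A K a = algebraMap A K s ^ n * z := by
  obtain ⟨p, q, hq, rfl⟩ := IsFractionRing.div_surjective (A := A) z
  have hq0 : q ≠ 0 := nonZeroDivisors.ne_zero hq
  obtain ⟨n, hn⟩ := mem_radical_span_of_ne_zero s hs q hq0
  obtain ⟨c, hc⟩ := Ideal.mem_span_singleton'.1 hn
  refine ⟨n, c * p, ?_⟩
  have hqK : algebraMap A K q ≠ 0 := by
    simpa using (IsFractionRing.injective A K).ne hq0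
  rw [← map_pow, ← hc, map_mul, map_mul]
  field_simp

end N

section approx
variable {K : Type u} [Field K] {Γ : Type*} [LinearOrderedCommGroupWithZero Γ] [MulArchimedean Γ]

theorem exists_forall_one_lt {κ : Type*} (w : κ → Valuation K Γ) (A : Subring K) (S : Finset κ)
    (h : ∀ k ∈ S, ∃ y ∈ A, 1 < w k y) : ∃ x ∈ A, x ≠ 0 ∧ ∀ k ∈ S, 1 < w k x := by
  classical
  induction S using Finset.induction_on with
  | empty => exact ⟨1, A.one_mem, one_ne_zero, by simp⟩
  | insert n S hn ih =>
    obtain ⟨x, hxA, hx0, hx⟩ := ih (fun k hk => h k (Finset.mem_insert_of_mem hk))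
    obtain ⟨y, hyA, hy⟩ := h n (Finset.mem_insert_self n S)
    by_cases hxn : 1 < w n x
    · refine ⟨x, hxA, hx0, ?_⟩
      intro k hk
      rcases Finset.mem_insert.1 hk with rfl | hk
      · exact hxn
      · exact hx k hk
    · rw [not_lt] at hxn
      have harch : ∀ k : κ, ∃ m : ℕ, k ∈ S → w k y ≤ w k x ^ m := by
        intro k
        by_cases hk : k ∈ S
        · obtain ⟨m, hm⟩ := MulArchimedean.arch (w k y) (hx k hk)
          exact ⟨m, fun _ => hm⟩
        · exact ⟨0, fun h => absurd h hk⟩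
      choose m hm using harch
      let N : ℕ := S.sup m + 1
      have hlt : ∀ k ∈ S, w k y < w k (x ^ N) := by
        intro k hk
        rw [map_pow]
        refine lt_of_le_of_lt (hm k hk) ?_
        exact pow_lt_pow_right₀ (hx k hk) (Nat.lt_succ_of_le (Finset.le_sup hk))
      have hyn : w n (x ^ N) < w n y := by
        rw [map_pow]
        exact lt_of_le_of_lt (pow_le_one₀ zero_le' hxn) hy
      have hval_n : w n (x ^ N + y) = w n y := (w n).map_add_eq_of_lt_right hyn
      refine ⟨x ^ N + y, A.add_mem (A.pow_mem hxA N) hyA, ?_, ?_⟩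
      · intro h0
        rw [h0, map_zero] at hval_n
        rw [← hval_n] at hy
        exact not_lt_of_ge zero_le' hy
      · intro k hk
        rcases Finset.mem_insert.1 hk with rfl | hk
        · rw [hval_n]; exact hy
        · rw [(w k).map_add_eq_of_lt_left (hlt k hk), map_pow]
          exact one_lt_pow₀ (hx k hk) (Nat.succ_ne_zero _)

end approx


section ded
variable (B : Type u) [CommRing B] [IsDomain B] [IsLocalRing B] [IsNoetherianRing B]
  [Ring.KrullDimLE 1 B] (K : Type u) [Field K] [Algebra B K] [IsFractionRing B K]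

instance isDedekindDomain_ic : IsDedekindDomain (integralClosure B K) :=
  Groth.Agent.Helper5.KA.isDedekindDomain_integralClosure B K B (IsFractionRing.injective B K)

instance isFractionRing_ic : IsFractionRing (integralClosure B K) K :=
  Groth.Agent.Helper5.KA.isFractionRing_of_between B K (integralClosure B K)
    Subtype.val_injective

theorem comap_asIdeal (v : HeightOneSpectrum (integralClosure B K)) :
    v.asIdeal.comap (algebraMap B (integralClosure B K)) = IsLocalRing.maximalIdeal B := by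
  haveI := v.isMaximal
  exact IsLocalRing.eq_maximalIdeal
    (Ideal.isMaximal_comap_of_isIntegral_of_isMaximal (R := B) v.asIdeal)

theorem valuation_le_one (v : HeightOneSpectrum (integralClosure B K)) (b : B) :
    v.valuation K (algebraMap B K b) ≤ 1 := by
  rw [IsScalarTower.algebraMap_apply B (integralClosure B K) K]
  exact v.valuation_le_one _

theorem valuation_lt_one (v : HeightOneSpectrum (integralClosure B K)) (b : B)
    (hb : b ∈ IsLocalRing.maximalIdeal B) : v.valuation K (algebraMap B K b) < 1 := by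
  rw [IsScalarTower.algebraMap_apply B (integralClosure B K) K, v.valuation_lt_one_iff_mem]
  rw [← comap_asIdeal B K v] at hb
  exact hb

theorem exists_mem_maximalIdeal_ne_zero (hnf : ¬ IsField B) :
    ∃ π ∈ IsLocalRing.maximalIdeal B, π ≠ 0 := by
  have : IsLocalRing.maximalIdeal B ≠ ⊥ := fun h =>
    hnf (IsLocalRing.isField_iff_maximalIdeal_eq.2 h)
  exact Submodule.exists_mem_ne_zero_of_ne_bot this

theorem finite_heightOneSpectrum (hnf : ¬ IsField B) :
    Finite (HeightOneSpectrum (integralClosure B K)) := by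
  obtain ⟨π, hπ, hπ0⟩ := exists_mem_maximalIdeal_ne_zero B hnf
  let π' : integralClosure B K := algebraMap B (integralClosure B K) π
  have hπ'0 : π' ≠ 0 := by
    intro h
    apply hπ0
    have h2 := congrArg (algebraMap (integralClosure B K) K) h
    rw [← IsScalarTower.algebraMap_apply, map_zero] at h2
    exact (IsFractionRing.injective B K) (by rw [h2, map_zero])
  have hI : Ideal.span {π'} ≠ 0 := by
    rw [Ne, Ideal.zero_eq_bot, Ideal.span_singleton_eq_bot]; exact hπ'0
  have hfin := Ideal.finite_factors hI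
  have huniv : {v : HeightOneSpectrum (integralClosure B K) | v.asIdeal ∣ Ideal.span {π'}} =
      Set.univ := by
    ext v
    simp only [Set.mem_setOf_eq, Set.mem_univ, iff_true]
    rw [Ideal.dvd_iff_le, Ideal.span_singleton_le_iff_mem]
    have : π ∈ v.asIdeal.comap (algebraMap B (integralClosure B K)) := by
      rw [comap_asIdeal B K v]; exact hπ
    exact this
  rw [huniv] at hfin
  exact Set.finite_univ_iff.1 hfin

end ded


section cond

theorem exists_conductor {B K : Type u} [CommRing B] [IsDomain B] [Field K] [Algebra B K]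
    [IsFractionRing B K] (β : K) (hβ : IsIntegral B β) :
    ∃ c : B, c ≠ 0 ∧ ∀ k : ℕ, ∃ b : B, algebraMap B K b = algebraMap B K c * β ^ k := by
  classical
  obtain ⟨G, hG⟩ := hβ.fg_adjoin_singleton
  obtain ⟨c, hc⟩ := IsLocalization.exist_integer_multiples_of_finset (nonZeroDivisors B) G
  refine ⟨c, nonZeroDivisors.ne_zero c.2, ?_⟩
  have key : ∀ y ∈ Submodule.span B (G : Set K),
      ∃ b : B, algebraMap B K b = algebraMap B K c * y := by
    intro y hy
    induction hy using Submodule.span_induction with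
    | mem y hy =>
      obtain ⟨b, hb⟩ := hc y hy
      exact ⟨b, by rw [hb, Algebra.smul_def]⟩
    | zero => exact ⟨0, by simp⟩
    | add y₁ y₂ _ _ h₁ h₂ =>
      obtain ⟨b₁, h₁⟩ := h₁
      obtain ⟨b₂, h₂⟩ := h₂
      exact ⟨b₁ + b₂, by rw [map_add, h₁, h₂, mul_add]⟩
    | smul r y _ h =>
      obtain ⟨b, h⟩ := h
      exact ⟨r * b, by rw [map_mul, h, Algebra.smul_def]; ring⟩
  intro k
  apply key
  rw [hG]
  exact (Algebra.adjoin B {β}).pow_mem (Algebra.subset_adjoin rfl) k

end cond

section ded2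
variable (B : Type u) [CommRing B] [IsDomain B] [IsLocalRing B] [IsNoetherianRing B]
  [Ring.KrullDimLE 1 B] (K : Type u) [Field K] [Algebra B K] [IsFractionRing B K]

theorem exists_pow_mem_maximalIdeal (hnf : ¬ IsField B) (z : K) (hz0 : z ≠ 0)
    (hz : ∀ v : HeightOneSpectrum (integralClosure B K), v.valuation K z < 1) :
    ∃ n : ℕ, n ≠ 0 ∧ ∃ b ∈ IsLocalRing.maximalIdeal B, algebraMap B K b = z ^ n := by
  classical
  haveI := finite_heightOneSpectrum B K hnf
  haveI := Fintype.ofFinite (HeightOneSpectrum (integralClosure B K))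
  obtain ⟨π, hπ, hπ0⟩ := exists_mem_maximalIdeal_ne_zero B hnf
  have hπK : algebraMap B K π ≠ 0 := by
    simpa using (IsFractionRing.injective B K).ne hπ0
  have harch : ∀ v : HeightOneSpectrum (integralClosure B K),
      ∃ m : ℕ, v.valuation K z ^ m ≤ v.valuation K (algebraMap B K π) := by
    intro v
    have hz1 : 0 < v.valuation K z := zero_lt_iff.2 ((Valuation.ne_zero_iff _).2 hz0)
    have hπ1 : 0 < v.valuation K (algebraMap B K π) :=
      zero_lt_iff.2 ((Valuation.ne_zero_iff _).2 hπK)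
    have h1 : 1 < (v.valuation K z)⁻¹ := (one_lt_inv₀ hz1).2 (hz v)
    obtain ⟨m, hm⟩ := MulArchimedean.arch (v.valuation K (algebraMap B K π))⁻¹ h1
    refine ⟨m, ?_⟩
    rw [inv_pow] at hm
    exact (inv_le_inv₀ hπ1 (pow_pos hz1 m)).1 hm
  choose m hm using harch
  let M : ℕ := Finset.univ.sup m + 1
  have hM : ∀ v : HeightOneSpectrum (integralClosure B K),
      v.valuation K (z ^ M / algebraMap B K π) ≤ 1 := by
    intro v
    have hπ1 : 0 < v.valuation K (algebraMap B K π) :=
      zero_lt_iff.2 ((Valuation.ne_zero_iff _).2 hπK)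
    rw [map_div₀, map_pow, div_le_one₀ hπ1]
    refine le_trans ?_ (hm v)
    exact pow_le_pow_of_le_one zero_le' (hz v).le
      (Nat.le_succ_of_le (Finset.le_sup (Finset.mem_univ v)))
  obtain ⟨β', hβ'⟩ := HeightOneSpectrum.mem_integers_of_valuation_le_one K _ hM
  have hβint : IsIntegral B (z ^ M / algebraMap B K π) := by
    rw [← hβ']; exact β'.2
  obtain ⟨c, hc0, hc⟩ := exists_conductor _ hβint
  have hcK : algebraMap B K c ≠ 0 := by
    simpa using (IsFractionRing.injective B K).ne hc0
  obtain ⟨N, e, he⟩ := exists_pow_mul_mem π hπ ((algebraMap B K c)⁻¹)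
  obtain ⟨b, hb⟩ := hc (N + 1)
  refine ⟨M * (N + 1), Nat.mul_ne_zero (Nat.succ_ne_zero _) (Nat.succ_ne_zero _), π * e * b,
    Ideal.mul_mem_right _ _ (Ideal.mul_mem_right _ _ hπ), ?_⟩
  rw [map_mul, map_mul, he, hb, pow_mul, div_pow]
  field_simp
  ring

end ded2


section M
variable {K : Type u} [Field K] {ι : Type u} [Finite ι] (B : ι → Type u)
  [∀ j, CommRing (B j)] [∀ j, IsDomain (B j)] [∀ j, IsLocalRing (B j)]
  [∀ j, IsNoetherianRing (B j)] [∀ j, Ring.KrullDimLE 1 (B j)] [∀ j, Algebra (B j) K]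
  [∀ j, IsFractionRing (B j) K]

/-- (M): an element of `A` whose inverse lies in every `𝔪_{B_j}`. -/
theorem exists_inv_mem_maximalIdeal (hnf : ∀ j, ¬ IsField (B j)) (A : Subring K)
    (hA : ∀ j, A ⊔ (algebraMap (B j) K).range = ⊤) :
    ∃ x ∈ A, x ≠ 0 ∧
      ∀ j, ∃ b ∈ IsLocalRing.maximalIdeal (B j), algebraMap (B j) K b = x⁻¹ := by
  classical
  haveI : ∀ j, Finite (HeightOneSpectrum (integralClosure (B j) K)) :=
    fun j => finite_heightOneSpectrum (B j) K (hnf j)
  let κ := Σ j, HeightOneSpectrum (integralClosure (B j) K)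
  haveI : Finite κ := inferInstance
  haveI := Fintype.ofFinite κ
  let w : κ → Valuation K (WithZero (Multiplicative ℤ)) := fun k => k.2.valuation K
  have hw : ∀ k ∈ (Finset.univ : Finset κ), ∃ y ∈ A, 1 < w k y := by
    rintro ⟨j, v⟩ -
    by_contra hcon
    push_neg at hcon
    let O : Subring K := (v.valuation K).integer
    have h1 : A ≤ O := fun y hy => hcon y hy
    have h2 : (algebraMap (B j) K).range ≤ O := by
      rintro _ ⟨b, rfl⟩
      exact valuation_le_one (B j) K v b
    have h3 : (⊤ : Subring K) ≤ O := by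
      rw [← hA j]; exact sup_le h1 h2
    obtain ⟨π, hπ, hπ0⟩ := exists_mem_maximalIdeal_ne_zero (B j) (hnf j)
    have hπK : algebraMap (B j) K π ≠ 0 := by
      simpa using (IsFractionRing.injective (B j) K).ne hπ0
    have hlt := valuation_lt_one (B j) K v π hπ
    have hmem : (algebraMap (B j) K π)⁻¹ ∈ O := h3 trivial
    have hle : v.valuation K (algebraMap (B j) K π)⁻¹ ≤ 1 := hmem
    rw [map_inv₀] at hle
    have hpos : 0 < v.valuation K (algebraMap (B j) K π) :=
      zero_lt_iff.2 ((Valuation.ne_zero_iff _).2 hπK)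
    have := (inv_le_one₀ hpos).1 hle
    exact absurd hlt (not_lt_of_ge this)
  obtain ⟨x, hxA, hx0, hx⟩ := exists_forall_one_lt w A Finset.univ hw
  have hz : ∀ j (v : HeightOneSpectrum (integralClosure (B j) K)),
      v.valuation K x⁻¹ < 1 := by
    intro j v
    have h1 : 1 < v.valuation K x := hx ⟨j, v⟩ (Finset.mem_univ _)
    rw [map_inv₀]
    exact inv_lt_one_of_one_lt₀ h1
  have hn : ∀ j, ∃ n : ℕ, n ≠ 0 ∧ ∃ b ∈ IsLocalRing.maximalIdeal (B j),
      algebraMap (B j) K b = x⁻¹ ^ n :=
    fun j => exists_pow_mem_maximalIdeal (B j) K (hnf j) x⁻¹ (inv_ne_zero hx0) (hz j)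
  choose n hn0 b hb hbn using hn
  haveI := Fintype.ofFinite ι
  let N : ℕ := ∏ j, n j
  refine ⟨x ^ N, A.pow_mem hxA N, pow_ne_zero _ hx0, fun j => ?_⟩
  obtain ⟨N', hN'⟩ : n j ∣ N := Finset.dvd_prod_of_mem n (Finset.mem_univ j)
  have hN0 : N ≠ 0 := Finset.prod_ne_zero_iff.2 (fun j _ => hn0 j)
  have hN'0 : N' ≠ 0 := by
    rintro rfl
    exact hN0 (by rw [hN', mul_zero])
  refine ⟨b j ^ N', Ideal.pow_mem_of_mem _ (hb j) N' (Nat.pos_of_ne_zero hN'0), ?_⟩
  rw [map_pow, hbn j, ← pow_mul, ← hN', inv_pow]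

end M


section K
variable {K : Type u} [Field K] {ι : Type u} [Finite ι] (A : ι → Type u)
  [∀ j, CommRing (A j)] [∀ j, IsDomain (A j)] [∀ j, IsLocalRing (A j)]
  [∀ j, IsNoetherianRing (A j)] [∀ j, Ring.KrullDimLE 1 (A j)] [∀ j, Algebra (A j) K]
  [∀ j, IsFractionRing (A j) K]

theorem isUnit_one_add {R : Type u} [CommRing R] [IsLocalRing R] (τ : R)
    (hτ : τ ∈ IsLocalRing.maximalIdeal R) : IsUnit (1 + τ) := by
  refine IsLocalRing.notMem_maximalIdeal.1 (fun h => ?_)
  have h1 : (1 : R) ∈ IsLocalRing.maximalIdeal R := by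
    have := Ideal.sub_mem _ h hτ
    simpa using this
  exact (Ideal.ne_top_iff_one _).1 (IsLocalRing.maximalIdeal.isMaximal R).ne_top h1

/-- (K): an element of `K` which is a unit of `A i` and lies in `𝔪_{A j}` for `j ≠ i`. -/
theorem exists_sep (hnf : ∀ j, ¬ IsField (A j))
    (hsep : ∀ i j, i ≠ j → (algebraMap (A i) K).range ⊔ (algebraMap (A j) K).range = ⊤)
    (i : ι) :
    ∃ t : K, (∃ u : A i, IsUnit u ∧ algebraMap (A i) K u = t) ∧
      ∀ j, j ≠ i → ∃ b ∈ IsLocalRing.maximalIdeal (A j), algebraMap (A j) K b = t := by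
  classical
  obtain ⟨x, hxA, hx0, hx⟩ := exists_inv_mem_maximalIdeal (ι := {j // j ≠ i})
    (fun j => A j.1) (fun j => hnf j.1) (algebraMap (A i) K).range
    (fun j => hsep i j.1 (Ne.symm j.2))
  obtain ⟨x', rfl⟩ := hxA
  obtain ⟨d, hd, hd0⟩ := exists_mem_maximalIdeal_ne_zero (A i) (hnf i)
  have hdK : algebraMap (A i) K d ≠ 0 := by
    simpa using (IsFractionRing.injective (A i) K).ne hd0
  have hnj : ∀ j : {j // j ≠ i}, ∃ n : ℕ, ∃ a : A j.1, algebraMap (A j.1) K a =
      (algebraMap (A i) K x')⁻¹ ^ n * (algebraMap (A i) K d)⁻¹ := by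
    intro j
    obtain ⟨b, hb, hbx⟩ := hx j
    obtain ⟨n, a, ha⟩ := exists_pow_mul_mem b hb ((algebraMap (A i) K d)⁻¹)
    exact ⟨n, a, by rw [ha, hbx]⟩
  choose n a ha using hnj
  haveI := Fintype.ofFinite {j // j ≠ i}
  let N : ℕ := Finset.univ.sup n + 1
  let τ : A i := x' ^ N * d
  have hτ : τ ∈ IsLocalRing.maximalIdeal (A i) := Ideal.mul_mem_left _ _ hd
  have hunit : IsUnit (1 + τ) := isUnit_one_add τ hτ
  have hτK : algebraMap (A i) K (1 + τ) ≠ 0 := by
    have := (IsFractionRing.injective (A i) K).ne hunit.ne_zero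
    simpa using this
  refine ⟨(algebraMap (A i) K (1 + τ))⁻¹, ⟨↑(hunit.unit⁻¹), Units.isUnit _, ?_⟩, ?_⟩
  · rw [map_units_inv]; rfl
  intro j hj
  obtain ⟨b, hb, hbx⟩ := hx ⟨j, hj⟩
  have hnN : n ⟨j, hj⟩ < N := Nat.lt_succ_of_le (Finset.le_sup (Finset.mem_univ _))
  let e : A j := b ^ (N - n ⟨j, hj⟩) * a ⟨j, hj⟩
  have he : e ∈ IsLocalRing.maximalIdeal (A j) :=
    Ideal.mul_mem_right _ _ (Ideal.pow_mem_of_mem _ hb _ (Nat.sub_pos_of_lt hnN))
  have heK : algebraMap (A j) K e =
      (algebraMap (A i) K x')⁻¹ ^ N * (algebraMap (A i) K d)⁻¹ := by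
    have haj : algebraMap (A j) K (a ⟨j, hj⟩) =
        (algebraMap (A i) K x')⁻¹ ^ n ⟨j, hj⟩ * (algebraMap (A i) K d)⁻¹ := ha ⟨j, hj⟩
    have hbx' : algebraMap (A j) K b = (algebraMap (A i) K x')⁻¹ := hbx
    show algebraMap (A j) K (b ^ (N - n ⟨j, hj⟩) * a ⟨j, hj⟩) = _
    rw [map_mul, map_pow, hbx', haj, ← mul_assoc, ← pow_add, Nat.sub_add_cancel hnN.le]
  have hunit' : IsUnit (1 + e) := isUnit_one_add e he
  have heK' : algebraMap (A j) K (1 + e) ≠ 0 := by
    have := (IsFractionRing.injective (A j) K).ne hunit'.ne_zero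
    simpa using this
  refine ⟨e * ↑(hunit'.unit⁻¹), Ideal.mul_mem_right _ _ he, ?_⟩
  rw [map_mul, map_units_inv]
  show algebraMap (A j) K e * (algebraMap (A j) K (1 + e))⁻¹ = _
  have hx'K : algebraMap (A i) K x' ≠ 0 := hx0
  rw [map_add, map_one, heK] at heK' ⊢
  rw [map_add, map_one, map_mul, map_pow] at hτK ⊢
  rw [inv_pow] at heK' ⊢
  have hP : algebraMap (A i) K x' ^ N ≠ 0 := pow_ne_zero _ hx'K
  generalize algebraMap (A i) K x' ^ N = P at *
  generalize algebraMap (A i) K d = D at *
  rw [mul_inv_eq_iff_eq_mul₀ heK', eq_comm, inv_mul_eq_iff_eq_mul₀ hτK]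
  field_simp
  ring

end K


section inter
variable (K : Type u) [Field K] {ι : Type u} [Finite ι] (A : ι → Type u)
  [∀ j, CommRing (A j)] [∀ j, IsDomain (A j)] [∀ j, IsLocalRing (A j)]
  [∀ j, IsNoetherianRing (A j)] [∀ j, Ring.KrullDimLE 1 (A j)] [∀ j, Algebra (A j) K]
  [∀ j, IsFractionRing (A j) K]

/-- the intersection of the `A i` inside `K` -/
def interRing : Subring K := ⨅ i, (algebraMap (A i) K).range

noncomputable def rangeEquiv (i : ι) : A i ≃+* (algebraMap (A i) K).range :=
  RingEquiv.ofBijective (algebraMap (A i) K).rangeRestrict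
    ⟨fun x y h => IsFractionRing.injective (A i) K (congrArg Subtype.val h),
      (algebraMap (A i) K).rangeRestrict_surjective⟩

noncomputable def toA (i : ι) : interRing K A →+* A i :=
  (rangeEquiv K A i).symm.toRingHom.comp (Subring.inclusion (iInf_le _ i))

theorem algebraMap_toA (i : ι) (c : interRing K A) : algebraMap (A i) K (toA K A i c) = c.1 := by
  have := (rangeEquiv K A i).apply_symm_apply (Subring.inclusion (iInf_le _ i) c)
  exact congrArg Subtype.val this

theorem toA_injective (i : ι) : Function.Injective (toA K A i) := by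
  intro c c' h
  apply Subtype.ext
  rw [← algebraMap_toA K A i c, ← algebraMap_toA K A i c', h]

theorem toA_eq_iff (i : ι) (c : interRing K A) (a : A i) :
    toA K A i c = a ↔ algebraMap (A i) K a = c.1 := by
  constructor
  · rintro rfl; exact algebraMap_toA K A i c
  · intro h
    apply IsFractionRing.injective (A i) K
    rw [algebraMap_toA K A, h]

theorem mem_interRing_iff (z : K) : z ∈ interRing K A ↔ ∀ i, ∃ a : A i, algebraMap (A i) K a = z := by
  simp [interRing, Subring.mem_iInf]

theorem exists_cover [Nonempty ι] (hnf : ∀ j, ¬ IsField (A j))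
    (hsep : ∀ i j, i ≠ j → (algebraMap (A i) K).range ⊔ (algebraMap (A j) K).range = ⊤) :
    ∃ t : ι → interRing K A, Ideal.span (Set.range t) = ⊤ ∧
      ∀ i, @IsLocalization.Away _ _ (t i) (A i) _ (toA K A i).toAlgebra := by
  classical
  haveI := Fintype.ofFinite ι
  have hK := fun i => exists_sep A hnf hsep i
  choose t₀ htu htm using hK
  have htC : ∀ i, t₀ i ∈ interRing K A := by
    intro i
    rw [mem_interRing_iff K A]
    intro j
    by_cases hji : j = i
    · subst hji
      obtain ⟨u, -, hu⟩ := htu j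
      exact ⟨u, hu⟩
    · obtain ⟨b, -, hb⟩ := htm i j hji
      exact ⟨b, hb⟩
  let t : ι → interRing K A := fun i => ⟨t₀ i, htC i⟩
  have htunit : ∀ i, IsUnit (toA K A i (t i)) := by
    intro i
    obtain ⟨u, hu, hut⟩ := htu i
    rw [(toA_eq_iff K A i (t i) u).2 hut]
    exact hu
  have htmem : ∀ i j, j ≠ i → toA K A j (t i) ∈ IsLocalRing.maximalIdeal (A j) := by
    intro i j hji
    obtain ⟨b, hb, hbt⟩ := htm i j hji
    rw [(toA_eq_iff K A j (t i) b).2 hbt]
    exact hb
  refine ⟨t, ?_, ?_⟩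
  · -- the sum of the `t i` is a unit
    let σ : interRing K A := ∑ i, t i
    have hσA : ∀ j, IsUnit (toA K A j σ) := by
      intro j
      refine IsLocalRing.notMem_maximalIdeal.1 (fun h => ?_)
      have hsplit : toA K A j σ = toA K A j (t j) + ∑ i ∈ Finset.univ.erase j, toA K A j (t i) := by
        rw [map_sum, ← Finset.add_sum_erase _ _ (Finset.mem_univ j)]
      have hrest : ∑ i ∈ Finset.univ.erase j, toA K A j (t i) ∈ IsLocalRing.maximalIdeal (A j) :=
        Ideal.sum_mem _ (fun i hi => htmem i j (Ne.symm (Finset.ne_of_mem_erase hi)))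
      have : toA K A j (t j) ∈ IsLocalRing.maximalIdeal (A j) := by
        have h2 := Ideal.sub_mem _ h hrest
        rw [hsplit, add_sub_cancel_right] at h2
        exact h2
      exact IsLocalRing.notMem_maximalIdeal.2 (htunit j) this
    have hσinv : (σ : K)⁻¹ ∈ interRing K A := by
      rw [mem_interRing_iff K A]
      intro j
      refine ⟨↑((hσA j).unit⁻¹), ?_⟩
      rw [map_units_inv]
      congr 1
      exact algebraMap_toA K A j σ
    have hσ0 : (σ : K) ≠ 0 := by
      obtain ⟨j⟩ := (inferInstance : Nonempty ι)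
      intro h0
      have : toA K A j σ = 0 := by
        rw [toA_eq_iff K A, map_zero, h0]
      exact (hσA j).ne_zero this
    have hσunit : IsUnit σ := by
      refine IsUnit.of_mul_eq_one (⟨(σ : K)⁻¹, hσinv⟩ : interRing K A) ?_
      apply Subtype.ext
      show (σ : K) * (σ : K)⁻¹ = 1
      exact mul_inv_cancel₀ hσ0
    rw [Ideal.eq_top_iff_one]
    have hσmem : σ ∈ Ideal.span (Set.range t) :=
      Ideal.sum_mem _ (fun i _ => Ideal.subset_span ⟨i, rfl⟩)
    exact (Ideal.eq_top_of_isUnit_mem _ hσmem hσunit) ▸ Submodule.mem_top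
  · intro i
    letI : Algebra (interRing K A) (A i) := (toA K A i).toAlgebra
    refine ⟨?_, ?_, ?_⟩
    · rintro ⟨_, n, rfl⟩
      show IsUnit (toA K A i (t i ^ n))
      rw [map_pow]
      exact (htunit i).pow n
    · intro a
      -- find `n` with `t i ^ n * a ∈ C`
      have hn : ∀ j, ∃ n : ℕ, ∀ m, n ≤ m → ∃ a' : A j,
          algebraMap (A j) K a' = (t₀ i) ^ m * algebraMap (A i) K a := by
        intro j
        by_cases hji : j = i
        · subst hji
          obtain ⟨u, -, hu⟩ := htu j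
          exact ⟨0, fun m _ => ⟨u ^ m * a, by rw [map_mul, map_pow, hu]⟩⟩
        · obtain ⟨b, hb, hbt⟩ := htm i j hji
          obtain ⟨n, a', ha'⟩ := exists_pow_mul_mem b hb (algebraMap (A i) K a)
          refine ⟨n, fun m hm => ⟨b ^ (m - n) * a', ?_⟩⟩
          rw [map_mul, map_pow, ha', hbt, ← mul_assoc, ← pow_add, Nat.sub_add_cancel hm]
      choose n hn using hn
      let N : ℕ := Finset.univ.sup n
      have hmem : (t₀ i) ^ N * algebraMap (A i) K a ∈ interRing K A := by
        rw [mem_interRing_iff K A]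
        intro j
        exact hn j N (Finset.le_sup (Finset.mem_univ j))
      refine ⟨(⟨_, hmem⟩, ⟨t i ^ N, N, rfl⟩), ?_⟩
      show a * toA K A i (t i ^ N) = toA K A i ⟨_, hmem⟩
      symm
      rw [toA_eq_iff K A, map_mul, algebraMap_toA K A]
      show _ = (t₀ i) ^ N * _
      rw [mul_comm]
      rfl
    · intro c c' h
      exact ⟨1, by rw [toA_injective K A i h]⟩

end inter

end Groth.Agent.Helper3.AffDim1
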