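import Mathlib
import Groth.Prelude
import Groth.Agent.S7661

set_option autoImplicit false
set_option linter.style.haveILetI false
set_option linter.unusedSectionVars false
set_option linter.unusedVariables false
set_option linter.deprecated false
set_option linter.style.haveILetI false
set_option linter.unusedSectionVars false
set_option linter.unusedVariables false

universe u

namespace Groth.Agent.Helper3.AffFin

open AlgebraicGeometry CategoryTheory CategoryTheory.Limits TopologicalSpace Topology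

/-- prime avoidance in an affine open: a finite set of points of `W` avoiding a closed set `C` is
contained in a basic open of `W` disjoint from `C`. -/
theorem exists_basicOpen_avoiding {X : Scheme.{u}} {W : X.Opens} (hW : IsAffineOpen W)
    (C : Set X) (hC : IsClosed C) (S : Set X) (hS : S.Finite) (hSW : S ⊆ W)
    (hSC : Disjoint S C) :
    ∃ f : Γ(X, W), S ⊆ X.basicOpen f ∧ Disjoint (X.basicOpen f : Set X) C := by
  classical
  rcases S.eq_empty_or_nonempty with rfl | ⟨x₀, hx₀⟩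
  · refine ⟨0, Set.empty_subset _, ?_⟩
    rw [Scheme.basicOpen_zero]
    simp
  let φ := hW.fromSpec
  let C' : Set (PrimeSpectrum Γ(X, W)) := φ.base ⁻¹' C
  have hC' : IsClosed C' := hC.preimage φ.continuous
  let I := PrimeSpectrum.vanishingIdeal C'
  have hzero : PrimeSpectrum.zeroLocus (I : Set Γ(X, W)) = C' := by
    rw [PrimeSpectrum.zeroLocus_vanishingIdeal_eq_closure, hC'.closure_eq]
  let P : X → Ideal Γ(X, W) := fun x =>
    if h : x ∈ W then (hW.primeIdealOf ⟨x, h⟩).asIdeal else ⊤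
  have hPprime : ∀ x ∈ hS.toFinset, (P x).IsPrime := by
    intro x hx
    have hxW : x ∈ W := hSW (hS.mem_toFinset.1 hx)
    simp only [P, dif_pos hxW]
    exact (hW.primeIdealOf ⟨x, hxW⟩).isPrime
  have hnot : ¬ ((I : Set Γ(X, W)) ⊆ ⋃ x ∈ (↑hS.toFinset : Set X), (P x : Set Γ(X, W))) := by
    intro hsub
    have hsub' := (Ideal.subset_union_prime (s := hS.toFinset) (f := P)
      x₀ x₀
      (fun i hi _ _ => hPprime i hi)).1 hsub
    obtain ⟨x, hx, hIx⟩ := hsub'
    have hxS : x ∈ S := hS.mem_toFinset.1 hx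
    have hxW : x ∈ W := hSW hxS
    simp only [P, dif_pos hxW] at hIx
    have h1 : hW.primeIdealOf ⟨x, hxW⟩ ∈ PrimeSpectrum.zeroLocus (I : Set Γ(X, W)) := hIx
    rw [hzero] at h1
    have h2 : φ.base (hW.primeIdealOf ⟨x, hxW⟩) = x := hW.fromSpec_primeIdealOf ⟨x, hxW⟩
    have h3 : x ∈ C := by rw [← h2]; exact h1
    exact Set.disjoint_left.1 hSC hxS h3
  rw [Set.not_subset] at hnot
  obtain ⟨f, hfI, hfP⟩ := hnot
  refine ⟨f, ?_, ?_⟩
  · intro x hxS
    have hxW : x ∈ W := hSW hxS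
    have h2 : φ.base (hW.primeIdealOf ⟨x, hxW⟩) = x := hW.fromSpec_primeIdealOf ⟨x, hxW⟩
    have h3 : hW.primeIdealOf ⟨x, hxW⟩ ∈ (PrimeSpectrum.basicOpen f : Set _) := by
      show f ∉ (hW.primeIdealOf ⟨x, hxW⟩).asIdeal
      intro hf
      apply hfP
      simp only [Set.mem_iUnion]
      refine ⟨x, hS.mem_toFinset.2 hxS, ?_⟩
      simp only [P, dif_pos hxW]
      exact hf
    have h4 : hW.primeIdealOf ⟨x, hxW⟩ ∈ φ ⁻¹ᵁ X.basicOpen f := by
      rw [hW.fromSpec_preimage_basicOpen]; exact h3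
    rw [← h2]; exact h4
  · rw [Set.disjoint_left]
    intro x hxf hxC
    have hxW : x ∈ W := X.basicOpen_le f hxf
    have h2 : φ.base (hW.primeIdealOf ⟨x, hxW⟩) = x := hW.fromSpec_primeIdealOf ⟨x, hxW⟩
    have h4 : hW.primeIdealOf ⟨x, hxW⟩ ∈ φ ⁻¹ᵁ X.basicOpen f := by
      show φ.base _ ∈ X.basicOpen f
      rw [h2]; exact hxf
    rw [hW.fromSpec_preimage_basicOpen] at h4
    have h5 : hW.primeIdealOf ⟨x, hxW⟩ ∈ PrimeSpectrum.zeroLocus (I : Set Γ(X, W)) := by
      rw [hzero]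
      show φ.base _ ∈ C
      rw [h2]; exact hxC
    exact h4 (h5 hfI)


/-- membership in a basic open of an affine open in terms of the corresponding prime -/
theorem mem_basicOpen_iff_notMem {X : Scheme.{u}} {W : X.Opens} (hW : IsAffineOpen W)
    (f : Γ(X, W)) (x : X) (hx : x ∈ W) :
    x ∈ X.basicOpen f ↔ f ∉ (hW.primeIdealOf ⟨x, hx⟩).asIdeal := by
  have h2 : hW.fromSpec.base (hW.primeIdealOf ⟨x, hx⟩) = x := hW.fromSpec_primeIdealOf ⟨x, hx⟩
  have h3 : hW.primeIdealOf ⟨x, hx⟩ ∈ hW.fromSpec ⁻¹ᵁ X.basicOpen f ↔ x ∈ X.basicOpen f := by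
    show hW.fromSpec.base _ ∈ X.basicOpen f ↔ _
    rw [h2]
  rw [← h3, hW.fromSpec_preimage_basicOpen]
  rfl

/-- extension of a basic open from a closed subscheme of an affine scheme, keeping a finite set of
points -/
theorem exists_extend_basicOpen {P 𝔸 : Scheme.{u}} [IsAffine 𝔸] (p₁ : P ⟶ 𝔸)
    [IsClosedImmersion p₁] (g' : Γ(P, ⊤)) (S : Set 𝔸) (hS : S.Finite)
    (hSg : ∀ s ∈ S, ∀ p : P, p₁.base p = s → p ∈ P.basicOpen g') :
    ∃ f' : Γ(𝔸, ⊤), p₁ ⁻¹ᵁ (𝔸.basicOpen f') = P.basicOpen g' ∧ S ⊆ 𝔸.basicOpen f' := by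
  classical
  have hsurj : Function.Surjective p₁.appTop :=
    (IsClosedImmersion.isAffine_surjective_of_isAffine p₁).2
  haveI : IsAffine P := (IsClosedImmersion.isAffine_surjective_of_isAffine p₁).1
  have hA := isAffineOpen_top 𝔸
  let I : Ideal Γ(𝔸, ⊤) := RingHom.ker p₁.appTop.hom
  let S' : Set 𝔸 := {s ∈ S | s ∉ Set.range p₁.base}
  have hS' : S'.Finite := hS.subset (fun s hs => hs.1)
  -- an element of `I` not vanishing on `S'`
  obtain ⟨f₀, hf₀S, hf₀C⟩ := exists_basicOpen_avoiding hA (Set.range p₁.base)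
    p₁.isClosedEmbedding.isClosed_range S' hS' (fun _ _ => trivial)
    (Set.disjoint_left.2 fun s hs hs' => hs.2 hs')
  have hnil : IsNilpotent (p₁.appTop f₀) := by
    rw [Scheme.isNilpotent_iff_basicOpen_eq_bot, ← Scheme.preimage_basicOpen_top]
    ext p
    simp only [Opens.coe_bot, Set.mem_empty_iff_false, iff_false]
    intro hp
    exact Set.disjoint_left.1 hf₀C hp ⟨p, rfl⟩
  obtain ⟨n, hn⟩ := hnil
  have hhI : f₀ ^ n ∈ I := by
    show p₁.appTop.hom (f₀ ^ n) = 0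
    rw [map_pow]; exact hn
  let Pr : 𝔸 → Ideal Γ(𝔸, ⊤) := fun x => (hA.primeIdealOf ⟨x, trivial⟩).asIdeal
  obtain ⟨f₁, hf₁⟩ := hsurj g'
  obtain ⟨f', hf'1, hf'2⟩ := Groth.Agent.S7661.result Γ(𝔸, ⊤) I (hS'.toFinset.image Pr)
    (by
      intro q hq
      obtain ⟨x, -, rfl⟩ := Finset.mem_image.1 hq
      exact (hA.primeIdealOf ⟨x, trivial⟩).isPrime)
    (by
      intro q hq hIq
      obtain ⟨x, hx, rfl⟩ := Finset.mem_image.1 hq
      have hx' : x ∈ S' := hS'.mem_toFinset.1 hx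
      have h1 : f₀ ^ n ∈ Pr x := hIq hhI
      have h2 : f₀ ∈ Pr x := (hA.primeIdealOf ⟨x, trivial⟩).isPrime.mem_of_pow_mem n h1
      exact (mem_basicOpen_iff_notMem hA f₀ x trivial).1 (hf₀S hx') h2)
    (Ideal.Quotient.mk I f₁)
  have hf'g : p₁.appTop f' = g' := by
    rw [← hf₁]
    have : f' - f₁ ∈ I := (Ideal.Quotient.eq).1 hf'1
    have h2 : p₁.appTop.hom (f' - f₁) = 0 := this
    rw [map_sub, sub_eq_zero] at h2
    exact h2
  refine ⟨f', ?_, ?_⟩
  · rw [Scheme.preimage_basicOpen_top, hf'g]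
  · intro s hs
    by_cases hsr : s ∈ Set.range p₁.base
    · obtain ⟨p, rfl⟩ := hsr
      have h1 : p ∈ p₁ ⁻¹ᵁ (𝔸.basicOpen f') := by
        rw [Scheme.preimage_basicOpen_top, hf'g]
        exact hSg _ hs p rfl
      exact h1
    · apply (mem_basicOpen_iff_notMem hA f' s trivial).2
      apply hf'2
      exact Finset.mem_image.2 ⟨s, hS'.mem_toFinset.2 ⟨hs, hsr⟩, rfl⟩

end Groth.Agent.Helper3.AffFin
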