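import Mathlib
import Groth.Prelude
import Groth.Agent.Helper3.AffFin1
import Groth.Agent.S9203

set_option autoImplicit false
set_option linter.style.haveILetI false
set_option linter.unusedSectionVars false
set_option linter.unusedVariables false
set_option linter.deprecated false
set_option linter.style.haveILetI false
set_option linter.unusedSectionVars false
set_option linter.unusedVariables false

universe u

namespace Groth.Agent.Helper3.AffFin

open AlgebraicGeometry CategoryTheory CategoryTheory.Limits TopologicalSpace Topology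

/-- gluing lemma: if `Y` is covered by two closed subschemes `A'`, `B'` and a finite set `T` of
points meets each of them inside an affine open, then `T` lies in an affine open of `Y`. -/
theorem exists_affineOpen_of_two {Y A' B' : Scheme.{u}} (a : A' ⟶ Y) (b : B' ⟶ Y)
    [IsClosedImmersion a] [IsClosedImmersion b]
    (hab : ∀ y : Y, y ∈ Set.range a.base ∨ y ∈ Set.range b.base) (T : Set Y) (hT : T.Finite)
    (W : A'.Opens) (hW : IsAffineOpen W) (V : B'.Opens) (hV : IsAffineOpen V)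
    (hTW : ∀ w : A', a.base w ∈ T → w ∈ W) (hTV : ∀ v : B', b.base v ∈ T → v ∈ V) :
    ∃ U : Y.Opens, IsAffineOpen U ∧ T ⊆ U := by
  classical
  have hainj : Function.Injective a.base := a.isEmbedding.injective
  have hbinj : Function.Injective b.base := b.isEmbedding.injective
  have hTA : (a.base ⁻¹' T).Finite := hT.preimage hainj.injOn
  have hTB : (b.base ⁻¹' T).Finite := hT.preimage hbinj.injOn
  -- Step 1
  obtain ⟨f₁, hf₁T, hf₁C⟩ := exists_basicOpen_avoiding hW (a.base ⁻¹' (b.base '' (V : Set B')ᶜ))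
    ((b.isClosedEmbedding.isClosedMap _ V.isOpen.isClosed_compl).preimage a.continuous)
    (a.base ⁻¹' T) hTA (fun w hw => hTW w hw)
    (Set.disjoint_left.2 (by
      rintro w hw ⟨v, hv, hvw⟩
      have hvT : b.base v ∈ T := by rw [hvw]; exact hw
      exact hv (hTV v hvT)))
  let W₁ : A'.Opens := A'.basicOpen f₁
  have hW₁ : IsAffineOpen W₁ := hW.basicOpen f₁
  have star1 : ∀ w ∈ W₁, ∀ v : B', a.base w = b.base v → v ∈ V := by
    intro w hw v hwv
    by_contra hv
    exact Set.disjoint_left.1 hf₁C hw ⟨v, hv, hwv.symm⟩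
  -- Step 2
  obtain ⟨g, hgT, hgC⟩ := exists_basicOpen_avoiding hV (b.base ⁻¹' (a.base '' (W₁ : Set A')ᶜ))
    ((a.isClosedEmbedding.isClosedMap _ W₁.isOpen.isClosed_compl).preimage b.continuous)
    (b.base ⁻¹' T) hTB (fun v hv => hTV v hv)
    (Set.disjoint_left.2 (by
      rintro v hv ⟨w, hw, hwv⟩
      have hwT : a.base w ∈ T := by rw [hwv]; exact hv
      exact hw (hf₁T hwT)))
  let V₁ : B'.Opens := B'.basicOpen g
  have hV₁ : IsAffineOpen V₁ := hV.basicOpen g
  have star2 : ∀ v ∈ V₁, ∀ w : A', b.base v = a.base w → w ∈ W₁ := by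
    intro v hv w hvw
    by_contra hw
    exact Set.disjoint_left.1 hgC hv ⟨w, hw, hvw.symm⟩
  -- Step 3
  haveI : IsAffine (W₁ : Scheme.{u}) := hW₁
  let α : (W₁ : Scheme.{u}) ⟶ Y := W₁.ι ≫ a
  let P := pullback α b
  let p₁ : P ⟶ (W₁ : Scheme.{u}) := pullback.fst α b
  let p₂ : P ⟶ B' := pullback.snd α b
  have hcond : ∀ p : P, a.base (W₁.ι.base (p₁.base p)) = b.base (p₂.base p) := fun p => by
    show (p₁ ≫ α).base p = (p₂ ≫ b).base p
    rw [pullback.condition]
  have hp₂V : ∀ p : P, p₂.base p ∈ V := fun p =>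
    star1 _ (p₁.base p).2 _ (hcond p)
  have htop : (⊤ : P.Opens) ≤ p₂ ⁻¹ᵁ V := fun p _ => hp₂V p
  let g' : Γ(P, ⊤) := P.presheaf.map (homOfLE htop).op (p₂.app V g)
  have hg' : P.basicOpen g' = p₂ ⁻¹ᵁ V₁ := by
    rw [Scheme.basicOpen_res, ← Scheme.preimage_basicOpen, top_inf_eq]
  let S : Set (W₁ : Scheme.{u}) := {x | a.base (W₁.ι.base x) ∈ T}
  have hS : S.Finite := hT.preimage (hainj.comp W₁.ι.isEmbedding.injective).injOn
  obtain ⟨f', hf'1, hf'2⟩ := exists_extend_basicOpen p₁ g' S hS (by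
    intro s hs p hp
    rw [hg']
    show p₂.base p ∈ V₁
    apply hgT
    show b.base (p₂.base p) ∈ T
    rw [← hcond p, hp]
    exact hs)
  let D : (W₁ : Scheme.{u}).Opens := (W₁ : Scheme.{u}).basicOpen f'
  let W₂ : A'.Opens := W₁.ι ''ᵁ D
  have hW₂ : IsAffineOpen W₂ :=
    ((isAffineOpen_top (W₁ : Scheme.{u})).basicOpen f').image_of_isOpenImmersion W₁.ι
  have hTAW₂ : ∀ w : A', a.base w ∈ T → w ∈ W₂ := by
    intro w hw
    have hwW₁ : w ∈ W₁ := hf₁T hw
    refine ⟨⟨w, hwW₁⟩, hf'2 ?_, rfl⟩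
    exact hw
  have hpt : ∀ (x : (W₁ : Scheme.{u})) (v : B'), a.base (W₁.ι.base x) = b.base v →
      ∃ p : P, p₁.base p = x ∧ p₂.base p = v := fun x v h =>
    Scheme.Pullback.exists_preimage_pullback (f := α) (g := b) x v h
  have star3 : ∀ (w : A') (v : B'), a.base w = b.base v → (w ∈ W₂ ↔ v ∈ V₁) := by
    intro w v hwv
    constructor
    · rintro ⟨x, hx, rfl⟩
      obtain ⟨p, hp1, hp2⟩ := hpt x v hwv
      have h1 : p ∈ p₁ ⁻¹ᵁ D := by
        show p₁.base p ∈ D
        rw [hp1]; exact hx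
      rw [hf'1, hg'] at h1
      rw [← hp2]; exact h1
    · intro hv
      have hwW₁ : w ∈ W₁ := star2 v hv w hwv.symm
      obtain ⟨p, hp1, hp2⟩ := hpt ⟨w, hwW₁⟩ v hwv
      have h1 : p ∈ p₂ ⁻¹ᵁ V₁ := by
        show p₂.base p ∈ V₁
        rw [hp2]; exact hv
      rw [← hg', ← hf'1] at h1
      have h2 : p₁.base p ∈ D := h1
      rw [hp1] at h2
      exact ⟨⟨w, hwW₁⟩, h2, rfl⟩
  -- Step 4
  let Uset : Set Y := a.base '' (W₂ : Set A') ∪ b.base '' (V₁ : Set B')
  have hcompl : Usetᶜ = a.base '' (W₂ : Set A')ᶜ ∪ b.base '' (V₁ : Set B')ᶜ := by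
    ext y
    constructor
    · intro hy
      rcases hab y with ⟨w, rfl⟩ | ⟨v, rfl⟩
      · exact Or.inl ⟨w, fun hw => hy (Or.inl ⟨w, hw, rfl⟩), rfl⟩
      · exact Or.inr ⟨v, fun hv => hy (Or.inr ⟨v, hv, rfl⟩), rfl⟩
    · rintro (⟨w, hw, rfl⟩ | ⟨v, hv, rfl⟩)
      · rintro (⟨w', hw', h⟩ | ⟨v, hv, h⟩)
        · exact hw (hainj h ▸ hw')
        · exact hw ((star3 w v h.symm).2 hv)
      · rintro (⟨w, hw, h⟩ | ⟨v', hv', h⟩)
        · exact hv ((star3 w v h).1 hw)
        · exact hv (hbinj h ▸ hv')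
  have hUopen : IsOpen Uset := by
    rw [← isClosed_compl_iff, hcompl]
    exact (a.isClosedEmbedding.isClosedMap _ W₂.isOpen.isClosed_compl).union
      (b.isClosedEmbedding.isClosedMap _ V₁.isOpen.isClosed_compl)
  let U : Y.Opens := ⟨Uset, hUopen⟩
  have hTU : T ⊆ U := by
    intro t ht
    rcases hab t with ⟨w, rfl⟩ | ⟨v, rfl⟩
    · exact Or.inl ⟨w, hTAW₂ w ht, rfl⟩
    · exact Or.inr ⟨v, hgT ht, rfl⟩
  -- Step 5
  have haU : a ⁻¹ᵁ U = W₂ := by
    ext w
    constructor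
    · rintro (⟨w', hw', h⟩ | ⟨v, hv, h⟩)
      · exact hainj h ▸ hw'
      · exact (star3 w v h.symm).2 hv
    · intro hw
      exact Or.inl ⟨w, hw, rfl⟩
  have hbU : b ⁻¹ᵁ U = V₁ := by
    ext v
    constructor
    · rintro (⟨w, hw, h⟩ | ⟨v', hv', h⟩)
      · exact (star3 w v h).1 hw
      · exact hbinj h ▸ hv'
    · intro hv
      exact Or.inr ⟨v, hv, rfl⟩
  haveI hA1 : IsAffine ((a ⁻¹ᵁ U : A'.Opens) : Scheme.{u}) := by
    have : IsAffineOpen (a ⁻¹ᵁ U) := by rw [haU]; exact hW₂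
    exact this
  haveI hA2 : IsAffine ((b ⁻¹ᵁ U : B'.Opens) : Scheme.{u}) := by
    have : IsAffineOpen (b ⁻¹ᵁ U) := by rw [hbU]; exact hV₁
    exact this
  let Z : Bool → Scheme.{u} := fun k =>
    Bool.rec ((b ⁻¹ᵁ U : B'.Opens) : Scheme.{u}) ((a ⁻¹ᵁ U : A'.Opens) : Scheme.{u}) k
  let ι : ∀ k, Z k ⟶ (U : Scheme.{u}) := fun k =>
    Bool.rec (motive := fun k => Z k ⟶ (U : Scheme.{u})) (b ∣_ U) (a ∣_ U) k
  have hci : ∀ k, IsClosedImmersion (ι k) := by
    intro k; cases k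
    · exact inferInstanceAs (IsClosedImmersion (b ∣_ U))
    · exact inferInstanceAs (IsClosedImmersion (a ∣_ U))
  have haff : ∀ k, IsAffine (Z k) := by
    intro k; cases k
    · exact hA2
    · exact hA1
  have hcov : ∀ x : (U : Scheme.{u}), ∃ k, x ∈ Set.range (ι k).base := by
    intro x
    rcases hab x.1 with ⟨w, hw⟩ | ⟨v, hv⟩
    · refine ⟨true, ⟨⟨w, ?_⟩, ?_⟩⟩
      · show a.base w ∈ U
        rw [hw]; exact x.2
      · apply Subtype.ext
        show ((a ∣_ U) ≫ U.ι).base _ = _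
        rw [morphismRestrict_ι]
        exact hw
    · refine ⟨false, ⟨⟨v, ?_⟩, ?_⟩⟩
      · show b.base v ∈ U
        rw [hv]; exact x.2
      · apply Subtype.ext
        show ((b ∣_ U) ≫ U.ι).base _ = _
        rw [morphismRestrict_ι]
        exact hv
  have hUaff : IsAffine (U : Scheme.{u}) :=
    @Groth.Agent.S9203.result (U : Scheme.{u}) Bool _ Z ι hci haff hcov
  exact ⟨U, hUaff, hTU⟩

end Groth.Agent.Helper3.AffFin
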