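import Mathlib
import Groth.Prelude
import Groth.Agent.Helper3.AffFin2
import Groth.Agent.S0440

set_option autoImplicit false
set_option linter.style.haveILetI false
set_option linter.unusedSectionVars false
set_option linter.unusedVariables false
set_option linter.deprecated false
set_option linter.style.haveILetI false
set_option linter.unusedSectionVars false
set_option linter.unusedVariables false

universe u

namespace Groth.Agent.Helper3.AffFin

open AlgebraicGeometry CategoryTheory CategoryTheory.Limits TopologicalSpace Topology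

variable {X : Scheme.{u}}

/-- `HasAff T C`: the points of `T` on the closed set `C` lie in an affine open of the reduced
induced closed subscheme on `C`. -/
def HasAff (T : Set X) (C : Closeds X) : Prop :=
  ∃ U : (Scheme.IdealSheafData.vanishingIdeal C).subscheme.Opens, IsAffineOpen U ∧
    ∀ t ∈ T, t ∈ C →
      t ∈ (Scheme.IdealSheafData.vanishingIdeal C).subschemeι.base '' (U : Set _)

theorem hasAff_bot (T : Set X) : HasAff T (⊥ : Closeds X) :=
  ⟨⊥, isAffineOpen_bot _, fun t _ h => h.elim⟩

theorem range_vanishingIdeal_subschemeι (C : Closeds X) :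
    Set.range (Scheme.IdealSheafData.vanishingIdeal C).subschemeι.base = (C : Set X) := by
  rw [Scheme.IdealSheafData.range_subschemeι, Scheme.IdealSheafData.coe_support_vanishingIdeal]

theorem hasAff_sup (T : Set X) (hT : T.Finite) (C₁ C₂ : Closeds X)
    (h₁ : HasAff T C₁) (h₂ : HasAff T C₂) : HasAff T (C₁ ⊔ C₂) := by
  obtain ⟨W, hW, hTW⟩ := h₁
  obtain ⟨V, hV, hTV⟩ := h₂
  have h1 : Scheme.IdealSheafData.vanishingIdeal (C₁ ⊔ C₂) ≤
      Scheme.IdealSheafData.vanishingIdeal C₁ :=
    Scheme.IdealSheafData.vanishingIdeal_antimono le_sup_left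
  have h2 : Scheme.IdealSheafData.vanishingIdeal (C₁ ⊔ C₂) ≤
      Scheme.IdealSheafData.vanishingIdeal C₂ :=
    Scheme.IdealSheafData.vanishingIdeal_antimono le_sup_right
  have ha : Scheme.IdealSheafData.inclusion h1 ≫
      (Scheme.IdealSheafData.vanishingIdeal (C₁ ⊔ C₂)).subschemeι =
      (Scheme.IdealSheafData.vanishingIdeal C₁).subschemeι :=
    Scheme.IdealSheafData.inclusion_subschemeι h1
  have hb : Scheme.IdealSheafData.inclusion h2 ≫
      (Scheme.IdealSheafData.vanishingIdeal (C₁ ⊔ C₂)).subschemeι =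
      (Scheme.IdealSheafData.vanishingIdeal C₂).subschemeι :=
    Scheme.IdealSheafData.inclusion_subschemeι h2
  have hι : Function.Injective
      (Scheme.IdealSheafData.vanishingIdeal (C₁ ⊔ C₂)).subschemeι.base :=
    (Scheme.IdealSheafData.vanishingIdeal (C₁ ⊔ C₂)).subschemeι.isEmbedding.injective
  have ha' : ∀ w, (Scheme.IdealSheafData.vanishingIdeal (C₁ ⊔ C₂)).subschemeι.base
      ((Scheme.IdealSheafData.inclusion h1).base w) =
      (Scheme.IdealSheafData.vanishingIdeal C₁).subschemeι.base w := fun w => by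
    rw [← ha]; rfl
  have hb' : ∀ w, (Scheme.IdealSheafData.vanishingIdeal (C₁ ⊔ C₂)).subschemeι.base
      ((Scheme.IdealSheafData.inclusion h2).base w) =
      (Scheme.IdealSheafData.vanishingIdeal C₂).subschemeι.base w := fun w => by
    rw [← hb]; rfl
  have hab : ∀ y, y ∈ Set.range (Scheme.IdealSheafData.inclusion h1).base ∨
      y ∈ Set.range (Scheme.IdealSheafData.inclusion h2).base := by
    intro y
    have hy : (Scheme.IdealSheafData.vanishingIdeal (C₁ ⊔ C₂)).subschemeι.base y ∈
        ((C₁ ⊔ C₂ : Closeds X) : Set X) := by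
      rw [← range_vanishingIdeal_subschemeι]; exact ⟨y, rfl⟩
    rcases hy with hy | hy
    · left
      rw [← range_vanishingIdeal_subschemeι C₁] at hy
      obtain ⟨w, hw⟩ := hy
      exact ⟨w, hι ((ha' w).trans hw)⟩
    · right
      rw [← range_vanishingIdeal_subschemeι C₂] at hy
      obtain ⟨w, hw⟩ := hy
      exact ⟨w, hι ((hb' w).trans hw)⟩
  obtain ⟨U, hU, hTU⟩ := exists_affineOpen_of_two (Scheme.IdealSheafData.inclusion h1)
    (Scheme.IdealSheafData.inclusion h2) hab
    ((Scheme.IdealSheafData.vanishingIdeal (C₁ ⊔ C₂)).subschemeι.base ⁻¹' T)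
    (hT.preimage hι.injOn) W hW V hV
    (by
      intro w hw
      have h3 : (Scheme.IdealSheafData.vanishingIdeal C₁).subschemeι.base w ∈ T := by
        rw [← ha']; exact hw
      have h4 : (Scheme.IdealSheafData.vanishingIdeal C₁).subschemeι.base w ∈ C₁ := by
        rw [← SetLike.mem_coe, ← range_vanishingIdeal_subschemeι C₁]; exact ⟨w, rfl⟩
      obtain ⟨w', hw', hww'⟩ := hTW _ h3 h4
      have := (Scheme.IdealSheafData.vanishingIdeal C₁).subschemeι.isEmbedding.injective hww'
      rw [← this]; exact hw')
    (by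
      intro w hw
      have h3 : (Scheme.IdealSheafData.vanishingIdeal C₂).subschemeι.base w ∈ T := by
        rw [← hb']; exact hw
      have h4 : (Scheme.IdealSheafData.vanishingIdeal C₂).subschemeι.base w ∈ C₂ := by
        rw [← SetLike.mem_coe, ← range_vanishingIdeal_subschemeι C₂]; exact ⟨w, rfl⟩
      obtain ⟨w', hw', hww'⟩ := hTV _ h3 h4
      have := (Scheme.IdealSheafData.vanishingIdeal C₂).subschemeι.isEmbedding.injective hww'
      rw [← this]; exact hw')
  refine ⟨U, hU, fun t ht htC => ?_⟩
  have : t ∈ Set.range (Scheme.IdealSheafData.vanishingIdeal (C₁ ⊔ C₂)).subschemeι.base := by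
    rw [range_vanishingIdeal_subschemeι]; exact htC
  obtain ⟨y, rfl⟩ := this
  exact ⟨y, hTU ht, rfl⟩

theorem hasAff_finset_sup {κ : Type*} (T : Set X) (hT : T.Finite) (s : Finset κ)
    (f : κ → Closeds X) (h : ∀ i ∈ s, HasAff T (f i)) : HasAff T (s.sup f) := by
  classical
  induction s using Finset.induction_on with
  | empty => rw [Finset.sup_empty]; exact hasAff_bot T
  | insert i s hi ih =>
    rw [Finset.sup_insert]
    exact hasAff_sup T hT _ _ (h i (Finset.mem_insert_self i s))
      (ih fun j hj => h j (Finset.mem_insert_of_mem hj))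

theorem exists_affineOpen_of_hasAff_top (T : Set X) (h : HasAff T (⊤ : Closeds X)) :
    ∃ U : X.Opens, IsAffineOpen U ∧ T ⊆ U := by
  obtain ⟨U, hU, hTU⟩ := h
  have hsurj : Function.Surjective
      (Scheme.IdealSheafData.vanishingIdeal (⊤ : Closeds X)).subschemeι.base := by
    rw [← Set.range_eq_univ, range_vanishingIdeal_subschemeι]; rfl
  have hinj : Function.Injective
      (Scheme.IdealSheafData.vanishingIdeal (⊤ : Closeds X)).subschemeι.base :=
    (Scheme.IdealSheafData.vanishingIdeal (⊤ : Closeds X)).subschemeι.isEmbedding.injective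
  have hopen : IsOpenMap (Scheme.IdealSheafData.vanishingIdeal (⊤ : Closeds X)).subschemeι.base :=
    ((Scheme.IdealSheafData.vanishingIdeal (⊤ : Closeds X)).subschemeι.isEmbedding.toHomeomorphOfSurjective
      hsurj).isOpenMap
  let U' : X.Opens := ⟨(Scheme.IdealSheafData.vanishingIdeal (⊤ : Closeds X)).subschemeι.base ''
    (U : Set _), hopen _ U.isOpen⟩
  have hpre : (Scheme.IdealSheafData.vanishingIdeal (⊤ : Closeds X)).subschemeι ⁻¹ᵁ U' = U := by
    ext y
    constructor
    · rintro ⟨y', hy', h⟩
      exact hinj h ▸ hy'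
    · intro hy
      exact ⟨y, hy, rfl⟩
  haveI hA : IsAffine (((Scheme.IdealSheafData.vanishingIdeal (⊤ : Closeds X)).subschemeι ⁻¹ᵁ U' :
      (Scheme.IdealSheafData.vanishingIdeal (⊤ : Closeds X)).subscheme.Opens) : Scheme.{u}) := by
    have : IsAffineOpen
        ((Scheme.IdealSheafData.vanishingIdeal (⊤ : Closeds X)).subschemeι ⁻¹ᵁ U') := by
      rw [hpre]; exact hU
    exact this
  have hs : Function.Surjective
      ((Scheme.IdealSheafData.vanishingIdeal (⊤ : Closeds X)).subschemeι ∣_ U').base := by
    intro x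
    obtain ⟨y, hy⟩ := hsurj x.1
    refine ⟨⟨y, ?_⟩, ?_⟩
    · show (Scheme.IdealSheafData.vanishingIdeal (⊤ : Closeds X)).subschemeι.base y ∈ U'
      rw [hy]; exact x.2
    · apply Subtype.ext
      show (((Scheme.IdealSheafData.vanishingIdeal (⊤ : Closeds X)).subschemeι ∣_ U') ≫
        U'.ι).base _ = _
      rw [morphismRestrict_ι]
      exact hy
  have hU' : IsAffine (U' : Scheme.{u}) :=
    Groth.Agent.S0440.result
      ((Scheme.IdealSheafData.vanishingIdeal (⊤ : Closeds X)).subschemeι ∣_ U') hs
  refine ⟨U', hU', fun t ht => hTU t ht trivial⟩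

/-- Stacks 09NN. -/
theorem exists_affineOpen_of_components (hX : (irreducibleComponents (X : Type u)).Finite)
    (T : Set X) (hT : T.Finite)
    (h : ∀ (Z : Set X) (hZ : Z ∈ irreducibleComponents (X : Type u)),
      HasAff T ⟨Z, isClosed_of_mem_irreducibleComponents Z hZ⟩) :
    ∃ U : X.Opens, IsAffineOpen U ∧ T ⊆ U := by
  classical
  have key : HasAff T (hX.toFinset.sup fun Z => Closeds.closure Z) := by
    apply hasAff_finset_sup T hT
    intro Z hZ
    have hZ' : Z ∈ irreducibleComponents (X : Type u) := hX.mem_toFinset.1 hZ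
    have : Closeds.closure Z = ⟨Z, isClosed_of_mem_irreducibleComponents Z hZ'⟩ :=
      Closeds.ext (isClosed_of_mem_irreducibleComponents Z hZ').closure_eq
    rw [this]
    exact h Z hZ'
  have htop : (hX.toFinset.sup fun Z => Closeds.closure Z) = (⊤ : Closeds X) := by
    rw [eq_top_iff]
    intro x _
    have hmem : irreducibleComponent x ∈ hX.toFinset :=
      hX.mem_toFinset.2 (irreducibleComponent_mem_irreducibleComponents x)
    have hle := Finset.le_sup (f := fun Z : Set X => Closeds.closure Z) hmem
    exact hle (subset_closure mem_irreducibleComponent)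
  rw [htop] at key
  exact exists_affineOpen_of_hasAff_top T key

end Groth.Agent.Helper3.AffFin
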