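import Mathlib
import Groth.Prelude
import Groth.Agent.S7383
import Groth.Agent.S9200

set_option autoImplicit false
set_option linter.style.haveILetI false
set_option linter.unusedSectionVars false
set_option linter.unusedVariables false
set_option linter.deprecated false
set_option linter.style.haveILetI false
set_option linter.unusedSectionVars false
set_option linter.unusedVariables false

universe u

open AlgebraicGeometry CategoryTheory Limits TopologicalSpace

namespace Groth.Agent.Helper3.AffPts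

/-- A morphism from an affine scheme to a qcqs scheme factors through an affine scheme of finite
presentation over the target. -/
theorem exists_affine_finitePresentation_factor {T X : Scheme.{u}} (f : T ⟶ X) [IsAffine T]
    [CompactSpace X] [QuasiSeparatedSpace X] :
    ∃ (T₁ : Scheme.{u}) (_ : IsAffine T₁) (π : T ⟶ T₁) (g : T₁ ⟶ X),
      LocallyOfFinitePresentation g ∧ π ≫ g = f := by
  obtain ⟨I, instP, instD, instN, D, c, hc, hD, haff, ⟨e⟩⟩ := Groth.Agent.S7383.result f
  haveI : IsDirected I (· ≤ ·) := instD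
  haveI : IsFiltered I := inferInstance
  haveI : IsCofiltered Iᵒᵖ := inferInstance
  haveI : IsConnected Iᵒᵖ := IsCofiltered.isConnected Iᵒᵖ
  let D' : Iᵒᵖ ⥤ Scheme.{u} := D ⋙ Over.forget X
  let c' : Cone D' := (Over.forget X).mapCone c
  have hc' : IsLimit c' := isLimitOfPreserves (Over.forget X) hc
  let S : Scheme.{u} := Spec (CommRingCat.of (ULift.{u} ℤ))
  let t : D' ⟶ (Functor.const Iᵒᵖ).obj S :=
    { app := fun i => specULiftZIsTerminal.from _
      naturality := fun i j a => specULiftZIsTerminal.hom_ext _ _ }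
  haveI : ∀ (i j : Iᵒᵖ) (a : i ⟶ j), IsAffineHom (D'.map a) := fun i j a => haff i j a
  haveI : ∀ i, CompactSpace (D'.obj i) := fun i => by
    have h1 : QuasiCompact ((D.obj i).hom : (D.obj i).left ⟶ X) := (hD i).2.1
    exact @QuasiCompact.compactSpace_of_compactSpace _ _ ((D.obj i).hom : (D.obj i).left ⟶ X) h1
      inferInstance
  haveI : ∀ i, QuasiSeparatedSpace (D'.obj i) := fun i => by
    have h1 : QuasiSeparated ((D.obj i).hom : (D.obj i).left ⟶ X) := (hD i).2.2
    exact @quasiSeparatedSpace_of_quasiSeparated _ _ ((D.obj i).hom : (D.obj i).left ⟶ X)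
      inferInstance h1
  obtain ⟨i₀⟩ : Nonempty Iᵒᵖ := ⟨Opposite.op instN.some⟩
  haveI : IsAffine c'.pt := by
    have e' : c.pt.left ≅ T := (Over.forget X).mapIso e
    exact IsAffine.of_isIso e'.hom
  haveI hS : IsAffine S := inferInstance
  haveI : IsAffineHom (c'.π.app i₀ ≫ t.app i₀) := by
    have : ∀ (A : Scheme.{u}) (hA : IsAffine A) (a : A ⟶ S), IsAffineHom a := by
      intro A hA a
      infer_instance
    exact this _ ‹IsAffine c'.pt› _
  obtain ⟨i₁, hi₁⟩ := Groth.Agent.S9200.result S D' t c' hc' i₀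
  haveI := hi₁ i₁ (𝟙 _)
  have hT₁ : IsAffine (D'.obj i₁) :=
    @isAffine_of_isAffineHom _ _ ((t.app i₁ : D'.obj i₁ ⟶ S)) (hi₁ i₁ (𝟙 _)) hS
  refine ⟨D'.obj i₁, hT₁, e.inv.left ≫ c'.π.app i₁, (D.obj i₁).hom, (hD i₁).1, ?_⟩
  have h1 : (c.π.app i₁).left ≫ (D.obj i₁).hom = c.pt.hom := Over.w (c.π.app i₁)
  show (e.inv.left ≫ (c.π.app i₁).left) ≫ (D.obj i₁).hom = f
  rw [Category.assoc, h1]
  exact Over.w e.inv

end Groth.Agent.Helper3.AffPts
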