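import Groth.Agent.Helper3.BirFlat

open AlgebraicGeometry CategoryTheory CategoryTheory.Limits TopologicalSpace Opposite IsLocalRing

universe u

namespace Groth.Agent.Helper3.DomTfae

/-- stalk maps are injective if the generic point maps to the generic point -/
theorem stalkMap_injective_of_generic {X Y : Scheme.{u}} [IsIntegral X] [IsIntegral Y]
    (f : X ⟶ Y) (hgen : f (genericPoint X) = genericPoint Y) (x : X) :
    Function.Injective (f.stalkMap x).hom := by
  have hsp : genericPoint X ⤳ x := genericPoint_specializes x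
  have hnat := f.stalkSpecializes_stalkMap _ _ hsp
  have hF := CurveFlat.isField_stalk_of_eq_genericPoint Y _ hgen
  have hinj1 : Function.Injective (f.stalkMap (genericPoint X)).hom := by
    letI := hF.toField
    exact (f.stalkMap (genericPoint X)).hom.injective
  have hinj2 := CurveFlat.stalkSpecializes_injective Y (hsp.map f.continuous)
  have hcomp : Function.Injective
      (Y.presheaf.stalkSpecializes (hsp.map f.continuous) ≫
        f.stalkMap (genericPoint X)).hom := by
    rw [CommRingCat.hom_comp]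
    exact hinj1.comp hinj2
  rw [hnat, CommRingCat.hom_comp] at hcomp
  exact Function.Injective.of_comp hcomp

theorem germ_appLE {X Y : Scheme.{u}} (f : X ⟶ Y) (U : X.Opens) (V : Y.Opens)
    (hUV : U ≤ f ⁻¹ᵁ V) (x : X) (hx : x ∈ U) (s : Γ(Y, V)) :
    X.presheaf.germ U x hx (f.appLE V U hUV s) =
      f.stalkMap x (Y.presheaf.germ V (f x) (hUV hx) s) := by
  have h1 := Scheme.Hom.germ_stalkMap_apply f V x (hUV hx) s
  refine Eq.trans ?_ h1.symm
  rw [Scheme.Hom.appLE, CommRingCat.comp_apply]
  exact X.presheaf.germ_res_apply (homOfLE hUV) x hx _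


/-- if some stalk map is injective, the generic point maps to the generic point -/
theorem generic_of_stalkMap_injective {X Y : Scheme.{u}} [IsIntegral X] [IsIntegral Y]
    (f : X ⟶ Y) (x : X) (hinj : Function.Injective (f.stalkMap x).hom) :
    f (genericPoint X) = genericPoint Y := by
  have hsp : genericPoint X ⤳ x := genericPoint_specializes x
  have hsp' : f (genericPoint X) ⤳ f x := hsp.map f.continuous
  have hnat := f.stalkSpecializes_stalkMap _ _ hsp
  let A := Y.presheaf.stalk (f x)
  let σ := Y.presheaf.stalkSpecializes hsp'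
  -- the prime of `O_{Y, f x}` corresponding to `f η` is zero
  have hq : ∀ a : A, σ.hom a ∈ maximalIdeal (Y.presheaf.stalk (f (genericPoint X))) → a = 0 := by
    intro a ha
    have h1 : ¬ IsUnit ((f.stalkMap (genericPoint X)).hom (σ.hom a)) := by
      intro hu
      exact ha (IsLocalHom.map_nonunit _ hu)
    have h2 : (f.stalkMap (genericPoint X)).hom (σ.hom a) = 0 := by
      by_contra hne
      exact h1 (IsUnit.mk0 (G₀ := X.functionField) _ hne)
    have h3 : (X.presheaf.stalkSpecializes hsp).hom ((f.stalkMap x).hom a) = 0 := by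
      rw [← h2]
      exact (congrArg (fun φ => φ.hom a) hnat).symm
    have h4 : (f.stalkMap x).hom a = 0 :=
      CurveFlat.stalkSpecializes_injective X hsp (by rw [h3, map_zero])
    exact hinj (by rw [h4, map_zero])
  have hcl : Spec.map σ (closedPoint (Y.presheaf.stalk (f (genericPoint X)))) =
      (⟨⊥, Ideal.isPrime_bot⟩ : PrimeSpectrum A) := by
    apply PrimeSpectrum.ext
    ext a
    show a ∈ (maximalIdeal _).comap σ.hom ↔ a ∈ (⊥ : Ideal A)
    rw [Ideal.mem_comap, Ideal.mem_bot]
    exact ⟨hq a, fun h => by rw [h, map_zero]; exact Ideal.zero_mem _⟩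
  have h1 : Y.fromSpecStalk (f x) (⟨⊥, Ideal.isPrime_bot⟩ : PrimeSpectrum A) =
      f (genericPoint X) := by
    rw [← hcl]
    show (Spec.map σ ≫ Y.fromSpecStalk (f x)) _ = _
    rw [Scheme.SpecMap_stalkSpecializes_fromSpecStalk]
    exact Scheme.fromSpecStalk_closedPoint
  have h2 : Y.fromSpecStalk (f x) (⟨⊥, Ideal.isPrime_bot⟩ : PrimeSpectrum A) = genericPoint Y := by
    obtain ⟨p₀, hp₀⟩ : ∃ p₀ : PrimeSpectrum A, Y.fromSpecStalk (f x) p₀ = genericPoint Y := by
      have : genericPoint Y ∈ Set.range (Y.fromSpecStalk (f x)) := by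
        rw [Scheme.range_fromSpecStalk]; exact genericPoint_specializes _
      exact this
    have h3 : (⟨⊥, Ideal.isPrime_bot⟩ : PrimeSpectrum A) ⤳ p₀ :=
      (PrimeSpectrum.le_iff_specializes (R := A) ⟨⊥, Ideal.isPrime_bot⟩ p₀).mp bot_le
    have h4 := h3.map (Y.fromSpecStalk (f x)).continuous
    rw [hp₀] at h4
    exact (h4.antisymm (genericPoint_specializes _)).eq
  rw [← h1, h2]


/-- S9346 -/
theorem s9346 {X Y : Scheme.{u}} [IsIntegral X] [IsIntegral Y] (f : X ⟶ Y) :
    [IsDominant f,
      f.base (genericPoint ↑X) = genericPoint ↑Y,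
      ∃ (U : X.Opens) (V : Y.Opens) (hUV : U ≤ f ⁻¹ᵁ V), IsAffineOpen U ∧ IsAffineOpen V ∧
        (U : Set ↑X).Nonempty ∧ Function.Injective (f.appLE V U hUV),
      ∀ (U : X.Opens) (V : Y.Opens) (hUV : U ≤ f ⁻¹ᵁ V), IsAffineOpen U → IsAffineOpen V →
        (U : Set ↑X).Nonempty → Function.Injective (f.appLE V U hUV),
      ∃ x : ↑X, Function.Injective (f.stalkMap x),
      ∀ x : ↑X, Function.Injective (f.stalkMap x)].TFAE := by
  tfae_have 1 → 2 := fun h => BirFlat.map_genericPoint f
  tfae_have 2 → 1 := by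
    intro h
    refine ⟨?_⟩
    rw [DenseRange, dense_iff_closure_eq]
    apply Set.eq_univ_of_univ_subset
    rw [← (genericPoint_spec Y).def]
    exact closure_mono (Set.singleton_subset_iff.mpr ⟨genericPoint X, h⟩)
  tfae_have 2 → 6 := fun h x => stalkMap_injective_of_generic f h x
  tfae_have 6 → 5 := by
    intro h
    obtain ⟨x⟩ : Nonempty X := inferInstance
    exact ⟨x, h x⟩
  tfae_have 5 → 2 := by
    rintro ⟨x, hx⟩
    exact generic_of_stalkMap_injective f x hx
  tfae_have 2 → 4 := by
    intro h U V hUV hU hV hne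
    obtain ⟨x, hxU⟩ := hne
    rw [injective_iff_map_eq_zero]
    intro s hs
    have h1 := germ_appLE f U V hUV x hxU s
    rw [hs, map_zero] at h1
    have h2 : Y.presheaf.germ V (f x) (hUV hxU) s = 0 :=
      stalkMap_injective_of_generic f h x (by rw [← h1, map_zero])
    exact germ_injective_of_isIntegral Y (f x) (hUV hxU) (by rw [h2, map_zero])
  tfae_have 4 → 3 := by
    intro h
    obtain ⟨x⟩ : Nonempty X := inferInstance
    obtain ⟨_, ⟨(V : Y.Opens), hV, rfl⟩, hxV, -⟩ :=
      Y.isBasis_affineOpens.exists_subset_of_mem_open (Set.mem_univ (f x)) isOpen_univ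
    obtain ⟨_, ⟨(U : X.Opens), hU, rfl⟩, hxU, hUV⟩ :=
      X.isBasis_affineOpens.exists_subset_of_mem_open (show x ∈ f ⁻¹ᵁ V from hxV) (f ⁻¹ᵁ V).2
    exact ⟨U, V, hUV, hU, hV, ⟨x, hxU⟩, h U V hUV hU hV ⟨x, hxU⟩⟩
  tfae_have 3 → 5 := by
    rintro ⟨U, V, hUV, hU, hV, ⟨x, hxU⟩, hinj⟩
    refine ⟨x, ?_⟩
    refine hV.stalkMap_injective f x (hUV hxU) ?_
    intro g hg
    have h1 := germ_appLE f U V hUV x hxU g
    rw [hg] at h1
    have h2 : f.appLE V U hUV g = 0 :=
      germ_injective_of_isIntegral X x hxU (by rw [h1, map_zero])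
    have h3 : g = 0 := hinj (by rw [h2, map_zero])
    rw [h3, map_zero]
  tfae_finish

end Groth.Agent.Helper3.DomTfae
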