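import Mathlib
import Groth.Prelude
import Groth.Agent.Helper3.AffPts1
import Groth.Agent.S7659
import Groth.Agent.S7658
import Groth.Agent.S0411
import Groth.Agent.Helper3.DomTfae

set_option autoImplicit false
set_option linter.style.haveILetI false
set_option linter.unusedSectionVars false
set_option linter.unusedVariables false
set_option linter.deprecated false
set_option linter.style.haveILetI false
set_option linter.unusedSectionVars false
set_option linter.unusedVariables false

universe u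

open AlgebraicGeometry CategoryTheory Limits TopologicalSpace

namespace Groth.Agent.Helper3.AffPts

/-- a morphism with dense range between integral schemes maps the generic point to the generic
point -/
theorem map_genericPoint_of_denseRange {T T' : Scheme.{u}} [IsIntegral T] [IsIntegral T']
    (h : T ⟶ T') (hd : DenseRange h) : h (genericPoint T) = genericPoint T' := by
  have h1 : IsGenericPoint (h (genericPoint T)) (closure (h '' Set.univ)) :=
    (genericPoint_spec T).image h.continuous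
  rw [Set.image_univ, hd.closure_range] at h1
  exact h1.eq (genericPoint_spec T')

/-- if a composite of ring maps is bijective and the second is injective, both are bijective -/
theorem isIso_of_comp_isIso_of_injective {A B C : CommRingCat.{u}} (a : A ⟶ B) (b : B ⟶ C)
    [IsIso (a ≫ b)] (hb : Function.Injective b.hom) : IsIso a := by
  have hab : Function.Bijective (a ≫ b).hom := ConcreteCategory.bijective_of_isIso _
  have hbs : Function.Surjective b.hom := by
    intro c
    obtain ⟨x, hx⟩ := hab.2 c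
    exact ⟨a.hom x, hx⟩
  haveI : IsIso b := (ConcreteCategory.isIso_iff_bijective b).2 ⟨hb, hbs⟩
  exact IsIso.of_isIso_comp_right a b

/-- the scheme-theoretic image of an affine integral scheme in an affine scheme -/
theorem exists_integral_affine_finiteType_factor {T X : Scheme.{u}} (f : T ⟶ X) [IsAffine T]
    [IsIntegral T] [CompactSpace X] [QuasiSeparatedSpace X] :
    ∃ (T' : Scheme.{u}) (_ : IsAffine T') (_ : IsIntegral T') (h : T ⟶ T') (g : T' ⟶ X),
      LocallyOfFiniteType g ∧ h ≫ g = f ∧ h (genericPoint T) = genericPoint T' := by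
  obtain ⟨T₁, hT₁, π, g₁, hg₁, hfac⟩ := exists_affine_finitePresentation_factor f
  let φ : Γ(T₁, ⊤) ⟶ Γ(T, ⊤) := π.appTop
  let K : Ideal Γ(T₁, ⊤) := RingHom.ker φ.hom
  let Q : CommRingCat.{u} := CommRingCat.of (Γ(T₁, ⊤) ⧸ K)
  let q : Γ(T₁, ⊤) ⟶ Q := CommRingCat.ofHom (Ideal.Quotient.mk K)
  let φ' : Q ⟶ Γ(T, ⊤) := CommRingCat.ofHom (RingHom.kerLift φ.hom)
  have hφ' : Function.Injective φ'.hom := RingHom.kerLift_injective φ.hom
  have hqφ : q ≫ φ' = φ := by
    ext a
    rfl
  haveI : Nonempty T := inferInstance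
  haveI : Nonempty (⊤ : T.Opens) := ⟨⟨Classical.arbitrary T, trivial⟩⟩
  haveI : IsDomain Γ(T, ⊤) := inferInstance
  haveI : IsDomain Q := hφ'.isDomain φ'.hom
  let j : Spec Q ⟶ T₁ := Spec.map q ≫ T₁.isoSpec.inv
  let h : T ⟶ Spec Q := T.isoSpec.hom ≫ Spec.map φ'
  haveI : IsClosedImmersion (Spec.map q) :=
    IsClosedImmersion.spec_of_surjective q Ideal.Quotient.mk_surjective
  haveI : IsClosedImmersion j := inferInstance
  have hhj : h ≫ j = π := by
    show (T.isoSpec.hom ≫ Spec.map φ') ≫ Spec.map q ≫ T₁.isoSpec.inv = π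
    rw [Category.assoc, ← Spec.map_comp_assoc, hqφ, Scheme.isoSpec_hom_naturality_assoc,
      Iso.hom_inv_id, Category.comp_id]
  have hd : DenseRange h := by
    have h1 : DenseRange (Spec.map φ') := by
      have := (PrimeSpectrum.denseRange_comap_iff_ker_le_nilRadical φ'.hom).2 (by
        rw [(RingHom.injective_iff_ker_eq_bot _).1 hφ']
        exact bot_le)
      exact this
    have h2 : Function.Surjective T.isoSpec.hom :=
      (T.isoSpec.hom.homeomorph).surjective
    exact h1.comp h2.denseRange (Spec.map φ').continuous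
  refine ⟨Spec Q, inferInstance, inferInstance, h, j ≫ g₁, inferInstance, ?_,
    map_genericPoint_of_denseRange h hd⟩
  rw [← Category.assoc, hhj, hfac]


theorem eq_genericPoint_of_closure_mem {U : Scheme.{u}} [IsIntegral U] (ξ : U)
    (hξ : closure ({ξ} : Set U) ∈ irreducibleComponents (U : Type u)) : ξ = genericPoint U := by
  rw [irreducibleComponents_eq_singleton, Set.mem_singleton_iff] at hξ
  have h1 : IsGenericPoint ξ (⊤ : Set U) := hξ
  exact h1.eq (genericPoint_spec U)

theorem integral_case_qcqs {T X : Scheme.{u}} (f : T ⟶ X) [IsAffine T] [IsIntegral T]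
    [IsIntegral X] [CompactSpace X] [QuasiSeparatedSpace X]
    (hdom : f (genericPoint T) = genericPoint X)
    (s : Finset T) (hs : ∀ t ∈ s, IsIso (f.stalkMap t)) :
    ∃ U : X.Opens, IsAffineOpen U ∧ ∀ t ∈ s, f t ∈ U := by
  classical
  by_cases hse : s = ∅
  · subst hse
    exact ⟨⊥, isAffineOpen_bot X, by simp⟩
  obtain ⟨t₀, ht₀⟩ := Finset.nonempty_iff_ne_empty.2 hse
  obtain ⟨T', hT'a, hT'i, h, g, hg, hfac, hgen⟩ := exists_integral_affine_finiteType_factor f
  subst hfac
  -- stalk isomorphisms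
  have hstalk : ∀ t ∈ s, IsIso (g.stalkMap (h t)) := by
    intro t ht
    have h1 : IsIso (g.stalkMap (h t) ≫ h.stalkMap t) := by
      rw [← Scheme.Hom.stalkMap_comp]
      exact hs t ht
    exact isIso_of_comp_isIso_of_injective _ _
      (DomTfae.stalkMap_injective_of_generic h hgen t)
  have hfin : (irreducibleComponents (X : Type u)).Finite := by
    rw [irreducibleComponents_eq_singleton]
    exact Set.finite_singleton _
  have hopen : ∀ t : s, ∃ U : T'.Opens, h t.1 ∈ U ∧ IsOpenImmersion (U.ι ≫ g) :=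
    fun t => Groth.Agent.S7659.result g hfin (h t.1) (hstalk t.1 t.2)
  choose Ut hUt hUo using hopen
  let U : T'.Opens := ⨆ t : s, Ut t
  have hmemU : ∀ t : s, h t.1 ∈ U := fun t => Opens.mem_iSup.2 ⟨t, hUt t⟩
  haveI : Nonempty U := ⟨⟨h t₀, hmemU ⟨t₀, ht₀⟩⟩⟩
  haveI : IsIntegral U.toScheme := inferInstance
  haveI : U.toScheme.IsSeparated := ⟨by
    rw [← terminal.comp_from U.ι]; infer_instance⟩
  let gU : U.toScheme ⟶ X := U.ι ≫ g
  haveI : IsOpenImmersion gU := by
    apply Groth.Agent.S7658.result gU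
    · intro x
      obtain ⟨t, hxt⟩ := Opens.mem_iSup.1 x.2
      refine ⟨U.ι ⁻¹ᵁ (Ut t), hxt, ?_⟩
      have hr : Set.range ((U.ι ⁻¹ᵁ (Ut t)).ι ≫ U.ι) ⊆ Set.range (Ut t).ι := by
        rintro _ ⟨y, rfl⟩
        rw [Scheme.Opens.range_ι]
        exact y.2
      let k := IsOpenImmersion.lift (Ut t).ι ((U.ι ⁻¹ᵁ (Ut t)).ι ≫ U.ι) hr
      have hk : k ≫ (Ut t).ι = (U.ι ⁻¹ᵁ (Ut t)).ι ≫ U.ι := IsOpenImmersion.lift_fac _ _ _
      haveI : IsOpenImmersion (k ≫ (Ut t).ι) := by rw [hk]; infer_instance
      haveI : IsOpenImmersion k := IsOpenImmersion.of_comp k (Ut t).ι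
      haveI := hUo t
      have : (U.ι ⁻¹ᵁ (Ut t)).ι ≫ gU = k ≫ ((Ut t).ι ≫ g) := by
        show (U.ι ⁻¹ᵁ (Ut t)).ι ≫ U.ι ≫ g = _
        rw [← Category.assoc, ← hk, Category.assoc]
      rw [this]
      infer_instance
    · intro ξ ξ' hξ hξ' _
      rw [eq_genericPoint_of_closure_mem ξ hξ, eq_genericPoint_of_closure_mem ξ' hξ']
  let E : Finset U.toScheme := s.attach.image (fun t => (⟨h t.1, hmemU t⟩ : U))
  obtain ⟨W, hW, hEW⟩ := Groth.Agent.S0411.result U.ι E
  refine ⟨gU ''ᵁ W, hW.image_of_isOpenImmersion gU, ?_⟩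
  intro t ht
  have h1 : (⟨h t, hmemU ⟨t, ht⟩⟩ : U) ∈ W :=
    hEW _ (Finset.mem_image.2 ⟨⟨t, ht⟩, Finset.mem_attach _ _, rfl⟩)
  exact ⟨_, h1, rfl⟩

end Groth.Agent.Helper3.AffPts
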