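import Mathlib
import Groth.Prelude
import Groth.Agent.Helper3.AffPts2

set_option autoImplicit false
set_option linter.style.haveILetI false
set_option linter.unusedSectionVars false
set_option linter.unusedVariables false
set_option linter.deprecated false
set_option linter.style.haveILetI false
set_option linter.unusedSectionVars false
set_option linter.unusedVariables false

universe u

open AlgebraicGeometry CategoryTheory Limits TopologicalSpace

namespace Groth.Agent.Helper3.AffPts

/-- the image of a morphism from a quasi-compact scheme lies in a quasi-compact open -/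
theorem exists_isCompact_opens_range_le {T X : Scheme.{u}} (f : T ⟶ X) [CompactSpace T] :
    ∃ X' : X.Opens, IsCompact (X' : Set X) ∧ Set.range f ⊆ (X' : Set X) := by
  have hc : IsCompact (Set.range f) := isCompact_range f.continuous
  obtain ⟨t, ht⟩ := hc.elim_finite_subcover
    (fun x : X.affineCover.I₀ => ((X.affineCover.f x).opensRange : Set X))
    (fun x => (X.affineCover.f x).opensRange.isOpen)
    (fun y _ => Set.mem_iUnion.2 ⟨X.affineCover.idx y, X.affineCover.covers y⟩)
  refine ⟨⨆ x : t, (X.affineCover.f x.1).opensRange, ?_, ?_⟩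
  · rw [Opens.coe_iSup]
    apply isCompact_iUnion
    intro x
    exact isCompact_range (X.affineCover.f x.1).continuous
  · intro y hy
    obtain ⟨x, hx⟩ := Set.mem_iUnion.1 (ht hy)
    obtain ⟨hxt, hyx⟩ := Set.mem_iUnion.1 hx
    rw [Opens.coe_iSup]
    exact Set.mem_iUnion.2 ⟨⟨x, hxt⟩, hyx⟩

theorem integral_case {T X : Scheme.{u}} (f : T ⟶ X) [IsAffine T] [IsIntegral T]
    [IsIntegral X] [QuasiSeparatedSpace X]
    (hdom : f (genericPoint T) = genericPoint X)
    (s : Finset T) (hs : ∀ t ∈ s, IsIso (f.stalkMap t)) :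
    ∃ U : X.Opens, IsAffineOpen U ∧ ∀ t ∈ s, f t ∈ U := by
  obtain ⟨X', hX'c, hX'r⟩ := exists_isCompact_opens_range_le f
  haveI : CompactSpace X' := isCompact_iff_compactSpace.1 hX'c
  haveI : QuasiSeparatedSpace X'.toScheme := quasiSeparatedSpace_of_quasiSeparated X'.ι
  haveI : Nonempty X' := ⟨⟨f (genericPoint T), hX'r ⟨_, rfl⟩⟩⟩
  haveI : IsIntegral X'.toScheme := inferInstance
  have hr : Set.range f ⊆ Set.range X'.ι := by
    rw [Scheme.Opens.range_ι]; exact hX'r
  let f₁ : T ⟶ X'.toScheme := IsOpenImmersion.lift X'.ι f hr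
  have hfac : f₁ ≫ X'.ι = f := IsOpenImmersion.lift_fac _ _ _
  have hdom₁ : f₁ (genericPoint T) = genericPoint X'.toScheme := by
    apply X'.ι.isOpenEmbedding.injective
    rw [← Scheme.Hom.comp_apply, hfac, hdom]
    exact (genericPoint_eq_of_isOpenImmersion X'.ι).symm
  have hs₁ : ∀ t ∈ s, IsIso (f₁.stalkMap t) := by
    intro t ht
    have key : ∀ (f' : T ⟶ X) (e : f' = f), IsIso (f'.stalkMap t) := by
      rintro _ rfl; exact hs t ht
    have h1 := key _ hfac
    rw [Scheme.Hom.stalkMap_comp] at h1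
    exact @IsIso.of_isIso_comp_left _ _ _ _ _ (X'.ι.stalkMap (f₁ t)) (f₁.stalkMap t)
      inferInstance h1
  obtain ⟨U₁, hU₁, hU₁s⟩ := integral_case_qcqs f₁ hdom₁ s hs₁
  refine ⟨X'.ι ''ᵁ U₁, hU₁.image_of_isOpenImmersion X'.ι, ?_⟩
  intro t ht
  refine ⟨f₁ t, hU₁s t ht, ?_⟩
  exact congrArg (fun φ : T ⟶ X => φ t) hfac

end Groth.Agent.Helper3.AffPts
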