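import Mathlib
import Groth.Prelude
import Groth.Agent.Helper3.AffPts3
import Groth.Agent.Helper3.AffFin3

set_option autoImplicit false
set_option linter.style.haveILetI false
set_option linter.unusedSectionVars false
set_option linter.unusedVariables false
set_option linter.deprecated false
set_option linter.style.haveILetI false
set_option linter.unusedSectionVars false
set_option linter.unusedVariables false

universe u

open AlgebraicGeometry CategoryTheory Limits TopologicalSpace

namespace Groth.Agent.Helper3.AffPts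

open Scheme.IdealSheafData in
/-- The vanishing ideal of a closed set defines a reduced subscheme (copied from
`Groth.Agent.Lead.VanBCA`). -/
theorem isReduced_subscheme_vanishingIdeal {X : Scheme.{u}} (C : Closeds X) :
    IsReduced (vanishingIdeal C).subscheme := by
  haveI : ∀ U, IsReduced ((vanishingIdeal C).subschemeCover.openCover.X U) := by
    intro (U : X.affineOpens)
    change IsReduced (Spec (.of (Γ(X, U.1) ⧸ (vanishingIdeal C).ideal U)))
    haveI : _root_.IsReduced (Γ(X, U) ⧸ (vanishingIdeal C).ideal U) := by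
      rw [vanishingIdeal_ideal]
      exact (Ideal.isRadical_iff_quotient_reduced _).mp
        (PrimeSpectrum.isRadical_vanishingIdeal _)
    infer_instance
  exact IsReduced.of_openCover _ (vanishingIdeal C).subschemeCover.openCover

theorem range_vanishingIdeal_subschemeι {X : Scheme.{u}} (C : Closeds X) :
    Set.range (Scheme.IdealSheafData.vanishingIdeal C).subschemeι = (C : Set X) := by
  rw [Scheme.IdealSheafData.range_subschemeι, Scheme.IdealSheafData.coe_support_vanishingIdeal]

theorem isIntegral_subscheme {X : Scheme.{u}} (Y : Closeds X) (hirr : IsIrreducible (Y : Set X)) :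
    IsIntegral (Scheme.IdealSheafData.vanishingIdeal Y).subscheme := by
  haveI : IsReduced (Scheme.IdealSheafData.vanishingIdeal Y).subscheme :=
    isReduced_subscheme_vanishingIdeal Y
  haveI : IrreducibleSpace (Scheme.IdealSheafData.vanishingIdeal Y).subscheme := by
    have e := (Scheme.IdealSheafData.vanishingIdeal Y).subschemeι.isClosedEmbedding.isEmbedding.toHomeomorph
    rw [e.irreducibleSpace_iff]
    apply Subtype.irreducibleSpace
    rw [range_vanishingIdeal_subschemeι]
    exact hirr
  exact isIntegral_of_irreducibleSpace_of_isReduced _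

/-- a morphism from a reduced scheme with set-theoretic image in a closed subset factors through
the reduced induced subscheme (copied from `Groth.Agent.Helper5.SecComp`) -/
theorem exists_lift_of_isReduced {W X : Scheme.{u}} [IsReduced W] (g : W ⟶ X) (Z : Closeds X)
    (h : Set.range g ⊆ (Z : Set X)) :
    ∃ τ : W ⟶ (Scheme.IdealSheafData.vanishingIdeal Z).subscheme,
      τ ≫ (Scheme.IdealSheafData.vanishingIdeal Z).subschemeι = g := by
  have H : (Scheme.IdealSheafData.vanishingIdeal Z).subschemeι.ker ≤ g.ker := by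
    rw [Scheme.IdealSheafData.ker_subschemeι, ← Scheme.IdealSheafData.map_bot,
      ← Scheme.nilradical_eq_bot, ← Scheme.IdealSheafData.vanishingIdeal_top,
      Scheme.IdealSheafData.map_vanishingIdeal]
    apply Scheme.IdealSheafData.vanishingIdeal_antimono
    rw [TopologicalSpace.Closeds.closure_le]
    rintro _ ⟨w, -, rfl⟩
    exact h ⟨w, rfl⟩
  exact ⟨IsClosedImmersion.lift _ g H, IsClosedImmersion.lift_fac _ g H⟩

/-- the image of the generic point of the reduced subscheme on an irreducible closed set is the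
generic point of that set -/
theorem isGenericPoint_subschemeι {X : Scheme.{u}} (Y : Closeds X)
    [IsIntegral (Scheme.IdealSheafData.vanishingIdeal Y).subscheme] :
    IsGenericPoint ((Scheme.IdealSheafData.vanishingIdeal Y).subschemeι
      (genericPoint (Scheme.IdealSheafData.vanishingIdeal Y).subscheme)) (Y : Set X) := by
  have h1 := (genericPoint_spec (Scheme.IdealSheafData.vanishingIdeal Y).subscheme).image
    (Scheme.IdealSheafData.vanishingIdeal Y).subschemeι.continuous
  rw [Set.image_univ, range_vanishingIdeal_subschemeι, Y.isClosed.closure_eq] at h1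
  exact h1

/-- a generization of `t` mapping to a given generization of `f t`, when the stalk map is an
isomorphism -/
theorem exists_generization_of_isIso_stalkMap {T X : Scheme.{u}} (f : T ⟶ X) (t : T)
    [IsIso (f.stalkMap t)] (θ : X) (hθ : θ ⤳ f t) : ∃ η : T, η ⤳ t ∧ f η = θ := by
  have h1 : θ ∈ Set.range (X.fromSpecStalk (f t)) := by
    rw [Scheme.range_fromSpecStalk]; exact hθ
  obtain ⟨p, hp⟩ := h1
  haveI : IsIso (Spec.map (f.stalkMap t)) := inferInstance
  obtain ⟨p', hp'⟩ := (Spec.map (f.stalkMap t)).homeomorph.surjective p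
  refine ⟨T.fromSpecStalk t p', ?_, ?_⟩
  · have : T.fromSpecStalk t p' ∈ Set.range (T.fromSpecStalk t) := ⟨p', rfl⟩
    rw [Scheme.range_fromSpecStalk] at this
    exact this
  · have h2 := congrArg (fun φ : Spec (T.presheaf.stalk t) ⟶ X => φ p')
      (Scheme.SpecMap_stalkMap_fromSpecStalk f (x := t))
    have h3 : X.fromSpecStalk (f t) (Spec.map (f.stalkMap t) p') = f (T.fromSpecStalk t p') := h2
    rw [← h3, ← hp]
    congr 1

/-- in a scheme, every point has a generization which is the generic point of an irreducible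
component -/
theorem exists_maximal_generization {T : Scheme.{u}} (η₁ : T) :
    ∃ η : T, closure ({η} : Set T) ∈ irreducibleComponents (T : Type u) ∧ η ⤳ η₁ := by
  obtain ⟨η, hη⟩ := QuasiSober.sober (isIrreducible_irreducibleComponent (x := η₁))
    isClosed_irreducibleComponent
  refine ⟨η, ?_, ?_⟩
  · rw [hη.def]; exact irreducibleComponent_mem_irreducibleComponents η₁
  · rw [specializes_iff_mem_closure, hη.def]; exact mem_irreducibleComponent


theorem stalkMap_comp_surjective {A B C : Scheme.{u}} (a : A ⟶ B) (b : B ⟶ C) (x : A)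
    (ha : Function.Surjective (a.stalkMap x).hom)
    (hb : Function.Surjective (b.stalkMap (a x)).hom) :
    Function.Surjective ((a ≫ b).stalkMap x).hom := by
  intro z
  obtain ⟨y, rfl⟩ := ha z
  obtain ⟨w, rfl⟩ := hb y
  exact ⟨w, by rw [Scheme.Hom.stalkMap_comp]; rfl⟩

theorem surjective_of_stalkMap_comp_surjective {A B C : Scheme.{u}} (a : A ⟶ B) (b : B ⟶ C)
    (x : A) (h : Function.Surjective ((a ≫ b).stalkMap x).hom) :
    Function.Surjective (a.stalkMap x).hom := by
  intro z
  obtain ⟨w, hw⟩ := h z
  refine ⟨(b.stalkMap (a x)).hom w, ?_⟩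
  rw [← hw, Scheme.Hom.stalkMap_comp]
  rfl

theorem component_case {T X : Scheme.{u}} (f : T ⟶ X) [IsAffine T] [QuasiSeparatedSpace X]
    (hinj : ∀ η η' : T, closure ({η} : Set T) ∈ irreducibleComponents (T : Type u) →
      closure ({η'} : Set T) ∈ irreducibleComponents (T : Type u) → f η = f η' → η = η')
    (C : Closeds X) (hZ : (C : Set X) ∈ irreducibleComponents (X : Type u))
    (E : Finset T) (hEne : E.Nonempty) (hEZ : ∀ t ∈ E, f t ∈ (C : Set X))
    (hE : ∀ t ∈ E, IsIso (f.stalkMap t)) :
    ∃ V : (Scheme.IdealSheafData.vanishingIdeal C).subscheme.Opens,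
      IsAffineOpen V ∧ ∀ t ∈ E, f t ∈
        (Scheme.IdealSheafData.vanishingIdeal C).subschemeι '' (V : Set _) := by
  classical
  have hZirr : IsIrreducible (C : Set X) := hZ.1
  haveI : IsIntegral (Scheme.IdealSheafData.vanishingIdeal C).subscheme :=
    isIntegral_subscheme C hZirr
  set ι := (Scheme.IdealSheafData.vanishingIdeal C).subschemeι with hι
  set θ : X := ι (genericPoint (Scheme.IdealSheafData.vanishingIdeal C).subscheme) with hθdef
  have hθ : IsGenericPoint θ (C : Set X) := isGenericPoint_subschemeι C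
  -- maximality of θ
  have hmax : ∀ y : X, y ⤳ θ → y = θ := by
    intro y hy
    have h1 : (C : Set X) ⊆ closure {y} := by
      rw [← hθ.def]
      exact hy.closure_subset  -- closure {θ} ⊆ closure {y}
    have h2 : closure ({y} : Set X) ⊆ (C : Set X) :=
      hZ.2 isIrreducible_singleton.closure h1
    have h3 : θ ⤳ y := by
      rw [specializes_iff_mem_closure, hθ.def]
      exact h2 (subset_closure rfl)
    exact (h3.antisymm hy).eq.symm
  -- generic points over θ
  have hgenpt : ∀ t ∈ E, ∃ η : T, closure ({η} : Set T) ∈ irreducibleComponents (T : Type u) ∧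
      η ⤳ t ∧ f η = θ := by
    intro t ht
    haveI := hE t ht
    have h1 : θ ⤳ f t := by
      rw [specializes_iff_mem_closure, hθ.def]; exact hEZ t ht
    obtain ⟨η₁, hη₁t, hη₁⟩ := exists_generization_of_isIso_stalkMap f t θ h1
    obtain ⟨η, hη, hηη₁⟩ := exists_maximal_generization η₁
    refine ⟨η, hη, hηη₁.trans hη₁t, ?_⟩
    apply hmax
    rw [← hη₁]
    exact hηη₁.map f.continuous
  obtain ⟨t₀, ht₀⟩ := hEne
  obtain ⟨η, hηc, hηt₀, hηθ⟩ := hgenpt t₀ ht₀
  have hηall : ∀ t ∈ E, η ⤳ t := by
    intro t ht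
    obtain ⟨η', hη'c, hη't, hη'θ⟩ := hgenpt t ht
    have : η = η' := hinj η η' hηc hη'c (hηθ.trans hη'θ.symm)
    rw [this]; exact hη't
  -- the closed subscheme of `T`
  let Cη : Closeds T := ⟨closure {η}, isClosed_closure⟩
  haveI : IsIntegral (Scheme.IdealSheafData.vanishingIdeal Cη).subscheme :=
    isIntegral_subscheme Cη isIrreducible_singleton.closure
  set ιT := (Scheme.IdealSheafData.vanishingIdeal Cη).subschemeι with hιT
  haveI : IsAffine (Scheme.IdealSheafData.vanishingIdeal Cη).subscheme :=
    isAffine_of_isAffineHom ιT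
  have hrT : Set.range ιT = closure ({η} : Set T) := range_vanishingIdeal_subschemeι Cη
  have hξT : ιT (genericPoint (Scheme.IdealSheafData.vanishingIdeal Cη).subscheme) = η := by
    have h1 : IsGenericPoint (ιT (genericPoint _)) (Cη : Set T) := isGenericPoint_subschemeι Cη
    have h2 : IsGenericPoint η (Cη : Set T) := rfl
    exact h1.eq h2
  have hrange : Set.range (ιT ≫ f) ⊆ (C : Set X) := by
    rintro _ ⟨y, rfl⟩
    have h1 : ιT y ∈ closure ({η} : Set T) := hrT ▸ ⟨y, rfl⟩
    have h2 : η ⤳ ιT y := specializes_iff_mem_closure.2 h1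
    have h3 : f η ⤳ f (ιT y) := h2.map f.continuous
    rw [hηθ] at h3
    have h4 := specializes_iff_mem_closure.1 h3
    rw [hθ.def] at h4
    exact h4
  obtain ⟨τ, hτ⟩ := exists_lift_of_isReduced (ιT ≫ f) C hrange
  have hτgen : τ (genericPoint (Scheme.IdealSheafData.vanishingIdeal Cη).subscheme) =
      genericPoint (Scheme.IdealSheafData.vanishingIdeal C).subscheme := by
    apply ι.isClosedEmbedding.injective
    have h1 := congrArg (fun φ : (Scheme.IdealSheafData.vanishingIdeal Cη).subscheme ⟶ X =>
      φ (genericPoint _)) hτ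
    have h2 : ι (τ (genericPoint _)) = f (ιT (genericPoint _)) := h1
    rw [h2, hξT, hηθ]
  -- the points
  have hpts : ∀ t : E, ∃ t' : (Scheme.IdealSheafData.vanishingIdeal Cη).subscheme, ιT t' = t.1 := by
    intro t
    have h1 : t.1 ∈ Set.range ιT := by
      rw [hrT]; exact specializes_iff_mem_closure.1 (hηall t.1 t.2)
    exact h1
  choose pt hpt using hpts
  let E' : Finset (Scheme.IdealSheafData.vanishingIdeal Cη).subscheme := E.attach.image pt
  have hE' : ∀ t' ∈ E', IsIso (τ.stalkMap t') := by
    intro t' ht'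
    obtain ⟨t, -, rfl⟩ := Finset.mem_image.1 ht'
    have hiso : IsIso (f.stalkMap (ιT (pt t))) := by
      rw [hpt t]; exact hE t.1 t.2
    have hsurj1 : Function.Surjective ((ιT ≫ f).stalkMap (pt t)).hom :=
      stalkMap_comp_surjective ιT f (pt t) (ιT.stalkMap_surjective (pt t))
        (ConcreteCategory.bijective_of_isIso (f.stalkMap (ιT (pt t)))).2
    have key : ∀ (φ : (Scheme.IdealSheafData.vanishingIdeal Cη).subscheme ⟶ X) (e : τ ≫ ι = φ),
        Function.Surjective (φ.stalkMap (pt t)).hom →
          Function.Surjective (τ.stalkMap (pt t)).hom := by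
      rintro _ rfl h
      exact surjective_of_stalkMap_comp_surjective τ ι (pt t) h
    have hsurj : Function.Surjective (τ.stalkMap (pt t)).hom := key _ hτ hsurj1
    have hinj' : Function.Injective (τ.stalkMap (pt t)).hom :=
      DomTfae.stalkMap_injective_of_generic τ hτgen (pt t)
    exact (ConcreteCategory.isIso_iff_bijective _).2 ⟨hinj', hsurj⟩
  haveI : QuasiSeparatedSpace (Scheme.IdealSheafData.vanishingIdeal C).subscheme :=
    quasiSeparatedSpace_of_quasiSeparated ι
  obtain ⟨V, hV, hVE⟩ := integral_case τ hτgen E' hE'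
  refine ⟨V, hV, ?_⟩
  intro t ht
  refine ⟨τ (pt ⟨t, ht⟩), hVE _ (Finset.mem_image.2 ⟨⟨t, ht⟩, Finset.mem_attach _ _, rfl⟩), ?_⟩
  have h1 := congrArg (fun φ : (Scheme.IdealSheafData.vanishingIdeal Cη).subscheme ⟶ X =>
    φ (pt ⟨t, ht⟩)) hτ
  have h2 : ι (τ (pt ⟨t, ht⟩)) = f (ιT (pt ⟨t, ht⟩)) := h1
  rw [h2, hpt]

theorem main {T X : Scheme.{u}} (f : T ⟶ X)
    [IsAffine T] [QuasiSeparatedSpace X] (hX : (irreducibleComponents (X : Type u)).Finite)
    (hinj : ∀ η η' : T, closure ({η} : Set T) ∈ irreducibleComponents (T : Type u) →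
      closure ({η'} : Set T) ∈ irreducibleComponents (T : Type u) → f η = f η' → η = η')
    (s : Finset T) (hs : ∀ t ∈ s, IsIso (f.stalkMap t)) :
    ∃ U : X.Opens, IsAffineOpen U ∧ ∀ t ∈ s, f t ∈ U := by
  classical
  have hcomp : ∀ (Z : Set X) (hZ : Z ∈ irreducibleComponents (X : Type u)),
      Groth.Agent.Helper3.AffFin.HasAff ((s.image (fun t => f t) : Finset X) : Set X)
        ⟨Z, isClosed_of_mem_irreducibleComponents Z hZ⟩ := by
    intro Z hZ
    let C : Closeds X := ⟨Z, isClosed_of_mem_irreducibleComponents Z hZ⟩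
    let E : Finset T := s.filter (fun t => f t ∈ Z)
    by_cases hE : E.Nonempty
    · obtain ⟨V, hV, hVE⟩ := component_case f hinj C hZ E hE
        (fun t ht => (Finset.mem_filter.1 ht).2) (fun t ht => hs t (Finset.mem_filter.1 ht).1)
      refine ⟨V, hV, ?_⟩
      intro x hx hxZ
      obtain ⟨t, ht, rfl⟩ := Finset.mem_image.1 (Finset.mem_coe.1 hx)
      exact hVE t (Finset.mem_filter.2 ⟨ht, hxZ⟩)
    · refine ⟨⊥, isAffineOpen_bot _, ?_⟩
      intro x hx hxZ
      obtain ⟨t, ht, rfl⟩ := Finset.mem_image.1 (Finset.mem_coe.1 hx)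
      exact (hE ⟨t, Finset.mem_filter.2 ⟨ht, hxZ⟩⟩).elim
  obtain ⟨U, hU, hUs⟩ := Groth.Agent.Helper3.AffFin.exists_affineOpen_of_components hX
    ((s.image (fun t => f t) : Finset X) : Set X) (Finset.finite_toSet _) hcomp
  exact ⟨U, hU, fun t ht => hUs (Finset.mem_coe.2 (Finset.mem_image.2 ⟨t, ht, rfl⟩))⟩

end Groth.Agent.Helper3.AffPts
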