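import Mathlib
import Groth.Prelude
import Groth.Agent.Helper3.AffDim1A
import Groth.Agent.Helper3.AffPts4

set_option autoImplicit false
set_option linter.style.haveILetI false
set_option linter.unusedSectionVars false
set_option linter.unusedVariables false
set_option linter.deprecated false
set_option linter.style.haveILetI false
set_option linter.unusedSectionVars false
set_option linter.unusedVariables false

universe u

namespace Groth.Agent.Helper3.AffDim1

open AlgebraicGeometry CategoryTheory CategoryTheory.Limits TopologicalSpace IsLocalRing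

theorem comap_eq_maximalIdeal {A K : Type u} [CommRing A] [IsDomain A] [IsLocalRing A]
    [Ring.KrullDimLE 1 A] [Field K] [Algebra A K] [IsFractionRing A K] (D : Subring K)
    (hD : (algebraMap A K).range ≤ D) (M : Ideal D) [M.IsPrime] (hM : M ≠ ⊥) :
    M.comap ((Subring.inclusion hD).comp (algebraMap A K).rangeRestrict) = maximalIdeal A := by
  have hprime : (M.comap ((Subring.inclusion hD).comp (algebraMap A K).rangeRestrict)).IsPrime :=
    Ideal.comap_isPrime _ _
  have hne : M.comap ((Subring.inclusion hD).comp (algebraMap A K).rangeRestrict) ≠ ⊥ := by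
    obtain ⟨d, hdM, hd0⟩ := Submodule.exists_mem_ne_zero_of_ne_bot hM
    obtain ⟨a, b, hb, hab⟩ := IsFractionRing.div_surjective (A := A) (d : K)
    have hbK : algebraMap A K b ≠ 0 := by
      simpa using (IsFractionRing.injective A K).ne (nonZeroDivisors.ne_zero hb)
    intro hbot
    have hamem : a ∈ M.comap ((Subring.inclusion hD).comp (algebraMap A K).rangeRestrict) := by
      rw [Ideal.mem_comap]
      have : ((Subring.inclusion hD).comp (algebraMap A K).rangeRestrict) a =
          d * ((Subring.inclusion hD).comp (algebraMap A K).rangeRestrict) b := by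
        apply Subtype.ext
        show algebraMap A K a = (d : K) * algebraMap A K b
        rw [← hab]; field_simp
      rw [this]; exact M.mul_mem_right _ hdM
    rw [hbot, Ideal.mem_bot] at hamem
    apply hd0
    apply Subtype.ext
    rw [← hab, hamem, map_zero, zero_div]; rfl
  exact IsLocalRing.eq_maximalIdeal (hprime.isMaximal_of_ne_bot hne)

section sep
variable {X : Scheme.{u}} [IsIntegral X]

theorem eq_genericPoint_of_isField (x : X) (h : IsField (X.presheaf.stalk x)) :
    x = genericPoint X := by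
  have hspec : genericPoint X ⤳ x := (genericPoint_spec X).specializes trivial
  have hmem : genericPoint X ∈ Set.range (X.fromSpecStalk x) := by
    rw [Scheme.range_fromSpecStalk]; exact hspec
  obtain ⟨p, hp⟩ := hmem
  have hpc : p = closedPoint (X.presheaf.stalk x) := by
    apply PrimeSpectrum.ext
    have h1 : (closedPoint (X.presheaf.stalk x)).asIdeal = ⊥ :=
      IsLocalRing.isField_iff_maximalIdeal_eq.1 h
    rw [h1]
    letI := h.toField
    exact (Ideal.eq_bot_or_top _).resolve_right p.2.ne_top
  rw [hpc, Scheme.fromSpecStalk_closedPoint] at hp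
  exact hp

theorem range_sup_range_eq_top [X.IsSeparated] (x y : X) (hxy : x ≠ y)
    [Ring.KrullDimLE 1 (X.presheaf.stalk x)] [Ring.KrullDimLE 1 (X.presheaf.stalk y)] :
    (algebraMap (X.presheaf.stalk x) X.functionField).range ⊔
      (algebraMap (X.presheaf.stalk y) X.functionField).range = ⊤ := by
  by_contra hne
  set D : Subring X.functionField := (algebraMap (X.presheaf.stalk x) X.functionField).range ⊔
      (algebraMap (X.presheaf.stalk y) X.functionField).range with hD
  have hxD : (algebraMap (X.presheaf.stalk x) X.functionField).range ≤ D := le_sup_left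
  have hyD : (algebraMap (X.presheaf.stalk y) X.functionField).range ≤ D := le_sup_right
  have hDnf : ¬ IsField D := by
    intro hf
    apply hne
    rw [eq_top_iff]
    intro z _
    obtain ⟨a, b, hb, rfl⟩ := IsFractionRing.div_surjective (A := X.presheaf.stalk x) z
    have hb0 : algebraMap (X.presheaf.stalk x) X.functionField b ≠ 0 := by
      simpa using (IsFractionRing.injective (X.presheaf.stalk x) X.functionField).ne
        (nonZeroDivisors.ne_zero hb)
    let b' : D := ⟨algebraMap _ _ b, hxD ⟨b, rfl⟩⟩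
    have hb'0 : b' ≠ 0 := fun h => hb0 (congrArg Subtype.val h)
    obtain ⟨c, hc⟩ := hf.mul_inv_cancel hb'0
    have hc' : algebraMap (X.presheaf.stalk x) X.functionField b * (c : X.functionField) = 1 :=
      congrArg Subtype.val hc
    have : algebraMap (X.presheaf.stalk x) X.functionField a /
        algebraMap (X.presheaf.stalk x) X.functionField b =
        algebraMap (X.presheaf.stalk x) X.functionField a * c := by
      rw [div_eq_iff hb0, mul_assoc, mul_comm (c : X.functionField), hc', mul_one]
    rw [this]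
    exact D.mul_mem (hxD ⟨a, rfl⟩) c.2
  obtain ⟨M, hM⟩ := Ideal.exists_maximal D
  have hMbot : M ≠ ⊥ := Ring.ne_bot_of_isMaximal_of_not_isField hM hDnf
  haveI := hM.isPrime
  let ix : X.presheaf.stalk x →+* D :=
    (Subring.inclusion hxD).comp (algebraMap (X.presheaf.stalk x) X.functionField).rangeRestrict
  let iy : X.presheaf.stalk y →+* D :=
    (Subring.inclusion hyD).comp (algebraMap (X.presheaf.stalk y) X.functionField).rangeRestrict
  have hx : M.comap ix = maximalIdeal _ := comap_eq_maximalIdeal D hxD M hMbot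
  have hy : M.comap iy = maximalIdeal _ := comap_eq_maximalIdeal D hyD M hMbot
  let gx : Spec (CommRingCat.of D) ⟶ X := Spec.map (CommRingCat.ofHom ix) ≫ X.fromSpecStalk x
  let gy : Spec (CommRingCat.of D) ⟶ X := Spec.map (CommRingCat.ofHom iy) ≫ X.fromSpecStalk y
  let ι : Spec X.functionField ⟶ Spec (CommRingCat.of D) :=
    Spec.map (CommRingCat.ofHom D.subtype)
  haveI hdom : IsDominant ι := by
    refine ⟨?_⟩
    show DenseRange (PrimeSpectrum.comap D.subtype)
    rw [PrimeSpectrum.denseRange_comap_iff_ker_le_nilRadical]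
    rw [(RingHom.injective_iff_ker_eq_bot D.subtype).1 Subtype.val_injective]
    exact bot_le
  have hgx : ι ≫ gx = X.fromSpecStalk (genericPoint X) := by
    rw [← Scheme.SpecMap_stalkSpecializes_fromSpecStalk
      ((genericPoint_spec X).specializes (Set.mem_univ x))]
    show Spec.map _ ≫ Spec.map _ ≫ _ = _
    rw [← Spec.map_comp_assoc]
    rfl
  have hgy : ι ≫ gy = X.fromSpecStalk (genericPoint X) := by
    rw [← Scheme.SpecMap_stalkSpecializes_fromSpecStalk
      ((genericPoint_spec X).specializes (Set.mem_univ y))]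
    show Spec.map _ ≫ Spec.map _ ≫ _ = _
    rw [← Spec.map_comp_assoc]
    rfl
  haveI : IsDomain (CommRingCat.of D) := inferInstanceAs (IsDomain D)
  have heq : gx = gy := ext_of_isDominant ι (hgx.trans hgy.symm)
  let pM : Spec (CommRingCat.of D) := ⟨M, hM.isPrime⟩
  have h1 : gx pM = x := by
    show (X.fromSpecStalk x) ((Spec.map (CommRingCat.ofHom ix)) pM) = x
    have : (Spec.map (CommRingCat.ofHom ix)) pM = closedPoint (X.presheaf.stalk x) := by
      apply PrimeSpectrum.ext
      exact hx
    rw [this, Scheme.fromSpecStalk_closedPoint]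
  have h2 : gy pM = y := by
    show (X.fromSpecStalk y) ((Spec.map (CommRingCat.ofHom iy)) pM) = y
    have : (Spec.map (CommRingCat.ofHom iy)) pM = closedPoint (X.presheaf.stalk y) := by
      apply PrimeSpectrum.ext
      exact hy
    rw [this, Scheme.fromSpecStalk_closedPoint]
  exact hxy (by rw [← h1, ← h2, heq])

end sep


section glue

theorem isIso_stalkMap_fromSpecStalk (X : Scheme.{u}) (x : X) :
    IsIso ((X.fromSpecStalk x).stalkMap (closedPoint (X.presheaf.stalk x))) := by
  have h : IsIso (Scheme.stalkClosedPointTo (X.fromSpecStalk x)) := by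
    rw [Scheme.stalkClosedPointTo_fromSpecStalk]; infer_instance
  unfold Scheme.stalkClosedPointTo at h
  exact IsIso.of_isIso_comp_right _ (stalkClosedPointIso _).hom

theorem isDominant_of_comp {W P T : Scheme.{u}} (k : W ⟶ P) (e : P ⟶ T) [IsOpenImmersion e]
    [IsDominant (k ≫ e)] : IsDominant k := by
  refine ⟨?_⟩
  rw [DenseRange, e.isOpenEmbedding.isInducing.dense_iff]
  intro z
  have : e '' Set.range k = Set.range (k ≫ e) := by
    rw [← Set.range_comp]; rfl
  rw [this]
  exact (k ≫ e).denseRange _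

theorem isDominant_Spec_map_of_injective {R S : CommRingCat.{u}} (φ : R ⟶ S)
    (h : Function.Injective φ.hom) : IsDominant (Spec.map φ) := by
  refine ⟨?_⟩
  show DenseRange (PrimeSpectrum.comap φ.hom)
  rw [PrimeSpectrum.denseRange_comap_iff_ker_le_nilRadical]
  rw [(RingHom.injective_iff_ker_eq_bot φ.hom).1 h]
  exact bot_le

variable {X : Scheme.{u}} [IsIntegral X] [X.IsSeparated]

theorem exists_affineOpen_of_not_isField (s₁ : Finset X) (hne : s₁.Nonempty)
    (hN : ∀ x ∈ s₁, IsNoetherianRing (X.presheaf.stalk x))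
    (hdim : ∀ x ∈ s₁, Ring.KrullDimLE 1 (X.presheaf.stalk x))
    (hnf : ∀ x ∈ s₁, ¬ IsField (X.presheaf.stalk x)) :
    ∃ U : X.Opens, IsAffineOpen U ∧ ∀ x ∈ s₁, x ∈ U := by
  classical
  let ι : Type u := {x // x ∈ s₁}
  let A : ι → Type u := fun i => X.presheaf.stalk i.1
  haveI : Nonempty ι := hne.to_subtype
  haveI : ∀ i : ι, IsNoetherianRing (A i) := fun i => hN i.1 i.2
  haveI : ∀ i : ι, Ring.KrullDimLE 1 (A i) := fun i => hdim i.1 i.2
  have hsep : ∀ i j : ι, i ≠ j → (algebraMap (A i) X.functionField).range ⊔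
      (algebraMap (A j) X.functionField).range = ⊤ := by
    intro i j hij
    haveI := hdim i.1 i.2
    haveI := hdim j.1 j.2
    exact range_sup_range_eq_top i.1 j.1 (fun h => hij (Subtype.ext h))
  obtain ⟨t, hspan, hloc⟩ := exists_cover X.functionField A (fun i => hnf i.1 i.2) hsep
  let C : Subring X.functionField := interRing X.functionField A
  let T : Scheme.{u} := Spec (CommRingCat.of C)
  let φ : ∀ i : ι, CommRingCat.of C ⟶ X.presheaf.stalk i.1 :=
    fun i => CommRingCat.ofHom (toA X.functionField A i)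
  have hoi : ∀ i, IsOpenImmersion (Spec.map (φ i)) := by
    intro i
    letI : Algebra C (A i) := (toA X.functionField A i).toAlgebra
    haveI : IsLocalization.Away (t i) (A i) := hloc i
    exact IsOpenImmersion.of_isLocalization (t i)
  have hcov : ∀ p : T, ∃ (i : ι) (q : Spec (X.presheaf.stalk i.1)), Spec.map (φ i) q = p := by
    intro p
    have hex : ∃ i, t i ∉ (p : PrimeSpectrum C).asIdeal := by
      by_contra hcon
      push_neg at hcon
      have hle : Ideal.span (Set.range t) ≤ (p : PrimeSpectrum C).asIdeal :=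
        Ideal.span_le.2 (by rintro _ ⟨i, rfl⟩; exact hcon i)
      rw [hspan] at hle
      exact (p : PrimeSpectrum C).2.ne_top (top_le_iff.1 hle)
    obtain ⟨i, hi⟩ := hex
    letI : Algebra C (A i) := (toA X.functionField A i).toAlgebra
    haveI : IsLocalization.Away (t i) (A i) := hloc i
    have hr := PrimeSpectrum.localization_away_comap_range (A i) (t i)
    have hp : (p : PrimeSpectrum C) ∈ Set.range (PrimeSpectrum.comap (algebraMap C (A i))) := by
      rw [hr]; exact hi
    obtain ⟨q, hq⟩ := hp
    exact ⟨i, q, hq⟩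
  let 𝒰 : T.OpenCover := Scheme.Cover.mkOfCovers ι (fun i => Spec (X.presheaf.stalk i.1))
    (fun i => Spec.map (φ i)) hcov hoi
  let g : ∀ i, 𝒰.X i ⟶ X := fun i => X.fromSpecStalk i.1
  -- the generic point of `T`
  let ιT : Spec X.functionField ⟶ T := Spec.map (CommRingCat.ofHom C.subtype)
  let κ : ∀ i : ι, Spec X.functionField ⟶ Spec (X.presheaf.stalk i.1) := fun i =>
    Spec.map (X.presheaf.stalkSpecializes ((genericPoint_spec X).specializes (Set.mem_univ i.1)))
  have hκ : ∀ i, κ i ≫ Spec.map (φ i) = ιT := by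
    intro i
    show Spec.map _ ≫ Spec.map _ = Spec.map _
    rw [← Spec.map_comp]
    congr 1
    ext c
    exact algebraMap_toA X.functionField A i c
  have hκg : ∀ i, κ i ≫ g i = X.fromSpecStalk (genericPoint X) := fun i =>
    Scheme.SpecMap_stalkSpecializes_fromSpecStalk _
  haveI hιT : IsDominant ιT := isDominant_Spec_map_of_injective _ Subtype.val_injective
  haveI : IsDomain (CommRingCat.of C) := inferInstanceAs (IsDomain C)
  haveI : IsIntegral T := inferInstance
  have hcompat : ∀ i j, pullback.fst (𝒰.f i) (𝒰.f j) ≫ g i =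
      pullback.snd (𝒰.f i) (𝒰.f j) ≫ g j := by
    intro (i : ι) (j : ι)
    haveI : IsOpenImmersion (𝒰.f i) := hoi i
    haveI : IsOpenImmersion (𝒰.f j) := hoi j
    let e : pullback (𝒰.f i) (𝒰.f j) ⟶ T := pullback.fst (𝒰.f i) (𝒰.f j) ≫ 𝒰.f i
    haveI : IsOpenImmersion e := inferInstance
    haveI : IsReduced (pullback (𝒰.f i) (𝒰.f j)) := isReduced_of_isOpenImmersion e
    let k : Spec X.functionField ⟶ pullback (𝒰.f i) (𝒰.f j) :=
      pullback.lift (κ i) (κ j) ((hκ i).trans (hκ j).symm)
    have hke : k ≫ e = ιT := by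
      show pullback.lift _ _ _ ≫ pullback.fst _ _ ≫ _ = _
      rw [pullback.lift_fst_assoc]
      exact hκ i
    haveI : IsDominant (k ≫ e) := by rw [hke]; exact hιT
    haveI : IsDominant k := isDominant_of_comp k e
    refine ext_of_isDominant k ?_
    rw [pullback.lift_fst_assoc, pullback.lift_snd_assoc]
    exact (hκg i).trans (hκg j).symm
  let f : T ⟶ X := 𝒰.glueMorphisms g hcompat
  have hf : ∀ i, Spec.map (φ i) ≫ f = X.fromSpecStalk i.1 :=
    fun i => 𝒰.ι_glueMorphisms g hcompat i
  have hιTf : ιT ≫ f = X.fromSpecStalk (genericPoint X) := by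
    obtain ⟨i⟩ := (inferInstance : Nonempty ι)
    rw [← hκ i, Category.assoc, hf i]
    exact hκg i
  have hdom : f (genericPoint T) = genericPoint X := by
    have h1 : ιT (genericPoint (Spec X.functionField)) = genericPoint T :=
      Groth.Agent.Helper3.AffPts.map_genericPoint_of_denseRange ιT hιT.denseRange
    have h2 : genericPoint (Spec X.functionField) = closedPoint X.functionField :=
      @Subsingleton.elim (PrimeSpectrum X.functionField) _ _ _
    rw [← h1, ← Scheme.Hom.comp_apply, hιTf, h2, Scheme.fromSpecStalk_closedPoint]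
  haveI : QuasiSeparatedSpace X := inferInstance
  let pt : ι → T := fun i => Spec.map (φ i) (closedPoint (X.presheaf.stalk i.1))
  have hpt : ∀ i, f (pt i) = i.1 := by
    intro i
    show f (Spec.map (φ i) _) = _
    rw [← Scheme.Hom.comp_apply, hf i, Scheme.fromSpecStalk_closedPoint]
  have hiso : ∀ i, IsIso (f.stalkMap (pt i)) := by
    intro i
    haveI : IsOpenImmersion (Spec.map (φ i)) := hoi i
    have key : ∀ (f' : Spec (X.presheaf.stalk i.1) ⟶ X) (e : f' = X.fromSpecStalk i.1),
        IsIso (f'.stalkMap (closedPoint (X.presheaf.stalk i.1))) := by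
      rintro _ rfl; exact isIso_stalkMap_fromSpecStalk X i.1
    have h1 := key _ (hf i)
    rw [Scheme.Hom.stalkMap_comp] at h1
    exact @IsIso.of_isIso_comp_right _ _ _ _ _ _ _ inferInstance h1
  obtain ⟨U, hU, hUs⟩ := Groth.Agent.Helper3.AffPts.integral_case f hdom
    (Finset.univ.image pt) (by
      intro p hp
      obtain ⟨i, -, rfl⟩ := Finset.mem_image.1 hp
      exact hiso i)
  refine ⟨U, hU, fun x hx => ?_⟩
  have := hUs (pt ⟨x, hx⟩) (Finset.mem_image.2 ⟨⟨x, hx⟩, Finset.mem_univ _, rfl⟩)
  rwa [hpt] at this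

end glue


section main

theorem exists_affineOpen_integral {X : Scheme.{u}} [IsIntegral X] [X.IsSeparated] (s : Finset X)
    (hs : ∀ x ∈ s, IsNoetherianRing (X.presheaf.stalk x) ∧
      ringKrullDim (X.presheaf.stalk x) ≤ 1) :
    ∃ U : X.Opens, IsAffineOpen U ∧ ∀ x ∈ s, x ∈ U := by
  classical
  let s₁ := s.filter (fun x => ¬ IsField (X.presheaf.stalk x))
  by_cases hne : s₁.Nonempty
  · obtain ⟨U, hU, hUs⟩ := exists_affineOpen_of_not_isField s₁ hne
      (fun x hx => (hs x (Finset.mem_filter.1 hx).1).1)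
      (fun x hx => Ring.krullDimLE_iff.2 (by exact_mod_cast (hs x (Finset.mem_filter.1 hx).1).2))
      (fun x hx => (Finset.mem_filter.1 hx).2)
    refine ⟨U, hU, fun x hx => ?_⟩
    by_cases hf : IsField (X.presheaf.stalk x)
    · rw [eq_genericPoint_of_isField x hf]
      obtain ⟨y, hy⟩ := hne
      exact ((genericPoint_spec X).specializes (Set.mem_univ y)).mem_open U.2 (hUs y hy)
    · exact hUs x (Finset.mem_filter.2 ⟨hx, hf⟩)
  · obtain ⟨U, hU, hηU⟩ : ∃ U : X.Opens, IsAffineOpen U ∧ genericPoint X ∈ U := by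
      obtain ⟨_, ⟨U, hU, rfl⟩, hxU, -⟩ := X.isBasis_affineOpens.exists_subset_of_mem_open
        (Set.mem_univ (genericPoint X)) isOpen_univ
      exact ⟨U, hU, hxU⟩
    refine ⟨U, hU, fun x hx => ?_⟩
    have hf : IsField (X.presheaf.stalk x) := by
      by_contra hf
      exact hne ⟨x, Finset.mem_filter.2 ⟨hx, hf⟩⟩
    rw [eq_genericPoint_of_isField x hf]
    exact hηU

/-- Stacks 09NN -/
theorem main (X : Scheme.{u}) [X.IsSeparated]
    (hirr : ∀ U : X.Opens, IsCompact (U : Set X) → (irreducibleComponents (U : Set X)).Finite)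
    (s : Finset X) (hs : ∀ x ∈ s, IsNoetherianRing (X.presheaf.stalk x) ∧
      ringKrullDim (X.presheaf.stalk x) ≤ 1) :
    ∃ U : X.Opens, IsAffineOpen U ∧ ∀ x ∈ s, x ∈ U := by
  classical
  have hex : ∀ x : X, ∃ V : X.Opens, IsAffineOpen V ∧ x ∈ V := by
    intro x
    obtain ⟨_, ⟨U, hU, rfl⟩, hxU, -⟩ := X.isBasis_affineOpens.exists_subset_of_mem_open
      (Set.mem_univ x) isOpen_univ
    exact ⟨U, hU, hxU⟩
  choose V hV hxV using hex
  let U₀ : X.Opens := ⨆ x ∈ s, V x
  have hU₀c : IsCompact (U₀ : Set X) := by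
    have : (U₀ : Set X) = ⋃ x ∈ s, (V x : Set X) := by
      simp [U₀]
    rw [this]
    exact s.isCompact_biUnion (fun x _ => (hV x).isCompact)
  have hsU₀ : ∀ x ∈ s, x ∈ U₀ := by
    intro x hx
    have hle : V x ≤ U₀ := le_iSup₂ (f := fun x (_ : x ∈ s) => V x) x hx
    exact hle (hxV x)
  let X₀ : Scheme.{u} := U₀.toScheme
  have hX₀ : (irreducibleComponents (X₀ : Type u)).Finite := hirr U₀ hU₀c
  haveI : X₀.IsSeparated := by
    refine ⟨?_⟩
    rw [show terminal.from X₀ = U₀.ι ≫ terminal.from X from terminal.hom_ext _ _]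
    infer_instance
  let T : Set X₀ := {p | U₀.ι p ∈ s}
  have hT : T.Finite := s.finite_toSet.preimage (U₀.ι.isOpenEmbedding.injective.injOn)
  obtain ⟨W, hW, hTW⟩ := Groth.Agent.Helper3.AffFin.exists_affineOpen_of_components hX₀ T hT (by
    intro Z hZ
    let Cz : Closeds X₀ := ⟨Z, isClosed_of_mem_irreducibleComponents Z hZ⟩
    let ιZ := (Scheme.IdealSheafData.vanishingIdeal Cz).subschemeι
    haveI : IsIntegral (Scheme.IdealSheafData.vanishingIdeal Cz).subscheme :=
      Groth.Agent.Helper3.AffPts.isIntegral_subscheme Cz hZ.1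
    haveI : (Scheme.IdealSheafData.vanishingIdeal Cz).subscheme.IsSeparated := by
      refine ⟨?_⟩
      rw [show terminal.from (Scheme.IdealSheafData.vanishingIdeal Cz).subscheme =
        ιZ ≫ terminal.from X₀ from terminal.hom_ext _ _]
      infer_instance
    have hTZ : (ιZ ⁻¹' T).Finite := hT.preimage (ιZ.isEmbedding.injective.injOn)
    obtain ⟨W, hW, hWs⟩ := exists_affineOpen_integral hTZ.toFinset (by
      intro y hy
      have hyT : (ιZ ≫ U₀.ι) y ∈ s := hTZ.mem_toFinset.1 hy
      have hsurj := (ιZ ≫ U₀.ι).stalkMap_surjective y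
      obtain ⟨hN, hd⟩ := hs _ hyT
      exact ⟨isNoetherianRing_of_surjective _ _ _ hsurj,
        le_trans (ringKrullDim_le_of_surjective _ hsurj) hd⟩)
    refine ⟨W, hW, fun t ht htZ => ?_⟩
    have hr : t ∈ Set.range ιZ := by
      rw [Groth.Agent.Helper3.AffPts.range_vanishingIdeal_subschemeι]; exact htZ
    obtain ⟨y, rfl⟩ := hr
    exact ⟨y, hWs y (hTZ.mem_toFinset.2 ht), rfl⟩)
  refine ⟨U₀.ι ''ᵁ W, hW.image_of_isOpenImmersion U₀.ι, fun x hx => ?_⟩
  exact ⟨⟨x, hsU₀ x hx⟩, hTW (show U₀.ι ⟨x, hsU₀ x hx⟩ ∈ s from hx), rfl⟩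

end main

end Groth.Agent.Helper3.AffDim1
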