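import Mathlib
import Groth.Prelude
import Groth.Agent.Helper3.AffDim1B

set_option autoImplicit false
set_option linter.style.haveILetI false
set_option linter.unusedSectionVars false
set_option linter.unusedVariables false
set_option linter.deprecated false
set_option linter.style.haveILetI false
set_option linter.unusedSectionVars false
set_option linter.unusedVariables false

universe u

open CategoryTheory CategoryTheory.Limits AlgebraicGeometry TopologicalSpace Opposite IsLocalRing

namespace Groth.Agent.Helper3.GenLocB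

open Groth.Agent.Helper3.AffDim1

variable {X : Scheme.{u}} [IsIntegral X]

/-- On a separated integral scheme, the coordinate ring of an affine open and the local ring of a
point of dimension one outside of it together generate the function field. -/
theorem range_sup_range_eq_top [X.IsSeparated] (U : X.Opens) (hU : IsAffineOpen U) [Nonempty U]
    (x : X) (hxU : x ∉ U) [Ring.KrullDimLE 1 (X.presheaf.stalk x)] :
    (X.germToFunctionField U).hom.range ⊔
      (algebraMap (X.presheaf.stalk x) X.functionField).range = ⊤ := by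
  by_contra hne
  set D : Subring X.functionField := (X.germToFunctionField U).hom.range ⊔
      (algebraMap (X.presheaf.stalk x) X.functionField).range with hD
  have hUD : (X.germToFunctionField U).hom.range ≤ D := le_sup_left
  have hxD : (algebraMap (X.presheaf.stalk x) X.functionField).range ≤ D := le_sup_right
  have hDnf : ¬ IsField D := by
    intro hf
    apply hne
    rw [eq_top_iff]
    intro z _
    obtain ⟨a, b, hb, rfl⟩ := IsFractionRing.div_surjective (A := X.presheaf.stalk x) z
    have hb0 : algebraMap (X.presheaf.stalk x) X.functionField b ≠ 0 := by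
      simpa using (IsFractionRing.injective (X.presheaf.stalk x) X.functionField).ne
        (nonZeroDivisors.ne_zero hb)
    let b' : D := ⟨algebraMap _ _ b, hxD ⟨b, rfl⟩⟩
    have hb'0 : b' ≠ 0 := fun h => hb0 (congrArg Subtype.val h)
    obtain ⟨c, hc⟩ := hf.mul_inv_cancel hb'0
    have hc' : algebraMap (X.presheaf.stalk x) X.functionField b * (c : X.functionField) = 1 :=
      congrArg Subtype.val hc
    have : algebraMap (X.presheaf.stalk x) X.functionField a /
        algebraMap (X.presheaf.stalk x) X.functionField b =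
        algebraMap (X.presheaf.stalk x) X.functionField a * c := by
      rw [div_eq_iff hb0, mul_assoc, mul_comm (c : X.functionField), hc', mul_one]
    rw [this]
    exact D.mul_mem (hxD ⟨a, rfl⟩) c.2
  obtain ⟨M, hM⟩ := Ideal.exists_maximal D
  have hMbot : M ≠ ⊥ := Ring.ne_bot_of_isMaximal_of_not_isField hM hDnf
  haveI := hM.isPrime
  let ix : X.presheaf.stalk x →+* D :=
    (Subring.inclusion hxD).comp (algebraMap (X.presheaf.stalk x) X.functionField).rangeRestrict
  let iU : Γ(X, U) →+* D :=
    (Subring.inclusion hUD).comp (X.germToFunctionField U).hom.rangeRestrict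
  have hx : M.comap ix = maximalIdeal _ := comap_eq_maximalIdeal D hxD M hMbot
  let gx : Spec (CommRingCat.of D) ⟶ X := Spec.map (CommRingCat.ofHom ix) ≫ X.fromSpecStalk x
  let gU : Spec (CommRingCat.of D) ⟶ X := Spec.map (CommRingCat.ofHom iU) ≫ hU.fromSpec
  let ι : Spec X.functionField ⟶ Spec (CommRingCat.of D) :=
    Spec.map (CommRingCat.ofHom D.subtype)
  haveI hdom : IsDominant ι := by
    refine ⟨?_⟩
    show DenseRange (PrimeSpectrum.comap D.subtype)
    rw [PrimeSpectrum.denseRange_comap_iff_ker_le_nilRadical]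
    rw [(RingHom.injective_iff_ker_eq_bot D.subtype).1 Subtype.val_injective]
    exact bot_le
  have hgx : ι ≫ gx = X.fromSpecStalk (genericPoint X) := by
    rw [← Scheme.SpecMap_stalkSpecializes_fromSpecStalk
      ((genericPoint_spec X).specializes (Set.mem_univ x))]
    show Spec.map _ ≫ Spec.map _ ≫ _ = _
    rw [← Spec.map_comp_assoc]
    rfl
  have hgen : genericPoint X ∈ U :=
    ((genericPoint_spec X).mem_open_set_iff U.isOpen).mpr (by simpa using ‹Nonempty U›)
  have hgU : ι ≫ gU = X.fromSpecStalk (genericPoint X) := by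
    rw [← hU.fromSpecStalk_eq_fromSpecStalk hgen]
    show Spec.map _ ≫ Spec.map _ ≫ _ = Spec.map _ ≫ _
    rw [← Spec.map_comp_assoc]
    rfl
  haveI : IsDomain (CommRingCat.of D) := inferInstanceAs (IsDomain D)
  have heq : gx = gU := ext_of_isDominant ι (hgx.trans hgU.symm)
  let pM : Spec (CommRingCat.of D) := ⟨M, hM.isPrime⟩
  have h1 : gx pM = x := by
    show (X.fromSpecStalk x) ((Spec.map (CommRingCat.ofHom ix)) pM) = x
    have : (Spec.map (CommRingCat.ofHom ix)) pM = closedPoint (X.presheaf.stalk x) := by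
      apply PrimeSpectrum.ext
      exact hx
    rw [this, Scheme.fromSpecStalk_closedPoint]
  have h2 : gU pM ∈ U := by
    have : gU pM ∈ Set.range hU.fromSpec := ⟨(Spec.map (CommRingCat.ofHom iU)) pM, rfl⟩
    rw [hU.range_fromSpec] at this
    exact this
  rw [← heq, h1] at h2
  exact hxU h2


theorem eq_of_fn_eq (W : X.Opens) (r r' : Γ(X, W))
    (h : ∀ [Nonempty W], X.germToFunctionField W r = X.germToFunctionField W r') : r = r' := by
  by_cases hW : Nonempty W
  · exact X.germToFunctionField_injective W (h)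
  · have hbot : W = ⊥ := by
      ext y
      simp only [Opens.coe_bot, Set.mem_empty_iff_false, iff_false]
      exact fun hy => hW ⟨⟨y, hy⟩⟩
    subst hbot
    exact Subsingleton.elim _ _

theorem fn_res {W W' : X.Opens} (hle : W' ≤ W) [Nonempty W'] [Nonempty W] (r : Γ(X, W)) :
    X.germToFunctionField W' (X.presheaf.map (homOfLE hle).op r) = X.germToFunctionField W r :=
  X.presheaf.germ_res_apply (homOfLE hle) _ _ r

theorem exists_fn [X.IsSeparated]
    (U : X.Opens) (hU : IsAffineOpen U) (hne : (U : Set X).Nonempty) (hfin : ((U : Set X)ᶜ).Finite)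
    (hloc : ∀ x : X, x ∉ U →
      IsNoetherianRing (X.presheaf.stalk x) ∧ ringKrullDim (X.presheaf.stalk x) = 1) :
    ∃ (V : X.Opens) (a : Γ(X, U)) (c : Γ(X, V)), (∀ x : X, x ∉ U → x ∈ V) ∧
      X.presheaf.map (homOfLE (inf_le_right : V ⊓ U ≤ U)).op a *
        X.presheaf.map (homOfLE (inf_le_left : V ⊓ U ≤ V)).op c = 1 ∧
      X.basicOpen c ≤ U := by
  classical
  haveI : Nonempty U := hne.to_subtype
  let ι : Type u := ↥((U : Set X)ᶜ)
  haveI : Finite ι := hfin.to_subtype
  haveI hN : ∀ j : ι, IsNoetherianRing (X.presheaf.stalk j.1) := fun j => (hloc j.1 j.2).1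
  haveI hK : ∀ j : ι, Ring.KrullDimLE 1 (X.presheaf.stalk j.1) := fun j => by
    rw [Ring.krullDimLE_iff, (hloc j.1 j.2).2]; rfl
  have hnf : ∀ j : ι, ¬ IsField (X.presheaf.stalk j.1) := fun j hf => by
    have := ringKrullDim_eq_zero_of_isField hf
    rw [(hloc j.1 j.2).2] at this
    exact one_ne_zero this
  obtain ⟨f, hfA, hf0, hfj⟩ := exists_inv_mem_maximalIdeal (K := X.functionField)
    (fun j : ι => X.presheaf.stalk j.1) hnf (X.germToFunctionField U).hom.range
    (fun j => range_sup_range_eq_top U hU j.1 j.2)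
  obtain ⟨a, ha⟩ := hfA
  choose b hbm hb using hfj
  -- representatives of the germs
  have hrep : ∀ j : ι, ∃ (W : X.Opens) (hW : j.1 ∈ W) (δ : Γ(X, W)),
      X.presheaf.germ W j.1 hW δ = b j := fun j => X.presheaf.germ_exist (x := j.1) (b j)
  choose W hW δ hδ using hrep
  haveI hWne : ∀ j, Nonempty (W j) := fun j => ⟨⟨j.1, hW j⟩⟩
  have hfn : ∀ j, X.germToFunctionField (W j) (δ j) = f⁻¹ := fun j => by
    rw [← Scheme.algebraMap_germ_eq_germToFunctionField (X := X) (hW j), hδ, hb]
  let V : X.Opens := ⨆ j, W j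
  have hWV : ∀ j, W j ≤ V := fun j => le_iSup W j
  have ic : TopCat.Presheaf.IsCompatible X.presheaf W δ := by
    intro i j
    apply eq_of_fn_eq
    intro hne'
    have e1 := fn_res (X := X) (inf_le_left : W i ⊓ W j ≤ W i) (δ i)
    have e2 := fn_res (X := X) (inf_le_right : W i ⊓ W j ≤ W j) (δ j)
    exact (e1.trans (hfn i)).trans ((e2.trans (hfn j))).symm
  obtain ⟨c, hc, -⟩ :
      ∃ d : Γ(X, V), (∀ i, (X.sheaf.obj.map (homOfLE (hWV i)).op) d = δ i) ∧ _ :=
    X.sheaf.existsUnique_gluing' W V (fun i => homOfLE (hWV i)) le_rfl δ ic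
  have hcV : ∀ x : X, x ∉ U → x ∈ V := fun x hx =>
    Opens.mem_iSup.mpr ⟨⟨x, hx⟩, hW ⟨x, hx⟩⟩
  have hfnc : ∀ [Nonempty V], X.germToFunctionField V c = f⁻¹ := by
    intro hVne
    obtain ⟨j, hj⟩ := Opens.mem_iSup.mp hVne.some.2
    rw [← fn_res (hWV j) c]
    exact (congrArg _ (hc j)).trans (hfn j)
  refine ⟨V, a, c, hcV, ?_, ?_⟩
  · apply eq_of_fn_eq
    intro hne'
    haveI : Nonempty V := by
      obtain ⟨⟨y, hy⟩⟩ := hne'
      exact ⟨⟨y, hy.1⟩⟩
    rw [map_mul, fn_res, fn_res, hfnc, map_one]
    have : X.germToFunctionField U a = f := ha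
    rw [this]
    exact mul_inv_cancel₀ hf0
  · intro x hx
    by_contra hxU
    have hxV : x ∈ V := hcV x hxU
    have hu : IsUnit (X.presheaf.germ V x hxV c) := (X.mem_basicOpen c x hxV).mp hx
    let j : ι := ⟨x, hxU⟩
    have h1 : X.presheaf.germ V x hxV c = b j := by
      rw [← hδ j, ← hc j]
      exact (X.presheaf.germ_res_apply (homOfLE (hWV j)) x (hW j) c).symm
    rw [h1] at hu
    exact ((IsLocalRing.mem_maximalIdeal _).mp (hbm j)) hu

end Groth.Agent.Helper3.GenLocB
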