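import Mathlib
import Groth.Prelude
import Groth.Agent.Helper3.AffDim1A

set_option autoImplicit false
set_option linter.style.haveILetI false
set_option linter.unusedSectionVars false
set_option linter.unusedVariables false
set_option linter.deprecated false
set_option linter.style.haveILetI false
set_option linter.unusedSectionVars false
set_option linter.unusedVariables false

universe u

namespace Groth.Agent.Helper3.PolarB

open IsDedekindDomain Groth.Agent.Helper3.AffDim1

section approx
variable {A : Type*} [CommRing A] {Γ : Type*} [LinearOrderedCommGroupWithZero Γ] [MulArchimedean Γ]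

/-- simultaneous approximation for finitely many valuations on a ring -/
theorem exists_forall_one_lt {κ : Type*} (w : κ → Valuation A Γ) (S : Finset κ)
    (h : ∀ k ∈ S, ∃ y : A, 1 < w k y) : ∃ x : A, ∀ k ∈ S, 1 < w k x := by
  classical
  induction S using Finset.induction_on with
  | empty => exact ⟨1, by simp⟩
  | insert n S hn ih =>
    obtain ⟨x, hx⟩ := ih (fun k hk => h k (Finset.mem_insert_of_mem hk))
    obtain ⟨y, hy⟩ := h n (Finset.mem_insert_self n S)
    by_cases hxn : 1 < w n x
    · refine ⟨x, ?_⟩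
      intro k hk
      rcases Finset.mem_insert.1 hk with rfl | hk
      · exact hxn
      · exact hx k hk
    · rw [not_lt] at hxn
      have harch : ∀ k : κ, ∃ m : ℕ, k ∈ S → w k y ≤ w k x ^ m := by
        intro k
        by_cases hk : k ∈ S
        · obtain ⟨m, hm⟩ := MulArchimedean.arch (w k y) (hx k hk)
          exact ⟨m, fun _ => hm⟩
        · exact ⟨0, fun h => absurd h hk⟩
      choose m hm using harch
      let N : ℕ := S.sup m + 1
      have hlt : ∀ k ∈ S, w k y < w k (x ^ N) := by
        intro k hk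
        rw [map_pow]
        refine lt_of_le_of_lt (hm k hk) ?_
        exact pow_lt_pow_right₀ (hx k hk) (Nat.lt_succ_of_le (Finset.le_sup hk))
      have hyn : w n (x ^ N) < w n y := by
        rw [map_pow]
        exact lt_of_le_of_lt (pow_le_one₀ zero_le' hxn) hy
      have hval_n : w n (x ^ N + y) = w n y := (w n).map_add_eq_of_lt_right hyn
      refine ⟨x ^ N + y, ?_⟩
      intro k hk
      rcases Finset.mem_insert.1 hk with rfl | hk
      · rw [hval_n]; exact hy
      · rw [(w k).map_add_eq_of_lt_left (hlt k hk), map_pow]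
        exact one_lt_pow₀ (hx k hk) (Nat.succ_ne_zero _)

end approx

section ne
variable (B : Type u) [CommRing B] [IsDomain B] [IsLocalRing B] [IsNoetherianRing B]
  [Ring.KrullDimLE 1 B] (K : Type u) [Field K] [Algebra B K] [IsFractionRing B K]

theorem nonempty_heightOneSpectrum (hnf : ¬ IsField B) :
    Nonempty (HeightOneSpectrum (integralClosure B K)) := by
  have hnf' : ¬ IsField (integralClosure B K) := by
    intro hf
    apply hnf
    have hinj : Function.Injective (algebraMap B (integralClosure B K)) := by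
      intro x y hxy
      have := congrArg (algebraMap (integralClosure B K) K) hxy
      rw [← IsScalarTower.algebraMap_apply, ← IsScalarTower.algebraMap_apply] at this
      exact IsFractionRing.injective B K this
    haveI : Algebra.IsIntegral B (integralClosure B K) := inferInstance
    exact isField_of_isIntegral_of_isField hinj hf
  obtain ⟨M, hM⟩ := Ideal.exists_maximal (integralClosure B K)
  exact ⟨⟨M, hM.isPrime, Ring.ne_bot_of_isMaximal_of_not_isField hM hnf'⟩⟩

end ne

section M
variable {β : Type u} [Finite β] (K : β → Type u) [∀ j, Field (K j)] (B : β → Type u)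
  [∀ j, CommRing (B j)] [∀ j, IsDomain (B j)] [∀ j, IsLocalRing (B j)]
  [∀ j, IsNoetherianRing (B j)] [∀ j, Ring.KrullDimLE 1 (B j)] [∀ j, Algebra (B j) (K j)]
  [∀ j, IsFractionRing (B j) (K j)]

/-- an element of `A` whose images in the various `K j` have inverses in `𝔪_{B_j}`. -/
theorem exists_inv_mem_maximalIdeal (hnf : ∀ j, ¬ IsField (B j)) (A : Type u) [CommRing A]
    (ψ : ∀ j, A →+* K j)
    (hA : ∀ j, (ψ j).range ⊔ (algebraMap (B j) (K j)).range = ⊤) :
    ∃ x : A, ∀ j, ∃ b ∈ IsLocalRing.maximalIdeal (B j), ψ j x * algebraMap (B j) (K j) b = 1 := by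
  classical
  haveI : ∀ j, Finite (HeightOneSpectrum (integralClosure (B j) (K j))) :=
    fun j => finite_heightOneSpectrum (B j) (K j) (hnf j)
  let κ := Σ j, HeightOneSpectrum (integralClosure (B j) (K j))
  haveI : Finite κ := inferInstance
  haveI := Fintype.ofFinite κ
  let w : κ → Valuation A (WithZero (Multiplicative ℤ)) :=
    fun k => (k.2.valuation (K k.1)).comap (ψ k.1)
  have hw : ∀ k ∈ (Finset.univ : Finset κ), ∃ y : A, 1 < w k y := by
    rintro ⟨j, v⟩ -
    by_contra hcon
    push_neg at hcon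
    let O : Subring (K j) := (v.valuation (K j)).integer
    have h1 : (ψ j).range ≤ O := by
      rintro _ ⟨y, rfl⟩
      exact hcon y
    have h2 : (algebraMap (B j) (K j)).range ≤ O := by
      rintro _ ⟨b, rfl⟩
      exact valuation_le_one (B j) (K j) v b
    have h3 : (⊤ : Subring (K j)) ≤ O := by
      rw [← hA j]; exact sup_le h1 h2
    obtain ⟨π, hπ, hπ0⟩ := exists_mem_maximalIdeal_ne_zero (B j) (hnf j)
    have hπK : algebraMap (B j) (K j) π ≠ 0 := by
      simpa using (IsFractionRing.injective (B j) (K j)).ne hπ0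
    have hlt := valuation_lt_one (B j) (K j) v π hπ
    have hmem : (algebraMap (B j) (K j) π)⁻¹ ∈ O := h3 trivial
    have hle : v.valuation (K j) (algebraMap (B j) (K j) π)⁻¹ ≤ 1 := hmem
    rw [map_inv₀] at hle
    have hpos : 0 < v.valuation (K j) (algebraMap (B j) (K j) π) :=
      zero_lt_iff.2 ((Valuation.ne_zero_iff _).2 hπK)
    have := (inv_le_one₀ hpos).1 hle
    exact absurd hlt (not_lt_of_ge this)
  obtain ⟨x, hx⟩ := exists_forall_one_lt w Finset.univ hw
  have hx0 : ∀ j, ψ j x ≠ 0 := by
    intro j h0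
    obtain ⟨v⟩ := nonempty_heightOneSpectrum (B j) (K j) (hnf j)
    have h1 : 1 < w ⟨j, v⟩ x := hx ⟨j, v⟩ (Finset.mem_univ _)
    have h2 : w ⟨j, v⟩ x = v.valuation (K j) (ψ j x) := rfl
    rw [h2, h0, map_zero] at h1
    exact not_lt_of_ge zero_le' h1
  have hz : ∀ j (v : HeightOneSpectrum (integralClosure (B j) (K j))),
      v.valuation (K j) (ψ j x)⁻¹ < 1 := by
    intro j v
    have h1 : 1 < v.valuation (K j) (ψ j x) := hx ⟨j, v⟩ (Finset.mem_univ _)
    rw [map_inv₀]
    exact inv_lt_one_of_one_lt₀ h1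
  have hn : ∀ j, ∃ n : ℕ, n ≠ 0 ∧ ∃ b ∈ IsLocalRing.maximalIdeal (B j),
      algebraMap (B j) (K j) b = (ψ j x)⁻¹ ^ n :=
    fun j => exists_pow_mem_maximalIdeal (B j) (K j) (hnf j) (ψ j x)⁻¹ (inv_ne_zero (hx0 j)) (hz j)
  choose n hn0 b hb hbn using hn
  haveI := Fintype.ofFinite β
  let N : ℕ := ∏ j, n j
  refine ⟨x ^ N, fun j => ?_⟩
  obtain ⟨N', hN'⟩ : n j ∣ N := Finset.dvd_prod_of_mem n (Finset.mem_univ j)
  have hN0 : N ≠ 0 := Finset.prod_ne_zero_iff.2 (fun j _ => hn0 j)
  have hN'0 : N' ≠ 0 := by
    rintro rfl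
    exact hN0 (by rw [hN', mul_zero])
  refine ⟨b j ^ N', Ideal.pow_mem_of_mem _ (hb j) N' (Nat.pos_of_ne_zero hN'0), ?_⟩
  rw [map_pow, map_pow, hbn j, ← pow_mul, ← hN', inv_pow]
  exact mul_inv_cancel₀ (pow_ne_zero _ (hx0 j))

end M

end Groth.Agent.Helper3.PolarB
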