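import Mathlib
import Groth.Prelude
import Groth.Agent.Helper3.PolarB
import Groth.Agent.Helper3.GenLocB

set_option autoImplicit false
set_option linter.style.haveILetI false
set_option linter.unusedSectionVars false
set_option linter.unusedVariables false
set_option linter.deprecated false
set_option linter.style.haveILetI false
set_option linter.unusedSectionVars false
set_option linter.unusedVariables false

universe u

open CategoryTheory CategoryTheory.Limits AlgebraicGeometry TopologicalSpace Opposite IsLocalRing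

namespace Groth.Agent.Helper3.PolarC

open Groth.Agent.Helper3.AffDim1

/-- **A function with poles along the complement of an affine open, on all components at once.** -/
theorem exists_fn_components (X : Scheme.{u}) [X.IsSeparated] {ι : Type u} [Finite ι]
    (Z : ι → Scheme.{u}) (i : ∀ j, Z j ⟶ X) [∀ j, IsClosedImmersion (i j)]
    [∀ j, IsIntegral (Z j)]
    (U : X.Opens) (hU : IsAffineOpen U) (hne : ∀ j, ∃ z : Z j, i j z ∈ U)
    (hfin : ((U : Set X)ᶜ).Finite)
    (hloc : ∀ x : X, x ∉ U →
      IsNoetherianRing (X.presheaf.stalk x) ∧ ringKrullDim (X.presheaf.stalk x) ≤ 1) :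
    ∃ a : Γ(X, U), ∀ (j : ι) (z : Z j), i j z ∉ U →
      ∀ (hg : genericPoint (Z j) ∈ i j ⁻¹ᵁ U),
      ∃ b ∈ maximalIdeal ((Z j).presheaf.stalk z),
        (Z j).presheaf.germ (i j ⁻¹ᵁ U) (genericPoint (Z j)) hg ((i j).app U a) *
          algebraMap ((Z j).presheaf.stalk z) (Z j).functionField b = 1 := by
  classical
  haveI hsep : ∀ j, (Z j).IsSeparated := fun j => by
    refine ⟨?_⟩
    rw [show terminal.from (Z j) = i j ≫ terminal.from X from terminal.hom_ext _ _]
    infer_instance
  let W : ∀ j, (Z j).Opens := fun j => i j ⁻¹ᵁ U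
  haveI hWne : ∀ j, Nonempty (W j) := fun j => by
    obtain ⟨z, hz⟩ := hne j
    exact ⟨⟨z, hz⟩⟩
  have hWaff : ∀ j, IsAffineOpen (W j) := fun j => hU.preimage (i j)
  have hgen : ∀ j, genericPoint (Z j) ∈ W j := fun j =>
    ((genericPoint_spec (Z j)).mem_open_set_iff (W j).isOpen).mpr (by
      obtain ⟨z, hz⟩ := hne j
      exact ⟨z, Set.mem_univ _, hz⟩)
  let β : Type u := Σ j, ↥((W j : Set (Z j))ᶜ)
  haveI : ∀ j, Finite ↥((W j : Set (Z j))ᶜ) := fun j => by
    have : ((W j : Set (Z j))ᶜ) = (i j) ⁻¹' ((U : Set X)ᶜ) := rfl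
    rw [this]
    exact (hfin.preimage ((i j).isEmbedding.injective.injOn)).to_subtype
  haveI : Finite β := inferInstance
  have hstalk : ∀ b : β, IsNoetherianRing ((Z b.1).presheaf.stalk b.2.1) ∧
      ringKrullDim ((Z b.1).presheaf.stalk b.2.1) ≤ 1 := by
    rintro ⟨j, z, hz⟩
    have hsurj := (i j).stalkMap_surjective z
    obtain ⟨hN, hd⟩ := hloc (i j z) hz
    exact ⟨isNoetherianRing_of_surjective _ _ _ hsurj,
      le_trans (ringKrullDim_le_of_surjective _ hsurj) hd⟩
  haveI hN : ∀ b : β, IsNoetherianRing ((Z b.1).presheaf.stalk b.2.1) := fun b => (hstalk b).1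
  haveI hK : ∀ b : β, Ring.KrullDimLE 1 ((Z b.1).presheaf.stalk b.2.1) := fun b => by
    rw [Ring.krullDimLE_iff]; exact (hstalk b).2
  have hnf : ∀ b : β, ¬ IsField ((Z b.1).presheaf.stalk b.2.1) := by
    rintro ⟨j, z, hz⟩ hf
    have := eq_genericPoint_of_isField z hf
    exact hz (this ▸ hgen j)
  let ψ : ∀ b : β, Γ(X, U) →+* (Z b.1).functionField := fun b =>
    ((Z b.1).germToFunctionField (W b.1)).hom.comp ((i b.1).app U).hom
  obtain ⟨a, ha⟩ := Groth.Agent.Helper3.PolarB.exists_inv_mem_maximalIdeal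
    (fun b : β => (Z b.1).functionField) (fun b : β => (Z b.1).presheaf.stalk b.2.1) hnf
    Γ(X, U) ψ (by
      rintro ⟨j, z, hz⟩
      haveI : Ring.KrullDimLE 1 ((Z j).presheaf.stalk z) := hK ⟨j, z, hz⟩
      have h1 := Groth.Agent.Helper3.GenLocB.range_sup_range_eq_top (W j) (hWaff j) z hz
      have h2 : (ψ ⟨j, z, hz⟩).range = ((Z j).germToFunctionField (W j)).hom.range := by
        show (((Z j).germToFunctionField (W j)).hom.comp ((i j).app U).hom).range = _
        rw [← RingHom.map_range]
        have : ((i j).app U).hom.range = ⊤ :=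
          RingHom.range_eq_top.mpr ((i j).app_surjective U hU)
        rw [this, ← RingHom.range_eq_map]
      rw [h2]
      exact h1)
  refine ⟨a, fun j z hz hg => ?_⟩
  obtain ⟨b, hb, hab⟩ := ha ⟨j, z, hz⟩
  exact ⟨b, hb, hab⟩

end Groth.Agent.Helper3.PolarC
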