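import Mathlib
import Groth.Agent.Helper1.LocCohIso
import Groth.Agent.Helper1.LocCohBase
import Groth.Agent.Helper1.LocCohRing
import Groth.Agent.Helper1.LocCohTors
import Groth.Agent.S0380
import Groth.Agent.S0327

set_option linter.style.haveILetI false
set_option linter.unusedSectionVars false
set_option linter.unusedVariables false

namespace Groth.Agent.Helper3.AffCompl

open CategoryTheory Limits AlgebraicGeometry Opposite

universe u

section Alg

variable {A : Type u} [CommRing A] [IsNoetherianRing A] (I : Ideal A)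

theorem mem_torsionSub_of_forall {M : Type u} [AddCommGroup M] [Module A M] (x : M)
    (h : ∀ f ∈ I, ∃ k : ℕ, f ^ k • x = 0) : x ∈ DRing.torsionSub I M := by
  let J : Ideal A := LinearMap.ker (LinearMap.toSpanSingleton A M x)
  have hIJ : I ≤ J.radical := by
    intro f hf
    obtain ⟨k, hk⟩ := h f hf
    exact ⟨k, by simpa [J] using hk⟩
  obtain ⟨n, hn⟩ := Ideal.exists_pow_le_of_le_radical_of_fg hIJ (IsNoetherian.noetherian I)
  refine ⟨n, fun a ha => ?_⟩
  have := hn ha
  simpa [J] using this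

theorem isZero_lc_top {B : Type u} [CommRing B] (i : ℕ) (M : ModuleCat.{u} B) :
    IsZero ((localCohomology (⊤ : Ideal B) i).obj M) := by
  rw [ModuleCat.isZero_iff_subsingleton]
  refine ⟨fun x y => ?_⟩
  have key : ∀ z : (localCohomology (⊤ : Ideal B) i).obj M, z = 0 := by
    intro z
    obtain ⟨n, hn⟩ := Groth.Agent.Helper1.LocCohTors.isPowerTorsion (⊤ : Ideal B) i M z
    have := hn 1 (by rw [Ideal.top_pow]; trivial)
    simpa using this
  rw [key x, key y]

variable (B : Type u) [CommRing B] [IsNoetherianRing B] [Algebra A B]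

theorem cdLE_one (hIB : I.map (algebraMap A B) = ⊤)
    (hK : ∀ x : A, algebraMap A B x = 0 → ∀ f ∈ I, ∃ k : ℕ, f ^ k * x = 0)
    (hC : ∀ y : B, ∀ f ∈ I, ∃ (k : ℕ) (a : A), algebraMap A B a = algebraMap A B f ^ k * y) :
    LocCoh.CdLE A I 1 := by
  apply Groth.Agent.Helper1.LocCohRing.cdLE_of_ring
  intro i hi
  obtain ⟨n, rfl⟩ : ∃ n, i = n + 2 := ⟨i - 2, by omega⟩
  let f : ModuleCat.of A A ⟶ ModuleCat.of A B := ModuleCat.ofHom (Algebra.linearMap A B)
  have hiso : IsIso ((localCohomology I (n + 2)).map f) := by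
    apply Groth.Agent.Helper1.LocCohDelta.isIso_lc_map_of_isTors I f
    · intro x hx
      apply mem_torsionSub_of_forall
      intro g hg
      obtain ⟨k, hk⟩ := hK x (by simpa [f] using hx) g hg
      exact ⟨k, by simpa using hk⟩
    · intro y
      obtain ⟨b, rfl⟩ := Submodule.Quotient.mk_surjective _ y
      apply mem_torsionSub_of_forall
      intro g hg
      obtain ⟨k, a, ha⟩ := hC b g hg
      refine ⟨k, ?_⟩
      rw [← Submodule.Quotient.mk_smul, Submodule.Quotient.mk_eq_zero]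
      refine ⟨a, ?_⟩
      simp only [f, ModuleCat.hom_ofHom, Algebra.linearMap_apply, ha]
      rw [Algebra.smul_def, map_pow]
  obtain ⟨φ, -⟩ := Groth.Agent.Helper1.LocCohBase.exists_addEquiv (R := A) (R' := B) I B (n + 2)
  have hz : Subsingleton
      ((localCohomology (I.map (algebraMap A B)) (n + 2)).obj (ModuleCat.of B B)) := by
    rw [hIB]
    exact ModuleCat.isZero_iff_subsingleton.1 (isZero_lc_top _ _)
  have h2 : Subsingleton ((localCohomology I (n + 2)).obj (ModuleCat.of A B)) :=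
    φ.symm.toEquiv.subsingleton
  have e := (asIso ((localCohomology I (n + 2)).map f)).toLinearEquiv
  exact e.toEquiv.subsingleton

theorem height_le_one (h : LocCoh.CdLE A I 1) (p : Ideal A) [hp : p.IsPrime]
    (hpI : p ∈ I.minimalPrimes) : p.height ≤ 1 := by
  let R := Localization.AtPrime p
  haveI : IsNoetherianRing R := IsLocalization.isNoetherianRing p.primeCompl _ inferInstance
  have h1 : LocCoh.CdLE R (I.map (algebraMap A R)) 1 := (Groth.Agent.S0380.result A I 1).1 h p
  have hrad : (I.map (algebraMap A R)).radical = (IsLocalRing.maximalIdeal R).radical := by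
    rw [IsLocalization.AtPrime.radical_map_of_mem_minimalPrimes R p I hpI,
      Localization.AtPrime.map_eq_maximalIdeal]
    exact (Ideal.IsPrime.radical (IsLocalRing.maximalIdeal.isMaximal R).isPrime).symm
  have hdim : p.height = ringKrullDim R := (IsLocalization.AtPrime.ringKrullDim_eq_height p R).symm
  obtain ⟨d, hd⟩ : ∃ d : ℕ, ringKrullDim R = d := by
    have h1 : ringKrullDim R ≠ ⊤ := ringKrullDim_ne_top
    have h2 : ringKrullDim R ≠ ⊥ := ringKrullDim_ne_bot
    cases hr : ringKrullDim R with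
    | bot => exact absurd hr h2
    | coe a =>
      cases a with
      | top => exact absurd hr h1
      | coe d => exact ⟨d, rfl⟩
  have hnv := Groth.Agent.S0327.result R d hd
  have hd1 : d ≤ 1 := by
    by_contra hcon
    have hcon : 1 < d := by omega
    have hz := h1 R d hcon
    have e := ((localCohomology.isoOfSameRadical hrad d).app (ModuleCat.of R R)).toLinearEquiv
    have : Subsingleton (LocCoh.H (IsLocalRing.maximalIdeal R) d R) :=
      e.symm.toEquiv.subsingleton
    exact not_subsingleton _ this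
  have : (p.height : WithBot ℕ∞) ≤ 1 := by
    rw [hdim, hd]; exact_mod_cast hd1
  exact_mod_cast this

end Alg

section Geom

variable {X : Scheme.{u}} {W V : X.Opens} (hW : IsAffineOpen W) (hV : IsAffineOpen V)
  (hVW : V ≤ W)

/-- the ideal of the complement of `V` in `W` -/
noncomputable def compIdeal : Ideal Γ(X, W) :=
  PrimeSpectrum.vanishingIdeal (hW.fromSpec ⁻¹' ((V : Set X)ᶜ))

theorem zeroLocus_compIdeal :
    PrimeSpectrum.zeroLocus (compIdeal (V := V) hW : Set Γ(X, W)) =
      hW.fromSpec ⁻¹' ((V : Set X)ᶜ) := by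
  rw [compIdeal, PrimeSpectrum.zeroLocus_vanishingIdeal_eq_closure]
  apply IsClosed.closure_eq
  exact (V.isOpen.isClosed_compl).preimage hW.fromSpec.continuous

theorem basicOpen_le_of_mem (f : Γ(X, W)) (hf : f ∈ compIdeal (V := V) hW) :
    X.basicOpen f ≤ V := by
  intro x hx
  have hxW : x ∈ W := X.basicOpen_le f hx
  obtain ⟨q, rfl⟩ : ∃ q, hW.fromSpec q = x := by
    have : x ∈ Set.range hW.fromSpec := by rw [hW.range_fromSpec]; exact hxW
    exact this
  have hq : q ∈ hW.fromSpec ⁻¹ᵁ X.basicOpen f := hx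
  rw [hW.fromSpec_preimage_basicOpen] at hq
  by_contra hqV
  have hqZ : q ∈ PrimeSpectrum.zeroLocus (compIdeal (V := V) hW : Set Γ(X, W)) := by
    rw [zeroLocus_compIdeal]; exact hqV
  exact hq (hqZ hf)

/-- the restriction map -/
noncomputable abbrev res : Γ(X, W) →+* Γ(X, V) := (X.presheaf.map (homOfLE hVW).op).hom

include hV in
theorem map_compIdeal_eq_top : (compIdeal (V := V) hW).map (res hVW) = ⊤ := by
  by_contra hne
  obtain ⟨n, hn, hle⟩ := Ideal.exists_le_maximal _ hne
  let nn : PrimeSpectrum Γ(X, V) := ⟨n, hn.isPrime⟩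
  have hcomp : Spec.map (X.presheaf.map (homOfLE hVW).op) ≫ hW.fromSpec = hV.fromSpec :=
    hW.map_fromSpec hV (homOfLE hVW).op
  have hv : hV.fromSpec nn ∈ V := by
    have : hV.fromSpec nn ∈ Set.range hV.fromSpec := ⟨nn, rfl⟩
    rwa [hV.range_fromSpec] at this
  let q : PrimeSpectrum Γ(X, W) := (Spec.map (X.presheaf.map (homOfLE hVW).op)) nn
  have hq : hW.fromSpec q = hV.fromSpec nn := by
    rw [← hcomp]; rfl
  have hqZ : q ∈ PrimeSpectrum.zeroLocus (compIdeal (V := V) hW : Set Γ(X, W)) := by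
    intro f hf
    have : res hVW f ∈ n := hle (Ideal.mem_map_of_mem _ hf)
    exact this
  rw [zeroLocus_compIdeal] at hqZ
  apply hqZ
  change hW.fromSpec q ∈ V
  rw [hq]; exact hv

theorem ker_torsion (x : Γ(X, W)) (hx : res hVW x = 0) (f : Γ(X, W))
    (hf : f ∈ compIdeal (V := V) hW) : ∃ k : ℕ, f ^ k * x = 0 := by
  have hfV : X.basicOpen f ≤ V := basicOpen_le_of_mem hW f hf
  have hloc := hW.isLocalization_basicOpen f
  have h0 : algebraMap Γ(X, W) Γ(X, X.basicOpen f) x = 0 := by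
    have h1 : algebraMap Γ(X, W) Γ(X, X.basicOpen f) x =
        (X.presheaf.map (homOfLE hfV).op).hom (res hVW x) := by
      change (X.presheaf.map (homOfLE (X.basicOpen_le f)).op).hom x = _
      rw [res, ← CommRingCat.comp_apply, ← Functor.map_comp]
      rfl
    rw [h1, hx, map_zero]
  obtain ⟨⟨_, k, rfl⟩, hk⟩ := (IsLocalization.map_eq_zero_iff (Submonoid.powers f) _ x).1 h0
  exact ⟨k, hk⟩

include hV in
theorem coker_torsion (y : Γ(X, V)) (f : Γ(X, W)) (hf : f ∈ compIdeal (V := V) hW) :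
    ∃ (k : ℕ) (a : Γ(X, W)), res hVW a = res hVW f ^ k * y := by
  have hfV : X.basicOpen f ≤ V := basicOpen_le_of_mem hW f hf
  have heq : X.basicOpen (res hVW f) = X.basicOpen f := by
    rw [res, Scheme.basicOpen_res]
    exact inf_eq_right.2 hfV
  have hlocA := hW.isLocalization_basicOpen f
  have hlocB := hV.isLocalization_of_eq_basicOpen (res hVW f) (homOfLE hfV) heq.symm
  letI algB : Algebra Γ(X, V) Γ(X, X.basicOpen f) := (X.presheaf.map (homOfLE hfV).op).hom.toAlgebra
  have htri : ∀ a : Γ(X, W), algebraMap Γ(X, W) Γ(X, X.basicOpen f) a =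
      algebraMap Γ(X, V) Γ(X, X.basicOpen f) (res hVW a) := by
    intro a
    change (X.presheaf.map (homOfLE (X.basicOpen_le f)).op).hom a =
      (X.presheaf.map (homOfLE hfV).op).hom ((X.presheaf.map (homOfLE hVW).op).hom a)
    rw [← CommRingCat.comp_apply, ← Functor.map_comp]
    rfl
  obtain ⟨⟨a, ⟨_, k, rfl⟩⟩, hak⟩ := IsLocalization.surj (Submonoid.powers f)
    (algebraMap Γ(X, V) Γ(X, X.basicOpen f) y)
  simp only at hak
  have h0 : algebraMap Γ(X, V) Γ(X, X.basicOpen f) (y * res hVW f ^ k - res hVW a) = 0 := by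
    rw [map_sub, map_mul, map_pow, ← htri, ← htri, ← map_pow, hak, sub_self]
  obtain ⟨⟨_, l, rfl⟩, hl⟩ :=
    (IsLocalization.map_eq_zero_iff (Submonoid.powers (res hVW f)) _ _).1 h0
  refine ⟨l + k, f ^ l * a, ?_⟩
  simp only at hl
  rw [map_mul, map_pow]
  linear_combination (-1 : Γ(X, V)) * hl

end Geom


section Main

variable {X : Scheme.{u}} [IsLocallyNoetherian X] {W V : X.Opens} (hW : IsAffineOpen W)
  (hV : IsAffineOpen V) (hVW : V ≤ W)

include hW hV hVW in
theorem stalk_dim_le_one (ξ : X) (hξW : ξ ∈ W) (hξV : ξ ∉ V)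
    (hgen : ∀ y : X, y ⤳ ξ → y ≠ ξ → y ∈ V) :
    ringKrullDim (X.presheaf.stalk ξ) ≤ 1 := by
  haveI : IsNoetherianRing Γ(X, W) := IsLocallyNoetherian.component_noetherian ⟨W, hW⟩
  haveI : IsNoetherianRing Γ(X, V) := IsLocallyNoetherian.component_noetherian ⟨V, hV⟩
  letI : Algebra Γ(X, W) Γ(X, V) := (res hVW).toAlgebra
  set I := compIdeal (V := V) hW with hI
  have hcd : LocCoh.CdLE Γ(X, W) I 1 := by
    apply cdLE_one I Γ(X, V)
    · exact map_compIdeal_eq_top hW hV hVW
    · intro x hx f hf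
      exact ker_torsion hW hVW x hx f hf
    · intro y f hf
      exact coker_torsion hW hV hVW y f hf
  let p := hW.primeIdealOf ⟨ξ, hξW⟩
  have hpξ : hW.fromSpec p = ξ := hW.fromSpec_primeIdealOf ⟨ξ, hξW⟩
  have hpZ : p ∈ PrimeSpectrum.zeroLocus (I : Set Γ(X, W)) := by
    rw [hI, zeroLocus_compIdeal]
    change hW.fromSpec p ∉ V
    rw [hpξ]; exact hξV
  have hmin : p.asIdeal ∈ I.minimalPrimes := by
    refine ⟨⟨p.2, hpZ⟩, ?_⟩
    rintro q ⟨hqp, hIq⟩ hqle
    let qq : PrimeSpectrum Γ(X, W) := ⟨q, hqp⟩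
    have hqZ : qq ∈ PrimeSpectrum.zeroLocus (I : Set Γ(X, W)) := hIq
    rw [hI, zeroLocus_compIdeal] at hqZ
    have hqV : hW.fromSpec qq ∉ V := hqZ
    have hspec : qq ⤳ p := (PrimeSpectrum.le_iff_specializes qq p).1 hqle
    have hspec' : hW.fromSpec qq ⤳ ξ := by
      rw [← hpξ]; exact hspec.map hW.fromSpec.continuous
    have heq : hW.fromSpec qq = ξ := by
      by_contra hne
      exact hqV (hgen _ hspec' hne)
    have : qq = p := hW.fromSpec.isOpenEmbedding.injective (heq.trans hpξ.symm)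
    rw [← this]
  have hht := height_le_one I hcd p.asIdeal hmin
  letI : Algebra Γ(X, W) (X.presheaf.stalk ξ) :=
    TopCat.Presheaf.algebra_section_stalk X.presheaf (⟨ξ, hξW⟩ : W)
  haveI : IsLocalization.AtPrime (X.presheaf.stalk ξ) p.asIdeal :=
    hW.isLocalization_stalk ⟨ξ, hξW⟩
  rw [IsLocalization.AtPrime.ringKrullDim_eq_height p.asIdeal (X.presheaf.stalk ξ)]
  exact_mod_cast hht

end Main

section Closure

variable {X : Scheme.{u}} [IsLocallyNoetherian X] {W V : X.Opens} (hW : IsAffineOpen W)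

include hW in
/-- a point of `W` in the closure of an open `V ≤ W` is a specialization of a point of `V` -/
theorem exists_specializes_of_mem_closure (ξ : X) (hξW : ξ ∈ W)
    (hcl : ξ ∈ closure (V : Set X)) : ∃ y ∈ V, y ⤳ ξ := by
  classical
  by_contra hcon
  push Not at hcon
  haveI : IsNoetherianRing Γ(X, W) := IsLocallyNoetherian.component_noetherian ⟨W, hW⟩
  set I := compIdeal (V := V) hW with hI
  let p := hW.primeIdealOf ⟨ξ, hξW⟩
  have hpξ : hW.fromSpec p = ξ := hW.fromSpec_primeIdealOf ⟨ξ, hξW⟩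
  -- every prime below `p` contains `I`
  have hle : ∀ q : PrimeSpectrum Γ(X, W), q ≤ p → I ≤ q.asIdeal := by
    intro q hq
    have hspec : hW.fromSpec q ⤳ ξ := by
      rw [← hpξ]
      exact ((PrimeSpectrum.le_iff_specializes q p).1 hq).map hW.fromSpec.continuous
    have hqV : hW.fromSpec q ∉ V := fun h => hcon _ h hspec
    have hqZ : q ∈ PrimeSpectrum.zeroLocus (I : Set Γ(X, W)) := by
      rw [hI, zeroLocus_compIdeal]; exact hqV
    exact hqZ
  -- for each `f ∈ I`, some `s ∉ p` kills a power of `f`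
  have hkill : ∀ f ∈ I, ∃ s ∉ p.asIdeal, ∃ n : ℕ, s * f ^ n = 0 := by
    intro f hf
    by_contra hno
    push Not at hno
    let S : Submonoid Γ(X, W) := Submonoid.powers f ⊔ p.asIdeal.primeCompl
    have hdisj : Disjoint ((⊥ : Ideal Γ(X, W)) : Set Γ(X, W)) S := by
      rw [Set.disjoint_left]
      intro z hz hzS
      have hz0 : z = 0 := hz
      obtain ⟨y, ⟨n, rfl⟩, w, hw, hyw⟩ := Submonoid.mem_sup.1 hzS
      exact hno w hw n (by rw [mul_comm, hyw, hz0])
    obtain ⟨q, hq, -, hqS⟩ := Ideal.exists_le_prime_disjoint ⊥ S hdisj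
    have hqp : q ≤ p.asIdeal := by
      intro z hz
      by_contra hzp
      exact Set.disjoint_left.1 hqS hz (Submonoid.mem_sup_right hzp)
    have hfq : f ∉ q := fun hfq =>
      Set.disjoint_left.1 hqS hfq (Submonoid.mem_sup_left (Submonoid.mem_powers f))
    exact hfq (hle ⟨q, hq⟩ hqp hf)
  -- uniform `s` for generators
  obtain ⟨gens, hgens⟩ : I.FG := IsNoetherian.noetherian I
  choose! sf hsf nf hnf using hkill
  let s : Γ(X, W) := ∏ g ∈ gens, sf g
  have hsp : s ∉ p.asIdeal := by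
    intro hs
    obtain ⟨g, hg, hgs⟩ := (Ideal.IsPrime.prod_mem_iff (hp := p.2)).1 hs
    exact hsf g (by rw [← hgens]; exact Ideal.subset_span hg) hgs
  have hξs : ξ ∈ X.basicOpen s := by
    have : p ∈ hW.fromSpec ⁻¹ᵁ X.basicOpen s := by
      rw [hW.fromSpec_preimage_basicOpen]; exact hsp
    rw [← hpξ]; exact this
  -- the basic open of `s` misses `V`
  have hmiss : ∀ x ∈ X.basicOpen s, x ∉ V := by
    intro x hx hxV
    have hxW : x ∈ W := X.basicOpen_le s hx
    obtain ⟨q, rfl⟩ : ∃ q, hW.fromSpec q = x := by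
      have : x ∈ Set.range hW.fromSpec := by rw [hW.range_fromSpec]; exact hxW
      exact this
    have hq : q ∈ hW.fromSpec ⁻¹ᵁ X.basicOpen s := hx
    rw [hW.fromSpec_preimage_basicOpen] at hq
    have hsq : s ∉ q.asIdeal := hq
    have hqZ : q ∉ PrimeSpectrum.zeroLocus (I : Set Γ(X, W)) := by
      rw [hI, zeroLocus_compIdeal]; exact fun h => h hxV
    have hIq : ¬ I ≤ q.asIdeal := hqZ
    apply hIq
    rw [← hgens, Ideal.span_le]
    intro g hg
    have hgI : g ∈ I := by rw [← hgens]; exact Ideal.subset_span hg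
    have h0 : sf g * g ^ nf g ∈ q.asIdeal := by rw [hnf g hgI]; exact q.asIdeal.zero_mem
    rcases q.2.mem_or_mem h0 with h1 | h1
    · exfalso
      apply hsq
      have : sf g ∣ s := Finset.dvd_prod_of_mem sf hg
      exact Ideal.mem_of_dvd _ this h1
    · exact q.2.mem_of_pow_mem _ h1
  obtain ⟨x, hx1, hx2⟩ := mem_closure_iff.1 hcl (X.basicOpen s) (X.basicOpen s).isOpen hξs
  exact hmiss x hx1 hx2

end Closure

section SchemeMain

variable (X : Scheme.{u}) [IsLocallyNoetherian X] (U : X.Opens) [IsAffineHom U.ι]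

theorem scheme_main (ξ : X) (hξ : ξ ∉ U) (hgen : ∀ y : X, y ∉ U → y ⤳ ξ → y = ξ) :
    ringKrullDim (X.presheaf.stalk ξ) ≤ 1 ∧
      (ξ ∈ closure (U : Set X) → ringKrullDim (X.presheaf.stalk ξ) = 1) := by
  obtain ⟨_, ⟨W, hW : IsAffineOpen W, rfl⟩, hξW, -⟩ :=
    X.isBasis_affineOpens.exists_subset_of_mem_open (Set.mem_univ ξ) isOpen_univ
  have hξW : ξ ∈ W := hξW
  let V : X.Opens := U ⊓ W
  have hV : IsAffineOpen V := by
    have h1 : IsAffineOpen (U.ι ''ᵁ (U.ι ⁻¹ᵁ W)) := (hW.preimage U.ι).image_of_isOpenImmersion U.ι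
    rwa [Scheme.Hom.image_preimage_eq_opensRange_inf, Scheme.Opens.opensRange_ι] at h1
  have hVW : V ≤ W := inf_le_right
  have hξV : ξ ∉ V := fun h => hξ h.1
  have hle : ringKrullDim (X.presheaf.stalk ξ) ≤ 1 := by
    apply stalk_dim_le_one hW hV hVW ξ hξW hξV
    intro y hy hne
    refine ⟨?_, ?_⟩
    · by_contra hyU
      exact hne (hgen y hyU hy)
    · exact hy.mem_open W.isOpen hξW
  refine ⟨hle, fun hcl => ?_⟩
  have hclV : ξ ∈ closure (V : Set X) := by
    rw [mem_closure_iff] at hcl ⊢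
    intro O hO hξO
    obtain ⟨x, hx1, hx2⟩ := hcl (O ∩ W) (hO.inter W.isOpen) ⟨hξO, hξW⟩
    exact ⟨x, hx1.1, hx2, hx1.2⟩
  obtain ⟨y, hyV, hyξ⟩ := exists_specializes_of_mem_closure hW ξ hξW hclV
  rw [ringKrullDim_stalk_eq_coheight] at hle ⊢
  have hne0 : Order.coheight ξ ≠ 0 := by
    rw [Order.coheight_ne_zero]
    intro hmax
    have h1 : ξ ≤ y := hyξ
    have h2 : y ≤ ξ := hmax h1
    have h3 : ξ ⤳ y := h2
    exact hξ (h3.mem_open U.isOpen hyV.1)
  have hle' : Order.coheight ξ ≤ 1 := by exact_mod_cast hle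
  have : Order.coheight ξ = 1 := le_antisymm hle' (Order.one_le_iff_pos.2 (pos_iff_ne_zero.2 hne0))
  rw [this]; rfl

end SchemeMain

section SpecMain

theorem spec_main (A : Type u) [CommRing A] [IsNoetherianRing A]
    (U : (Spec (CommRingCat.of A)).Opens) (hU : IsAffineOpen U) (p : PrimeSpectrum A)
    (hpU : (p : (Spec (CommRingCat.of A) : Type u)) ∉ (U : Set (Spec (CommRingCat.of A) : Type u)))
    (hmin : ∀ q : PrimeSpectrum A, q.asIdeal ≤ p.asIdeal →
      (q : (Spec (CommRingCat.of A) : Type u)) ∉ (U : Set (Spec (CommRingCat.of A) : Type u)) →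
      q = p) : p.asIdeal.height ≤ 1 := by
  have hdim : ringKrullDim ((Spec (CommRingCat.of A)).presheaf.stalk p) ≤ 1 := by
    apply stalk_dim_le_one (X := Spec (CommRingCat.of A)) (W := ⊤) (V := U)
      (isAffineOpen_top _) hU le_top p trivial hpU
    intro y hy hne
    by_contra hyU
    exact hne (hmin y ((PrimeSpectrum.le_iff_specializes y p).2 hy) hyU)
  let k : Algebra A ((Spec (CommRingCat.of A)).presheaf.stalk p) :=
    StructureSheaf.stalkAlgebra A p
  have : IsLocalization.AtPrime ((Spec (CommRingCat.of A)).presheaf.stalk p) p.asIdeal :=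
    StructureSheaf.IsLocalization.to_stalk A p
  rw [IsLocalization.AtPrime.ringKrullDim_eq_height p.asIdeal
    ((Spec (CommRingCat.of A)).presheaf.stalk p)] at hdim
  exact_mod_cast hdim

end SpecMain

end Groth.Agent.Helper3.AffCompl
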