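import Mathlib
import Groth.Agent.S1570
import Groth.Agent.Helper3.AffCompl

set_option autoImplicit false
set_option linter.style.haveILetI false
set_option linter.unusedSectionVars false
set_option linter.unusedVariables false
set_option linter.deprecated false
set_option linter.style.haveILetI false
set_option linter.unusedSectionVars false
set_option linter.unusedVariables false

universe u
open CategoryTheory CategoryTheory.Limits AlgebraicGeometry TopologicalSpace

namespace Groth.Agent.Helper3.EffCarUFD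

/-- In a UFD a finite intersection of nonzero principal ideals is a nonzero principal ideal. -/
theorem exists_inf_span_singleton {A : Type u} [CommRing A] [IsDomain A]
    [UniqueFactorizationMonoid A] {ι : Type*} (s : Finset ι) (g : ι → A)
    (hg : ∀ i ∈ s, g i ≠ 0) :
    ∃ c : A, c ≠ 0 ∧ s.inf (fun i => Ideal.span {g i}) = Ideal.span {c} := by
  classical
  letI : GCDMonoid A := UniqueFactorizationMonoid.toGCDMonoid A
  induction s using Finset.induction_on with
  | empty => exact ⟨1, one_ne_zero, by simp⟩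
  | insert a s ha ih =>
    obtain ⟨c, hc0, hc⟩ := ih (fun i hi => hg i (Finset.mem_insert_of_mem hi))
    refine ⟨lcm (g a) c, ?_, ?_⟩
    · rw [Ne, lcm_eq_zero_iff]
      push Not
      exact ⟨hg a (Finset.mem_insert_self _ _), hc0⟩
    · rw [Finset.inf_insert, hc]
      ext x
      simp only [Ideal.mem_inf, Ideal.mem_span_singleton, lcm_dvd_iff]

/-- A radical ideal of a Noetherian UFD all of whose minimal primes have height one is generated
by one nonzero element. -/
theorem exists_span_singleton_of_minimalPrimes_height {A : Type u} [CommRing A] [IsDomain A]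
    [IsNoetherianRing A] [UniqueFactorizationMonoid A] (J : Ideal A) (hJ : J.IsRadical)
    (h : ∀ P ∈ J.minimalPrimes, P.height = 1) :
    ∃ c : A, c ≠ 0 ∧ J = Ideal.span {c} := by
  classical
  have hfin : J.minimalPrimes.Finite := Ideal.finite_minimalPrimes_of_isNoetherianRing A J
  have hgen : ∀ P : J.minimalPrimes, ∃ π : A, π ≠ 0 ∧ (P : Ideal A) = Ideal.span {π} := by
    rintro ⟨P, hP⟩
    haveI : P.IsPrime := hP.1.1
    have h1 := h P hP
    obtain ⟨π, hπP, hπ⟩ := Ideal.IsPrime.exists_mem_prime_of_ne_bot ‹P.IsPrime›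
      (Ideal.ne_bot_of_height_eq_one h1)
    exact ⟨π, hπ.ne_zero, Ideal.eq_span_singleton_of_height_eq_one h1 hπP hπ⟩
  choose π hπ0 hπ using hgen
  haveI : Fintype J.minimalPrimes := hfin.fintype
  obtain ⟨c, hc0, hc⟩ := exists_inf_span_singleton (Finset.univ : Finset J.minimalPrimes) π
    (fun i _ => hπ0 i)
  refine ⟨c, hc0, ?_⟩
  rw [← hc]
  have hJ' : J = sInf J.minimalPrimes := by rw [Ideal.sInf_minimalPrimes, hJ.radical]
  refine hJ'.trans ?_
  apply le_antisymm
  · apply Finset.le_inf
    intro P _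
    rw [← hπ P]
    exact sInf_le P.2
  · apply le_sInf
    intro P hP
    have := Finset.inf_le (f := fun i : J.minimalPrimes => Ideal.span {π i})
      (Finset.mem_univ (⟨P, hP⟩ : J.minimalPrimes))
    rw [← hπ ⟨P, hP⟩] at this
    exact this


section Geom

variable (X : Scheme.{u}) [IsLocallyNoetherian X] (U : X.Opens) [IsAffineHom U.ι]

/-- the closed complement of `U`. -/
def Zc : Closeds X := ⟨(U : Set X)ᶜ, U.isOpen.isClosed_compl⟩

theorem height_eq_one (hdense : Dense (U : Set X)) (V : X.affineOpens) (x : X) (hx : x ∈ V.1)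
    (P : Ideal (X.presheaf.stalk x))
    (hP : P ∈ (((Scheme.IdealSheafData.vanishingIdeal (Zc X U)).ideal V).map
      (X.presheaf.germ V.1 x hx).hom).minimalPrimes) :
    P.height = 1 := by
  letI := X.presheaf.algebra_section_stalk ⟨x, hx⟩
  haveI := V.2.isLocalization_stalk ⟨x, hx⟩
  set 𝔭 := (V.2.primeIdealOf ⟨x, hx⟩).asIdeal with h𝔭
  set I := (Scheme.IdealSheafData.vanishingIdeal (Zc X U)).ideal V with hI
  have hPmap : P ∈ (I.map (algebraMap Γ(X, V.1) (X.presheaf.stalk x))).minimalPrimes := hP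
  rw [IsLocalization.minimalPrimes_map 𝔭.primeCompl] at hPmap
  set 𝔮 := P.under Γ(X, V.1) with h𝔮def
  have h𝔮 : 𝔮 ∈ I.minimalPrimes := hPmap
  haveI : P.IsPrime := hP.1.1
  haveI h𝔮prime : 𝔮.IsPrime := h𝔮.1.1
  rw [← IsLocalization.height_under 𝔭.primeCompl P]
  let y : PrimeSpectrum Γ(X, V.1) := ⟨𝔮, h𝔮prime⟩
  let ξ : X := V.2.fromSpec y
  have hξV : ξ ∈ V.1 := by
    have : ξ ∈ Set.range V.2.fromSpec := ⟨y, rfl⟩
    rw [V.2.range_fromSpec] at this
    exact this
  have hIvan : I = PrimeSpectrum.vanishingIdeal (V.2.fromSpec ⁻¹' ((Zc X U : Closeds X) : Set X)) :=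
    Scheme.IdealSheafData.vanishingIdeal_ideal _ _
  have hclosed : IsClosed (V.2.fromSpec ⁻¹' ((Zc X U : Closeds X) : Set X)) :=
    (Zc X U).isClosed.preimage V.2.fromSpec.continuous
  -- points of `V` in the complement of `U` correspond to primes containing `I`
  have hmemZ : ∀ z : PrimeSpectrum Γ(X, V.1), I ≤ z.asIdeal ↔ V.2.fromSpec z ∉ U := by
    intro z
    have h1 : I ≤ z.asIdeal ↔ z ∈ PrimeSpectrum.zeroLocus (I : Set Γ(X, V.1)) :=
      (PrimeSpectrum.mem_zeroLocus z (I : Set Γ(X, V.1))).symm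
    rw [h1, hIvan, PrimeSpectrum.zeroLocus_vanishingIdeal_eq_closure]
    have hc : closure (V.2.fromSpec ⁻¹' ((Zc X U : Closeds X) : Set X)) = _ := hclosed.closure_eq
    exact (Iff.of_eq (congrArg (fun S => z ∈ S) hc)).trans Iff.rfl
  have hξU : ξ ∉ U := (hmemZ y).mp h𝔮.1.2
  have hgen : ∀ w : X, w ∉ U → w ⤳ ξ → w = ξ := by
    intro w hwU hwξ
    have hwV : w ∈ V.1 := hwξ.mem_open V.1.isOpen hξV
    set z := V.2.primeIdealOf ⟨w, hwV⟩ with hz
    have hzw : V.2.fromSpec z = w := V.2.fromSpec_primeIdealOf ⟨w, hwV⟩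
    have hIz : I ≤ z.asIdeal := (hmemZ z).mpr (by rw [hzw]; exact hwU)
    have hspec : @Specializes (Spec Γ(X, V.1)) _ z y := by
      have hemb := V.2.fromSpec.isOpenEmbedding.toIsEmbedding
      rw [← hemb.isInducing.specializes_iff]
      rw [hzw]
      exact hwξ
    have hle : z.asIdeal ≤ 𝔮 := (PrimeSpectrum.le_iff_specializes z y).mpr hspec
    have heq : z.asIdeal = 𝔮 := le_antisymm hle (h𝔮.2 ⟨z.isPrime, hIz⟩ hle)
    have : z = y := PrimeSpectrum.ext heq
    rw [← hzw, this]
  have hdim := (Groth.Agent.Helper3.AffCompl.scheme_main X U ξ hξU hgen).2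
    (by rw [hdense.closure_eq]; trivial)
  rw [@IsLocalization.AtPrime.ringKrullDim_eq_height _ _ 𝔮 _ (X.presheaf.stalk ξ) _
    (X.presheaf.algebra_section_stalk ⟨ξ, hξV⟩) (V.2.isLocalization_stalk' y hξV)] at hdim
  exact_mod_cast hdim

theorem main (hdense : Dense (U : Set X))
    (hufd : ∀ x : X, x ∉ U →
      IsDomain (X.presheaf.stalk x) ∧ UniqueFactorizationMonoid (X.presheaf.stalk x)) :
    ∃ D : X.IdealSheafData, BlowUp.IsEffCartierIdeal D ∧ (D.support : Set X) = (U : Set X)ᶜ := by
  refine ⟨Scheme.IdealSheafData.vanishingIdeal (Zc X U), ?_,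
    Scheme.IdealSheafData.coe_support_vanishingIdeal _⟩
  apply Groth.Agent.S1570.result X
  intro x hxD V hx
  have hxU : x ∉ U := by
    have : x ∈ ((Scheme.IdealSheafData.vanishingIdeal (Zc X U)).support : Set X) := hxD
    rw [Scheme.IdealSheafData.coe_support_vanishingIdeal] at this
    exact this
  obtain ⟨hdom, hufm⟩ := hufd x hxU
  haveI := hdom
  haveI := hufm
  set J := ((Scheme.IdealSheafData.vanishingIdeal (Zc X U)).ideal V).map
    (X.presheaf.germ V.1 x hx).hom with hJ
  have hrad : J.IsRadical := by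
    letI := X.presheaf.algebra_section_stalk ⟨x, hx⟩
    haveI := V.2.isLocalization_stalk ⟨x, hx⟩
    have h1 : ((Scheme.IdealSheafData.vanishingIdeal (Zc X U)).ideal V).IsRadical := by
      rw [Scheme.IdealSheafData.vanishingIdeal_ideal]
      exact PrimeSpectrum.isRadical_vanishingIdeal _
    have h2 := IsLocalization.map_radical (V.2.primeIdealOf ⟨x, hx⟩).asIdeal.primeCompl
      (X.presheaf.stalk x) ((Scheme.IdealSheafData.vanishingIdeal (Zc X U)).ideal V)
    rw [h1.radical] at h2
    change J = J.radical at h2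
    rw [h2]
    exact Ideal.radical_isRadical _
  obtain ⟨c, hc0, hc⟩ := exists_span_singleton_of_minimalPrimes_height J hrad
    (fun P hP => height_eq_one X U hdense V x hx P hP)
  exact ⟨c, mem_nonZeroDivisors_of_ne_zero hc0, hc⟩

end Geom

end Groth.Agent.Helper3.EffCarUFD
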