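import Mathlib
import Groth.Agent.Helper3.EffCarUFD
import Groth.Agent.Helper4.IdealTwist
import Groth.Agent.Lead.InvDualA
import Groth.Agent.Lead.IdealModDict

set_option autoImplicit false
set_option linter.style.haveILetI false
set_option linter.unusedSectionVars false
set_option linter.unusedVariables false
set_option linter.deprecated false
set_option linter.style.haveILetI false
set_option linter.unusedSectionVars false
set_option linter.unusedVariables false

universe u

open AlgebraicGeometry CategoryTheory CategoryTheory.Limits TopologicalSpace Opposite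

namespace Groth.Agent.Helper3.AmpleUFD

open Groth.Agent.Helper4.GenLoc Groth.Agent.Helper4.PullSec Groth.Agent.Helper4.TensorInv

variable {X : Scheme.{u}}

/-- a Noetherian scheme has a dense affine open through any given point -/
theorem exists_dense_affine [IsNoetherian X] (x : X) :
    ∃ U : X.Opens, IsAffineOpen U ∧ x ∈ U ∧ Dense (U : Set X) := by
  haveI : NoetherianSpace X := inferInstance
  let P : Set X.Opens := {W | IsAffineOpen W ∧ x ∈ W}
  have hne : P.Nonempty := by
    obtain ⟨W, hW, hxW, -⟩ := (Opens.isBasis_iff_nbhd.mp X.isBasis_affineOpens)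
      (show x ∈ (⊤ : X.Opens) from trivial)
    exact ⟨W, hW, hxW⟩
  obtain ⟨W, ⟨hW, hxW⟩, hmax⟩ := (wellFounded_gt (α := X.Opens)).has_min P hne
  refine ⟨W, hW, hxW, ?_⟩
  by_contra hnd
  obtain ⟨y, hy⟩ : ∃ y, y ∉ closure (W : Set X) := by
    by_contra h
    push Not at h
    exact hnd (fun z => h z)
  let V₀ : X.Opens := ⟨(closure (W : Set X))ᶜ, isClosed_closure.isOpen_compl⟩
  obtain ⟨V, hV, hyV, hVV₀⟩ := (Opens.isBasis_iff_nbhd.mp X.isBasis_affineOpens)
    (show y ∈ V₀ from hy)
  have hdisj : Disjoint W V := by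
    rw [disjoint_iff]
    ext z
    simp only [Opens.coe_inf, Set.mem_inter_iff, SetLike.mem_coe, Opens.coe_bot,
      Set.mem_empty_iff_false, iff_false, not_and]
    intro hzW hzV
    exact (hVV₀ hzV) (subset_closure hzW)
  have haff := hW.sup_of_disjoint hV hdisj
  apply hmax (W ⊔ V) ⟨haff, Or.inl hxW⟩
  show W < W ⊔ V
  refine lt_of_le_of_ne le_sup_left ?_
  intro heq
  have : y ∈ W := by rw [heq]; exact Or.inr hyV
  exact hy (subset_closure this)

section ideal

variable (D : X.IdealSheafData) (U : X.Opens) (hsupp : (D.support : Set X) = (U : Set X)ᶜ)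

include hsupp in
theorem idealModι_app_bijective (V : X.Opens) (hV : V ≤ U) :
    Function.Bijective ((ClSub.idealModι D).app V) := by
  refine ⟨Groth.Agent.Lead.IdealModDict.idealModι_app_injective D V, ?_⟩
  intro r
  have hbot : D.subschemeι ⁻¹ᵁ V = ⊥ := by
    ext z
    simp only [Opens.coe_bot, Set.mem_empty_iff_false, iff_false]
    intro hz
    have h1 : D.subschemeι z ∈ (D.support : Set X) := by
      rw [← D.range_subschemeι]; exact ⟨z, rfl⟩
    rw [hsupp] at h1
    exact h1 (hV hz)
  have hss : Subsingleton Γ(D.subscheme, D.subschemeι ⁻¹ᵁ V) := by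
    rw [hbot]; infer_instance
  have h0 : (ClSub.toSubscheme D).app V r = 0 := by
    have : ∀ a b : Γ(D.subscheme, D.subschemeι ⁻¹ᵁ V), a = b := fun a b => Subsingleton.elim a b
    exact this _ _
  exact (Groth.Agent.Helper4.SubSec.exists_kernel_section_iff (ClSub.toSubscheme D) V r).2 h0

include hsupp in
theorem basicOpen_le (T : X.Opens) (m : Γ(ClSub.idealMod D, T)) :
    X.basicOpen (toFn ((ClSub.idealModι D).app T m)) ≤ U := by
  intro y hy
  by_contra hyU
  have hys : y ∈ D.support := by
    rw [← SetLike.mem_coe, hsupp]; exact hyU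
  have hyT : y ∈ T := X.basicOpen_le _ hy
  obtain ⟨V, hV, hyV, hVT⟩ := (Opens.isBasis_iff_nbhd.mp X.isBasis_affineOpens) hyT
  set r : Γ(X, T) := toFn ((ClSub.idealModι D).app T m) with hr
  have hrV : (X.presheaf.map (homOfLE hVT).op).hom r ∈ D.ideal ⟨V, hV⟩ := by
    rw [← Groth.Agent.Lead.IdealModDict.exists_section_iff]
    refine ⟨(ClSub.idealMod D).presheaf.map (homOfLE hVT).op m, ?_⟩
    have := (ClSub.idealModι D).mapPresheaf.naturality (homOfLE hVT).op
    have h2 := congrArg (fun φ => φ.hom m) this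
    exact h2
  rw [Scheme.IdealSheafData.mem_support_iff_of_mem (U := ⟨V, hV⟩) hyV,
    Scheme.mem_zeroLocus_iff] at hys
  have h3 := hys _ hrV
  apply h3
  rw [Scheme.basicOpen_res]
  exact ⟨hyV, hy⟩

end ideal

theorem main (X : Scheme.{u}) [IsNoetherian X] [X.IsSeparated]
    (hfact : ∀ x : X, ∃ _ : IsDomain (X.presheaf.stalk x),
      UniqueFactorizationMonoid (X.presheaf.stalk x)) :
    MoreMor.HasAmpleFamily X := by
  refine ⟨inferInstance, fun x => ?_⟩
  obtain ⟨U, hU, hxU, hdense⟩ := exists_dense_affine x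
  haveI : IsAffine (U : Scheme.{u}) := hU
  haveI : IsAffineHom (U.ι ≫ terminal.from X) := inferInstance
  haveI : IsAffineHom U.ι := IsAffineHom.of_comp U.ι (terminal.from X)
  obtain ⟨D, hD, hsupp⟩ := Groth.Agent.Helper3.EffCarUFD.main X U hdense
    (fun y _ => by obtain ⟨h1, h2⟩ := hfact y; exact ⟨h1, h2⟩)
  have hJ := Groth.Agent.Lead.IdealModDict.isInvertible_of_isEffCartierIdeal D hD
  obtain ⟨M, hM, -, ⟨e⟩⟩ := Groth.Agent.Lead.InvDual.exists_inverse _ hJ
  let s₁ : Coh.structureModule X ⟶ CohB1.tensorMod (Coh.structureModule X) M :=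
    e.inv ≫ KoszTw.tensorMap (ClSub.idealModι D) (𝟙 M)
  have hle : CohB1.genLocus _ s₁ ≤ U :=
    Groth.Agent.Helper4.IdealTwist.genLocus_le_of_factor (ClSub.idealModι D) U
      (basicOpen_le D U hsupp) e.inv
  have hge : U ≤ CohB1.genLocus _ s₁ := by
    intro y hy
    obtain ⟨V₀, hyV₀, hV₀⟩ := hM y
    have htriv : IsTrivAlong M (V₀ ⊓ U).ι := IsTrivAlong.of_le inf_le_left hV₀
    obtain ⟨ε⟩ := htriv
    have h1 : V₀ ⊓ U ≤ CohB1.genLocus _ s₁ := by
      rw [le_genLocus_iff, isIso_restrict_iff]
      intro T hT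
      have hb1 : Function.Bijective (e.inv.app T) := by
        refine ⟨fun a b hab => ?_, fun b => ⟨e.hom.app T b, ?_⟩⟩
        · have h3 := congrArg (e.hom.app T) hab
          have h4 : ∀ c, e.hom.app T (e.inv.app T c) = c := by
            intro c
            have : (e.inv ≫ e.hom).app T c = c := by rw [e.inv_hom_id]; rfl
            exact this
          rw [h4, h4] at h3
          exact h3
        · have : (e.hom ≫ e.inv).app T b = b := by rw [e.hom_inv_id]; rfl
          exact this
      have hb2 := Groth.Agent.Helper4.IdealTwist.tensorMap_app_bijective (ClSub.idealMod D)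
        (Coh.structureModule X) M (V₀ ⊓ U) ε (ClSub.idealModι D) hT
        (idealModι_app_bijective D U hsupp T (hT.trans inf_le_right))
      exact hb2.comp hb1
    exact h1 ⟨hyV₀, hy⟩
  have heq : CohB1.genLocus _ s₁ = U := le_antisymm hle hge
  refine ⟨M, 1, s₁, hM, le_rfl, ?_, ?_⟩
  · show x ∈ CohB1.genLocus (CohB1.tensorMod (Coh.structureModule X) M) s₁
    rw [heq]; exact hxU
  · show IsAffineOpen (CohB1.genLocus (CohB1.tensorMod (Coh.structureModule X) M) s₁)
    rw [heq]; exact hU

end Groth.Agent.Helper3.AmpleUFD
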