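import Mathlib
import Groth.Agent.Helper3.DiscLocal
import Groth.Agent.Helper3.PuncTriv
import Groth.Agent.Helper3.AmpleUFD
import Groth.Agent.Helper3.Dim1Top

set_option autoImplicit false
set_option linter.style.haveILetI false
set_option linter.unusedSectionVars false
set_option linter.unusedVariables false
set_option linter.deprecated false
set_option linter.style.haveILetI false
set_option linter.unusedSectionVars false
set_option linter.unusedVariables false

universe u

open CategoryTheory CategoryTheory.Limits AlgebraicGeometry TopologicalSpace Opposite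

namespace Groth.Agent.Helper3.Dim1Gen

open Groth.Agent.Helper4.StalkDict Groth.Agent.Helper3.DimOneAff

/-- a ring with Noetherian spectrum has finitely many minimal primes -/
theorem finite_minimalPrimes (C : Type u) [CommRing C] [NoetherianSpace (PrimeSpectrum C)] :
    (minimalPrimes C).Finite := by
  have h1 : (irreducibleComponents (PrimeSpectrum C)).Finite :=
    NoetherianSpace.finite_irreducibleComponents
  haveI : Finite ↥(irreducibleComponents (PrimeSpectrum C)) := h1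
  haveI : Finite (↥(irreducibleComponents (PrimeSpectrum C)))ᵒᵈ := this
  exact Finite.of_equiv _ (minimalPrimes.equivIrreducibleComponents (R := C)).toEquiv.symm

/-- the spectrum of a local ring of a scheme with Noetherian space is Noetherian -/
theorem finite_minimalPrimes_stalk (Y : Scheme.{u}) [NoetherianSpace Y] (z : Y) :
    (minimalPrimes (Y.presheaf.stalk z)).Finite := by
  haveI : NoetherianSpace (PrimeSpectrum (Y.presheaf.stalk z)) :=
    Topology.IsInducing.noetherianSpace (Y.fromSpecStalk z).isEmbedding.isInducing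
  exact finite_minimalPrimes _

/-- In a ring whose localization at `p` is Noetherian of dimension `≤ 1`, the open `⋃ D(f)`
(`f ∈ s ⊆ p` finite) coincides with a principal open `D(a)` on a principal neighbourhood `D(h)`
of `p`. -/
theorem algebra_key' {B : Type u} [CommRing B] (p : Ideal B) [p.IsPrime] (C : Type u) [CommRing C]
    [Algebra B C] [IsLocalization.AtPrime C p] (hfinmin : (minimalPrimes C).Finite) (hdim : ringKrullDim C ≤ 1)
    (s : Set B) (hs : s.Finite) (hsp : s ⊆ p) :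
    ∃ a h : B, h ∉ p ∧ ∀ 𝔶 : Ideal B, 𝔶.IsPrime → h ∉ 𝔶 → (a ∉ 𝔶 ↔ ∃ f ∈ s, f ∉ 𝔶) := by
  classical
  haveI : IsLocalRing C := IsLocalization.AtPrime.isLocalRing C p
  set I : Ideal B := Ideal.span s with hI
  set IC : Ideal C := I.map (algebraMap B C) with hIC
  have hICm : IC ≤ IsLocalRing.maximalIdeal C := by
    rw [← IsLocalization.AtPrime.map_eq_maximalIdeal p C]
    exact Ideal.map_mono (Ideal.span_le.mpr hsp)
  let T : Finset (Ideal C) := hfinmin.toFinset.filter (fun η => ¬ IC ≤ η)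
  obtain ⟨g, hgI, hgT⟩ : ∃ g ∈ IC, ∀ η ∈ T, g ∉ η := by
    by_contra hcon
    push Not at hcon
    have hsub : (IC : Set C) ⊆ ⋃ η ∈ (T : Set (Ideal C)), ((id η : Ideal C) : Set C) := by
      intro x hx
      obtain ⟨η, hη, hxη⟩ := hcon x hx
      simp only [Set.mem_iUnion]
      exact ⟨η, hη, hxη⟩
    rw [Ideal.subset_union_prime (f := id) ⊥ ⊥] at hsub
    · obtain ⟨η, hηT, hle⟩ := hsub
      exact (Finset.mem_filter.mp hηT).2 hle
    · intro η hη _ _
      exact ((hfinmin.mem_toFinset.mp (Finset.mem_filter.mp hη).1)).1.1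
  have hmht : (IsLocalRing.maximalIdeal C).height ≤ 1 := by
    have h1 := IsLocalRing.maximalIdeal_height_eq_ringKrullDim (R := C)
    rw [← h1] at hdim
    exact_mod_cast hdim
  have hprime : ∀ Q : Ideal C, Q.IsPrime → g ∈ Q → IC ≤ Q := by
    intro Q hQ hgQ
    by_contra hnot
    have hQm : Q ≠ IsLocalRing.maximalIdeal C := fun h => hnot (h ▸ hICm)
    have hlt : Q < IsLocalRing.maximalIdeal C :=
      lt_of_le_of_ne (IsLocalRing.le_maximalIdeal hQ.ne_top) hQm
    have hk : Ring.KrullDimLE 1 C := Ring.krullDimLE_iff.mpr hdim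
    rw [Ring.krullDimLE_one_iff] at hk
    have hQmin : Q ∈ minimalPrimes C := by
      rcases hk Q hQ with h | h
      · exact h
      · exact absurd (IsLocalRing.eq_maximalIdeal h) hQm
    exact hgT Q (Finset.mem_filter.mpr ⟨hfinmin.mem_toFinset.mpr hQmin, hnot⟩) hgQ
  have hrad : IC ≤ (Ideal.span {g}).radical := by
    rw [Ideal.radical_eq_sInf]
    apply le_sInf
    rintro Q ⟨hgQ, hQ⟩
    exact hprime Q hQ (hgQ (Ideal.mem_span_singleton_self g))
  obtain ⟨⟨a, s0⟩, hgs⟩ := IsLocalization.surj p.primeCompl g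
  simp only at hgs
  have hs0u : IsUnit (algebraMap B C s0) := IsLocalization.map_units C s0
  have hspan : Ideal.span {algebraMap B C a} = Ideal.span {g} := by
    rw [← hgs]
    exact Ideal.span_singleton_mul_right_unit hs0u g
  have haIC : algebraMap B C a ∈ IC := by
    rw [← hgs]
    exact IC.mul_mem_right _ hgI
  obtain ⟨s1, hs1, hs1a⟩ :=
    (IsLocalization.algebraMap_mem_map_algebraMap_iff p.primeCompl C I a).mp haIC
  have hmapspan : (Ideal.span {a}).map (algebraMap B C) = Ideal.span {algebraMap B C a} := by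
    rw [Ideal.map_span, Set.image_singleton]
  have key : ∀ f : B, ∃ m : B, m ∉ p ∧ (f ∈ s → ∃ N : ℕ, m * f ^ N ∈ Ideal.span {a}) := by
    intro f
    by_cases hf : f ∈ s
    · have h1 : algebraMap B C f ∈ IC := Ideal.mem_map_of_mem _ (Ideal.subset_span hf)
      obtain ⟨N, hN⟩ := hrad h1
      rw [← hspan, ← hmapspan, ← map_pow] at hN
      obtain ⟨m, hm, hmN⟩ :=
        (IsLocalization.algebraMap_mem_map_algebraMap_iff p.primeCompl C _ _).mp hN
      exact ⟨m, hm, fun _ => ⟨N, hmN⟩⟩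
    · exact ⟨1, fun h => ‹p.IsPrime›.ne_top ((Ideal.eq_top_iff_one p).mpr h), fun h => absurd h hf⟩
  choose m hmp hmN using key
  refine ⟨a, s1 * ∏ f ∈ hs.toFinset, m f, ?_, ?_⟩
  · intro hmem
    rcases ‹p.IsPrime›.mem_or_mem hmem with h | h
    · exact hs1 h
    · obtain ⟨f, -, hf⟩ := Ideal.IsPrime.prod_mem_iff.mp h
      exact hmp f hf
  · intro 𝔶 h𝔶 hh
    have hs1y : s1 ∉ 𝔶 := fun h => hh (𝔶.mul_mem_right _ h)
    have hmy : ∀ f ∈ s, m f ∉ 𝔶 := by
      intro f hf hmf
      apply hh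
      apply 𝔶.mul_mem_left
      exact Ideal.mem_of_dvd 𝔶 (Finset.dvd_prod_of_mem m (hs.mem_toFinset.mpr hf)) hmf
    constructor
    · intro ha
      by_contra hcon
      push Not at hcon
      have hIy : I ≤ 𝔶 := Ideal.span_le.mpr hcon
      rcases h𝔶.mem_or_mem (hIy hs1a) with h | h
      · exact hs1y h
      · exact ha h
    · rintro ⟨f, hf, hfy⟩ hay
      obtain ⟨N, hN⟩ := hmN f hf
      obtain ⟨b, hb⟩ := Ideal.mem_span_singleton'.mp hN
      have : m f * f ^ N ∈ 𝔶 := by
        rw [← hb]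
        exact 𝔶.mul_mem_left _ hay
      rcases h𝔶.mem_or_mem this with h | h
      · exact hmy f hf h
      · exact hfy (h𝔶.mem_of_pow_mem N h)



/-- Local structure of a retrocompact open with discrete complement at a point of the complement
whose local ring is Noetherian of dimension `≤ 1`: there is an affine neighbourhood `V` meeting the
complement only in `x`, on which `U` is a principal open. -/
theorem exists_local' (X : Scheme.{u}) (U : X.Opens) [QuasiCompact U.ι]
    (hdisc : DiscreteTopology ↥((U : Set X)ᶜ)) (x : X) (hx : x ∉ U)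
    (hN : (minimalPrimes (X.presheaf.stalk x)).Finite) (hd : ringKrullDim (X.presheaf.stalk x) ≤ 1) :
    ∃ (V : X.Opens) (a : Γ(X, V)), IsAffineOpen V ∧ x ∈ V ∧ (∀ y ∈ V, y ∉ U → y = x) ∧
      X.basicOpen a = V ⊓ U := by
  -- an open meeting the complement only in `x`
  have hx' : x ∈ (U : Set X)ᶜ := hx
  obtain ⟨O, hO, hOx⟩ : ∃ O : Set X, IsOpen O ∧
      (Subtype.val : ↥((U : Set X)ᶜ) → X) ⁻¹' O = {⟨x, hx'⟩} :=
    isOpen_induced_iff.mp (isOpen_discrete ({⟨x, hx'⟩} : Set ↥((U : Set X)ᶜ)))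
  have hxO : x ∈ O := by
    have : (⟨x, hx'⟩ : ↥((U : Set X)ᶜ)) ∈ (Subtype.val : ↥((U : Set X)ᶜ) → X) ⁻¹' O := by
      rw [hOx]; rfl
    exact this
  have hOU : ∀ y ∈ O, y ∉ U → y = x := by
    intro y hy hyU
    have : (⟨y, hyU⟩ : ↥((U : Set X)ᶜ)) ∈ (Subtype.val : ↥((U : Set X)ᶜ) → X) ⁻¹' O := hy
    rw [hOx] at this
    exact congrArg Subtype.val this
  obtain ⟨_, ⟨V₀, hV₀, rfl⟩, hxV₀, hV₀O⟩ :=
    (X.isBasis_affineOpens).exists_subset_of_mem_open hxO hO
  -- `U ⊓ V₀` is compact, hence a finite union of basic opens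
  have hcpt : IsCompact ((U ⊓ V₀ : X.Opens) : Set X) := by
    have h1 : IsCompact ((U.ι ⁻¹ᵁ V₀ : (↑U : Scheme.{u}).Opens) : Set ↑U) :=
      QuasiCompact.isCompact_preimage (f := U.ι) _ V₀.isOpen hV₀.isCompact
    have h2 := h1.image U.ι.continuous
    have h3 : (U.ι '' ((U.ι ⁻¹ᵁ V₀ : (↑U : Scheme.{u}).Opens) : Set ↑U)) =
        ((U ⊓ V₀ : X.Opens) : Set X) := by
      ext y
      constructor
      · rintro ⟨w, hw, rfl⟩
        exact ⟨w.2, hw⟩
      · rintro ⟨hyU, hyV⟩
        exact ⟨⟨y, hyU⟩, hyV, rfl⟩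
    rw [h3] at h2
    exact h2
  have hcov : ∀ y : (U ⊓ V₀ : X.Opens), ∃ f : Γ(X, V₀), X.basicOpen f ≤ U ⊓ V₀ ∧
      y.1 ∈ X.basicOpen f := fun y => hV₀.exists_basicOpen_le y y.2.2
  choose f hfle hfy using hcov
  obtain ⟨t, ht⟩ := hcpt.elim_finite_subcover (fun y : (U ⊓ V₀ : X.Opens) => (X.basicOpen (f y) : Set X))
    (fun y => (X.basicOpen (f y)).isOpen)
    (fun y hy => Set.mem_iUnion.mpr ⟨⟨y, hy⟩, hfy ⟨y, hy⟩⟩)
  classical
  let s : Set Γ(X, V₀) := f '' {w | w ∈ t}
  have hs : s.Finite := (t.finite_toSet).image f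
  have hmemU : ∀ y ∈ V₀, (y ∈ U ↔ ∃ g ∈ s, y ∈ X.basicOpen g) := by
    intro y hyV
    constructor
    · intro hyU
      have := ht (⟨hyU, hyV⟩ : y ∈ ((U ⊓ V₀ : X.Opens) : Set X))
      simp only [Set.mem_iUnion] at this
      obtain ⟨w, hw, hyw⟩ := this
      exact ⟨f w, ⟨w, hw, rfl⟩, hyw⟩
    · rintro ⟨g, ⟨w, -, rfl⟩, hyg⟩
      exact (hfle w hyg).1
  letI := X.presheaf.algebra_section_stalk (⟨x, hxV₀⟩ : V₀)
  haveI := hV₀.isLocalization_stalk ⟨x, hxV₀⟩
  have hsp : s ⊆ (hV₀.primeIdealOf ⟨x, hxV₀⟩).asIdeal := by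
    intro g hg
    by_contra hgx
    exact hx ((hmemU x hxV₀).mpr
      ⟨g, hg, (mem_basicOpen_iff_notMem_primeIdealOf hV₀ x hxV₀ g).mpr hgx⟩)
  obtain ⟨a, h, hhp, hkey⟩ := algebra_key' (hV₀.primeIdealOf ⟨x, hxV₀⟩).asIdeal
    (X.presheaf.stalk x) hN hd s hs hsp
  have hVle : X.basicOpen h ≤ V₀ := X.basicOpen_le h
  refine ⟨X.basicOpen h, X.presheaf.map (homOfLE hVle).op a, hV₀.basicOpen h,
    (mem_basicOpen_iff_notMem_primeIdealOf hV₀ x hxV₀ h).mpr hhp,
    fun y hy hyU => hOU y (hV₀O (hVle hy)) hyU, ?_⟩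
  rw [Scheme.basicOpen_res]
  ext y
  simp only [Opens.coe_inf, Set.mem_inter_iff, SetLike.mem_coe]
  constructor
  · rintro ⟨hyh, hya⟩
    refine ⟨hyh, ?_⟩
    have hyV := hVle hyh
    rw [hmemU y hyV]
    rw [mem_basicOpen_iff_notMem_primeIdealOf hV₀ y hyV] at hyh hya
    obtain ⟨g, hg, hgy⟩ := (hkey _ (hV₀.primeIdealOf ⟨y, hyV⟩).isPrime hyh).mp hya
    exact ⟨g, hg, (mem_basicOpen_iff_notMem_primeIdealOf hV₀ y hyV g).mpr hgy⟩
  · rintro ⟨hyh, hyU⟩
    refine ⟨hyh, ?_⟩
    have hyV := hVle hyh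
    obtain ⟨g, hg, hgy⟩ := (hmemU y hyV).mp hyU
    rw [mem_basicOpen_iff_notMem_primeIdealOf hV₀ y hyV] at hyh hgy ⊢
    exact (hkey _ (hV₀.primeIdealOf ⟨y, hyV⟩).isPrime hyh).mpr ⟨g, hg, hgy⟩


/-- a Noetherian local ring of dimension `≤ 1` has finitely many primes -/
theorem finite_primeSpectrum' (C : Type u) [CommRing C] [IsLocalRing C]
    (hmin : (minimalPrimes C).Finite)
    (hd : ringKrullDim C ≤ 1) : Finite (PrimeSpectrum C) := by
  have h1 : Ring.KrullDimLE 1 C := Ring.krullDimLE_iff.mpr hd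
  rw [Ring.krullDimLE_one_iff] at h1
  have hfin : (minimalPrimes C ∪ {IsLocalRing.maximalIdeal C}).Finite :=
    hmin.union (Set.finite_singleton _)
  have hsub : Set.range (PrimeSpectrum.asIdeal : PrimeSpectrum C → Ideal C) ⊆
      minimalPrimes C ∪ {IsLocalRing.maximalIdeal C} := by
    rintro _ ⟨q, rfl⟩
    rcases h1 q.asIdeal q.isPrime with h | h
    · exact Or.inl h
    · exact Or.inr (IsLocalRing.eq_maximalIdeal h)
  have := (hfin.subset hsub)
  exact (Set.finite_range_iff (fun q q' h => PrimeSpectrum.ext h)).mp this |> fun h => h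

/-- finitely many generizations -/
theorem finite_generizations' (X : Scheme.{u}) (x : X)
    (hmin : (minimalPrimes (X.presheaf.stalk x)).Finite)
    (hd : ringKrullDim (X.presheaf.stalk x) ≤ 1) : {y : X | y ⤳ x}.Finite := by
  haveI : Finite ↥(Spec (X.presheaf.stalk x)) := finite_primeSpectrum' (X.presheaf.stalk x) hmin hd
  rw [← Scheme.range_fromSpecStalk]
  exact Set.finite_range _



/-- a Noetherian scheme has a dense affine open through any given point -/
theorem exists_dense_affine' {X : Scheme.{u}} [NoetherianSpace X] (x : X) :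
    ∃ U : X.Opens, IsAffineOpen U ∧ x ∈ U ∧ Dense (U : Set X) := by
  let P : Set X.Opens := {W | IsAffineOpen W ∧ x ∈ W}
  have hne : P.Nonempty := by
    obtain ⟨W, hW, hxW, -⟩ := (Opens.isBasis_iff_nbhd.mp X.isBasis_affineOpens)
      (show x ∈ (⊤ : X.Opens) from trivial)
    exact ⟨W, hW, hxW⟩
  obtain ⟨W, ⟨hW, hxW⟩, hmax⟩ := (wellFounded_gt (α := X.Opens)).has_min P hne
  refine ⟨W, hW, hxW, ?_⟩
  by_contra hnd
  obtain ⟨y, hy⟩ : ∃ y, y ∉ closure (W : Set X) := by
    by_contra h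
    push Not at h
    exact hnd (fun z => h z)
  let V₀ : X.Opens := ⟨(closure (W : Set X))ᶜ, isClosed_closure.isOpen_compl⟩
  obtain ⟨V, hV, hyV, hVV₀⟩ := (Opens.isBasis_iff_nbhd.mp X.isBasis_affineOpens)
    (show y ∈ V₀ from hy)
  have hdisj : Disjoint W V := by
    rw [disjoint_iff]
    ext z
    simp only [Opens.coe_inf, Set.mem_inter_iff, SetLike.mem_coe, Opens.coe_bot,
      Set.mem_empty_iff_false, iff_false, not_and]
    intro hzW hzV
    exact (hVV₀ hzV) (subset_closure hzW)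
  have haff := hW.sup_of_disjoint hV hdisj
  apply hmax (W ⊔ V) ⟨haff, Or.inl hxW⟩
  show W < W ⊔ V
  refine lt_of_le_of_ne le_sup_left ?_
  intro heq
  have : y ∈ W := by rw [heq]; exact Or.inr hyV
  exact hy (subset_closure this)

/-- the complement of an open containing the generic points is discrete, in a Noetherian scheme of
dimension `≤ 1` -/
theorem discreteTopology_compl' (Y : Scheme.{u}) [NoetherianSpace Y] (O : Y.Opens)
    (hO : genericPoints Y ⊆ (O : Set Y)) (hdim : topologicalKrullDim Y ≤ 1) :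
    DiscreteTopology ↥((O : Set Y)ᶜ) := by
  have hdim' : ∀ y : Y, ringKrullDim (Y.presheaf.stalk y) ≤ 1 := fun y =>
    (Groth.Agent.Helper3.CurveFlat.ringKrullDim_stalk_le Y y).trans hdim
  have hcl : IsClosed ((O : Set Y)ᶜ) := O.isOpen.isClosed_compl
  haveI : QuasiSober ↥((O : Set Y)ᶜ) := hcl.isClosedEmbedding_subtypeVal.quasiSober
  haveI : NoetherianSpace ↥((O : Set Y)ᶜ) := inferInstance
  haveI : T1Space ↥((O : Set Y)ᶜ) := by
    rw [t1Space_iff_specializes_imp_eq]
    intro a b hab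
    apply Subtype.ext
    exact Groth.Agent.Helper3.Dim1Top.eq_of_specializes Y O hO hdim' a.2 (Topology.IsInducing.subtypeVal.specializes_iff.mpr hab)
  haveI := Groth.Agent.Helper3.Dim1Top.finite_of_t1 ↥((O : Set Y)ᶜ)
  infer_instance


end Groth.Agent.Helper3.Dim1Gen
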