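import Mathlib

set_option autoImplicit false
set_option linter.style.haveILetI false
set_option linter.unusedSectionVars false
set_option linter.unusedVariables false
set_option linter.deprecated false
set_option linter.style.haveILetI false
set_option linter.unusedSectionVars false
set_option linter.unusedVariables false

universe u

namespace Groth.Agent.Helper3.PolarA

variable {R Q : Type*} [CommRing R] [CommRing Q] [Algebra R Q]

/-- `a` is *polar* modulo `I` (with respect to the ideal `m`): some positive power of `a` has an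
inverse modulo `I Q` coming from `m`. -/
def Polar (m : Ideal R) (a : Q) (I : Ideal R) : Prop :=
  ∃ M : ℕ, 1 ≤ M ∧ ∃ c ∈ m, a ^ M * algebraMap R Q c - 1 ∈ I.map (algebraMap R Q)

theorem Polar.mono {m : Ideal R} {a : Q} {I J : Ideal R} (hIJ : I ≤ J) (h : Polar m a I) :
    Polar m a J := by
  obtain ⟨M, hM, c, hc, h⟩ := h
  exact ⟨M, hM, c, hc, Ideal.map_mono hIJ h⟩

theorem pow_sub_one_mem {S : Type*} [CommRing S] (J : Ideal S) (x : S) (hx : x - 1 ∈ J) (k : ℕ) :
    x ^ k - 1 ∈ J := by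
  induction k with
  | zero => simp
  | succ k ih =>
    have : x ^ (k + 1) - 1 = x ^ k * (x - 1) + (x ^ k - 1) := by ring
    rw [this]
    exact J.add_mem (J.mul_mem_left _ hx) ih

theorem Polar.top (m : Ideal R) (a : Q) : Polar m a ⊤ :=
  ⟨1, le_rfl, 0, m.zero_mem, by rw [Ideal.map_top]; trivial⟩

/-- the key gluing step -/
theorem Polar.mul {m : Ideal R} (h : R) [IsLocalization.Away h Q] (hhm : h ∈ m)
    (hrad : ∀ d : ℕ, ∃ l : ℕ, m ^ l ≤ Ideal.span {h ^ d})
    {a : Q} {I₁ I₂ : Ideal R} (h₁ : Polar m a I₁) (h₂ : Polar m a I₂) : Polar m a (I₁ * I₂) := by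
  obtain ⟨M₁, hM₁, c₁, hc₁, hx₁⟩ := h₁
  obtain ⟨M₂, hM₂, c₂, hc₂, hx₂⟩ := h₂
  set φ := algebraMap R Q with hφ
  -- common exponent
  set M := M₁ * M₂ with hM
  have hMpos : 1 ≤ M := Nat.one_le_iff_ne_zero.mpr (Nat.mul_ne_zero (by omega) (by omega))
  set d₁ := c₁ ^ M₂ with hd₁
  set d₂ := c₂ ^ M₁ with hd₂
  have hd₁m : d₁ ∈ m := Ideal.pow_mem_of_mem _ hc₁ _ (by omega)
  have hd₂m : d₂ ∈ m := Ideal.pow_mem_of_mem _ hc₂ _ (by omega)
  have hy₁ : a ^ M * φ d₁ - 1 ∈ I₁.map φ := by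
    have := pow_sub_one_mem _ _ hx₁ M₂
    have e : (a ^ M₁ * φ c₁) ^ M₂ = a ^ M * φ d₁ := by
      rw [mul_pow, ← pow_mul, hd₁, map_pow]
    rwa [e] at this
  have hy₂ : a ^ M * φ d₂ - 1 ∈ I₂.map φ := by
    have := pow_sub_one_mem _ _ hx₂ M₁
    have e : (a ^ M₂ * φ c₂) ^ M₁ = a ^ M * φ d₂ := by
      rw [mul_pow, ← pow_mul, hd₂, map_pow, hM, mul_comm M₁ M₂]
    rwa [e] at this
  -- work in the quotient
  set J' : Ideal Q := (I₁ * I₂).map φ with hJ'
  have hprod : (a ^ M * φ d₁ - 1) * (a ^ M * φ d₂ - 1) ∈ J' := by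
    rw [hJ', Ideal.map_mul]
    exact Ideal.mul_mem_mul hy₁ hy₂
  let π : Q →+* Q ⧸ J' := Ideal.Quotient.mk J'
  let ψ : R →+* Q ⧸ J' := π.comp φ
  set ā := π a with hā
  set s := d₁ + d₂ with hs
  set p := d₁ * d₂ with hp
  have hsm : s ∈ m := m.add_mem hd₁m hd₂m
  have hpm : p ∈ m := m.mul_mem_left _ hd₂m
  set e := ψ s - ā ^ M * ψ p with he
  have h0 : (ā ^ M * ψ d₁ - 1) * (ā ^ M * ψ d₂ - 1) = 0 := by
    have := (Ideal.Quotient.eq_zero_iff_mem (I := J')).mpr hprod
    simpa [π, ψ, hā] using this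
  have hae : ā ^ M * e = 1 := by
    have : ā ^ M * e = 1 - (ā ^ M * ψ d₁ - 1) * (ā ^ M * ψ d₂ - 1) := by
      rw [he, hs, hp, map_add, map_mul]; ring
    rw [this, h0, sub_zero]
  have hee : e * e = ψ s * e - ψ p := by
    have : e * e = ψ s * e - (ā ^ M * e) * ψ p := by rw [he]; ring
    rw [this, hae, one_mul]
  -- the recursion
  have hrec : ∀ j : ℕ, ∃ α ∈ m ^ j, ∃ β ∈ m ^ j, e ^ (2 * j) = ψ α + ψ β * e := by
    intro j
    induction j with
    | zero =>
      refine ⟨1, by simp, 0, by simp, by simp⟩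
    | succ j ih =>
      obtain ⟨α, hα, β, hβ, hj⟩ := ih
      refine ⟨-(α * p) - β * s * p, ?_, α * s - β * p + β * s * s, ?_, ?_⟩
      · rw [pow_succ]
        refine Ideal.sub_mem _ (neg_mem (Ideal.mul_mem_mul hα hpm)) ?_
        rw [mul_assoc]
        exact Ideal.mul_mem_mul hβ (m.mul_mem_left _ hpm)
      · rw [pow_succ]
        refine Ideal.add_mem _ (Ideal.sub_mem _ (Ideal.mul_mem_mul hα hsm)
          (Ideal.mul_mem_mul hβ hpm)) ?_
        rw [mul_assoc]
        exact Ideal.mul_mem_mul hβ (m.mul_mem_left _ hsm)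
      · have : e ^ (2 * (j + 1)) = e ^ (2 * j) * (e * e) := by ring
        rw [this, hj, hee]
        simp only [map_sub, map_add, map_mul, map_neg]
        have hee' : e * e = ψ s * e - ψ p := hee
        linear_combination (ψ β * ψ s) * hee'
  -- denominators
  obtain ⟨q, hq⟩ := Ideal.Quotient.mk_surjective (I := J') e
  obtain ⟨d, r, hdr⟩ := IsLocalization.Away.surj h q
  have hdr' : e * ψ h ^ d = ψ r := by
    have := congrArg π hdr
    rw [map_mul, map_pow, hq] at this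
    exact this
  obtain ⟨l, hl⟩ := hrad (d + 1)
  set j := l + 1 with hj
  obtain ⟨α, hα, β, hβ, hjj⟩ := hrec j
  have hβ' : β ∈ Ideal.span {h ^ (d + 1)} := hl (Ideal.pow_le_pow_right (by omega) hβ)
  obtain ⟨β', hβ'⟩ := Ideal.mem_span_singleton'.mp hβ'
  have hαm : α ∈ m := Ideal.pow_le_self (by omega) hα
  refine ⟨2 * j * M, ?_, α + β' * h * r, ?_, ?_⟩
  · have : 1 ≤ 2 * j := by omega
    exact Nat.one_le_iff_ne_zero.mpr (Nat.mul_ne_zero (by omega) (by omega))
  · exact m.add_mem hαm (m.mul_mem_right _ (m.mul_mem_left _ hhm))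
  · rw [← Ideal.Quotient.eq_zero_iff_mem]
    have h1 : ψ (α + β' * h * r) = e ^ (2 * j) := by
      rw [hjj, ← hβ', map_add, map_mul, map_mul, map_mul, map_pow, ← hdr']
      ring
    have h2 : π (a ^ (2 * j * M) * φ (α + β' * h * r) - 1) =
        ā ^ (2 * j * M) * ψ (α + β' * h * r) - 1 := by
      simp [π, ψ, hā]
    show π _ = 0
    rw [h2, h1, mul_comm (2 * j) M, pow_mul, ← mul_pow, hae, one_pow, sub_self]


theorem Polar.pow_ideal {m : Ideal R} (h : R) [IsLocalization.Away h Q] (hhm : h ∈ m)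
    (hrad : ∀ d : ℕ, ∃ l : ℕ, m ^ l ≤ Ideal.span {h ^ d})
    {a : Q} {J : Ideal R} (hJ : Polar m a J) (e : ℕ) : Polar m a (J ^ e) := by
  induction e with
  | zero => rw [pow_zero, Ideal.one_eq_top]; exact Polar.top m a
  | succ e ih => rw [pow_succ]; exact Polar.mul h hhm hrad ih hJ

/-- **Gluing polarity.**  If `a` is polar modulo finitely many ideals whose intersection consists
of nilpotent elements, then a power of `a` has an inverse coming from `m`. -/
theorem polar_of_family (h : R) [IsLocalization.Away h Q] [IsNoetherianRing R] (m : Ideal R)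
    (hhm : h ∈ m) (hrad : m ≤ (Ideal.span {h}).radical) (a : Q) {ι : Type*} (s : Finset ι)
    (I : ι → Ideal R) (hnil : ∀ r : R, (∀ j ∈ s, r ∈ I j) → IsNilpotent r)
    (hpol : ∀ j ∈ s, Polar m a (I j)) :
    ∃ M : ℕ, 1 ≤ M ∧ ∃ c ∈ m, a ^ M * algebraMap R Q c = 1 := by
  classical
  have hrad' : ∀ d : ℕ, ∃ l : ℕ, m ^ l ≤ Ideal.span {h ^ d} := by
    intro d
    obtain ⟨k, hk⟩ := Ideal.exists_pow_le_of_le_radical_of_fg hrad (IsNoetherian.noetherian m)
    refine ⟨k * d, ?_⟩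
    rw [pow_mul, ← Ideal.span_singleton_pow]
    exact Ideal.pow_right_mono hk d
  have hprod : Polar m a (∏ j ∈ s, I j) := by
    revert hpol
    refine Finset.induction_on s ?_ ?_
    · intro _
      rw [Finset.prod_empty, Ideal.one_eq_top]
      exact Polar.top m a
    · intro j s hj ih hpol
      rw [Finset.prod_insert hj]
      exact Polar.mul h hhm hrad' (hpol j (Finset.mem_insert_self j s))
        (ih (fun i hi => hpol i (Finset.mem_insert_of_mem hi)))
  have hle : (∏ j ∈ s, I j) ≤ nilradical R := by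
    intro r hr
    rw [mem_nilradical]
    apply hnil
    intro j hj
    have h1 : (∏ j ∈ s, I j) ≤ s.inf I := Ideal.prod_le_inf
    exact (Finset.inf_le hj : s.inf I ≤ I j) (h1 hr)
  obtain ⟨e, he⟩ := IsNoetherianRing.isNilpotent_nilradical R
  have hbot : (∏ j ∈ s, I j) ^ e ≤ ⊥ := by
    have : (∏ j ∈ s, I j) ^ e ≤ nilradical R ^ e := Ideal.pow_right_mono hle e
    rw [he] at this
    exact this
  obtain ⟨M, hM, c, hc, hmem⟩ := (Polar.pow_ideal h hhm hrad' hprod e).mono hbot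
  refine ⟨M, hM, c, hc, ?_⟩
  rw [Ideal.map_bot, Ideal.mem_bot] at hmem
  exact sub_eq_zero.mp hmem

end Groth.Agent.Helper3.PolarA
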