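import Mathlib
import Groth.Prelude
import Groth.Agent.Helper3.PolarA
import Groth.Agent.Helper3.GenLocB
import Groth.Agent.Helper3.Dim1Gen
import Groth.Agent.Helper4.SN413

set_option autoImplicit false
set_option linter.style.haveILetI false
set_option linter.unusedSectionVars false
set_option linter.unusedVariables false
set_option linter.deprecated false
set_option linter.style.haveILetI false
set_option linter.unusedSectionVars false
set_option linter.unusedVariables false

universe u

open CategoryTheory CategoryTheory.Limits AlgebraicGeometry TopologicalSpace Opposite IsLocalRing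

namespace Groth.Agent.Helper3.PolarD

open Groth.Agent.Helper3.PolarA Groth.Agent.Helper4.StalkDict

variable {X : Scheme.{u}}

theorem res_res {T T' T'' : X.Opens} (h : T' ≤ T) (h' : T'' ≤ T') (r : Γ(X, T)) :
    X.presheaf.map (homOfLE h').op (X.presheaf.map (homOfLE h).op r) =
      X.presheaf.map (homOfLE (h'.trans h)).op r := by
  rw [← CommRingCat.comp_apply, ← Functor.map_comp]
  rfl

theorem pre_le {Z : Scheme.{u}} (i : Z ⟶ X) {T T' : X.Opens} (h : T' ≤ T) : i ⁻¹ᵁ T' ≤ i ⁻¹ᵁ T :=
  fun _ hz => h hz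

theorem app_res {Z : Scheme.{u}} (i : Z ⟶ X) {T T' : X.Opens} (h : T' ≤ T) (r : Γ(X, T)) :
    i.app T' (X.presheaf.map (homOfLE h).op r) =
      Z.presheaf.map (homOfLE (pre_le i h)).op (i.app T r) := by
  have := i.naturality (homOfLE h).op
  exact congrArg (fun φ => φ.hom r) this

/-- membership in the radical of a principal ideal from an inclusion of basic opens -/
theorem mem_radical_of_basicOpen_le {V : X.Opens} (hV : IsAffineOpen V) (r h : Γ(X, V))
    (hle : X.basicOpen r ≤ X.basicOpen h) : r ∈ (Ideal.span {h}).radical := by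
  haveI := hV.isLocalization_basicOpen r
  have hu : IsUnit (algebraMap Γ(X, V) Γ(X, X.basicOpen r) h) :=
    (Groth.Agent.Helper4.SN413.isUnit_res_iff' (X.basicOpen_le r) h).mpr hle
  obtain ⟨n, hn⟩ := (IsLocalization.Away.algebraMap_isUnit_iff (x := r)
    (S := Γ(X, X.basicOpen r))).mp hu
  exact ⟨n, Ideal.mem_span_singleton.mpr hn⟩


/-- **The local inverse.** -/
theorem exists_local_inverse (X : Scheme.{u}) [IsNoetherian X] {ι : Type u} [Finite ι]
    (Z : ι → Scheme.{u}) (i : ∀ j, Z j ⟶ X) [∀ j, IsClosedImmersion (i j)]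
    [∀ j, IsIntegral (Z j)]
    (hcovZ : ∀ x : X, ∃ j, x ∈ Set.range (i j))
    (U : X.Opens) (hgenU : ∀ j, genericPoint (Z j) ∈ i j ⁻¹ᵁ U)
    (hdisc : DiscreteTopology ↥((U : Set X)ᶜ)) (a : Γ(X, U))
    (t : X) (ht : t ∉ U) (hd : ringKrullDim (X.presheaf.stalk t) ≤ 1)
    (ha : ∀ (j : ι) (z : Z j), i j z = t → ∃ b ∈ maximalIdeal ((Z j).presheaf.stalk z),
        (Z j).presheaf.germ (i j ⁻¹ᵁ U) (genericPoint (Z j)) (hgenU j) ((i j).app U a) *
          algebraMap ((Z j).presheaf.stalk z) (Z j).functionField b = 1) :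
    ∃ (V : X.Opens) (M : ℕ) (c : Γ(X, V)), 1 ≤ M ∧ t ∈ V ∧ (∀ y ∈ V, y ∉ U → y = t) ∧
      X.presheaf.map (homOfLE (inf_le_right : V ⊓ U ≤ U)).op a ^ M *
        X.presheaf.map (homOfLE (inf_le_left : V ⊓ U ≤ V)).op c = 1 ∧ t ∉ X.basicOpen c := by
  classical
  haveI := Fintype.ofFinite ι
  -- Stage 1: local data on the components
  have hP : ∀ j, ∃ (N : (Z j).Opens) (β : Γ(Z j, N)), ((∀ z : Z j, i j z ≠ t) → N = ⊥) ∧
      ∀ z : Z j, i j z = t →
      z ∈ N ∧ z ∉ (Z j).basicOpen β ∧
      ∀ (hgN : genericPoint (Z j) ∈ N),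
        (Z j).presheaf.germ (i j ⁻¹ᵁ U) (genericPoint (Z j)) (hgenU j) ((i j).app U a) *
          (Z j).presheaf.germ N (genericPoint (Z j)) hgN β = 1 := by
    intro j
    by_cases hj : ∃ z : Z j, i j z = t
    · obtain ⟨z, hz⟩ := hj
      obtain ⟨b, hb, hab⟩ := ha j z hz
      obtain ⟨N, hzN, β, hβ⟩ := (Z j).presheaf.germ_exist (x := z) b
      refine ⟨N, β, fun h => absurd hz (h z), fun z' hz' => ?_⟩
      have : z' = z := (i j).isEmbedding.injective (hz'.trans hz.symm)
      subst this
      refine ⟨hzN, ?_, ?_⟩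
      · rw [(Z j).mem_basicOpen β z' hzN, hβ]
        exact (IsLocalRing.mem_maximalIdeal _).mp hb
      · intro hgN
        haveI : Nonempty N := ⟨⟨z', hzN⟩⟩
        have h1 := Scheme.algebraMap_germ_eq_germToFunctionField (X := Z j) hzN β
        rw [hβ] at h1
        rw [← hab, h1]
    · push Not at hj
      exact ⟨⊥, 0, fun _ => rfl, fun z hz => absurd hz (hj z)⟩
  choose N β hNbot hNβ using hP
  -- Stage 2: a good open neighbourhood of `t`
  let F : ι → Set X := fun j => i j '' ((N j : Set (Z j))ᶜ)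
  have hFc : ∀ j, IsClosed (F j) := fun j =>
    (i j).isClosedEmbedding.isClosedMap _ (N j).isOpen.isClosed_compl
  have htF : ∀ j, t ∉ F j := by
    rintro j ⟨z, hz, hzt⟩
    exact hz (hNβ j z hzt).1
  let G : X.Opens := ⟨⋂ j, (F j)ᶜ, isOpen_iInter_of_finite (fun j => (hFc j).isOpen_compl)⟩
  have htG : t ∈ G := Set.mem_iInter.mpr htF
  have hGN : ∀ j (z : Z j), i j z ∈ G → z ∈ N j := by
    intro j z hz
    by_contra hzN
    exact (Set.mem_iInter.mp hz j) ⟨z, hzN, rfl⟩
  -- Stage 3: the affine neighbourhood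
  have hmin := Groth.Agent.Helper3.Dim1Gen.finite_minimalPrimes_stalk X t
  obtain ⟨V₁, h₁, hV₁, htV₁, hV₁U, hh₁⟩ :=
    Groth.Agent.Helper3.Dim1Gen.exists_local' X U hdisc t ht hmin hd
  obtain ⟨g, hgle, htV⟩ := hV₁.exists_basicOpen_le (V := V₁ ⊓ G) ⟨t, ⟨htV₁, htG⟩⟩ htV₁
  have hV : IsAffineOpen (X.basicOpen g) := hV₁.basicOpen g
  have hVV₁ : X.basicOpen g ≤ V₁ := X.basicOpen_le g
  have hVG : X.basicOpen g ≤ G := hgle.trans inf_le_right
  obtain ⟨V, hVdef⟩ : ∃ V : X.Opens, V = X.basicOpen g := ⟨_, rfl⟩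
  rw [← hVdef] at hV hVV₁ hVG htV
  let h : Γ(X, V) := X.presheaf.map (homOfLE hVV₁).op h₁
  have hh : X.basicOpen h = V ⊓ U := by
    rw [Scheme.basicOpen_res, hh₁, ← inf_assoc, inf_eq_left.mpr hVV₁]
  have hVU : ∀ y ∈ V, y ∉ U → y = t := fun y hy => hV₁U y (hVV₁ hy)
  have hDU : X.basicOpen h ≤ U := hh.le.trans inf_le_right
  -- Stage 4: the rings
  haveI : IsNoetherianRing Γ(X, V) := IsLocallyNoetherian.component_noetherian ⟨V, hV⟩
  haveI := hV.isLocalization_basicOpen h
  let m : Ideal Γ(X, V) := (hV.primeIdealOf ⟨t, htV⟩).asIdeal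
  have hm_iff : ∀ r : Γ(X, V), r ∈ m ↔ t ∉ X.basicOpen r := fun r => by
    rw [mem_basicOpen_iff_notMem_primeIdealOf hV t htV r, not_not]
  have hhm : h ∈ m := by
    rw [hm_iff, hh]
    exact fun h' => ht h'.2
  have hrad : m ≤ (Ideal.span {h}).radical := by
    intro r hr
    apply mem_radical_of_basicOpen_le hV
    rw [hh]
    intro y hy
    refine ⟨X.basicOpen_le r hy, ?_⟩
    by_contra hyU
    have := hVU y (X.basicOpen_le r hy) hyU
    subst this
    exact (hm_iff r).mp hr hy
  let aQ : Γ(X, X.basicOpen h) := X.presheaf.map (homOfLE hDU).op a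
  let I : ι → Ideal Γ(X, V) := fun j => RingHom.ker ((i j).app V).hom
  have hWN : ∀ j, i j ⁻¹ᵁ V ≤ N j := fun j z hz => hGN j z (hVG hz)
  -- Stage 5: polarity modulo each component
  have hpol : ∀ j ∈ (Finset.univ : Finset ι), Polar m aQ (I j) := by
    intro j _
    by_cases hj : ∃ z : Z j, i j z = t
    · obtain ⟨z, hz⟩ := hj
      obtain ⟨hzN, hzβ, hgerm⟩ := hNβ j z hz
      let β' : Γ(Z j, i j ⁻¹ᵁ V) := (Z j).presheaf.map (homOfLE (hWN j)).op (β j)
      obtain ⟨c, hc⟩ := (i j).app_surjective V hV β'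
      have hcm : c ∈ m := by
        rw [hm_iff]
        intro htc
        have h1 : z ∈ i j ⁻¹ᵁ X.basicOpen c := by
          show i j z ∈ X.basicOpen c
          rw [hz]; exact htc
        rw [Scheme.preimage_basicOpen, hc, Scheme.basicOpen_res] at h1
        exact hzβ h1.2
      refine ⟨1, le_rfl, c, hcm, ?_⟩
      rw [pow_one]
      set y : Γ(X, X.basicOpen h) := aQ * algebraMap Γ(X, V) Γ(X, X.basicOpen h) c - 1 with hy
      -- `y` vanishes on the component
      have hy0 : (i j).app (X.basicOpen h) y = 0 := by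
        apply Groth.Agent.Helper3.GenLocB.eq_of_fn_eq
        intro hne'
        have hgD : genericPoint (Z j) ∈ i j ⁻¹ᵁ X.basicOpen h :=
          ((genericPoint_spec (Z j)).mem_open_set_iff (i j ⁻¹ᵁ X.basicOpen h).isOpen).mpr (by
            obtain ⟨⟨w, hw⟩⟩ := hne'
            exact ⟨w, Set.mem_univ _, hw⟩)
        have hgN : genericPoint (Z j) ∈ N j := hWN j (hh.le.trans inf_le_left hgD)
        rw [map_zero]
        show (Z j).presheaf.germ _ (genericPoint (Z j)) hgD ((i j).app (X.basicOpen h) y) = 0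
        have e1 : (i j).app (X.basicOpen h) aQ =
            (Z j).presheaf.map (homOfLE (pre_le (i j) hDU)).op ((i j).app U a) :=
          app_res (i j) hDU a
        have e2 : (i j).app (X.basicOpen h) (algebraMap Γ(X, V) Γ(X, X.basicOpen h) c) =
            (Z j).presheaf.map (homOfLE ((pre_le (i j) (X.basicOpen_le h)).trans (hWN j))).op
              (β j) := by
          have := app_res (i j) (X.basicOpen_le h) c
          rw [hc] at this
          rw [show algebraMap Γ(X, V) Γ(X, X.basicOpen h) c =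
            X.presheaf.map (homOfLE (X.basicOpen_le h)).op c from rfl, this]
          show (Z j).presheaf.map _ ((Z j).presheaf.map _ (β j)) = _
          rw [← CommRingCat.comp_apply, ← Functor.map_comp]
          rfl
        rw [hy, map_sub, map_mul, map_one, e1, e2, map_sub, map_mul, map_one,
          (Z j).presheaf.germ_res_apply, (Z j).presheaf.germ_res_apply, hgerm hgN, sub_self]
      -- hence it lies in the extended ideal
      obtain ⟨d, r, hdr⟩ := IsLocalization.Away.surj h y
      have hr0 : (Z j).presheaf.map (homOfLE (pre_le (i j) (X.basicOpen_le h))).op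
          ((i j).app V r) = 0 := by
        rw [← app_res (i j) (X.basicOpen_le h) r]
        have : X.presheaf.map (homOfLE (X.basicOpen_le h)).op r =
            y * algebraMap Γ(X, V) Γ(X, X.basicOpen h) h ^ d := hdr.symm
        rw [this, map_mul, hy0, zero_mul]
      have hWaff : IsAffineOpen (i j ⁻¹ᵁ V) := hV.preimage (i j)
      have hpre : i j ⁻¹ᵁ X.basicOpen h = (Z j).basicOpen ((i j).app V h) :=
        Scheme.preimage_basicOpen (i j) h
      have H : (Z j).presheaf.map (homOfLE ((Z j).basicOpen_le ((i j).app V h))).op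
          ((i j).app V r) = 0 := by
        have e : (Z j).basicOpen ((i j).app V h) ≤ i j ⁻¹ᵁ X.basicOpen h := hpre.ge
        have h2 := res_res (X := Z j) (pre_le (i j) (X.basicOpen_le h)) e ((i j).app V r)
        rw [hr0, map_zero] at h2
        exact h2.symm
      obtain ⟨n, hn⟩ := exists_pow_mul_eq_zero_of_res_basicOpen_eq_zero_of_isAffineOpen (Z j) hWaff
        ((i j).app V r) ((i j).app V h) H
      have hmemI : h ^ n * r ∈ I j := by
        show (i j).app V (h ^ n * r) = 0
        rw [map_mul, map_pow]; exact hn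
      have hu : IsUnit (algebraMap Γ(X, V) Γ(X, X.basicOpen h) h) :=
        IsLocalization.Away.algebraMap_isUnit h
      obtain ⟨u, hu⟩ := hu
      have hy' : y = algebraMap Γ(X, V) Γ(X, X.basicOpen h) (h ^ n * r) *
          ((↑(u⁻¹) : Γ(X, X.basicOpen h)) ^ (d + n)) := by
        rw [map_mul, map_pow, ← hdr, ← hu]
        have : (↑u : Γ(X, X.basicOpen h)) ^ n * (y * ↑u ^ d) * (↑(u⁻¹)) ^ (d + n) =
            y * ((↑u * ↑(u⁻¹)) ^ (d + n)) := by ring
        rw [this, Units.mul_inv, one_pow, mul_one]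
      rw [hy']
      exact Ideal.mul_mem_right _ _ (Ideal.mem_map_of_mem _ hmemI)
    · push Not at hj
      have hbot : i j ⁻¹ᵁ V = ⊥ := le_bot_iff.mp ((hWN j).trans (hNbot j hj).le)
      have : I j = ⊤ := by
        rw [Ideal.eq_top_iff_one]
        show (i j).app V 1 = 0
        haveI : Subsingleton Γ(Z j, i j ⁻¹ᵁ V) := by rw [hbot]; infer_instance
        exact Subsingleton.elim _ _
      rw [this]
      exact Polar.top m aQ
  -- Stage 6: the intersection of the ideals is nil
  have hnil : ∀ r : Γ(X, V), (∀ j ∈ (Finset.univ : Finset ι), r ∈ I j) → IsNilpotent r := by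
    intro r hr
    rw [Scheme.isNilpotent_iff_basicOpen_eq_bot_of_isCompact hV.isCompact]
    rw [eq_bot_iff]
    intro y hy
    obtain ⟨j, z, hz⟩ := hcovZ y
    have h1 : z ∈ i j ⁻¹ᵁ X.basicOpen r := by
      show i j z ∈ X.basicOpen r
      rw [hz]; exact hy
    rw [Scheme.preimage_basicOpen] at h1
    have h2 : (i j).app V r = 0 := hr j (Finset.mem_univ j)
    rw [h2, Scheme.basicOpen_zero] at h1
    exact h1
  -- Stage 7: conclusion
  obtain ⟨M, hM, c, hcm, hMc⟩ := polar_of_family h m hhm hrad aQ Finset.univ I hnil hpol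
  refine ⟨V, M, c, hM, htV, hVU, ?_, (hm_iff c).mp hcm⟩
  have hle : V ⊓ U ≤ X.basicOpen h := hh.ge
  have := congrArg (X.presheaf.map (homOfLE hle).op) hMc
  rw [map_mul, map_pow, map_one] at this
  rw [← this]
  congr 1
  · congr 1
    exact (res_res hDU hle a).symm
  · exact (res_res (X.basicOpen_le h) hle c).symm

end Groth.Agent.Helper3.PolarD
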