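import Mathlib
import Groth.Prelude
import Groth.Agent.Helper3.PolarC
import Groth.Agent.Helper3.PolarD
import Groth.Agent.Helper3.GenLocD
import Groth.Agent.Helper4.GGSec

set_option autoImplicit false
set_option linter.style.haveILetI false
set_option linter.unusedSectionVars false
set_option linter.unusedVariables false
set_option linter.deprecated false
set_option linter.style.haveILetI false
set_option linter.unusedSectionVars false
set_option linter.unusedVariables false

universe u

open CategoryTheory CategoryTheory.Limits AlgebraicGeometry TopologicalSpace Opposite IsLocalRing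

namespace Groth.Agent.Helper3.PolarE

/-- On a Noetherian separated scheme of dimension `≤ 1` every point lies in an affine open of the
form `X_s` for a section `s` of a globally generated invertible module. -/
theorem exists_pair_of_point (X : Scheme.{u}) [IsNoetherian X] [X.IsSeparated]
    (hdim : topologicalKrullDim X ≤ 1) (x : X) :
    ∃ (L : X.Modules) (s : Coh.structureModule X ⟶ L), PicF.IsInvertible L ∧
      Curv2.IsGloballyGenerated L ∧ x ∈ CohB1.genLocus L s ∧
      IsAffineOpen (CohB1.genLocus L s) := by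
  classical
  -- the irreducible components
  let ι : Type u := ↥(irreducibleComponents X)
  haveI : Finite ι := (NoetherianSpace.finite_irreducibleComponents (α := X)).to_subtype
  let Cz : ι → Closeds X := fun C => ⟨C.1, isClosed_of_mem_irreducibleComponents C.1 C.2⟩
  let Z : ι → Scheme.{u} := fun C => (Scheme.IdealSheafData.vanishingIdeal (Cz C)).subscheme
  let i : ∀ C, Z C ⟶ X := fun C => (Scheme.IdealSheafData.vanishingIdeal (Cz C)).subschemeι
  haveI : ∀ C, IsClosedImmersion (i C) := fun C => inferInstance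
  haveI hint : ∀ C, IsIntegral (Z C) := fun C =>
    Groth.Agent.Helper3.AffPts.isIntegral_subscheme (Cz C) C.2.1
  have hrange : ∀ C, Set.range (i C) = C.1 := fun C =>
    Groth.Agent.Helper3.AffPts.range_vanishingIdeal_subschemeι (Cz C)
  have hcovZ : ∀ y : X, ∃ C, y ∈ Set.range (i C) := by
    intro y
    refine ⟨⟨irreducibleComponent y, irreducibleComponent_mem_irreducibleComponents y⟩, ?_⟩
    rw [hrange]
    exact mem_irreducibleComponent
  -- generic points of the components
  let η : ι → X := fun C => i C (genericPoint (Z C))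
  have hη : ∀ C, IsGenericPoint (η C) C.1 := fun C =>
    Groth.Agent.Helper3.AffPts.isGenericPoint_subschemeι (Cz C)
  have hdim' : ∀ y : X, ringKrullDim (X.presheaf.stalk y) ≤ 1 := fun y =>
    (Groth.Agent.Helper3.CurveFlat.ringKrullDim_stalk_le X y).trans hdim
  haveI := Fintype.ofFinite ι
  -- the affine open
  obtain ⟨U, hU, hsU⟩ := Groth.Agent.Helper3.AffDim1.main X
    (fun W _ => NoetherianSpace.finite_irreducibleComponents)
    (insert x (Finset.univ.image η)) (fun y _ => ⟨inferInstance, hdim' y⟩)
  have hxU : x ∈ U := hsU x (Finset.mem_insert_self _ _)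
  have hηU : ∀ C, η C ∈ U := fun C =>
    hsU _ (Finset.mem_insert_of_mem (Finset.mem_image_of_mem η (Finset.mem_univ C)))
  have hgenU : ∀ C, genericPoint (Z C) ∈ i C ⁻¹ᵁ U := hηU
  have hgenX : genericPoints X ⊆ (U : Set X) := by
    intro y hy
    let C : ι := ⟨closure {y}, hy⟩
    have h1 : IsGenericPoint y C.1 := rfl
    have : y = η C := h1.eq (hη C)
    rw [this]
    exact hηU C
  have hdisc : DiscreteTopology ↥((U : Set X)ᶜ) :=
    Groth.Agent.Helper3.Dim1Gen.discreteTopology_compl' X U hgenX hdim
  have hfin : ((U : Set X)ᶜ).Finite :=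
    (NoetherianSpace.isCompact ((U : Set X)ᶜ)).finite ⟨hdisc⟩
  -- the function
  obtain ⟨a, ha⟩ := Groth.Agent.Helper3.PolarC.exists_fn_components X Z i U hU
    (fun C => ⟨genericPoint (Z C), hηU C⟩) hfin (fun y _ => ⟨inferInstance, hdim' y⟩)
  -- local inverses
  let T : Type u := ↥((U : Set X)ᶜ)
  haveI : Finite T := hfin.to_subtype
  haveI := Fintype.ofFinite T
  have hloc : ∀ t : T, ∃ (V : X.Opens) (M : ℕ) (c : Γ(X, V)), 1 ≤ M ∧ t.1 ∈ V ∧
      (∀ y ∈ V, y ∉ U → y = t.1) ∧
      X.presheaf.map (homOfLE (inf_le_right : V ⊓ U ≤ U)).op a ^ M *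
        X.presheaf.map (homOfLE (inf_le_left : V ⊓ U ≤ V)).op c = 1 ∧ t.1 ∉ X.basicOpen c :=
    fun t => Groth.Agent.Helper3.PolarD.exists_local_inverse X Z i hcovZ U hgenU hdisc a t.1 t.2
      (hdim' t.1) (fun C z hz => ha C z (by rw [hz]; exact t.2) (hgenU C))
  choose V M c hM htV hVU hac hct using hloc
  -- a common exponent
  let Mtot : ℕ := ∏ t, M t
  have hMtot : ∀ t, ∃ k : ℕ, 0 < k ∧ Mtot = M t * k := by
    intro t
    obtain ⟨k, hk⟩ : M t ∣ Mtot := Finset.dvd_prod_of_mem M (Finset.mem_univ t)
    refine ⟨k, Nat.pos_of_ne_zero ?_, hk⟩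
    rintro rfl
    have : Mtot ≠ 0 := Finset.prod_ne_zero_iff.2 (fun t _ => by have := hM t; omega)
    exact this (by rw [hk, mul_zero])
  choose k hk0 hk using hMtot
  obtain ⟨L, s, hinv, hgg, hloc⟩ := Groth.Agent.Helper3.GenLocD.exists_pair U V
    (by
      intro t t' htt' y hy
      by_contra hyU
      exact htt' (Subtype.ext ((hVU t y hy.1 hyU).symm.trans (hVU t' y hy.2 hyU))))
    (fun y hy => ⟨⟨y, hy⟩, htV ⟨y, hy⟩⟩)
    (a ^ Mtot) (fun t => c t ^ k t)
    (by
      intro t
      rw [map_pow, map_pow, hk t, pow_mul, ← mul_pow, hac t, one_pow])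
    (by
      intro t y hy
      rw [Scheme.basicOpen_pow _ _ (hk0 t)] at hy
      by_contra hyU
      have := hVU t y (X.basicOpen_le _ hy) hyU
      subst this
      exact hct t hy)
  refine ⟨L, s, hinv, hgg, ?_, ?_⟩
  · rw [hloc]; exact hxU
  · rw [hloc]; exact hU

/-- **A Noetherian separated scheme of dimension at most one has an ample invertible module.** -/
theorem main (X : Scheme.{u}) [IsNoetherian X] [X.IsSeparated]
    (hdim : topologicalKrullDim X ≤ 1) : ∃ L : X.Modules, CohB1.IsAmple L :=
  Groth.Agent.Helper4.GGSec.exists_isAmple_of_globallyGenerated_cover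
    (fun x => exists_pair_of_point X hdim x)

end Groth.Agent.Helper3.PolarE
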