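import Mathlib
import Groth.Prelude
import Groth.Agent.Helper3.PolarE
import Groth.Agent.Helper1.VA14
import Groth.Agent.Helper1.Fin11

set_option autoImplicit false
set_option linter.style.haveILetI false
set_option linter.unusedSectionVars false
set_option linter.unusedVariables false
set_option linter.deprecated false
set_option linter.style.haveILetI false
set_option linter.unusedSectionVars false
set_option linter.unusedVariables false

universe u

open CategoryTheory CategoryTheory.Limits AlgebraicGeometry TopologicalSpace Opposite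

namespace Groth.Agent.Helper3.QProj1

variable (k : Type u) [Field k] (X : Scheme.{u}) [X.Over (Spec (CommRingCat.of k))]

theorem isNoetherian_of_lft [LocallyOfFiniteType (X ↘ (Spec (CommRingCat.of k)))]
    [QuasiCompact (X ↘ (Spec (CommRingCat.of k)))] : IsNoetherian X := by
  haveI : IsLocallyNoetherian X :=
    LocallyOfFiniteType.isLocallyNoetherian (X ↘ (Spec (CommRingCat.of k)))
  haveI : CompactSpace X :=
    QuasiCompact.compactSpace_of_compactSpace (X ↘ (Spec (CommRingCat.of k)))
  exact {}

theorem isSeparated_of_over [IsSeparated (X ↘ (Spec (CommRingCat.of k)))] : X.IsSeparated := by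
  refine ⟨?_⟩
  rw [show terminal.from X = (X ↘ (Spec (CommRingCat.of k))) ≫
    terminal.from (Spec (CommRingCat.of k)) from terminal.hom_ext _ _]
  infer_instance

/-- separated finite type of dimension `≤ 1` over a field: quasi-projective -/
theorem quasiProjective [IsSeparated (X ↘ (Spec (CommRingCat.of k)))]
    [LocallyOfFiniteType (X ↘ (Spec (CommRingCat.of k)))]
    [QuasiCompact (X ↘ (Spec (CommRingCat.of k)))] (hdim : topologicalKrullDim X ≤ 1) :
    ∃ (n : ℕ) (i : X ⟶ CohB1.ProjSpace n k), IsImmersion i ∧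
      i ≫ CohB1.ProjSpace.toSpec n k = X ↘ (Spec (CommRingCat.of k)) := by
  haveI := isNoetherian_of_lft k X
  haveI := isSeparated_of_over k X
  obtain ⟨L, hL⟩ := Groth.Agent.Helper3.PolarE.main X hdim
  obtain ⟨n, i, hi, -, hf⟩ :=
    Groth.Agent.Helper1.VA.exists_immersion_of_isAmple (X ↘ (Spec (CommRingCat.of k))) L hL
  refine ⟨n, i ≫ Groth.Agent.Helper1.Fin.κκ k n, inferInstance, ?_⟩
  rw [Category.assoc, Groth.Agent.Helper1.Fin.κκ_toSpec, hf]

/-- proper of dimension `≤ 1` over a field: projective -/
theorem projective [IsProper (X ↘ (Spec (CommRingCat.of k)))]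
    (hdim : topologicalKrullDim X ≤ 1) :
    ∃ (n : ℕ) (i : X ⟶ CohB1.ProjSpace n k), IsClosedImmersion i ∧
      i ≫ CohB1.ProjSpace.toSpec n k = X ↘ (Spec (CommRingCat.of k)) := by
  haveI := isNoetherian_of_lft k X
  haveI := isSeparated_of_over k X
  obtain ⟨L, hL⟩ := Groth.Agent.Helper3.PolarE.main X hdim
  obtain ⟨n, i, hi, -, hf⟩ :=
    Groth.Agent.Helper1.VA.exists_immersion_of_isAmple (X ↘ (Spec (CommRingCat.of k))) L hL
  haveI := Groth.Agent.Helper6.HProj.isProper_toBase n (Spec (CommRingCat.of k))
  haveI : IsProper (i ≫ CohB1.ProjSpaceOver.toBase n (Spec (CommRingCat.of k))) := by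
    rw [hf]; infer_instance
  haveI : IsProper i := IsProper.of_comp i (CohB1.ProjSpaceOver.toBase n (Spec (CommRingCat.of k)))
  haveI : IsClosedImmersion i :=
    (IsClosedImmersion.iff_isProper_and_mono i).mpr ⟨inferInstance, inferInstance⟩
  refine ⟨n, i ≫ Groth.Agent.Helper1.Fin.κκ k n, inferInstance, ?_⟩
  rw [Category.assoc, Groth.Agent.Helper1.Fin.κκ_toSpec, hf]

end Groth.Agent.Helper3.QProj1
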