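import Mathlib
import Groth.Prelude

set_option autoImplicit false
set_option linter.style.haveILetI false
set_option linter.unusedSectionVars false
set_option linter.unusedVariables false
set_option linter.deprecated false
set_option linter.style.haveILetI false
set_option linter.unusedSectionVars false
set_option linter.unusedVariables false

open CategoryTheory CategoryTheory.Limits AlgebraicGeometry

universe u

namespace Groth.Agent.Helper3.SteinG

section affine

variable {X S T : Scheme.{u}}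

/-- A morphism with `appTop` an isomorphism is "epi" towards affine targets. -/
theorem eq_of_comp_eq_of_isIso_appTop (f : X ⟶ S) (hf : IsIso f.appTop) [IsAffine T]
    (r₁ r₂ : S ⟶ T) (h : f ≫ r₁ = f ≫ r₂) : r₁ = r₂ := by
  apply ext_of_isAffine
  have h2 : (f ≫ r₁).appTop = (f ≫ r₂).appTop := by rw [h]
  rw [Scheme.Hom.comp_appTop, Scheme.Hom.comp_appTop] at h2
  exact (cancel_mono f.appTop).mp h2

/-- A morphism to an affine scheme factors through any morphism to an affine scheme inducing an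
isomorphism on global sections. -/
theorem exists_factor_of_isIso_appTop (f : X ⟶ S) (hf : IsIso f.appTop) [IsAffine S] [IsAffine T]
    (h : X ⟶ T) : ∃ r : S ⟶ T, f ≫ r = h := by
  refine ⟨S.isoSpec.hom ≫ Spec.map (h.appTop ≫ inv f.appTop) ≫ T.isoSpec.inv, ?_⟩
  have h1 : f ≫ S.isoSpec.hom = X.toSpecΓ ≫ Spec.map f.appTop := Scheme.toSpecΓ_naturality f
  have h2 : h ≫ T.isoSpec.hom = X.toSpecΓ ≫ Spec.map h.appTop := Scheme.toSpecΓ_naturality h
  rw [← Category.assoc, h1, Category.assoc, ← Category.assoc (Spec.map f.appTop),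
    ← Spec.map_comp, Category.assoc, IsIso.inv_hom_id, Category.comp_id, ← Category.assoc, ← h2,
    Category.assoc, Iso.hom_inv_id, Category.comp_id]

end affine

section clopen

variable {I : Type u} [SmallCategory I] [IsCofiltered I] (D : I ⥤ Scheme.{u}) (c : Cone D)
  (hc : IsLimit c)

include hc in
/-- A clopen decomposition of a cofiltered limit of qcqs schemes with affine transition maps
comes from a clopen decomposition of some stage. -/
theorem exists_stage_of_isClopen [∀ {i j} (f : i ⟶ j), IsAffineHom (D.map f)]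
    [∀ i, CompactSpace (D.obj i)] [∀ i, QuasiSeparatedSpace (D.obj i)]
    (U₁ U₂ : c.pt.Opens) (hdis : U₁ ⊓ U₂ = ⊥) (hcov : U₁ ⊔ U₂ = ⊤) :
    ∃ (k : I) (W₁ W₂ : (D.obj k).Opens), W₁ ⊓ W₂ = ⊥ ∧ W₁ ⊔ W₂ = ⊤ ∧
      c.π.app k ⁻¹ᵁ W₁ = U₁ ∧ c.π.app k ⁻¹ᵁ W₂ = U₂ := by
  haveI : CompactSpace c.pt := Scheme.compactSpace_of_isLimit D c hc
  have hU₁cl : IsClosed (U₁ : Set c.pt) := by
    have : (U₁ : Set c.pt) = (U₂ : Set c.pt)ᶜ := by
      ext x
      constructor
      · intro hx hx2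
        have : x ∈ U₁ ⊓ U₂ := ⟨hx, hx2⟩
        rw [hdis] at this
        exact this
      · intro hx
        have : x ∈ U₁ ⊔ U₂ := by rw [hcov]; trivial
        rcases this with h | h
        · exact h
        · exact absurd h hx
    rw [this]
    exact U₂.2.isClosed_compl
  have hU₂cl : IsClosed (U₂ : Set c.pt) := by
    have : (U₂ : Set c.pt) = (U₁ : Set c.pt)ᶜ := by
      ext x
      constructor
      · intro hx hx2
        have : x ∈ U₁ ⊓ U₂ := ⟨hx2, hx⟩
        rw [hdis] at this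
        exact this
      · intro hx
        have : x ∈ U₁ ⊔ U₂ := by rw [hcov]; trivial
        rcases this with h | h
        · exact absurd h hx
        · exact h
    rw [this]
    exact U₁.2.isClosed_compl
  obtain ⟨i₁, V₁, hV₁c, hV₁⟩ := exists_preimage_eq D c hc U₁ hU₁cl.isCompact
  obtain ⟨i₂, V₂, hV₂c, hV₂⟩ := exists_preimage_eq D c hc U₂ hU₂cl.isCompact
  let i := IsCofiltered.min i₁ i₂
  let a₁ : i ⟶ i₁ := IsCofiltered.minToLeft i₁ i₂
  let a₂ : i ⟶ i₂ := IsCofiltered.minToRight i₁ i₂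
  let V₁' : (D.obj i).Opens := D.map a₁ ⁻¹ᵁ V₁
  let V₂' : (D.obj i).Opens := D.map a₂ ⁻¹ᵁ V₂
  have hV₁'c : IsCompact (V₁' : Set (D.obj i)) :=
    QuasiCompact.isCompact_preimage (f := D.map a₁) _ V₁.2 hV₁c
  have hV₂'c : IsCompact (V₂' : Set (D.obj i)) :=
    QuasiCompact.isCompact_preimage (f := D.map a₂) _ V₂.2 hV₂c
  have hV₁' : c.π.app i ⁻¹ᵁ V₁' = U₁ := by
    rw [← hV₁, ← c.w a₁, Scheme.Hom.comp_preimage]
  have hV₂' : c.π.app i ⁻¹ᵁ V₂' = U₂ := by
    rw [← hV₂, ← c.w a₂, Scheme.Hom.comp_preimage]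
  -- disjointness at a later stage
  have hinfc : IsCompact ((V₁' ⊓ V₂' : (D.obj i).Opens) : Set (D.obj i)) :=
    QuasiSeparatedSpace.inter_isCompact _ _ V₁'.2 hV₁'c V₂'.2 hV₂'c
  obtain ⟨j, b, hj⟩ := exists_map_preimage_eq_map_preimage D c hc hinfc
    (V := (⊥ : (D.obj i).Opens)) (by simp) (by
      rw [Scheme.Hom.preimage_inf, hV₁', hV₂', hdis]; rfl)
  -- covering at a later stage
  obtain ⟨k, d, hk⟩ := exists_map_eq_top D c hc (D.map b ⁻¹ᵁ (V₁' ⊔ V₂')) (by
    rw [← Scheme.Hom.comp_preimage, c.w b, Scheme.Hom.preimage_sup, hV₁', hV₂', hcov])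
  refine ⟨k, D.map (d ≫ b) ⁻¹ᵁ V₁', D.map (d ≫ b) ⁻¹ᵁ V₂', ?_, ?_, ?_, ?_⟩
  · rw [← Scheme.Hom.preimage_inf, D.map_comp, Scheme.Hom.comp_preimage, hj]
    rfl
  · rw [← Scheme.Hom.preimage_sup, D.map_comp, Scheme.Hom.comp_preimage, hk]
  · rw [← Scheme.Hom.comp_preimage, c.w, hV₁']
  · rw [← Scheme.Hom.comp_preimage, c.w, hV₂']

end clopen

end Groth.Agent.Helper3.SteinG
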