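import Mathlib
import Groth.Prelude
import Groth.Agent.S0590
import Groth.Agent.S7409
import Groth.Agent.Lead.PropStage

set_option autoImplicit false
set_option linter.style.haveILetI false
set_option linter.unusedSectionVars false
set_option linter.unusedVariables false
set_option linter.deprecated false
set_option linter.style.haveILetI false
set_option linter.unusedSectionVars false
set_option linter.unusedVariables false

open CategoryTheory CategoryTheory.Limits AlgebraicGeometry Opposite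

universe u

namespace Groth.Agent.Helper3.SteinG

/-- A proper finitely presented morphism to an affine scheme is a base change of a proper morphism
to an affine locally Noetherian scheme. -/
theorem exists_noetherian_affine_model {Y S : Scheme.{u}} [IsAffine S] (h : Y ⟶ S) [IsProper h]
    [LocallyOfFinitePresentation h] :
    ∃ (T₀ W : Scheme.{u}) (w : W ⟶ T₀) (b : S ⟶ T₀) (gW : Y ⟶ W),
      IsAffine T₀ ∧ IsLocallyNoetherian T₀ ∧ IsProper w ∧ IsPullback gW h w b := by
  obtain ⟨Λ, _, _, _, D, c, hc, haff, hD, ⟨eS⟩⟩ := Groth.Agent.S0590.result S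
  haveI : ∀ (i j : Λᵒᵖ) (f : i ⟶ j), IsAffineHom (D.map f) := haff
  haveI hA' : ∀ {i j : Λᵒᵖ} (f : i ⟶ j), IsAffineHom (D.map f) := fun f ↦ haff _ _ f
  haveI : ∀ i, CompactSpace (D.obj i) := fun i ↦ (hD i).1
  have hLN : ∀ i, IsLocallyNoetherian (D.obj i) := by
    intro i
    haveI := (hD i).2
    haveI : IsNoetherianRing (ULift.{u} ℤ) :=
      isNoetherianRing_of_ringEquiv ℤ (ULift.ringEquiv : ULift.{u} ℤ ≃+* ℤ).symm
    haveI : IsLocallyNoetherian (Spec (CommRingCat.of (ULift.{u} ℤ))) := inferInstance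
    exact LocallyOfFiniteType.isLocallyNoetherian (specULiftZIsTerminal.from (D.obj i))
  haveI hqs : ∀ i, QuasiSeparatedSpace (D.obj i) := by
    intro i
    haveI := hLN i
    infer_instance
  haveI : IsProper (h ≫ eS.inv) := inferInstance
  haveI : LocallyOfFinitePresentation (h ≫ eS.inv) := inferInstance
  obtain ⟨i', W, w, gW, hw1, hw2, hsq⟩ :=
    Groth.Agent.Lead.PropStage.descend_proper_fp (fun f => Groth.Agent.S7409.result f)
      D c hc (h ≫ eS.inv)
  haveI := hw1
  haveI : IsAffine c.pt := .of_isIso eS.hom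
  obtain ⟨i₁, hi₁⟩ := Scheme.exists_isAffine_of_isLimit D c hc
  let i₂ := IsCofiltered.min i' i₁
  let a : i₂ ⟶ i' := IsCofiltered.minToLeft i' i₁
  let a₁ : i₂ ⟶ i₁ := IsCofiltered.minToRight i' i₁
  haveI : IsAffine (D.obj i₂) := isAffine_of_isAffineHom (D.map a₁)
  let W₂ : Scheme.{u} := pullback w (D.map a)
  let w₂ : W₂ ⟶ D.obj i₂ := pullback.snd w (D.map a)
  have hcomp : gW ≫ w = ((h ≫ eS.inv) ≫ c.π.app i₂) ≫ D.map a := by
    rw [hsq.w, Category.assoc (h ≫ eS.inv), c.w]
  let gW₂ : Y ⟶ W₂ := pullback.lift gW ((h ≫ eS.inv) ≫ c.π.app i₂) hcomp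
  have hg1 : gW₂ ≫ pullback.fst w (D.map a) = gW := pullback.lift_fst _ _ _
  have hg2 : gW₂ ≫ w₂ = (h ≫ eS.inv) ≫ c.π.app i₂ := pullback.lift_snd _ _ _
  have hbig : IsPullback (gW₂ ≫ pullback.fst w (D.map a)) (h ≫ eS.inv) w
      (c.π.app i₂ ≫ D.map a) := by
    rw [hg1, c.w]; exact hsq
  have hleft : IsPullback gW₂ (h ≫ eS.inv) w₂ (c.π.app i₂) :=
    IsPullback.of_right hbig hg2 (IsPullback.of_hasPullback w (D.map a))
  refine ⟨D.obj i₂, W₂, w₂, eS.inv ≫ c.π.app i₂, gW₂, inferInstance, hLN i₂, inferInstance, ?_⟩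
  have hiso : IsPullback (𝟙 Y) h (h ≫ eS.inv) eS.inv :=
    IsPullback.of_horiz_isIso ⟨by simp⟩
  have := hiso.paste_horiz hleft
  simpa using this

end Groth.Agent.Helper3.SteinG
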