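import Mathlib
import Groth.Prelude
import Groth.Agent.S2431
import Groth.Agent.S1340
import Groth.Agent.Lead.ProperFinB
import Groth.Agent.Helper3.SteinG1
import Groth.Agent.Helper3.SteinG2

set_option autoImplicit false
set_option linter.style.haveILetI false
set_option linter.unusedSectionVars false
set_option linter.unusedVariables false
set_option linter.deprecated false
set_option linter.style.haveILetI false
set_option linter.unusedSectionVars false
set_option linter.unusedVariables false

open CategoryTheory CategoryTheory.Limits AlgebraicGeometry Opposite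

universe u

namespace Groth.Agent.Helper3.SteinG

/-- The comparison morphism `X ×_S K ⟶ Y ×_S K` induced by `π : X ⟶ Y` over `S`. -/
noncomputable def fibMap {X Y S Z : Scheme.{u}} (h : Y ⟶ S) (π : X ⟶ Y) (y : Z ⟶ S) :
    pullback (π ≫ h) y ⟶ pullback h y :=
  pullback.lift (pullback.fst (π ≫ h) y ≫ π) (pullback.snd (π ≫ h) y)
    (by rw [Category.assoc, pullback.condition])

@[reassoc (attr := simp)]
theorem fibMap_fst {X Y S Z : Scheme.{u}} (h : Y ⟶ S) (π : X ⟶ Y) (y : Z ⟶ S) :
    fibMap h π y ≫ pullback.fst h y = pullback.fst (π ≫ h) y ≫ π := pullback.lift_fst _ _ _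

@[reassoc (attr := simp)]
theorem fibMap_snd {X Y S Z : Scheme.{u}} (h : Y ⟶ S) (π : X ⟶ Y) (y : Z ⟶ S) :
    fibMap h π y ≫ pullback.snd h y = pullback.snd (π ≫ h) y := pullback.lift_snd _ _ _

/-- Key step: if `Y → S` is proper of finite presentation over an affine base and `X → Y → S`
induces an isomorphism on global sections, then the image of each geometric fibre of `X` in the
corresponding geometric fibre of `Y` lies in a preconnected subset. -/
theorem exists_preconnected_of_model {X Y S : Scheme.{u}} [IsAffine S] (h : Y ⟶ S) [IsProper h]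
    [LocallyOfFinitePresentation h] (π : X ⟶ Y) (hπ : IsIso (π ≫ h).appTop)
    {K : Type u} [Field K] (y : Spec (.of K) ⟶ S) :
    ∃ F' : Set ↥(pullback h y), _root_.IsPreconnected F' ∧
      ∀ x : ↥(pullback (π ≫ h) y), (fibMap h π y).base x ∈ F' := by
  obtain ⟨T₀, W, w, b, gW, hT₀, hLN, hw, hsq⟩ := exists_noetherian_affine_model h
  let p := w.toNormalization
  let q := w.fromNormalization
  have hpq : p ≫ q = w := w.toNormalization_fromNormalization
  haveI : IsFinite q := Groth.Agent.Lead.ProperFinB.main w
  haveI : IsLocallyNoetherian w.normalization := LocallyOfFiniteType.isLocallyNoetherian q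
  haveI : IsProper (p ≫ q) := by rw [hpq]; infer_instance
  haveI : IsProper p := IsProper.of_comp p q
  have hgc : GeometricallyConnected p :=
    (Groth.Agent.S2431.result p (fun U => Groth.Agent.S1340.result w U)).2
  haveI : IsAffine w.normalization := isAffine_of_isAffineHom q
  obtain ⟨r, hr⟩ := exists_factor_of_isIso_appTop (π ≫ h) hπ (π ≫ gW ≫ p)
  have hrq : r ≫ q = b := by
    refine eq_of_comp_eq_of_isIso_appTop (π ≫ h) hπ _ _ ?_
    rw [← Category.assoc, hr, Category.assoc, Category.assoc, hpq, hsq.w, Category.assoc]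
  let F := pullback p (y ≫ r)
  haveI : ConnectedSpace ↥F :=
    hgc.geometrically_connectedSpace (y ≫ r) _ _ (IsPullback.of_hasPullback _ _)
  have hc1 : pullback.fst p (y ≫ r) ≫ w = (pullback.snd p (y ≫ r) ≫ y) ≫ b := by
    have e1 : pullback.fst p (y ≫ r) ≫ w = pullback.fst p (y ≫ r) ≫ p ≫ q := by rw [hpq]
    rw [e1, ← Category.assoc, pullback.condition, Category.assoc, Category.assoc,
      Category.assoc, hrq]
  let μY : F ⟶ Y := hsq.lift (pullback.fst p (y ≫ r)) (pullback.snd p (y ≫ r) ≫ y) hc1
  have hμY1 : μY ≫ gW = pullback.fst p (y ≫ r) := hsq.lift_fst _ _ _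
  have hμY2 : μY ≫ h = pullback.snd p (y ≫ r) ≫ y := hsq.lift_snd _ _ _
  let μ : F ⟶ pullback h y := pullback.lift μY (pullback.snd p (y ≫ r)) hμY2
  refine ⟨Set.range μ.base, isPreconnected_range μ.continuous, ?_⟩
  intro x
  have hc2 : (pullback.fst (π ≫ h) y ≫ π ≫ gW) ≫ p = pullback.snd (π ≫ h) y ≫ y ≫ r := by
    rw [Category.assoc, Category.assoc, ← hr, ← Category.assoc, pullback.condition,
      Category.assoc]
  let ν : pullback (π ≫ h) y ⟶ F :=
    pullback.lift (pullback.fst (π ≫ h) y ≫ π ≫ gW) (pullback.snd (π ≫ h) y) hc2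
  have hνμ : ν ≫ μ = fibMap h π y := by
    apply pullback.hom_ext
    · rw [Category.assoc, pullback.lift_fst, fibMap_fst]
      apply hsq.hom_ext
      · rw [Category.assoc, hμY1, pullback.lift_fst, Category.assoc]
      · rw [Category.assoc, hμY2, ← Category.assoc, pullback.lift_snd, Category.assoc,
          pullback.condition]
    · rw [Category.assoc, pullback.lift_snd, pullback.lift_snd, fibMap_snd]
  exact ⟨ν.base x, by rw [← hνμ]; rfl⟩

end Groth.Agent.Helper3.SteinG
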