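import Mathlib
import Groth.Prelude
import Groth.Agent.S2079
import Groth.Agent.Helper3.SteinG3

set_option autoImplicit false
set_option linter.style.haveILetI false
set_option linter.unusedSectionVars false
set_option linter.unusedVariables false
set_option linter.deprecated false
set_option linter.style.haveILetI false
set_option linter.unusedSectionVars false
set_option linter.unusedVariables false

open CategoryTheory CategoryTheory.Limits AlgebraicGeometry Opposite

universe u

namespace Groth.Agent.Helper3.SteinG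

/-- Variant of `exists_preconnected_of_model` with a propositional factorization. -/
theorem exists_preconnected_of_model' {X Y S : Scheme.{u}} [IsAffine S] (h : Y ⟶ S) [IsProper h]
    [LocallyOfFinitePresentation h] (π : X ⟶ Y) (f : X ⟶ S) (hf : π ≫ h = f)
    (hiso : IsIso f.appTop) {K : Type u} [Field K] (y : Spec (.of K) ⟶ S) :
    ∃ F' : Set ↥(pullback h y), _root_.IsPreconnected F' ∧
      ∀ x : ↥(pullback f y),
        (pullback.lift (pullback.fst f y ≫ π) (pullback.snd f y)
          (by rw [Category.assoc, hf, pullback.condition]) : pullback f y ⟶ pullback h y).base x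
            ∈ F' := by
  subst hf
  exact exists_preconnected_of_model h π hiso y

/-- Base change along `y` of a closed immersion in `Over S`. -/
theorem isClosedImmersion_pullback_map {S Z : Scheme.{u}} (y : Z ⟶ S) {A B : Over S} (t : A ⟶ B)
    [IsClosedImmersion t.left] : IsClosedImmersion ((Over.pullback y).map t).left := by
  have hm1 : ((Over.pullback y).map t).left ≫ pullback.snd B.hom y = pullback.snd A.hom y :=
    pullback.lift_snd _ _ _
  have hm2 : ((Over.pullback y).map t).left ≫ pullback.fst B.hom y =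
      pullback.fst A.hom y ≫ t.left :=
    pullback.lift_fst _ _ _
  have hbig : IsPullback (((Over.pullback y).map t).left ≫ pullback.snd B.hom y)
      (pullback.fst A.hom y) y (t.left ≫ B.hom) := by
    rw [hm1, Over.w t]
    exact (IsPullback.of_hasPullback A.hom y).flip
  have hsq : IsPullback ((Over.pullback y).map t).left (pullback.fst A.hom y)
      (pullback.fst B.hom y) t.left :=
    IsPullback.of_right hbig hm2 (IsPullback.of_hasPullback B.hom y).flip
  exact MorphismProperty.of_isPullback (P := @IsClosedImmersion) hsq.flip inferInstance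

theorem preconnected_of_limit {S : Scheme.{u}} [IsAffine S] {J : Type u} [SmallCategory J]
    [IsCofiltered J] (D₁ : J ⥤ Over S) (c₁ : Cone D₁) (hc₁ : IsLimit c₁)
    (hcl : ∀ (i j : J) (a : i ⟶ j), IsClosedImmersion (D₁.map a).left)
    (hst : ∀ i, IsProper (D₁.obj i).hom ∧ LocallyOfFinitePresentation (D₁.obj i).hom)
    (hiso : IsIso c₁.pt.hom.appTop) {K : Type u} [Field K] (y : Spec (.of K) ⟶ S) :
    PreconnectedSpace ↥(pullback c₁.pt.hom y) := by
  let G : Over S ⥤ Scheme.{u} := Over.pullback y ⋙ Over.forget (Spec (.of K))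
  haveI : PreservesLimitsOfSize.{u, u} (Over.pullback y) :=
    (Over.mapPullbackAdj y).rightAdjoint_preservesLimits
  haveI : PreservesLimit D₁ G := inferInstance
  let E : J ⥤ Scheme.{u} := D₁ ⋙ G
  let cE : Cone E := G.mapCone c₁
  have hcE : IsLimit cE := isLimitOfPreserves G hc₁
  haveI hEaff : ∀ {i j : J} (a : i ⟶ j), IsAffineHom (E.map a) := by
    intro i j a
    haveI := hcl i j a
    haveI : IsClosedImmersion (E.map a) := isClosedImmersion_pullback_map y (D₁.map a)
    infer_instance
  haveI hEc : ∀ i, CompactSpace (E.obj i) := by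
    intro i
    haveI := (hst i).1
    haveI : IsProper (pullback.snd (D₁.obj i).hom y) :=
      MorphismProperty.pullback_snd _ _ (hst i).1
    show CompactSpace ↥(pullback (D₁.obj i).hom y)
    exact QuasiCompact.compactSpace_of_compactSpace (pullback.snd (D₁.obj i).hom y)
  haveI hEqs : ∀ i, QuasiSeparatedSpace (E.obj i) := by
    intro i
    haveI := (hst i).1
    haveI : IsProper (pullback.snd (D₁.obj i).hom y) :=
      MorphismProperty.pullback_snd _ _ (hst i).1
    show QuasiSeparatedSpace ↥(pullback (D₁.obj i).hom y)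
    exact quasiSeparatedSpace_of_quasiSeparated (pullback.snd (D₁.obj i).hom y)
  rw [preconnectedSpace_iff_clopen]
  intro s hs
  by_contra hne
  push Not at hne
  obtain ⟨hs1, hs2⟩ := hne
  obtain ⟨x₁, hx₁⟩ := hs1
  obtain ⟨x₂, hx₂⟩ := (Set.ne_univ_iff_exists_notMem s).mp hs2
  let U₁ : cE.pt.Opens := ⟨s, hs.isOpen⟩
  let U₂ : cE.pt.Opens := ⟨sᶜ, hs.compl.isOpen⟩
  have hdis : U₁ ⊓ U₂ = ⊥ := by
    ext x
    simp [U₁, U₂]
  have hcov : U₁ ⊔ U₂ = ⊤ := by
    ext x
    simp [U₁, U₂, em]
  obtain ⟨k, W₁, W₂, hW, hWc, h1, h2⟩ := exists_stage_of_isClopen E cE hcE U₁ U₂ hdis hcov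
  haveI := (hst k).1
  haveI := (hst k).2
  obtain ⟨F', hF', hmem⟩ := exists_preconnected_of_model' (D₁.obj k).hom (c₁.π.app k).left
    c₁.pt.hom (Over.w _) hiso y
  have hπ : ∀ x : ↥(pullback c₁.pt.hom y), (cE.π.app k).base x ∈ F' := hmem
  have hz₁ : (cE.π.app k).base x₁ ∈ (W₁ : Set (E.obj k)) := by
    have : x₁ ∈ cE.π.app k ⁻¹ᵁ W₁ := by rw [h1]; exact hx₁
    exact this
  have hz₂ : (cE.π.app k).base x₂ ∈ (W₂ : Set (E.obj k)) := by
    have : x₂ ∈ cE.π.app k ⁻¹ᵁ W₂ := by rw [h2]; exact hx₂
    exact this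
  have hdisj : Disjoint (W₁ : Set (E.obj k)) (W₂ : Set (E.obj k)) := by
    rw [Set.disjoint_iff_inter_eq_empty]
    have := congrArg (fun U : (E.obj k).Opens => (U : Set (E.obj k))) hW
    simpa using this
  have hcovW : F' ⊆ (W₁ : Set (E.obj k)) ∪ (W₂ : Set (E.obj k)) := by
    intro z _
    have : z ∈ W₁ ⊔ W₂ := by rw [hWc]; trivial
    exact this
  have hsub : F' ⊆ (W₁ : Set (E.obj k)) :=
    hF'.subset_left_of_subset_union W₁.2 W₂.2 hdisj hcovW ⟨_, hπ x₁, hz₁⟩
  exact Set.disjoint_left.mp hdisj (hsub (hπ x₂)) hz₂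

theorem preconnected_of_isIso_appTop {X S : Scheme.{u}} [IsAffine S] (f : X ⟶ S) [IsProper f]
    (hf : IsIso f.appTop) {K : Type u} [Field K] (y : Spec (.of K) ⟶ S) :
    PreconnectedSpace ↥(pullback f y) := by
  obtain ⟨J, _, _, D₁, c₁, hc₁, e₁, hcl, hst⟩ := Groth.Agent.S2079.result f
  have hw : e₁.hom.left ≫ f = c₁.pt.hom := Over.w e₁.hom
  haveI : IsIso e₁.hom.left := inferInstanceAs (IsIso ((Over.forget S).map e₁.hom))
  have hiso : IsIso c₁.pt.hom.appTop := by
    rw [← hw, Scheme.Hom.comp_appTop]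
    haveI : IsIso e₁.hom.left.appTop := inferInstanceAs (IsIso (e₁.hom.left.app ⊤))
    infer_instance
  haveI := preconnected_of_limit D₁ c₁ hc₁ hcl (fun i => (hst i).2) hiso y
  let φ : pullback c₁.pt.hom y ⟶ pullback f y :=
    pullback.map c₁.pt.hom y f y e₁.hom.left (𝟙 _) (𝟙 _) (by rw [Category.comp_id, hw])
      (by simp)
  haveI : IsIso φ := by
    dsimp only [φ]; infer_instance
  have hsurj : Function.Surjective φ.base := φ.homeomorph.surjective
  constructor
  rw [← Set.range_eq_univ.mpr hsurj]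
  exact isPreconnected_range φ.continuous

end Groth.Agent.Helper3.SteinG
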