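import Mathlib
import Groth.Prelude
import Groth.Agent.Helper3.SteinG4

set_option autoImplicit false
set_option linter.style.haveILetI false
set_option linter.unusedSectionVars false
set_option linter.unusedVariables false
set_option linter.deprecated false
set_option linter.style.haveILetI false
set_option linter.unusedSectionVars false
set_option linter.unusedVariables false

open CategoryTheory CategoryTheory.Limits AlgebraicGeometry Opposite

universe u

namespace Groth.Agent.Helper3.SteinG

/-- **Zariski's connectedness theorem without Noetherian hypotheses**: a proper surjective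
morphism `f : X ⟶ S` with `O_S → f_* O_X` an isomorphism has geometrically connected fibres. -/
theorem geometricallyConnected_of_isIso_app {X S : Scheme.{u}} (f : X ⟶ S) [IsProper f]
    [Surjective f] (hf : ∀ U : S.Opens, IsIso (f.app U)) : GeometricallyConnected f := by
  refine ⟨fun K _ y Z fst snd hsq => ?_⟩
  -- an affine open neighbourhood of the image of `y`
  let t₀ : ↥(Spec (CommRingCat.of K)) := IsLocalRing.closedPoint K
  obtain ⟨_, ⟨(V : S.Opens), (hV : IsAffineOpen V), rfl⟩, hyV, -⟩ :=
    S.isBasis_affineOpens.exists_subset_of_mem_open (Set.mem_univ (y.base t₀)) isOpen_univ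
  haveI : IsAffine (V : Scheme.{u}) := hV
  have hrange : Set.range y.base ⊆ Set.range V.ι.base := by
    rintro _ ⟨t, rfl⟩
    rw [Scheme.Opens.range_ι]
    have : t = t₀ := Subsingleton.elim _ _
    rw [this]
    exact hyV
  let y' : Spec (CommRingCat.of K) ⟶ V := IsOpenImmersion.lift V.ι y hrange
  have hy' : y' ≫ V.ι = y := IsOpenImmersion.lift_fac _ _ _
  let fV : ((f ⁻¹ᵁ V : X.Opens) : Scheme.{u}) ⟶ (V : Scheme.{u}) := f ∣_ V
  have hisoV : IsIso fV.appTop := by
    have := morphismRestrict_appTop f V
    show IsIso (f ∣_ V).appTop
    rw [this]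
    haveI h2 : IsIso (X.presheaf.map (eqToHom (image_morphismRestrict_preimage f V ⊤)).op) :=
      inferInstance
    exact @IsIso.comp_isIso _ _ _ _ _ _ _ (hf _) h2
  haveI : PreconnectedSpace ↥(pullback fV y') := preconnected_of_isIso_appTop fV hisoV y'
  haveI : Surjective fV :=
    MorphismProperty.of_isPullback (P := @Surjective) (isPullback_morphismRestrict f V).flip
      inferInstance
  haveI : Nonempty ↥(pullback fV y') := by
    obtain ⟨z, -⟩ := (pullback.snd fV y').surjective t₀
    exact ⟨z⟩
  haveI : ConnectedSpace ↥(pullback fV y') := ConnectedSpace.mk inferInstance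
  -- compare with the given pullback square
  have hleft : IsPullback (pullback.fst fV y') (pullback.snd fV y') fV y' :=
    IsPullback.of_hasPullback _ _
  have hright : IsPullback (f ⁻¹ᵁ V).ι fV f V.ι := (isPullback_morphismRestrict f V).flip
  have hbig : IsPullback (pullback.fst fV y' ≫ (f ⁻¹ᵁ V).ι) (pullback.snd fV y') f (y' ≫ V.ι) :=
    hleft.paste_horiz hright
  rw [hy'] at hbig
  let e : pullback fV y' ≅ Z := hbig.isoIsPullback _ _ hsq
  exact e.hom.homeomorph.surjective.connectedSpace e.hom.continuous

end Groth.Agent.Helper3.SteinG
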