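import Mathlib
import Groth.Prelude
import Groth.Agent.Helper3.SteinG5

set_option autoImplicit false
set_option linter.style.haveILetI false
set_option linter.unusedSectionVars false
set_option linter.unusedVariables false
set_option linter.deprecated false
set_option linter.style.haveILetI false
set_option linter.unusedSectionVars false
set_option linter.unusedVariables false

open CategoryTheory CategoryTheory.Limits AlgebraicGeometry Opposite

universe u

namespace Groth.Agent.Helper3.SteinN

theorem appLE_congr_hom {X Y : Scheme.{u}} {f g : X ⟶ Y} (h : f = g) (U : Y.Opens) (V : X.Opens)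
    (e : V ≤ f ⁻¹ᵁ U) : f.appLE U V e = g.appLE U V (h ▸ e) := by
  subst h; rfl

theorem appLE_comp_appTop {X Y Z : Scheme.{u}} (f : X ⟶ Y) (g : Y ⟶ Z) (U : Z.Opens)
    (e : ⊤ ≤ g ⁻¹ᵁ U) :
    g.appLE U ⊤ e ≫ f.appTop =
      (f ≫ g).appLE U ⊤ (by intro x _; exact e (Set.mem_univ (f x))) := by
  show g.appLE U ⊤ e ≫ f.app ⊤ = _
  rw [Scheme.Hom.appLE, Scheme.Hom.appLE, Category.assoc, f.naturality, Scheme.Hom.comp_app]
  erw [Category.assoc]
  rfl

/-- integrally closed coordinate rings from integrally closed stalks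
(copied from `Helper5/NormKA.isIntegrallyClosed_of_stalks`, to avoid heavy imports) -/
theorem isIntegrallyClosed_of_stalks {X : Scheme.{u}} (U : X.Opens) (hU : IsAffineOpen U)
    [IsDomain Γ(X, U)]
    (h : ∀ x ∈ U, IsIntegrallyClosed (X.presheaf.stalk x)) : IsIntegrallyClosed Γ(X, U) := by
  apply IsIntegrallyClosed.of_localization_maximal
  intro p _ hp
  have hmem : hU.fromSpec ⟨p, hp.isPrime⟩ ∈ U := by
    have : hU.fromSpec ⟨p, hp.isPrime⟩ ∈ Set.range hU.fromSpec := Set.mem_range_self _
    rw [hU.range_fromSpec] at this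
    exact this
  have hQ : hU.primeIdealOf ⟨hU.fromSpec ⟨p, hp.isPrime⟩, hmem⟩ = ⟨p, hp.isPrime⟩ :=
    hU.fromSpec.isOpenEmbedding.injective (hU.fromSpec_primeIdealOf ⟨_, hmem⟩)
  letI : Algebra Γ(X, U) (X.presheaf.stalk (hU.fromSpec ⟨p, hp.isPrime⟩)) :=
    X.presheaf.algebra_section_stalk ⟨_, hmem⟩
  haveI h1 : IsLocalization.AtPrime (X.presheaf.stalk (hU.fromSpec ⟨p, hp.isPrime⟩))
      (hU.primeIdealOf ⟨hU.fromSpec ⟨p, hp.isPrime⟩, hmem⟩).asIdeal :=
    hU.isLocalization_stalk ⟨_, hmem⟩
  rw [hQ] at h1
  haveI : IsLocalization.AtPrime (X.presheaf.stalk (hU.fromSpec ⟨p, hp.isPrime⟩)) p := h1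
  haveI := h _ hmem
  exact IsIntegrallyClosed.of_equiv
    (IsLocalization.algEquiv p.primeCompl (X.presheaf.stalk (hU.fromSpec ⟨p, hp.isPrime⟩))
      (Localization.AtPrime p)).toRingEquiv

/-- Sections of a reduced scheme all of whose generic points lie over `ξ` are determined by
their restriction to the fibre over `ξ`. -/
theorem injective_appLE_fiber {X S : Scheme.{u}} (f : X ⟶ S) [IsReduced X] (ξ : S)
    (hgen : ∀ Z ∈ irreducibleComponents ↑X, ∀ x : X, IsGenericPoint x Z → f x = ξ)
    (W : X.Opens) (hW : ⊤ ≤ (f.fiberι ξ) ⁻¹ᵁ W) :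
    Function.Injective ((f.fiberι ξ).appLE W ⊤ hW).hom := by
  rw [injective_iff_map_eq_zero]
  intro b hb
  by_contra hne
  have hbo : X.basicOpen b ≠ ⊥ := fun h => hne ((basicOpen_eq_bot_iff b).mp h)
  obtain ⟨x, hx⟩ : ∃ x, x ∈ X.basicOpen b := by
    by_contra hcon
    simp only [not_exists] at hcon
    apply hbo
    ext y
    simp only [TopologicalSpace.Opens.coe_bot, Set.mem_empty_iff_false, iff_false]
    exact hcon y
  have hZ : irreducibleComponent x ∈ irreducibleComponents X :=
    irreducibleComponent_mem_irreducibleComponents x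
  obtain ⟨η, hη⟩ := QuasiSober.sober (isIrreducible_irreducibleComponent (x := x))
    isClosed_irreducibleComponent
  have hspec : η ⤳ x := hη.specializes mem_irreducibleComponent
  have hηb : η ∈ X.basicOpen b := hspec.mem_open (X.basicOpen b).2 hx
  have hfη : f η = ξ := hgen _ hZ η hη
  obtain ⟨η', rfl⟩ : η ∈ Set.range (f.fiberι ξ) := by
    rw [Scheme.Hom.range_fiberι]; exact hfη
  have h1 : η' ∈ (f.fiber ξ).basicOpen (((f.fiberι ξ).appLE W ⊤ hW).hom b) := by
    have e1 : ((f.fiberι ξ).appLE W ⊤ hW).hom b =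
        ((f.fiber ξ).presheaf.map (homOfLE hW).op).hom (((f.fiberι ξ).app W).hom b) := rfl
    rw [e1, Scheme.basicOpen_res, ← Scheme.preimage_basicOpen]
    exact ⟨trivial, hηb⟩
  rw [hb, Scheme.basicOpen_zero] at h1
  exact h1

/-- The residue map of a local ring that is a field is injective. -/
theorem residue_injective_of_isField {R : Type u} [CommRing R] [IsLocalRing R] (hR : IsField R) :
    Function.Injective (IsLocalRing.residue R) := by
  rw [injective_iff_map_eq_zero]
  intro x hx
  by_contra hne
  have hu : IsUnit x := by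
    obtain ⟨y, hy⟩ := hR.mul_inv_cancel hne
    exact IsUnit.of_mul_eq_one y hy
  exact (hu.map (IsLocalRing.residue R)).ne_zero hx

theorem bijective_app_of_normal {X S : Scheme.{u}} (f : X ⟶ S) [IsProper f] [IsIntegral S]
    (hS : Pi1.IsNormalScheme S) [IsReduced X]
    (hgen : ∀ Z ∈ irreducibleComponents ↑X, ∀ x : X, IsGenericPoint x Z → f x = genericPoint ↑S)
    (h0 : Function.Bijective ((f.fiberToSpecResidueField (genericPoint ↑S)).appTop))
    (U : S.Opens) (hU : IsAffineOpen U) [Nonempty U] : Function.Bijective (f.app U).hom := by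
  have hξU : genericPoint S ∈ U :=
    ((genericPoint_spec S).mem_open_set_iff U.isOpen).mpr (by simpa using ‹Nonempty U›)
  have hfac : f.fiberι (genericPoint S) ≫ f =
      f.fiberToSpecResidueField (genericPoint S) ≫ S.fromSpecResidueField (genericPoint S) :=
    f.fiber_fac (genericPoint S)
  have hle1 : ⊤ ≤ S.fromSpecResidueField (genericPoint S) ⁻¹ᵁ U := by
    intro z _
    show S.fromSpecResidueField (genericPoint S) z ∈ U
    rw [Scheme.fromSpecResidueField_apply]
    exact hξU
  have hle2 : ⊤ ≤ f.fiberι (genericPoint S) ⁻¹ᵁ (f ⁻¹ᵁ U) := by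
    rw [← Scheme.Hom.comp_preimage, hfac, Scheme.Hom.comp_preimage]
    intro z _
    exact hle1 (Set.mem_univ _)
  -- the comparison square
  have hcomm : f.app U ≫ (f.fiberι (genericPoint S)).appLE (f ⁻¹ᵁ U) ⊤ hle2 =
      (S.fromSpecResidueField (genericPoint S)).appLE U ⊤ hle1 ≫
        (f.fiberToSpecResidueField (genericPoint S)).appTop := by
    rw [appLE_comp_appTop, Scheme.Hom.app_eq_appLE, Scheme.Hom.appLE_comp_appLE,
      appLE_congr_hom hfac]
  -- the map to the residue field of the generic point
  have hy₀ : S.fromSpecResidueField (genericPoint S) =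
      Spec.map (S.presheaf.germ U (genericPoint S) hξU ≫ S.residue (genericPoint S)) ≫
        hU.fromSpec := by
    rw [Scheme.fromSpecResidueField, ← hU.fromSpecStalk_eq_fromSpecStalk hξU,
      IsAffineOpen.fromSpecStalk, Spec.map_comp, Category.assoc]
  have hα : (S.fromSpecResidueField (genericPoint S)).appLE U ⊤ hle1 =
      (S.presheaf.germ U (genericPoint S) hξU ≫ S.residue (genericPoint S)) ≫
        (Scheme.ΓSpecIso (S.residueField (genericPoint S))).inv := by
    rw [appLE_congr_hom hy₀, Scheme.Hom.comp_appLE, hU.fromSpec_app_self, Category.assoc,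
      Scheme.Hom.map_appLE, Scheme.ΓSpecIso_inv_naturality]
    congr 1
  let e₁ : S.functionField ⟶ Γ(f.fiber (genericPoint S), ⊤) :=
    S.residue (genericPoint S) ≫ (Scheme.ΓSpecIso (S.residueField (genericPoint S))).inv ≫
      (f.fiberToSpecResidueField (genericPoint S)).appTop
  have he₁ : Function.Bijective e₁.hom := by
    have hres : Function.Bijective (S.residue (genericPoint S)).hom :=
      ⟨residue_injective_of_isField (Field.toIsField S.functionField), S.residue_surjective _⟩
    have hiso : Function.Bijective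
        (Scheme.ΓSpecIso (S.residueField (genericPoint S))).inv.hom :=
      ConcreteCategory.bijective_of_isIso _
    exact (h0.comp hiso).comp hres
  have hcomm2 : f.app U ≫ (f.fiberι (genericPoint S)).appLE (f ⁻¹ᵁ U) ⊤ hle2 =
      S.germToFunctionField U ≫ e₁ := by
    rw [hcomm, hα]
    simp only [e₁, Category.assoc]
  have hρ := injective_appLE_fiber f (genericPoint S) hgen (f ⁻¹ᵁ U) hle2
  haveI : IsDomain Γ(S, U) := inferInstance
  haveI : IsFractionRing Γ(S, U) S.functionField :=
    functionField_isFractionRing_of_isAffineOpen S U hU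
  haveI : IsIntegrallyClosed Γ(S, U) := isIntegrallyClosed_of_stalks U hU (fun x _ => (hS x).2)
  have hint : (f.app U).hom.IsIntegral :=
    Groth.Agent.S1340.isIntegral_app_of_universallyClosed f U hU
  have key : ∀ a : Γ(S, U), ((f.fiberι (genericPoint S)).appLE (f ⁻¹ᵁ U) ⊤ hle2).hom
      ((f.app U).hom a) = e₁.hom ((S.germToFunctionField U).hom a) :=
    fun a => congr($(hcomm2).hom a)
  constructor
  · intro a a' haa'
    have := congrArg ((f.fiberι (genericPoint S)).appLE (f ⁻¹ᵁ U) ⊤ hle2).hom haa'
    rw [key, key] at this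
    exact S.germToFunctionField_injective U (he₁.1 this)
  · intro b
    obtain ⟨z, hz⟩ := he₁.2 (((f.fiberι (genericPoint S)).appLE (f ⁻¹ᵁ U) ⊤ hle2).hom b)
    obtain ⟨P, hP, hPb⟩ := hint b
    have hz_int : IsIntegral Γ(S, U) z := by
      refine ⟨P, hP, ?_⟩
      apply he₁.1
      rw [map_zero, Polynomial.hom_eval₂, hz]
      have : e₁.hom.comp (algebraMap Γ(S, U) S.functionField) =
          ((f.fiberι (genericPoint S)).appLE (f ⁻¹ᵁ U) ⊤ hle2).hom.comp (f.app U).hom := by
        ext a; exact (key a).symm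
      rw [this, ← Polynomial.hom_eval₂, hPb, map_zero]
    obtain ⟨a, ha⟩ := (IsIntegrallyClosed.isIntegral_iff (R := Γ(S, U))
      (K := S.functionField)).mp hz_int
    refine ⟨a, hρ ?_⟩
    rw [key, ← hz]
    exact congrArg e₁.hom ha

theorem main {X S : Scheme.{u}} (f : X ⟶ S) [IsProper f] [IsIntegral S]
    (hS : Pi1.IsNormalScheme S) [IsReduced X]
    (hgen : ∀ Z ∈ irreducibleComponents ↑X, ∀ x : X, IsGenericPoint x Z → f x = genericPoint ↑S)
    (h0 : Function.Bijective ((f.fiberToSpecResidueField (genericPoint ↑S)).appTop)) :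
    (∀ U : S.Opens, IsIso (f.app U)) ∧ GeometricallyConnected f := by
  have hall : ∀ U : S.Opens, IsIso (f.app U) := by
    let B : {V : S.affineOpens // Nonempty V.1} → S.Opens := fun V => V.1.1
    have hB : TopologicalSpace.Opens.IsBasis (Set.range B) := by
      rw [TopologicalSpace.Opens.isBasis_iff_nbhd]
      intro U x hx
      obtain ⟨_, ⟨V, hV, rfl⟩, hxV, hVU⟩ :=
        S.isBasis_affineOpens.exists_subset_of_mem_open hx U.2
      exact ⟨V, ⟨⟨⟨V, hV⟩, ⟨⟨x, hxV⟩⟩⟩, rfl⟩, hxV, hVU⟩
    let φ : S.sheaf ⟶ (TopCat.Sheaf.pushforward CommRingCat f.base).obj X.sheaf := ⟨f.c⟩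
    have hφ : IsIso φ := TopCat.Sheaf.isIso_iff_isIso_basis hB (fun V => by
      haveI := V.2
      show IsIso (f.app V.1.1)
      rw [ConcreteCategory.isIso_iff_bijective]
      exact bijective_app_of_normal f hS hgen h0 V.1.1 V.1.2)
    have h2 : IsIso φ.hom := by
      have : IsIso ((sheafToPresheaf (Opens.grothendieckTopology S) CommRingCat).map φ) :=
        Functor.map_isIso _ φ
      exact this
    exact fun U => NatIso.isIso_app_of_isIso φ.hom (Opposite.op U)
  refine ⟨hall, ?_⟩
  -- surjectivity
  haveI : Surjective f := by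
    constructor
    have hcl : IsClosed (Set.range f) := f.isClosedMap.isClosed_range
    have hne : Nonempty (f.fiber (genericPoint S)) := by
      by_contra hemp
      rw [not_nonempty_iff] at hemp
      haveI : Subsingleton Γ(f.fiber (genericPoint S), ⊤) := by
        have : (⊤ : (f.fiber (genericPoint S)).Opens) = ⊥ := by
          ext x; exact (hemp.false x).elim
        rw [this]; infer_instance
      have h1 := h0.1 (Subsingleton.elim
        ((f.fiberToSpecResidueField (genericPoint S)).appTop 0)
        ((f.fiberToSpecResidueField (genericPoint S)).appTop 1))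
      haveI : Nontrivial Γ(Spec (S.residueField (genericPoint S)), ⊤) :=
        ((Scheme.ΓSpecIso (S.residueField (genericPoint S))).commRingCatIsoToRingEquiv.toEquiv).nontrivial
      exact zero_ne_one h1
    obtain ⟨x⟩ := hne
    have hx : genericPoint S ∈ Set.range f := by
      have : f.fiberι (genericPoint S) x ∈ Set.range (f.fiberι (genericPoint S)) := ⟨x, rfl⟩
      rw [Scheme.Hom.range_fiberι] at this
      exact ⟨_, this⟩
    intro s
    have hs : s ∈ closure ({genericPoint S} : Set S) := by
      have := (genericPoint_spec S).def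
      rw [this]; trivial
    exact (hcl.closure_subset_iff.mpr (Set.singleton_subset_iff.mpr hx)) hs
  exact Groth.Agent.Helper3.SteinG.geometricallyConnected_of_isIso_app f hall

end Groth.Agent.Helper3.SteinN
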