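import Mathlib

/-! Finite modules over a domain: a free submodule of full rank. -/

universe u

namespace Groth.Agent.Helper3

open Module

/-- For a finite module over a domain there are a finite linearly independent family `v` and a
nonzero `c` with `c • M ⊆ span v`. -/
theorem exists_linearIndependent_smul_mem_span (R : Type u) [CommRing R] [IsDomain R] (M : Type u)
    [AddCommGroup M] [Module R M] [Module.Finite R M] :
    ∃ (n : ℕ) (v : Fin n → M) (c : R), LinearIndependent R v ∧ c ≠ 0 ∧
      ∀ m : M, c • m ∈ Submodule.span R (Set.range v) := by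
  classical
  obtain ⟨k, w, hw⟩ := Module.Finite.exists_fin (R := R) (M := M)
  obtain ⟨s, hs, hs'⟩ := exists_maximal_linearIndepOn R w
  choose! a ha ha' using hs'
  -- the product of the a i over i ∉ s
  let c : R := ∏ i ∈ Finset.univ.filter (fun i => i ∉ s), a i
  have hc : c ≠ 0 := by
    rw [Finset.prod_ne_zero_iff]
    intro i hi
    exact ha i (Finset.mem_filter.1 hi).2
  have hmem : ∀ i, c • w i ∈ Submodule.span R (w '' s) := by
    intro i
    by_cases hi : i ∈ s
    · exact Submodule.smul_mem _ _ (Submodule.subset_span ⟨i, hi, rfl⟩)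
    · have hi' : i ∈ Finset.univ.filter (fun i => i ∉ s) := by simp [hi]
      have : c = (∏ j ∈ (Finset.univ.filter (fun i => i ∉ s)).erase i, a j) * a i := by
        rw [Finset.prod_erase_mul _ _ hi']
      rw [this, mul_smul]
      exact Submodule.smul_mem _ _ (ha' i hi)
  have hall : ∀ m : M, c • m ∈ Submodule.span R (w '' s) := by
    intro m
    have hm : m ∈ Submodule.span R (Set.range w) := by rw [hw]; trivial
    induction hm using Submodule.span_induction with
    | mem x hx =>
      obtain ⟨i, rfl⟩ := hx
      exact hmem i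
    | zero => simp
    | add x y _ _ hx hy => rw [smul_add]; exact Submodule.add_mem _ hx hy
    | smul r x _ hx => rw [smul_comm]; exact Submodule.smul_mem _ _ hx
  -- reindex s by Fin n
  haveI : Fintype s := Fintype.ofFinite s
  let e : Fin (Fintype.card s) ≃ s := (Fintype.equivFin s).symm
  refine ⟨Fintype.card s, fun i => w (e i), c, ?_, hc, ?_⟩
  · have h1 : LinearIndependent R (fun x : s => w x) := hs
    exact h1.comp e e.injective
  · intro m
    have : Set.range (fun i => w (e i)) = w '' s := by
      ext x
      constructor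
      · rintro ⟨i, rfl⟩
        exact ⟨e i, (e i).2, rfl⟩
      · rintro ⟨j, hj, rfl⟩
        exact ⟨e.symm ⟨j, hj⟩, by simp⟩
    rw [this]
    exact hall m

/-- The map `M → Rⁿ` attached to the data above, with its key properties. -/
theorem exists_linearMap_fin_fun (R : Type u) [CommRing R] [IsDomain R] (M : Type u)
    [AddCommGroup M] [Module R M] [Module.Finite R M] :
    ∃ (n : ℕ) (v : Fin n → M) (c : R) (φ : M →ₗ[R] (Fin n → R)), c ≠ 0 ∧
      (∀ m : M, c • m = ∑ i, φ m i • v i) ∧ (∀ m, φ m = 0 → c • m = 0) := by
  classical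
  obtain ⟨n, v, c, hv, hc, hmem⟩ := exists_linearIndependent_smul_mem_span R M
  let b : Basis (Fin n) R (Submodule.span R (Set.range v)) := Basis.span hv
  let μ : M →ₗ[R] Submodule.span R (Set.range v) :=
    LinearMap.codRestrict _ (c • LinearMap.id) (fun m => by simpa using hmem m)
  let φ : M →ₗ[R] (Fin n → R) := (b.equivFun : _ →ₗ[R] (Fin n → R)).comp μ
  have hφ : ∀ m : M, c • m = ∑ i, φ m i • v i := by
    intro m
    have h1 := b.sum_equivFun (μ m)
    have h2 := congrArg (Submodule.subtype _) h1
    simp only [map_sum, map_smul, Submodule.subtype_apply] at h2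
    have h3 : ∀ i, ((b i : Submodule.span R (Set.range v)) : M) = v i := by
      intro i
      simp [b, Basis.span_apply]
    simp only [h3] at h2
    have h4 : ∀ i, φ m i = b.equivFun (μ m) i := fun i => rfl
    simp only [h4]
    rw [h2]
    simp [μ]
  refine ⟨n, v, c, φ, hc, hφ, ?_⟩
  intro m hm
  rw [hφ m, hm]
  simp

end Groth.Agent.Helper3
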