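import Mathlib

/-! Artin–Rees argument for `Hom` complexes out of finite free modules. -/

set_option autoImplicit false
set_option linter.unusedSectionVars false
universe u
open Module

namespace Groth.Agent.Helper3.ARExt

variable {A : Type u} [CommRing A]

/-- A map out of a finite free module with values in `J • ⊤` lies in `J • ⊤`. -/
lemma mem_smul_top_of_values {P N : Type u} [AddCommGroup P] [Module A P] [AddCommGroup N]
    [Module A N] [Module.Finite A P] [Module.Free A P] (J : Ideal A) (f : P →ₗ[A] N)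
    (hf : ∀ p, f p ∈ (J • ⊤ : Submodule A N)) :
    f ∈ (J • ⊤ : Submodule A (P →ₗ[A] N)) := by
  classical
  let b := Module.Free.chooseBasis A P
  have hsum : f = ∑ l, LinearMap.smulRightₗ (b.coord l) (f (b l)) := by
    apply b.ext
    intro l
    rw [LinearMap.sum_apply]
    simp only [LinearMap.smulRightₗ_apply]
    rw [Finset.sum_eq_single l]
    · simp
    · intro l' _ hl'
      simp [hl'.symm]
    · simp
  rw [hsum]
  refine Submodule.sum_mem _ (fun l _ => ?_)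
  have h1 : Submodule.map (LinearMap.smulRightₗ (b.coord l) : N →ₗ[A] (P →ₗ[A] N))
      (J • ⊤ : Submodule A N) ≤ (J • ⊤ : Submodule A (P →ₗ[A] N)) := by
    rw [Submodule.map_smul'']
    exact Submodule.smul_mono le_rfl le_top
  exact h1 (Submodule.mem_map_of_mem (hf (b l)))

/-- Elements of `J • ⊤ ⊆ Hom(P, N)` have values in `J • ⊤`. -/
lemma values_of_mem_smul_top {P N : Type u} [AddCommGroup P] [Module A P] [AddCommGroup N]
    [Module A N] (J : Ideal A) (f : P →ₗ[A] N)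
    (hf : f ∈ (J • ⊤ : Submodule A (P →ₗ[A] N))) (p : P) :
    f p ∈ (J • ⊤ : Submodule A N) := by
  have h1 : Submodule.map (LinearMap.applyₗ p : (P →ₗ[A] N) →ₗ[A] N)
      (J • ⊤ : Submodule A (P →ₗ[A] N)) ≤ (J • ⊤ : Submodule A N) := by
    rw [Submodule.map_smul'']
    exact Submodule.smul_mono le_rfl le_top
  exact h1 (Submodule.mem_map_of_mem hf)

variable [IsNoetherianRing A] (I : Ideal A)
  {P₀ P₁ P₂ M : Type u} [AddCommGroup P₀] [Module A P₀] [AddCommGroup P₁] [Module A P₁]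
  [AddCommGroup P₂] [Module A P₂] [AddCommGroup M] [Module A M]
  [Module.Finite A P₀] [Module.Free A P₀] [Module.Finite A P₁] [Module.Free A P₁]
  [Module.Projective A P₂] [Module.Finite A M]
  (d₀ : P₀ →ₗ[A] P₁) (d₁ : P₁ →ₗ[A] P₂)

/-- uniform torsion bound on the cycles -/
lemma exists_uniform_torsion
    (htors : ∀ f : P₁ →ₗ[A] M, f ∘ₗ d₀ = 0 →
      ∃ n : ℕ, ∀ x ∈ I ^ n, ∃ h : P₂ →ₗ[A] M, x • f = h ∘ₗ d₁) :
    ∃ k : ℕ, ∀ f : P₁ →ₗ[A] M, f ∘ₗ d₀ = 0 → ∀ x ∈ I ^ k, ∃ h : P₂ →ₗ[A] M, x • f = h ∘ₗ d₁ := by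
  classical
  let Z : Submodule A (P₁ →ₗ[A] M) := LinearMap.ker (LinearMap.lcomp A M d₀)
  have hZ : ∀ f : P₁ →ₗ[A] M, f ∈ Z ↔ f ∘ₗ d₀ = 0 := fun f => by
    rw [LinearMap.mem_ker]
    rfl
  have hfg : Z.FG := IsNoetherian.noetherian Z
  obtain ⟨S, hS, hSZ⟩ := Submodule.fg_def.mp hfg
  have hSsub : ∀ s ∈ S, s ∘ₗ d₀ = 0 := fun s hs => (hZ s).mp (hSZ ▸ Submodule.subset_span hs)
  choose! n hn using fun s (hs : s ∈ S) => htors s (hSsub s hs)
  obtain ⟨k, hk⟩ : ∃ k, ∀ s ∈ S, n s ≤ k := by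
    obtain ⟨k, hk⟩ := (hS.image n).bddAbove
    exact ⟨k, fun s hs => hk (Set.mem_image_of_mem n hs)⟩
  refine ⟨k, fun f hf x hx => ?_⟩
  have hfZ : f ∈ Submodule.span A S := hSZ ▸ (hZ f).mpr hf
  clear hf
  induction hfZ using Submodule.span_induction with
  | mem s hs =>
    exact hn s hs x (Ideal.pow_le_pow_right (hk s hs) hx)
  | zero => exact ⟨0, by simp⟩
  | add y z _ _ hy hz =>
    obtain ⟨h1, hh1⟩ := hy
    obtain ⟨h2, hh2⟩ := hz
    exact ⟨h1 + h2, by rw [smul_add, hh1, hh2, LinearMap.add_comp]⟩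
  | smul a y _ hy =>
    obtain ⟨h1, hh1⟩ := hy
    exact ⟨a • h1, by rw [smul_comm, hh1, LinearMap.smul_comp]⟩

/-- Part (1): injectivity modulo a high power of `I`. -/
theorem exists_injective_bound (hd : d₁ ∘ₗ d₀ = 0)
    (htors : ∀ f : P₁ →ₗ[A] M, f ∘ₗ d₀ = 0 →
      ∃ n : ℕ, ∀ x ∈ I ^ n, ∃ h : P₂ →ₗ[A] M, x • f = h ∘ₗ d₁) :
    ∃ m : ℕ, ∀ f : P₁ →ₗ[A] M, f ∘ₗ d₀ = 0 →
      (∃ hbar : P₂ →ₗ[A] M ⧸ (I ^ m • ⊤ : Submodule A M),
        (I ^ m • ⊤ : Submodule A M).mkQ ∘ₗ f = hbar ∘ₗ d₁) →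
      ∃ h : P₂ →ₗ[A] M, f = h ∘ₗ d₁ := by
  classical
  obtain ⟨k, hk⟩ := exists_uniform_torsion I d₀ d₁ htors
  let Z : Submodule A (P₁ →ₗ[A] M) := LinearMap.ker (LinearMap.lcomp A M d₀)
  have hZ : ∀ f : P₁ →ₗ[A] M, f ∈ Z ↔ f ∘ₗ d₀ = 0 := fun f => by
    rw [LinearMap.mem_ker]
    rfl
  obtain ⟨c, hc⟩ := Ideal.exists_pow_inf_eq_pow_smul I Z
  refine ⟨c + k, fun f hf ⟨hbar, hh⟩ => ?_⟩
  obtain ⟨h, hh'⟩ := Module.projective_lifting_property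
    (I ^ (c + k) • ⊤ : Submodule A M).mkQ hbar (Submodule.mkQ_surjective _)
  -- f₁ = f - h ∘ d₁ has values in I^(c+k) M and is a cycle
  have hf₁Z : f - h ∘ₗ d₁ ∈ Z := by
    rw [hZ, LinearMap.sub_comp, hf, LinearMap.comp_assoc, hd, LinearMap.comp_zero, sub_zero]
  have hf₁v : ∀ p, (f - h ∘ₗ d₁) p ∈ (I ^ (c + k) • ⊤ : Submodule A M) := by
    intro p
    rw [← Submodule.Quotient.mk_eq_zero, LinearMap.sub_apply, Submodule.Quotient.mk_sub,
      sub_eq_zero]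
    have h1 := LinearMap.congr_fun hh p
    have h2 := LinearMap.congr_fun hh' (d₁ p)
    simp only [LinearMap.comp_apply, Submodule.mkQ_apply] at h1 h2
    rw [h1, ← h2]
    rfl
  have hmem : f - h ∘ₗ d₁ ∈ (I ^ (c + k) • ⊤ : Submodule A (P₁ →ₗ[A] M)) ⊓ Z :=
    ⟨mem_smul_top_of_values _ _ hf₁v, hf₁Z⟩
  rw [hc (c + k) (by omega), Nat.add_sub_cancel_left] at hmem
  -- so f₁ ∈ I^k • Z ⊆ B
  have hB : ∀ g ∈ (I ^ k • (I ^ c • ⊤ ⊓ Z) : Submodule A (P₁ →ₗ[A] M)),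
      ∃ h' : P₂ →ₗ[A] M, g = h' ∘ₗ d₁ := by
    intro g hg
    refine Submodule.smul_induction_on hg ?_ ?_
    · intro x hx z hz
      exact hk z ((hZ z).mp hz.2) x hx
    · rintro y z ⟨h1, hh1⟩ ⟨h2, hh2⟩
      exact ⟨h1 + h2, by rw [hh1, hh2, LinearMap.add_comp]⟩
  obtain ⟨h', hh''⟩ := hB _ hmem
  exact ⟨h' + h, by rw [LinearMap.add_comp, ← hh'']; abel⟩

/-- Part (2): Mittag-Leffler type statement. -/
theorem exists_lift_bound (n : ℕ) :
    ∃ m' : ℕ, n ≤ m' ∧ ∀ fbar : P₁ →ₗ[A] M ⧸ (I ^ m' • ⊤ : Submodule A M), fbar ∘ₗ d₀ = 0 →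
      ∃ f g : P₁ →ₗ[A] M, (I ^ m' • ⊤ : Submodule A M).mkQ ∘ₗ f = fbar ∧ g ∘ₗ d₀ = 0 ∧
        ∀ p, f p - g p ∈ (I ^ n • ⊤ : Submodule A M) := by
  classical
  let δ : (P₁ →ₗ[A] M) →ₗ[A] (P₀ →ₗ[A] M) := LinearMap.lcomp A M d₀
  let R : Submodule A (P₀ →ₗ[A] M) := LinearMap.range δ
  obtain ⟨c, hc⟩ := Ideal.exists_pow_inf_eq_pow_smul I R
  refine ⟨n + c, by omega, fun fbar hfbar => ?_⟩
  obtain ⟨f, hf⟩ := Module.projective_lifting_property
    (I ^ (n + c) • ⊤ : Submodule A M).mkQ fbar (Submodule.mkQ_surjective _)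
  have hv : ∀ p, (δ f) p ∈ (I ^ (n + c) • ⊤ : Submodule A M) := by
    intro p
    rw [← Submodule.Quotient.mk_eq_zero]
    have h1 := LinearMap.congr_fun hf (d₀ p)
    have h2 := LinearMap.congr_fun hfbar p
    simp only [LinearMap.comp_apply, Submodule.mkQ_apply, LinearMap.zero_apply] at h1 h2
    rw [← h2, ← h1]
    rfl
  have hmem : δ f ∈ (I ^ (n + c) • ⊤ : Submodule A (P₀ →ₗ[A] M)) ⊓ R :=
    ⟨mem_smul_top_of_values _ _ hv, LinearMap.mem_range_self δ f⟩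
  rw [hc (n + c) (by omega), Nat.add_sub_cancel] at hmem
  have hle : (I ^ n • (I ^ c • ⊤ ⊓ R) : Submodule A (P₀ →ₗ[A] M)) ≤
      Submodule.map δ (I ^ n • ⊤ : Submodule A (P₁ →ₗ[A] M)) := by
    rw [Submodule.map_smul'', Submodule.map_top]
    exact Submodule.smul_mono le_rfl inf_le_right
  obtain ⟨z, hz, hzf⟩ := hle hmem
  refine ⟨f, f - z, hf, ?_, fun p => ?_⟩
  · change δ (f - z) = 0
    rw [map_sub, hzf, sub_self]
  · rw [LinearMap.sub_apply, sub_sub_cancel]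
    exact values_of_mem_smul_top _ z hz p

end Groth.Agent.Helper3.ARExt
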