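import Mathlib
import Groth.Prelude
import Groth.Agent.Lead.FEtEq

set_option autoImplicit false
set_option linter.style.haveILetI false
set_option linter.unusedSectionVars false
set_option linter.unusedVariables false
set_option linter.deprecated false
set_option linter.style.haveILetI false
set_option linter.unusedSectionVars false
set_option linter.unusedVariables false

universe u
open CategoryTheory CategoryTheory.Limits AlgebraicGeometry IsLocalRing

namespace Groth.Agent.Helper3.AbGalA

section pts

variable {K Ω : Type u} [Field K] [IsAlgClosed K] [Field Ω] {X : Scheme.{u}}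
  (f : X ⟶ Spec (CommRingCat.of K)) [LocallyOfFiniteType f]

lemma aux (x : X) (hx : IsClosed {x}) (φ : X.residueField x ⟶ CommRingCat.of Ω) :
    (Spec.map φ ≫ X.fromSpecResidueField x) ≫ f ≫ pointOfClosedPoint f x hx =
      Spec.map φ ≫ X.fromSpecResidueField x := by
  unfold pointOfClosedPoint
  rw [Category.assoc, ← Category.assoc (X.fromSpecResidueField x) f,
    ← SpecMap_residueFieldIsoBase_inv f x hx, ← Category.assoc (Spec.map _) (Spec.map _),
    Category.assoc (Spec.map φ), ← Category.assoc (Spec.map (residueFieldIsoBase f x hx).inv),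
    ← Spec.map_comp, Iso.hom_inv_id, Spec.map_id, Category.id_comp]

/-- a field-valued point with closed image factors through the corresponding rational point -/
lemma field_pt_eq (u : Spec (CommRingCat.of Ω) ⟶ X) (hx : IsClosed {u (closedPoint Ω)}) :
    u = (u ≫ f) ≫ pointOfClosedPoint f (u (closedPoint Ω)) hx := by
  have h1 := Scheme.descResidueField_stalkClosedPointTo_fromSpecResidueField Ω X u
  have h2 := aux f (u (closedPoint Ω)) hx (X.descResidueField (Scheme.stalkClosedPointTo u))
  rw [h1, ← Category.assoc] at h2
  exact h2.symm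

lemma field_pt_ext (u v : Spec (CommRingCat.of Ω) ⟶ X) (hx : IsClosed {u (closedPoint Ω)})
    (huv : u (closedPoint Ω) = v (closedPoint Ω)) (h : u ≫ f = v ≫ f) : u = v := by
  have hx' : IsClosed {v (closedPoint Ω)} := huv ▸ hx
  rw [field_pt_eq f u hx, field_pt_eq f v hx', h]
  congr 1
  congr 1

/-- rational points are determined by their values on field-valued points -/
lemma rat_pt_ext (a b : Spec (CommRingCat.of K) ⟶ X) (ha : a ≫ f = 𝟙 _) (hb : b ≫ f = 𝟙 _)
    (t : Spec (CommRingCat.of Ω) ⟶ Spec (CommRingCat.of K)) (h : t ≫ a = t ≫ b) : a = b := by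
  apply ext_of_apply_closedPoint_eq f ha hb
  have h1 : t (closedPoint Ω) = closedPoint K := Subsingleton.elim _ _
  have h2 := congrArg (fun g : Spec (CommRingCat.of Ω) ⟶ X => g (closedPoint Ω)) h
  simp only [Scheme.Hom.comp_apply] at h2
  rw [h1] at h2
  exact h2

end pts

section eq

/-- two lifts through a separated unramified morphism of a morphism from a connected scheme which
agree at one point agree. -/
theorem eq_of_comp_eq {S X Y T : Scheme.{u}} (p : Y ⟶ S) [IsSeparated p] [FormallyUnramified p]
    [LocallyOfFiniteType p] [ConnectedSpace X] (f g : X ⟶ Y) (h : f ≫ p = g ≫ p) [Nonempty T]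
    (x : T ⟶ X) (hx : x ≫ f = x ≫ g) : f = g := by
  let X' : Over S := Over.mk (f ≫ p)
  let Y' : Over S := Over.mk p
  let f' : X' ⟶ Y' := Over.homMk f rfl
  let g' : X' ⟶ Y' := Over.homMk g h.symm
  have : IsSeparated Y'.hom := inferInstanceAs (IsSeparated p)
  have : FormallyUnramified Y'.hom := inferInstanceAs (FormallyUnramified p)
  have : LocallyOfFiniteType Y'.hom := inferInstanceAs (LocallyOfFiniteType p)
  have hcl : IsClosedImmersion (equalizer.ι f' g').left := inferInstance
  have hop : IsOpenImmersion (equalizer.ι f' g').left :=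
    Groth.Agent.Lead.FEtEq.isOpenImmersion_equalizer_ι_left f' g'
  let T' : Over S := Over.mk (x ≫ f ≫ p)
  let x' : T' ⟶ X' := Over.homMk x rfl
  have hx' : x' ≫ f' = x' ≫ g' := by
    apply Over.OverMorphism.ext
    exact hx
  have hne : (Set.range (equalizer.ι f' g').left).Nonempty := by
    obtain ⟨t⟩ := ‹Nonempty T›
    exact ⟨_, ⟨(equalizer.lift x' hx').left t, rfl⟩⟩
  have hclopen : IsClopen (Set.range (equalizer.ι f' g').left) :=
    ⟨(Scheme.Hom.isClosedEmbedding _).isClosed_range, hop.base_open.isOpen_range⟩
  haveI : ConnectedSpace X'.left := ‹ConnectedSpace X›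
  have hE : Set.range (equalizer.ι f' g').left = Set.univ := by
    rcases isClopen_iff.mp hclopen with h0 | h0
    · rw [h0] at hne
      exact absurd hne Set.not_nonempty_empty
    · exact h0
  have hiso : IsIso (equalizer.ι f' g').left :=
    isIso_of_isOpenImmersion_of_opensRange_eq_top _ (TopologicalSpace.Opens.ext hE)
  have hiso'' : IsIso ((Over.forget S).map (equalizer.ι f' g')) := hiso
  have hiso' : IsIso (equalizer.ι f' g') :=
    isIso_of_reflects_iso (equalizer.ι f' g') (Over.forget S)
  have hfg : f' = g' := by
    rw [← cancel_epi (equalizer.ι f' g')]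
    exact equalizer.condition f' g'
  exact congrArg (fun t => t.left) hfg

end eq

end Groth.Agent.Helper3.AbGalA
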