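import Mathlib

set_option autoImplicit false
set_option linter.style.haveILetI false
set_option linter.unusedSectionVars false
set_option linter.unusedVariables false
set_option linter.deprecated false
set_option linter.style.haveILetI false
set_option linter.unusedSectionVars false
set_option linter.unusedVariables false

open TopologicalSpace

namespace Groth.Agent.Helper3.NoethConn

variable {α : Type*} [TopologicalSpace α]

/-- a Noetherian space has finitely many connected components -/
theorem finite_connectedComponents [NoetherianSpace α] : Finite (ConnectedComponents α) := by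
  haveI : Finite ↥(irreducibleComponents α) :=
    (NoetherianSpace.finite_irreducibleComponents (α := α)).to_subtype
  have hne : ∀ Z : ↥(irreducibleComponents α), (Z.1 : Set α).Nonempty := fun Z =>
    (Z.2.1 : IsIrreducible Z.1).nonempty
  choose pt hpt using hne
  refine Finite.of_surjective (fun Z : ↥(irreducibleComponents α) => ConnectedComponents.mk (pt Z)) ?_
  intro c
  obtain ⟨x, rfl⟩ := ConnectedComponents.surjective_coe c
  refine ⟨⟨irreducibleComponent x, irreducibleComponent_mem_irreducibleComponents x⟩, ?_⟩
  rw [ConnectedComponents.coe_eq_coe']
  have hpre : IsPreconnected (irreducibleComponent x) :=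
    (isIrreducible_irreducibleComponent (x := x)).isConnected.isPreconnected
  exact hpre.subset_connectedComponent mem_irreducibleComponent
    (hpt ⟨irreducibleComponent x, irreducibleComponent_mem_irreducibleComponents x⟩)

/-- connected components of a Noetherian space are open -/
theorem isOpen_connectedComponent [NoetherianSpace α] (x : α) : IsOpen (connectedComponent x) := by
  haveI := finite_connectedComponents (α := α)
  rw [← isClosed_compl_iff]
  have h1 : (connectedComponent x)ᶜ =
      ⋃ c : {c : ConnectedComponents α // c ≠ ConnectedComponents.mk x},
        ConnectedComponents.mk ⁻¹' {c.1} := by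
    ext y
    simp only [Set.mem_compl_iff, Set.mem_iUnion, Set.mem_preimage, Set.mem_singleton_iff,
      Subtype.exists, exists_prop]
    constructor
    · intro h
      refine ⟨ConnectedComponents.mk y, ?_, rfl⟩
      intro h2
      exact h (ConnectedComponents.coe_eq_coe'.mp h2)
    · rintro ⟨c, hc, rfl⟩ h
      exact hc (ConnectedComponents.coe_eq_coe'.mpr h)
  rw [h1]
  refine isClosed_iUnion_of_finite (fun c => ?_)
  obtain ⟨y, hy⟩ := ConnectedComponents.surjective_coe c.1
  rw [← hy, connectedComponents_preimage_singleton]
  exact isClosed_connectedComponent

/-- connected components in a subset of a Noetherian space are relatively open -/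
theorem exists_isOpen_inter_eq_connectedComponentIn [NoetherianSpace α] (F : Set α) (z : α)
    (hz : z ∈ F) : ∃ O : Set α, IsOpen O ∧ O ∩ F = connectedComponentIn F z := by
  have h1 := isOpen_connectedComponent (⟨z, hz⟩ : F)
  obtain ⟨O, hO, hOeq⟩ := isOpen_induced_iff.mp h1
  refine ⟨O, hO, ?_⟩
  rw [connectedComponentIn_eq_image hz, ← hOeq]
  ext y
  simp only [Set.mem_inter_iff, Set.mem_image, Set.mem_preimage, Subtype.exists, exists_and_right,
    exists_eq_right]
  constructor
  · rintro ⟨h2, h3⟩
    exact ⟨h3, h2⟩
  · rintro ⟨h3, h2⟩
    exact ⟨h2, h3⟩

/-- the set of connected components in a subset of a Noetherian space is finite -/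
theorem finite_range_connectedComponentIn [NoetherianSpace α] (F : Set α) :
    (Set.range (fun z : F => connectedComponentIn F z.1)).Finite := by
  haveI := finite_connectedComponents (α := F)
  have : Set.range (fun z : F => connectedComponentIn F z.1) ⊆
      Set.range (fun c : ConnectedComponents F => Subtype.val '' (ConnectedComponents.mk ⁻¹' {c})) := by
    rintro _ ⟨z, rfl⟩
    refine ⟨ConnectedComponents.mk z, ?_⟩
    show Subtype.val '' (ConnectedComponents.mk ⁻¹' {ConnectedComponents.mk z}) =
      connectedComponentIn F z.1
    rw [connectedComponents_preimage_singleton, connectedComponentIn_eq_image z.2]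
  exact (Set.finite_range _).subset this

/-- a continuous self-map preserving `F` maps connected components in `F` into connected
components in `F` -/
theorem map_mem_connectedComponentIn {F : Set α} (f : α → α) (hf : Continuous f)
    (hF : ∀ a ∈ F, f a ∈ F) {x y : α} (hy : y ∈ F) (hx : x ∈ connectedComponentIn F y) :
    f x ∈ connectedComponentIn F (f y) := by
  have h1 : IsPreconnected (f '' connectedComponentIn F y) :=
    isPreconnected_connectedComponentIn.image f hf.continuousOn
  have h2 : f '' connectedComponentIn F y ⊆ F := by
    rintro _ ⟨a, ha, rfl⟩
    exact hF a (connectedComponentIn_subset F y ha)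
  have h3 : f y ∈ f '' connectedComponentIn F y := ⟨y, mem_connectedComponentIn hy, rfl⟩
  exact h1.subset_connectedComponentIn h3 h2 ⟨x, hx, rfl⟩

end Groth.Agent.Helper3.NoethConn
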