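import Mathlib
import Groth.Agent.Helper3.HensEtale
import Groth.Agent.Helper3.HensSection

open TensorProduct

universe u

namespace Groth.Agent.Helper3.SmoothLift

/-- Lifting sections of smooth algebras over a henselian local ring. -/
theorem smooth_lift_local (A : Type u) [CommRing A] [HenselianLocalRing A]
    (C : Type u) [CommRing C] [Algebra A C] [Algebra.FinitePresentation A C]
    (σ : C →ₐ[A] A ⧸ IsLocalRing.maximalIdeal A)
    (hsm : ∀ (q : Ideal C) [q.IsPrime], q = RingHom.ker σ.toRingHom → Algebra.IsSmoothAt A q) :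
    ∃ τ : C →ₐ[A] A, (Ideal.Quotient.mkₐ A (IsLocalRing.maximalIdeal A)).comp τ = σ := by
  haveI : (RingHom.ker σ.toRingHom).IsPrime := RingHom.ker_isPrime _
  haveI := hsm (RingHom.ker σ.toRingHom) rfl
  obtain ⟨f, hfq, n, alg, tower, hstd⟩ :=
    Algebra.IsSmoothAt.exists_isStandardEtale_mvPolynomial (R := A) (p := RingHom.ker σ.toRingHom)
  have hσf : IsUnit (σ f) := by
    obtain ⟨a0, ha0⟩ := Ideal.Quotient.mk_surjective (σ f)
    have h0 : a0 ∉ IsLocalRing.maximalIdeal A := by
      intro h
      apply hfq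
      rw [RingHom.mem_ker]
      show σ f = 0
      rw [← ha0, Ideal.Quotient.eq_zero_iff_mem]
      exact h
    rw [← ha0]
    exact (IsLocalRing.notMem_maximalIdeal.mp h0).map _
  let σf : Localization.Away f →ₐ[A] A ⧸ (IsLocalRing.maximalIdeal A) := IsLocalization.Away.liftAlgHom f hσf
  have hσf' : ∀ c : C, σf (algebraMap C (Localization.Away f) c) = σ c :=
    fun c => IsLocalization.Away.lift_eq f hσf c
  choose a ha using fun i : Fin n => Ideal.Quotient.mk_surjective
    (σf (algebraMap (MvPolynomial (Fin n) A) (Localization.Away f) (MvPolynomial.X i)))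
  let ev : MvPolynomial (Fin n) A →ₐ[A] A := MvPolynomial.aeval a
  letI algPA : Algebra (MvPolynomial (Fin n) A) A := ev.toRingHom.toAlgebra
  haveI : IsScalarTower A (MvPolynomial (Fin n) A) A :=
    .of_algebraMap_eq' (by ext r; exact (ev.commutes r).symm)
  letI algPk : Algebra (MvPolynomial (Fin n) A) (A ⧸ (IsLocalRing.maximalIdeal A)) :=
    ((Ideal.Quotient.mk (IsLocalRing.maximalIdeal A)).comp ev.toRingHom).toAlgebra
  haveI := IsScalarTower.of_algebraMap_eq' (R := MvPolynomial (Fin n) A) (S := A)
    (A := A ⧸ (IsLocalRing.maximalIdeal A)) rfl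
  -- `σf` is a map of algebras over the polynomial ring
  have hcompat : ∀ x : MvPolynomial (Fin n) A,
      σf (algebraMap _ (Localization.Away f) x) = Ideal.Quotient.mk (IsLocalRing.maximalIdeal A) (ev x) := by
    intro x
    have h1 : (σf.comp (IsScalarTower.toAlgHom A (MvPolynomial (Fin n) A) (Localization.Away f))) =
        (Ideal.Quotient.mkₐ A (IsLocalRing.maximalIdeal A)).comp ev := by
      apply MvPolynomial.algHom_ext
      intro i
      simp only [AlgHom.comp_apply, IsScalarTower.coe_toAlgHom', Ideal.Quotient.mkₐ_eq_mk]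
      rw [← ha i]
      congr 1
      exact (MvPolynomial.aeval_X a i).symm
    exact congr($h1 x)
  let g : Localization.Away f →ₐ[MvPolynomial (Fin n) A] A ⧸ (IsLocalRing.maximalIdeal A) :=
    { σf.toRingHom with commutes' := hcompat }
  let σE : A ⊗[MvPolynomial (Fin n) A] Localization.Away f →ₐ[A] A ⧸ (IsLocalRing.maximalIdeal A) :=
    Algebra.TensorProduct.lift (R := MvPolynomial (Fin n) A) (S := A) (A := A)
      (B := Localization.Away f) (C := A ⧸ (IsLocalRing.maximalIdeal A))
      (Algebra.ofId A (A ⧸ (IsLocalRing.maximalIdeal A))) g (fun _ _ => Commute.all _ _)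
  haveI : Algebra.Etale (MvPolynomial (Fin n) A) (Localization.Away f) := inferInstance
  haveI : Algebra.Etale A (A ⊗[MvPolynomial (Fin n) A] Localization.Away f) := inferInstance
  obtain ⟨τE, hτE⟩ := HensEtale.etale_lift (IsLocalRing.maximalIdeal A) _ σE
  let τr : C →+* A := τE.toRingHom.comp
    ((Algebra.TensorProduct.includeRight :
        Localization.Away f →ₐ[MvPolynomial (Fin n) A] _).toRingHom.comp
      (algebraMap C (Localization.Away f)))
  have hτr : ∀ c : C, τr c = τE ((1 : A) ⊗ₜ algebraMap C (Localization.Away f) c) := fun c => rfl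
  let τ : C →ₐ[A] A :=
    { τr with
      commutes' := fun r => by
        show τr (algebraMap A C r) = algebraMap A A r
        rw [hτr, ← IsScalarTower.algebraMap_apply A C (Localization.Away f),
          IsScalarTower.algebraMap_apply A (MvPolynomial (Fin n) A) (Localization.Away f)]
        have : ((1 : A) ⊗ₜ[MvPolynomial (Fin n) A]
            algebraMap (MvPolynomial (Fin n) A) (Localization.Away f)
              (algebraMap A (MvPolynomial (Fin n) A) r)) =
            algebraMap A (A ⊗[MvPolynomial (Fin n) A] Localization.Away f) r := by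
          rw [Algebra.algebraMap_eq_smul_one, ← TensorProduct.smul_tmul,
            Algebra.TensorProduct.algebraMap_apply]
          congr 1
          show ev (MvPolynomial.C r) • (1 : A) = algebraMap A A r
          simp [ev]
        rw [this, τE.commutes] }
  refine ⟨τ, ?_⟩
  ext c
  show Ideal.Quotient.mk (IsLocalRing.maximalIdeal A) (τr c) = σ c
  rw [hτr]
  have := congr($hτE ((1 : A) ⊗ₜ algebraMap C (Localization.Away f) c))
  simp only [AlgHom.comp_apply, Ideal.Quotient.mkₐ_eq_mk] at this
  rw [this]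
  show σE ((1 : A) ⊗ₜ algebraMap C (Localization.Away f) c) = σ c
  simp only [σE]
  rw [Algebra.TensorProduct.lift_tmul, map_one, one_mul]
  exact hσf' c

end Groth.Agent.Helper3.SmoothLift

namespace Groth.Agent.Helper3.SmoothLift

open AlgebraicGeometry CategoryTheory Limits

theorem exists_section (A : Type u) [CommRing A] [HenselianLocalRing A]
    {X : Scheme.{u}} (f : X ⟶ Spec (CommRingCat.of A)) [Smooth f]
    (u₀ : Spec (CommRingCat.of (IsLocalRing.ResidueField A)) ⟶ X)
    (h₀ : u₀ ≫ f = Spec.map (CommRingCat.ofHom (IsLocalRing.residue A))) :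
    ∃ u : Spec (CommRingCat.of A) ⟶ X, u ≫ f = 𝟙 _ ∧
      Spec.map (CommRingCat.ofHom (IsLocalRing.residue A)) ≫ u = u₀ := by
  set k := IsLocalRing.ResidueField A with hk
  set x := u₀.base (IsLocalRing.closedPoint k) with hx
  obtain ⟨_, ⟨V, hV, rfl⟩, hxV, -⟩ := X.isBasis_affineOpens.exists_subset_of_mem_open
    (Set.mem_univ x) isOpen_univ
  set j := hV.fromSpec with hj
  haveI hjo : IsOpenImmersion j := hV.isOpenImmersion_fromSpec
  obtain ⟨ψ, hψ⟩ := Spec.map_surjective (j ≫ f)
  have hψsm : ψ.hom.Smooth := by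
    have : Smooth (Spec.map ψ) := by rw [hψ]; infer_instance
    exact HasRingHomProperty.Spec_iff.mp this
  letI : Algebra A Γ(X, V) := ψ.hom.toAlgebra
  haveI : Algebra.Smooth A Γ(X, V) := RingHom.smooth_algebraMap.mp hψsm
  obtain ⟨αt, hαt⟩ := HensSection.exists_factor hV k u₀ hxV
  have hαt' : ψ ≫ αt = CommRingCat.ofHom (IsLocalRing.residue A) := by
    apply Spec.map_injective
    rw [Spec.map_comp, hψ, ← Category.assoc, hαt, h₀]
  let σ : Γ(X, V) →ₐ[A] A ⧸ IsLocalRing.maximalIdeal A :=
    { αt.hom with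
      commutes' := fun r => by
        have := congr($(hαt').hom r)
        exact this }
  obtain ⟨τ, hτ⟩ := smooth_lift_local A Γ(X, V) σ (fun q _ _ => inferInstance)
  have hτψ : ψ ≫ CommRingCat.ofHom (τ : Γ(X, V) →+* A) = 𝟙 _ := by
    ext r
    exact τ.commutes r
  have hτres : CommRingCat.ofHom (τ : Γ(X, V) →+* A) ≫
      CommRingCat.ofHom (IsLocalRing.residue A) = αt := by
    ext c
    exact congr($hτ c)
  refine ⟨Spec.map (CommRingCat.ofHom (τ : Γ(X, V) →+* A)) ≫ j, ?_, ?_⟩
  · rw [Category.assoc, ← hψ, ← Spec.map_comp, hτψ, Spec.map_id]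
  · rw [← Category.assoc, ← Spec.map_comp, hτres, hαt]

end Groth.Agent.Helper3.SmoothLift
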