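import Mathlib
import Groth.Prelude
import Groth.Agent.Helper3.NoethConn
import Groth.Agent.Helper3.SmoothLift
import Groth.Agent.Helper3.SepClosedEq
import Groth.Agent.Helper2.SmoothRegSch

set_option autoImplicit false
set_option linter.style.haveILetI false
set_option linter.unusedSectionVars false
set_option linter.unusedVariables false
set_option linter.deprecated false
set_option linter.style.haveILetI false
set_option linter.unusedSectionVars false
set_option linter.unusedVariables false

universe u
open CategoryTheory CategoryTheory.Limits MonoidalCategory CartesianMonoidalCategory MonObj GrpObj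
  AlgebraicGeometry IsLocalRing

namespace Groth.Agent.Helper3.CompGrpA

section Transl

variable {C : Type*} [Category C] [CartesianMonoidalCategory C] {G : C} [GrpObj G]

/-- right translation by a point -/
def Rt (g : 𝟙_ C ⟶ G) : G ⟶ G := 𝟙 G * (toUnit G ≫ g)

lemma comp_Rt {X : C} (x : X ⟶ G) (g : 𝟙_ C ⟶ G) : x ≫ Rt g = x * (toUnit X ≫ g) := by
  unfold Rt
  rw [MonObj.comp_mul, Category.comp_id, ← Category.assoc]
  congr 2
  exact toUnit_unique _ _

lemma Rt_comp (g h : 𝟙_ C ⟶ G) : Rt g ≫ Rt h = Rt (g * h) := by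
  rw [comp_Rt]
  unfold Rt
  rw [_root_.mul_assoc, ← MonObj.comp_mul]

lemma Rt_one : Rt (1 : 𝟙_ C ⟶ G) = 𝟙 G := by
  unfold Rt
  rw [MonObj.comp_one, _root_.mul_one]

/-- right translation as an isomorphism -/
def RtIso (g : 𝟙_ C ⟶ G) : G ≅ G where
  hom := Rt g
  inv := Rt g⁻¹
  hom_inv_id := by rw [Rt_comp, mul_inv_cancel, Rt_one]
  inv_hom_id := by rw [Rt_comp, inv_mul_cancel, Rt_one]

lemma point_comp_Rt (x g : 𝟙_ C ⟶ G) : x ≫ Rt g = x * g := by
  rw [comp_Rt]
  congr 1
  have : toUnit (𝟙_ C) = 𝟙 _ := toUnit_unique _ _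
  rw [this, Category.id_comp]

end Transl

section main

variable (R : Type u) [CommRing R] [IsLocalRing R] (N : Over (Spec (CommRingCat.of R)))

/-- the value of a section at the closed point lies in the special fibre -/
lemma sec_mem (x : 𝟙_ (Over (Spec (CommRingCat.of R))) ⟶ N) :
    x.left.base (closedPoint R) ∈ SGA7.specialFibreSet R N := by
  show N.hom.base (x.left.base (closedPoint R)) = closedPoint R
  have h1 : x.left ≫ N.hom = 𝟙 _ := Over.w x
  rw [← Scheme.Hom.comp_apply, h1]
  rfl

theorem finite_range_secComp [TopologicalSpace.NoetherianSpace N.left] :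
    (Set.range (SGA7.secComp R N)).Finite := by
  have h1 := NoethConn.finite_range_connectedComponentIn (SGA7.specialFibreSet R N)
  refine h1.subset ?_
  rintro _ ⟨x, rfl⟩
  exact ⟨⟨_, sec_mem R N x⟩, rfl⟩

theorem secComp_eq_iff (x y : 𝟙_ (Over (Spec (CommRingCat.of R))) ⟶ N) :
    SGA7.secComp R N x = SGA7.secComp R N y ↔
      x.left.base (closedPoint R) ∈
        connectedComponentIn (SGA7.specialFibreSet R N) (y.left.base (closedPoint R)) := by
  constructor
  · intro h
    have : x.left.base (closedPoint R) ∈ SGA7.secComp R N x :=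
      mem_connectedComponentIn (sec_mem R N x)
    rw [h] at this
    exact this
  · intro h
    exact (connectedComponentIn_eq h).symm

variable [GrpObj N]

/-- translation by a section preserves the special fibre -/
lemma Rt_mem (g : 𝟙_ (Over (Spec (CommRingCat.of R))) ⟶ N) (a : N.left)
    (ha : a ∈ SGA7.specialFibreSet R N) : (Rt g).left.base a ∈ SGA7.specialFibreSet R N := by
  show N.hom.base ((Rt g).left.base a) = closedPoint R
  have h1 : (Rt g).left ≫ N.hom = N.hom := Over.w (Rt g)
  rw [← Scheme.Hom.comp_apply, h1]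
  exact ha

lemma one_eq : (1 : 𝟙_ (Over (Spec (CommRingCat.of R))) ⟶ N) = η[N] := by
  rw [Hom.one_def]
  have : toUnit (𝟙_ (Over (Spec (CommRingCat.of R)))) = 𝟙 _ := toUnit_unique _ _
  rw [this, Category.id_comp]

theorem secComp_eq_iff_mul_inv (x y : 𝟙_ (Over (Spec (CommRingCat.of R))) ⟶ N) :
    SGA7.secComp R N x = SGA7.secComp R N y ↔ x * y⁻¹ ∈ SGA7.secUnitComp R N := by
  rw [secComp_eq_iff]
  have hpt : ∀ (x g : 𝟙_ (Over (Spec (CommRingCat.of R))) ⟶ N),
      (Rt g).left.base (x.left.base (closedPoint R)) = (x * g).left.base (closedPoint R) := by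
    intro x g
    rw [← point_comp_Rt, Over.comp_left, Scheme.Hom.comp_apply]
  show _ ↔ (x * y⁻¹).left.base (closedPoint R) ∈
    connectedComponentIn (SGA7.specialFibreSet R N) (η[N].left.base (closedPoint R))
  constructor
  · intro h
    have h1 := NoethConn.map_mem_connectedComponentIn (F := SGA7.specialFibreSet R N)
      (fun a => (Rt y⁻¹).left.base a) (Rt y⁻¹).left.continuous (Rt_mem R N y⁻¹) (sec_mem R N y) h
    simp only [hpt] at h1
    rw [mul_inv_cancel, one_eq] at h1
    exact h1
  · intro h
    have hη : η[N].left.base (closedPoint R) ∈ SGA7.specialFibreSet R N := sec_mem R N η[N]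
    have h1 := NoethConn.map_mem_connectedComponentIn (F := SGA7.specialFibreSet R N)
      (fun a => (Rt y).left.base a) (Rt y).left.continuous (Rt_mem R N y) hη h
    simp only [hpt] at h1
    rw [inv_mul_cancel_right, ← one_eq, _root_.one_mul] at h1
    exact h1

end main


section hens

variable (R : Type u) [CommRing R] [IsLocalRing R] (N : Over (Spec (CommRingCat.of R)))

set_option maxHeartbeats 16000000 in
theorem exists_section_through_comp [HenselianLocalRing R] [IsSepClosed (ResidueField R)]
    [TopologicalSpace.NoetherianSpace N.left] [Smooth N.hom] (z : N.left)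
    (hz : z ∈ SGA7.specialFibreSet R N) :
    ∃ x : 𝟙_ (Over (Spec (CommRingCat.of R))) ⟶ N, z ∈ SGA7.secComp R N x := by
  obtain ⟨O, hO, hOF⟩ := NoethConn.exists_isOpen_inter_eq_connectedComponentIn
    (SGA7.specialFibreSet R N) z hz
  let q : Spec (CommRingCat.of (ResidueField R)) ⟶ Spec (CommRingCat.of R) :=
    Spec.map (CommRingCat.ofHom (residue R))
  have hq : q (closedPoint (ResidueField R)) = closedPoint R := by
    haveI : IsLocalHom (CommRingCat.ofHom (residue R)).hom :=
      inferInstanceAs (IsLocalHom (residue R))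
    exact Spec_closedPoint (f := CommRingCat.ofHom (residue R))
  let Ok : (pullback N.hom q).Opens := (pullback.fst N.hom q) ⁻¹ᵁ ⟨O, hO⟩
  have hne : (Ok : Set ↥(pullback N.hom q)).Nonempty := by
    obtain ⟨w, hw1, hw2⟩ := Scheme.Pullback.exists_preimage_pullback (f := N.hom) (g := q) z
      (closedPoint (ResidueField R)) (by rw [hq]; exact hz)
    refine ⟨w, ?_⟩
    show pullback.fst N.hom q w ∈ O
    rw [hw1]
    have : z ∈ O ∩ SGA7.specialFibreSet R N := by
      rw [hOF]
      exact mem_connectedComponentIn hz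
    exact this.1
  haveI : Smooth (pullback.snd N.hom q) := inferInstance
  haveI := Groth.Agent.Helper2.SmoothRegSch.geometricallyReduced_of_smooth (ResidueField R) _
    (pullback.snd N.hom q)
  obtain ⟨y, hy1, hy2⟩ := Groth.Agent.Helper3.SepClosedEq.exists_point_mem (ResidueField R)
    (ResidueField R) (pullback.snd N.hom q) Ok hne
  have hid : Spec.map (CommRingCat.ofHom (algebraMap (ResidueField R) (ResidueField R))) =
      𝟙 (Spec (CommRingCat.of (ResidueField R))) := by
    rw [← Spec.map_id]
    rfl
  rw [hid] at hy1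
  let u₀ : Spec (CommRingCat.of (ResidueField R)) ⟶ N.left := y ≫ pullback.fst N.hom q
  have h₀ : u₀ ≫ N.hom = Spec.map (CommRingCat.ofHom (residue R)) := by
    show (y ≫ pullback.fst N.hom q) ≫ N.hom = q
    rw [Category.assoc, pullback.condition, ← Category.assoc, hy1, Category.id_comp]
  obtain ⟨u, hu1, hu2⟩ := Groth.Agent.Helper3.SmoothLift.exists_section R N.hom u₀ h₀
  let x : 𝟙_ (Over (Spec (CommRingCat.of R))) ⟶ N := Over.homMk u hu1
  refine ⟨x, ?_⟩
  have hxs : x.left.base (closedPoint R) = u₀.base (closedPoint (ResidueField R)) := by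
    show u.base (closedPoint R) = _
    rw [← hu2, Scheme.Hom.comp_apply]
    congr 1
    exact hq.symm
  have hxO : x.left.base (closedPoint R) ∈ O ∩ SGA7.specialFibreSet R N := by
    refine ⟨?_, sec_mem R N x⟩
    rw [hxs]
    exact hy2
  rw [hOF] at hxO
  show z ∈ connectedComponentIn (SGA7.specialFibreSet R N) (x.left.base (closedPoint R))
  rw [← connectedComponentIn_eq hxO]
  exact mem_connectedComponentIn hz

end hens

end Groth.Agent.Helper3.CompGrpA
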