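import Mathlib
import Groth.Prelude
import Groth.Agent.Helper3.AbGalA
import Groth.Agent.Helper3.CompGrpA

set_option autoImplicit false
set_option linter.style.haveILetI false
set_option linter.unusedSectionVars false
set_option linter.unusedVariables false
set_option linter.deprecated false
set_option linter.style.haveILetI false
set_option linter.unusedSectionVars false
set_option linter.unusedVariables false

universe u
open CategoryTheory CategoryTheory.Limits MonoidalCategory CartesianMonoidalCategory MonObj GrpObj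
  AlgebraicGeometry IsLocalRing

namespace Groth.Agent.Helper3.AbGalB

open Groth.Agent.Helper3.CompGrpA Groth.Agent.Helper3.AbGalA
open scoped CategoryTheory.Obj

variable {k : Type u} [Field k] (A : Over (Spec (CommRingCat.of k))) [GrpObj A]

section comm

variable [IsCommMonObj A]

lemma Rt_pow (n : ℕ) (a : 𝟙_ (Over (Spec (CommRingCat.of k))) ⟶ A) (ha : a ^ n = 1) :
    Rt a ≫ (𝟙 A) ^ n = (𝟙 A) ^ n := by
  rw [MonObj.comp_pow, Category.comp_id]
  unfold Rt
  rw [mul_pow, ← MonObj.comp_pow, ha, MonObj.comp_one, _root_.mul_one]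

end comm

lemma connectedSpace [GeometricallyIntegral A.hom] : ConnectedSpace A.left := by
  haveI : IsIntegral A.left := GeometricallyIntegral.isIntegral_of_subsingleton A.hom
  infer_instance

section tors

variable [IsAlgClosed k] [LocallyOfFiniteType A.hom] [IsSeparated A.hom]

lemma isClosed_unit : IsClosed {η[A].left (closedPoint k)} := by
  have h : η[A].left ≫ A.hom = 𝟙 _ := by
    have := Over.w η[A]
    simpa using this
  exact (pointEquivClosedPoint A.hom ⟨η[A].left, h⟩).2

/-- a point in a fibre of a quasi-finite morphism over a closed point is closed -/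
lemma isClosed_of_fibre {X Y : Scheme.{u}} (f : X ⟶ Y) [LocallyQuasiFinite f] (y : Y)
    (hy : IsClosed {y}) (x : X) (hx : f x = y) : IsClosed {x} := by
  have hF : IsClosed (f ⁻¹' {y}) := hy.preimage f.continuous
  have hD : _root_.IsDiscrete (f ⁻¹' {y}) := f.isDiscrete_preimage_singleton y
  rw [isDiscrete_iff_discreteTopology] at hD
  have h1 : IsClosed ({⟨x, hx⟩} : Set (f ⁻¹' {y})) := isClosed_discrete _
  have h2 := hF.isClosedEmbedding_subtypeVal.isClosedMap _ h1
  rwa [Set.image_singleton] at h2

variable {Ω : Type u} [Field Ω] (t : Spec (CommRingCat.of Ω) ⟶ Spec (CommRingCat.of k))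

/-- torsion points with values in a field come from rational points -/
theorem exists_rat_of_tors (n : ℕ) [LocallyQuasiFinite ((𝟙 A) ^ n).left]
    (d : Over.mk t ⟶ A) (hd : d ^ n = 1) :
    ∃ a : 𝟙_ (Over (Spec (CommRingCat.of k))) ⟶ A, a ^ n = 1 ∧ d = toUnit _ ≫ a := by
  have hA : ∀ a : 𝟙_ (Over (Spec (CommRingCat.of k))) ⟶ A, a.left ≫ A.hom = 𝟙 _ := by
    intro a
    have := Over.w a
    simpa using this
  have htU : (toUnit (Over.mk t)).left = t := by
    have := Over.w (toUnit (Over.mk t))
    simpa using this
  set x := d.left (closedPoint Ω) with hxdef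
  have h1 : ((𝟙 A) ^ n).left x = η[A].left (closedPoint k) := by
    have e1 : d ≫ (𝟙 A) ^ n = toUnit _ ≫ η[A] := by
      rw [MonObj.comp_pow, Category.comp_id, hd, Hom.one_def]
    have e2 := congrArg (fun f => f.left (closedPoint Ω)) e1
    simp only [Over.comp_left, Scheme.Hom.comp_apply] at e2
    rw [hxdef, e2]
    congr 1
    exact @Subsingleton.elim (Spec (CommRingCat.of k)) inferInstance _ _
  have hx : IsClosed {x} := isClosed_of_fibre _ _ (isClosed_unit A) x h1
  set a₀ := pointOfClosedPoint A.hom x hx with ha₀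
  let a : 𝟙_ (Over (Spec (CommRingCat.of k))) ⟶ A := Over.homMk a₀ (by
    show a₀ ≫ A.hom = 𝟙 _
    exact pointOfClosedPoint_comp A.hom x hx)
  have hda : d = toUnit _ ≫ a := by
    apply Over.OverMorphism.ext
    rw [Over.comp_left, htU]
    have h2 := field_pt_eq A.hom d.left hx
    have h3 : d.left ≫ A.hom = t := Over.w d
    rw [h3] at h2
    exact h2
  refine ⟨a, ?_, hda⟩
  have h4 : toUnit (Over.mk t) ≫ a ^ n = toUnit (Over.mk t) ≫ 1 := by
    rw [MonObj.comp_pow, ← hda, hd, MonObj.comp_one]
  apply Over.OverMorphism.ext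
  apply rat_pt_ext A.hom _ _ (hA _) (hA _) t
  have h5 := congrArg (fun f => f.left) h4
  simp only [Over.comp_left] at h5
  rw [htU] at h5
  exact h5

end tors

end Groth.Agent.Helper3.AbGalB
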