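import Mathlib
import Groth.Prelude

set_option autoImplicit false
set_option linter.style.haveILetI false
set_option linter.unusedSectionVars false
set_option linter.unusedVariables false
set_option linter.deprecated false
set_option linter.style.haveILetI false
set_option linter.unusedSectionVars false
set_option linter.unusedVariables false

universe u
open CategoryTheory CategoryTheory.Limits MonoidalCategory CartesianMonoidalCategory MonObj GrpObj
  AlgebraicGeometry

namespace Groth.Agent.Helper3.BcHom

open scoped CategoryTheory.Obj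
open Functor.LaxMonoidal Functor.Monoidal

variable {S S' : Scheme.{u}} (g : S' ⟶ S)

lemma map_left_fst {M N : Over S} (i : M ⟶ N) :
    ((Over.pullback g).map i).left ≫ pullback.fst N.hom g = pullback.fst M.hom g ≫ i.left :=
  pullback.lift_fst _ _ _

variable (N : Over S) [GrpObj N]

lemma unit_fst : η[(Over.pullback g).obj N].left ≫ pullback.fst N.hom g = g ≫ η[N].left := by
  rw [Functor.obj.η_def, Over.comp_left, Over.ε_pullback_left, Category.assoc,
    map_left_fst, IsIso.inv_comp_eq, ← Category.assoc, ← pullback.condition]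
  simp

variable {N} {T' : Over S'}

/-- the adjunction map on points -/
noncomputable def Θ (v : T' ⟶ (Over.pullback g).obj N) : (Over.map g).obj T' ⟶ N :=
  Over.homMk (v.left ≫ pullback.fst N.hom g) (by
    have h1 : v.left ≫ pullback.snd N.hom g = T'.hom := Over.w v
    show (v.left ≫ pullback.fst N.hom g) ≫ N.hom = T'.hom ≫ g
    rw [Category.assoc, pullback.condition, ← Category.assoc, h1])

lemma Θ_left (v : T' ⟶ (Over.pullback g).obj N) : (Θ g v).left = v.left ≫ pullback.fst N.hom g := rfl

lemma Θ_injective : Function.Injective (Θ g (N := N) (T' := T')) := by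
  intro v w h
  apply Over.OverMorphism.ext
  apply pullback.hom_ext
  · exact congrArg (fun f => f.left) h
  · have h1 : v.left ≫ pullback.snd N.hom g = T'.hom := Over.w v
    have h2 : w.left ≫ pullback.snd N.hom g = T'.hom := Over.w w
    rw [h1, h2]

/-- the inverse map -/
noncomputable def Θinv (y : (Over.map g).obj T' ⟶ N) : T' ⟶ (Over.pullback g).obj N :=
  Over.homMk (pullback.lift y.left T'.hom (Over.w y)) (pullback.lift_snd _ _ _)

lemma Θ_Θinv (y : (Over.map g).obj T' ⟶ N) : Θ g (Θinv g y) = y := by
  apply Over.OverMorphism.ext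
  exact pullback.lift_fst _ _ _

lemma Θ_one : Θ g (1 : T' ⟶ (Over.pullback g).obj N) = 1 := by
  apply Over.OverMorphism.ext
  rw [Θ_left, Hom.one_def, Hom.one_def, Over.comp_left, Over.comp_left, Category.assoc, unit_fst,
    ← Category.assoc]
  rfl

lemma Θ_mul (v w : T' ⟶ (Over.pullback g).obj N) : Θ g (v * w) = Θ g v * Θ g w := by
  apply Over.OverMorphism.ext
  rw [Θ_left, Hom.mul_def, Hom.mul_def, Functor.obj.μ_def, Over.comp_left, Over.comp_left,
    Over.comp_left, Category.assoc, Category.assoc, map_left_fst, ← Category.assoc,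
    ← Category.assoc]
  congr 1
  apply pullback.hom_ext
  · have e1 : (lift v w ≫ Functor.LaxMonoidal.μ (Over.pullback g) N N ≫ (Over.pullback g).map (fst N N)).left =
        v.left := by
      rw [μ_fst, lift_fst]
    have e2 : (lift (Θ g v) (Θ g w) ≫ fst N N).left = (Θ g v).left := by rw [lift_fst]
    have e3 := map_left_fst g (fst N N)
    calc (((lift v w).left ≫ (Functor.LaxMonoidal.μ (Over.pullback g) N N).left) ≫ pullback.fst (N ⊗ N).hom g) ≫
          pullback.fst N.hom N.hom
        = ((lift v w).left ≫ (Functor.LaxMonoidal.μ (Over.pullback g) N N).left) ≫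
            (pullback.fst (N ⊗ N).hom g ≫ (fst N N).left) := by
          rw [Category.assoc]; rfl
      _ = ((lift v w).left ≫ (Functor.LaxMonoidal.μ (Over.pullback g) N N).left) ≫
            (((Over.pullback g).map (fst N N)).left ≫ pullback.fst N.hom g) := by rw [e3]
      _ = (lift v w ≫ Functor.LaxMonoidal.μ (Over.pullback g) N N ≫ (Over.pullback g).map (fst N N)).left ≫
            pullback.fst N.hom g := by
          simp only [Over.comp_left, Category.assoc]
      _ = v.left ≫ pullback.fst N.hom g := by rw [e1]
      _ = (lift (Θ g v) (Θ g w) ≫ fst N N).left := by rw [e2, Θ_left]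
      _ = (lift (Θ g v) (Θ g w)).left ≫ pullback.fst N.hom N.hom := rfl
  · have e1 : (lift v w ≫ Functor.LaxMonoidal.μ (Over.pullback g) N N ≫ (Over.pullback g).map (snd N N)).left =
        w.left := by
      rw [μ_snd, lift_snd]
    have e2 : (lift (Θ g v) (Θ g w) ≫ snd N N).left = (Θ g w).left := by rw [lift_snd]
    have e3 := map_left_fst g (snd N N)
    calc (((lift v w).left ≫ (Functor.LaxMonoidal.μ (Over.pullback g) N N).left) ≫ pullback.fst (N ⊗ N).hom g) ≫
          pullback.snd N.hom N.hom
        = ((lift v w).left ≫ (Functor.LaxMonoidal.μ (Over.pullback g) N N).left) ≫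
            (pullback.fst (N ⊗ N).hom g ≫ (snd N N).left) := by
          rw [Category.assoc]; rfl
      _ = ((lift v w).left ≫ (Functor.LaxMonoidal.μ (Over.pullback g) N N).left) ≫
            (((Over.pullback g).map (snd N N)).left ≫ pullback.fst N.hom g) := by rw [e3]
      _ = (lift v w ≫ Functor.LaxMonoidal.μ (Over.pullback g) N N ≫ (Over.pullback g).map (snd N N)).left ≫
            pullback.fst N.hom g := by
          simp only [Over.comp_left, Category.assoc]
      _ = w.left ≫ pullback.fst N.hom g := by rw [e1]
      _ = (lift (Θ g v) (Θ g w) ≫ snd N N).left := by rw [e2, Θ_left]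
      _ = (lift (Θ g v) (Θ g w)).left ≫ pullback.snd N.hom N.hom := rfl

/-- `Θ` as a monoid homomorphism -/
noncomputable def ΘHom : (T' ⟶ (Over.pullback g).obj N) →* ((Over.map g).obj T' ⟶ N) where
  toFun := Θ g
  map_one' := Θ_one g
  map_mul' := Θ_mul g

lemma Θ_pow (v : T' ⟶ (Over.pullback g).obj N) (n : ℕ) : Θ g (v ^ n) = Θ g v ^ n :=
  map_pow (ΘHom g) v n

lemma Θ_inv (v : T' ⟶ (Over.pullback g).obj N) : Θ g v⁻¹ = (Θ g v)⁻¹ :=
  map_inv (ΘHom g) v

lemma Θ_comp {T'' : Over S'} (h : T'' ⟶ T') (v : T' ⟶ (Over.pullback g).obj N) :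
    Θ g (h ≫ v) = (Over.map g).map h ≫ Θ g v := by
  apply Over.OverMorphism.ext
  rw [Θ_left, Over.comp_left, Over.comp_left, Θ_left, Category.assoc]
  rfl

end Groth.Agent.Helper3.BcHom
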