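import Mathlib
import Groth.Agent.Helper1.CompletionFlat
import Groth.Agent.Helper1.LocalFlat
import Groth.Agent.Helper5.FlatOrbit3
import Groth.Agent.Helper2.ArtSch
import Groth.Agent.Helper2.LfpComp

set_option autoImplicit false
set_option linter.style.haveILetI false
set_option linter.unusedSectionVars false
set_option linter.unusedVariables false
set_option linter.style.haveILetI false
set_option linter.unusedSectionVars false
set_option linter.unusedVariables false

universe u
open CategoryTheory CategoryTheory.Limits MonoidalCategory CartesianMonoidalCategory MonObj GrpObj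
  AlgebraicGeometry IsLocalRing

namespace Groth.Agent.Helper3.ComplOI

/-- a local homomorphism of noetherian local rings inducing isomorphisms on all truncations is
flat -/
theorem flat_of_truncations {A B : Type u} [CommRing A] [CommRing B] [IsLocalRing A]
    [IsLocalRing B] [IsNoetherianRing A] [IsNoetherianRing B] (φ : A →+* B)
    (h : ∀ n : ℕ, Function.Surjective ((Ideal.Quotient.mk (maximalIdeal B ^ (n + 1))).comp φ) ∧
      ∀ a : A, φ a ∈ maximalIdeal B ^ (n + 1) ↔ a ∈ maximalIdeal A ^ (n + 1)) : φ.Flat := by
  algebraize [φ]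
  have hφ : ∀ a, algebraMap A B a = φ a := fun a => rfl
  -- `m_A B = m_B`
  have hmap_le : (maximalIdeal A).map (algebraMap A B) ≤ maximalIdeal B := by
    rw [Ideal.map_le_iff_le_comap]
    intro a ha
    have := (h 0).2 a
    rw [zero_add, pow_one, pow_one] at this
    exact this.mpr ha
  have hmap : (maximalIdeal A).map (algebraMap A B) = maximalIdeal B := by
    refine le_antisymm hmap_le ?_
    apply Submodule.le_of_le_smul_of_le_jacobson_bot (I := maximalIdeal B)
      (IsNoetherian.noetherian _)
    · rw [IsLocalRing.jacobson_eq_maximalIdeal ⊥ bot_ne_top]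
    · intro b hb
      obtain ⟨a, ha⟩ := (h 1).1 (Ideal.Quotient.mk _ b)
      rw [RingHom.comp_apply, Ideal.Quotient.eq] at ha
      have ha' : φ a - b ∈ maximalIdeal B ^ 2 := ha
      have hφa : φ a ∈ maximalIdeal B := by
        have h1 : φ a - b ∈ maximalIdeal B := Ideal.pow_le_self two_ne_zero ha'
        have := (maximalIdeal B).add_mem h1 hb
        rwa [sub_add_cancel] at this
      have haA : a ∈ maximalIdeal A := by
        have := (h 0).2 a
        rw [zero_add, pow_one, pow_one] at this
        exact this.mp hφa
      have hb' : b = φ a - (φ a - b) := by ring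
      rw [hb']
      refine Submodule.sub_mem _ (Submodule.mem_sup_left (Ideal.mem_map_of_mem _ haA))
        (Submodule.mem_sup_right ?_)
      rw [smul_eq_mul, ← pow_two]
      exact ha'
  have hpow : ∀ k : ℕ, (maximalIdeal A ^ k • ⊤ : Submodule A B) =
      ((maximalIdeal B) ^ k).restrictScalars A := by
    intro k
    rw [Ideal.smul_top_eq_map, Ideal.map_pow, hmap]
  change Module.Flat A B
  refine Groth.Agent.Helper1.LocalFlat.flat_of_flat_baseChange_pow (A := A) (B := B)
    (maximalIdeal A) ?_ fun k => ?_
  · rw [IsLocalRing.jacobson_eq_maximalIdeal ⊥ bot_ne_top]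
    exact hmap_le
  · rcases k with _ | n
    · haveI : Subsingleton (A ⧸ maximalIdeal A ^ 0) := by
        rw [pow_zero, Ideal.one_eq_top]
        exact Ideal.Quotient.subsingleton_iff.mpr rfl
      infer_instance
    · refine Groth.Agent.Helper1.CompletionFlat.flat_baseChange_of_bijective
        (maximalIdeal A ^ (n + 1)) (Algebra.linearMap A B) (fun b => ?_) (fun a ha => ?_)
      · obtain ⟨a, ha⟩ := (h n).1 (Ideal.Quotient.mk _ b)
        rw [RingHom.comp_apply, Ideal.Quotient.eq] at ha
        refine ⟨a, ?_⟩
        rw [hpow, Submodule.restrictScalars_mem, Algebra.linearMap_apply, hφ]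
        have := Ideal.neg_mem_iff _ |>.mpr ha
        rwa [neg_sub] at this
      · rw [hpow, Submodule.restrictScalars_mem, Algebra.linearMap_apply, hφ] at ha
        rw [Ideal.smul_top_eq_map, Algebra.algebraMap_self, Ideal.map_id]
        exact ((h n).2 a).mp ha


theorem main (k : Type u) [Field k]
    (H G : Over (Spec (CommRingCat.of k))) [GrpObj H] [GrpObj G]
    [LocallyOfFiniteType H.hom] [LocallyOfFiniteType G.hom] (f : H ⟶ G) [IsMonHom f] [Mono f.left]
    (pt : ↥(𝟙_ (Over (Spec (CommRingCat.of k)))).left)
    (h : ∀ n : ℕ,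
      Function.Surjective ((Ideal.Quotient.mk (IsLocalRing.maximalIdeal
          ↑(H.left.presheaf.stalk (η[H].left.base pt)) ^ (n + 1))).comp
        (f.left.stalkMap (η[H].left.base pt)).hom) ∧
      ∀ a : ↑(G.left.presheaf.stalk (f.left.base (η[H].left.base pt))),
        (f.left.stalkMap (η[H].left.base pt)).hom a ∈
            IsLocalRing.maximalIdeal ↑(H.left.presheaf.stalk (η[H].left.base pt)) ^ (n + 1) ↔
          a ∈ IsLocalRing.maximalIdeal ↑(G.left.presheaf.stalk (f.left.base (η[H].left.base pt))) ^ (n + 1)) :
    IsOpenImmersion f.left := by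
  haveI : IsLocallyNoetherian H.left := LocallyOfFiniteType.isLocallyNoetherian H.hom
  haveI : IsLocallyNoetherian G.left := LocallyOfFiniteType.isLocallyNoetherian G.hom
  haveI : LocallyOfFinitePresentation H.hom := Groth.Agent.Helper2.ArtSch.lfp_of_lft_noeth H.hom
  haveI : LocallyOfFinitePresentation f.left :=
    Groth.Agent.Helper2.LfpComp.locallyOfFinitePresentation_of_comp f.left G.hom
      (by rw [Over.w f]; infer_instance) inferInstance
  haveI : Flat H.hom := inferInstance
  haveI : Flat f.left := by
    refine Groth.Agent.Helper5.FlatOrbit.s5336 k H G f ⟨η[H].left.base pt, ?_⟩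
    exact flat_of_truncations _ h
  exact IsOpenImmersion.of_flat_of_mono f.left

end Groth.Agent.Helper3.ComplOI
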