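import Mathlib

set_option autoImplicit false
set_option linter.style.haveILetI false
set_option linter.unusedSectionVars false
set_option linter.unusedVariables false
set_option linter.style.haveILetI false
set_option linter.unusedSectionVars false
set_option linter.unusedVariables false

universe u
open IsLocalRing

namespace Groth.Agent.Helper3.PowTrunc

variable {A : Type u} [CommRing A] [IsLocalRing A] (ψ : A →+* A) (u : A)

lemma map_mem (h0 : ∀ a, ψ a - a ∈ maximalIdeal A) (a : A) (ha : a ∈ maximalIdeal A) :
    ψ a ∈ maximalIdeal A := by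
  have := (maximalIdeal A).add_mem (h0 a) ha
  rwa [sub_add_cancel] at this

lemma map_mem_pow (h0 : ∀ a, ψ a - a ∈ maximalIdeal A) (i : ℕ) (a : A)
    (ha : a ∈ maximalIdeal A ^ i) : ψ a ∈ maximalIdeal A ^ i := by
  have h1 : (maximalIdeal A).map ψ ≤ maximalIdeal A := by
    rw [Ideal.map_le_iff_le_comap]
    intro x hx
    exact map_mem ψ h0 x hx
  have h2 : ψ a ∈ (maximalIdeal A ^ i).map ψ := Ideal.mem_map_of_mem ψ ha
  rw [Ideal.map_pow] at h2
  exact Ideal.pow_right_mono h1 i h2

lemma key (h0 : ∀ a, ψ a - a ∈ maximalIdeal A)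
    (h1 : ∀ a ∈ maximalIdeal A, ψ a - u * a ∈ maximalIdeal A ^ 2) (i : ℕ) :
    ∀ a ∈ maximalIdeal A ^ i, ψ a - u ^ i * a ∈ maximalIdeal A ^ (i + 1) := by
  induction i with
  | zero =>
    intro a _
    rw [pow_zero, one_mul, zero_add, pow_one]
    exact h0 a
  | succ i ih =>
    intro a ha
    rw [pow_succ] at ha
    refine Submodule.mul_induction_on ha ?_ ?_
    · intro y hy x hx
      have e : ψ (y * x) - u ^ (i + 1) * (y * x) =
          (ψ y - u ^ i * y) * ψ x + u ^ i * (y * (ψ x - u * x)) := by
        rw [map_mul]; ring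
      rw [e]
      refine Ideal.add_mem _ ?_ ?_
      · rw [pow_succ (maximalIdeal A) (i + 1)]
        exact Ideal.mul_mem_mul (ih y hy) (map_mem ψ h0 x hx)
      · refine Ideal.mul_mem_left _ _ ?_
        have : maximalIdeal A ^ (i + 1 + 1) = maximalIdeal A ^ i * maximalIdeal A ^ 2 := by
          rw [← pow_add]
        rw [this]
        exact Ideal.mul_mem_mul hy (h1 x hx)
    · intro x y hx hy
      have e : ψ (x + y) - u ^ (i + 1) * (x + y) =
          (ψ x - u ^ (i + 1) * x) + (ψ y - u ^ (i + 1) * y) := by
        rw [map_add]; ring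
      rw [e]
      exact Ideal.add_mem _ hx hy

/-- an endomorphism acting on the cotangent space as a unit scalar satisfies the truncation
conditions -/
theorem truncations (hu : IsUnit u) (h0 : ∀ a, ψ a - a ∈ maximalIdeal A)
    (h1 : ∀ a ∈ maximalIdeal A, ψ a - u * a ∈ maximalIdeal A ^ 2) (n : ℕ) :
    Function.Surjective ((Ideal.Quotient.mk (maximalIdeal A ^ (n + 1))).comp ψ) ∧
      ∀ a : A, ψ a ∈ maximalIdeal A ^ (n + 1) ↔ a ∈ maximalIdeal A ^ (n + 1) := by
  constructor
  · -- surjectivity
    have hs : ∀ N : ℕ, ∀ b : A, ∃ a, ψ a - b ∈ maximalIdeal A ^ N := by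
      intro N
      induction N with
      | zero =>
        intro b
        exact ⟨0, by rw [pow_zero, Ideal.one_eq_top]; trivial⟩
      | succ N ih =>
        intro b
        obtain ⟨a, ha⟩ := ih b
        obtain ⟨v, hv⟩ := (hu.pow N).exists_left_inv
        set c := b - ψ a with hc
        have hcm : c ∈ maximalIdeal A ^ N := by
          have := (maximalIdeal A ^ N).neg_mem ha
          rwa [neg_sub] at this
        have hc' : v * c ∈ maximalIdeal A ^ N := Ideal.mul_mem_left _ _ hcm
        have hk := key ψ u h0 h1 N (v * c) hc'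
        refine ⟨a + v * c, ?_⟩
        have e : ψ (a + v * c) - b = ψ (v * c) - u ^ N * (v * c) := by
          rw [map_add, hc]
          have : u ^ N * (v * (b - ψ a)) = (v * u ^ N) * (b - ψ a) := by ring
          rw [this, hv]
          ring
        rw [e]
        exact hk
    intro q
    obtain ⟨b, rfl⟩ := Ideal.Quotient.mk_surjective q
    obtain ⟨a, ha⟩ := hs (n + 1) b
    exact ⟨a, (Ideal.Quotient.eq).mpr ha⟩
  · intro a
    constructor
    · intro ha
      have hi : ∀ i : ℕ, i ≤ n + 1 → a ∈ maximalIdeal A ^ i := by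
        intro i
        induction i with
        | zero =>
          intro _
          rw [pow_zero, Ideal.one_eq_top]; trivial
        | succ i ih =>
          intro hi
          have hai := ih (by omega)
          have hk := key ψ u h0 h1 i a hai
          have h2 : ψ a ∈ maximalIdeal A ^ (i + 1) := Ideal.pow_le_pow_right hi ha
          have h3 : u ^ i * a ∈ maximalIdeal A ^ (i + 1) := by
            have := (maximalIdeal A ^ (i + 1)).sub_mem h2 hk
            rwa [sub_sub_cancel] at this
          exact (Ideal.unit_mul_mem_iff_mem _ (hu.pow i)).mp h3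
      exact hi (n + 1) le_rfl
    · intro ha
      exact map_mem_pow ψ h0 (n + 1) a ha

/-- such an endomorphism maps the maximal ideal onto a generating set of the maximal ideal -/
theorem map_maximalIdeal_eq [IsNoetherianRing A] (hu : IsUnit u)
    (h0 : ∀ a, ψ a - a ∈ maximalIdeal A)
    (h1 : ∀ a ∈ maximalIdeal A, ψ a - u * a ∈ maximalIdeal A ^ 2) :
    (maximalIdeal A).map ψ = maximalIdeal A := by
  refine le_antisymm ?_ ?_
  · rw [Ideal.map_le_iff_le_comap]
    intro x hx
    exact map_mem ψ h0 x hx
  · apply Submodule.le_of_le_smul_of_le_jacobson_bot (I := maximalIdeal A)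
      (IsNoetherian.noetherian _)
    · rw [IsLocalRing.jacobson_eq_maximalIdeal ⊥ bot_ne_top]
    · intro b hb
      obtain ⟨v, hv⟩ := hu.exists_left_inv
      have hvb : v * b ∈ maximalIdeal A := Ideal.mul_mem_left _ _ hb
      have h2 := h1 (v * b) hvb
      have e : b = ψ (v * b) - (ψ (v * b) - u * (v * b)) := by
        have : u * (v * b) = (v * u) * b := by ring
        rw [this, hv, one_mul]; ring
      rw [e]
      refine Submodule.sub_mem _ (Submodule.mem_sup_left (Ideal.mem_map_of_mem ψ hvb)) ?_
      refine Submodule.mem_sup_right ?_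
      rw [smul_eq_mul, ← pow_two]
      exact h2

end Groth.Agent.Helper3.PowTrunc
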