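import Mathlib

set_option autoImplicit false
set_option linter.style.haveILetI false
set_option linter.unusedSectionVars false
set_option linter.unusedVariables false
set_option linter.style.haveILetI false
set_option linter.unusedSectionVars false
set_option linter.unusedVariables false

universe u
open CategoryTheory AlgebraicGeometry IsLocalRing

namespace Groth.Agent.Helper3.LocPt

variable {X : Scheme.{u}} (x : X)

/-- the comorphism `𝒪_{X,x} ⟶ R` of a morphism `Spec R ⟶ X` from a local scheme sending the
closed point to `x` -/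
noncomputable def comor {R : CommRingCat.{u}} [IsLocalRing R] (t : Spec R ⟶ X)
    (ht : t (closedPoint R) = x) : X.presheaf.stalk x ⟶ R :=
  X.presheaf.stalkSpecializes (specializes_of_eq ht) ≫ Scheme.stalkClosedPointTo t

variable {R : CommRingCat.{u}} [IsLocalRing R]

lemma spec_comor (t : Spec R ⟶ X) (ht : t (closedPoint R) = x) :
    Spec.map (comor x t ht) ≫ X.fromSpecStalk x = t := by
  rw [comor, Spec.map_comp, Category.assoc, Scheme.SpecMap_stalkSpecializes_fromSpecStalk,
    Scheme.Spec_stalkClosedPointTo_fromSpecStalk]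

lemma comor_unique (t : Spec R ⟶ X) (ht : t (closedPoint R) = x) (β : X.presheaf.stalk x ⟶ R)
    (hβ : Spec.map β ≫ X.fromSpecStalk x = t) : β = comor x t ht := by
  apply Spec.map_injective
  rw [← cancel_mono (X.fromSpecStalk x), hβ, spec_comor]

instance isLocalHom_comor (t : Spec R ⟶ X) (ht : t (closedPoint R) = x) :
    IsLocalHom (comor x t ht).hom := by
  have h1 : IsLocalHom (X.presheaf.stalkSpecializes (specializes_of_eq ht)).hom := by
    have : IsIso (X.presheaf.stalkSpecializes (specializes_of_eq ht)) := by
      refine ⟨X.presheaf.stalkSpecializes (specializes_of_eq ht.symm), ?_, ?_⟩ <;>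
      · rw [TopCat.Presheaf.stalkSpecializes_comp]
        exact TopCat.Presheaf.stalkSpecializes_refl _ _
    exact isLocalHom_of_isIso _
  have h2 : IsLocalHom (Scheme.stalkClosedPointTo t).hom := inferInstance
  rw [comor, CommRingCat.hom_comp]
  exact RingHom.isLocalHom_comp _ _

/-- precomposition with a morphism of local schemes -/
lemma comor_comp {R' : CommRingCat.{u}} [IsLocalRing R'] (g : R ⟶ R') [IsLocalHom g.hom]
    (t : Spec R ⟶ X) (ht : t (closedPoint R) = x) :
    comor x (Spec.map g ≫ t) (by
      rw [Scheme.Hom.comp_apply, Spec_closedPoint, ht]) = comor x t ht ≫ g := by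
  symm
  apply comor_unique
  rw [Spec.map_comp, Category.assoc, spec_comor]

/-- postcomposition with a morphism of schemes -/
lemma comor_comp_right {Y : Scheme.{u}} (f : X ⟶ Y) (y : Y) (hxy : f x = y)
    (t : Spec R ⟶ X) (ht : t (closedPoint R) = x) :
    comor y (t ≫ f) (by rw [Scheme.Hom.comp_apply, ht, hxy]) =
      comor y (X.fromSpecStalk x ≫ f) (by
        rw [Scheme.Hom.comp_apply, Scheme.fromSpecStalk_closedPoint, hxy]) ≫ comor x t ht := by
  symm
  apply comor_unique
  rw [Spec.map_comp, Category.assoc, spec_comor, ← Category.assoc, spec_comor]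

/-- the comorphism of `Spec 𝒪_{X,x} ⟶ X ⟶ Y` in terms of the stalk map -/
lemma comor_fromSpecStalk_comp {Y : Scheme.{u}} (f : X ⟶ Y) (y : Y) (hxy : f x = y) :
    comor y (X.fromSpecStalk x ≫ f) (by
        rw [Scheme.Hom.comp_apply, Scheme.fromSpecStalk_closedPoint, hxy]) =
      Y.presheaf.stalkSpecializes (specializes_of_eq hxy) ≫ f.stalkMap x := by
  symm
  apply comor_unique
  rw [Spec.map_comp, Category.assoc, Scheme.SpecMap_stalkSpecializes_fromSpecStalk,
    Scheme.SpecMap_stalkMap_fromSpecStalk]

end Groth.Agent.Helper3.LocPt
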