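import Mathlib

set_option autoImplicit false
set_option linter.style.haveILetI false
set_option linter.unusedSectionVars false
set_option linter.unusedVariables false
set_option linter.style.haveILetI false
set_option linter.unusedSectionVars false
set_option linter.unusedVariables false

universe u
open CategoryTheory CategoryTheory.Limits MonoidalCategory CartesianMonoidalCategory MonObj GrpObj
  AlgebraicGeometry

namespace Groth.Agent.Helper3.TanPts

variable (k : Type u) [Field k]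

section Pts

variable (R : Type u) [CommRing R] [Algebra k R]

/-- `Spec R` as a `k`-scheme -/
noncomputable def pts : Over (Spec (CommRingCat.of k)) :=
  Over.mk (Spec.map (CommRingCat.ofHom (algebraMap k R)))

variable {R} {R' R'' : Type u} [CommRing R'] [Algebra k R'] [CommRing R''] [Algebra k R'']

/-- the morphism of `k`-schemes induced by an algebra map -/
noncomputable def ptsMap (g : R →ₐ[k] R') : pts k R' ⟶ pts k R :=
  Over.homMk (Spec.map (CommRingCat.ofHom (g : R →+* R'))) (by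
    change Spec.map _ ≫ Spec.map _ = Spec.map _
    rw [← Spec.map_comp, ← CommRingCat.ofHom_comp, AlgHom.comp_algebraMap])

lemma ptsMap_left (g : R →ₐ[k] R') :
    (ptsMap k g).left = Spec.map (CommRingCat.ofHom (g : R →+* R')) := rfl

lemma ptsMap_comp (g : R →ₐ[k] R') (h : R' →ₐ[k] R'') :
    ptsMap k (h.comp g) = ptsMap k h ≫ ptsMap k g := by
  ext
  change Spec.map _ = Spec.map _ ≫ Spec.map _
  rw [← Spec.map_comp, ← CommRingCat.ofHom_comp]
  rfl

lemma ptsMap_id : ptsMap k (AlgHom.id k R) = 𝟙 _ := by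
  ext
  change Spec.map _ = 𝟙 _
  exact Spec.map_id _

/-- the `k`-point of an augmented algebra -/
noncomputable def cpt (aug : R →ₐ[k] k) : 𝟙_ (Over (Spec (CommRingCat.of k))) ⟶ pts k R :=
  Over.homMk (Spec.map (CommRingCat.ofHom (aug : R →+* k))) (by
    change Spec.map _ ≫ Spec.map _ = 𝟙 _
    rw [← Spec.map_comp, ← CommRingCat.ofHom_comp, AlgHom.comp_algebraMap]
    exact Spec.map_id _)

lemma cpt_left (aug : R →ₐ[k] k) :
    (cpt k aug).left = Spec.map (CommRingCat.ofHom (aug : R →+* k)) := rfl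

lemma cpt_ptsMap (g : R →ₐ[k] R') (aug' : R' →ₐ[k] k) :
    cpt k aug' ≫ ptsMap k g = cpt k (aug'.comp g) := by
  ext
  change Spec.map _ ≫ Spec.map _ = Spec.map _
  rw [← Spec.map_comp, ← CommRingCat.ofHom_comp]
  rfl

/-- the constant morphism through a `k`-point -/
lemma ptsMap_ofId_comp (aug : R →ₐ[k] k) :
    ptsMap k ((Algebra.ofId k R').comp aug) = toUnit (pts k R') ≫ cpt k aug := by
  ext
  rw [Over.comp_left, Over.toUnit_left]
  change Spec.map _ = Spec.map _ ≫ Spec.map _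
  rw [← Spec.map_comp, ← CommRingCat.ofHom_comp]
  rfl

end Pts


section Grp

/-- the dual numbers -/
abbrev D := TrivSqZeroExt k k
/-- the ring `k ⊕ kε₁ ⊕ kε₂` -/
abbrev R₂ := TrivSqZeroExt k (k × k)

/-- augmentations and structure maps -/
noncomputable def augD : D k →ₐ[k] k := TrivSqZeroExt.fstHom k k k
noncomputable def aug₂ : R₂ k →ₐ[k] k := TrivSqZeroExt.fstHom k k (k × k)
noncomputable def q1 : D k →ₐ[k] R₂ k := TrivSqZeroExt.map (LinearMap.inl k k k)
noncomputable def q2 : D k →ₐ[k] R₂ k := TrivSqZeroExt.map (LinearMap.inr k k k)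
noncomputable def j1 : R₂ k →ₐ[k] D k := TrivSqZeroExt.map (LinearMap.fst k k k)
noncomputable def j2 : R₂ k →ₐ[k] D k := TrivSqZeroExt.map (LinearMap.snd k k k)
noncomputable def δ : R₂ k →ₐ[k] D k :=
  TrivSqZeroExt.map (LinearMap.fst k k k + LinearMap.snd k k k)

lemma map_zero_eq {M N : Type u} [AddCommGroup M] [Module k M] [AddCommGroup N] [Module k N]
    [Module kᵐᵒᵖ M] [IsCentralScalar k M] [Module kᵐᵒᵖ N] [IsCentralScalar k N] :
    (TrivSqZeroExt.map (0 : M →ₗ[k] N)) =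
      (Algebra.ofId k (TrivSqZeroExt k N)).comp (TrivSqZeroExt.fstHom k k M) := by
  refine AlgHom.ext fun x => ?_
  apply TrivSqZeroExt.ext
  · simp [TrivSqZeroExt.fst_map, Algebra.ofId_apply, TrivSqZeroExt.algebraMap_eq_inl]
  · simp [TrivSqZeroExt.snd_map, Algebra.ofId_apply, TrivSqZeroExt.algebraMap_eq_inl]

lemma j1_q1 : (j1 k).comp (q1 k) = AlgHom.id k (D k) := by
  rw [j1, q1, ← TrivSqZeroExt.map_comp_map, LinearMap.fst_comp_inl, TrivSqZeroExt.map_id]

lemma j2_q2 : (j2 k).comp (q2 k) = AlgHom.id k (D k) := by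
  rw [j2, q2, ← TrivSqZeroExt.map_comp_map, LinearMap.snd_comp_inr, TrivSqZeroExt.map_id]

lemma j1_q2 : (j1 k).comp (q2 k) = (Algebra.ofId k (D k)).comp (augD k) := by
  rw [j1, q2, ← TrivSqZeroExt.map_comp_map, LinearMap.fst_comp_inr, map_zero_eq]
  rfl

lemma j2_q1 : (j2 k).comp (q1 k) = (Algebra.ofId k (D k)).comp (augD k) := by
  rw [j2, q1, ← TrivSqZeroExt.map_comp_map, LinearMap.snd_comp_inl, map_zero_eq]
  rfl

lemma δ_q1 : (δ k).comp (q1 k) = AlgHom.id k (D k) := by
  rw [δ, q1, ← TrivSqZeroExt.map_comp_map]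
  have : (LinearMap.fst k k k + LinearMap.snd k k k) ∘ₗ LinearMap.inl k k k = LinearMap.id := by
    ext; simp
  rw [this, TrivSqZeroExt.map_id]

lemma δ_q2 : (δ k).comp (q2 k) = AlgHom.id k (D k) := by
  rw [δ, q2, ← TrivSqZeroExt.map_comp_map]
  have : (LinearMap.fst k k k + LinearMap.snd k k k) ∘ₗ LinearMap.inr k k k = LinearMap.id := by
    ext; simp
  rw [this, TrivSqZeroExt.map_id]

lemma aug₂_q1 : (aug₂ k).comp (q1 k) = augD k := by
  refine AlgHom.ext fun x => ?_
  simp [aug₂, q1, augD, TrivSqZeroExt.fstHom_apply, TrivSqZeroExt.fst_map]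

lemma aug₂_q2 : (aug₂ k).comp (q2 k) = augD k := by
  refine AlgHom.ext fun x => ?_
  simp [aug₂, q2, augD, TrivSqZeroExt.fstHom_apply, TrivSqZeroExt.fst_map]

variable (G : Over (Spec (CommRingCat.of k))) [GrpObj G]

/-- tangent vectors at the unit -/
def IsTan (t : pts k (D k) ⟶ G) : Prop := cpt k (augD k) ≫ t = η[G]

variable {G}

lemma unit_mul_unit : (η[G] : 𝟙_ (Over (Spec (CommRingCat.of k))) ⟶ G) * η[G] = η[G] := by
  have h1 : (1 : 𝟙_ (Over (Spec (CommRingCat.of k))) ⟶ G) = η[G] := by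
    rw [Hom.one_def]
    have : toUnit (𝟙_ (Over (Spec (CommRingCat.of k)))) = 𝟙 _ := toUnit_unique _ _
    rw [this, Category.id_comp]
  rw [← h1, _root_.mul_one]

lemma isTan_mul {t₁ t₂ : pts k (D k) ⟶ G} (h₁ : IsTan k G t₁) (h₂ : IsTan k G t₂) :
    IsTan k G (t₁ * t₂) := by
  change _ ≫ _ = _
  rw [MonObj.comp_mul, h₁, h₂, unit_mul_unit]

lemma isTan_pow {t : pts k (D k) ⟶ G} (h : IsTan k G t) (n : ℕ) (hn : 0 < n) :
    IsTan k G (t ^ n) := by
  induction n with
  | zero => omega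
  | succ m ih =>
    rcases Nat.eq_zero_or_pos m with rfl | hm
    · rw [zero_add, pow_one]; exact h
    · rw [pow_succ]
      exact isTan_mul k (ih hm) h

/-- the key construction: a point with values in `R₂` interpolating two tangent vectors -/
lemma exists_interp {t₁ t₂ : pts k (D k) ⟶ G} (h₁ : IsTan k G t₁) (h₂ : IsTan k G t₂) :
    ∃ T : pts k (R₂ k) ⟶ G, cpt k (aug₂ k) ≫ T = η[G] ∧ ptsMap k (j1 k) ≫ T = t₁ ∧
      ptsMap k (j2 k) ≫ T = t₂ ∧ ptsMap k (δ k) ≫ T = t₁ * t₂ := by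
  have hconst : ∀ t : pts k (D k) ⟶ G, IsTan k G t →
      ptsMap k ((Algebra.ofId k (D k)).comp (augD k)) ≫ t = 1 := by
    intro t ht
    rw [ptsMap_ofId_comp, Category.assoc, ht, Hom.one_def]
  refine ⟨(ptsMap k (q1 k) ≫ t₁) * (ptsMap k (q2 k) ≫ t₂), ?_, ?_, ?_, ?_⟩
  · rw [MonObj.comp_mul, ← Category.assoc, ← Category.assoc, cpt_ptsMap, cpt_ptsMap, aug₂_q1,
      aug₂_q2, h₁, h₂, unit_mul_unit]
  · rw [MonObj.comp_mul, ← Category.assoc, ← Category.assoc, ← ptsMap_comp, ← ptsMap_comp, j1_q1,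
      j1_q2, ptsMap_id, Category.id_comp, hconst t₂ h₂, _root_.mul_one]
  · rw [MonObj.comp_mul, ← Category.assoc, ← Category.assoc, ← ptsMap_comp, ← ptsMap_comp, j2_q2,
      j2_q1, ptsMap_id, Category.id_comp, hconst t₁ h₁, _root_.one_mul]
  · rw [MonObj.comp_mul, ← Category.assoc, ← Category.assoc, ← ptsMap_comp, ← ptsMap_comp, δ_q1,
      δ_q2, ptsMap_id, Category.id_comp, Category.id_comp]

end Grp

end Groth.Agent.Helper3.TanPts
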