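import Mathlib
import Groth.Agent.Helper3.LocPt
import Groth.Agent.Helper3.TanPts

set_option autoImplicit false
set_option linter.style.haveILetI false
set_option linter.unusedSectionVars false
set_option linter.unusedVariables false
set_option linter.style.haveILetI false
set_option linter.unusedSectionVars false
set_option linter.unusedVariables false

universe u
open CategoryTheory CategoryTheory.Limits MonoidalCategory CartesianMonoidalCategory MonObj GrpObj
  AlgebraicGeometry IsLocalRing

namespace Groth.Agent.Helper3.TanStalk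

open Groth.Agent.Helper3.LocPt Groth.Agent.Helper3.TanPts

variable (k : Type u) [Field k]

/-- trivial square zero extensions of a field are local -/
instance isLocalRing_tsze (M : Type u) [AddCommGroup M] [Module k M] [Module kᵐᵒᵖ M]
    [IsCentralScalar k M] : IsLocalRing (TrivSqZeroExt k M) where
  isUnit_or_isUnit_of_add_one {a b} h := by
    rw [add_comm, ← eq_sub_iff_add_eq] at h
    rcases eq_or_ne (TrivSqZeroExt.fst a) 0 with ha | ha <;>
    simp [TrivSqZeroExt.isUnit_iff_isUnit_fst, h, ha]

instance isLocalHom_fstHom (M : Type u) [AddCommGroup M] [Module k M] [Module kᵐᵒᵖ M]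
    [IsCentralScalar k M] : IsLocalHom ((TrivSqZeroExt.fstHom k k M : TrivSqZeroExt k M →ₐ[k] k) :
      TrivSqZeroExt k M →+* k) where
  map_nonunit a ha := by
    rw [TrivSqZeroExt.isUnit_iff_isUnit_fst]
    exact ha

instance isLocalHom_map {M N : Type u} [AddCommGroup M] [Module k M] [Module kᵐᵒᵖ M]
    [IsCentralScalar k M] [AddCommGroup N] [Module k N] [Module kᵐᵒᵖ N]
    [IsCentralScalar k N] (f : M →ₗ[k] N) :
    IsLocalHom ((TrivSqZeroExt.map f : TrivSqZeroExt k M →ₐ[k] TrivSqZeroExt k N) :
      TrivSqZeroExt k M →+* TrivSqZeroExt k N) where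
  map_nonunit a ha := by
    rw [TrivSqZeroExt.isUnit_iff_isUnit_fst] at ha ⊢
    have : TrivSqZeroExt.fst ((TrivSqZeroExt.map f) a) = TrivSqZeroExt.fst a :=
      TrivSqZeroExt.fst_map f a
    rw [← this]
    exact ha

variable (G : Over (Spec (CommRingCat.of k))) [GrpObj G]

/-- the unit point -/
noncomputable def e : G.left := η[G].left (closedPoint k)

/-- the local ring at the unit point -/
noncomputable abbrev A : CommRingCat.{u} := G.left.presheaf.stalk (e k G)

variable {k G}

section co

variable {R : Type u} [CommRing R] [Algebra k R] [IsLocalRing R] (aug : R →ₐ[k] k)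
  [IsLocalHom (aug : R →+* k)]

lemma closedPoint_of_cpt (t : pts k R ⟶ G) (ht : cpt k aug ≫ t = η[G]) :
    t.left (closedPoint R) = e k G := by
  haveI : IsLocalHom (CommRingCat.ofHom (aug : R →+* k)).hom := ‹_›
  have h1 : (cpt k aug).left (closedPoint k) = closedPoint R :=
    Spec_closedPoint (f := CommRingCat.ofHom (aug : R →+* k))
  rw [← h1, ← Scheme.Hom.comp_apply, ← Over.comp_left, ht]
  rfl

/-- the comorphism of a local point through the unit -/
noncomputable def co (t : pts k R ⟶ G) (ht : cpt k aug ≫ t = η[G]) : A k G ⟶ CommRingCat.of R :=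
  comor (e k G) t.left (closedPoint_of_cpt aug t ht)

lemma spec_co (t : pts k R ⟶ G) (ht : cpt k aug ≫ t = η[G]) :
    Spec.map (co aug t ht) ≫ G.left.fromSpecStalk (e k G) = t.left :=
  spec_comor _ _ _

lemma co_unique (t : pts k R ⟶ G) (ht : cpt k aug ≫ t = η[G]) (β : A k G ⟶ CommRingCat.of R)
    (hβ : Spec.map β ≫ G.left.fromSpecStalk (e k G) = t.left) : β = co aug t ht :=
  comor_unique _ _ _ _ hβ

lemma co_congr {t t' : pts k R ⟶ G} (h : t = t') (ht : cpt k aug ≫ t = η[G]) :
    co aug t ht = co aug t' (h ▸ ht) := by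
  subst h; rfl

variable {R' : Type u} [CommRing R'] [Algebra k R'] [IsLocalRing R'] (aug' : R' →ₐ[k] k)
  [IsLocalHom (aug' : R' →+* k)]

/-- naturality in the local ring -/
lemma co_ptsMap (g : R →ₐ[k] R') (hg : aug'.comp g = aug) (t : pts k R ⟶ G)
    (ht : cpt k aug ≫ t = η[G]) :
    co aug' (ptsMap k g ≫ t) (by rw [← Category.assoc, cpt_ptsMap, hg, ht]) =
      co aug t ht ≫ CommRingCat.ofHom (g : R →+* R') := by
  symm
  apply co_unique
  rw [Spec.map_comp, Category.assoc, spec_co, Over.comp_left, ptsMap_left]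
  rfl

end co

end Groth.Agent.Helper3.TanStalk
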