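import Mathlib
import Groth.Agent.Helper3.TanStalk

set_option autoImplicit false
set_option linter.style.haveILetI false
set_option linter.unusedSectionVars false
set_option linter.unusedVariables false
set_option linter.style.haveILetI false
set_option linter.unusedSectionVars false
set_option linter.unusedVariables false

universe u
open CategoryTheory CategoryTheory.Limits MonoidalCategory CartesianMonoidalCategory MonObj GrpObj
  AlgebraicGeometry IsLocalRing

namespace Groth.Agent.Helper3.TanVec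

open Groth.Agent.Helper3.LocPt Groth.Agent.Helper3.TanPts Groth.Agent.Helper3.TanStalk

variable {k : Type u} [Field k] {G : Over (Spec (CommRingCat.of k))} [GrpObj G]

instance isLocalHom_augD : IsLocalHom ((augD k : D k →ₐ[k] k) : D k →+* k) :=
  isLocalHom_fstHom k k

instance isLocalHom_aug₂ : IsLocalHom ((aug₂ k : R₂ k →ₐ[k] k) : R₂ k →+* k) :=
  isLocalHom_fstHom k (k × k)

/-- the structure map of the local ring at the unit -/
noncomputable def κ : CommRingCat.of k ⟶ A k G :=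
  Spec.preimage (G.left.fromSpecStalk (e k G) ≫ G.hom)

lemma spec_κ : Spec.map (κ (k := k) (G := G)) = G.left.fromSpecStalk (e k G) ≫ G.hom :=
  Spec.map_preimage _

/-- the augmentation of the local ring at the unit -/
noncomputable def ρ : A k G ⟶ CommRingCat.of k :=
  comor (e k G) (η[G].left : Spec (CommRingCat.of k) ⟶ G.left) rfl

lemma spec_ρ : Spec.map (ρ (k := k) (G := G)) ≫ G.left.fromSpecStalk (e k G) = η[G].left :=
  spec_comor _ _ _

lemma κ_ρ : κ (k := k) (G := G) ≫ ρ = 𝟙 (CommRingCat.of k) := by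
  apply Spec.map_injective
  rw [Spec.map_comp, spec_κ, ← Category.assoc, spec_ρ, Spec.map_id]
  exact Over.w η[G]

instance isLocalHom_ρ : IsLocalHom (ρ (k := k) (G := G)).hom :=
  isLocalHom_comor (R := CommRingCat.of k) _ _ _

section co

variable {R : Type u} [CommRing R] [Algebra k R] [IsLocalRing R] (aug : R →ₐ[k] k)
  [IsLocalHom (aug : R →+* k)]

lemma κ_co (t : pts k R ⟶ G) (ht : cpt k aug ≫ t = η[G]) :
    κ ≫ co aug t ht = CommRingCat.ofHom (algebraMap k R) := by
  apply Spec.map_injective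
  rw [Spec.map_comp, spec_κ, ← Category.assoc, spec_co]
  exact Over.w t

lemma co_aug (t : pts k R ⟶ G) (ht : cpt k aug ≫ t = η[G]) :
    co aug t ht ≫ CommRingCat.ofHom (aug : R →+* k) = ρ := by
  apply comor_unique
  rw [Spec.map_comp, Category.assoc, spec_co, ← ht]
  rfl

end co

/-! ### the differential of a tangent vector -/

/-- the differential of a tangent vector -/
noncomputable def dd (t : pts k (D k) ⟶ G) (ht : IsTan k G t) (a : A k G) : k :=
  TrivSqZeroExt.snd ((co (augD k) t ht).hom a)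

lemma dd_congr {t t' : pts k (D k) ⟶ G} (h : t = t') (ht : IsTan k G t) (a : A k G) :
    dd t ht a = dd t' (h ▸ ht) a := by
  subst h; rfl

lemma augD_j1 : (augD k).comp (j1 k) = aug₂ k := by
  refine AlgHom.ext fun x => ?_
  simp [aug₂, j1, augD, TrivSqZeroExt.fstHom_apply, TrivSqZeroExt.fst_map]

lemma augD_j2 : (augD k).comp (j2 k) = aug₂ k := by
  refine AlgHom.ext fun x => ?_
  simp [aug₂, j2, augD, TrivSqZeroExt.fstHom_apply, TrivSqZeroExt.fst_map]

lemma augD_δ : (augD k).comp (δ k) = aug₂ k := by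
  refine AlgHom.ext fun x => ?_
  simp [aug₂, δ, augD, TrivSqZeroExt.fstHom_apply, TrivSqZeroExt.fst_map]

lemma dd_mul {t₁ t₂ : pts k (D k) ⟶ G} (h₁ : IsTan k G t₁) (h₂ : IsTan k G t₂) (a : A k G) :
    dd (t₁ * t₂) (isTan_mul k h₁ h₂) a = dd t₁ h₁ a + dd t₂ h₂ a := by
  obtain ⟨T, hT, hT1, hT2, hT3⟩ := exists_interp k h₁ h₂
  have e1 : co (augD k) t₁ h₁ =
      co (aug₂ k) T hT ≫ CommRingCat.ofHom ((j1 k : R₂ k →ₐ[k] D k) : R₂ k →+* D k) := by
    rw [← co_ptsMap (aug₂ k) (augD k) (j1 k) augD_j1 T hT]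
    exact co_congr _ hT1.symm _
  have e2 : co (augD k) t₂ h₂ =
      co (aug₂ k) T hT ≫ CommRingCat.ofHom ((j2 k : R₂ k →ₐ[k] D k) : R₂ k →+* D k) := by
    rw [← co_ptsMap (aug₂ k) (augD k) (j2 k) augD_j2 T hT]
    exact co_congr _ hT2.symm _
  have e3 : co (augD k) (t₁ * t₂) (isTan_mul k h₁ h₂) =
      co (aug₂ k) T hT ≫ CommRingCat.ofHom ((δ k : R₂ k →ₐ[k] D k) : R₂ k →+* D k) := by
    rw [← co_ptsMap (aug₂ k) (augD k) (δ k) augD_δ T hT]
    exact co_congr _ hT3.symm _
  unfold dd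
  rw [e1, e2, e3]
  simp only [CommRingCat.hom_comp, CommRingCat.hom_ofHom, RingHom.comp_apply, RingHom.coe_coe]
  set x := (co (aug₂ k) T hT).hom a
  simp [j1, j2, δ, TrivSqZeroExt.snd_map]

lemma dd_pow {t : pts k (D k) ⟶ G} (h : IsTan k G t) (n : ℕ) (hn : 0 < n) (a : A k G) :
    dd (t ^ n) (isTan_pow k h n hn) a = n * dd t h a := by
  induction n with
  | zero => omega
  | succ m ih =>
    rcases Nat.eq_zero_or_pos m with rfl | hm
    · rw [dd_congr (show t ^ (0 + 1) = t by rw [zero_add, pow_one])]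
      simp
    · rw [dd_congr (pow_succ t m), dd_mul (isTan_pow k h m hm) h, ih hm]
      push_cast
      ring

/-! ### the power maps on the local ring -/

lemma unit_pow (n : ℕ) : (η[G] : 𝟙_ (Over (Spec (CommRingCat.of k))) ⟶ G) ^ n = η[G] := by
  have h1 : (1 : 𝟙_ (Over (Spec (CommRingCat.of k))) ⟶ G) = η[G] := by
    rw [Hom.one_def]
    have : toUnit (𝟙_ (Over (Spec (CommRingCat.of k)))) = 𝟙 _ := toUnit_unique _ _
    rw [this, Category.id_comp]
  rw [← h1, one_pow]

lemma unit_comp_pow (n : ℕ) : η[G] ≫ ((𝟙 G : G ⟶ G) ^ n) = η[G] := by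
  rw [MonObj.comp_pow, Category.comp_id, unit_pow]

lemma pow_e (n : ℕ) : ((𝟙 G : G ⟶ G) ^ n).left (e k G) = e k G := by
  unfold e
  rw [← Scheme.Hom.comp_apply, ← Over.comp_left, unit_comp_pow]

/-- the endomorphism of the local ring at the unit induced by the `n`-th power map -/
noncomputable def ψ (n : ℕ) : A k G ⟶ A k G :=
  comor (e k G) (G.left.fromSpecStalk (e k G) ≫ ((𝟙 G : G ⟶ G) ^ n).left) (by
    rw [Scheme.Hom.comp_apply, Scheme.fromSpecStalk_closedPoint, pow_e])

lemma spec_ψ (n : ℕ) : Spec.map (ψ (k := k) (G := G) n) ≫ G.left.fromSpecStalk (e k G) =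
    G.left.fromSpecStalk (e k G) ≫ ((𝟙 G : G ⟶ G) ^ n).left := spec_comor _ _ _

lemma ψ_eq (n : ℕ) : ψ (k := k) (G := G) n =
    G.left.presheaf.stalkSpecializes (specializes_of_eq (pow_e n)) ≫
      ((𝟙 G : G ⟶ G) ^ n).left.stalkMap (e k G) :=
  comor_fromSpecStalk_comp (e k G) _ (e k G) (pow_e n)

lemma ψ_ρ (n : ℕ) : ψ (k := k) (G := G) n ≫ ρ = ρ := by
  apply comor_unique
  rw [Spec.map_comp, Category.assoc, spec_ψ, ← Category.assoc, spec_ρ, ← Over.comp_left,
    unit_comp_pow]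

lemma κ_ψ (n : ℕ) : κ ≫ ψ (k := k) (G := G) n = κ := by
  apply Spec.map_injective
  rw [Spec.map_comp, spec_κ, ← Category.assoc, spec_ψ, Category.assoc, Over.w]

lemma co_pow {t : pts k (D k) ⟶ G} (h : IsTan k G t) (n : ℕ) (hn : 0 < n) :
    co (augD k) (t ^ n) (isTan_pow k h n hn) = ψ n ≫ co (augD k) t h := by
  symm
  apply co_unique
  rw [Spec.map_comp, Category.assoc, spec_ψ, ← Category.assoc, spec_co]
  have h2 : t ≫ (𝟙 G : G ⟶ G) ^ n = t ^ n := by rw [MonObj.comp_pow, Category.comp_id]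
  rw [← h2]
  rfl

lemma dd_ψ {t : pts k (D k) ⟶ G} (h : IsTan k G t) (n : ℕ) (hn : 0 < n) (a : A k G) :
    dd t h ((ψ n).hom a) = n * dd t h a := by
  rw [← dd_pow h n hn]
  unfold dd
  rw [co_pow h n hn]
  rfl

end Groth.Agent.Helper3.TanVec
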