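import Mathlib
import Groth.Agent.Helper3.TanVec

set_option autoImplicit false
set_option linter.style.haveILetI false
set_option linter.unusedSectionVars false
set_option linter.unusedVariables false
set_option linter.style.haveILetI false
set_option linter.unusedSectionVars false
set_option linter.unusedVariables false

universe u
open CategoryTheory CategoryTheory.Limits MonoidalCategory CartesianMonoidalCategory MonObj GrpObj
  AlgebraicGeometry IsLocalRing

namespace Groth.Agent.Helper3.TanSep

open Groth.Agent.Helper3.LocPt Groth.Agent.Helper3.TanPts Groth.Agent.Helper3.TanStalk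
  Groth.Agent.Helper3.TanVec

variable {k : Type u} [Field k] {G : Over (Spec (CommRingCat.of k))} [GrpObj G]

lemma ρ_κ_apply (c : k) : (ρ (k := k) (G := G)).hom ((κ (k := k) (G := G)).hom c) = c := by
  have := κ_ρ (k := k) (G := G)
  exact congrArg (fun f => f.hom c) this

lemma mem_maximalIdeal_iff (a : A k G) : a ∈ maximalIdeal (A k G) ↔ (ρ (k := k) (G := G)).hom a = 0 := by
  rw [mem_maximalIdeal, mem_nonunits_iff, ← isUnit_map_iff (ρ (k := k) (G := G)).hom a,
    isUnit_iff_ne_zero, not_not]

/-- derivation data at the unit -/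
structure Der (k : Type u) [Field k] (G : Over (Spec (CommRingCat.of k))) [GrpObj G] where
  v : A k G → k
  add : ∀ a b, v (a + b) = v a + v b
  smul : ∀ c a, v ((κ (k := k) (G := G)).hom c * a) = c * v a
  one : v 1 = 0
  sq : ∀ x y, (ρ (k := k) (G := G)).hom x = 0 → (ρ (k := k) (G := G)).hom y = 0 → v (x * y) = 0

namespace Der

variable (d : Der k G)

lemma zero : d.v 0 = 0 := by
  have := d.add 0 0
  rw [add_zero] at this
  exact left_eq_add.mp this

lemma κ_eq (c : k) : d.v ((κ (k := k) (G := G)).hom c) = 0 := by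
  have := d.smul c 1
  rwa [_root_.mul_one, d.one, mul_zero] at this

lemma neg (a : A k G) : d.v (-a) = - d.v a := by
  have := d.add a (-a)
  rw [add_neg_cancel, d.zero] at this
  exact eq_neg_of_add_eq_zero_right this.symm

lemma sub (a b : A k G) : d.v (a - b) = d.v a - d.v b := by
  rw [sub_eq_add_neg, d.add, d.neg, sub_eq_add_neg]

lemma leibniz (a b : A k G) :
    d.v (a * b) = (ρ (k := k) (G := G)).hom a * d.v b + (ρ (k := k) (G := G)).hom b * d.v a := by
  set α := (ρ (k := k) (G := G)).hom a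
  set β := (ρ (k := k) (G := G)).hom b
  set a' := a - (κ (k := k) (G := G)).hom α with ha'
  set b' := b - (κ (k := k) (G := G)).hom β with hb'
  have hρa' : (ρ (k := k) (G := G)).hom a' = 0 := by
    rw [ha', map_sub, ρ_κ_apply, sub_self]
  have hρb' : (ρ (k := k) (G := G)).hom b' = 0 := by
    rw [hb', map_sub, ρ_κ_apply, sub_self]
  have hva' : d.v a' = d.v a := by rw [ha', d.sub, d.κ_eq, sub_zero]
  have hvb' : d.v b' = d.v b := by rw [hb', d.sub, d.κ_eq, sub_zero]
  have hab : a * b = (κ (k := k) (G := G)).hom (α * β) + ((κ (k := k) (G := G)).hom α * b' +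
      ((κ (k := k) (G := G)).hom β * a' + a' * b')) := by
    rw [ha', hb', map_mul]; ring
  rw [hab, d.add, d.add, d.add, d.κ_eq, d.smul, d.smul, d.sq _ _ hρa' hρb', hva', hvb']
  ring

/-- the ring homomorphism into the dual numbers -/
noncomputable def β : A k G →+* D k where
  toFun a := TrivSqZeroExt.inl ((ρ (k := k) (G := G)).hom a) + TrivSqZeroExt.inr (d.v a)
  map_one' := by
    rw [map_one, d.one, TrivSqZeroExt.inr_zero, add_zero, TrivSqZeroExt.inl_one]
  map_mul' a b := by
    apply TrivSqZeroExt.ext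
    · simp
    · simp only [TrivSqZeroExt.snd_add, TrivSqZeroExt.snd_inl, TrivSqZeroExt.snd_inr, zero_add,
        TrivSqZeroExt.snd_mul, TrivSqZeroExt.fst_add, TrivSqZeroExt.fst_inl, TrivSqZeroExt.fst_inr,
        add_zero, d.leibniz]
      simp [mul_comm]
  map_zero' := by
    rw [map_zero, d.zero, TrivSqZeroExt.inr_zero, add_zero, TrivSqZeroExt.inl_zero]
  map_add' a b := by
    rw [map_add, d.add, TrivSqZeroExt.inl_add, TrivSqZeroExt.inr_add]
    abel

lemma snd_β (a : A k G) : TrivSqZeroExt.snd (d.β a) = d.v a := by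
  simp [β]

lemma κ_β : κ (k := k) (G := G) ≫ CommRingCat.ofHom d.β =
    CommRingCat.ofHom (algebraMap k (D k)) := by
  refine CommRingCat.hom_ext (RingHom.ext fun c => ?_)
  change d.β ((κ (k := k) (G := G)).hom c) = algebraMap k (D k) c
  change (TrivSqZeroExt.inl _ + TrivSqZeroExt.inr _ : D k) = _
  rw [ρ_κ_apply, d.κ_eq, TrivSqZeroExt.inr_zero, add_zero, TrivSqZeroExt.algebraMap_eq_inl]

lemma β_aug : CommRingCat.ofHom d.β ≫ CommRingCat.ofHom ((augD k : D k →ₐ[k] k) : D k →+* k) =
    ρ := by
  refine CommRingCat.hom_ext (RingHom.ext fun a => ?_)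
  change (augD k) (d.β a) = _
  change TrivSqZeroExt.fst (TrivSqZeroExt.inl _ + TrivSqZeroExt.inr _ : D k) = _
  simp

/-- the tangent vector of a derivation -/
noncomputable def tv : pts k (D k) ⟶ G :=
  Over.homMk (Spec.map (CommRingCat.ofHom d.β) ≫ G.left.fromSpecStalk (e k G)) (by
    have h : Spec.map (CommRingCat.ofHom d.β) ≫ G.left.fromSpecStalk (e k G) ≫ G.hom =
        Spec.map (CommRingCat.ofHom (algebraMap k (D k))) := by
      rw [← spec_κ, ← Spec.map_comp]
      exact congrArg Spec.map d.κ_β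
    exact (Category.assoc _ _ _).trans h)

lemma tv_left : d.tv.left = Spec.map (CommRingCat.ofHom d.β) ≫ G.left.fromSpecStalk (e k G) := rfl

lemma isTan_tv : IsTan k G d.tv := by
  change _ ≫ _ = _
  ext
  have h : Spec.map (CommRingCat.ofHom ((augD k : D k →ₐ[k] k) : D k →+* k)) ≫
      Spec.map (CommRingCat.ofHom d.β) ≫ G.left.fromSpecStalk (e k G) = η[G].left := by
    rw [← Category.assoc, ← Spec.map_comp]
    exact (congrArg (fun f => Spec.map f ≫ G.left.fromSpecStalk (e k G)) d.β_aug).trans spec_ρ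
  exact h

lemma co_tv : co (augD k) d.tv d.isTan_tv = CommRingCat.ofHom d.β :=
  (co_unique _ _ _ _ rfl).symm

lemma dd_tv (a : A k G) : dd d.tv d.isTan_tv a = d.v a := by
  unfold dd
  rw [d.co_tv]
  exact d.snd_β a

lemma v_ψ (n : ℕ) (hn : 0 < n) (a : A k G) : d.v ((ψ n).hom a) = n * d.v a := by
  rw [← d.dd_tv, ← d.dd_tv, dd_ψ d.isTan_tv n hn]

end Der

/-- the `k`-algebra structure on the local ring at the unit -/
noncomputable def algA : Algebra k (A k G) := (κ (k := k) (G := G)).hom.toAlgebra

attribute [local instance] algA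

lemma algebraMap_eq (c : k) : algebraMap k (A k G) c = (κ (k := k) (G := G)).hom c := rfl

/-- derivation data from a linear functional vanishing on `1` and on `m²` -/
noncomputable def Der.ofLinear (f : A k G →ₗ[k] k) (h1 : f 1 = 0)
    (h2 : ∀ x ∈ maximalIdeal (A k G) ^ 2, f x = 0) : Der k G where
  v := f
  add := map_add f
  smul c a := by rw [← algebraMap_eq, ← Algebra.smul_def, map_smul, smul_eq_mul]
  one := h1
  sq x y hx hy := h2 _ (by
    rw [pow_two]
    exact Ideal.mul_mem_mul ((mem_maximalIdeal_iff x).mpr hx) ((mem_maximalIdeal_iff y).mpr hy))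

lemma ρ_ψ_apply (n : ℕ) (a : A k G) :
    (ρ (k := k) (G := G)).hom ((ψ n).hom a) = (ρ (k := k) (G := G)).hom a :=
  congrArg (fun f => f.hom a) (ψ_ρ (k := k) (G := G) n)

lemma κ_ψ_apply (n : ℕ) (c : k) :
    (ψ n).hom ((κ (k := k) (G := G)).hom c) = (κ (k := k) (G := G)).hom c :=
  congrArg (fun f => f.hom c) (κ_ψ (k := k) (G := G) n)

/-- the `n`-th power map acts on the cotangent space at the unit as multiplication by `n` -/
theorem ψ_sub_mem (n : ℕ) (hn : 0 < n) (a : A k G) (ha : a ∈ maximalIdeal (A k G)) :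
    (ψ n).hom a - (κ (k := k) (G := G)).hom (n : k) * a ∈ maximalIdeal (A k G) ^ 2 := by
  set w := (ψ n).hom a - (κ (k := k) (G := G)).hom (n : k) * a with hw
  have hρa : (ρ (k := k) (G := G)).hom a = 0 := (mem_maximalIdeal_iff a).mp ha
  have hρw : (ρ (k := k) (G := G)).hom w = 0 := by
    rw [hw, map_sub, map_mul, ρ_ψ_apply, hρa, mul_zero, sub_zero]
  let N : Submodule k (A k G) :=
    Submodule.span k {1} ⊔ (maximalIdeal (A k G) ^ 2).restrictScalars k
  by_contra hmem
  have hwN : w ∉ N := by
    intro hN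
    obtain ⟨y, hy, z, hz, hyz⟩ := Submodule.mem_sup.mp hN
    obtain ⟨c, rfl⟩ := Submodule.mem_span_singleton.mp hy
    have hz' : z ∈ maximalIdeal (A k G) ^ 2 := hz
    have hρz : (ρ (k := k) (G := G)).hom z = 0 :=
      (mem_maximalIdeal_iff z).mp (Ideal.pow_le_self two_ne_zero hz')
    have hc : c = 0 := by
      have := congrArg (ρ (k := k) (G := G)).hom hyz
      rw [map_add, hρz, add_zero, hρw, Algebra.smul_def, _root_.mul_one, algebraMap_eq,
        ρ_κ_apply] at this
      exact this
    rw [hc, zero_smul, zero_add] at hyz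
    exact hmem (hyz ▸ hz')
  obtain ⟨f, hfw, hNf⟩ := Submodule.exists_le_ker_of_notMem hwN
  let d := Der.ofLinear f
    (hNf (Submodule.mem_sup_left (Submodule.mem_span_singleton_self 1)))
    (fun x hx => hNf (Submodule.mem_sup_right hx))
  have hd : f ((ψ n).hom a) = n * f a := d.v_ψ n hn a
  apply hfw
  rw [hw, map_sub, ← algebraMap_eq, ← Algebra.smul_def, map_smul, smul_eq_mul]
  exact sub_eq_zero.mpr hd

/-- the `n`-th power map acts trivially on the residue field -/
theorem ψ_sub_self_mem (n : ℕ) (a : A k G) : (ψ n).hom a - a ∈ maximalIdeal (A k G) := by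
  rw [mem_maximalIdeal_iff, map_sub, ρ_ψ_apply, sub_self]

end Groth.Agent.Helper3.TanSep
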