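import Mathlib
import Groth.Agent.Helper3.TanSep
import Groth.Agent.Helper3.PowTrunc
import Groth.Agent.Helper3.ComplOI
import Groth.Agent.Helper3.StalkNbhd2

set_option autoImplicit false
set_option linter.style.haveILetI false
set_option linter.unusedSectionVars false
set_option linter.unusedVariables false
set_option linter.style.haveILetI false
set_option linter.unusedSectionVars false
set_option linter.unusedVariables false

universe u
open CategoryTheory CategoryTheory.Limits MonoidalCategory CartesianMonoidalCategory MonObj GrpObj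
  AlgebraicGeometry IsLocalRing

namespace Groth.Agent.Helper3.PowEt

open Groth.Agent.Helper3.LocPt Groth.Agent.Helper3.TanPts Groth.Agent.Helper3.TanStalk
  Groth.Agent.Helper3.TanVec Groth.Agent.Helper3.TanSep

variable {k : Type u} [Field k] {G : Over (Spec (CommRingCat.of k))} [GrpObj G]

lemma isUnit_κ (c : k) (hc : c ≠ 0) : IsUnit ((κ (k := k) (G := G)).hom c) :=
  (isUnit_iff_ne_zero.mpr hc).map _

lemma isIso_stalkSpecializes {X : Scheme.{u}} {x y : X} (h : x = y) :
    IsIso (X.presheaf.stalkSpecializes (specializes_of_eq h)) := by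
  refine ⟨X.presheaf.stalkSpecializes (specializes_of_eq h.symm), ?_, ?_⟩ <;>
  · rw [TopCat.Presheaf.stalkSpecializes_comp]
    exact TopCat.Presheaf.stalkSpecializes_refl _ _

section

variable [LocallyOfFiniteType G.hom] (n : ℕ) (hn : (n : k) ≠ 0)

include hn

lemma flat_ψ : (ψ (k := k) (G := G) n).hom.Flat := by
  haveI : IsLocallyNoetherian G.left := LocallyOfFiniteType.isLocallyNoetherian G.hom
  have hn0 : 0 < n := by
    rcases Nat.eq_zero_or_pos n with rfl | h
    · simp at hn
    · exact h
  exact Groth.Agent.Helper3.ComplOI.flat_of_truncations _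
    (Groth.Agent.Helper3.PowTrunc.truncations (ψ (k := k) (G := G) n).hom
      ((κ (k := k) (G := G)).hom (n : k)) (isUnit_κ _ hn) (ψ_sub_self_mem n)
      (fun a ha => ψ_sub_mem n hn0 a ha))

lemma map_ψ : (maximalIdeal (A k G)).map (ψ (k := k) (G := G) n).hom = maximalIdeal (A k G) := by
  haveI : IsLocallyNoetherian G.left := LocallyOfFiniteType.isLocallyNoetherian G.hom
  have hn0 : 0 < n := by
    rcases Nat.eq_zero_or_pos n with rfl | h
    · simp at hn
    · exact h
  exact Groth.Agent.Helper3.PowTrunc.map_maximalIdeal_eq (ψ (k := k) (G := G) n).hom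
      ((κ (k := k) (G := G)).hom (n : k)) (isUnit_κ _ hn) (ψ_sub_self_mem n)
      (fun a ha => ψ_sub_mem n hn0 a ha)

/-- the `n`-th power map is étale near the unit -/
theorem exists_etale_nbhd_unit :
    ∃ U : G.left.Opens, e k G ∈ U ∧ Etale (U.ι ≫ ((𝟙 G : G ⟶ G) ^ n).left) := by
  haveI : IsLocallyNoetherian G.left := LocallyOfFiniteType.isLocallyNoetherian G.hom
  set P : G.left ⟶ G.left := ((𝟙 G : G ⟶ G) ^ n).left with hP
  haveI : LocallyOfFiniteType P := by
    haveI : LocallyOfFiniteType (P ≫ G.hom) := by
      rw [hP, Over.w]; infer_instance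
    exact locallyOfFiniteType_of_comp P G.hom
  haveI : LocallyOfFinitePresentation P := inferInstance
  rw [Groth.Agent.Helper3.StalkNbhd.etale_nbhd_iff P (e k G)]
  have hψ : ψ (k := k) (G := G) n =
      G.left.presheaf.stalkSpecializes (specializes_of_eq (pow_e n)) ≫ P.stalkMap (e k G) :=
    ψ_eq n
  haveI := isIso_stalkSpecializes (X := G.left) (pow_e (k := k) (G := G) n)
  constructor
  · have h1 := flat_ψ (k := k) (G := G) n hn
    rw [hψ, CommRingCat.hom_comp, RingHom.Flat.respectsIso.cancel_left_isIso] at h1
    exact h1
  · -- formally unramified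
    set σ := (P.stalkMap (e k G)).hom with hσ
    set sp := (G.left.presheaf.stalkSpecializes (specializes_of_eq (pow_e (k := k) (G := G) n))).hom
      with hsp
    have hψσ : ∀ a, (ψ (k := k) (G := G) n).hom a = σ (sp a) := by
      intro a
      rw [hψ]
      rfl
    have hess := LocallyOfFiniteType.stalkMap P (e k G)
    algebraize [(P.stalkMap (e k G)).hom]
    haveI : IsLocalHom (algebraMap (G.left.presheaf.stalk (P (e k G)))
        (G.left.presheaf.stalk (e k G))) :=
      inferInstanceAs (IsLocalHom (P.stalkMap (e k G)).hom)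
    have hsurj : Function.Surjective
        (algebraMap (ResidueField (G.left.presheaf.stalk (P (e k G))))
          (ResidueField (G.left.presheaf.stalk (e k G)))) := by
      intro b
      obtain ⟨a, rfl⟩ := IsLocalRing.residue_surjective b
      refine ⟨IsLocalRing.residue _ (sp a), ?_⟩
      change IsLocalRing.residue _ (σ (sp a)) = _
      rw [← hψσ, ← sub_eq_zero, ← map_sub, IsLocalRing.residue_eq_zero_iff]
      exact ψ_sub_self_mem n a
    haveI : Algebra.IsSeparable (ResidueField (G.left.presheaf.stalk (P (e k G))))
        (ResidueField (G.left.presheaf.stalk (e k G))) := by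
      refine ⟨fun b => ?_⟩
      obtain ⟨a, rfl⟩ := hsurj b
      exact isSeparable_algebraMap a
    have H : (maximalIdeal (G.left.presheaf.stalk (P (e k G)))).map
        (algebraMap (G.left.presheaf.stalk (P (e k G))) (G.left.presheaf.stalk (e k G))) =
        maximalIdeal (G.left.presheaf.stalk (e k G)) := by
      refine le_antisymm ?_ ?_
      · exact ((local_hom_TFAE _).out 0 2 rfl rfl).mp ‹_›
      · have h1 := map_ψ (k := k) (G := G) n hn
        rw [← h1, Ideal.map_le_iff_le_comap]
        intro a ha
        rw [Ideal.mem_comap, hψσ]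
        refine Ideal.mem_map_of_mem _ ?_
        have : IsLocalHom sp := by
          rw [hsp]
          exact isLocalHom_of_isIso _
        by_contra hcon
        have hu : IsUnit (sp a) := by
          by_contra h2
          exact hcon ((mem_maximalIdeal _).mpr h2)
        exact ((mem_maximalIdeal a).mp ha) (this.map_nonunit a hu)
    exact Algebra.FormallyUnramified.of_map_maximalIdeal H

end

end Groth.Agent.Helper3.PowEt
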