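import Mathlib
import Groth.Prelude
import Groth.Agent.Helper3.PowEt

set_option autoImplicit false
set_option linter.style.haveILetI false
set_option linter.unusedSectionVars false
set_option linter.unusedVariables false
set_option linter.deprecated false
set_option linter.style.haveILetI false
set_option linter.unusedSectionVars false
set_option linter.unusedVariables false

universe u
open CategoryTheory CategoryTheory.Limits MonoidalCategory CartesianMonoidalCategory MonObj GrpObj
  AlgebraicGeometry IsLocalRing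

namespace Groth.Agent.Helper3.TorsRed

open Groth.Agent.Helper3.LocPt Groth.Agent.Helper3.TanStalk Groth.Agent.Helper3.TanVec
open scoped CategoryTheory.Obj

section alg

theorem alg_core {R B : Type*} [CommRing R] [IsDomain R] [IsNoetherianRing R] [IsLocalRing R]
    [CommRing B] (π : R) (hπ : maximalIdeal R = Ideal.span {π}) (hπ0 : π ≠ 0)
    (a : R →+* B) (ε φ : B →+* R) (ψ : B →+* B)
    (hεa : ∀ r, ε (a r) = r) (hφa : ∀ r, φ (a r) = r)
    (hφψ : ∀ b, φ (ψ b) = ε b) (hεψ : ∀ b, ε (ψ b) = ε b)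
    (H : ∀ b, ε b = 0 → b ∈ Ideal.map ψ (RingHom.ker ε) ⊔ Ideal.span {a π}) : φ = ε := by
  set I := RingHom.ker ε with hI
  set J : Ideal R := Ideal.map φ I with hJ
  have h1 : Ideal.map ψ I ≤ I := by
    rw [Ideal.map_le_iff_le_comap]
    intro b hb
    rw [Ideal.mem_comap, hI, RingHom.mem_ker, hεψ]
    exact hb
  have h2 : Ideal.map ψ I ≤ RingHom.ker φ := by
    rw [Ideal.map_le_iff_le_comap]
    intro b hb
    rw [Ideal.mem_comap, RingHom.mem_ker, hφψ]
    exact hb
  have hJle : J ≤ maximalIdeal R • J := by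
    rw [hJ, Ideal.map_le_iff_le_comap]
    intro b hb
    rw [Ideal.mem_comap]
    have hb' := H b hb
    obtain ⟨u, hu, v, hv, rfl⟩ := Submodule.mem_sup.mp hb'
    obtain ⟨c, rfl⟩ := Ideal.mem_span_singleton'.mp hv
    have hεu : ε u = 0 := h1 hu
    have hφu : φ u = 0 := h2 hu
    have hc : ε c = 0 := by
      have : ε (u + c * a π) = 0 := hb
      rw [map_add, hεu, zero_add, map_mul, hεa] at this
      exact (mul_eq_zero.mp this).resolve_right hπ0
    rw [map_add, hφu, zero_add, map_mul, hφa, mul_comm]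
    have hπm : π ∈ maximalIdeal R := by
      rw [hπ]; exact Ideal.mem_span_singleton_self π
    have : π • φ c ∈ maximalIdeal R • J :=
      Submodule.smul_mem_smul hπm (Ideal.mem_map_of_mem _ hc)
    simpa [smul_eq_mul] using this
  have hJ0 : J = ⊥ :=
    Submodule.eq_bot_of_le_smul_of_le_jacobson_bot (maximalIdeal R) J
      (IsNoetherian.noetherian J) hJle (IsLocalRing.maximalIdeal_le_jacobson _)
  ext b
  have hmem : b - a (ε b) ∈ I := by rw [hI, RingHom.mem_ker, map_sub, hεa, sub_self]
  have h3 : φ (b - a (ε b)) ∈ J := Ideal.mem_map_of_mem _ hmem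
  rw [hJ0, Ideal.mem_bot, map_sub, hφa, sub_eq_zero] at h3
  exact h3

theorem H_of_fibre {R B A : Type*} [CommRing R] [IsLocalRing R] [CommRing B] [IsLocalRing B]
    [CommRing A] [IsLocalRing A]
    (π : R) (hπ : maximalIdeal R = Ideal.span {π})
    (a : R →+* B) (ε : B →+* R) [IsLocalHom ε] (ψ : B →+* B) (hεa : ∀ r, ε (a r) = r)
    (ρ : B →+* A) (hρ : Function.Surjective ρ) (ψ' : A →+* A)
    (hcomm : ∀ b, ρ (ψ b) = ψ' (ρ b))
    (hmap : (maximalIdeal A).map ψ' = maximalIdeal A)
    (hker : RingHom.ker ρ ≤ Ideal.span {a π}) (hρπ : ρ (a π) = 0) :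
    ∀ b, ε b = 0 → b ∈ Ideal.map ψ (RingHom.ker ε) ⊔ Ideal.span {a π} := by
  intro b hb
  haveI : IsLocalHom ρ := IsLocalHom.of_surjective ρ hρ
  have hbm : b ∈ maximalIdeal B := by
    rw [mem_maximalIdeal, mem_nonunits_iff]
    intro hu
    have := hu.map ε
    rw [hb] at this
    exact not_isUnit_zero this
  have hρb : ρ b ∈ maximalIdeal A := by
    rw [← map_maximalIdeal_of_surjective ρ hρ]
    exact Ideal.mem_map_of_mem _ hbm
  -- `𝔪_A ⊆ ρ(ker ε)`
  have hA : maximalIdeal A ≤ Ideal.map ρ (RingHom.ker ε) := by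
    intro α hα
    rw [← map_maximalIdeal_of_surjective ρ hρ, Ideal.mem_map_iff_of_surjective ρ hρ] at hα
    obtain ⟨b', hb', rfl⟩ := hα
    have h1 : ε b' ∈ maximalIdeal R := by
      rw [mem_maximalIdeal, mem_nonunits_iff]
      intro hu
      exact ((mem_maximalIdeal _).mp hb') (isUnit_of_map_unit ε b' hu)
    rw [hπ] at h1
    obtain ⟨r, hr⟩ := Ideal.mem_span_singleton'.mp h1
    have h2 : b' - a r * a π ∈ RingHom.ker ε := by
      rw [RingHom.mem_ker, map_sub, map_mul, hεa, hεa, hr, sub_self]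
    have h3 : ρ (b' - a r * a π) = ρ b' := by
      rw [map_sub, map_mul, hρπ, mul_zero, sub_zero]
    rw [← h3]
    exact Ideal.mem_map_of_mem _ h2
  have h4 : ρ b ∈ Ideal.map ρ (Ideal.map ψ (RingHom.ker ε)) := by
    rw [← hmap] at hρb
    have h5 : Ideal.map ψ' (maximalIdeal A) ≤ Ideal.map ρ (Ideal.map ψ (RingHom.ker ε)) := by
      refine (Ideal.map_mono hA).trans ?_
      rw [Ideal.map_map, Ideal.map_map]
      have : ψ'.comp ρ = ρ.comp ψ := by
        ext b
        exact (hcomm b).symm
      rw [this]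
    exact h5 hρb
  rw [Ideal.mem_map_iff_of_surjective ρ hρ] at h4
  obtain ⟨u, hu, hub⟩ := h4
  have h6 : b - u ∈ RingHom.ker ρ := by
    rw [RingHom.mem_ker, map_sub, hub, sub_self]
  have h7 := hker h6
  have : b = u + (b - u) := by ring
  rw [this]
  exact Submodule.add_mem_sup hu h7

end alg


section geom

variable {R : Type u} [CommRing R] [IsLocalRing R]
  (N : Over (Spec (CommRingCat.of R))) [GrpObj N]

/-- the closed point inclusion -/
noncomputable abbrev q : Spec (CommRingCat.of (ResidueField R)) ⟶ Spec (CommRingCat.of R) :=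
  Spec.map (CommRingCat.ofHom (residue R))

/-- the special fibre -/
noncomputable abbrev Nk : Over (Spec (CommRingCat.of (ResidueField R))) :=
  (Over.pullback (q (R := R))).obj N

/-- the inclusion of the special fibre -/
noncomputable abbrev j : (Nk N).left ⟶ N.left := pullback.fst N.hom (q (R := R))

/-- the value of the unit section at the closed point -/
noncomputable def z : N.left := η[N].left (closedPoint R)

lemma map_left_fst {X Y : Scheme.{u}} (f : X ⟶ Y) {g h : Over Y} (i : g ⟶ h) :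
    ((Over.pullback f).map i).left ≫ pullback.fst h.hom f = pullback.fst g.hom f ≫ i.left :=
  pullback.lift_fst _ _ _

lemma unit_fst : η[Nk N].left ≫ j N = q (R := R) ≫ η[N].left := by
  rw [Functor.obj.η_def, Over.comp_left, Over.ε_pullback_left, Category.assoc,
    map_left_fst, IsIso.inv_comp_eq, ← Category.assoc, ← pullback.condition]
  simp

lemma q_closedPoint : (q (R := R)) (closedPoint (ResidueField R)) = closedPoint R := by
  haveI : IsLocalHom (CommRingCat.ofHom (residue R)).hom := inferInstanceAs (IsLocalHom (residue R))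
  exact Spec_closedPoint (f := CommRingCat.ofHom (residue R))

lemma j_e : (j N) (e (ResidueField R) (Nk N)) = z N := by
  unfold e z
  rw [← Scheme.Hom.comp_apply, unit_fst, Scheme.Hom.comp_apply, q_closedPoint]

lemma pow_fst (n : ℕ) :
    ((𝟙 (Nk N) : Nk N ⟶ Nk N) ^ n).left ≫ j N = j N ≫ ((𝟙 N : N ⟶ N) ^ n).left := by
  have h1 : (Over.pullback (q (R := R))).map ((𝟙 N : N ⟶ N) ^ n) = (𝟙 (Nk N) : Nk N ⟶ Nk N) ^ n := by
    have := map_pow ((Over.pullback (q (R := R))).homMonoidHom (X := N) (M := N)) (𝟙 N) n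
    simpa using this
  rw [← h1]
  exact map_left_fst _ _

instance : IsClosedImmersion (q (R := R)) :=
  IsClosedImmersion.spec_of_surjective _ (residue_surjective)

instance : IsClosedImmersion (j N) := by
  unfold j
  infer_instance

/-- the local ring at `z` -/
noncomputable abbrev B : CommRingCat.{u} := N.left.presheaf.stalk (z N)

/-- the structure map -/
noncomputable def a : CommRingCat.of R ⟶ B N :=
  Spec.preimage (N.left.fromSpecStalk (z N) ≫ N.hom)

lemma spec_a : Spec.map (a N) = N.left.fromSpecStalk (z N) ≫ N.hom := Spec.map_preimage _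

/-- the comorphism of a section through `z` -/
noncomputable def loc (y : 𝟙_ (Over (Spec (CommRingCat.of R))) ⟶ N)
    (hy : y.left (closedPoint R) = z N) : B N ⟶ CommRingCat.of R :=
  comor (z N) (y.left : Spec (CommRingCat.of R) ⟶ N.left) hy

lemma spec_loc (y : 𝟙_ (Over (Spec (CommRingCat.of R))) ⟶ N)
    (hy : y.left (closedPoint R) = z N) :
    Spec.map (loc N y hy) ≫ N.left.fromSpecStalk (z N) = y.left := spec_comor _ _ _

lemma a_loc (y : 𝟙_ (Over (Spec (CommRingCat.of R))) ⟶ N)
    (hy : y.left (closedPoint R) = z N) : a N ≫ loc N y hy = 𝟙 _ := by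
  apply Spec.map_injective
  rw [Spec.map_comp, spec_a, ← Category.assoc, spec_loc, Spec.map_id]
  exact Over.w y

instance (y : 𝟙_ (Over (Spec (CommRingCat.of R))) ⟶ N)
    (hy : y.left (closedPoint R) = z N) : IsLocalHom (loc N y hy).hom :=
  isLocalHom_comor (R := CommRingCat.of R) _ _ _

lemma pow_z (n : ℕ) : ((𝟙 N : N ⟶ N) ^ n).left (z N) = z N := by
  unfold z
  rw [← Scheme.Hom.comp_apply, ← Over.comp_left, MonObj.comp_pow, Category.comp_id]
  have h1 : (1 : 𝟙_ (Over (Spec (CommRingCat.of R))) ⟶ N) = η[N] := by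
    rw [Hom.one_def]
    have : toUnit (𝟙_ (Over (Spec (CommRingCat.of R)))) = 𝟙 _ := toUnit_unique _ _
    rw [this, Category.id_comp]
  rw [← h1, one_pow]

/-- the endomorphism of `B` induced by the `n`-th power map -/
noncomputable def ψR (n : ℕ) : B N ⟶ B N :=
  comor (z N) (N.left.fromSpecStalk (z N) ≫ ((𝟙 N : N ⟶ N) ^ n).left) (by
    rw [Scheme.Hom.comp_apply, Scheme.fromSpecStalk_closedPoint, pow_z])

lemma spec_ψR (n : ℕ) : Spec.map (ψR N n) ≫ N.left.fromSpecStalk (z N) =
    N.left.fromSpecStalk (z N) ≫ ((𝟙 N : N ⟶ N) ^ n).left := spec_comor _ _ _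

lemma ψR_loc (n : ℕ) (y : 𝟙_ (Over (Spec (CommRingCat.of R))) ⟶ N)
    (hy : y.left (closedPoint R) = z N) (hy' : (y ^ n).left (closedPoint R) = z N) :
    ψR N n ≫ loc N y hy = loc N (y ^ n) hy' := by
  apply comor_unique
  rw [Spec.map_comp, Category.assoc, spec_ψR, ← Category.assoc, spec_loc, ← Over.comp_left,
    MonObj.comp_pow, Category.comp_id]

/-- restriction to the special fibre -/
noncomputable def ρk : B N ⟶ A (ResidueField R) (Nk N) :=
  comor (z N) ((Nk N).left.fromSpecStalk (e (ResidueField R) (Nk N)) ≫ j N) (by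
    rw [Scheme.Hom.comp_apply, Scheme.fromSpecStalk_closedPoint, j_e])

lemma spec_ρk : Spec.map (ρk N) ≫ N.left.fromSpecStalk (z N) =
    (Nk N).left.fromSpecStalk (e (ResidueField R) (Nk N)) ≫ j N := spec_comor _ _ _

lemma ρk_surjective : Function.Surjective (ρk N).hom := by
  have h1 : ρk N = N.left.presheaf.stalkSpecializes (specializes_of_eq (j_e N)) ≫
      (j N).stalkMap (e (ResidueField R) (Nk N)) :=
    comor_fromSpecStalk_comp (e (ResidueField R) (Nk N)) _ (z N) (j_e N)
  rw [h1, CommRingCat.hom_comp]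
  haveI := Groth.Agent.Helper3.PowEt.isIso_stalkSpecializes (X := N.left) (j_e N)
  refine ((j N).stalkMap_surjective _).comp ?_
  exact (ConcreteCategory.bijective_of_isIso
    (N.left.presheaf.stalkSpecializes (specializes_of_eq (j_e N)))).2

lemma ψR_ρk (n : ℕ) : ψR N n ≫ ρk N = ρk N ≫ ψ (k := ResidueField R) (G := Nk N) n := by
  apply Spec.map_injective
  rw [← cancel_mono (N.left.fromSpecStalk (z N))]
  have h1 : Spec.map (ψR N n ≫ ρk N) ≫ N.left.fromSpecStalk (z N) =
      (Nk N).left.fromSpecStalk (e (ResidueField R) (Nk N)) ≫ j N ≫ ((𝟙 N : N ⟶ N) ^ n).left := by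
    rw [Spec.map_comp, Category.assoc, spec_ψR, ← Category.assoc, spec_ρk, Category.assoc]
  have h2 : Spec.map (ρk N ≫ ψ (k := ResidueField R) (G := Nk N) n) ≫ N.left.fromSpecStalk (z N) =
      (Nk N).left.fromSpecStalk (e (ResidueField R) (Nk N)) ≫ j N ≫ ((𝟙 N : N ⟶ N) ^ n).left := by
    rw [Spec.map_comp, Category.assoc, spec_ρk, ← Category.assoc, spec_ψ, Category.assoc, pow_fst]
  rw [h1, h2]

lemma a_ρk : a N ≫ ρk N = CommRingCat.ofHom (residue R) ≫ κ (k := ResidueField R) (G := Nk N) := by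
  apply Spec.map_injective
  rw [Spec.map_comp, spec_a, ← Category.assoc, spec_ρk, Category.assoc, Spec.map_comp, spec_κ,
    Category.assoc]
  congr 1
  exact pullback.condition

end geom


section ker

variable {R : Type u} [CommRing R] [IsLocalRing R]
  (N : Over (Spec (CommRingCat.of R))) [GrpObj N]

lemma loc_congr {y y' : 𝟙_ (Over (Spec (CommRingCat.of R))) ⟶ N} (h : y = y')
    (hy : y.left (closedPoint R) = z N) (hy' : y'.left (closedPoint R) = z N) :
    loc N y hy = loc N y' hy' := by
  subst h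
  rfl

lemma one_eq : (1 : 𝟙_ (Over (Spec (CommRingCat.of R))) ⟶ N) = η[N] := by
  rw [Hom.one_def]
  have : toUnit (𝟙_ (Over (Spec (CommRingCat.of R)))) = 𝟙 _ := toUnit_unique _ _
  rw [this, Category.id_comp]

lemma a_mem (π : R) (hπ : π ∈ maximalIdeal R) : (a N).hom π ∈ maximalIdeal (B N) := by
  rw [mem_maximalIdeal, mem_nonunits_iff]
  intro hu
  have h1 := hu.map (loc N η[N] rfl).hom
  have h2 : (loc N η[N] rfl).hom ((a N).hom π) = π := by
    have := a_loc N η[N] rfl
    exact congrArg (fun f => f.hom π) this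
  rw [h2] at h1
  exact ((mem_maximalIdeal _).mp hπ) h1

lemma ker_ρk_le (π : R) (hπ : maximalIdeal R = Ideal.span {π}) :
    RingHom.ker (ρk N).hom ≤ Ideal.span {(a N).hom π} := by
  set I : Ideal (B N) := Ideal.span {(a N).hom π} with hI
  have hπm : π ∈ maximalIdeal R := by
    rw [hπ]; exact Ideal.mem_span_singleton_self π
  have hIm : I ≤ maximalIdeal (B N) := by
    rw [hI, Ideal.span_le, Set.singleton_subset_iff]
    exact a_mem N π hπm
  haveI : Nontrivial (B N ⧸ I) := by
    rw [Ideal.Quotient.nontrivial_iff]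
    intro h
    rw [h] at hIm
    exact (maximalIdeal.isMaximal (B N)).ne_top (top_le_iff.mp hIm)
  haveI : IsLocalRing (B N ⧸ I) :=
    IsLocalRing.of_surjective' (Ideal.Quotient.mk I) Ideal.Quotient.mk_surjective
  let quot : B N ⟶ CommRingCat.of (B N ⧸ I) := CommRingCat.ofHom (Ideal.Quotient.mk I)
  haveI : IsLocalHom quot.hom := IsLocalHom.of_surjective _ Ideal.Quotient.mk_surjective
  let kQ : ResidueField R →+* (B N ⧸ I) :=
    Ideal.Quotient.lift (maximalIdeal R) ((Ideal.Quotient.mk I).comp (a N).hom) (by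
      intro r hr
      rw [hπ] at hr
      obtain ⟨s, rfl⟩ := Ideal.mem_span_singleton'.mp hr
      rw [RingHom.comp_apply, Ideal.Quotient.eq_zero_iff_mem, map_mul]
      exact I.mul_mem_left _ (Ideal.subset_span rfl))
  have hkQ : CommRingCat.ofHom (residue R) ≫ CommRingCat.ofHom kQ = a N ≫ quot := by
    ext r
    rfl
  let t : Spec (CommRingCat.of (B N ⧸ I)) ⟶ (Nk N).left :=
    pullback.lift (Spec.map quot ≫ N.left.fromSpecStalk (z N)) (Spec.map (CommRingCat.ofHom kQ)) (by
      rw [Category.assoc, ← spec_a, ← Spec.map_comp, ← Spec.map_comp, hkQ])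
  have htj : t ≫ j N = Spec.map quot ≫ N.left.fromSpecStalk (z N) := pullback.lift_fst _ _ _
  have ht : t (closedPoint (B N ⧸ I)) = e (ResidueField R) (Nk N) := by
    apply (j N).isClosedEmbedding.injective
    rw [← Scheme.Hom.comp_apply, htj, Scheme.Hom.comp_apply, j_e]
    have : (Spec.map quot) (closedPoint (B N ⧸ I)) = closedPoint (B N) :=
      Spec_closedPoint (f := quot)
    rw [this, Scheme.fromSpecStalk_closedPoint]
  let σ : A (ResidueField R) (Nk N) ⟶ CommRingCat.of (B N ⧸ I) :=
    comor (e (ResidueField R) (Nk N)) t ht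
  have hσ : ρk N ≫ σ = quot := by
    apply Spec.map_injective
    rw [← cancel_mono (N.left.fromSpecStalk (z N)), Spec.map_comp, Category.assoc, spec_ρk,
      ← Category.assoc, spec_comor, htj]
  intro b hb
  rw [RingHom.mem_ker] at hb
  have h1 : quot.hom b = 0 := by
    rw [← hσ, CommRingCat.hom_comp, RingHom.comp_apply, hb, map_zero]
  exact Ideal.Quotient.eq_zero_iff_mem.mp h1

end ker

section main

theorem main (R : Type u) [CommRing R] [IsDomain R] [IsDiscreteValuationRing R]
    (N : Over (Spec (CommRingCat.of R))) [GrpObj N] [LocallyOfFiniteType N.hom]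
    (x : 𝟙_ (Over (Spec (CommRingCat.of R))) ⟶ N) (n : ℕ) (hn : ((n : ℕ) : ResidueField R) ≠ 0)
    (hx : x ^ n = 1)
    (hred : x.left (closedPoint R) = η[N].left (closedPoint R)) : x = 1 := by
  obtain ⟨π, hπirr⟩ := IsDiscreteValuationRing.exists_irreducible R
  have hπ : maximalIdeal R = Ideal.span {π} := hπirr.maximalIdeal_eq
  have hπ0 : π ≠ 0 := hπirr.ne_zero
  have hπm : π ∈ maximalIdeal R := by
    rw [hπ]; exact Ideal.mem_span_singleton_self π
  have h1 := one_eq N
  have hxz : x.left (closedPoint R) = z N := hred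
  set ε := loc N η[N] rfl with hε
  set φ := loc N x hxz with hφ
  have hφψ : ψR N n ≫ φ = ε := by
    rw [hφ, ψR_loc N n x hxz (by rw [hx, h1]; rfl)]
    exact loc_congr N (by rw [hx, h1]) _ _
  have hεψ : ψR N n ≫ ε = ε := by
    have h2 : (η[N] : 𝟙_ (Over (Spec (CommRingCat.of R))) ⟶ N) ^ n = η[N] := by
      rw [← h1, one_pow]
    rw [hε, ψR_loc N n η[N] rfl (by rw [h2]; rfl)]
    exact loc_congr N h2 _ _
  have hεa : ∀ r, ε.hom ((a N).hom r) = r := fun r =>
    congrArg (fun f => f.hom r) (a_loc N η[N] rfl)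
  have hφa : ∀ r, φ.hom ((a N).hom r) = r := fun r =>
    congrArg (fun f => f.hom r) (a_loc N x hxz)
  haveI : LocallyOfFiniteType (Nk N).hom := by
    change LocallyOfFiniteType (pullback.snd N.hom (q (R := R)))
    infer_instance
  have hmap := Groth.Agent.Helper3.PowEt.map_ψ (k := ResidueField R) (G := Nk N) n hn
  have hcomm : ∀ b, (ρk N).hom ((ψR N n).hom b) =
      (ψ (k := ResidueField R) (G := Nk N) n).hom ((ρk N).hom b) := fun b =>
    congrArg (fun f => f.hom b) (ψR_ρk N n)
  have hρπ : (ρk N).hom ((a N).hom π) = 0 := by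
    have h3 := congrArg (fun f => f.hom π) (a_ρk N)
    simp only [CommRingCat.hom_comp, RingHom.comp_apply] at h3
    rw [h3]
    have : (CommRingCat.ofHom (residue R)).hom π = 0 := by
      change residue R π = 0
      rw [residue_eq_zero_iff]
      exact hπm
    rw [this, map_zero]
  haveI : IsLocalHom ε.hom := by
    rw [hε]; infer_instance
  have H := H_of_fibre π hπ (a N).hom ε.hom (ψR N n).hom hεa (ρk N).hom (ρk_surjective N)
    (ψ (k := ResidueField R) (G := Nk N) n).hom hcomm hmap (ker_ρk_le N π hπ) hρπ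
  have hfin : φ.hom = ε.hom :=
    alg_core π hπ hπ0 (a N).hom ε.hom φ.hom (ψR N n).hom hεa hφa
      (fun b => congrArg (fun f => f.hom b) hφψ) (fun b => congrArg (fun f => f.hom b) hεψ) H
  have hfin' : φ = ε := CommRingCat.hom_ext hfin
  rw [h1]
  apply Over.OverMorphism.ext
  rw [← spec_loc N x hxz, ← spec_loc N η[N] rfl, ← hφ, ← hε, hfin']

end main

end Groth.Agent.Helper3.TorsRed
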