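import Mathlib
import Groth.Prelude
import Groth.Agent.Helper3.TorsRed

set_option autoImplicit false
set_option linter.style.haveILetI false
set_option linter.unusedSectionVars false
set_option linter.unusedVariables false
set_option linter.deprecated false
set_option linter.style.haveILetI false
set_option linter.unusedSectionVars false
set_option linter.unusedVariables false

universe u
open CategoryTheory CategoryTheory.Limits MonoidalCategory CartesianMonoidalCategory MonObj GrpObj
  AlgebraicGeometry IsLocalRing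

namespace Groth.Agent.Helper3.TorsRedG

open Groth.Agent.Helper3.LocPt Groth.Agent.Helper3.TanStalk Groth.Agent.Helper3.TanVec
  Groth.Agent.Helper3.TorsRed
open scoped CategoryTheory.Obj

section alg

/-- elements of `a(𝔪)B` killed by `ε` lie in `a(𝔪) · ker ε` -/
lemma mem_mul_ker {R B : Type*} [CommRing R] [IsLocalRing R] [CommRing B]
    (a : R →+* B) (ε : B →+* R) (hεa : ∀ r, ε (a r) = r) (v : B)
    (hv : v ∈ Ideal.map a (maximalIdeal R)) :
    ε v ∈ maximalIdeal R ∧ v - a (ε v) ∈ Ideal.map a (maximalIdeal R) * RingHom.ker ε := by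
  rw [Ideal.map] at hv
  induction hv using Submodule.span_induction with
  | mem x hx =>
    obtain ⟨r, hr, rfl⟩ := hx
    rw [hεa, sub_self]
    exact ⟨hr, Ideal.zero_mem _⟩
  | zero => simp
  | add x y _ _ hx hy =>
    refine ⟨by rw [map_add]; exact Ideal.add_mem _ hx.1 hy.1, ?_⟩
    have : x + y - a (ε (x + y)) = (x - a (ε x)) + (y - a (ε y)) := by
      rw [map_add, map_add]; ring
    rw [this]
    exact Ideal.add_mem _ hx.2 hy.2
  | smul c x hxmem hx =>
    have hxmem' : x ∈ Ideal.map a (maximalIdeal R) := hxmem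
    refine ⟨by rw [smul_eq_mul, map_mul]; exact Ideal.mul_mem_left _ _ hx.1, ?_⟩
    have : c • x - a (ε (c • x)) = c * (x - a (ε x)) + a (ε x) * (c - a (ε c)) := by
      rw [smul_eq_mul, map_mul, map_mul]; ring
    rw [this]
    refine Ideal.add_mem _ (Ideal.mul_mem_left _ _ hx.2) ?_
    refine Ideal.mul_mem_mul (Ideal.mem_map_of_mem _ hx.1) ?_
    rw [RingHom.mem_ker, map_sub, hεa, sub_self]

theorem alg_core {R B : Type*} [CommRing R] [IsLocalRing R]
    [CommRing B]
    (a : R →+* B) (ε φ : B →+* R) (ψ : B →+* B)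
    (hεa : ∀ r, ε (a r) = r) (hφa : ∀ r, φ (a r) = r)
    (hφψ : ∀ b, φ (ψ b) = ε b) (hεψ : ∀ b, ε (ψ b) = ε b)
    (hfg : (Ideal.map φ (RingHom.ker ε)).FG)
    (H : ∀ b, ε b = 0 → b ∈ Ideal.map ψ (RingHom.ker ε) ⊔ Ideal.map a (maximalIdeal R)) :
    φ = ε := by
  set I := RingHom.ker ε with hI
  set J : Ideal R := Ideal.map φ I with hJ
  have h1 : Ideal.map ψ I ≤ I := by
    rw [Ideal.map_le_iff_le_comap]
    intro b hb
    rw [Ideal.mem_comap, hI, RingHom.mem_ker, hεψ]
    exact hb
  have h2 : Ideal.map ψ I ≤ RingHom.ker φ := by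
    rw [Ideal.map_le_iff_le_comap]
    intro b hb
    rw [Ideal.mem_comap, RingHom.mem_ker, hφψ]
    exact hb
  have hφam : Ideal.map φ (Ideal.map a (maximalIdeal R)) = maximalIdeal R := by
    rw [Ideal.map_map]
    have : φ.comp a = RingHom.id R := by
      ext r; exact hφa r
    rw [this, Ideal.map_id]
  have hJle : J ≤ maximalIdeal R • J := by
    rw [hJ, Ideal.map_le_iff_le_comap]
    intro b hb
    rw [Ideal.mem_comap]
    have hb' := H b hb
    obtain ⟨u, hu, v, hv, rfl⟩ := Submodule.mem_sup.mp hb'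
    have hεu : ε u = 0 := h1 hu
    have hφu : φ u = 0 := h2 hu
    have hεv : ε v = 0 := by
      have : ε (u + v) = 0 := hb
      rw [map_add, hεu, zero_add] at this
      exact this
    have hv2 := (mem_mul_ker a ε hεa v hv).2
    rw [hεv, map_zero, sub_zero] at hv2
    rw [map_add, hφu, zero_add, smul_eq_mul, ← hφam, ← Ideal.map_mul]
    exact Ideal.mem_map_of_mem _ hv2
  have hJ0 : J = ⊥ :=
    Submodule.eq_bot_of_le_smul_of_le_jacobson_bot (maximalIdeal R) J
      hfg hJle (IsLocalRing.maximalIdeal_le_jacobson _)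
  ext b
  have hmem : b - a (ε b) ∈ I := by rw [hI, RingHom.mem_ker, map_sub, hεa, sub_self]
  have h3 : φ (b - a (ε b)) ∈ J := Ideal.mem_map_of_mem _ hmem
  rw [hJ0, Ideal.mem_bot, map_sub, hφa, sub_eq_zero] at h3
  exact h3

theorem H_of_fibre {R B A : Type*} [CommRing R] [IsLocalRing R] [CommRing B] [IsLocalRing B]
    [CommRing A] [IsLocalRing A]
    (a : R →+* B) (ε : B →+* R) [IsLocalHom ε] (ψ : B →+* B) (hεa : ∀ r, ε (a r) = r)
    (ρ : B →+* A) (hρ : Function.Surjective ρ) (ψ' : A →+* A)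
    (hcomm : ∀ b, ρ (ψ b) = ψ' (ρ b))
    (hmap : (maximalIdeal A).map ψ' = maximalIdeal A)
    (hker : RingHom.ker ρ ≤ Ideal.map a (maximalIdeal R))
    (hρπ : ∀ r ∈ maximalIdeal R, ρ (a r) = 0) :
    ∀ b, ε b = 0 → b ∈ Ideal.map ψ (RingHom.ker ε) ⊔ Ideal.map a (maximalIdeal R) := by
  intro b hb
  haveI : IsLocalHom ρ := IsLocalHom.of_surjective ρ hρ
  have hbm : b ∈ maximalIdeal B := by
    rw [mem_maximalIdeal, mem_nonunits_iff]
    intro hu
    have := hu.map ε
    rw [hb] at this
    exact not_isUnit_zero this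
  have hρb : ρ b ∈ maximalIdeal A := by
    rw [← map_maximalIdeal_of_surjective ρ hρ]
    exact Ideal.mem_map_of_mem _ hbm
  have hA : maximalIdeal A ≤ Ideal.map ρ (RingHom.ker ε) := by
    intro α hα
    rw [← map_maximalIdeal_of_surjective ρ hρ, Ideal.mem_map_iff_of_surjective ρ hρ] at hα
    obtain ⟨b', hb', rfl⟩ := hα
    have h1 : ε b' ∈ maximalIdeal R := by
      rw [mem_maximalIdeal, mem_nonunits_iff]
      intro hu
      exact ((mem_maximalIdeal _).mp hb') (isUnit_of_map_unit ε b' hu)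
    have h2 : b' - a (ε b') ∈ RingHom.ker ε := by
      rw [RingHom.mem_ker, map_sub, hεa, sub_self]
    have h3 : ρ (b' - a (ε b')) = ρ b' := by
      rw [map_sub, hρπ _ h1, sub_zero]
    rw [← h3]
    exact Ideal.mem_map_of_mem _ h2
  have h4 : ρ b ∈ Ideal.map ρ (Ideal.map ψ (RingHom.ker ε)) := by
    rw [← hmap] at hρb
    have h5 : Ideal.map ψ' (maximalIdeal A) ≤ Ideal.map ρ (Ideal.map ψ (RingHom.ker ε)) := by
      refine (Ideal.map_mono hA).trans ?_
      rw [Ideal.map_map, Ideal.map_map]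
      have : ψ'.comp ρ = ρ.comp ψ := by
        ext b
        exact (hcomm b).symm
      rw [this]
    exact h5 hρb
  rw [Ideal.mem_map_iff_of_surjective ρ hρ] at h4
  obtain ⟨u, hu, hub⟩ := h4
  have h6 : b - u ∈ RingHom.ker ρ := by
    rw [RingHom.mem_ker, map_sub, hub, sub_self]
  have h7 := hker h6
  have : b = u + (b - u) := by ring
  rw [this]
  exact Submodule.add_mem_sup hu h7

/-- finite generation of `φ(ker ε)` -/
theorem fg_lemma {R C B : Type*} [CommRing R] [CommRing C] [CommRing B]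
    (a₀ : R →+* C) (hft : a₀.FiniteType) (gm : C →+* B)
    (hloc : ∀ b : B, ∃ c s : C, IsUnit (gm s) ∧ b * gm s = gm c)
    (φ ε : B →+* R) (hφ : ∀ r, φ (gm (a₀ r)) = r) (hε : ∀ r, ε (gm (a₀ r)) = r) :
    (Ideal.map φ (RingHom.ker ε)).FG := by
  algebraize [a₀]
  obtain ⟨s, hs⟩ := (inferInstance : Algebra.FiniteType R C).out
  set δ : B → R := fun b => φ b - ε b with hδ
  set J' : Ideal R := Ideal.span ((fun c => δ (gm c)) '' (s : Set C)) with hJ'
  have hmul : ∀ x y : B, δ (x * y) = φ x * δ y + δ x * ε y := by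
    intro x y
    simp only [hδ, map_mul]
    ring
  have h1 : ∀ c : C, δ (gm c) ∈ J' := by
    intro c
    have hc : c ∈ Algebra.adjoin R (s : Set C) := by rw [hs]; trivial
    induction hc using Algebra.adjoin_induction with
    | mem x hx => exact Ideal.subset_span ⟨x, hx, rfl⟩
    | algebraMap r =>
      have : δ (gm (algebraMap R C r)) = 0 := by
        show φ (gm (a₀ r)) - ε (gm (a₀ r)) = 0
        rw [hφ, hε, sub_self]
      rw [this]
      exact Ideal.zero_mem _
    | add x y _ _ hx hy =>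
      have : δ (gm (x + y)) = δ (gm x) + δ (gm y) := by
        simp only [hδ, map_add]; ring
      rw [this]
      exact Ideal.add_mem _ hx hy
    | mul x y _ _ hx hy =>
      rw [map_mul, hmul]
      exact Ideal.add_mem _ (Ideal.mul_mem_left _ _ hy) (Ideal.mul_mem_right _ _ hx)
  have h2 : ∀ b : B, δ b ∈ J' := by
    intro b
    obtain ⟨c, t, ht, hbt⟩ := hloc b
    have h3 : δ b * φ (gm t) = δ (gm c) - ε b * δ (gm t) := by
      have e1 : φ b * φ (gm t) = φ (gm c) := by rw [← map_mul, hbt]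
      have e2 : ε b * ε (gm t) = ε (gm c) := by rw [← map_mul, hbt]
      simp only [hδ]
      rw [sub_mul, e1, mul_sub, e2]
      ring
    have h4 : δ b * φ (gm t) ∈ J' := by
      rw [h3]
      exact Ideal.sub_mem _ (h1 c) (Ideal.mul_mem_left _ _ (h1 t))
    have hu : IsUnit (φ (gm t)) := ht.map φ
    obtain ⟨w, hw⟩ := hu.exists_right_inv
    have : δ b = δ b * φ (gm t) * w := by rw [_root_.mul_assoc, hw, _root_.mul_one]
    rw [this]
    exact Ideal.mul_mem_right _ _ h4
  have heq : Ideal.map φ (RingHom.ker ε) = J' := by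
    refine le_antisymm ?_ ?_
    · rw [Ideal.map_le_iff_le_comap]
      intro b hb
      rw [Ideal.mem_comap]
      have : φ b = δ b := by
        simp only [hδ]
        rw [RingHom.mem_ker.mp hb, sub_zero]
      rw [this]
      exact h2 b
    · rw [hJ', Ideal.span_le]
      rintro _ ⟨c, hc, rfl⟩
      have h5 : gm c - gm (a₀ (ε (gm c))) ∈ RingHom.ker ε := by
        rw [RingHom.mem_ker, map_sub, hε, sub_self]
      have h6 : φ (gm c - gm (a₀ (ε (gm c)))) = δ (gm c) := by
        simp only [hδ]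
        rw [map_sub, hφ]
      show δ (gm c) ∈ Ideal.map φ (RingHom.ker ε)
      rw [← h6]
      exact Ideal.mem_map_of_mem _ h5
  rw [heq]
  classical
  exact ⟨s.image (fun c => δ (gm c)), by rw [hJ', Finset.coe_image]⟩

end alg


section geom

variable {R : Type u} [CommRing R] [IsLocalRing R]
  (N : Over (Spec (CommRingCat.of R))) [GrpObj N]

lemma ker_ρk_le :
    RingHom.ker (ρk N).hom ≤ Ideal.map (a N).hom (maximalIdeal R) := by
  set I : Ideal (B N) := Ideal.map (a N).hom (maximalIdeal R) with hI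
  have hIm : I ≤ maximalIdeal (B N) := by
    rw [hI, Ideal.map_le_iff_le_comap]
    intro r hr
    exact a_mem N r hr
  haveI : Nontrivial (B N ⧸ I) := by
    rw [Ideal.Quotient.nontrivial_iff]
    intro h
    rw [h] at hIm
    exact (maximalIdeal.isMaximal (B N)).ne_top (top_le_iff.mp hIm)
  haveI : IsLocalRing (B N ⧸ I) :=
    IsLocalRing.of_surjective' (Ideal.Quotient.mk I) Ideal.Quotient.mk_surjective
  let quot : B N ⟶ CommRingCat.of (B N ⧸ I) := CommRingCat.ofHom (Ideal.Quotient.mk I)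
  haveI : IsLocalHom quot.hom := IsLocalHom.of_surjective _ Ideal.Quotient.mk_surjective
  let kQ : ResidueField R →+* (B N ⧸ I) :=
    Ideal.Quotient.lift (maximalIdeal R) ((Ideal.Quotient.mk I).comp (a N).hom) (by
      intro r hr
      rw [RingHom.comp_apply, Ideal.Quotient.eq_zero_iff_mem]
      exact Ideal.mem_map_of_mem _ hr)
  have hkQ : CommRingCat.ofHom (residue R) ≫ CommRingCat.ofHom kQ = a N ≫ quot := by
    ext r
    rfl
  let t : Spec (CommRingCat.of (B N ⧸ I)) ⟶ (Nk N).left :=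
    pullback.lift (Spec.map quot ≫ N.left.fromSpecStalk (z N)) (Spec.map (CommRingCat.ofHom kQ)) (by
      rw [Category.assoc, ← spec_a, ← Spec.map_comp, ← Spec.map_comp, hkQ])
  have htj : t ≫ j N = Spec.map quot ≫ N.left.fromSpecStalk (z N) := pullback.lift_fst _ _ _
  have ht : t (closedPoint (B N ⧸ I)) = e (ResidueField R) (Nk N) := by
    apply (j N).isClosedEmbedding.injective
    rw [← Scheme.Hom.comp_apply, htj, Scheme.Hom.comp_apply, j_e]
    have : (Spec.map quot) (closedPoint (B N ⧸ I)) = closedPoint (B N) :=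
      Spec_closedPoint (f := quot)
    rw [this, Scheme.fromSpecStalk_closedPoint]
  let σ : A (ResidueField R) (Nk N) ⟶ CommRingCat.of (B N ⧸ I) :=
    comor (e (ResidueField R) (Nk N)) t ht
  have hσ : ρk N ≫ σ = quot := by
    apply Spec.map_injective
    rw [← cancel_mono (N.left.fromSpecStalk (z N)), Spec.map_comp, Category.assoc, spec_ρk,
      ← Category.assoc, spec_comor, htj]
  intro b hb
  rw [RingHom.mem_ker] at hb
  have h1 : quot.hom b = 0 := by
    rw [← hσ, CommRingCat.hom_comp, RingHom.comp_apply, hb, map_zero]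
  exact Ideal.Quotient.eq_zero_iff_mem.mp h1

set_option maxHeartbeats 16000000 in
lemma fg_ker [LocallyOfFiniteType N.hom] (φ ε : B N ⟶ CommRingCat.of R)
    (hφ : a N ≫ φ = 𝟙 _) (hε : a N ≫ ε = 𝟙 _) :
    (Ideal.map φ.hom (RingHom.ker ε.hom)).FG := by
  obtain ⟨_, ⟨U, hU, rfl⟩, hzU, -⟩ := N.left.isBasis_affineOpens.exists_subset_of_mem_open
    (Set.mem_univ (z N)) isOpen_univ
  have hU' : IsAffineOpen (U : N.left.Opens) := hU
  haveI : IsOpenImmersion hU'.fromSpec := hU'.isOpenImmersion_fromSpec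
  let a₀ : CommRingCat.of R ⟶ Γ(N.left, U) := Spec.preimage (hU'.fromSpec ≫ N.hom)
  have ha₀ : Spec.map a₀ = hU'.fromSpec ≫ N.hom := Spec.map_preimage _
  have hft : a₀.hom.FiniteType := by
    have : LocallyOfFiniteType (Spec.map a₀) := by
      rw [ha₀]; infer_instance
    exact (HasRingHomProperty.Spec_iff (P := @LocallyOfFiniteType)).mp this
  have hcomp : a₀ ≫ N.left.presheaf.germ U (z N) hzU = a N := by
    apply Spec.map_injective
    rw [Spec.map_comp, ha₀, spec_a, ← Category.assoc,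
      ← hU'.fromSpecStalk_eq_fromSpecStalk hzU]
    rfl
  have hloc : ∀ b : B N, ∃ c s : Γ(N.left, U),
      IsUnit ((N.left.presheaf.germ U (z N) hzU).hom s) ∧
        b * (N.left.presheaf.germ U (z N) hzU).hom s = (N.left.presheaf.germ U (z N) hzU).hom c := by
    intro b
    letI := N.left.presheaf.algebra_section_stalk ⟨z N, hzU⟩
    haveI := hU'.isLocalization_stalk ⟨z N, hzU⟩
    obtain ⟨⟨c, s⟩, hcs⟩ := IsLocalization.surj (hU'.primeIdealOf ⟨z N, hzU⟩).asIdeal.primeCompl b
    exact ⟨c, s.1, IsLocalization.map_units _ s, hcs⟩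
  refine fg_lemma a₀.hom hft (N.left.presheaf.germ U (z N) hzU).hom hloc φ.hom ε.hom ?_ ?_
  · intro r
    have := congrArg (fun f => f.hom r) hφ
    rw [← hcomp] at this
    exact this
  · intro r
    have := congrArg (fun f => f.hom r) hε
    rw [← hcomp] at this
    exact this

theorem main (R : Type u) [CommRing R] [IsLocalRing R]
    (N : Over (Spec (CommRingCat.of R))) [GrpObj N] [LocallyOfFiniteType N.hom]
    (x : 𝟙_ (Over (Spec (CommRingCat.of R))) ⟶ N) (n : ℕ) (hn : ((n : ℕ) : ResidueField R) ≠ 0)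
    (hx : x ^ n = 1)
    (hred : x.left (closedPoint R) = η[N].left (closedPoint R)) : x = 1 := by
  have h1 := one_eq N
  have hxz : x.left (closedPoint R) = z N := hred
  set ε := loc N η[N] rfl with hε
  set φ := loc N x hxz with hφ
  have hφψ : ψR N n ≫ φ = ε := by
    rw [hφ, ψR_loc N n x hxz (by rw [hx, h1]; rfl)]
    exact loc_congr N (by rw [hx, h1]) _ _
  have hεψ : ψR N n ≫ ε = ε := by
    have h2 : (η[N] : 𝟙_ (Over (Spec (CommRingCat.of R))) ⟶ N) ^ n = η[N] := by
      rw [← h1, one_pow]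
    rw [hε, ψR_loc N n η[N] rfl (by rw [h2]; rfl)]
    exact loc_congr N h2 _ _
  have hεa : ∀ r, ε.hom ((a N).hom r) = r := fun r =>
    congrArg (fun f => f.hom r) (a_loc N η[N] rfl)
  have hφa : ∀ r, φ.hom ((a N).hom r) = r := fun r =>
    congrArg (fun f => f.hom r) (a_loc N x hxz)
  haveI : LocallyOfFiniteType (Nk N).hom := by
    change LocallyOfFiniteType (pullback.snd N.hom (q (R := R)))
    infer_instance
  have hmap := Groth.Agent.Helper3.PowEt.map_ψ (k := ResidueField R) (G := Nk N) n hn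
  have hcomm : ∀ b, (ρk N).hom ((ψR N n).hom b) =
      (ψ (k := ResidueField R) (G := Nk N) n).hom ((ρk N).hom b) := fun b =>
    congrArg (fun f => f.hom b) (ψR_ρk N n)
  have hρπ : ∀ r ∈ maximalIdeal R, (ρk N).hom ((a N).hom r) = 0 := by
    intro r hr
    have h3 := congrArg (fun f => f.hom r) (a_ρk N)
    simp only [CommRingCat.hom_comp, RingHom.comp_apply] at h3
    rw [h3]
    have : (CommRingCat.ofHom (residue R)).hom r = 0 := by
      change residue R r = 0
      rw [residue_eq_zero_iff]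
      exact hr
    rw [this, map_zero]
  haveI : IsLocalHom ε.hom := by
    rw [hε]; infer_instance
  have H := H_of_fibre (a N).hom ε.hom (ψR N n).hom hεa (ρk N).hom (ρk_surjective N)
    (ψ (k := ResidueField R) (G := Nk N) n).hom hcomm hmap (ker_ρk_le N) hρπ
  have hfg := fg_ker N φ ε (a_loc N x hxz) (a_loc N η[N] rfl)
  have hfin : φ.hom = ε.hom :=
    alg_core (a N).hom ε.hom φ.hom (ψR N n).hom hεa hφa
      (fun b => congrArg (fun f => f.hom b) hφψ) (fun b => congrArg (fun f => f.hom b) hεψ) hfg H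
  have hfin' : φ = ε := CommRingCat.hom_ext hfin
  rw [h1]
  apply Over.OverMorphism.ext
  rw [← spec_loc N x hxz, ← spec_loc N η[N] rfl, ← hφ, ← hε, hfin']

end geom

end Groth.Agent.Helper3.TorsRedG
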