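import Mathlib
import Groth.Prelude
import Groth.Agent.Helper3.TorsRedG
import Groth.Agent.Helper3.BcHom

set_option autoImplicit false
set_option linter.style.haveILetI false
set_option linter.unusedSectionVars false
set_option linter.unusedVariables false
set_option linter.deprecated false
set_option linter.style.haveILetI false
set_option linter.unusedSectionVars false
set_option linter.unusedVariables false

universe u
open CategoryTheory CategoryTheory.Limits MonoidalCategory CartesianMonoidalCategory MonObj GrpObj
  AlgebraicGeometry IsLocalRing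

namespace Groth.Agent.Helper3.TorsRedH

open Groth.Agent.Helper3.BcHom
open scoped CategoryTheory.Obj

/-- torsion points with values in a local ring, of order invertible in the residue field, which
reduce to the unit are trivial -/
theorem main_pts {S : Scheme.{u}} (N : Over S) [GrpObj N] [LocallyOfFiniteType N.hom]
    (R₁ : Type u) [CommRing R₁] [IsLocalRing R₁] (g : Spec (CommRingCat.of R₁) ⟶ S)
    (y : (Over.map g).obj (𝟙_ (Over (Spec (CommRingCat.of R₁)))) ⟶ N) (n : ℕ)
    (hn : ((n : ℕ) : ResidueField R₁) ≠ 0) (hy : y ^ n = 1)
    (hred : Spec.map (CommRingCat.ofHom (residue R₁)) ≫ y.left =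
      Spec.map (CommRingCat.ofHom (residue R₁)) ≫ g ≫ η[N].left) : y = 1 := by
  haveI : LocallyOfFiniteType ((Over.pullback g).obj N).hom := by
    change LocallyOfFiniteType (pullback.snd N.hom g)
    infer_instance
  set v := Θinv g y with hvdef
  have hv : Θ g v = y := Θ_Θinv g y
  have hvn : v ^ n = 1 := Θ_injective g (by rw [Θ_pow, hv, hy, Θ_one])
  have hmor : Spec.map (CommRingCat.ofHom (residue R₁)) ≫ v.left =
      Spec.map (CommRingCat.ofHom (residue R₁)) ≫ η[(Over.pullback g).obj N].left := by
    apply pullback.hom_ext
    · rw [Category.assoc, Category.assoc, ← Θ_left, hv, hred, unit_fst]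
    · have h1 : v.left ≫ pullback.snd N.hom g = 𝟙 _ := Over.w v
      have h2 : η[(Over.pullback g).obj N].left ≫ pullback.snd N.hom g = 𝟙 _ :=
        Over.w η[(Over.pullback g).obj N]
      rw [Category.assoc, Category.assoc, h1, h2]
  have hc : Spec.map (CommRingCat.ofHom (residue R₁)) (closedPoint (ResidueField R₁)) =
      closedPoint R₁ := Groth.Agent.Helper3.TorsRed.q_closedPoint
  have hvred : v.left (closedPoint R₁) = η[(Over.pullback g).obj N].left (closedPoint R₁) := by
    rw [← hc, ← Scheme.Hom.comp_apply, hmor, Scheme.Hom.comp_apply]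
  have h3 := Groth.Agent.Helper3.TorsRedG.main R₁ ((Over.pullback g).obj N) v n hn hvn hvred
  rw [← hv, h3, Θ_one]

end Groth.Agent.Helper3.TorsRedH
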