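import Mathlib
import Groth.Prelude
import Groth.Agent.Helper3.TorsRedH

set_option autoImplicit false
set_option linter.style.haveILetI false
set_option linter.unusedSectionVars false
set_option linter.unusedVariables false
set_option linter.deprecated false
set_option linter.style.haveILetI false
set_option linter.unusedSectionVars false
set_option linter.unusedVariables false

universe u
open CategoryTheory CategoryTheory.Limits MonoidalCategory CartesianMonoidalCategory MonObj GrpObj
  AlgebraicGeometry IsLocalRing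

namespace Groth.Agent.Helper3.NosA

open Groth.Agent.Helper3.BcHom
open scoped CategoryTheory.Obj

variable {R K Ω : Type u} [CommRing R] [IsLocalRing R] [Field K] [Algebra R K] [Field Ω]
  [Algebra K Ω] (W : ValuationSubring Ω) (hW : SGA7.LiesOver K R W)

/-- the structure map `R → W` -/
def ιRW : R →+* W where
  toFun r := ⟨algebraMap K Ω (algebraMap R K r), hW.1 r⟩
  map_one' := Subtype.ext (by simp)
  map_mul' a b := Subtype.ext (by simp)
  map_zero' := Subtype.ext (by simp)
  map_add' a b := Subtype.ext (by simp)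

/-- the restriction of an inertia element to `W` -/
def σW (σ : Ω ≃ₐ[K] Ω) (hσ : SGA7.IsInertia W σ) : W →+* W where
  toFun w := ⟨σ w.1, (hσ w.1 w.2).1⟩
  map_one' := Subtype.ext (by simp)
  map_mul' a b := Subtype.ext (by simp)
  map_zero' := Subtype.ext (by simp)
  map_add' a b := Subtype.ext (by simp)

lemma residue_σW (σ : Ω ≃ₐ[K] Ω) (hσ : SGA7.IsInertia W σ) :
    (residue W).comp (σW W σ hσ) = residue W := by
  ext w
  rw [RingHom.comp_apply, ← sub_eq_zero, ← map_sub, residue_eq_zero_iff,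
    ValuationSubring.valuation_lt_one_iff]
  exact (hσ w.1 w.2).2

include hW in
lemma unit_ιRW (n : ℕ) (hn : ((n : ℕ) : ResidueField R) ≠ 0) : ((n : ℕ) : ResidueField W) ≠ 0 := by
  have h1 : IsUnit ((n : ℕ) : R) := by
    by_contra h
    apply hn
    have : ((n : ℕ) : R) ∈ maximalIdeal R := (mem_maximalIdeal _).mpr h
    rw [← residue_eq_zero_iff] at this
    rw [← this, map_natCast]
  have h2 : IsUnit ((n : ℕ) : W) := by
    have := h1.map (ιRW W hW)
    rwa [map_natCast] at this
  intro h
  have h3 : ((n : ℕ) : W) ∈ maximalIdeal W := by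
    rw [← residue_eq_zero_iff, map_natCast]
    exact h
  exact ((mem_maximalIdeal _).mp h3) h2


section core

variable (B : Over (Spec (CommRingCat.of R))) [GrpObj B]

/-- `Spec K → Spec R` -/
noncomputable abbrev gK : Spec (CommRingCat.of K) ⟶ Spec (CommRingCat.of R) :=
  Spec.map (CommRingCat.ofHom (algebraMap R K))

/-- `Spec W → Spec R` -/
noncomputable abbrev gW : Spec (CommRingCat.of W) ⟶ Spec (CommRingCat.of R) :=
  Spec.map (CommRingCat.ofHom (ιRW W hW))

/-- `Spec Ω` over `Spec R` -/
noncomputable abbrev TΩ : Over (Spec (CommRingCat.of R)) :=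
  (Over.map (gK (R := R) (K := K))).obj (SGA7.pt Ω)

/-- `Spec W` over `Spec R` -/
noncomputable abbrev TW : Over (Spec (CommRingCat.of R)) :=
  (Over.map (gW W hW)).obj (𝟙_ (Over (Spec (CommRingCat.of W))))

/-- the generic point of `Spec W` -/
noncomputable def iΩ : TΩ (R := R) (K := K) (Ω := Ω) ⟶ TW W hW :=
  Over.homMk (Spec.map (CommRingCat.ofHom W.subtype)) (by
    show Spec.map (CommRingCat.ofHom W.subtype) ≫ (𝟙 _ ≫ gW W hW) =
      Spec.map (CommRingCat.ofHom (algebraMap K Ω)) ≫ gK
    rw [Category.id_comp, ← Spec.map_comp, ← Spec.map_comp]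
    rfl)

instance : IsDominant (iΩ W hW).left := by
  constructor
  show DenseRange (PrimeSpectrum.comap W.subtype)
  rw [PrimeSpectrum.denseRange_comap_iff_ker_le_nilRadical]
  intro w hw
  rw [RingHom.mem_ker] at hw
  have : w = 0 := Subtype.ext hw
  rw [this]
  exact Ideal.zero_mem _

/-- the action of an inertia element on `Spec W` -/
noncomputable def sσ (σ : Ω ≃ₐ[K] Ω) (hσ : SGA7.IsInertia W σ) : TW W hW ⟶ TW W hW :=
  Over.homMk (Spec.map (CommRingCat.ofHom (σW W σ hσ))) (by
    show Spec.map (CommRingCat.ofHom (σW W σ hσ)) ≫ (𝟙 _ ≫ gW W hW) = 𝟙 _ ≫ gW W hW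
    rw [Category.id_comp, ← Spec.map_comp]
    congr 1
    ext r
    show σ (algebraMap K Ω (algebraMap R K r)) = algebraMap K Ω (algebraMap R K r)
    exact σ.commutes _)

lemma iΩ_sσ (σ : Ω ≃ₐ[K] Ω) (hσ : SGA7.IsInertia W σ) :
    (Over.map (gK (R := R) (K := K))).map (SGA7.specAut σ) ≫ iΩ W hW = iΩ W hW ≫ sσ W hW σ hσ := by
  apply Over.OverMorphism.ext
  show Spec.map (CommRingCat.ofHom (σ : Ω →+* Ω)) ≫ Spec.map (CommRingCat.ofHom W.subtype) =
    Spec.map (CommRingCat.ofHom W.subtype) ≫ Spec.map (CommRingCat.ofHom (σW W σ hσ))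
  rw [← Spec.map_comp, ← Spec.map_comp]
  rfl

/-- the closed point of `Spec W` -/
noncomputable abbrev Tκ : Over (Spec (CommRingCat.of R)) :=
  Over.mk (Spec.map (CommRingCat.ofHom (residue W)) ≫ (TW W hW).hom)

noncomputable def cκ : Tκ W hW ⟶ TW W hW :=
  Over.homMk (Spec.map (CommRingCat.ofHom (residue W))) rfl

lemma cκ_sσ (σ : Ω ≃ₐ[K] Ω) (hσ : SGA7.IsInertia W σ) :
    cκ W hW ≫ sσ W hW σ hσ = cκ W hW := by
  apply Over.OverMorphism.ext
  show Spec.map (CommRingCat.ofHom (residue W)) ≫ Spec.map (CommRingCat.ofHom (σW W σ hσ)) =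
    Spec.map (CommRingCat.ofHom (residue W))
  rw [← Spec.map_comp, ← CommRingCat.ofHom_comp, residue_σW]

/-- restriction to the generic point is injective -/
lemma iΩ_injective [IsSeparated B.hom] (u₁ u₂ : TW W hW ⟶ B) (h : iΩ W hW ≫ u₁ = iΩ W hW ≫ u₂) :
    u₁ = u₂ := by
  apply Over.OverMorphism.ext
  haveI : IsReduced (TW W hW).left := by
    show IsReduced (Spec (CommRingCat.of W))
    infer_instance
  refine ext_of_isDominant_of_isSeparated B.hom ((Over.w u₁).trans (Over.w u₂).symm)
    (iΩ W hW).left ?_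
  exact congrArg (fun f => f.left) h

/-- extension of `Ω`-points to `W`-points -/
lemma exists_ext [IsProper B.hom] (ξ : TΩ (R := R) (K := K) (Ω := Ω) ⟶ B) :
    ∃ u : TW W hW ⟶ B, iΩ W hW ≫ u = ξ := by
  have hex : ValuativeCriterion.Existence B.hom := by
    have h : (ValuativeCriterion.Existence ⊓ @QuasiCompact) B.hom := by
      rw [← UniversallyClosed.eq_valuativeCriterion]
      infer_instance
    exact h.1
  let Sq : ValuativeCommSq B.hom :=
    { R := W
      K := Ω
      i₁ := ξ.left
      i₂ := (TW W hW).hom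
      commSq := ⟨by
        rw [Over.w ξ]
        exact (Over.w (iΩ W hW)).symm⟩ }
  obtain ⟨⟨l, hl1, hl2⟩⟩ := hex Sq
  refine ⟨Over.homMk l hl2, ?_⟩
  apply Over.OverMorphism.ext
  exact hl1

end core

end Groth.Agent.Helper3.NosA
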