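import Mathlib
import Groth.Prelude
import Groth.Agent.Helper3.NosA

set_option autoImplicit false
set_option linter.style.haveILetI false
set_option linter.unusedSectionVars false
set_option linter.unusedVariables false
set_option linter.deprecated false
set_option linter.style.haveILetI false
set_option linter.unusedSectionVars false
set_option linter.unusedVariables false

universe u
open CategoryTheory CategoryTheory.Limits MonoidalCategory CartesianMonoidalCategory MonObj GrpObj
  AlgebraicGeometry IsLocalRing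

namespace Groth.Agent.Helper3.NosB

open Groth.Agent.Helper3.BcHom Groth.Agent.Helper3.NosA
open scoped CategoryTheory.Obj

variable {R K Ω : Type u} [CommRing R] [IsLocalRing R] [Field K] [Algebra R K] [Field Ω]
  [Algebra K Ω] (W : ValuationSubring Ω) (hW : SGA7.LiesOver K R W)

include hW in
theorem core (B : Over (Spec (CommRingCat.of R))) [GrpObj B] [IsProper B.hom]
    [IsCommMonObj ((Over.pullback (gK (R := R) (K := K))).obj B)]
    (n : ℕ) (hn : ((n : ℕ) : ResidueField R) ≠ 0) (σ : Ω ≃ₐ[K] Ω) (hσ : SGA7.IsInertia W σ)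
    (x' : SGA7.Pts Ω ((Over.pullback (gK (R := R) (K := K))).obj B)) (hx : x' ^ n = 1) :
    SGA7.galAct σ x' = x' := by
  obtain ⟨u, hu⟩ := exists_ext W hW B (Θ gK x')
  set a := sσ W hW σ hσ ≫ u with ha_def
  set y := a * u⁻¹ with hy_def
  have ha : iΩ W hW ≫ a = Θ gK (SGA7.galAct σ x') := by
    rw [ha_def, ← Category.assoc, ← iΩ_sσ, Category.assoc, hu, ← Θ_comp]
    rfl
  have hσx : (SGA7.galAct σ x') ^ n = 1 := by
    show (SGA7.specAut σ ≫ x') ^ n = 1
    rw [← MonObj.comp_pow, hx, MonObj.comp_one]
  have hy : y ^ n = 1 := by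
    apply iΩ_injective W hW B
    rw [MonObj.comp_pow, hy_def, MonObj.comp_mul, GrpObj.comp_inv, ha, hu, MonObj.comp_one,
      ← Θ_inv, ← Θ_mul, ← Θ_pow, ← Θ_one]
    congr 1
    rw [mul_pow, inv_pow, hx, inv_one, _root_.mul_one, hσx]
  have hκ : cκ W hW ≫ y = 1 := by
    rw [hy_def, MonObj.comp_mul, GrpObj.comp_inv, ha_def, ← Category.assoc, cκ_sσ, mul_inv_cancel]
  have hred : Spec.map (CommRingCat.ofHom (residue W)) ≫ y.left =
      Spec.map (CommRingCat.ofHom (residue W)) ≫ gW W hW ≫ η[B].left := by
    have h1 := congrArg (fun f => f.left) hκ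
    simp only [Over.comp_left] at h1
    rw [Hom.one_def, Over.comp_left] at h1
    have h2 : (toUnit (Tκ W hW)).left = (Tκ W hW).hom := by
      have := Over.w (toUnit (Tκ W hW))
      rw [← this]
      show _ = _ ≫ 𝟙 _
      rw [Category.comp_id]
    rw [h2] at h1
    rw [show (cκ W hW).left = Spec.map (CommRingCat.ofHom (residue W)) from rfl] at h1
    rw [h1]
    show (Spec.map (CommRingCat.ofHom (residue W)) ≫ (𝟙 _ ≫ gW W hW)) ≫ _ = _
    rw [Category.id_comp, Category.assoc]
  have hy1 : y = 1 := TorsRedH.main_pts B W (gW W hW) y n (unit_ιRW W hW n hn) hy hred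
  have hab : a = u := by
    have := hy1
    rw [hy_def, mul_inv_eq_one] at this
    exact this
  apply Θ_injective (gK (R := R) (K := K))
  rw [← ha, hab, hu]

end Groth.Agent.Helper3.NosB
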