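import Mathlib
import Groth.Prelude
import Groth.Agent.Helper3.NosB
import Groth.Agent.Helper3.CompGrpA
import Groth.Agent.Helper3.RigidProd

set_option autoImplicit false
set_option linter.style.haveILetI false
set_option linter.unusedSectionVars false
set_option linter.unusedVariables false
set_option linter.deprecated false
set_option linter.style.haveILetI false
set_option linter.unusedSectionVars false
set_option linter.unusedVariables false

universe u
open CategoryTheory CategoryTheory.Limits MonoidalCategory CartesianMonoidalCategory MonObj GrpObj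
  AlgebraicGeometry IsLocalRing

namespace Groth.Agent.Helper3.NosC

open Groth.Agent.Helper3.CompGrpA
open scoped CategoryTheory.Obj

section rig

variable {K : Type u} [Field K] (G A : Over (Spec (CommRingCat.of K))) [GrpObj G] [GrpObj A]
  [IsProper A.hom] [GeometricallyIntegral A.hom] (e : G ≅ A)

include e in
lemma isProper_of_iso : IsProper G.hom := by
  have h : G.hom = e.hom.left ≫ A.hom := (Over.w e.hom).symm
  haveI : IsIso e.hom.left := inferInstanceAs (IsIso ((Over.forget _).map e.hom))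
  rw [h]
  infer_instance

include e in
lemma geometricallyIntegral_of_iso : GeometricallyIntegral G.hom := by
  have h : G.hom = e.hom.left ≫ A.hom := (Over.w e.hom).symm
  haveI : IsIso e.hom.left := inferInstanceAs (IsIso ((Over.forget _).map e.hom))
  rw [h]
  exact (MorphismProperty.cancel_left_of_respectsIso @GeometricallyIntegral e.hom.left A.hom).mpr
    inferInstance

/-- the unit-preserving modification of `e` -/
noncomputable def φ : G ⟶ A := e.hom ≫ Rt (η[G] ≫ e.hom)⁻¹

instance : IsIso (φ G A e) := by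
  unfold φ
  haveI : IsIso (Rt (η[G] ≫ e.hom)⁻¹) := (RtIso (η[G] ≫ e.hom)⁻¹).isIso_hom
  infer_instance

lemma one_eq' (N : Over (Spec (CommRingCat.of K))) [GrpObj N] :
    (1 : 𝟙_ (Over (Spec (CommRingCat.of K))) ⟶ N) = η[N] := by
  rw [Hom.one_def]
  have : toUnit (𝟙_ (Over (Spec (CommRingCat.of K)))) = 𝟙 _ := toUnit_unique _ _
  rw [this, Category.id_comp]

lemma η_φ : η[G] ≫ φ G A e = η[A] := by
  unfold φ
  rw [← Category.assoc, point_comp_Rt, mul_inv_cancel, one_eq']

instance isMonHom_φ : IsMonHom (φ G A e) := by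
  haveI := isProper_of_iso G A e
  haveI := geometricallyIntegral_of_iso G A e
  refine ⟨η_φ G A e, ?_⟩
  have h0 : lift η[G] η[G] ≫ μ[G] ≫ φ G A e = η[A] := by
    rw [← Category.assoc, ← Hom.mul_def, ← one_eq', _root_.mul_one, one_eq', η_φ]
  obtain ⟨h1, -⟩ := RigidProd.main K G G A η[G] η[G] (μ[G] ≫ φ G A e) h0
  have h2 : lift (𝟙 G) (toUnit G ≫ η[G]) ≫ μ[G] = 𝟙 G := by
    rw [← Hom.mul_def, ← Hom.one_def, _root_.mul_one]
  have h3 : lift (toUnit G ≫ η[G]) (𝟙 G) ≫ μ[G] = 𝟙 G := by
    rw [← Hom.mul_def, ← Hom.one_def, _root_.one_mul]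
  rw [← Category.assoc (lift (𝟙 G) _), h2, ← Category.assoc (lift _ (𝟙 G)), h3, Category.id_comp] at h1
  rw [h1, Hom.mul_def]
  congr 1

end rig

section transfer

variable {K Ω : Type u} [Field K] [Field Ω] [Algebra K Ω]
  (G A : Over (Spec (CommRingCat.of K))) [GrpObj G] [GrpObj A]
  [IsProper A.hom] [GeometricallyIntegral A.hom] (e : G ≅ A)

include e in
theorem transfer (n : ℕ) (σ : Ω ≃ₐ[K] Ω)
    (hG : ∀ x' : SGA7.Pts Ω G, x' ^ n = 1 → SGA7.galAct σ x' = x')
    (x : SGA7.Pts Ω A) (hx : x ^ n = 1) : SGA7.galAct σ x = x := by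
  set x' : SGA7.Pts Ω G := x ≫ inv (φ G A e) with hx'
  have h1 : x' ≫ φ G A e = x := by
    rw [hx', Category.assoc, IsIso.inv_hom_id, Category.comp_id]
  have h2 : x' ^ n = 1 := by
    rw [← cancel_mono (φ G A e), MonObj.pow_comp, h1, hx, MonObj.one_comp]
  have h3 := hG x' h2
  show SGA7.specAut σ ≫ x = x
  rw [← h1, ← Category.assoc]
  show SGA7.galAct σ x' ≫ _ = _
  rw [h3]

end transfer

theorem s3210 (R K Ω : Type u) [CommRing R] [IsLocalRing R] [Field K] [Algebra R K] [Field Ω]
    [Algebra K Ω] (W : ValuationSubring Ω) (hW : SGA7.LiesOver K R W) (n : ℕ)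
    (hn : ((n : ℕ) : ResidueField R) ≠ 0)
    (A : Over (Spec (CommRingCat.of K))) [GrpObj A] [IsProper A.hom] [GeometricallyIntegral A.hom]
    (B : Over (Spec (CommRingCat.of R))) [GrpObj B] [IsProper B.hom]
    (e : (Over.pullback (Spec.map (CommRingCat.ofHom (algebraMap R K)))).obj B ≅ A)
    (σ : Ω ≃ₐ[K] Ω) (hσ : SGA7.IsInertia W σ) (x : SGA7.Pts Ω A) (hx : x ^ n = 1) :
    SGA7.galAct σ x = x := by
  haveI := isProper_of_iso _ A e
  haveI := geometricallyIntegral_of_iso _ A e
  haveI : IsCommMonObj ((Over.pullback (NosA.gK (R := R) (K := K))).obj B) :=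
    isCommMonObj_of_isProper_of_geometricallyIntegral _
  exact transfer _ A e n σ (fun x' hx' => NosB.core W hW B n hn σ hσ x' hx') x hx

end Groth.Agent.Helper3.NosC
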