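import Mathlib
import Groth.Prelude
import Groth.Agent.Helper3.AbGalB
import Groth.Agent.Helper3.NosC

set_option autoImplicit false
set_option linter.style.haveILetI false
set_option linter.unusedSectionVars false
set_option linter.unusedVariables false
set_option linter.deprecated false
set_option linter.style.haveILetI false
set_option linter.unusedSectionVars false
set_option linter.unusedVariables false

universe u
open CategoryTheory CategoryTheory.Limits MonoidalCategory CartesianMonoidalCategory MonObj GrpObj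
  AlgebraicGeometry IsLocalRing

namespace Groth.Agent.Helper3.AbGalC

open Groth.Agent.Helper3.CompGrpA Groth.Agent.Helper3.AbGalA Groth.Agent.Helper3.AbGalB
open scoped CategoryTheory.Obj

variable {k : Type u} [Field k] [IsAlgClosed k] (A : Over (Spec (CommRingCat.of k))) [GrpObj A]
  [IsProper A.hom] [GeometricallyIntegral A.hom] (n : ℕ) (pn : A ⟶ A) (hpn : pn = (𝟙 A) ^ n)
  [hF : IsFinite pn.left] [hE : Etale pn.left]

/-- the cover -/
noncomputable abbrev Z : FEt.Cat A.left := MorphismProperty.Over.mk ⊤ pn.left ⟨hF, hE⟩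

include hpn in
lemma Rt_pn [IsCommMonObj A] (a : 𝟙_ (Over (Spec (CommRingCat.of k))) ⟶ A) (ha : a ^ n = 1) :
    (Rt a).left ≫ pn.left = pn.left := by
  rw [← Over.comp_left, hpn, Rt_pow A n a ha]

/-- the automorphism of the cover defined by a torsion point -/
noncomputable def autOf [IsCommMonObj A] (a : 𝟙_ (Over (Spec (CommRingCat.of k))) ⟶ A)
    (ha : a ^ n = 1) : Aut (Z A pn) :=
  MorphismProperty.Over.isoMk ((Over.forget _).mapIso (RtIso a)) (Rt_pn A n pn hpn a ha)

lemma autOf_left [IsCommMonObj A] (a : 𝟙_ (Over (Spec (CommRingCat.of k))) ⟶ A)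
    (ha : a ^ n = 1) : (autOf A n pn hpn a ha).hom.left = (Rt a).left := rfl

include hpn in
theorem galois [IsCommMonObj A] (Ω : Type u) [Field Ω] (ξ : Spec (CommRingCat.of Ω) ⟶ A.left)
    (s t : FEt.fiberObj ξ (Z A pn)) : ∃ σ : Aut (Z A pn), (FEt.fiber ξ).map σ.hom s = t := by
  have hpw : pn.left ≫ A.hom = A.hom := Over.w pn
  let s1 : Spec (CommRingCat.of Ω) ⟶ A.left := s.1
  let t1 : Spec (CommRingCat.of Ω) ⟶ A.left := t.1
  have hs2 : s1 ≫ pn.left = ξ := s.2
  have ht2 : t1 ≫ pn.left = ξ := t.2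
  have hs : s1 ≫ A.hom = ξ ≫ A.hom := by
    rw [← hs2, Category.assoc, hpw]
  have ht : t1 ≫ A.hom = ξ ≫ A.hom := by
    rw [← ht2, Category.assoc, hpw]
  let s' : Over.mk (ξ ≫ A.hom) ⟶ A := Over.homMk s1 hs
  let t' : Over.mk (ξ ≫ A.hom) ⟶ A := Over.homMk t1 ht
  have hst : s' ≫ pn = t' ≫ pn := by
    apply Over.OverMorphism.ext
    show s1 ≫ pn.left = t1 ≫ pn.left
    exact hs2.trans ht2.symm
  have hst' : s' ^ n = t' ^ n := by
    rw [hpn, MonObj.comp_pow, MonObj.comp_pow, Category.comp_id, Category.comp_id] at hst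
    exact hst
  have hd : (t' * s'⁻¹) ^ n = 1 := by
    rw [mul_pow, inv_pow, hst', mul_inv_cancel]
  haveI : LocallyQuasiFinite ((𝟙 A) ^ n).left := by
    rw [← hpn]; infer_instance
  obtain ⟨a, ha, hda⟩ := exists_rat_of_tors A (ξ ≫ A.hom) n (t' * s'⁻¹) hd
  refine ⟨autOf A n pn hpn a ha, ?_⟩
  apply Subtype.ext
  show s1 ≫ (Rt a).left = t1
  have h1 : s' ≫ Rt a = t' := by
    rw [comp_Rt, ← hda, mul_comm, inv_mul_cancel_right]
  exact congrArg (fun f => f.left) h1

include hpn in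
theorem aut_eq [IsCommMonObj A] (θ : Aut (Z A pn)) :
    ∃! a : 𝟙_ (Over (Spec (CommRingCat.of k))) ⟶ A, a ^ n = 1 ∧ θ.hom.left = (Rt a).left := by
  have hpw : pn.left ≫ A.hom = A.hom := Over.w pn
  let θ1 : A.left ⟶ A.left := θ.hom.left
  have hθ : θ1 ≫ pn.left = pn.left := Over.w θ.hom.hom
  have hθA : θ1 ≫ A.hom = A.hom := by
    rw [← hpw, ← Category.assoc, hθ]
  let θA : A ⟶ A := Over.homMk θ1 hθA
  have hθA' : θA ≫ pn = pn := by
    apply Over.OverMorphism.ext
    exact hθ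
  set a : 𝟙_ (Over (Spec (CommRingCat.of k))) ⟶ A := η[A] ≫ θA with ha_def
  have ha : a ^ n = 1 := by
    have h1 : a ≫ pn = η[A] ≫ pn := by
      rw [ha_def, Category.assoc, hθA']
    rw [hpn, MonObj.comp_pow, MonObj.comp_pow, Category.comp_id, Category.comp_id,
      ← NosC.one_eq', one_pow] at h1
    exact h1
  haveI := connectedSpace A
  have hkey : ∀ b : 𝟙_ (Over (Spec (CommRingCat.of k))) ⟶ A, η[A] ≫ Rt b = b := by
    intro b
    rw [point_comp_Rt, ← NosC.one_eq', _root_.one_mul]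
  have hθa : θ1 = (Rt a).left := by
    haveI : Nonempty ↥(𝟙_ (Over (Spec (CommRingCat.of k)))).left :=
      inferInstanceAs (Nonempty (Spec (CommRingCat.of k)))
    refine eq_of_comp_eq pn.left θ1 (Rt a).left ?_ η[A].left ?_
    · rw [hθ, Rt_pn A n pn hpn a ha]
    · have h2 : η[A] ≫ θA = η[A] ≫ Rt a := by rw [hkey]
      exact congrArg (fun f => f.left) h2
  refine ⟨a, ⟨ha, hθa⟩, ?_⟩
  rintro b ⟨hb, hθb⟩
  have h3 : Rt b = Rt a := by
    apply Over.OverMorphism.ext
    exact hθb.symm.trans hθa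
  rw [← hkey b, h3, hkey]

include hpn in
theorem main :
    PiSp.IsGaloisCover (Z A pn) ∧
      (∀ θ : Aut (Z A pn), ∃! a : 𝟙_ (Over (Spec (CommRingCat.of k))) ⟶ A, a ^ n = 1 ∧
        θ.hom.left = ((𝟙 A) * (toUnit A ≫ a)).left) ∧
      (∀ a : 𝟙_ (Over (Spec (CommRingCat.of k))) ⟶ A, a ^ n = 1 →
        ∃ θ : Aut (Z A pn), θ.hom.left = ((𝟙 A) * (toUnit A ≫ a)).left) := by
  haveI : IsCommMonObj A := isCommMonObj_of_isProper_of_geometricallyIntegral A
  refine ⟨⟨connectedSpace A, ?_⟩, ?_, ?_⟩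
  · intro Ω _ _ ξ s t
    exact galois A n pn hpn Ω ξ s t
  · intro θ
    exact aut_eq A n pn hpn θ
  · intro a ha
    exact ⟨autOf A n pn hpn a ha, rfl⟩

end Groth.Agent.Helper3.AbGalC
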