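import Mathlib
import Groth.Agent.Helper3.PowEt
import Groth.Agent.Helper5.FlatOrbit3

set_option autoImplicit false
set_option linter.style.haveILetI false
set_option linter.unusedSectionVars false
set_option linter.unusedVariables false
set_option linter.style.haveILetI false
set_option linter.unusedSectionVars false
set_option linter.unusedVariables false

universe u
open CategoryTheory CategoryTheory.Limits MonoidalCategory CartesianMonoidalCategory MonObj GrpObj
  AlgebraicGeometry IsLocalRing

namespace Groth.Agent.Helper3.PowComm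

open Groth.Agent.Helper3.TanStalk Groth.Agent.Helper3.TanVec

/-- the kernel ideal sheaf of a square-zero thickening of affine schemes is nilpotent -/
lemma isNilpotent_ker_SpecMap {R S : CommRingCat.{u}} (φ : R ⟶ S)
    (h : RingHom.ker φ.hom ^ 2 = ⊥) : IsNilpotent (Spec.map φ).ker := by
  refine ⟨2, ?_⟩
  rw [Scheme.ker_of_isAffine, ← Scheme.IdealSheafData.equivOfIsAffine_symm_apply,
    ← map_pow]
  have h0 : RingHom.ker (Spec.map φ).appTop.hom ^ 2 = 0 := by
    rw [Ideal.zero_eq_bot, eq_bot_iff, pow_two, Ideal.mul_le]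
    intro r hr s hs
    have hnat := Scheme.ΓSpecIso_naturality φ
    have key : ∀ r ∈ RingHom.ker (Spec.map φ).appTop.hom,
        (Scheme.ΓSpecIso R).hom.hom r ∈ RingHom.ker φ.hom := by
      intro r hr
      rw [RingHom.mem_ker] at hr ⊢
      have := congrArg (fun f => f.hom r) hnat
      simp only [CommRingCat.hom_comp, RingHom.comp_apply] at this
      rw [← this, hr, map_zero]
    have h1 : (Scheme.ΓSpecIso R).hom.hom r * (Scheme.ΓSpecIso R).hom.hom s ∈
        RingHom.ker φ.hom ^ 2 := by
      rw [pow_two]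
      exact Ideal.mul_mem_mul (key r hr) (key s hs)
    rw [h, Ideal.mem_bot, ← map_mul] at h1
    have hinj : Function.Injective (Scheme.ΓSpecIso R).hom.hom :=
      (ConcreteCategory.bijective_of_isIso (Scheme.ΓSpecIso R).hom).1
    rw [Ideal.mem_bot]
    exact hinj (h1.trans (map_zero _).symm)
  rw [h0, map_zero]

variable {k : Type u} [Field k] {G : Over (Spec (CommRingCat.of k))} [GrpObj G]

instance isMonHom_pow [IsCommMonObj G] (n : ℕ) : IsMonHom ((𝟙 G : G ⟶ G) ^ n) where
  one_hom := unit_comp_pow n
  mul_hom := by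
    rw [MonObj.comp_pow, Category.comp_id]
    have h1 : (μ[G] : G ⊗ G ⟶ G) = fst G G * snd G G := by
      rw [Hom.mul_def, lift_fst_snd, Category.id_comp]
    have h2 : (((𝟙 G : G ⟶ G) ^ n) ⊗ₘ ((𝟙 G : G ⟶ G) ^ n)) ≫ μ[G] =
        (fst G G ≫ (𝟙 G : G ⟶ G) ^ n) * (snd G G ≫ (𝟙 G : G ⟶ G) ^ n) := by
      rw [Hom.mul_def]
      congr 1
    rw [h2, MonObj.comp_pow, MonObj.comp_pow, Category.comp_id, Category.comp_id, h1, mul_pow]

/-- on a commutative algebraic group, the `n`-th power map is étale for `n` invertible -/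
theorem etale_pow [IsCommMonObj G] [LocallyOfFiniteType G.hom] (n : ℕ) (hn : (n : k) ≠ 0) :
    Etale ((𝟙 G : G ⟶ G) ^ n).left := by
  obtain ⟨W, hW, hEt⟩ := Groth.Agent.Helper3.PowEt.exists_etale_nbhd_unit (k := k) (G := G) n hn
  haveI : IsLocallyNoetherian G.left := LocallyOfFiniteType.isLocallyNoetherian G.hom
  set P : G ⟶ G := (𝟙 G : G ⟶ G) ^ n with hP
  haveI : IsMonHom P := isMonHom_pow n
  haveI : LocallyOfFiniteType P.left := by
    haveI : LocallyOfFiniteType (P.left ≫ G.hom) := by
      rw [Over.w]; infer_instance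
    exact locallyOfFiniteType_of_comp P.left G.hom
  haveI : LocallyOfFinitePresentation P.left := inferInstance
  haveI hflat : Flat P.left := by
    refine Groth.Agent.Helper5.FlatOrbit.s5336 k G G P ⟨e k G, ?_⟩
    exact ((Groth.Agent.Helper3.StalkNbhd.etale_nbhd_iff P.left (e k G)).mp ⟨W, hW, hEt⟩).1
  haveI hunr : FormallyUnramified P.left := by
    refine FormallyUnramified.of_hom_ext _ ?_
    intro R S φ hsurj hker g₁ g₂ h₁ h₂
    haveI : Subsingleton ↥(𝟙_ (Over (Spec (CommRingCat.of k)))).left := by
      show Subsingleton (PrimeSpectrum k)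
      infer_instance
    have hw : g₂ ≫ G.hom = g₁ ≫ G.hom := by
      have := congrArg (fun f => f ≫ G.hom) h₂
      simp only [Category.assoc, Over.w] at this
      exact this.symm
    let T : Over (Spec (CommRingCat.of k)) := Over.mk (g₁ ≫ G.hom)
    let T' : Over (Spec (CommRingCat.of k)) := Over.mk (Spec.map φ ≫ g₁ ≫ G.hom)
    let a₁ : T ⟶ G := Over.homMk g₁ rfl
    let a₂ : T ⟶ G := Over.homMk g₂ hw
    let i : T' ⟶ T := Over.homMk (Spec.map φ) rfl
    have hi : i ≫ a₁ = i ≫ a₂ := Over.OverMorphism.ext h₁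
    have hPa : a₁ ≫ P = a₂ ≫ P := Over.OverMorphism.ext h₂
    let d : T ⟶ G := a₁⁻¹ * a₂
    have hd1 : i ≫ d = 1 := by
      rw [MonObj.comp_mul, GrpObj.comp_inv, hi, inv_mul_cancel]
    have hd2 : d ≫ P = 1 := by
      rw [MonObj.mul_comp, GrpObj.inv_comp, hPa, inv_mul_cancel]
    suffices hd : d = 1 by
      have : a₂ = a₁ := by
        have h3 : a₁ * d = a₂ := mul_inv_cancel_left a₁ a₂
        rw [hd, _root_.mul_one] at h3
        exact h3.symm
      exact (congrArg Over.Hom.left this).symm
    -- `i` is surjective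
    have hnil := isNilpotent_ker_SpecMap φ hker
    haveI : IsClosedImmersion (Spec.map φ) := IsClosedImmersion.spec_of_surjective φ hsurj
    haveI : IsDominant (Spec.map φ) := by
      obtain ⟨m, hm⟩ := hnil
      rw [isDominant_iff, denseRange_iff_closure_range, ← (Spec.map φ).support_ker,
        ← (Spec.map φ).ker.support_pow (m + 1) (by simp), pow_succ, hm]
      simp
    -- points of `T` go to the unit
    have hone : ∀ (Z : Over (Spec (CommRingCat.of k))) (z : Z.left),
        (1 : Z ⟶ G).left z = e k G := by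
      intro Z z
      rw [Hom.one_def, Over.comp_left, Scheme.Hom.comp_apply]
      unfold e
      congr 1
      exact Subsingleton.elim _ _
    have hdW : ∀ t : T.left, d.left t ∈ W := by
      intro t
      obtain ⟨t', rfl⟩ := (Spec.map φ).surjective t
      have : d.left ((Spec.map φ) t') = (i ≫ d).left t' := rfl
      rw [this, hd1, hone]
      exact hW
    have hoW : ∀ t : T.left, (1 : T ⟶ G).left t ∈ W := by
      intro t
      rw [hone]
      exact hW
    have hrd : Set.range d.left ⊆ Set.range W.ι := by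
      rintro _ ⟨t, rfl⟩
      rw [Scheme.Opens.range_ι]
      exact hdW t
    have hro : Set.range (1 : T ⟶ G).left ⊆ Set.range W.ι := by
      rintro _ ⟨t, rfl⟩
      rw [Scheme.Opens.range_ι]
      exact hoW t
    let d' : Spec R ⟶ W := IsOpenImmersion.lift W.ι d.left hrd
    let o' : Spec R ⟶ W := IsOpenImmersion.lift W.ι (1 : T ⟶ G).left hro
    have hd' : d' ≫ W.ι = d.left := IsOpenImmersion.lift_fac _ _ _
    have ho' : o' ≫ W.ι = (1 : T ⟶ G).left := IsOpenImmersion.lift_fac _ _ _
    haveI : FormallyUnramified (W.ι ≫ P.left) := inferInstance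
    have key : d' = o' := by
      refine FormallyUnramified.hom_ext (Spec.map φ) hnil (W.ι ≫ P.left) ?_ ?_
      · rw [← cancel_mono W.ι, Category.assoc, Category.assoc, hd', ho']
        change (i ≫ d).left = (i ≫ (1 : T ⟶ G)).left
        rw [hd1, MonObj.comp_one]
      · rw [← Category.assoc, ← Category.assoc, hd', ho']
        change (d ≫ P).left = ((1 : T ⟶ G) ≫ P).left
        rw [hd2, MonObj.one_comp]
    apply Over.OverMorphism.ext
    rw [← hd', ← ho', key]
  exact Etale.of_formallyUnramified_of_flat _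

end Groth.Agent.Helper3.PowComm
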