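import Mathlib
import Groth.Agent.Helper3.PowComm

set_option autoImplicit false
set_option linter.style.haveILetI false
set_option linter.unusedSectionVars false
set_option linter.unusedVariables false
set_option linter.style.haveILetI false
set_option linter.unusedSectionVars false
set_option linter.unusedVariables false

universe u
open CategoryTheory CategoryTheory.Limits MonoidalCategory CartesianMonoidalCategory MonObj GrpObj
  AlgebraicGeometry IsLocalRing

namespace Groth.Agent.Helper3.AbVarMul

open Groth.Agent.Helper3.LocPt Groth.Agent.Helper3.TanPts Groth.Agent.Helper3.TanStalk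
  Groth.Agent.Helper3.TanVec Groth.Agent.Helper3.TanSep Groth.Agent.Helper3.PowEt

variable {k : Type u} [Field k] {G : Over (Spec (CommRingCat.of k))} [GrpObj G]

/-- the zeroth power map induces the composite `A → k → A` on the local ring at the unit -/
lemma ψ_zero : ψ (k := k) (G := G) 0 = ρ ≫ κ := by
  symm
  apply comor_unique
  rw [Spec.map_comp, Category.assoc, spec_ρ, spec_κ, Category.assoc]
  congr 1

/-- if `n = 0` in `k`, the `n`-th power map kills the cotangent space at the unit -/
lemma ψ_mem_sq (n : ℕ) (hn : (n : k) = 0) (a : A k G) (ha : a ∈ maximalIdeal (A k G)) :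
    (ψ (k := k) (G := G) n).hom a ∈ maximalIdeal (A k G) ^ 2 := by
  rcases Nat.eq_zero_or_pos n with rfl | hpos
  · rw [ψ_zero]
    change (κ (k := k) (G := G)).hom ((ρ (k := k) (G := G)).hom a) ∈ _
    rw [(mem_maximalIdeal_iff a).mp ha, map_zero]
    exact zero_mem _
  · have := ψ_sub_mem n hpos a ha
    rwa [hn, map_zero, zero_mul, sub_zero] at this

/-- if `n = 0` in `k` and the `n`-th power map is étale then the local ring at the unit is a
field -/
theorem maximalIdeal_eq_bot_of_etale [LocallyOfFiniteType G.hom] (n : ℕ) (hn : (n : k) = 0)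
    (hEt : Etale ((𝟙 G : G ⟶ G) ^ n).left) : maximalIdeal (A k G) = ⊥ := by
  haveI : IsLocallyNoetherian G.left := LocallyOfFiniteType.isLocallyNoetherian G.hom
  set P : G.left ⟶ G.left := ((𝟙 G : G ⟶ G) ^ n).left with hP
  haveI : LocallyOfFiniteType P := by
    haveI : LocallyOfFiniteType (P ≫ G.hom) := by
      rw [hP, Over.w]; infer_instance
    exact locallyOfFiniteType_of_comp P G.hom
  have hψ : ψ (k := k) (G := G) n =
      G.left.presheaf.stalkSpecializes (specializes_of_eq (pow_e n)) ≫ P.stalkMap (e k G) :=
    ψ_eq n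
  set σ := (P.stalkMap (e k G)).hom with hσ
  set sp := (G.left.presheaf.stalkSpecializes (specializes_of_eq (pow_e (k := k) (G := G) n))).hom
    with hsp
  set sp' := (G.left.presheaf.stalkSpecializes
    (specializes_of_eq (pow_e (k := k) (G := G) n).symm)).hom with hsp'
  have hψσ : ∀ a, (ψ (k := k) (G := G) n).hom a = σ (sp a) := by
    intro a
    rw [hψ]
    rfl
  have hspsp' : ∀ b, sp (sp' b) = b := by
    intro b
    have h1 : G.left.presheaf.stalkSpecializes
        (specializes_of_eq (pow_e (k := k) (G := G) n).symm) ≫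
        G.left.presheaf.stalkSpecializes (specializes_of_eq (pow_e (k := k) (G := G) n)) =
        𝟙 _ := by
      rw [TopCat.Presheaf.stalkSpecializes_comp]
      exact TopCat.Presheaf.stalkSpecializes_refl _ _
    exact congrArg (fun f => f.hom b) h1
  have hunr : (P.stalkMap (e k G)).hom.FormallyUnramified :=
    FormallyUnramified.stalkMap P (e k G)
  have hess := LocallyOfFiniteType.stalkMap P (e k G)
  algebraize [(P.stalkMap (e k G)).hom]
  haveI : IsLocalHom (algebraMap (G.left.presheaf.stalk (P (e k G)))
      (G.left.presheaf.stalk (e k G))) :=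
    inferInstanceAs (IsLocalHom (P.stalkMap (e k G)).hom)
  have hmap : (maximalIdeal (G.left.presheaf.stalk (P (e k G)))).map
      (algebraMap (G.left.presheaf.stalk (P (e k G))) (G.left.presheaf.stalk (e k G))) =
      maximalIdeal (G.left.presheaf.stalk (e k G)) :=
    Algebra.FormallyUnramified.map_maximalIdeal
  have hle : maximalIdeal (A k G) ≤ maximalIdeal (A k G) • maximalIdeal (A k G) := by
    rw [smul_eq_mul, ← pow_two]
    refine le_trans hmap.symm.le ?_
    rw [Ideal.map_le_iff_le_comap]
    intro b hb
    rw [Ideal.mem_comap]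
    change σ b ∈ _
    rw [← hspsp' b, ← hψσ]
    refine ψ_mem_sq (k := k) (G := G) n hn _ ?_
    rw [mem_maximalIdeal, mem_nonunits_iff]
    intro hu
    have : IsUnit (sp (sp' b)) := hu.map sp
    rw [hspsp'] at this
    exact ((mem_maximalIdeal b).mp hb) this
  exact Submodule.eq_bot_of_le_smul_of_le_jacobson_bot (maximalIdeal (A k G)) _
    (IsNoetherian.noetherian _) hle
    (by rw [IsLocalRing.jacobson_eq_maximalIdeal ⊥ bot_ne_top])

/-- if the local ring at a closed point of an integral scheme is a field then the scheme is a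
point -/
lemma subsingleton_of_maximalIdeal_eq_bot {X : Scheme.{u}} [IsIntegral X] (x : X)
    (hx : IsClosed ({x} : Set X)) (h : maximalIdeal (X.presheaf.stalk x) = ⊥) :
    Subsingleton X := by
  have h1 : genericPoint X ∈ Set.range (X.fromSpecStalk x) := by
    rw [Scheme.range_fromSpecStalk]
    exact genericPoint_specializes x
  obtain ⟨p, hp⟩ := h1
  have hp' : p = closedPoint (X.presheaf.stalk x) := by
    apply PrimeSpectrum.ext
    change p.asIdeal = maximalIdeal _
    rw [h, eq_bot_iff, ← h]
    exact IsLocalRing.le_maximalIdeal p.isPrime.ne_top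
  rw [hp', Scheme.fromSpecStalk_closedPoint] at hp
  have h2 : closure ({x} : Set X) = Set.univ := by
    rw [hp]
    exact (genericPoint_spec X).def
  rw [hx.closure_eq] at h2
  refine ⟨fun a b => ?_⟩
  have ha : a ∈ ({x} : Set X) := h2 ▸ Set.mem_univ a
  have hb : b ∈ ({x} : Set X) := h2 ▸ Set.mem_univ b
  rw [Set.mem_singleton_iff] at ha hb
  rw [ha, hb]

theorem etale_pow_iff (K : Type u) [Field K] (A : Over (Spec (CommRingCat.of K))) [GrpObj A]
    [IsProper A.hom] [GeometricallyIntegral A.hom] (hA : 0 < topologicalKrullDim A.left) (n : ℕ) :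
    Etale ((𝟙 A : A ⟶ A) ^ n).left ↔ (n : K) ≠ 0 := by
  constructor
  · intro hEt hn
    have hm := maximalIdeal_eq_bot_of_etale (k := K) (G := A) n hn hEt
    haveI : IsIntegral A.left := GeometricallyIntegral.isIntegral_of_subsingleton A.hom
    haveI : Subsingleton ↥(𝟙_ (Over (Spec (CommRingCat.of K)))).left := by
      show Subsingleton (PrimeSpectrum K)
      infer_instance
    have hcl : IsClosed ({e K A} : Set A.left) := by
      have h1 : IsClosed (Set.range η[A].left) := η[A].left.isClosedEmbedding.isClosed_range
      have h2 : Set.range η[A].left = {e K A} := by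
        ext y
        constructor
        · rintro ⟨p, rfl⟩
          have : p = (closedPoint K : ↥(Spec (CommRingCat.of K))) := Subsingleton.elim _ _
          rw [this]
          rfl
        · rintro rfl
          exact ⟨_, rfl⟩
      rwa [h2] at h1
    haveI := subsingleton_of_maximalIdeal_eq_bot (e K A) hcl hm
    have := topologicalKrullDim_zero_of_discreteTopology A.left
    exact absurd hA (not_lt.mpr this)
  · intro hn
    haveI : IsCommMonObj A := isCommMonObj_of_isProper_of_geometricallyIntegral A
    exact Groth.Agent.Helper3.PowComm.etale_pow (k := K) (G := A) n hn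

theorem main (K : Type u) [Field K] (A : Over (Spec (CommRingCat.of K))) [GrpObj A]
    [IsProper A.hom] [GeometricallyIntegral A.hom] (hA : 0 < topologicalKrullDim A.left) (d : ℤ) :
    Etale ((𝟙 A : A ⟶ A) ^ d).left ↔ ((d : K) ≠ 0) := by
  rcases Int.eq_nat_or_neg d with ⟨n, rfl | rfl⟩
  · rw [zpow_natCast, Int.cast_natCast]
    exact etale_pow_iff K A hA n
  · rw [zpow_neg, zpow_natCast, Int.cast_neg, Int.cast_natCast, neg_ne_zero,
      ← etale_pow_iff K A hA n, Hom.inv_def, Over.comp_left]
    haveI : IsIso (ι[A] : A ⟶ A).left := inferInstanceAs (IsIso ((Over.forget _).map ι[A]))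
    exact MorphismProperty.cancel_right_of_respectsIso (P := @Etale) _ _

end Groth.Agent.Helper3.AbVarMul
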