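import Mathlib

set_option linter.style.haveILetI false
set_option linter.unusedSectionVars false
set_option linter.unusedVariables false
set_option linter.style.haveILetI false
set_option linter.unusedSectionVars false
set_option linter.unusedVariables false

namespace Groth.Agent.Helper3.AdjoinLoc
open IsLocalRing

universe u

theorem main (A C : Type u) [CommRing A] [IsLocalRing A]
    [CommRing C] [Algebra A C] [Module.Finite A C] (r : Ideal C) [r.IsMaximal] (u : C)
    (hu₁ : ∀ r' : Ideal C, r'.IsMaximal → r' ≠ r → u ∈ r') (hu₂ : u ∉ r)
    (hu₃ : Subalgebra.toSubmodule (Algebra.adjoin A {algebraMap C (Localization.AtPrime r) u}) ⊔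
        Submodule.restrictScalars A (Ideal.map (algebraMap A (Localization.AtPrime r)) (IsLocalRing.maximalIdeal A)) = ⊤) :
    Function.Bijective (Localization.localRingHom (Ideal.comap (Algebra.adjoin A ({u} : Set C)).val.toRingHom r) r
      (Algebra.adjoin A ({u} : Set C)).val.toRingHom rfl) := by
  classical
  set B := Algebra.adjoin A ({u} : Set C) with hB
  have hιalg : algebraMap B C = B.val.toRingHom := rfl
  haveI : Algebra.IsIntegral A C := Algebra.IsIntegral.of_finite A C
  haveI : Algebra.IsIntegral B C := Algebra.IsIntegral.tower_top (R := A)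
  set n : Ideal B := r.comap (algebraMap B C) with hn
  haveI hnmax : n.IsMaximal := Ideal.isMaximal_comap_of_isIntegral_of_isMaximal r
  have huB : u ∈ B := Algebra.subset_adjoin (Set.mem_singleton u)
  -- uniqueness of `r` over `n`
  have huniq : ∀ Q : Ideal C, Q.IsPrime → Q.comap (algebraMap B C) = n → Q = r := by
    intro Q hQ hQn
    haveI := hQ
    have hQmax : Q.IsMaximal :=
      Ideal.isMaximal_of_isIntegral_of_isMaximal_comap (R := B) Q (hQn ▸ hnmax)
    by_contra hne
    have h1 : u ∈ Q := hu₁ Q hQmax hne
    have h2 : (⟨u, huB⟩ : B) ∈ Q.comap (algebraMap B C) := h1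
    rw [hQn] at h2
    exact hu₂ h2
  -- key lemma
  have key : ∀ J : Ideal C, ¬ J ≤ r → ∃ s : B, algebraMap B C s ∈ J ∧ s ∉ n := by
    intro J hJ
    by_contra hcon
    push Not at hcon
    have hle : J.comap (algebraMap B C) ≤ n := fun s hs => hcon s hs
    obtain ⟨Q, hQJ, hQp, hQn⟩ := Ideal.exists_ideal_over_prime_of_isIntegral n J hle
    exact hJ (huniq Q hQp hQn ▸ hQJ)
  change Function.Bijective (Localization.localRingHom n r (algebraMap B C) rfl)
  set φ := Localization.localRingHom n r (algebraMap B C) rfl with hφ
  have hφalg : ∀ b : B, φ (algebraMap B _ b) = algebraMap C _ (algebraMap B C b) := fun b =>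
    Localization.localRingHom_to_map _ _ _ _ b
  have hιinj : Function.Injective (algebraMap B C) := Subtype.val_injective
  constructor
  · rw [injective_iff_map_eq_zero]
    intro x hx
    obtain ⟨b, s, rfl⟩ := IsLocalization.exists_mk'_eq n.primeCompl x
    rw [hφ, Localization.localRingHom_mk', IsLocalization.mk'_eq_zero_iff] at hx
    obtain ⟨c, hc⟩ := hx
    obtain ⟨s', hs'J, hs'n⟩ := key (Ideal.span {(c : C)})
      (fun h => c.2 (h (Ideal.mem_span_singleton_self _)))
    obtain ⟨c', hc'⟩ := Ideal.mem_span_singleton'.mp hs'J
    have h0 : s' * b = 0 := by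
      apply hιinj
      rw [map_mul, map_zero, ← hc', mul_assoc, hc, mul_zero]
    rw [IsLocalization.mk'_eq_zero_iff]
    exact ⟨⟨s', hs'n⟩, h0⟩
  · letI : Algebra (Localization.AtPrime n) (Localization.AtPrime r) := φ.toAlgebra
    have hsmul : ∀ (x : Localization.AtPrime n) (y : Localization.AtPrime r), x • y = φ x * y :=
      fun x y => rfl
    have hφA : ∀ a : A, φ (algebraMap A _ a) = algebraMap A (Localization.AtPrime r) a := by
      intro a
      rw [IsScalarTower.algebraMap_apply A B (Localization.AtPrime n), hφalg,
        ← IsScalarTower.algebraMap_apply A B C,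
        ← IsScalarTower.algebraMap_apply A C (Localization.AtPrime r)]
    -- S1
    have hS1 : ∀ y : Localization.AtPrime r, ∃ (x : Localization.AtPrime n) (c : C),
        y = φ x * algebraMap C _ c := by
      intro y
      obtain ⟨c, t, rfl⟩ := IsLocalization.exists_mk'_eq r.primeCompl y
      obtain ⟨s, hsJ, hsn⟩ := key (Ideal.span {(t : C)})
        (fun h => t.2 (h (Ideal.mem_span_singleton_self _)))
      obtain ⟨c', hc'⟩ := Ideal.mem_span_singleton'.mp hsJ
      refine ⟨IsLocalization.mk' _ (1 : B) (⟨s, hsn⟩ : n.primeCompl), c * c', ?_⟩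
      rw [hφ, Localization.localRingHom_mk', map_one, mul_comm,
        ← IsLocalization.mk'_eq_mul_mk'_one, IsLocalization.mk'_eq_iff_eq]
      congr 1
      simp only
      rw [← hc']
      ring
    -- S2
    haveI hfin : Module.Finite (Localization.AtPrime n) (Localization.AtPrime r) := by
      obtain ⟨S, hS⟩ := (Module.finite_def (R := A) (M := C)).mp inferInstance
      refine ⟨⟨S.image (algebraMap C (Localization.AtPrime r)), ?_⟩⟩
      rw [eq_top_iff]
      rintro y -
      obtain ⟨x, c, rfl⟩ := hS1 y
      rw [← hsmul]
      refine Submodule.smul_mem _ _ ?_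
      have hc : c ∈ Submodule.span A (S : Set C) := hS ▸ Submodule.mem_top
      induction hc using Submodule.span_induction with
      | mem g hg =>
        exact Submodule.subset_span (by
          rw [Finset.coe_image]; exact Set.mem_image_of_mem _ hg)
      | zero => rw [map_zero]; exact Submodule.zero_mem _
      | add g₁ g₂ _ _ h₁ h₂ => rw [map_add]; exact Submodule.add_mem _ h₁ h₂
      | smul a g _ hg =>
        rw [Algebra.smul_def, map_mul, ← IsScalarTower.algebraMap_apply A C, ← hφA, ← hsmul]
        exact Submodule.smul_mem _ _ hg
    -- Nakayama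
    have hmA : ∀ a ∈ maximalIdeal A, algebraMap A (Localization.AtPrime n) a ∈
        maximalIdeal (Localization.AtPrime n) := by
      intro a ha
      rw [IsScalarTower.algebraMap_apply A B (Localization.AtPrime n),
        IsLocalization.AtPrime.to_map_mem_maximal_iff _ n]
      change algebraMap B C (algebraMap A B a) ∈ r
      rw [← IsScalarTower.algebraMap_apply A B C]
      haveI : (r.comap (algebraMap A C)).IsMaximal :=
        Ideal.isMaximal_comap_of_isIntegral_of_isMaximal r
      have := IsLocalRing.eq_maximalIdeal (inferInstance : (r.comap (algebraMap A C)).IsMaximal)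
      rw [← this] at ha
      exact ha
    have hNak : (⊤ : Submodule (Localization.AtPrime n) (Localization.AtPrime r)) ≤
        Submodule.span (Localization.AtPrime n) {1} := by
      refine Submodule.le_of_le_smul_of_le_jacobson_bot (I := maximalIdeal (Localization.AtPrime n))
        (Module.finite_def.mp hfin) (IsLocalRing.maximalIdeal_le_jacobson _) ?_
      rintro y -
      have hy : y ∈ Subalgebra.toSubmodule
          (Algebra.adjoin A {algebraMap C (Localization.AtPrime r) u}) ⊔
          Submodule.restrictScalars A (Ideal.map (algebraMap A (Localization.AtPrime r))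
            (IsLocalRing.maximalIdeal A)) := hu₃ ▸ Submodule.mem_top
      obtain ⟨y₁, hy₁, y₂, hy₂, rfl⟩ := Submodule.mem_sup.mp hy
      refine Submodule.add_mem_sup ?_ ?_
      · -- y₁ in the span of 1
        have h1 : Algebra.adjoin A {algebraMap C (Localization.AtPrime r) u} =
            B.map (IsScalarTower.toAlgHom A C (Localization.AtPrime r)) := by
          rw [hB, AlgHom.map_adjoin, Set.image_singleton]
          rfl
        rw [Subalgebra.mem_toSubmodule, h1] at hy₁
        obtain ⟨b, hb, rfl⟩ := hy₁
        have : algebraMap C (Localization.AtPrime r) b =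
            (algebraMap B (Localization.AtPrime n) ⟨b, hb⟩) • (1 : Localization.AtPrime r) := by
          rw [hsmul, mul_one, hφalg]
          rfl
        change algebraMap C (Localization.AtPrime r) b ∈ _
        rw [this]
        exact Submodule.smul_mem _ _ (Submodule.subset_span rfl)
      · rw [Ideal.smul_top_eq_map]
        have hle : Ideal.map (algebraMap A (Localization.AtPrime r)) (maximalIdeal A) ≤
            Ideal.map (algebraMap (Localization.AtPrime n) (Localization.AtPrime r))
              (maximalIdeal (Localization.AtPrime n)) := by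
          rw [Ideal.map_le_iff_le_comap]
          intro a ha
          rw [Ideal.mem_comap, ← hφA]
          exact Ideal.mem_map_of_mem _ (hmA a ha)
        exact hle hy₂
    intro y
    have hy := hNak (Submodule.mem_top (x := y))
    obtain ⟨x, rfl⟩ := Submodule.mem_span_singleton.mp hy
    exact ⟨x, by rw [hsmul, mul_one]⟩

end Groth.Agent.Helper3.AdjoinLoc
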