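import Mathlib
import Groth.Prelude
import Groth.Agent.Helper3.DivTrB
import Groth.Agent.Helper3.PullDivC
import Groth.Agent.Helper3.PullDivG
import Groth.Agent.Helper3.CycLimC
import Groth.Agent.Helper6.HProj

set_option autoImplicit false
set_option linter.style.haveILetI false
set_option linter.unusedSectionVars false
set_option linter.unusedVariables false
set_option linter.deprecated false
set_option linter.style.haveILetI false
set_option linter.unusedSectionVars false
set_option linter.unusedVariables false

universe u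

open CategoryTheory CategoryTheory.Limits AlgebraicGeometry TopologicalSpace Opposite IsLocalRing

namespace Groth.Agent.Helper3.AlgEq

section sect

variable {P C : Scheme.{u}} [IsIntegral C] (g : P ⟶ C) (σ₀ : C ⟶ P) [IsClosedImmersion σ₀]
  (hσ : σ₀ ≫ g = 𝟙 C)

include hσ in
/-- the multiplicity of the fibre of a section over a point is one -/
theorem fibreMult_section (c : C) (h : σ₀ (genericPoint C) ⤳ σ₀ c) :
    AlgEqCyc.fibreMult g (σ₀ c) (σ₀ (genericPoint C)) h = 1 := by
  have h' : genericPoint C ⤳ c := PullDivC.generic_specializes c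
  set φ := (σ₀.stalkMap c).hom with hφ
  set τ := (g.stalkMap (σ₀ c)).hom with hτ
  have hφsurj : Function.Surjective φ := σ₀.stalkMap_surjective c
  -- the kernel of the specialization map is the kernel of `φ`
  have hK : RingHom.ker (Cyc.specMap (σ₀ c) (σ₀ (genericPoint C)) h) = RingHom.ker φ := by
    ext a
    rw [RingHom.mem_ker, RingHom.mem_ker]
    have h1 := DivTrB.specMap_stalkMap σ₀ c (genericPoint C) h' a
    constructor
    · intro ha
      have h2 : Cyc.specMap c (genericPoint C) h' (φ a) = 0 := by
        rw [hφ]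
        erw [h1]
        have : Cyc.specMap (σ₀ c) (σ₀ (genericPoint C)) (h'.map σ₀.continuous) a = 0 := ha
        rw [this, map_zero]
      exact PullDivC.specMap_injective c h' (h2.trans (map_zero _).symm)
    · intro ha
      have h2 : σ₀.residueFieldMap (genericPoint C)
          (Cyc.specMap (σ₀ c) (σ₀ (genericPoint C)) (h'.map σ₀.continuous) a) = 0 := by
        rw [← h1]
        show Cyc.specMap c (genericPoint C) h' (φ a) = 0
        rw [ha, map_zero]
      exact (map_eq_zero_iff _ (σ₀.residueFieldMap (genericPoint C)).hom.injective).mp h2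
  -- `φ ∘ τ` is bijective
  have hcomp : φ.comp τ = ((σ₀ ≫ g).stalkMap c).hom := by
    rw [Scheme.Hom.stalkMap_comp]
    rfl
  have hbij : Function.Bijective (φ.comp τ) := by
    rw [hcomp]
    haveI : IsIso (σ₀ ≫ g) := by
      rw [hσ]
      infer_instance
    exact ConcreteCategory.bijective_of_isIso ((σ₀ ≫ g).stalkMap c)
  have hmap1 : ((maximalIdeal (C.presheaf.stalk (g (σ₀ c)))).map τ).map φ =
      maximalIdeal (C.presheaf.stalk c) := by
    rw [Ideal.map_map]
    apply le_antisymm
    · rw [Ideal.map_le_iff_le_comap]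
      intro a ha
      rw [Ideal.mem_comap, IsLocalRing.mem_maximalIdeal, mem_nonunits_iff]
      intro hu
      rw [IsLocalRing.mem_maximalIdeal, mem_nonunits_iff] at ha
      apply ha
      obtain ⟨b, hb⟩ := hbij.2 (↑hu.unit⁻¹ : C.presheaf.stalk c)
      refine IsUnit.of_mul_eq_one b ?_
      apply hbij.1
      rw [map_mul, hb, map_one]
      exact hu.mul_val_inv
    · intro b hb
      obtain ⟨a, rfl⟩ := hbij.2 b
      apply Ideal.mem_map_of_mem
      rw [IsLocalRing.mem_maximalIdeal, mem_nonunits_iff] at hb ⊢
      intro hu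
      exact hb (hu.map _)
  have hmap2 : (maximalIdeal (P.presheaf.stalk (σ₀ c))).map φ =
      maximalIdeal (C.presheaf.stalk c) := by
    apply le_antisymm
    · rw [Ideal.map_le_iff_le_comap]
      intro a ha
      rw [Ideal.mem_comap, IsLocalRing.mem_maximalIdeal, mem_nonunits_iff]
      intro hu
      rw [IsLocalRing.mem_maximalIdeal, mem_nonunits_iff] at ha
      exact ha (isUnit_of_map_unit φ a hu)
    · intro b hb
      obtain ⟨a, rfl⟩ := hφsurj b
      apply Ideal.mem_map_of_mem
      rw [IsLocalRing.mem_maximalIdeal, mem_nonunits_iff] at hb ⊢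
      intro hu
      exact hb (hu.map _)
  have hKle : RingHom.ker φ ≤ maximalIdeal (P.presheaf.stalk (σ₀ c)) := by
    intro a ha
    rw [IsLocalRing.mem_maximalIdeal, mem_nonunits_iff]
    intro hu
    have h1 := hu.map φ
    rw [RingHom.mem_ker.mp ha] at h1
    exact not_isUnit_zero h1
  have hJ : (maximalIdeal (C.presheaf.stalk (g (σ₀ c)))).map τ ⊔ RingHom.ker φ =
      maximalIdeal (P.presheaf.stalk (σ₀ c)) := by
    have e1 := Ideal.comap_map_of_surjective φ hφsurj
      ((maximalIdeal (C.presheaf.stalk (g (σ₀ c)))).map τ)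
    have e2 := Ideal.comap_map_of_surjective φ hφsurj (maximalIdeal (P.presheaf.stalk (σ₀ c)))
    rw [hmap1] at e1
    rw [hmap2] at e2
    rw [← RingHom.ker_eq_comap_bot] at e1 e2
    rw [← e1, e2, sup_eq_left]
    exact hKle
  unfold AlgEqCyc.fibreMult
  set K' := RingHom.ker (Cyc.specMap (σ₀ c) (σ₀ (genericPoint C)) h) with hK'
  have hideal : (maximalIdeal (C.presheaf.stalk (g (σ₀ c)))).map
      ((Ideal.Quotient.mk K').comp τ) =
      ((maximalIdeal (C.presheaf.stalk (g (σ₀ c)))).map τ ⊔ K').map (Ideal.Quotient.mk K') := by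
    rw [Ideal.map_sup, Ideal.map_quotient_self, sup_bot_eq, Ideal.map_map]
  have hlen : Module.length (P.presheaf.stalk (σ₀ c))
      ((P.presheaf.stalk (σ₀ c) ⧸ K') ⧸ (maximalIdeal (C.presheaf.stalk (g (σ₀ c)))).map
        ((Ideal.Quotient.mk K').comp τ)) = 1 := by
    rw [hideal]
    have h1 : Module.length (P.presheaf.stalk (σ₀ c))
        ((P.presheaf.stalk (σ₀ c) ⧸ K') ⧸ ((maximalIdeal (C.presheaf.stalk (g (σ₀ c)))).map τ ⊔
          K').map (Ideal.Quotient.mk K')) =
        Module.length (P.presheaf.stalk (σ₀ c) ⧸ K')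
        ((P.presheaf.stalk (σ₀ c) ⧸ K') ⧸ ((maximalIdeal (C.presheaf.stalk (g (σ₀ c)))).map τ ⊔
          K').map (Ideal.Quotient.mk K')) :=
      Module.length_eq_of_surjective Ideal.Quotient.mk_surjective
    rw [h1, PullDivG.length_quot_map K' _ le_sup_right, hK, hJ,
      CycLimC.length_quot_maximalIdeal]
  have : Module.length (P.presheaf.stalk (σ₀ c))
      (Cyc.LocQuot (σ₀ c) (σ₀ (genericPoint C)) h ⧸
        (maximalIdeal (C.presheaf.stalk (g (σ₀ c)))).map
          ((Ideal.Quotient.mk K').comp τ)) = 1 := hlen
  rw [this]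
  rfl

end sect

section diag

variable {k : Type u} [Field k] {C : Scheme.{u}} (q : C ⟶ Spec (CommRingCat.of k))

theorem eq_closedPoint (z : ↥(Spec (CommRingCat.of k))) : z = IsLocalRing.closedPoint k := by
  haveI : Subsingleton (PrimeSpectrum k) := inferInstance
  exact Subsingleton.elim (α := PrimeSpectrum k) z (IsLocalRing.closedPoint k)

theorem slice_comp (t : Spec (CommRingCat.of k) ⟶ C) (ht : t ≫ q = 𝟙 _) :
    t ≫ AlgEqCyc.slice q q t ht = t ≫ pullback.diagonal q := by
  unfold AlgEqCyc.slice
  apply pullback.hom_ext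
  · rw [Category.assoc, pullback.lift_fst, Category.assoc, pullback.diagonal_fst]
  · rw [Category.assoc, pullback.lift_snd, Category.assoc, pullback.diagonal_snd, Category.comp_id,
      ← Category.assoc, ht, Category.id_comp]

theorem slice_apply (t : Spec (CommRingCat.of k) ⟶ C) (ht : t ≫ q = 𝟙 _) :
    AlgEqCyc.slice q q t ht (t (IsLocalRing.closedPoint k)) =
      pullback.diagonal q (t (IsLocalRing.closedPoint k)) := by
  have := congrArg (fun f : Spec (CommRingCat.of k) ⟶ pullback q q =>
    f (IsLocalRing.closedPoint k)) (slice_comp q t ht)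
  exact this

theorem eq_of_slice_eq_diagonal (t : Spec (CommRingCat.of k) ⟶ C) (ht : t ≫ q = 𝟙 _) (x c : C)
    (h : AlgEqCyc.slice q q t ht x = pullback.diagonal q c) :
    x = t (IsLocalRing.closedPoint k) := by
  have h1 : (AlgEqCyc.slice q q t ht ≫ pullback.fst q q) x = (pullback.diagonal q ≫ pullback.fst q q) c :=
    congrArg (pullback.fst q q) h
  have h2 : (AlgEqCyc.slice q q t ht ≫ pullback.snd q q) x = (pullback.diagonal q ≫ pullback.snd q q) c :=
    congrArg (pullback.snd q q) h
  unfold AlgEqCyc.slice at h1 h2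
  rw [pullback.lift_fst, pullback.diagonal_fst] at h1
  rw [pullback.lift_snd, pullback.diagonal_snd] at h2
  have h1' : x = c := h1
  have h2' : t (q x) = c := h2
  rw [h1', ← h2']
  exact congrArg t (eq_closedPoint (q x))

end diag

section main

variable {k : Type u} [Field k] {C : Scheme.{u}} [IsIntegral C] (q : C ⟶ Spec (CommRingCat.of k))
  [IsSeparated q]

open Classical in
/-- the diagonal, as a cycle on the product -/
noncomputable def diagCycle : AlgebraicCycle (pullback q q) ℤ :=
  Function.locallyFinsuppWithin.single (pullback.diagonal q (genericPoint C)) (1 : ℤ)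

open Classical in
theorem diagCycle_apply (w : ↥(pullback q q)) :
    diagCycle q w = if w = pullback.diagonal q (genericPoint C) then 1 else 0 := by
  classical
  unfold diagCycle
  rw [Function.locallyFinsuppWithin.single_apply]

theorem fibreMult_diag (v : ↥(pullback q q)) (c : C) (hv : v = pullback.diagonal q c)
    (h : pullback.diagonal q (genericPoint C) ⤳ v) :
    AlgEqCyc.fibreMult (pullback.snd q q) v (pullback.diagonal q (genericPoint C)) h = 1 := by
  subst hv
  exact fibreMult_section (pullback.snd q q) (pullback.diagonal q) (pullback.diagonal_snd q) c h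

open Classical in
theorem fibreFun_diag (t : Spec (CommRingCat.of k) ⟶ C) (ht : t ≫ q = 𝟙 _) (x : C) :
    AlgEqCyc.fibreFun q q (diagCycle q) t ht x =
      if x = t (IsLocalRing.closedPoint k) then 1 else 0 := by
  unfold AlgEqCyc.fibreFun
  split_ifs with hx
  · have hsl : AlgEqCyc.slice q q t ht x = pullback.diagonal q x := by
      rw [hx]
      exact slice_apply q t ht
    have hsp : pullback.diagonal q (genericPoint C) ⤳ AlgEqCyc.slice q q t ht x := by
      rw [hsl]
      exact (PullDivC.generic_specializes x).map (pullback.diagonal q).continuous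
    have hW : diagCycle q (pullback.diagonal q (genericPoint C)) ≠ 0 := by
      rw [diagCycle_apply, if_pos rfl]
      exact one_ne_zero
    rw [finsum_eq_single _ (⟨pullback.diagonal q (genericPoint C), hW, hsp⟩ :
      {w : ↥(pullback q q) // diagCycle q w ≠ 0 ∧ w ⤳ AlgEqCyc.slice q q t ht x})]
    · have e1 : diagCycle q (pullback.diagonal q (genericPoint C)) = 1 := by
        rw [diagCycle_apply, if_pos rfl]
      have e2 := fibreMult_diag q _ x hsl hsp
      change diagCycle q (pullback.diagonal q (genericPoint C)) *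
        ((AlgEqCyc.fibreMult (pullback.snd q q) (AlgEqCyc.slice q q t ht x)
          (pullback.diagonal q (genericPoint C)) hsp : ℕ) : ℤ) = 1
      rw [e1, e2]
      rfl
    · rintro ⟨w, hW', hsp'⟩ hne
      exfalso
      apply hne
      apply Subtype.ext
      by_contra hne'
      exact hW' (by rw [diagCycle_apply, if_neg hne'])
  · apply finsum_eq_zero_of_forall_eq_zero
    rintro ⟨w, hW, hsp⟩
    exfalso
    have hw : w = pullback.diagonal q (genericPoint C) := by
      by_contra hne
      exact hW (by rw [diagCycle_apply, if_neg hne])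
    rw [hw] at hsp
    have hcl : IsClosed (Set.range (pullback.diagonal q)) :=
      (pullback.diagonal q).isClosedEmbedding.isClosed_range
    have hmem : AlgEqCyc.slice q q t ht x ∈ Set.range (pullback.diagonal q) := by
      have h1 : closure {pullback.diagonal q (genericPoint C)} ⊆ Set.range (pullback.diagonal q) :=
        hcl.closure_subset_iff.mpr (by rintro _ rfl; exact ⟨_, rfl⟩)
      exact h1 (specializes_iff_mem_closure.mp hsp)
    obtain ⟨c, hc⟩ := hmem
    exact hx (eq_of_slice_eq_diagonal q t ht x c hc.symm)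

end main

theorem main (k : Type u) [Field k]
    (C : Scheme.{u}) [DecidableEq ↥C] (q : C ⟶ Spec (CommRingCat.of k)) (hs : Smooth q)
    (hp : Neron.IsProjectiveOver k (Over.mk q)) (hi : IsIntegral C) (hd : topologicalKrullDim ↥C = 1)
    (P₁ P₂ : Spec (CommRingCat.of k) ⟶ C) (h₁ : P₁ ≫ q = 𝟙 _) (h₂ : P₂ ≫ q = 𝟙 _) :
    AlgEqCyc.IsElemAlgTriv q
      (Function.locallyFinsuppWithin.single (P₁ (IsLocalRing.closedPoint k)) (1 : ℤ) -
        Function.locallyFinsuppWithin.single (P₂ (IsLocalRing.closedPoint k)) (1 : ℤ)) := by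
  haveI : IsSeparated q := by
    obtain ⟨n, i, hi', hq⟩ := hp
    haveI := hi'
    haveI : IsProper (CohB1.ProjSpaceOver.toBase n (Spec (CommRingCat.of k))) :=
      Groth.Agent.Helper6.HProj.isProper_toBase n _
    have : q = i ≫ CohB1.ProjSpaceOver.toBase n (Spec (CommRingCat.of k)) := hq.symm
    rw [this]
    infer_instance
  refine ⟨C, q, hs, hp, hi, hd, diagCycle q, ?_, P₁, P₂, h₁, h₂, ?_⟩
  · intro w hw
    have hw' : w = pullback.diagonal q (genericPoint C) := by
      by_contra hne
      exact hw (by rw [diagCycle_apply, if_neg hne])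
    rw [hw']
    have : pullback.snd q q (pullback.diagonal q (genericPoint C)) = genericPoint C := by
      have := congrArg (fun f : C ⟶ C => f (genericPoint C)) (pullback.diagonal_snd q)
      exact this
    rw [this]
    exact genericPoint_spec C
  · intro x
    rw [fibreFun_diag q P₁ h₁ x, fibreFun_diag q P₂ h₂ x,
      Function.locallyFinsuppWithin.coe_sub, Pi.sub_apply,
      Function.locallyFinsuppWithin.single_apply, Function.locallyFinsuppWithin.single_apply]
    congr 1 <;> split_ifs <;> rfl

end Groth.Agent.Helper3.AlgEq
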