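import Mathlib

set_option linter.style.haveILetI false
set_option linter.unusedSectionVars false
set_option linter.unusedVariables false
set_option linter.style.haveILetI false
set_option linter.unusedSectionVars false
set_option linter.unusedVariables false

namespace Groth.Agent.Helper3.GrpTransl

open AlgebraicGeometry CategoryTheory Limits MonoidalCategory MonObj CartesianMonoidalCategory

universe u

/-- over an algebraically closed field, closed points of schemes locally of finite type are
rational -/
theorem exists_section_of_closed (k : Type u) [Field k] [IsAlgClosed k] {X : Scheme.{u}}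
    (pX : X ⟶ Spec (CommRingCat.of k)) [LocallyOfFiniteType pX] (x : X)
    (hx : IsClosed ({x} : Set X)) :
    ∃ σ : Spec (CommRingCat.of k) ⟶ X, σ ≫ pX = 𝟙 _ ∧ ∀ p, σ p = x := by
  haveI : IsClosedImmersion (X.fromSpecResidueField x) :=
    isClosed_singleton_iff_isClosedImmersion.mp hx
  obtain ⟨ψ, hψ⟩ := Spec.map_surjective (X.fromSpecResidueField x ≫ pX)
  have hft : ψ.hom.FiniteType := by
    have : LocallyOfFiniteType (Spec.map ψ) := hψ ▸ inferInstance
    exact HasRingHomProperty.Spec_iff.mp this
  algebraize [ψ.hom]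
  haveI : Module.Finite k (X.residueField x) := finite_of_finite_type_of_isJacobsonRing k _
  have hbij := IsAlgClosed.algebraMap_bijective_of_isIntegral (k := k) (K := X.residueField x)
  haveI : IsIso ψ := by
    rw [ConcreteCategory.isIso_iff_bijective]
    exact hbij
  refine ⟨Spec.map (inv ψ) ≫ X.fromSpecResidueField x, ?_, ?_⟩
  · rw [Category.assoc, ← hψ, ← Spec.map_comp, IsIso.hom_inv_id, Spec.map_id]
  · intro p
    rw [Scheme.Hom.comp_apply, Scheme.fromSpecResidueField_apply]

theorem main (k : Type u) [Field k] [IsAlgClosed k] (G : Over (Spec (CommRingCat.of k)))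
    [GrpObj G] [LocallyOfFiniteType G.hom]
    (pt : ↥(𝟙_ (Over (Spec (CommRingCat.of k)))).left) (x : G.left)
    (hx : IsClosed ({x} : Set G.left)) :
    Nonempty (G.left.presheaf.stalk (η[G].left.base pt) ≅ G.left.presheaf.stalk x) := by
  obtain ⟨σ, hσ, hσx⟩ := exists_section_of_closed k G.hom x hx
  let f : 𝟙_ (Over (Spec (CommRingCat.of k))) ⟶ G := Over.homMk σ hσ
  let τ := GrpObj.mulRight f
  have h1 : η[G] ≫ τ.hom = f := by
    simp only [τ, GrpObj.mulRight, comp_lift_assoc, Category.comp_id]
    have h0 : η[G] ≫ toUnit G ≫ f = f := by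
      rw [← Category.assoc, toUnit_unique (η[G] ≫ toUnit G) (𝟙 _), Category.id_comp]
    rw [h0]
    have h3 : (η[G] : 𝟙_ _ ⟶ G) = toUnit (𝟙_ (Over (Spec (CommRingCat.of k)))) ≫ η[G] := by
      rw [toUnit_unique (toUnit (𝟙_ (Over (Spec (CommRingCat.of k))))) (𝟙 _), Category.id_comp]
    rw [h3]
    exact MonObj.lift_comp_one_left _ f
  have h2 : τ.hom.left (η[G].left pt) = x := by
    rw [← Scheme.Hom.comp_apply, ← Over.comp_left, h1]
    exact hσx pt
  haveI : IsIso τ.hom.left := inferInstance
  let e := asIso (τ.hom.left.stalkMap (η[G].left pt))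
  exact ⟨e.symm ≪≫ G.left.presheaf.stalkCongr (Inseparable.of_eq h2)⟩

end Groth.Agent.Helper3.GrpTransl
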