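import Mathlib
import Groth.Prelude
import Groth.Agent.Helper3.AlgEqA
import Groth.Agent.Helper3.GrpTransl

set_option autoImplicit false
set_option linter.style.haveILetI false
set_option linter.unusedSectionVars false
set_option linter.unusedVariables false
set_option linter.deprecated false
set_option linter.style.haveILetI false
set_option linter.unusedSectionVars false
set_option linter.unusedVariables false

universe u

open CategoryTheory CategoryTheory.Limits AlgebraicGeometry TopologicalSpace Opposite IsLocalRing

namespace Groth.Agent.Helper3.AlgEq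

section graph

variable {k : Type u} [Field k] {X C : Scheme.{u}} (p : X ⟶ Spec (CommRingCat.of k))
  (q : C ⟶ Spec (CommRingCat.of k)) (ι : C ⟶ X) (hι : ι ≫ p = q)

/-- the graph of `ι` as a section of the projection to `C` -/
noncomputable def graph : C ⟶ pullback p q :=
  pullback.lift ι (𝟙 C) (by rw [hι, Category.id_comp])

theorem graph_fst : graph p q ι hι ≫ pullback.fst p q = ι := pullback.lift_fst _ _ _

theorem graph_snd : graph p q ι hι ≫ pullback.snd p q = 𝟙 C := pullback.lift_snd _ _ _

theorem isClosedImmersion_graph [IsSeparated q] [IsClosedImmersion ι] :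
    IsClosedImmersion (graph p q ι hι) := by
  have e1 : q = ι ≫ p := hι.symm
  have e2 : q = 𝟙 C ≫ q := (Category.id_comp q).symm
  have h1 : IsClosedImmersion (pullback.map q q p q ι (𝟙 C) (𝟙 _)
      ((Category.comp_id _).trans e1) ((Category.comp_id _).trans e2)) :=
    MorphismProperty.pullbackMap (P := @IsClosedImmersion) inferInstance inferInstance e1 e2
  have h2 : graph p q ι hι = pullback.diagonal q ≫ pullback.map q q p q ι (𝟙 C) (𝟙 _)
      ((Category.comp_id _).trans e1) ((Category.comp_id _).trans e2) := by
    unfold graph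
    apply pullback.hom_ext
    · rw [pullback.lift_fst, Category.assoc, pullback.lift_fst, ← Category.assoc,
        pullback.diagonal_fst, Category.id_comp]
    · rw [pullback.lift_snd, Category.assoc, pullback.lift_snd, ← Category.assoc,
        pullback.diagonal_snd, Category.id_comp]
  rw [h2]
  infer_instance

end graph

section graphCycle

variable {k : Type u} [Field k] {X C : Scheme.{u}} [IsIntegral C] (p : X ⟶ Spec (CommRingCat.of k))
  (q : C ⟶ Spec (CommRingCat.of k)) [IsSeparated q] (ι : C ⟶ X) [IsClosedImmersion ι]
  (hι : ι ≫ p = q)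

open Classical in
/-- the graph of `ι`, as a cycle on the product -/
noncomputable def graphCycle : AlgebraicCycle (pullback p q) ℤ :=
  Function.locallyFinsuppWithin.single (graph p q ι hι (genericPoint C)) (1 : ℤ)

open Classical in
theorem graphCycle_apply (w : ↥(pullback p q)) :
    graphCycle p q ι hι w = if w = graph p q ι hι (genericPoint C) then 1 else 0 := by
  classical
  unfold graphCycle
  rw [Function.locallyFinsuppWithin.single_apply]

theorem fibreMult_graph (v : ↥(pullback p q)) (c : C) (hv : v = graph p q ι hι c)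
    (h : graph p q ι hι (genericPoint C) ⤳ v) :
    AlgEqCyc.fibreMult (pullback.snd p q) v (graph p q ι hι (genericPoint C)) h = 1 := by
  subst hv
  haveI := isClosedImmersion_graph p q ι hι
  exact fibreMult_section (pullback.snd p q) (graph p q ι hι) (graph_snd p q ι hι) c h

theorem slice_comp_graph (t : Spec (CommRingCat.of k) ⟶ C) (ht : t ≫ q = 𝟙 _) :
    (t ≫ ι) ≫ AlgEqCyc.slice p q t ht = t ≫ graph p q ι hι := by
  unfold AlgEqCyc.slice graph
  apply pullback.hom_ext
  · simp only [Category.assoc, pullback.lift_fst, Category.comp_id]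
  · simp only [Category.assoc, pullback.lift_snd, Category.comp_id]
    rw [← Category.assoc ι p t, hι, ← Category.assoc t q t, ht, Category.id_comp]

theorem slice_apply_graph (t : Spec (CommRingCat.of k) ⟶ C) (ht : t ≫ q = 𝟙 _) :
    AlgEqCyc.slice p q t ht (ι (t (IsLocalRing.closedPoint k))) =
      graph p q ι hι (t (IsLocalRing.closedPoint k)) := by
  have := congrArg (fun f : Spec (CommRingCat.of k) ⟶ pullback p q =>
    f (IsLocalRing.closedPoint k)) (slice_comp_graph p q ι hι t ht)
  exact this

theorem eq_of_slice_eq_graph (t : Spec (CommRingCat.of k) ⟶ C) (ht : t ≫ q = 𝟙 _) (x : X) (c : C)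
    (h : AlgEqCyc.slice p q t ht x = graph p q ι hι c) :
    x = ι (t (IsLocalRing.closedPoint k)) := by
  have h1 : (AlgEqCyc.slice p q t ht ≫ pullback.fst p q) x =
      (graph p q ι hι ≫ pullback.fst p q) c := congrArg (pullback.fst p q) h
  have h2 : (AlgEqCyc.slice p q t ht ≫ pullback.snd p q) x =
      (graph p q ι hι ≫ pullback.snd p q) c := congrArg (pullback.snd p q) h
  rw [graph_fst] at h1
  rw [graph_snd] at h2
  unfold AlgEqCyc.slice at h1 h2
  rw [pullback.lift_fst] at h1
  rw [pullback.lift_snd] at h2
  have h1' : x = ι c := h1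
  have h2' : t (p x) = c := h2
  rw [h1', ← h2']
  exact congrArg (fun z => ι (t z)) (eq_closedPoint (p x))

open Classical in
theorem fibreFun_graph (t : Spec (CommRingCat.of k) ⟶ C) (ht : t ≫ q = 𝟙 _) (x : X) :
    AlgEqCyc.fibreFun p q (graphCycle p q ι hι) t ht x =
      if x = ι (t (IsLocalRing.closedPoint k)) then 1 else 0 := by
  haveI := isClosedImmersion_graph p q ι hι
  unfold AlgEqCyc.fibreFun
  split_ifs with hx
  · have hsl : AlgEqCyc.slice p q t ht x = graph p q ι hι (t (IsLocalRing.closedPoint k)) := by
      rw [hx]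
      exact slice_apply_graph p q ι hι t ht
    have hsp : graph p q ι hι (genericPoint C) ⤳ AlgEqCyc.slice p q t ht x := by
      rw [hsl]
      exact (PullDivC.generic_specializes _).map (graph p q ι hι).continuous
    have hW : graphCycle p q ι hι (graph p q ι hι (genericPoint C)) ≠ 0 := by
      rw [graphCycle_apply, if_pos rfl]
      exact one_ne_zero
    rw [finsum_eq_single _ (⟨graph p q ι hι (genericPoint C), hW, hsp⟩ :
      {w : ↥(pullback p q) // graphCycle p q ι hι w ≠ 0 ∧ w ⤳ AlgEqCyc.slice p q t ht x})]
    · have e1 : graphCycle p q ι hι (graph p q ι hι (genericPoint C)) = 1 := by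
        rw [graphCycle_apply, if_pos rfl]
      have e2 := fibreMult_graph p q ι hι _ _ hsl hsp
      change graphCycle p q ι hι (graph p q ι hι (genericPoint C)) *
        ((AlgEqCyc.fibreMult (pullback.snd p q) (AlgEqCyc.slice p q t ht x)
          (graph p q ι hι (genericPoint C)) hsp : ℕ) : ℤ) = 1
      rw [e1, e2]
      rfl
    · rintro ⟨w, hW', hsp'⟩ hne
      exfalso
      apply hne
      apply Subtype.ext
      by_contra hne'
      exact hW' (by rw [graphCycle_apply, if_neg hne'])
  · apply finsum_eq_zero_of_forall_eq_zero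
    rintro ⟨w, hW, hsp⟩
    exfalso
    have hw : w = graph p q ι hι (genericPoint C) := by
      by_contra hne
      exact hW (by rw [graphCycle_apply, if_neg hne])
    rw [hw] at hsp
    have hcl : IsClosed (Set.range (graph p q ι hι)) :=
      (graph p q ι hι).isClosedEmbedding.isClosed_range
    have hmem : AlgEqCyc.slice p q t ht x ∈ Set.range (graph p q ι hι) := by
      have h1 : closure {graph p q ι hι (genericPoint C)} ⊆ Set.range (graph p q ι hι) :=
        hcl.closure_subset_iff.mpr (by rintro _ rfl; exact ⟨_, rfl⟩)
      exact h1 (specializes_iff_mem_closure.mp hsp)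
    obtain ⟨c, hc⟩ := hmem
    exact hx (eq_of_slice_eq_graph p q ι hι t ht x c hc.symm)

end graphCycle

/-- the difference of two rational points of a smooth projective curve in `X` is elementary
algebraically trivial -/
theorem elemAlgTriv_curve {k : Type u} [Field k] {X C : Scheme.{u}} [DecidableEq ↥X]
    (p : X ⟶ Spec (CommRingCat.of k)) (q : C ⟶ Spec (CommRingCat.of k)) (hs : Smooth q)
    (hp : Neron.IsProjectiveOver k (Over.mk q)) (hi : IsIntegral C) (hd : topologicalKrullDim ↥C = 1)
    (ι : C ⟶ X) [IsClosedImmersion ι] (hι : ι ≫ p = q)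
    (P₁ P₂ : Spec (CommRingCat.of k) ⟶ C) (h₁ : P₁ ≫ q = 𝟙 _) (h₂ : P₂ ≫ q = 𝟙 _) :
    AlgEqCyc.IsElemAlgTriv p
      (Function.locallyFinsuppWithin.single (ι (P₁ (IsLocalRing.closedPoint k))) (1 : ℤ) -
        Function.locallyFinsuppWithin.single (ι (P₂ (IsLocalRing.closedPoint k))) (1 : ℤ)) := by
  haveI : IsSeparated q := by
    obtain ⟨n, i, hi', hq⟩ := hp
    haveI := hi'
    haveI : IsProper (CohB1.ProjSpaceOver.toBase n (Spec (CommRingCat.of k))) :=
      Groth.Agent.Helper6.HProj.isProper_toBase n _
    have : q = i ≫ CohB1.ProjSpaceOver.toBase n (Spec (CommRingCat.of k)) := hq.symm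
    rw [this]
    infer_instance
  refine ⟨C, q, hs, hp, hi, hd, graphCycle p q ι hι, ?_, P₁, P₂, h₁, h₂, ?_⟩
  · intro w hw
    have hw' : w = graph p q ι hι (genericPoint C) := by
      by_contra hne
      exact hw (by rw [graphCycle_apply, if_neg hne])
    rw [hw']
    have : pullback.snd p q (graph p q ι hι (genericPoint C)) = genericPoint C := by
      have := congrArg (fun f : C ⟶ C => f (genericPoint C)) (graph_snd p q ι hι)
      exact this
    rw [this]
    exact genericPoint_spec C
  · intro x
    rw [fibreFun_graph p q ι hι P₁ h₁ x, fibreFun_graph p q ι hι P₂ h₂ x,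
      Function.locallyFinsuppWithin.coe_sub, Pi.sub_apply,
      Function.locallyFinsuppWithin.single_apply, Function.locallyFinsuppWithin.single_apply]
    congr 1 <;> split_ifs <;> rfl

end Groth.Agent.Helper3.AlgEq
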