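import Mathlib
import Groth.Prelude
import Groth.Agent.Helper3.AlgEqB

set_option autoImplicit false
set_option linter.style.haveILetI false
set_option linter.unusedSectionVars false
set_option linter.unusedVariables false
set_option linter.deprecated false
set_option linter.style.haveILetI false
set_option linter.unusedSectionVars false
set_option linter.unusedVariables false

universe u

open CategoryTheory CategoryTheory.Limits AlgebraicGeometry TopologicalSpace Opposite IsLocalRing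

namespace Groth.Agent.Helper3.AlgEq

/-- projective over a field implies proper -/
theorem isProper_of_isProjectiveOver {k : Type u} [Field k] {C : Scheme.{u}}
    (q : C ⟶ Spec (CommRingCat.of k)) (hp : Neron.IsProjectiveOver k (Over.mk q)) : IsProper q := by
  obtain ⟨n, i, hi', hq⟩ := hp
  haveI := hi'
  haveI : IsProper (CohB1.ProjSpaceOver.toBase n (Spec (CommRingCat.of k))) :=
    Groth.Agent.Helper6.HProj.isProper_toBase n _
  have : q = i ≫ CohB1.ProjSpaceOver.toBase n (Spec (CommRingCat.of k)) := hq.symm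
  rw [this]
  infer_instance

/-- a scheme of finite type over an algebraically closed field, nonempty and quasi-compact,
has a rational point -/
theorem exists_ratPt_of_nonempty {k : Type u} [Field k] [IsAlgClosed k] {T : Scheme.{u}}
    (pT : T ⟶ Spec (CommRingCat.of k)) [LocallyOfFiniteType pT] [CompactSpace T] [Nonempty T] :
    ∃ σ : Spec (CommRingCat.of k) ⟶ T, σ ≫ pT = 𝟙 _ := by
  obtain ⟨x, -, hx⟩ := IsClosed.exists_closed_singleton (isClosed_univ (X := T)) Set.univ_nonempty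
  obtain ⟨σ, hσ, -⟩ := GrpTransl.exists_section_of_closed k pT x hx
  exact ⟨σ, hσ⟩

/-- a rational point of `X` lying on the closed subscheme `C` lifts to `C` -/
theorem exists_lift_ratPt {k : Type u} [Field k] [IsAlgClosed k] {X C : Scheme.{u}} (ι : C ⟶ X)
    [IsClosedImmersion ι] (P : Spec (CommRingCat.of k) ⟶ X)
    (hPC : P (IsLocalRing.closedPoint k) ∈ Set.range ι) :
    ∃ P' : Spec (CommRingCat.of k) ⟶ C, P' ≫ ι = P := by
  obtain ⟨c, hc⟩ := hPC
  obtain ⟨z, hz1, hz2⟩ := Scheme.Pullback.exists_preimage_pullback (f := ι) (g := P) c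
    (IsLocalRing.closedPoint k) hc
  haveI : Nonempty ↥(pullback ι P) := ⟨z⟩
  haveI : CompactSpace ↥(pullback ι P) :=
    (pullback.snd ι P).isClosedEmbedding.compactSpace
  obtain ⟨σ, hσ⟩ := exists_ratPt_of_nonempty (pullback.snd ι P)
  refine ⟨σ ≫ pullback.fst ι P, ?_⟩
  rw [Category.assoc, pullback.condition, ← Category.assoc, hσ, Category.id_comp]

section main

variable {k : Type u} [Field k] [IsAlgClosed k] {X : Scheme.{u}} [DecidableEq ↥X]
  (p : X ⟶ Spec (CommRingCat.of k)) {n : ℕ}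
  (C : Fin n → Scheme.{u}) (q : (i : Fin n) → (C i ⟶ Spec (CommRingCat.of k)))
  (ι : (i : Fin n) → (C i ⟶ X)) (hι : ∀ i, IsClosedImmersion (ι i)) (hq : ∀ i, ι i ≫ p = q i)
  (hs : ∀ i, Smooth (q i)) (hpr : ∀ i, Neron.IsProjectiveOver k (Over.mk (q i)))
  (hint : ∀ i, IsIntegral (C i)) (hd : ∀ i, topologicalKrullDim ↥(C i) = 1)

include hι hq hs hpr hint hd in
/-- two rational points on the same curve are algebraically equivalent -/
theorem algEquiv_same (i : Fin n) (P Q : Spec (CommRingCat.of k) ⟶ X) (hP : P ≫ p = 𝟙 _)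
    (hQ : Q ≫ p = 𝟙 _) (hPC : P (IsLocalRing.closedPoint k) ∈ Set.range ⇑(ι i))
    (hQC : Q (IsLocalRing.closedPoint k) ∈ Set.range ⇑(ι i)) :
    AlgEqCyc.IsAlgEquiv p
      (Function.locallyFinsuppWithin.single (P (IsLocalRing.closedPoint k)) (1 : ℤ))
      (Function.locallyFinsuppWithin.single (Q (IsLocalRing.closedPoint k)) (1 : ℤ)) := by
  haveI := hι i
  obtain ⟨P', hP'⟩ := exists_lift_ratPt (ι i) P hPC
  obtain ⟨Q', hQ'⟩ := exists_lift_ratPt (ι i) Q hQC
  have h1 : P' ≫ q i = 𝟙 _ := by rw [← hq i, ← Category.assoc, hP', hP]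
  have h2 : Q' ≫ q i = 𝟙 _ := by rw [← hq i, ← Category.assoc, hQ', hQ]
  have key := elemAlgTriv_curve p (q i) (hs i) (hpr i) (hint i) (hd i) (ι i) (hq i) P' Q' h1 h2
  have e1 : ι i (P' (IsLocalRing.closedPoint k)) = P (IsLocalRing.closedPoint k) := by
    rw [← hP']; rfl
  have e2 : ι i (Q' (IsLocalRing.closedPoint k)) = Q (IsLocalRing.closedPoint k) := by
    rw [← hQ']; rfl
  rw [e1, e2] at key
  exact AddSubgroup.subset_closure key

/-- adjacency of curves: the images intersect -/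
def Adj (i j : Fin n) : Prop := (Set.range ⇑(ι i) ∩ Set.range ⇑(ι j)).Nonempty

include hι hq hpr in
/-- adjacent curves share a rational point -/
theorem exists_ratPt_of_adj (i j : Fin n) (h : Adj C ι i j) :
    ∃ R : Spec (CommRingCat.of k) ⟶ X, R ≫ p = 𝟙 _ ∧
      R (IsLocalRing.closedPoint k) ∈ Set.range ⇑(ι i) ∧
      R (IsLocalRing.closedPoint k) ∈ Set.range ⇑(ι j) := by
  haveI := hι i
  haveI := hι j
  haveI := isProper_of_isProjectiveOver (q i) (hpr i)
  obtain ⟨x, ⟨a, ha⟩, ⟨b, hb⟩⟩ := h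
  obtain ⟨z, hz1, hz2⟩ := Scheme.Pullback.exists_preimage_pullback (f := ι i) (g := ι j) a b
    (ha.trans hb.symm)
  haveI : Nonempty ↥(pullback (ι i) (ι j)) := ⟨z⟩
  haveI : CompactSpace ↥(C i) := QuasiCompact.compactSpace_of_compactSpace (q i)
  haveI : CompactSpace ↥(pullback (ι i) (ι j)) :=
    (pullback.fst (ι i) (ι j)).isClosedEmbedding.compactSpace
  obtain ⟨σ, hσ⟩ := exists_ratPt_of_nonempty (pullback.fst (ι i) (ι j) ≫ q i)
  refine ⟨σ ≫ pullback.fst (ι i) (ι j) ≫ ι i, ?_, ⟨(σ ≫ pullback.fst (ι i) (ι j)) _, rfl⟩, ?_⟩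
  · rw [Category.assoc, Category.assoc, hq i]
    exact hσ
  · rw [pullback.condition]
    exact ⟨(σ ≫ pullback.snd (ι i) (ι j)) _, rfl⟩

include hι hq hs hpr hint hd in
/-- rational points on curves connected by a chain are algebraically equivalent -/
theorem algEquiv_of_chain (i j : Fin n) (h : Relation.ReflTransGen (Adj C ι) i j)
    (P Q : Spec (CommRingCat.of k) ⟶ X) (hP : P ≫ p = 𝟙 _)
    (hQ : Q ≫ p = 𝟙 _) (hPC : P (IsLocalRing.closedPoint k) ∈ Set.range ⇑(ι i))
    (hQC : Q (IsLocalRing.closedPoint k) ∈ Set.range ⇑(ι j)) :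
    AlgEqCyc.IsAlgEquiv p
      (Function.locallyFinsuppWithin.single (P (IsLocalRing.closedPoint k)) (1 : ℤ))
      (Function.locallyFinsuppWithin.single (Q (IsLocalRing.closedPoint k)) (1 : ℤ)) := by
  induction h generalizing Q with
  | refl => exact algEquiv_same p C q ι hι hq hs hpr hint hd i P Q hP hQ hPC hQC
  | tail h1 h2 ih =>
    rename_i b c
    obtain ⟨R, hR, hRb, hRc⟩ := exists_ratPt_of_adj p C q ι hι hq hpr b c h2
    have e1 := ih R hR hRb
    have e2 := algEquiv_same p C q ι hι hq hs hpr hint hd c R Q hR hQ hRc hQC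
    unfold AlgEqCyc.IsAlgEquiv at e1 e2 ⊢
    have := (AlgEqCyc.algTriv p).add_mem e1 e2
    rwa [sub_add_sub_cancel] at this

include hι hint in
/-- connectedness of the union means that all curves are connected by chains -/
theorem chain_of_connected (hconn : _root_.IsConnected (⋃ i, Set.range ⇑(ι i))) (i j : Fin n) :
    Relation.ReflTransGen (Adj C ι) i j := by
  by_contra hj
  set A : Set (Fin n) := {l | Relation.ReflTransGen (Adj C ι) i l} with hA
  set U : Set ↥X := ⋃ l ∈ A, Set.range ⇑(ι l) with hU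
  set V : Set ↥X := ⋃ l ∈ Aᶜ, Set.range ⇑(ι l) with hV
  have hcl : ∀ l, IsClosed (Set.range ⇑(ι l)) := fun l => by
    haveI := hι l
    exact (ι l).isClosedEmbedding.isClosed_range
  have hUc : IsClosed U := (Set.toFinite A).isClosed_biUnion fun l _ => hcl l
  have hVc : IsClosed V := (Set.toFinite Aᶜ).isClosed_biUnion fun l _ => hcl l
  have hne : ∀ l, (Set.range ⇑(ι l)).Nonempty := fun l => by
    haveI := hint l
    exact Set.range_nonempty _
  have hcov : (⋃ l, Set.range ⇑(ι l)) ⊆ U ∪ V := by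
    intro x hx
    obtain ⟨l, hl⟩ := Set.mem_iUnion.mp hx
    by_cases hlA : l ∈ A
    · exact Or.inl (Set.mem_biUnion hlA hl)
    · exact Or.inr (Set.mem_biUnion (show l ∈ Aᶜ from hlA) hl)
  have h1 : ((⋃ l, Set.range ⇑(ι l)) ∩ U).Nonempty := by
    obtain ⟨x, hx⟩ := hne i
    exact ⟨x, Set.mem_iUnion.mpr ⟨i, hx⟩,
      Set.mem_biUnion (show i ∈ A from Relation.ReflTransGen.refl) hx⟩
  have h2 : ((⋃ l, Set.range ⇑(ι l)) ∩ V).Nonempty := by
    obtain ⟨x, hx⟩ := hne j
    exact ⟨x, Set.mem_iUnion.mpr ⟨j, hx⟩, Set.mem_biUnion (show j ∈ Aᶜ from hj) hx⟩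
  obtain ⟨x, -, hxU, hxV⟩ := isPreconnected_closed_iff.mp hconn.isPreconnected U V hUc hVc hcov h1 h2
  obtain ⟨a, haA, hxa⟩ := Set.mem_iUnion₂.mp hxU
  obtain ⟨b, hbA, hxb⟩ := Set.mem_iUnion₂.mp hxV
  exact hbA (Relation.ReflTransGen.tail haA ⟨x, hxa, hxb⟩)

end main

end Groth.Agent.Helper3.AlgEq
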