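import Mathlib
import Groth.Agent.Helper3.SmKregD
import Groth.Agent.Helper3.KzIdeal

set_option autoImplicit false
set_option linter.style.haveILetI false
set_option linter.unusedSectionVars false
set_option linter.unusedVariables false
set_option linter.style.haveILetI false
set_option linter.unusedSectionVars false
set_option linter.unusedVariables false

/-!
# Composition of local complete intersection ring maps
-/

namespace Groth.Agent.Helper3.LciComp
open Groth.Agent.Helper3.FFDesc Groth.Agent.Helper3.FFDescS Groth.Agent.Helper3.KzLoc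
  Groth.Agent.Helper3.SmKregA Groth.Agent.Helper3.SmKregD Groth.Agent.Helper3.KzIdeal
open MvPolynomial

universe u

/-- the preimage of a Koszul-regular ideal under a surjection with Koszul-regular kernel is
Koszul-regular -/
theorem up_ideal_loc {R P : Type u} [CommRing R] [CommRing P] (ev : R →+* P)
    (hev : Function.Surjective ev) (hker : LCI.IsKoszulRegularIdeal (RingHom.ker ev))
    (K : Ideal P) (hK : LCI.IsKoszulRegularIdeal K) : LCI.IsKoszulRegularIdeal (K.comap ev) := by
  show LocGen FFDescK.kregClass _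
  apply locGen_of_forall_away
  intro q hq hle
  have hkq : RingHom.ker ev ≤ q := by
    refine le_trans ?_ hle
    intro y hy
    rw [Ideal.mem_comap, (RingHom.mem_ker).1 hy]
    exact Ideal.zero_mem _
  obtain ⟨g, hg, l, hl, hkl⟩ := hker ⟨q, hq⟩ hkq
  let T := Localization.Away g
  let P' := Localization.Away (ev g)
  let ev' : T →+* P' := IsLocalization.Away.map T P' ev g
  have hev' : Function.Surjective ev' := awayMap_surjective ev hev g T P'
  have hker' : RingHom.ker ev' = Ideal.ofList l := by
    rw [ker_awayMap ev g T P', hkl]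
  have hK' : LCI.IsKoszulRegularIdeal (K.map (algebraMap P P')) :=
    locGen_map FFDescK.kregClass _ (RingHom.flat_algebraMap_iff.mpr
      (IsLocalization.flat P' (Submonoid.powers (ev g)))) K hK
  have h1 := up_ideal ev' hev' l hker' hl _ hK'
  refine ⟨g, hg, T, inferInstance, inferInstance, inferInstance, ?_⟩
  rw [comap_awayMap ev hev g T P' K]
  exact h1

section comp
variable (A B C : Type u) [CommRing A] [CommRing B] [CommRing C] [Algebra A B] [Algebra B C]
  [Algebra A C] [IsScalarTower A B C]

/-- **composition of local complete intersection ring maps** -/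
theorem isLCI_comp (hAB : LCI.IsLCI A B) (hBC : LCI.IsLCI B C) : LCI.IsLCI A C := by
  obtain ⟨hft₁, n, α, hα, hI⟩ := hAB
  obtain ⟨hft₂, m, β, hβ, hJ⟩ := hBC
  refine ⟨Algebra.FiniteType.trans hft₁ hft₂, ?_⟩
  -- the surjection `A[x][y] → B[y]`
  let γ : MvPolynomial (Fin m) (MvPolynomial (Fin n) A) →+* MvPolynomial (Fin m) B :=
    MvPolynomial.map α.toRingHom
  have hγ : Function.Surjective γ := MvPolynomial.map_surjective _ hα
  have hkerγ : LCI.IsKoszulRegularIdeal (RingHom.ker γ) := by
    rw [MvPolynomial.ker_map]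
    exact locGen_map FFDescK.kregClass _ (RingHom.flat_algebraMap_iff.mpr inferInstance) _ hI
  have h1 : LCI.IsKoszulRegularIdeal ((RingHom.ker β.toRingHom).comap γ) :=
    up_ideal_loc γ hγ hkerγ _ hJ
  -- the presentation of `C` over `A`
  let e₁ : MvPolynomial (Fin m ⊕ Fin n) A ≃ₐ[A] MvPolynomial (Fin m) (MvPolynomial (Fin n) A) :=
    MvPolynomial.sumAlgEquiv A (Fin m) (Fin n)
  let e₂ : MvPolynomial (Fin m ⊕ Fin n) A ≃ₐ[A] MvPolynomial (Fin (m + n)) A :=
    MvPolynomial.renameEquiv A finSumFinEquiv
  let e : MvPolynomial (Fin (m + n)) A ≃ₐ[A] MvPolynomial (Fin m) (MvPolynomial (Fin n) A) :=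
    e₂.symm.trans e₁
  let δ : MvPolynomial (Fin m) (MvPolynomial (Fin n) A) →+* C := β.toRingHom.comp γ
  have hδalg : ∀ a : A, δ (algebraMap A _ a) = algebraMap A C a := by
    intro a
    have h2 : algebraMap A (MvPolynomial (Fin m) (MvPolynomial (Fin n) A)) a =
        MvPolynomial.C (MvPolynomial.C a) := rfl
    rw [h2]
    change β (MvPolynomial.map α.toRingHom (MvPolynomial.C (MvPolynomial.C a))) = _
    rw [MvPolynomial.map_C]
    have h3 : α.toRingHom (MvPolynomial.C a) = algebraMap A B a := α.commutes a
    rw [h3]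
    have h4 : β (MvPolynomial.C (algebraMap A B a)) = algebraMap B C (algebraMap A B a) :=
      β.commutes _
    rw [h4, ← IsScalarTower.algebraMap_apply]
  let δA : MvPolynomial (Fin m) (MvPolynomial (Fin n) A) →ₐ[A] C := { δ with commutes' := hδalg }
  let ε : MvPolynomial (Fin (m + n)) A →ₐ[A] C := δA.comp e.toAlgHom
  have hε : Function.Surjective ε := (hβ.comp hγ).comp e.surjective
  refine ⟨m + n, ε, hε, ?_⟩
  have hkerε : RingHom.ker ε.toRingHom =
      ((RingHom.ker β.toRingHom).comap γ).map (e.toRingEquiv.symm : _ →+* _) := by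
    rw [Ideal.map_coe, Ideal.map_symm]
    ext x
    simp only [RingHom.mem_ker, Ideal.mem_comap]
    rfl
  rw [hkerε]
  exact map_ringEquiv e.toRingEquiv.symm _ h1

end comp

/-- transport of `IsLCI` along an isomorphism of algebras -/
theorem isLCI_of_algEquiv (A C C' : Type u) [CommRing A] [CommRing C] [CommRing C'] [Algebra A C]
    [Algebra A C'] (e : C ≃ₐ[A] C') (h : LCI.IsLCI A C) : LCI.IsLCI A C' := by
  obtain ⟨hft, n, f, hf, hK⟩ := h
  refine ⟨hft.equiv e, n, e.toAlgHom.comp f, e.surjective.comp hf, ?_⟩
  convert hK using 1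
  ext x
  simp only [RingHom.mem_ker]
  change e (f x) = 0 ↔ f x = 0
  exact map_eq_zero_iff e e.injective

end Groth.Agent.Helper3.LciComp
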