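import Mathlib
import Groth.Prelude.Def_ega3
import Groth.Prelude.Def_LCI2
import Groth.Agent.Helper3.KzPoly

set_option autoImplicit false
set_option linter.style.haveILetI false
set_option linter.unusedSectionVars false
set_option linter.unusedVariables false
set_option linter.style.haveILetI false
set_option linter.unusedSectionVars false
set_option linter.unusedVariables false

/-!
# Koszul-regularity of the kernel of a presentation is independent of the presentation
-/

namespace Groth.Agent.Helper3.KzPres
open MvPolynomial Groth.Agent.Helper3.KzLoc Groth.Agent.Helper3.KzIdeal Groth.Agent.Helper3.KzPoly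

universe u

theorem main (A B : Type u) [CommRing A] [CommRing B]
    [Algebra A B] (n m : ℕ) (α : MvPolynomial (Fin n) A →ₐ[A] B) (hα : Function.Surjective α)
    (β : MvPolynomial (Fin m) A →ₐ[A] B) (hβ : Function.Surjective β)
    (h : LCI.IsKoszulRegularIdeal (RingHom.ker α.toRingHom)) :
    LCI.IsKoszulRegularIdeal (RingHom.ker β.toRingHom) := by
  have hP : ∀ j : Fin m, ∃ p : MvPolynomial (Fin n) A, α p = β (X j) := fun j => hα _
  have hQ : ∀ i : Fin n, ∃ q : MvPolynomial (Fin m) A, β q = α (X i) := fun i => hβ _
  choose hP hPα using hP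
  choose hQ hQβ using hQ
  let ev₁ : MvPolynomial (Fin m) (MvPolynomial (Fin n) A) →+* MvPolynomial (Fin n) A :=
    (aeval hP : MvPolynomial (Fin m) (MvPolynomial (Fin n) A) →ₐ[MvPolynomial (Fin n) A] _).toRingHom
  let ev₂ : MvPolynomial (Fin n) (MvPolynomial (Fin m) A) →+* MvPolynomial (Fin m) A :=
    (aeval hQ : MvPolynomial (Fin n) (MvPolynomial (Fin m) A) →ₐ[MvPolynomial (Fin m) A] _).toRingHom
  let σ : MvPolynomial (Fin m) (MvPolynomial (Fin n) A) ≃+*
      MvPolynomial (Fin n) (MvPolynomial (Fin m) A) := (commAlgEquiv A (Fin m) (Fin n)).toRingEquiv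
  let σh : MvPolynomial (Fin m) (MvPolynomial (Fin n) A) →+*
      MvPolynomial (Fin n) (MvPolynomial (Fin m) A) := σ.toRingHom
  have hcomm : ((β.toRingHom.comp ev₂).comp σh) = α.toRingHom.comp ev₁ := by
    refine MvPolynomial.ringHom_ext ?_ ?_
    · intro p
      have : ∀ p : MvPolynomial (Fin n) A,
          ((β.toRingHom.comp ev₂).comp σh).comp C p = (α.toRingHom.comp ev₁).comp C p := by
        intro p
        have h2 : ((β.toRingHom.comp ev₂).comp σh).comp C =
            (α.toRingHom.comp ev₁).comp C := by
          refine MvPolynomial.ringHom_ext ?_ ?_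
          · intro a
            simp [ev₁, ev₂, σ, σh]
          · intro i
            simp [ev₁, ev₂, σ, σh, hQβ]
        rw [h2]
      exact this p
    · intro j
      simp [ev₁, ev₂, σ, σh, hPα]
  have h1 : LCI.IsKoszulRegularIdeal ((RingHom.ker α.toRingHom).comap ev₁) := poly_up hP _ h
  have h2 := map_ringEquiv σ _ h1
  have h3 : ((RingHom.ker α.toRingHom).comap ev₁).map σh =
      (RingHom.ker β.toRingHom).comap ev₂ := by
    rw [RingHom.comap_ker, RingHom.comap_ker, ← hcomm, ← RingHom.comap_ker (β.toRingHom.comp ev₂) σh]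
    exact Ideal.map_comap_of_surjective σh σ.surjective _
  change LCI.IsKoszulRegularIdeal (((RingHom.ker α.toRingHom).comap ev₁).map σh) at h2
  rw [h3] at h2
  exact poly_down hQ _ h2

end Groth.Agent.Helper3.KzPres
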