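import Mathlib
import Groth.Prelude.Def_ega3
import Groth.Prelude.Def_LCI2
import Groth.Agent.Helper3.KzAway
import Groth.Agent.Helper3.KzPres

set_option autoImplicit false
set_option linter.style.haveILetI false
set_option linter.unusedSectionVars false
set_option linter.unusedVariables false
set_option linter.style.haveILetI false
set_option linter.unusedSectionVars false
set_option linter.unusedVariables false

/-!
# Being a local complete intersection is local on the source
-/

namespace Groth.Agent.Helper3.KzLocal
open Polynomial Groth.Agent.Helper3.KzLoc Groth.Agent.Helper3.KzIdeal Groth.Agent.Helper3.KzAway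

universe u

section step
variable {R S : Type u} [CommRing R] [CommRing S] [Algebra R S] {n : ℕ}
  (α : MvPolynomial (Fin n) R →ₐ[R] S) (hα : Function.Surjective α)

include hα in
/-- if `S_g` is lci over `R`, then the kernel of a presentation of `S` is locally Koszul-regular
at all primes in `D(G)`, `G` a lift of `g` -/
theorem locKReg_of_isLCI_away (G : MvPolynomial (Fin n) R) (g : S) (hG : α G = g)
    (h : LCI.IsLCI R (Localization.Away g)) (q : Ideal (MvPolynomial (Fin n) R)) [q.IsPrime]
    (hq : RingHom.ker α.toRingHom ≤ q) (hGq : G ∉ q) :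
    LocKReg (RingHom.ker α.toRingHom) q := by
  subst hG
  obtain ⟨-, n', β, hβ, hKβ⟩ := h
  let AR := AdjoinRoot (fG G)
  haveI : IsLocalization.Away G AR := IsLocalization.adjoin_inv G
  let Sg := Localization.Away (α G)
  haveI : IsLocalization.Away (α.toRingHom G) Sg :=
    (inferInstance : IsLocalization.Away (α G) (Localization.Away (α G)))
  let θ : AR →+* Sg := IsLocalization.Away.map AR Sg α.toRingHom G
  have hθ : Function.Surjective θ := awayMap_surjective α.toRingHom hα G AR Sg
  have hkerθ : RingHom.ker θ =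
      (RingHom.ker α.toRingHom).map (algebraMap (MvPolynomial (Fin n) R) AR) :=
    ker_awayMap α.toRingHom G AR Sg
  let ev : (MvPolynomial (Fin n) R)[X] →+* AR := AdjoinRoot.mk (fG G)
  let fs : MvPolynomial (Fin (n + 1)) R →+* (MvPolynomial (Fin n) R)[X] :=
    (MvPolynomial.finSuccEquiv R n).toRingEquiv.toRingHom
  let ψr : MvPolynomial (Fin (n + 1)) R →+* Sg := θ.comp (ev.comp fs)
  let ψ : MvPolynomial (Fin (n + 1)) R →ₐ[R] Sg :=
    { ψr with
      commutes' := by
        intro r
        change θ (ev (MvPolynomial.finSuccEquiv R n (algebraMap R _ r))) = _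
        rw [MvPolynomial.algebraMap_eq, MvPolynomial.finSuccEquiv_apply]
        simp only [MvPolynomial.eval₂Hom_C, RingHom.coe_comp, Function.comp_apply]
        change θ (algebraMap (MvPolynomial (Fin n) R) AR (MvPolynomial.C r)) = _
        have h0 := RingHom.congr_fun (awayMap_comp α.toRingHom G AR Sg) (MvPolynomial.C r)
        simp only [RingHom.coe_comp, Function.comp_apply] at h0
        rw [h0]
        change algebraMap S Sg (α (MvPolynomial.C r)) = _
        rw [← MvPolynomial.algebraMap_eq, α.commutes, ← IsScalarTower.algebraMap_apply] }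
  have hψ : Function.Surjective ψ := by
    intro s
    obtain ⟨a, rfl⟩ := hθ s
    obtain ⟨b, rfl⟩ := AdjoinRoot.mk_surjective (g := fG G) a
    obtain ⟨c, rfl⟩ := (MvPolynomial.finSuccEquiv R n).surjective b
    exact ⟨c, rfl⟩
  have h1 : LCI.IsKoszulRegularIdeal (RingHom.ker ψ.toRingHom) :=
    Groth.Agent.Helper3.KzPres.main R Sg n' (n + 1) β hβ ψ hψ hKβ
  have h2 : RingHom.ker ψ.toRingHom = ((RingHom.ker θ).comap ev).comap fs := by
    change RingHom.ker ψr = _
    rw [RingHom.comap_ker, RingHom.comap_ker, RingHom.comp_assoc]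
  have h3 : LCI.IsKoszulRegularIdeal ((RingHom.ker θ).comap ev) := by
    have := map_ringEquiv (MvPolynomial.finSuccEquiv R n).toRingEquiv _ h1
    rw [h2] at this
    change LCI.IsKoszulRegularIdeal ((((RingHom.ker θ).comap ev).comap fs).map fs) at this
    rwa [Ideal.map_comap_of_surjective fs (MvPolynomial.finSuccEquiv R n).surjective] at this
  have h4 : LCI.IsKoszulRegularIdeal (RingHom.ker θ) := adjoin_down G _ h3
  rw [hkerθ] at h4
  have hdisj : Disjoint (Submonoid.powers G : Set (MvPolynomial (Fin n) R)) (q : Set _) := by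
    rw [Set.disjoint_left]
    rintro _ ⟨k, rfl⟩ hk
    exact hGq (Ideal.IsPrime.mem_of_pow_mem inferInstance k hk)
  have hq' : (q.map (algebraMap (MvPolynomial (Fin n) R) AR)).IsPrime :=
    IsLocalization.isPrime_of_isPrime_disjoint (Submonoid.powers G) AR q inferInstance hdisj
  have h5 := h4 ⟨_, hq'⟩ (Ideal.map_mono hq)
  exact locKReg_of_away G AR _ q h5 hGq

end step

theorem main (R S : Type u) [CommRing R] [CommRing S] [Algebra R S]
    (m : ℕ) (g : Fin m → S) (hg : Ideal.span (Set.range g) = ⊤)
    (h : ∀ j, LCI.IsLCI R (Localization.Away (g j))) : LCI.IsLCI R S := by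
  have hft : Algebra.FiniteType R S := by
    rw [← RingHom.finiteType_algebraMap]
    refine RingHom.finiteType_ofLocalizationSpanTarget (algebraMap R S) (Set.range g) hg ?_
    rintro ⟨_, j, rfl⟩
    rw [← IsScalarTower.algebraMap_eq, RingHom.finiteType_algebraMap]
    exact (h j).1
  refine ⟨hft, ?_⟩
  obtain ⟨n, α, hα⟩ := Algebra.FiniteType.iff_quotient_mvPolynomial''.1 hft
  refine ⟨n, α, hα, ?_⟩
  choose G hG using fun j => hα (g j)
  intro q hq
  haveI := q.isPrime
  have hex : ∃ j, G j ∉ q.asIdeal := by
    by_contra hcon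
    push Not at hcon
    have hker : RingHom.ker α.toRingHom ≤ q.asIdeal := hq
    have hprime : (q.asIdeal.map α.toRingHom).IsPrime :=
      Ideal.map_isPrime_of_surjective hα hker
    apply hprime.ne_top
    rw [eq_top_iff, ← hg, Ideal.span_le]
    rintro _ ⟨j, rfl⟩
    rw [← hG j]
    exact Ideal.mem_map_of_mem _ (hcon j)
  obtain ⟨j, hj⟩ := hex
  exact locKReg_of_isLCI_away α hα (G j) (g j) (hG j) (h j) q.asIdeal hq hj

end Groth.Agent.Helper3.KzLocal
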