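import Mathlib
import Groth.Agent.Helper3.LciComp
import Groth.Agent.S9253

set_option autoImplicit false
set_option linter.style.haveILetI false
set_option linter.unusedSectionVars false
set_option linter.unusedVariables false
set_option linter.style.haveILetI false
set_option linter.unusedSectionVars false
set_option linter.unusedVariables false

/-!
# Composition of local complete intersection morphisms (affine-local form)
-/

namespace Groth.Agent.Helper3.LciCompS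
open CategoryTheory Limits AlgebraicGeometry TopologicalSpace
open Groth.Agent.Helper3.LciComp

universe u

variable {X Y Z : Scheme.{u}}

/-- `IsLCI` for sections over an affine open can be checked on a cover by basic opens -/
theorem isLCI_of_basicOpen_cover {X Z : Scheme.{u}} (h : X ⟶ Z) {U : X.Opens} (hU : IsAffineOpen U)
    {V : Z.Opens} (hUV : U ≤ h ⁻¹ᵁ V)
    (H : ∀ x ∈ U, ∃ c : Γ(X, U), x ∈ X.basicOpen c ∧
      (letI := (h.appLE V (X.basicOpen c) ((X.basicOpen_le c).trans hUV)).hom.toAlgebra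
       LCI.IsLCI Γ(Z, V) Γ(X, X.basicOpen c))) :
    letI := (h.appLE V U hUV).hom.toAlgebra
    LCI.IsLCI Γ(Z, V) Γ(X, U) := by
  letI algU := (h.appLE V U hUV).hom.toAlgebra
  let s : Set Γ(X, U) := {c | letI := (h.appLE V (X.basicOpen c) ((X.basicOpen_le c).trans hUV)).hom.toAlgebra
       LCI.IsLCI Γ(Z, V) Γ(X, X.basicOpen c)}
  have hs : Ideal.span s = ⊤ := by
    rw [← hU.self_le_iSup_basicOpen_iff]
    intro x hx
    obtain ⟨c, hxc, hc⟩ := H x hx
    rw [Opens.mem_iSup]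
    exact ⟨⟨c, hc⟩, hxc⟩
  obtain ⟨s', hs's, hs'⟩ := (Ideal.span_eq_top_iff_finite s).mp hs
  let m := s'.card
  let c : Fin m → Γ(X, U) := fun j => (s'.equivFin.symm j).1
  have hc : Ideal.span (Set.range c) = ⊤ := by
    rw [← hs']
    congr 1
    ext y
    constructor
    · rintro ⟨j, rfl⟩
      exact (s'.equivFin.symm j).2
    · intro hy
      exact ⟨s'.equivFin ⟨y, hy⟩, by simp [c]⟩
  refine Groth.Agent.S9253.result Γ(Z, V) Γ(X, U) m c hc fun j => ?_
  have hcj : c j ∈ s := hs's (s'.equivFin.symm j).2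
  letI algD := (h.appLE V (X.basicOpen (c j)) ((X.basicOpen_le (c j)).trans hUV)).hom.toAlgebra
  have hlci : LCI.IsLCI Γ(Z, V) Γ(X, X.basicOpen (c j)) := hcj
  haveI := hU.isLocalization_basicOpen (c j)
  haveI : IsScalarTower Γ(Z, V) Γ(X, U) Γ(X, X.basicOpen (c j)) := by
    refine IsScalarTower.of_algebraMap_eq' ?_
    have := Scheme.Hom.appLE_map h hUV (homOfLE (X.basicOpen_le (c j))).op
    exact congr($(this.symm).hom)
  let e : Γ(X, X.basicOpen (c j)) ≃ₐ[Γ(X, U)] Localization.Away (c j) :=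
    IsLocalization.algEquiv (Submonoid.powers (c j)) _ _
  exact isLCI_of_algEquiv _ _ _ (e.restrictScalars Γ(Z, V)) hlci

theorem s1491 (f : X ⟶ Y) (g : Y ⟶ Z)
    (hf : (∀ (U : X.Opens) (V : Y.Opens) (hU : IsAffineOpen U) (hV : IsAffineOpen V) (hUV : U ≤ f ⁻¹ᵁ V),
        letI := (f.appLE V U hUV).hom.toAlgebra
        LCI.IsLCI Γ(Y, V) Γ(X, U)))
    (hg : (∀ (U : Y.Opens) (V : Z.Opens) (hU : IsAffineOpen U) (hV : IsAffineOpen V) (hUV : U ≤ g ⁻¹ᵁ V),
        letI := (g.appLE V U hUV).hom.toAlgebra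
        LCI.IsLCI Γ(Z, V) Γ(Y, U))) :
    (∀ (U : X.Opens) (V : Z.Opens) (hU : IsAffineOpen U) (hV : IsAffineOpen V) (hUV : U ≤ (f ≫ g) ⁻¹ᵁ V),
        letI := ((f ≫ g).appLE V U hUV).hom.toAlgebra
        LCI.IsLCI Γ(Z, V) Γ(X, U)) := by
  intro U V hU hV hUV
  apply isLCI_of_basicOpen_cover (f ≫ g) hU hUV
  intro x hx
  have hfx : f x ∈ g ⁻¹ᵁ V := hUV hx
  obtain ⟨_, ⟨W, hW : IsAffineOpen W, rfl⟩, hxW, hWle⟩ :=
    Y.isBasis_affineOpens.exists_subset_of_mem_open hfx (g ⁻¹ᵁ V).isOpen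
  have hWle' : W ≤ g ⁻¹ᵁ V := hWle
  obtain ⟨c, hcle, hxc⟩ := hU.exists_basicOpen_le (V := f ⁻¹ᵁ W) ⟨x, hxW⟩ hx
  refine ⟨c, hxc, ?_⟩
  letI alg1 := (g.appLE V W hWle').hom.toAlgebra
  letI alg2 := (f.appLE W (X.basicOpen c) hcle).hom.toAlgebra
  letI alg3 := ((f ≫ g).appLE V (X.basicOpen c) ((X.basicOpen_le c).trans hUV)).hom.toAlgebra
  haveI : IsScalarTower Γ(Z, V) Γ(Y, W) Γ(X, X.basicOpen c) := by
    refine IsScalarTower.of_algebraMap_eq' ?_
    have := Scheme.Hom.appLE_comp_appLE f g V W (X.basicOpen c) hWle' hcle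
    exact congr($(this.symm).hom)
  exact isLCI_comp Γ(Z, V) Γ(Y, W) Γ(X, X.basicOpen c) (hg W V hW hV hWle')
    (hf (X.basicOpen c) W (hU.basicOpen c) hW hcle)

end Groth.Agent.Helper3.LciCompS
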