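import Mathlib
import Groth.Agent.Helper3.FFDescS1
import Groth.Agent.Helper3.FFDescK
import Groth.Agent.Helper3.KzPres
import Groth.Agent.Lead.KoszulGeoC

set_option autoImplicit false
set_option linter.style.haveILetI false
set_option linter.unusedSectionVars false
set_option linter.unusedVariables false
set_option linter.style.haveILetI false
set_option linter.unusedSectionVars false
set_option linter.unusedVariables false

/-!
# Descent of local complete intersection ring maps along a finite jointly surjective family of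
flat ring maps
-/

namespace Groth.Agent.Helper3.LciDesc
open CategoryTheory CategoryTheory.Limits
open Groth.Agent.Helper3.FFDesc

universe u

attribute [local instance] MvPolynomial.algebraMvPolynomial

/-- flatness of polynomial base change -/
lemma flat_map {A A' : Type u} [CommRing A] [CommRing A'] (g : A →+* A') (hg : g.Flat)
    (σ : Type) : (MvPolynomial.map (σ := σ) g).Flat := by
  letI := g.toAlgebra
  exact RingHom.Flat.isStableUnderBaseChange A A' (MvPolynomial σ A) (MvPolynomial σ A') hg

section poly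
variable {ι : Type} [Fintype ι] [DecidableEq ι] {A : Type u} [CommRing A]
  (A' : ι → Type u) [∀ j, CommRing (A' j)] (g : ∀ j, A →+* A' j) (n : ℕ)

/-- joint surjectivity on spectra passes to polynomial rings -/
lemma exists_comap_poly (hflat : ∀ j, (g j).Flat)
    (hsurj : ∀ 𝔭 : PrimeSpectrum A, ∃ (j : ι) (𝔮 : PrimeSpectrum (A' j)),
      PrimeSpectrum.comap (g j) 𝔮 = 𝔭)
    (𝔭 : PrimeSpectrum (MvPolynomial (Fin n) A)) :
    ∃ (j : ι) (𝔮 : PrimeSpectrum (MvPolynomial (Fin n) (A' j))),
      PrimeSpectrum.comap (MvPolynomial.map (g j)) 𝔮 = 𝔭 := by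
  have hff := FFDescS.faithfullyFlat_pi A' g hflat hsurj
  letI := (Pi.ringHom g).toAlgebra
  have hff' : (MvPolynomial.map (σ := Fin n) (Pi.ringHom g)).FaithfullyFlat :=
    RingHom.FaithfullyFlat.isStableUnderBaseChange A (Π j, A' j) (MvPolynomial (Fin n) A)
      (MvPolynomial (Fin n) (Π j, A' j)) hff
  rw [RingHom.FaithfullyFlat.iff_flat_and_comap_surjective] at hff'
  obtain ⟨𝔮', h𝔮'⟩ := hff'.2 𝔭
  have hex : ∃ j, MvPolynomial.C (σ := Fin n) (Pi.single j 1 : Π j, A' j) ∉ 𝔮'.asIdeal := by
    by_contra hcon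
    push Not at hcon
    have h1 : (∑ j, MvPolynomial.C (σ := Fin n) (Pi.single j 1 : Π j, A' j)) ∈ 𝔮'.asIdeal :=
      Ideal.sum_mem _ (fun j _ => hcon j)
    have hs : (∑ x, Pi.single x (1 : A' x)) = (1 : Π j, A' j) :=
      Finset.univ_sum_single (1 : Π j, A' j)
    rw [← map_sum, hs, map_one] at h1
    exact 𝔮'.isPrime.ne_top ((Ideal.eq_top_iff_one _).mpr h1)
  obtain ⟨j, hj⟩ := hex
  let π : MvPolynomial (Fin n) (Π j, A' j) →+* MvPolynomial (Fin n) (A' j) :=
    MvPolynomial.map (Pi.evalRingHom A' j)
  have hπ : Function.Surjective π :=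
    MvPolynomial.map_surjective _ (fun a => ⟨Pi.single j a, by simp⟩)
  have hker : RingHom.ker π ≤ 𝔮'.asIdeal := by
    intro p hp
    have h0 : MvPolynomial.C (Pi.single j 1) * p = 0 := by
      ext m i
      rw [MvPolynomial.coeff_C_mul, MvPolynomial.coeff_zero]
      by_cases hij : i = j
      · subst hij
        have h2 : MvPolynomial.coeff m (π p) = 0 := by
          rw [(RingHom.mem_ker).mp hp]; simp
        rw [MvPolynomial.coeff_map] at h2
        simpa using h2
      · simp [Pi.single_eq_of_ne hij]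
    have h1 : MvPolynomial.C (Pi.single j 1) * p ∈ 𝔮'.asIdeal := by rw [h0]; exact zero_mem _
    exact (𝔮'.isPrime.mem_or_mem h1).resolve_left hj
  have hprime : (𝔮'.asIdeal.map π).IsPrime := Ideal.map_isPrime_of_surjective hπ hker
  refine ⟨j, ⟨𝔮'.asIdeal.map π, hprime⟩, ?_⟩
  apply PrimeSpectrum.ext
  show Ideal.comap (MvPolynomial.map (g j)) (𝔮'.asIdeal.map π) = 𝔭.asIdeal
  have h2 : MvPolynomial.map (σ := Fin n) (g j) = π.comp (MvPolynomial.map (Pi.ringHom g)) := by
    apply RingHom.ext
    intro p
    rw [RingHom.comp_apply, MvPolynomial.map_map]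
    rfl
  have h3 : Ideal.comap π (𝔮'.asIdeal.map π) = 𝔮'.asIdeal := by
    rw [Ideal.comap_map_of_surjective _ hπ]
    exact sup_eq_left.mpr hker
  rw [h2, ← Ideal.comap_comap, h3]
  exact congrArg PrimeSpectrum.asIdeal h𝔮'

end poly

/-- cobase change of a surjection in `CommRingCat` is a surjection -/
lemma surjective_of_isPushout {A B A' P : CommRingCat.{u}} (φ : A ⟶ B) (ψ : A ⟶ A') (φ' : B ⟶ P)
    (ψ' : A' ⟶ P) (h : IsPushout φ ψ φ' ψ') (hφ : Function.Surjective φ.hom) :
    Function.Surjective ψ'.hom := by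
  have h1 : (RingHom.toMorphismProperty (fun f => Function.Surjective f)).IsStableUnderCobaseChange :=
    RingHom.isStableUnderCobaseChange_toMorphismProperty_iff.mpr
      RingHom.surjective_isStableUnderBaseChange
  exact h1.of_isPushout h.flip hφ

/-- **descent of local complete intersection ring maps** along a finite jointly surjective family
of flat ring maps -/
theorem isLCI_descent {ι : Type} [Fintype ι] [DecidableEq ι] {A C : Type u} [CommRing A]
    [CommRing C] (A' C' : ι → Type u) [∀ j, CommRing (A' j)] [∀ j, CommRing (C' j)]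
    (f : A →+* C) (g : ∀ j, A →+* A' j) (f' : ∀ j, A' j →+* C' j) (g' : ∀ j, C →+* C' j)
    (hpo : ∀ j, IsPushout (CommRingCat.ofHom f) (CommRingCat.ofHom (g j))
      (CommRingCat.ofHom (g' j)) (CommRingCat.ofHom (f' j)))
    (hflat : ∀ j, (g j).Flat)
    (hsurj : ∀ 𝔭 : PrimeSpectrum A, ∃ (j : ι) (𝔮 : PrimeSpectrum (A' j)),
      PrimeSpectrum.comap (g j) 𝔮 = 𝔭)
    (hft : f.FiniteType)
    (h : ∀ j, @LCI.IsLCI (A' j) _ (C' j) _ (f' j).toAlgebra) :
    @LCI.IsLCI A _ C _ f.toAlgebra := by
  letI := f.toAlgebra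
  obtain ⟨n, α, hα⟩ := Algebra.FiniteType.iff_quotient_mvPolynomial''.mp hft
  refine ⟨hft, n, α, hα, ?_⟩
  show LocGen FFDescK.kregClass _
  refine FFDescS.main_family FFDescK.kregClass (fun j => MvPolynomial (Fin n) (A' j))
    (fun j => MvPolynomial.map (g j)) _ (fun j => flat_map (g j) (hflat j) _)
    (exists_comap_poly A' g n hflat hsurj) (fun j => ?_)
  letI := (f' j).toAlgebra
  have hw : ∀ a : A, f' j (g j a) = g' j (f a) := fun a =>
    (congrArg (fun k => k.hom a) (hpo j).w).symm
  let β : MvPolynomial (Fin n) (A' j) →ₐ[A' j] C' j :=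
    MvPolynomial.aeval (fun i => g' j (α (MvPolynomial.X i)))
  have hcomm : β.toRingHom.comp (MvPolynomial.map (g j)) = (g' j).comp α.toRingHom := by
    apply MvPolynomial.ringHom_ext
    · intro a
      show β (MvPolynomial.map (g j) (MvPolynomial.C a)) = g' j (α (MvPolynomial.C a))
      rw [MvPolynomial.map_C]
      have h1 : α (MvPolynomial.C a) = f a := by
        rw [← MvPolynomial.algebraMap_eq, AlgHom.commutes]; rfl
      have h2 : β (MvPolynomial.C (g j a)) = f' j (g j a) := by
        rw [← MvPolynomial.algebraMap_eq, AlgHom.commutes]; rfl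
      rw [h1, h2, hw]
    · intro i
      show β (MvPolynomial.map (g j) (MvPolynomial.X i)) = g' j (α (MvPolynomial.X i))
      rw [MvPolynomial.map_X]
      exact MvPolynomial.aeval_X _ i
  have hright : IsPushout (CommRingCat.ofHom α.toRingHom)
      (CommRingCat.ofHom (MvPolynomial.map (σ := Fin n) (g j)))
      (CommRingCat.ofHom (g' j)) (CommRingCat.ofHom β.toRingHom) := by
    letI := (g j).toAlgebra
    have hleft : IsPushout (CommRingCat.ofHom (MvPolynomial.C : A →+* MvPolynomial (Fin n) A))
        (CommRingCat.ofHom (g j)) (CommRingCat.ofHom (MvPolynomial.map (σ := Fin n) (g j)))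
        (CommRingCat.ofHom (MvPolynomial.C : A' j →+* MvPolynomial (Fin n) (A' j))) :=
      CommRingCat.isPushout_of_isPushout A (MvPolynomial (Fin n) A) (A' j)
        (MvPolynomial (Fin n) (A' j))
    refine IsPushout.of_left ?_ ?_ hleft
    · have e1 : CommRingCat.ofHom (MvPolynomial.C : A →+* MvPolynomial (Fin n) A) ≫
          CommRingCat.ofHom α.toRingHom = CommRingCat.ofHom f := by
        ext a
        show α (MvPolynomial.C a) = f a
        rw [← MvPolynomial.algebraMap_eq, AlgHom.commutes]; rfl
      have e2 : CommRingCat.ofHom (MvPolynomial.C : A' j →+* MvPolynomial (Fin n) (A' j)) ≫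
          CommRingCat.ofHom β.toRingHom = CommRingCat.ofHom (f' j) := by
        ext a
        show β (MvPolynomial.C a) = f' j a
        rw [← MvPolynomial.algebraMap_eq, AlgHom.commutes]; rfl
      rw [e1, e2]
      exact hpo j
    · exact CommRingCat.hom_ext hcomm.symm
  have hβ : Function.Surjective β :=
    surjective_of_isPushout _ _ _ _ hright hα
  have hker : RingHom.ker β.toRingHom =
      (RingHom.ker α.toRingHom).map (MvPolynomial.map (σ := Fin n) (g j)) :=
    Groth.Agent.Lead.KoszulGeoC.ker_of_isPushout _ _ _ _ hright hα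
  obtain ⟨_, m, γ, hγ, hK⟩ := h j
  have h9 := KzPres.main (A' j) (C' j) m n γ hγ β hβ hK
  rw [hker] at h9
  exact h9

end Groth.Agent.Helper3.LciDesc
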