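import Mathlib
import Groth.Agent.Helper3.LciDesc
import Groth.Agent.Helper3.FFDescS2

set_option autoImplicit false
set_option linter.style.haveILetI false
set_option linter.unusedSectionVars false
set_option linter.unusedVariables false
set_option linter.style.haveILetI false
set_option linter.unusedSectionVars false
set_option linter.unusedVariables false

/-!
# fpqc descent of local complete intersection morphisms (affine-local form)
-/

namespace Groth.Agent.Helper3.LciDescS
open AlgebraicGeometry CategoryTheory Limits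

universe u

theorem s1492 {X S X' S' : Scheme.{u}} (f : X ⟶ S) (f' : X' ⟶ S') (g' : X' ⟶ X) (g : S' ⟶ S)
    [Flat g] [Surjective g] [QuasiCompact g] (hc : IsPullback g' f' f g)
    (hf' : ∀ (U : X'.Opens) (V : S'.Opens) (hU : IsAffineOpen U) (hV : IsAffineOpen V)
      (hUV : U ≤ f' ⁻¹ᵁ V),
        letI := (f'.appLE V U hUV).hom.toAlgebra
        LCI.IsLCI Γ(S', V) Γ(X', U)) :
    ∀ (U : X.Opens) (V : S.Opens) (hU : IsAffineOpen U) (hV : IsAffineOpen V)
      (hUV : U ≤ f ⁻¹ᵁ V),
        letI := (f.appLE V U hUV).hom.toAlgebra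
        LCI.IsLCI Γ(S, V) Γ(X, U) := by
  intro U V hU hV hUV
  have hlft' : LocallyOfFiniteType f' := by
    rw [HasRingHomProperty.iff_appLE (P := @LocallyOfFiniteType)]
    intro V' U' e
    exact (hf' U'.1 V'.1 U'.2 V'.2 e).1
  have hlft : LocallyOfFiniteType f :=
    MorphismProperty.of_isPullback_of_descendsAlong (P := @LocallyOfFiniteType)
      (Q := @Surjective ⊓ @Flat ⊓ @QuasiCompact) hc.flip
      ⟨⟨inferInstance, inferInstance⟩, inferInstance⟩ hlft'
  have hft : (f.appLE V U hUV).hom.FiniteType :=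
    HasRingHomProperty.appLE (P := @LocallyOfFiniteType) f hlft ⟨V, hV⟩ ⟨U, hU⟩ hUV
  obtain ⟨n, V', hV', hle, hcov⟩ := FFDescS.exists_cover g V hV
  let W : Fin n → X'.Opens := fun j => g' ⁻¹ᵁ U ⊓ f' ⁻¹ᵁ (V' j)
  have hWaff : ∀ j, IsAffineOpen (W j) := fun j => by
    have : IsAffine V.toScheme := hV
    have : IsAffine (V' j).toScheme := hV' j
    have : IsAffine U.toScheme := hU
    exact .of_isIso (Scheme.Hom.isPullback_resLE hc (hle j) hUV rfl).isoPullback.hom
  refine LciDesc.isLCI_descent (fun j => Γ(S', V' j)) (fun j => Γ(X', W j))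
    (f.appLE V U hUV).hom (fun j => (g.appLE V (V' j) (hle j)).hom)
    (fun j => (f'.appLE (V' j) (W j) inf_le_right).hom)
    (fun j => (g'.appLE U (W j) inf_le_left).hom) (fun j => ?_) (fun j => ?_) (fun 𝔭 => ?_) hft
    (fun j => hf' (W j) (V' j) (hWaff j) (hV' j) inf_le_right)
  · exact (isIso_pushoutSection_iff hc (hle j) hUV rfl).mp
      (isIso_pushoutSection_of_isAffineOpen hc (hle j) hUV rfl hV (hV' j) hU)
  · exact HasRingHomProperty.appLE (P := @Flat) g inferInstance ⟨V, hV⟩ ⟨V' j, hV' j⟩ (hle j)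
  · obtain ⟨x', hx'⟩ := g.surjective (hV.fromSpec 𝔭)
    have hx'V : g x' ∈ V := by
      rw [hx']
      exact FFDescS.fromSpec_mem hV 𝔭
    obtain ⟨j, hj⟩ := hcov x' hx'V
    refine ⟨j, (hV' j).primeIdealOf ⟨x', hj⟩, ?_⟩
    have h1 := IsAffineOpen.comap_primeIdealOf_appLE (f := g) V hV (V' j) (hV' j) (hle j) hj
    rw [h1]
    have h2 : hV.primeIdealOf ⟨g x', hle j hj⟩ =
        hV.primeIdealOf ⟨hV.fromSpec 𝔭, FFDescS.fromSpec_mem hV 𝔭⟩ := by
      congr 1
      exact Subtype.ext hx'
    rw [h2, FFDescS.primeIdealOf_fromSpec]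

end Groth.Agent.Helper3.LciDescS
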