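import Mathlib
import Groth.Agent.Helper3.KosBridgeC
import Groth.Agent.Helper3.LciCompS
import Groth.Agent.Helper3.LciDescS

set_option autoImplicit false
set_option linter.style.haveILetI false
set_option linter.unusedSectionVars false
set_option linter.unusedVariables false
set_option linter.style.haveILetI false
set_option linter.unusedSectionVars false
set_option linter.unusedVariables false

/-!
# Composition and fpqc descent of morphisms Koszul at every point
-/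

namespace Groth.Agent.Helper3.KosBridgeD
open CategoryTheory Limits AlgebraicGeometry TopologicalSpace
open Groth.Agent.Helper3.KosBridgeC

universe u

/-- a chart around a point: affine opens `x ∈ U`, `U ≤ f⁻¹ V` -/
lemma exists_affine_pair {X Y : Scheme.{u}} (f : X ⟶ Y) (x : X) :
    ∃ (U : X.Opens) (V : Y.Opens), IsAffineOpen U ∧ IsAffineOpen V ∧ U ≤ f ⁻¹ᵁ V ∧ x ∈ U := by
  obtain ⟨_, ⟨V, hV : IsAffineOpen V, rfl⟩, hxV, -⟩ :=
    Y.isBasis_affineOpens.exists_subset_of_mem_open (Set.mem_univ (f x)) isOpen_univ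
  have hx : x ∈ f ⁻¹ᵁ V := hxV
  obtain ⟨_, ⟨U, hU : IsAffineOpen U, rfl⟩, hxU, hUle⟩ :=
    X.isBasis_affineOpens.exists_subset_of_mem_open hx (f ⁻¹ᵁ V).isOpen
  exact ⟨U, V, hU, hV, hUle, hxU⟩

/-- from the affine-local form (all affine pairs) to Koszul at every point -/
theorem forall_isKoszulAt_of_isLCI {X Y : Scheme.{u}} (f : X ⟶ Y)
    (h : ∀ (U : X.Opens) (V : Y.Opens) (hU : IsAffineOpen U) (hV : IsAffineOpen V)
      (hUV : U ≤ f ⁻¹ᵁ V),
        letI := (f.appLE V U hUV).hom.toAlgebra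
        LCI.IsLCI Γ(Y, V) Γ(X, U)) (x : X) : Synt.IsKoszulAt f x := by
  obtain ⟨U, V, hU, hV, hUV, hx⟩ := exists_affine_pair f x
  exact isKoszulAt_of_isLCI f U V hU hV hUV (h U V hU hV hUV) x hx

theorem s8661 {X Y Z : Scheme.{u}} (f : X ⟶ Y) (g : Y ⟶ Z)
    (hf : ∀ x : X, Synt.IsKoszulAt f x) (hg : ∀ y : Y, Synt.IsKoszulAt g y) :
    ∀ x : X, Synt.IsKoszulAt (f ≫ g) x :=
  forall_isKoszulAt_of_isLCI (f ≫ g)
    (LciCompS.s1491 f g (isLCI_of_isKoszulAt f hf) (isLCI_of_isKoszulAt g hg))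

theorem s8662 {X Y X' Y' : Scheme.{u}} (f : X ⟶ Y) (g : Y' ⟶ Y) [Flat g] [Surjective g]
    [QuasiCompact g] (f' : X' ⟶ Y') (g' : X' ⟶ X) (hsq : IsPullback g' f' f g)
    (hf' : ∀ x' : X', Synt.IsKoszulAt f' x') : ∀ x : X, Synt.IsKoszulAt f x :=
  forall_isKoszulAt_of_isLCI f
    (LciDescS.s1492 f f' g' g hsq (isLCI_of_isKoszulAt f' hf'))

end Groth.Agent.Helper3.KosBridgeD
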