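import Mathlib
import Groth.Prelude.Def_AlgSpMor6
import Groth.Agent.Helper4.AlgSpLocP
import Groth.Agent.Helper8.RegSeqK
import Groth.Agent.Helper3.KosBridgeD
import Groth.Agent.Helper5.LciS7
import Groth.Agent.Helper5.SmSynt1

set_option autoImplicit false
set_option linter.style.haveILetI false
set_option linter.unusedSectionVars false
set_option linter.unusedVariables false
set_option linter.deprecated false
set_option linter.style.haveILetI false
set_option linter.unusedSectionVars false
set_option linter.unusedVariables false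
universe u
open CategoryTheory CategoryTheory.Limits AlgebraicGeometry Opposite

namespace Groth.Agent.Helper3.AlgLci

open AlgSp

variable {S : Scheme.{u}}

/-- A smooth morphism is Koszul at every point. -/
theorem lci_of_smooth {X Y : Scheme.{u}} (p : X ⟶ Y) [Smooth p] : AlgSp.lci p :=
  ((Groth.Agent.Helper5.LciS.s9758 p).mpr (Groth.Agent.Helper5.SmSynt.s9699 p)).2

theorem lci_comp {X Y Z : Scheme.{u}} (f : X ⟶ Y) (g : Y ⟶ Z) (hf : AlgSp.lci f) (hg : AlgSp.lci g) :
    AlgSp.lci (f ≫ g) :=
  Groth.Agent.Helper3.KosBridgeD.s8661 f g hf hg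

theorem lci_of_regImm {X Y : Scheme.{u}} (i : X ⟶ Y) (hi : RegImm.IsRegularImmersion .koszul i) :
    AlgSp.lci i :=
  fun z => Groth.Agent.Helper8.RegSeqK.s9773 i .koszul (Or.inr rfl) hi z

theorem s10665 {X Y : AlgSp.Sp S} (f : X ⟶ Y) (hf : AlgSp.IsRegImmMor RegImm.Kind.koszul f) :
    AlgSp.IsLCIMor f := by
  intro U V a b h ha hb comm
  have hf' := hf.1
  let W := hf'.pullback b
  let w : (yon S).obj W ⟶ X := hf'.fst b
  let q : W ⟶ V := hf'.snd b
  have hpb : IsPullback w ((yon S).map q) f b := hf'.isPullback b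
  have hq : RegImm.IsRegularImmersion .koszul q.left := hf.2 b _ _ hb hpb
  have inst : (RepWith (S := S) @Etale).IsStableUnderBaseChange :=
    repWith_isStableUnderBaseChange (S := S) @Etale
  have hw : RepWith @Etale w := MorphismProperty.of_isPullback hpb.flip hb
  let g : U ⟶ W := hf'.lift a h comm
  have hg1 : (yon S).map g ≫ w = a := hf'.lift_fst _ _ _
  have hg2 : g ≫ q = h := hf'.lift_snd _ _ _
  have hge : Etale g.left := Groth.Agent.Helper4.AlgSpLocP.etale_of_comp a w g ha hw hg1
  have : h.left = g.left ≫ q.left := by rw [← Over.comp_left, hg2]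
  rw [this]
  haveI : Smooth g.left := inferInstance
  exact lci_comp _ _ (lci_of_smooth _) (lci_of_regImm _ hq)

end Groth.Agent.Helper3.AlgLci
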