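import Mathlib

set_option autoImplicit false
set_option linter.style.haveILetI false
set_option linter.unusedSectionVars false
set_option linter.unusedVariables false
set_option linter.deprecated false
set_option linter.style.haveILetI false
set_option linter.unusedSectionVars false
set_option linter.unusedVariables false

universe u v w x

/-!
# Abstract filtered "elementary colimit" systems of algebras (no functoriality assumed)
-/

namespace Groth.Agent.Helper3.SyntLim

open MvPolynomial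

variable (k : Type x) [CommRing k] {ι : Type u} (R : ι → Type u) [∀ i, CommRing (R i)]
  [∀ i, Algebra k (R i)] (T : Type u) [CommRing T] [Algebra k T] (ψ : ∀ i, R i →ₐ[k] T)

/-- an admissible transition map: a `k`-algebra map compatible with the maps to the limit -/
structure Adm (i j : ι) where
  φ : R i →ₐ[k] R j
  comp_eq : (ψ j).comp φ = ψ i

namespace Adm

variable {k R T ψ}

/-- identity -/
def id (i : ι) : Adm k R T ψ i i := ⟨AlgHom.id k (R i), AlgHom.comp_id _⟩

/-- composition -/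
def comp {i j l : ι} (b : Adm k R T ψ j l) (a : Adm k R T ψ i j) : Adm k R T ψ i l :=
  ⟨b.φ.comp a.φ, by rw [← AlgHom.comp_assoc, b.comp_eq, a.comp_eq]⟩

theorem apply {i j : ι} (a : Adm k R T ψ i j) (x : R i) : ψ j (a.φ x) = ψ i x :=
  DFunLike.congr_fun a.comp_eq x

theorem map_map {σ : Type v} {i j : ι} (a : Adm k R T ψ i j) (p : MvPolynomial σ (R i)) :
    map (ψ j : R j →+* T) (map (a.φ : R i →+* R j) p) = map (ψ i : R i →+* T) p := by
  rw [MvPolynomial.map_map]
  have h1 : (ψ j : R j →+* T).comp (a.φ : R i →+* R j) = (ψ i : R i →+* T) :=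
    RingHom.ext fun x => a.apply x
  rw [h1]

theorem comp_map {σ : Type v} {i j l : ι} (b : Adm k R T ψ j l) (a : Adm k R T ψ i j)
    (p : MvPolynomial σ (R i)) :
    map ((b.comp a).φ : R i →+* R l) p = map (b.φ : R j →+* R l) (map (a.φ : R i →+* R j) p) := by
  rw [MvPolynomial.map_map]
  rfl

theorem map_ideal {σ : Type v} {i j : ι} (a : Adm k R T ψ i j) (𝔞 : Ideal (MvPolynomial σ (R i))) :
    (𝔞.map (map (a.φ : R i →+* R j))).map (map (ψ j : R j →+* T)) =
      𝔞.map (map (ψ i : R i →+* T)) := by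
  rw [Ideal.map_map]
  congr 1
  exact RingHom.ext fun p => a.map_map p

theorem comp_map_ideal {σ : Type v} {i j l : ι} (b : Adm k R T ψ j l) (a : Adm k R T ψ i j)
    (𝔞 : Ideal (MvPolynomial σ (R i))) :
    𝔞.map (map ((b.comp a).φ : R i →+* R l)) =
      (𝔞.map (map (a.φ : R i →+* R j))).map (map (b.φ : R j →+* R l)) := by
  rw [Ideal.map_map]
  congr 1
  exact RingHom.ext fun p => b.comp_map a p

end Adm

/-- the hypotheses of an "elementary filtered colimit" -/
structure IsLim : Prop where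
  nonempty : Nonempty ι
  dir : ∀ i j, ∃ l, Nonempty (Adm k R T ψ i l) ∧ Nonempty (Adm k R T ψ j l)
  surj : ∀ t : T, ∃ i, ∃ x : R i, ψ i x = t
  ker : ∀ i (x : R i), ψ i x = 0 → ∃ j, ∃ a : Adm k R T ψ i j, a.φ x = 0

namespace IsLim

variable {k R T ψ} (hL : IsLim k R T ψ)
include hL

theorem exists_kill_finset (i : ι) (s : Finset (R i)) (hs : ∀ x ∈ s, ψ i x = 0) :
    ∃ j, ∃ a : Adm k R T ψ i j, ∀ x ∈ s, a.φ x = 0 := by
  classical
  induction s using Finset.induction_on with
  | empty => exact ⟨i, Adm.id i, fun x hx => absurd hx (Finset.notMem_empty x)⟩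
  | insert y s hy ih =>
    obtain ⟨j, a, ha⟩ := ih (fun x hx => hs x (Finset.mem_insert_of_mem hx))
    have h0 : ψ j (a.φ y) = 0 := by rw [a.apply]; exact hs y (Finset.mem_insert_self y s)
    obtain ⟨l, b, hb⟩ := hL.ker j (a.φ y) h0
    refine ⟨l, b.comp a, fun x hx => ?_⟩
    rcases Finset.mem_insert.1 hx with rfl | hx
    · exact hb
    · show b.φ (a.φ x) = 0
      rw [ha x hx, map_zero]

theorem exists_kill_poly {σ : Type v} (i : ι) (q : MvPolynomial σ (R i))
    (hq : map (ψ i : R i →+* T) q = 0) :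
    ∃ j, ∃ a : Adm k R T ψ i j, map (a.φ : R i →+* R j) q = 0 := by
  classical
  obtain ⟨j, a, ha⟩ := hL.exists_kill_finset i (q.support.image q.coeff) (by
    intro x hx
    obtain ⟨m, -, rfl⟩ := Finset.mem_image.1 hx
    have := congrArg (MvPolynomial.coeff m) hq
    rwa [MvPolynomial.coeff_map, MvPolynomial.coeff_zero] at this)
  refine ⟨j, a, ?_⟩
  ext m
  rw [MvPolynomial.coeff_map, MvPolynomial.coeff_zero]
  by_cases hm : m ∈ q.support
  · exact ha _ (Finset.mem_image_of_mem _ hm)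
  · rw [MvPolynomial.notMem_support_iff.1 hm]
    exact map_zero _

theorem exists_lift_poly {σ : Type v} (p : MvPolynomial σ T) :
    ∃ i, ∃ q : MvPolynomial σ (R i), map (ψ i : R i →+* T) q = p := by
  induction p using MvPolynomial.induction_on with
  | C a =>
    obtain ⟨i, x, hx⟩ := hL.surj a
    exact ⟨i, C x, by rw [MvPolynomial.map_C]; exact congrArg _ hx⟩
  | add p₁ p₂ h₁ h₂ =>
    obtain ⟨i₁, q₁, hq₁⟩ := h₁
    obtain ⟨i₂, q₂, hq₂⟩ := h₂
    obtain ⟨l, ⟨a₁⟩, ⟨a₂⟩⟩ := hL.dir i₁ i₂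
    refine ⟨l, map (a₁.φ : R i₁ →+* R l) q₁ + map (a₂.φ : R i₂ →+* R l) q₂, ?_⟩
    rw [map_add, a₁.map_map, a₂.map_map, hq₁, hq₂]
  | mul_X p s h =>
    obtain ⟨i, q, hq⟩ := h
    exact ⟨i, q * X s, by rw [map_mul, hq, MvPolynomial.map_X]⟩

theorem exists_lift_family {σ : Type v} (S : Type w) [Finite S] :
    ∀ (p : S → MvPolynomial σ T) (i₀ : ι), ∃ j, ∃ a : Adm k R T ψ i₀ j,
      ∃ q : S → MvPolynomial σ (R j), ∀ s, map (ψ j : R j →+* T) (q s) = p s := by
  induction S using Finite.induction_empty_option with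
  | of_equiv e ih =>
    intro p i₀
    obtain ⟨j, a, q, hq⟩ := ih (p ∘ e) i₀
    exact ⟨j, a, q ∘ e.symm, fun s => by simpa using hq (e.symm s)⟩
  | h_empty =>
    intro p i₀
    exact ⟨i₀, Adm.id i₀, fun s => s.elim, fun s => s.elim⟩
  | h_option ih =>
    intro p i₀
    obtain ⟨j, a, q, hq⟩ := ih (fun s => p (some s)) i₀
    obtain ⟨i₁, q₁, hq₁⟩ := hL.exists_lift_poly (p none)
    obtain ⟨l, ⟨b⟩, ⟨b₁⟩⟩ := hL.dir j i₁
    refine ⟨l, b.comp a, fun s => Option.elim s (map (b₁.φ : R i₁ →+* R l) q₁)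
      (fun s => map (b.φ : R j →+* R l) (q s)), ?_⟩
    intro s
    cases s with
    | none => simpa [b₁.map_map] using hq₁
    | some s => simpa [b.map_map] using hq s

/-- **ideal membership descends to a finite level** -/
theorem exists_mem_map {σ : Type v} (i : ι) (𝔞 : Ideal (MvPolynomial σ (R i)))
    (p : MvPolynomial σ (R i))
    (h : map (ψ i : R i →+* T) p ∈ 𝔞.map (map (ψ i : R i →+* T))) :
    ∃ j, ∃ a : Adm k R T ψ i j, map (a.φ : R i →+* R j) p ∈ 𝔞.map (map (a.φ : R i →+* R j)) := by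
  classical
  rw [Ideal.map, Ideal.span, Submodule.mem_span_image_iff_exists_fun] at h
  obtain ⟨s, hs, cf, hcf⟩ := h
  obtain ⟨j, a, u, hu⟩ := hL.exists_lift_family (σ := σ) (↥s) cf i
  let e : MvPolynomial σ (R j) := map (a.φ : R i →+* R j) p -
    ∑ b : ↥s, u b * map (a.φ : R i →+* R j) (b : MvPolynomial σ (R i))
  have he : map (ψ j : R j →+* T) e = 0 := by
    simp only [e, map_sub, map_sum, map_mul, a.map_map, hu]
    rw [← hcf]
    simp only [smul_eq_mul, sub_self]
  obtain ⟨l, b, hb⟩ := hL.exists_kill_poly j e he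
  refine ⟨l, b.comp a, ?_⟩
  have h1 : map ((b.comp a).φ : R i →+* R l) p =
      ∑ x : ↥s, map (b.φ : R j →+* R l) (u x) *
        map ((b.comp a).φ : R i →+* R l) (x : MvPolynomial σ (R i)) := by
    have := hb
    simp only [e, map_sub, map_sum, map_mul, ← b.comp_map a] at this
    exact sub_eq_zero.1 this
  rw [h1]
  exact Ideal.sum_mem _ fun x _ => Ideal.mul_mem_left _ _ (Ideal.mem_map_of_mem _ (hs x.2))

/-- finitely many ideal memberships descend simultaneously -/
theorem exists_mem_map_family {σ : Type v} (S : Type w) [Finite S] :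
    ∀ (i : ι) (p : S → MvPolynomial σ (R i)) (𝔞 : S → Ideal (MvPolynomial σ (R i))),
      (∀ s, map (ψ i : R i →+* T) (p s) ∈ (𝔞 s).map (map (ψ i : R i →+* T))) →
      ∃ j, ∃ a : Adm k R T ψ i j,
        ∀ s, map (a.φ : R i →+* R j) (p s) ∈ (𝔞 s).map (map (a.φ : R i →+* R j)) := by
  induction S using Finite.induction_empty_option with
  | of_equiv e ih =>
    intro i p 𝔞 h
    obtain ⟨j, a, ha⟩ := ih i (p ∘ e) (𝔞 ∘ e) (fun s => h (e s))
    exact ⟨j, a, fun s => by simpa using ha (e.symm s)⟩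
  | h_empty =>
    intro i p 𝔞 h
    exact ⟨i, Adm.id i, fun s => s.elim⟩
  | h_option ih =>
    intro i p 𝔞 h
    obtain ⟨j, a, ha⟩ := ih i (fun s => p (some s)) (fun s => 𝔞 (some s)) (fun s => h (some s))
    have h0 : map (ψ j : R j →+* T) (map (a.φ : R i →+* R j) (p none)) ∈
        ((𝔞 none).map (map (a.φ : R i →+* R j))).map (map (ψ j : R j →+* T)) := by
      rw [a.map_map, a.map_ideal]
      exact h none
    obtain ⟨l, b, hb⟩ := hL.exists_mem_map j _ _ h0
    refine ⟨l, b.comp a, fun s => ?_⟩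
    rw [b.comp_map a, b.comp_map_ideal a]
    cases s with
    | none => exact hb
    | some s => exact Ideal.mem_map_of_mem _ (ha s)

end IsLim

end Groth.Agent.Helper3.SyntLim
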