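import Mathlib
import Groth.Agent.Helper3.SyntLim1

set_option autoImplicit false
set_option linter.style.haveILetI false
set_option linter.unusedSectionVars false
set_option linter.unusedVariables false
set_option linter.deprecated false
set_option linter.style.haveILetI false
set_option linter.unusedSectionVars false
set_option linter.unusedVariables false

universe u v w

/-!
# Tensoring an elementary filtered colimit system with an algebra
-/

namespace Groth.Agent.Helper3.SyntLim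

open TensorProduct

variable {A₀ : Type u} [CommRing A₀] {ι : Type u} {G : ι → Type u} [∀ i, CommRing (G i)]
  [∀ i, Algebra A₀ (G i)] {A : Type u} [CommRing A] [Algebra A₀ A] {g : ∀ i, G i →ₐ[A₀] A}

section Mod

variable (hL : IsLim A₀ G A g) (M : Type u) [AddCommGroup M] [Module A₀ M]
include hL

theorem lTensor_adm {i j : ι} (a : Adm A₀ G A g i j) (z : M ⊗[A₀] G i) :
    LinearMap.lTensor M (g j).toLinearMap (LinearMap.lTensor M a.φ.toLinearMap z) =
      LinearMap.lTensor M (g i).toLinearMap z := by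
  rw [← LinearMap.comp_apply, ← LinearMap.lTensor_comp]
  congr 2
  ext x
  exact a.apply x

theorem exists_lift_tensor (v : M ⊗[A₀] A) (i₀ : ι) :
    ∃ j, ∃ a : Adm A₀ G A g i₀ j, ∃ v' : M ⊗[A₀] G j,
      LinearMap.lTensor M (g j).toLinearMap v' = v := by
  induction v using TensorProduct.induction_on with
  | zero => exact ⟨i₀, Adm.id i₀, 0, map_zero _⟩
  | tmul m a =>
    obtain ⟨i, x, hx⟩ := hL.surj a
    obtain ⟨l, ⟨b₀⟩, ⟨b⟩⟩ := hL.dir i₀ i
    refine ⟨l, b₀, m ⊗ₜ b.φ x, ?_⟩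
    rw [LinearMap.lTensor_tmul]
    show m ⊗ₜ[A₀] (g l (b.φ x)) = _
    rw [b.apply, hx]
  | add v₁ v₂ h₁ h₂ =>
    obtain ⟨j₁, a₁, v₁', hv₁⟩ := h₁
    obtain ⟨j₂, a₂, v₂', hv₂⟩ := h₂
    obtain ⟨l, ⟨b₁⟩, ⟨b₂⟩⟩ := hL.dir j₁ j₂
    refine ⟨l, b₁.comp a₁, LinearMap.lTensor M b₁.φ.toLinearMap v₁' +
      LinearMap.lTensor M b₂.φ.toLinearMap v₂', ?_⟩
    rw [map_add, lTensor_adm hL M b₁, lTensor_adm hL M b₂, hv₁, hv₂]

theorem finsuppScalarLeft_lTensor (X : Type u) [DecidableEq X] {N N' : Type u} [AddCommGroup N] [Module A₀ N]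
    [AddCommGroup N'] [Module A₀ N'] (φ : N →ₗ[A₀] N') (z : (X →₀ A₀) ⊗[A₀] N) :
    TensorProduct.finsuppScalarLeft A₀ N' X (LinearMap.lTensor (X →₀ A₀) φ z) =
      Finsupp.mapRange φ (map_zero φ) (TensorProduct.finsuppScalarLeft A₀ N X z) := by
  induction z using TensorProduct.induction_on with
  | zero => simp
  | tmul p n =>
    ext x
    rw [LinearMap.lTensor_tmul, TensorProduct.finsuppScalarLeft_apply_tmul_apply,
      Finsupp.mapRange_apply, TensorProduct.finsuppScalarLeft_apply_tmul_apply, map_smul]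
  | add z₁ z₂ h₁ h₂ =>
    rw [map_add, map_add, h₁, h₂, map_add, Finsupp.mapRange_add (map_add φ)]

theorem exists_kill_free (X : Type u) (i : ι) (z : (X →₀ A₀) ⊗[A₀] G i)
    (hz : LinearMap.lTensor (X →₀ A₀) (g i).toLinearMap z = 0) :
    ∃ j, ∃ a : Adm A₀ G A g i j, LinearMap.lTensor (X →₀ A₀) a.φ.toLinearMap z = 0 := by
  classical
  set ζ := TensorProduct.finsuppScalarLeft A₀ (G i) X z with hζ
  have h1 : Finsupp.mapRange (g i).toLinearMap (map_zero _) ζ = 0 := by
    rw [hζ, ← finsuppScalarLeft_lTensor hL, hz, map_zero]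
  obtain ⟨j, a, ha⟩ := hL.exists_kill_finset i (ζ.support.image ζ) (by
    intro x hx
    obtain ⟨m, -, rfl⟩ := Finset.mem_image.1 hx
    have := DFunLike.congr_fun h1 m
    rwa [Finsupp.mapRange_apply, Finsupp.zero_apply] at this)
  refine ⟨j, a, ?_⟩
  apply (TensorProduct.finsuppScalarLeft A₀ (G j) X).injective
  rw [finsuppScalarLeft_lTensor hL, map_zero]
  ext m
  rw [Finsupp.mapRange_apply, Finsupp.zero_apply]
  by_cases hm : m ∈ ζ.support
  · exact ha _ (Finset.mem_image_of_mem _ hm)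
  · rw [Finsupp.notMem_support_iff.1 hm]
    exact map_zero _

theorem exists_kill_tensor_aux (F : Type u) [AddCommGroup F] [Module A₀ F] (π : F →ₗ[A₀] M)
    (hπ : Function.Surjective π)
    (hF : ∀ (l : ι) (w' : F ⊗[A₀] G l), LinearMap.lTensor F (g l).toLinearMap w' = 0 →
      ∃ l', ∃ a' : Adm A₀ G A g l l', LinearMap.lTensor F a'.φ.toLinearMap w' = 0)
    (i : ι) (z : M ⊗[A₀] G i)
    (hz : LinearMap.lTensor M (g i).toLinearMap z = 0) :
    ∃ j, ∃ a : Adm A₀ G A g i j, LinearMap.lTensor M a.φ.toLinearMap z = 0 := by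
  classical
  let K : Submodule A₀ F := LinearMap.ker π
  have hex : Function.Exact K.subtype π := LinearMap.exact_subtype_ker_map π
  obtain ⟨w, rfl⟩ := LinearMap.rTensor_surjective (G i) hπ z
  -- commutation
  have hcomm : ∀ {N N' : Type u} [AddCommGroup N] [Module A₀ N] [AddCommGroup N'] [Module A₀ N']
      (φ : N →ₗ[A₀] N') (y : F ⊗[A₀] N),
      LinearMap.lTensor M φ (LinearMap.rTensor N π y) =
        LinearMap.rTensor N' π (LinearMap.lTensor F φ y) := by
    intro N N' _ _ _ _ φ y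
    rw [← LinearMap.comp_apply, ← LinearMap.comp_apply, LinearMap.lTensor_comp_rTensor,
      LinearMap.rTensor_comp_lTensor]
  have hcommK : ∀ {N N' : Type u} [AddCommGroup N] [Module A₀ N] [AddCommGroup N'] [Module A₀ N']
      (φ : N →ₗ[A₀] N') (y : K ⊗[A₀] N),
      LinearMap.lTensor F φ (LinearMap.rTensor N K.subtype y) =
        LinearMap.rTensor N' K.subtype (LinearMap.lTensor K φ y) := by
    intro N N' _ _ _ _ φ y
    rw [← LinearMap.comp_apply, ← LinearMap.comp_apply, LinearMap.lTensor_comp_rTensor,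
      LinearMap.rTensor_comp_lTensor]
  have h0 : LinearMap.rTensor A π (LinearMap.lTensor F (g i).toLinearMap w) = 0 := by
    rw [← hcomm, hz]
  obtain ⟨v, hv⟩ := (rTensor_exact A hex hπ _).1 h0
  obtain ⟨l, b, v', hv'⟩ := exists_lift_tensor hL K v i
  let w' : F ⊗[A₀] G l := LinearMap.lTensor F b.φ.toLinearMap w -
    LinearMap.rTensor (G l) K.subtype v'
  have hw' : LinearMap.lTensor F (g l).toLinearMap w' = 0 := by
    simp only [w', map_sub]
    rw [lTensor_adm hL F b, hcommK, hv', hv, sub_self]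
  obtain ⟨l', a', ha'⟩ := hF l w' hw'
  refine ⟨l', a'.comp b, ?_⟩
  have h1 : LinearMap.lTensor F a'.φ.toLinearMap (LinearMap.lTensor F b.φ.toLinearMap w) =
      LinearMap.rTensor (G l') K.subtype (LinearMap.lTensor K a'.φ.toLinearMap v') := by
    have := ha'
    simp only [w', map_sub] at this
    rw [sub_eq_zero] at this
    rw [this, hcommK]
  have h2 : LinearMap.lTensor M (a'.comp b).φ.toLinearMap =
      (LinearMap.lTensor M a'.φ.toLinearMap).comp (LinearMap.lTensor M b.φ.toLinearMap) := by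
    rw [← LinearMap.lTensor_comp]
    rfl
  rw [h2, LinearMap.comp_apply, hcomm, hcomm, h1, ← LinearMap.comp_apply, ← LinearMap.rTensor_comp]
  have h3 : π.comp K.subtype = 0 := by
    ext y : 1
    exact y.2
  rw [h3, LinearMap.rTensor_zero, LinearMap.zero_apply]

theorem exists_kill_tensor (i : ι) (z : M ⊗[A₀] G i)
    (hz : LinearMap.lTensor M (g i).toLinearMap z = 0) :
    ∃ j, ∃ a : Adm A₀ G A g i j, LinearMap.lTensor M a.φ.toLinearMap z = 0 := by
  classical
  refine exists_kill_tensor_aux hL M (M →₀ A₀) (Finsupp.linearCombination A₀ (id : M → M))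
    (fun m => ⟨Finsupp.single m 1, ?_⟩) (fun l w' hw' => exists_kill_free hL M l w' hw') i z hz
  rw [Finsupp.linearCombination_single, one_smul]
  rfl

end Mod

section Alg

variable (hL : IsLim A₀ G A g) (B₀ : Type u) [CommRing B₀] [Algebra A₀ B₀]
include hL

theorem map_eq_lTensor {N N' : Type u} [CommRing N] [Algebra A₀ N] [CommRing N'] [Algebra A₀ N']
    (Φ : N →ₐ[A₀] N') (z : B₀ ⊗[A₀] N) :
    Algebra.TensorProduct.map (AlgHom.id B₀ B₀) Φ z = LinearMap.lTensor B₀ Φ.toLinearMap z := by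
  induction z using TensorProduct.induction_on with
  | zero => simp
  | tmul b n => simp
  | add z₁ z₂ h₁ h₂ => rw [map_add, map_add, h₁, h₂]

/-- the induced admissible map on the tensor system -/
noncomputable def Adm.tensor {i j : ι} (a : Adm A₀ G A g i j) :
    Adm B₀ (fun i => B₀ ⊗[A₀] G i) (B₀ ⊗[A₀] A)
      (fun i => Algebra.TensorProduct.map (AlgHom.id B₀ B₀) (g i)) i j :=
  ⟨Algebra.TensorProduct.map (AlgHom.id B₀ B₀) a.φ, by
    rw [← Algebra.TensorProduct.map_comp, a.comp_eq, AlgHom.comp_id]⟩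

/-- **the tensor system is again an elementary filtered colimit** -/
theorem IsLim.tensor :
    IsLim B₀ (fun i => B₀ ⊗[A₀] G i) (B₀ ⊗[A₀] A)
      (fun i => Algebra.TensorProduct.map (AlgHom.id B₀ B₀) (g i)) where
  nonempty := hL.nonempty
  dir := fun i j => by
    obtain ⟨l, ⟨a⟩, ⟨b⟩⟩ := hL.dir i j
    exact ⟨l, ⟨a.tensor B₀⟩, ⟨b.tensor B₀⟩⟩
  surj := fun t => by
    obtain ⟨i₀⟩ := hL.nonempty
    obtain ⟨j, -, v', hv'⟩ := exists_lift_tensor hL B₀ t i₀
    exact ⟨j, v', by rw [map_eq_lTensor hL]; exact hv'⟩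
  ker := fun i x hx => by
    rw [map_eq_lTensor hL] at hx
    obtain ⟨j, a, ha⟩ := exists_kill_tensor hL B₀ i x hx
    exact ⟨j, a.tensor B₀, by
      show Algebra.TensorProduct.map (AlgHom.id B₀ B₀) a.φ x = 0
      rw [map_eq_lTensor hL]; exact ha⟩

end Alg

end Groth.Agent.Helper3.SyntLim
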