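import Mathlib
set_option autoImplicit false
set_option linter.style.haveILetI false
set_option linter.unusedSectionVars false
set_option linter.unusedVariables false
set_option linter.deprecated false
set_option linter.style.haveILetI false
set_option linter.unusedSectionVars false
set_option linter.unusedVariables false
universe u v

namespace Groth.Agent.Helper3.SyntCot

open Algebra MvPolynomial TensorProduct

section Compare



variable {R S : Type u} [CommRing R] [CommRing S] [Algebra R S]
variable {ι : Type*} {ι' : Type*}

/-- Generators of `S` over itself given by an arbitrary family. -/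
noncomputable def selfGen (v : ι' → S) : Generators S S ι' :=
  Generators.ofSurjective v (fun s => ⟨C s, by simp⟩)

@[simp] lemma selfGen_val (v : ι' → S) : (selfGen v).val = v := rfl

variable (P : Generators R S ι) (v : ι' → S)

/-- The retraction `R[Y, X] → R[X]` sending `Y_j` to a lift of `v j`. -/
noncomputable def retrHom : ((selfGen v).comp P).Hom P where
  val := Sum.elim (fun j => P.σ (v j)) (fun i => X i)
  aeval_val := by
    rintro (j | i)
    · simp [Generators.comp]
    · simp [Generators.comp]

lemma retrHom_comp_toComp : (retrHom P v).comp ((selfGen v).toComp P) = Generators.Hom.id P := by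
  ext i
  simp [retrHom, Generators.Hom.comp]

lemma map_retr_map_toComp (x : P.toExtension.Cotangent) :
    Extension.Cotangent.map (retrHom P v).toExtensionHom
      (Extension.Cotangent.map ((selfGen v).toComp P).toExtensionHom x) = x := by
  have h := Extension.Cotangent.map_comp (f := ((selfGen v).toComp P).toExtensionHom)
    (g := (retrHom P v).toExtensionHom)
  rw [← Generators.Hom.toExtensionHom_comp, retrHom_comp_toComp, Generators.Hom.toExtensionHom_id,
    Extension.Cotangent.map_id] at h
  exact (LinearMap.congr_fun h x).symm

/-- `J/J² ≅ I/I² × S^{ι'}` for the presentation `R[Y, X] → S` extending `R[X] → S`. -/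
noncomputable def cotangentCompSelfEquiv :
    ((selfGen v).comp P).toExtension.Cotangent ≃ₗ[S]
      (S ⊗[S] P.toExtension.Cotangent) × (selfGen v).toExtension.Cotangent :=
  ((Generators.Cotangent.exact (selfGen v) P).splitInjectiveEquiv
    (Generators.Cotangent.surjective_map_ofComp (selfGen v) P)
    ⟨(TensorProduct.lid S P.toExtension.Cotangent).symm.toLinearMap ∘ₗ
        Extension.Cotangent.map (retrHom P v).toExtensionHom, by
      ext x
      simp [map_retr_map_toComp]⟩).1


instance selfGen_free : Module.Free S (selfGen v).toExtension.Cotangent := by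
  have hbij : Function.Bijective (selfGen v).toExtension.cotangentComplex := by
    constructor
    · haveI : Algebra.FormallySmooth S (selfGen v).toExtension.Ring :=
        inferInstanceAs (Algebra.FormallySmooth S (MvPolynomial ι' S))
      rw [Extension.cotangentComplex_injective_iff]
      infer_instance
    · have h1 := (selfGen v).toExtension.exact_cotangentComplex_toKaehler
      intro y
      have : (selfGen v).toExtension.toKaehler y = 0 := Subsingleton.elim _ _
      exact (h1 y).mp this
  exact Module.Free.of_equiv (LinearEquiv.ofBijective _ hbij).symm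

variable (P' : Generators R S ι')

/-- The swap of variables `R[Y, X] → R[X, Y]`. -/
noncomputable def swapHom :
    ((selfGen P'.val).comp P).Hom ((selfGen P.val).comp P') where
  val := Sum.elim (fun j => X (Sum.inr j)) (fun i => X (Sum.inl i))
  aeval_val := by
    rintro (j | i)
    · simp [Generators.comp]
    · simp [Generators.comp]

lemma swapHom_comp_swapHom :
    (swapHom P' P).comp (swapHom P P') = Generators.Hom.id _ := by
  ext i
  rcases i with (j | i) <;> simp [swapHom, Generators.Hom.comp]

lemma map_swap_map_swap (x : ((selfGen P'.val).comp P).toExtension.Cotangent) :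
    Extension.Cotangent.map (swapHom P' P).toExtensionHom
      (Extension.Cotangent.map (swapHom P P').toExtensionHom x) = x := by
  have h := Extension.Cotangent.map_comp (f := (swapHom P P').toExtensionHom)
    (g := (swapHom P' P).toExtensionHom)
  rw [← Generators.Hom.toExtensionHom_comp, swapHom_comp_swapHom, Generators.Hom.toExtensionHom_id,
    Extension.Cotangent.map_id] at h
  exact (LinearMap.congr_fun h x).symm

/-- The swap isomorphism on cotangent modules. -/
noncomputable def swapEquiv :
    ((selfGen P'.val).comp P).toExtension.Cotangent ≃ₗ[S]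
      ((selfGen P.val).comp P').toExtension.Cotangent :=
  LinearEquiv.ofLinear (Extension.Cotangent.map (swapHom P P').toExtensionHom)
    (Extension.Cotangent.map (swapHom P' P).toExtensionHom)
    (LinearMap.ext (map_swap_map_swap P' P)) (LinearMap.ext (map_swap_map_swap P P'))

/-- Comparison of two presentations: `I/I² ⊕ S^{ι'} ≅ I'/I'² ⊕ S^{ι}`. -/
noncomputable def compareEquiv :
    ((S ⊗[S] P.toExtension.Cotangent) × (selfGen P'.val).toExtension.Cotangent) ≃ₗ[S]
      ((S ⊗[S] P'.toExtension.Cotangent) × (selfGen P.val).toExtension.Cotangent) :=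
  (cotangentCompSelfEquiv P P'.val).symm ≪≫ₗ swapEquiv P P' ≪≫ₗ cotangentCompSelfEquiv P' P.val

theorem projective_of_projective (h : Module.Projective S P'.toExtension.Cotangent) :
    Module.Projective S P.toExtension.Cotangent := by
  haveI : Module.Projective S (S ⊗[S] P'.toExtension.Cotangent) :=
    Module.Projective.of_equiv (TensorProduct.lid S _).symm
  let E := (S ⊗[S] P'.toExtension.Cotangent) × (selfGen P.val).toExtension.Cotangent
  let i : P.toExtension.Cotangent →ₗ[S] E :=
    (compareEquiv P P').toLinearMap ∘ₗ LinearMap.inl S _ _ ∘ₗ
      (TensorProduct.lid S P.toExtension.Cotangent).symm.toLinearMap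
  let r : E →ₗ[S] P.toExtension.Cotangent :=
    (TensorProduct.lid S P.toExtension.Cotangent).toLinearMap ∘ₗ LinearMap.fst S _ _ ∘ₗ
      (compareEquiv P P').symm.toLinearMap
  refine Module.Projective.of_split i r ?_
  ext x
  simp [i, r]


end Compare



section Loc

variable {R S T : Type u} [CommRing R] [CommRing S] [Algebra R S]
  [CommRing T] [Algebra R T] [Algebra S T] [IsScalarTower R S T]
variable {ι : Type*} (g : S) [IsLocalization.Away g T] (P : Generators R S ι)

/-- `S_g ⊗ I/I²` is a retract of the conormal module of the presentation `R[Y, X] → S_g`. -/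
theorem exists_retract_compLoc :
    ∃ (i : T ⊗[S] P.toExtension.Cotangent →ₗ[T]
        ((Generators.localizationAway T g).comp P).toExtension.Cotangent)
      (r : ((Generators.localizationAway T g).comp P).toExtension.Cotangent →ₗ[T]
        T ⊗[S] P.toExtension.Cotangent), r ∘ₗ i = LinearMap.id := by
  obtain ⟨x, hx⟩ := Generators.Cotangent.surjective_map_ofComp (Generators.localizationAway T g) P
    (Generators.cMulXSubOneCotangent T g)
  let e := Generators.cotangentCompLocalizationAwayEquiv g P hx
  refine ⟨e.symm.toLinearMap ∘ₗ LinearMap.inl T _ _, LinearMap.fst T _ _ ∘ₗ e.toLinearMap, ?_⟩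
  ext x
  simp

/-- If the conormal module of the presentation `R[Y, X] → S_g` is projective, so is `S_g ⊗ I/I²`. -/
theorem projective_tensor_of_compLoc
    (h : Module.Projective T ((Generators.localizationAway T g).comp P).toExtension.Cotangent) :
    Module.Projective T (T ⊗[S] P.toExtension.Cotangent) := by
  obtain ⟨i, r, hir⟩ := exists_retract_compLoc (T := T) g P
  exact Module.Projective.of_split i r hir

end Loc




section Bridge

variable {R : Type u} {A : Type v} [CommRing R] [CommRing A] [Algebra R A]
variable {ι : Type*} (φ : MvPolynomial ι R →ₐ[R] A) (hφ : Function.Surjective φ)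
  (K : Ideal (MvPolynomial ι R)) (hK : RingHom.ker φ.toRingHom = K)

lemma hfeq : φ = aeval (fun i => φ (X i)) := by
  apply MvPolynomial.algHom_ext
  intro i
  simp

/-- generators attached to a surjection from a polynomial ring. -/
noncomputable def gen : Algebra.Generators R A ι :=
  Algebra.Generators.ofSurjective (fun i => φ (X i)) (by rw [← hfeq φ]; exact hφ)

lemma algebraMap_gen (r : MvPolynomial ι R) :
    algebraMap (gen φ hφ).toExtension.Ring A r = φ r := by
  conv_rhs => rw [hfeq φ]
  rfl

include hK in
lemma gen_ker : (gen φ hφ).toExtension.ker = K := by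
  rw [← hK]
  ext r
  show algebraMap (gen φ hφ).toExtension.Ring A r = 0 ↔ φ r = 0
  rw [algebraMap_gen]

/-- The additive identification of `K/K²` with the cotangent module of the extension. -/
noncomputable def bridgeAdd : K.Cotangent ≃+ (gen φ hφ).toExtension.Cotangent :=
  (LinearEquiv.ofLinear
    (Ideal.mapCotangent K (gen φ hφ).toExtension.ker (AlgHom.id R (MvPolynomial ι R))
      (fun x hx => by rw [gen_ker φ hφ K hK]; exact hx))
    (Ideal.mapCotangent (gen φ hφ).toExtension.ker K (AlgHom.id R (MvPolynomial ι R))
      (fun x hx => by rw [gen_ker φ hφ K hK] at hx; exact hx))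
    (by
      ext x
      obtain ⟨x, rfl⟩ := Ideal.toCotangent_surjective _ x
      rfl)
    (by
      ext x
      obtain ⟨x, rfl⟩ := Ideal.toCotangent_surjective _ x
      rfl)).toAddEquiv

lemma bridgeAdd_smul (p : MvPolynomial ι R) (m : K.Cotangent) :
    bridgeAdd φ hφ K hK (Ideal.Quotient.mk K p • m) = φ p • bridgeAdd φ hφ K hK m := by
  obtain ⟨x, rfl⟩ := Ideal.toCotangent_surjective _ m
  rw [← algebraMap_gen φ hφ p, algebraMap_smul]
  rw [← Ideal.Quotient.algebraMap_eq, algebraMap_smul, ← map_smul]
  apply Extension.Cotangent.ext
  rw [Extension.Cotangent.val_smul']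
  rfl

include hK in
theorem projective_gen_of_projective
    (h : Module.Projective (MvPolynomial ι R ⧸ K) K.Cotangent) :
    Module.Projective A (gen φ hφ).toExtension.Cotangent := by
  let σ : (MvPolynomial ι R ⧸ K) ≃+* A :=
    (Ideal.quotEquivOfEq hK.symm).trans (RingHom.quotientKerEquivOfSurjective (f := φ.toRingHom) hφ)
  have hσ : ∀ p, σ (Ideal.Quotient.mk K p) = φ p := by
    intro p
    simp only [σ, RingEquiv.trans_apply, Ideal.quotEquivOfEq_mk]
    exact RingHom.quotientKerEquivOfSurjective_apply_mk (f := φ.toRingHom) hφ p
  letI := RingHomInvPair.of_ringEquiv σ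
  letI := RingHomInvPair.of_ringEquiv_symm σ
  let e₂ : K.Cotangent ≃ₛₗ[(σ : (MvPolynomial ι R ⧸ K) →+* A)] (gen φ hφ).toExtension.Cotangent :=
    { (bridgeAdd φ hφ K hK) with
      map_smul' := fun r m => by
        obtain ⟨p, rfl⟩ := Ideal.Quotient.mk_surjective r
        have := bridgeAdd_smul φ hφ K hK p m
        simp only [AddEquiv.toFun_eq_coe, AddEquiv.coe_toAddHom] at this ⊢  
        rw [this]
        show φ p • _ = σ (Ideal.Quotient.mk K p) • _
        rw [hσ] }
  exact Module.Projective.of_equiv e₂

end Bridge

section Quot

variable {R : Type u} [CommRing R] {ι : Type*} (I : Ideal (MvPolynomial ι R))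

/-- The canonical generators of `R[X]/I`. -/
noncomputable def quotGen : Algebra.Generators R (MvPolynomial ι R ⧸ I) ι :=
  gen (Ideal.Quotient.mkₐ R I) (Ideal.Quotient.mkₐ_surjective R I)

/-- `I/I²` is the cotangent module of the canonical presentation of `R[X]/I`. -/
noncomputable def cotEquiv : I.Cotangent ≃ₗ[MvPolynomial ι R ⧸ I] (quotGen I).toExtension.Cotangent :=
  { (bridgeAdd (Ideal.Quotient.mkₐ R I) (Ideal.Quotient.mkₐ_surjective R I) I
      (by ext x; simp [Ideal.Quotient.eq_zero_iff_mem])) with
    map_smul' := fun r m => by
      obtain ⟨p, rfl⟩ := Ideal.Quotient.mk_surjective r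
      have := bridgeAdd_smul (Ideal.Quotient.mkₐ R I) (Ideal.Quotient.mkₐ_surjective R I) I
        (by ext x; simp [Ideal.Quotient.eq_zero_iff_mem]) p m
      simp only [AddEquiv.toFun_eq_coe, AddEquiv.coe_toAddHom] at this ⊢
      rw [this]
      rfl }

end Quot




section LocalGlobal

variable {A : Type u} [CommRing A] (M : Type v) [AddCommGroup M] [Module A M] [Module.Finite A M]

theorem projective_of_locally
    (h : ∀ (q : Ideal A) [q.IsPrime], ∃ g ∉ q,
      Module.Projective (Localization.Away g) (Localization.Away g ⊗[A] M)) :
    Module.Projective A M := by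
  let s : Set A := {g | Module.Projective (Localization.Away g) (LocalizedModule.Away g M)}
  have hs : Ideal.span s = ⊤ := by
    by_contra hne
    obtain ⟨m, hm, hle⟩ := Ideal.exists_le_maximal _ hne
    haveI := hm.isPrime
    obtain ⟨g, hg, hproj⟩ := h m
    apply hg
    apply hle
    apply Ideal.subset_span
    show Module.Projective (Localization.Away g) (LocalizedModule.Away g M)
    exact Module.Projective.of_equiv
      (IsLocalizedModule.isBaseChange (Submonoid.powers g) (Localization.Away g)
        (LocalizedModule.mkLinearMap (Submonoid.powers g) M)).equiv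
  haveI : Module.FinitePresentation A M := by
    refine Module.FinitePresentation.of_localizationSpan s hs (fun g => ?_)
    haveI : Module.Projective (Localization.Away g.1) (LocalizedModule.Away g.1 M) := g.2
    exact Module.finitePresentation_of_projective _ _
  haveI : Module.Flat A M := by
    refine Module.flat_of_localized_span (s := s) (spn := hs) (h := fun g => ?_)
    haveI : Module.Projective (Localization.Away g.1) (LocalizedModule.Away g.1 M) := g.2
    haveI : Module.Flat A (Localization.Away g.1) := IsLocalization.flat _ (Submonoid.powers g.1)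
    exact Module.Flat.trans A (Localization.Away g.1) (LocalizedModule.Away g.1 M)
  exact Module.Flat.projective_of_finitePresentation

end LocalGlobal


end Groth.Agent.Helper3.SyntCot
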