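import Mathlib
import Groth.Agent.Helper3.SyntCot1
set_option autoImplicit false
set_option linter.style.haveILetI false
set_option linter.unusedSectionVars false
set_option linter.unusedVariables false
set_option linter.deprecated false
set_option linter.style.haveILetI false
set_option linter.unusedSectionVars false
set_option linter.unusedVariables false
universe u v

namespace Groth.Agent.Helper3.SyntCot

open Algebra MvPolynomial TensorProduct

section Count

variable {R S : Type u} [CommRing R] [CommRing S] [Algebra R S]
variable {ι : Type*} {ι' : Type*}

/-- The cotangent module of `selfGen v` is identified with the cotangent space. -/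
noncomputable def selfGenEquiv (v : ι' → S) :
    (selfGen v).toExtension.Cotangent ≃ₗ[S] (selfGen v).toExtension.CotangentSpace :=
  LinearEquiv.ofBijective _ (by
    constructor
    · haveI : Algebra.FormallySmooth S (selfGen v).toExtension.Ring :=
        inferInstanceAs (Algebra.FormallySmooth S (MvPolynomial ι' S))
      rw [Extension.cotangentComplex_injective_iff]
      infer_instance
    · have h1 := (selfGen v).toExtension.exact_cotangentComplex_toKaehler
      intro y
      have : (selfGen v).toExtension.toKaehler y = 0 := Subsingleton.elim _ _
      exact (h1 y).mp this)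

/-- A basis of the cotangent module of `selfGen v`, indexed by the variables. -/
noncomputable def selfGenBasis (v : ι' → S) : Module.Basis ι' S (selfGen v).toExtension.Cotangent :=
  (selfGen v).cotangentSpaceBasis.map (selfGenEquiv v).symm

variable (P : Generators R S ι) (P' : Generators R S ι')

theorem rank_count [Nontrivial S] [Finite ι] [Finite ι']
    [Module.Free S P.toExtension.Cotangent] [Module.Finite S P.toExtension.Cotangent]
    [Module.Free S P'.toExtension.Cotangent] [Module.Finite S P'.toExtension.Cotangent] :
    Module.finrank S P.toExtension.Cotangent + Nat.card ι' =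
      Module.finrank S P'.toExtension.Cotangent + Nat.card ι := by
  haveI := Fintype.ofFinite ι
  haveI := Fintype.ofFinite ι'
  haveI h1 : Module.Finite S (selfGen (S := S) P'.val).toExtension.Cotangent :=
    Module.Finite.of_basis (selfGenBasis P'.val)
  haveI h2 : Module.Finite S (selfGen (S := S) P.val).toExtension.Cotangent :=
    Module.Finite.of_basis (selfGenBasis P.val)
  have e := (compareEquiv P P').finrank_eq
  haveI : Module.Free S (S ⊗[S] P.toExtension.Cotangent) :=
    Module.Free.of_equiv (TensorProduct.lid S _).symm
  haveI : Module.Finite S (S ⊗[S] P.toExtension.Cotangent) :=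
    Module.Finite.equiv (TensorProduct.lid S _).symm
  haveI : Module.Free S (S ⊗[S] P'.toExtension.Cotangent) :=
    Module.Free.of_equiv (TensorProduct.lid S _).symm
  haveI : Module.Finite S (S ⊗[S] P'.toExtension.Cotangent) :=
    Module.Finite.equiv (TensorProduct.lid S _).symm
  rw [Module.finrank_prod, Module.finrank_prod,
    (TensorProduct.lid S P.toExtension.Cotangent).finrank_eq,
    (TensorProduct.lid S P'.toExtension.Cotangent).finrank_eq,
    Module.finrank_eq_nat_card_basis (selfGenBasis P'.val),
    Module.finrank_eq_nat_card_basis (selfGenBasis P.val)] at e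
  exact e

end Count

section LocRank

variable {R S T : Type u} [CommRing R] [CommRing S] [Algebra R S]
  [CommRing T] [Algebra R T] [Algebra S T] [IsScalarTower R S T]
variable {ι : Type*} (g : S) [IsLocalization.Away g T] (P : Generators R S ι)

/-- A basis of `I/I²` gives a basis of the conormal module of `R[Y, X] → S_g` with one more element. -/
theorem nonempty_basis_compLoc {κ : Type*} (b : Module.Basis κ S P.toExtension.Cotangent) :
    Nonempty (Module.Basis (κ ⊕ Unit) T
      ((Generators.localizationAway T g).comp P).toExtension.Cotangent) := by
  obtain ⟨x, hx⟩ := Generators.Cotangent.surjective_map_ofComp (Generators.localizationAway T g) P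
    (Generators.cMulXSubOneCotangent T g)
  let e := Generators.cotangentCompLocalizationAwayEquiv g P hx
  exact ⟨((b.baseChange T).prod (Generators.basisCotangentAway T g)).map e.symm⟩

end LocRank

section BridgeBasis

variable {R : Type u} {A : Type v} [CommRing R] [CommRing A] [Algebra R A]
variable {ι : Type*} (φ : MvPolynomial ι R →ₐ[R] A) (hφ : Function.Surjective φ)
  (K : Ideal (MvPolynomial ι R)) (hK : RingHom.ker φ.toRingHom = K)

include hK in
theorem nonempty_basis_gen {κ : Type*} [Finite κ]
    (b : Module.Basis κ (MvPolynomial ι R ⧸ K) K.Cotangent) :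
    Nonempty (Module.Basis κ A (gen φ hφ).toExtension.Cotangent) := by
  classical
  haveI := Fintype.ofFinite κ
  let σ : (MvPolynomial ι R ⧸ K) ≃+* A :=
    (Ideal.quotEquivOfEq hK.symm).trans (RingHom.quotientKerEquivOfSurjective (f := φ.toRingHom) hφ)
  have hσ : ∀ p, σ (Ideal.Quotient.mk K p) = φ p := by
    intro p
    simp only [σ, RingEquiv.trans_apply, Ideal.quotEquivOfEq_mk]
    exact RingHom.quotientKerEquivOfSurjective_apply_mk (f := φ.toRingHom) hφ p
  let β := bridgeAdd φ hφ K hK
  have hβ : ∀ (r : MvPolynomial ι R ⧸ K) m, β (r • m) = σ r • β m := by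
    intro r m
    obtain ⟨p, rfl⟩ := Ideal.Quotient.mk_surjective r
    rw [hσ]
    exact bridgeAdd_smul φ hφ K hK p m
  let v : κ → (gen φ hφ).toExtension.Cotangent := fun i => β (b i)
  have hli : LinearIndependent A v := by
    rw [Fintype.linearIndependent_iff]
    intro t ht i
    have h1 : β (∑ j, σ.symm (t j) • b j) = 0 := by
      rw [map_sum]
      simp only [hβ, RingEquiv.apply_symm_apply]
      exact ht
    have h2 : ∑ j, σ.symm (t j) • b j = 0 := by
      have := β.injective (h1.trans (map_zero β).symm)
      exact this
    have h3 := (Fintype.linearIndependent_iff.mp b.linearIndependent) _ h2 i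
    have := congrArg σ h3
    simpa using this
  have hsp : ⊤ ≤ Submodule.span A (Set.range v) := by
    intro y _
    obtain ⟨m, rfl⟩ := β.surjective y
    rw [← b.sum_repr m, map_sum]
    refine Submodule.sum_mem _ fun j _ => ?_
    rw [hβ]
    exact Submodule.smul_mem _ _ (Submodule.subset_span ⟨j, rfl⟩)
  exact ⟨Module.Basis.mk hli hsp⟩

end BridgeBasis

end Groth.Agent.Helper3.SyntCot
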