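import Mathlib
import Groth.Agent.Helper3.SyntCot3
import Groth.Agent.Helper3.KzCot
import Groth.Agent.Helper5.RelGCI13
import Groth.Agent.Helper5.LST8
import Groth.Agent.Helper5.SyntDim3
import Groth.Agent.Helper5.EtFib
import Groth.Agent.Helper5.RelGCI6
set_option autoImplicit false
set_option linter.style.haveILetI false
set_option linter.unusedSectionVars false
set_option linter.unusedVariables false
set_option linter.deprecated false
set_option linter.style.haveILetI false
set_option linter.unusedSectionVars false
set_option linter.unusedVariables false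
universe u v

namespace Groth.Agent.Helper3.SyntCot

open Algebra MvPolynomial TensorProduct CategoryTheory AlgebraicGeometry

section FibDim

variable {R S : Type u} [CommRing R] [CommRing S] [Algebra R S]

/-- Arithmetic part: if `S_g ≅ R[x_1..x_n]/(H_1..H_c)` is a relative global complete intersection and
`S = R[ι]/I` with `I/I²` free on `κ`, then `|ι| - |κ| = n - c`. -/
theorem count_of_lst {ι κ : Type} [Fintype ι] [Fintype κ]
    (P : Generators R S ι) (b : Module.Basis κ S P.toExtension.Cotangent)
    (g : S) [Nontrivial (Localization.Away g)] (n c : ℕ) (H : Fin c → MvPolynomial (Fin n) R)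
    (hH : Synt.IsRelGCI R n c H) (e : Localization.Away g ≃ₐ[R] Synt.RelGCIRing R n c H) :
    c ≤ n ∧ Fintype.card κ + n = c + Fintype.card ι := by
  classical
  let T := Localization.Away g
  haveI : Nontrivial (Synt.RelGCIRing R n c H) := e.injective.nontrivial
  have hcn : c ≤ n := Groth.Agent.Helper5.RelGCI.le_of_isRelGCI_of_nontrivial R n c H hH
  refine ⟨hcn, ?_⟩
  obtain ⟨b2⟩ := nonempty_basis_compLoc (T := T) g P b
  let K : Ideal (MvPolynomial (Fin n) R) := Ideal.span (Set.range H)
  let φ : MvPolynomial (Fin n) R →ₐ[R] T :=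
    (e.symm : Synt.RelGCIRing R n c H →ₐ[R] T).comp (Ideal.Quotient.mkₐ R K)
  have hφ : Function.Surjective φ := by
    intro t
    obtain ⟨p, hp⟩ := Ideal.Quotient.mk_surjective (e t)
    refine ⟨p, ?_⟩
    show e.symm (Ideal.Quotient.mk K p) = t
    rw [hp, AlgEquiv.symm_apply_apply]
  have hK : RingHom.ker φ.toRingHom = K := by
    ext p
    rw [RingHom.mem_ker]
    show e.symm (Ideal.Quotient.mk K p) = 0 ↔ _
    rw [map_eq_zero_iff _ e.symm.injective, Ideal.Quotient.eq_zero_iff_mem]
  have hKtop : K ≠ ⊤ := fun h => by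
    have : Subsingleton (MvPolynomial (Fin n) R ⧸ K) := Ideal.Quotient.subsingleton_iff.2 h
    exact not_subsingleton (Synt.RelGCIRing R n c H) this
  have hkz := Groth.Agent.Helper5.RelGCI.s9254 R n c H hH
  obtain ⟨b3, -⟩ := Groth.Agent.Helper3.KzCot.main (I := K) hKtop c
    (fun i => ⟨H i, Ideal.subset_span ⟨i, rfl⟩⟩) hkz rfl
  obtain ⟨b4⟩ := nonempty_basis_gen φ hφ K hK b3
  haveI : Module.Free T ((Generators.localizationAway T g).comp P).toExtension.Cotangent :=
    Module.Free.of_basis b2
  haveI : Module.Finite T ((Generators.localizationAway T g).comp P).toExtension.Cotangent :=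
    Module.Finite.of_basis b2
  haveI : Module.Free T (gen φ hφ).toExtension.Cotangent := Module.Free.of_basis b4
  haveI : Module.Finite T (gen φ hφ).toExtension.Cotangent := Module.Finite.of_basis b4
  have h1 := rank_count ((Generators.localizationAway T g).comp P) (gen φ hφ)
  rw [Module.finrank_eq_nat_card_basis b2, Module.finrank_eq_nat_card_basis b4] at h1
  simp only [Nat.card_eq_fintype_card, Fintype.card_sum, Fintype.card_fin, Fintype.card_unit] at h1
  omega

theorem fibreDimAt_algEquiv {A B : Type u} [CommRing A] [CommRing B] [Algebra R A] [Algebra R B]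
    (e : A ≃ₐ[R] B) (x : PrimeSpectrum A) :
    FlatMor.fibreDimAt (Spec.map (CommRingCat.ofHom (algebraMap R A))) x =
      FlatMor.fibreDimAt (Spec.map (CommRingCat.ofHom (algebraMap R B)))
        (PrimeSpectrum.comap (e.symm : B →+* A) x) := by
  have h1 : Spec.map (CommRingCat.ofHom (algebraMap R A)) =
      Spec.map (CommRingCat.ofHom (e.symm : B →+* A)) ≫
        Spec.map (CommRingCat.ofHom (algebraMap R B)) := by
    rw [← Spec.map_comp, ← CommRingCat.ofHom_comp]
    congr 2
    ext r
    simp
  haveI : IsIso (Spec.map (CommRingCat.ofHom (e.symm : B →+* A))) := by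
    haveI : IsIso (CommRingCat.ofHom (e.symm : B →+* A)) :=
      (e.symm.toRingEquiv.toCommRingCatIso).isIso_hom
    infer_instance
  rw [h1, Groth.Agent.Helper5.EtFib.fibreDimAt_etale_comp]
  rfl

theorem fibreDimAt_away (g : S) (x' : PrimeSpectrum (Localization.Away g)) :
    FlatMor.fibreDimAt (Spec.map (CommRingCat.ofHom (algebraMap R (Localization.Away g)))) x' =
      FlatMor.fibreDimAt (Spec.map (CommRingCat.ofHom (algebraMap R S)))
        (PrimeSpectrum.comap (algebraMap S (Localization.Away g)) x') := by
  have h1 : Spec.map (CommRingCat.ofHom (algebraMap R (Localization.Away g))) =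
      Spec.map (CommRingCat.ofHom (algebraMap S (Localization.Away g))) ≫
        Spec.map (CommRingCat.ofHom (algebraMap R S)) := by
    rw [← Spec.map_comp, ← CommRingCat.ofHom_comp]
  rw [h1, Groth.Agent.Helper5.EtFib.fibreDimAt_etale_comp]
  rfl

/-- **fibre dimension of a syntomic algebra from a presentation with free conormal module**:
if `S = R[ι]/I` is syntomic over `R` with `I/I²` free on `κ`, then all local fibre dimensions are
`|ι| - |κ|`. -/
theorem fibreDimAt_of_basis (hS : Synt.IsSyntomic R S) {ι κ : Type} [Fintype ι] [Fintype κ]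
    (P : Generators R S ι) (b : Module.Basis κ S P.toExtension.Cotangent)
    (x : PrimeSpectrum S) :
    Fintype.card κ ≤ Fintype.card ι ∧
    FlatMor.fibreDimAt (Spec.map (CommRingCat.ofHom (algebraMap R S))) x =
      ((Fintype.card ι - Fintype.card κ : ℕ) : WithBot ℕ∞) := by
  obtain ⟨g, hg, n, c, H, hH, ⟨e⟩⟩ := Groth.Agent.Helper5.LST.lst R S hS x.asIdeal
  have hx : x ∈ Set.range (PrimeSpectrum.comap (algebraMap S (Localization.Away g))) := by
    rw [PrimeSpectrum.localization_away_comap_range (Localization.Away g) g]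
    exact hg
  obtain ⟨x', rfl⟩ := hx
  haveI : Nontrivial (Localization.Away g) :=
    ⟨⟨0, 1, fun h => x'.isPrime.ne_top ((Ideal.eq_top_iff_one _).2 (h ▸ x'.asIdeal.zero_mem))⟩⟩
  obtain ⟨hcn, hcount⟩ := count_of_lst P b g n c H hH e
  have hle : Fintype.card κ ≤ Fintype.card ι := by omega
  refine ⟨hle, ?_⟩
  rw [← fibreDimAt_away g x', fibreDimAt_algEquiv e x',
    Groth.Agent.Helper5.SyntDim.s9366 R n c H hH]
  have h3 : n - c = Fintype.card ι - Fintype.card κ := by omega
  rw [h3]

end FibDim

end Groth.Agent.Helper3.SyntCot
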