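import Mathlib
import Groth.Agent.Helper3.SyntCot4
set_option autoImplicit false
set_option linter.style.haveILetI false
set_option linter.unusedSectionVars false
set_option linter.unusedVariables false
set_option linter.deprecated false
set_option linter.style.haveILetI false
set_option linter.unusedSectionVars false
set_option linter.unusedVariables false
universe u v

namespace Groth.Agent.Helper3.SyntCot

open Algebra MvPolynomial TensorProduct CategoryTheory AlgebraicGeometry

section CountField

variable {R S : Type u} [CommRing R] [CommRing S] [Algebra R S]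
variable {ι : Type*} {ι' : Type*}
variable (P : Generators R S ι) (P' : Generators R S ι')

/-- base change of a linear equivalence to an algebra -/
noncomputable def bcEquiv (k : Type*) [CommRing k] [Algebra S k] {M M' : Type*} [AddCommGroup M]
    [AddCommGroup M'] [Module S M] [Module S M'] (e : M ≃ₗ[S] M') : k ⊗[S] M ≃ₗ[k] k ⊗[S] M' :=
  TensorProduct.AlgebraTensorModule.congr (LinearEquiv.refl k k) e

theorem finrank_bc_free (k : Type*) [Field k] [Algebra S k] {M : Type*} [AddCommGroup M]
    [Module S M] {κ : Type*} [Fintype κ] (b : Module.Basis κ S M) :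
    Module.finrank k (k ⊗[S] M) = Fintype.card κ := by
  haveI : Nontrivial S := (algebraMap S k).domain_nontrivial
  haveI : Module.Free S M := Module.Free.of_basis b
  rw [Module.finrank_baseChange, Module.finrank_eq_card_basis b]

/-- **Stacks 00S1 over a residue field**: for two finite presentations of `S`,
`dim_k (k ⊗ I/I²) + |ι'| = dim_k (k ⊗ I'/I'²) + |ι|`. -/
theorem rank_count_field [Fintype ι] [Fintype ι'] (k : Type*) [Field k] [Algebra S k]
    [Module.Finite S P.toExtension.Cotangent] [Module.Finite S P'.toExtension.Cotangent] :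
    Module.finrank k (k ⊗[S] P.toExtension.Cotangent) + Fintype.card ι' =
      Module.finrank k (k ⊗[S] P'.toExtension.Cotangent) + Fintype.card ι := by
  have e := (bcEquiv k (compareEquiv P P')).finrank_eq
  have e1 := (TensorProduct.prodRight S k k (S ⊗[S] P.toExtension.Cotangent)
    (selfGen P'.val).toExtension.Cotangent).finrank_eq
  have e2 := (TensorProduct.prodRight S k k (S ⊗[S] P'.toExtension.Cotangent)
    (selfGen P.val).toExtension.Cotangent).finrank_eq
  haveI : Module.Finite S (selfGen (S := S) P'.val).toExtension.Cotangent :=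
    Module.Finite.of_basis (selfGenBasis P'.val)
  haveI : Module.Finite S (selfGen (S := S) P.val).toExtension.Cotangent :=
    Module.Finite.of_basis (selfGenBasis P.val)
  haveI : Module.Finite S (S ⊗[S] P.toExtension.Cotangent) :=
    Module.Finite.equiv (TensorProduct.lid S _).symm
  haveI : Module.Finite S (S ⊗[S] P'.toExtension.Cotangent) :=
    Module.Finite.equiv (TensorProduct.lid S _).symm
  rw [e1, e2, Module.finrank_prod, Module.finrank_prod,
    (bcEquiv k (TensorProduct.lid S P.toExtension.Cotangent)).finrank_eq,
    (bcEquiv k (TensorProduct.lid S P'.toExtension.Cotangent)).finrank_eq,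
    finrank_bc_free k (selfGenBasis P'.val), finrank_bc_free k (selfGenBasis P.val)] at e
  exact e

end CountField

section FibRank

variable {R S : Type u} [CommRing R] [CommRing S] [Algebra R S]

theorem count_of_lst_field {ι : Type} [Fintype ι] (P : Generators R S ι)
    [Module.Finite S P.toExtension.Cotangent] (k : Type u) [Field k] [Algebra S k]
    (g : S) (hg : algebraMap S k g ≠ 0) (n c : ℕ) (H : Fin c → MvPolynomial (Fin n) R)
    (hH : Synt.IsRelGCI R n c H) (e : Localization.Away g ≃ₐ[R] Synt.RelGCIRing R n c H) :
    c ≤ n ∧ Module.finrank k (k ⊗[S] P.toExtension.Cotangent) + n = c + Fintype.card ι := by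
  classical
  let T := Localization.Away g
  letI : Algebra T k := (IsLocalization.Away.lift (S := T) g (g := algebraMap S k)
    (isUnit_iff_ne_zero.2 hg)).toAlgebra
  haveI : IsScalarTower S T k := IsScalarTower.of_algebraMap_eq fun s =>
    (IsLocalization.Away.lift_eq g (isUnit_iff_ne_zero.2 hg) s).symm
  haveI : Nontrivial T := (algebraMap T k).domain_nontrivial
  haveI : Nontrivial (Synt.RelGCIRing R n c H) := e.injective.nontrivial
  have hcn : c ≤ n := Groth.Agent.Helper5.RelGCI.le_of_isRelGCI_of_nontrivial R n c H hH
  refine ⟨hcn, ?_⟩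
  obtain ⟨xx, hxx⟩ := Generators.Cotangent.surjective_map_ofComp (Generators.localizationAway T g) P
    (Generators.cMulXSubOneCotangent T g)
  let e₁ := Generators.cotangentCompLocalizationAwayEquiv g P hxx
  haveI : Module.Finite T (Generators.localizationAway T g).toExtension.Cotangent :=
    Module.Finite.of_basis (Generators.basisCotangentAway T g)
  haveI : Module.Finite T ((Generators.localizationAway T g).comp P).toExtension.Cotangent :=
    Module.Finite.equiv e₁.symm
  have hr2 : Module.finrank k (k ⊗[T] ((Generators.localizationAway T g).comp P).toExtension.Cotangent) =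
      Module.finrank k (k ⊗[S] P.toExtension.Cotangent) + 1 := by
    rw [(bcEquiv k e₁).finrank_eq, (TensorProduct.prodRight T k k _ _).finrank_eq,
      Module.finrank_prod,
      (TensorProduct.AlgebraTensorModule.cancelBaseChange S T k k P.toExtension.Cotangent).finrank_eq,
      finrank_bc_free k (Generators.basisCotangentAway T g)]
    simp
  let K : Ideal (MvPolynomial (Fin n) R) := Ideal.span (Set.range H)
  let φ : MvPolynomial (Fin n) R →ₐ[R] T :=
    (e.symm : Synt.RelGCIRing R n c H →ₐ[R] T).comp (Ideal.Quotient.mkₐ R K)
  have hφ : Function.Surjective φ := by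
    intro t
    obtain ⟨p, hp⟩ := Ideal.Quotient.mk_surjective (e t)
    refine ⟨p, ?_⟩
    show e.symm (Ideal.Quotient.mk K p) = t
    rw [hp, AlgEquiv.symm_apply_apply]
  have hK : RingHom.ker φ.toRingHom = K := by
    ext p
    rw [RingHom.mem_ker]
    show e.symm (Ideal.Quotient.mk K p) = 0 ↔ _
    rw [map_eq_zero_iff _ e.symm.injective, Ideal.Quotient.eq_zero_iff_mem]
  have hKtop : K ≠ ⊤ := fun h => by
    have : Subsingleton (MvPolynomial (Fin n) R ⧸ K) := Ideal.Quotient.subsingleton_iff.2 h
    exact not_subsingleton (Synt.RelGCIRing R n c H) this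
  have hkz := Groth.Agent.Helper5.RelGCI.s9254 R n c H hH
  obtain ⟨b3, -⟩ := Groth.Agent.Helper3.KzCot.main (I := K) hKtop c
    (fun i => ⟨H i, Ideal.subset_span ⟨i, rfl⟩⟩) hkz rfl
  obtain ⟨b4⟩ := nonempty_basis_gen φ hφ K hK b3
  haveI : Module.Finite T (gen φ hφ).toExtension.Cotangent := Module.Finite.of_basis b4
  have h1 := rank_count_field ((Generators.localizationAway T g).comp P) (gen φ hφ) k
  rw [hr2, finrank_bc_free k b4] at h1
  simp only [Fintype.card_sum, Fintype.card_fin, Fintype.card_unit] at h1
  omega

/-- **fibre dimension of a syntomic algebra from any finite presentation**: if `S = R[ι]/I` is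
syntomic over `R` and `k` is a field with a map `S → k` with kernel `x`, then the local fibre
dimension at `x` is `|ι| - dim_k (k ⊗ I/I²)`. -/
theorem fibreDimAt_of_rank (hS : Synt.IsSyntomic R S) {ι : Type} [Fintype ι]
    (P : Generators R S ι) [Module.Finite S P.toExtension.Cotangent]
    (k : Type u) [Field k] [Algebra S k] (x : PrimeSpectrum S)
    (hx : RingHom.ker (algebraMap S k) = x.asIdeal) :
    Module.finrank k (k ⊗[S] P.toExtension.Cotangent) ≤ Fintype.card ι ∧
    FlatMor.fibreDimAt (Spec.map (CommRingCat.ofHom (algebraMap R S))) x =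
      ((Fintype.card ι - Module.finrank k (k ⊗[S] P.toExtension.Cotangent) : ℕ) : WithBot ℕ∞) := by
  obtain ⟨g, hg, n, c, H, hH, ⟨e⟩⟩ := Groth.Agent.Helper5.LST.lst R S hS x.asIdeal
  have hgk : algebraMap S k g ≠ 0 := fun h0 => hg (hx ▸ (RingHom.mem_ker.2 h0))
  have hxr : x ∈ Set.range (PrimeSpectrum.comap (algebraMap S (Localization.Away g))) := by
    rw [PrimeSpectrum.localization_away_comap_range (Localization.Away g) g]
    exact hg
  obtain ⟨x', rfl⟩ := hxr
  obtain ⟨hcn, hcount⟩ := count_of_lst_field P k g hgk n c H hH e
  have hle : Module.finrank k (k ⊗[S] P.toExtension.Cotangent) ≤ Fintype.card ι := by omega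
  refine ⟨hle, ?_⟩
  rw [← fibreDimAt_away g x', fibreDimAt_algEquiv e x',
    Groth.Agent.Helper5.SyntDim.s9366 R n c H hH]
  have h3 : n - c = Fintype.card ι - Module.finrank k (k ⊗[S] P.toExtension.Cotangent) := by omega
  rw [h3]

end FibRank

end Groth.Agent.Helper3.SyntCot
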