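import Groth.Agent.Helper3.EtIdem
import Groth.Agent.Helper3.HensProj

/-!
S2044: lifting finite projective modules over `A/I` to an étale neighbourhood of `V(I)`.
-/

namespace Groth.Agent.Helper3.EtProj

open Polynomial TensorProduct

universe u

/-- Base change of a retract of `R^n` cut out by an idempotent matrix. -/
theorem baseChange_retract {R : Type*} [CommRing R] (S : Type*) [CommRing S] [Algebra R S]
    {N : Type*} [AddCommGroup N] [Module R N] (n : ℕ)
    (E : Matrix (Fin n) (Fin n) R) (incl : N →ₗ[R] (Fin n → R)) (proj : (Fin n → R) →ₗ[R] N)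
    (hpi : proj ∘ₗ incl = LinearMap.id) (hip : incl ∘ₗ proj = Matrix.toLin' E) :
    ∃ (i₁ : TensorProduct R S N →ₗ[S] (Fin n → S))
      (p₁ : (Fin n → S) →ₗ[S] TensorProduct R S N),
      p₁ ∘ₗ i₁ = LinearMap.id ∧ i₁ ∘ₗ p₁ = Matrix.toLin' (E.map (algebraMap R S)) := by
  classical
  let τ := TensorProduct.piScalarRight R S S (Fin n)
  let i₁ : TensorProduct R S N →ₗ[S] (Fin n → S) := τ.toLinearMap ∘ₗ incl.baseChange S
  let p₁ : (Fin n → S) →ₗ[S] TensorProduct R S N := proj.baseChange S ∘ₗ τ.symm.toLinearMap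
  have h₁ : p₁ ∘ₗ i₁ = LinearMap.id := by
    refine LinearMap.ext fun x => ?_
    change proj.baseChange S (τ.symm (τ (incl.baseChange S x))) = x
    rw [τ.symm_apply_apply, ← LinearMap.comp_apply, ← LinearMap.baseChange_comp, hpi,
      LinearMap.baseChange_id]
    rfl
  have hkey : τ.toLinearMap ∘ₗ (Matrix.toLin' E).baseChange S =
      Matrix.toLin' (E.map (algebraMap R S)) ∘ₗ τ.toLinearMap := by
    apply TensorProduct.AlgebraTensorModule.ext
    intro x v
    change τ ((Matrix.toLin' E).baseChange S (x ⊗ₜ v)) =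
      Matrix.toLin' (E.map (algebraMap R S)) (τ (x ⊗ₜ v))
    rw [LinearMap.baseChange_tmul, TensorProduct.piScalarRight_apply,
      TensorProduct.piScalarRight_apply, TensorProduct.piScalarRightHom_tmul,
      TensorProduct.piScalarRightHom_tmul]
    ext j
    rw [Matrix.toLin'_apply, Matrix.toLin'_apply]
    simp only [Matrix.mulVec, dotProduct, Matrix.map_apply]
    rw [Finset.sum_smul]
    refine Finset.sum_congr rfl fun k _ => ?_
    rw [Algebra.smul_def, Algebra.smul_def, map_mul]
    ring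
  refine ⟨i₁, p₁, h₁, ?_⟩
  refine LinearMap.ext fun x => ?_
  change τ (incl.baseChange S (proj.baseChange S (τ.symm x))) =
    Matrix.toLin' (E.map (algebraMap R S)) x
  rw [← LinearMap.comp_apply, ← LinearMap.baseChange_comp, hip]
  have := LinearMap.congr_fun hkey (τ.symm x)
  rw [LinearMap.comp_apply, LinearMap.comp_apply] at this
  change τ _ = Matrix.toLin' (E.map (algebraMap R S)) (τ (τ.symm x)) at this
  rw [τ.apply_symm_apply] at this
  exact this

/-- Cayley–Hamilton for a matrix with entries in `I`. -/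
theorem pow_eq_sum_of_entries_mem {R : Type*} [CommRing R] (I : Ideal R) (n : ℕ)
    (M : Matrix (Fin n) (Fin n) R) (hM : ∀ i j, M i j ∈ I) :
    ∃ c : ℕ → R, (∀ k, c k ∈ I) ∧ M ^ n = ∑ k ∈ Finset.range n, c k • M ^ k := by
  classical
  have hmap : M.map (Ideal.Quotient.mk I) = 0 := by
    ext i j
    rw [Matrix.map_apply, Matrix.zero_apply]
    exact Ideal.Quotient.eq_zero_iff_mem.2 (hM i j)
  have hχ : M.charpoly.map (Ideal.Quotient.mk I) = X ^ n := by
    rw [← Matrix.charpoly_map, hmap, Matrix.charpoly_zero, Fintype.card_fin]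
  have hcoeff : ∀ k, k < n → M.charpoly.coeff k ∈ I := by
    intro k hk
    have := congrArg (fun p => p.coeff k) hχ
    simp only [coeff_map, coeff_X_pow] at this
    rw [if_neg (Nat.ne_of_lt hk)] at this
    exact Ideal.Quotient.eq_zero_iff_mem.1 this
  rcases subsingleton_or_nontrivial R with hs | hnt
  · refine ⟨fun _ => 0, fun _ => I.zero_mem, Subsingleton.elim _ _⟩
  have hdeg : M.charpoly.natDegree = n := by
    rw [Matrix.charpoly_natDegree_eq_dim, Fintype.card_fin]
  have hlead : M.charpoly.coeff n = 1 := by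
    have := M.charpoly_monic
    rwa [Monic, leadingCoeff, hdeg] at this
  have haev := Matrix.aeval_self_charpoly M
  rw [aeval_eq_sum_range, hdeg, Finset.sum_range_succ, hlead, one_smul] at haev
  refine ⟨fun k => if k < n then -M.charpoly.coeff k else 0, fun k => ?_, ?_⟩
  · dsimp only
    split_ifs with hk
    · exact I.neg_mem (hcoeff k hk)
    · exact I.zero_mem
  · have h1 : ∑ k ∈ Finset.range n, (if k < n then -M.charpoly.coeff k else 0) • M ^ k =
        -∑ k ∈ Finset.range n, M.charpoly.coeff k • M ^ k := by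
      rw [← Finset.sum_neg_distrib]
      refine Finset.sum_congr rfl fun k hk => ?_
      rw [if_pos (Finset.mem_range.1 hk), neg_smul]
    rw [h1]
    exact eq_neg_of_add_eq_zero_right haev

/-- Lifting idempotent matrices to an étale neighbourhood of `V(I)`. -/
theorem matrix_idem_etale {A : Type u} [CommRing A] (I : Ideal A) (n : ℕ)
    (a : Matrix (Fin n) (Fin n) A) (ha : ∀ i j, (a * a - a) i j ∈ I) :
    ∃ (A' : Type u) (_ : CommRing A') (_ : Algebra A A'), Algebra.Etale A A' ∧
      Function.Bijective (algebraMap (A ⧸ I) (A' ⧸ I.map (algebraMap A A'))) ∧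
      ∃ E : Matrix (Fin n) (Fin n) A', E * E = E ∧
        ∀ i j, (E - a.map (algebraMap A A')) i j ∈ I.map (algebraMap A A') := by
  classical
  let B := Algebra.adjoin A ({a} : Set (Matrix (Fin n) (Fin n) A))
  let _ : CommRing B := Algebra.adjoinCommRingOfComm A (by
    intro x hx y hy
    rw [Set.mem_singleton_iff] at hx hy
    rw [hx, hy])
  have h1 : Module.Finite A B := ⟨(Submodule.fg_top _).2 (Matrix.isIntegral a).fg_adjoin_singleton⟩
  have h2 : Algebra.IsIntegral A B := Algebra.IsIntegral.of_finite A B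
  let J : Ideal B :=
    { carrier := {b | ∀ i j, (b : Matrix (Fin n) (Fin n) A) i j ∈ I}
      add_mem' := by
        intro x y hx hy i j
        have : ((x + y : B) : Matrix (Fin n) (Fin n) A) i j =
            (x : Matrix (Fin n) (Fin n) A) i j + (y : Matrix (Fin n) (Fin n) A) i j := rfl
        rw [this]
        exact I.add_mem (hx i j) (hy i j)
      zero_mem' := by
        intro i j
        have : ((0 : B) : Matrix (Fin n) (Fin n) A) i j = 0 := rfl
        rw [this]; exact I.zero_mem
      smul_mem' := by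
        intro c x hx i j
        have : ((c • x : B) : Matrix (Fin n) (Fin n) A) i j =
            ∑ k, (c : Matrix (Fin n) (Fin n) A) i k * (x : Matrix (Fin n) (Fin n) A) k j := by
          change ((c : Matrix (Fin n) (Fin n) A) * (x : Matrix (Fin n) (Fin n) A)) i j = _
          rw [Matrix.mul_apply]
        rw [this]
        exact I.sum_mem fun k _ => I.mul_mem_left _ (hx k j) }
  have hJmem : ∀ b : B, b ∈ J ↔ ∀ i j, (b : Matrix (Fin n) (Fin n) A) i j ∈ I := fun b => Iff.rfl
  set IB : Ideal B := I.map (algebraMap A B) with hIB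
  have hIBJ : IB ≤ J := by
    rw [hIB, Ideal.map_le_iff_le_comap]
    intro i hi
    rw [Ideal.mem_comap, hJmem]
    intro k l
    have : ((algebraMap A B i : B) : Matrix (Fin n) (Fin n) A) =
        algebraMap A (Matrix (Fin n) (Fin n) A) i := rfl
    rw [this, Matrix.algebraMap_matrix_apply]
    split_ifs
    · exact hi
    · exact I.zero_mem
  have hJnil : ∀ b ∈ J, ∃ N : ℕ, b ^ N ∈ IB := by
    intro b hb
    obtain ⟨c, hc, hpow⟩ := pow_eq_sum_of_entries_mem I n (b : Matrix (Fin n) (Fin n) A)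
      ((hJmem b).1 hb)
    refine ⟨n, ?_⟩
    have hv : B.val (b ^ n) = B.val (∑ k ∈ Finset.range n, c k • b ^ k) := by
      rw [map_pow, map_sum]
      simp_rw [map_smul, map_pow]
      exact hpow
    have : b ^ n = ∑ k ∈ Finset.range n, c k • b ^ k := Subtype.val_injective hv
    rw [this]
    refine Ideal.sum_mem _ fun k _ => ?_
    rw [Algebra.smul_def]
    exact Ideal.mul_mem_right _ _ (Ideal.mem_map_of_mem _ (hc k))
  let aB : B := ⟨a, Algebra.subset_adjoin (Set.mem_singleton a)⟩
  have haB : aB * aB - aB ∈ J := by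
    rw [hJmem]
    intro i j
    exact ha i j
  let fq : B ⧸ IB →+* B ⧸ J := Ideal.Quotient.factor hIBJ
  have hker : ∀ x ∈ RingHom.ker fq, IsNilpotent x := by
    intro x hx
    obtain ⟨b, rfl⟩ := Ideal.Quotient.mk_surjective x
    rw [RingHom.mem_ker, Ideal.Quotient.factor_mk, Ideal.Quotient.eq_zero_iff_mem] at hx
    obtain ⟨N, hN⟩ := hJnil b hx
    refine ⟨N, ?_⟩
    rw [← map_pow, Ideal.Quotient.eq_zero_iff_mem]
    exact hN
  have hidem : IsIdempotentElem (Ideal.Quotient.mk J aB) := by
    change _ * _ = _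
    rw [← map_mul, Ideal.Quotient.eq]
    exact haB
  obtain ⟨ē, hē, hēa⟩ := exists_isIdempotentElem_eq_of_ker_isNilpotent fq hker _
    ⟨Ideal.Quotient.mk IB aB, Ideal.Quotient.factor_mk _ _⟩ hidem
  obtain ⟨A', _, _, hA', hbij, e', he', hcompat⟩ := EtIdem.main I ē hē
  obtain ⟨b₁, hb₁⟩ := Ideal.Quotient.mk_surjective ē
  have hb₁J : b₁ - aB ∈ J := by
    rw [← Ideal.Quotient.eq, ← hēa, ← hb₁, Ideal.Quotient.factor_mk]
  have he'b : e' - 1 ⊗ₜ b₁ ∈ I.map (algebraMap A (A' ⊗[A] B)) := hcompat b₁ hb₁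
  set I' : Ideal A' := I.map (algebraMap A A') with hI'
  let φB : B →ₐ[A] Matrix (Fin n) (Fin n) A' := ((Algebra.ofId A A').mapMatrix).comp B.val
  let ψ : A' ⊗[A] B →ₐ[A'] Matrix (Fin n) (Fin n) A' :=
    Algebra.TensorProduct.lift (Algebra.ofId A' _) φB (fun x y => Algebra.commutes x (φB y))
  let 𝔞 : Ideal (A' ⊗[A] B) :=
    { carrier := {z | ∀ i j, ψ z i j ∈ I'}
      add_mem' := by
        intro x y hx hy i j
        rw [map_add, Matrix.add_apply]
        exact I'.add_mem (hx i j) (hy i j)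
      zero_mem' := by
        intro i j
        rw [map_zero, Matrix.zero_apply]
        exact I'.zero_mem
      smul_mem' := by
        intro c z hz i j
        rw [smul_eq_mul, map_mul, Matrix.mul_apply]
        exact I'.sum_mem fun k _ => I'.mul_mem_left _ (hz k j) }
  have h𝔞 : I.map (algebraMap A (A' ⊗[A] B)) ≤ 𝔞 := by
    rw [Ideal.map_le_iff_le_comap]
    intro i hi
    rw [Ideal.mem_comap]
    intro k l
    have : ψ (algebraMap A (A' ⊗[A] B) i) =
        algebraMap A' (Matrix (Fin n) (Fin n) A') (algebraMap A A' i) := by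
      rw [IsScalarTower.algebraMap_apply A A' (A' ⊗[A] B), ψ.commutes]
    rw [this, Matrix.algebraMap_matrix_apply]
    split_ifs
    · exact Ideal.mem_map_of_mem _ hi
    · exact I'.zero_mem
  refine ⟨A', inferInstance, inferInstance, hA', hbij, ψ e', ?_, ?_⟩
  · have := he'.map ψ
    exact this
  · intro i j
    have hψb : ψ (1 ⊗ₜ b₁) = (b₁ : Matrix (Fin n) (Fin n) A).map (algebraMap A A') := by
      refine (Algebra.TensorProduct.lift_tmul (Algebra.ofId A' _) φB _ 1 b₁).trans ?_
      rw [map_one, one_mul]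
      rfl
    have hsplit : (ψ e' - a.map (algebraMap A A')) i j =
        ψ (e' - 1 ⊗ₜ b₁) i j +
          algebraMap A A' (((b₁ - aB : B) : Matrix (Fin n) (Fin n) A) i j) := by
      have h3 : ((b₁ - aB : B) : Matrix (Fin n) (Fin n) A) i j =
          (b₁ : Matrix (Fin n) (Fin n) A) i j - a i j := rfl
      rw [map_sub, hψb, h3, map_sub, Matrix.sub_apply, Matrix.sub_apply, Matrix.map_apply,
        Matrix.map_apply]
      ring
    rw [hsplit]
    exact I'.add_mem (h𝔞 he'b i j) (Ideal.mem_map_of_mem _ ((hJmem _).1 hb₁J i j))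

/-- S2044. -/
theorem main {A : Type u} [CommRing A] (I : Ideal A) (P : Type u)
    [AddCommGroup P] [Module (A ⧸ I) P] [Module.Finite (A ⧸ I) P] [Module.Projective (A ⧸ I) P] :
    ∃ (A' : Type u) (_ : CommRing A') (_ : Algebra A A'), Algebra.Etale A A' ∧
      Function.Bijective (algebraMap (A ⧸ I) (A' ⧸ I.map (algebraMap A A'))) ∧
      ∃ (P' : Type u) (_ : AddCommGroup P') (_ : Module A' P'), Module.Finite A' P' ∧
        Module.Projective A' P' ∧
        Nonempty (((A' ⧸ I.map (algebraMap A A')) ⊗[A'] P') ≃ₗ[A' ⧸ I.map (algebraMap A A')]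
          ((A' ⧸ I.map (algebraMap A A')) ⊗[A ⧸ I] P)) := by
  classical
  obtain ⟨n, f, g, -, -, hfg⟩ := Module.Finite.exists_comp_eq_id_of_projective (A ⧸ I) P
  set Ē : Matrix (Fin n) (Fin n) (A ⧸ I) := LinearMap.toMatrix' (g ∘ₗ f) with hĒ
  have hĒlin : Matrix.toLin' Ē = g ∘ₗ f := by rw [hĒ, Matrix.toLin'_toMatrix']
  have hĒidem : Ē * Ē = Ē := by
    rw [hĒ, ← LinearMap.toMatrix'_comp]
    congr 1
    calc (g ∘ₗ f) ∘ₗ (g ∘ₗ f) = g ∘ₗ (f ∘ₗ g) ∘ₗ f := rfl
      _ = g ∘ₗ f := by rw [hfg]; rfl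
  let a : Matrix (Fin n) (Fin n) A := fun i j => (Ideal.Quotient.mk_surjective (Ē i j)).choose
  have ha : ∀ i j, Ideal.Quotient.mk I (a i j) = Ē i j := fun i j =>
    (Ideal.Quotient.mk_surjective (Ē i j)).choose_spec
  have hamap : a.map (Ideal.Quotient.mk I) = Ē := by
    ext i j; exact ha i j
  have haa : ∀ i j, (a * a - a) i j ∈ I := by
    intro i j
    rw [← Ideal.Quotient.eq_zero_iff_mem]
    have : (a * a - a).map (Ideal.Quotient.mk I) = 0 := by
      rw [Matrix.map_sub (f := Ideal.Quotient.mk I) (fun x y => map_sub _ x y), Matrix.map_mul,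
        hamap, hĒidem, sub_self]
    have h2 := congrFun (congrFun this i) j
    exact h2
  obtain ⟨A', _, _, hA', hbij, E, hEE, hEa⟩ := matrix_idem_etale I n a haa
  set I' : Ideal A' := I.map (algebraMap A A') with hI'
  have hEmap : E.map (algebraMap A' (A' ⧸ I')) = Ē.map (algebraMap (A ⧸ I) (A' ⧸ I')) := by
    ext i j
    rw [Matrix.map_apply, Matrix.map_apply, ← ha i j]
    change Ideal.Quotient.mk I' (E i j) = Ideal.Quotient.mk I' (algebraMap A A' (a i j))
    rw [Ideal.Quotient.eq]
    exact hEa i j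
  let P' : Submodule A' (Fin n → A') := LinearMap.range (Matrix.toLin' E)
  let incl : P' →ₗ[A'] (Fin n → A') := P'.subtype
  let proj : (Fin n → A') →ₗ[A'] P' := (Matrix.toLin' E).codRestrict P' (fun v => ⟨v, rfl⟩)
  have hip : incl ∘ₗ proj = Matrix.toLin' E := by
    ext v : 1
    rfl
  have hpi : proj ∘ₗ incl = LinearMap.id := by
    ext ⟨x, v, rfl⟩ : 1
    apply Subtype.ext
    change Matrix.toLin' E (Matrix.toLin' E v) = Matrix.toLin' E v
    rw [← LinearMap.comp_apply, ← Matrix.toLin'_mul, hEE]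
  have hfin : Module.Finite A' P' := Module.Finite.range _
  have hproj : Module.Projective A' P' := Module.Projective.of_split incl proj hpi
  refine ⟨A', inferInstance, inferInstance, hA', hbij, P', inferInstance, inferInstance, hfin,
    hproj, ?_⟩
  obtain ⟨i₁, p₁, h₁, h₁'⟩ := baseChange_retract (A' ⧸ I') n E incl proj hpi hip
  obtain ⟨i₂, p₂, h₂, h₂'⟩ := baseChange_retract (A' ⧸ I') n Ē g f hfg hĒlin.symm
  refine HensProj.retract_equiv i₁ p₁ h₁ i₂ p₂ h₂ ?_
  rw [h₁', h₂', hEmap]

end Groth.Agent.Helper3.EtProj
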