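import Mathlib
set_option autoImplicit false
set_option linter.style.haveILetI false
set_option linter.unusedSectionVars false
set_option linter.unusedVariables false
set_option linter.deprecated false
set_option linter.style.haveILetI false
set_option linter.unusedSectionVars false
set_option linter.unusedVariables false
universe u v

/-! Pieces of the lifting argument (after helper8's `SmLiftD`), isolated for reuse. -/

namespace Groth.Agent.Helper3.SyntLift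

section Data

variable {R : Type u} [CommRing R] (I : Ideal R) {B : Type u} [CommRing B] [Algebra R B]
  {A₀ : Type u} [CommRing A₀] [Algebra (R ⧸ I) A₀] [Algebra R A₀] [IsScalarTower R (R ⧸ I) A₀]
  (ρ : B →ₐ[R] A₀)

include I in
theorem algebraMap_eq_zero_of_mem : ∀ i ∈ I, algebraMap R A₀ i = 0 := by
  intro i hi
  rw [IsScalarTower.algebraMap_apply R (R ⧸ I) A₀, Ideal.Quotient.algebraMap_eq,
    Ideal.Quotient.eq_zero_iff_mem.mpr hi, map_zero]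

theorem map_le_ker : I.map (algebraMap R B) ≤ RingHom.ker ρ := by
  rw [Ideal.map_le_iff_le_comap]
  intro i hi
  rw [Ideal.mem_comap, RingHom.mem_ker]
  show ρ (algebraMap R B i) = 0
  rw [ρ.commutes, algebraMap_eq_zero_of_mem I i hi]

/-- Nakayama step: an element `g₂ ≡ 1 mod J` with `g₂ J ⊆ 𝔞 + IB`. -/
theorem exists_nakayama
    (hfg : ∃ s : Finset B, RingHom.ker ρ = Ideal.span (s : Set B) ⊔ I.map (algebraMap R B))
    (𝔞 : Ideal B) (h𝔞J : 𝔞 ≤ RingHom.ker ρ)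
    (hsurj : ∀ x ∈ RingHom.ker ρ, ∃ a ∈ 𝔞, x - a ∈ (RingHom.ker ρ) ^ 2 ⊔ I.map (algebraMap R B)) :
    ∃ g₂ : B, g₂ - 1 ∈ RingHom.ker ρ ∧
      ∀ x ∈ RingHom.ker ρ, g₂ * x ∈ 𝔞 ⊔ I.map (algebraMap R B) := by
  classical
  set J := RingHom.ker ρ with hJ
  have hIJ : I.map (algebraMap R B) ≤ J := map_le_ker I ρ
  obtain ⟨s, hs⟩ := hfg
  set 𝔟 : Ideal B := 𝔞 ⊔ I.map (algebraMap R B) with h𝔟
  have h𝔟J : 𝔟 ≤ J := sup_le h𝔞J hIJ
  set 𝔧 : Ideal (B ⧸ 𝔟) := J.map (Ideal.Quotient.mk 𝔟) with h𝔧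
  have h𝔧fg : (𝔧 : Submodule (B ⧸ 𝔟) (B ⧸ 𝔟)).FG := by
    have h1 : 𝔧 = Ideal.span ((Ideal.Quotient.mk 𝔟) '' (s : Set B)) := by
      rw [h𝔧, hs, Ideal.map_sup, Ideal.map_span]
      have h2 : (I.map (algebraMap R B)).map (Ideal.Quotient.mk 𝔟) = ⊥ := by
        rw [eq_bot_iff, Ideal.map_le_iff_le_comap]
        intro x hx
        rw [Ideal.mem_comap, Ideal.mem_bot, Ideal.Quotient.eq_zero_iff_mem]
        exact le_sup_right (α := Ideal B) hx
      rw [h2, sup_bot_eq]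
    rw [h1]
    exact ⟨s.image (Ideal.Quotient.mk 𝔟), by rw [Finset.coe_image]⟩
  have h𝔧le : 𝔧 ≤ 𝔧 • 𝔧 := by
    rw [h𝔧, Ideal.map_le_iff_le_comap]
    intro x hx
    obtain ⟨a, ha, hp⟩ := hsurj x hx
    rw [Ideal.mem_comap]
    have h1 : Ideal.Quotient.mk 𝔟 x = Ideal.Quotient.mk 𝔟 (x - a) := by
      rw [map_sub, Ideal.Quotient.eq_zero_iff_mem.mpr (le_sup_left (α := Ideal B) ha),
        sub_zero]
    rw [h1, smul_eq_mul, ← Ideal.map_mul, ← pow_two]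
    have h2 : x - a ∈ J ^ 2 ⊔ 𝔟 :=
      (sup_le_sup_left (le_sup_right : I.map (algebraMap R B) ≤ 𝔟) (J ^ 2)) hp
    obtain ⟨y, hy, z, hz, hyz⟩ := Submodule.mem_sup.mp h2
    rw [← hyz, map_add, Ideal.Quotient.eq_zero_iff_mem.mpr hz, add_zero]
    exact Ideal.mem_map_of_mem _ hy
  obtain ⟨r, hr1, hr2⟩ :=
    Submodule.exists_sub_one_mem_and_smul_eq_zero_of_fg_of_le_smul 𝔧 𝔧 h𝔧fg h𝔧le
  obtain ⟨g₂, rfl⟩ := Ideal.Quotient.mk_surjective r
  refine ⟨g₂, ?_, ?_⟩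
  · have h3 : Ideal.Quotient.mk 𝔟 (g₂ - 1) ∈ J.map (Ideal.Quotient.mk 𝔟) := by
      rwa [map_sub, map_one]
    rw [Ideal.mem_map_iff_of_surjective _ Ideal.Quotient.mk_surjective] at h3
    obtain ⟨j, hj, hjeq⟩ := h3
    have h4 : j - (g₂ - 1) ∈ 𝔟 := Ideal.Quotient.eq.mp hjeq
    have h5 : g₂ - 1 = j - (j - (g₂ - 1)) := by ring
    rw [h5]
    exact J.sub_mem hj (h𝔟J h4)
  · intro x hx
    have h6 := hr2 (Ideal.Quotient.mk 𝔟 x) (Ideal.mem_map_of_mem _ hx)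
    rw [smul_eq_mul, ← map_mul, Ideal.Quotient.eq_zero_iff_mem] at h6
    exact h6

/-- the final isomorphism: `((B/𝔞)_g)/I ≅ A₀` for `g ≡ 1 mod J`, `g = g₁ g₂`, `g₂ J ⊆ 𝔞 + IB`. -/
theorem exists_quot_equiv (hρ : Function.Surjective ρ)
    (𝔞 : Ideal B) (h𝔞J : 𝔞 ≤ RingHom.ker ρ) (g₁ g₂ : B) (hg₁ : g₁ - 1 ∈ RingHom.ker ρ)
    (hg₂ : g₂ - 1 ∈ RingHom.ker ρ)
    (hg₂J : ∀ x ∈ RingHom.ker ρ, g₂ * x ∈ 𝔞 ⊔ I.map (algebraMap R B)) :
    ∃ e₁ : (Localization.Away (Ideal.Quotient.mk 𝔞 (g₁ * g₂)) ⧸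
        I.map (algebraMap R (Localization.Away (Ideal.Quotient.mk 𝔞 (g₁ * g₂))))) ≃ₐ[R ⧸ I] A₀,
      ∀ b : B, e₁ (Ideal.Quotient.mk _ (algebraMap (B ⧸ 𝔞) _ (Ideal.Quotient.mk 𝔞 b))) = ρ b := by
  classical
  set J := RingHom.ker ρ with hJ
  have hIA₀ : ∀ i ∈ I, algebraMap R A₀ i = 0 := algebraMap_eq_zero_of_mem I
  set g := g₁ * g₂ with hg
  let ρb : (B ⧸ 𝔞) →ₐ[R] A₀ := Ideal.Quotient.liftₐ 𝔞 ρ (fun x hx => h𝔞J hx)
  have hρb : ∀ b, ρb (Ideal.Quotient.mk 𝔞 b) = ρ b := fun _ => rfl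
  have hρ1 : ∀ x, x - 1 ∈ J → ρ x = 1 := by
    intro x hx
    have h1 : ρ (x - 1) = 0 := hx
    rwa [map_sub, map_one, sub_eq_zero] at h1
  have hρg : ρ g = 1 := by rw [hg, map_mul, hρ1 _ hg₁, hρ1 _ hg₂, one_mul]
  have hunit : ∀ y : Submonoid.powers (Ideal.Quotient.mk 𝔞 g), IsUnit (ρb y) := by
    rintro ⟨_, n, rfl⟩
    show IsUnit (ρb ((Ideal.Quotient.mk 𝔞 g) ^ n))
    rw [map_pow, hρb, hρg, one_pow]
    exact isUnit_one
  let Φ : Localization.Away (Ideal.Quotient.mk 𝔞 g) →ₐ[R] A₀ :=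
    IsLocalization.liftAlgHom (M := Submonoid.powers (Ideal.Quotient.mk 𝔞 g)) hunit
  let ι : B →+* Localization.Away (Ideal.Quotient.mk 𝔞 g) :=
    (algebraMap (B ⧸ 𝔞) (Localization.Away (Ideal.Quotient.mk 𝔞 g))).comp (Ideal.Quotient.mk 𝔞)
  have hΦ : ∀ b, Φ (ι b) = ρ b := fun b => IsLocalization.lift_eq _ _
  have hΦsurj : Function.Surjective Φ := fun a => by
    obtain ⟨b, rfl⟩ := hρ a
    exact ⟨_, hΦ b⟩
  have hιR : ι.comp (algebraMap R B) = algebraMap R (Localization.Away (Ideal.Quotient.mk 𝔞 g)) := by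
    ext r
    show algebraMap (B ⧸ 𝔞) _ (Ideal.Quotient.mk 𝔞 (algebraMap R B r)) = _
    rw [← Ideal.Quotient.algebraMap_eq, ← IsScalarTower.algebraMap_apply R B (B ⧸ 𝔞),
      ← IsScalarTower.algebraMap_apply R (B ⧸ 𝔞)]
  have hιI : ∀ z ∈ I.map (algebraMap R B),
      ι z ∈ I.map (algebraMap R (Localization.Away (Ideal.Quotient.mk 𝔞 g))) := by
    intro z hz
    rw [← hιR, ← Ideal.map_map]
    exact Ideal.mem_map_of_mem _ hz
  have hι𝔞 : ∀ a ∈ 𝔞, ι a = 0 := by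
    intro a ha
    show algebraMap (B ⧸ 𝔞) _ (Ideal.Quotient.mk 𝔞 a) = 0
    rw [Ideal.Quotient.eq_zero_iff_mem.mpr ha, map_zero]
  have hιg : IsUnit (ι g) :=
    IsLocalization.map_units (Localization.Away (Ideal.Quotient.mk 𝔞 g))
      (⟨Ideal.Quotient.mk 𝔞 g, Submonoid.mem_powers _⟩ : Submonoid.powers (Ideal.Quotient.mk 𝔞 g))
  have hιg₂ : IsUnit (ι g₂) := by
    have h7 : ι g = ι g₁ * ι g₂ := map_mul ι g₁ g₂
    rw [h7] at hιg
    exact isUnit_of_mul_isUnit_right hιg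
  let Φr : Localization.Away (Ideal.Quotient.mk 𝔞 g) →+* A₀ := Φ.toRingHom
  have hΦr : ∀ x, Φr x = Φ x := fun _ => rfl
  have hΦrsurj : Function.Surjective Φr := hΦsurj
  have hker : RingHom.ker Φr = I.map (algebraMap R (Localization.Away (Ideal.Quotient.mk 𝔞 g))) := by
    apply le_antisymm
    · intro x hx
      obtain ⟨y, s, rfl⟩ :=
        IsLocalization.exists_mk'_eq (Submonoid.powers (Ideal.Quotient.mk 𝔞 g)) x
      obtain ⟨b, rfl⟩ := Ideal.Quotient.mk_surjective y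
      have hσ : IsUnit (algebraMap (B ⧸ 𝔞) (Localization.Away (Ideal.Quotient.mk 𝔞 g)) s) :=
        IsLocalization.map_units _ s
      have hspec : IsLocalization.mk' (Localization.Away (Ideal.Quotient.mk 𝔞 g))
          (Ideal.Quotient.mk 𝔞 b) s * algebraMap (B ⧸ 𝔞) _ s = ι b :=
        IsLocalization.mk'_spec _ _ _
      have hb : b ∈ J := by
        rw [hJ, RingHom.mem_ker, ← hΦ, ← hspec, map_mul]
        rw [RingHom.mem_ker, hΦr] at hx
        have hx' : Φ (IsLocalization.mk' (Localization.Away (Ideal.Quotient.mk 𝔞 g))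
          (Ideal.Quotient.mk 𝔞 b) s) = 0 := hx
        rw [hx', zero_mul]
      obtain ⟨a, ha, z, hz, haz⟩ := Submodule.mem_sup.mp (hg₂J b hb)
      have h1 : ι g₂ * ι b ∈ I.map (algebraMap R (Localization.Away (Ideal.Quotient.mk 𝔞 g))) := by
        rw [← map_mul, ← haz, map_add, hι𝔞 a ha, zero_add]
        exact hιI z hz
      obtain ⟨v, hv⟩ := hιg₂
      obtain ⟨w, hw⟩ := hσ
      have h2 : IsLocalization.mk' (Localization.Away (Ideal.Quotient.mk 𝔞 g))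
          (Ideal.Quotient.mk 𝔞 b) s = (↑w⁻¹ * ↑v⁻¹) * (ι g₂ * ι b) := by
        rw [← hspec, ← hv, ← hw]
        have e1 : (↑v⁻¹ : Localization.Away (Ideal.Quotient.mk 𝔞 g)) * ↑v = 1 := Units.inv_mul v
        have e2 : (↑w⁻¹ : Localization.Away (Ideal.Quotient.mk 𝔞 g)) * ↑w = 1 := Units.inv_mul w
        linear_combination (-(IsLocalization.mk' (Localization.Away (Ideal.Quotient.mk 𝔞 g))
          (Ideal.Quotient.mk 𝔞 b) s) * (↑w⁻¹ * ↑w)) * e1 -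
          (IsLocalization.mk' (Localization.Away (Ideal.Quotient.mk 𝔞 g))
          (Ideal.Quotient.mk 𝔞 b) s) * e2
      rw [h2]
      exact Ideal.mul_mem_left _ _ h1
    · rw [Ideal.map_le_iff_le_comap]
      intro i hi
      rw [Ideal.mem_comap, RingHom.mem_ker, hΦr]
      show Φ (algebraMap R _ i) = 0
      rw [Φ.commutes, hIA₀ i hi]
  let e₁ : (Localization.Away (Ideal.Quotient.mk 𝔞 g) ⧸
      I.map (algebraMap R (Localization.Away (Ideal.Quotient.mk 𝔞 g)))) ≃+* A₀ :=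
    (Ideal.quotEquivOfEq hker.symm).trans (RingHom.quotientKerEquivOfSurjective hΦrsurj)
  have he₁ : ∀ z, e₁ (Ideal.Quotient.mk _ z) = Φ z := by
    intro z
    show (RingHom.quotientKerEquivOfSurjective hΦrsurj) ((Ideal.quotEquivOfEq hker.symm)
      (Ideal.Quotient.mk _ z)) = _
    rw [Ideal.quotEquivOfEq_mk, RingHom.quotientKerEquivOfSurjective_apply_mk, hΦr]
  refine ⟨AlgEquiv.ofRingEquiv (f := e₁) ?_, ?_⟩
  · intro r
    obtain ⟨r, rfl⟩ := Ideal.Quotient.mk_surjective r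
    show e₁ (Ideal.Quotient.mk _ (algebraMap R _ r)) = _
    rw [he₁, Φ.commutes, IsScalarTower.algebraMap_apply R (R ⧸ I) A₀]
    rfl
  · intro b
    show e₁ (Ideal.Quotient.mk _ (ι b)) = ρ b
    rw [he₁, hΦ]

end Data

end Groth.Agent.Helper3.SyntLift
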