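import Mathlib
import Groth.Agent.Helper5.SM5
set_option autoImplicit false
set_option linter.style.haveILetI false
set_option linter.unusedSectionVars false
set_option linter.unusedVariables false
set_option linter.deprecated false
set_option linter.style.haveILetI false
set_option linter.unusedSectionVars false
set_option linter.unusedVariables false
universe u v

namespace Groth.Agent.Helper3.SyntLoc

open Groth.Agent.Helper5.SM

section Basic

variable {R S : Type u} [CommRing R] [CommRing S] [Algebra R S]

theorem syntHom_algebraMap_iff : SyntHom (algebraMap R S) ↔ Synt.IsSyntomic R S := by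
  have h2 : (algebraMap R S).toAlgebra = (inferInstance : Algebra R S) :=
    Algebra.algebra_ext _ _ fun r => rfl
  unfold SyntHom
  rw [h2]

/-- a localization away of a syntomic algebra is syntomic -/
theorem isSyntomic_away (hS : Synt.IsSyntomic R S) (g : S) (T : Type u) [CommRing T]
    [Algebra R T] [Algebra S T] [IsScalarTower R S T] [IsLocalization.Away g T] :
    Synt.IsSyntomic R T := by
  have h1 := syntHom_propertyIsLocal.StableUnderCompositionWithLocalizationAwayTarget T g
    (algebraMap R S) (syntHom_algebraMap_iff.2 hS)
  rw [← IsScalarTower.algebraMap_eq R S T] at h1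
  exact syntHom_algebraMap_iff.1 h1

/-- `S` is syntomic over `R` in a basic open neighbourhood of the point `x`. -/
def SyntAt (R S : Type u) [CommRing R] [CommRing S] [Algebra R S] (x : PrimeSpectrum S) : Prop :=
  ∃ u : S, u ∉ x.asIdeal ∧ Synt.IsSyntomic R (Localization.Away u)

theorem syntAt_of_isSyntomic (hS : Synt.IsSyntomic R S) (x : PrimeSpectrum S) : SyntAt R S x :=
  ⟨1, fun h => x.isPrime.ne_top ((Ideal.eq_top_iff_one _).2 h),
    isSyntomic_away hS 1 (Localization.Away (1 : S))⟩

theorem syntAt_algEquiv {S' : Type u} [CommRing S'] [Algebra R S'] (e : S ≃ₐ[R] S')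
    (x : PrimeSpectrum S) (hx : SyntAt R S x) :
    SyntAt R S' (PrimeSpectrum.comap (e.symm : S' →+* S) x) := by
  obtain ⟨u, hu, hsynt⟩ := hx
  refine ⟨e u, ?_, ?_⟩
  · show (e.symm : S' →+* S) (e u) ∉ x.asIdeal
    simpa using hu
  · letI : Algebra S (Localization.Away (e u)) :=
      ((algebraMap S' (Localization.Away (e u))).comp
        (e.symm.toRingEquiv.symm.toRingHom)).toAlgebra
    have halg : ∀ s : S, algebraMap S (Localization.Away (e u)) s =
        algebraMap S' (Localization.Away (e u)) (e s) := fun s => rfl
    haveI : IsScalarTower R S (Localization.Away (e u)) := IsScalarTower.of_algebraMap_eq fun r => by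
      rw [halg, e.commutes, ← IsScalarTower.algebraMap_apply]
    haveI : IsLocalization.Away u (Localization.Away (e u)) := by
      have := IsLocalization.isLocalization_of_base_ringEquiv (Submonoid.powers (e u))
        (Localization.Away (e u)) (e.symm.toRingEquiv)
      convert this using 1
      rw [Submonoid.map_powers]
      simp
    let ε : Localization.Away u ≃ₐ[S] Localization.Away (e u) :=
      IsLocalization.algEquiv (Submonoid.powers u) _ _
    exact isSyntomic_of_algEquiv R _ _ (ε.restrictScalars R) hsynt

/-- the syntomic locus of a localization away maps into the syntomic locus -/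
theorem syntAt_of_away (g : S) (T : Type u) [CommRing T] [Algebra R T] [Algebra S T]
    [IsScalarTower R S T] [IsLocalization.Away g T] (x' : PrimeSpectrum T)
    (hx : SyntAt R T x') : SyntAt R S (PrimeSpectrum.comap (algebraMap S T) x') := by
  obtain ⟨u', hu', hsynt⟩ := hx
  have : IsLocalization.Away (g * (IsLocalization.Away.sec g u').1) (Localization.Away u') :=
    .mul_of_associated _ _ u' <| IsLocalization.Away.associated_sec_fst g u'
  let e : Localization.Away (g * (IsLocalization.Away.sec g u').1) ≃ₐ[S] Localization.Away u' :=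
    Localization.algEquiv _ _
  refine ⟨g * (IsLocalization.Away.sec g u').1, ?_, ?_⟩
  · show algebraMap S T (g * (IsLocalization.Away.sec g u').1) ∉ x'.asIdeal
    intro hmem
    rw [map_mul] at hmem
    have hgu : IsUnit (algebraMap S T g) := IsLocalization.Away.algebraMap_isUnit g
    have h2 : algebraMap S T (IsLocalization.Away.sec g u').1 ∈ x'.asIdeal :=
      (x'.isPrime.mem_or_mem hmem).resolve_left fun h =>
        x'.isPrime.ne_top (Ideal.eq_top_of_isUnit_mem _ h hgu)
    exact hu' ((Ideal.mem_iff_of_associated (IsLocalization.Away.associated_sec_fst g u')).1 h2)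
  · exact isSyntomic_of_algEquiv R _ _ (e.restrictScalars R).symm hsynt

/-- the localization of `S_g` at the image of `u` is syntomic if `S_u` is -/
theorem isSyntomic_away_away (u g : S) (hu : Synt.IsSyntomic R (Localization.Away u)) :
    Synt.IsSyntomic R (Localization.Away (algebraMap S (Localization.Away g) u)) := by
  have h1 : Synt.IsSyntomic R (Localization.Away (algebraMap S (Localization.Away u) g)) :=
    isSyntomic_away hu (algebraMap S (Localization.Away u) g) _
  haveI i1 : IsLocalization.Away (u * g) (Localization.Away (algebraMap S (Localization.Away u) g)) :=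
    inferInstance
  haveI i2 : IsLocalization.Away (u * g) (Localization.Away (algebraMap S (Localization.Away g) u)) :=
    inferInstance
  let e : Localization.Away (algebraMap S (Localization.Away u) g) ≃ₐ[S]
      Localization.Away (algebraMap S (Localization.Away g) u) :=
    IsLocalization.algEquiv (Submonoid.powers (u * g)) _ _
  exact isSyntomic_of_algEquiv R _ _ (e.restrictScalars R) h1

/-- if `S` is syntomic over `R` near every point of `V(𝔧)`, then `S_g` is syntomic over `R` for
some `g ≡ 1 mod 𝔧` -/
theorem exists_isSyntomic_away_of_syntAt (𝔧 : Ideal S)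
    (h : ∀ x : PrimeSpectrum S, 𝔧 ≤ x.asIdeal → SyntAt R S x) :
    ∃ g : S, g - 1 ∈ 𝔧 ∧ Synt.IsSyntomic R (Localization.Away g) := by
  let s : Set S := {u | Synt.IsSyntomic R (Localization.Away u)}
  have hsup : Ideal.span s ⊔ 𝔧 = ⊤ := by
    by_contra hne
    obtain ⟨m, hm, hle⟩ := Ideal.exists_le_maximal _ hne
    obtain ⟨u, hu, hsynt⟩ := h ⟨m, hm.isPrime⟩ (le_sup_right.trans hle)
    exact hu (hle (le_sup_left (a := Ideal.span s) (Ideal.subset_span hsynt)))
  have h1 : (1 : S) ∈ Ideal.span s ⊔ 𝔧 := hsup ▸ Submodule.mem_top
  obtain ⟨g, hg, j, hj, hgj⟩ := Submodule.mem_sup.1 h1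
  refine ⟨g, ?_, ?_⟩
  · have : g - 1 = -j := by rw [← hgj]; ring
    rw [this]
    exact 𝔧.neg_mem hj
  · rw [← syntHom_algebraMap_iff]
    refine syntHom_propertyIsLocal.ofLocalizationSpanTarget (algebraMap R (Localization.Away g))
      (algebraMap S (Localization.Away g) '' s) ?_ ?_
    · rw [← Ideal.map_span]
      exact Ideal.eq_top_of_isUnit_mem _ (Ideal.mem_map_of_mem _ hg)
        (IsLocalization.Away.algebraMap_isUnit g)
    · rintro ⟨_, u, hu, rfl⟩
      rw [← IsScalarTower.algebraMap_eq R (Localization.Away g)]
      exact syntHom_algebraMap_iff.2 (isSyntomic_away_away u g hu)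

end Basic

end Groth.Agent.Helper3.SyntLoc
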