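import Mathlib
import Groth.Agent.Helper3.SyntLoc1
import Groth.Agent.Helper3.SyntCot4
import Groth.Agent.Helper5.RelGCI16
import Groth.Agent.Helper5.RelGCI11
set_option autoImplicit false
set_option linter.style.haveILetI false
set_option linter.unusedSectionVars false
set_option linter.unusedVariables false
set_option linter.deprecated false
set_option linter.style.haveILetI false
set_option linter.unusedSectionVars false
set_option linter.unusedVariables false
universe u v

namespace Groth.Agent.Helper3.SyntLoc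

open Groth.Agent.Helper5.SM Groth.Agent.Helper5.RelGCI CategoryTheory AlgebraicGeometry MvPolynomial

section X

variable (R : Type u) [CommRing R]

/-- **a presentation with the expected fibre dimension at a point is syntomic near it** -/
theorem syntAt_relGCIRing (n c : ℕ) (F : Fin c → MvPolynomial (Fin n) R) (hcn : c ≤ n)
    (x : PrimeSpectrum (Synt.RelGCIRing R n c F))
    (hx : FlatMor.fibreDimAt (Spec.map (CommRingCat.ofHom
      (algebraMap R (Synt.RelGCIRing R n c F)))) x ≤ ((n - c : ℕ) : WithBot ℕ∞)) :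
    SyntAt R (Synt.RelGCIRing R n c F) x := by
  let d : WithBot ℕ∞ := ((n - c : ℕ) : WithBot ℕ∞)
  let IZ := PrimeSpectrum.vanishingIdeal (badSet R n c F d)
  have hZ := zeroLocus_vanishingIdeal_badSet R n c F d
  have hxn : ¬ IZ ≤ x.asIdeal := by
    intro hle
    have hxZ : x ∈ badSet R n c F d := by
      rw [← hZ]
      exact hle
    exact hxZ hx
  obtain ⟨j, hjI, hjx⟩ := Set.not_subset.1 hxn
  obtain ⟨h, rfl⟩ := Ideal.Quotient.mk_surjective j
  have hrel : Synt.IsRelGCI R (n + 1) (c + 1) (snocRel R n c F h) := by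
    refine isRelGCI_snoc R n c F h hcn ?_
    intro y hy
    by_contra hcon
    have hyZ : y ∈ badSet R n c F d := hcon
    rw [← hZ] at hyZ
    exact hy (hyZ hjI)
  exact ⟨_, hjx, isSyntomic_of_algEquiv R _ _ (snocEquiv R n c F h).symm (s9147 R _ _ _ hrel)⟩

/-- reindexing a finite presentation to a `RelGCIRing` -/
theorem exists_relGCIRing_equiv {σ τ : Type} [Fintype σ] [Fintype τ]
    (G : τ → MvPolynomial σ R) :
    ∃ F : Fin (Fintype.card τ) → MvPolynomial (Fin (Fintype.card σ)) R,
      Nonempty ((MvPolynomial σ R ⧸ Ideal.span (Set.range G)) ≃ₐ[R]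
        Synt.RelGCIRing R (Fintype.card σ) (Fintype.card τ) F) := by
  let eσ := Fintype.equivFin σ
  let eτ := Fintype.equivFin τ
  refine ⟨fun j => rename eσ (G (eτ.symm j)), ⟨?_⟩⟩
  refine Ideal.quotientEquivAlg _ _ (renameEquiv R eσ) ?_
  rw [Ideal.map_span]
  congr 1
  ext p
  constructor
  · rintro ⟨j, rfl⟩
    exact ⟨G (eτ.symm j), ⟨_, rfl⟩, rfl⟩
  · rintro ⟨_, ⟨t, rfl⟩, rfl⟩
    exact ⟨eτ t, by simp⟩

end X

end Groth.Agent.Helper3.SyntLoc
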