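import Mathlib
import Groth.Agent.Helper3.SyntLoc2
import Groth.Agent.Helper5.SmSynt1
set_option autoImplicit false
set_option linter.style.haveILetI false
set_option linter.unusedSectionVars false
set_option linter.unusedVariables false
set_option linter.deprecated false
set_option linter.style.haveILetI false
set_option linter.unusedSectionVars false
set_option linter.unusedVariables false
universe u v

namespace Groth.Agent.Helper3.SyntLoc

open Groth.Agent.Helper5.SM Groth.Agent.Helper5.RelGCI CategoryTheory AlgebraicGeometry MvPolynomial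
open Groth.Agent.Helper3.SyntCot

section Z

variable (R L : Type u) [CommRing R] [CommRing L] [Algebra R L]

/-- presentation of a quotient of a presented algebra -/
theorem exists_quot_presentation {ι σ : Type} [Fintype ι] [Fintype σ]
    (Pres : Algebra.Presentation R L ι σ) (c : ℕ) (t : Fin c → L) :
    ∃ G : σ ⊕ Fin c → MvPolynomial ι R,
      Nonempty ((MvPolynomial ι R ⧸ Ideal.span (Set.range G)) ≃ₐ[R]
        (L ⧸ Ideal.span (Set.range t))) := by
  have hsurj : Function.Surjective (aeval (R := R) Pres.val) := by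
    intro y
    obtain ⟨p, hp⟩ := Pres.algebraMap_surjective y
    exact ⟨p, by rw [← hp, Algebra.Generators.algebraMap_apply]⟩
  choose tt htt using fun k => hsurj (t k)
  refine ⟨Sum.elim Pres.relation tt, ?_⟩
  let ψ : MvPolynomial ι R →ₐ[R] (L ⧸ Ideal.span (Set.range t)) :=
    (Ideal.Quotient.mkₐ R (Ideal.span (Set.range t))).comp (aeval (R := R) Pres.val)
  have hψsurj : Function.Surjective ψ :=
    (Ideal.Quotient.mkₐ_surjective R _).comp hsurj
  have hker : Ideal.span (Set.range (Sum.elim Pres.relation tt)) = RingHom.ker ψ.toRingHom := by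
    have h1 : RingHom.ker ψ.toRingHom =
        Ideal.comap (aeval (R := R) Pres.val).toRingHom (Ideal.span (Set.range t)) := by
      ext p
      rw [RingHom.mem_ker, Ideal.mem_comap]
      show Ideal.Quotient.mk _ (aeval Pres.val p) = 0 ↔ _
      rw [Ideal.Quotient.eq_zero_iff_mem]
      rfl
    have h2 : Ideal.span (Set.range t) =
        (Ideal.span (Set.range tt)).map (aeval (R := R) Pres.val).toRingHom := by
      rw [Ideal.map_span, ← Set.range_comp]
      congr 2
      ext k
      exact (htt k).symm
    have hsurj' : Function.Surjective (aeval (R := R) Pres.val).toRingHom := hsurj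
    rw [h1, h2, Ideal.comap_map_of_surjective _ hsurj', Set.Sum.elim_range, Ideal.span_union]
    have h3 : Ideal.comap (aeval (R := R) Pres.val).toRingHom ⊥ = Pres.ker := by
      ext p
      rw [Ideal.mem_comap, Ideal.mem_bot]
      show _ ↔ algebraMap Pres.Ring L p = 0
      rw [Algebra.Generators.algebraMap_apply]
      rfl
    rw [h3, ← Pres.span_range_relation_eq_ker, sup_comm]
  exact ⟨(Ideal.quotientEquivAlgOfEq R hker).trans
    (Ideal.quotientKerAlgEquivOfSurjective hψsurj)⟩

/-- **cutting a standard smooth algebra**: if `L` is standard smooth over `R` with local fibre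
dimension `N` and the fibre dimension of `L/(t_1, …, t_c)` at `x` is at most `N - c`, then
`L/(t)` is syntomic over `R` near `x`. -/
theorem syntAt_quotient_of_isStandardSmooth [Algebra.IsStandardSmooth R L] (c : ℕ) (t : Fin c → L)
    (N : ℕ) (hcN : c ≤ N) (x : PrimeSpectrum (L ⧸ Ideal.span (Set.range t)))
    (hN : FlatMor.fibreDimAt (Spec.map (CommRingCat.ofHom (algebraMap R L)))
      (PrimeSpectrum.comap (Ideal.Quotient.mk (Ideal.span (Set.range t))) x) = (N : WithBot ℕ∞))
    (hx : FlatMor.fibreDimAt (Spec.map (CommRingCat.ofHom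
      (algebraMap R (L ⧸ Ideal.span (Set.range t))))) x ≤ ((N - c : ℕ) : WithBot ℕ∞)) :
    SyntAt R (L ⧸ Ideal.span (Set.range t)) x := by
  classical
  obtain ⟨ι, σ, hσ, hι, ⟨Pres⟩⟩ := Algebra.IsStandardSmooth.out (R := R) (S := L)
  haveI := Fintype.ofFinite ι
  haveI := Fintype.ofFinite σ
  obtain ⟨hle, hdim⟩ := fibreDimAt_of_basis
    (Groth.Agent.Helper5.SmSynt.isSyntomic_of_isStandardSmooth R L) Pres.toGenerators
    Pres.basisCotangent (PrimeSpectrum.comap (Ideal.Quotient.mk (Ideal.span (Set.range t))) x)
  rw [hN] at hdim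
  have hNeq : N = Fintype.card ι - Fintype.card σ := by exact_mod_cast hdim
  obtain ⟨G, ⟨Φ⟩⟩ := exists_quot_presentation R L Pres.toPresentation c t
  obtain ⟨F, ⟨e₂⟩⟩ := exists_relGCIRing_equiv R G
  let ε : (L ⧸ Ideal.span (Set.range t)) ≃ₐ[R]
      Synt.RelGCIRing R (Fintype.card ι) (Fintype.card (σ ⊕ Fin c)) F := Φ.symm.trans e₂
  have hcard : Fintype.card (σ ⊕ Fin c) = Fintype.card σ + c := by
    rw [Fintype.card_sum, Fintype.card_fin]
  have h1 := fibreDimAt_algEquiv ε x
  have h2 : SyntAt R (Synt.RelGCIRing R (Fintype.card ι) (Fintype.card (σ ⊕ Fin c)) F)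
      (PrimeSpectrum.comap (ε.symm : _ →+* (L ⧸ Ideal.span (Set.range t))) x) := by
    apply syntAt_relGCIRing R _ _ F (by omega)
    rw [← h1]
    refine hx.trans (le_of_eq ?_)
    congr 1
    omega
  have h3 := syntAt_algEquiv ε.symm _ h2
  convert h3 using 1
  apply PrimeSpectrum.ext
  ext y
  simp [PrimeSpectrum.comap_asIdeal, Ideal.mem_comap]

end Z

end Groth.Agent.Helper3.SyntLoc
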