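import Mathlib
import Groth.Agent.Helper3.SyntLoc3
import Groth.Agent.Helper5.BCMin13
import Groth.Agent.Helper5.NoethModel1
set_option autoImplicit false
set_option linter.style.haveILetI false
set_option linter.unusedSectionVars false
set_option linter.unusedVariables false
set_option linter.deprecated false
set_option linter.style.haveILetI false
set_option linter.unusedSectionVars false
set_option linter.unusedVariables false
universe u v

namespace Groth.Agent.Helper3.SyntLoc

open CategoryTheory AlgebraicGeometry TensorProduct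

section Inv

variable {R S : Type u} [CommRing R] [CommRing S] [Algebra R S]

theorem fibreDimAt_of_isLocalizationAway (g : S) (T : Type u) [CommRing T] [Algebra R T]
    [Algebra S T] [IsScalarTower R S T] [IsLocalization.Away g T] (x' : PrimeSpectrum T) :
    FlatMor.fibreDimAt (Spec.map (CommRingCat.ofHom (algebraMap R T))) x' =
      FlatMor.fibreDimAt (Spec.map (CommRingCat.ofHom (algebraMap R S)))
        (PrimeSpectrum.comap (algebraMap S T) x') := by
  have h1 : Spec.map (CommRingCat.ofHom (algebraMap R T)) =
      Spec.map (CommRingCat.ofHom (algebraMap S T)) ≫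
        Spec.map (CommRingCat.ofHom (algebraMap R S)) := by
    rw [← Spec.map_comp, ← CommRingCat.ofHom_comp, ← IsScalarTower.algebraMap_eq]
  haveI : IsOpenImmersion (Spec.map (CommRingCat.ofHom (algebraMap S T))) :=
    IsOpenImmersion.of_isLocalization g
  rw [h1, Groth.Agent.Helper5.EtFib.fibreDimAt_etale_comp]
  rfl

/-- the local fibre dimension at a point of `V(IS)` can be computed modulo `I` -/
theorem fibreDimAt_quot (I : Ideal R) [Algebra.FiniteType R S]
    (x : PrimeSpectrum (S ⧸ I.map (algebraMap R S))) :
    FlatMor.fibreDimAt (Spec.map (CommRingCat.ofHom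
        (algebraMap (R ⧸ I) (S ⧸ I.map (algebraMap R S))))) x =
      FlatMor.fibreDimAt (Spec.map (CommRingCat.ofHom (algebraMap R S)))
        (PrimeSpectrum.comap (Ideal.Quotient.mk (I.map (algebraMap R S))) x) := by
  let e : (R ⧸ I) ⊗[R] S ≃ₐ[R ⧸ I] (S ⧸ I.map (algebraMap R S)) :=
    (Algebra.TensorProduct.quotIdealMapEquivQuotTensor S I).symm
  have hsq := Groth.Agent.Helper5.NoethModel.isPullback_of_algEquiv R (R ⧸ I) S
    (S ⧸ I.map (algebraMap R S)) e
  have hm : Groth.Agent.Helper5.NoethModel.modelHom R (R ⧸ I) S (S ⧸ I.map (algebraMap R S)) e =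
      Ideal.Quotient.mk (I.map (algebraMap R S)) := by
    ext s
    show e ((1 : R ⧸ I) ⊗ₜ[R] s) = _
    rw [← Algebra.TensorProduct.quotIdealMapEquivQuotTensor_mk]
    exact AlgEquiv.symm_apply_apply _ _
  rw [hm] at hsq
  haveI : LocallyOfFiniteType (Spec.map (CommRingCat.ofHom (algebraMap R S))) := by
    rw [HasRingHomProperty.Spec_iff (P := @LocallyOfFiniteType)]
    exact RingHom.finiteType_algebraMap.2 inferInstance
  exact Groth.Agent.Helper5.BCMin.fibreDimAt_of_isPullback _ _ _ _ hsq x

end Inv

end Groth.Agent.Helper3.SyntLoc
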