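import Mathlib
import Groth.Agent.Helper3.SyntLift1
import Groth.Agent.Helper3.SyntLoc4
set_option autoImplicit false
set_option linter.style.haveILetI false
set_option linter.unusedSectionVars false
set_option linter.unusedVariables false
set_option linter.deprecated false
set_option linter.style.haveILetI false
set_option linter.unusedSectionVars false
set_option linter.unusedVariables false
universe u v

namespace Groth.Agent.Helper3.SyntLift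

open CategoryTheory AlgebraicGeometry Groth.Agent.Helper3.SyntLoc Groth.Agent.Helper3.SyntCot
open Groth.Agent.Helper5.SM

section Data

variable {R : Type u} [CommRing R] (I : Ideal R) {B : Type u} [CommRing B] [Algebra R B]
  {A₀ : Type u} [CommRing A₀] [Algebra (R ⧸ I) A₀] [Algebra R A₀] [IsScalarTower R (R ⧸ I) A₀]
  (ρ : B →ₐ[R] A₀)

/-- the local fibre dimension of `B/𝔞` over `R` at a point of `Spec A₀` equals that of `A₀` over
`R/I` -/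
theorem fibreDimAt_quot_data [Algebra.FiniteType R B] (hρ : Function.Surjective ρ)
    (𝔞 : Ideal B) (h𝔞J : 𝔞 ≤ RingHom.ker ρ) (g₂ : B)
    (hg₂ : g₂ - 1 ∈ RingHom.ker ρ)
    (hg₂J : ∀ x ∈ RingHom.ker ρ, g₂ * x ∈ 𝔞 ⊔ I.map (algebraMap R B))
    (x₀ : PrimeSpectrum A₀) :
    FlatMor.fibreDimAt (Spec.map (CommRingCat.ofHom (algebraMap R (B ⧸ 𝔞))))
        (PrimeSpectrum.comap (Ideal.Quotient.liftₐ 𝔞 ρ (fun x hx => h𝔞J hx)).toRingHom x₀) =
      FlatMor.fibreDimAt (Spec.map (CommRingCat.ofHom (algebraMap (R ⧸ I) A₀))) x₀ := by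
  have h1J : (1 : B) - 1 ∈ RingHom.ker ρ := by rw [sub_self]; exact Ideal.zero_mem _
  obtain ⟨e₁, he₁⟩ := exists_quot_equiv I ρ hρ 𝔞 h𝔞J 1 g₂ h1J hg₂ hg₂J
  set S₂ := Localization.Away (Ideal.Quotient.mk 𝔞 (1 * g₂)) with hS₂
  let x₂ : PrimeSpectrum (S₂ ⧸ I.map (algebraMap R S₂)) :=
    PrimeSpectrum.comap (e₁ : (S₂ ⧸ I.map (algebraMap R S₂)) →+* A₀) x₀
  have ha := fibreDimAt_algEquiv e₁ x₂
  haveI : Algebra.FiniteType R (B ⧸ 𝔞) := inferInstance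
  haveI : Algebra.FiniteType R S₂ := by
    haveI : Algebra.FiniteType (B ⧸ 𝔞) S₂ :=
      IsLocalization.finiteType_of_monoid_fg (Submonoid.powers (Ideal.Quotient.mk 𝔞 (1 * g₂))) S₂
    exact Algebra.FiniteType.trans (R := R) (S := B ⧸ 𝔞) (A := S₂) inferInstance inferInstance
  have hb := fibreDimAt_quot I x₂
  have hc := fibreDimAt_away (R := R) (Ideal.Quotient.mk 𝔞 (1 * g₂))
    (PrimeSpectrum.comap (Ideal.Quotient.mk (I.map (algebraMap R S₂))) x₂)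
  have hpt1 : PrimeSpectrum.comap ((e₁.symm : A₀ ≃ₐ[R ⧸ I] _) : A₀ →+* _) x₂ = x₀ := by
    apply PrimeSpectrum.ext
    ext y
    simp [x₂, PrimeSpectrum.comap_asIdeal, Ideal.mem_comap]
  have hpt2 : PrimeSpectrum.comap (algebraMap (B ⧸ 𝔞) S₂)
      (PrimeSpectrum.comap (Ideal.Quotient.mk (I.map (algebraMap R S₂))) x₂) =
      PrimeSpectrum.comap (Ideal.Quotient.liftₐ 𝔞 ρ (fun x hx => h𝔞J hx)).toRingHom x₀ := by
    apply PrimeSpectrum.ext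
    ext y
    obtain ⟨b, rfl⟩ := Ideal.Quotient.mk_surjective y
    simp only [x₂, PrimeSpectrum.comap_asIdeal, Ideal.mem_comap]
    have : (e₁ : (S₂ ⧸ I.map (algebraMap R S₂)) →+* A₀)
        (Ideal.Quotient.mk _ (algebraMap (B ⧸ 𝔞) S₂ (Ideal.Quotient.mk 𝔞 b))) = ρ b := he₁ b
    rw [this]
    rfl
  rw [← hpt2, ← hc, ← hb, ha, hpt1]

/-- assembling the lift from local syntomicity along `Spec A₀ ⊆ Spec B/𝔞` -/
theorem exists_syntomic_lift_of_loc (hρ : Function.Surjective ρ)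
    (hfg : ∃ s : Finset B, RingHom.ker ρ = Ideal.span (s : Set B) ⊔ I.map (algebraMap R B))
    (𝔞 : Ideal B) (h𝔞J : 𝔞 ≤ RingHom.ker ρ)
    (hsurj : ∀ x ∈ RingHom.ker ρ, ∃ a ∈ 𝔞, x - a ∈ (RingHom.ker ρ) ^ 2 ⊔ I.map (algebraMap R B))
    (hloc : ∀ x₀ : PrimeSpectrum A₀, SyntAt R (B ⧸ 𝔞)
      (PrimeSpectrum.comap (Ideal.Quotient.liftₐ 𝔞 ρ (fun x hx => h𝔞J hx)).toRingHom x₀)) :
    ∃ (A : Type u) (_ : CommRing A) (_ : Algebra R A), Synt.IsSyntomic R A ∧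
      Nonempty ((A ⧸ I.map (algebraMap R A)) ≃ₐ[R ⧸ I] A₀) := by
  obtain ⟨g₂, hg₂, hg₂J⟩ := exists_nakayama I ρ hfg 𝔞 h𝔞J hsurj
  set ρb : (B ⧸ 𝔞) →ₐ[R] A₀ := Ideal.Quotient.liftₐ 𝔞 ρ (fun x hx => h𝔞J hx) with hρb
  have hρbsurj : Function.Surjective ρb.toRingHom := fun a => by
    obtain ⟨b, rfl⟩ := hρ a
    exact ⟨Ideal.Quotient.mk 𝔞 b, rfl⟩
  have hall : ∀ x : PrimeSpectrum (B ⧸ 𝔞), RingHom.ker ρb.toRingHom ≤ x.asIdeal →
      SyntAt R (B ⧸ 𝔞) x := by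
    intro x hx
    have hxr : x ∈ Set.range (PrimeSpectrum.comap ρb.toRingHom) := by
      rw [range_comap_of_surjective _ _ hρbsurj]
      exact hx
    obtain ⟨x₀, rfl⟩ := hxr
    exact hloc x₀
  obtain ⟨gb, hgb, hsynt⟩ := exists_isSyntomic_away_of_syntAt (RingHom.ker ρb.toRingHom) hall
  obtain ⟨g₁, rfl⟩ := Ideal.Quotient.mk_surjective gb
  have hg₁ : g₁ - 1 ∈ RingHom.ker ρ := by
    rw [RingHom.mem_ker]
    have h1 : ρb.toRingHom (Ideal.Quotient.mk 𝔞 g₁ - 1) = 0 := hgb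
    rw [← map_one (Ideal.Quotient.mk 𝔞), ← map_sub] at h1
    exact h1
  obtain ⟨e₁, -⟩ := exists_quot_equiv I ρ hρ 𝔞 h𝔞J g₁ g₂ hg₁ hg₂ hg₂J
  refine ⟨Localization.Away (Ideal.Quotient.mk 𝔞 (g₁ * g₂)), inferInstance, inferInstance, ?_, ⟨e₁⟩⟩
  have h2 : Synt.IsSyntomic R (Localization.Away (algebraMap (B ⧸ 𝔞)
      (Localization.Away (Ideal.Quotient.mk 𝔞 g₁)) (Ideal.Quotient.mk 𝔞 g₂))) :=
    isSyntomic_away hsynt (algebraMap (B ⧸ 𝔞)
      (Localization.Away (Ideal.Quotient.mk 𝔞 g₁)) (Ideal.Quotient.mk 𝔞 g₂)) _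
  haveI : IsLocalization.Away (Ideal.Quotient.mk 𝔞 (g₁ * g₂)) (Localization.Away (algebraMap (B ⧸ 𝔞)
      (Localization.Away (Ideal.Quotient.mk 𝔞 g₁)) (Ideal.Quotient.mk 𝔞 g₂))) := by
    rw [map_mul]
    infer_instance
  let ε : Localization.Away (algebraMap (B ⧸ 𝔞)
      (Localization.Away (Ideal.Quotient.mk 𝔞 g₁)) (Ideal.Quotient.mk 𝔞 g₂)) ≃ₐ[B ⧸ 𝔞]
      Localization.Away (Ideal.Quotient.mk 𝔞 (g₁ * g₂)) :=
    IsLocalization.algEquiv (Submonoid.powers (Ideal.Quotient.mk 𝔞 (g₁ * g₂))) _ _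
  exact isSyntomic_of_algEquiv R _ _ (ε.restrictScalars R) h2

end Data

end Groth.Agent.Helper3.SyntLift
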