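import Mathlib
import Groth.Agent.Helper3.SyntLift2
import Groth.Agent.Helper3.EtProj
set_option autoImplicit false
set_option linter.style.haveILetI false
set_option linter.unusedSectionVars false
set_option linter.unusedVariables false
set_option linter.deprecated false
set_option linter.style.haveILetI false
set_option linter.unusedSectionVars false
set_option linter.unusedVariables false
universe u v

namespace Groth.Agent.Helper3.SyntLift

open CategoryTheory AlgebraicGeometry TensorProduct

section LocalGen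

variable {B : Type u} [CommRing B] {P : Type v} [AddCommGroup P] [Module B P] [Module.Finite B P]

/-- a finite module is generated near `q` by `dim_{κ(q)} (κ(q) ⊗ P)` elements -/
theorem exists_local_generators (q : PrimeSpectrum B) :
    ∃ (c : ℕ) (p : Fin c → P) (f : B),
      c = Module.finrank q.asIdeal.ResidueField (q.asIdeal.ResidueField ⊗[B] P) ∧
      f ∉ q.asIdeal ∧ ∀ y : P, f • y ∈ Submodule.span B (Set.range p) := by
  classical
  let k := q.asIdeal.ResidueField
  let s : Set (k ⊗[B] P) := Set.range (fun y : P => (1 : k) ⊗ₜ[B] y)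
  have hs : Submodule.span k s = ⊤ := by
    rw [eq_top_iff]
    intro v _
    clear * - v
    induction v using TensorProduct.induction_on with
    | zero => exact Submodule.zero_mem _
    | tmul a y =>
      have : a ⊗ₜ[B] y = a • ((1 : k) ⊗ₜ[B] y) := by
        rw [TensorProduct.smul_tmul', smul_eq_mul, mul_one]
      rw [this]
      exact Submodule.smul_mem _ _ (Submodule.subset_span ⟨y, rfl⟩)
    | add v w hv hw => exact Submodule.add_mem _ hv hw
  obtain ⟨f₀, hf₀s, hf₀span, -⟩ := Submodule.exists_fun_fin_finrank_span_eq k s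
  choose p hp using hf₀s
  have hc : Module.finrank k (Submodule.span k s) = Module.finrank k (k ⊗[B] P) := by
    rw [hs, finrank_top]
  refine ⟨_, p, ?_⟩
  let W : Submodule B P := Submodule.span B (Set.range p)
  have hzero : LinearMap.baseChange k W.mkQ = 0 := by
    apply LinearMap.ext_on_range (v := f₀)
    · rw [hf₀span, hs]
    · intro i
      rw [← hp i, LinearMap.baseChange_tmul, LinearMap.zero_apply]
      have : W.mkQ (p i) = 0 := (Submodule.Quotient.mk_eq_zero W).2 (Submodule.subset_span ⟨i, rfl⟩)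
      rw [this, TensorProduct.tmul_zero]
  have hsurj : Function.Surjective (LinearMap.baseChange k W.mkQ) :=
    LinearMap.lTensor_surjective k (Submodule.mkQ_surjective W)
  haveI : Subsingleton (k ⊗[B] (P ⧸ W)) := by
    refine ⟨fun a b => ?_⟩
    obtain ⟨a', rfl⟩ := hsurj a
    obtain ⟨b', rfl⟩ := hsurj b
    rw [hzero]
    rfl
  have hsupp : q ∉ Module.support B (P ⧸ W) := by
    rw [Module.mem_support_iff_nontrivial_residueField_tensorProduct]
    exact not_nontrivial _
  rw [Module.support_eq_zeroLocus, PrimeSpectrum.mem_zeroLocus] at hsupp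
  obtain ⟨f, hfann, hfq⟩ := Set.not_subset.1 hsupp
  refine ⟨f, hc, hfq, fun y => ?_⟩
  have h1 := Module.mem_annihilator.1 hfann (W.mkQ y)
  rw [← map_smul, Submodule.mkQ_apply, Submodule.Quotient.mk_eq_zero] at h1
  exact h1

end LocalGen

section RankEq

/-- the fibre ranks of two retracts cut out by matching idempotent matrices agree -/
theorem finrank_retract_eq {B A₀ k : Type u} [CommRing B] [CommRing A₀] [Field k] [Algebra B k]
    [Algebra A₀ k] (ρ : B →+* A₀) (hcomp : (algebraMap A₀ k).comp ρ = algebraMap B k)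
    (m : ℕ) (E : Matrix (Fin m) (Fin m) B) (hEE : E * E = E)
    {N : Type u} [AddCommGroup N] [Module A₀ N]
    (f : N →ₗ[A₀] (Fin m → A₀)) (g : (Fin m → A₀) →ₗ[A₀] N) (hgf : g ∘ₗ f = LinearMap.id)
    (hfg : f ∘ₗ g = Matrix.toLin' (E.map ρ)) :
    Module.finrank k (k ⊗[B] LinearMap.range (Matrix.toLin' E)) =
      Module.finrank k (k ⊗[A₀] N) := by
  let P' : Submodule B (Fin m → B) := LinearMap.range (Matrix.toLin' E)
  let incl : P' →ₗ[B] (Fin m → B) := P'.subtype
  let proj : (Fin m → B) →ₗ[B] P' := (Matrix.toLin' E).codRestrict P' (fun v => ⟨v, rfl⟩)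
  have hip : incl ∘ₗ proj = Matrix.toLin' E := by
    ext v : 1
    rfl
  have hpi : proj ∘ₗ incl = LinearMap.id := by
    ext ⟨x, v, rfl⟩ : 1
    apply Subtype.ext
    change Matrix.toLin' E (Matrix.toLin' E v) = Matrix.toLin' E v
    rw [← LinearMap.comp_apply, ← Matrix.toLin'_mul, hEE]
  obtain ⟨i₁, p₁, h₁, h₁'⟩ := Groth.Agent.Helper3.EtProj.baseChange_retract k m E incl proj hpi hip
  obtain ⟨i₂, p₂, h₂, h₂'⟩ :=
    Groth.Agent.Helper3.EtProj.baseChange_retract k m (E.map ρ) f g hgf hfg
  have hmat : (E.map ρ).map (algebraMap A₀ k) = E.map (algebraMap B k) := by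
    ext i j
    rw [Matrix.map_apply, Matrix.map_apply, Matrix.map_apply, ← hcomp]
    rfl
  obtain ⟨e⟩ := Groth.Agent.Helper3.HensProj.retract_equiv i₁ p₁ h₁ i₂ p₂ h₂
    (by rw [h₁', h₂', hmat])
  exact e.finrank_eq

end RankEq

section EtDim

open MvPolynomial

variable (R : Type u) [CommRing R] (n : ℕ)

theorem span_elim0 :
    Ideal.span (Set.range (Fin.elim0 : Fin 0 → MvPolynomial (Fin n) R)) = ⊥ := by
  rw [Ideal.span_eq_bot]
  rintro _ ⟨i, -⟩
  exact i.elim0

/-- the polynomial ring as a relative global complete intersection with no relations -/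
noncomputable def polyEquiv :
    Synt.RelGCIRing R n 0 (Fin.elim0 : Fin 0 → MvPolynomial (Fin n) R) ≃ₐ[R]
      MvPolynomial (Fin n) R :=
  (Ideal.quotientEquivAlgOfEq R (span_elim0 R n)).trans (AlgEquiv.quotientBot R _)

theorem isRelGCI_zero :
    Synt.IsRelGCI R n 0 (Fin.elim0 : Fin 0 → MvPolynomial (Fin n) R) := by
  intro p hnt
  refine ⟨Nat.zero_le n, ?_⟩
  let κ := p.asIdeal.ResidueField
  let e1 : κ ⊗[R] Synt.RelGCIRing R n 0 (Fin.elim0 : Fin 0 → MvPolynomial (Fin n) R) ≃ₐ[κ]
      κ ⊗[R] MvPolynomial (Fin n) R :=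
    Algebra.TensorProduct.congr (AlgEquiv.refl : κ ≃ₐ[κ] κ) (polyEquiv R n)
  let e2 : κ ⊗[R] MvPolynomial (Fin n) R ≃ₐ[κ] MvPolynomial (Fin n) κ :=
    MvPolynomial.algebraTensorAlgEquiv R κ
  show ringKrullDim (κ ⊗[R] Synt.RelGCIRing R n 0
    (Fin.elim0 : Fin 0 → MvPolynomial (Fin n) R)) = _
  rw [ringKrullDim_eq_of_ringEquiv (e1.trans e2).toRingEquiv,
    Groth.Agent.Helper5.DimBC.dim_mvPolynomial]
  rfl

theorem fibreDimAt_mvPolynomial (z : PrimeSpectrum (MvPolynomial (Fin n) R)) :
    FlatMor.fibreDimAt (Spec.map (CommRingCat.ofHom (algebraMap R (MvPolynomial (Fin n) R)))) z =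
      (n : WithBot ℕ∞) := by
  rw [Groth.Agent.Helper3.SyntCot.fibreDimAt_algEquiv (polyEquiv R n).symm z,
    Groth.Agent.Helper5.SyntDim.s9366 R n 0 _ (isRelGCI_zero R n)]
  rfl

/-- an étale algebra over a polynomial ring in `n` variables has local fibre dimension `n` -/
theorem fibreDimAt_etale_mvPolynomial (B' : Type u) [CommRing B'] [Algebra R B']
    [Algebra (MvPolynomial (Fin n) R) B'] [IsScalarTower R (MvPolynomial (Fin n) R) B']
    [Algebra.Etale (MvPolynomial (Fin n) R) B'] (y : PrimeSpectrum B') :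
    FlatMor.fibreDimAt (Spec.map (CommRingCat.ofHom (algebraMap R B'))) y = (n : WithBot ℕ∞) := by
  have h1 : Spec.map (CommRingCat.ofHom (algebraMap R B')) =
      Spec.map (CommRingCat.ofHom (algebraMap (MvPolynomial (Fin n) R) B')) ≫
        Spec.map (CommRingCat.ofHom (algebraMap R (MvPolynomial (Fin n) R))) := by
    rw [← Spec.map_comp, ← CommRingCat.ofHom_comp, ← IsScalarTower.algebraMap_eq]
  haveI : Etale (Spec.map (CommRingCat.ofHom (algebraMap (MvPolynomial (Fin n) R) B'))) := by
    rw [HasRingHomProperty.Spec_iff (P := @Etale)]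
    exact RingHom.etale_algebraMap.2 inferInstance
  rw [h1, Groth.Agent.Helper5.EtFib.fibreDimAt_etale_comp]
  exact fibreDimAt_mvPolynomial R n _

end EtDim

end Groth.Agent.Helper3.SyntLift
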