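import Mathlib
import Groth.Agent.Helper3.SyntLift3
set_option autoImplicit false
set_option linter.style.haveILetI false
set_option linter.unusedSectionVars false
set_option linter.unusedVariables false
set_option linter.deprecated false
set_option linter.style.haveILetI false
set_option linter.unusedSectionVars false
set_option linter.unusedVariables false
universe u v

namespace Groth.Agent.Helper3.SyntLift

open CategoryTheory AlgebraicGeometry TensorProduct Groth.Agent.Helper3.SyntLoc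

section Cut

variable {R B : Type u} [CommRing R] [CommRing B] [Algebra R B]

theorem syntAt_quotient_of_isStandardSmooth' [Algebra.IsStandardSmooth R B] (𝔟 : Ideal B)
    (c : ℕ) (t : Fin c → B) (h𝔟 : 𝔟 = Ideal.span (Set.range t))
    (N : ℕ) (hcN : c ≤ N) (x : PrimeSpectrum (B ⧸ 𝔟))
    (hN : FlatMor.fibreDimAt (Spec.map (CommRingCat.ofHom (algebraMap R B)))
      (PrimeSpectrum.comap (Ideal.Quotient.mk 𝔟) x) = (N : WithBot ℕ∞))
    (hx : FlatMor.fibreDimAt (Spec.map (CommRingCat.ofHom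
      (algebraMap R (B ⧸ 𝔟)))) x ≤ ((N - c : ℕ) : WithBot ℕ∞)) :
    SyntAt R (B ⧸ 𝔟) x := by
  subst h𝔟
  exact syntAt_quotient_of_isStandardSmooth R B c t N hcN x hN hx

/-- **cutting a smooth algebra**: `B` smooth over `R` with all local fibre dimensions `N`; `𝔞` an
ideal generated near `x` by `c` elements; if the local fibre dimension of `B/𝔞` at `x` is at most
`N - c`, then `B/𝔞` is syntomic over `R` near `x`. -/
theorem syntAt_cut [Algebra.Smooth R B] (𝔞 : Ideal B) (N c : ℕ) (hcN : c ≤ N)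
    (t : Fin c → B) (ht : ∀ i, t i ∈ 𝔞) (f : B)
    (hf : ∀ a ∈ 𝔞, f * a ∈ Ideal.span (Set.range t))
    (x : PrimeSpectrum (B ⧸ 𝔞)) (hfx : Ideal.Quotient.mk 𝔞 f ∉ x.asIdeal)
    (hN : ∀ y : PrimeSpectrum B,
      FlatMor.fibreDimAt (Spec.map (CommRingCat.ofHom (algebraMap R B))) y = (N : WithBot ℕ∞))
    (hx : FlatMor.fibreDimAt (Spec.map (CommRingCat.ofHom (algebraMap R (B ⧸ 𝔞)))) x ≤
      ((N - c : ℕ) : WithBot ℕ∞)) :
    SyntAt R (B ⧸ 𝔞) x := by
  let q : PrimeSpectrum B := PrimeSpectrum.comap (Ideal.Quotient.mk 𝔞) x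
  haveI : Algebra.FinitePresentation R B := Algebra.Smooth.finitePresentation
  haveI : Algebra.IsSmoothAt R q.asIdeal := inferInstance
  obtain ⟨f₁, hf₁, hstd⟩ := Algebra.IsSmoothAt.exists_notMem_isStandardSmooth R q.asIdeal
  let L := Localization.Away (algebraMap B (Localization.Away f₁) f)
  haveI : Algebra.IsStandardSmooth (Localization.Away f₁) L :=
    Algebra.IsStandardSmooth.localization_away (algebraMap B (Localization.Away f₁) f)
  haveI : Algebra.IsStandardSmooth R L := Algebra.IsStandardSmooth.trans R (Localization.Away f₁) L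
  haveI hLaway : IsLocalization.Away (f₁ * f) L := inferInstance
  let 𝔟 : Ideal L := 𝔞.map (algebraMap B L)
  let t' : Fin c → L := fun i => algebraMap B L (t i)
  have hfu : IsUnit (algebraMap B L f) := by
    have h1 : IsUnit (algebraMap B L (f₁ * f)) := IsLocalization.Away.algebraMap_isUnit (f₁ * f)
    rw [map_mul] at h1
    exact isUnit_of_mul_isUnit_right h1
  have h𝔟 : 𝔟 = Ideal.span (Set.range t') := by
    apply le_antisymm
    · rw [Ideal.map_le_iff_le_comap]
      intro a ha
      rw [Ideal.mem_comap]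
      have h1 : algebraMap B L (f * a) ∈ Ideal.span (Set.range t') := by
        have : Ideal.span (Set.range t') = (Ideal.span (Set.range t)).map (algebraMap B L) := by
          rw [Ideal.map_span, ← Set.range_comp]
          rfl
        rw [this]
        exact Ideal.mem_map_of_mem _ (hf a ha)
      rw [map_mul] at h1
      obtain ⟨v, hv⟩ := hfu
      have h2 : algebraMap B L a = ↑v⁻¹ * (algebraMap B L f * algebraMap B L a) := by
        rw [← hv, ← mul_assoc, Units.inv_mul, one_mul]
      rw [h2]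
      exact Ideal.mul_mem_left _ _ h1
    · rw [Ideal.span_le]
      rintro _ ⟨i, rfl⟩
      exact Ideal.mem_map_of_mem _ (ht i)
  haveI hloc : IsLocalization.Away (Ideal.Quotient.mk 𝔞 (f₁ * f)) (L ⧸ 𝔟) := by
    have h1 : IsLocalization (Algebra.algebraMapSubmonoid (B ⧸ 𝔞) (Submonoid.powers (f₁ * f)))
        (L ⧸ 𝔞.map (algebraMap B L)) := inferInstance
    have h2 : Algebra.algebraMapSubmonoid (B ⧸ 𝔞) (Submonoid.powers (f₁ * f)) =
        Submonoid.powers (Ideal.Quotient.mk 𝔞 (f₁ * f)) := by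
      unfold Algebra.algebraMapSubmonoid
      rw [Submonoid.map_powers]
      rfl
    rw [h2] at h1
    exact h1
  haveI : IsScalarTower R (B ⧸ 𝔞) (L ⧸ 𝔟) := IsScalarTower.of_algebraMap_eq fun r => by
    show Ideal.Quotient.mk 𝔟 (algebraMap R L r) =
      Ideal.Quotient.mk 𝔟 (algebraMap B L (algebraMap R B r))
    rw [← IsScalarTower.algebraMap_apply R B L]
  have hmem : x ∈ Set.range (PrimeSpectrum.comap (algebraMap (B ⧸ 𝔞) (L ⧸ 𝔟))) := by
    rw [PrimeSpectrum.localization_away_comap_range (L ⧸ 𝔟) (Ideal.Quotient.mk 𝔞 (f₁ * f))]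
    show Ideal.Quotient.mk 𝔞 (f₁ * f) ∉ x.asIdeal
    rw [map_mul]
    intro hm
    rcases x.isPrime.mem_or_mem hm with h | h
    · exact hf₁ h
    · exact hfx h
  obtain ⟨x', rfl⟩ := hmem
  have h3 := fibreDimAt_of_isLocalizationAway (R := R) (Ideal.Quotient.mk 𝔞 (f₁ * f)) (L ⧸ 𝔟) x'
  have h4 := fibreDimAt_of_isLocalizationAway (R := R) (f₁ * f) L
    (PrimeSpectrum.comap (Ideal.Quotient.mk 𝔟) x')
  rw [hN] at h4
  rw [← h3] at hx
  have h5 := syntAt_quotient_of_isStandardSmooth' 𝔟 c t' h𝔟 N hcN x' h4 hx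
  exact syntAt_of_away (Ideal.Quotient.mk 𝔞 (f₁ * f)) (L ⧸ 𝔟) x' h5

end Cut

end Groth.Agent.Helper3.SyntLift
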