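import Mathlib
import Groth.Agent.Helper5.RelGCI5
import Groth.Agent.Helper3.SyntLoc1
import Groth.Agent.Helper3.SyntCot5
import Groth.Agent.Helper3.SyntLift4

set_option autoImplicit false
set_option linter.style.haveILetI false
set_option linter.unusedSectionVars false
set_option linter.unusedVariables false
set_option linter.deprecated false
set_option linter.style.haveILetI false
set_option linter.unusedSectionVars false
set_option linter.unusedVariables false

universe u v w

/-!
# Local structure data of a syntomic presented algebra, and base change of the bad locus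
-/

namespace Groth.Agent.Helper3.SyntLim

open CategoryTheory AlgebraicGeometry TensorProduct MvPolynomial
open Groth.Agent.Helper5.RelGCI Groth.Agent.Helper3.SyntLoc Groth.Agent.Helper3.SyntCot
  Groth.Agent.Helper3.SyntLift

section Bad

variable (A : Type u) [CommRing A] (n c : ℕ) (G : Fin c → MvPolynomial (Fin n) A)
  (d : WithBot ℕ∞)

theorem badIdeal_le_comap_iff (z : PrimeSpectrum (Synt.RelGCIRing A n c G)) :
    badIdeal A n c G d ≤ z.asIdeal.comap (Ideal.Quotient.mk (Ideal.span (Set.range G))) ↔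
      ¬ FlatMor.fibreDimAt
        (Spec.map (CommRingCat.ofHom (algebraMap A (Synt.RelGCIRing A n c G)))) z ≤ d := by
  unfold badIdeal
  rw [Ideal.comap_le_comap_iff_of_surjective _ Ideal.Quotient.mk_surjective]
  have h1 : z ∈ PrimeSpectrum.zeroLocus
      ((PrimeSpectrum.vanishingIdeal (badSet A n c G d) : Ideal _) :
        Set (Synt.RelGCIRing A n c G)) ↔
      PrimeSpectrum.vanishingIdeal (badSet A n c G d) ≤ z.asIdeal := by
    rw [PrimeSpectrum.mem_zeroLocus, SetLike.coe_subset_coe]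
  rw [← h1, zeroLocus_vanishingIdeal_badSet]
  rfl

theorem map_badIdeal_le_comap_iff {B : Type u} [CommRing B] (φ : A →+* B)
    (z : PrimeSpectrum (Synt.RelGCIRing B n c (fun i => MvPolynomial.map φ (G i)))) :
    (badIdeal A n c G d).map (MvPolynomial.map φ) ≤
        z.asIdeal.comap (Ideal.Quotient.mk
          (Ideal.span (Set.range (fun i => MvPolynomial.map φ (G i))))) ↔
      ¬ FlatMor.fibreDimAt (Spec.map (CommRingCat.ofHom (algebraMap B
        (Synt.RelGCIRing B n c (fun i => MvPolynomial.map φ (G i)))))) z ≤ d := by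
  letI : Algebra A B := φ.toAlgebra
  have h1 := fibreDimAt_bc' A B n c G z
  have h2 := preimage_badSet A B n c G d
  have h3 := map_vanishingIdeal_bcHom A B n c G d
  have hmem : z ∈ (PrimeSpectrum.comap (bcHom A B n c G)) ⁻¹' (badSet A n c G d) ↔
      (badIdeal A n c G d).map (MvPolynomial.map (algebraMap A B)) ≤
        z.asIdeal.comap (Ideal.Quotient.mk
          (Ideal.span (Set.range (fun i => MvPolynomial.map (algebraMap A B) (G i))))) := by
    rw [h2, PrimeSpectrum.mem_zeroLocus, SetLike.coe_subset_coe, h3, Ideal.map_le_iff_le_comap]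
  constructor
  · intro hle
    have h4 : z ∈ (PrimeSpectrum.comap (bcHom A B n c G)) ⁻¹' (badSet A n c G d) := hmem.2 hle
    intro hcon
    apply h4
    rw [← h1]
    exact hcon
  · intro hz
    apply hmem.1
    intro hcon
    apply hz
    rw [h1]
    exact hcon

theorem map_badIdeal_le {B : Type u} [CommRing B] (φ : A →+* B) :
    (badIdeal A n c G d).map (MvPolynomial.map φ) ≤
      badIdeal B n c (fun i => MvPolynomial.map φ (G i)) d := by
  intro p hp
  unfold badIdeal
  rw [Ideal.mem_comap, PrimeSpectrum.mem_vanishingIdeal]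
  intro z hz
  have h1 := (map_badIdeal_le_comap_iff A n c G d φ z).2 hz
  exact h1 hp

end Bad

section Patch

variable {R S : Type u} [CommRing R] [CommRing S] [Algebra R S]

theorem isSyntomic_of_forall_syntAt (h : ∀ x : PrimeSpectrum S, SyntAt R S x) :
    Synt.IsSyntomic R S := by
  let s : Set S := {u | Synt.IsSyntomic R (Localization.Away u)}
  have hs : Ideal.span s = ⊤ := by
    by_contra hne
    obtain ⟨m, hm, hle⟩ := Ideal.exists_le_maximal _ hne
    obtain ⟨u, hu, hsynt⟩ := h ⟨m, hm.isPrime⟩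
    exact hu (hle (Ideal.subset_span hsynt))
  rw [← syntHom_algebraMap_iff]
  refine Groth.Agent.Helper5.SM.syntHom_propertyIsLocal.ofLocalizationSpanTarget (algebraMap R S) s hs ?_
  rintro ⟨u, hu⟩
  rw [← IsScalarTower.algebraMap_eq R S (Localization.Away u)]
  exact syntHom_algebraMap_iff.2 hu

end Patch

section CH

variable {P : Type u} [CommRing P]

/-- Cayley–Hamilton/Nakayama: if `f₀ I ⊆ (t) + I²` then `f₁ I ⊆ (t)` for some `f₁ ≡ f₀^N mod I`. -/
theorem exists_mul_mem_span_of_sq (I : Ideal P) (hI : I.FG) {c : ℕ} (t : Fin c → P)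
    (ht : ∀ a, t a ∈ I) (f₀ : P)
    (h : ∀ y ∈ I, f₀ * y ∈ Ideal.span (Set.range t) ⊔ I ^ 2) :
    ∃ (N : ℕ) (f₁ : P), f₁ - f₀ ^ N ∈ I ∧ ∀ y ∈ I, f₁ * y ∈ Ideal.span (Set.range t) := by
  classical
  set W : Ideal P := Ideal.span (Set.range t) with hW
  have hWI : W ≤ I := Ideal.span_le.2 (by rintro _ ⟨a, rfl⟩; exact ht a)
  let W' : Submodule P ↥I := Submodule.comap I.subtype W
  haveI : Module.Finite P ↥I := Module.Finite.iff_fg.2 hI
  let φ : Module.End P (↥I ⧸ W') := algebraMap P (Module.End P (↥I ⧸ W')) f₀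
  have hφ : ∀ m, φ m = f₀ • m := fun m => rfl
  have hsq : ∀ w ∈ I ^ 2, ∃ ω ∈ (I • (⊤ : Submodule P ↥I)), (ω : P) = w := by
    intro w hw
    have h1 : (I • (⊤ : Submodule P ↥I)).map I.subtype = I ^ 2 := by
      rw [Submodule.map_smul'', Submodule.map_top, Submodule.range_subtype, pow_two]
      rfl
    rw [← h1] at hw
    obtain ⟨ω, hω, rfl⟩ := hw
    exact ⟨ω, hω, rfl⟩
  have hrange : LinearMap.range φ ≤ I • (⊤ : Submodule P (↥I ⧸ W')) := by
    rintro _ ⟨m, rfl⟩
    obtain ⟨⟨y, hy⟩, rfl⟩ := Submodule.Quotient.mk_surjective W' m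
    rw [hφ]
    obtain ⟨s, hs, w, hw, hsw⟩ := Submodule.mem_sup.1 (h y hy)
    obtain ⟨ω, hω, rfl⟩ := hsq w hw
    have h2 : f₀ • (Submodule.Quotient.mk (⟨y, hy⟩ : ↥I) : ↥I ⧸ W') =
        Submodule.Quotient.mk ω := by
      rw [← Submodule.Quotient.mk_smul, Submodule.Quotient.eq]
      show ((f₀ • (⟨y, hy⟩ : ↥I) - ω : ↥I) : P) ∈ W
      have : ((f₀ • (⟨y, hy⟩ : ↥I) - ω : ↥I) : P) = s := by
        show f₀ * y - (ω : P) = s
        rw [← hsw]; ring
      rw [this]
      exact hs
    rw [h2]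
    have h3 : (I • (⊤ : Submodule P ↥I)).map W'.mkQ ≤ I • (⊤ : Submodule P (↥I ⧸ W')) := by
      rw [Submodule.map_smul'']
      exact Submodule.smul_mono le_rfl le_top
    exact h3 ⟨ω, hω, rfl⟩
  obtain ⟨p, hmonic, -, hcoeff, hp⟩ :=
    LinearMap.exists_monic_and_natDegree_eq_and_coeff_mem_pow_and_aeval_eq_zero P φ I hrange
  refine ⟨p.natDegree, p.eval f₀, ?_, ?_⟩
  · rw [Polynomial.eval_eq_sum_range, Finset.sum_range_succ, hmonic.coeff_natDegree, one_mul,
      add_sub_cancel_right]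
    refine Ideal.sum_mem _ fun i hi => Ideal.mul_mem_right _ _ ?_
    have hlt : i < p.natDegree := Finset.mem_range.1 hi
    exact Ideal.pow_le_self (by omega) (hcoeff i)
  · intro y hy
    have h1 : Polynomial.aeval φ p = algebraMap P (Module.End P (↥I ⧸ W')) (p.eval f₀) := by
      rw [Polynomial.aeval_algebraMap_apply, Polynomial.coe_aeval_eq_eval]
    rw [h1] at hp
    have h2 := LinearMap.congr_fun hp (Submodule.Quotient.mk (⟨y, hy⟩ : ↥I))
    rw [Module.algebraMap_end_apply, LinearMap.zero_apply, ← Submodule.Quotient.mk_smul,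
      Submodule.Quotient.mk_eq_zero] at h2
    exact h2

end CH

section Top

variable (T : Type u) [CommRing T] (n m : ℕ) (F : Fin m → MvPolynomial (Fin n) T)

theorem exists_local_data (h : Synt.IsSyntomic T (Synt.RelGCIRing T n m F))
    (x : PrimeSpectrum (Synt.RelGCIRing T n m F)) :
    ∃ (c : ℕ) (t : Fin c → MvPolynomial (Fin n) T) (f : MvPolynomial (Fin n) T), c ≤ n ∧
      (∀ a, t a ∈ Ideal.span (Set.range F)) ∧
      (∀ y ∈ Ideal.span (Set.range F), f * y ∈ Ideal.span (Set.range t)) ∧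
      Ideal.Quotient.mk (Ideal.span (Set.range F)) f ∉ x.asIdeal ∧
      ∀ z : PrimeSpectrum (Synt.RelGCIRing T n m F),
        Ideal.Quotient.mk (Ideal.span (Set.range F)) f ∉ z.asIdeal →
        FlatMor.fibreDimAt (Spec.map (CommRingCat.ofHom
          (algebraMap T (Synt.RelGCIRing T n m F)))) z ≤ ((n - c : ℕ) : WithBot ℕ∞) := by
  classical
  set I : Ideal (MvPolynomial (Fin n) T) := Ideal.span (Set.range F) with hI
  have hIfg : I.FG := ⟨Finset.univ.image F, by rw [Finset.coe_image, Finset.coe_univ, Set.image_univ]⟩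
  haveI hfinI : Module.Finite (MvPolynomial (Fin n) T ⧸ I) I.Cotangent := by
    haveI : Module.Finite (MvPolynomial (Fin n) T) I := Module.Finite.iff_fg.mpr hIfg
    haveI : Module.Finite (MvPolynomial (Fin n) T) I.Cotangent :=
      Module.Finite.of_surjective I.toCotangent I.toCotangent_surjective
    exact Module.Finite.of_restrictScalars_finite (MvPolynomial (Fin n) T) _ _
  haveI hfinG : Module.Finite (MvPolynomial (Fin n) T ⧸ I) (quotGen I).toExtension.Cotangent :=
    Module.Finite.equiv (cotEquiv I)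
  let κ := x.asIdeal.ResidueField
  obtain ⟨c, p, fbar, hc, hfx, hgen⟩ := exists_local_generators (P := I.Cotangent) x
  have hrank := fibreDimAt_of_rank h (quotGen I) κ x (Ideal.ker_algebraMap_residueField _)
  have hfr : Module.finrank κ (κ ⊗[MvPolynomial (Fin n) T ⧸ I] I.Cotangent) =
      Module.finrank κ (κ ⊗[MvPolynomial (Fin n) T ⧸ I] (quotGen I).toExtension.Cotangent) :=
    (bcEquiv κ (cotEquiv I)).finrank_eq
  rw [← hfr, ← hc, Fintype.card_fin] at hrank
  obtain ⟨hcn, hdimx⟩ := hrank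
  choose t' ht' using fun a => Ideal.toCotangent_surjective I (p a)
  obtain ⟨f₀, rfl⟩ := Ideal.Quotient.mk_surjective fbar
  let t : Fin c → MvPolynomial (Fin n) T := fun a => (t' a : MvPolynomial (Fin n) T)
  have htI : ∀ a, t a ∈ I := fun a => (t' a).2
  have hkey : ∀ y ∈ I, f₀ * y ∈ Ideal.span (Set.range t) ⊔ I ^ 2 := by
    intro y hy
    have h1 := hgen (I.toCotangent ⟨y, hy⟩)
    obtain ⟨cf, hcf⟩ := (Submodule.mem_span_range_iff_exists_fun _).1 h1
    choose v hv using fun a => Ideal.Quotient.mk_surjective (cf a)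
    have h2 : I.toCotangent (f₀ • (⟨y, hy⟩ : ↥I)) = I.toCotangent (∑ a, v a • t' a) := by
      rw [map_smul, map_sum]
      rw [← Ideal.Quotient.algebraMap_eq, algebraMap_smul] at hcf
      rw [← hcf]
      refine Finset.sum_congr rfl fun a _ => ?_
      rw [map_smul, ht', ← hv a, ← Ideal.Quotient.algebraMap_eq, algebraMap_smul]
    rw [Ideal.toCotangent_eq] at h2
    have h3 : f₀ * y = ∑ a, v a * t a + (f₀ * y - ∑ a, v a * t a) := by ring
    rw [h3]
    refine Ideal.add_mem _ (Ideal.mem_sup_left (Ideal.sum_mem _ fun a _ =>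
      Ideal.mul_mem_left _ _ (Ideal.subset_span ⟨a, rfl⟩))) (Ideal.mem_sup_right ?_)
    convert h2 using 1
    simp [t, Submodule.coe_sum]
  obtain ⟨N, f₁, hf₁, hf₁I⟩ := exists_mul_mem_span_of_sq I hIfg t htI f₀ hkey
  -- openness of the fibre dimension bound
  set d : WithBot ℕ∞ := ((n - c : ℕ) : WithBot ℕ∞) with hd
  have hxbad : x ∉ badSet T n m F d := fun hcon => hcon (le_of_eq hdimx)
  rw [← zeroLocus_vanishingIdeal_badSet, PrimeSpectrum.mem_zeroLocus, Set.not_subset] at hxbad
  obtain ⟨bbar, hbV, hbx⟩ := hxbad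
  obtain ⟨b, rfl⟩ := Ideal.Quotient.mk_surjective bbar
  have hmkf₁ : Ideal.Quotient.mk I f₁ = Ideal.Quotient.mk I f₀ ^ N := by
    rw [← map_pow, Ideal.Quotient.eq]
    exact hf₁
  refine ⟨c, t, f₁ * b, hcn, htI, ?_, ?_, ?_⟩
  · intro y hy
    rw [mul_comm f₁ b, mul_assoc]
    exact Ideal.mul_mem_left _ _ (hf₁I y hy)
  · rw [map_mul, hmkf₁]
    intro hcon
    rcases x.isPrime.mem_or_mem hcon with h1 | h1
    · exact hfx (x.isPrime.mem_of_pow_mem N h1)
    · exact hbx h1
  · intro z hz
    by_contra hcon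
    have hzbad : z ∈ badSet T n m F d := hcon
    rw [← zeroLocus_vanishingIdeal_badSet, PrimeSpectrum.mem_zeroLocus] at hzbad
    apply hz
    rw [map_mul]
    exact Ideal.mul_mem_left _ _ (hzbad hbV)

theorem exists_top_data (h : Synt.IsSyntomic T (Synt.RelGCIRing T n m F)) :
    ∃ (κ : Type u) (_ : Fintype κ) (c : κ → ℕ)
      (t : ∀ k, Fin (c k) → MvPolynomial (Fin n) T) (f : κ → MvPolynomial (Fin n) T),
      (∀ k, c k ≤ n) ∧ (∀ k a, t k a ∈ Ideal.span (Set.range F)) ∧
      (∀ k j, f k * F j ∈ Ideal.span (Set.range (t k))) ∧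
      (1 : MvPolynomial (Fin n) T) ∈ Ideal.span (Set.range F) ⊔ Ideal.span (Set.range f) ∧
      (∀ k (z : PrimeSpectrum (Synt.RelGCIRing T n m F)),
        Ideal.Quotient.mk (Ideal.span (Set.range F)) (f k) ∉ z.asIdeal →
        FlatMor.fibreDimAt (Spec.map (CommRingCat.ofHom
          (algebraMap T (Synt.RelGCIRing T n m F)))) z ≤ ((n - c k : ℕ) : WithBot ℕ∞)) := by
  classical
  choose c t f hcn htI hfI hfx hdim using exists_local_data T n m F h
  set I : Ideal (MvPolynomial (Fin n) T) := Ideal.span (Set.range F) with hI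
  have hspan : Ideal.span (Set.range (fun x => Ideal.Quotient.mk I (f x))) = ⊤ := by
    by_contra hne
    obtain ⟨𝔪, hm, hle⟩ := Ideal.exists_le_maximal _ hne
    exact hfx ⟨𝔪, hm.isPrime⟩ (hle (Ideal.subset_span ⟨⟨𝔪, hm.isPrime⟩, rfl⟩))
  have h1 : (1 : MvPolynomial (Fin n) T ⧸ I) ∈
      Ideal.span (Set.range (fun x => Ideal.Quotient.mk I (f x))) := by
    rw [hspan]; trivial
  obtain ⟨cf, hcf⟩ := Finsupp.mem_span_range_iff_exists_finsupp.1 h1
  choose u hu using fun x => Ideal.Quotient.mk_surjective (cf x)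
  refine ⟨↥cf.support, inferInstance, fun k => c k, fun k => t k, fun k => f k,
    fun k => hcn k, fun k a => htI k a, fun k j => hfI k _ (Ideal.subset_span ⟨j, rfl⟩), ?_,
    fun k z hz => hdim k z hz⟩
  have h2 : Ideal.Quotient.mk I (1 - ∑ k : ↥cf.support, u k * f k) = 0 := by
    rw [map_sub, map_one, map_sum, sub_eq_zero, ← hcf, Finsupp.sum, ← Finset.sum_coe_sort]
    refine Finset.sum_congr rfl fun k _ => ?_
    rw [map_mul, hu, smul_eq_mul]
  rw [Ideal.Quotient.eq_zero_iff_mem] at h2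
  have h3 : (1 : MvPolynomial (Fin n) T) =
      (1 - ∑ k : ↥cf.support, u k * f k) + ∑ k : ↥cf.support, u k * f k := by ring
  rw [h3]
  exact Ideal.add_mem _ (Ideal.mem_sup_left h2) (Ideal.mem_sup_right (Ideal.sum_mem _ fun k _ =>
    Ideal.mul_mem_left _ _ (Ideal.subset_span ⟨k, rfl⟩)))

end Top

end Groth.Agent.Helper3.SyntLim
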