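import Mathlib
import Groth.Agent.Helper3.SyntLim1
import Groth.Agent.Helper3.SyntLim2
import Groth.Agent.Helper3.SyntLim3
import Groth.Agent.Helper5.SM5

set_option autoImplicit false
set_option linter.style.haveILetI false
set_option linter.unusedSectionVars false
set_option linter.unusedVariables false
set_option linter.deprecated false
set_option linter.style.haveILetI false
set_option linter.unusedSectionVars false
set_option linter.unusedVariables false

universe u v w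

/-!
# Syntomicity of a finitely presented base change descends to a finite level of a filtered colimit
-/

namespace Groth.Agent.Helper3.SyntLim

open CategoryTheory AlgebraicGeometry TensorProduct MvPolynomial
open Groth.Agent.Helper5.RelGCI Groth.Agent.Helper3.SyntLoc Groth.Agent.Helper3.SyntCot
  Groth.Agent.Helper3.SyntLift

section Bad2

variable {A B : Type u} [CommRing A] [CommRing B] (φ : A →+* B) (n m : ℕ)
  (G : Fin m → MvPolynomial (Fin n) A) (G' : Fin m → MvPolynomial (Fin n) B)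
  (hG : ∀ l, MvPolynomial.map φ (G l) = G' l) (d : WithBot ℕ∞)
include hG

theorem map_badIdeal_le' :
    (badIdeal A n m G d).map (MvPolynomial.map φ) ≤ badIdeal B n m G' d := by
  obtain rfl : G' = fun l => MvPolynomial.map φ (G l) := (funext hG).symm
  exact map_badIdeal_le A n m G d φ

theorem span_le_badIdeal : Ideal.span (Set.range G) ≤ badIdeal A n m G d := by
  intro y hy
  unfold badIdeal
  rw [Ideal.mem_comap, Ideal.Quotient.eq_zero_iff_mem.2 hy]
  exact Ideal.zero_mem _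

theorem mem_radical_map_badIdeal (f : MvPolynomial (Fin n) B)
    (hf : ∀ z : PrimeSpectrum (Synt.RelGCIRing B n m G'),
      Ideal.Quotient.mk (Ideal.span (Set.range G')) f ∉ z.asIdeal →
      FlatMor.fibreDimAt (Spec.map (CommRingCat.ofHom
        (algebraMap B (Synt.RelGCIRing B n m G')))) z ≤ d) :
    f ∈ ((badIdeal A n m G d).map (MvPolynomial.map φ)).radical := by
  obtain rfl : G' = fun l => MvPolynomial.map φ (G l) := (funext hG).symm
  rw [Ideal.radical_eq_sInf, Ideal.mem_sInf]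
  rintro 𝔭 ⟨hle, hprime⟩
  set I' : Ideal (MvPolynomial (Fin n) B) :=
    Ideal.span (Set.range (fun l => MvPolynomial.map φ (G l))) with hI'
  have hI'le : I' ≤ 𝔭 := by
    refine le_trans ?_ hle
    rw [hI', Ideal.span_le]
    rintro _ ⟨l, rfl⟩
    exact Ideal.mem_map_of_mem _ (span_le_badIdeal φ n m G _ (fun _ => rfl) d
      (Ideal.subset_span ⟨l, rfl⟩))
  have hker : RingHom.ker (Ideal.Quotient.mk I') ≤ 𝔭 := by rw [Ideal.mk_ker]; exact hI'le
  haveI : (𝔭.map (Ideal.Quotient.mk I')).IsPrime :=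
    Ideal.map_isPrime_of_surjective Ideal.Quotient.mk_surjective hker
  let z : PrimeSpectrum (Synt.RelGCIRing B n m (fun l => MvPolynomial.map φ (G l))) :=
    ⟨𝔭.map (Ideal.Quotient.mk I'), inferInstance⟩
  have hz : z.asIdeal.comap (Ideal.Quotient.mk I') = 𝔭 := by
    show (𝔭.map (Ideal.Quotient.mk I')).comap (Ideal.Quotient.mk I') = 𝔭
    rw [Ideal.comap_map_of_surjective _ Ideal.Quotient.mk_surjective, ← RingHom.ker_eq_comap_bot]
    exact sup_eq_left.2 hker
  have h1 : ¬ FlatMor.fibreDimAt (Spec.map (CommRingCat.ofHom (algebraMap B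
      (Synt.RelGCIRing B n m (fun l => MvPolynomial.map φ (G l)))))) z ≤ d := by
    rw [← map_badIdeal_le_comap_iff A n m G d φ z, hz]
    exact hle
  by_contra hcon
  apply h1
  apply hf z
  intro hmem
  apply hcon
  rw [← hz]
  exact hmem

end Bad2

section Main

variable {k : Type u} [CommRing k] {ι : Type u} {R : ι → Type u} [∀ i, CommRing (R i)]
  [∀ i, Algebra k (R i)] {T : Type u} [CommRing T] [Algebra k T] {ψ : ∀ i, R i →ₐ[k] T}

/-- **descent of syntomicity to a finite level** for a presented algebra defined over the base. -/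
theorem main (hL : IsLim k R T ψ) (n m : ℕ) (F₀ : Fin m → MvPolynomial (Fin n) k)
    (h : Synt.IsSyntomic T (Synt.RelGCIRing T n m
      (fun j => MvPolynomial.map (algebraMap k T) (F₀ j)))) :
    ∃ i, Synt.IsSyntomic (R i) (Synt.RelGCIRing (R i) n m
      (fun j => MvPolynomial.map (algebraMap k (R i)) (F₀ j))) := by
  classical
  let FT : Fin m → MvPolynomial (Fin n) T := fun j => MvPolynomial.map (algebraMap k T) (F₀ j)
  let Fi : ∀ i, Fin m → MvPolynomial (Fin n) (R i) :=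
    fun i j => MvPolynomial.map (algebraMap k (R i)) (F₀ j)
  have hFψ : ∀ i j, MvPolynomial.map (ψ i : R i →+* T) (Fi i j) = FT j := by
    intro i j
    simp only [Fi, FT]
    rw [MvPolynomial.map_map]
    have h0 : (ψ i : R i →+* T).comp (algebraMap k (R i)) = algebraMap k T :=
      RingHom.ext fun x => (ψ i).commutes x
    rw [h0]
  have hFφ : ∀ {i j : ι} (a : Adm k R T ψ i j) (l : Fin m),
      MvPolynomial.map (a.φ : R i →+* R j) (Fi i l) = Fi j l := by
    intro i j a l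
    simp only [Fi]
    rw [MvPolynomial.map_map]
    have h0 : (a.φ : R i →+* R j).comp (algebraMap k (R i)) = algebraMap k (R j) :=
      RingHom.ext fun x => a.φ.commutes x
    rw [h0]
  have hIψ : ∀ i, (Ideal.span (Set.range (Fi i))).map (MvPolynomial.map (ψ i : R i →+* T)) =
      Ideal.span (Set.range FT) := by
    intro i
    rw [Ideal.map_span, ← Set.range_comp]
    congr 2
    exact funext (hFψ i)
  have hIφ : ∀ {i j : ι} (a : Adm k R T ψ i j),
      (Ideal.span (Set.range (Fi i))).map (MvPolynomial.map (a.φ : R i →+* R j)) =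
        Ideal.span (Set.range (Fi j)) := by
    intro i j a
    rw [Ideal.map_span, ← Set.range_comp]
    congr 2
    exact funext (hFφ a)
  obtain ⟨κ, _, c, t, f, hcn, htI, hfF, h1, hdim⟩ := exists_top_data T n m FT h
  obtain ⟨i₀⟩ := hL.nonempty
  -- lift the data
  obtain ⟨i₁, -, q, hq⟩ := hL.exists_lift_family (σ := Fin n) ((Σ k : κ, Fin (c k)) ⊕ κ)
    (Sum.elim (fun ka => t ka.1 ka.2) f) i₀
  let t₁ : ∀ k, Fin (c k) → MvPolynomial (Fin n) (R i₁) := fun k a => q (Sum.inl ⟨k, a⟩)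
  let f₁ : κ → MvPolynomial (Fin n) (R i₁) := fun k => q (Sum.inr k)
  have ht₁ : ∀ k a, MvPolynomial.map (ψ i₁ : R i₁ →+* T) (t₁ k a) = t k a :=
    fun k a => hq (Sum.inl ⟨k, a⟩)
  have hf₁ : ∀ k, MvPolynomial.map (ψ i₁ : R i₁ →+* T) (f₁ k) = f k := fun k => hq (Sum.inr k)
  have ht₁' : ∀ k, (MvPolynomial.map (ψ i₁ : R i₁ →+* T)) ∘ (t₁ k) = t k := fun k => funext (ht₁ k)
  have hf₁' : (MvPolynomial.map (ψ i₁ : R i₁ →+* T)) ∘ f₁ = f := funext hf₁
  let d : κ → WithBot ℕ∞ := fun k => ((n - c k : ℕ) : WithBot ℕ∞)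
  have hrad : ∀ k, ∃ N : ℕ, (f k) ^ N ∈
      (badIdeal (R i₁) n m (Fi i₁) (d k)).map (MvPolynomial.map (ψ i₁ : R i₁ →+* T)) := fun k =>
    Ideal.mem_radical_iff.1
      (mem_radical_map_badIdeal (ψ i₁ : R i₁ →+* T) n m (Fi i₁) FT (hFψ i₁) (d k) (f k) (hdim k))
  choose N hN using hrad
  -- the family of memberships
  let I₁ : Ideal (MvPolynomial (Fin n) (R i₁)) := Ideal.span (Set.range (Fi i₁))
  let p : ((Σ k : κ, Fin (c k)) ⊕ ((κ × Fin m) ⊕ (Unit ⊕ κ))) → MvPolynomial (Fin n) (R i₁) :=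
    Sum.elim (fun ka => t₁ ka.1 ka.2) (Sum.elim (fun kj => f₁ kj.1 * Fi i₁ kj.2)
      (Sum.elim (fun _ => 1) (fun k => f₁ k ^ N k)))
  let 𝔞 : ((Σ k : κ, Fin (c k)) ⊕ ((κ × Fin m) ⊕ (Unit ⊕ κ))) →
      Ideal (MvPolynomial (Fin n) (R i₁)) :=
    Sum.elim (fun _ => I₁) (Sum.elim (fun kj => Ideal.span (Set.range (t₁ kj.1)))
      (Sum.elim (fun _ => I₁ ⊔ Ideal.span (Set.range f₁))
        (fun k => badIdeal (R i₁) n m (Fi i₁) (d k))))
  have hp𝔞 : ∀ s, MvPolynomial.map (ψ i₁ : R i₁ →+* T) (p s) ∈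
      (𝔞 s).map (MvPolynomial.map (ψ i₁ : R i₁ →+* T)) := by
    rintro (⟨k, a⟩ | ⟨k, j⟩ | _ | k)
    · show MvPolynomial.map _ (t₁ k a) ∈ (Ideal.span (Set.range (Fi i₁))).map _
      rw [ht₁, hIψ]
      exact htI k a
    · show MvPolynomial.map _ (f₁ k * Fi i₁ j) ∈ (Ideal.span (Set.range (t₁ k))).map _
      rw [map_mul, hf₁, hFψ, Ideal.map_span, ← Set.range_comp, ht₁']
      exact hfF k j
    · show MvPolynomial.map _ 1 ∈
        (Ideal.span (Set.range (Fi i₁)) ⊔ Ideal.span (Set.range f₁)).map _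
      rw [map_one, Ideal.map_sup, hIψ, Ideal.map_span, ← Set.range_comp, hf₁']
      exact h1
    · show MvPolynomial.map _ (f₁ k ^ N k) ∈ (badIdeal (R i₁) n m (Fi i₁) (d k)).map _
      rw [map_pow, hf₁]
      exact hN k
  obtain ⟨j, a, ha⟩ := hL.exists_mem_map_family _ i₁ p 𝔞 hp𝔞
  refine ⟨j, isSyntomic_of_forall_syntAt fun z => ?_⟩
  let t₂ : ∀ k, Fin (c k) → MvPolynomial (Fin n) (R j) :=
    fun k b => MvPolynomial.map (a.φ : R i₁ →+* R j) (t₁ k b)
  let f₂ : κ → MvPolynomial (Fin n) (R j) := fun k => MvPolynomial.map (a.φ : R i₁ →+* R j) (f₁ k)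
  have e1 : ∀ k b, t₂ k b ∈ Ideal.span (Set.range (Fi j)) := by
    intro k b
    have h0 := ha (Sum.inl ⟨k, b⟩)
    have h0' : MvPolynomial.map (a.φ : R i₁ →+* R j) (t₁ k b) ∈
        (Ideal.span (Set.range (Fi i₁))).map (MvPolynomial.map (a.φ : R i₁ →+* R j)) := h0
    rwa [hIφ a] at h0'
  have e2 : ∀ k l, f₂ k * Fi j l ∈ Ideal.span (Set.range (t₂ k)) := by
    intro k l
    have h0 := ha (Sum.inr (Sum.inl (k, l)))
    have h0' : MvPolynomial.map (a.φ : R i₁ →+* R j) (f₁ k * Fi i₁ l) ∈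
        (Ideal.span (Set.range (t₁ k))).map (MvPolynomial.map (a.φ : R i₁ →+* R j)) := h0
    rw [map_mul, hFφ a, Ideal.map_span, ← Set.range_comp] at h0'
    exact h0'
  have e3 : (1 : MvPolynomial (Fin n) (R j)) ∈
      Ideal.span (Set.range (Fi j)) ⊔ Ideal.span (Set.range f₂) := by
    have h0 := ha (Sum.inr (Sum.inr (Sum.inl ())))
    have h0' : MvPolynomial.map (a.φ : R i₁ →+* R j) 1 ∈
        (Ideal.span (Set.range (Fi i₁)) ⊔ Ideal.span (Set.range f₁)).map
          (MvPolynomial.map (a.φ : R i₁ →+* R j)) := h0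
    rw [map_one, Ideal.map_sup, hIφ a, Ideal.map_span, ← Set.range_comp] at h0'
    exact h0'
  have e4 : ∀ k, f₂ k ^ N k ∈ badIdeal (R j) n m (Fi j) (d k) := by
    intro k
    have h0 := ha (Sum.inr (Sum.inr (Sum.inr k)))
    have h0' : MvPolynomial.map (a.φ : R i₁ →+* R j) (f₁ k ^ N k) ∈
        (badIdeal (R i₁) n m (Fi i₁) (d k)).map (MvPolynomial.map (a.φ : R i₁ →+* R j)) := h0
    rw [map_pow] at h0'
    exact map_badIdeal_le' (a.φ : R i₁ →+* R j) n m (Fi i₁) (Fi j) (hFφ a) (d k) h0'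
  have hex : ∃ k, Ideal.Quotient.mk (Ideal.span (Set.range (Fi j))) (f₂ k) ∉ z.asIdeal := by
    by_contra hall
    push Not at hall
    have hle : Ideal.span (Set.range (Fi j)) ⊔ Ideal.span (Set.range f₂) ≤
        z.asIdeal.comap (Ideal.Quotient.mk (Ideal.span (Set.range (Fi j)))) := by
      refine sup_le (fun y hy => ?_) (Ideal.span_le.2 ?_)
      · rw [Ideal.mem_comap, Ideal.Quotient.eq_zero_iff_mem.2 hy]
        exact Ideal.zero_mem _
      · rintro _ ⟨k, rfl⟩
        exact hall k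
    have h2 := hle e3
    rw [Ideal.mem_comap, map_one] at h2
    exact z.isPrime.ne_top ((Ideal.eq_top_iff_one _).2 h2)
  obtain ⟨k, hk⟩ := hex
  have hdimz : FlatMor.fibreDimAt (Spec.map (CommRingCat.ofHom
      (algebraMap (R j) (Synt.RelGCIRing (R j) n m (Fi j))))) z ≤ d k := by
    by_contra hcon
    have h2 := (badIdeal_le_comap_iff (R j) n m (Fi j) (d k) z).2 hcon
    have h5 := h2 (e4 k)
    rw [Ideal.mem_comap, map_pow] at h5
    exact hk (z.isPrime.mem_of_pow_mem _ h5)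
  haveI : Algebra.Smooth (R j) (MvPolynomial (Fin n) (R j)) := ⟨inferInstance, inferInstance⟩
  refine syntAt_cut (Ideal.span (Set.range (Fi j))) n (c k) (hcn k) (t₂ k) (e1 k) (f₂ k) ?_ z hk
    (fun y => fibreDimAt_mvPolynomial (R j) n y) hdimz
  intro y hy
  refine Submodule.span_induction ?_ ?_ ?_ ?_ hy
  · rintro _ ⟨l, rfl⟩
    exact e2 k l
  · rw [mul_zero]; exact Ideal.zero_mem _
  · intro y₁ y₂ _ _ h₁ h₂
    rw [mul_add]; exact Ideal.add_mem _ h₁ h₂
  · intro r y₁ _ h₁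
    rw [smul_eq_mul, mul_left_comm]
    exact Ideal.mul_mem_left _ _ h₁

end Main

section Final

/-- **S9423**: syntomicity of a finitely presented base change descends to a finite level of an
elementary filtered colimit. -/
theorem s9423 {ι : Type u} [Preorder ι] [IsDirected ι (· ≤ ·)] [Nonempty ι]
    (A₀ : Type u) [CommRing A₀] (G : ι → Type u) [∀ i, CommRing (G i)] [∀ i, Algebra A₀ (G i)]
    (f : ∀ i j, i ≤ j → (G i →ₐ[A₀] G j)) (A : Type u) [CommRing A] [Algebra A₀ A]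
    (g : ∀ i, G i →ₐ[A₀] A) (hg : ∀ i j (h : i ≤ j), (g j).comp (f i j h) = g i)
    (hsurj : ∀ a : A, ∃ i, ∃ x : G i, g i x = a)
    (hker : ∀ i (x : G i), g i x = 0 → ∃ j, ∃ h : i ≤ j, f i j h x = 0)
    (B₀ : Type u) [CommRing B₀] [Algebra A₀ B₀] (C₀ : Type u) [CommRing C₀] [Algebra A₀ C₀]
    [Algebra B₀ C₀] [IsScalarTower A₀ B₀ C₀] [Algebra.FinitePresentation B₀ C₀]
    (h : Synt.IsSyntomic (B₀ ⊗[A₀] A) ((B₀ ⊗[A₀] A) ⊗[B₀] C₀)) :
    ∃ i, Synt.IsSyntomic (B₀ ⊗[A₀] G i) ((B₀ ⊗[A₀] G i) ⊗[B₀] C₀) := by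
  classical
  have hLG : IsLim A₀ G A g :=
    { nonempty := inferInstance
      dir := fun i j => by
        obtain ⟨l, hil, hjl⟩ := directed_of (· ≤ ·) i j
        exact ⟨l, ⟨⟨f i l hil, hg i l hil⟩⟩, ⟨⟨f j l hjl, hg j l hjl⟩⟩⟩
      surj := hsurj
      ker := fun i x hx => by
        obtain ⟨j, hij, hx'⟩ := hker i x hx
        exact ⟨j, ⟨f i j hij, hg i j hij⟩, hx'⟩ }
  have hLR := IsLim.tensor hLG B₀
  obtain ⟨n, π, hπ, hfg⟩ := Algebra.FinitePresentation.out (R := B₀) (A := C₀)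
  obtain ⟨m, F₀, hF₀⟩ := (Submodule.fg_iff_exists_fin_generating_family).1 hfg
  have hF₀' : Ideal.span (Set.range F₀) = RingHom.ker π.toRingHom := hF₀
  let e₀ : C₀ ≃ₐ[B₀] Synt.RelGCIRing B₀ n m F₀ :=
    ((Ideal.quotientEquivAlgOfEq B₀ hF₀').trans (Ideal.quotientKerAlgEquivOfSurjective hπ)).symm
  have key : ∀ (R' : Type u) [CommRing R'] [Algebra B₀ R'],
      Nonempty ((R' ⊗[B₀] C₀) ≃ₐ[R'] Synt.RelGCIRing R' n m
        (fun j => MvPolynomial.map (algebraMap B₀ R') (F₀ j))) := by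
    intro R' _ _
    exact ⟨(Algebra.TensorProduct.congr (AlgEquiv.refl : R' ≃ₐ[R'] R') e₀).trans
      (tensorEquiv B₀ R' n m F₀)⟩
  obtain ⟨eT⟩ := key (B₀ ⊗[A₀] A)
  have h' := Groth.Agent.Helper5.SM.isSyntomic_of_algEquiv _ _ _ eT h
  obtain ⟨i, hi⟩ := main hLR n m F₀ h'
  obtain ⟨ei⟩ := key (B₀ ⊗[A₀] G i)
  exact ⟨i, Groth.Agent.Helper5.SM.isSyntomic_of_algEquiv _ _ _ ei.symm hi⟩

end Final

end Groth.Agent.Helper3.SyntLim
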