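import Mathlib
import Groth.Agent.Helper3.SyntLim4
import Groth.Agent.Helper5.LST8
import Groth.Agent.Helper5.SyntDim3
import Groth.Agent.Helper5.RelGCI11
import Groth.Agent.Helper5.RelGCI6

set_option autoImplicit false
set_option linter.style.haveILetI false
set_option linter.unusedSectionVars false
set_option linter.unusedVariables false
set_option linter.deprecated false
set_option linter.style.haveILetI false
set_option linter.unusedSectionVars false
set_option linter.unusedVariables false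

universe u v w

/-!
# Base change of syntomic algebras and finitely generated `ℤ`-models
-/

namespace Groth.Agent.Helper3.SyntLim

open CategoryTheory AlgebraicGeometry TensorProduct MvPolynomial
open Groth.Agent.Helper5.RelGCI Groth.Agent.Helper3.SyntLoc Groth.Agent.Helper3.SyntCot
  Groth.Agent.Helper3.SyntLift

section Main'

variable {k : Type v} [CommRing k] {ι : Type u} {R : ι → Type u} [∀ i, CommRing (R i)]
  [∀ i, Algebra k (R i)] {T : Type u} [CommRing T] [Algebra k T] {ψ : ∀ i, R i →ₐ[k] T}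

/-- descent of syntomicity for a compatible family of presentations over the stages -/
theorem main' (hL : IsLim k R T ψ) (n m : ℕ) (FT : Fin m → MvPolynomial (Fin n) T)
    (Fi : ∀ i, Fin m → MvPolynomial (Fin n) (R i))
    (hFψ : ∀ i j, MvPolynomial.map (ψ i : R i →+* T) (Fi i j) = FT j)
    (hFφ : ∀ {i j : ι} (a : Adm k R T ψ i j) (l : Fin m),
      MvPolynomial.map (a.φ : R i →+* R j) (Fi i l) = Fi j l)
    (h : Synt.IsSyntomic T (Synt.RelGCIRing T n m FT)) :
    ∃ i, Synt.IsSyntomic (R i) (Synt.RelGCIRing (R i) n m (Fi i)) := by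
  classical
  have hIψ : ∀ i, (Ideal.span (Set.range (Fi i))).map (MvPolynomial.map (ψ i : R i →+* T)) =
      Ideal.span (Set.range FT) := by
    intro i
    rw [Ideal.map_span, ← Set.range_comp]
    congr 2
    exact funext (hFψ i)
  have hIφ : ∀ {i j : ι} (a : Adm k R T ψ i j),
      (Ideal.span (Set.range (Fi i))).map (MvPolynomial.map (a.φ : R i →+* R j)) =
        Ideal.span (Set.range (Fi j)) := by
    intro i j a
    rw [Ideal.map_span, ← Set.range_comp]
    congr 2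
    exact funext (hFφ a)
  obtain ⟨κ, _, c, t, f, hcn, htI, hfF, h1, hdim⟩ := exists_top_data T n m FT h
  obtain ⟨i₀⟩ := hL.nonempty
  -- lift the data
  obtain ⟨i₁, -, q, hq⟩ := hL.exists_lift_family (σ := Fin n) ((Σ k : κ, Fin (c k)) ⊕ κ)
    (Sum.elim (fun ka => t ka.1 ka.2) f) i₀
  let t₁ : ∀ k, Fin (c k) → MvPolynomial (Fin n) (R i₁) := fun k a => q (Sum.inl ⟨k, a⟩)
  let f₁ : κ → MvPolynomial (Fin n) (R i₁) := fun k => q (Sum.inr k)
  have ht₁ : ∀ k a, MvPolynomial.map (ψ i₁ : R i₁ →+* T) (t₁ k a) = t k a :=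
    fun k a => hq (Sum.inl ⟨k, a⟩)
  have hf₁ : ∀ k, MvPolynomial.map (ψ i₁ : R i₁ →+* T) (f₁ k) = f k := fun k => hq (Sum.inr k)
  have ht₁' : ∀ k, (MvPolynomial.map (ψ i₁ : R i₁ →+* T)) ∘ (t₁ k) = t k := fun k => funext (ht₁ k)
  have hf₁' : (MvPolynomial.map (ψ i₁ : R i₁ →+* T)) ∘ f₁ = f := funext hf₁
  let d : κ → WithBot ℕ∞ := fun k => ((n - c k : ℕ) : WithBot ℕ∞)
  have hrad : ∀ k, ∃ N : ℕ, (f k) ^ N ∈
      (badIdeal (R i₁) n m (Fi i₁) (d k)).map (MvPolynomial.map (ψ i₁ : R i₁ →+* T)) := fun k =>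
    Ideal.mem_radical_iff.1
      (mem_radical_map_badIdeal (ψ i₁ : R i₁ →+* T) n m (Fi i₁) FT (hFψ i₁) (d k) (f k) (hdim k))
  choose N hN using hrad
  -- the family of memberships
  let I₁ : Ideal (MvPolynomial (Fin n) (R i₁)) := Ideal.span (Set.range (Fi i₁))
  let p : ((Σ k : κ, Fin (c k)) ⊕ ((κ × Fin m) ⊕ (Unit ⊕ κ))) → MvPolynomial (Fin n) (R i₁) :=
    Sum.elim (fun ka => t₁ ka.1 ka.2) (Sum.elim (fun kj => f₁ kj.1 * Fi i₁ kj.2)
      (Sum.elim (fun _ => 1) (fun k => f₁ k ^ N k)))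
  let 𝔞 : ((Σ k : κ, Fin (c k)) ⊕ ((κ × Fin m) ⊕ (Unit ⊕ κ))) →
      Ideal (MvPolynomial (Fin n) (R i₁)) :=
    Sum.elim (fun _ => I₁) (Sum.elim (fun kj => Ideal.span (Set.range (t₁ kj.1)))
      (Sum.elim (fun _ => I₁ ⊔ Ideal.span (Set.range f₁))
        (fun k => badIdeal (R i₁) n m (Fi i₁) (d k))))
  have hp𝔞 : ∀ s, MvPolynomial.map (ψ i₁ : R i₁ →+* T) (p s) ∈
      (𝔞 s).map (MvPolynomial.map (ψ i₁ : R i₁ →+* T)) := by
    rintro (⟨k, a⟩ | ⟨k, j⟩ | _ | k)
    · show MvPolynomial.map _ (t₁ k a) ∈ (Ideal.span (Set.range (Fi i₁))).map _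
      rw [ht₁, hIψ]
      exact htI k a
    · show MvPolynomial.map _ (f₁ k * Fi i₁ j) ∈ (Ideal.span (Set.range (t₁ k))).map _
      rw [map_mul, hf₁, hFψ, Ideal.map_span, ← Set.range_comp, ht₁']
      exact hfF k j
    · show MvPolynomial.map _ 1 ∈
        (Ideal.span (Set.range (Fi i₁)) ⊔ Ideal.span (Set.range f₁)).map _
      rw [map_one, Ideal.map_sup, hIψ, Ideal.map_span, ← Set.range_comp, hf₁']
      exact h1
    · show MvPolynomial.map _ (f₁ k ^ N k) ∈ (badIdeal (R i₁) n m (Fi i₁) (d k)).map _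
      rw [map_pow, hf₁]
      exact hN k
  obtain ⟨j, a, ha⟩ := hL.exists_mem_map_family _ i₁ p 𝔞 hp𝔞
  refine ⟨j, isSyntomic_of_forall_syntAt fun z => ?_⟩
  let t₂ : ∀ k, Fin (c k) → MvPolynomial (Fin n) (R j) :=
    fun k b => MvPolynomial.map (a.φ : R i₁ →+* R j) (t₁ k b)
  let f₂ : κ → MvPolynomial (Fin n) (R j) := fun k => MvPolynomial.map (a.φ : R i₁ →+* R j) (f₁ k)
  have e1 : ∀ k b, t₂ k b ∈ Ideal.span (Set.range (Fi j)) := by
    intro k b
    have h0 := ha (Sum.inl ⟨k, b⟩)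
    have h0' : MvPolynomial.map (a.φ : R i₁ →+* R j) (t₁ k b) ∈
        (Ideal.span (Set.range (Fi i₁))).map (MvPolynomial.map (a.φ : R i₁ →+* R j)) := h0
    rwa [hIφ a] at h0'
  have e2 : ∀ k l, f₂ k * Fi j l ∈ Ideal.span (Set.range (t₂ k)) := by
    intro k l
    have h0 := ha (Sum.inr (Sum.inl (k, l)))
    have h0' : MvPolynomial.map (a.φ : R i₁ →+* R j) (f₁ k * Fi i₁ l) ∈
        (Ideal.span (Set.range (t₁ k))).map (MvPolynomial.map (a.φ : R i₁ →+* R j)) := h0
    rw [map_mul, hFφ a, Ideal.map_span, ← Set.range_comp] at h0'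
    exact h0'
  have e3 : (1 : MvPolynomial (Fin n) (R j)) ∈
      Ideal.span (Set.range (Fi j)) ⊔ Ideal.span (Set.range f₂) := by
    have h0 := ha (Sum.inr (Sum.inr (Sum.inl ())))
    have h0' : MvPolynomial.map (a.φ : R i₁ →+* R j) 1 ∈
        (Ideal.span (Set.range (Fi i₁)) ⊔ Ideal.span (Set.range f₁)).map
          (MvPolynomial.map (a.φ : R i₁ →+* R j)) := h0
    rw [map_one, Ideal.map_sup, hIφ a, Ideal.map_span, ← Set.range_comp] at h0'
    exact h0'
  have e4 : ∀ k, f₂ k ^ N k ∈ badIdeal (R j) n m (Fi j) (d k) := by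
    intro k
    have h0 := ha (Sum.inr (Sum.inr (Sum.inr k)))
    have h0' : MvPolynomial.map (a.φ : R i₁ →+* R j) (f₁ k ^ N k) ∈
        (badIdeal (R i₁) n m (Fi i₁) (d k)).map (MvPolynomial.map (a.φ : R i₁ →+* R j)) := h0
    rw [map_pow] at h0'
    exact map_badIdeal_le' (a.φ : R i₁ →+* R j) n m (Fi i₁) (Fi j) (hFφ a) (d k) h0'
  have hex : ∃ k, Ideal.Quotient.mk (Ideal.span (Set.range (Fi j))) (f₂ k) ∉ z.asIdeal := by
    by_contra hall
    push Not at hall
    have hle : Ideal.span (Set.range (Fi j)) ⊔ Ideal.span (Set.range f₂) ≤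
        z.asIdeal.comap (Ideal.Quotient.mk (Ideal.span (Set.range (Fi j)))) := by
      refine sup_le (fun y hy => ?_) (Ideal.span_le.2 ?_)
      · rw [Ideal.mem_comap, Ideal.Quotient.eq_zero_iff_mem.2 hy]
        exact Ideal.zero_mem _
      · rintro _ ⟨k, rfl⟩
        exact hall k
    have h2 := hle e3
    rw [Ideal.mem_comap, map_one] at h2
    exact z.isPrime.ne_top ((Ideal.eq_top_iff_one _).2 h2)
  obtain ⟨k, hk⟩ := hex
  have hdimz : FlatMor.fibreDimAt (Spec.map (CommRingCat.ofHom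
      (algebraMap (R j) (Synt.RelGCIRing (R j) n m (Fi j))))) z ≤ d k := by
    by_contra hcon
    have h2 := (badIdeal_le_comap_iff (R j) n m (Fi j) (d k) z).2 hcon
    have h5 := h2 (e4 k)
    rw [Ideal.mem_comap, map_pow] at h5
    exact hk (z.isPrime.mem_of_pow_mem _ h5)
  haveI : Algebra.Smooth (R j) (MvPolynomial (Fin n) (R j)) := ⟨inferInstance, inferInstance⟩
  refine syntAt_cut (Ideal.span (Set.range (Fi j))) n (c k) (hcn k) (t₂ k) (e1 k) (f₂ k) ?_ z hk
    (fun y => fibreDimAt_mvPolynomial (R j) n y) hdimz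
  intro y hy
  refine Submodule.span_induction ?_ ?_ ?_ ?_ hy
  · rintro _ ⟨l, rfl⟩
    exact e2 k l
  · rw [mul_zero]; exact Ideal.zero_mem _
  · intro y₁ y₂ _ _ h₁ h₂
    rw [mul_add]; exact Ideal.add_mem _ h₁ h₂
  · intro r y₁ _ h₁
    rw [smul_eq_mul, mul_left_comm]
    exact Ideal.mul_mem_left _ _ h₁


end Main'

section BC

theorem isRelGCI_bc (R R' : Type u) [CommRing R] [CommRing R'] [Algebra R R'] (n c : ℕ)
    (F : Fin c → MvPolynomial (Fin n) R) (h : Synt.IsRelGCI R n c F) :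
    Synt.IsRelGCI R' n c (fun i => MvPolynomial.map (algebraMap R R') (F i)) := by
  by_cases hsub : Subsingleton (Synt.RelGCIRing R' n c
      (fun i => MvPolynomial.map (algebraMap R R') (F i)))
  · exact isRelGCI_of_subsingleton R' n c _
  · haveI : Nontrivial (Synt.RelGCIRing R' n c
        (fun i => MvPolynomial.map (algebraMap R R') (F i))) := not_subsingleton_iff_nontrivial.1 hsub
    haveI : Nontrivial (Synt.RelGCIRing R n c F) := (bcHom R R' n c F).domain_nontrivial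
    have hcn := le_of_isRelGCI_of_nontrivial R n c F h
    refine isRelGCI_of_fibreDimAt_le R' n c _ hcn fun x => ?_
    rw [fibreDimAt_bc R R' n c F x, Groth.Agent.Helper5.SyntDim.s9366 R n c F h]

/-- **syntomic algebras are stable under base change** -/
theorem isSyntomic_baseChange (R S R' : Type u) [CommRing R] [CommRing S] [Algebra R S]
    [CommRing R'] [Algebra R R'] (h : Synt.IsSyntomic R S) :
    Synt.IsSyntomic R' (R' ⊗[R] S) := by
  refine isSyntomic_of_forall_syntAt fun x' => ?_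
  let incl : S →+* R' ⊗[R] S := (Algebra.TensorProduct.includeRight : S →ₐ[R] R' ⊗[R] S).toRingHom
  let x : PrimeSpectrum S := PrimeSpectrum.comap incl x'
  obtain ⟨g, hg, n, c, F, hrel, ⟨e⟩⟩ := Groth.Agent.Helper5.LST.lst R S h x.asIdeal
  refine ⟨(1 : R') ⊗ₜ[R] g, fun hcon => hg hcon, ?_⟩
  let e1 := IsLocalization.Away.tensorProductEquivTMulRight R R' g (Localization.Away g)
  let e2 : R' ⊗[R] Localization.Away g ≃ₐ[R'] R' ⊗[R] Synt.RelGCIRing R n c F :=
    Algebra.TensorProduct.congr (AlgEquiv.refl : R' ≃ₐ[R'] R') e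
  let e3 := tensorEquiv R R' n c F
  exact Groth.Agent.Helper5.SM.isSyntomic_of_algEquiv R' _ _ ((e1.symm.trans e2).trans e3).symm
    (Groth.Agent.Helper5.RelGCI.s9147 R' _ _ _ (isRelGCI_bc R R' n c F hrel))

end BC

section Model

/-- **finitely generated `ℤ`-models of syntomic algebras** -/
theorem exists_fg_model (A B : Type u) [CommRing A] [CommRing B] [Algebra A B]
    (h : Synt.IsSyntomic A B) :
    ∃ (A₀ : Subalgebra ℤ A) (B₀ : Type u) (_ : CommRing B₀) (_ : Algebra A₀ B₀),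
      A₀.FG ∧ Synt.IsSyntomic A₀ B₀ ∧ Nonempty (B ≃ₐ[A] A ⊗[A₀] B₀) := by
  classical
  haveI := h.2.1
  obtain ⟨n, π, hπ, hfg⟩ := Algebra.FinitePresentation.out (R := A) (A := B)
  obtain ⟨m, F, hF⟩ := (Submodule.fg_iff_exists_fin_generating_family).1 hfg
  have hF' : Ideal.span (Set.range F) = RingHom.ker π.toRingHom := hF
  let e : B ≃ₐ[A] Synt.RelGCIRing A n m F :=
    ((Ideal.quotientEquivAlgOfEq A hF').trans (Ideal.quotientKerAlgEquivOfSurjective hπ)).symm
  let C : Finset A := Finset.univ.biUnion fun j => (F j).coeffs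
  let Rs : Finset A → Subalgebra ℤ A := fun s => Algebra.adjoin ℤ ((C ∪ s : Finset A) : Set A)
  have hC : ∀ s j, ((F j).coeffs : Set A) ⊆ Set.range (algebraMap (Rs s) A) := by
    intro s j a ha
    refine ⟨⟨a, Algebra.subset_adjoin ?_⟩, rfl⟩
    rw [Finset.mem_coe, Finset.mem_union]
    exact Or.inl (Finset.mem_biUnion.2 ⟨j, Finset.mem_univ j, ha⟩)
  choose Fs hFs using fun s j =>
    (MvPolynomial.mem_range_map_iff_coeffs_subset (f := algebraMap (Rs s) A)).2 (hC s j)
  let ψ : ∀ s, ↥(Rs s) →ₐ[ℤ] A := fun s => (Rs s).val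
  have hψinj : ∀ s, Function.Injective (MvPolynomial.map (σ := Fin n) (ψ s : ↥(Rs s) →+* A)) :=
    fun s => MvPolynomial.map_injective _ Subtype.val_injective
  have hL : IsLim ℤ (fun s => ↥(Rs s)) A ψ :=
    { nonempty := ⟨∅⟩
      dir := fun s t => by
        refine ⟨s ∪ t, ⟨⟨Subalgebra.inclusion (Algebra.adjoin_mono ?_), rfl⟩⟩,
          ⟨⟨Subalgebra.inclusion (Algebra.adjoin_mono ?_), rfl⟩⟩⟩
        · intro a ha
          rw [Finset.mem_coe, Finset.mem_union] at ha ⊢
          rcases ha with ha | ha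
          · exact Or.inl ha
          · exact Or.inr (Finset.mem_union_left _ ha)
        · intro a ha
          rw [Finset.mem_coe, Finset.mem_union] at ha ⊢
          rcases ha with ha | ha
          · exact Or.inl ha
          · exact Or.inr (Finset.mem_union_right _ ha)
      surj := fun a => ⟨{a}, ⟨a, Algebra.subset_adjoin (by simp)⟩, rfl⟩
      ker := fun s x hx => ⟨s, Adm.id s, by
        have hx0 : x = 0 := Subtype.ext hx
        rw [hx0, map_zero]⟩ }
  have hFψ : ∀ s j, MvPolynomial.map (ψ s : ↥(Rs s) →+* A) (Fs s j) = F j := fun s j => hFs s j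
  have hFφ : ∀ {s t : Finset A} (a : Adm ℤ (fun s => ↥(Rs s)) A ψ s t) (l : Fin m),
      MvPolynomial.map (a.φ : ↥(Rs s) →+* ↥(Rs t)) (Fs s l) = Fs t l := by
    intro s t a l
    apply hψinj t
    rw [a.map_map, hFψ, hFψ]
  obtain ⟨s, hs⟩ := main' hL n m F Fs hFψ hFφ
    (Groth.Agent.Helper5.SM.isSyntomic_of_algEquiv A B _ e h)
  refine ⟨Rs s, Synt.RelGCIRing (Rs s) n m (Fs s), inferInstance, inferInstance,
    Subalgebra.fg_adjoin_finset _, hs, ⟨?_⟩⟩
  have hF2 : (fun j => MvPolynomial.map (algebraMap (Rs s) A) (Fs s j)) = F := funext (hFs s)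
  exact e.trans ((Ideal.quotientEquivAlgOfEq A (by rw [hF2])).trans
    (tensorEquiv (Rs s) A n m (Fs s)).symm)

end Model

end Groth.Agent.Helper3.SyntLim
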