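import Mathlib
import Groth.Agent.Helper3.SyntLim5
import Groth.Agent.Lead.LimSmooth
import Groth.Agent.Helper5.SM6
import Groth.Agent.Helper5.Quiet1

set_option autoImplicit false
set_option linter.style.haveILetI false
set_option linter.unusedSectionVars false
set_option linter.unusedVariables false
set_option linter.deprecated false
set_option linter.style.haveILetI false
set_option linter.unusedSectionVars false
set_option linter.unusedVariables false

universe u v w

/-!
# Syntomic morphisms descend along cofiltered limits of schemes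
-/

namespace Groth.Agent.Helper3.SyntLim

open CategoryTheory Limits AlgebraicGeometry TensorProduct
open Groth.Agent.Helper5.SM Groth.Agent.Helper3.SyntLoc

theorem syntHom_isStableUnderBaseChange : RingHom.IsStableUnderBaseChange @SyntHom.{u} := by
  refine RingHom.IsStableUnderBaseChange.mk syntHom_propertyIsLocal.respectsIso ?_
  intro R S T _ _ _ _ _ h
  rw [syntHom_algebraMap_iff] at h ⊢
  exact isSyntomic_baseChange R T S h

instance : MorphismProperty.IsStableUnderBaseChange syntP.{u} :=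
  HasRingHomProperty.isStableUnderBaseChange syntHom_isStableUnderBaseChange

theorem syntHom_stableUnderComposition : RingHom.StableUnderComposition @SyntHom.{u} := by
  intro R S T _ _ _ f g hf hg
  exact Groth.Agent.Helper5.QuietS.syntHom_comp f g hf hg

theorem syntHom_containsIdentities : RingHom.ContainsIdentities @SyntHom.{u} := by
  intro R _
  exact Groth.Agent.Helper5.QuietS.syntHom_of_bijective _ Function.bijective_id

instance : MorphismProperty.IsMultiplicative syntP.{u} :=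
  HasRingHomProperty.isMultiplicative syntHom_stableUnderComposition syntHom_containsIdentities

theorem hasNoethModel_syntP : Groth.Agent.Lead.LimModel.HasNoethModel syntP.{u} := by
  refine Groth.Agent.Lead.LimModel.hasNoethModel_of_algebra syntP @SyntHom ?_
  intro A B _ _ _ hQ
  obtain ⟨A₀, B₀, _, _, hfg, hsynt, he⟩ := exists_fg_model A B (syntHom_algebraMap_iff.1 hQ)
  exact ⟨A₀, B₀, _, _, hfg, syntHom_algebraMap_iff.2 hsynt, hsynt.2.1, he⟩

/-- **S9198** -/
theorem s9198 {I : Type u} [SmallCategory I] [IsCofiltered I]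
    (D : I ⥤ Scheme.{u}) (c : Limits.Cone D) (hc : Limits.IsLimit c)
    [∀ (i j : I) (f : i ⟶ j), IsAffineHom (D.map f)] (i₀ : I) [CompactSpace (D.obj i₀)]
    [QuasiSeparatedSpace (D.obj i₀)] {X₀ Y₀ : Scheme.{u}} (f₀ : X₀ ⟶ Y₀) (g₀ : Y₀ ⟶ D.obj i₀)
    [CompactSpace X₀] [QuasiSeparatedSpace X₀] [CompactSpace Y₀] [QuasiSeparatedSpace Y₀]
    [LocallyOfFinitePresentation f₀]
    {X Y : Scheme.{u}} (f : X ⟶ Y) (g : Y ⟶ c.pt) (qY : Y ⟶ Y₀) (qX : X ⟶ X₀)
    (hY : IsPullback qY g g₀ (c.π.app i₀)) (hX : IsPullback qX f f₀ qY) (hf : Synt.IsSyntomicMor f) :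
    ∃ (i : I) (φ : i ⟶ i₀) (Xi Yi : Scheme.{u}) (fi : Xi ⟶ Yi) (gi : Yi ⟶ D.obj i) (pY : Yi ⟶ Y₀)
      (pX : Xi ⟶ X₀), IsPullback pY gi g₀ (D.map φ) ∧ IsPullback pX fi f₀ pY ∧
        Synt.IsSyntomicMor fi := by
  have hA : ∀ {i j : I} (f : i ⟶ j), IsAffineHom (D.map f) := fun f ↦ inferInstance
  have h1 : syntP (Groth.Agent.Lead.LimFrame.limMap D c i₀ f₀ g₀) :=
    (Groth.Agent.Lead.LimRed.lim_in i₀ g₀ f₀ syntP hY hX).mp ((isSyntomicMor_iff f).1 hf)
  obtain ⟨j, hj⟩ := Groth.Agent.Lead.LimSmooth.descends_of_compact hc i₀ g₀ f₀ syntP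
    hasNoethModel_syntP h1
  obtain ⟨i, φ, Xi, Yi, fi, gi, pY, pX, h2, h3, h4⟩ :=
    Groth.Agent.Lead.LimFrame.frame_out syntP j hj
  exact ⟨i, φ, Xi, Yi, fi, gi, pY, pX, h2, h3, (isSyntomicMor_iff fi).2 h4⟩

end Groth.Agent.Helper3.SyntLim
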