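import Mathlib
import Groth.Agent.Helper3.SyntLim6

set_option autoImplicit false
set_option linter.style.haveILetI false
set_option linter.unusedSectionVars false
set_option linter.unusedVariables false
set_option linter.deprecated false
set_option linter.style.haveILetI false
set_option linter.unusedSectionVars false
set_option linter.unusedVariables false

universe u v w

/-!
# Descent of finite type along a flat finitely presented algebra, locally on the source
-/

namespace Groth.Agent.Helper3.SyntSrc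

open TensorProduct

section D1

variable {A : Type u} [CommRing A] {B : Type u} [CommRing B] [Algebra A B]

/-- the ideal of the `r` with `r • b` in the image of `A` -/
noncomputable def cond (b : B) : Ideal A :=
  LinearMap.ker (LinearMap.toSpanSingleton A (B ⧸ LinearMap.range (Algebra.linearMap A B))
    (Submodule.Quotient.mk b))

theorem mem_cond (b : B) (r : A) : r ∈ cond (A := A) b ↔ ∃ a : A, algebraMap A B a = r • b := by
  unfold cond
  rw [LinearMap.mem_ker, LinearMap.toSpanSingleton_apply, ← Submodule.Quotient.mk_smul,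
    Submodule.Quotient.mk_eq_zero, LinearMap.mem_range]
  rfl

theorem subsingleton_tensor_aux (N F : Type u) [AddCommGroup N] [Module A N] [AddCommGroup F]
    [Module A F] (f : A →ₗ[A] B) (π : B →ₗ[A] N) (hex : Function.Exact f π)
    (hπ : Function.Surjective π) (hf : f 1 = 1)
    (hsurj : ∀ z : B ⊗[A] F, ∃ c : F, z = 1 ⊗ₜ c) : Subsingleton (N ⊗[A] F) := by
  have h1 := rTensor_exact F hex hπ
  have h2 := LinearMap.rTensor_surjective F hπ
  refine ⟨fun x y => ?_⟩
  have h0 : ∀ z : N ⊗[A] F, z = 0 := by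
    intro z
    obtain ⟨z', rfl⟩ := h2 z
    obtain ⟨c, rfl⟩ := hsurj z'
    rw [h1]
    exact ⟨1 ⊗ₜ c, by rw [LinearMap.rTensor_tmul, hf]⟩
  rw [h0 x, h0 y]

variable (Cf : Type u) [AddCommGroup Cf] [Module A Cf] [Module.Flat A Cf]

theorem cond_smul_top (hsurj : ∀ z : B ⊗[A] Cf, ∃ c : Cf, z = 1 ⊗ₜ c) (b : B) :
    cond (A := A) b • (⊤ : Submodule A Cf) = ⊤ := by
  let P : Submodule A B := LinearMap.range (Algebra.linearMap A B)
  let N := B ⧸ P
  have hN : Subsingleton (N ⊗[A] Cf) :=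
    subsingleton_tensor_aux N Cf (Algebra.linearMap A B) P.mkQ
      (LinearMap.exact_map_mkQ_range _) (Submodule.mkQ_surjective _) (by simp) hsurj
  let φ : A →ₗ[A] N := LinearMap.toSpanSingleton A N (Submodule.Quotient.mk b)
  let ψ : (A ⧸ cond (A := A) b) →ₗ[A] N := Submodule.liftQ (cond (A := A) b) φ le_rfl
  have hψ : Function.Injective ψ := by
    rw [← LinearMap.ker_eq_bot]
    exact Submodule.ker_liftQ_eq_bot _ _ _ le_rfl
  have hinj : Function.Injective (ψ.rTensor Cf) :=
    Module.Flat.rTensor_preserves_injective_linearMap ψ hψ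
  haveI : Subsingleton ((A ⧸ cond (A := A) b) ⊗[A] Cf) := hinj.subsingleton
  haveI : Subsingleton (Cf ⧸ (cond (A := A) b • (⊤ : Submodule A Cf))) :=
    (TensorProduct.quotTensorEquivQuotSMul Cf (cond (A := A) b)).symm.injective.subsingleton
  exact Submodule.Quotient.subsingleton_iff.1 inferInstance

end D1

section D2

variable {A : Type u} [CommRing A] {B : Type u} [CommRing B] [Algebra A B]
  (Cf : Type u) [CommRing Cf] [Algebra A Cf] [Module.Flat A Cf]

theorem cond_map_eq_top (hsurj : ∀ z : B ⊗[A] Cf, ∃ c : Cf, z = 1 ⊗ₜ c) (b : B) :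
    (cond (A := A) b).map (algebraMap A Cf) = ⊤ := by
  have h1 := cond_smul_top Cf hsurj b
  rw [Ideal.smul_top_eq_map] at h1
  rw [Ideal.eq_top_iff_one]
  have : (1 : Cf) ∈ ((cond (A := A) b).map (algebraMap A Cf)).restrictScalars A := by
    rw [h1]; trivial
  exact this

/-- a basic open neighbourhood in the (open) image of `Spec Cf` -/
theorem exists_basicOpen [Algebra.FinitePresentation A Cf] (P₀ : Ideal Cf) [P₀.IsPrime] :
    ∃ s : A, algebraMap A Cf s ∉ P₀ ∧
      ∀ 𝔞 : Ideal A, 𝔞.map (algebraMap A Cf) = ⊤ → s ∈ 𝔞.radical := by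
  have hopen : IsOpen (Set.range (PrimeSpectrum.comap (algebraMap A Cf))) :=
    (PrimeSpectrum.isOpenMap_comap_of_hasGoingDown_of_finitePresentation (R := A) (S := Cf)).isOpen_range
  have hmem : PrimeSpectrum.comap (algebraMap A Cf) ⟨P₀, inferInstance⟩ ∈
      Set.range (PrimeSpectrum.comap (algebraMap A Cf)) := ⟨_, rfl⟩
  obtain ⟨_, ⟨s, rfl⟩, hs, hsub⟩ :=
    PrimeSpectrum.isTopologicalBasis_basic_opens.exists_subset_of_mem_open hmem hopen
  refine ⟨s, hs, fun 𝔞 h𝔞 => ?_⟩
  rw [Ideal.radical_eq_sInf, Ideal.mem_sInf]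
  rintro 𝔭 ⟨h𝔞𝔭, h𝔭⟩
  by_contra hs𝔭
  obtain ⟨𝔓, h𝔓⟩ := hsub (show (⟨𝔭, h𝔭⟩ : PrimeSpectrum A) ∈ PrimeSpectrum.basicOpen s from hs𝔭)
  have h2 : 𝔞.map (algebraMap A Cf) ≤ 𝔓.asIdeal := by
    rw [Ideal.map_le_iff_le_comap]
    have : 𝔓.asIdeal.comap (algebraMap A Cf) = 𝔭 := congrArg PrimeSpectrum.asIdeal h𝔓
    rw [this]
    exact h𝔞𝔭
  rw [h𝔞] at h2
  exact 𝔓.isPrime.ne_top (top_le_iff.1 h2)

/-- the local surjectivity statement -/
theorem exists_pow_smul_mem [Algebra.FinitePresentation A Cf]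
    (hsurj : ∀ z : B ⊗[A] Cf, ∃ c : Cf, z = 1 ⊗ₜ c) (P₀ : Ideal Cf) [P₀.IsPrime] :
    ∃ s : A, algebraMap A Cf s ∉ P₀ ∧
      ∀ b : B, ∃ (k : ℕ) (a : A), algebraMap A B a = s ^ k • b := by
  obtain ⟨s, hs, h⟩ := exists_basicOpen (A := A) Cf P₀
  refine ⟨s, hs, fun b => ?_⟩
  obtain ⟨k, hk⟩ := h _ (cond_map_eq_top Cf hsurj b)
  exact ⟨k, (mem_cond b _).1 hk⟩

end D2

section E

variable {A : Type u} [CommRing A] {B : Type u} [CommRing B] [Algebra A B]

theorem awayMap_surjective_of_pow (s : A)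
    (h : ∀ b : B, ∃ (k : ℕ) (a : A), algebraMap A B a = s ^ k • b) :
    Function.Surjective (IsLocalization.Away.map (Localization.Away s)
      (Localization.Away (algebraMap A B s)) (algebraMap A B) s) := by
  rw [IsLocalization.Away.map_surjective_iff]
  intro b
  obtain ⟨k, a, ha⟩ := h b
  refine ⟨a, k, ?_⟩
  rw [ha, Algebra.smul_def, map_pow]

end E

end Groth.Agent.Helper3.SyntSrc
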