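import Mathlib
import Groth.Agent.Helper3.SyntSrc1
import Groth.Agent.Helper5.SM2

set_option autoImplicit false
set_option linter.style.haveILetI false
set_option linter.unusedSectionVars false
set_option linter.unusedVariables false
set_option linter.deprecated false
set_option linter.style.haveILetI false
set_option linter.unusedSectionVars false
set_option linter.unusedVariables false

universe u v w

/-!
# Finite type descends along a relative global complete intersection, locally on the source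
-/

namespace Groth.Agent.Helper3.SyntSrc

open TensorProduct MvPolynomial Groth.Agent.Helper3.SyntLim Groth.Agent.Helper5.RelGCI

theorem p1core (Λ B : Type u) [CommRing Λ] [CommRing B] [Algebra Λ B] (m c : ℕ)
    (G : Fin c → MvPolynomial (Fin m) B) (hG : Synt.IsRelGCI B m c G)
    (hft : Algebra.FiniteType Λ (Synt.RelGCIRing B m c G))
    (𝔮 : Ideal (Synt.RelGCIRing B m c G)) [𝔮.IsPrime] :
    ∃ b : B, algebraMap B (Synt.RelGCIRing B m c G) b ∉ 𝔮 ∧
      Algebra.FiniteType Λ (Localization.Away b) := by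
  classical
  obtain ⟨gens, hgens⟩ := hft.out
  choose lift hlift using fun t : Synt.RelGCIRing B m c G => Ideal.Quotient.mk_surjective t
  let Cset : Finset B :=
    (Finset.univ.biUnion fun j => (G j).coeffs) ∪ (gens.biUnion fun t => (lift t).coeffs)
  let Rs : Finset B → Subalgebra Λ B := fun s => Algebra.adjoin Λ ((Cset ∪ s : Finset B) : Set B)
  have hC : ∀ s j, ((G j).coeffs : Set B) ⊆ Set.range (algebraMap (Rs s) B) := by
    intro s j a ha
    refine ⟨⟨a, Algebra.subset_adjoin ?_⟩, rfl⟩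
    rw [Finset.mem_coe, Finset.mem_union]
    exact Or.inl (Finset.mem_union_left _ (Finset.mem_biUnion.2 ⟨j, Finset.mem_univ j, ha⟩))
  have hC2 : ∀ s, ∀ t ∈ gens, ((lift t).coeffs : Set B) ⊆ Set.range (algebraMap (Rs s) B) := by
    intro s t ht a ha
    refine ⟨⟨a, Algebra.subset_adjoin ?_⟩, rfl⟩
    rw [Finset.mem_coe, Finset.mem_union]
    exact Or.inl (Finset.mem_union_right _ (Finset.mem_biUnion.2 ⟨t, ht, ha⟩))
  choose Gs hGs using fun s j =>
    (MvPolynomial.mem_range_map_iff_coeffs_subset (f := algebraMap (Rs s) B)).2 (hC s j)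
  let ψ : ∀ s, ↥(Rs s) →ₐ[Λ] B := fun s => (Rs s).val
  have hψinj : ∀ s, Function.Injective (MvPolynomial.map (σ := Fin m) (ψ s : ↥(Rs s) →+* B)) :=
    fun s => MvPolynomial.map_injective _ Subtype.val_injective
  have hL : IsLim Λ (fun s => ↥(Rs s)) B ψ :=
    { nonempty := ⟨∅⟩
      dir := fun s t => by
        refine ⟨s ∪ t, ⟨⟨Subalgebra.inclusion (Algebra.adjoin_mono ?_), rfl⟩⟩,
          ⟨⟨Subalgebra.inclusion (Algebra.adjoin_mono ?_), rfl⟩⟩⟩
        · intro a ha
          rw [Finset.mem_coe, Finset.mem_union] at ha ⊢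
          rcases ha with ha | ha
          · exact Or.inl ha
          · exact Or.inr (Finset.mem_union_left _ ha)
        · intro a ha
          rw [Finset.mem_coe, Finset.mem_union] at ha ⊢
          rcases ha with ha | ha
          · exact Or.inl ha
          · exact Or.inr (Finset.mem_union_right _ ha)
      surj := fun a => ⟨{a}, ⟨a, Algebra.subset_adjoin (by simp)⟩, rfl⟩
      ker := fun s x hx => ⟨s, Adm.id s, by
        have hx0 : x = 0 := Subtype.ext hx
        rw [hx0, map_zero]⟩ }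
  have hFψ : ∀ s j, MvPolynomial.map (ψ s : ↥(Rs s) →+* B) (Gs s j) = G j := fun s j => hGs s j
  have hFφ : ∀ {s t : Finset B} (a : Adm Λ (fun s => ↥(Rs s)) B ψ s t) (l : Fin c),
      MvPolynomial.map (a.φ : ↥(Rs s) →+* ↥(Rs t)) (Gs s l) = Gs t l := by
    intro s t a l
    apply hψinj t
    rw [a.map_map, hFψ, hFψ]
  obtain ⟨s₀, hs₀⟩ := main' hL m c G Gs hFψ hFφ (s9147 B m c G hG)
  -- the model
  let G' : Fin c → MvPolynomial (Fin m) B :=
    fun i => MvPolynomial.map (algebraMap (Rs s₀) B) (Gs s₀ i)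
  have hG' : G' = G := funext (hGs s₀)
  let eq : Synt.RelGCIRing B m c G ≃ₐ[B] Synt.RelGCIRing B m c G' :=
    Ideal.quotientEquivAlgOfEq B (by rw [hG'])
  let κ : Synt.RelGCIRing (Rs s₀) m c (Gs s₀) →+* Synt.RelGCIRing B m c G' :=
    bcHom (Rs s₀) B m c (Gs s₀)
  let ρ : Synt.RelGCIRing (Rs s₀) m c (Gs s₀) →+* Synt.RelGCIRing B m c G :=
    (eq.symm : Synt.RelGCIRing B m c G' →+* Synt.RelGCIRing B m c G).comp κ
  have hρalg : ∀ b₀ : Rs s₀, ρ (algebraMap (Rs s₀) _ b₀) =
      algebraMap B (Synt.RelGCIRing B m c G) (b₀ : B) := by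
    intro b₀
    show eq.symm (κ (algebraMap (Rs s₀) _ b₀)) = _
    rw [show κ (algebraMap (Rs s₀) _ b₀) = _ from
      Groth.Agent.Helper5.SM.bcHom_algebraMap (Rs s₀) B m c (Gs s₀) b₀, eq.symm.commutes]
    rfl
  have hρmk : ∀ p₀ : MvPolynomial (Fin m) (Rs s₀), ρ (Ideal.Quotient.mk _ p₀) =
      Ideal.Quotient.mk _ (MvPolynomial.map (algebraMap (Rs s₀) B) p₀) := by
    intro p₀
    show eq.symm (κ (Ideal.Quotient.mk _ p₀)) = _
    rw [show κ (Ideal.Quotient.mk _ p₀) = _ from bcHom_mk (Rs s₀) B m c (Gs s₀) p₀]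
    rfl
  have hρsurj : Function.Surjective ρ := by
    intro x
    have hx : x ∈ Algebra.adjoin Λ (gens : Set (Synt.RelGCIRing B m c G)) := by
      rw [hgens]; trivial
    induction hx using Algebra.adjoin_induction with
    | mem t ht =>
      obtain ⟨p₀, hp₀⟩ := (MvPolynomial.mem_range_map_iff_coeffs_subset
        (f := algebraMap (Rs s₀) B)).2 (hC2 s₀ t ht)
      exact ⟨Ideal.Quotient.mk _ p₀, by rw [hρmk, hp₀, hlift]⟩
    | algebraMap r =>
      refine ⟨algebraMap (Rs s₀) _ (algebraMap Λ (Rs s₀) r), ?_⟩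
      rw [hρalg, IsScalarTower.algebraMap_apply Λ B (Synt.RelGCIRing B m c G)]
      rfl
    | add x y _ _ hx hy =>
      obtain ⟨x', rfl⟩ := hx
      obtain ⟨y', rfl⟩ := hy
      exact ⟨x' + y', map_add _ _ _⟩
    | mul x y _ _ hx hy =>
      obtain ⟨x', rfl⟩ := hx
      obtain ⟨y', rfl⟩ := hy
      exact ⟨x' * y', map_mul _ _ _⟩
  have hsurj : ∀ z : B ⊗[Rs s₀] Synt.RelGCIRing (Rs s₀) m c (Gs s₀), ∃ c₀, z = 1 ⊗ₜ c₀ := by
    intro z
    obtain ⟨c₀, hc₀⟩ := hρsurj (eq.symm (tensorEquiv (Rs s₀) B m c (Gs s₀) z))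
    refine ⟨c₀, ?_⟩
    apply (tensorEquiv (Rs s₀) B m c (Gs s₀)).injective
    have h1 : κ c₀ = tensorEquiv (Rs s₀) B m c (Gs s₀) z := eq.symm.injective hc₀
    rw [← h1]
    rfl
  haveI : Module.Flat (Rs s₀) (Synt.RelGCIRing (Rs s₀) m c (Gs s₀)) := hs₀.1
  haveI : Algebra.FinitePresentation (Rs s₀) (Synt.RelGCIRing (Rs s₀) m c (Gs s₀)) := hs₀.2.1
  haveI : (𝔮.comap ρ).IsPrime := Ideal.comap_isPrime ρ 𝔮
  obtain ⟨s, hs, hpow⟩ := exists_pow_smul_mem (A := Rs s₀) (B := B)
    (Synt.RelGCIRing (Rs s₀) m c (Gs s₀)) hsurj (𝔮.comap ρ)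
  refine ⟨(s : B), ?_, ?_⟩
  · rw [← hρalg]
    exact hs
  · haveI : Algebra.FiniteType Λ (Rs s₀) :=
      (Subalgebra.fg_iff_finiteType _).1 (Subalgebra.fg_adjoin_finset _)
    haveI : Algebra.FinitePresentation (Rs s₀) (Localization.Away s) :=
      IsLocalization.Away.finitePresentation s
    haveI : Algebra.FiniteType (Rs s₀) (Localization.Away s) :=
      Algebra.FiniteType.of_finitePresentation
    have h1 : Algebra.FiniteType Λ (Localization.Away s) :=
      Algebra.FiniteType.trans (S := Rs s₀) inferInstance inferInstance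
    let φ := IsLocalization.Away.map (Localization.Away s)
      (Localization.Away (algebraMap (Rs s₀) B s)) (algebraMap (Rs s₀) B) s
    have hφ : Function.Surjective φ := awayMap_surjective_of_pow s hpow
    have h2 : algebraMap Λ (Localization.Away (algebraMap (Rs s₀) B s)) =
        φ.comp (algebraMap Λ (Localization.Away s)) := by
      ext r
      show _ = φ (algebraMap Λ (Localization.Away s) r)
      rw [IsScalarTower.algebraMap_apply Λ (Rs s₀) (Localization.Away s)]
      show _ = IsLocalization.map _ _ _ _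
      rw [IsLocalization.map_eq,
        IsScalarTower.algebraMap_apply Λ B (Localization.Away (algebraMap (Rs s₀) B s))]
      rfl
    show Algebra.FiniteType Λ (Localization.Away (algebraMap (Rs s₀) B s))
    rw [← RingHom.finiteType_algebraMap, h2]
    exact (RingHom.FiniteType.of_surjective φ hφ).comp (RingHom.finiteType_algebraMap.2 h1)

end Groth.Agent.Helper3.SyntSrc
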