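import Mathlib
import Groth.Agent.Helper3.SyntSrc2
import Groth.Agent.Helper3.LciComp
import Groth.Agent.Helper3.KzPres
import Groth.Agent.Helper3.KzCot
import Groth.Agent.Helper3.FFDescK
import Groth.Agent.Helper5.LST9
import Groth.Agent.Helper5.RelGCI17
import Groth.Agent.Helper5.RelGCI13
import Groth.Agent.Helper5.LciS6

set_option autoImplicit false
set_option linter.style.haveILetI false
set_option linter.unusedSectionVars false
set_option linter.unusedVariables false
set_option linter.deprecated false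
set_option linter.style.haveILetI false
set_option linter.unusedSectionVars false
set_option linter.unusedVariables false

universe u v w

/-!
# Local flat descent of Koszul-regular ideals, and the relation-independence condition
-/

namespace Groth.Agent.Helper3.SyntSrc

open TensorProduct MvPolynomial Groth.Agent.Helper3.SyntLim Groth.Agent.Helper5.RelGCI
open Groth.Agent.Helper3.FFDesc Groth.Agent.Helper3.KzLoc Groth.Agent.Helper3.SmKregA
  Groth.Agent.Helper3.KzIdeal

section M

variable {A : Type u} [CommRing A]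

theorem exists_sum_of_mem_mul_span {r : ℕ} (𝔞 : Ideal A) (f : Fin r → A) (x : A)
    (hx : x ∈ 𝔞 * Ideal.span (Set.range f)) :
    ∃ π : Fin r → A, (∀ i, π i ∈ 𝔞) ∧ x = ∑ i, π i * f i := by
  refine Submodule.mul_induction_on hx ?_ ?_
  · intro a ha g hg
    obtain ⟨t, rfl⟩ := (Ideal.mem_span_range_iff_exists_fun).1 hg
    refine ⟨fun i => a * t i, fun i => 𝔞.mul_mem_right _ ha, ?_⟩
    rw [Finset.mul_sum]
    exact Finset.sum_congr rfl fun i _ => by ring
  · rintro x y ⟨π, hπ, rfl⟩ ⟨π', hπ', rfl⟩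
    refine ⟨fun i => π i + π' i, fun i => 𝔞.add_mem (hπ i) (hπ' i), ?_⟩
    rw [← Finset.sum_add_distrib]
    exact Finset.sum_congr rfl fun i _ => by ring

/-- the relation-independence condition, checked after a surjection onto a ring in which the
images of the relations are Koszul-regular -/
theorem li_of_surjective {P Q : Type u} [CommRing P] [CommRing Q] (μ : P →+* Q)
    (hμ : Function.Surjective μ) {r : ℕ} (f : Fin r → P)
    (hreg : LCI.IsKoszulRegularSeq Q (List.ofFn fun i => μ (f i)))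
    (𝔓 J : Ideal P) (hker : RingHom.ker μ ≤ 𝔓) (hf : ∀ i, f i ∈ 𝔓)
    (hJ : J.map μ ≤ Ideal.span (Set.range fun i => μ (f i)))
    (cf : Fin r → P) (hcf : ∑ i, cf i * f i ∈ 𝔓 * J) (i : Fin r) : cf i ∈ 𝔓 := by
  have h1 : μ (∑ i, cf i * f i) ∈ (𝔓.map μ) * Ideal.span (Set.range fun i => μ (f i)) := by
    have h2 : μ (∑ i, cf i * f i) ∈ (𝔓 * J).map μ := Ideal.mem_map_of_mem μ hcf
    rw [Ideal.map_mul] at h2
    exact Ideal.mul_mono_right hJ h2
  obtain ⟨π, hπ, hsum⟩ := exists_sum_of_mem_mul_span _ _ _ h1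
  have h3 : ∑ j, (μ (cf j) - π j) * μ (f j) = 0 := by
    rw [map_sum] at hsum
    simp only [sub_mul, Finset.sum_sub_distrib, ← hsum, map_mul, sub_self]
  have h4 := Groth.Agent.Helper3.KzCot.coeff_mem_of_kreg (fun i => μ (f i)) hreg (𝔓.map μ)
    (fun j => Ideal.mem_map_of_mem μ (hf j)) (fun j => μ (cf j) - π j) h3 i
  have h5 : μ (cf i) ∈ 𝔓.map μ := by
    have := (𝔓.map μ).add_mem h4 (hπ i)
    simpa using this
  have h6 : cf i ∈ (𝔓.map μ).comap μ := h5
  rw [Ideal.comap_map_of_surjective μ hμ, ← RingHom.ker_eq_comap_bot, sup_eq_left.2 hker] at h6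
  exact h6

end M

section L

variable {R S : Type u} [CommRing R] [CommRing S] [Algebra R S]

theorem exists_basicOpen_subset_range [Module.Flat R S] [Algebra.FinitePresentation R S]
    (𝔔 : Ideal S) [𝔔.IsPrime] :
    ∃ v : R, algebraMap R S v ∉ 𝔔 ∧ ∀ 𝔭 : PrimeSpectrum R, v ∉ 𝔭.asIdeal →
      ∃ 𝔓 : PrimeSpectrum S, PrimeSpectrum.comap (algebraMap R S) 𝔓 = 𝔭 := by
  have hopen : IsOpen (Set.range (PrimeSpectrum.comap (algebraMap R S))) :=
    (PrimeSpectrum.isOpenMap_comap_of_hasGoingDown_of_finitePresentation (R := R) (S := S)).isOpen_range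
  have hmem : PrimeSpectrum.comap (algebraMap R S) ⟨𝔔, inferInstance⟩ ∈
      Set.range (PrimeSpectrum.comap (algebraMap R S)) := ⟨_, rfl⟩
  obtain ⟨_, ⟨v, rfl⟩, hv, hsub⟩ :=
    PrimeSpectrum.isTopologicalBasis_basic_opens.exists_subset_of_mem_open hmem hopen
  exact ⟨v, hv, fun 𝔭 h𝔭 => hsub h𝔭⟩

/-- **local flat descent of Koszul-regular ideals** -/
theorem kreg_descent_local [Module.Flat R S] [Algebra.FinitePresentation R S] (I : Ideal R)
    (hK : LCI.IsKoszulRegularIdeal (I.map (algebraMap R S))) (𝔔 : Ideal S) [𝔔.IsPrime] :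
    ∃ v : R, algebraMap R S v ∉ 𝔔 ∧
      LCI.IsKoszulRegularIdeal (I.map (algebraMap R (Localization.Away v))) := by
  obtain ⟨v, hv, hsub⟩ := exists_basicOpen_subset_range (R := R) (S := S) 𝔔
  refine ⟨v, hv, ?_⟩
  let Rv := Localization.Away v
  let Sv := Localization.Away (algebraMap R S v)
  let φ : Rv →+* Sv := IsLocalization.Away.map Rv Sv (algebraMap R S) v
  letI : Algebra Rv Sv := φ.toAlgebra
  haveI : IsScalarTower R Rv Sv := IsScalarTower.of_algebraMap_eq fun x => by
    rw [IsScalarTower.algebraMap_apply R S Sv]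
    show algebraMap S Sv (algebraMap R S x) = φ (algebraMap R Rv x)
    exact (IsLocalization.map_eq _ x).symm
  haveI : Module.Flat S Sv := IsLocalization.flat Sv (Submonoid.powers (algebraMap R S v))
  haveI : Module.Flat R Sv := Module.Flat.trans R S Sv
  haveI : Module.Flat Rv Sv :=
    (Module.flat_iff_of_isLocalization Rv (Submonoid.powers v) (M := Sv)).2 inferInstance
  haveI : Module.FaithfullyFlat Rv Sv := by
    apply Module.FaithfullyFlat.of_comap_surjective
    intro 𝔭'
    let 𝔭 : PrimeSpectrum R := PrimeSpectrum.comap (algebraMap R Rv) 𝔭'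
    have hv𝔭 : v ∉ 𝔭.asIdeal := fun hmem =>
      𝔭'.isPrime.ne_top (Ideal.eq_top_of_isUnit_mem _ hmem
        (IsLocalization.Away.algebraMap_isUnit v))
    obtain ⟨𝔓, h𝔓⟩ := hsub 𝔭 hv𝔭
    have hdisj : Disjoint (Submonoid.powers (algebraMap R S v) : Set S) (𝔓.asIdeal : Set S) := by
      rw [Set.disjoint_left]
      rintro _ ⟨k, rfl⟩ hk
      have h1 : algebraMap R S v ∈ 𝔓.asIdeal := 𝔓.isPrime.mem_of_pow_mem k hk
      have h2 : v ∈ (PrimeSpectrum.comap (algebraMap R S) 𝔓).asIdeal := h1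
      rw [h𝔓] at h2
      exact hv𝔭 h2
    have hprime : (𝔓.asIdeal.map (algebraMap S Sv)).IsPrime :=
      IsLocalization.isPrime_of_isPrime_disjoint (Submonoid.powers (algebraMap R S v)) Sv _
        𝔓.isPrime hdisj
    have hcomap : (𝔓.asIdeal.map (algebraMap S Sv)).comap (algebraMap S Sv) = 𝔓.asIdeal :=
      IsLocalization.comap_map_of_isPrime_disjoint (Submonoid.powers (algebraMap R S v)) Sv
        𝔓.isPrime hdisj
    refine ⟨⟨_, hprime⟩, ?_⟩
    apply (PrimeSpectrum.localization_comap_injective Rv (Submonoid.powers v))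
    apply PrimeSpectrum.ext
    show ((𝔓.asIdeal.map (algebraMap S Sv)).comap (algebraMap Rv Sv)).comap (algebraMap R Rv) =
      𝔭.asIdeal
    rw [Ideal.comap_comap, ← IsScalarTower.algebraMap_eq, IsScalarTower.algebraMap_eq R S Sv,
      ← Ideal.comap_comap, hcomap]
    exact congrArg PrimeSpectrum.asIdeal h𝔓
  apply Groth.Agent.Helper3.FFDescK.main Rv Sv
  rw [Ideal.map_map, ← IsScalarTower.algebraMap_eq, IsScalarTower.algebraMap_eq R S Sv,
    ← Ideal.map_map]
  exact locGen_map FFDescK.kregClass _ (RingHom.flat_algebraMap_iff.mpr inferInstance) _ hK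

end L

end Groth.Agent.Helper3.SyntSrc
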