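import Mathlib
import Groth.Agent.Helper3.SyntSrc3

set_option autoImplicit false
set_option linter.style.haveILetI false
set_option linter.unusedSectionVars false
set_option linter.unusedVariables false
set_option linter.deprecated false
set_option linter.style.haveILetI false
set_option linter.unusedSectionVars false
set_option linter.unusedVariables false

universe u v w

/-!
# Koszul-regularity of `I S` for a relative global complete intersection `S` over `R`
-/

namespace Groth.Agent.Helper3.SyntSrc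

open TensorProduct MvPolynomial Groth.Agent.Helper3.SyntLim Groth.Agent.Helper5.RelGCI
open Groth.Agent.Helper3.FFDesc Groth.Agent.Helper3.KzLoc Groth.Agent.Helper3.SmKregA
  Groth.Agent.Helper3.KzIdeal

section DN

variable (R : Type u) [CommRing R] (I : Ideal R) (N M : ℕ) (F : Fin M → MvPolynomial (Fin N) R)

theorem map_kreg_of_comp (hF : Synt.IsRelGCI R N M F)
    (hJ : LCI.IsKoszulRegularIdeal (RingHom.ker
      ((Ideal.Quotient.mk (Ideal.span (Set.range fun i =>
          MvPolynomial.map (algebraMap R (R ⧸ I)) (F i)))).comp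
        (MvPolynomial.map (algebraMap R (R ⧸ I)))))) :
    LCI.IsKoszulRegularIdeal (I.map (algebraMap R (Synt.RelGCIRing R N M F))) := by
  let ev : MvPolynomial (Fin N) R →+* Synt.RelGCIRing R N M F :=
    Ideal.Quotient.mk (Ideal.span (Set.range F))
  have hev : Function.Surjective ev := Ideal.Quotient.mk_surjective
  have hker : RingHom.ker ev = Ideal.ofList (List.ofFn F) := by
    rw [ofList_ofFn]
    exact Ideal.mk_ker
  have hf : LCI.IsKoszulRegularSeq (MvPolynomial (Fin N) R) (List.ofFn F) := s9254 R N M F hF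
  let μ : MvPolynomial (Fin N) R →+* MvPolynomial (Fin N) (R ⧸ I) :=
    MvPolynomial.map (algebraMap R (R ⧸ I))
  have hμ : Function.Surjective μ := MvPolynomial.map_surjective _ Ideal.Quotient.mk_surjective
  let Fb : Fin M → MvPolynomial (Fin N) (R ⧸ I) := fun i => μ (F i)
  let mkb : MvPolynomial (Fin N) (R ⧸ I) →+* Synt.RelGCIRing (R ⧸ I) N M Fb :=
    Ideal.Quotient.mk (Ideal.span (Set.range Fb))
  have hregb : LCI.IsKoszulRegularSeq (MvPolynomial (Fin N) (R ⧸ I)) (List.ofFn Fb) :=
    s9254 (R ⧸ I) N M Fb (isRelGCI_bc R (R ⧸ I) N M F hF)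
  set K := I.map (algebraMap R (Synt.RelGCIRing R N M F)) with hKdef
  have hKcomap : K.comap ev = RingHom.ker (mkb.comp μ) := by
    rw [hKdef, ← Groth.Agent.Helper5.LST.ker_bcHom_quot R N M F I, RingHom.comap_ker]
    congr 1
    exact RingHom.ext fun y => bcHom_mk R (R ⧸ I) N M F y
  have hkerμ : RingHom.ker μ ≤ K.comap ev := by
    rw [hKcomap]
    intro y hy
    rw [RingHom.mem_ker] at hy ⊢
    rw [RingHom.comp_apply, hy, map_zero]
  have hJmap : (K.comap ev).map μ ≤ Ideal.span (Set.range Fb) := by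
    rw [hKcomap, ← RingHom.comap_ker, show RingHom.ker mkb = Ideal.span (Set.range Fb) from
      Ideal.mk_ker]
    exact Ideal.map_comap_le
  refine down_ideal ev hev F hker hf K ?_ (by rw [hKcomap]; exact hJ)
  intro p hp hKp cf hcf i
  refine li_of_surjective μ hμ F hregb (p.comap ev) (K.comap ev)
    (hkerμ.trans (Ideal.comap_mono hKp)) ?_ hJmap cf hcf i
  intro j
  show ev (F j) ∈ p
  have : ev (F j) = 0 := Ideal.Quotient.eq_zero_iff_mem.2 (Ideal.subset_span (Set.mem_range_self j))
  rw [this]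
  exact p.zero_mem

end DN

section PR

theorem kreg_ker_of_isLCI (Λ : Type u) [CommRing Λ] (Q : Type u) [CommRing Q] [Algebra Λ Q]
    (hQ : LCI.IsLCI Λ Q) (n N : ℕ)
    (δ : MvPolynomial (Fin N) (MvPolynomial (Fin n) Λ) →+* Q) (hδ : Function.Surjective δ)
    (hδalg : ∀ a : Λ, δ (C (C a)) = algebraMap Λ Q a) :
    LCI.IsKoszulRegularIdeal (RingHom.ker δ) := by
  obtain ⟨-, n', α, hα, hKα⟩ := hQ
  let e₁ : MvPolynomial (Fin N ⊕ Fin n) Λ ≃ₐ[Λ] MvPolynomial (Fin N) (MvPolynomial (Fin n) Λ) :=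
    MvPolynomial.sumAlgEquiv Λ (Fin N) (Fin n)
  let e₂ : MvPolynomial (Fin N ⊕ Fin n) Λ ≃ₐ[Λ] MvPolynomial (Fin (N + n)) Λ :=
    MvPolynomial.renameEquiv Λ finSumFinEquiv
  let e : MvPolynomial (Fin (N + n)) Λ ≃ₐ[Λ] MvPolynomial (Fin N) (MvPolynomial (Fin n) Λ) :=
    e₂.symm.trans e₁
  let δA : MvPolynomial (Fin N) (MvPolynomial (Fin n) Λ) →ₐ[Λ] Q :=
    { δ with commutes' := hδalg }
  let ε : MvPolynomial (Fin (N + n)) Λ →ₐ[Λ] Q := δA.comp e.toAlgHom
  have hε : Function.Surjective ε := hδ.comp e.surjective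
  have h1 : LCI.IsKoszulRegularIdeal (RingHom.ker ε.toRingHom) :=
    Groth.Agent.Helper3.KzPres.main Λ Q n' (N + n) α hα ε hε hKα
  have h2 := map_ringEquiv e.toRingEquiv _ h1
  have h3 : (RingHom.ker ε.toRingHom).map (e.toRingEquiv : _ →+* _) = RingHom.ker δ := by
    have h4 : RingHom.ker ε.toRingHom = (RingHom.ker δ).comap (e.toRingEquiv : _ →+* _) := by
      ext x
      simp only [RingHom.mem_ker, Ideal.mem_comap]
      rfl
    rw [h4]
    exact Ideal.map_comap_of_surjective _ e.surjective _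
  rw [h3] at h2
  exact h2

end PR

end Groth.Agent.Helper3.SyntSrc
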