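import Mathlib
import Groth.Agent.Helper3.SyntSrc4

set_option autoImplicit false
set_option linter.style.haveILetI false
set_option linter.unusedSectionVars false
set_option linter.unusedVariables false
set_option linter.deprecated false
set_option linter.style.haveILetI false
set_option linter.unusedSectionVars false
set_option linter.unusedVariables false

universe u v w

/-!
# Descent of the local complete intersection property along a relative global complete
intersection: the core case of a quotient of a polynomial ring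
-/

namespace Groth.Agent.Helper3.SyntSrc

open TensorProduct MvPolynomial Groth.Agent.Helper3.SyntLim Groth.Agent.Helper5.RelGCI
open Groth.Agent.Helper3.FFDesc Groth.Agent.Helper3.KzLoc Groth.Agent.Helper3.SmKregA
  Groth.Agent.Helper3.KzIdeal

theorem sub_one_mem_of_mk_eq_one {A : Type u} [CommRing A] (J : Ideal A) (x : A)
    (h : Ideal.Quotient.mk J x = 1) : x - 1 ∈ J := by
  rw [← Ideal.Quotient.eq_zero_iff_mem, map_sub, map_one, h, sub_self]

section snoc

variable (R : Type u) [CommRing R] (Rb : Type u) [CommRing Rb] [Algebra R Rb] (m c : ℕ)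
  (Gt : Fin c → MvPolynomial (Fin m) R) (h : MvPolynomial (Fin m) R)

theorem map_snocRel :
    (fun i => MvPolynomial.map (algebraMap R Rb) (snocRel R m c Gt h i)) =
      snocRel Rb m c (fun i => MvPolynomial.map (algebraMap R Rb) (Gt i))
        (MvPolynomial.map (algebraMap R Rb) h) := by
  funext i
  refine Fin.lastCases ?_ (fun j => ?_) i
  · simp only [snocRel, Fin.snoc_last, map_sub, map_mul, MvPolynomial.map_rename,
      MvPolynomial.map_X, map_one]
  · simp only [snocRel, Fin.snoc_castSucc, MvPolynomial.map_rename]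

/-- if `h` maps to `1`, adjoining an inverse of `h` changes nothing -/
theorem snocHom_bijective_of_eq_one
    (h1 : Ideal.Quotient.mk (Ideal.span (Set.range Gt)) h = 1) :
    Function.Bijective (snocHom R m c Gt h) := by
  letI : Algebra (Synt.RelGCIRing R m c Gt)
      (Synt.RelGCIRing R (m + 1) (c + 1) (snocRel R m c Gt h)) :=
    (snocHom R m c Gt h : Synt.RelGCIRing R m c Gt →+* _).toAlgebra
  haveI := isLocalization_snoc R m c Gt h
  exact (IsLocalization.atUnit (Synt.RelGCIRing R m c Gt)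
    (Synt.RelGCIRing R (m + 1) (c + 1) (snocRel R m c Gt h))
    (Ideal.Quotient.mk (Ideal.span (Set.range Gt)) h) (h1 ▸ isUnit_one)).bijective

end snoc

section core

variable (Λ : Type u) [CommRing Λ] (n : ℕ) (I : Ideal (MvPolynomial (Fin n) Λ)) (m c : ℕ)
  (Gt : Fin c → MvPolynomial (Fin m) (MvPolynomial (Fin n) Λ))

local notation "Rn" => MvPolynomial (Fin n) Λ
local notation "Rq" => (MvPolynomial (Fin n) Λ ⧸ I)

theorem p2core
    (hrel : Synt.IsRelGCI (MvPolynomial (Fin n) Λ ⧸ I) m c
      (fun i => MvPolynomial.map (algebraMap (MvPolynomial (Fin n) Λ) (MvPolynomial (Fin n) Λ ⧸ I))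
        (Gt i)))
    (hlci : LCI.IsLCI Λ (Synt.RelGCIRing (MvPolynomial (Fin n) Λ ⧸ I) m c
      (fun i => MvPolynomial.map (algebraMap (MvPolynomial (Fin n) Λ) (MvPolynomial (Fin n) Λ ⧸ I))
        (Gt i))))
    (𝔮 : Ideal (Synt.RelGCIRing (MvPolynomial (Fin n) Λ ⧸ I) m c
      (fun i => MvPolynomial.map (algebraMap (MvPolynomial (Fin n) Λ) (MvPolynomial (Fin n) Λ ⧸ I))
        (Gt i)))) [𝔮.IsPrime] :
    ∃ v : MvPolynomial (Fin n) Λ,
      algebraMap (MvPolynomial (Fin n) Λ ⧸ I) (Synt.RelGCIRing (MvPolynomial (Fin n) Λ ⧸ I) m c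
      (fun i => MvPolynomial.map (algebraMap (MvPolynomial (Fin n) Λ) (MvPolynomial (Fin n) Λ ⧸ I))
        (Gt i))) (Ideal.Quotient.mk I v) ∉ 𝔮 ∧
      LCI.IsKoszulRegularIdeal (I.map (algebraMap (MvPolynomial (Fin n) Λ) (Localization.Away v))) := by
  obtain ⟨h, hh1, hrelP, -⟩ := s9172 (MvPolynomial (Fin n) Λ) m c Gt I hrel
  -- notation
  let Gb : Fin c → MvPolynomial (Fin m) Rq := fun i => MvPolynomial.map (algebraMap Rn Rq) (Gt i)
  let hb : MvPolynomial (Fin m) Rq := MvPolynomial.map (algebraMap Rn Rq) h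
  let GP : Fin (c + 1) → MvPolynomial (Fin (m + 1)) Rn := snocRel Rn m c Gt h
  have hrelP' : Synt.IsRelGCI Rn (m + 1) (c + 1) GP := hrelP
  have hGPb : (fun i => MvPolynomial.map (algebraMap Rn Rq) (GP i)) = snocRel Rq m c Gb hb :=
    map_snocRel Rn Rq m c Gt h
  -- `h` maps to `1`
  have hhb : Ideal.Quotient.mk (Ideal.span (Set.range Gb)) hb = 1 := by
    have h2 : Ideal.Quotient.mk (Ideal.span (Set.range Gt)) h - 1 ∈
        RingHom.ker (bcHom Rn Rq m c Gt) := by
      rw [Groth.Agent.Helper5.LST.ker_bcHom_quot Rn m c Gt I]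
      exact sub_one_mem_of_mk_eq_one _ _ hh1
    rw [RingHom.mem_ker, map_sub, map_one, sub_eq_zero] at h2
    rw [← h2]
    exact (bcHom_mk Rn Rq m c Gt h).symm
  -- the isomorphism with the presentation with one more variable
  let Q := Synt.RelGCIRing Rq m c Gb
  let QP := Synt.RelGCIRing Rq (m + 1) (c + 1) (snocRel Rq m c Gb hb)
  let E : Q ≃ₐ[Rq] QP := AlgEquiv.ofBijective (snocHom Rq m c Gb hb)
    (snocHom_bijective_of_eq_one Rq m c Gb hb hhb)
  have hQP : LCI.IsLCI Λ QP :=
    Groth.Agent.Helper3.LciComp.isLCI_of_algEquiv Λ Q QP (E.restrictScalars Λ) hlci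
  -- the presentation of `QP` over `Λ`
  let μ : MvPolynomial (Fin (m + 1)) Rn →+* MvPolynomial (Fin (m + 1)) Rq :=
    MvPolynomial.map (algebraMap Rn Rq)
  have hμ : Function.Surjective μ := MvPolynomial.map_surjective _ Ideal.Quotient.mk_surjective
  let δ : MvPolynomial (Fin (m + 1)) Rn →+* QP :=
    (Ideal.Quotient.mk (Ideal.span (Set.range (snocRel Rq m c Gb hb)))).comp μ
  have hδ : Function.Surjective δ := Ideal.Quotient.mk_surjective.comp hμ
  have hδC : ∀ r : Rn, δ (C r) = algebraMap Rq QP (Ideal.Quotient.mk I r) := by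
    intro r
    show Ideal.Quotient.mk _ (MvPolynomial.map (algebraMap Rn Rq) (C r)) = _
    rw [MvPolynomial.map_C]
    rfl
  have hδalg : ∀ a : Λ, δ (C (C a)) = algebraMap Λ QP a := by
    intro a
    rw [hδC, IsScalarTower.algebraMap_apply Λ Rq QP]
    rfl
  have hJ : LCI.IsKoszulRegularIdeal (RingHom.ker δ) :=
    kreg_ker_of_isLCI Λ QP hQP n (m + 1) δ hδ hδalg
  have hKS : LCI.IsKoszulRegularIdeal
      (I.map (algebraMap Rn (Synt.RelGCIRing Rn (m + 1) (c + 1) GP))) := by
    refine map_kreg_of_comp Rn I (m + 1) (c + 1) GP hrelP' ?_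
    rw [hGPb]
    exact hJ
  -- a prime of `S`
  let S := Synt.RelGCIRing Rn (m + 1) (c + 1) GP
  let θ : S →+* Q := Ideal.Quotient.lift (Ideal.span (Set.range GP))
    ((E.symm : QP →+* Q).comp δ) (by
      intro a ha
      have hle : Ideal.span (Set.range GP) ≤ RingHom.ker ((E.symm : QP →+* Q).comp δ) := by
        rw [Ideal.span_le]
        rintro _ ⟨i, rfl⟩
        show E.symm (δ (GP i)) = 0
        have : δ (GP i) = 0 := by
          show Ideal.Quotient.mk _ (MvPolynomial.map (algebraMap Rn Rq) (GP i)) = 0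
          rw [congrFun hGPb i]
          exact Ideal.Quotient.eq_zero_iff_mem.2 (Ideal.subset_span (Set.mem_range_self i))
        rw [this, map_zero]
      exact hle ha)
  have hθ : ∀ r : Rn, θ (algebraMap Rn S r) = algebraMap Rq Q (Ideal.Quotient.mk I r) := by
    intro r
    show E.symm (δ (C r)) = _
    rw [hδC, E.symm.commutes]
  haveI : Module.Flat Rn S := Groth.Agent.Helper5.RelGCI.flat Rn (m + 1) (c + 1) GP hrelP'
  haveI : Algebra.FinitePresentation Rn S := (s9147 Rn (m + 1) (c + 1) GP hrelP').2.1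
  haveI : (𝔮.comap θ).IsPrime := Ideal.comap_isPrime θ 𝔮
  obtain ⟨v, hv, hvK⟩ := kreg_descent_local (R := Rn) (S := S) I hKS (𝔮.comap θ)
  refine ⟨v, ?_, hvK⟩
  rw [← hθ]
  exact hv

end core

end Groth.Agent.Helper3.SyntSrc
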