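import Mathlib
import Groth.Agent.Helper3.SyntSrc5
import Groth.Agent.Helper5.SmSynt1

set_option autoImplicit false
set_option linter.style.haveILetI false
set_option linter.unusedSectionVars false
set_option linter.unusedVariables false
set_option linter.deprecated false
set_option linter.style.haveILetI false
set_option linter.unusedSectionVars false
set_option linter.unusedVariables false

universe u v w

/-!
# From a Koszul-regular localized kernel to a local complete intersection localization
-/

namespace Groth.Agent.Helper3.SyntSrc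

open TensorProduct MvPolynomial Groth.Agent.Helper3.SyntLim Groth.Agent.Helper5.RelGCI
open Groth.Agent.Helper3.FFDesc Groth.Agent.Helper3.KzLoc Groth.Agent.Helper3.SmKregA
  Groth.Agent.Helper3.KzIdeal

theorem isStandardSmooth_mvPolynomial (Λ : Type u) [CommRing Λ] (n : ℕ) :
    Algebra.IsStandardSmooth Λ (MvPolynomial (Fin n) Λ) :=
  Algebra.IsStandardSmooth.of_basis_kaehlerDifferential
    (KaehlerDifferential.mvPolynomialBasis Λ (Fin n)) (by
      rintro _ ⟨i, rfl⟩
      exact ⟨X i, (KaehlerDifferential.mvPolynomialBasis_apply Λ (Fin n) i).symm⟩)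

theorem isLCI_away_mvPolynomial (Λ : Type u) [CommRing Λ] (n : ℕ) (v : MvPolynomial (Fin n) Λ) :
    LCI.IsLCI Λ (Localization.Away v) := by
  haveI := isStandardSmooth_mvPolynomial Λ n
  haveI : Algebra.IsStandardSmooth (MvPolynomial (Fin n) Λ) (Localization.Away v) :=
    Algebra.IsStandardSmooth.localization_away v
  haveI : Algebra.IsStandardSmooth Λ (Localization.Away v) :=
    Algebra.IsStandardSmooth.trans Λ (MvPolynomial (Fin n) Λ) (Localization.Away v)
  exact Groth.Agent.Helper5.LciS.isLCI_of_isSyntomic Λ _
    (Groth.Agent.Helper5.SmSynt.isSyntomic_of_isStandardSmooth Λ (Localization.Away v))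

section F

variable (Λ B : Type u) [CommRing Λ] [CommRing B] [Algebra Λ B] (n : ℕ)
  (α : MvPolynomial (Fin n) Λ →ₐ[Λ] B) (hα : Function.Surjective α) (v : MvPolynomial (Fin n) Λ)

include hα in
theorem isLCI_away_of_kreg
    (hK : LCI.IsKoszulRegularIdeal
      ((RingHom.ker α.toRingHom).map (algebraMap _ (Localization.Away v)))) :
    LCI.IsLCI Λ (Localization.Away (α v)) := by
  let Rv := Localization.Away v
  let T := Localization.Away (α v)
  haveI : IsLocalization.Away (α.toRingHom v) T :=
    (inferInstance : IsLocalization.Away (α v) (Localization.Away (α v)))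
  let φ : Rv →+* T := IsLocalization.Away.map Rv T α.toRingHom v
  have hφ : Function.Surjective φ := awayMap_surjective α.toRingHom hα v Rv T
  have hkerφ : RingHom.ker φ = (RingHom.ker α.toRingHom).map (algebraMap _ Rv) :=
    ker_awayMap α.toRingHom v Rv T
  letI : Algebra Rv T := φ.toAlgebra
  haveI : IsScalarTower Λ Rv T := IsScalarTower.of_algebraMap_eq fun a => by
    show _ = φ (algebraMap Λ Rv a)
    rw [IsScalarTower.algebraMap_apply Λ (MvPolynomial (Fin n) Λ) Rv]
    have h1 : φ (algebraMap (MvPolynomial (Fin n) Λ) Rv (algebraMap Λ _ a)) =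
        algebraMap B T (α.toRingHom (algebraMap Λ _ a)) := IsLocalization.map_eq _ _
    rw [h1]
    show _ = algebraMap B T (α (algebraMap Λ _ a))
    rw [α.commutes, ← IsScalarTower.algebraMap_apply]
  have h1 : LCI.IsLCI Λ Rv := isLCI_away_mvPolynomial Λ n v
  have h2 : LCI.IsLCI Rv T := by
    have hft : Algebra.FiniteType Rv T :=
      RingHom.finiteType_algebraMap.1 (RingHom.FiniteType.of_surjective φ hφ)
    let β : MvPolynomial (Fin 0) Rv →ₐ[Rv] T :=
      (Algebra.ofId Rv T).comp (MvPolynomial.isEmptyAlgEquiv Rv (Fin 0)).toAlgHom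
    have hβ : Function.Surjective β := hφ.comp (MvPolynomial.isEmptyAlgEquiv Rv (Fin 0)).surjective
    refine ⟨hft, 0, β, hβ, ?_⟩
    have hkerβ : RingHom.ker β.toRingHom = (RingHom.ker φ).map
        ((MvPolynomial.isEmptyAlgEquiv Rv (Fin 0)).toRingEquiv.symm : _ →+* _) := by
      rw [Ideal.map_coe, Ideal.map_symm]
      ext x
      simp only [RingHom.mem_ker, Ideal.mem_comap]
      rfl
    rw [hkerβ]
    refine map_ringEquiv _ _ ?_
    rw [hkerφ]
    exact hK
  exact Groth.Agent.Helper3.LciComp.isLCI_comp Λ Rv T h1 h2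

end F

end Groth.Agent.Helper3.SyntSrc
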