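import Mathlib
import Groth.Agent.Helper3.SyntSrc6

set_option autoImplicit false
set_option linter.style.haveILetI false
set_option linter.unusedSectionVars false
set_option linter.unusedVariables false
set_option linter.deprecated false
set_option linter.style.haveILetI false
set_option linter.unusedSectionVars false
set_option linter.unusedVariables false

universe u v w

/-!
# Descent of finite type and of the local complete intersection property along a standard
syntomic algebra, locally on the source: ring-level statements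
-/

namespace Groth.Agent.Helper3.SyntSrc

open TensorProduct MvPolynomial Groth.Agent.Helper3.SyntLim Groth.Agent.Helper5.RelGCI
open Groth.Agent.Helper5.SM

section P2

variable (Λ B : Type u) [CommRing Λ] [CommRing B] [Algebra Λ B]

theorem p2 (hft : Algebra.FiniteType Λ B) (m c : ℕ)
    (G : Fin c → MvPolynomial (Fin m) B) (hG : Synt.IsRelGCI B m c G)
    (hlci : LCI.IsLCI Λ (Synt.RelGCIRing B m c G))
    (𝔮 : Ideal (Synt.RelGCIRing B m c G)) [𝔮.IsPrime] :
    ∃ b : B, algebraMap B (Synt.RelGCIRing B m c G) b ∉ 𝔮 ∧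
      LCI.IsLCI Λ (Localization.Away b) := by
  obtain ⟨n, α, hα⟩ := Algebra.FiniteType.iff_quotient_mvPolynomial''.mp hft
  let I : Ideal (MvPolynomial (Fin n) Λ) := RingHom.ker α.toRingHom
  let ε : (MvPolynomial (Fin n) Λ ⧸ I) ≃ₐ[Λ] B := Ideal.quotientKerAlgEquivOfSurjective hα
  have hε : ∀ r, ε (Ideal.Quotient.mk I r) = α r := fun r => rfl
  choose Gt hGt using fun i => MvPolynomial.map_surjective (σ := Fin m) α.toRingHom hα (G i)
  let Gb : Fin c → MvPolynomial (Fin m) (MvPolynomial (Fin n) Λ ⧸ I) :=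
    fun i => MvPolynomial.map (algebraMap (MvPolynomial (Fin n) Λ) (MvPolynomial (Fin n) Λ ⧸ I))
      (Gt i)
  have hcomp : ((ε : (MvPolynomial (Fin n) Λ ⧸ I) →+* B)).comp
      (algebraMap (MvPolynomial (Fin n) Λ) (MvPolynomial (Fin n) Λ ⧸ I)) = α.toRingHom :=
    RingHom.ext fun r => hε r
  have hmapε : ∀ i, MvPolynomial.map (ε : (MvPolynomial (Fin n) Λ ⧸ I) →+* B) (Gb i) = G i := by
    intro i
    show MvPolynomial.map _ (MvPolynomial.map _ (Gt i)) = G i
    rw [MvPolynomial.map_map, hcomp]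
    exact hGt i
  -- the isomorphism of the presented algebras
  have hIJ : Ideal.span (Set.range G) = (Ideal.span (Set.range Gb)).map
      ((MvPolynomial.mapAlgEquiv (Fin m) ε : MvPolynomial (Fin m) (MvPolynomial (Fin n) Λ ⧸ I)
        ≃ₐ[Λ] MvPolynomial (Fin m) B) : _ →+* _) := by
    rw [Ideal.map_span, ← Set.range_comp]
    congr 2
    funext i
    exact (hmapε i).symm
  let Θ : Synt.RelGCIRing (MvPolynomial (Fin n) Λ ⧸ I) m c Gb ≃ₐ[Λ] Synt.RelGCIRing B m c G :=
    Ideal.quotientEquivAlg _ _ (MvPolynomial.mapAlgEquiv (Fin m) ε) hIJ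
  have hΘalg : ∀ x : MvPolynomial (Fin n) Λ ⧸ I,
      Θ (algebraMap _ (Synt.RelGCIRing (MvPolynomial (Fin n) Λ ⧸ I) m c Gb) x) =
        algebraMap B (Synt.RelGCIRing B m c G) (ε x) := by
    intro x
    show Θ (Ideal.Quotient.mk _ (C x)) = Ideal.Quotient.mk _ (C (ε x))
    show Ideal.Quotient.mk _ (MvPolynomial.mapAlgEquiv (Fin m) ε (C x)) = _
    rw [MvPolynomial.mapAlgEquiv_apply, MvPolynomial.map_C]
    rfl
  have hrel : Synt.IsRelGCI (MvPolynomial (Fin n) Λ ⧸ I) m c Gb := by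
    letI : Algebra B (MvPolynomial (Fin n) Λ ⧸ I) := (ε.symm : B →+* _).toAlgebra
    have h1 := isRelGCI_bc B (MvPolynomial (Fin n) Λ ⧸ I) m c G hG
    have h2 : (fun i => MvPolynomial.map (algebraMap B (MvPolynomial (Fin n) Λ ⧸ I)) (G i)) =
        Gb := by
      funext i
      rw [← hmapε i, MvPolynomial.map_map]
      have : (algebraMap B (MvPolynomial (Fin n) Λ ⧸ I)).comp
          (ε : (MvPolynomial (Fin n) Λ ⧸ I) →+* B) = RingHom.id _ :=
        RingHom.ext fun y => ε.symm_apply_apply y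
      rw [this, MvPolynomial.map_id]
    rw [h2] at h1
    exact h1
  have hlci' : LCI.IsLCI Λ (Synt.RelGCIRing (MvPolynomial (Fin n) Λ ⧸ I) m c Gb) :=
    Groth.Agent.Helper3.LciComp.isLCI_of_algEquiv Λ _ _ Θ.symm hlci
  let θ : Synt.RelGCIRing (MvPolynomial (Fin n) Λ ⧸ I) m c Gb →+* Synt.RelGCIRing B m c G :=
    Θ.toRingEquiv.toRingHom
  haveI : (𝔮.comap θ).IsPrime := Ideal.comap_isPrime _ 𝔮
  obtain ⟨v, hv, hvK⟩ := p2core Λ n I m c Gt hrel hlci' (𝔮.comap θ)
  refine ⟨α v, ?_, isLCI_away_of_kreg Λ B n α hα v hvK⟩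
  rw [← hε, ← hΘalg]
  exact hv

end P2

section wrappers

variable (Λ B C : Type u) [CommRing Λ] [CommRing B] [CommRing C] [Algebra Λ B] [Algebra B C]
  [Algebra Λ C] [IsScalarTower Λ B C]

theorem stdSynt_transport (h : StdSynt (algebraMap B C)) :
    ∃ (m c : ℕ) (G : Fin c → MvPolynomial (Fin m) B), Synt.IsRelGCI B m c G ∧
      ∃ e : C ≃ₐ[Λ] Synt.RelGCIRing B m c G,
        ∀ b, e (algebraMap B C b) = algebraMap B (Synt.RelGCIRing B m c G) b := by
  obtain ⟨m, c, G, hG, e, he⟩ := h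
  refine ⟨m, c, G, hG, AlgEquiv.ofRingEquiv (f := e) (fun a => ?_), he⟩
  rw [IsScalarTower.algebraMap_apply Λ B C, he,
    ← IsScalarTower.algebraMap_apply Λ B (Synt.RelGCIRing B m c G)]

theorem p1' (h : StdSynt (algebraMap B C)) (hft : Algebra.FiniteType Λ C) (𝔮 : Ideal C)
    [𝔮.IsPrime] :
    ∃ b : B, algebraMap B C b ∉ 𝔮 ∧ Algebra.FiniteType Λ (Localization.Away b) := by
  obtain ⟨m, c, G, hG, e, he⟩ := stdSynt_transport Λ B C h
  haveI : (𝔮.comap (e.symm : Synt.RelGCIRing B m c G →+* C)).IsPrime := Ideal.comap_isPrime _ 𝔮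
  obtain ⟨b, hb, hbft⟩ := p1core Λ B m c G hG (hft.equiv e)
    (𝔮.comap (e.symm : Synt.RelGCIRing B m c G →+* C))
  refine ⟨b, fun hmem => hb ?_, hbft⟩
  show e.symm (algebraMap B _ b) ∈ 𝔮
  rw [← he, e.symm_apply_apply]
  exact hmem

theorem p2' (h : StdSynt (algebraMap B C)) (hft : Algebra.FiniteType Λ B) (hlci : LCI.IsLCI Λ C)
    (𝔮 : Ideal C) [𝔮.IsPrime] :
    ∃ b : B, algebraMap B C b ∉ 𝔮 ∧ LCI.IsLCI Λ (Localization.Away b) := by
  obtain ⟨m, c, G, hG, e, he⟩ := stdSynt_transport Λ B C h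
  haveI : (𝔮.comap (e.symm : Synt.RelGCIRing B m c G →+* C)).IsPrime := Ideal.comap_isPrime _ 𝔮
  obtain ⟨b, hb, hblci⟩ := p2 Λ B hft m c G hG
    (Groth.Agent.Helper3.LciComp.isLCI_of_algEquiv Λ C _ e hlci)
    (𝔮.comap (e.symm : Synt.RelGCIRing B m c G →+* C))
  refine ⟨b, fun hmem => hb ?_, hblci⟩
  show e.symm (algebraMap B _ b) ∈ 𝔮
  rw [← he, e.symm_apply_apply]
  exact hmem

end wrappers

end Groth.Agent.Helper3.SyntSrc
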