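import Mathlib
import Groth.Agent.Helper3.SyntSrc7
import Groth.Agent.Helper3.KosBridgeD
import Groth.Agent.Helper5.SM7
import Groth.Agent.Helper5.LciS7

set_option autoImplicit false
set_option linter.style.haveILetI false
set_option linter.unusedSectionVars false
set_option linter.unusedVariables false
set_option linter.deprecated false
set_option linter.style.haveILetI false
set_option linter.unusedSectionVars false
set_option linter.unusedVariables false

universe u v w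

/-!
# Local complete intersection morphisms are syntomic-local on the source
-/

namespace Groth.Agent.Helper3.SyntSrc

open CategoryTheory Limits AlgebraicGeometry TopologicalSpace
open Groth.Agent.Helper5.SM

variable {X' X Y : Scheme.{u}}

theorem mem_basicOpen_iff {X : Scheme.{u}} {U : X.Opens} (hU : IsAffineOpen U) (x : X)
    (hx : x ∈ U) (s : Γ(X, U)) :
    x ∈ X.basicOpen s ↔ s ∉ (hU.primeIdealOf ⟨x, hx⟩).asIdeal := by
  have h1 : hU.fromSpec (hU.primeIdealOf ⟨x, hx⟩) = x := hU.fromSpec_primeIdealOf ⟨x, hx⟩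
  have h2 := hU.fromSpec_preimage_basicOpen s
  constructor
  · intro h
    have h3 : hU.primeIdealOf ⟨x, hx⟩ ∈ hU.fromSpec ⁻¹ᵁ X.basicOpen s := by
      show hU.fromSpec _ ∈ X.basicOpen s
      rw [h1]
      exact h
    rw [h2] at h3
    exact h3
  · intro h
    have h3 : hU.primeIdealOf ⟨x, hx⟩ ∈ hU.fromSpec ⁻¹ᵁ X.basicOpen s := by
      rw [h2]
      exact h
    have h4 : hU.fromSpec (hU.primeIdealOf ⟨x, hx⟩) ∈ X.basicOpen s := h3
    rwa [h1] at h4

/-- one round of shrinking: a ring-level statement for standard syntomic algebras over the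
sections over an affine open gives a basic open neighbourhood with the wanted property -/
theorem round (g : X' ⟶ X) (hg : Synt.IsSyntomicMor g) (f : X ⟶ Y)
    (h : ∀ x' : X', Synt.IsKoszulAt (g ≫ f) x') (x' : X')
    {V : Y.Opens} (hV : IsAffineOpen V) {U : X.Opens} (hU : IsAffineOpen U)
    (hUV : U ≤ f ⁻¹ᵁ V) (hxU : g x' ∈ U)
    (Q : ∀ (T : Type u) [CommRing T] [Algebra Γ(Y, V) T], Prop)
    (hQ : ∀ (T T' : Type u) [CommRing T] [CommRing T'] [Algebra Γ(Y, V) T] [Algebra Γ(Y, V) T']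
      (e : T ≃ₐ[Γ(Y, V)] T'), Q T → Q T')
    (ring : letI := (f.appLE V U hUV).hom.toAlgebra
      ∀ (C : Type u) [CommRing C] [Algebra Γ(X, U) C] [Algebra Γ(Y, V) C]
        [IsScalarTower Γ(Y, V) Γ(X, U) C], StdSynt (algebraMap Γ(X, U) C) →
        LCI.IsLCI Γ(Y, V) C → ∀ (𝔮 : Ideal C) [𝔮.IsPrime],
          ∃ b : Γ(X, U), algebraMap Γ(X, U) C b ∉ 𝔮 ∧ Q (Localization.Away b)) :
    ∃ b : Γ(X, U), g x' ∈ X.basicOpen b ∧
      (letI := (f.appLE V (X.basicOpen b) ((X.basicOpen_le b).trans hUV)).hom.toAlgebra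
       Q Γ(X, X.basicOpen b)) := by
  obtain ⟨W, eW, hxW, hW⟩ := exists_affine_syntHom g x' ⟨U, hU⟩ hxU (hg x')
  obtain ⟨U', e', hxU', hstd⟩ := exists_basicOpen_stdSynt g x' ⟨U, hU⟩ W eW hxW hW
  have hU'V : U'.1 ≤ (g ≫ f) ⁻¹ᵁ V := fun y hy => hUV (e' hy)
  letI algB := (f.appLE V U hUV).hom.toAlgebra
  letI algC := (g.appLE U U'.1 e').hom.toAlgebra
  letI algΛC := ((g ≫ f).appLE V U'.1 hU'V).hom.toAlgebra
  haveI : IsScalarTower Γ(Y, V) Γ(X, U) Γ(X', U'.1) := by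
    refine IsScalarTower.of_algebraMap_eq' ?_
    have := Scheme.Hom.appLE_comp_appLE g f V U U'.1 hUV e'
    exact congr($(this.symm).hom)
  have hlci : LCI.IsLCI Γ(Y, V) Γ(X', U'.1) :=
    Groth.Agent.Helper3.KosBridgeC.isLCI_of_isKoszulAt (g ≫ f) h U'.1 V U'.2 hV hU'V
  obtain ⟨b, hb, hQb⟩ := ring Γ(X', U'.1) hstd hlci (U'.2.primeIdealOf ⟨x', hxU'⟩).asIdeal
  have hxb : g x' ∈ X.basicOpen b := by
    rw [mem_basicOpen_iff hU (g x') hxU]
    have h1 := IsAffineOpen.comap_primeIdealOf_appLE (f := g) (x := x') U hU U'.1 U'.2 e' hxU'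
    rw [← h1]
    exact hb
  refine ⟨b, hxb, ?_⟩
  letI algD := (f.appLE V (X.basicOpen b) ((X.basicOpen_le b).trans hUV)).hom.toAlgebra
  haveI := hU.isLocalization_basicOpen b
  haveI : IsScalarTower Γ(Y, V) Γ(X, U) Γ(X, X.basicOpen b) := by
    refine IsScalarTower.of_algebraMap_eq' ?_
    have := Scheme.Hom.appLE_map f hUV (homOfLE (X.basicOpen_le b)).op
    exact congr($(this.symm).hom)
  let e : Γ(X, X.basicOpen b) ≃ₐ[Γ(X, U)] Localization.Away b :=
    IsLocalization.algEquiv (Submonoid.powers b) _ _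
  exact hQ _ _ (e.restrictScalars Γ(Y, V)).symm hQb

/-- **descent along a syntomic morphism on the source** -/
theorem isKoszulAt_of_comp (g : X' ⟶ X) (hg : Synt.IsSyntomicMor g) (f : X ⟶ Y)
    (h : ∀ x' : X', Synt.IsKoszulAt (g ≫ f) x') (x' : X') : Synt.IsKoszulAt f (g x') := by
  obtain ⟨_, ⟨V, hV : IsAffineOpen V, rfl⟩, hxV, -⟩ :=
    Y.isBasis_affineOpens.exists_subset_of_mem_open (Set.mem_univ (f (g x'))) isOpen_univ
  obtain ⟨_, ⟨U, hU : IsAffineOpen U, rfl⟩, hxU, hUV⟩ :=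
    X.isBasis_affineOpens.exists_subset_of_mem_open (show g x' ∈ f ⁻¹ᵁ V from hxV)
      (f ⁻¹ᵁ V).isOpen
  have hUV' : U ≤ f ⁻¹ᵁ V := hUV
  -- first round: finite type
  obtain ⟨b₁, hxb₁, hft₁⟩ := round g hg f h x' hV hU hUV' hxU
    (fun T _ _ => Algebra.FiniteType Γ(Y, V) T)
    (fun T T' _ _ _ _ e hT => hT.equiv e)
    (by
      letI := (f.appLE V U hUV').hom.toAlgebra
      intro C _ _ _ _ hstd hlci 𝔮 _
      exact p1' Γ(Y, V) Γ(X, U) C hstd hlci.1 𝔮)
  -- second round: local complete intersection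
  have hU₁V : X.basicOpen b₁ ≤ f ⁻¹ᵁ V := (X.basicOpen_le b₁).trans hUV'
  obtain ⟨b₂, hxb₂, hlci₂⟩ := round g hg f h x' hV (hU.basicOpen b₁) hU₁V hxb₁
    (fun T _ _ => LCI.IsLCI Γ(Y, V) T)
    (fun T T' _ _ _ _ e hT => Groth.Agent.Helper3.LciComp.isLCI_of_algEquiv Γ(Y, V) T T' e hT)
    (by
      letI := (f.appLE V (X.basicOpen b₁) hU₁V).hom.toAlgebra
      intro C _ _ _ _ hstd hlci 𝔮 _
      exact p2' Γ(Y, V) Γ(X, X.basicOpen b₁) C hstd hft₁ hlci 𝔮)
  exact Groth.Agent.Helper3.KosBridgeC.isKoszulAt_of_isLCI f (X.basicOpen b₂) V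
    ((hU.basicOpen b₁).basicOpen b₂) hV ((X.basicOpen_le b₂).trans hU₁V) hlci₂ (g x') hxb₂

/-- **S9730** -/
theorem s9730 (g : X' ⟶ X) (hg : Synt.IsSyntomicMor g) [Surjective g] (f : X ⟶ Y) :
    (∀ x' : X', Synt.IsKoszulAt (g ≫ f) x') ↔ (∀ x : X, Synt.IsKoszulAt f x) := by
  constructor
  · intro h x
    obtain ⟨x', rfl⟩ := g.surjective x
    exact isKoszulAt_of_comp g hg f h x'
  · intro h
    exact Groth.Agent.Helper3.KosBridgeD.s8661 g f
      ((Groth.Agent.Helper5.LciS.s9758 g).mpr hg).2 h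

end Groth.Agent.Helper3.SyntSrc
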