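import Mathlib
import Groth.Prelude.Def_AlgSpMor6
import Groth.Agent.Helper4.AlgSpLocP
import Groth.Agent.Helper4.AlgSpLocP2
import Groth.Agent.Helper3.AlgLci1
import Groth.Agent.Helper3.SmKregG
import Groth.Agent.Helper3.SyntSrc8

set_option autoImplicit false
set_option linter.style.haveILetI false
set_option linter.unusedSectionVars false
set_option linter.unusedVariables false
set_option linter.deprecated false
set_option linter.style.haveILetI false
set_option linter.unusedSectionVars false
set_option linter.unusedVariables false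
universe u
open CategoryTheory CategoryTheory.Limits AlgebraicGeometry Opposite

namespace Groth.Agent.Helper3.AlgLci

open AlgSp

variable {S : Scheme.{u}}

/-- `lci` is local on the source for étale surjective maps. -/
theorem lci_of_etale_surjective_comp {X' X Y : Scheme.{u}} (g : X' ⟶ X) [Etale g] [Surjective g]
    (f : X ⟶ Y) (h : AlgSp.lci (g ≫ f)) : AlgSp.lci f :=
  (Groth.Agent.Helper3.SyntSrc.s9730 g (Groth.Agent.Helper5.SmSynt.s9699 g) f).1 h

/-- cancel smooth on the right -/
theorem lci_of_comp_smooth {X Y Z : Scheme.{u}} (f : X ⟶ Y) (g : Y ⟶ Z) [Smooth g]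
    (h : AlgSp.lci (f ≫ g)) : AlgSp.lci f :=
  fun x => Groth.Agent.Helper3.SmKregG.s9729 f g h x

theorem s10666 {X Y Z : AlgSp.Sp S} (hZ : IsAlgSpace Z) (f : X ⟶ Y) (p : X ⟶ Z) (q : Y ⟶ Z)
    (hc : f ≫ q = p) (hq : AlgSp.LocP @Smooth q) (hp : AlgSp.IsLCIMor p) :
    AlgSp.IsLCIMor f := by
  intro U V a b h ha hb comm
  obtain ⟨T, c, hce, hcs⟩ := hZ.atlas
  have hr := hce.rep
  have hpb : IsPullback (hr.fst (b ≫ q)) ((yon S).map (hr.snd (b ≫ q))) c (b ≫ q) :=
    hr.isPullback _
  obtain ⟨d, hd⟩ := (yon S).map_surjective (hr.fst (b ≫ q))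
  rw [← hd] at hpb
  have hee : Etale (hr.snd (b ≫ q)).left := hce.property _ _ _ hpb
  have hes : Surjective (hr.snd (b ≫ q)).left := hcs.property _ _ _ hpb
  generalize hr.snd (b ≫ q) = e at hpb hee hes
  have hU' : IsPullback (pullback.fst h e) (pullback.snd h e) h e := IsPullback.of_hasPullback _ _
  have h1 : IsPullback (pullback.snd h e).left (pullback.fst h e).left e.left h.left :=
    hU'.flip.map (Over.forget S)
  have hfe : Etale (pullback.fst h e).left := MorphismProperty.of_isPullback h1 hee
  have hfs : Surjective (pullback.fst h e).left := MorphismProperty.of_isPullback h1 hes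
  have hd_sm : Smooth d.left :=
    hq ((yon S).map e ≫ b) c d
      (Groth.Agent.Helper4.AlgSpSrc.repWith_comp _ ((repWith_yon_map_iff _ _).2 hee) hb) hce
      (by rw [Category.assoc]; exact hpb.w.symm)
  have hlci1 : AlgSp.lci (pullback.snd h e ≫ d).left :=
    hp ((yon S).map (pullback.fst h e) ≫ a) c (pullback.snd h e ≫ d)
      (Groth.Agent.Helper4.AlgSpSrc.repWith_comp _ ((repWith_yon_map_iff _ _).2 hfe) ha) hce
      (by
        rw [Category.assoc, ← hc, ← Category.assoc a, comm, Functor.map_comp, Category.assoc,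
          Category.assoc, hpb.w, ← Category.assoc ((yon S).map _) ((yon S).map _),
          ← Functor.map_comp, hU'.w, Functor.map_comp, Category.assoc])
  rw [Over.comp_left] at hlci1
  have hlci2 : AlgSp.lci (pullback.snd h e).left := lci_of_comp_smooth _ d.left hlci1
  have hlci3 : AlgSp.lci ((pullback.snd h e).left ≫ e.left) :=
    lci_comp _ _ hlci2 (lci_of_smooth _)
  rw [h1.w] at hlci3
  exact lci_of_etale_surjective_comp _ _ hlci3

end Groth.Agent.Helper3.AlgLci
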