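import Mathlib
import Groth.Prelude.Def_RegImm
import Groth.Agent.Helper3.FFDescS2
import Groth.Agent.Helper3.FFDescK

set_option autoImplicit false
set_option linter.style.haveILetI false
set_option linter.unusedSectionVars false
set_option linter.unusedVariables false
set_option linter.deprecated false
set_option linter.style.haveILetI false
set_option linter.unusedSectionVars false
set_option linter.unusedVariables false

/-!
# descent of regular immersions along flat surjective open maps (no quasi-compactness)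
-/

namespace Groth.Agent.Helper3.FFDescS
open CategoryTheory Limits AlgebraicGeometry TopologicalSpace
open Groth.Agent.Helper3.FFDesc Groth.Agent.Lead

universe u

variable (C : RegClass.{u}) (k : RegImm.Kind)
  (hk : ∀ (R : Type u) [CommRing R] (l : List R), k.Seq R l ↔ C.P R l)

section cover
variable {X X' : Scheme.{u}}

/-- a finite family of affine opens of the inverse image of an affine open under a surjective
open map, whose images cover -/
theorem exists_cover_open (g : X' ⟶ X) [Surjective g] (hg : IsOpenMap g) (U : X.Opens)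
    (hU : IsAffineOpen U) :
    ∃ (n : ℕ) (U' : Fin n → X'.Opens), (∀ j, IsAffineOpen (U' j)) ∧ (∀ j, U' j ≤ g ⁻¹ᵁ U) ∧
      ∀ x : X, x ∈ U → ∃ j, ∃ x' : X', x' ∈ U' j ∧ g x' = x := by
  let ι := {W : X'.affineOpens // W.1 ≤ g ⁻¹ᵁ U}
  have hcov : (U : Set X) ⊆ ⋃ W : ι, g '' (W.1.1 : Set X') := by
    intro x hx
    obtain ⟨x', rfl⟩ := g.surjective x
    obtain ⟨_, ⟨W, hW : IsAffineOpen W, rfl⟩, hxW, hWle⟩ :=
      X'.isBasis_affineOpens.exists_subset_of_mem_open (show x' ∈ g ⁻¹ᵁ U from hx)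
        (g ⁻¹ᵁ U).isOpen
    exact Set.mem_iUnion.2 ⟨⟨⟨W, hW⟩, hWle⟩, x', hxW, rfl⟩
  obtain ⟨t, ht⟩ := hU.isCompact.elim_finite_subcover (fun W : ι => g '' (W.1.1 : Set X'))
    (fun W => hg _ W.1.1.isOpen) hcov
  obtain ⟨n, ⟨e⟩⟩ := Finite.exists_equiv_fin t
  refine ⟨n, fun j => ((e.symm j).1.1 : X'.Opens), fun j => (e.symm j).1.1.2,
    fun j => (e.symm j).1.2, fun x hx => ?_⟩
  obtain ⟨W, hWt, x', hx'W, rfl⟩ := Set.mem_iUnion₂.1 (ht hx)
  refine ⟨e ⟨W, hWt⟩, x', ?_, rfl⟩
  show x' ∈ ((e.symm (e ⟨W, hWt⟩)).1.1 : X'.Opens)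
  rw [Equiv.symm_apply_apply]
  exact hx'W

end cover

section main
variable {X Y X' Y' : Scheme.{u}}

include hk in
theorem descent_chart_open (i : Y ⟶ X) (g : X' ⟶ X) [Flat g] [Surjective g] (hg : IsOpenMap g)
    (i' : Y' ⟶ X') (g' : Y' ⟶ Y) (hsq : IsPullback g' i' i g)
    (hi' : RegImm.IsRegularImmersion k i') (U : X.Opens) (hU : IsAffineOpen U)
    [IsClosedImmersion (i ∣_ U)] : LocGen C (RingHom.ker (i.app U).hom) := by
  obtain ⟨n, U', hU', hle, hcov⟩ := exists_cover_open g hg U hU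
  refine main_family C (fun j => Γ(X', U' j)) (fun j => (g.appLE U (U' j) (hle j)).hom) _
    (fun j => ?_) (fun 𝔭 => ?_) (fun j => ?_)
  · exact HasRingHomProperty.appLE (P := @Flat) g inferInstance ⟨U, hU⟩ ⟨U' j, hU' j⟩ (hle j)
  · obtain ⟨j, x', hj, hx'⟩ := hcov (hU.fromSpec 𝔭) (fromSpec_mem hU 𝔭)
    refine ⟨j, (hU' j).primeIdealOf ⟨x', hj⟩, ?_⟩
    have h1 := IsAffineOpen.comap_primeIdealOf_appLE (f := g) U hU (U' j) (hU' j) (hle j) hj
    rw [h1]
    have h2 : hU.primeIdealOf ⟨g x', hle j hj⟩ = hU.primeIdealOf ⟨hU.fromSpec 𝔭, fromSpec_mem hU 𝔭⟩ := by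
      congr 1
      exact Subtype.ext hx'
    rw [h2, primeIdealOf_fromSpec]
  · obtain ⟨hcl, hker⟩ := RelBCb.baseChange_chart' i g i' g' hsq U hU (U' j) (hU' j) (hle j)
    haveI := hcl
    rw [← hker]
    exact locGen_of_regImm C k hk i' hi' (U' j) (hU' j)

include hk in
/-- descent of regular immersions along flat surjective open maps -/
theorem main_open (i : Y ⟶ X) [IsImmersion i] (g : X' ⟶ X) [Flat g] [Surjective g]
    (hg : IsOpenMap g)
    (i' : Y' ⟶ X') (g' : Y' ⟶ Y) (hsq : IsPullback g' i' i g)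
    (hi' : RegImm.IsRegularImmersion k i') : RegImm.IsRegularImmersion k i := by
  refine ⟨inferInstance, fun y => ?_⟩
  have h1 : i y ∈ i.coborderRange := subset_coborder ⟨y, rfl⟩
  obtain ⟨_, ⟨U, hU : IsAffineOpen U, rfl⟩, hyU, hUle⟩ :=
    X.isBasis_affineOpens.exists_subset_of_mem_open h1 i.coborderRange.isOpen
  have hUle' : U ≤ i.coborderRange := hUle
  obtain ⟨hV, hsurj⟩ := OmegaCnD.affine_of_le_coborderRange i hU hUle'
  haveI : IsClosedImmersion (i ∣_ U) :=
    Groth.Agent.Helper8.RegSeqE.isClosedImmersion_restrict_of_surjective i hU hV hsurj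
  exact regImmAt_of_locGen C k hk i U hU (descent_chart_open C k hk i g hg i' g' hsq hi' U hU) y hyU

end main

/-- Koszul-regular immersions descend along étale surjective base change -/
theorem kreg_descent_etale {X Y X' Y' : Scheme.{u}} (i : Y ⟶ X) [IsImmersion i] (g : X' ⟶ X)
    [Etale g] [Surjective g] (i' : Y' ⟶ X') (g' : Y' ⟶ Y) (hsq : IsPullback g' i' i g)
    (hi' : RegImm.IsRegularImmersion .koszul i') : RegImm.IsRegularImmersion .koszul i :=
  main_open Groth.Agent.Helper3.FFDescK.kregClass RegImm.Kind.koszul (fun R _ l => Iff.rfl) i g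
    g.isOpenMap i' g' hsq hi'

end Groth.Agent.Helper3.FFDescS
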