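import Mathlib
import Groth.Prelude.Def_AlgSpMor6
import Groth.Agent.Helper4.AlgSpLocP
import Groth.Agent.Helper4.AlgSpLocP2
import Groth.Agent.Helper3.AlgLci2
import Groth.Agent.Helper3.SmKregH
import Groth.Agent.Helper3.FFDescS3

set_option autoImplicit false
set_option linter.style.haveILetI false
set_option linter.unusedSectionVars false
set_option linter.unusedVariables false
set_option linter.deprecated false
set_option linter.style.haveILetI false
set_option linter.unusedSectionVars false
set_option linter.unusedVariables false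
universe u
open CategoryTheory CategoryTheory.Limits AlgebraicGeometry Opposite

namespace Groth.Agent.Helper3.AlgLci

open AlgSp

variable {S : Scheme.{u}}

theorem s10664 {X Y P U : AlgSp.Sp S} (hY : IsAlgSpace Y) (f : X ⟶ Y) (g : P ⟶ Y) (e : U ⟶ X)
    (i : U ⟶ P) (hc : i ≫ g = e ≫ f) (hf : AlgSp.IsLCIMor f) (hg : AlgSp.LocP @Smooth g)
    (he : AlgSp.IsEtaleMor e) (hi : AlgSp.RepWith @IsImmersion i) :
    AlgSp.IsRegImmMor RegImm.Kind.koszul i := by
  refine ⟨hi.rep, ?_⟩
  intro V W b fst snd hb hpb
  have himm : IsImmersion snd.left := hi.property b fst snd hpb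
  obtain ⟨T, c, hce, hcs⟩ := hY.atlas
  have hr := hce.rep
  have hpb2 : IsPullback (hr.fst (b ≫ g)) ((yon S).map (hr.snd (b ≫ g))) c (b ≫ g) :=
    hr.isPullback _
  obtain ⟨d, hd⟩ := (yon S).map_surjective (hr.fst (b ≫ g))
  rw [← hd] at hpb2
  have hee : Etale (hr.snd (b ≫ g)).left := hce.property _ _ _ hpb2
  have hes : Surjective (hr.snd (b ≫ g)).left := hcs.property _ _ _ hpb2
  generalize hr.snd (b ≫ g) = e' at hpb2 hee hes
  have hW' : IsPullback (pullback.fst snd e') (pullback.snd snd e') snd e' :=
    IsPullback.of_hasPullback _ _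
  have h1 : IsPullback (pullback.snd snd e').left (pullback.fst snd e').left e'.left snd.left :=
    hW'.flip.map (Over.forget S)
  have hfe : Etale (pullback.fst snd e').left := MorphismProperty.of_isPullback h1 hee
  have himm' : IsImmersion (pullback.snd snd e').left := MorphismProperty.of_isPullback h1.flip himm
  have hd_sm : Smooth d.left :=
    hg ((yon S).map e' ≫ b) c d
      (Groth.Agent.Helper4.AlgSpSrc.repWith_comp _ ((repWith_yon_map_iff _ _).2 hee) hb) hce
      (by rw [Category.assoc]; exact hpb2.w.symm)
  have inst : (RepWith (S := S) @Etale).IsStableUnderBaseChange :=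
    repWith_isStableUnderBaseChange (S := S) @Etale
  have hfst : RepWith @Etale fst := MorphismProperty.of_isPullback hpb.flip hb
  have ha : RepWith @Etale (((yon S).map (pullback.fst snd e') ≫ fst) ≫ e) :=
    he _ (Groth.Agent.Helper4.AlgSpSrc.repWith_comp _ ((repWith_yon_map_iff _ _).2 hfe) hfst)
  have hlci1 : AlgSp.lci (pullback.snd snd e' ≫ d).left :=
    hf _ c (pullback.snd snd e' ≫ d) ha hce
      (by
        rw [Category.assoc, Category.assoc, ← hc, ← Category.assoc fst, hpb.w, Category.assoc,
          ← Category.assoc ((yon S).map _) ((yon S).map _), ← Functor.map_comp, hW'.w,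
          Functor.map_comp, Category.assoc, ← hpb2.w, Functor.map_comp, Category.assoc])
  rw [Over.comp_left] at hlci1
  have hk : RegImm.IsRegularImmersion .koszul (pullback.snd snd e').left :=
    Groth.Agent.Helper3.SmKregH.s8656 _ hlci1 d.left (pullback.snd snd e').left rfl
  exact Groth.Agent.Helper3.FFDescS.kreg_descent_etale snd.left e'.left _ _ h1.flip hk

end Groth.Agent.Helper3.AlgLci
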