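import Mathlib

set_option autoImplicit false
set_option linter.style.haveILetI false
set_option linter.unusedSectionVars false
set_option linter.unusedVariables false
set_option linter.deprecated false
set_option linter.unusedSectionVars false
set_option linter.unusedVariables false

open TopologicalSpace Topology

namespace Groth.Agent.Helper3.TauD

variable {Y : Type*} [TopologicalSpace Y]

/-- a constructible set is, near each point and within the closure of that point, either
everything or nothing -/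
theorem constructible_aux {C : Set Y} (hC : IsConstructible C) :
    (∀ y ∈ C, ∃ O : Set Y, IsOpen O ∧ y ∈ O ∧ O ∩ closure {y} ⊆ C) ∧
    (∀ y ∈ Cᶜ, ∃ O : Set Y, IsOpen O ∧ y ∈ O ∧ O ∩ closure {y} ⊆ Cᶜ) := by
  induction hC using IsConstructible.empty_union_induction with
  | open_retrocompact U hUo hUc =>
    refine ⟨fun y hy => ⟨U, hUo, hy, Set.inter_subset_left⟩, fun y hy => ⟨Set.univ, isOpen_univ,
      Set.mem_univ _, ?_⟩⟩
    rintro a ⟨-, ha⟩
    have hcl : IsClosed Uᶜ := hUo.isClosed_compl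
    exact (hcl.closure_subset_iff.mpr (Set.singleton_subset_iff.mpr hy)) ha
  | union s hs t ht ihs iht =>
    refine ⟨?_, ?_⟩
    · rintro y (hy | hy)
      · obtain ⟨O, hO, hyO, hsub⟩ := ihs.1 y hy
        exact ⟨O, hO, hyO, hsub.trans Set.subset_union_left⟩
      · obtain ⟨O, hO, hyO, hsub⟩ := iht.1 y hy
        exact ⟨O, hO, hyO, hsub.trans Set.subset_union_right⟩
    · intro y hy
      rw [Set.compl_union] at hy
      obtain ⟨O1, hO1, hyO1, hsub1⟩ := ihs.2 y hy.1
      obtain ⟨O2, hO2, hyO2, hsub2⟩ := iht.2 y hy.2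
      refine ⟨O1 ∩ O2, hO1.inter hO2, ⟨hyO1, hyO2⟩, ?_⟩
      rintro a ⟨⟨ha1, ha2⟩, ha⟩
      rw [Set.compl_union]
      exact ⟨hsub1 ⟨ha1, ha⟩, hsub2 ⟨ha2, ha⟩⟩
  | compl s hs ih =>
    refine ⟨ih.2, ?_⟩
    intro y hy
    rw [compl_compl] at hy ⊢
    exact ih.1 y hy

/-- in a Noetherian quasi-sober space, a set stable under generization each of whose points lies
in a constructible subset of it is open -/
theorem isOpen_of_generalization [NoetherianSpace Y] [QuasiSober Y] (E : Set Y)
    (hgen : StableUnderGeneralization E)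
    (hC : ∀ a ∈ E, ∃ C : Set Y, IsConstructible C ∧ a ∈ C ∧ C ⊆ E) : IsOpen E := by
  rw [← isClosed_compl_iff]
  have hsp : StableUnderSpecialization Eᶜ := hgen.compl
  suffices hmain : ∀ Z : Closeds Y, IsClosed ((Z : Set Y) ∩ Eᶜ) by
    have := hmain ⊤
    simpa using this
  intro Z
  induction Z using WellFoundedLT.induction with
  | ind Z ih =>
  by_cases hirr : IsIrreducible (Z : Set Y)
  · obtain ⟨y, hy⟩ := QuasiSober.sober hirr Z.isClosed
    have hyZ : y ∈ (Z : Set Y) := hy.mem
    have hcl : closure {y} = (Z : Set Y) := hy.def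
    by_cases hyE : y ∈ E
    · obtain ⟨C, hCc, hyC, hCE⟩ := hC y hyE
      obtain ⟨O, hO, hyO, hsub⟩ := (constructible_aux hCc).1 y hyC
      set Z' : Closeds Y := ⟨(Z : Set Y) ∩ Oᶜ, Z.isClosed.inter hO.isClosed_compl⟩ with hZ'
      have hlt : Z' < Z := by
        refine lt_of_le_of_ne ?_ ?_
        · intro a ha
          exact ha.1
        · intro heq
          have h1 : y ∈ (Z' : Set Y) := by rw [heq]; exact hyZ
          exact h1.2 hyO
      have heq : (Z : Set Y) ∩ Eᶜ = (Z' : Set Y) ∩ Eᶜ := by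
        ext a
        constructor
        · rintro ⟨haZ, haE⟩
          refine ⟨⟨haZ, ?_⟩, haE⟩
          intro haO
          exact haE (hCE (hsub ⟨haO, by rw [hcl]; exact haZ⟩))
        · rintro ⟨⟨haZ, -⟩, haE⟩
          exact ⟨haZ, haE⟩
      rw [heq]
      exact ih Z' hlt
    · have hsub : (Z : Set Y) ⊆ Eᶜ := by
        intro a ha
        rw [← hcl] at ha
        exact hsp (specializes_iff_mem_closure.mpr ha) hyE
      rw [Set.inter_eq_left.mpr hsub]
      exact Z.isClosed
  · by_cases hne : (Z : Set Y).Nonempty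
    · have hnp : ¬ IsPreirreducible (Z : Set Y) := fun h => hirr ⟨hne, h⟩
      unfold IsPreirreducible at hnp
      push Not at hnp
      obtain ⟨U, V, hU, hV, hZU, hZV, hUV⟩ := hnp
      set Z1 : Closeds Y := ⟨(Z : Set Y) ∩ Uᶜ, Z.isClosed.inter hU.isClosed_compl⟩ with hZ1
      set Z2 : Closeds Y := ⟨(Z : Set Y) ∩ Vᶜ, Z.isClosed.inter hV.isClosed_compl⟩ with hZ2
      have hlt1 : Z1 < Z := by
        refine lt_of_le_of_ne (fun a ha => ha.1) ?_
        intro heq
        obtain ⟨a, haZ, haU⟩ := hZU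
        have h1 : a ∈ (Z1 : Set Y) := by rw [heq]; exact haZ
        exact h1.2 haU
      have hlt2 : Z2 < Z := by
        refine lt_of_le_of_ne (fun a ha => ha.1) ?_
        intro heq
        obtain ⟨a, haZ, haV⟩ := hZV
        have h1 : a ∈ (Z2 : Set Y) := by rw [heq]; exact haZ
        exact h1.2 haV
      have heq : (Z : Set Y) ∩ Eᶜ = ((Z1 : Set Y) ∩ Eᶜ) ∪ ((Z2 : Set Y) ∩ Eᶜ) := by
        ext a
        constructor
        · rintro ⟨haZ, haE⟩
          by_cases haU : a ∈ U
          · right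
            refine ⟨⟨haZ, ?_⟩, haE⟩
            intro haV
            have : a ∈ (Z : Set Y) ∩ (U ∩ V) := ⟨haZ, haU, haV⟩
            rw [hUV] at this
            exact this
          · left
            exact ⟨⟨haZ, haU⟩, haE⟩
        · rintro (⟨⟨haZ, -⟩, haE⟩ | ⟨⟨haZ, -⟩, haE⟩)
          · exact ⟨haZ, haE⟩
          · exact ⟨haZ, haE⟩
      rw [heq]
      exact (ih Z1 hlt1).union (ih Z2 hlt2)
    · rw [Set.not_nonempty_iff_eq_empty] at hne
      rw [hne, Set.empty_inter]
      exact isClosed_empty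

/-- in a Noetherian quasi-sober space covered by an increasing family of closed sets, one of the
closed sets is everything -/
theorem exists_eq_univ_of_closed_cover [NoetherianSpace Y] [QuasiSober Y] (A : ℕ → Set Y)
    (hA : ∀ n, IsClosed (A n)) (hmono : ∀ n m, n ∣ m → 0 < m → A n ⊆ A m)
    (hcov : ∀ a : Y, ∃ n, 0 < n ∧ a ∈ A n) : ∃ N, 0 < N ∧ ∀ a : Y, a ∈ A N := by
  have hfin := NoetherianSpace.finite_irreducibleComponents (α := Y)
  have hgen : ∀ c ∈ irreducibleComponents Y, ∃ n, 0 < n ∧ c ⊆ A n := by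
    intro c hc
    obtain ⟨y, hy⟩ := QuasiSober.sober hc.1
      (isClosed_of_mem_irreducibleComponents c hc)
    obtain ⟨n, hn, hyn⟩ := hcov y
    refine ⟨n, hn, ?_⟩
    rw [← hy.def]
    exact (hA n).closure_subset_iff.mpr (Set.singleton_subset_iff.mpr hyn)
  choose! n hn hsub using hgen
  refine ⟨∏ c ∈ hfin.toFinset, n c, ?_, ?_⟩
  · refine Finset.prod_pos ?_
    intro c hc
    exact hn c (hfin.mem_toFinset.mp hc)
  · intro a
    have ha : a ∈ ⋃₀ irreducibleComponents Y := by
      rw [sUnion_irreducibleComponents]; exact Set.mem_univ a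
    obtain ⟨c, hc, hac⟩ := ha
    have hdvd : n c ∣ ∏ c ∈ hfin.toFinset, n c :=
      Finset.dvd_prod_of_mem n (hfin.mem_toFinset.mpr hc)
    refine hmono _ _ hdvd ?_ (hsub c hc hac)
    refine Finset.prod_pos ?_
    intro c hc
    exact hn c (hfin.mem_toFinset.mp hc)

end Groth.Agent.Helper3.TauD
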