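import Mathlib
import Groth.Agent.Helper3.TauD

set_option autoImplicit false
set_option linter.style.haveILetI false
set_option linter.unusedSectionVars false
set_option linter.unusedVariables false
set_option linter.deprecated false
set_option linter.unusedSectionVars false
set_option linter.unusedVariables false

open TopologicalSpace Topology

namespace Groth.Agent.Helper3.TauK

variable {Y : Type*} [TopologicalSpace Y]

/-- in a Noetherian quasi-sober space, every point of the closure of a constructible set is a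
specialization of a point of the set -/
theorem exists_specializes_of_mem_closure [NoetherianSpace Y] [QuasiSober Y] {C : Set Y}
    (hC : IsConstructible C) {x : Y} (hx : x ∈ closure C) : ∃ c ∈ C, c ⤳ x := by
  suffices hmain : ∀ Z : Closeds Y, ∀ x ∈ closure (C ∩ (Z : Set Y)), ∃ c ∈ C ∩ (Z : Set Y), c ⤳ x by
    obtain ⟨c, hc, hcx⟩ := hmain ⊤ x (by simpa using hx)
    exact ⟨c, hc.1, hcx⟩
  intro Z
  induction Z using WellFoundedLT.induction with
  | ind Z ih =>
  intro x hx
  by_cases hirr : IsIrreducible (Z : Set Y)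
  · obtain ⟨z, hz⟩ := QuasiSober.sober hirr Z.isClosed
    have hzZ : z ∈ (Z : Set Y) := hz.mem
    have hcl : closure {z} = (Z : Set Y) := hz.def
    by_cases hzC : z ∈ C
    · refine ⟨z, ⟨hzC, hzZ⟩, ?_⟩
      rw [specializes_iff_mem_closure, hcl]
      exact (closure_minimal Set.inter_subset_right Z.isClosed) hx
    · obtain ⟨O, hO, hzO, hsub⟩ := (TauD.constructible_aux hC).2 z hzC
      set Z' : Closeds Y := ⟨(Z : Set Y) ∩ Oᶜ, Z.isClosed.inter hO.isClosed_compl⟩ with hZ'
      have hlt : Z' < Z := by
        refine lt_of_le_of_ne (fun a ha => ha.1) ?_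
        intro heq
        have h1 : z ∈ (Z' : Set Y) := by rw [heq]; exact hzZ
        exact h1.2 hzO
      have heq : C ∩ (Z : Set Y) = C ∩ (Z' : Set Y) := by
        ext a
        constructor
        · rintro ⟨haC, haZ⟩
          refine ⟨haC, haZ, ?_⟩
          intro haO
          exact hsub ⟨haO, by rw [hcl]; exact haZ⟩ haC
        · rintro ⟨haC, haZ, -⟩
          exact ⟨haC, haZ⟩
      rw [heq] at hx
      obtain ⟨c, hc, hcx⟩ := ih Z' hlt x hx
      exact ⟨c, by rw [heq]; exact hc, hcx⟩
  · by_cases hne : (Z : Set Y).Nonempty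
    · have hnp : ¬ IsPreirreducible (Z : Set Y) := fun h => hirr ⟨hne, h⟩
      unfold IsPreirreducible at hnp
      push Not at hnp
      obtain ⟨U, V, hU, hV, hZU, hZV, hUV⟩ := hnp
      set Z1 : Closeds Y := ⟨(Z : Set Y) ∩ Uᶜ, Z.isClosed.inter hU.isClosed_compl⟩ with hZ1
      set Z2 : Closeds Y := ⟨(Z : Set Y) ∩ Vᶜ, Z.isClosed.inter hV.isClosed_compl⟩ with hZ2
      have hlt1 : Z1 < Z := by
        refine lt_of_le_of_ne (fun a ha => ha.1) ?_
        intro heq
        obtain ⟨a, haZ, haU⟩ := hZU
        have h1 : a ∈ (Z1 : Set Y) := by rw [heq]; exact haZ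
        exact h1.2 haU
      have hlt2 : Z2 < Z := by
        refine lt_of_le_of_ne (fun a ha => ha.1) ?_
        intro heq
        obtain ⟨a, haZ, haV⟩ := hZV
        have h1 : a ∈ (Z2 : Set Y) := by rw [heq]; exact haZ
        exact h1.2 haV
      have heq : C ∩ (Z : Set Y) = (C ∩ (Z1 : Set Y)) ∪ (C ∩ (Z2 : Set Y)) := by
        ext a
        constructor
        · rintro ⟨haC, haZ⟩
          by_cases haU : a ∈ U
          · right
            refine ⟨haC, haZ, ?_⟩
            intro haV
            have : a ∈ (Z : Set Y) ∩ (U ∩ V) := ⟨haZ, haU, haV⟩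
            rw [hUV] at this
            exact this
          · left
            exact ⟨haC, haZ, haU⟩
        · rintro (⟨haC, haZ, -⟩ | ⟨haC, haZ, -⟩)
          · exact ⟨haC, haZ⟩
          · exact ⟨haC, haZ⟩
      rw [heq, closure_union] at hx
      rcases hx with hx | hx
      · obtain ⟨c, hc, hcx⟩ := ih Z1 hlt1 x hx
        exact ⟨c, ⟨hc.1, hc.2.1⟩, hcx⟩
      · obtain ⟨c, hc, hcx⟩ := ih Z2 hlt2 x hx
        exact ⟨c, ⟨hc.1, hc.2.1⟩, hcx⟩
    · rw [Set.not_nonempty_iff_eq_empty] at hne
      rw [hne, Set.inter_empty, closure_empty] at hx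
      exact absurd hx (Set.notMem_empty x)

/-- a nonempty Noetherian quasi-sober `T0` space has a point without proper generizations -/
theorem exists_maximal_point [NoetherianSpace Y] [QuasiSober Y] [T0Space Y] [Nonempty Y] :
    ∃ ξ : Y, ∀ s : Y, s ⤳ ξ → s = ξ := by
  obtain ⟨y0⟩ := (inferInstance : Nonempty Y)
  have hZ := irreducibleComponent_mem_irreducibleComponents y0
  set Z := irreducibleComponent y0 with hZdef
  obtain ⟨ξ, hξ⟩ := QuasiSober.sober hZ.1 (isClosed_of_mem_irreducibleComponents Z hZ)
  refine ⟨ξ, ?_⟩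
  intro s hs
  have h1 : Z ⊆ closure {s} := by
    rw [← hξ.def]
    exact closure_minimal (Set.singleton_subset_iff.mpr (specializes_iff_mem_closure.mp hs))
      isClosed_closure
  have h2 : IsIrreducible (closure ({s} : Set Y)) := isIrreducible_singleton.closure
  have h3 : closure ({s} : Set Y) ⊆ Z := hZ.2 h2 h1
  have h4 : IsGenericPoint s Z := by
    rw [isGenericPoint_def]
    exact Set.Subset.antisymm h3 h1
  exact h4.eq hξ

end Groth.Agent.Helper3.TauK
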