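import Mathlib
import Groth.Agent.Helper3.TauK

set_option autoImplicit false
set_option linter.style.haveILetI false
set_option linter.unusedSectionVars false
set_option linter.unusedVariables false
set_option linter.deprecated false

open TopologicalSpace Topology

namespace Groth.Agent.Helper3.AlgPA

variable {Y : Type*} [TopologicalSpace Y]

/-- a nonempty closed subset of a Noetherian quasi-sober T0 space has a maximal point -/
theorem exists_maximal_point_of_closed [NoetherianSpace Y] [QuasiSober Y] [T0Space Y]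
    (C : Set Y) (hC : IsClosed C) (hne : C.Nonempty) :
    ∃ ζ ∈ C, ∀ s ∈ C, s ⤳ ζ → s = ζ := by
  haveI : Nonempty C := hne.to_subtype
  haveI : QuasiSober C := (hC.isClosedEmbedding_subtypeVal).quasiSober
  obtain ⟨ξ, hξ⟩ := TauK.exists_maximal_point (Y := C)
  refine ⟨ξ.1, ξ.2, fun s hs hsp => ?_⟩
  have h1 : (⟨s, hs⟩ : C) ⤳ ξ := (IsInducing.subtypeVal.specializes_iff).mp hsp
  exact congrArg Subtype.val (hξ _ h1)

/-- Key topological lemma: for a nonempty constructible set `Z` in a Noetherian quasi-sober T0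
Jacobson space and a continuous involution `τ` preserving the closure of `Z`, there is a closed
point `h ∈ Z` with `τ h ∈ Z`. -/
theorem exists_closed_point_inter [NoetherianSpace Y] [QuasiSober Y] [T0Space Y] [JacobsonSpace Y]
    (Z : Set Y) (hZ : IsConstructible Z) (hne : Z.Nonempty) (τ : Y → Y) (hτ : Continuous τ)
    (hinv : ∀ y, τ (τ y) = y) (hC : ∀ y ∈ closure Z, τ y ∈ closure Z) :
    ∃ h : Y, IsClosed {h} ∧ h ∈ Z ∧ τ h ∈ Z := by
  obtain ⟨ζ, hζC, hζmax⟩ := exists_maximal_point_of_closed (closure Z) isClosed_closure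
    (hne.mono subset_closure)
  -- maximal points of the closure lie in Z
  have hmaxZ : ∀ z ∈ closure Z, (∀ s ∈ closure Z, s ⤳ z → s = z) → z ∈ Z := by
    intro z hz hmax
    obtain ⟨c, hc, hcz⟩ := TauK.exists_specializes_of_mem_closure hZ hz
    rw [← hmax c (subset_closure hc) hcz]
    exact hc
  have hζZ : ζ ∈ Z := hmaxZ ζ hζC hζmax
  have hτmax : ∀ s ∈ closure Z, s ⤳ τ ζ → s = τ ζ := by
    intro s hs hsp
    have h1 : τ s ⤳ τ (τ ζ) := hsp.map hτ
    rw [hinv] at h1
    have h2 := hζmax (τ s) (hC s hs) h1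
    rw [← h2, hinv]
  have hτζZ : τ ζ ∈ Z := hmaxZ (τ ζ) (hC ζ hζC) hτmax
  obtain ⟨O, hO, hζO, hOsub⟩ := (TauD.constructible_aux hZ).1 ζ hζZ
  obtain ⟨O', hO', hζO', hOsub'⟩ := (TauD.constructible_aux hZ).1 (τ ζ) hτζZ
  have hlc : IsLocallyClosed ((O ∩ τ ⁻¹' O') ∩ closure {ζ}) :=
    (hO.inter (hO'.preimage hτ)).isLocallyClosed.inter isClosed_closure.isLocallyClosed
  have hne' : ((O ∩ τ ⁻¹' O') ∩ closure {ζ}).Nonempty :=
    ⟨ζ, ⟨hζO, hζO'⟩, subset_closure rfl⟩
  obtain ⟨h, ⟨⟨hhO, hhO'⟩, hhcl⟩, hclosed⟩ := nonempty_inter_closedPoints hne' hlc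
  refine ⟨h, hclosed, hOsub ⟨hhO, hhcl⟩, hOsub' ⟨hhO', ?_⟩⟩
  have h1 : ζ ⤳ h := specializes_iff_mem_closure.mpr hhcl
  exact specializes_iff_mem_closure.mp (h1.map hτ)

end Groth.Agent.Helper3.AlgPA
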