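import Mathlib
import Groth.Prelude
import Groth.Agent.Lead.NeronTors
import Groth.Agent.Helper5.FibFlat4
import Groth.Agent.Helper3.PowComm

set_option autoImplicit false
set_option linter.style.haveILetI false
set_option linter.unusedSectionVars false
set_option linter.unusedVariables false
set_option linter.deprecated false
set_option linter.style.haveILetI false
set_option linter.unusedSectionVars false
set_option linter.unusedVariables false

universe u

open AlgebraicGeometry CategoryTheory Limits MonoidalCategory CartesianMonoidalCategory MonObj GrpObj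

namespace Groth.Agent.Helper3.NerPowA

variable {R K : Type u} [CommRing R] [Field K] [Algebra R K]
variable (N : Over (Spec (CommRingCat.of R))) [GrpObj N]

/-- a Néron model with commutative generic fibre is commutative -/
theorem isCommMonObj_of_isNeron (hN : SGA7.IsNeron R K N)
    [IsCommMonObj ((SGA7.genFib R K).obj N)] : IsCommMonObj N := by
  haveI : Smooth N.hom := hN.1
  haveI : Smooth (N ⊗ N).hom := Groth.Agent.Lead.NeronTors.smooth_tensor N N
  have hinj := (hN.2.2.2 (N ⊗ N) inferInstance).1
  refine ⟨?_⟩
  apply hinj
  have h1 : (β_ N N).hom ≫ μ[N] = snd N N * fst N N := by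
    rw [Hom.mul_def]
    congr 1
  have h2 : μ[N] = fst N N * snd N N := by
    rw [Hom.mul_def, lift_fst_snd, Category.id_comp]
  show (SGA7.genFib R K).map ((β_ N N).hom ≫ μ[N]) = (SGA7.genFib R K).map μ[N]
  rw [h1]
  conv_rhs => rw [h2]
  rw [Functor.map_mul, Functor.map_mul, mul_comm]


section pullbackSquare

variable {S T : Scheme.{u}} (t : T ⟶ S) {X Y : Over S} (f : X ⟶ Y)

/-- the base change of a morphism over `S` is a base change of the morphism itself -/
theorem isPullback_map_left :
    IsPullback ((Over.pullback t).map f).left (pullback.fst X.hom t) (pullback.fst Y.hom t)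
      f.left := by
  have hw : ((Over.pullback t).map f).left ≫ pullback.fst Y.hom t =
      pullback.fst X.hom t ≫ f.left := by
    simp
    exact pullback.lift_fst _ _ _
  refine IsPullback.of_right (h₁₂ := pullback.snd Y.hom t) (h₂₂ := Y.hom) (v₁₃ := t) ?_ hw
    (IsPullback.of_hasPullback Y.hom t).flip
  have h1 : ((Over.pullback t).map f).left ≫ pullback.snd Y.hom t = pullback.snd X.hom t := by
    simp
    exact pullback.lift_snd _ _ _
  rw [h1, Over.w f]
  exact (IsPullback.of_hasPullback X.hom t).flip

end pullbackSquare


section etale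

variable {R : Type u} [CommRing R] (N : Over (Spec (CommRingCat.of R))) [GrpObj N]

/-- base change commutes with powers -/
theorem map_pow_id {S T : Scheme.{u}} (t : T ⟶ S) (G : Over S) [GrpObj G] (n : ℕ) :
    (Over.pullback t).map ((𝟙 G : G ⟶ G) ^ n) =
      (𝟙 ((Over.pullback t).obj G) : (Over.pullback t).obj G ⟶ (Over.pullback t).obj G) ^ n := by
  have h := map_pow ((Over.pullback t).homMonoidHom (X := G) (M := G)) (𝟙 G) n
  rw [Functor.homMonoidHom_apply, Functor.homMonoidHom_apply, CategoryTheory.Functor.map_id] at h
  exact h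

/-- the `n`-th power map of a smooth commutative group scheme over a ring in which `n` is
invertible is étale -/
theorem etale_pow [IsCommMonObj N] [Smooth N.hom] (n : ℕ) (hn : IsUnit (n : R)) :
    Etale ((𝟙 N : N ⟶ N) ^ n).left := by
  rw [Groth.Agent.Helper5.FibFlat.s2763 N.hom N.hom ((𝟙 N : N ⟶ N) ^ n).left (Over.w _)]
  intro s
  let t : Spec ((Spec (CommRingCat.of R)).residueField s) ⟶ Spec (CommRingCat.of R) :=
    (Spec (CommRingCat.of R)).fromSpecResidueField s
  let k : Type u := ((Spec (CommRingCat.of R)).residueField s : CommRingCat.{u})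
  let Ns : Over (Spec (CommRingCat.of k)) := (Over.pullback t).obj N
  have hnk : (n : k) ≠ 0 := by
    have h1 := hn.map (Spec.preimage t).hom
    rw [map_natCast] at h1
    exact h1.ne_zero
  haveI : LocallyOfFiniteType Ns.hom := by
    show LocallyOfFiniteType (pullback.snd N.hom t)
    infer_instance
  haveI : IsCommMonObj Ns := inferInstanceAs (IsCommMonObj ((Over.pullback t).obj N))
  have hEt := Groth.Agent.Helper3.PowComm.etale_pow (k := k) (G := Ns) n hnk
  have hmap := map_pow_id t N n
  have sq := isPullback_map_left t ((𝟙 N : N ⟶ N) ^ n)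
  rw [hmap] at sq
  have hiso : sq.flip.isoPullback.hom ≫ pullback.snd ((𝟙 N : N ⟶ N) ^ n).left (pullback.fst N.hom t) =
      ((𝟙 Ns : Ns ⟶ Ns) ^ n).left := sq.flip.isoPullback_hom_snd
  show Etale (pullback.snd ((𝟙 N : N ⟶ N) ^ n).left (pullback.fst N.hom t))
  rw [← MorphismProperty.cancel_left_of_respectsIso @Etale sq.flip.isoPullback.hom, hiso]
  exact hEt

end etale

end Groth.Agent.Helper3.NerPowA
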