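import Mathlib
import Groth.Prelude.Def_AlgGrp
import Groth.Prelude.Def_Red
import Groth.Agent.Helper2.HS6
import Groth.Agent.Lead.ConnHartogs

set_option autoImplicit false
set_option linter.style.haveILetI false
set_option linter.unusedSectionVars false
set_option linter.unusedVariables false
set_option linter.style.haveILetI false
set_option linter.unusedSectionVars false
set_option linter.unusedVariables false

universe u
open CategoryTheory CategoryTheory.Limits MonoidalCategory CartesianMonoidalCategory MonObj GrpObj AlgebraicGeometry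

namespace Groth.Agent.Helper3.ArtConn

open Groth.Agent.Helper2

section field

variable {k : Type u} [Field k] (G : Over (Spec (CommRingCat.of k))) [GrpObj G]
  (pt : ↥(𝟙_ (Over (Spec (CommRingCat.of k)))).left)

/-- over a field: a morphism `φ : G × G → G` maps `G⁰ × Y` into `G⁰` as soon as it does so at one
point, for `Y` closed irreducible. -/
theorem key_field' (φ : G ⊗ G ⟶ G) (Y : Set G.left) (hYcl : IsClosed Y) (hYirr : IsIrreducible Y)
    (w0 w : (G ⊗ G).left)
    (hw0 : (fst G G).left w0 ∈ connectedComponent (η[G].left pt)) (hw0' : (snd G G).left w0 ∈ Y)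
    (hφw0 : φ.left w0 = η[G].left pt)
    (hw : (fst G G).left w ∈ connectedComponent (η[G].left pt)) (hw' : (snd G G).left w ∈ Y) :
    φ.left w ∈ connectedComponent (η[G].left pt) := by
  set C0 := irreducibleComponent (η[G].left pt) with hC0def
  have hC0 : C0 ∈ irreducibleComponents G.left := irreducibleComponent_mem_irreducibleComponents _
  have he : η[G].left pt ∈ C0 := mem_irreducibleComponent
  have hcc := HS6.connectedComponent_eq G C0 hC0 pt he
  have hP := HS5.isIrreducible_prod (G := G) (X := G) C0 hC0 pt he Y hYcl hYirr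
  set P := (fst G G).left ⁻¹' C0 ∩ (snd G G).left ⁻¹' Y with hPdef
  have hwP : w ∈ P := ⟨hcc ▸ hw, hw'⟩
  have hw0P : w0 ∈ P := ⟨hcc ▸ hw0, hw0'⟩
  have hconn : _root_.IsPreconnected (φ.left '' P) :=
    (hP.isConnected.image _ φ.left.continuous.continuousOn).isPreconnected
  have h1 : φ.left '' P ⊆ connectedComponent (η[G].left pt) :=
    hconn.subset_connectedComponent ⟨w0, hw0P, hφw0⟩
  exact h1 ⟨w, hwP, rfl⟩

theorem pt_eq (z : (𝟙_ (Over (Spec (CommRingCat.of k)))).left) : z = pt :=
  Subsingleton.elim (α := PrimeSpectrum k) _ _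

/-- over a field: a morphism `φ : G × G → G` with `φ(e, y) = e` maps `G⁰ × G` into `G⁰`. -/
theorem key_field (φ : G ⊗ G ⟶ G) (hφ : lift (toUnit G ≫ η[G]) (𝟙 G) ≫ φ = toUnit G ≫ η[G])
    (w : (G ⊗ G).left) (hw : (fst G G).left w ∈ connectedComponent (η[G].left pt)) :
    φ.left w ∈ connectedComponent (η[G].left pt) := by
  set y := (snd G G).left w with hy
  set w0 := (lift (toUnit G ≫ η[G]) (𝟙 G)).left y with hw0
  refine key_field' G pt φ (irreducibleComponent y) isClosed_irreducibleComponent
    isIrreducible_irreducibleComponent w0 w ?_ ?_ ?_ hw mem_irreducibleComponent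
  · rw [hw0, ← Scheme.Hom.comp_apply, ← Over.comp_left, lift_fst, Over.comp_left,
      Scheme.Hom.comp_apply, pt_eq pt ((toUnit G).left y)]
    exact mem_connectedComponent
  · rw [hw0, ← Scheme.Hom.comp_apply, ← Over.comp_left, lift_snd]
    exact mem_irreducibleComponent
  · rw [hw0, ← Scheme.Hom.comp_apply, ← Over.comp_left, hφ, Over.comp_left,
      Scheme.Hom.comp_apply, pt_eq pt ((toUnit G).left y)]

/-- over a field: `G⁰ · G⁰ ⊆ G⁰`. -/
theorem mul_field (w : (G ⊗ G).left)
    (hw : (fst G G).left w ∈ connectedComponent (η[G].left pt))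
    (hw' : (snd G G).left w ∈ connectedComponent (η[G].left pt)) :
    μ[G].left w ∈ connectedComponent (η[G].left pt) := by
  set C0 := irreducibleComponent (η[G].left pt) with hC0def
  have hC0 : C0 ∈ irreducibleComponents G.left := irreducibleComponent_mem_irreducibleComponents _
  have he : η[G].left pt ∈ C0 := mem_irreducibleComponent
  have hcc := HS6.connectedComponent_eq G C0 hC0 pt he
  rw [hcc] at hw hw' ⊢
  exact HS6.mul_mem G C0 hC0 pt he hw hw'

end field


section bc

open Functor.LaxMonoidal Functor.Monoidal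

variable {S S' : Scheme.{u}} (i : S' ⟶ S) (G : Over S)

/-- projection of the base change to the original scheme -/
noncomputable abbrev pr (X : Over S) : (Red.bc i X).left ⟶ X.left := pullback.fst X.hom i

theorem pr_natural {X Y : Over S} (φ : X ⟶ Y) :
    ((Over.pullback i).map φ).left ≫ pr i Y = pr i X ≫ φ.left :=
  pullback.lift_fst _ _ _

/-- the comparison map on products -/
noncomputable def ρ : (Red.bc i G ⊗ Red.bc i G).left ⟶ (G ⊗ G).left :=
  (Functor.LaxMonoidal.μ (Over.pullback i) G G).left ≫ pr i (G ⊗ G)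

theorem ρ_fst : ρ i G ≫ (fst G G).left = (fst (Red.bc i G) (Red.bc i G)).left ≫ pr i G := by
  rw [ρ, Category.assoc, ← pr_natural, ← Category.assoc, ← Over.comp_left, μ_fst]

theorem ρ_snd : ρ i G ≫ (snd G G).left = (snd (Red.bc i G) (Red.bc i G)).left ≫ pr i G := by
  rw [ρ, Category.assoc, ← pr_natural, ← Category.assoc, ← Over.comp_left, μ_snd]

theorem ρ_map (φ : G ⊗ G ⟶ G) :
    (Functor.LaxMonoidal.μ (Over.pullback i) G G ≫ (Over.pullback i).map φ).left ≫ pr i G = ρ i G ≫ φ.left := by
  rw [ρ, Over.comp_left, Category.assoc, pr_natural, Category.assoc]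

instance [Surjective i] : Surjective (ρ i G) := by
  haveI : IsIso (Functor.LaxMonoidal.μ (Over.pullback i) G G) :=
    inferInstanceAs (IsIso (μIso (Over.pullback i) G G).hom)
  haveI : IsIso (Functor.LaxMonoidal.μ (Over.pullback i) G G).left := (Over.forget _).map_isIso _
  rw [ρ]
  infer_instance

end bc


section art

open Functor.LaxMonoidal Functor.Monoidal

variable (A : Type u) [CommRing A] [IsArtinianRing A] [IsLocalRing A]

noncomputable abbrev iA :
    Spec (CommRingCat.of (IsLocalRing.ResidueField A)) ⟶ Spec (CommRingCat.of A) :=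
  Spec.map (CommRingCat.ofHom (IsLocalRing.residue A))

instance : IsClosedImmersion (iA A) :=
  IsClosedImmersion.spec_of_surjective _ IsLocalRing.residue_surjective

theorem ptA_eq (x y : Spec (CommRingCat.of A)) : x = y := by
  have h1 : ∀ z : PrimeSpectrum A, z = IsLocalRing.closedPoint A := by
    intro z
    haveI := IsArtinianRing.isMaximal_of_isPrime z.asIdeal
    ext1
    exact IsLocalRing.eq_maximalIdeal inferInstance
  exact (h1 x).trans (h1 y).symm

instance : Surjective (iA A) :=
  ⟨fun x => ⟨IsLocalRing.closedPoint _, ptA_eq A _ _⟩⟩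

variable {A} (G : Over (Spec (CommRingCat.of A))) [GrpObj G]
  (pt : ↥(𝟙_ (Over (Spec (CommRingCat.of A)))).left)
  (pt' : ↥(𝟙_ (Over (Spec (CommRingCat.of (IsLocalRing.ResidueField A))))).left)

/-- the special fibre is homeomorphic to the whole scheme -/
noncomputable def πh : (Red.bc (iA A) G).left ≃ₜ G.left :=
  (Equiv.ofBijective (pr (iA A) G)
    ⟨(pr (iA A) G).isClosedEmbedding.injective, (pr (iA A) G).surjective⟩).toHomeomorphOfIsInducing
      (pr (iA A) G).isClosedEmbedding.isInducing

theorem πh_apply (x : (Red.bc (iA A) G).left) : πh G x = pr (iA A) G x := rfl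

theorem π_unit : pr (iA A) G (η[Red.bc (iA A) G].left pt') = η[G].left pt := by
  have h1 : η[Red.bc (iA A) G] = ε (Over.pullback (iA A)) ≫ (Over.pullback (iA A)).map η[G] := rfl
  rw [← Scheme.Hom.comp_apply, h1, Over.comp_left, Category.assoc, pr_natural,
    Scheme.Hom.comp_apply, Scheme.Hom.comp_apply]
  congr 1
  exact ptA_eq A _ _

theorem π_cc : pr (iA A) G '' connectedComponent (η[Red.bc (iA A) G].left pt') =
    connectedComponent (η[G].left pt) := by
  have h0 : πh G (η[Red.bc (iA A) G].left pt') = η[G].left pt := π_unit G pt pt'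
  have h1 := (πh G).continuous.image_connectedComponent_subset (η[Red.bc (iA A) G].left pt')
  have h2 := (πh G).symm.continuous.image_connectedComponent_subset (η[G].left pt)
  rw [h0] at h1
  rw [← h0, Homeomorph.symm_apply_apply, h0] at h2
  apply Set.Subset.antisymm h1
  intro y hy
  refine ⟨(πh G).symm y, h2 ⟨y, hy, rfl⟩, ?_⟩
  exact (πh G).apply_symm_apply y

theorem mem_cc_iff (x : (Red.bc (iA A) G).left) :
    pr (iA A) G x ∈ connectedComponent (η[G].left pt) ↔
      x ∈ connectedComponent (η[Red.bc (iA A) G].left pt') := by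
  rw [← π_cc G pt pt']
  exact (pr (iA A) G).isClosedEmbedding.injective.mem_set_image

theorem transfer (φ : G ⊗ G ⟶ G) (D : Set G.left)
    (hfield : ∀ w' : (Red.bc (iA A) G ⊗ Red.bc (iA A) G).left,
      (fst (Red.bc (iA A) G) (Red.bc (iA A) G)).left w' ∈
        connectedComponent (η[Red.bc (iA A) G].left pt') →
      pr (iA A) G ((snd (Red.bc (iA A) G) (Red.bc (iA A) G)).left w') ∈ D →
      (Functor.LaxMonoidal.μ (Over.pullback (iA A)) G G ≫ (Over.pullback (iA A)).map φ).left w' ∈
        connectedComponent (η[Red.bc (iA A) G].left pt'))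
    (w : (G ⊗ G).left) (hw : (fst G G).left w ∈ connectedComponent (η[G].left pt))
    (hw' : (snd G G).left w ∈ D) : φ.left w ∈ connectedComponent (η[G].left pt) := by
  obtain ⟨w', rfl⟩ := (ρ (iA A) G).surjective w
  have h1 : (fst G G).left (ρ (iA A) G w') =
      pr (iA A) G ((fst (Red.bc (iA A) G) (Red.bc (iA A) G)).left w') := by
    rw [← Scheme.Hom.comp_apply, ρ_fst, Scheme.Hom.comp_apply]
  have h2 : (snd G G).left (ρ (iA A) G w') =
      pr (iA A) G ((snd (Red.bc (iA A) G) (Red.bc (iA A) G)).left w') := by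
    rw [← Scheme.Hom.comp_apply, ρ_snd, Scheme.Hom.comp_apply]
  have h3 : φ.left (ρ (iA A) G w') = pr (iA A) G
      ((Functor.LaxMonoidal.μ (Over.pullback (iA A)) G G ≫
        (Over.pullback (iA A)).map φ).left w') := by
    rw [← Scheme.Hom.comp_apply, ← ρ_map, Scheme.Hom.comp_apply]
  rw [h1, mem_cc_iff G pt pt'] at hw
  rw [h2] at hw'
  rw [h3, mem_cc_iff G pt pt']
  exact hfield w' hw hw'

end art


section conj

variable {C : Type*} [Category C] [CartesianMonoidalCategory C]

/-- `(n, g) ↦ g n g⁻¹` -/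
def cj (G : C) [GrpObj G] : G ⊗ G ⟶ G := lift (snd G G) (fst G G) ≫ GrpObj.conj G

theorem cj_eq (G : C) [GrpObj G] : cj G = snd G G * fst G G * (snd G G)⁻¹ :=
  lift_conj_eq_mul_mul_inv _ _

theorem lift_cj {G T : C} [GrpObj G] (n g : T ⟶ G) : lift n g ≫ cj G = g * n * g⁻¹ := by
  rw [cj_eq, comp_mul, comp_mul, comp_inv, lift_fst, lift_snd]

theorem cj_unit (G : C) [GrpObj G] : lift (toUnit G ≫ η[G]) (𝟙 G) ≫ cj G = toUnit G ≫ η[G] := by
  rw [lift_cj, ← Hom.one_def]
  simp

end conj

section bc2

open Functor.LaxMonoidal Functor.Monoidal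
open scoped Obj

variable {S S' : Scheme.{u}} (i : S' ⟶ S) (G : Over S) [GrpObj G]

theorem cj_bc : Functor.LaxMonoidal.μ (Over.pullback i) G G ≫ (Over.pullback i).map (cj G) =
    cj (Red.bc i G) := by
  rw [cj_eq, cj_eq, Functor.map_mul, Functor.map_mul, Functor.map_inv', comp_mul, comp_mul,
    comp_inv, μ_fst, μ_snd]

end bc2

section art2

variable {A : Type u} [CommRing A] [IsArtinianRing A] [IsLocalRing A]
  (G : Over (Spec (CommRingCat.of A))) [GrpObj G]
  (pt : ↥(𝟙_ (Over (Spec (CommRingCat.of A)))).left)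

theorem mul_art (w : (G ⊗ G).left)
    (hw : (fst G G).left w ∈ connectedComponent (η[G].left pt))
    (hw' : (snd G G).left w ∈ connectedComponent (η[G].left pt)) :
    μ[G].left w ∈ connectedComponent (η[G].left pt) := by
  let pt' : ↥(𝟙_ (Over (Spec (CommRingCat.of (IsLocalRing.ResidueField A))))).left :=
    (default : PrimeSpectrum (IsLocalRing.ResidueField A))
  refine transfer G pt pt' μ[G] _ ?_ w hw hw'
  intro w' h1 h2
  rw [mem_cc_iff G pt pt'] at h2
  exact mul_field (Red.bc (iA A) G) pt' w' h1 h2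

theorem cj_art (w : (G ⊗ G).left)
    (hw : (fst G G).left w ∈ connectedComponent (η[G].left pt)) :
    (cj G).left w ∈ connectedComponent (η[G].left pt) := by
  let pt' : ↥(𝟙_ (Over (Spec (CommRingCat.of (IsLocalRing.ResidueField A))))).left :=
    (default : PrimeSpectrum (IsLocalRing.ResidueField A))
  refine transfer G pt pt' (cj G) Set.univ ?_ w hw trivial
  intro w' h1 _
  rw [cj_bc]
  exact key_field (Red.bc (iA A) G) pt' _ (cj_unit _) w' h1

theorem inv_art (x : G.left) (hx : x ∈ connectedComponent (η[G].left pt)) :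
    ι[G].left x ∈ connectedComponent (η[G].left pt) := by
  have h1 := ι[G].left.continuous.image_connectedComponent_subset (η[G].left pt)
  have h2 : ι[G].left (η[G].left pt) = η[G].left pt := by
    rw [← Scheme.Hom.comp_apply, ← Over.comp_left, GrpObj.one_inv]
  rw [h2] at h1
  exact h1 ⟨x, hx, rfl⟩

theorem main [LocallyOfFiniteType G.hom] :
    IsOpen (connectedComponent (η[G].left.base pt)) ∧
    (∀ (T : Over (Spec (CommRingCat.of A))) (g h : T ⟶ G),
      Set.range g.left.base ⊆ connectedComponent (η[G].left.base pt) →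
      Set.range h.left.base ⊆ connectedComponent (η[G].left.base pt) →
      Set.range (g * h⁻¹).left.base ⊆ connectedComponent (η[G].left.base pt)) ∧
    ∀ (T : Over (Spec (CommRingCat.of A))) (g n : T ⟶ G),
      Set.range n.left.base ⊆ connectedComponent (η[G].left.base pt) →
      Set.range (g * n * g⁻¹).left.base ⊆ connectedComponent (η[G].left.base pt) := by
  refine ⟨?_, ?_, ?_⟩
  · haveI : IsLocallyNoetherian G.left := LocallyOfFiniteType.isLocallyNoetherian G.hom
    haveI : LocallyConnectedSpace G.left := Groth.Agent.Lead.ConnHartogs.locallyConnectedSpace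
    exact isOpen_connectedComponent
  · rintro T g h hg hh _ ⟨t, rfl⟩
    have e1 : g * h⁻¹ = lift g (h ≫ ι[G]) ≫ μ[G] := by
      rw [Hom.mul_def, Hom.inv_def]
    rw [e1]
    show μ[G].left ((lift g (h ≫ ι[G])).left t) ∈ _
    apply mul_art G pt
    · have : (fst G G).left ((lift g (h ≫ ι[G])).left t) = g.left t := by
        rw [← Scheme.Hom.comp_apply, ← Over.comp_left, lift_fst]
      rw [this]
      exact hg ⟨t, rfl⟩
    · have : (snd G G).left ((lift g (h ≫ ι[G])).left t) = ι[G].left (h.left t) := by
        rw [← Scheme.Hom.comp_apply, ← Over.comp_left, lift_snd, Over.comp_left,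
          Scheme.Hom.comp_apply]
      rw [this]
      exact inv_art G pt _ (hh ⟨t, rfl⟩)
  · rintro T g n hn _ ⟨t, rfl⟩
    rw [← lift_cj]
    show (cj G).left ((lift n g).left t) ∈ _
    apply cj_art G pt
    have : (fst G G).left ((lift n g).left t) = n.left t := by
      rw [← Scheme.Hom.comp_apply, ← Over.comp_left, lift_fst]
    rw [this]
    exact hn ⟨t, rfl⟩

end art2

end Groth.Agent.Helper3.ArtConn
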