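import Mathlib
import Groth.Prelude.Def_AlgGrp
import Groth.Prelude.Def_Red
import Groth.Agent.Helper2.HS6
import Groth.Agent.Helper5.GrpDense5
import Groth.Agent.Helper3.ArtConn

set_option autoImplicit false
set_option linter.style.haveILetI false
set_option linter.unusedSectionVars false
set_option linter.unusedVariables false
set_option linter.style.haveILetI false
set_option linter.unusedSectionVars false
set_option linter.unusedVariables false

universe u
open CategoryTheory CategoryTheory.Limits MonoidalCategory CartesianMonoidalCategory MonObj GrpObj AlgebraicGeometry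

namespace Groth.Agent.Helper3.FibQC

open Groth.Agent.Helper2 Groth.Agent.Helper3.ArtConn

variable {S : Scheme.{u}} (G : Over S) [GrpObj G]

theorem unit_bc_fst {S' : Scheme.{u}} (i : S' ⟶ S) :
    η[Red.bc i G].left ≫ pr i G = i ≫ η[G].left := by
  have h1 : η[Red.bc i G] = Functor.LaxMonoidal.ε (Over.pullback i) ≫ (Over.pullback i).map η[G] :=
    rfl
  rw [h1, Over.comp_left, Category.assoc, pr_natural, ← Category.assoc]
  congr 1
  have h3 : (Functor.LaxMonoidal.ε (Over.pullback i)).left ≫ pullback.snd (𝟙_ (Over S)).hom i =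
      𝟙 S' := Over.w (Functor.LaxMonoidal.ε (Over.pullback i))
  have h4 : pullback.fst (𝟙_ (Over S)).hom i = pullback.snd (𝟙_ (Over S)).hom i ≫ i := by
    have := pullback.condition (f := (𝟙_ (Over S)).hom) (g := i)
    rw [← this]
    exact (Category.comp_id _).symm
  rw [pr, h4, ← Category.assoc, h3]
  exact Category.id_comp i

/-- if the fibre over `s` is connected, every point of it is a product of two points of any open
neighbourhood of the unit section at `s`. -/
theorem exists_mul_of_fibre_connected (s : S) (hconn : _root_.IsConnected (G.hom.base ⁻¹' {s}))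
    (U : G.left.Opens) (hU : η[G].left (s : ↥(𝟙_ (Over S)).left) ∈ U) (g : G.left)
    (hg : G.hom g = s) :
    ∃ z : (G ⊗ G).left, (fst G G).left z ∈ U ∧ (snd G G).left z ∈ U ∧ μ[G].left z = g := by
  let k : Type u := S.residueField s
  let i : Spec (CommRingCat.of k) ⟶ S := S.fromSpecResidueField s
  let Gs := Red.bc i G
  let π : Gs.left ⟶ G.left := pr i G
  have hrange : Set.range π = G.hom ⁻¹' {s} := by
    have h1 : Set.range π = G.hom ⁻¹' Set.range i := Scheme.Pullback.range_fst G.hom i
    rw [h1]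
    congr 1
    exact S.range_fromSpecResidueField s
  haveI : IsPreimmersion i := inferInstanceAs (IsPreimmersion (S.fromSpecResidueField s))
  haveI : IsPreimmersion π := inferInstanceAs (IsPreimmersion (pullback.fst G.hom i))
  have hemb : Topology.IsEmbedding π := π.isEmbedding
  haveI : ConnectedSpace Gs.left := by
    have h2 : _root_.IsConnected (Set.range π) := hrange ▸ hconn
    rw [← Set.image_univ] at h2
    have h3 : _root_.IsConnected (Set.univ : Set Gs.left) :=
      ⟨by obtain ⟨_, x, -, -⟩ := h2.nonempty; exact ⟨x, trivial⟩,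
        hemb.isInducing.isPreconnected_image.mp h2.isPreconnected⟩
    exact connectedSpace_iff_univ.mpr h3
  let pts : ↥(𝟙_ (Over (Spec (CommRingCat.of k)))).left := (default : PrimeSpectrum k)
  haveI : IrreducibleSpace Gs.left := HS6.irreducibleSpace_of_connectedSpace Gs pts
  let Us : Gs.left.Opens := π ⁻¹ᵁ U
  have hne : (Us : Set Gs.left).Nonempty := by
    refine ⟨η[Gs].left pts, ?_⟩
    show π (η[Gs].left pts) ∈ U
    have h1 : π (η[Gs].left pts) = η[G].left (i pts) := by
      rw [← Scheme.Hom.comp_apply, unit_bc_fst, Scheme.Hom.comp_apply]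
    have h2 : i pts = s := Scheme.fromSpecResidueField_apply _ _
    rw [h1, h2]
    exact hU
  have hd : Dense (Us : Set Gs.left) := Us.isOpen.dense hne
  obtain ⟨g', hg'⟩ : g ∈ Set.range π := by rw [hrange]; exact hg
  obtain ⟨z', h1, h2, h3⟩ := Groth.Agent.Helper5.GrpDense.s3015 k Gs Us Us hd hd g'
  refine ⟨ρ i G z', ?_, ?_, ?_⟩
  · rw [← Scheme.Hom.comp_apply, ρ_fst, Scheme.Hom.comp_apply]
    exact h1
  · rw [← Scheme.Hom.comp_apply, ρ_snd, Scheme.Hom.comp_apply]
    exact h2
  · rw [← Scheme.Hom.comp_apply, ← ρ_map, Scheme.Hom.comp_apply]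
    have h4 : (Functor.LaxMonoidal.μ (Over.pullback i) G G ≫
        (Over.pullback i).map μ[G]).left z' = g' := h3
    rw [h4, hg']


theorem isCompact_preimage (hconn : ∀ s : S, _root_.IsConnected (G.hom.base ⁻¹' {s})) (s : S) :
    ∃ W : S.Opens, IsAffineOpen W ∧ s ∈ W ∧ IsCompact (G.hom ⁻¹ᵁ W : Set G.left) := by
  obtain ⟨V, hV, hsV, -⟩ := exists_isAffineOpen_mem_and_subset (x := s) (U := ⊤) trivial
  let e : S ⟶ G.left := η[G].left
  have he : e ≫ G.hom = 𝟙 S := Over.w η[G]
  have hee : ∀ t : S, G.hom (e t) = t := fun t => by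
    rw [← Scheme.Hom.comp_apply, he]; rfl
  have hes : e s ∈ G.hom ⁻¹ᵁ V := by
    show G.hom (e s) ∈ V
    rw [hee]; exact hsV
  obtain ⟨U, hU, hesU, hUV⟩ :=
    exists_isAffineOpen_mem_and_subset (x := e s) (U := G.hom ⁻¹ᵁ V) hes
  obtain ⟨f, hfO, hsf⟩ := hV.exists_basicOpen_le (V := e ⁻¹ᵁ U) ⟨s, hesU⟩ hsV
  let W := S.basicOpen f
  have hW : IsAffineOpen W := hV.basicOpen f
  let f' := G.hom.appLE V U hUV f
  let U' := G.left.basicOpen f'
  have hU' : IsAffineOpen U' := hU.basicOpen f'
  have hU'eq : U' = U ⊓ G.hom ⁻¹ᵁ W := Scheme.basicOpen_appLE G.hom U V hUV f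
  have hU'W : U' ≤ G.hom ⁻¹ᵁ W := by rw [hU'eq]; exact inf_le_right
  let a : U'.toScheme ⟶ W.toScheme := G.hom.resLE W U' hU'W
  haveI : IsAffine U'.toScheme := hU'
  haveI : IsAffine W.toScheme := hW
  let j := pullback.map a a G.hom G.hom U'.ι U'.ι W.ι (by simp [a]) (by simp [a])
  have hr : Set.range j =
      (fst G G).left ⁻¹' (U' : Set G.left) ∩ (snd G G).left ⁻¹' (U' : Set G.left) := by
    have := Scheme.Pullback.range_map a a G.hom G.hom U'.ι U'.ι W.ι (by simp [a]) (by simp [a])
    rw [Scheme.Opens.range_ι] at this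
    exact this
  have hK : IsCompact (Set.range j) := isCompact_range j.continuous
  have hhom : ∀ z : (G ⊗ G).left, G.hom (μ[G].left z) = G.hom ((fst G G).left z) := fun z => by
    rw [← Scheme.Hom.comp_apply, ← Scheme.Hom.comp_apply, Over.w μ[G], Over.w (fst G G)]
  have hhom' : ∀ z : (G ⊗ G).left, G.hom (μ[G].left z) = G.hom ((snd G G).left z) := fun z => by
    rw [← Scheme.Hom.comp_apply, ← Scheme.Hom.comp_apply, Over.w μ[G], Over.w (snd G G)]
  have himg : μ[G].left '' Set.range j = (G.hom ⁻¹ᵁ W : Set G.left) := by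
    apply Set.Subset.antisymm
    · rintro _ ⟨z, hz, rfl⟩
      rw [hr] at hz
      show G.hom (μ[G].left z) ∈ W
      rw [hhom]
      exact hU'W hz.1
    · intro g hg
      have hg' : G.hom g ∈ W := hg
      have h1 : e (G.hom g) ∈ U := hfO hg'
      obtain ⟨z, hz1, hz2, hz3⟩ :=
        exists_mul_of_fibre_connected G (G.hom g) (hconn _) U h1 g rfl
      refine ⟨z, ?_, hz3⟩
      rw [hr]
      constructor
      · show (fst G G).left z ∈ U'
        rw [hU'eq]
        refine ⟨hz1, ?_⟩
        show G.hom ((fst G G).left z) ∈ W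
        rw [← hhom, hz3]; exact hg'
      · show (snd G G).left z ∈ U'
        rw [hU'eq]
        refine ⟨hz2, ?_⟩
        show G.hom ((snd G G).left z) ∈ W
        rw [← hhom', hz3]; exact hg'
  refine ⟨W, hW, hsf, ?_⟩
  rw [← himg]
  exact hK.image μ[G].left.continuous

theorem main (hconn : ∀ s : S, _root_.IsConnected (G.hom.base ⁻¹' {s})) : QuasiCompact G.hom := by
  choose W hW hsW hc using isCompact_preimage G hconn
  refine HasAffineProperty.of_iSup_eq_top (P := @QuasiCompact) (fun s => ⟨W s, hW s⟩) ?_ ?_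
  · exact top_le_iff.mp fun s _ => TopologicalSpace.Opens.mem_iSup.mpr ⟨s, hsW s⟩
  · intro s
    exact isCompact_iff_compactSpace.mp (hc s)

end Groth.Agent.Helper3.FibQC
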