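import Mathlib
import Groth.Prelude
import Groth.Agent.Helper3.AlgPA
import Groth.Agent.Helper3.TauA
import Groth.Agent.Helper3.NoethConn

set_option autoImplicit false
set_option linter.style.haveILetI false
set_option linter.unusedSectionVars false
set_option linter.unusedVariables false
set_option linter.deprecated false
set_option linter.style.haveILetI false
set_option linter.unusedSectionVars false
set_option linter.unusedVariables false

open CategoryTheory CategoryTheory.Limits AlgebraicGeometry MonObj MonoidalCategory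
  CartesianMonoidalCategory TopologicalSpace Topology

namespace Groth.Agent.Helper3.AlgPB

universe u

variable {k : Type u} [Field k] [IsAlgClosed k]
variable (G : Over (Spec (CommRingCat.of k)))

/-- evaluation of a `k`-point at the closed point of `Spec k` -/
noncomputable def ev (x : 𝟙_ (Over (Spec (CommRingCat.of k))) ⟶ G) : G.left :=
  x.left.base (IsLocalRing.closedPoint k)

theorem ev_comp {H : Over (Spec (CommRingCat.of k))}
    (x : 𝟙_ (Over (Spec (CommRingCat.of k))) ⟶ G) (f : G ⟶ H) :
    ev H (x ≫ f) = f.left.base (ev G x) := by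
  unfold ev
  rw [Over.comp_left, Scheme.Hom.comp_apply]

theorem exists_point [LocallyOfFiniteType G.hom] (h : G.left) (hh : IsClosed {h}) :
    ∃ c : 𝟙_ (Over (Spec (CommRingCat.of k))) ⟶ G, ev G c = h := by
  refine ⟨Over.homMk (pointOfClosedPoint G.hom h hh) (pointOfClosedPoint_comp G.hom h hh), ?_⟩
  unfold ev
  exact pointOfClosedPoint_apply G.hom h hh _

theorem ev_injective [LocallyOfFiniteType G.hom]
    {c c' : 𝟙_ (Over (Spec (CommRingCat.of k))) ⟶ G} (H : ev G c = ev G c') : c = c' := by
  apply Over.OverMorphism.ext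
  exact ext_of_apply_closedPoint_eq G.hom (Over.w c) (Over.w c') H

theorem isClosed_ev [LocallyOfFiniteType G.hom]
    (c : 𝟙_ (Over (Spec (CommRingCat.of k))) ⟶ G) : IsClosed ({ev G c} : Set G.left) :=
  (pointEquivClosedPoint G.hom ⟨c.left, Over.w c⟩).2


instance jacobson [LocallyOfFiniteType G.hom] : JacobsonSpace G.left :=
  LocallyOfFiniteType.jacobsonSpace G.hom

/-- the neutral component, as a subset -/
noncomputable def T [GrpObj G] : Set G.left := connectedComponent (ev G η[G])

theorem isClosed_T [GrpObj G] : IsClosed (T G) := isClosed_connectedComponent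

theorem unit_mem_T [GrpObj G] : ev G η[G] ∈ T G := mem_connectedComponent

/-- a morphism sending the unit into the neutral component preserves the neutral component -/
theorem map_T [GrpObj G] (f : G ⟶ G) (hf : f.left.base (ev G η[G]) ∈ T G) :
    ∀ t ∈ T G, f.left.base t ∈ T G := by
  intro t ht
  have h1 : _root_.IsPreconnected (f.left.base '' T G) :=
    isPreconnected_connectedComponent.image _ f.left.continuous.continuousOn
  have h2 : f.left.base '' T G ⊆ connectedComponent (f.left.base (ev G η[G])) :=
    h1.subset_connectedComponent ⟨_, unit_mem_T G, rfl⟩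
  have h3 : connectedComponent (f.left.base (ev G η[G])) = T G :=
    (connectedComponent_eq hf).symm
  rw [h3] at h2
  exact h2 ⟨t, ht, rfl⟩

/-- lifting `k`-points through a morphism, inside the neutral component -/
theorem lift_point [GrpObj G] [LocallyOfFiniteType G.hom] (f : G ⟶ G)
    (x : 𝟙_ (Over (Spec (CommRingCat.of k))) ⟶ G) (hx : ev G x ∈ f.left.base '' T G) :
    ∃ c : 𝟙_ (Over (Spec (CommRingCat.of k))) ⟶ G, ev G c ∈ T G ∧ c ≫ f = x := by
  obtain ⟨t, ht, htx⟩ := hx
  have hlc : IsLocallyClosed (f.left.base ⁻¹' {ev G x} ∩ T G) :=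
    (((isClosed_ev G x).preimage f.left.continuous).inter (isClosed_T G)).isLocallyClosed
  have hne : (f.left.base ⁻¹' {ev G x} ∩ T G).Nonempty := ⟨t, htx, ht⟩
  obtain ⟨s, ⟨hs1, hs2⟩, hs3⟩ := nonempty_inter_closedPoints hne hlc
  obtain ⟨c, hc⟩ := exists_point G s hs3
  refine ⟨c, hc ▸ hs2, ev_injective G ?_⟩
  rw [ev_comp, hc]
  exact hs1

end Groth.Agent.Helper3.AlgPB
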