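import Mathlib
import Groth.Prelude
import Groth.Agent.Helper3.AlgPB

set_option autoImplicit false
set_option linter.style.haveILetI false
set_option linter.unusedSectionVars false
set_option linter.unusedVariables false
set_option linter.deprecated false
set_option linter.style.haveILetI false
set_option linter.unusedSectionVars false
set_option linter.unusedVariables false

open CategoryTheory CategoryTheory.Limits AlgebraicGeometry MonObj MonoidalCategory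
  CartesianMonoidalCategory TopologicalSpace Topology

namespace Groth.Agent.Helper3.AlgPC

open Groth.Agent.Helper3.AlgPB

universe u

variable {k : Type u} [Field k] [IsAlgClosed k]
variable (G : Over (Spec (CommRingCat.of k))) [GrpObj G]

/-- `x ↦ a * x⁻¹` -/
noncomputable def tr (a : 𝟙_ (Over (Spec (CommRingCat.of k))) ⟶ G) : G ⟶ G :=
  (toUnit G ≫ a) * (𝟙 G : G ⟶ G)⁻¹

/-- `x ↦ a * x` -/
noncomputable def lt (a : 𝟙_ (Over (Spec (CommRingCat.of k))) ⟶ G) : G ⟶ G :=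
  (toUnit G ≫ a) * (𝟙 G : G ⟶ G)

theorem comp_tr {X : Over (Spec (CommRingCat.of k))} (φ : X ⟶ G)
    (a : 𝟙_ (Over (Spec (CommRingCat.of k))) ⟶ G) :
    φ ≫ tr G a = (toUnit X ≫ a) * φ⁻¹ := by
  unfold tr
  rw [MonObj.comp_mul, GrpObj.comp_inv, Category.comp_id, ← Category.assoc,
    toUnit_unique (φ ≫ toUnit G) (toUnit X)]

theorem comp_lt {X : Over (Spec (CommRingCat.of k))} (φ : X ⟶ G)
    (a : 𝟙_ (Over (Spec (CommRingCat.of k))) ⟶ G) :
    φ ≫ lt G a = (toUnit X ≫ a) * φ := by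
  unfold lt
  rw [MonObj.comp_mul, Category.comp_id, ← Category.assoc,
    toUnit_unique (φ ≫ toUnit G) (toUnit X)]

theorem pt_tr (x a : 𝟙_ (Over (Spec (CommRingCat.of k))) ⟶ G) : x ≫ tr G a = a * x⁻¹ := by
  rw [comp_tr, toUnit_unique (toUnit _) (𝟙 _), Category.id_comp]

theorem pt_lt (x a : 𝟙_ (Over (Spec (CommRingCat.of k))) ⟶ G) : x ≫ lt G a = a * x := by
  rw [comp_lt, toUnit_unique (toUnit _) (𝟙 _), Category.id_comp]

theorem pt_pow (x : 𝟙_ (Over (Spec (CommRingCat.of k))) ⟶ G) (N : ℕ) :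
    x ≫ ((𝟙 G : G ⟶ G) ^ N) = x ^ N := by
  rw [MonObj.comp_pow, Category.comp_id]

theorem tr_tr [IsCommMonObj G] (a : 𝟙_ (Over (Spec (CommRingCat.of k))) ⟶ G) :
    tr G a ≫ tr G a = 𝟙 G := by
  rw [comp_tr]
  unfold tr
  rw [mul_inv_rev, inv_inv, _root_.mul_comm (𝟙 G : G ⟶ G), mul_inv_cancel_left]

theorem pw_tr [IsCommMonObj G] (g : 𝟙_ (Over (Spec (CommRingCat.of k))) ⟶ G) (n m : ℕ) :
    ((𝟙 G : G ⟶ G) ^ (n ^ (m + 1))) ≫ tr G (g ^ (n ^ m)) =
      ((toUnit G ≫ g) * ((𝟙 G : G ⟶ G) ^ n)⁻¹) ≫ ((𝟙 G : G ⟶ G) ^ (n ^ m)) := by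
  rw [comp_tr, MonObj.comp_pow]
  conv_rhs => rw [MonObj.comp_pow, Category.comp_id, mul_pow, inv_pow, ← pow_mul, ← pow_succ']


/-- Key lemma: the chain of images of the `n^j`-power maps on the neutral component stabilises on
`k`-points. -/
theorem stab [IsCommMonObj G] [LocallyOfFiniteType G.hom] [QuasiCompact G.hom] (n : ℕ) :
    ∃ m : ℕ, ∀ g : 𝟙_ (Over (Spec (CommRingCat.of k))) ⟶ G, ev G g ∈ T G →
      ∃ c : 𝟙_ (Over (Spec (CommRingCat.of k))) ⟶ G, ev G c ∈ T G ∧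
        g ^ (n ^ m) = c ^ (n ^ (m + 1)) := by
  haveI : IsLocallyNoetherian G.left := LocallyOfFiniteType.isLocallyNoetherian G.hom
  haveI : CompactSpace G.left := QuasiCompact.compactSpace_of_compactSpace G.hom
  haveI : IsNoetherian G.left := {}
  have hpowT : ∀ N : ℕ, ∀ t ∈ T G, ((𝟙 G : G ⟶ G) ^ N).left.base t ∈ T G := by
    intro N
    apply map_T
    rw [← ev_comp, TauA.unit_pow]
    exact unit_mem_T G
  have hanti : ∀ j : ℕ, ((𝟙 G : G ⟶ G) ^ (n ^ (j + 1))).left.base '' T G ⊆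
      ((𝟙 G : G ⟶ G) ^ (n ^ j)).left.base '' T G := by
    rintro j _ ⟨t, ht, rfl⟩
    refine ⟨((𝟙 G : G ⟶ G) ^ n).left.base t, hpowT n t ht, ?_⟩
    rw [TauA.pow_pow_apply, pow_succ']
  -- the chain of closures stabilises
  obtain ⟨m, hm⟩ : ∃ m : ℕ, closure (((𝟙 G : G ⟶ G) ^ (n ^ (m + 1))).left.base '' T G) =
      closure (((𝟙 G : G ⟶ G) ^ (n ^ m)).left.base '' T G) := by
    let C : ℕ → Closeds G.left := fun j =>
      ⟨closure (((𝟙 G : G ⟶ G) ^ (n ^ j)).left.base '' T G), isClosed_closure⟩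
    obtain ⟨_, ⟨m, rfl⟩, hmin⟩ := (wellFounded_lt (α := Closeds G.left)).has_min (Set.range C)
      ⟨C 0, 0, rfl⟩
    refine ⟨m, ?_⟩
    have hle : C (m + 1) ≤ C m := by
      show closure _ ⊆ closure _
      exact closure_mono (hanti m)
    have hnlt := hmin (C (m + 1)) ⟨m + 1, rfl⟩
    have heq : C (m + 1) = C m := by
      by_contra hne
      exact hnlt (lt_of_le_of_ne hle hne)
    exact congrArg (fun c : Closeds G.left => (c : Set G.left)) heq
  refine ⟨m, fun g hg => ?_⟩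
  -- constructibility
  have hTcons : IsConstructible (T G) :=
    (NoetherianSpace.isCompact (T G)).isConstructible (NoethConn.isOpen_connectedComponent _)
  haveI : LocallyOfFiniteType ((𝟙 G : G ⟶ G) ^ (n ^ (m + 1))).left :=
    haveI : LocallyOfFiniteType (((𝟙 G : G ⟶ G) ^ (n ^ (m + 1))).left ≫ G.hom) := by
      rw [Over.w]; infer_instance
    locallyOfFiniteType_of_comp _ G.hom
  have hcons : IsConstructible (((𝟙 G : G ⟶ G) ^ (n ^ (m + 1))).left.base '' T G) :=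
    Scheme.Hom.isConstructible_image _ hTcons
  have hne : (((𝟙 G : G ⟶ G) ^ (n ^ (m + 1))).left.base '' T G).Nonempty :=
    ⟨_, ev G η[G], unit_mem_T G, rfl⟩
  have hτC : ∀ y ∈ closure (((𝟙 G : G ⟶ G) ^ (n ^ (m + 1))).left.base '' T G),
      (tr G (g ^ (n ^ m))).left.base y ∈
        closure (((𝟙 G : G ⟶ G) ^ (n ^ (m + 1))).left.base '' T G) := by
    have h1 : (tr G (g ^ (n ^ m))).left.base '' (((𝟙 G : G ⟶ G) ^ (n ^ (m + 1))).left.base '' T G) ⊆
        ((𝟙 G : G ⟶ G) ^ (n ^ m)).left.base '' T G := by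
      rintro _ ⟨_, ⟨t, ht, rfl⟩, rfl⟩
      refine ⟨((toUnit G ≫ g) * ((𝟙 G : G ⟶ G) ^ n)⁻¹).left.base t, ?_, ?_⟩
      · apply map_T G _ _ t ht
        rw [← ev_comp, MonObj.comp_mul, GrpObj.comp_inv, TauA.unit_pow, ← Category.assoc,
          toUnit_unique (η[G] ≫ toUnit G) (𝟙 _), Category.id_comp, TauA.eta_eq_one, inv_one,
          _root_.mul_one]
        exact hg
      · rw [← Scheme.Hom.comp_apply, ← Scheme.Hom.comp_apply, ← Over.comp_left, ← Over.comp_left,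
          pw_tr]
    intro y hy
    have h2 := image_closure_subset_closure_image (tr G (g ^ (n ^ m))).left.continuous
      ⟨y, hy, rfl⟩
    rw [hm]
    exact closure_mono h1 h2
  have hinv : ∀ y, (tr G (g ^ (n ^ m))).left.base ((tr G (g ^ (n ^ m))).left.base y) = y := by
    intro y
    rw [← Scheme.Hom.comp_apply, ← Over.comp_left, tr_tr]
    rfl
  obtain ⟨h, hcl, hhZ, hτhZ⟩ := AlgPA.exists_closed_point_inter _ hcons hne
    (tr G (g ^ (n ^ m))).left.base (tr G (g ^ (n ^ m))).left.continuous hinv hτC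
  obtain ⟨hh, rfl⟩ := exists_point G h hcl
  obtain ⟨c1, hc1, hc1'⟩ := lift_point G ((𝟙 G : G ⟶ G) ^ (n ^ (m + 1))) hh hhZ
  obtain ⟨c2, hc2, hc2'⟩ := lift_point G ((𝟙 G : G ⟶ G) ^ (n ^ (m + 1))) (hh ≫ tr G (g ^ (n ^ m)))
    (by rw [ev_comp]; exact hτhZ)
  refine ⟨c2 * c1, ?_, ?_⟩
  · rw [← pt_lt, ev_comp]
    apply map_T G (lt G c2) ?_ _ hc1
    rw [← ev_comp, pt_lt, TauA.eta_eq_one, _root_.mul_one]
    exact hc2
  · rw [pt_pow] at hc1' hc2'
    rw [pt_tr] at hc2'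
    rw [mul_pow, hc1', hc2', inv_mul_cancel_right]

end Groth.Agent.Helper3.AlgPC
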