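import Mathlib
import Groth.Prelude
import Groth.Agent.Helper3.AlgPC

set_option autoImplicit false
set_option linter.style.haveILetI false
set_option linter.unusedSectionVars false
set_option linter.unusedVariables false
set_option linter.deprecated false
set_option linter.style.haveILetI false
set_option linter.unusedSectionVars false
set_option linter.unusedVariables false

open CategoryTheory CategoryTheory.Limits AlgebraicGeometry MonObj MonoidalCategory
  CartesianMonoidalCategory TopologicalSpace Topology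

namespace Groth.Agent.Helper3.AlgPD

open Groth.Agent.Helper3.AlgPB Groth.Agent.Helper3.AlgPC

universe u

variable {k : Type u} [Field k] [IsAlgClosed k]
variable (G : Over (Spec (CommRingCat.of k))) [GrpObj G]

/-- iterated divisibility of `p^m`-th powers of points of the neutral component -/
theorem divisible [IsCommMonObj G] [LocallyOfFiniteType G.hom] [QuasiCompact G.hom] (p : ℕ) :
    ∃ m : ℕ, ∀ j : ℕ, ∀ g : 𝟙_ (Over (Spec (CommRingCat.of k))) ⟶ G, ev G g ∈ T G →
      ∃ z : 𝟙_ (Over (Spec (CommRingCat.of k))) ⟶ G, ev G z ∈ T G ∧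
        g ^ (p ^ m) = z ^ (p ^ (m + j)) := by
  obtain ⟨m, hm⟩ := stab G p
  refine ⟨m, fun j => ?_⟩
  induction j with
  | zero => exact fun g hg => ⟨g, hg, rfl⟩
  | succ j ih =>
    intro g hg
    obtain ⟨z, hz, hgz⟩ := ih g hg
    obtain ⟨c, hc, hzc⟩ := hm z hz
    refine ⟨c, hc, ?_⟩
    rw [hgz, pow_add, pow_mul, hzc, ← pow_mul, ← pow_add]
    congr 1
    ring

/-- the `p`-primary part of the group of components lifts to `p`-power torsion points -/
theorem main [IsCommMonObj G] [LocallyOfFiniteType G.hom] [QuasiCompact G.hom] (p : ℕ)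
    (x : 𝟙_ (Over (Spec (CommRingCat.of k))) ⟶ G) (r : ℕ) (hx : ev G (x ^ (p ^ r)) ∈ T G) :
    ∃ y : 𝟙_ (Over (Spec (CommRingCat.of k))) ⟶ G,
      ev G y ∈ connectedComponent (ev G x) ∧ ∃ s : ℕ, y ^ (p ^ s) = 1 := by
  obtain ⟨m, hm⟩ := divisible G p
  obtain ⟨z, hz, hxz⟩ := hm r _ hx
  refine ⟨x * z⁻¹, ?_, m + r, ?_⟩
  · rw [← pt_lt, ev_comp]
    have hz' : ev G z⁻¹ ∈ T G := by
      rw [Hom.inv_def, GrpObj.inv_eq_inv, ev_comp]
      apply map_T G _ _ _ hz
      rw [← ev_comp, GrpObj.comp_inv, Category.comp_id, TauA.eta_eq_one, inv_one]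
      rw [← TauA.eta_eq_one]
      exact unit_mem_T G
    have h1 := (lt G x).left.continuous.image_connectedComponent_subset (ev G η[G])
    have h2 : (lt G x).left.base (ev G η[G]) = ev G x := by
      rw [← ev_comp, pt_lt, TauA.eta_eq_one, _root_.mul_one]
    rw [h2] at h1
    exact h1 ⟨_, hz', rfl⟩
  · rw [mul_pow, inv_pow, ← hxz, ← pow_mul, ← pow_add, add_comm r m, mul_inv_cancel]

end Groth.Agent.Helper3.AlgPD
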