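import Mathlib
import Groth.Prelude
import Groth.Agent.Helper3.AlgPC
import Groth.Agent.Helper3.FibQC

set_option autoImplicit false
set_option linter.style.haveILetI false
set_option linter.unusedSectionVars false
set_option linter.unusedVariables false
set_option linter.deprecated false
set_option linter.style.haveILetI false
set_option linter.unusedSectionVars false
set_option linter.unusedVariables false

open CategoryTheory CategoryTheory.Limits AlgebraicGeometry MonObj MonoidalCategory
  CartesianMonoidalCategory TopologicalSpace Topology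

namespace Groth.Agent.Helper3.AlgPE

open Groth.Agent.Helper3.AlgPB Groth.Agent.Helper3.AlgPC

universe u

variable {k : Type u} [Field k] [IsAlgClosed k]

/-- a subgroup object (via a monomorphic homomorphism) of a commutative group object is
commutative -/
theorem isCommMonObj_of_mono {C : Type*} [Category C] [CartesianMonoidalCategory C]
    [BraidedCategory C] {G0 G : C} [MonObj G0] [MonObj G] [IsCommMonObj G] (i : G0 ⟶ G)
    [IsMonHom i] [Mono i] : IsCommMonObj G0 := by
  rw [isCommMonObj_iff_isMulCommutative]
  intro X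
  refine ⟨⟨fun x y => ?_⟩⟩
  rw [← cancel_mono i, MonObj.mul_comp, MonObj.mul_comp, _root_.mul_comm]

variable {G G0 : Over (Spec (CommRingCat.of k))} [GrpObj G] [GrpObj G0]

/-- the identity component of a group scheme over a field is connected -/
theorem connectedSpace_of_isIdComp (i : G0 ⟶ G) (hi : AutSch.IsIdComp i) :
    ConnectedSpace G0.left := by
  haveI : IsOpenImmersion i.left := hi.2.1
  have hr : Set.range i.left.base = connectedComponent (AutSch.unitPt G) := by
    rw [hi.2.2, AutSch.neutralSet_eq_connectedComponent]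
  have hconn : _root_.IsConnected (Set.range i.left.base) := by
    rw [hr]; exact isConnected_connectedComponent
  have hemb := i.left.isOpenEmbedding
  have h1 : _root_.IsConnected (i.left.base ⁻¹' Set.range i.left.base) :=
    hconn.preimage_of_isOpenMap hemb.injective hemb.isOpenMap subset_rfl
  rw [Set.preimage_range] at h1
  exact connectedSpace_iff_univ.mpr h1

theorem quasiCompact_of_isIdComp (i : G0 ⟶ G) (hi : AutSch.IsIdComp i) :
    QuasiCompact G0.hom := by
  haveI := connectedSpace_of_isIdComp i hi
  apply FibQC.main G0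
  intro s
  have : G0.hom.base ⁻¹' {s} = Set.univ :=
    Set.eq_univ_of_forall fun x => @Subsingleton.elim (PrimeSpectrum k) inferInstance _ _
  rw [this]
  exact isConnected_univ

theorem main [IsCommMonObj G] [LocallyOfFiniteType G.hom] (i : G0 ⟶ G) [IsMonHom i]
    (hi : AutSch.IsIdComp i) (g : 𝟙_ (Over (Spec (CommRingCat.of k))) ⟶ G) (n : ℕ) (hn : 0 < n)
    (hg : g ^ n ∈ AutSch.ptsRange i) :
    ∃ t : 𝟙_ (Over (Spec (CommRingCat.of k))) ⟶ G,
      IsOfFinOrder t ∧ t⁻¹ * g ∈ AutSch.ptsRange i := by
  haveI : IsOpenImmersion i.left := hi.2.1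
  haveI : Mono i := Over.mono_of_mono_left i
  haveI : IsCommMonObj G0 := isCommMonObj_of_mono i
  haveI : LocallyOfFiniteType G0.hom := by
    rw [← Over.w i]; infer_instance
  haveI : QuasiCompact G0.hom := quasiCompact_of_isIdComp i hi
  haveI := connectedSpace_of_isIdComp i hi
  obtain ⟨h0, hh0⟩ := (AutSch.mem_ptsRange_iff i _).mp hg
  obtain ⟨m, hm⟩ := stab G0 n
  have hT : ev G0 h0 ∈ T G0 := by
    unfold T
    rw [PreconnectedSpace.connectedComponent_eq_univ]
    exact Set.mem_univ _
  obtain ⟨c, -, hc⟩ := hm h0 hT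
  refine ⟨g * (c ≫ i)⁻¹, ?_, ?_⟩
  · rw [isOfFinOrder_iff_pow_eq_one]
    refine ⟨n ^ (m + 1), pow_pos hn _, ?_⟩
    rw [mul_pow, inv_pow, ← MonObj.pow_comp, ← hc, MonObj.pow_comp, hh0, ← pow_mul, ← pow_succ',
      mul_inv_cancel]
  · rw [mul_inv_rev, inv_inv, inv_mul_cancel_right]
    exact (AutSch.mem_ptsRange_iff i _).mpr ⟨c, rfl⟩

end Groth.Agent.Helper3.AlgPE
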