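import Mathlib
import Groth.Prelude
import Groth.Agent.Helper3.AlgPC
import Groth.Agent.Helper3.PowComm

set_option autoImplicit false
set_option linter.style.haveILetI false
set_option linter.unusedSectionVars false
set_option linter.unusedVariables false
set_option linter.deprecated false
set_option linter.style.haveILetI false
set_option linter.unusedSectionVars false
set_option linter.unusedVariables false

open CategoryTheory CategoryTheory.Limits AlgebraicGeometry MonObj MonoidalCategory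
  CartesianMonoidalCategory TopologicalSpace Topology

namespace Groth.Agent.Helper3.AlgPF

open Groth.Agent.Helper3.AlgPB Groth.Agent.Helper3.AlgPC

universe u

theorem aux {Γ : Type*} [CommGroup Γ] (yp y' x : Γ) (A B : ℕ) (u v : ℤ)
    (h : (A : ℤ) * u + (B : ℤ) * v = 1) :
    yp ^ u * y' ^ v / x = (yp / x ^ A) ^ u * (y' / x ^ B) ^ v := by
  have hx : x = (x ^ A) ^ u * (x ^ B) ^ v := by
    rw [← zpow_natCast, ← zpow_natCast, ← zpow_mul, ← zpow_mul, ← zpow_add, h, zpow_one]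
  rw [div_zpow, div_zpow, div_mul_div_comm, ← hx]

/-- abstract group theory: a splitting of the `p`-primary part of a torsion quotient `Γ/Γ0`,
with `Γ0` divisible by the integers prime to `p`, gives a splitting of the whole quotient -/
theorem split_of_ppart {Γ : Type*} [CommGroup Γ] (Γ0 : Subgroup Γ) (p : ℕ) (hp : p.Prime)
    (htors : ∀ x : Γ, ∃ n, 0 < n ∧ x ^ n ∈ Γ0)
    (hdiv : ∀ N : ℕ, ¬ p ∣ N → ∀ z ∈ Γ0, ∃ c ∈ Γ0, c ^ N = z)
    (hpp : ∀ x : Γ, (∃ r : ℕ, x ^ (p ^ r) ∈ Γ0) →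
      ∃ y : Γ, y / x ∈ Γ0 ∧ ∀ n : ℕ, y ^ n = 1 ↔ x ^ n ∈ Γ0) (x : Γ) :
    ∃ y : Γ, y / x ∈ Γ0 ∧ ∀ n : ℕ, y ^ n = 1 ↔ x ^ n ∈ Γ0 := by
  classical
  obtain ⟨n0, hn0, hxn0⟩ := htors x
  -- the order of the class of x
  have hex : ∃ n, 0 < n ∧ x ^ n ∈ Γ0 := ⟨n0, hn0, hxn0⟩
  set N := Nat.find hex with hNdef
  have hNpos : 0 < N := (Nat.find_spec hex).1
  have hxN : x ^ N ∈ Γ0 := (Nat.find_spec hex).2
  have hdvd : ∀ n : ℕ, x ^ n ∈ Γ0 → N ∣ n := by
    intro n hn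
    by_contra hnd
    have hr : 0 < n % N := Nat.pos_of_ne_zero fun h => hnd (Nat.dvd_of_mod_eq_zero h)
    have h1 : x ^ (n % N) ∈ Γ0 := by
      have h2 : x ^ n = x ^ (n % N) * (x ^ N) ^ (n / N) := by
        rw [← pow_mul, ← pow_add, Nat.mod_add_div]
      have h3 : x ^ (n % N) = x ^ n / (x ^ N) ^ (n / N) := by
        rw [h2, mul_div_cancel_right]
      rw [h3]
      exact Γ0.div_mem hn (Γ0.pow_mem hxN _)
    exact Nat.find_min hex (Nat.mod_lt n hNpos) ⟨hr, h1⟩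
  obtain ⟨a, N', hpN', hNeq⟩ := Nat.exists_eq_pow_mul_and_not_dvd hNpos.ne' p hp.ne_one
  have hcop : Nat.Coprime N' (p ^ a) :=
    (Nat.Coprime.pow_left a ((Nat.Prime.coprime_iff_not_dvd hp).mpr hpN')).symm
  -- Bezout
  obtain ⟨u, v, huv⟩ : ∃ u v : ℤ, (N' : ℤ) * u + ((p ^ a : ℕ) : ℤ) * v = 1 := by
    refine ⟨Nat.gcdA N' (p ^ a), Nat.gcdB N' (p ^ a), ?_⟩
    rw [← Nat.gcd_eq_gcd_ab, hcop.gcd_eq_one]
    rfl
  -- the p-part
  obtain ⟨yp, hyp1, hyp2⟩ := hpp (x ^ N') ⟨a, by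
    rw [← pow_mul, _root_.mul_comm, ← hNeq]; exact hxN⟩
  -- the prime-to-p part
  have hz : (x ^ (p ^ a)) ^ N' ∈ Γ0 := by
    rw [← pow_mul, ← hNeq]; exact hxN
  obtain ⟨c, hc, hcz⟩ := hdiv N' hpN' _ hz
  obtain ⟨y', hy'⟩ : ∃ y' : Γ, y' = x ^ (p ^ a) / c := ⟨_, rfl⟩
  have hy'N : y' ^ N' = 1 := by
    rw [hy', div_pow, hcz, div_self']
  have hy'x : y' / x ^ (p ^ a) ∈ Γ0 := by
    rw [hy', div_div_cancel_left]
    exact Γ0.inv_mem hc
  refine ⟨yp ^ u * y' ^ v, ?_, fun n => ⟨fun hn => ?_, fun hn => ?_⟩⟩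
  · rw [aux yp y' x N' (p ^ a) u v huv]
    exact Γ0.mul_mem (Γ0.zpow_mem hyp1 _) (Γ0.zpow_mem hy'x _)
  · -- y^n = 1 → x^n ∈ Γ0
    have h1 : (yp ^ u * y' ^ v / x) ^ n ∈ Γ0 := Γ0.pow_mem (by
      rw [aux yp y' x N' (p ^ a) u v huv]
      exact Γ0.mul_mem (Γ0.zpow_mem hyp1 _) (Γ0.zpow_mem hy'x _)) n
    rw [div_pow, hn, one_div] at h1
    exact (Γ0.inv_mem_iff).mp h1
  · -- x^n ∈ Γ0 → y^n = 1
    have hNn := hdvd n hn
    have h1 : yp ^ n = 1 := by
      rw [hyp2, ← pow_mul, _root_.mul_comm, pow_mul]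
      exact Γ0.pow_mem hn _
    have h2 : y' ^ n = 1 := by
      have : N' ∣ n := (Dvd.intro_left _ hNeq.symm).trans hNn
      obtain ⟨q, rfl⟩ := this
      rw [pow_mul, hy'N, one_pow]
    rw [mul_pow, ← zpow_natCast, ← zpow_natCast, ← zpow_mul, ← zpow_mul, _root_.mul_comm u,
      _root_.mul_comm v, zpow_mul, zpow_mul, zpow_natCast, zpow_natCast, h1, h2, one_zpow, one_zpow,
      _root_.mul_one]


variable {k : Type u} [Field k] [IsAlgClosed k]
variable (G : Over (Spec (CommRingCat.of k))) [GrpObj G]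

theorem ev_one : ev G (1 : 𝟙_ (Over (Spec (CommRingCat.of k))) ⟶ G) = ev G η[G] := by
  rw [TauA.eta_eq_one]

theorem lt_unit (x : 𝟙_ (Over (Spec (CommRingCat.of k))) ⟶ G) :
    (lt G x).left.base (ev G η[G]) = ev G x := by
  rw [← ev_comp, pt_lt, TauA.eta_eq_one, _root_.mul_one]

/-- the `k`-points lying in the neutral component -/
noncomputable def Γ0 : Subgroup (𝟙_ (Over (Spec (CommRingCat.of k))) ⟶ G) where
  carrier := {x | ev G x ∈ T G}
  one_mem' := by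
    show ev G 1 ∈ T G
    rw [ev_one]; exact unit_mem_T G
  mul_mem' := by
    intro x y hx hy
    show ev G (x * y) ∈ T G
    rw [← pt_lt, ev_comp]
    apply map_T G (lt G x) ?_ _ hy
    rw [lt_unit]; exact hx
  inv_mem' := by
    intro x hx
    show ev G x⁻¹ ∈ T G
    rw [Hom.inv_def, GrpObj.inv_eq_inv, ev_comp]
    apply map_T G _ _ _ hx
    rw [← ev_comp, GrpObj.comp_inv, Category.comp_id, TauA.eta_eq_one, inv_one]
    rw [← TauA.eta_eq_one]
    exact unit_mem_T G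

theorem mem_Γ0_iff (x : 𝟙_ (Over (Spec (CommRingCat.of k))) ⟶ G) : x ∈ Γ0 G ↔ ev G x ∈ T G :=
  Iff.rfl

theorem mem_comp_iff [IsCommMonObj G] (x y : 𝟙_ (Over (Spec (CommRingCat.of k))) ⟶ G) :
    ev G y ∈ connectedComponent (ev G x) ↔ y / x ∈ Γ0 G := by
  constructor
  · intro h
    rw [mem_Γ0_iff]
    have h1 := (lt G x⁻¹).left.continuous.image_connectedComponent_subset (ev G x)
    have h2 : (lt G x⁻¹).left.base (ev G x) = ev G η[G] := by
      rw [← ev_comp, pt_lt, inv_mul_cancel, ev_one]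
    rw [h2] at h1
    have h3 : ev G (y / x) = (lt G x⁻¹).left.base (ev G y) := by
      rw [← ev_comp, pt_lt, div_eq_mul_inv, _root_.mul_comm]
    rw [h3]
    exact h1 ⟨_, h, rfl⟩
  · intro h
    rw [mem_Γ0_iff] at h
    have h1 := (lt G x).left.continuous.image_connectedComponent_subset (ev G η[G])
    rw [lt_unit] at h1
    have h3 : ev G y = (lt G x).left.base (ev G (y / x)) := by
      rw [← ev_comp, pt_lt, mul_div_cancel]
    rw [h3]
    exact h1 ⟨_, h, rfl⟩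

/-- the group of components is torsion -/
theorem torsion [IsCommMonObj G] [LocallyOfFiniteType G.hom] [QuasiCompact G.hom]
    (x : 𝟙_ (Over (Spec (CommRingCat.of k))) ⟶ G) : ∃ n, 0 < n ∧ x ^ n ∈ Γ0 G := by
  haveI : IsLocallyNoetherian G.left := LocallyOfFiniteType.isLocallyNoetherian G.hom
  haveI : CompactSpace G.left := QuasiCompact.compactSpace_of_compactSpace G.hom
  haveI : IsNoetherian G.left := {}
  haveI := NoethConn.finite_connectedComponents (α := G.left)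
  obtain ⟨a, b, hab, heq⟩ := Finite.exists_ne_map_eq_of_infinite
    (fun n : ℕ => (ConnectedComponents.mk (ev G (x ^ n)) : _root_.ConnectedComponents G.left))
  wlog hlt : a < b generalizing a b
  · exact this b a hab.symm heq.symm (lt_of_le_of_ne (not_lt.mp hlt) hab.symm)
  refine ⟨b - a, Nat.sub_pos_of_lt hlt, ?_⟩
  have h1 : ev G (x ^ b) ∈ connectedComponent (ev G (x ^ a)) := by
    rw [← ConnectedComponents.coe_eq_coe'] 
    exact heq.symm
  rw [mem_comp_iff] at h1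
  rwa [pow_sub x hlt.le, ← div_eq_mul_inv]


/-- `Γ0` is divisible by the integers invertible in `k` -/
theorem divisible_of_ne_zero [IsCommMonObj G] [LocallyOfFiniteType G.hom] [QuasiCompact G.hom]
    (N : ℕ) (hN : (N : k) ≠ 0) (z : 𝟙_ (Over (Spec (CommRingCat.of k))) ⟶ G) (hz : z ∈ Γ0 G) :
    ∃ c ∈ Γ0 G, c ^ N = z := by
  haveI : IsLocallyNoetherian G.left := LocallyOfFiniteType.isLocallyNoetherian G.hom
  haveI : CompactSpace G.left := QuasiCompact.compactSpace_of_compactSpace G.hom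
  haveI : IsNoetherian G.left := {}
  haveI hEt : Etale ((𝟙 G : G ⟶ G) ^ N).left := PowComm.etale_pow (k := k) (G := G) N hN
  have hopen : IsOpenMap ((𝟙 G : G ⟶ G) ^ N).left.base := ((𝟙 G : G ⟶ G) ^ N).left.isOpenMap
  have hTopen : IsOpen (T G) := NoethConn.isOpen_connectedComponent _
  have hHopen : IsOpen (((𝟙 G : G ⟶ G) ^ N).left.base '' T G) := hopen _ hTopen
  have hunit : ev G η[G] ∈ ((𝟙 G : G ⟶ G) ^ N).left.base '' T G :=
    ⟨ev G η[G], unit_mem_T G, by rw [← ev_comp, TauA.unit_pow]⟩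
  have hHT : ((𝟙 G : G ⟶ G) ^ N).left.base '' T G ⊆ T G := by
    rintro _ ⟨t, ht, rfl⟩
    apply map_T G _ _ t ht
    rw [← ev_comp, TauA.unit_pow]
    exact unit_mem_T G
  -- the image is closed
  have hHclosed : IsClosed (((𝟙 G : G ⟶ G) ^ N).left.base '' T G) := by
    rw [← closure_subset_iff_isClosed]
    by_contra hcon
    have hne : (closure (((𝟙 G : G ⟶ G) ^ N).left.base '' T G) ∩
        (((𝟙 G : G ⟶ G) ^ N).left.base '' T G)ᶜ).Nonempty := by
      obtain ⟨t, ht1, ht2⟩ := Set.not_subset.mp hcon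
      exact ⟨t, ht1, ht2⟩
    have hlc : IsLocallyClosed (closure (((𝟙 G : G ⟶ G) ^ N).left.base '' T G) ∩
        (((𝟙 G : G ⟶ G) ^ N).left.base '' T G)ᶜ) :=
      (isClosed_closure.inter hHopen.isClosed_compl).isLocallyClosed
    obtain ⟨t, ⟨ht1, ht2⟩, ht3⟩ := nonempty_inter_closedPoints hne hlc
    obtain ⟨x, rfl⟩ := exists_point G t ht3
    -- the open neighbourhood x * H of x
    have hOopen : IsOpen ((lt G x⁻¹).left.base ⁻¹' (((𝟙 G : G ⟶ G) ^ N).left.base '' T G)) :=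
      hHopen.preimage (lt G x⁻¹).left.continuous
    have hxO : ev G x ∈ (lt G x⁻¹).left.base ⁻¹' (((𝟙 G : G ⟶ G) ^ N).left.base '' T G) := by
      show (lt G x⁻¹).left.base (ev G x) ∈ (((𝟙 G : G ⟶ G) ^ N).left.base '' T G)
      rw [← ev_comp, pt_lt, inv_mul_cancel, ev_one]
      exact hunit
    have hne2 : ((lt G x⁻¹).left.base ⁻¹' (((𝟙 G : G ⟶ G) ^ N).left.base '' T G) ∩
        (((𝟙 G : G ⟶ G) ^ N).left.base '' T G)).Nonempty :=
      mem_closure_iff.mp ht1 _ hOopen hxO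
    obtain ⟨s, ⟨hs1, hs2⟩, hs3⟩ := nonempty_inter_closedPoints hne2
      (hOopen.inter hHopen).isLocallyClosed
    obtain ⟨z', rfl⟩ := exists_point G s hs3
    obtain ⟨c, hc, hcz⟩ := lift_point G _ z' hs2
    have hs1' : ev G (z' ≫ lt G x⁻¹) ∈ ((𝟙 G : G ⟶ G) ^ N).left.base '' T G := by
      rw [ev_comp]; exact hs1
    obtain ⟨c', hc', hcz'⟩ := lift_point G _ _ hs1'
    rw [pt_pow] at hcz hcz'
    rw [pt_lt] at hcz'
    apply ht2
    refine ⟨ev G (c / c'), (Γ0 G).div_mem hc hc', ?_⟩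
    rw [← ev_comp, pt_pow, div_pow, hcz, hcz', div_eq_mul_inv, mul_inv_rev, inv_inv,
      mul_inv_cancel_left]
  have hsub : T G ⊆ ((𝟙 G : G ⟶ G) ^ N).left.base '' T G :=
    isPreconnected_connectedComponent.subset_isClopen ⟨hHclosed, hHopen⟩
      ⟨ev G η[G], unit_mem_T G, hunit⟩
  obtain ⟨c, hc, hcz⟩ := lift_point G _ z (hsub hz)
  rw [pt_pow] at hcz
  exact ⟨c, hc, hcz⟩

/-- splitting of the component sequence is detected on its `p`-primary part -/
theorem main [IsCommMonObj G] [LocallyOfFiniteType G.hom] [QuasiCompact G.hom] (p : ℕ)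
    [Fact p.Prime] [CharP k p] :
    (∀ x : 𝟙_ (Over (Spec (CommRingCat.of k))) ⟶ G,
        ∃ y : 𝟙_ (Over (Spec (CommRingCat.of k))) ⟶ G,
          ev G y ∈ connectedComponent (ev G x) ∧ ∀ n : ℕ, y ^ n = 1 ↔ ev G (x ^ n) ∈ T G) ↔
      ∀ x : 𝟙_ (Over (Spec (CommRingCat.of k))) ⟶ G, (∃ r : ℕ, ev G (x ^ (p ^ r)) ∈ T G) →
        ∃ y : 𝟙_ (Over (Spec (CommRingCat.of k))) ⟶ G,
          ev G y ∈ connectedComponent (ev G x) ∧ ∀ n : ℕ, y ^ n = 1 ↔ ev G (x ^ n) ∈ T G := by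
  constructor
  · exact fun h x _ => h x
  · intro h x
    have key := split_of_ppart (Γ0 G) p (Fact.out : p.Prime) (torsion G)
      (fun N hN z hz => divisible_of_ne_zero G N
        (fun h0 => hN ((CharP.cast_eq_zero_iff k p N).mp h0)) z hz)
      (fun x hx => by
        obtain ⟨y, hy1, hy2⟩ := h x hx
        exact ⟨y, (mem_comp_iff G x y).mp hy1, hy2⟩) x
    obtain ⟨y, hy1, hy2⟩ := key
    exact ⟨y, (mem_comp_iff G x y).mpr hy1, hy2⟩

end Groth.Agent.Helper3.AlgPF
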