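import Mathlib
import Groth.Prelude.Def_CohB1
import Groth.Agent.S7409
import Groth.Agent.Helper6.HProj

set_option autoImplicit false
set_option linter.style.haveILetI false
set_option linter.unusedSectionVars false
set_option linter.unusedVariables false
set_option linter.deprecated false
set_option linter.style.haveILetI false
set_option linter.unusedSectionVars false
set_option linter.unusedVariables false

universe u

open CategoryTheory CategoryTheory.Limits AlgebraicGeometry

namespace Groth.Agent.Helper3.PhRef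

/-- `coprod.desc` of two proper morphisms is proper. -/
theorem isProper_coprodDesc {X Y U : Scheme.{u}} (f : X ⟶ U) (g : Y ⟶ U) [IsProper f] [IsProper g] :
    IsProper (coprod.desc f g) := by
  have h1 : IsProper (coprod.map f g) :=
    IsZariskiLocalAtTarget.coprodMap (P := @IsProper) f g inferInstance inferInstance
  have h2 : IsFinite (coprod.desc (𝟙 U) (𝟙 U)) := inferInstance
  have : coprod.desc f g = coprod.map f g ≫ coprod.desc (𝟙 U) (𝟙 U) := by
    ext <;> simp
  rw [this]
  infer_instance

/-- The map `P^n_V ⟶ P^n_U` induced by `ι : V ⟶ U`. -/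
noncomputable def pm (n : ℕ) {V U : Scheme.{u}} (ι : V ⟶ U) :
    CohB1.ProjSpaceOver n V ⟶ CohB1.ProjSpaceOver n U :=
  pullback.map (CohB1.ProjSpace.toSpec n (ULift.{u} ℤ)) (specULiftZIsTerminal.from V)
    (CohB1.ProjSpace.toSpec n (ULift.{u} ℤ)) (specULiftZIsTerminal.from U) (𝟙 _) ι (𝟙 _)
    (by simp) (specULiftZIsTerminal.hom_ext _ _)

theorem isPullback_pm (n : ℕ) {V U : Scheme.{u}} (ι : V ⟶ U) :
    IsPullback (pm n ι) (CohB1.ProjSpaceOver.toBase n V) (CohB1.ProjSpaceOver.toBase n U) ι := by
  have right : IsPullback (pullback.fst (CohB1.ProjSpace.toSpec n (ULift.{u} ℤ))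
      (specULiftZIsTerminal.from U)) (CohB1.ProjSpaceOver.toBase n U)
      (CohB1.ProjSpace.toSpec n (ULift.{u} ℤ)) (specULiftZIsTerminal.from U) :=
    IsPullback.of_hasPullback _ _
  have big : IsPullback (pullback.fst (CohB1.ProjSpace.toSpec n (ULift.{u} ℤ))
      (specULiftZIsTerminal.from V)) (CohB1.ProjSpaceOver.toBase n V)
      (CohB1.ProjSpace.toSpec n (ULift.{u} ℤ)) (specULiftZIsTerminal.from V) :=
    IsPullback.of_hasPullback _ _
  have e1 : pm n ι ≫ pullback.fst (CohB1.ProjSpace.toSpec n (ULift.{u} ℤ))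
      (specULiftZIsTerminal.from U) = pullback.fst (CohB1.ProjSpace.toSpec n (ULift.{u} ℤ))
      (specULiftZIsTerminal.from V) := by
    exact (pullback.lift_fst _ _ _).trans (Category.comp_id _)
  have e2 : ι ≫ specULiftZIsTerminal.from U = specULiftZIsTerminal.from V :=
    specULiftZIsTerminal.hom_ext _ _
  refine IsPullback.of_right ?_ ?_ right
  · rw [e1, e2]; exact big
  · exact pullback.lift_snd _ _ _

/-- Extension of a proper surjective morphism over a quasi-compact open to a proper surjective
morphism over the whole scheme, with a lifting property. -/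
theorem exists_extension {U V P : Scheme.{u}} (ι : V ⟶ U) [IsOpenImmersion ι] [QuasiCompact ι]
    [CompactSpace V] [QuasiSeparatedSpace V]
    (p : P ⟶ V) [IsProper p] [Surjective p] :
    ∃ (Q : Scheme.{u}) (q : Q ⟶ U), IsProper q ∧ Surjective q ∧
      ∀ (A : Scheme.{u}) (a : A ⟶ Q), Set.range (a ≫ q) ⊆ Set.range ι →
        ∃ h : A ⟶ P, h ≫ p ≫ ι = a ≫ q := by
  obtain ⟨n, P', π, j, hj, hjw, hπ, hπs⟩ := Groth.Agent.S7409.result p
  haveI := hj
  haveI := hπ
  haveI := hπs
  haveI hV : IsProper (CohB1.ProjSpaceOver.toBase n V) := Groth.Agent.Helper6.HProj.isProper_toBase n V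
  haveI hU : IsProper (CohB1.ProjSpaceOver.toBase n U) := Groth.Agent.Helper6.HProj.isProper_toBase n U
  -- `j` is proper hence a closed immersion
  haveI : IsProper (j ≫ CohB1.ProjSpaceOver.toBase n V) := by rw [hjw]; infer_instance
  haveI hjp : IsProper j := IsProper.of_comp j (CohB1.ProjSpaceOver.toBase n V)
  haveI hjc : IsClosedImmersion j := .of_isPreimmersion j (j.isClosedMap.isClosed_range)
  have hpb := isPullback_pm n ι
  haveI hm1 : IsOpenImmersion (pm n ι) := MorphismProperty.of_isPullback hpb.flip inferInstance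
  haveI hm2 : QuasiCompact (pm n ι) := MorphismProperty.of_isPullback hpb.flip inferInstance
  let t := CohB1.ProjSpaceOver.toBase n U
  let k : P' ⟶ CohB1.ProjSpaceOver n U := j ≫ pm n ι
  haveI : IsImmersion k := inferInstance
  haveI : QuasiCompact k := inferInstance
  have hkt : k ≫ t = π ≫ p ≫ ι := by
    show (j ≫ pm n ι) ≫ CohB1.ProjSpaceOver.toBase n U = _
    rw [Category.assoc, hpb.w, ← Category.assoc, hjw, Category.assoc]
  -- the closed complement
  let Cl : TopologicalSpace.Closeds U := ⟨(Set.range ι)ᶜ, ι.isOpenEmbedding.isOpen_range.isClosed_compl⟩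
  let I := Scheme.IdealSheafData.vanishingIdeal Cl
  let qZ : k.image ⟶ U := k.imageι ≫ t
  let Q := k.image ⨿ I.subscheme
  let q : Q ⟶ U := coprod.desc qZ I.subschemeι
  haveI : IsProper qZ := inferInstance
  haveI : IsProper I.subschemeι := inferInstance
  have hq : IsProper q := isProper_coprodDesc _ _
  -- key topological fact
  have key : ∀ z : k.image, qZ z ∈ Set.range ι → z ∈ Set.range k.toImage := by
    intro z hz
    have h1 : k.imageι z ∈ closure (Set.range k) := by
      have := Scheme.Hom.support_ker k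
      have h2 : k.imageι z ∈ Set.range k.imageι := ⟨z, rfl⟩
      rw [Scheme.IdealSheafData.range_subschemeι] at h2
      rw [← this]; exact h2
    have h2 : k.imageι z ∈ Set.range (pm n ι) := by
      obtain ⟨v, hv⟩ := hz
      obtain ⟨y, hy1, hy2⟩ := Scheme.Pullback.exists_preimage_pullback (k.imageι z) v (by
        show t (k.imageι z) = ι v
        rw [hv]; rfl)
      exact ⟨hpb.isoPullback.inv y, by
        rw [← Scheme.Hom.comp_apply, hpb.isoPullback_inv_fst]; exact hy1⟩
    have h3 : Set.range k = (pm n ι) '' (Set.range j) := by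
      rw [← Set.range_comp]; rfl
    obtain ⟨y, hy⟩ := h2
    have h4 : y ∈ closure (Set.range j) := by
      have h5 : closure (Set.range j) = (pm n ι) ⁻¹' closure ((pm n ι) '' (Set.range j)) :=
        (pm n ι).isOpenEmbedding.isInducing.closure_eq_preimage_closure_image (Set.range j)
      rw [h5, ← h3]
      show (pm n ι) y ∈ closure (Set.range k)
      rw [hy]; exact h1
    rw [(j.isClosedMap.isClosed_range).closure_eq] at h4
    obtain ⟨x, hx⟩ := h4
    refine ⟨x, ?_⟩
    apply k.imageι.isEmbedding.injective
    rw [← Scheme.Hom.comp_apply, k.toImage_imageι, ← hy, ← hx]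
    rfl
  refine ⟨Q, q, hq, ?_, ?_⟩
  · constructor
    intro u
    by_cases hu : u ∈ Set.range ι
    · obtain ⟨v, rfl⟩ := hu
      obtain ⟨x, rfl⟩ := p.surjective v
      obtain ⟨x', rfl⟩ := π.surjective x
      refine ⟨(coprod.inl : k.image ⟶ Q) (k.toImage x'), ?_⟩
      rw [← Scheme.Hom.comp_apply, ← Scheme.Hom.comp_apply]
      have : k.toImage ≫ (coprod.inl : k.image ⟶ Q) ≫ q = π ≫ p ≫ ι := by
        show k.toImage ≫ coprod.inl ≫ coprod.desc qZ I.subschemeι = _
        rw [coprod.inl_desc]
        show k.toImage ≫ k.imageι ≫ t = _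
        rw [← Category.assoc, k.toImage_imageι, hkt]
      rw [this]
      rfl
    · have : u ∈ Set.range I.subschemeι := by
        rw [Scheme.IdealSheafData.range_subschemeι]
        show u ∈ ((Scheme.IdealSheafData.vanishingIdeal Cl).support : Set U)
        rw [Scheme.IdealSheafData.coe_support_vanishingIdeal]
        exact hu
      obtain ⟨c, rfl⟩ := this
      refine ⟨(coprod.inr : I.subscheme ⟶ Q) c, ?_⟩
      rw [← Scheme.Hom.comp_apply]
      show (coprod.inr ≫ coprod.desc qZ I.subschemeι) c = _
      rw [coprod.inr_desc]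
  · intro A a ha
    have hr : Set.range a ⊆ Set.range (k.toImage ≫ (coprod.inl : k.image ⟶ Q)) := by
      rintro _ ⟨x, rfl⟩
      have hx : q (a x) ∈ Set.range ι := ha ⟨x, rfl⟩
      obtain ⟨(z | c), hz⟩ := (coprodMk k.image I.subscheme).surjective (a x)
      · rw [coprodMk_inl] at hz
        have : qZ z ∈ Set.range ι := by
          have e : q ((coprod.inl : k.image ⟶ Q) z) = qZ z := by
            rw [← Scheme.Hom.comp_apply]
            show (coprod.inl ≫ coprod.desc qZ I.subschemeι) z = _
            rw [coprod.inl_desc]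
          rw [← e, hz]; exact hx
        obtain ⟨x', hx'⟩ := key z this
        refine ⟨x', ?_⟩
        rw [Scheme.Hom.comp_apply, hx', hz]
      · exfalso
        rw [coprodMk_inr] at hz
        have e : q ((coprod.inr : I.subscheme ⟶ Q) c) = I.subschemeι c := by
          rw [← Scheme.Hom.comp_apply]
          show (coprod.inr ≫ coprod.desc qZ I.subschemeι) c = _
          rw [coprod.inr_desc]
        have hc : I.subschemeι c ∈ Set.range I.subschemeι := ⟨c, rfl⟩
        rw [Scheme.IdealSheafData.range_subschemeι] at hc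
        have hc' : I.subschemeι c ∈ (Set.range ι)ᶜ := by
          have := Scheme.IdealSheafData.coe_support_vanishingIdeal Cl
          rw [this] at hc
          exact hc
        apply hc'
        rw [← e, hz]; exact hx
    haveI : IsOpenImmersion (k.toImage ≫ (coprod.inl : k.image ⟶ Q)) := inferInstance
    let h' : A ⟶ P' := IsOpenImmersion.lift (k.toImage ≫ (coprod.inl : k.image ⟶ Q)) a hr
    have hh' : h' ≫ k.toImage ≫ (coprod.inl : k.image ⟶ Q) = a := IsOpenImmersion.lift_fac _ _ _
    refine ⟨h' ≫ π, ?_⟩
    rw [← hh']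
    simp only [Category.assoc]
    congr 1
    show π ≫ p ≫ ι = k.toImage ≫ coprod.inl ≫ coprod.desc qZ I.subschemeι
    rw [coprod.inl_desc]
    show _ = k.toImage ≫ k.imageι ≫ t
    rw [← Category.assoc k.toImage, k.toImage_imageι, hkt]

end Groth.Agent.Helper3.PhRef
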