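import Mathlib
import Groth.Prelude.Def_HTop
import Groth.Agent.Helper3.PhRef1

set_option autoImplicit false
set_option linter.style.haveILetI false
set_option linter.unusedSectionVars false
set_option linter.unusedVariables false
set_option linter.deprecated false
set_option linter.style.haveILetI false
set_option linter.unusedSectionVars false
set_option linter.unusedVariables false

universe w u

open CategoryTheory CategoryTheory.Limits AlgebraicGeometry

namespace Groth.Agent.Helper3.PhRef

/-- Simultaneous extension of finitely many proper surjective morphisms over affine opens. -/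
theorem exists_multi {U : Scheme.{u}} [QuasiSeparatedSpace U] {J : Type w} (V : J → Scheme.{u})
    (ι : ∀ j, V j ⟶ U) [∀ j, IsOpenImmersion (ι j)] [∀ j, IsAffine (V j)]
    (P : J → Scheme.{u}) (p : ∀ j, P j ⟶ V j) [∀ j, IsProper (p j)] [∀ j, Surjective (p j)]
    (s : Finset J) :
    ∃ (W : Scheme.{u}) (w : W ⟶ U), IsProper w ∧ Surjective w ∧
      ∀ j ∈ s, ∀ (A : Scheme.{u}) (a : A ⟶ W), Set.range (a ≫ w) ⊆ Set.range (ι j) →
        ∃ h : A ⟶ P j, h ≫ p j ≫ ι j = a ≫ w := by
  classical
  induction s using Finset.induction_on with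
  | empty =>
    exact ⟨U, 𝟙 U, inferInstance, inferInstance, fun j hj => absurd hj (Finset.notMem_empty j)⟩
  | insert j₀ s hj₀ ih =>
    obtain ⟨W, w, hw1, hw2, hw3⟩ := ih
    obtain ⟨Q, q, hq1, hq2, hq3⟩ := exists_extension (ι j₀) (p j₀)
    haveI := hw1
    haveI := hw2
    haveI := hq1
    haveI := hq2
    refine ⟨pullback w q, pullback.fst w q ≫ w, inferInstance, inferInstance, ?_⟩
    intro j hj A a ha
    rcases Finset.mem_insert.mp hj with rfl | hj
    · have ha' : Set.range (⇑((a ≫ pullback.snd w q) ≫ q)) ⊆ Set.range (ι j) := by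
        have : (a ≫ pullback.snd w q) ≫ q = a ≫ pullback.fst w q ≫ w := by
          rw [Category.assoc, ← pullback.condition]
        rw [this]; exact ha
      obtain ⟨h, hh⟩ := hq3 A (a ≫ pullback.snd w q) ha'
      refine ⟨h, ?_⟩
      rw [hh, Category.assoc, ← pullback.condition]
    · have ha' : Set.range (⇑((a ≫ pullback.fst w q) ≫ w)) ⊆ Set.range (ι j) := by
        rw [Category.assoc]; exact ha
      obtain ⟨h, hh⟩ := hw3 j hj A (a ≫ pullback.fst w q) ha'
      exact ⟨h, by rw [hh, Category.assoc]⟩

/-- A proper surjective morphism onto an affine scheme, locally on the source factoring through a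
family `G`, gives a standard ph covering refining `G`. -/
theorem std_of_local_factor {T W : Scheme.{u}} [IsAffine T] (g : W ⟶ T) [IsProper g] [Surjective g]
    (G : PreZeroHypercover.{w} T)
    (H : ∀ x : W, ∃ (B : Scheme.{u}) (b : B ⟶ W), IsAffine B ∧ IsOpenImmersion b ∧
      x ∈ Set.range b ∧ ∃ (i : G.I₀) (h : B ⟶ G.X i), h ≫ G.f i = b ≫ g) :
    ∃ F' : PreZeroHypercover.{0} T, HTop.IsStandardPh F' ∧ Nonempty (F'.Hom G) := by
  choose B b hB hb hx i h hh using H
  haveI : CompactSpace W := QuasiCompact.compactSpace_of_compactSpace g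
  obtain ⟨t, ht⟩ := CompactSpace.elim_nhds_subcover (fun x => Set.range (b x))
    (fun x => (hb x).base_open.isOpen_range.mem_nhds (hx x))
  let F' : PreZeroHypercover.{0} T :=
    { I₀ := Fin t.card
      X := fun k => B (t.equivFin.symm k).1
      f := fun k => b (t.equivFin.symm k).1 ≫ g }
  refine ⟨F', ⟨inferInstance, inferInstanceAs (Finite (Fin t.card)), fun k => hB _,
    ⟨W, g, fun k => b (t.equivFin.symm k).1, inferInstance, inferInstance, fun k => hb _,
      fun k => rfl, ?_⟩⟩, ⟨⟨fun k => i (t.equivFin.symm k).1, fun k => h (t.equivFin.symm k).1,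
        fun k => hh _⟩⟩⟩
  intro x
  have : x ∈ ⋃ y ∈ t, Set.range (b y) := by rw [ht]; trivial
  simp only [Set.mem_iUnion] at this
  obtain ⟨y, hy, hxy⟩ := this
  refine ⟨t.equivFin ⟨y, hy⟩, ?_⟩
  have e : (t.equivFin.symm (t.equivFin ⟨y, hy⟩)) = ⟨y, hy⟩ := Equiv.symm_apply_apply _ _
  show x ∈ Set.range (b (t.equivFin.symm (t.equivFin ⟨y, hy⟩)).1)
  rw [e]; exact hxy

end Groth.Agent.Helper3.PhRef
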