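import Mathlib
import Groth.Prelude.Def_HTop
import Groth.Agent.Helper3.PhRef2

set_option autoImplicit false
set_option linter.style.haveILetI false
set_option linter.unusedSectionVars false
set_option linter.unusedVariables false
set_option linter.deprecated false
set_option linter.style.haveILetI false
set_option linter.unusedSectionVars false
set_option linter.unusedVariables false

universe v w w' u

open CategoryTheory CategoryTheory.Limits AlgebraicGeometry

namespace Groth.Agent.Helper3.PhRef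

/-- Every open covering of an affine scheme is refined by a standard ph covering. -/
theorem refine_open {T : Scheme.{u}} [IsAffine T] (𝒰 : Scheme.OpenCover.{v} T) :
    ∃ F : PreZeroHypercover.{0} T, HTop.IsStandardPh F ∧
      Nonempty (F.Hom 𝒰.toPreZeroHypercover) := by
  refine std_of_local_factor (𝟙 T) 𝒰.toPreZeroHypercover ?_
  intro x
  obtain ⟨i, y, hy⟩ := 𝒰.exists_eq x
  obtain ⟨B, hB, hxB, hBle⟩ := exists_isAffineOpen_mem_and_subset (x := x)
    (U := (𝒰.f i).opensRange) ⟨y, hy⟩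
  have hr : Set.range ⇑B.ι ⊆ Set.range ⇑(𝒰.f i) := by
    rw [Scheme.Opens.range_ι]; exact hBle
  refine ⟨B, B.ι, hB, inferInstance, ?_, i, IsOpenImmersion.lift (𝒰.f i) B.ι hr, ?_⟩
  · rw [Scheme.Opens.range_ι]; exact hxB
  · rw [Category.comp_id]; exact IsOpenImmersion.lift_fac _ _ _

/-- A composite of standard ph coverings is refined by a standard ph covering. -/
theorem refine_bind {T : Scheme.{u}} (E : PreZeroHypercover.{w} T) (hE : HTop.IsStandardPh E)
    (F : ∀ j, PreZeroHypercover.{w'} (E.X j)) (hF : ∀ j, HTop.IsStandardPh (F j)) :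
    ∃ F' : PreZeroHypercover.{0} T, HTop.IsStandardPh F' ∧ Nonempty (F'.Hom (E.bind F)) := by
  obtain ⟨hT, hfin, haff, U, f, ι, hf1, hf2, hι, hιf, hcov⟩ := hE
  haveI := hT
  haveI := hfin
  haveI := haff
  haveI := hf1
  haveI := hf2
  haveI := hι
  have hF' := fun j => (hF j).exists_proper
  choose P p κ hp1 hp2 hκ hκp hPcov using hF'
  haveI := hp1
  haveI := hp2
  haveI := hκ
  haveI : IsSeparated f := inferInstance
  haveI : QuasiSeparatedSpace U := by
    haveI : QuasiSeparated f := inferInstance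
    exact quasiSeparatedSpace_of_quasiSeparated f
  classical
  haveI : Fintype E.I₀ := Fintype.ofFinite _
  obtain ⟨W, w, hw1, hw2, hw3⟩ := exists_multi E.X ι P p Finset.univ
  haveI := hw1
  haveI := hw2
  refine std_of_local_factor (w ≫ f) (E.bind F) ?_
  intro x
  obtain ⟨j, hj⟩ := hcov (w x)
  let O : W.Opens := w ⁻¹ᵁ (ι j).opensRange
  have hxO : x ∈ O := hj
  obtain ⟨h, hh⟩ := hw3 j (Finset.mem_univ j) O O.ι (by
    rintro _ ⟨y, rfl⟩
    rw [Scheme.Hom.comp_apply]
    exact y.2)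
  let y : O.toScheme := ⟨x, hxO⟩
  obtain ⟨i, hi⟩ := hPcov j (h y)
  haveI : IsOpenImmersion (κ j i) := hκ j i
  obtain ⟨B, hB, hyB, hBle⟩ := exists_isAffineOpen_mem_and_subset (x := y)
    (U := h ⁻¹ᵁ (κ j i).opensRange) hi
  have hr : Set.range ⇑(B.ι ≫ h) ⊆ Set.range ⇑(κ j i) := by
    rintro _ ⟨z, rfl⟩
    rw [Scheme.Hom.comp_apply]
    exact hBle z.2
  let l : (B : Scheme.{u}) ⟶ (F j).X i := IsOpenImmersion.lift (κ j i) (B.ι ≫ h) hr
  have hl : l ≫ κ j i = B.ι ≫ h := IsOpenImmersion.lift_fac _ _ _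
  refine ⟨B, B.ι ≫ O.ι, hB, inferInstance, ?_, ⟨j, i⟩, l, ?_⟩
  · exact ⟨⟨y, hyB⟩, rfl⟩
  · show l ≫ (F j).f i ≫ E.f j = (B.ι ≫ O.ι) ≫ w ≫ f
    rw [← hκp j i, ← hιf j]
    simp only [Category.assoc]
    rw [← Category.assoc l, hl, Category.assoc, ← Category.assoc (p j), ← Category.assoc h, hh]
    simp only [Category.assoc]

end Groth.Agent.Helper3.PhRef
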