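import Mathlib
import Groth.Prelude.Def_HTop
import Groth.Agent.Helper3.PhRef3
import Groth.Agent.Lead.HCov

set_option autoImplicit false
set_option linter.style.haveILetI false
set_option linter.unusedSectionVars false
set_option linter.unusedVariables false
set_option linter.deprecated false
set_option linter.style.haveILetI false
set_option linter.unusedSectionVars false
set_option linter.unusedVariables false

universe v w w' u

open CategoryTheory CategoryTheory.Limits AlgebraicGeometry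

namespace Groth.Agent.Helper3.PhRef

/-- The refinement part of being a ph covering pulls back to affine schemes over `T`. -/
theorem pull_affine {T X : Scheme.{u}} [IsAffine X] (r : X ⟶ T) (E : PreZeroHypercover.{w} T)
    (href : ∀ A : T.affineOpens, ∃ G : PreZeroHypercover.{0} ((A : T.Opens) : Scheme.{u}),
      HTop.IsStandardPh G ∧ HTop.RefinesOver (A : T.Opens).ι G E) :
    ∃ F : PreZeroHypercover.{0} X, HTop.IsStandardPh F ∧ HTop.RefinesOver r F E := by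
  have h1 : ∀ x : X, ∃ A : T.Opens, IsAffineOpen A ∧ r x ∈ A := fun x => by
    obtain ⟨A, hA, hxA, -⟩ := exists_isAffineOpen_mem_and_subset (x := r x) (U := ⊤) trivial
    exact ⟨A, hA, hxA⟩
  choose A hA hxA using h1
  have h2 : ∀ x : X, ∃ B : X.Opens, IsAffineOpen B ∧ x ∈ B ∧ B ≤ r ⁻¹ᵁ (A x) := fun x => by
    obtain ⟨B, hB, hxB, hle⟩ := exists_isAffineOpen_mem_and_subset (x := x) (U := r ⁻¹ᵁ (A x))
      (hxA x)
    exact ⟨B, hB, hxB, hle⟩
  choose B hB hxB hBle using h2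
  let G₀ : PreZeroHypercover.{u} X :=
    { I₀ := X
      X := fun x => ((B x : X.Opens) : Scheme.{u})
      f := fun x => (B x).ι }
  obtain ⟨E₀, hE₀, ⟨φ⟩⟩ := std_of_local_factor (𝟙 X) G₀ (fun x =>
    ⟨B x, (B x).ι, hB x, inferInstance, by rw [Scheme.Opens.range_ι]; exact hxB x, x, 𝟙 _, by
      rw [Category.comp_id, Category.id_comp]⟩)
  have h3 := fun x : X => href ⟨A x, hA x⟩
  choose G hG hGref using h3
  let rk : ∀ k : E₀.I₀, E₀.X k ⟶ ((A (φ.s₀ k) : T.Opens) : Scheme.{u}) := fun k =>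
    (show E₀.X k ⟶ ((B (φ.s₀ k) : X.Opens) : Scheme.{u}) from φ.h₀ k) ≫
      r.resLE (A (φ.s₀ k)) (B (φ.s₀ k)) (hBle (φ.s₀ k))
  have hrk : ∀ k, rk k ≫ (A (φ.s₀ k)).ι = E₀.f k ≫ r := fun k => by
    show ((show E₀.X k ⟶ ((B (φ.s₀ k) : X.Opens) : Scheme.{u}) from φ.h₀ k) ≫
      r.resLE (A (φ.s₀ k)) (B (φ.s₀ k)) (hBle (φ.s₀ k))) ≫ (A (φ.s₀ k)).ι = E₀.f k ≫ r
    rw [Category.assoc, Scheme.Hom.resLE_comp_ι, ← Category.assoc]
    congr 1
    exact φ.w₀ k
  let F : ∀ k : E₀.I₀, PreZeroHypercover.{0} (E₀.X k) := fun k => (G (φ.s₀ k)).pullback₁ (rk k)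
  have hF : ∀ k, HTop.IsStandardPh (F k) := fun k => by
    haveI : IsAffine (E₀.X k) := hE₀.isAffine_obj k
    exact Groth.Agent.Lead.HCov.isStandardPh_pullback (rk k) (G (φ.s₀ k)) (hG (φ.s₀ k))
  obtain ⟨F', hF', ⟨ψ⟩⟩ := refine_bind E₀ hE₀ F hF
  refine ⟨F', hF', ?_⟩
  intro l
  let k : E₀.I₀ := (ψ.s₀ l).1
  let m : (G (φ.s₀ k)).I₀ := (ψ.s₀ l).2
  let a : F'.X l ⟶ pullback (rk k) ((G (φ.s₀ k)).f m) := ψ.h₀ l
  have ha : a ≫ pullback.fst (rk k) ((G (φ.s₀ k)).f m) ≫ E₀.f k = F'.f l := ψ.w₀ l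
  obtain ⟨i, c, hc⟩ := hGref (φ.s₀ k) m
  refine ⟨i, a ≫ pullback.snd (rk k) ((G (φ.s₀ k)).f m) ≫ c, ?_⟩
  rw [← ha]
  simp only [Category.assoc]
  rw [hc, ← hrk k, ← Category.assoc (pullback.snd _ _), ← pullback.condition]
  simp only [Category.assoc]

/-- ph coverings are stable under base change. -/
theorem isPhCover_pullback {T T' : Scheme.{u}} (g : T' ⟶ T) (E : PreZeroHypercover.{w} T)
    (hE : HTop.IsPhCover E) : HTop.IsPhCover (E.pullback₁ g) := by
  obtain ⟨hlft, href⟩ := hE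
  refine ⟨fun i => ?_, fun U' => ?_⟩
  · haveI := hlft i
    show LocallyOfFiniteType (pullback.fst g (E.f i))
    infer_instance
  · haveI : IsAffine ((U' : T'.Opens) : Scheme.{u}) := U'.2
    obtain ⟨F, hF, hr⟩ := pull_affine ((U' : T'.Opens).ι ≫ g) E href
    refine ⟨F, hF, ?_⟩
    intro j
    obtain ⟨i, h, hh⟩ := hr j
    refine ⟨i, pullback.lift (F.f j ≫ (U' : T'.Opens).ι) h (by rw [hh, Category.assoc]), ?_⟩
    exact pullback.lift_fst _ _ _

/-- ph coverings are stable under composition. -/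
theorem isPhCover_bind {T : Scheme.{u}} (E : PreZeroHypercover.{w} T) (hE : HTop.IsPhCover E)
    (F : ∀ i, PreZeroHypercover.{w'} (E.X i)) (hF : ∀ i, HTop.IsPhCover (F i)) :
    HTop.IsPhCover (E.bind F) := by
  obtain ⟨hlft, href⟩ := hE
  refine ⟨fun ij => ?_, fun A => ?_⟩
  · haveI := hlft ij.1
    haveI := (hF ij.1).1 ij.2
    show LocallyOfFiniteType ((F ij.1).f ij.2 ≫ E.f ij.1)
    infer_instance
  · obtain ⟨G, hG, hGr⟩ := href A
    choose i c hc using hGr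
    have h1 : ∀ k : G.I₀, ∃ H : PreZeroHypercover.{0} (G.X k), HTop.IsStandardPh H ∧
        HTop.RefinesOver (c k) H (F (i k)) := fun k => by
      haveI : IsAffine (G.X k) := hG.isAffine_obj k
      exact pull_affine (c k) (F (i k)) (hF (i k)).2
    choose H hH hHr using h1
    obtain ⟨F', hF', ⟨ψ⟩⟩ := refine_bind G hG H hH
    refine ⟨F', hF', ?_⟩
    intro l
    let k : G.I₀ := (ψ.s₀ l).1
    let m : (H k).I₀ := (ψ.s₀ l).2
    let a : F'.X l ⟶ (H k).X m := ψ.h₀ l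
    have ha : a ≫ (H k).f m ≫ G.f k = F'.f l := ψ.w₀ l
    obtain ⟨i', d, hd⟩ := hHr k m
    refine ⟨⟨i k, i'⟩, a ≫ d, ?_⟩
    show (a ≫ d) ≫ (F (i k)).f i' ≫ E.f (i k) = F'.f l ≫ (A : T.Opens).ι
    rw [← ha]
    simp only [Category.assoc]
    rw [← Category.assoc d, hd, Category.assoc, hc]

end Groth.Agent.Helper3.PhRef
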