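import Mathlib
import Groth.Prelude.Def_Fitting

/-! Basic facts on Fitting ideals (prelude definition `Fitt.ideal`). -/

set_option autoImplicit false
universe u v

namespace Groth.Agent.Helper3.FittLib

variable {R : Type u} [CommRing R] {M : Type v} [AddCommGroup M] [Module R M]

/-- membership of generators -/
lemma det_mem_ideal {n : ℕ} (x : Fin n → M) (hx : Submodule.span R (Set.range x) = ⊤) (r : ℕ)
    (a : Matrix (Fin n) (Fin n) R) (ha : ∀ i : Fin n, (i : ℕ) < n - r → ∑ j, a i j • x j = 0) :
    a.det ∈ Fitt.ideal R M r :=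
  Ideal.subset_span ⟨n, x, a, hx, ha, rfl⟩

/-- If all rows of `a` are relations among the `x j`, then `det a` kills every `x j`. -/
lemma det_smul_eq_zero {ι : Type*} [Fintype ι] [DecidableEq ι] (x : ι → M) (a : Matrix ι ι R)
    (ha : ∀ i, ∑ j, a i j • x j = 0) (j : ι) : a.det • x j = 0 := by
  have h1 : (a.adjugate * a) = a.det • (1 : Matrix ι ι R) := Matrix.adjugate_mul a
  have h2 : ∑ i, (a.adjugate * a) j i • x i = 0 := by
    simp only [Matrix.mul_apply, Finset.sum_smul, mul_smul]
    rw [Finset.sum_comm]
    simp only [← Finset.smul_sum, ha, smul_zero, Finset.sum_const_zero]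
  rw [h1] at h2
  simpa [Matrix.smul_apply, Matrix.one_apply, ite_smul, mul_smul] using h2

lemma ideal_zero_le_annihilator : Fitt.ideal R M 0 ≤ Module.annihilator R M := by
  classical
  refine Ideal.span_le.mpr ?_
  rintro d ⟨n, x, a, hx, ha, rfl⟩
  rw [SetLike.mem_coe, Module.mem_annihilator]
  intro m
  have hm : m ∈ Submodule.span R (Set.range x) := hx ▸ Submodule.mem_top
  induction hm using Submodule.span_induction with
  | mem y hy =>
    obtain ⟨j, rfl⟩ := hy
    exact det_smul_eq_zero x a (fun i => ha i (by simp)) j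
  | zero => simp
  | add y z _ _ hy hz => rw [smul_add, hy, hz, add_zero]
  | smul c y _ hy => rw [smul_comm, hy, smul_zero]

lemma zeroLocus_ideal_zero [Module.Finite R M] :
    PrimeSpectrum.zeroLocus (Fitt.ideal R M 0 : Set R) = Module.support R M := by
  classical
  apply Set.Subset.antisymm
  · intro p hp
    by_contra hnot
    rw [Module.notMem_support_iff'] at hnot
    obtain ⟨n, x, hx⟩ := Module.Finite.exists_fin (R := R) (M := M)
    choose f hf hfx using fun i => hnot (x i)
    let g : R := ∏ i, f i
    have hg : g ∉ p.asIdeal := by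
      intro hmem
      obtain ⟨i, -, hi⟩ := (Ideal.IsPrime.prod_mem_iff).mp hmem
      exact hf i hi
    have hgx : ∀ i, g • x i = 0 := by
      intro i
      have : g = (∏ j ∈ Finset.univ.erase i, f j) * f i := by
        rw [Finset.prod_erase_mul _ _ (Finset.mem_univ i)]
      rw [this, mul_smul, hfx, smul_zero]
    have hmem : (Matrix.diagonal fun _ : Fin n => g).det ∈ Fitt.ideal R M 0 := by
      refine det_mem_ideal x hx 0 _ ?_
      intro i _
      simp only [Matrix.diagonal_apply, ite_smul, zero_smul, Finset.sum_ite_eq, Finset.mem_univ,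
        if_true]
      exact hgx i
    have := hp hmem
    rw [Matrix.det_diagonal, Finset.prod_const] at this
    exact hg (p.2.mem_of_pow_mem _ this)
  · intro p hp
    rw [Module.mem_support_iff_of_finite] at hp
    rw [PrimeSpectrum.mem_zeroLocus]
    exact fun d hd => hp (ideal_zero_le_annihilator hd)

lemma ideal_zero_quotient (I : Ideal R) : Fitt.ideal R (R ⧸ I) 0 = I := by
  apply le_antisymm
  · refine ideal_zero_le_annihilator.trans ?_
    rw [Ideal.annihilator_quotient]
  · intro a ha
    have hx : Submodule.span R (Set.range (fun _ : Fin 1 => (1 : R ⧸ I))) = ⊤ := by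
      rw [Set.range_const]
      exact Ideal.Quotient.span_singleton_one (I := I) |>.symm ▸ rfl
    have := det_mem_ideal (M := R ⧸ I) (fun _ : Fin 1 => (1 : R ⧸ I)) hx 0
      (Matrix.of fun _ _ => a) (by
        intro i _
        simp only [Fin.sum_univ_one, Matrix.of_apply]
        rw [Algebra.smul_def, mul_one]
        exact Ideal.Quotient.eq_zero_iff_mem.mpr ha)
    simpa using this

end Groth.Agent.Helper3.FittLib
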