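import Mathlib
import Groth.Prelude.Def_Disc
import Groth.Prelude.Def_QFDual
import Groth.Agent.Helper7.DiffBC3

/-!
# Flat base change of `Hom_A(B', A)` for finite `B'`
-/

set_option autoImplicit false
set_option linter.style.haveILetI false
set_option linter.unusedSectionVars false
set_option linter.unusedVariables false
set_option linter.deprecated false
set_option linter.style.haveILetI false
set_option linter.unusedSectionVars false
set_option linter.unusedVariables false

universe u

namespace Groth.Agent.Helper3.OmegaBC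

open TensorProduct Module Groth.Agent.Helper7.DiffBC

section Dual

variable {R : Type*} [CommRing R] {V : Type*} [AddCommGroup V] [Module R V]
  {W : Type*} [AddCommGroup W] [Module R W]
  {A : Type*} [CommRing A] [Algebra R A] [Module A W] [IsScalarTower R A W]
  {j : V →ₗ[R] W} (ibc : IsBaseChange A j)

/-- flat base change of the dual of a finitely presented module -/
theorem isBaseChange_toDual_of_flat [Module.Flat R A] [Module.FinitePresentation R V] :
    IsBaseChange A ibc.toDual := by
  have h0 := Module.FinitePresentation.isBaseChange_map R V R A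
  let E : (A ⊗[R] V →ₗ[A] A ⊗[R] R) ≃ₗ[A] (W →ₗ[A] A) :=
    LinearEquiv.arrowCongr ibc.equiv (AlgebraTensorModule.rid R A A)
  have h1 := h0.comp (IsBaseChange.ofEquiv E)
  have h2 : ibc.toDual = (E.toLinearMap.restrictScalars R).comp (LinearMap.baseChangeHom R A V R) := by
    apply LinearMap.ext
    intro f
    rw [ibc.toDual_apply]
    apply LinearMap.ext
    intro w
    simp [E, Module.Dual.baseChange, LinearEquiv.arrowCongr_apply]
  rw [h2]
  exact h1

end Dual


section BC

variable {A A₁ B' B'₁ : Type u} [CommRing A] [CommRing A₁] [CommRing B'] [CommRing B'₁]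
  [Algebra A A₁] [Algebra A B'] [Algebra A₁ B'₁] [Algebra B' B'₁] [Algebra A B'₁]
  [IsScalarTower A A₁ B'₁] [IsScalarTower A B' B'₁]

/-- if the base change map of the dual is an `A₁`-base change then `omegaBC` is bijective for every
`B'₁`-algebra -/
theorem omegaBC_bijective_of_isBaseChange (h : Algebra.IsPushout A A₁ B' B'₁)
    (hdual : IsBaseChange A₁ h.out.toDual)
    (B₁ : Type u) [CommRing B₁] [Algebra B'₁ B₁] [Algebra B' B₁] [IsScalarTower B' B'₁ B₁] :
    Function.Bijective (QFDual.omegaBC (B₁ := B₁) h) := by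
  letI mB : Module B' (Disc.Omega A₁ B'₁) := Module.compHom _ (algebraMap B' B'₁)
  haveI : IsScalarTower B' B'₁ (Disc.Omega A₁ B'₁) :=
    IsScalarTower.of_algebraMap_smul (fun _ _ => rfl)
  let f : Disc.Omega A B' →ₗ[B'] Disc.Omega A₁ B'₁ :=
    { toFun := QFDual.bcFin h
      map_add' := (QFDual.bcFin h).map_add
      map_smul' := fun b x => (QFDual.bcFin h).map_smulₛₗ b x }
  have hf : IsBaseChange B'₁ f := by
    letI : Module A (Disc.Omega A B') := Module.compHom _ (algebraMap A B')
    letI : Module A (Disc.Omega A₁ B'₁) := Module.compHom _ (algebraMap A B'₁)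
    letI : Module A₁ (Disc.Omega A₁ B'₁) := Module.compHom _ (algebraMap A₁ B'₁)
    haveI : IsScalarTower A B' (Disc.Omega A B') := IsScalarTower.of_algebraMap_smul (fun _ _ => rfl)
    haveI : IsScalarTower A₁ B'₁ (Disc.Omega A₁ B'₁) :=
      IsScalarTower.of_algebraMap_smul (fun _ _ => rfl)
    haveI : IsScalarTower A B'₁ (Disc.Omega A₁ B'₁) :=
      IsScalarTower.of_algebraMap_smul (fun _ _ => rfl)
    haveI : IsScalarTower A A₁ (Disc.Omega A₁ B'₁) := IsScalarTower.of_algebraMap_smul (fun a x => by
      change algebraMap A₁ B'₁ (algebraMap A A₁ a) • x = algebraMap A B'₁ a • x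
      rw [← IsScalarTower.algebraMap_apply A A₁ B'₁])
    haveI : IsScalarTower A B' (Disc.Omega A₁ B'₁) := IsScalarTower.of_algebraMap_smul (fun a x => by
      change algebraMap B' B'₁ (algebraMap A B' a) • x = algebraMap A B'₁ a • x
      rw [← IsScalarTower.algebraMap_apply A B' B'₁])
    apply isBaseChange_of_isPushout h f
    let e : Disc.Omega A B' ≃ₗ[A] Module.Dual A B' :=
      { toFun := Disc.Omega.toLinearMap
        invFun := Disc.Omega.mk
        left_inv := fun _ => rfl
        right_inv := fun _ => rfl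
        map_add' := fun _ _ => rfl
        map_smul' := fun a φ => by
          apply LinearMap.ext
          intro x
          change φ.toLinearMap (algebraMap A B' a * x) = a • φ.toLinearMap x
          rw [← Algebra.smul_def, map_smul] }
    let e' : Disc.Omega A₁ B'₁ ≃ₗ[A₁] Module.Dual A₁ B'₁ :=
      { toFun := Disc.Omega.toLinearMap
        invFun := Disc.Omega.mk
        left_inv := fun _ => rfl
        right_inv := fun _ => rfl
        map_add' := fun _ _ => rfl
        map_smul' := fun a φ => by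
          apply LinearMap.ext
          intro x
          change φ.toLinearMap (algebraMap A₁ B'₁ a * x) = a • φ.toLinearMap x
          rw [← Algebra.smul_def, map_smul] }
    have h1 := ((IsBaseChange.ofEquiv e).comp hdual).comp (IsBaseChange.ofEquiv e'.symm)
    have h2 : f.restrictScalars A =
        ((e'.symm.toLinearMap.restrictScalars A).comp
          ((h.out.toDual.restrictScalars A).comp e.toLinearMap)) := by
      apply LinearMap.ext
      intro x
      rfl
    rw [h2]
    exact h1
  -- the chain of equivalences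
  let e1 : B'₁ ⊗[B'] Disc.Omega A B' ≃ₗ[B'₁] Disc.Omega A₁ B'₁ := hf.equiv
  let e2 : B₁ ⊗[B'₁] (B'₁ ⊗[B'] Disc.Omega A B') ≃ₗ[B₁] B₁ ⊗[B'] Disc.Omega A B' :=
    AlgebraTensorModule.cancelBaseChange B' B'₁ B₁ B₁ (Disc.Omega A B')
  let e3 : B₁ ⊗[B'₁] (B'₁ ⊗[B'] Disc.Omega A B') ≃ₗ[B₁] B₁ ⊗[B'₁] Disc.Omega A₁ B'₁ :=
    AlgebraTensorModule.congr (LinearEquiv.refl B₁ B₁) e1
  have hcomp : (QFDual.omegaBC (B₁ := B₁) h) = (e2.symm.trans e3).toLinearMap := by
    apply TensorProduct.AlgebraTensorModule.ext
    intro b₁ φ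
    rw [QFDual.omegaBC_tmul]
    show _ = e3 (e2.symm (b₁ ⊗ₜ[B'] φ))
    have h1 : e2.symm (b₁ ⊗ₜ[B'] φ) = b₁ ⊗ₜ[B'₁] ((1 : B'₁) ⊗ₜ[B'] φ) := by
      rw [LinearEquiv.symm_apply_eq]
      simp [e2]
    rw [h1]
    show _ = b₁ ⊗ₜ[B'₁] (e1 ((1 : B'₁) ⊗ₜ[B'] φ))
    have h2 : e1 ((1 : B'₁) ⊗ₜ[B'] φ) = QFDual.bcFin h φ := by
      show hf.equiv ((1 : B'₁) ⊗ₜ[B'] φ) = _
      rw [IsBaseChange.equiv_tmul, one_smul]
      rfl
    rw [h2]
  rw [hcomp]
  exact (e2.symm.trans e3).bijective

/-- **S8958** -/
theorem s8958 (A B' A₁ B'₁ B₁ : Type u) [CommRing A] [CommRing B'] [CommRing A₁] [CommRing B'₁]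
    [CommRing B₁] [IsNoetherianRing A] [IsNoetherianRing A₁] [Algebra A B'] [Module.Finite A B']
    [Algebra A A₁] [Module.Flat A A₁] [Algebra B' B'₁] [Algebra A₁ B'₁] [Algebra A B'₁]
    [IsScalarTower A A₁ B'₁] [IsScalarTower A B' B'₁] (h : Algebra.IsPushout A A₁ B' B'₁)
    [Algebra B'₁ B₁] [Algebra B' B₁] [IsScalarTower B' B'₁ B₁] :
    Function.Bijective (QFDual.omegaBC (B₁ := B₁) h) := by
  haveI : Module.FinitePresentation A B' := Module.finitePresentation_of_finite A B'
  exact omegaBC_bijective_of_isBaseChange h (isBaseChange_toDual_of_flat h.out) B₁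

end BC

end Groth.Agent.Helper3.OmegaBC
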