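import Mathlib
import Groth.Prelude.Def_QFDual

set_option autoImplicit false
set_option linter.style.haveILetI false
set_option linter.unusedSectionVars false
set_option linter.unusedVariables false
set_option linter.deprecated false
set_option linter.style.haveILetI false
set_option linter.unusedSectionVars false
set_option linter.unusedVariables false

universe u

namespace Groth.Agent.Helper3.QFCore

open TensorProduct Module

section Idem

variable {R C : Type u} [CommRing R] [CommRing C] [Algebra R C]

/-- a surjective localization map of a Noetherian ring has kernel generated by an idempotent -/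
theorem exists_idem_of_surjective_localization [IsNoetherianRing R] (S : Submonoid R)
    [IsLocalization S C] (hsurj : Function.Surjective (algebraMap R C)) :
    ∃ e : R, IsIdempotentElem e ∧ RingHom.ker (algebraMap R C) = Ideal.span {e} := by
  classical
  set I := RingHom.ker (algebraMap R C) with hI
  have hfg : I.FG := IsNoetherian.noetherian I
  -- a single element of `S` killing `I`
  have hkill : ∃ s ∈ S, ∀ x ∈ I, s * x = 0 := by
    obtain ⟨T, hT⟩ := hfg
    have h1 : ∀ T : Finset R, (∀ x ∈ T, x ∈ I) → ∃ s ∈ S, ∀ x ∈ T, s * x = 0 := by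
      intro T
      induction T using Finset.induction_on with
      | empty => intro _; exact ⟨1, S.one_mem, fun x hx => absurd hx (Finset.notMem_empty x)⟩
      | insert y T hy ih =>
        intro hmem
        obtain ⟨s, hs, hsT⟩ := ih (fun x hx => hmem x (Finset.mem_insert_of_mem hx))
        have hyI : y ∈ I := hmem y (Finset.mem_insert_self y T)
        obtain ⟨s', hs'⟩ := (IsLocalization.map_eq_zero_iff S C y).1 ((RingHom.mem_ker).1 hyI)
        refine ⟨s' * s, S.mul_mem s'.2 hs, fun x hx => ?_⟩
        rcases Finset.mem_insert.1 hx with rfl | hx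
        · rw [mul_comm (s' : R) s, mul_assoc, hs', mul_zero]
        · rw [mul_assoc, hsT x hx, mul_zero]
    obtain ⟨s, hs, hsT⟩ := h1 T (fun x hx => by rw [← hT]; exact Ideal.subset_span hx)
    refine ⟨s, hs, fun x hx => ?_⟩
    rw [← hT] at hx
    induction hx using Submodule.span_induction with
    | mem x hx => exact hsT x hx
    | zero => rw [mul_zero]
    | add x y _ _ hx hy => rw [mul_add, hx, hy, add_zero]
    | smul a x _ hx => rw [smul_eq_mul, mul_left_comm, hx, mul_zero]
  obtain ⟨s, hs, hsI⟩ := hkill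
  have hunit : IsUnit (algebraMap R C s) := IsLocalization.map_units C ⟨s, hs⟩
  obtain ⟨t, ht⟩ := hsurj (↑hunit.unit⁻¹ : C)
  have h1 : algebraMap R C (s * t) = 1 := by
    rw [map_mul, ht]
    exact hunit.mul_val_inv
  set e : R := 1 - s * t with he
  have heI : e ∈ I := by
    rw [hI, RingHom.mem_ker, he, map_sub, map_one, h1, sub_self]
  have hex : ∀ x ∈ I, e * x = x := by
    intro x hx
    rw [he, sub_mul, one_mul, mul_assoc, mul_comm t x, ← mul_assoc, hsI x hx, zero_mul, sub_zero]
  refine ⟨e, hex e heI, le_antisymm (fun x hx => ?_) ?_⟩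
  · rw [Ideal.mem_span_singleton']
    exact ⟨x, by rw [mul_comm]; exact hex x hx⟩
  · rw [Ideal.span_singleton_le_iff_mem]
    exact heI

end Idem

section OmegaIdem

variable {H C₀ C : Type u} [CommRing H] [CommRing C₀] [CommRing C] [Algebra H C₀] [Algebra H C]
  [Algebra C₀ C] [IsScalarTower H C₀ C]

/-- restriction of a functional along `C₀ → C` -/
noncomputable def pull (ψ : Disc.Omega H C) : Disc.Omega H C₀ :=
  ⟨ψ.toLinearMap ∘ₗ (IsScalarTower.toAlgHom H C₀ C).toLinearMap⟩

theorem pull_apply (ψ : Disc.Omega H C) (x : C₀) :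
    (pull ψ).toLinearMap x = ψ.toLinearMap (algebraMap C₀ C x) := rfl

theorem pull_add (ψ ψ' : Disc.Omega H C) : pull (C₀ := C₀) (ψ + ψ') = pull ψ + pull ψ' := by
  apply Disc.Omega.ext
  apply LinearMap.ext
  intro x
  rfl

theorem pull_smul (c₀ : C₀) (ψ : Disc.Omega H C) :
    pull (C₀ := C₀) (algebraMap C₀ C c₀ • ψ) = c₀ • pull (C₀ := C₀) ψ := by
  apply Disc.Omega.ext
  apply LinearMap.ext
  intro x
  rw [pull_apply, Disc.Omega.smul_toLinearMap_apply, Disc.Omega.smul_toLinearMap_apply, pull_apply,
    RingHom.map_mul]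

variable (hsurj : Function.Surjective (algebraMap C₀ C)) (e : C₀) (he : IsIdempotentElem e)
  (hker : RingHom.ker (algebraMap C₀ C) = Ideal.span {e})

include he hker in
theorem one_sub_mul_eq (x y : C₀) (h : algebraMap C₀ C x = algebraMap C₀ C y) :
    (1 - e) * x = (1 - e) * y := by
  have h1 : x - y ∈ RingHom.ker (algebraMap C₀ C) := by
    rw [RingHom.mem_ker, map_sub, h, sub_self]
  rw [hker, Ideal.mem_span_singleton'] at h1
  obtain ⟨a, ha⟩ := h1
  have h2 : (1 - e) * (x - y) = 0 := by
    rw [← ha, mul_comm a e, ← mul_assoc, sub_mul, one_mul, he.eq, sub_self, zero_mul]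
  rw [mul_sub, sub_eq_zero] at h2
  exact h2

include hker in
theorem map_one_sub : algebraMap C₀ C (1 - e) = 1 := by
  have : e ∈ RingHom.ker (algebraMap C₀ C) := by
    rw [hker]; exact Ideal.mem_span_singleton_self e
  rw [map_sub, map_one, (RingHom.mem_ker).1 this, sub_zero]

/-- descent of a functional: `x̄ ↦ φ((1-e)x)` -/
noncomputable def desc (φ : Disc.Omega H C₀) : Disc.Omega H C :=
  ⟨{ toFun := fun c => φ.toLinearMap ((1 - e) * Function.surjInv hsurj c)
     map_add' := fun c c' => by
       rw [← map_add, ← mul_add]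
       congr 1
       apply one_sub_mul_eq e he hker
       rw [map_add, Function.surjInv_eq hsurj, Function.surjInv_eq hsurj, Function.surjInv_eq hsurj]
     map_smul' := fun h c => by
       rw [RingHom.id_apply, ← map_smul, ← mul_smul_comm]
       congr 1
       apply one_sub_mul_eq e he hker
       rw [Function.surjInv_eq hsurj, Algebra.smul_def h (Function.surjInv hsurj c), map_mul,
         Function.surjInv_eq hsurj, ← IsScalarTower.algebraMap_apply, ← Algebra.smul_def] }⟩

theorem desc_apply (φ : Disc.Omega H C₀) (x : C₀) :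
    (desc hsurj e he hker φ).toLinearMap (algebraMap C₀ C x) = φ.toLinearMap ((1 - e) * x) := by
  show φ.toLinearMap ((1 - e) * Function.surjInv hsurj (algebraMap C₀ C x)) = _
  congr 1
  apply one_sub_mul_eq e he hker
  rw [Function.surjInv_eq hsurj]

include hsurj in
theorem desc_ext (ψ ψ' : Disc.Omega H C)
    (h : ∀ x : C₀, ψ.toLinearMap (algebraMap C₀ C x) = ψ'.toLinearMap (algebraMap C₀ C x)) :
    ψ = ψ' := by
  apply Disc.Omega.ext
  apply LinearMap.ext
  intro c
  obtain ⟨x, rfl⟩ := hsurj c
  exact h x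

theorem desc_add (φ φ' : Disc.Omega H C₀) :
    desc hsurj e he hker (φ + φ') = desc hsurj e he hker φ + desc hsurj e he hker φ' := by
  apply desc_ext hsurj
  intro x
  rw [desc_apply, Disc.Omega.add_toLinearMap, LinearMap.add_apply, Disc.Omega.add_toLinearMap,
    LinearMap.add_apply, desc_apply, desc_apply]

theorem desc_smul (c₀ : C₀) (φ : Disc.Omega H C₀) :
    desc hsurj e he hker (c₀ • φ) = algebraMap C₀ C c₀ • desc hsurj e he hker φ := by
  apply desc_ext hsurj
  intro x
  rw [desc_apply, Disc.Omega.smul_toLinearMap_apply, Disc.Omega.smul_toLinearMap_apply, ← map_mul,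
    desc_apply]
  congr 1
  ring

theorem desc_pull (ψ : Disc.Omega H C) : desc hsurj e he hker (pull ψ) = ψ := by
  apply desc_ext hsurj
  intro x
  rw [desc_apply, pull_apply, map_mul, map_one_sub e hker, one_mul]

theorem pull_desc (φ : Disc.Omega H C₀) : pull (desc hsurj e he hker φ) = (1 - e) • φ := by
  apply Disc.Omega.ext
  apply LinearMap.ext
  intro x
  rw [pull_apply, desc_apply, Disc.Omega.smul_toLinearMap_apply]

/-- the forward map `c ⊗ φ ↦ c • desc φ` -/
noncomputable def fwdI : C ⊗[C₀] Disc.Omega H C₀ →+ Disc.Omega H C :=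
  TensorProduct.liftAddHom
    (AddMonoidHom.mk' (fun c : C =>
      AddMonoidHom.mk' (fun φ : Disc.Omega H C₀ => c • desc hsurj e he hker φ)
        (fun φ φ' => by rw [desc_add, smul_add]))
      (fun c c' => by
        apply AddMonoidHom.ext
        intro φ
        show (c + c') • desc hsurj e he hker φ = c • desc hsurj e he hker φ + c' • desc hsurj e he hker φ
        rw [add_smul]))
    (fun r c φ => by
      show (r • c) • desc hsurj e he hker φ = c • desc hsurj e he hker (r • φ)
      rw [desc_smul, smul_smul, Algebra.smul_def, mul_comm])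

theorem fwdI_tmul (c : C) (φ : Disc.Omega H C₀) :
    fwdI hsurj e he hker (c ⊗ₜ[C₀] φ) = c • desc hsurj e he hker φ := rfl

theorem fwdI_smul (c' : C) (z : C ⊗[C₀] Disc.Omega H C₀) :
    fwdI hsurj e he hker (c' • z) = c' • fwdI hsurj e he hker z := by
  induction z using TensorProduct.induction_on with
  | zero => rw [smul_zero, map_zero, smul_zero]
  | tmul c φ => rw [TensorProduct.smul_tmul', fwdI_tmul, fwdI_tmul, smul_eq_mul, mul_smul]
  | add x y hx hy => rw [smul_add, map_add, hx, hy, map_add, smul_add]

/-- **(AC4)** `C ⊗_{C₀} ω_{C₀/H} ≃ ω_{C/H}` when `C = C₀/(e)` for an idempotent `e` -/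
noncomputable def omegaIdemEquiv : C ⊗[C₀] Disc.Omega H C₀ ≃ₗ[C] Disc.Omega H C where
  toFun := fwdI hsurj e he hker
  map_add' := (fwdI hsurj e he hker).map_add
  map_smul' := fun c z => fwdI_smul hsurj e he hker c z
  invFun := fun ψ => (1 : C) ⊗ₜ[C₀] pull ψ
  left_inv := fun z => by
    induction z using TensorProduct.induction_on with
    | zero =>
      show (1 : C) ⊗ₜ[C₀] pull (C₀ := C₀) (fwdI hsurj e he hker 0) = 0
      rw [map_zero]
      have : pull (C₀ := C₀) (0 : Disc.Omega H C) = 0 := by
        apply Disc.Omega.ext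
        apply LinearMap.ext
        intro x
        rfl
      rw [this, tmul_zero]
    | tmul c φ =>
      show (1 : C) ⊗ₜ[C₀] pull (C₀ := C₀) (fwdI hsurj e he hker (c ⊗ₜ[C₀] φ)) = c ⊗ₜ[C₀] φ
      obtain ⟨c₀, rfl⟩ := hsurj c
      rw [fwdI_tmul, pull_smul, pull_desc, smul_smul, ← smul_tmul, Algebra.smul_def, mul_one,
        map_mul, map_one_sub e hker, mul_one]
    | add x y hx hy =>
      show (1 : C) ⊗ₜ[C₀] pull (C₀ := C₀) (fwdI hsurj e he hker (x + y)) = x + y
      rw [map_add, pull_add, tmul_add]
      exact congrArg₂ (· + ·) hx hy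
  right_inv := fun ψ => by
    show fwdI hsurj e he hker ((1 : C) ⊗ₜ[C₀] pull ψ) = ψ
    rw [fwdI_tmul, one_smul, desc_pull]

end OmegaIdem

end Groth.Agent.Helper3.QFCore
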