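import Mathlib

set_option autoImplicit false
set_option linter.style.haveILetI false
set_option linter.unusedSectionVars false
set_option linter.unusedVariables false
set_option linter.deprecated false
set_option linter.style.haveILetI false
set_option linter.unusedSectionVars false
set_option linter.unusedVariables false

universe u

namespace Groth.Agent.Helper3.QFCore

open TensorProduct Module

section Descent

variable (A R R' : Type u) [CommRing A] [CommRing R] [CommRing R'] [Algebra A R] [Algebra R R']
  [Algebra A R'] [IsScalarTower A R R'] [Module.FaithfullyFlat R R']
  (N : Type u) [AddCommGroup N] [Module R N] [Module A N] [IsScalarTower A R N]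

/-- **(D)** flatness over `A` of an `R`-module descends along a faithfully flat `R → R'` -/
theorem flat_of_flat_tensor_faithfullyFlat [hfl : Module.Flat A (R' ⊗[R] N)] : Module.Flat A N := by
  rw [Module.Flat.iff_lTensor_preserves_injective_linearMap]
  intro X' X _ _ _ _ f hf
  -- the `R`-linear version of `f.lTensor N`
  let g : N ⊗[A] X' →ₗ[R] N ⊗[A] X := TensorProduct.AlgebraTensorModule.lTensor R N f
  have hg : (g : N ⊗[A] X' → N ⊗[A] X) = f.lTensor N := rfl
  rw [← hg, ← Module.FaithfullyFlat.lTensor_injective_iff_injective R R']
  have hsq : ∀ z : (R' ⊗[R] N) ⊗[A] X',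
      TensorProduct.AlgebraTensorModule.assoc A R R' R' N X (f.lTensor (R' ⊗[R] N) z) =
        g.lTensor R' (TensorProduct.AlgebraTensorModule.assoc A R R' R' N X' z) := by
    intro z
    induction z using TensorProduct.induction_on with
    | zero => rw [map_zero, map_zero, map_zero, map_zero]
    | tmul y x =>
      induction y using TensorProduct.induction_on with
      | zero => rw [zero_tmul, map_zero, map_zero, map_zero, map_zero]
      | tmul r n => rfl
      | add y y' hy hy' =>
        rw [add_tmul, map_add, map_add, hy, hy', map_add, map_add]
    | add z z' hz hz' => rw [map_add, map_add, hz, hz', map_add, map_add]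
  have hinj : Function.Injective (f.lTensor (R' ⊗[R] N)) :=
    Module.Flat.lTensor_preserves_injective_linearMap f hf
  intro a b hab
  have ha := hsq ((TensorProduct.AlgebraTensorModule.assoc A R R' R' N X').symm a)
  have hb := hsq ((TensorProduct.AlgebraTensorModule.assoc A R R' R' N X').symm b)
  rw [LinearEquiv.apply_symm_apply] at ha hb
  rw [← ha, ← hb] at hab
  have h1 := hinj ((TensorProduct.AlgebraTensorModule.assoc A R R' R' N X).injective hab)
  exact (TensorProduct.AlgebraTensorModule.assoc A R R' R' N X').symm.injective h1

end Descent

end Groth.Agent.Helper3.QFCore
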