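import Mathlib
import Groth.Prelude.Def_QFDual
import Groth.Agent.Helper2.HensQFin
import Groth.Agent.Helper3.QFCore1
import Groth.Agent.Helper3.OmegaBC1
import Groth.Agent.Helper3.QFCore3

set_option autoImplicit false
set_option linter.style.haveILetI false
set_option linter.unusedSectionVars false
set_option linter.unusedVariables false
set_option linter.deprecated false
set_option linter.style.haveILetI false
set_option linter.unusedSectionVars false
set_option linter.unusedVariables false

universe u

namespace Groth.Agent.Helper3.QFCore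

open TensorProduct Module IsLocalRing

attribute [local instance] Algebra.TensorProduct.rightAlgebra

section Abstract

variable (A H B' : Type u) [CommRing A] [CommRing H] [HenselianLocalRing H] [IsNoetherianRing H]
  [Algebra A H] [CommRing B'] [Algebra A B'] [Module.Finite A B']
  (Q' : Ideal (H ⊗[A] B')) [Q'.IsPrime] [Q'.LiesOver (maximalIdeal H)]

/-- (AC1) -/
theorem ac1 : Function.Surjective (algebraMap (H ⊗[A] B') (Localization.AtPrime Q')) ∧
    Module.Finite H (Localization.AtPrime Q') := by
  haveI : Module.Finite H (H ⊗[A] B') := inferInstance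
  haveI : Algebra.FiniteType H (H ⊗[A] B') := inferInstance
  haveI : Algebra.QuasiFinite H (H ⊗[A] B') := inferInstance
  haveI : Algebra.QuasiFiniteAt H Q' := inferInstance
  exact Groth.Agent.Helper2.HensQFin.qf_local_factor H (H ⊗[A] B') Q'

/-- (AC2) the local ring `C = (H ⊗ B')_{Q'}` is flat over `H` when `B'_{P'}` is flat over `A` -/
theorem ac2 (hT : Module.Flat A (Localization.AtPrime (Q'.comap (algebraMap B' (H ⊗[A] B'))))) :
    Module.Flat H (Localization.AtPrime Q') := by
  set P' : Ideal B' := Q'.comap (algebraMap B' (H ⊗[A] B')) with hP'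
  haveI : P'.IsPrime := Ideal.comap_isPrime _ _
  let T := Localization.AtPrime P'
  let C := Localization.AtPrime Q'
  let E := H ⊗[A] T
  let φ : (H ⊗[A] B') →ₐ[H] E :=
    Algebra.TensorProduct.map (AlgHom.id H H) (IsScalarTower.toAlgHom A B' T)
  letI algE : Algebra (H ⊗[A] B') E := φ.toRingHom.toAlgebra
  haveI : IsScalarTower H (H ⊗[A] B') E := IsScalarTower.of_algebraMap_eq (fun h => by
    show algebraMap H E h = φ (algebraMap H (H ⊗[A] B') h)
    rw [AlgHom.commutes])
  have hcomp : (algebraMap (H ⊗[A] B') E).comp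
      (Algebra.TensorProduct.includeRight : B' →ₐ[A] H ⊗[A] B').toRingHom =
      (Algebra.TensorProduct.includeRight : T →ₐ[A] H ⊗[A] T).toRingHom.comp (algebraMap B' T) := by
    ext b
    show φ ((1 : H) ⊗ₜ[A] b) = (1 : H) ⊗ₜ[A] algebraMap B' T b
    rw [Algebra.TensorProduct.map_tmul]
    rfl
  haveI hloc : IsLocalization (P'.primeCompl.map
      (Algebra.TensorProduct.includeRight (R := A) (A := H))) E :=
    IsLocalization.tensorProduct_tensorProduct_right A H P'.primeCompl T hcomp
  -- units in `C`
  have hunits : ∀ y : (P'.primeCompl.map (Algebra.TensorProduct.includeRight (R := A) (A := H))),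
      IsUnit (algebraMap (H ⊗[A] B') C y) := by
    rintro ⟨y, b, hb, rfl⟩
    apply IsLocalization.map_units C (⟨_, ?_⟩ : Q'.primeCompl)
    exact hb
  let ψ : E →+* C := IsLocalization.lift (M := P'.primeCompl.map
      (Algebra.TensorProduct.includeRight (R := A) (A := H))) (S := E) hunits
  letI algEC : Algebra E C := ψ.toAlgebra
  haveI : IsScalarTower (H ⊗[A] B') E C := IsScalarTower.of_algebraMap_eq (fun x => by
    show algebraMap (H ⊗[A] B') C x = ψ (algebraMap (H ⊗[A] B') E x)
    rw [IsLocalization.lift_eq])
  haveI : IsScalarTower H E C := IsScalarTower.of_algebraMap_eq (fun h => by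
    have h1 : algebraMap H C h = algebraMap (H ⊗[A] B') C (algebraMap H (H ⊗[A] B') h) :=
      IsScalarTower.algebraMap_apply H (H ⊗[A] B') C h
    have h2 : algebraMap (H ⊗[A] B') C (algebraMap H (H ⊗[A] B') h) =
        algebraMap E C (algebraMap (H ⊗[A] B') E (algebraMap H (H ⊗[A] B') h)) :=
      IsScalarTower.algebraMap_apply (H ⊗[A] B') E C _
    have h3 : algebraMap (H ⊗[A] B') E (algebraMap H (H ⊗[A] B') h) = algebraMap H E h :=
      (IsScalarTower.algebraMap_apply H (H ⊗[A] B') E h).symm
    exact h1.trans (h2.trans (congrArg _ h3)))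
  haveI : Module.Flat (H ⊗[A] B') C := inferInstance
  haveI : Module.Flat E C :=
    (Module.flat_iff_of_isLocalization E (P'.primeCompl.map
      (Algebra.TensorProduct.includeRight (R := A) (A := H))) C).2 inferInstance
  haveI : Module.Flat H E := inferInstance
  exact Module.Flat.trans H E C

section OmegaFlat

variable {H C : Type u} [CommRing H] [CommRing C] [Algebra H C] [Module.Finite H C] [Module.Free H C]

/-- `ω_{C/H}` as an `H`-module (through `C`) is flat when `C` is finite free -/
theorem omega_flat_of_free :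
    letI : Module H (Disc.Omega H C) := Module.compHom _ (algebraMap H C)
    Module.Flat H (Disc.Omega H C) := by
  letI : Module H (Disc.Omega H C) := Module.compHom _ (algebraMap H C)
  let e : Disc.Omega H C ≃ₗ[H] (C →ₗ[H] H) :=
    { toFun := fun ψ => ψ.toLinearMap
      map_add' := fun ψ ψ' => rfl
      map_smul' := fun h ψ => by
        apply LinearMap.ext
        intro x
        show (algebraMap H C h • ψ).toLinearMap x = h • ψ.toLinearMap x
        rw [Disc.Omega.smul_toLinearMap_apply, ← Algebra.smul_def, map_smul]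
      invFun := fun l => ⟨l⟩
      left_inv := fun ψ => rfl
      right_inv := fun l => rfl }
  exact Module.Flat.of_linearEquiv e

end OmegaFlat

/-- (AC5)+(AC6) -/
theorem ac6 [IsNoetherianRing A] [Module.Flat A H]
    (hT : Module.Flat A (Localization.AtPrime (Q'.comap (algebraMap B' (H ⊗[A] B'))))) :
    Module.Flat A (Localization.AtPrime Q' ⊗[B'] Disc.Omega A B') := by
  let C := Localization.AtPrime Q'
  obtain ⟨hsurj, hfin⟩ := ac1 A H B' Q'
  haveI := hfin
  haveI hflat : Module.Flat H C := ac2 A H B' Q' hT
  haveI : Module.Free H C := Module.free_of_flat_of_isLocalRing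
  haveI : IsNoetherianRing (H ⊗[A] B') := IsNoetherianRing.of_finite H _
  obtain ⟨e, he, hker⟩ := exists_idem_of_surjective_localization (R := H ⊗[A] B') (C := C)
    Q'.primeCompl hsurj
  have hpush : Algebra.IsPushout A H B' (H ⊗[A] B') := inferInstance
  have hbij := Groth.Agent.Helper3.OmegaBC.s8958 A B' H (H ⊗[A] B') C hpush
  let e1 : C ⊗[B'] Disc.Omega A B' ≃ₗ[C] C ⊗[H ⊗[A] B'] Disc.Omega H (H ⊗[A] B') :=
    LinearEquiv.ofBijective (QFDual.omegaBC (B₁ := C) hpush) hbij
  let e2 : C ⊗[H ⊗[A] B'] Disc.Omega H (H ⊗[A] B') ≃ₗ[C] Disc.Omega H C :=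
    omegaIdemEquiv hsurj e he hker
  letI : Module H (Disc.Omega H C) := Module.compHom _ (algebraMap H C)
  letI : Module A (Disc.Omega H C) := Module.compHom _ (algebraMap A C)
  haveI : IsScalarTower A C (Disc.Omega H C) := IsScalarTower.of_algebraMap_smul (fun _ _ => rfl)
  haveI : IsScalarTower A H (Disc.Omega H C) := IsScalarTower.of_algebraMap_smul (fun a ψ => by
    show algebraMap H C (algebraMap A H a) • ψ = algebraMap A C a • ψ
    rw [← IsScalarTower.algebraMap_apply])
  haveI : Module.Flat H (Disc.Omega H C) := omega_flat_of_free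
  haveI : Module.Flat A (Disc.Omega H C) := Module.Flat.trans A H _
  exact Module.Flat.of_linearEquiv ((e1.trans e2).restrictScalars A)

/-- (AC7) descent to the local ring `B'_{P'}` -/
theorem ac7 [IsNoetherianRing A] [Module.Flat A H]
    (hT : Module.Flat A (Localization.AtPrime (Q'.comap (algebraMap B' (H ⊗[A] B'))))) :
    haveI : (Q'.comap (algebraMap B' (H ⊗[A] B'))).IsPrime := Ideal.comap_isPrime _ _
    Module.Flat A (Localization.AtPrime (Q'.comap (algebraMap B' (H ⊗[A] B'))) ⊗[B']
      Disc.Omega A B') := by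
  set P' : Ideal B' := Q'.comap (algebraMap B' (H ⊗[A] B')) with hP'
  haveI : P'.IsPrime := Ideal.comap_isPrime _ _
  let T := Localization.AtPrime P'
  let C := Localization.AtPrime Q'
  let ρ : T →+* C := Localization.localRingHom P' Q' (algebraMap B' (H ⊗[A] B')) rfl
  letI : Algebra T C := ρ.toAlgebra
  haveI : IsScalarTower B' T C := IsScalarTower.of_algebraMap_eq (fun b => by
    show algebraMap B' C b = ρ (algebraMap B' T b)
    rw [Localization.localRingHom_to_map]
    exact IsScalarTower.algebraMap_apply B' (H ⊗[A] B') C b)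
  haveI : IsLocalHom (algebraMap T C) := Localization.isLocalHom_localRingHom _ _ _ rfl
  haveI : Module.Flat B' (H ⊗[A] B') := by
    have hp : Algebra.IsPushout A B' H (H ⊗[A] B') := inferInstance
    exact Module.Flat.isBaseChange A B' H (H ⊗[A] B') hp.out
  haveI : Module.Flat B' C := Module.Flat.trans B' (H ⊗[A] B') C
  haveI : Module.Flat T C := (Module.flat_iff_of_isLocalization T P'.primeCompl C).2 inferInstance
  haveI : Module.FaithfullyFlat T C := Module.FaithfullyFlat.of_flat_of_isLocalHom
  haveI : IsScalarTower A T C := IsScalarTower.of_algebraMap_eq (fun a => by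
    rw [IsScalarTower.algebraMap_apply A B' T, ← IsScalarTower.algebraMap_apply B' T C,
      ← IsScalarTower.algebraMap_apply A B' C])
  haveI h6 : Module.Flat A (C ⊗[B'] Disc.Omega A B') := ac6 A H B' Q' hT
  let ε : C ⊗[T] (T ⊗[B'] Disc.Omega A B') ≃ₗ[C] C ⊗[B'] Disc.Omega A B' :=
    TensorProduct.AlgebraTensorModule.cancelBaseChange B' T C C (Disc.Omega A B')
  haveI : Module.Flat A (C ⊗[T] (T ⊗[B'] Disc.Omega A B')) :=
    Module.Flat.of_linearEquiv (ε.restrictScalars A)
  exact flat_of_flat_tensor_faithfullyFlat A T C (T ⊗[B'] Disc.Omega A B')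

end Abstract

end Groth.Agent.Helper3.QFCore
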