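import Mathlib
import Groth.Prelude.Def_QFDual
import Groth.Agent.Helper1.HensNoeth
import Groth.Agent.Helper3.QFCore2

set_option autoImplicit false
set_option linter.style.haveILetI false
set_option linter.unusedSectionVars false
set_option linter.unusedVariables false
set_option linter.deprecated false
set_option linter.style.haveILetI false
set_option linter.unusedSectionVars false
set_option linter.unusedVariables false

universe u

namespace Groth.Agent.Helper3.QFCore

open TensorProduct Module IsLocalRing AlgebraicGeometry CategoryTheory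

attribute [local instance] Algebra.TensorProduct.rightAlgebra

/-- (iii) an open immersion of affine schemes induces isomorphisms on local rings -/
theorem localRingHom_bijective_of_isOpenImmersion {B' B : Type u} [CommRing B'] [CommRing B]
    [Algebra B' B]
    (h : IsOpenImmersion (Spec.map (CommRingCat.ofHom (algebraMap B' B)))) (P : Ideal B)
    [hP : P.IsPrime] :
    Function.Bijective (Localization.localRingHom (P.comap (algebraMap B' B)) P
      (algebraMap B' B) rfl) := by
  let f : CommRingCat.of B' ⟶ CommRingCat.of B := CommRingCat.ofHom (algebraMap B' B)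
  let p : PrimeSpectrum B := ⟨P, hP⟩
  haveI : IsIso ((Spec.map f).stalkMap p) := inferInstance
  have e := Scheme.arrowStalkMapSpecIso f p
  have h2 : IsIso (CommRingCat.ofHom <| Localization.localRingHom
      (p.comap f.hom).asIdeal p.asIdeal f.hom rfl) :=
    ((MorphismProperty.isomorphisms CommRingCat).arrow_mk_iso_iff e).1 ‹_›
  rw [ConcreteCategory.isIso_iff_bijective] at h2
  exact h2

/-- (ii) a pair of primes over the same prime of the base comes from a prime of the tensor
product -/
theorem exists_prime_tensor (A R R' : Type u) [CommRing A] [CommRing R] [CommRing R']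
    [Algebra A R] [Algebra A R'] (q : Ideal R) [hq : q.IsPrime] (q' : Ideal R') [hq' : q'.IsPrime]
    (h : q.comap (algebraMap A R) = q'.comap (algebraMap A R')) :
    ∃ Q : Ideal (R ⊗[A] R'), Q.IsPrime ∧ Q.comap (algebraMap R (R ⊗[A] R')) = q ∧
      Q.comap (algebraMap R' (R ⊗[A] R')) = q' := by
  let x : Spec (CommRingCat.of R) := ⟨q, hq⟩
  let y : Spec (CommRingCat.of R') := ⟨q', hq'⟩
  have hxy : (Spec.map (CommRingCat.ofHom (algebraMap A R))) x =
      (Spec.map (CommRingCat.ofHom (algebraMap A R'))) y := by
    apply PrimeSpectrum.ext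
    exact h
  obtain ⟨z, hz1, hz2⟩ := Scheme.Pullback.exists_preimage_pullback x y hxy
  let w := (pullbackSpecIso A R R').hom z
  have hzw : z = (pullbackSpecIso A R R').inv w := by
    show z = (pullbackSpecIso A R R').inv ((pullbackSpecIso A R R').hom z)
    rw [← Scheme.Hom.comp_apply, Iso.hom_inv_id]
    rfl
  refine ⟨w.asIdeal, w.isPrime, ?_, ?_⟩
  · have h1 : (Spec.map (CommRingCat.ofHom (algebraMap R (R ⊗[A] R')))) w = x := by
      rw [← pullbackSpecIso_inv_fst, Scheme.Hom.comp_apply, ← hzw, hz1]
    exact congrArg PrimeSpectrum.asIdeal h1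
  · have h1 : (Spec.map (CommRingCat.ofHom (R := R') (S := R ⊗[A] R') (RingHomClass.toRingHom
        (Algebra.TensorProduct.includeRight : R' →ₐ[A] R ⊗[A] R')))) w = y := by
      rw [← pullbackSpecIso_inv_snd, Scheme.Hom.comp_apply, ← hzw, hz2]
    exact congrArg PrimeSpectrum.asIdeal h1

theorem flat_omega_at_aux (A H B' : Type u) [CommRing A] [CommRing H] [HenselianLocalRing H]
    [IsNoetherianRing H] [Algebra A H] [CommRing B'] [Algebra A B'] [Module.Finite A B']
    [IsNoetherianRing A] [Module.Flat A H]
    (Q' : Ideal (H ⊗[A] B')) [Q'.IsPrime] [Q'.LiesOver (maximalIdeal H)]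
    (P' : Ideal B') [hP' : P'.IsPrime] (hQB : Q'.comap (algebraMap B' (H ⊗[A] B')) = P')
    (hT : Module.Flat A (Localization.AtPrime P')) :
    Module.Flat A (Localization.AtPrime P' ⊗[B'] Disc.Omega A B') := by
  subst hQB
  exact ac7 A H B' Q' hT

/-- flatness of `ω` localised at a prime of the finite algebra -/
theorem flat_omega_at (A B' : Type u) [CommRing A] [CommRing B'] [IsNoetherianRing A]
    [Algebra A B'] [Module.Finite A B'] (P' : Ideal B') [hP' : P'.IsPrime]
    (hT : Module.Flat A (Localization.AtPrime P')) :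
    Module.Flat A (Localization.AtPrime P' ⊗[B'] Disc.Omega A B') := by
  let p : Ideal A := P'.comap (algebraMap A B')
  haveI : p.IsPrime := Ideal.comap_isPrime _ _
  let Ap := Localization.AtPrime p
  let H := AdicCompletion (maximalIdeal Ap) Ap
  haveI : IsScalarTower A Ap H := inferInstance
  haveI : Module.Flat Ap H := AdicCompletion.flat_of_isNoetherian _
  haveI : Module.Flat A Ap := IsLocalization.flat Ap p.primeCompl
  haveI : Module.Flat A H := Module.Flat.trans A Ap H
  have hcomap : (maximalIdeal H).comap (algebraMap A H) = P'.comap (algebraMap A B') := by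
    have h1 : (maximalIdeal H).comap (algebraMap A H) =
        ((maximalIdeal H).comap (algebraMap Ap H)).comap (algebraMap A Ap) := by
      rw [Ideal.comap_comap]
      rfl
    rw [h1, IsLocalRing.maximalIdeal_comap]
    exact Localization.AtPrime.comap_maximalIdeal ..  
  obtain ⟨Q', hQ'prime, hQH, hQB⟩ := exists_prime_tensor A H B' (maximalIdeal H) P' hcomap
  haveI := hQ'prime
  haveI : Q'.LiesOver (maximalIdeal H) := ⟨hQH.symm⟩
  exact flat_omega_at_aux A H B' Q' P' hQB hT

/-- **S8944** -/
theorem s8944 (A B B' : Type u) [CommRing A] [CommRing B] [CommRing B'] [IsNoetherianRing A]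
    [IsNoetherianRing B] [Algebra A B] [Module.Flat A B] [Algebra A B'] [Algebra B' B]
    [IsScalarTower A B' B] [Module.Finite A B']
    (hopen : IsOpenImmersion (Spec.map (CommRingCat.ofHom (algebraMap B' B)))) :
    Module.Flat A (B ⊗[B'] Disc.Omega A B') := by
  refine Module.flat_of_isLocalized_maximal (R := A) B (B ⊗[B'] Disc.Omega A B')
    (fun P _ => Localization.AtPrime P ⊗[B] (B ⊗[B'] Disc.Omega A B'))
    (fun P _ => TensorProduct.mk B (Localization.AtPrime P) _ 1) ?_
  intro P hP
  haveI : P.IsPrime := hP.isPrime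
  let BP := Localization.AtPrime P
  set P' : Ideal B' := P.comap (algebraMap B' B) with hP'
  haveI : P'.IsPrime := Ideal.comap_isPrime _ _
  let T := Localization.AtPrime P'
  have hbij := localRingHom_bijective_of_isOpenImmersion hopen P
  let ρ : T ≃+* BP := RingEquiv.ofBijective _ hbij
  have hρ : ∀ b' : B', ρ (algebraMap B' T b') = algebraMap B' BP b' := fun b' => by
    show Localization.localRingHom P' P (algebraMap B' B) rfl (algebraMap B' T b') = _
    rw [Localization.localRingHom_to_map]
    exact (IsScalarTower.algebraMap_apply B' B BP b').symm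
  let ρl : T ≃ₗ[B'] BP :=
    { ρ.toAddEquiv with
      map_smul' := fun b' t => by
        show ρ (b' • t) = b' • ρ t
        rw [Algebra.smul_def, map_mul, hρ, ← Algebra.smul_def] }
  have hρA : ∀ a : A, ρ (algebraMap A T a) = algebraMap A BP a := fun a => by
    rw [IsScalarTower.algebraMap_apply A B' T, hρ, ← IsScalarTower.algebraMap_apply]
  haveI : Module.Flat A BP := inferInstance
  haveI hT : Module.Flat A T := Module.Flat.of_linearEquiv (ρl.restrictScalars A)
  haveI h1 : Module.Flat A (T ⊗[B'] Disc.Omega A B') := flat_omega_at A B' P' hT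
  let e1 : BP ⊗[B] (B ⊗[B'] Disc.Omega A B') ≃ₗ[BP] BP ⊗[B'] Disc.Omega A B' :=
    TensorProduct.AlgebraTensorModule.cancelBaseChange B' B BP BP (Disc.Omega A B')
  let e2 : T ⊗[B'] Disc.Omega A B' ≃ₗ[B'] BP ⊗[B'] Disc.Omega A B' :=
    TensorProduct.congr ρl (LinearEquiv.refl B' _)
  haveI : Module.Flat A (BP ⊗[B'] Disc.Omega A B') :=
    Module.Flat.of_linearEquiv (e2.symm.restrictScalars A)
  exact Module.Flat.of_linearEquiv (e1.restrictScalars A)

end Groth.Agent.Helper3.QFCore
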