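import Mathlib
import Groth.Agent.Helper3.QFCore4

set_option autoImplicit false
set_option linter.style.haveILetI false
set_option linter.unusedSectionVars false
set_option linter.unusedVariables false
set_option linter.deprecated false
set_option linter.style.haveILetI false
set_option linter.unusedSectionVars false
set_option linter.unusedVariables false

universe u

open Polynomial TensorProduct

namespace Groth.Agent.Helper3.Split

/-- Key step: given primes `q₁`, `q₀` of `B₀ = AdjoinRoot f` over the same prime of `R`, with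
`q₁ ≠ q₀`, there is a prime of `AdjoinRoot f₁` (over `B₀`), where `f = (X - α) f₁`, lying over `q₁`
and pulling back to `q₀` along `root f ↦ root f₁`. -/
theorem exists_prime_step (R : Type u) [CommRing R] (f : R[X]) (hf : f.Monic)
    (f₁ : (AdjoinRoot f)[X])
    (hf₁ : f.map (algebraMap R (AdjoinRoot f)) = (X - C (AdjoinRoot.root f)) * f₁)
    (ψ : AdjoinRoot f →ₐ[R] AdjoinRoot f₁) (hψ : ψ (AdjoinRoot.root f) = AdjoinRoot.root f₁)
    (q₁ q₀ : Ideal (AdjoinRoot f)) [q₁.IsPrime] [q₀.IsPrime]
    (hq : q₁.comap (algebraMap R (AdjoinRoot f)) = q₀.comap (algebraMap R (AdjoinRoot f)))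
    (hne : q₁ ≠ q₀) :
    ∃ q₀' : Ideal (AdjoinRoot f₁), q₀'.IsPrime ∧
      q₀'.comap (algebraMap (AdjoinRoot f) (AdjoinRoot f₁)) = q₁ ∧
      q₀'.comap ψ.toRingHom = q₀ := by
  obtain ⟨Q, hQ, hQ1, hQ0⟩ := Groth.Agent.Helper3.QFCore.exists_prime_tensor R
    (AdjoinRoot f) (AdjoinRoot f) q₁ q₀ hq
  haveI := hQ
  let B₀ := AdjoinRoot f
  let T := B₀ ⊗[R] B₀
  let D := T ⧸ Q
  let α : B₀ := AdjoinRoot.root f
  -- two maps B₀ → D
  let l : B₀ →ₐ[R] D := (Ideal.Quotient.mkₐ R Q).comp Algebra.TensorProduct.includeLeft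
  let r : B₀ →ₐ[R] D := (Ideal.Quotient.mkₐ R Q).comp Algebra.TensorProduct.includeRight
  have hl : ∀ b : B₀, l b = 0 ↔ b ∈ q₁ := by
    intro b
    show Ideal.Quotient.mk Q (b ⊗ₜ 1) = 0 ↔ _
    rw [Ideal.Quotient.eq_zero_iff_mem, ← hQ1]
    rfl
  have hr : ∀ b : B₀, r b = 0 ↔ b ∈ q₀ := by
    intro b
    show Ideal.Quotient.mk Q (1 ⊗ₜ b) = 0 ↔ _
    rw [Ideal.Quotient.eq_zero_iff_mem, ← hQ0]
    rfl
  -- evaluate `f.map = (X - α) f₁` at `r α` through `l`
  have hev : (r α - l α) * f₁.eval₂ l.toRingHom (r α) = 0 := by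
    have h1 : (f.map (algebraMap R B₀)).eval₂ l.toRingHom (r α) = 0 := by
      rw [Polynomial.eval₂_map]
      have h2 : l.toRingHom.comp (algebraMap R B₀) = algebraMap R D := l.comp_algebraMap
      rw [h2]
      have h3 : f.eval₂ (algebraMap R D) (r α) = r (f.eval₂ (algebraMap R B₀) α) := by
        rw [← Polynomial.aeval_def, ← Polynomial.aeval_def, Polynomial.aeval_algHom_apply]
      rw [h3]
      have h4 : f.eval₂ (algebraMap R B₀) α = 0 := by
        rw [← Polynomial.aeval_def]
        exact AdjoinRoot.aeval_eq f ▸ AdjoinRoot.mk_self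
      rw [h4, map_zero]
    rw [hf₁, Polynomial.eval₂_mul, Polynomial.eval₂_sub, Polynomial.eval₂_X,
      Polynomial.eval₂_C] at h1
    exact h1
  rcases mul_eq_zero.mp hev with h0 | h0
  · -- diagonal case: contradiction
    exfalso
    apply hne
    have hlr : l = r := by
      apply AdjoinRoot.algHom_ext
      exact (sub_eq_zero.mp h0).symm
    ext b
    rw [← hl, ← hr, hlr]
  · -- the good case
    let χ : AdjoinRoot f₁ →+* D := AdjoinRoot.lift l.toRingHom (r α) h0
    refine ⟨RingHom.ker χ, RingHom.ker_isPrime χ, ?_, ?_⟩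
    · ext b
      rw [Ideal.mem_comap, RingHom.mem_ker, ← hl]
      show χ (AdjoinRoot.of f₁ b) = 0 ↔ _
      rw [AdjoinRoot.lift_of]
      rfl
    · ext b
      rw [Ideal.mem_comap, RingHom.mem_ker, ← hr]
      have : (χ.comp ψ.toRingHom) = r.toRingHom := by
        have h5 : ∀ a : R, χ (ψ (algebraMap R B₀ a)) = algebraMap R D a := by
          intro a
          rw [ψ.commutes]
          show χ (AdjoinRoot.of f₁ (algebraMap R B₀ a)) = _
          rw [AdjoinRoot.lift_of]
          exact l.commutes a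
        let χψ : B₀ →ₐ[R] D :=
          { (χ.comp ψ.toRingHom) with commutes' := h5 }
        have h6 : χψ = r := by
          apply AdjoinRoot.algHom_ext
          show χ (ψ (AdjoinRoot.root f)) = r α
          rw [hψ]
          exact AdjoinRoot.lift_root h0
        exact congrArg (fun g : B₀ →ₐ[R] D => g.toRingHom) h6
      show χ (ψ b) = 0 ↔ r b = 0
      have h7 : χ (ψ b) = r b := congrArg (fun g : B₀ →+* D => g b) this
      rw [h7]

end Groth.Agent.Helper3.Split
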