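import Mathlib
import Groth.Agent.Helper3.Split1

set_option autoImplicit false
set_option linter.style.haveILetI false
set_option linter.unusedSectionVars false
set_option linter.unusedVariables false
set_option linter.deprecated false
set_option linter.style.haveILetI false
set_option linter.unusedSectionVars false
set_option linter.unusedVariables false

universe u

open Polynomial TensorProduct

namespace Groth.Agent.Helper3.Split

theorem algebraMap_injective_adjoinRoot (R : Type u) [CommRing R] (f : R[X]) (hf : f.Monic)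
    (hd : f.natDegree ≠ 0) : Function.Injective (algebraMap R (AdjoinRoot f)) := by
  rw [injective_iff_map_eq_zero]
  intro a ha
  have h1 : AdjoinRoot.mk f (C a) = 0 := by rw [AdjoinRoot.mk_C]; exact ha
  rw [AdjoinRoot.mk_eq_zero] at h1
  by_contra h0
  have h2 : (C a : R[X]) ≠ 0 := fun h => h0 (Polynomial.C_eq_zero.mp h)
  exact hf.not_dvd_of_natDegree_lt h2 (by rw [Polynomial.natDegree_C]; exact Nat.pos_of_ne_zero hd) h1

/-- Spec of `AdjoinRoot f → R` is surjective for `f` monic of positive degree. -/
theorem comap_surjective_adjoinRoot (R : Type u) [CommRing R] (f : R[X]) (hf : f.Monic)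
    (hd : f.natDegree ≠ 0) :
    Function.Surjective (PrimeSpectrum.comap (algebraMap R (AdjoinRoot f))) := by
  haveI := hf.free_adjoinRoot
  haveI := hf.finite_adjoinRoot
  intro p
  haveI : Algebra.IsIntegral R (AdjoinRoot f) := Algebra.IsIntegral.of_finite R (AdjoinRoot f)
  have hinj := algebraMap_injective_adjoinRoot R f hf hd
  have hker : RingHom.ker (algebraMap R (AdjoinRoot f)) ≤ p.asIdeal := by
    rw [(RingHom.injective_iff_ker_eq_bot _).mp hinj]; exact bot_le
  obtain ⟨Q, -, hQ1, hQ2⟩ := Ideal.exists_ideal_over_prime_of_isIntegral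
    (S := AdjoinRoot f) p.asIdeal ⊥ (by rw [← RingHom.ker_eq_comap_bot]; exact hker)
  exact ⟨⟨Q, hQ1⟩, PrimeSpectrum.ext hQ2⟩

/-- The splitting tower: a finite free extension over which all primes of `AdjoinRoot f` over a
given prime of `R` are realised by `R`-algebra maps `AdjoinRoot f → R'`. -/
theorem split : ∀ (n : ℕ) (R : Type u) [CommRing R] (f : R[X]), f.Monic → f.natDegree = n →
    ∃ (R' : Type u) (_ : CommRing R') (_ : Algebra R R'), Module.Free R R' ∧ Module.Finite R R' ∧
      Algebra.FinitePresentation R R' ∧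
      Function.Surjective (PrimeSpectrum.comap (algebraMap R R')) ∧
      ∀ (q' : Ideal R') [q'.IsPrime] (q₀ : Ideal (AdjoinRoot f)) [q₀.IsPrime],
        q'.comap (algebraMap R R') = q₀.comap (algebraMap R (AdjoinRoot f)) →
        ∃ φ : AdjoinRoot f →ₐ[R] R', q'.comap φ.toRingHom = q₀ := by
  intro n
  induction n with
  | zero =>
    intro R _ f hf hn
    refine ⟨R, inferInstance, inferInstance, inferInstance, inferInstance, inferInstance, ?_, ?_⟩
    · intro p; exact ⟨p, by ext; rfl⟩
    · intro q' _ q₀ hq₀ _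
      exfalso
      have h1 : f = 1 := hf.natDegree_eq_zero.mp hn
      have h2 : (1 : AdjoinRoot f) = 0 := by
        have h3 : AdjoinRoot.mk f 1 = 0 := by
          rw [AdjoinRoot.mk_eq_zero, h1]
        rw [← h3, map_one]
      apply hq₀.ne_top
      rw [Ideal.eq_top_iff_one, h2]
      exact q₀.zero_mem
  | succ n ih =>
    intro R _ f hf hn
    rcases subsingleton_or_nontrivial R with hsub | hnt
    · refine ⟨R, inferInstance, inferInstance, inferInstance, inferInstance, inferInstance, ?_, ?_⟩
      · intro p; exact ⟨p, by ext; rfl⟩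
      · intro q' _ q₀ hq₀ _
        exfalso
        apply hq₀.ne_top
        rw [Ideal.eq_top_iff_one]
        have : (1 : AdjoinRoot f) = 0 := by
          rw [← map_one (algebraMap R (AdjoinRoot f)), Subsingleton.elim (1 : R) 0, map_zero]
        rw [this]
        exact q₀.zero_mem
    let R₁ := AdjoinRoot f
    haveI : Nontrivial R₁ :=
      (algebraMap_injective_adjoinRoot R f hf (by omega)).nontrivial
    let α : R₁ := AdjoinRoot.root f
    let f₁ : R₁[X] := (f.map (algebraMap R R₁)) /ₘ (X - C α)
    have hroot : (f.map (algebraMap R R₁)).IsRoot α := by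
      rw [Polynomial.IsRoot.def, Polynomial.eval_map, ← Polynomial.aeval_def]
      exact AdjoinRoot.aeval_eq f ▸ AdjoinRoot.mk_self
    have hf₁ : f.map (algebraMap R R₁) = (X - C α) * f₁ :=
      (Polynomial.mul_divByMonic_eq_iff_isRoot.mpr hroot).symm
    have hfm : (f.map (algebraMap R R₁)).Monic := hf.map _
    have hf₁m : f₁.Monic := by
      have h := hfm
      rw [hf₁] at h
      exact (Polynomial.monic_X_sub_C α).of_mul_monic_left h
    have hf₁d : f₁.natDegree = n := by
      have h1 : (f.map (algebraMap R R₁)).natDegree = n + 1 := by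
        rw [hf.natDegree_map]; exact hn
      rw [hf₁, (Polynomial.monic_X_sub_C α).natDegree_mul hf₁m, Polynomial.natDegree_X_sub_C] at h1
      omega
    obtain ⟨R', instR', algR', hfree, hfin, hfp, hsurj, hprop⟩ := ih R₁ f₁ hf₁m hf₁d
    letI : Algebra R R' := ((algebraMap R₁ R').comp (algebraMap R R₁)).toAlgebra
    haveI : IsScalarTower R R₁ R' := IsScalarTower.of_algebraMap_eq' rfl
    haveI := hf.free_adjoinRoot
    haveI := hf.finite_adjoinRoot
    haveI := hfree
    haveI := hfin
    haveI := hfp
    haveI : Algebra.FinitePresentation R R₁ := AdjoinRoot.finitePresentation (S := R) (f := f)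
    -- the map ψ : AdjoinRoot f → AdjoinRoot f₁
    have hψ0 : f.eval₂ (Algebra.ofId R (AdjoinRoot f₁)).toRingHom (AdjoinRoot.root f₁) = 0 := by
      have h1 : (f.map (algebraMap R R₁)).eval₂ (algebraMap R₁ (AdjoinRoot f₁))
          (AdjoinRoot.root f₁) = 0 := by
        rw [hf₁, Polynomial.eval₂_mul]
        have : f₁.eval₂ (algebraMap R₁ (AdjoinRoot f₁)) (AdjoinRoot.root f₁) = 0 := by
          rw [← Polynomial.aeval_def]
          exact AdjoinRoot.aeval_eq f₁ ▸ AdjoinRoot.mk_self
        rw [this, mul_zero]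
      rw [Polynomial.eval₂_map] at h1
      exact h1
    let ψ : AdjoinRoot f →ₐ[R] AdjoinRoot f₁ :=
      AdjoinRoot.liftAlgHom f (Algebra.ofId R (AdjoinRoot f₁)) (AdjoinRoot.root f₁) hψ0
    have hψ : ψ (AdjoinRoot.root f) = AdjoinRoot.root f₁ := AdjoinRoot.liftAlgHom_root _ _ _ _
    refine ⟨R', instR', inferInstance, Module.Free.trans (R := R) (S := R₁) (M := R'),
      Module.Finite.trans R₁ R', Algebra.FinitePresentation.trans R R₁ R', ?_, ?_⟩
    · intro p
      obtain ⟨p₁, hp₁⟩ := comap_surjective_adjoinRoot R f hf (by omega) p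
      obtain ⟨p', hp'⟩ := hsurj p₁
      refine ⟨p', ?_⟩
      rw [← hp₁, ← hp']
      ext x
      rfl
    · intro q' hq' q₀ hq₀ hq
      let q₁ : Ideal R₁ := q'.comap (algebraMap R₁ R')
      haveI : q₁.IsPrime := Ideal.comap_isPrime _ _
      by_cases hne : q₁ = q₀
      · refine ⟨IsScalarTower.toAlgHom R R₁ R', ?_⟩
        rw [← hne]
        rfl
      · have hq1 : q₁.comap (algebraMap R R₁) = q₀.comap (algebraMap R R₁) := by
          rw [← hq]
          rfl
        obtain ⟨q₀', hq₀'p, hq₀'1, hq₀'0⟩ := exists_prime_step R f hf f₁ hf₁ ψ hψ q₁ q₀ hq1 hne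
        haveI := hq₀'p
        obtain ⟨φ₁, hφ₁⟩ := hprop q' q₀' (by rw [hq₀'1])
        refine ⟨(φ₁.restrictScalars R).comp ψ, ?_⟩
        rw [← hq₀'0, ← hφ₁]
        rfl

end Groth.Agent.Helper3.Split
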