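import Mathlib
import Groth.Agent.Helper3.Split2

set_option autoImplicit false
set_option linter.style.haveILetI false
set_option linter.unusedSectionVars false
set_option linter.unusedVariables false
set_option linter.deprecated false
set_option linter.style.haveILetI false
set_option linter.unusedSectionVars false
set_option linter.unusedVariables false

universe u

open Polynomial TensorProduct

namespace Groth.Agent.Helper3.Split

/-- Splitting for a localization of `AdjoinRoot f` away from one element. -/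
theorem split_away (R : Type u) [CommRing R] (f : R[X]) (hf : f.Monic) (g₀ : AdjoinRoot f)
    (L : Type u) [CommRing L] [Algebra R L] [Algebra (AdjoinRoot f) L]
    [IsScalarTower R (AdjoinRoot f) L] [IsLocalization.Away g₀ L] :
    ∃ (R' : Type u) (_ : CommRing R') (_ : Algebra R R'), Module.Free R R' ∧ Module.Finite R R' ∧
      Algebra.FinitePresentation R R' ∧
      Function.Surjective (PrimeSpectrum.comap (algebraMap R R')) ∧
      ∀ (q' : Ideal R') [q'.IsPrime] (Q : Ideal L) [Q.IsPrime],
        q'.comap (algebraMap R R') = Q.comap (algebraMap R L) →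
        ∃ (g' : R') (_ : g' ∉ q') (θ : L →ₐ[R] Localization.Away g'),
          (Ideal.map (algebraMap R' (Localization.Away g')) q').comap θ.toRingHom = Q := by
  obtain ⟨R', instR', algR', hfree, hfin, hfp, hsurj, hprop⟩ := split f.natDegree R f hf rfl
  refine ⟨R', instR', algR', hfree, hfin, hfp, hsurj, ?_⟩
  intro q' hq' Q hQ hqQ
  let B₀ := AdjoinRoot f
  let q₀ : Ideal B₀ := Q.comap (algebraMap B₀ L)
  haveI : q₀.IsPrime := Ideal.comap_isPrime _ _
  have hq₀ : q'.comap (algebraMap R R') = q₀.comap (algebraMap R B₀) := by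
    rw [hqQ]
    show _ = (Q.comap (algebraMap B₀ L)).comap (algebraMap R B₀)
    rw [Ideal.comap_comap, ← IsScalarTower.algebraMap_eq]
  obtain ⟨φ, hφ⟩ := hprop q' q₀ hq₀
  let g' : R' := φ g₀
  have hg' : g' ∉ q' := by
    intro h
    have h1 : g₀ ∈ q₀ := by
      rw [← hφ]; exact h
    have h2 : algebraMap B₀ L g₀ ∈ Q := h1
    exact hQ.ne_top (Ideal.eq_top_of_isUnit_mem _ h2 (IsLocalization.Away.algebraMap_isUnit g₀))
  let S' := Localization.Away g'
  let φ' : B₀ →ₐ[R] S' := (IsScalarTower.toAlgHom R R' S').comp φ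
  have hunit : IsUnit (φ' g₀) := IsLocalization.Away.algebraMap_isUnit g'
  let θ : L →ₐ[R] S' := IsLocalization.Away.liftAlgHom g₀ (f := φ') hunit
  have hθ : ∀ b : B₀, θ (algebraMap B₀ L b) = algebraMap R' S' (φ b) := fun b =>
    IsLocalization.Away.lift_eq g₀ hunit b
  refine ⟨g', hg', θ, ?_⟩
  let 𝔮 : Ideal S' := Ideal.map (algebraMap R' S') q'
  have hdisj : Disjoint (Submonoid.powers g' : Set R') (q' : Set R') :=
    (Ideal.disjoint_powers_iff_notMem_of_isPrime g').mpr hg'
  have h𝔮 : 𝔮.comap (algebraMap R' S') = q' :=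
    IsLocalization.under_map_of_isPrime_disjoint (Submonoid.powers g') S' hq' hdisj
  -- both primes are determined by their contraction to `B₀`
  have h1 : (𝔮.comap θ.toRingHom).comap (algebraMap B₀ L) = q₀ := by
    ext b
    rw [Ideal.mem_comap, Ideal.mem_comap]
    show θ (algebraMap B₀ L b) ∈ 𝔮 ↔ _
    rw [hθ, ← hφ]
    show algebraMap R' S' (φ b) ∈ 𝔮 ↔ φ b ∈ q'
    rw [← h𝔮]
    rfl
  have h2 := IsLocalization.map_under (Submonoid.powers g₀) (S := L) (𝔮.comap θ.toRingHom)
  have h3 := IsLocalization.map_under (Submonoid.powers g₀) (S := L) Q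
  rw [← h2, ← h3]
  congr 1

/-- Splitting for standard étale algebras (Stacks 00UH). -/
theorem split_standardEtale (R A : Type u) [CommRing R] [CommRing A] [Algebra R A]
    [Algebra.IsStandardEtale R A] :
    ∃ (R' : Type u) (_ : CommRing R') (_ : Algebra R R'), Module.Free R R' ∧ Module.Finite R R' ∧
      Algebra.FinitePresentation R R' ∧
      Function.Surjective (PrimeSpectrum.comap (algebraMap R R')) ∧
      ∀ (q' : Ideal R') [q'.IsPrime] (Q : Ideal A) [Q.IsPrime],
        q'.comap (algebraMap R R') = Q.comap (algebraMap R A) →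
        ∃ (g' : R') (_ : g' ∉ q') (θ : A →ₐ[R] Localization.Away g'),
          (Ideal.map (algebraMap R' (Localization.Away g')) q').comap θ.toRingHom = Q := by
  obtain ⟨𝓟⟩ := Algebra.IsStandardEtale.nonempty_standardEtalePresentation (R := R) (S := A)
  let P : StandardEtalePair R := 𝓟.P
  let L := Localization.Away (AdjoinRoot.mk P.f P.g)
  let e : A ≃ₐ[R] L := 𝓟.equivRing.trans P.equivAwayAdjoinRoot
  obtain ⟨R', instR', algR', hfree, hfin, hfp, hsurj, hprop⟩ :=
    split_away R P.f P.monic_f (AdjoinRoot.mk P.f P.g) L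
  refine ⟨R', instR', algR', hfree, hfin, hfp, hsurj, ?_⟩
  intro q' hq' Q hQ hqQ
  let QL : Ideal L := Q.comap e.symm.toAlgHom.toRingHom
  haveI : QL.IsPrime := Ideal.comap_isPrime _ _
  have hQL : q'.comap (algebraMap R R') = QL.comap (algebraMap R L) := by
    rw [hqQ]
    ext a
    show algebraMap R A a ∈ Q ↔ e.symm (algebraMap R L a) ∈ Q
    rw [e.symm.commutes]
  obtain ⟨g', hg', θ, hθ⟩ := hprop q' QL hQL
  refine ⟨g', hg', θ.comp e.toAlgHom, ?_⟩
  ext a
  show θ (e a) ∈ Ideal.map (algebraMap R' (Localization.Away g')) q' ↔ a ∈ Q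
  have : θ (e a) ∈ Ideal.map (algebraMap R' (Localization.Away g')) q' ↔ e a ∈ QL := by
    rw [← hθ]; rfl
  rw [this]
  show e.symm (e a) ∈ Q ↔ _
  rw [e.symm_apply_apply]

/-- Splitting for étale algebras at a prime. -/
theorem split_etale (R A₀ : Type u) [CommRing R] [CommRing A₀] [Algebra R A₀] [Algebra.Etale R A₀]
    (qu : Ideal A₀) [hqu : qu.IsPrime] :
    ∃ (R' : Type u) (_ : CommRing R') (_ : Algebra R R'), Module.Free R R' ∧ Module.Finite R R' ∧
      Algebra.FinitePresentation R R' ∧
      Function.Surjective (PrimeSpectrum.comap (algebraMap R R')) ∧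
      ∀ (q' : Ideal R') [q'.IsPrime], q'.comap (algebraMap R R') = qu.comap (algebraMap R A₀) →
        ∃ (g' : R') (_ : g' ∉ q') (θ : A₀ →ₐ[R] Localization.Away g'),
          (Ideal.map (algebraMap R' (Localization.Away g')) q').comap θ.toRingHom = qu := by
  haveI : Algebra.FinitePresentation R A₀ := Algebra.Etale.finitePresentation
  haveI : Algebra.IsEtaleAt R qu := Algebra.FormallyEtale.comp R A₀ (Localization.AtPrime qu)
  obtain ⟨f', hf', hstd⟩ := Algebra.IsEtaleAt.exists_isStandardEtale (R := R) qu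
  haveI := hstd
  let A := Localization.Away f'
  have hdisj : Disjoint (Submonoid.powers f' : Set A₀) (qu : Set A₀) :=
    (Ideal.disjoint_powers_iff_notMem_of_isPrime f').mpr hf'
  let Q : Ideal A := Ideal.map (algebraMap A₀ A) qu
  haveI hQ : Q.IsPrime := IsLocalization.isPrime_of_isPrime_disjoint (Submonoid.powers f') A qu hqu hdisj
  have hQu : Q.comap (algebraMap A₀ A) = qu :=
    IsLocalization.under_map_of_isPrime_disjoint (Submonoid.powers f') A hqu hdisj
  obtain ⟨R', instR', algR', hfree, hfin, hfp, hsurj, hprop⟩ := split_standardEtale R A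
  refine ⟨R', instR', algR', hfree, hfin, hfp, hsurj, ?_⟩
  intro q' hq' hqq
  have h1 : q'.comap (algebraMap R R') = Q.comap (algebraMap R A) := by
    rw [hqq, ← hQu, Ideal.comap_comap, ← IsScalarTower.algebraMap_eq]
  obtain ⟨g', hg', θ, hθ⟩ := hprop q' Q h1
  refine ⟨g', hg', θ.comp (IsScalarTower.toAlgHom R A₀ A), ?_⟩
  rw [← hQu, ← hθ]
  rfl

end Groth.Agent.Helper3.Split
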