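import Mathlib
import Groth.Agent.Helper3.Split3

set_option autoImplicit false
set_option linter.style.haveILetI false
set_option linter.unusedSectionVars false
set_option linter.unusedVariables false
set_option linter.deprecated false
set_option linter.style.haveILetI false
set_option linter.unusedSectionVars false
set_option linter.unusedVariables false

universe u

open CategoryTheory CategoryTheory.Limits AlgebraicGeometry

namespace Groth.Agent.Helper3.Split

/-- An étale neighbourhood is dominated, Zariski locally on a finite locally free cover, by the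
cover (Stacks 0DER-type statement; S1390). -/
theorem s1390 {U S : Scheme.{u}} (e : U ⟶ S) [Etale e] (u : U) (s : S) (hu : e u = s) :
    ∃ (V : S.Opens) (T : Scheme.{u}) (π : T ⟶ (V : Scheme.{u})), s ∈ V ∧ IsAffineOpen V ∧
      Surjective π ∧ IsFinite π ∧ Flat π ∧ LocallyOfFinitePresentation π ∧
      ∀ t : T, V.ι (π t) = s → ∃ (W : T.Opens) (h : (W : Scheme.{u}) ⟶ U), t ∈ W ∧
        h ≫ e = W.ι ≫ π ≫ V.ι ∧ ∀ ht : t ∈ W, h ⟨t, ht⟩ = u := by
  subst hu
  obtain ⟨_, ⟨V, hV, rfl⟩, hsV, -⟩ := S.isBasis_affineOpens.exists_subset_of_mem_open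
    (Set.mem_univ (e u)) isOpen_univ
  obtain ⟨_, ⟨U₀, hU₀, rfl⟩, huU₀, hle : U₀ ≤ e ⁻¹ᵁ V⟩ :=
    U.isBasis_affineOpens.exists_subset_of_mem_open hsV (e ⁻¹ᵁ V).2
  have het : (e.appLE V U₀ hle).hom.Etale :=
    HasRingHomProperty.appLE @Etale e inferInstance ⟨V, hV⟩ ⟨U₀, hU₀⟩ hle
  algebraize [(e.appLE V U₀ hle).hom]
  let qu : Ideal Γ(U, U₀) := (hU₀.primeIdealOf ⟨u, huU₀⟩).asIdeal
  let ps : Ideal Γ(S, V) := (hV.primeIdealOf ⟨e u, hsV⟩).asIdeal
  have hlies : hV.primeIdealOf ⟨e u, hsV⟩ =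
      Spec.map (e.appLE V U₀ hle) (hU₀.primeIdealOf ⟨u, huU₀⟩) := by
    apply hV.isoSpec.inv.homeomorph.injective
    apply Subtype.ext
    simp only [IsAffineOpen.primeIdealOf, Scheme.Hom.homeomorph_apply,
      ← Scheme.Hom.comp_apply, ← Scheme.Opens.ι_apply, IsAffineOpen.isoSpec_hom]
    simp
  obtain ⟨R', instR', algR', hfree, hfin, hfp, hsurj, hprop⟩ :=
    split_etale Γ(S, V) Γ(U, U₀) qu
  let φ : Γ(S, V) ⟶ CommRingCat.of R' := CommRingCat.ofHom (algebraMap Γ(S, V) R')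
  let T := Spec (CommRingCat.of R')
  let π : T ⟶ (V : Scheme.{u}) := Spec.map φ ≫ hV.isoSpec.inv
  have hπι : π ≫ Scheme.Opens.ι V = Spec.map φ ≫ hV.fromSpec := by
    show (Spec.map φ ≫ hV.isoSpec.inv) ≫ Scheme.Opens.ι V = _
    rw [Category.assoc, IsAffineOpen.isoSpec_inv_ι]
  have hfin' : IsFinite (Spec.map φ) := (IsFinite.SpecMap_iff φ).mpr
    (RingHom.finite_algebraMap.mpr hfin)
  have hflat' : Flat (Spec.map φ) := Flat.SpecMap_iff.mpr (by
    haveI : Module.Flat Γ(S, V) R' := inferInstance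
    exact (RingHom.flat_algebraMap_iff).mpr this)
  have hfp' : LocallyOfFinitePresentation (Spec.map φ) :=
    (LocallyOfFinitePresentation.SpecMap_iff φ).mpr
      (RingHom.finitePresentation_algebraMap.mpr hfp)
  have hsurj' : Surjective (Spec.map φ) := ⟨fun p => by
    obtain ⟨q, hq⟩ := hsurj p
    exact ⟨q, hq⟩⟩
  refine ⟨V, T, π, hsV, hV, ?_, ?_, ?_, ?_, ?_⟩
  · show Surjective (Spec.map φ ≫ hV.isoSpec.inv); infer_instance
  · show IsFinite (Spec.map φ ≫ hV.isoSpec.inv); infer_instance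
  · show Flat (Spec.map φ ≫ hV.isoSpec.inv); infer_instance
  · show LocallyOfFinitePresentation (Spec.map φ ≫ hV.isoSpec.inv); infer_instance
  intro t ht
  -- the prime of `t`
  let q' : Ideal R' := t.asIdeal
  have hq' : q'.comap (algebraMap Γ(S, V) R') = qu.comap (algebraMap Γ(S, V) Γ(U, U₀)) := by
    have h1 : hV.fromSpec (Spec.map φ t) = e u := by
      rw [← Scheme.Hom.comp_apply, ← hπι, Scheme.Hom.comp_apply]; exact ht
    have h2 : hV.fromSpec (hV.primeIdealOf ⟨e u, hsV⟩) = e u := hV.fromSpec_primeIdealOf ⟨e u, hsV⟩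
    have h3 : Spec.map φ t = hV.primeIdealOf ⟨e u, hsV⟩ :=
      hV.fromSpec.isOpenEmbedding.injective (h1.trans h2.symm)
    rw [hlies] at h3
    exact congrArg PrimeSpectrum.asIdeal h3
  obtain ⟨g', hg', θ, hθ⟩ := hprop q' hq'
  let S' := Localization.Away g'
  let j : Spec (CommRingCat.of S') ⟶ T := Spec.map (CommRingCat.ofHom (algebraMap R' S'))
  haveI : IsOpenImmersion j := IsOpenImmersion.of_isLocalization g'
  let W : T.Opens := j.opensRange
  let θ' : Γ(U, U₀) ⟶ CommRingCat.of S' := CommRingCat.ofHom θ.toRingHom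
  let h : (W : Scheme.{u}) ⟶ U := j.isoOpensRange.inv ≫ Spec.map θ' ≫ hU₀.fromSpec
  -- the point `t'`
  have hdisj : Disjoint (Submonoid.powers g' : Set R') (q' : Set R') :=
    (Ideal.disjoint_powers_iff_notMem_of_isPrime g').mpr hg'
  let 𝔮 : Ideal S' := Ideal.map (algebraMap R' S') q'
  haveI h𝔮p : 𝔮.IsPrime :=
    IsLocalization.isPrime_of_isPrime_disjoint (Submonoid.powers g') S' q' t.isPrime hdisj
  have h𝔮 : 𝔮.comap (algebraMap R' S') = q' :=
    IsLocalization.under_map_of_isPrime_disjoint (Submonoid.powers g') S' t.isPrime hdisj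
  let t' : Spec (CommRingCat.of S') := ⟨𝔮, h𝔮p⟩
  have hjt : j t' = t := PrimeSpectrum.ext h𝔮
  have htW : t ∈ W := ⟨t', hjt⟩
  refine ⟨W, h, htW, ?_, ?_⟩
  · show (j.isoOpensRange.inv ≫ Spec.map θ' ≫ hU₀.fromSpec) ≫ e = W.ι ≫ π ≫ Scheme.Opens.ι V
    rw [hπι]
    simp only [Category.assoc]
    rw [← IsAffineOpen.SpecMap_appLE_fromSpec e hV hU₀ hle, ← Spec.map_comp_assoc]
    have h1 : e.appLE V U₀ hle ≫ θ' = φ ≫ CommRingCat.ofHom (algebraMap R' S') := by
      ext a
      exact θ.commutes a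
    have key : j.isoOpensRange.inv ≫ j = W.ι := j.isoOpensRange_inv_comp
    rw [h1, Spec.map_comp_assoc, ← key, Category.assoc]
  · intro ht'
    have h1 : (⟨t, ht'⟩ : W) = j.isoOpensRange.hom t' := by
      apply Subtype.ext
      show t = (j.isoOpensRange.hom ≫ W.ι) t'
      rw [Scheme.Hom.isoOpensRange_hom_ι]
      exact hjt.symm
    rw [h1, ← Scheme.Hom.comp_apply]
    show (j.isoOpensRange.hom ≫ j.isoOpensRange.inv ≫ Spec.map θ' ≫ hU₀.fromSpec) t' = u
    rw [Iso.hom_inv_id_assoc, Scheme.Hom.comp_apply]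
    have h2 : Spec.map θ' t' = hU₀.primeIdealOf ⟨u, huU₀⟩ := PrimeSpectrum.ext hθ
    rw [h2]
    exact hU₀.fromSpec_primeIdealOf ⟨u, huU₀⟩

end Groth.Agent.Helper3.Split
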