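import Mathlib
import Groth.Prelude
import Groth.Agent.Helper8.QFSch
import Groth.Agent.Helper3.Split4

set_option autoImplicit false
set_option linter.style.haveILetI false
set_option linter.unusedSectionVars false
set_option linter.unusedVariables false
set_option linter.deprecated false
set_option linter.style.haveILetI false
set_option linter.unusedSectionVars false
set_option linter.unusedVariables false

universe w u

open CategoryTheory CategoryTheory.Limits AlgebraicGeometry Opposite TopologicalSpace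

namespace Groth.Agent.Helper3.Split

/-- Variant of S1379 (after helper8's `QFEt.main`) with a global factorization. -/
theorem qf_et_global {S₁ S : Scheme.{u}} (g : S₁ ⟶ S) [Flat g] [LocallyOfFinitePresentation g]
    (x : S₁) :
    ∃ (S' V : Scheme.{u}) (e : S' ⟶ S) (π : V ⟶ S') (r : V ⟶ S₁), Etale e ∧ g x ∈ Set.range ⇑e ∧
      Surjective π ∧ IsFinite π ∧ Flat π ∧ LocallyOfFinitePresentation π ∧ r ≫ g = π ≫ e := by
  obtain ⟨T, k, h, hT, hc, h1, h2, h3, ⟨t, ht⟩⟩ := Groth.Agent.Helper8.QFSch.exists_local_sch g x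
  haveI : IsSeparated (k ≫ terminal.from S) := by
    rw [terminal.comp_from]
    infer_instance
  haveI : IsSeparated k := IsSeparated.of_comp k (terminal.from S)
  obtain ⟨U, e₀, he₀, ⟨u₀, hu₀⟩, V, W, v, hVW, hfin, hv⟩ :=
    exists_etale_isCompl_of_quasiFiniteAt k ht (k.quasiFiniteAt t)
  let π₀ : (V : Scheme.{u}) ⟶ U := V.ι ≫ pullback.snd k e₀
  haveI : IsFinite π₀ := hfin
  haveI : Flat π₀ := inferInstance
  haveI : LocallyOfFinitePresentation π₀ := inferInstance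
  have hopen : IsOpen (Set.range π₀) := π₀.isOpenMap.isOpen_range
  let U' : U.Opens := ⟨Set.range π₀, hopen⟩
  have hsurj : Surjective (π₀ ∣_ U') := by
    refine ⟨fun y => ?_⟩
    obtain ⟨z, hz⟩ := y.2
    have hzmem : z ∈ π₀ ⁻¹ᵁ U' := ⟨z, rfl⟩
    refine ⟨⟨z, hzmem⟩, ?_⟩
    apply Subtype.ext
    rw [morphismRestrict_base_coe]
    exact hz
  refine ⟨U', (π₀ ⁻¹ᵁ U' : (V : Scheme.{u}).Opens), U'.ι ≫ e₀, π₀ ∣_ U',
    (π₀ ⁻¹ᵁ U').ι ≫ V.ι ≫ pullback.fst k e₀ ≫ h, inferInstance, ?_, hsurj,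
    inferInstance, inferInstance, inferInstance, ?_⟩
  · have h5 : e₀ (π₀ v) = g x := by
      show e₀ ((V.ι ≫ pullback.snd k e₀) v) = g x
      rw [← Scheme.Hom.comp_apply, Category.assoc, ← pullback.condition, ← Category.assoc,
        Scheme.Hom.comp_apply, Scheme.Hom.comp_apply]
      have : (pullback.fst k e₀) (V.ι v) = t := hv
      rw [this, ht]
    refine ⟨⟨π₀ v, ⟨v, rfl⟩⟩, ?_⟩
    rw [Scheme.Hom.comp_apply]
    exact h5
  · simp only [Category.assoc]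
    rw [hc, pullback.condition, ← Category.assoc V.ι, morphismRestrict_ι_assoc]

/-- S7198: an fppf covering is refined pointwise by Zariski / finite locally free towers. -/
theorem s7198 {S : Scheme.{u}} (E : PreZeroHypercover.{w} S)
    (hflat : ∀ i, Flat (E.f i)) (hfp : ∀ i, LocallyOfFinitePresentation (E.f i))
    (hsurj : ∀ s : S, ∃ (i : E.I₀) (x : E.X i), E.f i x = s) (s : S) :
    ∃ (U : S.Opens) (W : Scheme.{u}) (π : W ⟶ U.toScheme), s ∈ U ∧ Mor2.IsFinLocFree π ∧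
      Surjective π ∧
      ∀ w : W, ∃ (W' : W.Opens) (T : Scheme.{u}) (ρ : T ⟶ W'.toScheme) (i : E.I₀)
        (r : T ⟶ E.X i),
        w ∈ W' ∧ Mor2.IsFinLocFree ρ ∧ Surjective ρ ∧ r ≫ E.f i = ρ ≫ W'.ι ≫ π ≫ U.ι := by
  obtain ⟨i, x, hx⟩ := hsurj s
  haveI := hflat i
  haveI := hfp i
  obtain ⟨S', V₀, e, πV, r, he, ⟨s', hs'⟩, hπV1, hπV2, hπV3, hπV4, hr⟩ := qf_et_global (E.f i) x
  haveI := he
  haveI := hπV1
  haveI := hπV2
  haveI := hπV3
  haveI := hπV4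
  obtain ⟨V₁, T₁, πT, hsV₁, hV₁, hπT1, hπT2, hπT3, hπT4, hlift⟩ :=
    s1390 e s' s (hs'.trans hx)
  haveI := hπT1
  haveI := hπT2
  haveI := hπT3
  haveI := hπT4
  -- the good locus
  let G : Set T₁ := {t | ∃ (W₀ : T₁.Opens) (h₀ : (W₀ : Scheme.{u}) ⟶ S'), t ∈ W₀ ∧
    h₀ ≫ e = W₀.ι ≫ πT ≫ V₁.ι}
  have hGopen : IsOpen G := by
    rw [isOpen_iff_forall_mem_open]
    rintro t ⟨W₀, h₀, htW₀, hh₀⟩
    exact ⟨W₀, fun t' ht' => ⟨W₀, h₀, ht', hh₀⟩, W₀.2, htW₀⟩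
  have hGfib : ∀ t : T₁, V₁.ι (πT t) = s → t ∈ G := by
    intro t ht
    obtain ⟨W₀, h₀, htW₀, hh₀, -⟩ := hlift t ht
    exact ⟨W₀, h₀, htW₀, hh₀⟩
  have hclosed : IsClosed (πT '' Gᶜ) := πT.isClosedMap _ hGopen.isClosed_compl
  let U' : (V₁ : Scheme.{u}).Opens := ⟨(πT '' Gᶜ)ᶜ, hclosed.isOpen_compl⟩
  have hsU' : (⟨s, hsV₁⟩ : (V₁ : Scheme.{u})) ∈ U' := by
    rintro ⟨t, htG, ht⟩
    apply htG
    apply hGfib
    rw [ht]
    rfl
  have hpre : ∀ t : T₁, πT t ∈ U' → t ∈ G := by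
    intro t ht
    by_contra hG
    exact ht ⟨t, hG, rfl⟩
  let U : S.Opens := V₁.ι ''ᵁ U'
  let W : Scheme.{u} := ((πT ⁻¹ᵁ U' : T₁.Opens) : Scheme.{u})
  let π : W ⟶ U.toScheme := (πT ∣_ U') ≫ (V₁.ι.isoImage U').hom
  have hπU : π ≫ U.ι = (πT ⁻¹ᵁ U').ι ≫ πT ≫ V₁.ι := by
    show ((πT ∣_ U') ≫ (V₁.ι.isoImage U').hom) ≫ (V₁.ι ''ᵁ U').ι = _
    rw [Category.assoc, Scheme.Hom.isoImage_hom_ι, ← Category.assoc, morphismRestrict_ι,
      Category.assoc]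
  have hsurjr : Surjective (πT ∣_ U') := by
    refine ⟨fun y => ?_⟩
    obtain ⟨z, hz⟩ := πT.surjective y.1
    have hzmem : z ∈ πT ⁻¹ᵁ U' := by
      show πT z ∈ U'
      rw [hz]; exact y.2
    refine ⟨⟨z, hzmem⟩, ?_⟩
    apply Subtype.ext
    rw [morphismRestrict_base_coe]
    exact hz
  refine ⟨U, W, π, ⟨⟨s, hsV₁⟩, hsU', rfl⟩, ⟨inferInstance, inferInstance, inferInstance⟩,
    inferInstance, ?_⟩
  intro w
  obtain ⟨W₀, h₀, hwW₀, hh₀⟩ := hpre w.1 w.2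
  let W' : W.Opens := (πT ⁻¹ᵁ U').ι ⁻¹ᵁ W₀
  let h' : (W' : Scheme.{u}) ⟶ S' := (πT ⁻¹ᵁ U').ι.resLE W₀ W' le_rfl ≫ h₀
  have hh' : h' ≫ e = W'.ι ≫ π ≫ U.ι := by
    show ((πT ⁻¹ᵁ U').ι.resLE W₀ W' le_rfl ≫ h₀) ≫ e = _
    rw [Category.assoc, hh₀, ← Category.assoc, Scheme.Hom.resLE_comp_ι, Category.assoc, hπU]
  refine ⟨W', pullback h' πV, pullback.fst h' πV, i, pullback.snd h' πV ≫ r, hwW₀,
    ⟨inferInstance, inferInstance, inferInstance⟩, inferInstance, ?_⟩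
  rw [Category.assoc, hr, ← Category.assoc, ← pullback.condition, Category.assoc, hh']

end Groth.Agent.Helper3.Split
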