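import Mathlib
import Groth.Prelude.Def_HTop
import Groth.Agent.Helper3.PhRef4
import Groth.Agent.Helper3.Split5

set_option autoImplicit false
set_option linter.style.haveILetI false
set_option linter.unusedSectionVars false
set_option linter.unusedVariables false
set_option linter.deprecated false
set_option linter.style.haveILetI false
set_option linter.unusedSectionVars false
set_option linter.unusedVariables false

universe v w w' u

open CategoryTheory CategoryTheory.Limits AlgebraicGeometry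

namespace Groth.Agent.Helper3.PhRef

variable {T : Scheme.{u}} (E : PreZeroHypercover.{w} T)

/-- `X ⟶ T` admits a standard ph covering refining `E`. -/
def Ref (X : Scheme.{u}) (r : X ⟶ T) : Prop :=
  ∃ F : PreZeroHypercover.{0} X, HTop.IsStandardPh F ∧ HTop.RefinesOver r F E

theorem ref_of_factor {X : Scheme.{u}} [IsAffine X] (r : X ⟶ T) (i : E.I₀) (h : X ⟶ E.X i)
    (hh : h ≫ E.f i = r) : Ref E X r := by
  let F : PreZeroHypercover.{0} X := { I₀ := Unit, X := fun _ => X, f := fun _ => 𝟙 X }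
  refine ⟨F, ⟨inferInstance, inferInstanceAs (Finite Unit), fun _ => inferInstanceAs (IsAffine X),
    ⟨X, 𝟙 X, fun _ => 𝟙 X, inferInstance, inferInstance, fun _ => inferInstanceAs
      (IsOpenImmersion (𝟙 X)), fun _ => Category.comp_id _, fun x => ⟨(), x, rfl⟩⟩⟩, ?_⟩
  intro _
  exact ⟨i, h, by rw [hh]; exact (Category.id_comp r).symm⟩

theorem ref_of_finite {X Y : Scheme.{u}} [IsAffine X] (r : X ⟶ T) (π : Y ⟶ X) [IsFinite π]
    [Surjective π] (hY : Ref E Y (π ≫ r)) : Ref E X r := by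
  obtain ⟨F, hF, hFr⟩ := hY
  haveI : IsAffine Y := isAffine_of_isAffineHom π
  let E₁ : PreZeroHypercover.{0} X := { I₀ := Unit, X := fun _ => Y, f := fun _ => π }
  have hE₁ : HTop.IsStandardPh E₁ :=
    ⟨inferInstance, inferInstanceAs (Finite Unit), fun _ => inferInstanceAs (IsAffine Y),
      ⟨Y, π, fun _ => 𝟙 Y, inferInstance, inferInstance, fun _ => inferInstanceAs
        (IsOpenImmersion (𝟙 Y)), fun _ => Category.id_comp _, fun x => ⟨(), x, rfl⟩⟩⟩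
  obtain ⟨F', hF', ⟨ψ⟩⟩ := refine_bind E₁ hE₁ (fun _ => F) (fun _ => hF)
  refine ⟨F', hF', ?_⟩
  intro l
  let m : F.I₀ := (ψ.s₀ l).2
  let a : F'.X l ⟶ F.X m := ψ.h₀ l
  have ha : a ≫ F.f m ≫ π = F'.f l := ψ.w₀ l
  obtain ⟨i, c, hc⟩ := hFr m
  refine ⟨i, a ≫ c, ?_⟩
  rw [Category.assoc, hc, ← ha]
  simp only [Category.assoc]

theorem ref_of_local {X : Scheme.{u}} [IsAffine X] (r : X ⟶ T)
    (H : ∀ x : X, ∃ B : X.Opens, IsAffineOpen B ∧ x ∈ B ∧ Ref E (B : Scheme.{u}) (B.ι ≫ r)) :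
    Ref E X r := by
  choose B hB hxB hRef using H
  choose F hF hFr using hRef
  let G₀ : PreZeroHypercover.{u} X :=
    { I₀ := X
      X := fun x => ((B x : X.Opens) : Scheme.{u})
      f := fun x => (B x).ι }
  obtain ⟨E₀, hE₀, ⟨φ⟩⟩ := std_of_local_factor (𝟙 X) G₀ (fun x =>
    ⟨B x, (B x).ι, hB x, inferInstance, by rw [Scheme.Opens.range_ι]; exact hxB x, x, 𝟙 _, by
      rw [Category.comp_id, Category.id_comp]⟩)
  let hk : ∀ k : E₀.I₀, E₀.X k ⟶ ((B (φ.s₀ k) : X.Opens) : Scheme.{u}) := fun k => φ.h₀ k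
  have hhk : ∀ k, hk k ≫ (B (φ.s₀ k)).ι = E₀.f k := fun k => φ.w₀ k
  let F₁ : ∀ k : E₀.I₀, PreZeroHypercover.{0} (E₀.X k) := fun k => (F (φ.s₀ k)).pullback₁ (hk k)
  have hF₁ : ∀ k, HTop.IsStandardPh (F₁ k) := fun k => by
    haveI : IsAffine (E₀.X k) := hE₀.isAffine_obj k
    exact Groth.Agent.Lead.HCov.isStandardPh_pullback (hk k) (F (φ.s₀ k)) (hF (φ.s₀ k))
  obtain ⟨F', hF', ⟨ψ⟩⟩ := refine_bind E₀ hE₀ F₁ hF₁
  refine ⟨F', hF', ?_⟩
  intro l
  let k : E₀.I₀ := (ψ.s₀ l).1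
  let m : (F (φ.s₀ k)).I₀ := (ψ.s₀ l).2
  let a : F'.X l ⟶ pullback (hk k) ((F (φ.s₀ k)).f m) := ψ.h₀ l
  have ha : a ≫ pullback.fst (hk k) ((F (φ.s₀ k)).f m) ≫ E₀.f k = F'.f l := ψ.w₀ l
  obtain ⟨i, c, hc⟩ := hFr (φ.s₀ k) m
  refine ⟨i, a ≫ pullback.snd (hk k) ((F (φ.s₀ k)).f m) ≫ c, ?_⟩
  rw [← ha]
  simp only [Category.assoc]
  rw [hc, ← hhk k, ← Category.assoc (pullback.snd _ _), ← pullback.condition]
  simp only [Category.assoc]

/-- S7190: an fppf covering is a ph covering. -/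
theorem isPhCover_of_fppf (hflat : ∀ i, Flat (E.f i))
    (hfp : ∀ i, LocallyOfFinitePresentation (E.f i))
    (hsurj : ∀ t : T, ∃ (i : E.I₀) (x : E.X i), E.f i x = t) : HTop.IsPhCover E := by
  refine ⟨fun i => ?_, fun A => ?_⟩
  · haveI := hfp i; infer_instance
  haveI : IsAffine ((A : T.Opens) : Scheme.{u}) := A.2
  show Ref E ((A : T.Opens) : Scheme.{u}) (A : T.Opens).ι
  apply ref_of_local
  intro x
  obtain ⟨U, W, π, hsU, ⟨hπ1, hπ2, hπ3⟩, hπs, hW⟩ :=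
    Groth.Agent.Helper3.Split.s7198 E hflat hfp hsurj ((A : T.Opens).ι x)
  haveI := hπ1
  haveI := hπs
  obtain ⟨B, hB, hxB, hBle⟩ := exists_isAffineOpen_mem_and_subset (x := x)
    (U := (A : T.Opens).ι ⁻¹ᵁ U) hsU
  refine ⟨B, hB, hxB, ?_⟩
  haveI : IsAffine (B : Scheme.{u}) := hB
  have hr : Set.range ⇑(B.ι ≫ (A : T.Opens).ι) ⊆ Set.range ⇑U.ι := by
    rintro _ ⟨z, rfl⟩
    rw [Scheme.Opens.range_ι, Scheme.Hom.comp_apply]
    exact hBle z.2
  let b : (B : Scheme.{u}) ⟶ (U : Scheme.{u}) := IsOpenImmersion.lift U.ι (B.ι ≫ (A : T.Opens).ι) hr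
  have hb : b ≫ U.ι = B.ι ≫ (A : T.Opens).ι := IsOpenImmersion.lift_fac _ _ _
  apply ref_of_finite E _ (pullback.fst b π)
  haveI : IsAffine (pullback b π) := isAffine_of_isAffineHom (pullback.fst b π)
  apply ref_of_local
  intro y
  obtain ⟨W', Tw, ρ, i, r', hwW', ⟨hρ1, hρ2, hρ3⟩, hρs, hr'⟩ := hW (pullback.snd b π y)
  haveI := hρ1
  haveI := hρs
  obtain ⟨B', hB', hyB', hB'le⟩ := exists_isAffineOpen_mem_and_subset (x := y)
    (U := pullback.snd b π ⁻¹ᵁ W') hwW'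
  refine ⟨B', hB', hyB', ?_⟩
  haveI : IsAffine (B' : Scheme.{u}) := hB'
  have hr2 : Set.range ⇑(B'.ι ≫ pullback.snd b π) ⊆ Set.range ⇑W'.ι := by
    rintro _ ⟨z, rfl⟩
    rw [Scheme.Opens.range_ι, Scheme.Hom.comp_apply]
    exact hB'le z.2
  let c : (B' : Scheme.{u}) ⟶ (W' : Scheme.{u}) :=
    IsOpenImmersion.lift W'.ι (B'.ι ≫ pullback.snd b π) hr2
  have hc : c ≫ W'.ι = B'.ι ≫ pullback.snd b π := IsOpenImmersion.lift_fac _ _ _
  apply ref_of_finite E _ (pullback.fst c ρ)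
  haveI : IsAffine (pullback c ρ) := isAffine_of_isAffineHom (pullback.fst c ρ)
  refine ref_of_factor E _ i (pullback.snd c ρ ≫ r') ?_
  rw [Category.assoc, hr', ← Category.assoc, ← pullback.condition, Category.assoc,
    ← Category.assoc c, hc]
  simp only [Category.assoc]
  rw [← pullback.condition_assoc, hb]

end Groth.Agent.Helper3.PhRef
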