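import Mathlib
import Groth.Prelude
import Groth.Agent.Helper3.PhRef5
import Groth.Agent.Helper5.FppfFpqc
import Groth.Agent.Helper5.SrcEt

set_option autoImplicit false
set_option linter.style.haveILetI false
set_option linter.unusedSectionVars false
set_option linter.unusedVariables false
set_option linter.deprecated false
set_option linter.style.haveILetI false
set_option linter.unusedSectionVars false
set_option linter.unusedVariables false

universe w u

open CategoryTheory CategoryTheory.Limits AlgebraicGeometry Opposite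

namespace Groth.Agent.Helper3.AlgPh

open Groth.Agent.Helper3.PhRef AlgSp

/-- Transport of a standard ph covering of `↑⊤` to the scheme itself. -/
theorem std_top {X : Scheme.{u}} [IsAffine X]
    (F : PreZeroHypercover.{0} ((⊤ : X.Opens) : Scheme.{u})) (hF : HTop.IsStandardPh F) :
    HTop.IsStandardPh ({ I₀ := F.I₀, X := F.X, f := fun j => F.f j ≫ (⊤ : X.Opens).ι } :
      PreZeroHypercover.{0} X) := by
  obtain ⟨hT, hfin, haff, U, f, ι, hf1, hf2, hι, hιf, hcov⟩ := hF
  haveI := hf1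
  haveI := hf2
  haveI : IsIso (⊤ : X.Opens).ι := inferInstanceAs (IsIso X.topIso.hom)
  refine ⟨inferInstance, hfin, haff, ⟨U, f ≫ (⊤ : X.Opens).ι, ι, inferInstance, inferInstance, hι,
    fun j => ?_, hcov⟩⟩
  show ι j ≫ f ≫ (⊤ : X.Opens).ι = F.f j ≫ (⊤ : X.Opens).ι
  rw [← Category.assoc, hιf]

/-- An fppf family over an affine scheme is refined by a standard ph covering. -/
theorem ref_of_fppf {X : Scheme.{u}} [IsAffine X] (E : PreZeroHypercover.{w} X)
    (hflat : ∀ i, Flat (E.f i)) (hfp : ∀ i, LocallyOfFinitePresentation (E.f i))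
    (hsurj : ∀ t : X, ∃ (i : E.I₀) (x : E.X i), E.f i x = t) : Ref E X (𝟙 X) := by
  obtain ⟨-, h⟩ := isPhCover_of_fppf E hflat hfp hsurj
  obtain ⟨F, hF, hFr⟩ := h ⟨⊤, isAffineOpen_top X⟩
  refine ⟨_, std_top F hF, ?_⟩
  intro j
  obtain ⟨i, a, ha⟩ := hFr j
  exact ⟨i, a, by rw [ha]; exact (Category.comp_id _).symm⟩

variable {S : Scheme.{u}}

/-- S10514: an fppf covering of an algebraic space is a ph covering. -/
theorem isPhCover_of_isFppfCover {X : Sp S} (hX : IsAlgSpace X) {ι : Type u} (Xi : ι → Sp S)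
    (hXi : ∀ i, IsAlgSpace (Xi i)) (g : ∀ i, Xi i ⟶ X) (h : IsFppfCover Xi g) :
    IsPhCover Xi g := by
  refine ⟨fun i => Groth.Agent.Helper5.SrcEt.locP_mono (P := @LocallyOfFinitePresentation)
    (Q := @LocallyOfFiniteType) (fun g hg => ?_) (g i) (h.1 i).2, ?_⟩
  · haveI : LocallyOfFinitePresentation g := hg
    infer_instance
  intro Z hZ t
  haveI := hZ
  have H : ∀ z : ↥Z.left, ∃ (V : Over S) (c : V ⟶ Z) (i : ι) (l : (yon S).obj V ⟶ Xi i),
      IsAffine V.left ∧ Flat c.left ∧ LocallyOfFinitePresentation c.left ∧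
      z ∈ Set.range c.left ∧ l ≫ g i = (yon S).map c ≫ t := by
    intro z
    obtain ⟨i, y, hy⟩ := h.2 (Points.map t (Points.schemeHomeo Z z))
    obtain ⟨V, c, l, hVa, hcf, hcp, hz, hl⟩ :=
      Groth.Agent.Helper5.FppfFpqc.exists_local_lift hX (hXi i) (g i) (h.1 i).1 (h.1 i).2 Z t z y hy
    exact ⟨V, c, i, l, hVa, hcf, hcp, hz, hl⟩
  choose V c i l hVa hcf hcp hz hl using H
  let E : PreZeroHypercover.{u} Z.left :=
    { I₀ := ↥Z.left, X := fun z => (V z).left, f := fun z => (c z).left }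
  obtain ⟨F, hF, hFr⟩ := ref_of_fppf E hcf hcp (fun z => by
    obtain ⟨x, hx⟩ := hz z
    exact ⟨z, x, hx⟩)
  refine ⟨F, hF, fun j => ?_⟩
  obtain ⟨z, a, ha⟩ := hFr j
  have ha' : a ≫ (c z).left = F.f j := by rw [ha]; exact Category.comp_id _
  let a' : Over.mk (F.f j ≫ Z.hom) ⟶ V z := Over.homMk a (by
    show a ≫ (V z).hom = F.f j ≫ Z.hom
    rw [← Over.w (c z), ← Category.assoc, ha'])
  refine ⟨i z, (yon S).map a' ≫ l z, ?_⟩
  rw [Category.assoc, hl z, ← Category.assoc, ← Functor.map_comp]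
  congr 2
  apply Over.OverMorphism.ext
  exact ha'

end Groth.Agent.Helper3.AlgPh
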