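import Mathlib
import Groth.Prelude
import Groth.Agent.Helper3.AlgPh1
import Groth.Agent.Helper4.AlgSpLocPComp

set_option autoImplicit false
set_option linter.style.haveILetI false
set_option linter.unusedSectionVars false
set_option linter.unusedVariables false
set_option linter.deprecated false
set_option linter.style.haveILetI false
set_option linter.unusedSectionVars false
set_option linter.unusedVariables false

universe w u

open CategoryTheory CategoryTheory.Limits AlgebraicGeometry Opposite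

namespace Groth.Agent.Helper3.AlgPh

open Groth.Agent.Helper3.PhRef AlgSp

variable {S : Scheme.{u}}

/-- S10517: ph coverings of algebraic spaces compose. -/
theorem isPhCover_sigma {X : Sp S} {ι : Type u} (Xi : ι → Sp S) (hXi : ∀ i, IsAlgSpace (Xi i))
    (g : ∀ i, Xi i ⟶ X) (κ : ι → Type u) (Xij : ∀ i, κ i → Sp S) (gij : ∀ i j, Xij i j ⟶ Xi i)
    (h : IsPhCover Xi g) (hij : ∀ i, IsPhCover (Xij i) (gij i)) :
    IsPhCover (fun r : Σ i, κ i => Xij r.1 r.2) (fun r => gij r.1 r.2 ≫ g r.1) := by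
  refine ⟨fun r => Groth.Agent.Helper4.AlgSpLocPComp.locP_comp @LocallyOfFiniteType
    Groth.Agent.Helper4.SDClasses.good_lft (hXi r.1) _ _ ((hij r.1).1 r.2) (h.1 r.1), ?_⟩
  intro Z hZ t
  obtain ⟨F, hF, hFl⟩ := h.2 Z hZ t
  choose i l hl using hFl
  have H : ∀ j : F.I₀, ∃ (F2 : PreZeroHypercover.{0} (F.X j)), HTop.IsStandardPh F2 ∧
      ∀ m : F2.I₀, ∃ (k : κ (i j))
        (l' : (yon S).obj (Over.mk (F2.f m ≫ F.f j ≫ Z.hom)) ⟶ Xij (i j) k),
        l' ≫ gij (i j) k = (yon S).map (Over.homMk (F2.f m) rfl :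
          Over.mk (F2.f m ≫ F.f j ≫ Z.hom) ⟶ Over.mk (F.f j ≫ Z.hom)) ≫ l j := by
    intro j
    exact (hij (i j)).2 (Over.mk (F.f j ≫ Z.hom)) (hF.isAffine_obj j) (l j)
  choose F2 hF2 k l2 hl2 using H
  obtain ⟨F', hF', ⟨ψ⟩⟩ := refine_bind F hF F2 hF2
  refine ⟨F', hF', fun n => ?_⟩
  let j : F.I₀ := (ψ.s₀ n).1
  let m : (F2 j).I₀ := (ψ.s₀ n).2
  let a : F'.X n ⟶ (F2 j).X m := ψ.h₀ n
  have ha : a ≫ (F2 j).f m ≫ F.f j = F'.f n := ψ.w₀ n
  let a' : Over.mk (F'.f n ≫ Z.hom) ⟶ Over.mk ((F2 j).f m ≫ F.f j ≫ Z.hom) := Over.homMk a (by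
    show a ≫ (F2 j).f m ≫ F.f j ≫ Z.hom = F'.f n ≫ Z.hom
    rw [← ha]; simp only [Category.assoc])
  refine ⟨⟨i j, k j m⟩, (yon S).map a' ≫ l2 j m, ?_⟩
  show ((yon S).map a' ≫ l2 j m) ≫ gij (i j) (k j m) ≫ g (i j) = _
  rw [Category.assoc, ← Category.assoc (l2 j m), hl2 j m, Category.assoc, hl j,
    ← Category.assoc, ← Category.assoc, ← Functor.map_comp, ← Functor.map_comp]
  congr 2
  apply Over.OverMorphism.ext
  show (a ≫ (F2 j).f m) ≫ F.f j = F'.f n
  rw [Category.assoc, ha]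

end Groth.Agent.Helper3.AlgPh
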