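import Mathlib
import Groth.Prelude.Def_AlgSpMor6
import Groth.Agent.Helper4.AlgSpDesc
import Groth.Agent.Lead.KoszulGeoD
import Groth.Agent.Lead.SchDescent4
import Groth.Agent.Helper3.FFDescS3
import Groth.Agent.Helper3.FFDescK
import Groth.Agent.Helper3.FFDescQ
import Groth.Agent.Helper3.FFDescH

set_option autoImplicit false
set_option linter.style.haveILetI false
set_option linter.unusedSectionVars false
set_option linter.unusedVariables false
set_option linter.deprecated false
set_option linter.style.haveILetI false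
set_option linter.unusedSectionVars false
set_option linter.unusedVariables false

/-!
# Regular immersions of algebraic spaces: flat base change
-/

namespace Groth.Agent.Helper3.AlgReg
open CategoryTheory Limits AlgebraicGeometry Opposite AlgSp
open Groth.Agent.Helper4

universe u

/-- regular immersions (koszul, h1, quasi) descend along étale (more generally flat open)
surjective base change, including the immersion property -/
theorem regImm_descend {A X Y Z : Scheme.{u}} {fst : A ⟶ X} {snd : A ⟶ Y} {f : X ⟶ Z}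
    {g : Y ⟶ Z} (h : IsPullback fst snd f g) [Etale f] [Surjective f]
    (k : RegImm.Kind) (hk : k = RegImm.Kind.koszul ∨ k = RegImm.Kind.h1 ∨ k = RegImm.Kind.quasi)
    (hfst : RegImm.IsRegularImmersion k fst) : RegImm.IsRegularImmersion k g := by
  have himm : IsImmersion g :=
    Groth.Agent.Lead.SchDescent4.immersion_descend_fppf h
      ⟨⟨inferInstance, inferInstance⟩, inferInstance⟩ hfst.1
  rcases hk with rfl | rfl | rfl
  · exact Groth.Agent.Helper3.FFDescS.main_open Groth.Agent.Helper3.FFDescK.kregClass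
      RegImm.Kind.koszul (fun R _ l => Iff.rfl) g f f.isOpenMap fst snd h.flip hfst
  · exact Groth.Agent.Helper3.FFDescS.main_open Groth.Agent.Helper3.FFDescH.h1Class
      RegImm.Kind.h1 (fun R _ l => Iff.rfl) g f f.isOpenMap fst snd h.flip hfst
  · exact Groth.Agent.Helper3.FFDescS.main_open Groth.Agent.Helper3.FFDescQ.qregClass
      RegImm.Kind.quasi (fun R _ l => Iff.rfl) g f f.isOpenMap fst snd h.flip hfst

variable {S : Scheme.{u}}

theorem s10662 (k : RegImm.Kind)
    (hk : k = RegImm.Kind.koszul ∨ k = RegImm.Kind.h1 ∨ k = RegImm.Kind.quasi)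
    {Z X X' P : Sp S} (hX : IsAlgSpace X) (i : Z ⟶ X) (g : X' ⟶ X)
    (hi : IsRegImmMor k i) (hg : LocP @Flat g)
    (fst : P ⟶ Z) (i' : P ⟶ X') (sq : IsPullback fst i' i g) :
    IsRegImmMor k i' := by
  obtain ⟨A, a, ha1, ha2⟩ := hX.atlas
  refine ⟨MorphismProperty.of_isPullback sq hi.1, ?_⟩
  intro V W b fst' snd hb sq'
  have har := ha1.rep
  have hT : IsPullback (har.fst (b ≫ g)) ((yon S).map (har.snd (b ≫ g))) a (b ≫ g) :=
    har.isPullback (b ≫ g)
  obtain ⟨t, ht⟩ := (yon S).map_surjective (har.fst (b ≫ g))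
  rw [← ht] at hT
  have hτe : Etale (har.snd (b ≫ g)).left := ha1.property _ _ _ hT
  have hτs : Surjective (har.snd (b ≫ g)).left := ha2.property _ _ _ hT
  generalize har.snd (b ≫ g) = τ at hT hτe hτs
  -- t is flat
  have hτb : RepWith @Etale ((yon S).map τ ≫ b) :=
    (RepWith (S := S) @Etale).comp_mem _ _ ((repWith_yon_map_iff _ _).2 hτe) hb
  have htf : Flat t.left := hg ((yon S).map τ ≫ b) a t hτb ha1 (by
    rw [Category.assoc]; exact hT.w.symm)
  -- Z_A
  have hir := hi.1
  have hZA : IsPullback (hir.fst a) ((yon S).map (hir.snd a)) i a := hir.isPullback a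
  have hiA : RegImm.IsRegularImmersion k (hir.snd a).left := hi.2 a (hir.fst a) (hir.snd a) ha1 hZA
  generalize hir.snd a = iA at hZA hiA
  have hE1 : IsPullback (pullback.fst iA t) (pullback.snd iA t) iA t := IsPullback.of_hasPullback _ _
  have hE1' : IsPullback (pullback.fst iA t).left (pullback.snd iA t).left iA.left t.left :=
    hE1.map (Over.forget S)
  have hiT : RegImm.IsRegularImmersion k (pullback.snd iA t).left :=
    Groth.Agent.Lead.KoszulGeoD.baseChange_flat k iA.left t.left _ _ hE1' hiA
  -- W_T
  have hE2 : IsPullback (pullback.fst snd τ) (pullback.snd snd τ) snd τ :=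
    IsPullback.of_hasPullback _ _
  have sqid : IsPullback (𝟙 Z) i i (𝟙 X) := IsPullback.of_horiz_isIso ⟨by simp⟩
  have hpaste : IsPullback (fst' ≫ fst) ((yon S).map snd) i (b ≫ g) := sq'.paste_horiz sq
  obtain ⟨m₁, hm₁⟩ := AlgSpDesc.cube sqid hZA (g' := t) (h := (yon S).map t ≫ a)
    (by rw [Category.comp_id]) hE1
  obtain ⟨m₂, hm₂⟩ := AlgSpDesc.cube sqid hpaste (g' := τ) (h := (yon S).map τ ≫ (b ≫ g))
    (by rw [Category.comp_id]) hE2
  rw [← hT.w] at hm₂
  let e : (yon S).obj (pullback iA t) ≅ (yon S).obj (pullback snd τ) :=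
    hm₁.isoIsPullback _ _ hm₂
  have he : e.hom ≫ (yon S).map (pullback.snd snd τ) = (yon S).map (pullback.snd iA t) :=
    IsPullback.isoIsPullback_hom_snd _ _ hm₁ hm₂
  let e₀ : pullback iA t ≅ pullback snd τ := (yon S).preimageIso e
  have he₀ : e₀.hom ≫ pullback.snd snd τ = pullback.snd iA t := by
    apply (yon S).map_injective
    rw [Functor.map_comp]
    show (yon S).map ((yon S).preimage e.hom) ≫ _ = _
    rw [Functor.map_preimage]
    exact he
  have hisoL : IsIso e₀.hom.left := (Over.forget S).map_isIso e₀.hom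
  have h3 : e₀.hom.left ≫ (pullback.snd snd τ).left = (pullback.snd iA t).left := by
    rw [← Over.comp_left, he₀]
  -- transfer along the isomorphism (a pullback square with identity base)
  have hsqiso : IsPullback (inv e₀.hom.left) (pullback.snd snd τ).left (pullback.snd iA t).left
      (𝟙 _) := IsPullback.of_horiz_isIso ⟨by rw [Category.comp_id, ← h3, IsIso.inv_hom_id_assoc]⟩
  have hWT : RegImm.IsRegularImmersion k (pullback.snd snd τ).left :=
    Groth.Agent.Lead.KoszulGeoD.baseChange_flat k _ (𝟙 _) _ _ hsqiso hiT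
  have hE2' : IsPullback (pullback.snd snd τ).left (pullback.fst snd τ).left τ.left snd.left :=
    (hE2.map (Over.forget S)).flip
  exact regImm_descend hE2' k hk hWT

end Groth.Agent.Helper3.AlgReg
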