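import Mathlib
import Groth.Prelude

set_option autoImplicit false
set_option linter.style.haveILetI false
set_option linter.unusedSectionVars false
set_option linter.unusedVariables false
set_option linter.deprecated false
set_option linter.style.haveILetI false
set_option linter.unusedSectionVars false
set_option linter.unusedVariables false

/-!
# A faithful action of a finite group on an integral separated scheme is generically free
-/

namespace Groth.Agent.Helper3.AlmostFree

open CategoryTheory Limits AlgebraicGeometry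

universe u

variable {X : Scheme.{u}} {G : Type u} [Group G] (ρ : G →* Aut X)

theorem hom_mul (g h : G) : (ρ (g * h)).hom = (ρ h).hom ≫ (ρ g).hom := by
  rw [map_mul]; rfl

theorem hom_one : (ρ 1).hom = 𝟙 X := by
  rw [map_one]; rfl

/-- points through which passes a field-valued point equalizing `a` and `b` -/
def Eset {X' : Scheme.{u}} (a b : X ⟶ X') : Set X :=
  {y | ∃ (K : Type u) (_ : Field K) (x : Spec (CommRingCat.of K) ⟶ X),
    y ∈ Set.range x.base ∧ x ≫ a = x ≫ b}

/-- The equalizer locus of two morphisms into a separated `Y`-scheme is closed, and is everything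
only if the morphisms agree (reduced source). -/
theorem eset_closed {X' Y : Scheme.{u}} (f : X' ⟶ Y) [IsSeparated f] (a b : X ⟶ X')
    (hab : a ≫ f = b ≫ f) [IsReduced X] :
    IsClosed (Eset a b) ∧ (Eset a b = Set.univ → a = b) := by
  let c : X ⟶ pullback f f := pullback.lift a b hab
  have c_fst : c ≫ pullback.fst f f = a := pullback.lift_fst _ _ _
  have c_snd : c ≫ pullback.snd f f = b := pullback.lift_snd _ _ _
  let i : pullback c (pullback.diagonal f) ⟶ X := pullback.fst c (pullback.diagonal f)
  haveI : IsClosedImmersion i := by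
    change IsClosedImmersion (pullback.fst c (pullback.diagonal f))
    infer_instance
  have hia : i ≫ a = pullback.snd c (pullback.diagonal f) := by
    rw [← c_fst, ← Category.assoc, pullback.condition, Category.assoc, pullback.diagonal_fst,
      Category.comp_id]
  have hib : i ≫ b = pullback.snd c (pullback.diagonal f) := by
    rw [← c_snd, ← Category.assoc, pullback.condition, Category.assoc, pullback.diagonal_snd,
      Category.comp_id]
  have hrange : Eset a b = Set.range i.base := by
    ext y
    constructor
    · rintro ⟨K, _, x, ⟨z, rfl⟩, hx'⟩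
      let l : Spec (CommRingCat.of K) ⟶ pullback c (pullback.diagonal f) :=
        pullback.lift x (x ≫ a) (by
          apply pullback.hom_ext
          · rw [Category.assoc, c_fst, Category.assoc, pullback.diagonal_fst, Category.comp_id]
          · rw [Category.assoc, c_snd, Category.assoc, pullback.diagonal_snd, Category.comp_id,
              hx'])
      have hl : l ≫ i = x := pullback.lift_fst _ _ _
      refine ⟨l.base z, ?_⟩
      rw [← hl]
      rfl
    · rintro ⟨z, rfl⟩
      let P := pullback c (pullback.diagonal f)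
      refine ⟨P.residueField z, inferInstance, P.fromSpecResidueField z ≫ i, ?_, ?_⟩
      · refine ⟨IsLocalRing.closedPoint _, ?_⟩
        change i.base ((P.fromSpecResidueField z).base (IsLocalRing.closedPoint _)) = i.base z
        rw [Scheme.fromSpecResidueField_apply]
      · rw [Category.assoc, Category.assoc, hia, hib]
  refine ⟨?_, ?_⟩
  · rw [hrange]
    exact i.isClosedEmbedding.isClosed_range
  · intro huniv
    rw [hrange] at huniv
    haveI : Surjective i := ⟨Set.range_eq_univ.mp huniv⟩
    haveI : IsIso i := isIso_of_isClosedImmersion_of_surjective i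
    have : i ≫ a = i ≫ b := by rw [hia, hib]
    exact (cancel_epi i).mp this

theorem s15701 (k : Type u) [Field k] (X : Scheme.{u}) (f : X ⟶ Spec (CommRingCat.of k))
    [IsIntegral X] [IsSeparated f] (G : Type u) [Group G] [Finite G] (ρ : G →* Aut X)
    (hρ : ∀ g : G, (ρ g).hom ≫ f = f) (hfaith : Function.Injective ρ) :
    ∃ U : X.Opens, (U : Set X).Nonempty ∧ (∀ g : G, (ρ g).hom ⁻¹ᵁ U = U) ∧
      ∀ (K : Type u) [Field K] (x : Spec (CommRingCat.of K) ⟶ X),
        Set.range x.base ⊆ (U : Set X) → ∀ g : G, x ≫ (ρ g).hom = x → g = 1 := by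
  classical
  letI : Fintype G := Fintype.ofFinite G
  let F : G → Set X := fun g => Eset (𝟙 X) (ρ g).hom
  have hF : ∀ g, IsClosed (F g) ∧ (F g = Set.univ → 𝟙 X = (ρ g).hom) := fun g =>
    eset_closed f (𝟙 X) (ρ g).hom (by rw [hρ g, Category.id_comp])
  have hF1 : ∀ g, g ≠ 1 → F g ≠ Set.univ := by
    intro g hg h
    apply hg
    apply hfaith
    rw [map_one]
    apply Iso.ext
    exact ((hF g).2 h).symm
  let Z : Set X := ⋃ g ∈ {g : G | g ≠ 1}, F g
  have hZ : IsClosed Z := Set.Finite.isClosed_biUnion (Set.toFinite _) (fun g _ => (hF g).1)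
  have hZne : Z ≠ Set.univ := by
    intro h
    have hirr : IsIrreducible (Set.univ : Set X) := IrreducibleSpace.isIrreducible_univ X
    rw [isIrreducible_iff_sUnion_isClosed] at hirr
    obtain ⟨z, hz, hzu⟩ := hirr ((Finset.univ.filter (fun g : G => g ≠ 1)).image F) (by
      intro z hz
      rw [Finset.mem_image] at hz
      obtain ⟨g, -, rfl⟩ := hz
      exact (hF g).1) (by
      rw [← h]
      intro y hy
      simp only [Z, Set.mem_iUnion, Set.mem_setOf_eq] at hy
      obtain ⟨g, hg, hyg⟩ := hy
      refine Set.mem_sUnion.mpr ⟨F g, ?_, hyg⟩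
      simp only [Finset.coe_image, Set.mem_image, Finset.mem_coe, Finset.mem_filter,
        Finset.mem_univ, true_and]
      exact ⟨g, hg, rfl⟩)
    rw [Finset.mem_image] at hz
    obtain ⟨g, hg, rfl⟩ := hz
    rw [Finset.mem_filter] at hg
    exact hF1 g hg.2 (Set.eq_univ_of_univ_subset hzu)
  have hstab : ∀ (h : G) (y : X), y ∈ Z → (ρ h).hom.base y ∈ Z := by
    intro h y hy
    simp only [Z, Set.mem_iUnion, Set.mem_setOf_eq] at hy ⊢
    obtain ⟨g, hg, K, _, x, ⟨z, rfl⟩, hx⟩ := hy
    refine ⟨h * g * h⁻¹, ?_, K, inferInstance, x ≫ (ρ h).hom, ⟨z, rfl⟩, ?_⟩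
    · intro h1
      apply hg
      have : g = h⁻¹ * (h * g * h⁻¹) * h := by group
      rw [this, h1]; group
    · rw [Category.comp_id, Category.assoc, ← hom_mul]
      have : h * g * h⁻¹ * h = h * g := by group
      rw [this, hom_mul, ← Category.assoc, ← hx, Category.comp_id]
  refine ⟨⟨Zᶜ, hZ.isOpen_compl⟩, ?_, ?_, ?_⟩
  · exact Set.nonempty_compl.mpr hZne
  · intro h
    ext y
    change (ρ h).hom.base y ∈ Zᶜ ↔ y ∈ Zᶜ
    rw [Set.mem_compl_iff, Set.mem_compl_iff, not_iff_not]
    constructor
    · intro hy
      have := hstab h⁻¹ _ hy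
      have h2 : (ρ h⁻¹).hom.base ((ρ h).hom.base y) = y := by
        change ((ρ h).hom ≫ (ρ h⁻¹).hom).base y = y
        rw [← hom_mul, inv_mul_cancel, hom_one]
        rfl
      rwa [h2] at this
    · exact hstab h y
  · intro K _ x hx g hg
    by_contra hne
    have hz : x.base (IsLocalRing.closedPoint K) ∈ Z := by
      simp only [Z, Set.mem_iUnion, Set.mem_setOf_eq]
      exact ⟨g, hne, K, inferInstance, x, ⟨_, rfl⟩, by rw [Category.comp_id, hg]⟩
    exact hx ⟨_, rfl⟩ hz

end Groth.Agent.Helper3.AlmostFree
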