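import Mathlib

set_option autoImplicit false
set_option linter.style.haveILetI false
set_option linter.unusedSectionVars false
set_option linter.unusedVariables false
set_option linter.style.haveILetI false
set_option linter.unusedSectionVars false
set_option linter.unusedVariables false
universe u
open CategoryTheory CategoryTheory.Limits AlgebraicGeometry Opposite TopologicalSpace

namespace Groth.Agent.Helper3.IdemConn

/-- A scheme whose ring of global functions has only trivial idempotents is preconnected. -/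
theorem preconnected_of_idem (V : Scheme.{u})
    (h : ∀ e : Γ(V, ⊤), IsIdempotentElem e → e = 0 ∨ e = 1) : PreconnectedSpace V := by
  rw [preconnectedSpace_iff_clopen]
  intro s hs
  let U : V.Opens := ⟨s, hs.isOpen⟩
  let U' : V.Opens := ⟨sᶜ, hs.compl.isOpen⟩
  have hsup : U ⊔ U' = ⊤ := by
    ext p
    simp only [Opens.coe_sup, Opens.coe_top, Set.mem_univ, iff_true, U, U']
    exact Classical.em _
  have hinf : U ⊓ U' = ⊥ := by
    ext p
    simp [U, U']
  haveI : Subsingleton (V.sheaf.obj.obj (op (U ⊓ U'))) :=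
    CommRingCat.subsingleton_of_isTerminal (V.sheaf.isTerminalOfEqEmpty hinf)
  let e' : Γ(V, U ⊔ U') := (V.sheaf.objSupIsoProdEqLocus U U').inv ⟨(1, 0), Subsingleton.elim _ _⟩
  have he'1 : V.presheaf.map (homOfLE le_sup_left : U ⟶ U ⊔ U').op e' = 1 :=
    V.sheaf.objSupIsoProdEqLocus_inv_fst U U' _
  have he'0 : V.presheaf.map (homOfLE le_sup_right : U' ⟶ U ⊔ U').op e' = 0 :=
    V.sheaf.objSupIsoProdEqLocus_inv_snd U U' _
  let e : Γ(V, ⊤) := V.presheaf.map (homOfLE (le_of_eq hsup.symm) : ⊤ ⟶ U ⊔ U').op e'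
  have he1 : V.presheaf.map (homOfLE le_top : U ⟶ ⊤).op e = 1 := by
    simp only [e, ← CommRingCat.comp_apply, ← Functor.map_comp, ← op_comp]
    exact he'1
  have he0 : V.presheaf.map (homOfLE le_top : U' ⟶ ⊤).op e = 0 := by
    simp only [e, ← CommRingCat.comp_apply, ← Functor.map_comp, ← op_comp]
    exact he'0
  have hidem : IsIdempotentElem e := by
    refine V.sheaf.eq_of_locally_eq₂ (homOfLE le_top : U ⟶ ⊤) (homOfLE le_top : U' ⟶ ⊤)
      (le_of_eq hsup.symm) _ _ ?_ ?_
    · change V.presheaf.map _ (e * e) = V.presheaf.map _ e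
      rw [map_mul, he1, mul_one]
    · change V.presheaf.map _ (e * e) = V.presheaf.map _ e
      rw [map_mul, he0, mul_zero]
  rcases h e hidem with h0 | h1
  · left
    by_contra hne
    obtain ⟨p, hp⟩ := Set.nonempty_iff_ne_empty.mpr hne
    haveI : Nonempty U := ⟨⟨p, hp⟩⟩
    haveI : Nontrivial Γ(V, U) := inferInstance
    rw [h0, map_zero] at he1
    exact zero_ne_one he1
  · right
    by_contra hne
    obtain ⟨p, hp⟩ := Set.nonempty_compl.mpr hne
    haveI : Nonempty U' := ⟨⟨p, hp⟩⟩
    haveI : Nontrivial Γ(V, U') := inferInstance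
    rw [h1, map_one] at he0
    exact one_ne_zero he0

end Groth.Agent.Helper3.IdemConn
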