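import Mathlib
import Groth.Prelude.Def_AlgGrp
import Groth.Agent.Helper3.AntiAffRigid
import Groth.Agent.Helper2.HS6
import Groth.Agent.Helper3.IdemConn

set_option autoImplicit false
set_option linter.style.haveILetI false
set_option linter.unusedSectionVars false
set_option linter.unusedVariables false
set_option linter.style.haveILetI false
set_option linter.unusedSectionVars false
set_option linter.unusedVariables false
universe u
open scoped TensorProduct
open CategoryTheory CategoryTheory.Limits MonoidalCategory CartesianMonoidalCategory MonObj AlgebraicGeometry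

namespace Groth.Agent.Helper3.AntiAffApps

open Groth.Agent.Helper5.GrpDense Groth.Agent.Helper5.GammaBC Groth.Agent.Helper5.Rigid
open Groth.Agent.Helper3.AntiAffRigid

variable {k : Type u} [Field k] {X Y Z : Over (Spec (CommRingCat.of k))}

lemma hΓ_of (hX : Function.Bijective
    ((Scheme.ΓSpecIso (CommRingCat.of k)).inv ≫ X.hom.appTop).hom) :
    Function.Bijective X.hom.appTop.hom := by
  have : X.hom.appTop.hom = ((Scheme.ΓSpecIso (CommRingCat.of k)).inv ≫ X.hom.appTop).hom ∘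
      (Scheme.ΓSpecIso (CommRingCat.of k)).hom.hom := by
    ext x
    simp [← CommRingCat.comp_apply]
  rw [this]
  exact hX.comp (ConcreteCategory.bijective_of_isIso (Scheme.ΓSpecIso (CommRingCat.of k)).hom)

theorem rigid_pt [QuasiCompact X.hom] [QuasiSeparated X.hom]
    (hΓ : Function.Bijective X.hom.appTop.hom) [IsLocallyNoetherian Y.left]
    [PreconnectedSpace Y.left] [IsSeparated Z.hom]
    (x₀ : 𝟙_ (Over (Spec (CommRingCat.of k))) ⟶ X) (f : X ⊗ Y ⟶ Z)
    (y₀ : 𝟙_ (Over (Spec (CommRingCat.of k))) ⟶ Y) (z : 𝟙_ (Over (Spec (CommRingCat.of k))) ⟶ Z)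
    (hf : (X ◁ y₀) ≫ f = toUnit _ ≫ z) : f = gg x₀ f := by
  refine rigid hΓ x₀ f (y₀.left (IsLocalRing.closedPoint k)) (z.left (IsLocalRing.closedPoint k)) ?_
  intro p hp
  have hmem : p ∈ Set.range (X ◁ y₀).left := by
    rw [range_whiskerLeft, Set.mem_preimage, hp]; exact ⟨_, rfl⟩
  obtain ⟨p', rfl⟩ := hmem
  rw [← Scheme.Hom.comp_apply, ← Over.comp_left, hf, Over.comp_left, Scheme.Hom.comp_apply]
  congr 1
  exact pt_unique _ _

theorem s14577 (k : Type u) [Field k]
    (X Y Z : Over (Spec (CommRingCat.of k))) [QuasiCompact X.hom] [IsSeparated X.hom]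
    (hX : Function.Bijective ((Scheme.ΓSpecIso (CommRingCat.of k)).inv ≫ X.hom.appTop).hom)
    [IsSeparated Y.hom] [IsLocallyNoetherian Y.left] [IrreducibleSpace ↥Y.left] [IsReduced Y.left] [IsSeparated Z.hom]
    (x₀ : 𝟙_ (Over (Spec (CommRingCat.of k))) ⟶ X) (y₀ : 𝟙_ (Over (Spec (CommRingCat.of k))) ⟶ Y) (f : X ⊗ Y ⟶ Z)
    (hf : (X ◁ y₀) ≫ f = toUnit _ ≫ lift x₀ y₀ ≫ f) :
    f = snd X Y ≫ lift (toUnit Y ≫ x₀) (𝟙 Y) ≫ f :=
  rigid_pt (hΓ_of hX) x₀ f y₀ (lift x₀ y₀ ≫ f) hf

theorem preconnected_of_antiAffine (hΓ : Function.Bijective X.hom.appTop.hom) :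
    PreconnectedSpace X.left := by
  apply Groth.Agent.Helper3.IdemConn.preconnected_of_idem
  intro e he
  obtain ⟨c, rfl⟩ := hΓ.2 e
  have hc : IsIdempotentElem c := by
    apply hΓ.1
    rw [map_mul]; exact he
  have hc' : IsIdempotentElem ((Scheme.ΓSpecIso (CommRingCat.of k)).hom.hom c) := by
    unfold IsIdempotentElem at hc ⊢
    rw [← map_mul, hc]
  have hinj : Function.Injective (Scheme.ΓSpecIso (CommRingCat.of k)).hom.hom :=
    (ConcreteCategory.bijective_of_isIso (Scheme.ΓSpecIso (CommRingCat.of k)).hom).1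
  rcases IsIdempotentElem.iff_eq_zero_or_one.mp hc' with h0 | h1
  · left
    have : c = 0 := hinj (h0.trans (map_zero _).symm)
    rw [this, map_zero]
  · right
    have : c = 1 := hinj (h1.trans (map_one _).symm)
    rw [this, map_one]

theorem s14578 (k : Type u) [Field k]
    (H G : Over (Spec (CommRingCat.of k))) [GrpObj H] [GrpObj G] [LocallyOfFiniteType H.hom] [QuasiCompact H.hom]
    [LocallyOfFiniteType G.hom] [QuasiCompact G.hom]
    (hH : Function.Bijective ((Scheme.ΓSpecIso (CommRingCat.of k)).inv ≫ H.hom.appTop).hom) (f : H ⟶ G) (hf : η[H] ≫ f = η[G]) : IsMonHom f := by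
  have hΓ := hΓ_of hH
  haveI : IsLocallyNoetherian H.left := LocallyOfFiniteType.isLocallyNoetherian H.hom
  haveI : QuasiSeparated H.hom := (quasiSeparated_iff_quasiSeparatedSpace H.hom).mpr inferInstance
  haveI : PreconnectedSpace H.left := preconnected_of_antiAffine hΓ
  haveI : IsSeparated G.hom := Groth.Agent.Helper2.HS6.isSeparated_grp G
  let φ : H ⊗ H ⟶ G := (fst H H ≫ f)⁻¹ * (μ[H] ≫ f) * (snd H H ≫ f)⁻¹
  have h1 : (H ◁ η[H]) ≫ φ = toUnit _ ≫ η[G] := by
    simp only [φ, MonObj.comp_mul, GrpObj.comp_inv]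
    rw [← Category.assoc, whiskerLeft_fst, ← Category.assoc (H ◁ η[H]) μ[H], MonObj.mul_one,
      ← Category.assoc, whiskerLeft_snd, Category.assoc, hf, CartesianMonoidalCategory.rightUnitor_hom,
      inv_mul_cancel, _root_.one_mul]
    have : snd H (𝟙_ (Over (Spec (CommRingCat.of k)))) ≫ η[G] = 1 := by
      rw [Hom.one_def]; congr 1; exact toUnit_unique _ _
    rw [this, inv_one, Hom.one_def]
  have h2 : φ = gg η[H] φ := rigid_pt hΓ η[H] φ η[H] η[G] h1
  have h3 : sec η[H] H ≫ φ = 1 := by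
    simp only [φ, MonObj.comp_mul, GrpObj.comp_inv]
    rw [← Category.assoc, lift_fst, ← Category.assoc _ μ[H], lift_comp_one_left, ← Category.assoc,
      lift_snd, Category.id_comp, Category.assoc, hf, ← Hom.one_def, inv_one, _root_.one_mul,
      mul_inv_cancel]
  have h4 : φ = 1 := by
    rw [h2]; unfold gg; rw [h3, MonObj.comp_one]
  constructor
  · exact hf
  · have h5 : μ[H] ≫ f = (fst H H ≫ f) * (snd H H ≫ f) := by
      have := h4
      simp only [φ] at this
      rw [mul_inv_eq_one] at this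
      rw [← this, mul_inv_cancel_left]
    rw [h5, Hom.mul_def, lift_fst_comp_snd_comp]

theorem s3293 (k : Type u) [Field k]
    (G : Over (Spec (CommRingCat.of k))) [GrpObj G] [LocallyOfFiniteType G.hom] [QuasiCompact G.hom]
    (hO : Function.Bijective ((Scheme.ΓSpecIso (CommRingCat.of k)).inv ≫ G.hom.appTop).hom) :
    ConnectedSpace G.left ∧ IsCommMonObj G := by
  have hΓ := hΓ_of hO
  haveI : IsLocallyNoetherian G.left := LocallyOfFiniteType.isLocallyNoetherian G.hom
  haveI : QuasiSeparated G.hom := (quasiSeparated_iff_quasiSeparatedSpace G.hom).mpr inferInstance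
  haveI : PreconnectedSpace G.left := preconnected_of_antiAffine hΓ
  haveI : IsSeparated G.hom := Groth.Agent.Helper2.HS6.isSeparated_grp G
  haveI : Nonempty G.left := ⟨η[G].left (IsLocalRing.closedPoint k)⟩
  refine ⟨{ toNonempty := inferInstance }, ?_⟩
  let c : G ⊗ G ⟶ G := fst G G * snd G G * (fst G G)⁻¹ * (snd G G)⁻¹
  have h1 : (G ◁ η[G]) ≫ c = toUnit _ ≫ η[G] := by
    simp only [c, MonObj.comp_mul, GrpObj.comp_inv]
    rw [whiskerLeft_fst, whiskerLeft_snd]
    have : snd G (𝟙_ (Over (Spec (CommRingCat.of k)))) ≫ η[G] = 1 := by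
      rw [Hom.one_def]; congr 1; exact toUnit_unique _ _
    rw [this, inv_one, _root_.mul_one, _root_.mul_one, mul_inv_cancel, Hom.one_def]
  have h2 : c = gg η[G] c := rigid_pt hΓ η[G] c η[G] η[G] h1
  have h3 : sec η[G] G ≫ c = 1 := by
    simp only [c, MonObj.comp_mul, GrpObj.comp_inv]
    rw [lift_fst, lift_snd, ← Hom.one_def, inv_one, _root_.one_mul, _root_.mul_one,
      mul_inv_cancel]
  have h4 : c = 1 := by
    rw [h2]; unfold gg; rw [h3, MonObj.comp_one]
  have hcomm : fst G G * snd G G = snd G G * fst G G := by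
    have := h4
    simp only [c] at this
    rw [mul_inv_eq_one, mul_inv_eq_iff_eq_mul] at this
    exact this
  refine ⟨?_⟩
  rw [MonObj.mul_eq_mul, MonObj.comp_mul, braiding_hom_fst, braiding_hom_snd]
  exact hcomm.symm

theorem s7996 (k : Type u) [Field k]
    (H G : Over (Spec (CommRingCat.of k))) [GrpObj H] [GrpObj G]
    [LocallyOfFiniteType H.hom] [QuasiCompact H.hom] [LocallyOfFiniteType G.hom] [QuasiCompact G.hom]
    [ConnectedSpace G.left]
    (hO : Function.Bijective ((Scheme.ΓSpecIso (CommRingCat.of k)).inv ≫ H.hom.appTop).hom)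
    (φ : H ⟶ G) [IsMonHom φ] (X : Over (Spec (CommRingCat.of k))) (h : X ⟶ H)
    (X' : Over (Spec (CommRingCat.of k))) (x : X' ⟶ X) (g : X' ⟶ G) :
    (x ≫ h ≫ φ) * g = g * (x ≫ h ≫ φ) := by
  have hΓ := hΓ_of hO
  haveI : IsLocallyNoetherian H.left := LocallyOfFiniteType.isLocallyNoetherian H.hom
  haveI : IsLocallyNoetherian G.left := LocallyOfFiniteType.isLocallyNoetherian G.hom
  haveI : QuasiSeparated H.hom := (quasiSeparated_iff_quasiSeparatedSpace H.hom).mpr inferInstance
  haveI : IsSeparated G.hom := Groth.Agent.Helper2.HS6.isSeparated_grp G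
  let c : H ⊗ G ⟶ G := (fst H G ≫ φ) * snd H G * (fst H G ≫ φ)⁻¹ * (snd H G)⁻¹
  have h1 : (H ◁ η[G]) ≫ c = toUnit _ ≫ η[G] := by
    simp only [c, MonObj.comp_mul, GrpObj.comp_inv]
    rw [← Category.assoc, whiskerLeft_fst, whiskerLeft_snd]
    have : snd H (𝟙_ (Over (Spec (CommRingCat.of k)))) ≫ η[G] = 1 := by
      rw [Hom.one_def]; congr 1; exact toUnit_unique _ _
    rw [this, inv_one, _root_.mul_one, _root_.mul_one, mul_inv_cancel, Hom.one_def]
  have h2 : c = gg η[H] c := rigid_pt hΓ η[H] c η[G] η[G] h1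
  have h3 : sec η[H] G ≫ c = 1 := by
    simp only [c, MonObj.comp_mul, GrpObj.comp_inv]
    rw [← Category.assoc, lift_fst, lift_snd, Category.assoc, IsMonHom.one_hom, ← Hom.one_def,
      inv_one, _root_.one_mul, _root_.mul_one, mul_inv_cancel]
  have h4 : c = 1 := by
    rw [h2]; unfold gg; rw [h3, MonObj.comp_one]
  have hcomm : (fst H G ≫ φ) * snd H G = snd H G * (fst H G ≫ φ) := by
    have := h4
    simp only [c] at this
    rw [mul_inv_eq_one, mul_inv_eq_iff_eq_mul] at this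
    exact this
  have := congrArg (fun t => lift (x ≫ h) g ≫ t) hcomm
  simp only [MonObj.comp_mul] at this
  rwa [← Category.assoc, lift_fst, lift_snd, Category.assoc] at this

lemma nonempty_of_antiAffine (hΓ : Function.Bijective X.hom.appTop.hom) : Nonempty X.left := by
  by_contra hne
  haveI : IsEmpty X.left := not_nonempty_iff.mp hne
  have hbot : (⊤ : X.left.Opens) = ⊥ := by
    ext p; exact (IsEmpty.false p).elim
  haveI : Subsingleton (X.left.sheaf.obj.obj (Opposite.op (⊤ : X.left.Opens))) :=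
    CommRingCat.subsingleton_of_isTerminal (X.left.sheaf.isTerminalOfEqEmpty hbot)
  have h01 : X.hom.appTop.hom 0 = X.hom.appTop.hom 1 := Subsingleton.elim _ _
  have h0 := hΓ.1 h01
  haveI : Nontrivial Γ(Spec (CommRingCat.of k), ⊤) :=
    (Scheme.ΓSpecIso (CommRingCat.of k)).commRingCatIsoToRingEquiv.nontrivial
  exact zero_ne_one h0

/-- a rational point on a nonempty scheme locally of finite type over an algebraically closed
field -/
lemma exists_ratPt [IsAlgClosed k] [LocallyOfFiniteType X.hom] [Nonempty X.left] :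
    Nonempty (𝟙_ (Over (Spec (CommRingCat.of k))) ⟶ X) := by
  haveI : JacobsonSpace X.left := LocallyOfFiniteType.jacobsonSpace X.hom
  obtain ⟨x⟩ := ‹Nonempty X.left›
  obtain ⟨y, -, hy⟩ := nonempty_inter_closedPoints (Z := (Set.univ : Set X.left)) ⟨x, trivial⟩
    isOpen_univ.isLocallyClosed
  exact ⟨Over.homMk (pointOfClosedPoint X.hom y hy) (pointOfClosedPoint_comp X.hom y hy)⟩

theorem s11395 (k : Type u) [Field k] [IsAlgClosed k]
    (X Y Z : Over (Spec (CommRingCat.of k))) [LocallyOfFiniteType X.hom] [QuasiCompact X.hom]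
    [LocallyOfFiniteType Y.hom] [QuasiCompact Y.hom] [LocallyOfFiniteType Z.hom] [QuasiCompact Z.hom]
    (hX : Function.Bijective ((Scheme.ΓSpecIso (CommRingCat.of k)).inv ≫ X.hom.appTop).hom)
    [ConnectedSpace ↥Y.left] [IsSeparated Z.hom]
    (f : X ⊗ Y ⟶ Z) (y₀ : 𝟙_ (Over (Spec (CommRingCat.of k))) ⟶ Y) (z₀ : 𝟙_ (Over (Spec (CommRingCat.of k))) ⟶ Z)
    (hf : (X ◁ y₀) ≫ f = toUnit _ ≫ z₀) :
    ∃! g : Y ⟶ Z, f = snd X Y ≫ g := by
  have hΓ := hΓ_of hX
  haveI : IsLocallyNoetherian X.left := LocallyOfFiniteType.isLocallyNoetherian X.hom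
  haveI : IsLocallyNoetherian Y.left := LocallyOfFiniteType.isLocallyNoetherian Y.hom
  haveI : QuasiSeparated X.hom := (quasiSeparated_iff_quasiSeparatedSpace X.hom).mpr inferInstance
  haveI : Nonempty X.left := nonempty_of_antiAffine hΓ
  obtain ⟨x₀⟩ := exists_ratPt (X := X)
  refine ⟨sec x₀ Y ≫ f, rigid_pt hΓ x₀ f y₀ z₀ hf, ?_⟩
  intro g' hg'
  rw [hg', ← Category.assoc, lift_snd, Category.id_comp]

theorem s11421 (k : Type u) [Field k] [IsAlgClosed k]
    (G H S : Over (Spec (CommRingCat.of k))) [GrpObj G] [Smooth G.hom] [QuasiCompact G.hom]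
    (hG : Function.Bijective ((Scheme.ΓSpecIso (CommRingCat.of k)).inv ≫ G.hom.appTop).hom)
    [GrpObj H] [Smooth H.hom] [QuasiCompact H.hom] [ConnectedSpace ↥H.left]
    [LocallyOfFiniteType S.hom] [QuasiCompact S.hom] [ConnectedSpace ↥S.left]
    (f : G ⊗ S ⟶ H) :
    ∃ (φ : S ⟶ H) (ψ : G ⟶ H), IsMonHom ψ ∧ f = (snd G S ≫ φ) * (fst G S ≫ ψ) ∧
      ∀ (φ' : S ⟶ H) (ψ' : G ⟶ H), IsMonHom ψ' → f = (snd G S ≫ φ') * (fst G S ≫ ψ') → φ' = φ ∧ ψ' = ψ := by
  have hΓ := hΓ_of hG
  haveI : LocallyOfFiniteType G.hom := inferInstance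
  haveI : LocallyOfFiniteType H.hom := inferInstance
  haveI : IsLocallyNoetherian G.left := LocallyOfFiniteType.isLocallyNoetherian G.hom
  haveI : IsLocallyNoetherian S.left := LocallyOfFiniteType.isLocallyNoetherian S.hom
  haveI : QuasiSeparated G.hom := (quasiSeparated_iff_quasiSeparatedSpace G.hom).mpr inferInstance
  haveI : IsSeparated H.hom := Groth.Agent.Helper2.HS6.isSeparated_grp H
  obtain ⟨s₀⟩ := exists_ratPt (X := S)
  let φ : S ⟶ H := sec η[G] S ≫ f
  let F : G ⊗ S ⟶ H := (snd G S ≫ φ)⁻¹ * f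
  let j : G ⟶ G ⊗ S := lift (𝟙 G) (toUnit G ≫ s₀)
  let ψ : G ⟶ H := j ≫ F
  have hsecF : sec η[G] S ≫ F = 1 := by
    simp only [F, MonObj.comp_mul, GrpObj.comp_inv]
    rw [← Category.assoc, lift_snd, Category.id_comp]
    exact inv_mul_cancel _
  have hηψ : η[G] ≫ ψ = η[H] := by
    have h1 : η[G] ≫ j = s₀ ≫ sec η[G] S := by
      apply CartesianMonoidalCategory.hom_ext
      · simp only [j, Category.assoc, lift_fst, Category.comp_id]
        rw [← Category.assoc, toUnit_unique (s₀ ≫ toUnit S) (𝟙 _), Category.id_comp]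
      · simp only [j, Category.assoc, lift_snd, Category.comp_id]
        rw [← Category.assoc, toUnit_unique (η[G] ≫ toUnit G) (𝟙 _), Category.id_comp]
    change η[G] ≫ j ≫ F = η[H]
    rw [← Category.assoc, h1, Category.assoc, hsecF, MonObj.comp_one, MonObj.one_eq_one]
  haveI hψ : IsMonHom ψ := s14578 k G H hG ψ hηψ
  let Ψ : G ⊗ S ⟶ H := F * (fst G S ≫ ψ)⁻¹
  have hwj : (G ◁ s₀) = fst G (𝟙_ (Over (Spec (CommRingCat.of k)))) ≫ j := by
    apply CartesianMonoidalCategory.hom_ext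
    · simp [j]
    · simp only [j, whiskerLeft_snd, Category.assoc, lift_snd]
      rw [← Category.assoc]
      congr 1
      exact toUnit_unique _ _
  have h1 : (G ◁ s₀) ≫ Ψ = toUnit _ ≫ η[H] := by
    simp only [Ψ, MonObj.comp_mul, GrpObj.comp_inv]
    rw [← Category.assoc (G ◁ s₀) (fst G S), whiskerLeft_fst, hwj, Category.assoc]
    change (fst _ _ ≫ ψ) * (fst _ _ ≫ ψ)⁻¹ = _
    rw [mul_inv_cancel, Hom.one_def]
  have h2 : Ψ = gg η[G] Ψ := rigid_pt hΓ η[G] Ψ s₀ η[H] h1
  have h3 : sec η[G] S ≫ Ψ = 1 := by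
    simp only [Ψ, MonObj.comp_mul, GrpObj.comp_inv]
    rw [hsecF, ← Category.assoc, lift_fst, Category.assoc, hηψ, ← Hom.one_def, inv_one,
      _root_.one_mul]
  have h4 : Ψ = 1 := by
    rw [h2]; unfold gg; rw [h3, MonObj.comp_one]
  have hF : F = fst G S ≫ ψ := by
    have := h4
    simp only [Ψ] at this
    rwa [mul_inv_eq_one] at this
  have hf : f = (snd G S ≫ φ) * (fst G S ≫ ψ) := by
    rw [← hF]
    simp only [F]
    rw [mul_inv_cancel_left]
  refine ⟨φ, ψ, hψ, hf, ?_⟩
  intro φ' ψ' hψ' hf'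
  have hφ' : φ' = φ := by
    have := congrArg (fun t => sec η[G] S ≫ t) hf'
    simp only [MonObj.comp_mul] at this
    rw [← Category.assoc, lift_snd, Category.id_comp, ← Category.assoc, lift_fst, Category.assoc,
      IsMonHom.one_hom, ← Hom.one_def, _root_.mul_one] at this
    exact this.symm
  refine ⟨hφ', ?_⟩
  have h5 : fst G S ≫ ψ' = fst G S ≫ ψ := by
    have := hf'.symm.trans hf
    rw [hφ'] at this
    exact mul_left_cancel this
  have := congrArg (fun t => j ≫ t) h5
  simp only [j] at this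
  rwa [← Category.assoc, lift_fst, Category.id_comp, ← Category.assoc, lift_fst,
    Category.id_comp] at this

end Groth.Agent.Helper3.AntiAffApps
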