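import Mathlib
import Groth.Prelude.Def_AlgGrp

set_option autoImplicit false
set_option linter.style.haveILetI false
set_option linter.unusedSectionVars false
set_option linter.unusedVariables false
set_option linter.style.haveILetI false
set_option linter.unusedSectionVars false
set_option linter.unusedVariables false
universe u
open scoped TensorProduct
open CategoryTheory CategoryTheory.Limits MonoidalCategory CartesianMonoidalCategory MonObj AlgebraicGeometry

namespace Groth.Agent.Helper3.AntiAffProd

variable {k : Type u} [Field k]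

/-- Künneth for global sections over a field, as a pushout square. -/
theorem isPushout_appTop (X Y : Over (Spec (CommRingCat.of k)))
    [QuasiCompact X.hom] [QuasiSeparated X.hom] [QuasiCompact Y.hom] [QuasiSeparated Y.hom] :
    IsPushout X.hom.appTop Y.hom.appTop (fst X Y).left.appTop (snd X Y).left.appTop := by
  have H : IsPullback (fst X Y).left (snd X Y).left X.hom Y.hom := by
    exact IsPullback.of_hasPullback X.hom Y.hom
  have hXc : CompactSpace X.left := by
    exact (quasiCompact_iff_compactSpace X.hom).mp inferInstance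
  have hYc : CompactSpace Y.left := by
    exact (quasiCompact_iff_compactSpace Y.hom).mp inferInstance
  have hXs : QuasiSeparatedSpace X.left := quasiSeparatedSpace_of_quasiSeparated X.hom
  have hYs : QuasiSeparatedSpace Y.left := quasiSeparatedSpace_of_quasiSeparated Y.hom
  have hfield : IsField Γ(Spec (CommRingCat.of k), ⊤) :=
    MulEquiv.isField (Field.toIsField k)
      (Scheme.ΓSpecIso (CommRingCat.of k)).commRingCatIsoToRingEquiv.toMulEquiv
  have hflat : (X.hom.appLE ⊤ ⊤ (by simp)).hom.Flat := RingHom.Flat.of_isField hfield _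
  have := isIso_pushoutSection_of_isCompact_of_flat_right_of_ringHomFlat H
    (US := ⊤) (UT := ⊤) (UX := ⊤) (UY := ⊤) (by simp) (by simp) (by simp)
    (isAffineOpen_top _) isCompact_univ (isQuasiSeparated_univ) isCompact_univ isQuasiSeparated_univ hflat
  rw [isIso_pushoutSection_iff] at this
  convert this using 1 <;> simp [Scheme.Hom.appTop, Scheme.Hom.appLE]



variable {k : Type u} [Field k]

lemma bij_of_section {P Q S : Scheme.{u}} (π : P ⟶ Q) (σ : Q ⟶ P) (h : σ ≫ π = 𝟙 Q)
    (q : Q ⟶ S) {R : CommRingCat.{u}} (e : R ⟶ Γ(S, ⊤))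
    (hb : Function.Bijective (e ≫ (π ≫ q).appTop).hom) :
    Function.Bijective (e ≫ q.appTop).hom := by
  have h1 : π.appTop ≫ σ.appTop = 𝟙 _ := by
    rw [← Scheme.Hom.comp_appTop, h]; rfl
  have hinj : Function.Injective π.appTop.hom := by
    intro x y hxy
    have := congrArg σ.appTop.hom hxy
    simpa [← CommRingCat.comp_apply, h1] using this
  have hcomp : (e ≫ (π ≫ q).appTop).hom = π.appTop.hom ∘ (e ≫ q.appTop).hom := by
    ext x
    simp [Scheme.Hom.comp_appTop]
  rw [hcomp] at hb
  have hsurj : Function.Surjective π.appTop.hom := Function.Surjective.of_comp hb.2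
  exact (Function.Bijective.of_comp_iff' ⟨hinj, hsurj⟩ _).mp hb

theorem main (k : Type u) [Field k]
    (G₁ G₂ : Over (Spec (CommRingCat.of k))) [GrpObj G₁] [LocallyOfFiniteType G₁.hom] [QuasiCompact G₁.hom] [ConnectedSpace ↥G₁.left]
    [GrpObj G₂] [LocallyOfFiniteType G₂.hom] [QuasiCompact G₂.hom] [ConnectedSpace ↥G₂.left] :
    Function.Bijective ((Scheme.ΓSpecIso (CommRingCat.of k)).inv ≫ (G₁ ⊗ G₂).hom.appTop).hom ↔
      Function.Bijective ((Scheme.ΓSpecIso (CommRingCat.of k)).inv ≫ G₁.hom.appTop).hom ∧ Function.Bijective ((Scheme.ΓSpecIso (CommRingCat.of k)).inv ≫ G₂.hom.appTop).hom := by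
  haveI : IsLocallyNoetherian G₁.left := LocallyOfFiniteType.isLocallyNoetherian G₁.hom
  haveI : IsLocallyNoetherian G₂.left := LocallyOfFiniteType.isLocallyNoetherian G₂.hom
  haveI : QuasiSeparatedSpace G₁.left := inferInstance
  haveI : QuasiSeparatedSpace G₂.left := inferInstance
  haveI : QuasiSeparated G₁.hom := (quasiSeparated_iff_quasiSeparatedSpace G₁.hom).mpr inferInstance
  haveI : QuasiSeparated G₂.hom := (quasiSeparated_iff_quasiSeparatedSpace G₂.hom).mpr inferInstance
  constructor
  · intro hb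
    constructor
    · refine bij_of_section (fst G₁ G₂).left (lift (𝟙 G₁) (toUnit G₁ ≫ η[G₂])).left ?_ G₁.hom _ ?_
      · rw [← Over.comp_left, lift_fst]; rfl
      · rwa [Over.w]
    · refine bij_of_section (snd G₁ G₂).left (lift (toUnit G₂ ≫ η[G₁]) (𝟙 G₂)).left ?_ G₂.hom _ ?_
      · rw [← Over.comp_left, lift_snd]; rfl
      · rwa [Over.w]
  · rintro ⟨h1, h2⟩
    have hpo := isPushout_appTop G₁ G₂
    have hi : IsIso (Scheme.ΓSpecIso (CommRingCat.of k)).inv := inferInstance
    haveI i1 : IsIso ((Scheme.ΓSpecIso (CommRingCat.of k)).inv ≫ G₁.hom.appTop) :=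
      (ConcreteCategory.isIso_iff_bijective _).mpr h1
    haveI i2 : IsIso ((Scheme.ΓSpecIso (CommRingCat.of k)).inv ≫ G₂.hom.appTop) :=
      (ConcreteCategory.isIso_iff_bijective _).mpr h2
    haveI j2 : IsIso G₂.hom.appTop := IsIso.of_isIso_comp_left (Scheme.ΓSpecIso (CommRingCat.of k)).inv _
    haveI : IsIso (fst G₁ G₂).left.appTop := hpo.isIso_inl_of_isIso
    have e : (Scheme.ΓSpecIso (CommRingCat.of k)).inv ≫ (G₁ ⊗ G₂).hom.appTop =
        ((Scheme.ΓSpecIso (CommRingCat.of k)).inv ≫ G₁.hom.appTop) ≫ (fst G₁ G₂).left.appTop := by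
      rw [Category.assoc, ← Scheme.Hom.comp_appTop, Over.w]
    rw [e]
    exact (ConcreteCategory.isIso_iff_bijective _).mp inferInstance

end Groth.Agent.Helper3.AntiAffProd
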