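import Mathlib
import Groth.Agent.Helper3.FamNormal1
import Groth.Agent.Lead.PuncSec

set_option autoImplicit false
set_option linter.style.haveILetI false
set_option linter.unusedSectionVars false
set_option linter.unusedVariables false
set_option linter.deprecated false
set_option linter.style.haveILetI false
set_option linter.unusedSectionVars false
set_option linter.unusedVariables false

universe u

open AlgebraicGeometry CategoryTheory IsLocalRing TopologicalSpace

namespace Groth.Agent.Helper3.ArtFlatHart

variable (C : Type u) [CommRing C] [IsLocalRing C] [IsArtinianRing C]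
  (A : Type u) [CommRing A] [IsNoetherianRing A] [Algebra C A] [Module.Flat C A]

/-- elements of the maximal ideal of a local Artinian ring are nilpotent -/
theorem isNilpotent_of_mem {c : C} (hc : c ∈ maximalIdeal C) : IsNilpotent c := by
  have h : IsNilpotent (maximalIdeal C) := by
    rw [← IsLocalRing.jacobson_eq_maximalIdeal ⊥ bot_ne_top]
    exact IsArtinianRing.isNilpotent_jacobson_bot
  obtain ⟨n, hn⟩ := h
  refine ⟨n, ?_⟩
  have : c ^ n ∈ (maximalIdeal C) ^ n := Ideal.pow_mem_pow hc n
  rw [hn] at this
  exact this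

/-- the extension of the maximal ideal lies in every prime -/
theorem mA_le (p : Ideal A) [p.IsPrime] : (maximalIdeal C).map (algebraMap C A) ≤ p := by
  rw [Ideal.map_le_iff_le_comap]
  intro c hc
  obtain ⟨n, hn⟩ := isNilpotent_of_mem C hc
  rw [Ideal.mem_comap]
  apply Ideal.IsPrime.mem_of_pow_mem inferInstance n
  rw [← map_pow, hn, map_zero]
  exact zero_mem _

section Loc

variable (p : Ideal A) [p.IsPrime]

instance isLocalHom_loc : IsLocalHom (algebraMap C (Localization.AtPrime p)) := by
  constructor
  intro c hc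
  by_contra hcu
  have hcm : c ∈ maximalIdeal C := hcu
  obtain ⟨n, hn⟩ := isNilpotent_of_mem C hcm
  have : IsUnit ((algebraMap C (Localization.AtPrime p) c) ^ n) := hc.pow n
  rw [← map_pow, hn, map_zero] at this
  exact not_isUnit_zero this

instance flat_loc : Module.Flat C (Localization.AtPrime p) :=
  Module.Flat.trans C A (Localization.AtPrime p)

/-- the closed fibre ring of `C → A_p` is the local ring of `A/mA` at the image of `p` -/
theorem fib_equiv :
    ∃ pbar : PrimeSpectrum (A ⧸ (maximalIdeal C).map (algebraMap C A)),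
      Nonempty (EGA4.FibRing C (Localization.AtPrime p) ≃+* Localization.AtPrime pbar.asIdeal) := by
  set I : Ideal A := (maximalIdeal C).map (algebraMap C A) with hI
  have hIp : I ≤ p := mA_le C A p
  have hker : RingHom.ker (Ideal.Quotient.mk I) ≤ p := by rwa [Ideal.mk_ker]
  have hprime : (p.map (Ideal.Quotient.mk I)).IsPrime :=
    Ideal.map_isPrime_of_surjective Ideal.Quotient.mk_surjective hker
  have hcomap : (p.map (Ideal.Quotient.mk I)).comap (Ideal.Quotient.mk I) = p := by
    rw [Ideal.comap_map_of_surjective _ Ideal.Quotient.mk_surjective, ← RingHom.ker_eq_comap_bot]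
    exact sup_eq_left.mpr hker
  refine ⟨⟨p.map (Ideal.Quotient.mk I), hprime⟩, ?_⟩
  -- the submonoid
  have hsub : Algebra.algebraMapSubmonoid (A ⧸ I) p.primeCompl =
      (p.map (Ideal.Quotient.mk I)).primeCompl := by
    ext x
    constructor
    · rintro ⟨a, ha, rfl⟩
      intro hmem
      apply ha
      rw [← hcomap]
      exact hmem
    · intro hx
      obtain ⟨a, rfl⟩ := Ideal.Quotient.mk_surjective x
      refine ⟨a, ?_, rfl⟩
      intro ha
      exact hx (Ideal.mem_map_of_mem _ ha)
  have hloc : IsLocalization (Algebra.algebraMapSubmonoid (A ⧸ I) p.primeCompl)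
      (Localization.AtPrime p ⧸ I.map (algebraMap A (Localization.AtPrime p))) := inferInstance
  rw [hsub] at hloc
  have hmap : (maximalIdeal C).map (algebraMap C (Localization.AtPrime p)) =
      I.map (algebraMap A (Localization.AtPrime p)) := by
    rw [hI, Ideal.map_map, ← IsScalarTower.algebraMap_eq]
  let e₁ : EGA4.FibRing C (Localization.AtPrime p) ≃+*
      (Localization.AtPrime p ⧸ I.map (algebraMap A (Localization.AtPrime p))) :=
    Ideal.quotEquivOfEq hmap
  exact ⟨e₁.trans (IsLocalization.algEquiv (p.map (Ideal.Quotient.mk I)).primeCompl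
    (Localization.AtPrime p ⧸ I.map (algebraMap A (Localization.AtPrime p)))
    (Localization.AtPrime (p.map (Ideal.Quotient.mk I)))).toRingEquiv⟩

theorem two_le_depth
    (hnorm : Pi1.IsNormalScheme (Spec (CommRingCat.of
      (A ⧸ (maximalIdeal C).map (algebraMap C A)))))
    (hp : (2 : ℕ∞) ≤ p.height) :
    (2 : ℕ∞) ≤ LocCoh.depth (Localization.AtPrime p) (Localization.AtPrime p) := by
  obtain ⟨pbar, ⟨e⟩⟩ := fib_equiv C A p
  -- the fibre ring is a normal domain
  let e₂ : Localization.AtPrime pbar.asIdeal ≃+*
      ((Spec (CommRingCat.of (A ⧸ (maximalIdeal C).map (algebraMap C A)))).presheaf.stalk pbar) :=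
    (AlgebraicGeometry.StructureSheaf.stalkIso _ pbar).toRingEquiv
  obtain ⟨hd, hic⟩ := hnorm pbar
  haveI := hd
  haveI := hic
  let e₃ := e.trans e₂
  haveI : IsDomain (EGA4.FibRing C (Localization.AtPrime p)) := e₃.toMulEquiv.isDomain _
  haveI : IsIntegrallyClosed (EGA4.FibRing C (Localization.AtPrime p)) :=
    IsIntegrallyClosed.of_equiv e₃.symm
  haveI : IsNoetherianRing C := inferInstance
  -- dimensions
  obtain ⟨nA, nF, hnA, hnF, hB⟩ := FamNormal.exists_dims C (Localization.AtPrime p)
  have hC0 : ringKrullDim C = 0 :=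
    (ringKrullDimZero_iff_ringKrullDim_eq_zero).mp inferInstance
  have hnA0 : nA = 0 := by
    rw [hC0] at hnA
    exact_mod_cast hnA.symm
  have hdimB : ringKrullDim (Localization.AtPrime p) = p.height :=
    IsLocalization.AtPrime.ringKrullDim_eq_height p _
  have hnF2 : (2 : ℕ∞) ≤ nF := by
    rw [hB, hnA0, zero_add] at hdimB
    have : nF = p.height := by exact_mod_cast hdimB
    rw [this]; exact hp
  have h1 := FamNormal.depth_normal (EGA4.FibRing C (Localization.AtPrime p)) nF hnF
  rw [min_eq_left hnF2] at h1
  have hd' := Groth.Agent.Helper5.RelDepth.depth_eq_add_fibRing C (Localization.AtPrime p)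
  rw [hd']
  exact h1.trans le_add_self

end Loc

theorem main
    (hnorm : Pi1.IsNormalScheme (Spec (CommRingCat.of
      (A ⧸ (maximalIdeal C).map (algebraMap C A)))))
    (U : (Spec (CommRingCat.of A)).Opens)
    (hU : ∀ p : ↥(Spec (CommRingCat.of A)), p ∉ U → (2 : ℕ∞) ≤ p.asIdeal.height) :
    Function.Bijective ((Spec (CommRingCat.of A)).presheaf.map
      (homOfLE (le_top : U ≤ ⊤)).op) := by
  have hU' : ∀ x : (Spec (CommRingCat.of A)), x ∉ U → (2 : ℕ∞) ≤
      LocCoh.depth ((Spec (CommRingCat.of A)).presheaf.stalk x)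
        ((Spec (CommRingCat.of A)).presheaf.stalk x) := by
    intro x hx
    have h2 := two_le_depth C A x.asIdeal hnorm (hU x hx)
    let e : Localization.AtPrime x.asIdeal ≃+* ((Spec (CommRingCat.of A)).presheaf.stalk x) :=
      (AlgebraicGeometry.StructureSheaf.stalkIso A x).toRingEquiv
    rw [← Groth.Agent.Lead.PuncSec.depth_eq_of_ringEquiv e]
    exact h2
  have hb := Groth.Agent.Lead.Hartogs2.bijective_res U hU' ⊤
  have e2 : (⊤ : (Spec (CommRingCat.of A)).Opens) ⊓ U = U := top_inf_eq U
  exact (Groth.Agent.Lead.ExtFree.bij_congrO rfl e2 inf_le_left le_top).mp hb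

end Groth.Agent.Helper3.ArtFlatHart
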