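import Mathlib
import Groth.Agent.Helper3.Fib1

set_option autoImplicit false
set_option linter.style.haveILetI false
set_option linter.unusedSectionVars false
set_option linter.unusedVariables false
set_option linter.style.haveILetI false
set_option linter.unusedSectionVars false
set_option linter.unusedVariables false

universe u

namespace Groth.Agent.Helper3.ArtH0

/-- colon ideals commute with flat base change (one inclusion, for a principal colon) -/
theorem mem_map_of_smul_mem {C A : Type*} [CommRing C] [CommRing A] [Algebra C A]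
    [Module.Flat C A] (J I' : Ideal C) (t : C) (hI : ∀ c, t * c ∈ J → c ∈ I') (a : A)
    (h : t • a ∈ Ideal.map (algebraMap C A) J) : a ∈ Ideal.map (algebraMap C A) I' := by
  have h1 : t • a ∈ J • (⊤ : Submodule C A) := by
    rw [Ideal.smul_top_eq_map]; exact h
  have h2 : (⊤ : Submodule C A) = Submodule.span C (Set.range (id : A → A)) := by
    rw [Set.range_id, Submodule.span_univ]
  rw [h2, Submodule.mem_ideal_smul_span_iff_exists_sum] at h1
  obtain ⟨b, hb, hsum⟩ := h1
  -- the relation `t • a - ∑ b i • i = 0`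
  let f : Option b.support → C := fun o => match o with
    | none => t
    | some i => - b i.1
  let x : Option b.support → A := fun o => match o with
    | none => a
    | some i => i.1
  have hrel : ∑ o, f o • x o = 0 := by
    rw [Fintype.sum_option]
    change t • a + ∑ i : b.support, (- b i.1) • (i.1 : A) = 0
    rw [← hsum, Finsupp.sum, ← Finset.sum_coe_sort b.support]
    simp only [neg_smul, Finset.sum_neg_distrib, id]
    exact add_neg_cancel _
  obtain ⟨k, α, y, hxy, hα⟩ := Module.Flat.isTrivialRelation_of_sum_smul_eq_zero (R := C) (M := A) (f := f) (x := x) hrel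
  have ha : a = ∑ j, α none j • y j := hxy none
  rw [ha]
  refine Ideal.sum_mem _ fun j _ => ?_
  have hj : α none j ∈ I' := by
    apply hI
    have := hα j
    rw [Fintype.sum_option] at this
    change t * α none j + ∑ i : b.support, (- b i.1) * α (some i) j = 0 at this
    have h3 : t * α none j = ∑ i : b.support, b i.1 * α (some i) j := by
      rw [← sub_eq_zero, ← this]
      simp only [neg_mul, Finset.sum_neg_distrib]
      ring
    rw [h3]
    exact Ideal.sum_mem _ fun i _ => Ideal.mul_mem_right _ _ (hb i.1)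
  rw [Algebra.smul_def]
  exact Ideal.mul_mem_right _ _ (Ideal.mem_map_of_mem _ hj)

/-- a nontrivial flat algebra over an Artinian local ring is faithfully flat, hence the structure
map is injective -/
theorem algebraMap_injective_of_flat {C A : Type*} [CommRing C] [IsLocalRing C] [IsArtinianRing C]
    [CommRing A] [Algebra C A] [Module.Flat C A] [Nontrivial A] :
    Function.Injective (algebraMap C A) := by
  haveI : Module.FaithfullyFlat C A := by
    refine ⟨fun m hm htop => ?_⟩
    have hm' : m = IsLocalRing.maximalIdeal C := IsLocalRing.eq_maximalIdeal hm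
    obtain ⟨n, hn⟩ : IsNilpotent (IsLocalRing.maximalIdeal C) := by
      rw [← IsLocalRing.jacobson_eq_maximalIdeal ⊥ bot_ne_top]
      exact IsArtinianRing.isNilpotent_jacobson_bot
    have hpow : ∀ j : ℕ, (m ^ j) • (⊤ : Submodule C A) = ⊤ := by
      intro j
      induction j with
      | zero => rw [pow_zero, Ideal.one_eq_top, Submodule.top_smul]
      | succ j ih => rw [pow_succ', Submodule.mul_smul, ih, htop]
    have h1 := hpow n
    rw [hm', hn] at h1
    have h2 : (⊤ : Submodule C A) = ⊥ := by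
      rw [← h1]; exact Submodule.bot_smul _
    have : (1 : A) ∈ (⊥ : Submodule C A) := h2 ▸ Submodule.mem_top
    exact one_ne_zero ((Submodule.mem_bot C).mp this)
  exact FaithfulSMul.algebraMap_injective C A

theorem exists_lt_sup_span {C : Type*} [CommRing C] [IsLocalRing C] [IsNoetherianRing C]
    (J' : Ideal C) (hJ' : J' ≠ ⊥) :
    ∃ (J : Ideal C) (t : C), J < J' ∧ t ∈ J' ∧ t ∉ J ∧ J ⊔ Ideal.span {t} = J' ∧
      (∀ c ∈ IsLocalRing.maximalIdeal C, c * t ∈ J) ∧
      ∀ c, t * c ∈ J → c ∈ IsLocalRing.maximalIdeal C := by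
  obtain ⟨J, hJS, hmax⟩ := set_has_maximal_iff_noetherian.mpr
    (inferInstance : IsNoetherian C C) {I : Ideal C | I < J'} ⟨⊥, bot_lt_iff_ne_bot.mpr hJ'⟩
  have hJlt : J < J' := hJS
  obtain ⟨t, htJ', htJ⟩ := SetLike.exists_of_lt hJlt
  have key : ∀ u ∈ J', u ∉ J → J ⊔ Ideal.span {u} = J' := by
    intro u hu huJ
    by_contra hne
    have hle : J ⊔ Ideal.span {u} ≤ J' :=
      sup_le hJlt.le ((Ideal.span_singleton_le_iff_mem _).mpr hu)
    have hlt : J < J ⊔ Ideal.span {u} := by
      refine lt_of_le_of_ne le_sup_left fun h => huJ ?_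
      rw [h]
      exact Ideal.mem_sup_right (Ideal.mem_span_singleton_self u)
    exact hmax _ (lt_of_le_of_ne hle hne) hlt
  have hm : ∀ c ∈ IsLocalRing.maximalIdeal C, c * t ∈ J := by
    intro c hc
    by_contra hct
    have h1 := key (c * t) (Ideal.mul_mem_left _ _ htJ') hct
    have h2 : t ∈ J ⊔ Ideal.span {c * t} := h1 ▸ htJ'
    obtain ⟨j, hj, w, hw, hjw⟩ := Submodule.mem_sup.mp h2
    obtain ⟨d, rfl⟩ := Ideal.mem_span_singleton'.mp hw
    have h3 : (1 - d * c) * t = j := by
      linear_combination (-1 : C) * hjw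
    have hu : IsUnit (1 - d * c) := by
      have : d * c ∈ IsLocalRing.maximalIdeal C := Ideal.mul_mem_left _ _ hc
      have h4 := IsLocalRing.isUnit_one_sub_self_of_mem_nonunits (d * c) this
      exact h4
    apply htJ
    have : t = hu.unit⁻¹ * j := by
      rw [← h3, ← mul_assoc, IsUnit.val_inv_mul, one_mul]
    rw [this]
    exact Ideal.mul_mem_left _ _ hj
  refine ⟨J, t, hJlt, htJ', htJ, key t htJ' htJ, hm, ?_⟩
  intro c hc
  by_contra hcm
  have hu : IsUnit c := by
    by_contra hnu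
    exact hcm ((IsLocalRing.mem_maximalIdeal c).mpr hnu)
  apply htJ
  have : t = t * c * hu.unit⁻¹ := by
    rw [mul_assoc, IsUnit.mul_val_inv, mul_one]
  rw [this]
  exact Ideal.mul_mem_right _ _ hc

theorem mem_map_of_mul_mem {C A : Type*} [CommRing C] [CommRing A] (ψ : C →+* A) (hψ : ψ.Flat)
    (J I' : Ideal C) (t : C) (hI : ∀ c, t * c ∈ J → c ∈ I') (a : A)
    (h : ψ t * a ∈ Ideal.map ψ J) : a ∈ Ideal.map ψ I' := by
  letI := ψ.toAlgebra
  haveI : Module.Flat C A := hψ
  exact mem_map_of_smul_mem J I' t hI a (by rw [Algebra.smul_def]; exact h)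

open AlgebraicGeometry CategoryTheory TopologicalSpace Opposite

section Main

variable {R : Type u} [CommRing R] [IsLocalRing R] [IsArtinianRing R]
variable {X X₀ : Scheme.{u}} (φ : R →+* Γ(X, ⊤)) (i : X₀ ⟶ X)

/-- the structure map to sections over `U` -/
noncomputable def φU (U : X.Opens) : R →+* Γ(X, U) :=
  (X.presheaf.map (homOfLE (le_top : U ≤ ⊤)).op).hom.comp φ

lemma res_φU {U V : X.Opens} (h : V ≤ U) (c : R) :
    (X.presheaf.map (homOfLE h).op).hom (φU φ U c) = φU φ V c := by
  unfold φU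
  simp only [RingHom.comp_apply, ← CommRingCat.comp_apply, ← Functor.map_comp, ← op_comp]
  rfl

lemma res_mem_map {U V : X.Opens} (h : V ≤ U) (J : Ideal R) (a : Γ(X, U))
    (ha : a ∈ Ideal.map (φU φ U) J) :
    (X.presheaf.map (homOfLE h).op).hom a ∈ Ideal.map (φU φ V) J := by
  have h1 : Ideal.map (X.presheaf.map (homOfLE h).op).hom (Ideal.map (φU φ U) J) =
      Ideal.map (φU φ V) J := by
    rw [Ideal.map_map]
    congr 1
    ext c
    exact res_φU φ h c
  rw [← h1]
  exact Ideal.mem_map_of_mem _ ha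

open Groth.Agent.Helper3.Fib in
theorem surjective_of_data
    (hflat : ∀ U : X.Opens, IsAffineOpen U → (φU φ U).Flat)
    (H1a : ∀ U : X.Opens, IsAffineOpen U → ∀ c ∈ IsLocalRing.maximalIdeal R,
      (i.app U).hom (φU φ U c) = 0)
    (H1b : ∀ U : X.Opens, IsAffineOpen U → ∀ a : Γ(X, U), (i.app U).hom a = 0 →
      a ∈ Ideal.map (φU φ U) (IsLocalRing.maximalIdeal R))
    (H2 : ∀ σ : Γ(X₀, ⊤), ∃ l : R, σ = i.appTop.hom (φ l)) :
    Function.Surjective φ := by
  have H1a' : ∀ U : X.Opens, IsAffineOpen U → ∀ a ∈ Ideal.map (φU φ U) (IsLocalRing.maximalIdeal R),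
      (i.app U).hom a = 0 := by
    intro U hU a ha
    have hle : Ideal.map (φU φ U) (IsLocalRing.maximalIdeal R) ≤ RingHom.ker (i.app U).hom := by
      rw [Ideal.map_le_iff_le_comap]
      intro c hc
      exact H1a U hU c hc
    exact hle ha
  have key : ∀ J : Ideal R, ∀ s : Γ(X, ⊤),
      (∀ U : X.affineOpens, (X.presheaf.map (homOfLE (le_top : U.1 ≤ ⊤)).op).hom s ∈
        Ideal.map (φU φ U.1) J) → ∃ c ∈ J, φ c = s := by
    intro J
    induction J using IsArtinian.induction with
    | _ J' ih =>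
    intro s hs
    by_cases hJ' : J' = ⊥
    · -- base case
      refine ⟨0, J'.zero_mem, ?_⟩
      rw [map_zero]
      symm
      have hcov : (⊤ : X.Opens) ≤ iSup (fun U : X.affineOpens => U.1) := by
        rw [iSup_affineOpens_eq_top]
      refine X.sheaf.eq_of_locally_eq' (fun U : X.affineOpens => U.1) ⊤
        (fun U => homOfLE le_top) hcov s 0 (fun U => ?_)
      have := hs U
      rw [hJ', Ideal.map_bot] at this
      rw [map_zero]
      exact this
    · obtain ⟨J, t, hJlt, htJ', htJ, hsup, hm, hcolon⟩ := exists_lt_sup_span J' hJ'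
      have ihJ := ih J hJlt
      -- step 1
      have h1 : ∀ U : X.affineOpens, ∃ a : Γ(X, U.1),
          (X.presheaf.map (homOfLE (le_top : U.1 ≤ ⊤)).op).hom s - φU φ U.1 t * a ∈
            Ideal.map (φU φ U.1) J := by
        intro U
        have := hs U
        rw [← hsup, Ideal.map_sup, Ideal.map_span, Set.image_singleton] at this
        obtain ⟨x, hx, y, hy, hxy⟩ := Submodule.mem_sup.mp this
        obtain ⟨a, rfl⟩ := Ideal.mem_span_singleton'.mp hy
        refine ⟨a, ?_⟩
        rw [← hxy]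
        have : x + a * φU φ U.1 t - φU φ U.1 t * a = x := by ring
        rw [this]; exact hx
      choose a ha using h1
      let sf : ∀ U : X.affineOpens, Γ(X₀, i ⁻¹ᵁ U.1) := fun U => (i.app U.1).hom (a U)
      -- step 3
      have hcompat3 : ∀ (U V : X.affineOpens) (h : V.1 ≤ U.1),
          X₀.presheaf.map (homOfLE (show i ⁻¹ᵁ V.1 ≤ i ⁻¹ᵁ U.1 from fun _ hx => h hx)).op (sf U) =
            sf V := by
        intro U V h
        change X₀.presheaf.map _ ((i.app U.1).hom (a U)) = (i.app V.1).hom (a V)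
        rw [← app_res i h (a U)]
        have hd : (X.presheaf.map (homOfLE h).op).hom (a U) - a V ∈
            Ideal.map (φU φ V.1) (IsLocalRing.maximalIdeal R) := by
          apply mem_map_of_mul_mem (φU φ V.1) (hflat V.1 V.2) J _ t hcolon
          have e1 := res_mem_map φ h J _ (ha U)
          rw [map_sub, map_mul, res_φU φ h] at e1
          have e2 := ha V
          have e3 : (X.presheaf.map (homOfLE h).op).hom
              ((X.presheaf.map (homOfLE (le_top : U.1 ≤ ⊤)).op).hom s) =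
              (X.presheaf.map (homOfLE (le_top : V.1 ≤ ⊤)).op).hom s := by
            simp only [← CommRingCat.comp_apply, ← Functor.map_comp, ← op_comp]
            rfl
          rw [e3] at e1
          have := Ideal.sub_mem _ e2 e1
          convert this using 1
          ring
        have h0 := H1a' V.1 V.2 _ hd
        rw [map_sub, sub_eq_zero] at h0
        exact h0
      -- step 4: glue
      have hcov : (⊤ : X₀.Opens) ≤ iSup (fun U : X.affineOpens => i ⁻¹ᵁ U.1) := by
        intro x _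
        have : i.base x ∈ (⊤ : X.Opens) := trivial
        rw [← iSup_affineOpens_eq_top] at this
        obtain ⟨U, hU⟩ := Opens.mem_iSup.mp this
        exact Opens.mem_iSup.mpr ⟨U, hU⟩
      have hcompat : TopCat.Presheaf.IsCompatible X₀.sheaf.1
          (fun U : X.affineOpens => i ⁻¹ᵁ U.1) sf := by
        intro U U'
        let κ := {V : X.affineOpens // V.1 ≤ U.1 ⊓ U'.1}
        have hcov2 : i ⁻¹ᵁ U.1 ⊓ i ⁻¹ᵁ U'.1 ≤ iSup (fun k : κ => i ⁻¹ᵁ k.1.1) := by
          intro x hx
          have hx' : i.base x ∈ U.1 ⊓ U'.1 := hx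
          obtain ⟨_, ⟨V, hV, rfl⟩, hxV, hVU⟩ :=
            X.isBasis_affineOpens.exists_subset_of_mem_open hx' (U.1 ⊓ U'.1).isOpen
          exact Opens.mem_iSup.mpr ⟨⟨⟨V, hV⟩, hVU⟩, hxV⟩
        refine X₀.sheaf.eq_of_locally_eq' (fun k : κ => i ⁻¹ᵁ k.1.1) (i ⁻¹ᵁ U.1 ⊓ i ⁻¹ᵁ U'.1)
          (fun k => homOfLE (fun _ hx => k.2 hx)) hcov2 _ _ (fun k => ?_)
        have e1 := hcompat3 U k.1 (k.2.trans inf_le_left)
        have e2 := hcompat3 U' k.1 (k.2.trans inf_le_right)
        change X₀.presheaf.map _ (X₀.presheaf.map _ (sf U)) =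
          X₀.presheaf.map _ (X₀.presheaf.map _ (sf U'))
        simp only [← CommRingCat.comp_apply, ← Functor.map_comp, ← op_comp]
        exact e1.trans e2.symm
      obtain ⟨σ, hσ, -⟩ := X₀.sheaf.existsUnique_gluing' (fun U : X.affineOpens => i ⁻¹ᵁ U.1) ⊤
        (fun U => homOfLE le_top) hcov sf hcompat
      -- step 5
      obtain ⟨l, hl⟩ := H2 σ
      -- step 6
      have h6 : ∀ U : X.affineOpens,
          (X.presheaf.map (homOfLE (le_top : U.1 ≤ ⊤)).op).hom (s - φ (t * l)) ∈
            Ideal.map (φU φ U.1) J := by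
        intro U
        have hker : (i.app U.1).hom (a U - φU φ U.1 l) = 0 := by
          rw [map_sub, sub_eq_zero]
          have e1 : (i.app U.1).hom (φU φ U.1 l) =
              X₀.presheaf.map (homOfLE (show i ⁻¹ᵁ U.1 ≤ i ⁻¹ᵁ ⊤ from fun _ _ => trivial)).op
                ((i.app ⊤).hom (φ l)) := app_res i le_top (φ l)
          rw [e1]
          have e2 := hσ U
          rw [hl] at e2
          exact e2.symm
        have hmem := H1b U.1 U.2 _ hker
        have hmul : φU φ U.1 t * (a U - φU φ U.1 l) ∈ Ideal.map (φU φ U.1) J := by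
          have hle : Ideal.span {t} * IsLocalRing.maximalIdeal R ≤ J := by
            rw [Ideal.span_singleton_mul_le_iff]
            intro c hc
            rw [mul_comm]; exact hm c hc
          have h7 : φU φ U.1 t * (a U - φU φ U.1 l) ∈
              Ideal.map (φU φ U.1) (Ideal.span {t} * IsLocalRing.maximalIdeal R) := by
            rw [Ideal.map_mul]
            exact Ideal.mul_mem_mul (Ideal.mem_map_of_mem _ (Ideal.mem_span_singleton_self t)) hmem
          exact Ideal.map_mono hle h7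
        have e : (X.presheaf.map (homOfLE (le_top : U.1 ≤ ⊤)).op).hom (s - φ (t * l)) =
            ((X.presheaf.map (homOfLE (le_top : U.1 ≤ ⊤)).op).hom s - φU φ U.1 t * a U) +
              φU φ U.1 t * (a U - φU φ U.1 l) := by
          have e1 : (X.presheaf.map (homOfLE (le_top : U.1 ≤ ⊤)).op).hom (φ (t * l)) =
              φU φ U.1 t * φU φ U.1 l := by
            rw [map_mul φ, map_mul]; rfl
          rw [map_sub, e1]
          ring
        rw [e]
        exact Ideal.add_mem _ (ha U) hmul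
      obtain ⟨c, hc, hcs⟩ := ihJ _ h6
      refine ⟨c + t * l, Ideal.add_mem _ (hJlt.le hc) (Ideal.mul_mem_right _ _ htJ'), ?_⟩
      rw [map_add, hcs]
      ring
  intro s
  obtain ⟨c, -, hc⟩ := key ⊤ s (fun U => by rw [Ideal.map_top]; trivial)
  exact ⟨c, hc⟩

end Main

section Part3

open Groth.Agent.Helper3.Fib

theorem ker_le_of_lift {X : Scheme.{u}} (U : X.Opens) (hU : IsAffineOpen U) (B : CommRingCat.{u})
    (q : Γ(X, U) ⟶ B) (a : Γ(X, U))
    (h : ((Spec.map q ≫ hU.fromSpec).app U).hom a = 0) : q.hom a = 0 := by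
  have key : (Spec.map q ≫ hU.fromSpec).app U =
      q ≫ (Scheme.ΓSpecIso B).inv ≫ (Spec B).presheaf.map (eqToHom (by simp)).op := by
    rw [Scheme.Hom.comp_app, hU.fromSpec_app_self]
    simp only [Category.assoc]
    rw [Scheme.Hom.naturality]
    have e := Scheme.ΓSpecIso_inv_naturality q
    rw [← Category.assoc q, e, Category.assoc]
    rfl
  rw [key] at h
  have hinj : Function.Injective ((Scheme.ΓSpecIso B).inv ≫ (Spec B).presheaf.map
      (eqToHom (by simp : (Spec.map q ≫ hU.fromSpec) ⁻¹ᵁ U = ⊤)).op).hom :=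
    (ConcreteCategory.bijective_of_isIso _).1
  apply hinj
  rw [map_zero]
  exact h

variable (C : Type u) [CommRing C] [IsLocalRing C] [IsArtinianRing C]
  (X X₀ : Scheme.{u}) (g : X ⟶ Spec (CommRingCat.of C)) [Flat g]
  (i : X₀ ⟶ X) (f₀ : X₀ ⟶ Spec (CommRingCat.of (C ⧸ IsLocalRing.maximalIdeal C)))
  (hsq : IsPullback i f₀ g
    (Spec.map (CommRingCat.ofHom (Ideal.Quotient.mk (IsLocalRing.maximalIdeal C)))))

/-- the structure map `C → Γ(X, ⊤)` -/
noncomputable def φ0 : C →+* Γ(X, ⊤) :=
  ((Scheme.ΓSpecIso (CommRingCat.of C)).inv ≫ g.appTop).hom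

lemma φU_eq (U : X.Opens) : φU (φ0 C X g) U =
    ((Scheme.ΓSpecIso (CommRingCat.of C)).inv ≫ g.appLE ⊤ U (by simp)).hom := by
  ext c
  rfl

lemma fromSpec_comp (U : X.Opens) (hU : IsAffineOpen U) :
    hU.fromSpec ≫ g = Spec.map (CommRingCat.ofHom (φU (φ0 C X g) U)) := by
  rw [← IsAffineOpen.SpecMap_appLE_fromSpec g (isAffineOpen_top _) hU (by simp),
    IsAffineOpen.fromSpec_top, Scheme.isoSpec_Spec_inv, ← Spec.map_comp, φU_eq]
  rfl

include hsq in
lemma appTop_φ0 (c : C) : i.appTop.hom (φ0 C X g c) =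
    ((Scheme.ΓSpecIso (CommRingCat.of (C ⧸ IsLocalRing.maximalIdeal C))).inv ≫ f₀.appTop).hom
      (Ideal.Quotient.mk (IsLocalRing.maximalIdeal C) c) := by
  have h1 : (Scheme.ΓSpecIso (CommRingCat.of C)).inv ≫ g.appTop ≫ i.appTop =
      CommRingCat.ofHom (Ideal.Quotient.mk (IsLocalRing.maximalIdeal C)) ≫
        (Scheme.ΓSpecIso (CommRingCat.of (C ⧸ IsLocalRing.maximalIdeal C))).inv ≫ f₀.appTop := by
    rw [← Scheme.Hom.comp_appTop, hsq.w, Scheme.Hom.comp_appTop, ← Category.assoc,
      ← Scheme.ΓSpecIso_inv_naturality, Category.assoc]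
  exact congr($(h1).hom c)

local notation "𝔪" => IsLocalRing.maximalIdeal C

include hsq in
theorem s11468
    (h0 : Function.Bijective ((Scheme.ΓSpecIso (CommRingCat.of (C ⧸ IsLocalRing.maximalIdeal C))).inv ≫
      f₀.appTop)) :
    Function.Bijective ((Scheme.ΓSpecIso (CommRingCat.of C)).inv ≫ g.appTop) := by
  let φ := φ0 C X g
  have hflat : ∀ U : X.Opens, IsAffineOpen U → (φU φ U).Flat := by
    intro U hU
    rw [φU_eq]
    have h1 : (g.appLE ⊤ U (by simp)).hom.Flat :=
      g.flat_appLE (isAffineOpen_top _) hU _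
    have h2 : ((Scheme.ΓSpecIso (CommRingCat.of C)).inv).hom.Flat :=
      RingHom.Flat.of_bijective (ConcreteCategory.bijective_of_isIso _)
    exact h2.comp h1
  have H1a : ∀ U : X.Opens, IsAffineOpen U → ∀ c ∈ 𝔪, (i.app U).hom (φU φ U c) = 0 := by
    intro U hU c hc
    have e1 : (i.app U).hom (φU φ U c) =
        X₀.presheaf.map (homOfLE (show i ⁻¹ᵁ U ≤ i ⁻¹ᵁ ⊤ from fun _ _ => trivial)).op
          ((i.app ⊤).hom (φ c)) := app_res i le_top (φ c)
    rw [e1]
    have e2 := appTop_φ0 C X X₀ g i f₀ hsq c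
    have e3 : Ideal.Quotient.mk 𝔪 c = 0 := Ideal.Quotient.eq_zero_iff_mem.mpr hc
    rw [e3, map_zero] at e2
    change (i.app ⊤).hom (φ c) = 0 at e2
    rw [e2, map_zero]
  have H1b : ∀ U : X.Opens, IsAffineOpen U → ∀ a : Γ(X, U), (i.app U).hom a = 0 →
      a ∈ Ideal.map (φU φ U) 𝔪 := by
    intro U hU a ha
    let I := Ideal.map (φU φ U) 𝔪
    let q : Γ(X, U) →+* (Γ(X, U) ⧸ I) := Ideal.Quotient.mk I
    let ρ : C ⧸ 𝔪 →+* (Γ(X, U) ⧸ I) := Ideal.quotientMap I (φU φ U) Ideal.le_comap_map
    have hρ : ρ.comp (Ideal.Quotient.mk 𝔪) = q.comp (φU φ U) := Ideal.quotientMap_comp_mk _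
    let j : Spec (CommRingCat.of (Γ(X, U) ⧸ I)) ⟶ X := Spec.map (CommRingCat.ofHom q) ≫ hU.fromSpec
    let w : Spec (CommRingCat.of (Γ(X, U) ⧸ I)) ⟶ Spec (CommRingCat.of (C ⧸ 𝔪)) :=
      Spec.map (CommRingCat.ofHom ρ)
    have hjw : j ≫ g = w ≫ Spec.map (CommRingCat.ofHom (Ideal.Quotient.mk 𝔪)) := by
      change (Spec.map _ ≫ hU.fromSpec) ≫ g = Spec.map _ ≫ Spec.map _
      rw [Category.assoc, fromSpec_comp C X g U hU, ← Spec.map_comp, ← Spec.map_comp,
        ← CommRingCat.ofHom_comp, ← CommRingCat.ofHom_comp, hρ]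
    let ψ := hsq.lift j w hjw
    have hψ : ψ ≫ i = j := hsq.lift_fst _ _ _
    have hja : ∀ j' : Spec (CommRingCat.of (Γ(X, U) ⧸ I)) ⟶ X, ψ ≫ i = j' →
        (j'.app U).hom a = 0 := by
      rintro _ rfl
      rw [Scheme.Hom.comp_app]
      change (ψ.app (i ⁻¹ᵁ U)).hom ((i.app U).hom a) = 0
      rw [ha, map_zero]
    have h1 := hja j hψ
    have h2 := ker_le_of_lift U hU (CommRingCat.of (Γ(X, U) ⧸ I)) (CommRingCat.ofHom q) a h1
    exact Ideal.Quotient.eq_zero_iff_mem.mp h2
  have H2 : ∀ σ : Γ(X₀, ⊤), ∃ l : C, σ = i.appTop.hom (φ l) := by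
    intro σ
    obtain ⟨x, hx⟩ := h0.2 σ
    obtain ⟨l, rfl⟩ := Ideal.Quotient.mk_surjective x
    refine ⟨l, ?_⟩
    rw [appTop_φ0 C X X₀ g i f₀ hsq l]
    exact hx.symm
  have hsurj : Function.Surjective φ := surjective_of_data φ i hflat H1a H1b H2
  -- injectivity
  have hne : Nonempty X₀ := by
    by_contra hne
    haveI : IsEmpty X₀ := not_nonempty_iff.mp hne
    have hbot : (⊤ : X₀.Opens) = ⊥ := by
      ext p; exact (IsEmpty.false p).elim
    haveI : Subsingleton (X₀.sheaf.obj.obj (Opposite.op (⊤ : X₀.Opens))) :=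
      CommRingCat.subsingleton_of_isTerminal (X₀.sheaf.isTerminalOfEqEmpty hbot)
    have h01 : ((Scheme.ΓSpecIso (CommRingCat.of (C ⧸ 𝔪))).inv ≫ f₀.appTop)
          (0 : ↑(CommRingCat.of (C ⧸ 𝔪))) =
        ((Scheme.ΓSpecIso (CommRingCat.of (C ⧸ 𝔪))).inv ≫ f₀.appTop) 1 :=
      Subsingleton.elim (α := X₀.sheaf.obj.obj (Opposite.op (⊤ : X₀.Opens))) _ _
    have := h0.1 h01
    exact zero_ne_one this
  obtain ⟨x₀⟩ := hne
  obtain ⟨_, ⟨U, hU, rfl⟩, hxU, -⟩ :=
    X.isBasis_affineOpens.exists_subset_of_mem_open (Set.mem_univ (i.base x₀)) isOpen_univ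
  obtain ⟨U', hU'⟩ : ∃ U' : X.Opens, U' = U := ⟨U, rfl⟩
  subst hU'
  have hinjU : Function.Injective (φU φ U') := by
    letI := (φU φ U').toAlgebra
    haveI : Module.Flat C Γ(X, U') := hflat U' hU
    haveI : Nontrivial Γ(X, U') := by
      by_contra hnt
      rw [not_nontrivial_iff_subsingleton] at hnt
      have hemp : IsEmpty (PrimeSpectrum Γ(X, U')) := inferInstance
      have hr : i.base x₀ ∈ Set.range hU.fromSpec := by
        rw [IsAffineOpen.range_fromSpec]; exact hxU
      obtain ⟨p, -⟩ := hr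
      exact hemp.false p
    exact algebraMap_injective_of_flat (C := C) (A := Γ(X, U'))
  have hinj : Function.Injective φ := by
    intro c c' hcc
    apply hinjU
    change (X.presheaf.map _).hom (φ c) = (X.presheaf.map _).hom (φ c')
    rw [hcc]
  exact ⟨hinj, hsurj⟩

end Part3

end Groth.Agent.Helper3.ArtH0

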