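import Mathlib
set_option backward.isDefEq.respectTransparency.types false
set_option maxHeartbeats 4000000
set_option synthInstance.maxHeartbeats 400000
set_option autoImplicit false
universe u

open AlgebraicGeometry CategoryTheory

namespace Groth.Agent.Helper3.ArtLift

section Alg
variable {R : Type u} [CommRing R] [IsLocalRing R] [IsNoetherianRing R]

theorem nontrivial_quot (n : ℕ) : Nontrivial (R ⧸ (IsLocalRing.maximalIdeal R) ^ (n + 1)) := by
  rw [Ideal.Quotient.nontrivial_iff]
  intro h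
  have : (IsLocalRing.maximalIdeal R) ^ (n + 1) ≤ IsLocalRing.maximalIdeal R :=
    Ideal.pow_le_self (Nat.succ_ne_zero n)
  rw [h] at this
  exact (IsLocalRing.maximalIdeal.isMaximal R).ne_top (top_le_iff.mp this)

theorem isLocalRing_quot (n : ℕ) : IsLocalRing (R ⧸ (IsLocalRing.maximalIdeal R) ^ (n + 1)) := by
  haveI := nontrivial_quot (R := R) n
  exact IsLocalRing.of_surjective' (Ideal.Quotient.mk _) Ideal.Quotient.mk_surjective

theorem isArtinianRing_quot (n : ℕ) :
    IsArtinianRing (R ⧸ (IsLocalRing.maximalIdeal R) ^ (n + 1)) := by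
  haveI := nontrivial_quot (R := R) n
  haveI := isLocalRing_quot (R := R) n
  rw [isArtinianRing_iff_isNilpotent_maximalIdeal]
  refine ⟨n + 1, ?_⟩
  have hloc : IsLocalHom (Ideal.Quotient.mk ((IsLocalRing.maximalIdeal R) ^ (n + 1))) :=
    IsLocalHom.of_surjective _ Ideal.Quotient.mk_surjective
  have h1 : IsLocalRing.maximalIdeal (R ⧸ (IsLocalRing.maximalIdeal R) ^ (n + 1)) =
      (IsLocalRing.maximalIdeal R).map (Ideal.Quotient.mk _) := by
    apply le_antisymm
    · intro x hx
      obtain ⟨y, rfl⟩ := Ideal.Quotient.mk_surjective x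
      apply Ideal.mem_map_of_mem
      rw [IsLocalRing.mem_maximalIdeal, mem_nonunits_iff] at hx ⊢
      exact fun hy => hx (hy.map _)
    · exact IsLocalRing.map_maximalIdeal_le _
  rw [h1, ← Ideal.map_pow, Ideal.zero_eq_bot, Ideal.map_quotient_self]

end Alg

end Groth.Agent.Helper3.ArtLift

namespace Groth.Agent.Helper3.ArtLift

theorem germ_eq_zero_of_eq {Z : Scheme.{u}} (V : Z.Opens) (τ : Γ(Z, V)) {x y : Z} (e : x = y)
    (hx : x ∈ V) (hy : y ∈ V) (h : Z.presheaf.germ V x hx τ = 0) :
    Z.presheaf.germ V y hy τ = 0 := by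
  subst e; exact h

/-- Lemma A. -/
theorem ker_le_of_lift {S Z : Scheme.{u}} (i : Z ⟶ S) (hi : Function.Injective i.base) (z : Z)
    (A : CommRingCat.{u}) [IsLocalRing A] (q : S.presheaf.stalk (i z) ⟶ A) [IsLocalHom q.hom]
    (g' : Spec A ⟶ Z) (hg' : g' ≫ i = Spec.map q ≫ S.fromSpecStalk (i z))
    (a : S.presheaf.stalk (i z)) (ha : i.stalkMap z a = 0) : q a = 0 := by
  obtain ⟨U, hzU, σ, rfl⟩ := S.presheaf.exists_germ_eq a
  have hcp : (Spec.map q ≫ S.fromSpecStalk (i z)) (IsLocalRing.closedPoint A) = i z := by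
    rw [Scheme.Hom.comp_apply, Spec_closedPoint, Scheme.fromSpecStalk_closedPoint]
  have hU : (Spec.map q ≫ S.fromSpecStalk (i z)) (IsLocalRing.closedPoint A) ∈ U := by
    rw [hcp]; exact hzU
  have h1 := Scheme.germ_stalkClosedPointTo_Spec_fromSpecStalk q U hU
  have h2 : q (S.presheaf.germ U (i z) hzU σ) =
      Scheme.stalkClosedPointTo (Spec.map q ≫ S.fromSpecStalk (i z))
        (S.presheaf.germ U _ hU σ) := by
    have := congrArg (fun φ => φ σ) h1
    exact this.symm
  rw [h2]
  have hz' : z = g' (IsLocalRing.closedPoint A) := by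
    apply hi
    rw [← hcp, ← hg', Scheme.Hom.comp_apply]
  have key : ∀ (g₁ : Spec A ⟶ S) (e : g₁ = g' ≫ i) (hU₁ : g₁ (IsLocalRing.closedPoint A) ∈ U),
      Scheme.stalkClosedPointTo g₁ (S.presheaf.germ U _ hU₁ σ) = 0 := by
    rintro _ rfl hU₁
    rw [Scheme.stalkClosedPointTo_comp]
    have hU₂ : g' (IsLocalRing.closedPoint A) ∈ i ⁻¹ᵁ U := hU₁
    have h3 : i.stalkMap (g' (IsLocalRing.closedPoint A))
        (S.presheaf.germ U (i (g' (IsLocalRing.closedPoint A))) hU₁ σ) =
        Z.presheaf.germ (i ⁻¹ᵁ U) _ hU₂ (i.app U σ) :=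
      Scheme.Hom.germ_stalkMap_apply i U _ hU₁ σ
    have h4 : Z.presheaf.germ (i ⁻¹ᵁ U) _ hU₂ (i.app U σ) = 0 := by
      refine germ_eq_zero_of_eq (i ⁻¹ᵁ U) (i.app U σ) hz' hzU hU₂ ?_
      rw [← Scheme.Hom.germ_stalkMap_apply i U z hzU σ]
      exact ha
    show (Scheme.stalkClosedPointTo g') (i.stalkMap (g' (IsLocalRing.closedPoint A))
        (S.presheaf.germ U (i (g' (IsLocalRing.closedPoint A))) hU₁ σ)) = 0
    rw [h3, h4, map_zero]
  exact key _ hg'.symm hU

end Groth.Agent.Helper3.ArtLift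

namespace Groth.Agent.Helper3.ArtLift

theorem stalkMap_injective (S : Scheme.{u}) [IsLocallyNoetherian S]
    {Z : Scheme.{u}} (i : Z ⟶ S) [IsClosedImmersion i]
    (h : ∀ (A : Type u) [CommRing A] [IsArtinianRing A] [IsLocalRing A]
      (g : Spec (CommRingCat.of A) ⟶ S),
      (∃ t : Spec (CommRingCat.of (IsLocalRing.ResidueField A)) ⟶ Z,
          t ≫ i = Spec.map (CommRingCat.ofHom (IsLocalRing.residue A)) ≫ g) →
        ∃ g' : Spec (CommRingCat.of A) ⟶ Z, g' ≫ i = g) (z : Z) :
    Function.Injective (i.stalkMap z) := by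
  have hn : ∀ n : ℕ, RingHom.ker (i.stalkMap z).hom ≤
      (IsLocalRing.maximalIdeal (S.presheaf.stalk (i z))) ^ (n + 1) := by
    intro n
    haveI := nontrivial_quot (R := S.presheaf.stalk (i z)) n
    haveI := isLocalRing_quot (R := S.presheaf.stalk (i z)) n
    haveI := isArtinianRing_quot (R := S.presheaf.stalk (i z)) n
    let A := (S.presheaf.stalk (i z)) ⧸ (IsLocalRing.maximalIdeal (S.presheaf.stalk (i z))) ^ (n + 1)
    let q₀ : (S.presheaf.stalk (i z)) →+* A := Ideal.Quotient.mk
      ((IsLocalRing.maximalIdeal (S.presheaf.stalk (i z))) ^ (n + 1))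
    have hq₀ : IsLocalHom q₀ := IsLocalHom.of_surjective q₀ Ideal.Quotient.mk_surjective
    let q : S.presheaf.stalk (i z) ⟶ CommRingCat.of A := CommRingCat.ofHom q₀
    haveI : IsLocalHom q.hom := hq₀
    have hsurj : Function.Surjective (i.stalkMap z).hom := i.stalkMap_surjective z
    have hker : RingHom.ker (i.stalkMap z).hom ≤
        RingHom.ker ((IsLocalRing.residue A).comp q.hom) := by
      intro a ha
      rw [RingHom.mem_ker] at ha ⊢
      have hnu : ¬ IsUnit a := fun hu => by
        have := hu.map (i.stalkMap z).hom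
        rw [ha] at this
        exact not_isUnit_zero this
      rw [RingHom.comp_apply, IsLocalRing.residue_eq_zero_iff]
      exact fun hu => hnu (isUnit_of_map_unit q.hom a hu)
    let φ := RingHom.liftOfSurjective (i.stalkMap z).hom hsurj ⟨_, hker⟩
    have hφ : φ.comp (i.stalkMap z).hom = (IsLocalRing.residue A).comp q.hom :=
      RingHom.liftOfSurjective_comp _ hsurj ⟨_, hker⟩
    have ht : (Spec.map (CommRingCat.ofHom φ) ≫ Z.fromSpecStalk z) ≫ i =
        Spec.map (CommRingCat.ofHom (IsLocalRing.residue A)) ≫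
          (Spec.map q ≫ S.fromSpecStalk (i z)) := by
      rw [Category.assoc, ← Scheme.SpecMap_stalkMap_fromSpecStalk, ← Spec.map_comp_assoc,
        ← Spec.map_comp_assoc]
      congr 2
      ext x
      exact congrArg (fun ψ => ψ x) hφ
    obtain ⟨g', hg'⟩ := h A (Spec.map q ≫ S.fromSpecStalk (i z))
      ⟨Spec.map (CommRingCat.ofHom φ) ≫ Z.fromSpecStalk z, ht⟩
    intro a ha
    have := ker_le_of_lift i i.isClosedEmbedding.injective z (CommRingCat.of A) q g' hg' a ha
    exact Ideal.Quotient.eq_zero_iff_mem.mp this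
  have hbot : RingHom.ker (i.stalkMap z).hom = ⊥ := by
    rw [eq_bot_iff, ← Ideal.iInf_pow_eq_bot_of_isLocalRing
      (IsLocalRing.maximalIdeal (S.presheaf.stalk (i z))) Ideal.IsPrime.ne_top']
    refine le_iInf fun n => ?_
    rcases n with _ | n
    · simp
    · exact hn n
  exact (RingHom.injective_iff_ker_eq_bot _).mpr hbot

end Groth.Agent.Helper3.ArtLift

namespace Groth.Agent.Helper3.ArtLift

theorem main (S : Scheme.{u}) [IsLocallyNoetherian S]
    {Z : Scheme.{u}} (i : Z ⟶ S) [IsClosedImmersion i]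
    (h : ∀ (A : Type u) [CommRing A] [IsArtinianRing A] [IsLocalRing A]
      (g : Spec (CommRingCat.of A) ⟶ S),
      (∃ t : Spec (CommRingCat.of (IsLocalRing.ResidueField A)) ⟶ Z,
          t ≫ i = Spec.map (CommRingCat.ofHom (IsLocalRing.residue A)) ≫ g) →
        ∃ g' : Spec (CommRingCat.of A) ⟶ Z, g' ≫ i = g) :
    IsOpenImmersion i := by
  have hbij : ∀ z : Z, Function.Bijective (i.stalkMap z) := fun z =>
    ⟨stalkMap_injective S i h z, i.stalkMap_surjective z⟩
  haveI : Flat i := by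
    rw [Flat.iff_flat_stalkMap]
    intro z
    exact RingHom.Flat.of_bijective (hbij z)
  haveI : LocallyOfFiniteType i := inferInstance
  haveI : LocallyOfFinitePresentation i := inferInstance
  haveI : UniversallyOpen i := inferInstance
  have hopen : Topology.IsOpenEmbedding i.base :=
    ⟨i.isEmbedding, i.isOpenMap.isOpen_range⟩
  haveI : ∀ z, IsIso (i.stalkMap z) := fun z =>
    (ConcreteCategory.isIso_iff_bijective _).mpr (hbij z)
  exact IsOpenImmersion.of_isIso_stalkMap i hopen

end Groth.Agent.Helper3.ArtLift
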