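import Mathlib
import Groth.Prelude
import Groth.Agent.Helper3.AssBCE

set_option autoImplicit false
set_option linter.style.haveILetI false
set_option linter.unusedSectionVars false
set_option linter.unusedVariables false
set_option linter.deprecated false
set_option linter.style.haveILetI false
set_option linter.unusedSectionVars false
set_option linter.unusedVariables false

namespace Groth.Agent.Helper3.AssBCF

universe u

open IsLocalRing TensorProduct AlgebraicGeometry CategoryTheory Limits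
open Groth.Agent.Helper3.AssBCD Groth.Agent.Helper2.StalkDict

attribute [local instance] Curv2.stalkAlgebra

/-- in a local domain whose maximal ideal is associated, the maximal ideal is zero -/
theorem maximalIdeal_eq_bot_of_ass {A : Type u} [CommRing A] [IsDomain A] [IsLocalRing A]
    (h : maximalIdeal A ∈ associatedPrimes A A) : maximalIdeal A = ⊥ := by
  obtain ⟨-, a, ha⟩ := h
  have ha0 : a ≠ 0 := by
    rintro rfl
    apply (maximalIdeal.isMaximal A).ne_top
    rw [ha, Ideal.radical_eq_top, Ideal.eq_top_iff_one, Submodule.mem_colon_singleton]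
    simp
  rw [eq_bot_iff]
  intro t ht
  rw [ha] at ht
  obtain ⟨n, hn⟩ := ht
  rw [Submodule.mem_colon_singleton, Submodule.mem_bot, smul_eq_mul] at hn
  rw [Ideal.mem_bot]
  rcases mul_eq_zero.1 hn with h1 | h1
  · exact eq_zero_of_pow_eq_zero h1
  · exact absurd h1 ha0

/-- the local ring of a product at a point is a localization of the tensor product of the local
rings -/
theorem exists_stalk_equiv (k : Type u) [Field k] (X Y : Scheme.{u})
    [X.Over (Spec (CommRingCat.of k))] [Y.Over (Spec (CommRingCat.of k))]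
    (z : ↥(pullback (X ↘ Spec (CommRingCat.of k)) (Y ↘ Spec (CommRingCat.of k)))) :
    ∃ (q : Ideal ((X.presheaf.stalk (pullback.fst (X ↘ Spec (CommRingCat.of k))
          (Y ↘ Spec (CommRingCat.of k)) z)) ⊗[k]
        (Y.presheaf.stalk (pullback.snd (X ↘ Spec (CommRingCat.of k))
          (Y ↘ Spec (CommRingCat.of k)) z)))) (_ : q.IsPrime),
      Nonempty ((pullback (X ↘ Spec (CommRingCat.of k))
        (Y ↘ Spec (CommRingCat.of k))).presheaf.stalk z ≃+* Localization.AtPrime q) := by
  set z₁ := pullback.fst (X ↘ Spec (CommRingCat.of k)) (Y ↘ Spec (CommRingCat.of k)) z with hz₁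
  set z₂ := pullback.snd (X ↘ Spec (CommRingCat.of k)) (Y ↘ Spec (CommRingCat.of k)) z with hz₂
  haveI : Flat (X.fromSpecStalk z₁) := Groth.Agent.Helper5.StalkRed.flat_fromSpecStalk X z₁
  haveI : Flat (Y.fromSpecStalk z₂) := Groth.Agent.Helper5.StalkRed.flat_fromSpecStalk Y z₂
  have hf' : Spec.map (CommRingCat.ofHom (algebraMap k (X.presheaf.stalk z₁))) =
      X.fromSpecStalk z₁ ≫ (X ↘ Spec (CommRingCat.of k)) :=
    Groth.Agent.Helper4.GeomRedPt.specMap_stalkMap z₁
  have hs' : Spec.map (CommRingCat.ofHom (algebraMap k (Y.presheaf.stalk z₂))) =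
      Y.fromSpecStalk z₂ ≫ (Y ↘ Spec (CommRingCat.of k)) :=
    Groth.Agent.Helper4.GeomRedPt.specMap_stalkMap z₂
  obtain ⟨w₁, hw₁1, hw₁2, ⟨e1⟩⟩ := stepA (X ↘ Spec (CommRingCat.of k))
    (Y ↘ Spec (CommRingCat.of k)) (X.fromSpecStalk z₁) _ hf' z
    (IsLocalRing.closedPoint _) (Scheme.fromSpecStalk_closedPoint.symm)
  obtain ⟨w₂, hw₂1, hw₂2, ⟨e2⟩⟩ := stepA'
    (Spec.map (CommRingCat.ofHom (algebraMap k (X.presheaf.stalk z₁))))
    (Y ↘ Spec (CommRingCat.of k)) (Y.fromSpecStalk z₂) _ hs' w₁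
    (IsLocalRing.closedPoint _) (hw₁2.trans Scheme.fromSpecStalk_closedPoint.symm)
  obtain ⟨e3⟩ := nonempty_stalk_pullbackSpec_equiv k (X.presheaf.stalk z₁) (Y.presheaf.stalk z₂) w₂
  exact ⟨_, inferInstance, ⟨(e1.trans e2).trans e3⟩⟩

theorem main {k : Type u} [Field k] {X Y : Scheme.{u}}
    (f : X ⟶ Spec (CommRingCat.of k)) (g : Y ⟶ Spec (CommRingCat.of k)) [IsIntegral X]
    [IsIntegral Y] [IsLocallyNoetherian X] [IsLocallyNoetherian Y]
    [IsLocallyNoetherian (pullback f g)] :
    AssSch.NoEmbedded (Coh.structureModule (pullback f g)) := by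
  letI : X.Over (Spec (CommRingCat.of k)) := ⟨f⟩
  letI : Y.Over (Spec (CommRingCat.of k)) := ⟨g⟩
  haveI : Subsingleton ↥(Spec (CommRingCat.of k)) :=
    inferInstanceAs (Subsingleton (PrimeSpectrum k))
  haveI : Flat f := inferInstance
  haveI : Flat g := inferInstance
  rw [AssBCE.noEmbedded_iff]
  intro z hz y hy hyz
  set π₁ := pullback.fst f g with hπ₁
  set π₂ := pullback.snd f g with hπ₂
  have h1 : IsAss X (π₁ z) := isAss_image π₁ z hz
  have hm1 := maximalIdeal_eq_bot_of_ass h1
  have hnil : ∀ a ∈ maximalIdeal (X.presheaf.stalk (π₁ z)), IsNilpotent a := by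
    intro a ha
    rw [hm1, Ideal.mem_bot] at ha
    rw [ha]; exact IsNilpotent.zero
  obtain ⟨q, hq, ⟨e⟩⟩ := exists_stalk_equiv k X Y z
  haveI := hq
  have := @AssBCC.eq_of_ass_of_equiv _ z y _ k _ (X.presheaf.stalk (π₁ z)) _ _ _ hnil
    (Y.presheaf.stalk (π₂ z)) _ _ _ q hq e hz hy hyz
  exact this.symm

end Groth.Agent.Helper3.AssBCF
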