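import Mathlib
import Groth.Prelude.Def_CInt

set_option autoImplicit false
set_option linter.style.haveILetI false
set_option linter.unusedSectionVars false
set_option linter.unusedVariables false
set_option linter.deprecated false
set_option linter.style.haveILetI false
set_option linter.unusedSectionVars false
set_option linter.unusedVariables false

universe u

namespace Groth.Agent.Helper3.BigOpen1

open AlgebraicGeometry CategoryTheory IsLocalRing

/-- If `q` is a minimal prime over the annihilator of `g`, the maximal ideal of `B_q` contains no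
nonzerodivisor. -/
theorem alg_core (B O : Type u) [CommRing B] [CommRing O] [Algebra B O] (q : Ideal B) [q.IsPrime]
    [IsLocalization.AtPrime O q] (g : B)
    (hq : q ∈ ((Ideal.span {g} : Ideal B).annihilator).minimalPrimes) (t : O)
    (htm : t ∈ (IsLocalization.AtPrime.isLocalRing O q).maximalIdeal) (ht : IsSMulRegular O t) :
    False := by
  haveI hloc : IsLocalRing O := IsLocalization.AtPrime.isLocalRing O q
  set I : Ideal B := (Ideal.span {g} : Ideal B).annihilator with hI
  have hIq : I ≤ q := hq.1.2
  set J : Ideal O := (Ideal.span {algebraMap B O g} : Ideal O).annihilator with hJ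
  have hmemI : ∀ a : B, a ∈ I ↔ a * g = 0 := by
    intro a
    rw [hI, Submodule.mem_annihilator_span_singleton, smul_eq_mul]
  have hmemJ : ∀ a : O, a ∈ J ↔ a * algebraMap B O g = 0 := by
    intro a
    rw [hJ, Submodule.mem_annihilator_span_singleton, smul_eq_mul]
  -- `J` is proper
  have hJne : J ≠ ⊤ := by
    intro htop
    have h1 : (1 : O) ∈ J := by rw [htop]; trivial
    rw [hmemJ, one_mul] at h1
    obtain ⟨⟨u, hu⟩, hug⟩ := (IsLocalization.map_eq_zero_iff q.primeCompl O g).mp h1
    have : u ∈ I := (hmemI u).mpr hug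
    exact hu (hIq this)
  -- every prime over `J` is the maximal ideal
  have hprime : ∀ p' : Ideal O, p'.IsPrime → J ≤ p' → p' = maximalIdeal O := by
    intro p' hp' hJp'
    have hle : p'.comap (algebraMap B O) ≤ q := by
      have h1 : p' ≤ maximalIdeal O := le_maximalIdeal hp'.ne_top
      have h2 := Ideal.comap_mono (f := algebraMap B O) h1
      have h2' : (maximalIdeal O).comap (algebraMap B O) = q :=
        IsLocalization.AtPrime.comap_maximalIdeal O q
      rwa [h2'] at h2
    have hIp : I ≤ p'.comap (algebraMap B O) := by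
      intro a ha
      rw [Ideal.mem_comap]
      apply hJp'
      rw [hmemJ, ← map_mul, (hmemI a).mp ha, map_zero]
    have hqle : q ≤ p'.comap (algebraMap B O) :=
      hq.2 ⟨Ideal.comap_isPrime _ _, hIp⟩ hle
    have heq : p'.comap (algebraMap B O) = q := le_antisymm hle hqle
    have h3 : (p'.comap (algebraMap B O)).map (algebraMap B O) = p' :=
      IsLocalization.map_comap q.primeCompl O p'
    rw [heq] at h3
    rw [← h3, IsLocalization.AtPrime.map_eq_maximalIdeal]
  have hrad : J.radical = maximalIdeal O := by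
    rw [Ideal.radical_eq_sInf]
    apply le_antisymm
    · obtain ⟨M, hM, hJM⟩ := Ideal.exists_le_maximal J hJne
      have := hprime M hM.isPrime hJM
      exact sInf_le_of_le ⟨hJM, hM.isPrime⟩ this.le
    · refine le_sInf ?_
      rintro p' ⟨hJp', hp'⟩
      rw [hprime p' hp' hJp']
  have htJ : t ∈ J.radical := by rw [hrad]; exact htm
  obtain ⟨n, hn⟩ := htJ
  rw [hmemJ] at hn
  have hreg : IsSMulRegular O (t ^ n) := ht.pow n
  have h0 : algebraMap B O g = 0 := by
    apply hreg
    show t ^ n • algebraMap B O g = t ^ n • (0 : O)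
    rw [smul_eq_mul, smul_zero]
    exact hn
  apply hJne
  rw [Ideal.eq_top_iff_one, hmemJ, h0, mul_zero]

end Groth.Agent.Helper3.BigOpen1

namespace Groth.Agent.Helper3.BigOpen1

open AlgebraicGeometry CategoryTheory IsLocalRing TopologicalSpace

/-- An open subset is schematically dense as soon as the local rings at the points outside it have
a nonzerodivisor in their maximal ideal. -/
theorem schDense_of_nzd {P : Scheme.{u}} (U : P.Opens)
    (h : ∀ x : P, x ∉ U → ∃ t ∈ maximalIdeal (P.presheaf.stalk x),
      IsSMulRegular (P.presheaf.stalk x) t) :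
    CInt.IsSchematicallyDense U := by
  intro V
  rw [injective_iff_map_eq_zero]
  intro f hf
  refine TopCat.Presheaf.section_ext P.sheaf V f 0 (fun x hx => ?_)
  obtain ⟨_, ⟨W, hW, rfl⟩, hxW, hWV⟩ := P.isBasis_affineOpens.exists_subset_of_mem_open
    (show x ∈ (V : Set P) from hx) V.isOpen
  have hWV' : W ≤ V := hWV
  set g : Γ(P, W) := (P.presheaf.map (homOfLE hWV').op).hom f with hgdef
  suffices hg : g = 0 by
    have h1 : P.presheaf.germ W x hxW g = P.presheaf.germ V x hx f :=
      TopCat.Presheaf.germ_res_apply P.presheaf (homOfLE hWV') x hxW f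
    change P.presheaf.germ V x hx f = P.presheaf.germ V x hx 0
    rw [← h1, hg, map_zero, map_zero]
  by_contra hg
  set I : Ideal Γ(P, W) := (Ideal.span {g} : Ideal Γ(P, W)).annihilator with hI
  have hmemI : ∀ a : Γ(P, W), a ∈ I ↔ a * g = 0 := by
    intro a
    rw [hI, Submodule.mem_annihilator_span_singleton, smul_eq_mul]
  have hIne : I ≠ ⊤ := by
    intro htop
    have h1 : (1 : Γ(P, W)) ∈ I := by rw [htop]; trivial
    rw [hmemI, one_mul] at h1
    exact hg h1
  obtain ⟨M, hM, hIM⟩ := Ideal.exists_le_maximal I hIne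
  haveI := hM.isPrime
  obtain ⟨q, hq, hqM⟩ := Ideal.exists_minimalPrimes_le hIM
  haveI hqp : q.IsPrime := hq.1.1
  set y : P := hW.fromSpec ⟨q, hqp⟩ with hy
  have hyW : y ∈ W := by
    have : y ∈ Set.range hW.fromSpec := ⟨_, rfl⟩
    rw [hW.range_fromSpec] at this
    exact this
  letI algy : Algebra Γ(P, W) (P.presheaf.stalk y) :=
    TopCat.Presheaf.algebra_section_stalk P.presheaf ⟨y, hyW⟩
  haveI locy : IsLocalization.AtPrime (P.presheaf.stalk y) q :=
    hW.isLocalization_stalk' ⟨q, hqp⟩ hyW
  have hyU : y ∉ U := by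
    intro hyU
    -- then the germ of `g` at `y` vanishes
    have h1 : P.presheaf.germ W y hyW g = 0 := by
      have h2 : P.presheaf.germ W y hyW g = P.presheaf.germ V y (hWV' hyW) f :=
        TopCat.Presheaf.germ_res_apply P.presheaf (homOfLE hWV') y hyW f
      have h3 : P.presheaf.germ (V ⊓ U) y ⟨hWV' hyW, hyU⟩
          ((P.presheaf.map (homOfLE (inf_le_left : V ⊓ U ≤ V)).op).hom f) =
          P.presheaf.germ V y (hWV' hyW) f :=
        TopCat.Presheaf.germ_res_apply P.presheaf (homOfLE (inf_le_left : V ⊓ U ≤ V)) y _ f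
      rw [h2, ← h3]
      have hf' : (P.presheaf.map (homOfLE (inf_le_left : V ⊓ U ≤ V)).op).hom f = 0 := hf
      rw [hf', map_zero]
    have h4 : algebraMap Γ(P, W) (P.presheaf.stalk y) g = 0 := h1
    obtain ⟨⟨u, hu⟩, hug⟩ := (IsLocalization.map_eq_zero_iff q.primeCompl _ g).mp h4
    have : u ∈ I := (hmemI u).mpr hug
    exact hu (hq.1.2 this)
  obtain ⟨t, htm, ht⟩ := h y hyU
  refine alg_core Γ(P, W) (P.presheaf.stalk y) q g hq t ?_ ht
  convert htm using 2

end Groth.Agent.Helper3.BigOpen1
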