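import Mathlib
import Groth.Prelude.Def_CInt

open AlgebraicGeometry CategoryTheory CategoryTheory.Limits TopologicalSpace Opposite

universe u

namespace Groth.Agent.Helper3.SchDenseExt

/-- a schematically dense open has trivial kernel ideal sheaf -/
theorem ker_ι_eq_bot {X : Scheme.{u}} (W : X.Opens) (hW : CInt.IsSchematicallyDense W) :
    W.ι.ker = ⊥ := by
  rw [eq_bot_iff, Scheme.IdealSheafData.le_def]
  intro V
  refine (W.ι.ideal_ker_le V).trans ?_
  rw [Scheme.IdealSheafData.ideal_bot]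
  intro s hs
  have hA : W.ι ''ᵁ W.ι ⁻¹ᵁ V.1 = V.1 ⊓ W := by
    ext p
    constructor
    · rintro ⟨p', hp', rfl⟩
      exact ⟨hp', p'.2⟩
    · rintro ⟨hp1, hp2⟩
      exact ⟨⟨p, hp2⟩, hp1, rfl⟩
  have hs' : (X.presheaf.map (homOfLE (x := W.ι ''ᵁ W.ι ⁻¹ᵁ V.1)
      (Set.image_preimage_subset _ _)).op).hom s = 0 := hs
  have e1 : X.presheaf.map (homOfLE (x := W.ι ''ᵁ W.ι ⁻¹ᵁ V.1)
      (Set.image_preimage_subset _ _)).op =
      X.presheaf.map (homOfLE (inf_le_left : V.1 ⊓ W ≤ V.1)).op ≫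
        X.presheaf.map (homOfLE hA.le).op := by
    rw [← Functor.map_comp]; rfl
  rw [e1] at hs'
  have e2 : X.presheaf.map (homOfLE hA.le).op ≫ X.presheaf.map (homOfLE hA.ge).op = 𝟙 _ := by
    rw [← Functor.map_comp]
    exact X.presheaf.map_id _
  have hs'' : (X.presheaf.map (homOfLE (inf_le_left : V.1 ⊓ W ≤ V.1)).op).hom s = 0 := by
    have h3 := congrArg (fun f => f.hom
      ((X.presheaf.map (homOfLE (inf_le_left : V.1 ⊓ W ≤ V.1)).op).hom s)) e2
    simp only [CommRingCat.hom_comp, RingHom.coe_comp, Function.comp_apply, CommRingCat.hom_id,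
      RingHom.id_apply] at h3
    rw [← h3]
    have h4 : (X.presheaf.map (homOfLE hA.le).op).hom
        ((X.presheaf.map (homOfLE (inf_le_left : V.1 ⊓ W ≤ V.1)).op).hom s) = 0 := hs'
    rw [h4, map_zero]
  have := hW V.1 (hs''.trans (map_zero _).symm)
  exact this

/-- two morphisms to a separated `S`-scheme agreeing on a schematically dense open are equal -/
theorem ext_of_schDense {X Y S : Scheme.{u}} (W : X.Opens) (hW : CInt.IsSchematicallyDense W)
    {a b : X ⟶ Y} (s : Y ⟶ S) [IsSeparated s] (hs : a ≫ s = b ≫ s)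
    (hab : W.ι ≫ a = W.ι ≫ b) : a = b := by
  let X' : Over S := Over.mk (a ≫ s)
  let Y' : Over S := Over.mk s
  let a' : X' ⟶ Y' := Over.homMk a
  let b' : X' ⟶ Y' := Over.homMk b hs.symm
  haveI : IsSeparated Y'.hom := ‹_›
  haveI : IsClosedImmersion (equalizer.ι a' b').left := inferInstance
  let W' : Over S := Over.mk (W.ι ≫ a ≫ s)
  let ι' : W' ⟶ X' := Over.homMk W.ι
  have hι' : ι' ≫ a' = ι' ≫ b' := by ext1; exact hab
  have hfac : (equalizer.lift ι' hι').left ≫ (equalizer.ι a' b').left = W.ι := by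
    rw [← Over.comp_left, equalizer.lift_ι]; rfl
  have hker : (equalizer.ι a' b').left.ker = ⊥ := by
    rw [eq_bot_iff, ← ker_ι_eq_bot W hW, ← hfac]
    exact Scheme.Hom.le_ker_comp _ _
  haveI : IsIso (equalizer.ι a' b').left := IsClosedImmersion.isIso_iff_ker_eq_bot.mpr hker
  rw [← cancel_epi (equalizer.ι a' b').left]
  exact congr($(equalizer.condition a' b').left)

/-- S2879: fpqc descent of an extension of a morphism -/
theorem s2879 {X X' Y S : Scheme.{u}} (pX : X ⟶ S) (pY : Y ⟶ S) [IsSeparated pY]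
    (f : X' ⟶ X) [QuasiCompact f] [Flat f] [Surjective f] (U : X.Opens)
    (hU : CInt.IsSchematicallyDense ((pullback.fst f f) ⁻¹ᵁ (f ⁻¹ᵁ U)))
    (g : (U : Scheme.{u}) ⟶ Y) (hg : g ≫ pY = U.ι ≫ pX)
    (g' : X' ⟶ Y) (hg'S : g' ≫ pY = f ≫ pX) (hg' : (f ⁻¹ᵁ U).ι ≫ g' = (f ∣_ U) ≫ g) :
    ∃ h : X ⟶ Y, U.ι ≫ h = g ∧ h ≫ pY = pX := by
  let W : (pullback f f).Opens := (pullback.fst f f) ⁻¹ᵁ (f ⁻¹ᵁ U)
  -- the two pullbacks of `g'` agree
  have hpr : pullback.fst f f ≫ g' = pullback.snd f f ≫ g' := by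
    apply ext_of_schDense W hU pY
    · rw [Category.assoc, Category.assoc, hg'S, ← Category.assoc, ← Category.assoc,
        pullback.condition]
    · have hr : ∀ (pr : pullback f f ⟶ X'), pr ≫ f = pullback.fst f f ≫ f →
          Set.range (W.ι ≫ pr) ⊆ Set.range (f ⁻¹ᵁ U).ι := by
        intro pr hprf
        rintro _ ⟨w, rfl⟩
        rw [Scheme.Opens.range_ι]
        show (pr ≫ f) (W.ι w) ∈ U
        rw [hprf]
        exact w.2
      have hrc : Set.range (W.ι ≫ pullback.fst f f ≫ f) ⊆ Set.range U.ι := by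
        rintro _ ⟨w, rfl⟩
        rw [Scheme.Opens.range_ι]
        exact w.2
      let c := IsOpenImmersion.lift U.ι (W.ι ≫ pullback.fst f f ≫ f) hrc
      have hc : c ≫ U.ι = W.ι ≫ pullback.fst f f ≫ f := IsOpenImmersion.lift_fac _ _ _
      have key : ∀ (pr : pullback f f ⟶ X'), pr ≫ f = pullback.fst f f ≫ f →
          W.ι ≫ pr ≫ g' = c ≫ g := by
        intro pr hprf
        let d := IsOpenImmersion.lift (f ⁻¹ᵁ U).ι (W.ι ≫ pr) (hr pr hprf)
        have hd : d ≫ (f ⁻¹ᵁ U).ι = W.ι ≫ pr := IsOpenImmersion.lift_fac _ _ _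
        rw [← Category.assoc, ← hd, Category.assoc, hg', ← Category.assoc]
        congr 1
        rw [← cancel_mono U.ι, hc, Category.assoc, morphismRestrict_ι,
          ← Category.assoc, hd, Category.assoc, hprf]
      rw [key _ rfl, key _ pullback.condition.symm]
  -- descent
  let h : X ⟶ Y := EffectiveEpi.desc f g' (by
    intro Z g₁ g₂ hg₁₂
    have h1 : g₁ = pullback.lift g₁ g₂ hg₁₂ ≫ pullback.fst f f := (pullback.lift_fst _ _ _).symm
    have h2 : g₂ = pullback.lift g₁ g₂ hg₁₂ ≫ pullback.snd f f := (pullback.lift_snd _ _ _).symm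
    rw [h1, Category.assoc, hpr, ← Category.assoc, ← h2])
  have hfh : f ≫ h = g' := EffectiveEpi.fac f g' _
  refine ⟨h, ?_, ?_⟩
  · haveI : QuasiCompact (f ∣_ U) := inferInstance
    haveI : Flat (f ∣_ U) := inferInstance
    haveI : Surjective (f ∣_ U) :=
      MorphismProperty.of_isPullback (P := @Surjective) (isPullback_morphismRestrict f U).flip ‹_›
    rw [← cancel_epi (f ∣_ U), ← Category.assoc, morphismRestrict_ι, Category.assoc, hfh, hg']
  · rw [← cancel_epi f, ← Category.assoc, hfh, hg'S]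

end Groth.Agent.Helper3.SchDenseExt
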