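import Mathlib
import Groth.Agent.Helper3.BigOpen1
import Groth.Agent.Helper3.SchDense
import Groth.Agent.Helper3.SchDenseExt

set_option autoImplicit false
set_option linter.style.haveILetI false
set_option linter.unusedSectionVars false
set_option linter.unusedVariables false
set_option linter.deprecated false
set_option linter.style.haveILetI false
set_option linter.unusedSectionVars false
set_option linter.unusedVariables false

universe u

namespace Groth.Agent.Helper3.AssDense

open AlgebraicGeometry CategoryTheory IsLocalRing TopologicalSpace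

/-- in a noetherian local ring whose maximal ideal is not an associated prime, the maximal ideal
contains a regular element -/
theorem exists_regular_of_not_ass (O : Type u) [CommRing O] [IsLocalRing O] [IsNoetherianRing O]
    (h : maximalIdeal O ∉ associatedPrimes O O) :
    ∃ t ∈ maximalIdeal O, IsSMulRegular O t := by
  by_contra hcon
  push Not at hcon
  apply h
  have hsub : (maximalIdeal O : Set O) ⊆ ⋃ p ∈ associatedPrimes O O, (p : Set O) := by
    rw [biUnion_associatedPrimes_eq_zero_divisors]
    intro t ht
    have h1 := hcon t ht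
    by_contra hcon'
    apply h1
    intro a b hab
    by_contra hne
    apply hcon'
    refine ⟨a - b, sub_ne_zero.mpr hne, ?_⟩
    have : t • a = t • b := hab
    rw [smul_sub, this, sub_self]
  have hfin : (associatedPrimes O O).Finite := associatedPrimes.finite O O
  have hsub' : (maximalIdeal O : Set O) ⊆ ⋃ p ∈ ((hfin.toFinset : Finset (Ideal O)) : Set (Ideal O)),
      ((fun q : Ideal O => q) p : Set O) := by
    intro t ht
    have := hsub ht
    simp only [Set.mem_iUnion, SetLike.mem_coe, exists_prop] at this ⊢
    obtain ⟨p, hp, htp⟩ := this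
    exact ⟨p, by simpa using hp, htp⟩
  obtain ⟨p, hp, hle⟩ := (Ideal.subset_union_prime (R := O) (s := hfin.toFinset)
    (f := fun q : Ideal O => q) ⊥ ⊥ (fun q hq _ _ => by
      have : q ∈ associatedPrimes O O := by simpa using hq
      exact this.1)).mp hsub'
  have hp' : p ∈ associatedPrimes O O := by simpa using hp
  have hpm : p = maximalIdeal O := le_antisymm (le_maximalIdeal hp'.1.ne_top) hle
  rw [← hpm]
  exact hp'

/-- an open of a locally noetherian scheme containing all associated points is schematically
dense -/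
theorem schDense_of_ass {S : Scheme.{u}} [IsLocallyNoetherian S] (U : S.Opens)
    (hU : ∀ s : S, maximalIdeal (S.presheaf.stalk s) ∈
        associatedPrimes (S.presheaf.stalk s) (S.presheaf.stalk s) → s ∈ U) :
    CInt.IsSchematicallyDense U := by
  apply BigOpen1.schDense_of_nzd
  intro s hs
  apply exists_regular_of_not_ass
  intro hcon
  exact hs (hU s hcon)

theorem s15806
    (S G₁ G₂ : Scheme.{u}) [AlgebraicGeometry.IsNoetherian S] (f₁ : G₁ ⟶ S) (f₂ : G₂ ⟶ S)
    [AlgebraicGeometry.IsFinite f₁] [AlgebraicGeometry.Flat f₁]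
    [AlgebraicGeometry.IsFinite f₂] [AlgebraicGeometry.Flat f₂]
    (U : S.Opens)
    (hU : ∀ s : S, IsLocalRing.maximalIdeal (S.presheaf.stalk s) ∈
        associatedPrimes (S.presheaf.stalk s) (S.presheaf.stalk s) → s ∈ U)
    (φ ψ : G₁ ⟶ G₂) (hφ : φ ≫ f₂ = f₁) (hψ : ψ ≫ f₂ = f₁)
    (h : (f₁ ⁻¹ᵁ U).ι ≫ φ = (f₁ ⁻¹ᵁ U).ι ≫ ψ) : φ = ψ := by
  have h1 : CInt.IsSchematicallyDense U := schDense_of_ass U hU
  have h2 : CInt.IsSchematicallyDense (f₁ ⁻¹ᵁ U) :=
    SchDense.preimage_of_flat_locallyNoetherian f₁ U h1
  exact SchDenseExt.ext_of_schDense (f₁ ⁻¹ᵁ U) h2 f₂ (hφ.trans hψ.symm) h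

end Groth.Agent.Helper3.AssDense
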