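import Mathlib
import Groth.Prelude.Def_Disc

/-!
# Associated primes of `ω_{B/A} = Hom_A(B, A)` for a finite map of Noetherian rings
-/

set_option autoImplicit false
set_option linter.style.haveILetI false
set_option linter.unusedSectionVars false
set_option linter.unusedVariables false
set_option linter.deprecated false
set_option linter.style.haveILetI false
set_option linter.unusedSectionVars false
set_option linter.unusedVariables false

universe u v

namespace Groth.Agent.Helper3.AssOmega

open Submodule

section Functional

variable {D : Type u} {L : Type v} [CommRing D] [IsDomain D] [IsNoetherianRing D]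
  [CommRing L] [IsDomain L] [Algebra D L] [Module.Finite D L]

/-- a finite domain extension of a Noetherian domain admits a nonzero linear functional -/
theorem exists_functional_ne_zero (hinj : Function.Injective (algebraMap D L)) :
    ∃ h : L →ₗ[D] D, h 1 ≠ 0 := by
  let S := nonZeroDivisors D
  let K := Localization S
  let V := LocalizedModule S L
  let v : V := LocalizedModule.mkLinearMap S L 1
  have hv : v ≠ 0 := by
    intro h0
    rw [← LinearMap.mem_ker, LocalizedModule.mem_ker_mkLinearMap_iff] at h0
    obtain ⟨s, hs, hs1⟩ := h0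
    rw [Algebra.smul_def, mul_one] at hs1
    have : s = 0 := hinj (by rw [hs1, map_zero])
    exact nonZeroDivisors.ne_zero hs this
  haveI : Field K := inferInstanceAs (Field (FractionRing D))
  obtain ⟨l, hl⟩ : ∃ l : Module.Dual K V, l v ≠ 0 := by
    by_contra hcon
    simp only [not_exists, not_not] at hcon
    exact hv ((Module.forall_dual_apply_eq_zero_iff K v).1 hcon)
  let g : L →ₗ[D] K := (l.restrictScalars D) ∘ₗ LocalizedModule.mkLinearMap S L
  haveI : Module.FinitePresentation D L := Module.finitePresentation_of_finite D L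
  obtain ⟨h, s, hs⟩ := Module.FinitePresentation.exists_lift_of_isLocalizedModule S
    (Algebra.linearMap D K) g
  refine ⟨h, fun h0 => ?_⟩
  have h1 := LinearMap.congr_fun hs 1
  simp only [LinearMap.comp_apply, Algebra.linearMap_apply, LinearMap.smul_apply] at h1
  rw [h0, map_zero] at h1
  have h2 : g 1 = l v := rfl
  rw [h2, Submonoid.smul_def, Algebra.smul_def] at h1
  rcases mul_eq_zero.1 h1.symm with h3 | h3
  · have : (s : D) = 0 := by
      apply IsFractionRing.injective D K
      rw [h3, map_zero]
    exact nonZeroDivisors.ne_zero s.2 this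
  · exact hl h3

end Functional


section Main

variable {A : Type u} {B : Type v} [CommRing A] [CommRing B] [Algebra A B]
  [IsNoetherianRing A] [IsNoetherianRing B] [Module.Finite A B]

/-- `⊆` -/
theorem comap_mem_of_mem (q : Ideal B) (hq : q ∈ associatedPrimes B (Disc.Omega A B)) :
    q.IsPrime ∧ q.comap (algebraMap A B) ∈ associatedPrimes A A := by
  classical
  rw [AssociatedPrimes.mem_iff, isAssociatedPrime_iff] at hq
  obtain ⟨hqp, ψ, hψ⟩ := hq
  refine ⟨hqp, ?_⟩
  rw [AssociatedPrimes.mem_iff, isAssociatedPrime_iff]
  haveI hpp : (q.comap (algebraMap A B)).IsPrime := Ideal.comap_isPrime _ _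
  refine ⟨hpp, ?_⟩
  have hmem : ∀ a : A, a ∈ q.comap (algebraMap A B) ↔ ∀ y : B, a * ψ.toLinearMap y = 0 := by
    intro a
    rw [Ideal.mem_comap, hψ, mem_colon_singleton, mem_bot]
    constructor
    · intro h y
      have := congrArg (fun l : Disc.Omega A B => l.toLinearMap y) h
      simp only [Disc.Omega.smul_toLinearMap_apply, Disc.Omega.zero_toLinearMap,
        LinearMap.zero_apply] at this
      rw [← smul_eq_mul, ← map_smul, Algebra.smul_def]
      exact this
    · intro h
      apply Disc.Omega.ext
      apply LinearMap.ext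
      intro y
      rw [Disc.Omega.smul_toLinearMap_apply, ← Algebra.smul_def, map_smul, smul_eq_mul]
      exact h y
  obtain ⟨s, hs⟩ := (Module.Finite.fg_top (R := A) (M := B))
  have hmem' : ∀ a : A, a ∈ q.comap (algebraMap A B) ↔ ∀ y ∈ s, a * ψ.toLinearMap y = 0 := by
    intro a
    rw [hmem]
    constructor
    · intro h y _
      exact h y
    · intro h y
      have hy : y ∈ Submodule.span A (s : Set B) := hs ▸ Submodule.mem_top
      induction hy using Submodule.span_induction with
      | mem y hy => exact h y hy
      | zero => rw [map_zero, mul_zero]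
      | add x y _ _ hx hy => rw [map_add, mul_add, hx, hy, add_zero]
      | smul c x _ hx => rw [map_smul, smul_eq_mul, mul_left_comm, hx, mul_zero]
  have hinf : s.inf (fun y => (⊥ : Submodule A A).colon {ψ.toLinearMap y}) ≤
      q.comap (algebraMap A B) := by
    intro a ha
    rw [hmem']
    intro y hy
    have := (Submodule.mem_finsetInf.1 ha) y hy
    rw [mem_colon_singleton, mem_bot, smul_eq_mul] at this
    exact this
  obtain ⟨y₀, hy₀, hle⟩ := (Ideal.IsPrime.inf_le' hpp).1 hinf
  refine ⟨ψ.toLinearMap y₀, le_antisymm ?_ hle⟩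
  intro a ha
  rw [mem_colon_singleton, mem_bot, smul_eq_mul]
  exact (hmem' a).1 ha y₀ hy₀

/-- `⊇` -/
theorem mem_of_comap_mem (q : Ideal B) [hqp : q.IsPrime]
    (hp : q.comap (algebraMap A B) ∈ associatedPrimes A A) :
    q ∈ associatedPrimes B (Disc.Omega A B) := by
  classical
  rw [AssociatedPrimes.mem_iff, isAssociatedPrime_iff_exists_injective_linearMap] at hp ⊢
  obtain ⟨hpp, ι, hι⟩ := hp
  refine ⟨hqp, ?_⟩
  let p := q.comap (algebraMap A B)
  let D := A ⧸ p
  let L := B ⧸ q
  haveI : IsScalarTower A D L := IsScalarTower.of_algebraMap_eq (fun a => rfl)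
  haveI : Module.Finite D L := Module.Finite.of_restrictScalars_finite A D L
  have hinj : Function.Injective (algebraMap D L) := Ideal.algebraMap_quotient_injective
  obtain ⟨h, hh⟩ := exists_functional_ne_zero (D := D) (L := L) hinj
  -- the map `B → ω`
  let F₀ : B →ₗ[B] Disc.Omega A B :=
    { toFun := fun b => ⟨(ι ∘ₗ (h.restrictScalars A)) ∘ₗ (LinearMap.mulLeft A (Ideal.Quotient.mk q b)) ∘ₗ
        (Ideal.Quotient.mkₐ A q).toLinearMap⟩
      map_add' := fun b b' => by
        apply Disc.Omega.ext
        apply LinearMap.ext
        intro y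
        simp [add_mul]
      map_smul' := fun c b => by
        apply Disc.Omega.ext
        apply LinearMap.ext
        intro y
        simp [mul_left_comm] }
  have hF₀ : ∀ b y : B, (F₀ b).toLinearMap y =
      ι (h (Ideal.Quotient.mk q b * Ideal.Quotient.mk q y)) := fun b y => rfl
  have hker : LinearMap.ker F₀ = q := by
    ext b
    rw [LinearMap.mem_ker]
    constructor
    · intro hb
      by_contra hbq
      have hx : (Ideal.Quotient.mk q b) ≠ 0 := by
        rwa [Ne, Ideal.Quotient.eq_zero_iff_mem]
      have halg : IsAlgebraic D (Ideal.Quotient.mk q b) :=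
        (Algebra.IsIntegral.isIntegral (R := D) _).isAlgebraic
      obtain ⟨r, hr, y', hy'⟩ := halg.exists_nonzero_dvd (mem_nonZeroDivisors_of_ne_zero hx)
      obtain ⟨y, rfl⟩ := Ideal.Quotient.mk_surjective y'
      have h1 := congrArg (fun l : Disc.Omega A B => l.toLinearMap y) hb
      simp only [Disc.Omega.zero_toLinearMap, LinearMap.zero_apply] at h1
      rw [hF₀, ← hy', Algebra.algebraMap_eq_smul_one, map_smul, smul_eq_mul] at h1
      have h2 : r * h 1 = 0 := hι (by rw [h1, map_zero])
      rcases mul_eq_zero.1 h2 with h3 | h3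
      · exact hr h3
      · exact hh h3
    · intro hb
      apply Disc.Omega.ext
      apply LinearMap.ext
      intro y
      rw [hF₀, Ideal.Quotient.eq_zero_iff_mem.2 hb, zero_mul, map_zero, map_zero]
      rfl
  exact ⟨Submodule.liftQ q F₀ hker.ge, LinearMap.ker_eq_bot.1 (Submodule.ker_liftQ_eq_bot' _ _ hker.symm)⟩

/-- **S2218** -/
theorem s2218 : associatedPrimes B (Disc.Omega A B) =
    {q : Ideal B | q.IsPrime ∧ q.comap (algebraMap A B) ∈ associatedPrimes A A} := by
  ext q
  constructor
  · intro hq
    exact comap_mem_of_mem q hq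
  · rintro ⟨hqp, hp⟩
    exact mem_of_comap_mem q hp

end Main

end Groth.Agent.Helper3.AssOmega
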