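import Mathlib
import Groth.Prelude.Def_Disc
import Groth.Prelude.Def_QFDual
import Groth.Agent.Helper1.AssTensor2
import Groth.Agent.Helper7.OpenImm
import Groth.Agent.Helper3.AssOmega1

/-!
# Associated primes of the relative dualizing module of a quasi-finite map
-/

set_option autoImplicit false
set_option linter.style.haveILetI false
set_option linter.unusedSectionVars false
set_option linter.unusedVariables false
set_option linter.deprecated false
set_option linter.style.haveILetI false
set_option linter.unusedSectionVars false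
set_option linter.unusedVariables false

universe u

namespace Groth.Agent.Helper3.AssOmega

open Submodule TensorProduct AlgebraicGeometry CategoryTheory Groth.Agent.Helper1.AssTensor

section OpenImm

variable {R S : Type u} [CommRing R] [CommRing S] [Algebra R S]

/-- an open immersion of spectra is injective on primes -/
theorem comap_injective_of_isOpenImmersion
    (h : IsOpenImmersion (Spec.map (CommRingCat.ofHom (algebraMap R S))))
    (q₁ q₂ : Ideal S) [h1 : q₁.IsPrime] [h2 : q₂.IsPrime]
    (he : q₁.comap (algebraMap R S) = q₂.comap (algebraMap R S)) : q₁ = q₂ := by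
  have hinj : Function.Injective (Spec.map (CommRingCat.ofHom (algebraMap R S))).base :=
    h.base_open.injective
  have := @hinj ⟨q₁, h1⟩ ⟨q₂, h2⟩ (PrimeSpectrum.ext he)
  exact congrArg PrimeSpectrum.asIdeal this

variable [IsNoetherianRing S] [Module.Flat R S]

/-- the associated primes of `S / p S` for a flat algebra which is injective on spectra -/
theorem mem_ass_quot_iff (hinj : ∀ (q₁ q₂ : Ideal S) [q₁.IsPrime] [q₂.IsPrime],
      q₁.comap (algebraMap R S) = q₂.comap (algebraMap R S) → q₁ = q₂)
    (p : Ideal R) [hp : p.IsPrime] (q : Ideal S) :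
    q ∈ associatedPrimes S (S ⧸ (p.map (algebraMap R S) • ⊤ : Submodule S S)) ↔
      q.IsPrime ∧ q.comap (algebraMap R S) = p := by
  have hJ : (p.map (algebraMap R S) • ⊤ : Submodule S S) = p.map (algebraMap R S) := by
    rw [smul_eq_mul, Ideal.mul_top]
  constructor
  · intro hq
    rw [AssociatedPrimes.mem_iff, isAssociatedPrime_iff] at hq
    obtain ⟨hqp, xbar, hx⟩ := hq
    obtain ⟨x, rfl⟩ := Submodule.Quotient.mk_surjective _ xbar
    refine ⟨hqp, le_antisymm ?_ ?_⟩
    · intro t ht
      by_contra htp
      rw [Ideal.mem_comap, hx, mem_colon_singleton, mem_bot, ← Submodule.Quotient.mk_smul,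
        Submodule.Quotient.mk_eq_zero, mem_map_smul_top_iff, Algebra.smul_def,
        ← Algebra.smul_def, ← tmul_one_eq_zero_iff] at ht
      -- multiplication by `t` on `R ⧸ p` is injective
      let m : (R ⧸ p) →ₗ[R] (R ⧸ p) := LinearMap.lsmul R (R ⧸ p) t
      have hm : Function.Injective m := by
        rw [injective_iff_map_eq_zero]
        intro y hy
        obtain ⟨r, rfl⟩ := Ideal.Quotient.mk_surjective y
        have h1 : Ideal.Quotient.mk p (t * r) = 0 := hy
        rw [Ideal.Quotient.eq_zero_iff_mem] at h1 ⊢
        exact (hp.mem_or_mem h1).resolve_left htp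
      have hm' := Module.Flat.lTensor_preserves_injective_linearMap (M := S) m hm
      have h2 : (LinearMap.lTensor S m) (x ⊗ₜ[R] (1 : R ⧸ p)) = 0 := by
        rw [LinearMap.lTensor_tmul]
        show x ⊗ₜ[R] (t • (1 : R ⧸ p)) = 0
        rw [← TensorProduct.smul_tmul]
        have : t • x = algebraMap R S t • x := (algebraMap_smul S t x).symm
        rw [this]
        exact ht
      have h3 : x ⊗ₜ[R] (1 : R ⧸ p) = 0 := hm' (by rw [h2, map_zero])
      rw [tmul_one_eq_zero_iff, ← mem_map_smul_top_iff (S := S)] at h3
      have h4 : (1 : S) ∈ q := by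
        rw [hx, mem_colon_singleton, mem_bot, one_smul, Submodule.Quotient.mk_eq_zero]
        exact h3
      exact hqp.ne_top ((Ideal.eq_top_iff_one _).2 h4)
    · intro t ht
      rw [Ideal.mem_comap, hx, mem_colon_singleton, mem_bot, ← Submodule.Quotient.mk_smul,
        Submodule.Quotient.mk_eq_zero, hJ, smul_eq_mul]
      exact Ideal.mul_mem_right _ _ (Ideal.mem_map_of_mem _ ht)
  · rintro ⟨hqp, hq⟩
    apply Module.associatedPrimes.minimalPrimes_annihilator_subset_associatedPrimes S
    have hann : Module.annihilator S (S ⧸ (p.map (algebraMap R S) • ⊤ : Submodule S S)) =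
        p.map (algebraMap R S) := by
      rw [Submodule.annihilator_quotient, hJ]
      ext a
      rw [Submodule.mem_colon]
      constructor
      · intro h
        have := h 1 (Set.mem_univ _)
        rwa [smul_eq_mul, mul_one] at this
      · intro h x _
        exact Ideal.mul_mem_right _ _ h
    rw [hann]
    refine ⟨⟨hqp, ?_⟩, ?_⟩
    · rw [Ideal.map_le_iff_le_comap, hq]
    · rintro q₁ ⟨hq₁p, hq₁⟩ hle
      have h1 : q₁.comap (algebraMap R S) = q.comap (algebraMap R S) := by
        apply le_antisymm (Ideal.comap_mono hle)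
        rw [hq, ← Ideal.map_le_iff_le_comap]
        exact hq₁
      rw [hinj q₁ q h1]

end OpenImm

section Main

/-- **S8971** -/
theorem s8971 (A B' B : Type u) [CommRing A] [CommRing B'] [CommRing B] [IsNoetherianRing A]
    [IsNoetherianRing B] [Algebra A B'] [Algebra B' B] [Algebra A B] [IsScalarTower A B' B]
    (hf : QFDual.IsQFFactor A B' B) :
    associatedPrimes B (QFDual.omega A B' B) =
      {q : Ideal B | q.IsPrime ∧ q.comap (algebraMap A B) ∈ associatedPrimes A A} := by
  haveI : Module.Finite A B' := hf.finite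
  haveI : IsNoetherianRing B' := IsNoetherianRing.of_finite A B'
  haveI : Module.Flat B' B := Groth.Agent.Helper7.OpenImm.flat_of_isOpenImmersion hf.isOpenImmersion
  have hinj : ∀ (q₁ q₂ : Ideal B) [q₁.IsPrime] [q₂.IsPrime],
      q₁.comap (algebraMap B' B) = q₂.comap (algebraMap B' B) → q₁ = q₂ :=
    fun q₁ q₂ _ _ he => comap_injective_of_isOpenImmersion hf.isOpenImmersion q₁ q₂ he
  have hcomp : ∀ q : Ideal B, (q.comap (algebraMap B' B)).comap (algebraMap A B') =
      q.comap (algebraMap A B) := by
    intro q
    rw [Ideal.comap_comap, ← IsScalarTower.algebraMap_eq]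
  ext q
  constructor
  · intro hq
    obtain ⟨p', hp', hq'⟩ := exists_mem_ass_of_mem_ass_tensor (R := B') (S := B) (N := B)
      (M := Disc.Omega A B') hq
    haveI : p'.IsPrime := (AssociatedPrimes.mem_iff.1 hp').isPrime
    obtain ⟨hqp, hqc⟩ := (mem_ass_quot_iff hinj p' q).1 hq'
    refine ⟨hqp, ?_⟩
    rw [← hcomp, hqc]
    exact (comap_mem_of_mem p' hp').2
  · rintro ⟨hqp, hq⟩
    haveI : (q.comap (algebraMap B' B)).IsPrime := Ideal.comap_isPrime _ _
    have hp' : q.comap (algebraMap B' B) ∈ associatedPrimes B' (Disc.Omega A B') := by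
      apply mem_of_comap_mem
      rw [hcomp]
      exact hq
    exact mem_ass_tensor_of_mem (R := B') (S := B) (N := B) hp'
      ((mem_ass_quot_iff hinj _ q).2 ⟨hqp, rfl⟩)

end Main

end Groth.Agent.Helper3.AssOmega
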