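import Mathlib

set_option autoImplicit false
set_option linter.style.haveILetI false
set_option linter.unusedSectionVars false
set_option linter.unusedVariables false
set_option linter.style.haveILetI false
set_option linter.unusedSectionVars false
set_option linter.unusedVariables false
universe u
open AlgebraicGeometry CategoryTheory CategoryTheory.Limits Polynomial

namespace Groth.Agent.Helper3.GammaConn

/-- In a reduced algebra over a field with only trivial idempotents and a rational point, an
integral element killed by the point vanishes. -/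
theorem eq_zero_of_integral {K R : Type*} [Field K] [CommRing R] [Algebra K R] [IsReduced R]
    (hidem : ∀ e : R, IsIdempotentElem e → e = 0 ∨ e = 1) (ev : R →ₐ[K] K) (b : R)
    (hb : IsIntegral K b) (hev : ev b = 0) : b = 0 := by
  haveI : Nontrivial R := ev.toRingHom.domain_nontrivial
  set Q := minpoly K b with hQ
  have hQ0 : Q ≠ 0 := minpoly.ne_zero hb
  have hQb : aeval b Q = 0 := minpoly.aeval K b
  have hroot : Q.IsRoot 0 := by
    have h1 : ev (aeval b Q) = aeval (ev b) Q := (Polynomial.aeval_algHom_apply ev b Q).symm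
    rw [hQb, map_zero, hev] at h1
    rw [Polynomial.IsRoot, ← Polynomial.coe_aeval_eq_eval]
    exact h1.symm
  obtain ⟨R₁, hR₁, hndvd⟩ := Polynomial.exists_eq_pow_rootMultiplicity_mul_and_not_dvd Q hQ0 0
  set m := Q.rootMultiplicity 0 with hm
  have hmpos : 0 < m := (Polynomial.rootMultiplicity_pos hQ0).mpr hroot
  rw [map_zero, sub_zero] at hR₁ hndvd
  have hcop : IsCoprime (X ^ m : K[X]) R₁ := by
    apply IsCoprime.pow_left
    exact (Polynomial.irreducible_X.coprime_iff_not_dvd).mpr hndvd
  obtain ⟨u, v, huv⟩ := hcop
  set e : R := aeval b (v * R₁) with he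
  have h1e : aeval b (u * X ^ m) + e = 1 := by
    rw [he, ← map_add, huv, map_one]
  have hprod : aeval b (u * X ^ m) * e = 0 := by
    rw [he, ← map_mul]
    have : u * X ^ m * (v * R₁) = u * v * Q := by rw [hR₁]; ring
    rw [this, map_mul, hQb, mul_zero]
  have hidem_e : IsIdempotentElem e := by
    have : e * (1 - e) = 0 := by
      rw [← h1e, add_sub_cancel_right, mul_comm]; exact hprod
    rw [IsIdempotentElem]
    rw [mul_sub, mul_one, sub_eq_zero] at this
    exact this.symm
  have heve : ev e = 1 := by
    have h2 : ev e = aeval (ev b) (v * R₁) := (Polynomial.aeval_algHom_apply ev b _).symm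
    rw [h2, hev]
    have h3 := congrArg (fun p => aeval (0 : K) p) huv
    simp only [map_add, map_mul, map_pow, aeval_X, map_one, zero_pow hmpos.ne', mul_zero,
      zero_add] at h3
    rw [map_mul]
    exact h3
  have he1 : e = 1 := by
    rcases hidem e hidem_e with h | h
    · rw [h, map_zero] at heve
      exact absurd heve zero_ne_one
    · exact h
  have hunit : IsUnit (aeval b R₁) := by
    rw [he, map_mul] at he1
    exact IsUnit.of_mul_eq_one _ (by rw [mul_comm]; exact he1)
  have hbm : b ^ m = 0 := by
    have : aeval b Q = b ^ m * aeval b R₁ := by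
      conv_lhs => rw [hR₁]
      rw [map_mul, map_pow, aeval_X]
    rw [hQb] at this
    exact (hunit.mul_left_eq_zero).mp this.symm
  exact IsReduced.eq_zero _ ⟨m, hbm⟩

/-- idempotent global functions on a connected scheme are trivial -/
theorem idem_trivial {V : Scheme.{u}} [ConnectedSpace V] (e : Γ(V, ⊤)) (he : IsIdempotentElem e) :
    e = 0 ∨ e = 1 := by
  have hmul : e * (1 - e) = 0 := by
    rw [mul_sub, mul_one, he.eq, sub_self]
  have hdisj : V.basicOpen e ⊓ V.basicOpen (1 - e) = ⊥ := by
    rw [← Scheme.basicOpen_mul, hmul, Scheme.basicOpen_zero]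
  have hcov : ∀ x : V, x ∈ V.basicOpen e ∨ x ∈ V.basicOpen (1 - e) := by
    intro x
    rw [Scheme.mem_basicOpen_top, Scheme.mem_basicOpen_top]
    have h1 : V.presheaf.germ ⊤ x trivial e + V.presheaf.germ ⊤ x trivial (1 - e) = 1 := by
      rw [← map_add, add_sub_cancel, map_one]
    exact IsLocalRing.isUnit_or_isUnit_of_add_one h1
  have hcompl : ((V.basicOpen e : V.Opens) : Set V)ᶜ = (V.basicOpen (1 - e) : Set V) := by
    ext x
    constructor
    · intro hx
      exact (hcov x).resolve_left hx
    · intro hx hx'
      have : x ∈ V.basicOpen e ⊓ V.basicOpen (1 - e) := ⟨hx', hx⟩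
      rw [hdisj] at this
      exact this
  have hclopen : IsClopen ((V.basicOpen e : V.Opens) : Set V) := by
    refine ⟨?_, (V.basicOpen e).2⟩
    rw [← isOpen_compl_iff, hcompl]
    exact (V.basicOpen (1 - e)).2
  have hunit_of_top : ∀ g : Γ(V, ⊤), (∀ x : V, x ∈ V.basicOpen g) → IsUnit g := by
    intro g hg
    apply AlgebraicGeometry.RingedSpace.isUnit_of_isUnit_germ V.toRingedSpace ⊤ g
    intro x hx
    exact (Scheme.mem_basicOpen_top (X := V) g x).mp (hg x)
  rcases isClopen_iff.mp hclopen with h | h
  · -- basicOpen e = ∅, so 1 - e is a unit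
    left
    have hall : ∀ x : V, x ∈ V.basicOpen (1 - e) := by
      intro x
      refine (hcov x).resolve_left ?_
      intro hx
      have : x ∈ ((V.basicOpen e : V.Opens) : Set V) := hx
      rw [h] at this
      exact this
    have hu := hunit_of_top (1 - e) hall
    exact (hu.mul_left_eq_zero).mp hmul
  · right
    have hall : ∀ x : V, x ∈ V.basicOpen e := by
      intro x
      have : x ∈ ((V.basicOpen e : V.Opens) : Set V) := by rw [h]; trivial
      exact this
    have hu := hunit_of_top e hall
    have : 1 - e = 0 := (hu.mul_right_eq_zero).mp hmul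
    rw [sub_eq_zero] at this
    exact this.symm

/-- **Lemma A**: a proper, reduced, connected scheme over a field with a rational point has only
constant global functions. -/
theorem bijective_appTop_of_connected (k : Type u) [Field k] {V : Scheme.{u}}
    (p : V ⟶ Spec (CommRingCat.of k)) [IsProper p] [IsReduced V] [ConnectedSpace V]
    (v₀ : Spec (CommRingCat.of k) ⟶ V) (hv₀ : v₀ ≫ p = 𝟙 _) :
    Function.Bijective p.appTop.hom := by
  have hcomp : p.appTop ≫ v₀.appTop = 𝟙 _ := by
    rw [← Scheme.Hom.comp_appTop, hv₀]; rfl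
  have hinj : Function.Injective p.appTop.hom := by
    intro a b hab
    have := congrArg v₀.appTop.hom hab
    have h1 : ∀ c, v₀.appTop.hom (p.appTop.hom c) = c := fun c => by
      have := congrArg (fun t => t.hom c) hcomp
      exact this
    rwa [h1, h1] at this
  refine ⟨hinj, ?_⟩
  -- the `k`-algebra structure
  let φ : CommRingCat.of k ⟶ Γ(V, ⊤) := (Scheme.ΓSpecIso (CommRingCat.of k)).inv ≫ p.appTop
  letI : Algebra k Γ(V, ⊤) := φ.hom.toAlgebra
  have hφint : φ.hom.IsIntegral := by
    apply RingHom.isIntegral_respectsIso.2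
      (e := (Scheme.ΓSpecIso (CommRingCat.of k)).symm.commRingCatIsoToRingEquiv)
    exact isIntegral_appTop_of_universallyClosed p
  let evr : Γ(V, ⊤) ⟶ CommRingCat.of k := v₀.appTop ≫ (Scheme.ΓSpecIso (CommRingCat.of k)).hom
  have hevφ : φ ≫ evr = 𝟙 _ := by
    simp only [φ, evr, Category.assoc]
    rw [← Category.assoc p.appTop, hcomp, Category.id_comp, Iso.inv_hom_id]
  let ev : Γ(V, ⊤) →ₐ[k] k :=
    { evr.hom with
      commutes' := fun c => by
        have := congrArg (fun t => t.hom c) hevφ
        exact this }
  haveI : _root_.IsReduced Γ(V, ⊤) := inferInstance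
  intro a
  set c : k := ev a with hc
  have hb : a - algebraMap k Γ(V, ⊤) c = 0 := by
    apply eq_zero_of_integral (K := k) (fun e he => idem_trivial e he) ev
    · have h1 : IsIntegral k a := hφint a
      exact h1.sub isIntegral_algebraMap
    · rw [map_sub, AlgHom.commutes, hc]
      simp
  rw [sub_eq_zero] at hb
  refine ⟨(Scheme.ΓSpecIso (CommRingCat.of k)).inv.hom c, ?_⟩
  rw [hb]
  rfl

end Groth.Agent.Helper3.GammaConn
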