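import Mathlib
import Groth.Agent.Helper3.AntiAffApps
import Groth.Agent.Helper3.GammaConn
import Groth.Agent.Helper2.SmoothRegSch

set_option autoImplicit false
set_option linter.style.haveILetI false
set_option linter.unusedSectionVars false
set_option linter.unusedVariables false
set_option linter.style.haveILetI false
set_option linter.unusedSectionVars false
set_option linter.unusedVariables false

open AlgebraicGeometry CategoryTheory CategoryTheory.Limits TopologicalSpace Opposite MonoidalCategory CartesianMonoidalCategory MonObj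

universe u

namespace Groth.Agent.Helper3.AutAb

open Groth.Agent.Helper3.AntiAffApps

/-- proper, reduced, connected group scheme over a field has only constant global functions -/
lemma hG_of_proper (k : Type u) [Field k] (A : Over (Spec (CommRingCat.of k))) [GrpObj A]
    [IsProper A.hom] [IsReduced A.left] [ConnectedSpace ↥A.left] :
    Function.Bijective ((Scheme.ΓSpecIso (CommRingCat.of k)).inv ≫ A.hom.appTop).hom := by
  have h1 : Function.Bijective A.hom.appTop.hom :=
    Groth.Agent.Helper3.GammaConn.bijective_appTop_of_connected k A.hom η[A].left (by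
      have := Over.w η[A]
      simpa using this)
  have : ((Scheme.ΓSpecIso (CommRingCat.of k)).inv ≫ A.hom.appTop).hom =
      A.hom.appTop.hom ∘ (Scheme.ΓSpecIso (CommRingCat.of k)).inv.hom := by
    ext x; simp
  rw [this]
  exact h1.comp (ConcreteCategory.bijective_of_isIso (Scheme.ΓSpecIso (CommRingCat.of k)).inv)

theorem s11404 (k : Type u) [Field k] [IsAlgClosed k]
    (A S : Over (Spec (CommRingCat.of k))) [GrpObj A] [IsProper A.hom] [Smooth A.hom] [ConnectedSpace ↥A.left]
    [LocallyOfFiniteType S.hom] [QuasiCompact S.hom] [ConnectedSpace ↥S.left]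
    (f : A ⊗ S ≅ A ⊗ S) (hf : f.hom ≫ snd A S = snd A S) :
    ∃ (g : S ⟶ A) (h : A ⟶ A), IsMonHom h ∧ IsIso h ∧
      f.hom ≫ fst A S = (snd A S ≫ g) * (fst A S ≫ h) ∧
      ∀ (g' : S ⟶ A) (h' : A ⟶ A), IsMonHom h' →
        f.hom ≫ fst A S = (snd A S ≫ g') * (fst A S ≫ h') → g' = g ∧ h' = h := by
  haveI : IsReduced A.left := Groth.Agent.Helper2.SmoothRegSch.isReduced_of_smooth k A.left A.hom
  have hG := hG_of_proper k A
  obtain ⟨g, h, hh, hfg, huniq⟩ := s11421 k A A S hG (f.hom ≫ fst A S)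
  obtain ⟨g', h', hh', hfg', -⟩ := s11421 k A A S hG (f.inv ≫ fst A S)
  have hf' : f.inv ≫ snd A S = snd A S := by
    have : f.inv ≫ f.hom ≫ snd A S = snd A S := by
      rw [← Category.assoc, f.inv_hom_id, Category.id_comp]
    rwa [hf] at this
  -- uniqueness for `fst`
  obtain ⟨g0, h0, hh0, hfg0, huniq0⟩ := s11421 k A A S hG (fst A S)
  have hid : fst A S = (snd A S ≫ (toUnit S ≫ η[A])) * (fst A S ≫ 𝟙 A) := by
    have e : snd A S ≫ (toUnit S ≫ η[A]) = 1 := by
      rw [← Category.assoc, toUnit_unique (snd A S ≫ toUnit S) (toUnit _), ← Hom.one_def]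
    rw [e, Category.comp_id, _root_.one_mul]
  have h1 := (huniq0 (toUnit S ≫ η[A]) (𝟙 A) inferInstance hid).2
  -- compute `f.hom ≫ f.inv ≫ fst`
  have key : ∀ (F F' : A ⊗ S ⟶ A ⊗ S) (a b : S ⟶ A) (c d : A ⟶ A) [IsMonHom c] [IsMonHom d],
      F ≫ snd A S = snd A S → F ≫ fst A S = (snd A S ≫ a) * (fst A S ≫ c) →
      F' ≫ fst A S = (snd A S ≫ b) * (fst A S ≫ d) → F ≫ F' = 𝟙 _ → c ≫ d = h0 := by
    intro F F' a b c d _ _ hs hF hF' hFF'
    have e1 : fst A S = (snd A S ≫ (b * (a ≫ d))) * (fst A S ≫ (c ≫ d)) := by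
      calc fst A S = (F ≫ F') ≫ fst A S := by rw [hFF', Category.id_comp]
        _ = F ≫ ((snd A S ≫ b) * (fst A S ≫ d)) := by rw [Category.assoc, hF']
        _ = ((F ≫ snd A S) ≫ b) * ((F ≫ fst A S) ≫ d) := by
            rw [MonObj.comp_mul, Category.assoc, Category.assoc]
        _ = (snd A S ≫ b) * (((snd A S ≫ a) * (fst A S ≫ c)) ≫ d) := by rw [hs, hF]
        _ = (snd A S ≫ b) * ((snd A S ≫ a ≫ d) * (fst A S ≫ c ≫ d)) := by
            rw [MonObj.mul_comp]; simp only [Category.assoc]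
        _ = _ := by rw [MonObj.comp_mul, _root_.mul_assoc]
    exact (huniq0 _ _ inferInstance e1).2
  have hc1 : h ≫ h' = 𝟙 A := by
    rw [key f.hom f.inv g g' h h' hf hfg hfg' f.hom_inv_id, ← h1]
  have hc2 : h' ≫ h = 𝟙 A := by
    rw [key f.inv f.hom g' g h' h hf' hfg' hfg f.inv_hom_id, ← h1]
  refine ⟨g, h, hh, ⟨h', hc1, hc2⟩, hfg, ?_⟩
  intro g'' h'' hh'' hfg''
  exact huniq g'' h'' hh'' hfg''

end Groth.Agent.Helper3.AutAb
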