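import Mathlib

/-! Eilenberg swindle helper lemmas. -/

universe u

namespace Groth.Agent.Helper3

open Finsupp

/-- `α →₀ M × N ≃ (α →₀ M) × (α →₀ N)`. -/
noncomputable def finsuppProdL (R : Type*) [CommRing R] (α M N : Type*) [AddCommGroup M] [Module R M]
    [AddCommGroup N] [Module R N] : (α →₀ M × N) ≃ₗ[R] (α →₀ M) × (α →₀ N) :=
  LinearEquiv.ofLinearMap
    ((Finsupp.mapRange.linearMap (LinearMap.fst R M N)).prod (Finsupp.mapRange.linearMap (LinearMap.snd R M N)))
    ((Finsupp.mapRange.linearMap (LinearMap.inl R M N)).coprod (Finsupp.mapRange.linearMap (LinearMap.inr R M N)))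
    (by
      apply LinearMap.ext
      rintro ⟨f, g⟩
      ext a <;> simp)
    (by
      apply LinearMap.ext
      intro f
      ext a <;> simp)

theorem swindle (R : Type u) [CommRing R] (P Q : Type u) [AddCommGroup P] [Module R P]
    [AddCommGroup Q] [Module R Q] (ι : Type u) [Infinite ι] (e : (P × Q) ≃ₗ[R] (ι →₀ R)) :
    Nonempty ((P × (ι →₀ R)) ≃ₗ[R] (ι →₀ R)) := by
  have hcard : Cardinal.mk (ℕ × ι) = Cardinal.mk ι := by
    rw [Cardinal.mk_prod]
    simp only [Cardinal.mk_eq_aleph0, Cardinal.lift_aleph0]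
    rw [Cardinal.lift_id']
    exact Cardinal.aleph0_mul_eq (Cardinal.aleph0_le_mk ι)
  obtain ⟨σ⟩ := Cardinal.eq.1 hcard
  -- F ≃ ℕ →₀ (P × Q)
  let eF : (ι →₀ R) ≃ₗ[R] (ℕ →₀ (P × Q)) :=
    (Finsupp.domLCongr σ.symm).trans ((Finsupp.curryLinearEquiv R).trans
      (Finsupp.mapRange.linearEquiv e.symm))
  let eP : (ℕ →₀ P) ≃ₗ[R] P × (ℕ →₀ P) :=
    (Finsupp.domLCongr Equiv.natEquivNatSumPUnit.{0}).trans
      ((Finsupp.sumFinsuppLEquivProdFinsupp R).trans
        ((LinearEquiv.prodComm R _ _).trans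
          (LinearEquiv.prodCongr (Finsupp.uniqueLinearEquiv R P PUnit.unit.{1}) (LinearEquiv.refl R _))))
  exact ⟨(LinearEquiv.prodCongr (LinearEquiv.refl R P) (eF.trans (finsuppProdL R ℕ P Q))).trans
    ((LinearEquiv.prodAssoc R P (ℕ →₀ P) (ℕ →₀ Q)).symm.trans
      ((LinearEquiv.prodCongr eP.symm (LinearEquiv.refl R _)).trans
        ((finsuppProdL R ℕ P Q).symm.trans eF.symm)))⟩

/-- A split injection gives a product decomposition. -/
noncomputable def equivProdKerOfSplit {R : Type*} [CommRing R] {P M : Type*} [AddCommGroup P] [Module R P]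
    [AddCommGroup M] [Module R M] (i : P →ₗ[R] M) (s : M →ₗ[R] P) (h : s.comp i = LinearMap.id) :
    (P × LinearMap.ker s) ≃ₗ[R] M :=
  LinearEquiv.ofLinearMap
    (i.coprod (LinearMap.ker s).subtype)
    (s.prod (LinearMap.codRestrict (LinearMap.ker s) (LinearMap.id - i.comp s) (fun m => by
      have := LinearMap.congr_fun h (s m)
      simp only [LinearMap.comp_apply, LinearMap.id_apply] at this
      simp [this])))
    (by
      apply LinearMap.ext
      intro m
      simp)
    (by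
      apply LinearMap.ext
      rintro ⟨p, ⟨k, hk⟩⟩
      have := LinearMap.congr_fun h p
      simp only [LinearMap.comp_apply, LinearMap.id_apply] at this
      have hk' : s k = 0 := hk
      ext <;> simp [this, hk'])

theorem exists_free_prod_free (R : Type u) [CommRing R] (P : Type u) [AddCommGroup P]
    [Module R P] [Module.Projective R P] : ∃ ι : Type u, Module.Free R (P × (ι →₀ R)) := by
  obtain ⟨s, hs⟩ := (Module.projective_def' (R := R) (P := P)).1 inferInstance
  let π : (P →₀ R) →ₗ[R] P := Finsupp.linearCombination R id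
  let e1 : (P × LinearMap.ker π) ≃ₗ[R] (P →₀ R) := equivProdKerOfSplit s π hs
  let e2 : (P × (LinearMap.ker π × (ℕ →₀ R))) ≃ₗ[R] ((P ⊕ ℕ) →₀ R) :=
    (LinearEquiv.prodAssoc R P (LinearMap.ker π) (ℕ →₀ R)).symm.trans
      ((LinearEquiv.prodCongr e1 (LinearEquiv.refl R _)).trans
        (Finsupp.sumFinsuppLEquivProdFinsupp R).symm)
  obtain ⟨e3⟩ := swindle R P (LinearMap.ker π × (ℕ →₀ R)) (P ⊕ ℕ) e2
  exact ⟨P ⊕ ℕ, Module.Free.of_equiv e3.symm⟩

end Groth.Agent.Helper3
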