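import Mathlib
import Groth.Agent.Helper3.Swindle
import Groth.Agent.Helper3.TorsionFree

/-! Finitely generated submodules of free modules over Bézout domains. -/

universe u

namespace Groth.Agent.Helper3

open Module

/-- A finite module over a Bézout domain embedding into `Rⁿ` is free. -/
theorem free_of_injective_fin (R : Type u) [CommRing R] [IsDomain R] [IsBezout R] :
    ∀ (n : ℕ) (N : Type u) [AddCommGroup N] [Module R N] [Module.Finite R N]
      (φ : N →ₗ[R] (Fin n → R)), Function.Injective φ → Module.Free R N := by
  intro n
  induction n with
  | zero =>
    intro N _ _ _ φ hφ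
    haveI : Subsingleton N := hφ.subsingleton
    infer_instance
  | succ n ih =>
    intro N _ _ _ φ hφ
    let lam : N →ₗ[R] R := (LinearMap.proj (0 : Fin (n + 1))).comp φ
    let tail : (Fin (n + 1) → R) →ₗ[R] (Fin n → R) := LinearMap.funLeft R R Fin.succ
    let ψ : N →ₗ[R] (Fin n → R) := tail.comp φ
    have hψ : ∀ x : N, lam x = 0 → ψ x = 0 → x = 0 := by
      intro x h0 h1
      apply hφ
      rw [map_zero]
      funext i
      refine Fin.cases ?_ (fun j => ?_) i
      · exact h0
      · exact congrFun h1 j
    let I : Ideal R := LinearMap.range lam
    have hI : I.FG := by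
      change (LinearMap.range lam).FG
      rw [LinearMap.range_eq_map]
      exact (Module.finite_def.1 inferInstance).map lam
    obtain ⟨a, ha⟩ := (IsBezout.isPrincipal_of_FG I hI).principal
    by_cases ha0 : a = 0
    · -- lam = 0
      have hlam : ∀ x, lam x = 0 := by
        intro x
        have : lam x ∈ I := ⟨x, rfl⟩
        rw [ha, ha0] at this
        simpa using this
      have hψinj : Function.Injective ψ := by
        rw [injective_iff_map_eq_zero]
        intro x hx
        exact hψ x (hlam x) hx
      exact ih N ψ hψinj
    · -- a ≠ 0 : split off a copy of R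
      have haI : a ∈ I := by rw [ha]; exact Submodule.mem_span_singleton_self a
      obtain ⟨x0, hx0⟩ := haI
      -- lam' : N → R with lam x = lam' x * a
      have hdiv : ∀ x : N, ∃ r : R, lam x = r * a := by
        intro x
        have : lam x ∈ I := ⟨x, rfl⟩
        rw [ha] at this
        obtain ⟨r, hr⟩ := Submodule.mem_span_singleton.1 this
        exact ⟨r, by rw [← hr, smul_eq_mul]⟩
      choose d hd using hdiv
      have hd_add : ∀ x y, d (x + y) = d x + d y := by
        intro x y
        apply mul_right_cancel₀ ha0
        rw [← hd, map_add, hd x, hd y, add_mul]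
      have hd_smul : ∀ (r : R) x, d (r • x) = r * d x := by
        intro r x
        apply mul_right_cancel₀ ha0
        rw [← hd, map_smul, hd x, smul_eq_mul, mul_assoc]
      let lam' : N →ₗ[R] R :=
        { toFun := d
          map_add' := hd_add
          map_smul' := fun r x => by simpa using hd_smul r x }
      have hd0 : d x0 = 1 := by
        apply mul_right_cancel₀ ha0
        rw [← hd, hx0, one_mul]
      let i0 : R →ₗ[R] N := LinearMap.toSpanSingleton R N x0
      have hsplit : lam'.comp i0 = LinearMap.id := by
        apply LinearMap.ext
        intro r
        change d (r • x0) = r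
        rw [hd_smul, hd0, mul_one]
      let e : (R × LinearMap.ker lam') ≃ₗ[R] N := equivProdKerOfSplit i0 lam' hsplit
      haveI : Module.Finite R (LinearMap.ker lam') :=
        Module.Finite.of_surjective ((LinearMap.snd R R (LinearMap.ker lam')).comp e.symm.toLinearMap)
          (by
            intro k
            exact ⟨e (0, k), by simp⟩)
      have hker : ∀ x : LinearMap.ker lam', lam (x : N) = 0 := by
        intro x
        have : d (x : N) = 0 := x.2
        rw [hd, this, zero_mul]
      have hψK : Function.Injective (ψ.comp (LinearMap.ker lam').subtype) := by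
        rw [injective_iff_map_eq_zero]
        intro x hx
        apply Subtype.ext
        exact hψ x (hker x) hx
      haveI : Module.Free R (LinearMap.ker lam') := ih _ _ hψK
      exact Module.Free.of_equiv e

/-- Finitely generated submodules of free modules over Bézout domains are free. -/
theorem free_of_fg_submodule_free (R : Type u) [CommRing R] [IsDomain R] [IsBezout R]
    (F : Type u) [AddCommGroup F] [Module R F] [Module.Free R F] (N : Submodule R F) (hN : N.FG) :
    Module.Free R N ∧ Module.Finite R N := by
  haveI : Module.Finite R N := Module.Finite.iff_fg.2 hN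
  refine ⟨?_, inferInstance⟩
  obtain ⟨n, v, c, φ, hc, hφ, hker⟩ := exists_linearMap_fin_fun R N
  refine free_of_injective_fin R n N φ ?_
  rw [injective_iff_map_eq_zero]
  intro m hm
  exact (smul_eq_zero_iff_right hc).1 (hker m hm)

end Groth.Agent.Helper3
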