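import Mathlib
import Groth.Agent.Helper6.HomogRank

set_option linter.style.haveILetI false
set_option linter.unusedSectionVars false
set_option linter.unusedVariables false

namespace Groth.Agent.Helper3.KoszulCI

open MvPolynomial DirectSum

universe u

attribute [local instance] MvPolynomial.gradedAlgebra

variable (k : Type u) [Field k] (r : ℕ)

abbrev P3 := MvPolynomial (Fin (r + 1)) k
abbrev Hd (e : ℕ) : Submodule k (MvPolynomial (Fin (r + 1)) k) := homogeneousSubmodule (Fin (r + 1)) k e

theorem finrank_Hd (e : ℕ) : Module.finrank k (Hd k r e) = Nat.choose (e + r) r :=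
  Groth.Agent.Helper6.HomogRank.finrank_homogeneousSubmodule k r e

instance finite_Hd (e : ℕ) : Module.Finite k (Hd k r e) := by
  apply Module.finite_of_finrank_pos
  rw [finrank_Hd]
  exact Nat.choose_pos (by omega)

variable {k r}
variable {n m d : ℕ} {f g : P3 k r} (hf : f.IsHomogeneous n) (hg : g.IsHomogeneous m)

theorem mul_mem_Hd {a b : P3 k r} (i j l : ℕ) (ha : a ∈ Hd k r i) (hb : b ∈ Hd k r j) (h : i + j = l) :
    a * b ∈ Hd k r l := by
  rw [mem_homogeneousSubmodule] at ha hb ⊢
  exact h ▸ ha.mul hb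

/-- the map `(a, b) ↦ a f + b g` in degree `d`. -/
noncomputable def Φ (hn : n ≤ d) (hm : m ≤ d) : (Hd k r (d - n) × Hd k r (d - m)) →ₗ[k] Hd k r d where
  toFun ab := ⟨ab.1.1 * f + ab.2.1 * g, Submodule.add_mem _
    (mul_mem_Hd (d - n) n d ab.1.2 ((mem_homogeneousSubmodule _ _).mpr hf) (by omega))
    (mul_mem_Hd (d - m) m d ab.2.2 ((mem_homogeneousSubmodule _ _).mpr hg) (by omega))⟩
  map_add' x y := by
    apply Subtype.ext
    simp only [Prod.fst_add, Prod.snd_add, Submodule.coe_add]
    ring
  map_smul' c x := by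
    apply Subtype.ext
    simp only [Prod.smul_fst, Prod.smul_snd, Submodule.coe_smul, RingHom.id_apply, smul_add,
      smul_mul_assoc]

/-- the Koszul map `c ↦ (c g, - c f)`. -/
noncomputable def Ψ (hd : n + m ≤ d) : Hd k r (d - n - m) →ₗ[k] (Hd k r (d - n) × Hd k r (d - m)) where
  toFun c := (⟨c.1 * g, mul_mem_Hd (d - n - m) m (d - n) c.2
      ((mem_homogeneousSubmodule _ _).mpr hg) (by omega)⟩,
    ⟨-(c.1 * f), Submodule.neg_mem _
      (mul_mem_Hd (d - n - m) n (d - m) c.2
        ((mem_homogeneousSubmodule _ _).mpr hf) (by omega))⟩)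
  map_add' x y := by
    apply Prod.ext <;> apply Subtype.ext <;> simp [add_mul]
    ring
  map_smul' c x := by
    apply Prod.ext <;> apply Subtype.ext <;> simp [smul_mul_assoc]

theorem Ψ_injective (hd : n + m ≤ d) (hg0 : g ≠ 0) : Function.Injective (Ψ hf hg hd) := by
  intro x y h
  have h1 := congrArg (fun p => (p.1 : P3 k r)) h
  simp only [Ψ, LinearMap.coe_mk, AddHom.coe_mk] at h1
  apply Subtype.ext
  exact mul_right_cancel₀ hg0 h1

theorem range_Ψ (hd : n + m ≤ d) (hf0 : f ≠ 0) (hfg : IsRelPrime f g) :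
    LinearMap.range (Ψ hf hg hd) = LinearMap.ker (Φ hf hg (by omega) (by omega)) := by
  apply le_antisymm
  · rintro _ ⟨c, rfl⟩
    rw [LinearMap.mem_ker]
    apply Subtype.ext
    simp only [Φ, Ψ, LinearMap.coe_mk, AddHom.coe_mk, ZeroMemClass.coe_zero]
    ring
  · rintro ⟨a, b⟩ hab
    rw [LinearMap.mem_ker] at hab
    have h0 : a.1 * f + b.1 * g = 0 := congrArg Subtype.val hab
    -- f ∣ b
    have hdvd : f ∣ b.1 := by
      apply hfg.dvd_of_dvd_mul_right
      refine ⟨-a.1, ?_⟩
      linear_combination h0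
    obtain ⟨c', hc'⟩ := hdvd
    -- take the component of degree d - m - n
    have hbd : (decompose (homogeneousSubmodule (Fin (r + 1)) k) b.1 (d - m) : P3 k r) = b.1 :=
      decompose_of_mem_same _ b.2
    have hcomp : (decompose (homogeneousSubmodule (Fin (r + 1)) k) (c' * f) (d - m) : P3 k r) =
        decompose (homogeneousSubmodule (Fin (r + 1)) k) c' (d - m - n) * f :=
      coe_decompose_mul_of_right_mem_of_le _ ((mem_homogeneousSubmodule _ _).mpr hf) (by omega)
    have hb : b.1 = (decompose (homogeneousSubmodule (Fin (r + 1)) k) c' (d - m - n) : P3 k r) * f := by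
      rw [← hcomp, mul_comm c' f, ← hc', hbd]
    have hidx : d - m - n = d - n - m := by omega
    set c₀ : P3 k r := (decompose (homogeneousSubmodule (Fin (r + 1)) k) c' (d - m - n) : P3 k r) with hc₀
    have hc₀mem : c₀ ∈ Hd k r (d - n - m) := by
      rw [← hidx]
      exact Submodule.coe_mem _
    have ha : a.1 = -(c₀ * g) := by
      apply mul_right_cancel₀ hf0
      rw [hb] at h0
      linear_combination h0
    refine ⟨⟨-c₀, Submodule.neg_mem _ hc₀mem⟩, ?_⟩
    apply Prod.ext <;> apply Subtype.ext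
    · simp only [Ψ, LinearMap.coe_mk, AddHom.coe_mk]
      rw [ha]; ring
    · simp only [Ψ, LinearMap.coe_mk, AddHom.coe_mk]
      rw [hb]; ring

theorem range_Φ (hn : n ≤ d) (hm : m ≤ d) :
    LinearMap.range (Φ hf hg hn hm) =
      Submodule.comap (Hd k r d).subtype
        ((Ideal.span ({f, g} : Set (P3 k r))).restrictScalars k) := by
  apply le_antisymm
  · rintro _ ⟨⟨a, b⟩, rfl⟩
    rw [Submodule.mem_comap, Submodule.restrictScalars_mem, Ideal.mem_span_pair]
    exact ⟨a.1, b.1, rfl⟩
  · intro p hp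
    rw [Submodule.mem_comap, Submodule.restrictScalars_mem, Ideal.mem_span_pair] at hp
    obtain ⟨a, b, hab⟩ := hp
    have hpd : (decompose (homogeneousSubmodule (Fin (r + 1)) k) p.1 d : P3 k r) = p.1 :=
      decompose_of_mem_same _ p.2
    have h1 : (decompose (homogeneousSubmodule (Fin (r + 1)) k) (a * f) d : P3 k r) =
        decompose (homogeneousSubmodule (Fin (r + 1)) k) a (d - n) * f :=
      coe_decompose_mul_of_right_mem_of_le _ ((mem_homogeneousSubmodule _ _).mpr hf) hn
    have h2 : (decompose (homogeneousSubmodule (Fin (r + 1)) k) (b * g) d : P3 k r) =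
        decompose (homogeneousSubmodule (Fin (r + 1)) k) b (d - m) * g :=
      coe_decompose_mul_of_right_mem_of_le _ ((mem_homogeneousSubmodule _ _).mpr hg) hm
    refine ⟨(decompose (homogeneousSubmodule (Fin (r + 1)) k) a (d - n),
      decompose (homogeneousSubmodule (Fin (r + 1)) k) b (d - m)), ?_⟩
    apply Subtype.ext
    simp only [Φ, LinearMap.coe_mk, AddHom.coe_mk]
    rw [← h1, ← h2, ← Submodule.coe_add, ← DirectSum.add_apply, ← decompose_add]
    have : (Hd k r d).subtype p = a * f + b * g := hab.symm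
    rw [← this]
    exact hpd

include hf hg in
theorem count (hf0 : f ≠ 0) (hg0 : g ≠ 0) (hfg : IsRelPrime f g)
    (hd : n + m ≤ d) :
    Module.finrank k
        (↥(homogeneousSubmodule (Fin (r + 1)) k d) ⧸
          Submodule.comap (homogeneousSubmodule (Fin (r + 1)) k d).subtype
            ((Ideal.span ({f, g} : Set (MvPolynomial (Fin (r + 1)) k))).restrictScalars k)) +
      (Nat.choose (d - n + r) r + Nat.choose (d - m + r) r) =
      Nat.choose (d + r) r + Nat.choose (d - n - m + r) r := by
  have hnd : n ≤ d := by omega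
  have hmd : m ≤ d := by omega
  have hr := range_Φ hf hg hnd hmd
  unfold Hd P3 at hr
  rw [← hr]
  have h1 := Submodule.finrank_quotient_add_finrank (LinearMap.range (Φ hf hg hnd hmd))
  have h2 := LinearMap.finrank_range_add_finrank_ker (Φ hf hg hnd hmd)
  rw [← range_Ψ hf hg hd hf0 hfg, LinearMap.finrank_range_of_inj (Ψ_injective hf hg hd hg0),
    Module.finrank_prod] at h2
  rw [finrank_Hd] at h1 h2
  rw [finrank_Hd, finrank_Hd] at h2
  generalize Module.finrank k ↥(LinearMap.range (Φ hf hg hnd hmd)) = ρ at h1 h2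
  generalize Module.finrank k (↥(Hd k r d) ⧸ LinearMap.range (Φ hf hg hnd hmd)) = q at h1 ⊢
  omega

end Groth.Agent.Helper3.KoszulCI
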