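import Mathlib
import Groth.Agent.Helper3.KoszulCI
import Groth.Agent.Helper3.PlaneCI

set_option linter.style.haveILetI false
set_option linter.unusedSectionVars false
set_option linter.unusedVariables false

namespace Groth.Agent.Helper3.BezoutAff

open MvPolynomial DirectSum

attribute [local instance] MvPolynomial.gradedAlgebra

universe u

variable {k : Type u} [Field k]

/-- substitution `T ↦ c` -/
noncomputable def sub (c : MvPolynomial (Fin 2) k) :
    MvPolynomial (Fin 3) k →ₐ[k] MvPolynomial (Fin 2) k :=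
  aeval (Fin.cons (X 0) (Fin.cons (X 1) (Fin.cons c Fin.elim0)) : Fin 3 → MvPolynomial (Fin 2) k)

/-- inclusion `k[X,Y] → k[X,Y,T]` -/
noncomputable def ι : MvPolynomial (Fin 2) k →ₐ[k] MvPolynomial (Fin 3) k :=
  rename Fin.castSucc

theorem sub_X0 (c : MvPolynomial (Fin 2) k) : sub c (X 0) = X 0 := by
  simp [sub]

theorem sub_X1 (c : MvPolynomial (Fin 2) k) : sub c (X 1) = X 1 := by
  simp [sub]

theorem sub_X2 (c : MvPolynomial (Fin 2) k) : sub c (X 2) = c := by
  simp [sub]
  rfl

theorem ι_X0 : ι (X 0 : MvPolynomial (Fin 2) k) = X 0 := by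
  simp [ι]

theorem ι_X1 : ι (X 1 : MvPolynomial (Fin 2) k) = X 1 := by
  simp [ι]

theorem sub_ι (c : MvPolynomial (Fin 2) k) (p : MvPolynomial (Fin 2) k) : sub c (ι p) = p := by
  have : (sub c).comp ι = AlgHom.id k _ := by
    apply MvPolynomial.algHom_ext
    intro i
    fin_cases i
    · simp [ι_X0, sub_X0]
    · simp [ι_X1, sub_X1]
  exact DFunLike.congr_fun this p

theorem exists_eq_add_mul (c : k) (p : MvPolynomial (Fin 3) k) :
    ∃ q, p = ι (sub (C c) p) + (X 2 - C c) * q := by
  let J : Ideal (MvPolynomial (Fin 3) k) := Ideal.span {X 2 - C c}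
  have h : (Ideal.Quotient.mkₐ k J) = ((Ideal.Quotient.mkₐ k J).comp ι).comp (sub (C c)) := by
    apply MvPolynomial.algHom_ext
    intro i
    fin_cases i
    · simp [sub_X0, ι_X0]
    · simp [sub_X1, ι_X1]
    · simp only [Fin.reduceFinMk, AlgHom.comp_apply, Ideal.Quotient.mkₐ_eq_mk]
      rw [sub_X2]
      have : ι (C c : MvPolynomial (Fin 2) k) = C c := by simp [ι]
      rw [this, Ideal.Quotient.eq]
      exact Ideal.subset_span rfl
  have h1 := DFunLike.congr_fun h p
  simp only [AlgHom.comp_apply, Ideal.Quotient.mkₐ_eq_mk] at h1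
  rw [Ideal.Quotient.eq, Ideal.mem_span_singleton'] at h1
  obtain ⟨q, hq⟩ := h1
  exact ⟨q, by linear_combination -hq⟩

theorem sub0_isHomogeneous {p : MvPolynomial (Fin 3) k} {d : ℕ} (hp : p.IsHomogeneous d) :
    (sub 0 p).IsHomogeneous d := by
  have := hp.aeval (Fin.cons (X 0) (Fin.cons (X 1) (Fin.cons 0 Fin.elim0)) :
    Fin 3 → MvPolynomial (Fin 2) k) (n := 1) (fun i => by
      fin_cases i
      · exact isHomogeneous_X _ _
      · exact isHomogeneous_X _ _
      · exact isHomogeneous_zero _ _ _)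
  rwa [one_mul] at this

theorem ι_isHomogeneous {p : MvPolynomial (Fin 2) k} {d : ℕ} (hp : p.IsHomogeneous d) :
    (ι p).IsHomogeneous d :=
  hp.rename_isHomogeneous

theorem ne_zero_of_relPrime {m : ℕ} {a b : MvPolynomial (Fin 2) k} (hb : b.IsHomogeneous m)
    (hm : 0 < m) (h : IsRelPrime a b) : a ≠ 0 := by
  rintro rfl
  rw [isRelPrime_zero_left] at h
  obtain ⟨r, hr, rfl⟩ := isUnit_iff_eq_C_of_isReduced.mp h
  have := IsHomogeneous.inj_right hb (isHomogeneous_C _ r) (by simpa using hr.ne_zero)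
  omega

section Main

variable {n m : ℕ} {f g : MvPolynomial (Fin 3) k} (hf : f.IsHomogeneous n)
  (hg : g.IsHomogeneous m) (hn : 0 < n) (hm : 0 < m) (hf0 : f ≠ 0) (hg0 : g ≠ 0)
  (hfg : IsRelPrime f g) (hT : IsRelPrime (sub 0 f) (sub 0 g))

include hf hg hn hm hT in
/-- (B): in degrees `≥ n + m` every binary form is a combination of `f₀`, `g₀`. -/
theorem exists_comb (e : ℕ) (he : n + m ≤ e) (p : MvPolynomial (Fin 2) k)
    (hp : p.IsHomogeneous e) :
    ∃ a b : MvPolynomial (Fin 2) k, a.IsHomogeneous (e - n) ∧ b.IsHomogeneous (e - m) ∧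
      p = a * sub 0 f + b * sub 0 g := by
  have hf₀ := sub0_isHomogeneous hf
  have hg₀ := sub0_isHomogeneous hg
  have hf₀0 : sub 0 f ≠ 0 := ne_zero_of_relPrime hg₀ hm hT
  have hg₀0 : sub 0 g ≠ 0 := ne_zero_of_relPrime hf₀ hn hT.symm
  have hcount := KoszulCI.count (r := 1) hf₀ hg₀ hf₀0 hg₀0 hT he
  simp only [Nat.choose_one_right] at hcount
  have hz : Module.finrank k
        (↥(homogeneousSubmodule (Fin (1 + 1)) k e) ⧸
          Submodule.comap (homogeneousSubmodule (Fin (1 + 1)) k e).subtype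
            ((Ideal.span ({sub 0 f, sub 0 g} : Set (MvPolynomial (Fin (1 + 1)) k))).restrictScalars
              k)) = 0 := by omega
  have hr := KoszulCI.range_Φ (r := 1) (d := e) hf₀ hg₀ (by omega) (by omega)
  haveI : Module.Finite k ↥(homogeneousSubmodule (Fin (1 + 1)) k e) := KoszulCI.finite_Hd k 1 e
  rw [Module.finrank_zero_iff, Submodule.Quotient.subsingleton_iff, ← hr] at hz
  have hmem : (⟨p, (mem_homogeneousSubmodule _ _).mpr hp⟩ :
      ↥(homogeneousSubmodule (Fin (1 + 1)) k e)) ∈
      LinearMap.range (KoszulCI.Φ (r := 1) (d := e) hf₀ hg₀ (by omega) (by omega)) := by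
    rw [hz]; trivial
  obtain ⟨⟨a, b⟩, hab⟩ := hmem
  refine ⟨a.1, b.1, (mem_homogeneousSubmodule _ _).mp a.2, (mem_homogeneousSubmodule _ _).mp b.2, ?_⟩
  exact (congrArg Subtype.val hab).symm

include hf hg hn hm hT in
/-- (C): multiplication by `T` is surjective modulo `(f, g)` in high degrees. -/
theorem exists_T_mul (e : ℕ) (he : n + m ≤ e) (p : MvPolynomial (Fin 3) k)
    (hp : p.IsHomogeneous e) :
    ∃ q : MvPolynomial (Fin 3) k, q.IsHomogeneous (e - 1) ∧
      p - X 2 * q ∈ Ideal.span ({f, g} : Set (MvPolynomial (Fin 3) k)) := by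
  obtain ⟨a, b, ha, hb, hab⟩ := exists_comb hf hg hn hm hT e he (sub 0 p) (sub0_isHomogeneous hp)
  set p' := p - ι a * f - ι b * g with hp'
  have h1 : (ι a * f).IsHomogeneous e := by
    have := (ι_isHomogeneous ha).mul hf
    rwa [Nat.sub_add_cancel (by omega)] at this
  have h2 : (ι b * g).IsHomogeneous e := by
    have := (ι_isHomogeneous hb).mul hg
    rwa [Nat.sub_add_cancel (by omega)] at this
  have hp'h : p' ∈ homogeneousSubmodule (Fin 3) k e :=
    Submodule.sub_mem _ (Submodule.sub_mem _ ((mem_homogeneousSubmodule _ _).mpr hp)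
      ((mem_homogeneousSubmodule _ _).mpr h1)) ((mem_homogeneousSubmodule _ _).mpr h2)
  have hsub : sub 0 p' = 0 := by
    rw [hp', map_sub, map_sub, map_mul, map_mul, sub_ι, sub_ι, hab]; ring
  obtain ⟨q, hq⟩ := exists_eq_add_mul (0 : k) p'
  rw [map_zero, hsub, map_zero, zero_add] at hq
  rw [map_zero, sub_zero] at hq
  have h3 : (decompose (homogeneousSubmodule (Fin 3) k) p' e : MvPolynomial (Fin 3) k) = p' :=
    decompose_of_mem_same _ hp'h
  have h4 : (decompose (homogeneousSubmodule (Fin 3) k) (X 2 * q) e : MvPolynomial (Fin 3) k) =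
      X 2 * (decompose (homogeneousSubmodule (Fin 3) k) q (e - 1) : MvPolynomial (Fin 3) k) :=
    coe_decompose_mul_of_left_mem_of_le (i := 1) _
      ((mem_homogeneousSubmodule _ _).mpr (isHomogeneous_X _ _)) (by omega)
  refine ⟨decompose (homogeneousSubmodule (Fin 3) k) q (e - 1),
    (mem_homogeneousSubmodule _ _).mp (Submodule.coe_mem _), ?_⟩
  rw [← h4, ← hq, h3, hp']
  have : p - (p - ι a * f - ι b * g) = ι a * f + ι b * g := by ring
  rw [this]
  exact Ideal.add_mem _ (Ideal.mul_mem_left _ _ (Ideal.subset_span (by simp)))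
    (Ideal.mul_mem_left _ _ (Ideal.subset_span (by simp)))

/-- multiplication by `T` from degree `d` to `d + 1`. -/
noncomputable def μ (d : ℕ) : ↥(homogeneousSubmodule (Fin 3) k d) →ₗ[k]
    ↥(homogeneousSubmodule (Fin 3) k (d + 1)) where
  toFun p := ⟨X 2 * p.1, by
    have := (isHomogeneous_X k (2 : Fin 3)).mul ((mem_homogeneousSubmodule _ _).mp p.2)
    rw [add_comm] at this
    exact (mem_homogeneousSubmodule _ _).mpr this⟩
  map_add' x y := by
    apply Subtype.ext
    simp [mul_add]
  map_smul' c x := by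
    apply Subtype.ext
    simp

/-- the degree `d` part of `(f, g)`. -/
noncomputable def Id (f g : MvPolynomial (Fin 3) k) (d : ℕ) :
    Submodule k ↥(homogeneousSubmodule (Fin 3) k d) :=
  Submodule.comap (homogeneousSubmodule (Fin 3) k d).subtype
    ((Ideal.span ({f, g} : Set (MvPolynomial (Fin 3) k))).restrictScalars k)

omit [Field k] in
theorem mem_Id {k : Type u} [Field k] (f g : MvPolynomial (Fin 3) k) (d : ℕ)
    (p : ↥(homogeneousSubmodule (Fin 3) k d)) :
    p ∈ Id f g d ↔ p.1 ∈ Ideal.span ({f, g} : Set (MvPolynomial (Fin 3) k)) := Iff.rfl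

theorem Id_le (d : ℕ) : Id f g d ≤ (Id f g (d + 1)).comap (μ d) := by
  intro p hp
  rw [Submodule.mem_comap, mem_Id]
  exact Ideal.mul_mem_left _ _ ((mem_Id f g d p).mp hp)

include hf hg hn hm hf0 hg0 hfg hT in
/-- (D): `T` is a nonzerodivisor modulo `(f, g)` in high degrees. -/
theorem T_inj (d : ℕ) (hd : n + m ≤ d) (p : MvPolynomial (Fin 3) k) (hp : p.IsHomogeneous d)
    (h : X 2 * p ∈ Ideal.span ({f, g} : Set (MvPolynomial (Fin 3) k))) :
    p ∈ Ideal.span ({f, g} : Set (MvPolynomial (Fin 3) k)) := by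
  haveI : ∀ e, Module.Finite k ↥(homogeneousSubmodule (Fin 3) k e) := PlaneCI.finite_Hd k
  have hr1 : Module.finrank k (↥(homogeneousSubmodule (Fin 3) k d) ⧸ Id f g d) = n * m :=
    PlaneCI.main hf hg hf0 hg0 hfg hd
  have hr2 : Module.finrank k (↥(homogeneousSubmodule (Fin 3) k (d + 1)) ⧸ Id f g (d + 1)) =
      n * m := PlaneCI.main hf hg hf0 hg0 hfg (by omega)
  let φ := Submodule.mapQ (Id f g d) (Id f g (d + 1)) (μ d) (Id_le d)
  have hsurj : Function.Surjective φ := by
    intro y
    obtain ⟨⟨y, hy⟩, rfl⟩ := Submodule.mkQ_surjective _ y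
    obtain ⟨q, hq, hqI⟩ := exists_T_mul hf hg hn hm hT (d + 1) (by omega) y
      ((mem_homogeneousSubmodule _ _).mp hy)
    rw [Nat.add_sub_cancel] at hq
    refine ⟨Submodule.Quotient.mk ⟨q, (mem_homogeneousSubmodule _ _).mpr hq⟩, ?_⟩
    change Submodule.Quotient.mk _ = Submodule.Quotient.mk _
    rw [Submodule.Quotient.eq, mem_Id]
    have : ((μ d ⟨q, (mem_homogeneousSubmodule _ _).mpr hq⟩ - ⟨y, hy⟩ :
        ↥(homogeneousSubmodule (Fin 3) k (d + 1))) : MvPolynomial (Fin 3) k) =
        -(y - X 2 * q) := by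
      simp [μ]
    rw [this]
    exact (Ideal.neg_mem_iff _).mpr hqI
  have hinj : Function.Injective φ :=
    (LinearMap.injective_iff_surjective_of_finrank_eq_finrank (hr1.trans hr2.symm)).mpr hsurj
  have h0 : φ (Submodule.Quotient.mk ⟨p, (mem_homogeneousSubmodule _ _).mpr hp⟩) = 0 := by
    change Submodule.Quotient.mk _ = 0
    rw [Submodule.Quotient.mk_eq_zero, mem_Id]
    exact h
  have := hinj (h0.trans (map_zero φ).symm)
  rw [Submodule.Quotient.mk_eq_zero, mem_Id] at this
  exact this

omit [Field k] in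
theorem span_isHomogeneous {k : Type u} [Field k] {n m : ℕ} {f g : MvPolynomial (Fin 3) k}
    (hf : f.IsHomogeneous n) (hg : g.IsHomogeneous m) :
    (Ideal.span ({f, g} : Set (MvPolynomial (Fin 3) k))).IsHomogeneous
      (homogeneousSubmodule (Fin 3) k) := by
  apply Ideal.homogeneous_span
  rintro x (rfl | rfl)
  · exact ⟨n, (mem_homogeneousSubmodule _ _).mpr hf⟩
  · exact ⟨m, (mem_homogeneousSubmodule _ _).mpr hg⟩

theorem sub1_mem_of_mem {u : MvPolynomial (Fin 3) k}
    (hu : u ∈ Ideal.span ({f, g} : Set (MvPolynomial (Fin 3) k))) :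
    sub 1 u ∈ Ideal.span ({sub 1 f, sub 1 g} : Set (MvPolynomial (Fin 2) k)) := by
  rw [Ideal.mem_span_pair] at hu ⊢
  obtain ⟨a, b, rfl⟩ := hu
  exact ⟨sub 1 a, sub 1 b, by simp⟩

include hf hg hn hm hf0 hg0 hfg hT in
/-- (E): injectivity of dehomogenisation in high degree. -/
theorem mem_of_sub1_mem (d : ℕ) (hd : n + m ≤ d) (p : MvPolynomial (Fin 3) k)
    (hp : p.IsHomogeneous d)
    (h : sub 1 p ∈ Ideal.span ({sub 1 f, sub 1 g} : Set (MvPolynomial (Fin 2) k))) :
    p ∈ Ideal.span ({f, g} : Set (MvPolynomial (Fin 3) k)) := by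
  classical
  set I := Ideal.span ({f, g} : Set (MvPolynomial (Fin 3) k)) with hI
  obtain ⟨a, b, hab⟩ := Ideal.mem_span_pair.mp h
  set u := ι a * f + ι b * g with hu
  have huI : u ∈ I := Ideal.add_mem _ (Ideal.mul_mem_left _ _ (Ideal.subset_span (by simp)))
    (Ideal.mul_mem_left _ _ (Ideal.subset_span (by simp)))
  have hsub : sub 1 (p - u) = 0 := by
    rw [hu, map_sub, map_add, map_mul, map_mul, sub_ι, sub_ι, hab, sub_self]
  obtain ⟨q, hq⟩ := exists_eq_add_mul (1 : k) (p - u)
  rw [map_one, hsub, map_zero, zero_add] at hq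
  rw [map_one] at hq
  -- p + q = u + X 2 * q
  have heq : p + q = u + X 2 * q := by linear_combination hq
  have hIh := span_isHomogeneous hf hg
  -- components
  have hcomp0 : (decompose (homogeneousSubmodule (Fin 3) k) (X 2 * q) 0 :
      MvPolynomial (Fin 3) k) = 0 := by
    rw [coe_decompose_mul_of_left_mem (i := 1) _ 0
      ((mem_homogeneousSubmodule _ _).mpr (isHomogeneous_X _ _))]
    simp
  have hcompS : ∀ i, (decompose (homogeneousSubmodule (Fin 3) k) (X 2 * q) (i + 1) :
      MvPolynomial (Fin 3) k) =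
      X 2 * (decompose (homogeneousSubmodule (Fin 3) k) q i : MvPolynomial (Fin 3) k) := by
    intro i
    have := coe_decompose_mul_add_of_left_mem (homogeneousSubmodule (Fin 3) k) (i := 1) (j := i)
      (b := q) ((mem_homogeneousSubmodule _ _).mpr (isHomogeneous_X k (2 : Fin 3)))
    rwa [add_comm] at this
  have hcomp : ∀ i, (decompose (homogeneousSubmodule (Fin 3) k) p i : MvPolynomial (Fin 3) k) +
      (decompose (homogeneousSubmodule (Fin 3) k) q i : MvPolynomial (Fin 3) k) =
      (decompose (homogeneousSubmodule (Fin 3) k) u i : MvPolynomial (Fin 3) k) +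
      (decompose (homogeneousSubmodule (Fin 3) k) (X 2 * q) i : MvPolynomial (Fin 3) k) := by
    intro i
    have := congrArg (fun x => (decompose (homogeneousSubmodule (Fin 3) k) x i :
      MvPolynomial (Fin 3) k)) heq
    simpa [decompose_add] using this
  have hpi : ∀ i, i ≠ d → (decompose (homogeneousSubmodule (Fin 3) k) p i :
      MvPolynomial (Fin 3) k) = 0 := fun i hi =>
    decompose_of_mem_ne _ ((mem_homogeneousSubmodule _ _).mpr hp) (Ne.symm hi)
  have hui : ∀ i, (decompose (homogeneousSubmodule (Fin 3) k) u i :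
      MvPolynomial (Fin 3) k) ∈ I := fun i => hIh i huI
  -- upward
  have hup : ∀ i, i < d → (decompose (homogeneousSubmodule (Fin 3) k) q i :
      MvPolynomial (Fin 3) k) ∈ I := by
    intro i
    induction i with
    | zero =>
      intro h0
      have := hcomp 0
      rw [hpi 0 (by omega), hcomp0, zero_add, add_zero] at this
      rw [this]
      exact hui 0
    | succ i ih =>
      intro hlt
      have := hcomp (i + 1)
      rw [hpi (i + 1) (by omega), hcompS, zero_add] at this
      rw [this]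
      exact Ideal.add_mem _ (hui _) (Ideal.mul_mem_left _ _ (ih (by omega)))
  -- bound on the support
  obtain ⟨N, hN⟩ : ∃ N, ∀ i, N ≤ i → (decompose (homogeneousSubmodule (Fin 3) k) q i :
      MvPolynomial (Fin 3) k) = 0 := by
    refine ⟨(decompose (homogeneousSubmodule (Fin 3) k) q).support.sup id + 1, fun i hi => ?_⟩
    have : i ∉ (decompose (homogeneousSubmodule (Fin 3) k) q).support := by
      intro hmem
      have := Finset.le_sup (f := id) hmem
      simp only [id] at this
      omega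
    rw [DFinsupp.notMem_support_iff] at this
    rw [this]
    rfl
  -- downward
  have hdown : ∀ j i, d ≤ i → N ≤ i + j → (decompose (homogeneousSubmodule (Fin 3) k) q i :
      MvPolynomial (Fin 3) k) ∈ I := by
    intro j
    induction j with
    | zero =>
      intro i _ hi
      rw [hN i (by omega)]
      exact I.zero_mem
    | succ j ih =>
      intro i hdi hi
      have h1 := ih (i + 1) (by omega) (by omega)
      have := hcomp (i + 1)
      rw [hpi (i + 1) (by omega), hcompS, zero_add] at this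
      apply T_inj hf hg hn hm hf0 hg0 hfg hT i (by omega) _
        ((mem_homogeneousSubmodule _ _).mp (Submodule.coe_mem _))
      have h2 : X 2 * (decompose (homogeneousSubmodule (Fin 3) k) q i : MvPolynomial (Fin 3) k) =
          (decompose (homogeneousSubmodule (Fin 3) k) q (i + 1) : MvPolynomial (Fin 3) k) -
          (decompose (homogeneousSubmodule (Fin 3) k) u (i + 1) : MvPolynomial (Fin 3) k) := by
        rw [this]; ring
      rw [h2]
      exact Ideal.sub_mem _ h1 (hui _)
  have hall : ∀ i, (decompose (homogeneousSubmodule (Fin 3) k) q i :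
      MvPolynomial (Fin 3) k) ∈ I := by
    intro i
    by_cases hi : i < d
    · exact hup i hi
    · exact hdown N i (by omega) (by omega)
  have hqI : q ∈ I := by
    rw [← sum_support_decompose (homogeneousSubmodule (Fin 3) k) q]
    exact I.sum_mem (fun i _ => hall i)
  have : p = u + (X 2 - 1) * q := by linear_combination hq
  rw [this]
  exact Ideal.add_mem _ huI (Ideal.mul_mem_left _ _ hqI)

include hf hg hn hm hT in
/-- (F): surjectivity of dehomogenisation from a fixed high degree. -/
theorem exists_rep (d : ℕ) (hd : n + m ≤ d) (w : MvPolynomial (Fin 3) k) :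
    ∃ s : MvPolynomial (Fin 3) k, s.IsHomogeneous d ∧
      sub 1 w - sub 1 s ∈ Ideal.span ({sub 1 f, sub 1 g} : Set (MvPolynomial (Fin 2) k)) := by
  set J := Ideal.span ({sub 1 f, sub 1 g} : Set (MvPolynomial (Fin 2) k)) with hJ
  have step1 : ∀ j, ∀ p : MvPolynomial (Fin 3) k, p.IsHomogeneous (d + j) →
      ∃ s : MvPolynomial (Fin 3) k, s.IsHomogeneous d ∧ sub 1 p - sub 1 s ∈ J := by
    intro j
    induction j with
    | zero =>
      intro p hp
      exact ⟨p, hp, by rw [sub_self]; exact J.zero_mem⟩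
    | succ j ih =>
      intro p hp
      obtain ⟨q, hq, hqI⟩ := exists_T_mul hf hg hn hm hT (d + (j + 1)) (by omega) p hp
      have hq' : q.IsHomogeneous (d + j) := by
        have : d + (j + 1) - 1 = d + j := by omega
        rwa [this] at hq
      obtain ⟨s, hs, hsJ⟩ := ih q hq'
      refine ⟨s, hs, ?_⟩
      have h1 := sub1_mem_of_mem hqI
      rw [map_sub, map_mul, sub_X2, one_mul] at h1
      have : sub 1 p - sub 1 s = (sub 1 p - sub 1 q) + (sub 1 q - sub 1 s) := by ring
      rw [this]
      exact J.add_mem h1 hsJ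
  have step2 : ∀ i, ∀ p : MvPolynomial (Fin 3) k, p.IsHomogeneous i →
      ∃ s : MvPolynomial (Fin 3) k, s.IsHomogeneous d ∧ sub 1 p - sub 1 s ∈ J := by
    intro i p hp
    by_cases hi : d ≤ i
    · obtain ⟨j, rfl⟩ := Nat.exists_eq_add_of_le hi
      exact step1 j p hp
    · refine ⟨X 2 ^ (d - i) * p, ?_, ?_⟩
      · have := ((isHomogeneous_X k (2 : Fin 3)).pow (d - i)).mul hp
        rwa [one_mul, Nat.sub_add_cancel (by omega)] at this
      · rw [map_mul, map_pow, sub_X2, one_pow, one_mul, sub_self]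
        exact J.zero_mem
  induction w using DirectSum.Decomposition.inductionOn (homogeneousSubmodule (Fin 3) k) with
  | zero => exact ⟨0, isHomogeneous_zero _ _ _, by simp⟩
  | @homogeneous i p => exact step2 i p.1 ((mem_homogeneousSubmodule _ _).mp p.2)
  | add w w' hw hw' =>
    obtain ⟨s, hs, hsJ⟩ := hw
    obtain ⟨s', hs', hsJ'⟩ := hw'
    refine ⟨s + s', hs.add hs', ?_⟩
    have : sub 1 (w + w') - sub 1 (s + s') = (sub 1 w - sub 1 s) + (sub 1 w' - sub 1 s') := by
      rw [map_add, map_add]; ring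
    rw [this]
    exact J.add_mem hsJ hsJ'

include hf hg hn hm hf0 hg0 hfg hT in
/-- (G): the affine count. -/
theorem main :
    Module.finrank k (MvPolynomial (Fin 2) k ⧸
      Ideal.span ({sub 1 f, sub 1 g} : Set (MvPolynomial (Fin 2) k))) = n * m := by
  set J := Ideal.span ({sub 1 f, sub 1 g} : Set (MvPolynomial (Fin 2) k)) with hJ
  let d := n + m
  let θ : ↥(homogeneousSubmodule (Fin 3) k d) →ₗ[k] (MvPolynomial (Fin 2) k ⧸ J) :=
    ((Ideal.Quotient.mkₐ k J).toLinearMap.comp (sub 1).toLinearMap).comp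
      (homogeneousSubmodule (Fin 3) k d).subtype
  have hθ : ∀ p, θ p = Ideal.Quotient.mk J (sub 1 p.1) := fun p => rfl
  have hsurj : Function.Surjective θ := by
    intro y
    obtain ⟨r, rfl⟩ := Ideal.Quotient.mk_surjective y
    obtain ⟨s, hs, hsJ⟩ := exists_rep hf hg hn hm hT d le_rfl (ι r)
    refine ⟨⟨s, (mem_homogeneousSubmodule _ _).mpr hs⟩, ?_⟩
    rw [hθ, Ideal.Quotient.eq]
    rw [sub_ι] at hsJ
    have := (Ideal.neg_mem_iff J).mpr hsJ
    rwa [neg_sub] at this
  have hker : LinearMap.ker θ = Id f g d := by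
    ext p
    rw [LinearMap.mem_ker, hθ, Ideal.Quotient.eq_zero_iff_mem, mem_Id]
    constructor
    · intro h
      exact mem_of_sub1_mem hf hg hn hm hf0 hg0 hfg hT d le_rfl p.1
        ((mem_homogeneousSubmodule _ _).mp p.2) h
    · intro h
      exact sub1_mem_of_mem h
  have e := LinearMap.quotKerEquivOfSurjective θ hsurj
  rw [← e.finrank_eq, hker]
  exact PlaneCI.main hf hg hf0 hg0 hfg le_rfl

end Main

end Groth.Agent.Helper3.BezoutAff
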