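import Mathlib
set_option linter.style.haveILetI false
set_option linter.unusedSectionVars false
set_option linter.unusedVariables false

namespace Groth.Agent.Helper3.BigInt
open Polynomial

universe u

/-- A monic polynomial over `κ(p)` can be scaled so that it lifts to a monic polynomial over `R`. -/
lemma exists_scaleRoots_lift (R : Type u) [CommRing R] (p : Ideal R) [p.IsPrime]
    (m : p.ResidueField[X]) (hmon : m.Monic) :
    ∃ (t : R) (_ : t ∉ p) (f : R[X]), f.Monic ∧ f.natDegree = m.natDegree ∧
      f.map (algebraMap R p.ResidueField) = m.scaleRoots (algebraMap R p.ResidueField t) := by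
  classical
  obtain ⟨b, hb⟩ := IsLocalization.exist_integer_multiples_of_finset (nonZeroDivisors (R ⧸ p))
    (m.support.image m.coeff)
  obtain ⟨t, ht⟩ := Ideal.Quotient.mk_surjective (b : R ⧸ p)
  have htp : t ∉ p := by
    intro h
    have : (b : R ⧸ p) = 0 := by rw [← ht]; exact Ideal.Quotient.eq_zero_iff_mem.mpr h
    exact nonZeroDivisors.ne_zero b.2 this
  have hcoeff : ∀ i, algebraMap R p.ResidueField t * m.coeff i ∈
      Set.range (algebraMap R p.ResidueField) := by
    intro i
    by_cases hi : i ∈ m.support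
    · obtain ⟨y, hy⟩ := hb (m.coeff i) (Finset.mem_image_of_mem _ hi)
      obtain ⟨r, rfl⟩ := Ideal.Quotient.mk_surjective y
      refine ⟨r, ?_⟩
      rw [← Ideal.algebraMap_quotient_residueField_mk, hy, Algebra.smul_def, ← ht,
        Ideal.algebraMap_quotient_residueField_mk]
    · rw [Polynomial.notMem_support_iff.mp hi, mul_zero]
      exact ⟨0, map_zero _⟩
  have hlifts : m.scaleRoots (algebraMap R p.ResidueField t) ∈
      Polynomial.lifts (algebraMap R p.ResidueField) := by
    rw [Polynomial.lifts_iff_coeff_lifts]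
    intro i
    rw [Polynomial.coeff_scaleRoots]
    rcases lt_trichotomy i m.natDegree with h | h | h
    · obtain ⟨r, hr⟩ := hcoeff i
      obtain ⟨k, hk⟩ : ∃ k, m.natDegree - i = k + 1 := ⟨m.natDegree - i - 1, by omega⟩
      refine ⟨r * t ^ k, ?_⟩
      rw [map_mul, hr, map_pow, hk, pow_succ]
      ring
    · refine ⟨1, ?_⟩
      rw [h, Nat.sub_self, pow_zero, mul_one, map_one]
      exact hmon.coeff_natDegree.symm
    · refine ⟨0, ?_⟩
      rw [Polynomial.coeff_eq_zero_of_natDegree_lt h, zero_mul, map_zero]
  have hmon' : (m.scaleRoots (algebraMap R p.ResidueField t)).Monic :=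
    (Polynomial.monic_scaleRoots_iff _).mpr hmon
  obtain ⟨f, hf1, hf2, hf3⟩ := Polynomial.lifts_and_natDegree_eq_and_monic hlifts hmon'
  exact ⟨t, htp, f, hf3, by rw [hf2, Polynomial.natDegree_scaleRoots], hf1⟩

variable (A : Type u) [CommRing A]

/-- index type: monic polynomials of positive degree -/
abbrev Idx := {P : Polynomial A // P.Monic ∧ 0 < P.natDegree}

/-- the relations `P(X_P)` -/
noncomputable abbrev rel : Ideal (MvPolynomial (Idx A) A) :=
  Ideal.span (Set.range fun P : Idx A => Polynomial.aeval (MvPolynomial.X (R := A) P) P.1)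

/-- the big integral extension -/
abbrev T := MvPolynomial (Idx A) A ⧸ rel A

/-- the root of `P` in `T`. -/
noncomputable def root (P : Idx A) : T A := Ideal.Quotient.mk (rel A) (MvPolynomial.X P)

lemma aeval_root (P : Idx A) : Polynomial.aeval (root A P) P.1 = 0 := by
  have h1 : Polynomial.aeval (root A P) P.1 =
      Ideal.Quotient.mk (rel A) (Polynomial.aeval (MvPolynomial.X (R := A) P) P.1) := by
    have := Polynomial.aeval_algHom_apply (Ideal.Quotient.mkₐ A (rel A))
      (MvPolynomial.X (R := A) P) P.1
    exact this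
  rw [h1, Ideal.Quotient.eq_zero_iff_mem]
  exact Ideal.subset_span ⟨P, rfl⟩

instance isIntegral : Algebra.IsIntegral A (T A) := by
  constructor
  intro z
  obtain ⟨g, rfl⟩ := Ideal.Quotient.mk_surjective z
  induction g using MvPolynomial.induction_on with
  | C a =>
    have : Ideal.Quotient.mk (rel A) (MvPolynomial.C a) = algebraMap A (T A) a := rfl
    rw [this]
    exact isIntegral_algebraMap
  | add p q hp hq => rw [map_add]; exact hp.add hq
  | mul_X p P hp =>
    rw [map_mul]
    refine hp.mul ?_
    exact ⟨P.1, P.2.1, by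
      have := aeval_root A P
      rwa [Polynomial.aeval_def] at this⟩

/-- A ring hom from `T A` to an algebraically closed field extending a given `A → k`. -/
lemma exists_hom (k : Type u) [Field k] [IsAlgClosed k] (φ : A →+* k) :
    ∃ ψ : T A →+* k, ψ.comp (algebraMap A (T A)) = φ := by
  have hroot : ∀ P : Idx A, ∃ r : k, (P.1.map φ).IsRoot r := by
    intro P
    apply IsAlgClosed.exists_root
    rw [Polynomial.degree_eq_natDegree (P.2.1.map φ).ne_zero, (P.2.1).natDegree_map]
    exact_mod_cast P.2.2.ne'
  choose r hr using hroot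
  let ψ₀ : MvPolynomial (Idx A) A →+* k := MvPolynomial.eval₂Hom φ r
  have hker : ∀ a ∈ rel A, ψ₀ a = 0 := by
    intro a ha
    have : rel A ≤ RingHom.ker ψ₀ := by
      rw [Ideal.span_le]
      rintro _ ⟨P, rfl⟩
      rw [SetLike.mem_coe, RingHom.mem_ker]
      have h1 : ψ₀ (Polynomial.aeval (MvPolynomial.X (R := A) P) P.1) =
          Polynomial.eval₂ φ (r P) P.1 := by
        rw [Polynomial.aeval_def, Polynomial.hom_eval₂]
        congr 1
        · ext a; simp [ψ₀]
        · simp [ψ₀]
      rw [h1, ← Polynomial.eval_map]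
      exact hr P
    exact this ha
  refine ⟨Ideal.Quotient.lift (rel A) ψ₀ hker, ?_⟩
  ext a
  show Ideal.Quotient.lift (rel A) ψ₀ hker (Ideal.Quotient.mk _ (MvPolynomial.C a)) = φ a
  rw [Ideal.Quotient.lift_mk]
  simp [ψ₀]

theorem comap_surjective :
    Function.Surjective (PrimeSpectrum.comap (algebraMap A (T A))) := by
  intro p
  let k := AlgebraicClosure p.asIdeal.ResidueField
  let φ : A →+* k := (algebraMap p.asIdeal.ResidueField k).comp (algebraMap A p.asIdeal.ResidueField)
  obtain ⟨ψ, hψ⟩ := exists_hom A k φ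
  refine ⟨⟨RingHom.ker ψ, RingHom.ker_isPrime ψ⟩, ?_⟩
  ext a
  show a ∈ Ideal.comap (algebraMap A (T A)) (RingHom.ker ψ) ↔ a ∈ p.asIdeal
  rw [Ideal.mem_comap, RingHom.mem_ker, ← RingHom.comp_apply, hψ]
  show (algebraMap p.asIdeal.ResidueField k) (algebraMap A p.asIdeal.ResidueField a) = 0 ↔ _
  rw [map_eq_zero, Ideal.algebraMap_residueField_eq_zero]

section residue

variable {R S : Type u} [CommRing R] [CommRing S] [Algebra R S]

/-- every element of `κ(Q)` is a quotient of images of elements of `S`. -/
lemma exists_div (Q : Ideal S) [Q.IsPrime] (z : Q.ResidueField) :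
    ∃ s t : S, t ∉ Q ∧ z = algebraMap S Q.ResidueField s * (algebraMap S Q.ResidueField t)⁻¹ := by
  obtain ⟨y, rfl⟩ := IsLocalRing.residue_surjective (R := Localization.AtPrime Q) z
  obtain ⟨s, t, rfl⟩ := IsLocalization.exists_mk'_eq Q.primeCompl y
  refine ⟨s, t.1, t.2, ?_⟩
  have ht0 : algebraMap S Q.ResidueField t.1 ≠ 0 := by
    rw [Ne, Ideal.algebraMap_residueField_eq_zero]; exact t.2
  rw [eq_mul_inv_iff_mul_eq₀ ht0]
  show IsLocalRing.residue _ (IsLocalization.mk' _ s t) *
    IsLocalRing.residue _ (algebraMap S (Localization.AtPrime Q) t.1) =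
    IsLocalRing.residue _ (algebraMap S (Localization.AtPrime Q) s)
  rw [← map_mul, IsLocalization.mk'_spec]

lemma residue_isIntegral [Algebra.IsIntegral R S] (Q : Ideal S) [Q.IsPrime] :
    (Ideal.ResidueField.map (Q.comap (algebraMap R S)) Q (algebraMap R S) rfl).IsIntegral := by
  set p := Q.comap (algebraMap R S)
  set ρ := Ideal.ResidueField.map p Q (algebraMap R S) rfl with hρ
  letI : Algebra p.ResidueField Q.ResidueField := ρ.toAlgebra
  haveI : IsScalarTower R p.ResidueField Q.ResidueField := by
    apply IsScalarTower.of_algebraMap_eq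
    intro r
    show _ = ρ _
    rw [hρ, Ideal.ResidueField.map_algebraMap, ← IsScalarTower.algebraMap_apply]
  have hS : ∀ s : S, IsIntegral p.ResidueField (algebraMap S Q.ResidueField s) := by
    intro s
    have h1 : IsIntegral R s := Algebra.IsIntegral.isIntegral s
    have h2 : IsIntegral R (algebraMap S Q.ResidueField s) :=
      h1.map (IsScalarTower.toAlgHom R S Q.ResidueField)
    exact h2.tower_top
  intro z
  obtain ⟨s, t, -, rfl⟩ := exists_div Q z
  exact (hS s).mul (hS t).inv

end residue

theorem isAlgClosed_residueField (Q : Ideal (T A)) [Q.IsPrime] :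
    IsAlgClosed Q.ResidueField := by
  set p := Q.comap (algebraMap A (T A)) with hp
  set ρ := Ideal.ResidueField.map p Q (algebraMap A (T A)) rfl with hρ
  letI : Algebra p.ResidueField Q.ResidueField := ρ.toAlgebra
  haveI : IsScalarTower A p.ResidueField Q.ResidueField := by
    apply IsScalarTower.of_algebraMap_eq
    intro r
    show _ = ρ _
    rw [hρ, Ideal.ResidueField.map_algebraMap, ← IsScalarTower.algebraMap_apply]
  haveI : Algebra.IsAlgebraic p.ResidueField Q.ResidueField := by
    have h := residue_isIntegral (R := A) Q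
    exact ⟨fun z => IsIntegral.isAlgebraic (h z)⟩
  have hcl : IsAlgClosure p.ResidueField Q.ResidueField := by
    apply IsAlgClosure.of_exists_root
    intro g hg hirr
    obtain ⟨t, htp, f, hfmon, hfdeg, hfmap⟩ := exists_scaleRoots_lift A p g hg
    have hgpos : 0 < g.natDegree := hirr.natDegree_pos
    let P : Idx A := ⟨f, hfmon, by rw [hfdeg]; exact hgpos⟩
    set y := algebraMap (T A) Q.ResidueField (root A P) with hy
    have ht0 : algebraMap A p.ResidueField t ≠ 0 := by
      rwa [Ne, Ideal.algebraMap_residueField_eq_zero]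
    have h1 : Polynomial.aeval y f = 0 := by
      have := aeval_root A P
      rw [hy, Polynomial.aeval_algebraMap_apply, this, map_zero]
    have h2 : Polynomial.aeval y (g.scaleRoots (algebraMap A p.ResidueField t)) = 0 := by
      rw [← hfmap, Polynomial.aeval_map_algebraMap]
      exact h1
    have h3 := Polynomial.scaleRoots_aeval_eq_zero (r := (algebraMap A p.ResidueField t)⁻¹) h2
    rw [← Polynomial.scaleRoots_mul, mul_inv_cancel₀ ht0, Polynomial.scaleRoots_one] at h3
    exact ⟨_, h3⟩
  exact hcl.isAlgClosed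

theorem main :
    Function.Surjective (PrimeSpectrum.comap (algebraMap A (T A))) ∧
    ∀ (Q : Ideal (T A)) [Q.IsPrime],
      IsAlgClosed Q.ResidueField ∧
      (Ideal.ResidueField.map (Q.comap (algebraMap A (T A))) Q (algebraMap A (T A)) rfl).IsIntegral :=
  ⟨comap_surjective A, fun Q _ => ⟨isAlgClosed_residueField A Q, residue_isIntegral Q⟩⟩

end Groth.Agent.Helper3.BigInt
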