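import Mathlib
import Groth.Agent.Helper3.BigInt
set_option linter.style.haveILetI false
set_option linter.unusedSectionVars false
set_option linter.unusedVariables false

open AlgebraicGeometry CategoryTheory Limits

namespace Groth.Agent.Helper3.BigIntSch
universe u

/-- residueFieldMap of `Spec.map` in terms of `Ideal.ResidueField.map`. -/
lemma residueFieldMap_SpecMap {R S : CommRingCat.{u}} (φ : R ⟶ S) (z : Spec S) :
    (Scheme.Spec.residueFieldIso R (Spec.map φ z)).inv ≫ (Spec.map φ).residueFieldMap z ≫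
        (Scheme.Spec.residueFieldIso S z).hom =
      CommRingCat.ofHom (Ideal.ResidueField.map (Spec.map φ z).asIdeal z.asIdeal φ.hom rfl) := by
  have h1 : CommRingCat.ofHom (algebraMap R (Spec.map φ z).asIdeal.ResidueField) ≫
      (Scheme.Spec.residueFieldIso R (Spec.map φ z)).inv ≫ (Spec.map φ).residueFieldMap z ≫
        (Scheme.Spec.residueFieldIso S z).hom =
        φ ≫ CommRingCat.ofHom (algebraMap S z.asIdeal.ResidueField) := by
    rw [Scheme.Spec.algebraMap_residueFieldIso_inv_assoc]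
    have e1 : (Spec R).presheaf.germ ⊤ (Spec.map φ z) trivial ≫ (Spec R).residue (Spec.map φ z) =
      (Spec R).Γevaluation (Spec.map φ z) := rfl
    have e3 : (Scheme.ΓSpecIso R).inv ≫ (Spec.map φ).appTop = φ ≫ (Scheme.ΓSpecIso S).inv :=
      (Scheme.ΓSpecIso_inv_naturality φ).symm
    rw [reassoc_of% e1, Scheme.Γevaluation_naturality_assoc, reassoc_of% e3]
    have e2 : (Scheme.ΓSpecIso S).inv ≫ (Spec S).Γevaluation z =
        CommRingCat.ofHom (algebraMap S _) ≫ (Scheme.Spec.residueFieldIso S z).inv := by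
      rw [Scheme.Spec.algebraMap_residueFieldIso_inv]; rfl
    rw [reassoc_of% e2, Iso.inv_hom_id, Category.comp_id]
  ext1
  apply Ideal.ResidueField.ringHom_ext
  ext r
  have := congrArg (fun k => k.hom r) h1
  simp only [CommRingCat.hom_comp, CommRingCat.hom_ofHom, RingHom.comp_apply] at this ⊢
  rw [this, Ideal.ResidueField.map_algebraMap]

lemma isIntegral_SpecMap {R S : CommRingCat.{u}} (φ : R ⟶ S) (z : Spec S)
    (h : (Ideal.ResidueField.map (Spec.map φ z).asIdeal z.asIdeal φ.hom rfl).IsIntegral) :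
    ((Spec.map φ).residueFieldMap z).hom.IsIntegral := by
  have e := residueFieldMap_SpecMap φ z
  have h' : (CommRingCat.ofHom
      (Ideal.ResidueField.map (Spec.map φ z).asIdeal z.asIdeal φ.hom rfl)).hom.IsIntegral := h
  rw [← e] at h'
  have h'' := (RingHom.isIntegral_respectsIso.cancel_left_isIso
    (Scheme.Spec.residueFieldIso R (Spec.map φ z)).inv _).mp h'
  exact (RingHom.isIntegral_respectsIso.cancel_right_isIso _
    (Scheme.Spec.residueFieldIso S z).hom).mp h''

lemma isAlgClosed_Spec {S : CommRingCat.{u}} (z : Spec S)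
    (h : IsAlgClosed z.asIdeal.ResidueField) : IsAlgClosed ((Spec S).residueField z) :=
  IsAlgClosed.of_ringEquiv _ _
    (Scheme.Spec.residueFieldIso S z).symm.commRingCatIsoToRingEquiv

/-- transport along an open immersion at the source. -/
lemma of_openImmersion {U Y X : Scheme.{u}} (j : U ⟶ Y) [IsOpenImmersion j] (h : Y ⟶ X) (u : U)
    (h1 : IsAlgClosed (U.residueField u)) (h2 : ((j ≫ h).residueFieldMap u).hom.IsIntegral) :
    IsAlgClosed (Y.residueField (j u)) ∧ (h.residueFieldMap (j u)).hom.IsIntegral := by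
  constructor
  · exact IsAlgClosed.of_ringEquiv _ _
      (asIso (j.residueFieldMap u)).symm.commRingCatIsoToRingEquiv
  · rw [Scheme.residueFieldMap_comp] at h2
    exact (RingHom.isIntegral_respectsIso.cancel_right_isIso _ (j.residueFieldMap u)).mp h2

/-- transport along an open immersion at the target. -/
lemma of_openImmersion_target {W U X : Scheme.{u}} (g : W ⟶ U) (j : U ⟶ X) [IsOpenImmersion j]
    (w : W) (h2 : (g.residueFieldMap w).hom.IsIntegral) :
    ((g ≫ j).residueFieldMap w).hom.IsIntegral := by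
  rw [Scheme.residueFieldMap_comp]
  exact (RingHom.isIntegral_respectsIso.cancel_left_isIso (j.residueFieldMap (g w)) _).mpr h2

theorem main (X : Scheme.{u}) [CompactSpace X] [QuasiSeparatedSpace X] :
    ∃ (X' : Scheme.{u}) (f : X' ⟶ X), IsAffine X' ∧ QuasiCompact f ∧ Surjective f ∧
      ∀ x' : X', IsAlgClosed (X'.residueField x') ∧ (f.residueFieldMap x').hom.IsIntegral := by
  classical
  let 𝒰 := X.affineCover.finiteSubcover
  let A : 𝒰.I₀ → CommRingCat.{u} := fun i => Γ(𝒰.X i, ⊤)
  let B : 𝒰.I₀ → CommRingCat.{u} := fun i => CommRingCat.of (BigInt.T (A i))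
  let φ : ∀ i, A i ⟶ B i := fun i => CommRingCat.ofHom (algebraMap (A i) (BigInt.T (A i)))
  let g : 𝒰.I₀ → Scheme.{u} := fun i => Spec (B i)
  let k : ∀ i, g i ⟶ X := fun i => Spec.map (φ i) ≫ (𝒰.X i).isoSpec.inv ≫ 𝒰.f i
  refine ⟨∐ g, Sigma.desc k, inferInstance, inferInstance, ?_, ?_⟩
  · refine ⟨fun x => ?_⟩
    obtain ⟨i, y, hy⟩ := 𝒰.exists_eq x
    obtain ⟨z, hz⟩ := BigInt.comap_surjective (A i) ((𝒰.X i).isoSpec.hom y)
    refine ⟨Sigma.ι g i z, ?_⟩
    rw [← Scheme.Hom.comp_apply, Sigma.ι_desc]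
    show 𝒰.f i ((𝒰.X i).isoSpec.inv (Spec.map (φ i) z)) = x
    have hz' : Spec.map (φ i) z = (𝒰.X i).isoSpec.hom y := hz
    rw [hz']
    have : (𝒰.X i).isoSpec.inv ((𝒰.X i).isoSpec.hom y) = y := by
      rw [← Scheme.Hom.comp_apply, Iso.hom_inv_id]; rfl
    rw [this]
    exact hy
  · intro x'
    obtain ⟨⟨i, z⟩, rfl⟩ := (sigmaMk g).surjective x'
    rw [sigmaMk_mk]
    apply of_openImmersion
    · exact isAlgClosed_Spec z (BigInt.isAlgClosed_residueField (A i) z.asIdeal)
    · rw [Sigma.ι_desc]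
      apply of_openImmersion_target (Spec.map (φ i)) ((𝒰.X i).isoSpec.inv ≫ 𝒰.f i) z
      apply isIntegral_SpecMap
      exact BigInt.residue_isIntegral (R := A i) (S := BigInt.T (A i)) z.asIdeal

end Groth.Agent.Helper3.BigIntSch
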