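import Mathlib
import Groth.Agent.Helper8.SliceA
import Groth.Agent.Helper2.RegCM
import Groth.Agent.Helper8.RegSeqA

set_option autoImplicit false
set_option linter.style.haveILetI false
set_option linter.unusedSectionVars false
set_option linter.unusedVariables false
set_option linter.deprecated false
set_option linter.style.haveILetI false
set_option linter.unusedSectionVars false
set_option linter.unusedVariables false

universe u

namespace Groth.Agent.Helper3.FibDepth1

open IsLocalRing RingTheory.Sequence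

section Lift
variable {R₀ T : Type u} [CommRing R₀] [CommRing T] [IsLocalRing R₀] [IsLocalRing T]
  [Algebra R₀ T] [IsLocalHom (algebraMap R₀ T)]

/-- a sequence that is weakly regular on the closed fibre of a flat quotient is weakly regular -/
theorem wr_of_fibre_wr (hess : CAlgX.IsEssFinitePresentation R₀ T) :
    ∀ (hs : List T) (J : Ideal T), J.FG → Module.Flat R₀ (T ⧸ J) →
      IsWeaklyRegular (T ⧸ (J ⊔ (maximalIdeal R₀).map (algebraMap R₀ T))) hs →
      IsWeaklyRegular (T ⧸ J) hs := by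
  intro hs
  induction hs with
  | nil =>
    intro J hJ hF hwr
    exact IsWeaklyRegular.nil _ _
  | cons x hs ih =>
    intro J hJ hF hwr
    rw [isWeaklyRegular_cons_iff] at hwr
    obtain ⟨h1, h2⟩ := hwr
    haveI := hF
    have hregx : ∀ t : T, x * t ∈ J ⊔ (maximalIdeal R₀).map (algebraMap R₀ T) →
        t ∈ J ⊔ (maximalIdeal R₀).map (algebraMap R₀ T) := by
      intro t ht
      have h3 : x • (Ideal.Quotient.mk (J ⊔ (maximalIdeal R₀).map (algebraMap R₀ T)) t) =
          x • (0 : T ⧸ (J ⊔ (maximalIdeal R₀).map (algebraMap R₀ T))) := by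
        rw [smul_zero]
        show Ideal.Quotient.mk _ (x * t) = 0
        exact Ideal.Quotient.eq_zero_iff_mem.mpr ht
      exact Ideal.Quotient.eq_zero_iff_mem.mp (h1 h3)
    obtain ⟨hreg, hFl'⟩ := Groth.Agent.Helper8.SliceA.local_step hess J hJ x hregx
    have hJ' : (J ⊔ Ideal.span {x}).FG := Submodule.FG.sup hJ (Submodule.fg_span_singleton x)
    have hwr' : IsWeaklyRegular
        (T ⧸ ((J ⊔ Ideal.span {x}) ⊔ (maximalIdeal R₀).map (algebraMap R₀ T))) hs := by
      have e1 := Groth.Agent.Helper8.SliceA.quotSMulTopEquiv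
        (J ⊔ (maximalIdeal R₀).map (algebraMap R₀ T)) x
      have e2 : (T ⧸ ((J ⊔ (maximalIdeal R₀).map (algebraMap R₀ T)) ⊔ Ideal.span {x})) ≃ₗ[T]
          (T ⧸ ((J ⊔ Ideal.span {x}) ⊔ (maximalIdeal R₀).map (algebraMap R₀ T))) :=
        Submodule.quotEquivOfEq _ _ (sup_right_comm _ _ _)
      exact ((e1.trans e2).isWeaklyRegular_congr hs).mp h2
    have h4 := ih (J ⊔ Ideal.span {x}) hJ' hFl' hwr'
    rw [isWeaklyRegular_cons_iff]
    refine ⟨?_, ?_⟩
    · intro a b hab
      obtain ⟨a, rfl⟩ := Ideal.Quotient.mk_surjective a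
      obtain ⟨b, rfl⟩ := Ideal.Quotient.mk_surjective b
      have h5 : Ideal.Quotient.mk J (x * (a - b)) = 0 := by
        have h6 : Ideal.Quotient.mk J (x * a) = Ideal.Quotient.mk J (x * b) := hab
        rw [mul_sub, map_sub, h6, sub_self]
      have h7 := hreg (a - b) (Ideal.Quotient.eq_zero_iff_mem.mp h5)
      rw [← sub_eq_zero, ← map_sub]
      exact Ideal.Quotient.eq_zero_iff_mem.mpr h7
    · exact ((Groth.Agent.Helper8.SliceA.quotSMulTopEquiv J x).isWeaklyRegular_congr hs).mpr h4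

end Lift

end Groth.Agent.Helper3.FibDepth1

namespace Groth.Agent.Helper3.FibDepth1

open IsLocalRing RingTheory.Sequence

/-- a list of length `≥ n` realising depth `≥ n` -/
theorem exists_list_of_le_depth (F : Type u) [CommRing F] [IsLocalRing F] (n : ℕ)
    (h : (n : ℕ∞) ≤ LocCoh.depth F F) :
    ∃ ls : List F, IsWeaklyRegular F ls ∧ (∀ l ∈ ls, l ∈ maximalIdeal F) ∧ n ≤ ls.length := by
  have hne : ¬ (maximalIdeal F) • (⊤ : Submodule F F) = ⊤ := by
    rw [smul_eq_mul, Ideal.mul_top]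
    exact (maximalIdeal.isMaximal F).ne_top
  unfold LocCoh.depth LocCoh.idealDepth at h
  rw [if_neg hne] at h
  by_contra hcon
  push Not at hcon
  have hle : (⨆ (rs : List F) (_ : IsWeaklyRegular F rs ∧ ∀ r ∈ rs, r ∈ maximalIdeal F),
      (rs.length : ℕ∞)) ≤ ((n - 1 : ℕ) : ℕ∞) := by
    refine iSup₂_le (fun rs hrs => ?_)
    have := hcon rs hrs.1 hrs.2
    exact_mod_cast (by omega : rs.length ≤ n - 1)
  have h2 := h.trans hle
  have h3 : n ≤ n - 1 := by exact_mod_cast h2
  have h4 : n = 0 := by omega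
  subst h4
  have := hcon [] (IsWeaklyRegular.nil F F) (by simp)
  simp at this

section Main
variable (R₀ T F : Type u) [CommRing R₀] [CommRing T] [CommRing F] [IsLocalRing R₀] [IsLocalRing T]
  [Algebra R₀ T] [IsLocalHom (algebraMap R₀ T)] [Module.Flat R₀ T]

theorem le_depth_of_fibre (hess : CAlgX.IsEssFinitePresentation R₀ T) [IsLocalRing F]
    (e : (T ⧸ (maximalIdeal R₀).map (algebraMap R₀ T)) ≃+* F) (n : ℕ)
    (hF : (n : ℕ∞) ≤ LocCoh.depth F F) :
    (n : ℕ∞) ≤ LocCoh.depth T T := by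
  obtain ⟨ls, hwr, hmem, hlen⟩ := exists_list_of_le_depth F n hF
  set I := (maximalIdeal R₀).map (algebraMap R₀ T) with hI
  let φ : T →+* F := e.toRingHom.comp (Ideal.Quotient.mk I)
  have hφ : Function.Surjective φ := e.surjective.comp Ideal.Quotient.mk_surjective
  obtain ⟨hs, rfl⟩ := Groth.Agent.Helper8.RegSeqA.exists_map_eq φ hφ ls
  letI algTF : Algebra T F := φ.toAlgebra
  -- weak regularity on `F` as a `T`-module
  have h1 : IsWeaklyRegular F hs := (isWeaklyRegular_map_algebraMap_iff F F hs).mp hwr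
  -- the `T`-linear equivalence `T ⧸ I ≃ F`
  let eL : (T ⧸ I) ≃ₗ[T] F :=
    { e.toAddEquiv with
      map_smul' := by
        intro t y
        obtain ⟨y, rfl⟩ := Ideal.Quotient.mk_surjective y
        show e (t • Ideal.Quotient.mk I y) = φ t * e (Ideal.Quotient.mk I y)
        rw [Algebra.smul_def, map_mul]
        rfl }
  have h2 : IsWeaklyRegular (T ⧸ I) hs := (eL.isWeaklyRegular_congr hs).mpr h1
  have h3 : IsWeaklyRegular (T ⧸ ((⊥ : Ideal T) ⊔ I)) hs :=
    ((Submodule.quotEquivOfEq ((⊥ : Ideal T) ⊔ I) I (bot_sup_eq I)).isWeaklyRegular_congr hs).mpr h2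
  have hF0 : Module.Flat R₀ (T ⧸ (⊥ : Ideal T)) :=
    Module.Flat.of_linearEquiv
      ((Submodule.quotEquivOfEqBot (⊥ : Ideal T) rfl).restrictScalars R₀)
  have h4 := wr_of_fibre_wr hess hs ⊥ Submodule.fg_bot hF0 h3
  have h5 : IsWeaklyRegular T hs :=
    ((Submodule.quotEquivOfEqBot (⊥ : Ideal T) rfl).isWeaklyRegular_congr hs).mp h4
  have hmemT : ∀ t ∈ hs, t ∈ maximalIdeal T := by
    intro t ht
    rw [mem_maximalIdeal, mem_nonunits_iff]
    intro hu
    have h6 := hmem (φ t) (List.mem_map_of_mem ht)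
    exact ((mem_maximalIdeal _).mp h6) (hu.map φ)
  unfold LocCoh.depth LocCoh.idealDepth
  split_ifs with htop
  · exact le_top
  · refine le_trans ?_ (le_iSup₂ (f := fun (rs : List T)
      (_ : IsWeaklyRegular T rs ∧ ∀ r ∈ rs, r ∈ maximalIdeal T) => (rs.length : ℕ∞)) hs ⟨h5, hmemT⟩)
    rw [List.length_map] at hlen
    exact_mod_cast hlen

end Main

end Groth.Agent.Helper3.FibDepth1
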