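import Mathlib
import Groth.Prelude.Def_CInt
import Groth.Agent.Helper3.FibDepth1
import Groth.Agent.Helper2.StalkEssFP
import Groth.Agent.Helper2.SmoothRegSch
import Groth.Agent.Helper5.CMFib1

set_option autoImplicit false
set_option linter.style.haveILetI false
set_option linter.unusedSectionVars false
set_option linter.unusedVariables false
set_option linter.deprecated false
set_option linter.style.haveILetI false
set_option linter.unusedSectionVars false
set_option linter.unusedVariables false

universe u

namespace Groth.Agent.Helper3.FibDepth2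

open AlgebraicGeometry CategoryTheory CategoryTheory.Limits IsLocalRing

/-- depth of the local ring of a smooth morphism is at least the dimension of the fibre local ring
(no noetherian hypothesis on the base) -/
theorem le_depth_of_smooth {P S : Scheme.{u}} (π : P ⟶ S) [Smooth π] (x : P) (n : ℕ)
    (hx : (n : WithBot ℕ∞) ≤ ringKrullDim ↑(CInt.fiberStalk π x)) :
    (n : ℕ∞) ≤ LocCoh.depth ↑(P.presheaf.stalk x) ↑(P.presheaf.stalk x) := by
  letI alg : Algebra (S.presheaf.stalk (π x)) (P.presheaf.stalk x) := (π.stalkMap x).hom.toAlgebra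
  haveI : IsLocalHom (algebraMap (S.presheaf.stalk (π x)) (P.presheaf.stalk x)) :=
    inferInstanceAs (IsLocalHom (π.stalkMap x).hom)
  haveI : Flat π := inferInstance
  haveI : Module.Flat (S.presheaf.stalk (π x)) (P.presheaf.stalk x) := Flat.stalkMap π x
  have hess := Groth.Agent.Helper2.StalkEssFP.essFP_stalk π x
  obtain ⟨e⟩ := Groth.Agent.Helper5.CMFib.fibre_stalk_equiv' π x
  haveI : Smooth (π.fiberToSpecResidueField (π x)) :=
    MorphismProperty.pullback_snd _ _ inferInstance
  haveI hreg : IsRegularLocalRing ↑(CInt.fiberStalk π x) :=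
    Groth.Agent.Helper2.SmoothRegSch.stalk_regular_of_smooth (S.residueField (π x))
      (π.fiber (π x)) (π.fiberToSpecResidueField (π x)) (π.asFiber x)
  have hCM := Groth.Agent.Helper2.RegCM.cm_of_isRegularLocalRing ↑(CInt.fiberStalk π x)
  unfold LocCoh.IsCohenMacaulayModule at hCM
  rw [Module.supportDim_self_eq_ringKrullDim] at hCM
  rw [hCM] at hx
  have hF : (n : ℕ∞) ≤ LocCoh.depth ↑(CInt.fiberStalk π x) ↑(CInt.fiberStalk π x) := by
    exact_mod_cast hx
  exact Groth.Agent.Helper3.FibDepth1.le_depth_of_fibre _ _ _ hess e n hF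

theorem s16423
    (k : Type u) [Field k] (X S : Scheme.{u})
    (a : X ⟶ Spec (CommRingCat.of k)) (b : S ⟶ Spec (CommRingCat.of k))
    [Smooth a] [IsProper a] [GeometricallyIrreducible a]
    (hproj : ∃ H : X.Modules, CohB1.IsAmple H)
    (x : ↥(pullback a b))
    (hx : (2 : WithBot ℕ∞) ≤ ringKrullDim ↑(CInt.fiberStalk (pullback.snd a b) x)) :
    (2 : ℕ∞) ≤ LocCoh.depth ↑((pullback a b).presheaf.stalk x) ↑((pullback a b).presheaf.stalk x) := by
  haveI : Smooth (pullback.snd a b) := MorphismProperty.pullback_snd _ _ inferInstance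
  exact le_depth_of_smooth (pullback.snd a b) x 2 hx

end Groth.Agent.Helper3.FibDepth2
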