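import Mathlib
import Groth.Prelude.Def_CInt
import Groth.Agent.Helper3.FibDepth2
import Groth.Agent.Helper3.BigOpen1

set_option autoImplicit false
set_option linter.style.haveILetI false
set_option linter.unusedSectionVars false
set_option linter.unusedVariables false
set_option linter.deprecated false
set_option linter.style.haveILetI false
set_option linter.unusedSectionVars false
set_option linter.unusedVariables false

universe u

namespace Groth.Agent.Helper3.BigOpen2

open AlgebraicGeometry CategoryTheory CategoryTheory.Limits IsLocalRing RingTheory.Sequence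

/-- local rings of depth at least one have a nonzerodivisor in the maximal ideal -/
theorem exists_nzd_of_one_le_depth (O : Type u) [CommRing O] [IsLocalRing O]
    (h : (1 : ℕ∞) ≤ LocCoh.depth O O) :
    ∃ t ∈ maximalIdeal O, IsSMulRegular O t := by
  obtain ⟨ls, hwr, hmem, hlen⟩ :=
    Groth.Agent.Helper3.FibDepth1.exists_list_of_le_depth O 1 (by exact_mod_cast h)
  match ls, hwr, hmem, hlen with
  | [], _, _, hlen => simp at hlen
  | t :: ls', hwr, hmem, _ =>
    rw [isWeaklyRegular_cons_iff] at hwr
    exact ⟨t, hmem t (List.mem_cons_self), hwr.1⟩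

/-- a big open subset (complement of fibrewise codimension at least one) for a smooth morphism is
schematically dense -/
theorem schDense_of_smooth {P S : Scheme.{u}} (π : P ⟶ S) [Smooth π] (U : P.Opens)
    (hU : ∀ x : P, x ∉ U → (1 : WithBot ℕ∞) ≤ ringKrullDim ↑(CInt.fiberStalk π x)) :
    CInt.IsSchematicallyDense U := by
  refine Groth.Agent.Helper3.BigOpen1.schDense_of_nzd U (fun x hx => ?_)
  have h1 := Groth.Agent.Helper3.FibDepth2.le_depth_of_smooth π x 1 (by exact_mod_cast hU x hx)
  exact exists_nzd_of_one_le_depth _ (by exact_mod_cast h1)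

theorem s16428
    (k : Type u) [Field k] (X S : Scheme.{u})
    (a : X ⟶ Spec (CommRingCat.of k)) (b : S ⟶ Spec (CommRingCat.of k))
    [Smooth a] [IsProper a] [GeometricallyIrreducible a]
    (hproj : ∃ H : X.Modules, CohB1.IsAmple H)
    (U : (pullback a b).Opens)
    (hU : ∀ x : ↥(pullback a b), x ∉ U →
      (2 : WithBot ℕ∞) ≤ ringKrullDim ↑(CInt.fiberStalk (pullback.snd a b) x)) :
    CInt.IsSchematicallyDense U := by
  haveI : Smooth (pullback.snd a b) := MorphismProperty.pullback_snd _ _ inferInstance
  refine schDense_of_smooth (pullback.snd a b) U (fun x hx => le_trans ?_ (hU x hx))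
  norm_num

end Groth.Agent.Helper3.BigOpen2
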