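import Groth.Agent.Helper3.CurveFlat
import Groth.Agent.Helper2.SmoothRegSch

open AlgebraicGeometry CategoryTheory CategoryTheory.Limits TopologicalSpace Opposite IsLocalRing

universe u

namespace Groth.Agent.Helper3.BirCurve

/-- a local homomorphism from a valuation ring to a local domain inducing a surjection on
fraction fields is bijective -/
theorem bijective_of_valuationRing {R B K L : Type*} [CommRing R] [IsDomain R] [ValuationRing R]
    [CommRing B] [IsLocalRing B] [Field K] [Field L] [Algebra R K] [IsFractionRing R K]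
    [Algebra B L] (hBL : Function.Injective (algebraMap B L))
    (α : R →+* B) [IsLocalHom α] (ψ : K →+* L) (hψ : Function.Surjective ψ)
    (hc : ∀ a, ψ (algebraMap R K a) = algebraMap B L (α a)) : Function.Bijective α := by
  constructor
  · rw [injective_iff_map_eq_zero]
    intro a ha
    have h1 : ψ (algebraMap R K a) = 0 := by rw [hc, ha, map_zero]
    have h2 : algebraMap R K a = 0 := (map_eq_zero ψ).mp h1
    exact (IsFractionRing.injective R K) (by rw [h2, map_zero])
  · intro b
    obtain ⟨c, hcb⟩ := hψ (algebraMap B L b)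
    have case1 : ∀ a : R, algebraMap R K a = c → ∃ a, α a = b := by
      intro a ha
      refine ⟨a, hBL ?_⟩
      rw [← hc, ha, hcb]
    rcases ValuationRing.isInteger_or_isInteger R c with ⟨a, ha⟩ | ⟨a, ha⟩
    · exact case1 a ha
    · by_cases hb : b = 0
      · exact ⟨0, by rw [hb, map_zero]⟩
      have hc0 : c ≠ 0 := by
        rintro rfl
        rw [map_zero] at hcb
        exact hb (hBL (by rw [← hcb, map_zero]))
      have h1 : α a * b = 1 := by
        apply hBL
        rw [map_mul, ← hc, ha, ← hcb, map_one, ← map_mul, inv_mul_cancel₀ hc0, map_one]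
      have hu : IsUnit (α a) := IsUnit.of_mul_eq_one _ h1
      have hua : IsUnit a := IsLocalHom.map_nonunit a hu
      obtain ⟨u, rfl⟩ := hua
      refine case1 (↑u⁻¹ : R) ?_
      have h2 : algebraMap R K (↑u⁻¹ : R) * algebraMap R K (u : R) = 1 := by
        rw [← map_mul, Units.inv_mul, map_one]
      rw [ha] at h2
      have h3 : algebraMap R K (↑u⁻¹ : R) = c := by
        have := congrArg (· * c) h2
        simp only [mul_assoc, inv_mul_cancel₀ hc0, mul_one, one_mul] at this
        exact this
      exact h3


/-- stalk maps of a birational morphism of integral schemes are bijective at points whose image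
has a valuation ring as local ring -/
theorem stalkMap_bijective {X Y : Scheme.{u}} [IsIntegral X] [IsIntegral Y] (f : X ⟶ Y)
    (e : f (genericPoint X) = genericPoint Y)
    (hbir : Function.Bijective (Y.presheaf.stalkSpecializes (specializes_of_eq e) ≫
      f.stalkMap (genericPoint X)).hom)
    (x : X) (hval : ValuationRing (Y.presheaf.stalk (f x))) :
    Function.Bijective (f.stalkMap x).hom := by
  refine bijective_of_valuationRing (K := Y.functionField) (L := X.functionField)
    (IsFractionRing.injective (X.presheaf.stalk x) X.functionField) (f.stalkMap x).hom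
    (Y.presheaf.stalkSpecializes (specializes_of_eq e) ≫ f.stalkMap (genericPoint X)).hom
    hbir.2 ?_
  intro a
  have hsp : genericPoint X ⤳ x := genericPoint_specializes x
  have hnat := f.stalkSpecializes_stalkMap _ _ hsp
  have h1 : Y.presheaf.stalkSpecializes (genericPoint_specializes (f x)) ≫
      Y.presheaf.stalkSpecializes (specializes_of_eq e) =
      Y.presheaf.stalkSpecializes (hsp.map f.continuous) :=
    Y.presheaf.stalkSpecializes_comp _ _
  have h2 : (Y.presheaf.stalkSpecializes (genericPoint_specializes (f x)) ≫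
      Y.presheaf.stalkSpecializes (specializes_of_eq e) ≫ f.stalkMap (genericPoint X)) =
      f.stalkMap x ≫ X.presheaf.stalkSpecializes hsp := by
    rw [← Category.assoc, h1]
    exact hnat
  exact congrArg (fun φ => φ.hom a) h2


theorem isDominant_specMap_of_injective {R S : CommRingCat.{u}} (φ : R ⟶ S)
    (h : Function.Injective φ.hom) : IsDominant (Spec.map φ) := by
  refine ⟨?_⟩
  change DenseRange (PrimeSpectrum.comap φ.hom)
  rw [PrimeSpectrum.denseRange_comap_iff_ker_le_nilRadical,
    (RingHom.injective_iff_ker_eq_bot _).mp h]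
  exact bot_le

/-- the canonical lift `Spec O_{Y,y} ⟶ X` through a point `x` over `y` with invertible stalk map -/
noncomputable def lift {X Y : Scheme.{u}} (f : X ⟶ Y) (y : Y) (x : X) (h : f x = y)
    [IsIso (f.stalkMap x)] : Spec (Y.presheaf.stalk y) ⟶ X :=
  Spec.map (Y.presheaf.stalkSpecializes (specializes_of_eq h.symm)) ≫
    Spec.map (inv (f.stalkMap x)) ≫ X.fromSpecStalk x

theorem lift_comp {X Y : Scheme.{u}} (f : X ⟶ Y) (y : Y) (x : X) (h : f x = y)
    [IsIso (f.stalkMap x)] : lift f y x h ≫ f = Y.fromSpecStalk y := by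
  unfold lift
  rw [Category.assoc, Category.assoc, ← Scheme.SpecMap_stalkMap_fromSpecStalk,
    ← Spec.map_comp_assoc (f.stalkMap x), IsIso.hom_inv_id, Spec.map_id, Category.id_comp,
    Scheme.SpecMap_stalkSpecializes_fromSpecStalk]

theorem lift_generic {X Y : Scheme.{u}} (f : X ⟶ Y) (y : Y) (x : X) (h : f x = y)
    [IsIso (f.stalkMap x)] (η : X) (hη : η ⤳ x) (hy : f η ⤳ y) :
    Spec.map (Y.presheaf.stalkSpecializes hy ≫ f.stalkMap η) ≫ lift f y x h =
      X.fromSpecStalk η := by
  unfold lift
  have h1 : Y.presheaf.stalkSpecializes (specializes_of_eq h.symm) ≫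
      Y.presheaf.stalkSpecializes hy = Y.presheaf.stalkSpecializes (hη.map f.continuous) :=
    Y.presheaf.stalkSpecializes_comp _ _
  have h2 : Y.presheaf.stalkSpecializes (specializes_of_eq h.symm) ≫
      Y.presheaf.stalkSpecializes hy ≫ f.stalkMap η =
      f.stalkMap x ≫ X.presheaf.stalkSpecializes hη := by
    rw [← Category.assoc, h1]
    exact f.stalkSpecializes_stalkMap _ _ hη
  rw [← Spec.map_comp_assoc, h2, Spec.map_comp_assoc, ← Spec.map_comp_assoc _ (f.stalkMap x),
    IsIso.inv_hom_id, Spec.map_id, Category.id_comp,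
    Scheme.SpecMap_stalkSpecializes_fromSpecStalk]

theorem lift_closedPoint {X Y : Scheme.{u}} (f : X ⟶ Y) (x : X) [IsIso (f.stalkMap x)] :
    ∀ (y : Y) (h : f x = y), lift f y x h (closedPoint (Y.presheaf.stalk y)) = x := by
  rintro _ rfl
  unfold lift
  have h0 : Y.presheaf.stalkSpecializes (specializes_of_eq (rfl : f x = f x).symm) = 𝟙 _ :=
    Y.presheaf.stalkSpecializes_refl (f x)
  rw [h0, Spec.map_id, Category.id_comp]
  change X.fromSpecStalk x (Spec.map (inv (f.stalkMap x))
    (closedPoint (Y.presheaf.stalk (f x)))) = x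
  haveI : IsLocalHom (inv (f.stalkMap x)).hom := isLocalHom_of_isIso _
  have h1 : Spec.map (inv (f.stalkMap x)) (closedPoint (Y.presheaf.stalk (f x))) =
      closedPoint (X.presheaf.stalk x) :=
    IsLocalRing.comap_closedPoint (inv (f.stalkMap x)).hom
  rw [h1]
  exact Scheme.fromSpecStalk_closedPoint


/-- a separated morphism of integral schemes, dominant and with all stalk maps invertible, is
injective on points -/
theorem injective_of_isIso_stalkMap {X Y : Scheme.{u}} [IsIntegral X] [IsIntegral Y] (f : X ⟶ Y)
    [IsSeparated f] (e : f (genericPoint X) = genericPoint Y)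
    (hiso : ∀ x, IsIso (f.stalkMap x)) : Function.Injective f := by
  intro x₁ x₂ h
  obtain ⟨y, hy2⟩ : ∃ y, f x₂ = y := ⟨_, rfl⟩
  have hy1 : f x₁ = y := h.trans hy2
  have hyη : f (genericPoint X) ⤳ y := by
    rw [e]; exact genericPoint_specializes y
  haveI : IsDominant (Spec.map (Y.presheaf.stalkSpecializes hyη ≫
      f.stalkMap (genericPoint X))) := by
    apply isDominant_specMap_of_injective
    rw [CommRingCat.hom_comp, RingHom.coe_comp]
    exact Function.Injective.comp
      ((ConcreteCategory.isIso_iff_bijective _).mp (hiso (genericPoint X))).1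
      (CurveFlat.stalkSpecializes_injective Y hyη)
  have key : lift f y x₁ hy1 = lift f y x₂ hy2 := by
    refine ext_of_isDominant_of_isSeparated f ?_
      (Spec.map (Y.presheaf.stalkSpecializes hyη ≫ f.stalkMap (genericPoint X))) ?_
    · rw [lift_comp, lift_comp]
    · rw [lift_generic f y x₁ hy1 _ (genericPoint_specializes x₁) hyη,
        lift_generic f y x₂ hy2 _ (genericPoint_specializes x₂) hyη]
  rw [← lift_closedPoint f x₁ y hy1, ← lift_closedPoint f x₂ y hy2, key]

/-- a birational, separated, locally finitely presented morphism of integral schemes whose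
target has valuation rings as local rings is an open immersion -/
theorem isOpenImmersion_of_birational {X Y : Scheme.{u}} [IsIntegral X] [IsIntegral Y]
    (f : X ⟶ Y) [IsSeparated f] [LocallyOfFinitePresentation f]
    (e : f (genericPoint X) = genericPoint Y)
    (hbir : Function.Bijective (Y.presheaf.stalkSpecializes (specializes_of_eq e) ≫
      f.stalkMap (genericPoint X)).hom)
    (hval : ∀ y : Y, ValuationRing (Y.presheaf.stalk y)) : IsOpenImmersion f := by
  have hbij : ∀ x, Function.Bijective (f.stalkMap x).hom := fun x =>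
    stalkMap_bijective f e hbir x (hval _)
  have hiso : ∀ x, IsIso (f.stalkMap x) := fun x =>
    (ConcreteCategory.isIso_iff_bijective _).mpr (hbij x)
  haveI : Flat f := Flat.of_stalkMap f fun x => RingHom.Flat.of_bijective (hbij x)
  have hopen : IsOpenMap f := f.isOpenMap
  have hinj := injective_of_isIso_stalkMap f e hiso
  exact IsOpenImmersion.of_isIso_stalkMap f
    (Topology.IsOpenEmbedding.of_continuous_injective_isOpenMap f.continuous hinj hopen)


/-- S14519 -/
theorem s14519 (k : Type u) [Field k]
    (X Y : Scheme.{u}) (p : X ⟶ Spec (CommRingCat.of k)) (q : Y ⟶ Spec (CommRingCat.of k))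
    [IsIntegral X] [IsSeparated p] [LocallyOfFiniteType p]
    [IsIntegral Y] [Smooth q] (hdimY : topologicalKrullDim Y = 1)
    (f : X ⟶ Y) (hf : f ≫ q = p)
    (e : f (genericPoint X) = genericPoint Y)
    (hbir : Function.Bijective (Y.presheaf.stalkSpecializes (specializes_of_eq e) ≫
      f.stalkMap (genericPoint X)).hom) :
    IsOpenImmersion f := by
  haveI : IsLocallyNoetherian (Spec (CommRingCat.of k)) := isLocallyNoetherian_Spec.mpr
    (inferInstanceAs (IsNoetherianRing k))
  haveI : IsLocallyNoetherian Y := LocallyOfFiniteType.isLocallyNoetherian q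
  haveI : IsSeparated (f ≫ q) := hf ▸ inferInstance
  haveI : IsSeparated f := IsSeparated.of_comp f q
  haveI : LocallyOfFiniteType (f ≫ q) := hf ▸ inferInstance
  haveI : LocallyOfFiniteType f := locallyOfFiniteType_of_comp f q
  refine isOpenImmersion_of_birational f e hbir fun y => ?_
  haveI := Groth.Agent.Helper2.SmoothRegSch.stalk_regular_of_smooth k Y q y
  obtain ⟨hdom, hval⟩ := DimOneExt.valuationRing_of_regular (Y.presheaf.stalk y)
    ((CurveFlat.ringKrullDim_stalk_le Y y).trans hdimY.le)
  exact hval

end Groth.Agent.Helper3.BirCurve
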