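import Mathlib

/-!
If `x ⤳ x'` lie in the same fibre of `f` and the stalk map of `f` at `x` is bijective then `x = x'`.
-/

set_option autoImplicit false

namespace Groth.Agent.Helper3.FibrePt

open AlgebraicGeometry CategoryTheory Limits IsLocalRing

universe u

/-- ring-level: `A → B → C` with `B` local, composite bijective ⇒ `B → C` is a local hom. -/
lemma isLocalHom_of_comp_bijective {A B C : Type*} [CommRing A] [CommRing B] [CommRing C]
    [IsLocalRing B] [Nontrivial C] (φ : A →+* B) (sp : B →+* C)
    (hb : Function.Bijective (sp.comp φ)) : IsLocalHom sp := by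
  refine ⟨fun b hbu => ?_⟩
  obtain ⟨a, ha⟩ := hb.2 (sp b)
  have hau : IsUnit a := by
    let e : A ≃+* C := RingEquiv.ofBijective (sp.comp φ) hb
    have : IsUnit (e a) := by
      change IsUnit ((sp.comp φ) a)
      rw [ha]; exact hbu
    exact (isUnit_map_iff e a).mp this
  have hc : sp (b - φ a) = 0 := by
    rw [map_sub, ← ha, RingHom.comp_apply, sub_self]
  have hnu : ¬ IsUnit (b - φ a) := by
    intro hu
    have := hu.map sp
    rw [hc] at this
    exact not_isUnit_zero this
  have hsum : b = φ a + (b - φ a) := by ring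
  by_contra hbn
  have h1 : b ∈ maximalIdeal B := hbn
  have h2 : b - φ a ∈ maximalIdeal B := hnu
  have h3 : φ a ∈ maximalIdeal B := by
    have := Ideal.sub_mem _ h1 h2
    rwa [sub_sub_cancel] at this
  exact h3 (hau.map φ)

theorem eq_of_specializes_of_bijective {X Y : Scheme.{u}} (f : X ⟶ Y) {x x' : X} (h : x ⤳ x')
    (hf : f x = f x') (hb : Function.Bijective (f.stalkMap x).hom) : x = x' := by
  have hcomm := f.stalkSpecializes_stalkMap x x' h
  have hins : Inseparable (f x) (f x') := by rw [hf]
  have hiso : IsIso (Y.presheaf.stalkSpecializes (f.base.hom.map_specializes h)) :=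
    inferInstanceAs (IsIso (Y.presheaf.stalkCongr hins.symm).hom)
  have hb1 : Function.Bijective
      (Y.presheaf.stalkSpecializes (f.base.hom.map_specializes h) ≫ f.stalkMap x).hom := by
    rw [CommRingCat.hom_comp]
    exact hb.comp ((ConcreteCategory.isIso_iff_bijective _).mp hiso)
  rw [hcomm, CommRingCat.hom_comp] at hb1
  have hloc : IsLocalHom (X.presheaf.stalkSpecializes h).hom :=
    isLocalHom_of_comp_bijective _ _ hb1
  have key : (Spec.map (X.presheaf.stalkSpecializes h) ≫ X.fromSpecStalk x')
      (closedPoint (X.presheaf.stalk x)) = X.fromSpecStalk x (closedPoint (X.presheaf.stalk x)) := by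
    rw [X.SpecMap_stalkSpecializes_fromSpecStalk h]
  have h1 : X.fromSpecStalk x' (Spec.map (X.presheaf.stalkSpecializes h)
      (closedPoint (X.presheaf.stalk x))) = x :=
    key.trans Scheme.fromSpecStalk_closedPoint
  have h2 : Spec.map (X.presheaf.stalkSpecializes h) (closedPoint (X.presheaf.stalk x)) =
      closedPoint (X.presheaf.stalk x') :=
    IsLocalRing.comap_closedPoint (X.presheaf.stalkSpecializes h).hom
  rw [h2, Scheme.fromSpecStalk_closedPoint] at h1
  exact h1.symm

end Groth.Agent.Helper3.FibrePt
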