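import Mathlib
import Groth.Agent.Helper3.BirDense2
import Groth.Agent.Helper3.FibrePt
import Groth.Agent.Helper4.QCClosure

/-!
Birational morphisms which are quasi-compact or separated restrict to an isomorphism
`f⁻¹(V) ⟶ V` over a dense open `V` of the target.
-/

set_option autoImplicit false

namespace Groth.Agent.Helper3.BirDense3

open AlgebraicGeometry CategoryTheory Limits

universe u

/-- A dense open subset of a sober space with finitely many irreducible components contains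
every generic point of an irreducible component. -/
lemma genPt_mem_of_dense {X : Type*} [TopologicalSpace X] [QuasiSober X] [T0Space X]
    (hfin : (irreducibleComponents X).Finite) {U : Set X} (hU : IsOpen U) (hd : Dense U)
    {x : X} (hx : closure {x} ∈ irreducibleComponents X) : x ∈ U := by
  classical
  let G : Set X := {x | closure {x} ∈ irreducibleComponents X}
  have hGfin : G.Finite := GenPts.finite_genPts hfin
  let C : Set X := ⋃ x' ∈ G \ {x}, closure {x'}
  have hC : IsClosed C :=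
    (hGfin.subset Set.sdiff_subset).isClosed_biUnion fun _ _ => isClosed_closure
  have hxC : x ∉ C := by
    intro hmem
    simp only [C, Set.mem_iUnion] at hmem
    obtain ⟨x', ⟨hx'G, hne⟩, hxx'⟩ := hmem
    exact hne (GenPts.eq_of_specializes hx (specializes_iff_mem_closure.mpr hxx'))
  obtain ⟨w, hwC, hwU⟩ := hd.inter_open_nonempty Cᶜ hC.isOpen_compl ⟨x, hxC⟩
  obtain ⟨x'', hx'', hxw⟩ := GenPts.exists_genPt_specializes w
  have : x'' = x := by
    by_contra hne
    exact hwC (Set.mem_biUnion (⟨hx'', hne⟩ : x'' ∈ G \ {x})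
      (specializes_iff_mem_closure.mp hxw))
  subst this
  exact hxw.mem_open hU hwU

lemma isIso_morphismRestrict_of_le {X Y : Scheme.{u}} (f : X ⟶ Y) (U : X.Opens) (V : Y.Opens)
    (hUV : U ≤ f ⁻¹ᵁ V) [IsIso (f.resLE V U hUV)] (V' : Y.Opens) (hV' : V' ≤ V)
    (hpre : f ⁻¹ᵁ V' ≤ U) : IsIso (f ∣_ V') := by
  have hUimm : IsOpenImmersion (U.ι ≫ f) := by
    rw [← Scheme.Hom.resLE_comp_ι f hUV]
    infer_instance
  have h1 : (f ∣_ V') ≫ V'.ι = X.homOfLE hpre ≫ U.ι ≫ f := by
    rw [morphismRestrict_ι, ← Category.assoc, X.homOfLE_ι]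
  have h2 : IsOpenImmersion ((f ∣_ V') ≫ V'.ι) := by
    rw [h1]; infer_instance
  have h3 : IsOpenImmersion (f ∣_ V') := IsOpenImmersion.of_comp _ V'.ι
  rw [isIso_iff_isOpenImmersion_and_surjective]
  refine ⟨h3, ⟨?_⟩⟩
  rintro ⟨v, hv⟩
  have hvV : v ∈ V := hV' hv
  obtain ⟨⟨u, hu⟩, hfu⟩ := (f.resLE V U hUV).surjective ⟨v, hvV⟩
  have hfu' : f u = v := by
    have h4 := congrArg (fun w : ↥V => (w : Y)) hfu
    have h5 : ((f.resLE V U hUV) ⟨u, hu⟩).1 = f u := by
      have := congrArg (fun g : (U : Scheme) ⟶ Y => g ⟨u, hu⟩)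
        (Scheme.Hom.resLE_comp_ι f hUV)
      exact this
    exact h5.symm.trans h4
  have hu' : u ∈ f ⁻¹ᵁ V' := by
    show f u ∈ V'
    rw [hfu']; exact hv
  refine ⟨⟨u, hu'⟩, ?_⟩
  apply Subtype.ext
  exact (morphismRestrict_base_coe f V' ⟨u, hu'⟩).trans hfu'

lemma genPt_notMem_closure_image {X Y : Scheme.{u}} (f : X ⟶ Y) [QuasiCompact f]
    (hiso : ∀ x : X, closure {x} ∈ irreducibleComponents ↥X →
      Function.Bijective (f.stalkMap x).hom)
    (U : X.Opens) (hU : ∀ x : X, closure {x} ∈ irreducibleComponents ↥X → x ∈ U) {η : Y}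
    (hη : closure {η} ∈ irreducibleComponents ↥Y) :
    η ∉ closure ((fun x : X => f x) '' ((U : Set X)ᶜ)) := by
  intro hmem
  let Zc : TopologicalSpace.Closeds X := ⟨(U : Set X)ᶜ, U.2.isClosed_compl⟩
  let I := Scheme.IdealSheafData.vanishingIdeal Zc
  have hr : Set.range I.subschemeι = (U : Set X)ᶜ := by
    rw [Scheme.IdealSheafData.range_subschemeι, Scheme.IdealSheafData.coe_support_vanishingIdeal]
    rfl
  have hr2 : Set.range (I.subschemeι ≫ f) = (fun x : X => f x) '' ((U : Set X)ᶜ) := by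
    rw [← hr, ← Set.range_comp]; rfl
  rw [← hr2] at hmem
  obtain ⟨t, ht⟩ :=
    Groth.Agent.Helper4.exists_specializes_of_mem_closure_range (I.subschemeι ≫ f) η hmem
  have hzU : I.subschemeι t ∉ U := by
    have : I.subschemeι t ∈ Set.range I.subschemeι := ⟨t, rfl⟩
    rw [hr] at this
    exact this
  have ht' : f (I.subschemeι t) ⤳ η := ht
  have hfz : f (I.subschemeι t) = η := GenPts.eq_of_specializes hη ht'
  obtain ⟨x, hx, hxz⟩ := GenPts.exists_genPt_specializes (I.subschemeι t)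
  have hfx : f x = η := GenPts.eq_of_specializes hη (hfz ▸ hxz.map f.continuous)
  have : x = I.subschemeι t :=
    FibrePt.eq_of_specializes_of_bijective f hxz (hfx.trans hfz.symm) (hiso x hx)
  exact hzU (this ▸ hU x hx)

lemma preimage_le_of_isSeparated {X Y : Scheme.{u}} (f : X ⟶ Y) [IsSeparated f] (U : X.Opens)
    (V : Y.Opens) (hUV : U ≤ f ⁻¹ᵁ V) [IsIso (f.resLE V U hUV)] (hU : Dense (U : Set X)) :
    f ⁻¹ᵁ V ≤ U := by
  let s : (V : Scheme) ⟶ (f ⁻¹ᵁ V : Scheme) := inv (f.resLE V U hUV) ≫ X.homOfLE hUV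
  have hs : s ≫ (f ∣_ V) = 𝟙 _ := by
    have : X.homOfLE hUV ≫ (f ∣_ V) = f.resLE V U hUV := rfl
    rw [Category.assoc, this, IsIso.inv_hom_id]
  have hgs : f.resLE V U hUV ≫ s = X.homOfLE hUV := IsIso.hom_inv_id_assoc _ _
  have h1 : IsClosedImmersion (s ≫ (f ∣_ V)) := by rw [hs]; infer_instance
  have hcl : IsClosedImmersion s := IsClosedImmersion.of_comp s (f ∣_ V)
  have hclosed : IsClosed (Set.range s) := s.isClosedEmbedding.isClosed_range
  -- points of `f⁻¹V` lying in `U` are in the range of `s`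
  have hmem : ∀ w : ↥(f ⁻¹ᵁ V), w.1 ∈ U → w ∈ Set.range s := by
    intro w hw
    refine ⟨(f.resLE V U hUV) ⟨w.1, hw⟩, ?_⟩
    have h2 := congrArg (fun g : (U : Scheme) ⟶ (f ⁻¹ᵁ V : Scheme) => g ⟨w.1, hw⟩) hgs
    have h3 : (X.homOfLE hUV) ⟨w.1, hw⟩ = w := by
      apply Subtype.ext
      have := congrArg (fun g : (U : Scheme) ⟶ X => g ⟨w.1, hw⟩) (X.homOfLE_ι hUV)
      exact this
    exact h2.trans h3
  intro z hz
  by_contra hzU
  let O : Set ↥(f ⁻¹ᵁ V) := (Set.range s)ᶜ
  have hO : IsOpen O := hclosed.isOpen_compl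
  have hO' : IsOpen (Subtype.val '' O : Set X) :=
    (f ⁻¹ᵁ V).2.isOpenEmbedding_subtypeVal.isOpenMap _ hO
  have hzO : (⟨z, hz⟩ : ↥(f ⁻¹ᵁ V)) ∈ O := by
    rintro ⟨v, hv⟩
    -- `s v` lies in `U`
    obtain ⟨u, rfl⟩ := (f.resLE V U hUV).surjective v
    have h2 := congrArg (fun g : (U : Scheme) ⟶ (f ⁻¹ᵁ V : Scheme) => g u) hgs
    have h4 : s ((f.resLE V U hUV) u) = (X.homOfLE hUV) u := h2
    rw [h4] at hv
    have h3 : ((X.homOfLE hUV) u).1 = u.1 := by
      have := congrArg (fun g : (U : Scheme) ⟶ X => g u) (X.homOfLE_ι hUV)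
      exact this
    rw [hv] at h3
    have h5 : z = u.1 := h3
    exact hzU (h5 ▸ u.2)
  obtain ⟨w', ⟨w, hwO, rfl⟩, hwU⟩ := hU.inter_open_nonempty _ hO' ⟨z, ⟨⟨z, hz⟩, hzO, rfl⟩⟩
  exact hwO (hmem w hwU)

theorem exists_dense_isIso_morphismRestrict {X Y : Scheme.{u}} (f : X ⟶ Y)
    (hXfin : (irreducibleComponents ↥X).Finite) (hYfin : (irreducibleComponents ↥Y).Finite)
    (hbij : Set.BijOn (fun x : X => f.base x) {x : X | closure {x} ∈ irreducibleComponents ↥X}
      {y : Y | closure {y} ∈ irreducibleComponents ↥Y})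
    (hiso : ∀ x : X, closure {x} ∈ irreducibleComponents ↥X → IsIso (f.stalkMap x))
    (hf₁ : QuasiCompact f ∨ IsSeparated f)
    (hf₂ : (LocallyOfFiniteType f ∧ IsReduced Y) ∨ LocallyOfFinitePresentation f) :
    ∃ V : Y.Opens, Dense (V : Set ↥Y) ∧ IsIso (f ∣_ V) := by
  obtain ⟨U, V, hUV, hU, hV, hg⟩ :=
    BirDense.exists_dense_opens_isIso_of_birational f hXfin hYfin hbij hiso hf₂
  rcases hf₁ with hqc | hsep
  · have hUg : ∀ x : X, closure {x} ∈ irreducibleComponents ↥X → x ∈ U :=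
      fun x hx => genPt_mem_of_dense hXfin U.2 hU hx
    have hb : ∀ x : X, closure {x} ∈ irreducibleComponents ↥X →
        Function.Bijective (f.stalkMap x).hom := fun x hx =>
      (ConcreteCategory.isIso_iff_bijective _).mp (hiso x hx)
    let E : Set Y := closure ((fun x : X => f x) '' ((U : Set X)ᶜ))
    let V' : Y.Opens := V ⊓ ⟨Eᶜ, isClosed_closure.isOpen_compl⟩
    refine ⟨V', ?_, ?_⟩
    · refine GenPts.dense_of_genPts_subset fun η hη =>
        ⟨genPt_mem_of_dense hYfin V.2 hV hη, genPt_notMem_closure_image f hb U hUg hη⟩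
    · refine isIso_morphismRestrict_of_le f U V hUV V' inf_le_left ?_
      intro z hz
      by_contra hzU
      exact hz.2 (subset_closure ⟨z, hzU, rfl⟩)
  · exact ⟨V, hV, isIso_morphismRestrict_of_le f U V hUV V le_rfl
      (preimage_le_of_isSeparated f U V hUV hU)⟩

end Groth.Agent.Helper3.BirDense3
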