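import Mathlib
import Groth.Agent.Helper3.SchDense

set_option autoImplicit false
set_option linter.style.haveILetI false
set_option linter.unusedSectionVars false
set_option linter.unusedVariables false
set_option linter.deprecated false
set_option linter.style.haveILetI false
set_option linter.unusedSectionVars false
set_option linter.unusedVariables false

universe u v w

namespace Groth.Agent.Helper3.BirEt1

open TensorProduct

/-- A flat local homomorphism which is an epimorphism after inverting each of finitely many
elements `a i`, whose target has no simultaneous `a i`-power torsion, is bijective. -/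
theorem bijective_of_flat_local {A B : Type u} [CommRing A] [CommRing B] [IsLocalRing A]
    [IsLocalRing B] (φ : A →+* B) [IsLocalHom φ] (hflat : φ.Flat)
    {ι : Type*} [Fintype ι] [DecidableEq ι] (a : ι → A)
    (htors : ∀ (N : ℕ) (b : B), (∀ i, φ (a i) ^ N * b = 0) → b = 0)
    (hepi : ∀ (i : ι) (C : Type u) [CommRing C] (g h : B →+* C), g.comp φ = h.comp φ →
      IsUnit (g (φ (a i))) → g = h) :
    Function.Bijective φ := by
  algebraize [φ]
  have hfl : Module.Flat A B := hflat
  have hloc : IsLocalHom (algebraMap A B) := by
    rw [RingHom.algebraMap_toAlgebra]; infer_instance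
  have hff : Module.FaithfullyFlat A B := Module.FaithfullyFlat.of_flat_of_isLocalHom
  have key : ∀ b : B, (1 : B) ⊗ₜ[A] b = b ⊗ₜ[A] 1 := by
    intro b
    set z : B ⊗[A] B := b ⊗ₜ[A] 1 - 1 ⊗ₜ[A] b with hz
    have h1 : ∀ i, ∃ k : ℕ, (algebraMap B (B ⊗[A] B) (φ (a i))) ^ k * z = 0 := by
      intro i
      let C := Localization.Away (algebraMap B (B ⊗[A] B) (φ (a i)))
      let g : B →+* C := (algebraMap (B ⊗[A] B) C).comp
        (Algebra.TensorProduct.includeLeftRingHom)
      let h : B →+* C := (algebraMap (B ⊗[A] B) C).comp
        (Algebra.TensorProduct.includeRight (R := A) (A := B) (B := B)).toRingHom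
      have hgh : g.comp φ = h.comp φ := by
        ext r
        simp only [g, h, RingHom.comp_apply]
        congr 1
        change (algebraMap A B r) ⊗ₜ[A] (1 : B) = (1 : B) ⊗ₜ[A] (algebraMap A B r)
        rw [Algebra.algebraMap_eq_smul_one, TensorProduct.smul_tmul]
      have hu : IsUnit (g (φ (a i))) :=
        IsLocalization.Away.algebraMap_isUnit (algebraMap B (B ⊗[A] B) (φ (a i)))
      have e := hepi i C g h hgh hu
      have hz0 : algebraMap (B ⊗[A] B) C z = 0 := by
        have e' := RingHom.congr_fun e b
        simp only [g, h, RingHom.comp_apply] at e'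
        rw [hz, map_sub]
        exact sub_eq_zero.mpr e'
      rw [IsLocalization.map_eq_zero_iff (Submonoid.powers
        (algebraMap B (B ⊗[A] B) (φ (a i))))] at hz0
      obtain ⟨⟨_, k, rfl⟩, hk⟩ := hz0
      exact ⟨k, hk⟩
    choose k hk using h1
    have h2 : ∀ i, algebraMap B (B ⊗[A] B) (φ (a i) ^ (Finset.univ.sup k)) * z = 0 := by
      intro i
      have hle : k i ≤ Finset.univ.sup k := Finset.le_sup (Finset.mem_univ i)
      obtain ⟨m, hm⟩ := Nat.exists_eq_add_of_le hle
      rw [map_pow, hm, pow_add, mul_comm (_ ^ k i), mul_assoc, hk i, mul_zero]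
    have hz' := Groth.Agent.Helper3.SchDense.flat_core (A := B) (B := B ⊗[A] B)
      (fun i => φ (a i) ^ (Finset.univ.sup k)) (fun r hr => htors _ r hr) z h2
    exact (sub_eq_zero.mp hz').symm
  have hepiAB : Algebra.IsEpi A B := (Algebra.isEpi_iff_forall_one_tmul_eq A B).mpr key
  have hbij : Function.Bijective (algebraMap B (B ⊗[A] B)) := by
    have hinj := hepiAB.injective_lift_mul
    have hl : ∀ b : B, (TensorProduct.lift (LinearMap.mul A B)) (algebraMap B (B ⊗[A] B) b) = b := by
      intro b
      change (TensorProduct.lift (LinearMap.mul A B)) (b ⊗ₜ[A] (1 : B)) = b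
      simp
    constructor
    · intro b b' hbb
      have := congrArg (TensorProduct.lift (LinearMap.mul A B)) hbb
      rwa [hl, hl] at this
    · intro x
      refine ⟨TensorProduct.lift (LinearMap.mul A B) x, ?_⟩
      apply hinj
      rw [hl]
  have := Module.FaithfullyFlat.bijective_of_tensorProduct (R := A) (S := B) (T := B) hbij
  rwa [RingHom.algebraMap_toAlgebra] at this

end Groth.Agent.Helper3.BirEt1
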