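import Mathlib
import Groth.Agent.Helper3.SchDense

set_option autoImplicit false
set_option linter.style.haveILetI false
set_option linter.unusedSectionVars false
set_option linter.unusedVariables false
set_option linter.deprecated false
set_option linter.style.haveILetI false
set_option linter.unusedSectionVars false
set_option linter.unusedVariables false

universe u v w

namespace Groth.Agent.Helper3.BirEt2

open AlgebraicGeometry CategoryTheory CategoryTheory.Limits TopologicalSpace Opposite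

/-- If `f` is an isomorphism over `U` and `D(a) ≤ U`, then the stalk map of `f` at `x` is an
epimorphism after inverting `a`. -/
theorem epi_stalk {X S : Scheme.{u}} (f : X ⟶ S) (U : S.Opens) (hiso : IsIso (f ∣_ U)) (x : X)
    {V : S.Opens} (hV : IsAffineOpen V) (hxV : f x ∈ V) (a : Γ(S, V)) (ha : S.basicOpen a ≤ U)
    (C : Type u) [CommRing C] (g h : X.presheaf.stalk x →+* C)
    (hgh : g.comp (f.stalkMap x).hom = h.comp (f.stalkMap x).hom)
    (hu : IsUnit (g ((f.stalkMap x).hom (S.presheaf.germ V (f x) hxV a)))) : g = h := by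
  let G : Spec (.of C) ⟶ X := Spec.map (CommRingCat.ofHom g) ≫ X.fromSpecStalk x
  let H : Spec (.of C) ⟶ X := Spec.map (CommRingCat.ofHom h) ≫ X.fromSpecStalk x
  have hG : G ≫ f = Spec.map (f.stalkMap x ≫ CommRingCat.ofHom g) ≫ S.fromSpecStalk (f x) := by
    simp only [G, Category.assoc]
    rw [← Scheme.SpecMap_stalkMap_fromSpecStalk, ← Spec.map_comp_assoc]
    rfl
  have hH : H ≫ f = Spec.map (f.stalkMap x ≫ CommRingCat.ofHom h) ≫ S.fromSpecStalk (f x) := by
    simp only [H, Category.assoc]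
    rw [← Scheme.SpecMap_stalkMap_fromSpecStalk, ← Spec.map_comp_assoc]
    rfl
  have hcomp : f.stalkMap x ≫ CommRingCat.ofHom g = f.stalkMap x ≫ CommRingCat.ofHom h := by
    ext r
    exact RingHom.congr_fun hgh r
  have hGH : G ≫ f = H ≫ f := by rw [hG, hH, hcomp]
  have hGU : ∀ c, f (G c) ∈ U := by
    intro c
    apply ha
    have e1 : f (G c) = (G ≫ f) c := rfl
    rw [e1, hG, ← hV.fromSpecStalk_eq_fromSpecStalk hxV, IsAffineOpen.fromSpecStalk,
      ← Spec.map_comp_assoc]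
    rw [Scheme.Hom.comp_apply]
    change _ ∈ hV.fromSpec ⁻¹ᵁ S.basicOpen a
    rw [hV.fromSpec_preimage_basicOpen]
    change a ∉ _
    intro hmem
    have hmem' : g ((f.stalkMap x).hom (S.presheaf.germ V (f x) hxV a)) ∈ c.asIdeal := hmem
    exact c.2.ne_top (Ideal.eq_top_of_isUnit_mem _ hmem' hu)
  have hHU : ∀ c, f (H c) ∈ U := by
    intro c
    have e1 : f (H c) = (H ≫ f) c := rfl
    rw [e1, ← hGH]
    exact hGU c
  have hrG : Set.range G ⊆ Set.range (f ⁻¹ᵁ U).ι := by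
    rintro _ ⟨c, rfl⟩
    rw [Scheme.Opens.range_ι]
    exact hGU c
  have hrH : Set.range H ⊆ Set.range (f ⁻¹ᵁ U).ι := by
    rintro _ ⟨c, rfl⟩
    rw [Scheme.Opens.range_ι]
    exact hHU c
  let G' := IsOpenImmersion.lift (f ⁻¹ᵁ U).ι G hrG
  let H' := IsOpenImmersion.lift (f ⁻¹ᵁ U).ι H hrH
  have hG' : G' ≫ (f ⁻¹ᵁ U).ι = G := IsOpenImmersion.lift_fac _ _ _
  have hH' : H' ≫ (f ⁻¹ᵁ U).ι = H := IsOpenImmersion.lift_fac _ _ _
  have hGH' : G' = H' := by
    haveI := hiso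
    rw [← cancel_mono (f ∣_ U), ← cancel_mono U.ι, Category.assoc, Category.assoc,
      morphismRestrict_ι, ← Category.assoc, ← Category.assoc, hG', hH', hGH]
  have hGH2 : G = H := by rw [← hG', ← hH', hGH']
  have h3 : Spec.map (CommRingCat.ofHom g) = Spec.map (CommRingCat.ofHom h) := by
    rw [← cancel_mono (X.fromSpecStalk x)]
    exact hGH2
  have h4 := Spec.map_injective h3
  exact congrArg CommRingCat.Hom.hom h4

/-- Schematic density of `f ⁻¹ᵁ U`: the stalk at `x` has no simultaneous torsion for a finite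
family of functions on the base whose basic opens cover `U ⊓ V`. -/
theorem tors_stalk {X S : Scheme.{u}} (f : X ⟶ S) (U : S.Opens)
    (hdense : CInt.IsSchematicallyDense (f ⁻¹ᵁ U)) (x : X)
    {V : S.Opens} (hxV : f x ∈ V) (T : Finset Γ(S, V))
    (hT : ∀ y ∈ U ⊓ V, ∃ t ∈ T, y ∈ S.basicOpen t) (N : ℕ)
    (b : X.presheaf.stalk x)
    (hb : ∀ t ∈ T, ((f.stalkMap x).hom (S.presheaf.germ V (f x) hxV t)) ^ N * b = 0) : b = 0 := by
  classical
  obtain ⟨W', hxW', b', rfl⟩ := X.presheaf.germ_exist b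
  obtain ⟨_, ⟨W, hW, rfl⟩, hxW, hWle⟩ :=
    X.isBasis_affineOpens.exists_subset_of_mem_open (show x ∈ W' ⊓ f ⁻¹ᵁ V from ⟨hxW', hxV⟩)
      (W' ⊓ f ⁻¹ᵁ V).2
  replace hW : IsAffineOpen W := hW
  have hWW' : W ≤ W' := fun y hy => (hWle hy).1
  have hWV : W ≤ f ⁻¹ᵁ V := fun y hy => (hWle hy).2
  let bW : Γ(X, W) := X.presheaf.map (homOfLE hWW').op b'
  have ebW : X.presheaf.germ W x hxW bW = X.presheaf.germ W' x hxW' b' :=
    TopCat.Presheaf.germ_res_apply _ _ _ _ _
  rw [← ebW] at hb ⊢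
  let ψ : Γ(S, V) →+* Γ(X, W) := (f.appLE V W hWV).hom
  have hψ : ∀ t, X.presheaf.germ W x hxW (ψ t) =
      (f.stalkMap x).hom (S.presheaf.germ V (f x) hxV t) := by
    intro t
    have := Scheme.Hom.germ_stalkMap f V x hxV
    have h2 := congrArg (fun φ => φ.hom t) this
    simp only [CommRingCat.hom_comp, RingHom.comp_apply] at h2
    rw [h2]
    simp only [ψ, Scheme.Hom.appLE, CommRingCat.hom_comp, RingHom.comp_apply]
    exact TopCat.Presheaf.germ_res_apply _ _ _ _ _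
  letI : Algebra Γ(X, W) (X.presheaf.stalk x) := X.presheaf.algebra_section_stalk ⟨x, hxW⟩
  haveI : IsLocalization.AtPrime (X.presheaf.stalk x) (hW.primeIdealOf ⟨x, hxW⟩).asIdeal :=
    hW.isLocalization_stalk ⟨x, hxW⟩
  -- for each t, a denominator
  have h1 : ∀ t ∈ T, ∃ m : Γ(X, W), m ∈ (hW.primeIdealOf ⟨x, hxW⟩).asIdeal.primeCompl ∧
      m * (ψ t ^ N * bW) = 0 := by
    intro t ht
    have h0 : X.presheaf.germ W x hxW (ψ t ^ N * bW) = 0 := by
      rw [map_mul, map_pow, hψ]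
      exact hb t ht
    have h0' : algebraMap Γ(X, W) (X.presheaf.stalk x) (ψ t ^ N * bW) = 0 := h0
    rw [IsLocalization.map_eq_zero_iff (hW.primeIdealOf ⟨x, hxW⟩).asIdeal.primeCompl] at h0'
    obtain ⟨m, hm⟩ := h0'
    exact ⟨m.1, m.2, hm⟩
  choose! m hm1 hm2 using h1
  let u : Γ(X, W) := ∏ t ∈ T, m t
  have hu : u ∈ (hW.primeIdealOf ⟨x, hxW⟩).asIdeal.primeCompl :=
    Submonoid.prod_mem _ (fun t ht => hm1 t ht)
  have hr : ∀ t' ∈ T.image ψ, t' ^ N * (u * bW) = 0 := by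
    intro t' ht'
    obtain ⟨t, ht, rfl⟩ := Finset.mem_image.mp ht'
    obtain ⟨v, hv⟩ : m t ∣ u := Finset.dvd_prod_of_mem m ht
    rw [hv]
    calc ψ t ^ N * (m t * v * bW) = v * (m t * (ψ t ^ N * bW)) := by ring
      _ = 0 := by rw [hm2 t ht, mul_zero]
  have hcov : ∀ y ∈ W ⊓ f ⁻¹ᵁ U, ∃ t' ∈ T.image ψ, y ∈ X.basicOpen t' := by
    intro y hy
    obtain ⟨t, ht, hyt⟩ := hT (f y) ⟨hy.2, hWV hy.1⟩
    refine ⟨ψ t, Finset.mem_image_of_mem ψ ht, ?_⟩
    have e : X.basicOpen (ψ t) = W ⊓ X.basicOpen ((f.app V).hom t) := by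
      simp only [ψ, Scheme.Hom.appLE, CommRingCat.hom_comp, RingHom.comp_apply]
      exact Scheme.basicOpen_res _ _ _
    rw [e, ← Scheme.preimage_basicOpen]
    exact ⟨hy.1, hyt⟩
  have h0 := Groth.Agent.Helper3.SchDense.ann_trivial hdense (T.image ψ) hcov N (u * bW) hr
  have h2 : X.presheaf.germ W x hxW (u * bW) = 0 := by rw [h0, map_zero]
  rw [map_mul] at h2
  have hunit : IsUnit (X.presheaf.germ W x hxW u) :=
    IsLocalization.map_units (M := (hW.primeIdealOf ⟨x, hxW⟩).asIdeal.primeCompl)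
      (X.presheaf.stalk x) ⟨u, hu⟩
  exact hunit.mul_right_eq_zero.mp h2

end Groth.Agent.Helper3.BirEt2
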