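import Mathlib
import Groth.Agent.Helper3.BirEt1
import Groth.Agent.Helper3.BirEt2
import Groth.Agent.Helper3.LocalIso2
import Groth.Agent.Helper3.StalkNbhd2
import Groth.Agent.Lead.SecOpenImm

set_option autoImplicit false
set_option linter.style.haveILetI false
set_option linter.unusedSectionVars false
set_option linter.unusedVariables false
set_option linter.deprecated false
set_option linter.style.haveILetI false
set_option linter.unusedSectionVars false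
set_option linter.unusedVariables false

universe u v w

namespace Groth.Agent.Helper3.BirEt3

open AlgebraicGeometry CategoryTheory CategoryTheory.Limits TopologicalSpace Opposite

/-- restriction of an isomorphism over `U` to the open `V.ι ⁻¹ᵁ U` of `V` -/
theorem isIso_restrict_restrict {X S : Scheme.{u}} (f : X ⟶ S) (U V : S.Opens)
    (hiso : IsIso (f ∣_ U)) : IsIso ((f ∣_ V) ∣_ (V.ι ⁻¹ᵁ U)) := by
  have h1 : (MorphismProperty.isomorphisms Scheme.{u}) ((f ∣_ U) ∣_ (U.ι ⁻¹ᵁ V)) :=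
    IsZariskiLocalAtTarget.restrict (P := MorphismProperty.isomorphisms Scheme.{u})
      ((MorphismProperty.isomorphisms.iff _).mpr hiso) _
  have h2 := ((MorphismProperty.isomorphisms Scheme.{u}).arrow_mk_iso_iff
    (morphismRestrictRestrict f U (U.ι ⁻¹ᵁ V))).mp h1
  have e : U.ι ''ᵁ (U.ι ⁻¹ᵁ V) = V.ι ''ᵁ (V.ι ⁻¹ᵁ U) := by
    simp only [Scheme.Hom.image_preimage_eq_opensRange_inf, Scheme.Opens.opensRange_ι]
    exact inf_comm _ _
  have h3 := ((MorphismProperty.isomorphisms Scheme.{u}).arrow_mk_iso_iff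
    (morphismRestrictEq f e)).mp h2
  have h4 := ((MorphismProperty.isomorphisms Scheme.{u}).arrow_mk_iso_iff
    (morphismRestrictRestrict f V (V.ι ⁻¹ᵁ U))).mpr h3
  exact (MorphismProperty.isomorphisms.iff _).mp h4

/-- a local section through `x` gives an étale (even open-immersion) neighbourhood of `x` -/
theorem etale_nbhd_of_section {X S : Scheme.{u}} [IsNoetherian S] (f : X ⟶ S)
    [LocallyOfFiniteType f] (U : S.Opens)
    (hiso : IsIso (f ∣_ U)) (hdense : CInt.IsSchematicallyDense (f ⁻¹ᵁ U))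
    (x : X) (V : S.Opens) (hV : f x ∈ V) (σ : (V : Scheme.{u}) ⟶ X)
    (hσ : σ ≫ f = V.ι) (hx : σ ⟨f x, hV⟩ = x) :
    ∃ W : X.Opens, x ∈ W ∧ IsOpenImmersion (W.ι ≫ f) := by
  haveI : IsLocallyNoetherian X := LocallyOfFiniteType.isLocallyNoetherian f
  have hrange : Set.range σ ⊆ Set.range (f ⁻¹ᵁ V).ι := by
    rintro _ ⟨v, rfl⟩
    rw [Scheme.Opens.range_ι]
    change f (σ v) ∈ V
    have : f (σ v) = (σ ≫ f) v := rfl
    rw [this, hσ]
    exact v.2
  let σ' : (V : Scheme.{u}) ⟶ (f ⁻¹ᵁ V : Scheme.{u}) :=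
    IsOpenImmersion.lift (f ⁻¹ᵁ V).ι σ hrange
  have hσ'ι : σ' ≫ (f ⁻¹ᵁ V).ι = σ := IsOpenImmersion.lift_fac _ _ _
  have hσ' : σ' ≫ (f ∣_ V) = 𝟙 _ := by
    rw [← cancel_mono V.ι, Category.assoc, morphismRestrict_ι, ← Category.assoc, hσ'ι, hσ,
      Category.id_comp]
  have hiso' := isIso_restrict_restrict f U V hiso
  have hdense' : CInt.IsSchematicallyDense ((f ∣_ V) ⁻¹ᵁ (V.ι ⁻¹ᵁ U)) := by
    have h1 := Groth.Agent.Helper3.SchDense.preimage_of_flat_locallyNoetherian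
      (f ⁻¹ᵁ V).ι (f ⁻¹ᵁ U) hdense
    have e : (f ∣_ V) ⁻¹ᵁ (V.ι ⁻¹ᵁ U) = (f ⁻¹ᵁ V).ι ⁻¹ᵁ (f ⁻¹ᵁ U) := by
      rw [← Scheme.Hom.comp_preimage, ← Scheme.Hom.comp_preimage, morphismRestrict_ι]
    rw [e]
    exact h1
  obtain ⟨W, hW, hWo⟩ := Groth.Agent.Lead.SecOpenImm.main (f ∣_ V) (V.ι ⁻¹ᵁ U) hiso' hdense'
    σ' hσ' ⟨f x, hV⟩
  refine StalkNbhd.exists_opens_of_isOpenImmersion (P := @IsOpenImmersion) f
    (W.ι ≫ (f ⁻¹ᵁ V).ι) x ?_ ?_
  · refine ⟨⟨σ' ⟨f x, hV⟩, hW⟩, ?_⟩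
    rw [Scheme.Hom.comp_apply]
    change (f ⁻¹ᵁ V).ι (σ' ⟨f x, hV⟩) = x
    rw [← Scheme.Hom.comp_apply, hσ'ι, hx]
  · have : (W.ι ≫ (f ⁻¹ᵁ V).ι) ≫ f = (W.ι ≫ (f ∣_ V)) ≫ V.ι := by
      rw [Category.assoc, Category.assoc, morphismRestrict_ι]
    rw [this]
    infer_instance

theorem s17728 {X S : Scheme.{u}} [IsNoetherian S] (f : X ⟶ S) [LocallyOfFiniteType f]
    (U : S.Opens) (hU : Dense (U : Set S))
    (hiso : IsIso (morphismRestrict f U)) (hdense : CInt.IsSchematicallyDense (f ⁻¹ᵁ U))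
    (x : X) :
    List.TFAE [
      ∃ W : X.Opens, x ∈ W ∧ Etale (W.ι ≫ f),
      (f.stalkMap x).hom.Flat,
      ∃ (V : S.Opens) (hV : f.base x ∈ V) (σ : (V : Scheme.{u}) ⟶ X),
        σ ≫ f = V.ι ∧ σ.base ⟨f.base x, hV⟩ = x] := by
  haveI : LocallyOfFinitePresentation f :=
    LocallyOfFinitePresentation.iff_locallyOfFiniteType.mpr inferInstance
  tfae_have 1 → 2 := fun h => ((StalkNbhd.etale_nbhd_iff f x).mp h).1
  tfae_have 3 → 1 := by
    rintro ⟨V, hV, σ, hσ, hx⟩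
    obtain ⟨W, hxW, hW⟩ := etale_nbhd_of_section f U hiso hdense x V hV σ hσ hx
    exact ⟨W, hxW, inferInstance⟩
  tfae_have 2 → 3 := by
    intro hflat
    classical
    obtain ⟨_, ⟨V, hV, rfl⟩, hxV, -⟩ :=
      S.isBasis_affineOpens.exists_subset_of_mem_open (Set.mem_univ (f x)) isOpen_univ
    replace hV : IsAffineOpen V := hV
    haveI : IsNoetherianRing Γ(S, V) := IsLocallyNoetherian.component_noetherian ⟨V, hV⟩
    obtain ⟨T, hT1, hT2⟩ := Groth.Agent.Helper3.SchDense.finite_cover hV (U ⊓ V) inf_le_right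
    have hbij : Function.Bijective (f.stalkMap x).hom := by
      refine BirEt1.bijective_of_flat_local (f.stalkMap x).hom hflat
        (ι := {t // t ∈ T}) (fun t => S.presheaf.germ V (f x) hxV t.1) ?_ ?_
      · intro N b hb
        exact BirEt2.tors_stalk f U hdense x hxV T hT2 N b (fun t ht => hb ⟨t, ht⟩)
      · intro t C _ g h hgh hu
        exact BirEt2.epi_stalk f U hiso x hV hxV t.1 ((hT1 t.1 t.2).trans inf_le_left) C g h hgh hu
    obtain ⟨W, hxW, hW⟩ := LocalIso.exists_isOpenImmersion_nbhd_of_lfp f x hbij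
    let j := W.ι ≫ f
    have hfx : f x ∈ j.opensRange := ⟨⟨x, hxW⟩, rfl⟩
    refine ⟨j.opensRange, hfx, j.isoOpensRange.inv ≫ W.ι, ?_, ?_⟩
    · rw [Category.assoc]
      exact Scheme.Hom.isoOpensRange_inv_comp j
    · have h1 : j.isoOpensRange.hom ⟨x, hxW⟩ = ⟨f x, hfx⟩ := by
        apply Subtype.ext
        change (j.isoOpensRange.hom ≫ j.opensRange.ι) ⟨x, hxW⟩ = f x
        rw [Scheme.Hom.isoOpensRange_hom_ι]
        rfl
      have h2 : j.isoOpensRange.inv ⟨f x, hfx⟩ = ⟨x, hxW⟩ := by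
        rw [← h1, ← Scheme.Hom.comp_apply, Iso.hom_inv_id]
        rfl
      rw [Scheme.Hom.comp_apply]
      change W.ι (j.isoOpensRange.inv ⟨f x, hfx⟩) = x
      rw [h2]
      rfl
  tfae_finish

end Groth.Agent.Helper3.BirEt3
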