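import Mathlib
import Groth.Prelude.Def_Coh

set_option autoImplicit false
set_option linter.style.haveILetI false
set_option linter.unusedSectionVars false
set_option linter.unusedVariables false
set_option linter.deprecated false
set_option linter.style.haveILetI false
set_option linter.unusedSectionVars false
set_option linter.unusedVariables false

universe u

open CategoryTheory CategoryTheory.Limits AlgebraicGeometry TopologicalSpace

namespace Groth.Agent.Helper3.SpFibUnif

/-- a morphism to an affine scheme, restricted to the spectrum of a stalk -/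
theorem fromSpecStalk_comp {R : Type u} [CommRing R] {X : Scheme.{u}}
    (f : X ⟶ Spec (CommRingCat.of R)) (x : X) :
    X.fromSpecStalk x ≫ f = Spec.map (CommRingCat.ofHom
      ((X.presheaf.germ ⊤ x trivial).hom.comp (Coh.toGlobal f))) := by
  have h1 : f = X.toSpecΓ ≫ Spec.map ((Scheme.ΓSpecIso (CommRingCat.of R)).inv ≫ f.appTop) := by
    have := Scheme.toSpecΓ_naturality f
    rw [← SpecMap_ΓSpecIso_hom] at this
    rw [Spec.map_comp, ← Category.assoc, ← this, Category.assoc, ← Spec.map_comp,
      Iso.inv_hom_id, Spec.map_id, Category.comp_id]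
  have h2 : CommRingCat.ofHom ((X.presheaf.germ ⊤ x trivial).hom.comp (Coh.toGlobal f)) =
      ((Scheme.ΓSpecIso (CommRingCat.of R)).inv ≫ f.appTop) ≫ X.presheaf.germ ⊤ x trivial := by
    ext r
    rfl
  conv_lhs => rw [h1]
  rw [← Category.assoc, Scheme.fromSpecStalk_toSpecΓ, ← Spec.map_comp, h2]

/-- The local ring of the special fibre is the quotient of the local ring of the total space by
the extension of the maximal ideal of the base. -/
theorem ker_stalkMap (R : Type u) [CommRing R] [IsLocalRing R]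
    (X : Scheme.{u}) (f : X ⟶ Spec (CommRingCat.of R))
    (Xs : Scheme.{u}) (gs : Xs ⟶ X) (fs : Xs ⟶ Spec (CommRingCat.of (IsLocalRing.ResidueField R)))
    (hs : IsPullback gs fs f (Spec.map (CommRingCat.ofHom (IsLocalRing.residue R)))) (ξ : Xs) :
    Function.Surjective (gs.stalkMap ξ).hom ∧
    RingHom.ker (gs.stalkMap ξ).hom =
      Ideal.map ((X.presheaf.germ ⊤ (gs ξ) trivial).hom.comp (Coh.toGlobal f))
        (IsLocalRing.maximalIdeal R) := by
  set c := Spec.map (CommRingCat.ofHom (IsLocalRing.residue R)) with hc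
  haveI hcc : IsClosedImmersion c :=
    IsClosedImmersion.spec_of_surjective _ IsLocalRing.residue_surjective
  haveI : IsClosedImmersion gs := MorphismProperty.of_isPullback (P := @IsClosedImmersion) hs.flip hcc
  set x := gs ξ with hx
  set ρ : R →+* X.presheaf.stalk x := (X.presheaf.germ ⊤ x trivial).hom.comp (Coh.toGlobal f) with hρ
  have hkill : ∀ a ∈ IsLocalRing.maximalIdeal R, (gs.stalkMap ξ).hom (ρ a) = 0 := by
    intro a ha
    have h1 : (gs.stalkMap ξ).hom (ρ a) =
        (Xs.presheaf.germ (gs ⁻¹ᵁ ⊤) ξ trivial).hom ((gs.app ⊤).hom (Coh.toGlobal f a)) :=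
      Scheme.Hom.germ_stalkMap_apply gs ⊤ ξ trivial _
    rw [h1]
    have h2 : (gs.app ⊤).hom (Coh.toGlobal f a) = 0 := by
      have h3 : f.appTop ≫ gs.appTop = c.appTop ≫ fs.appTop := by
        rw [← Scheme.Hom.comp_appTop, ← Scheme.Hom.comp_appTop, hs.w]
      have h4 : (CommRingCat.ofHom (IsLocalRing.residue R)) ≫
          (Scheme.ΓSpecIso (CommRingCat.of (IsLocalRing.ResidueField R))).inv =
          (Scheme.ΓSpecIso (CommRingCat.of R)).inv ≫ c.appTop :=
        Scheme.ΓSpecIso_inv_naturality _
      have h5 : (gs.app ⊤).hom (Coh.toGlobal f a) =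
          (((Scheme.ΓSpecIso (CommRingCat.of R)).inv ≫ f.appTop ≫ gs.appTop)).hom a := rfl
      rw [h5, h3, ← Category.assoc, ← h4]
      show (fs.appTop).hom (((Scheme.ΓSpecIso (CommRingCat.of (IsLocalRing.ResidueField R))).inv).hom
        (IsLocalRing.residue R a)) = 0
      rw [(IsLocalRing.residue_eq_zero_iff a).2 ha, map_zero, map_zero]
    rw [h2, map_zero]
  refine ⟨gs.stalkMap_surjective ξ, le_antisymm ?_ ?_⟩
  · -- ker ≤ I
    set I : Ideal (X.presheaf.stalk x) := Ideal.map ρ (IsLocalRing.maximalIdeal R) with hI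
    let Q : CommRingCat.{u} := CommRingCat.of (X.presheaf.stalk x ⧸ I)
    let q : X.presheaf.stalk x ⟶ Q := CommRingCat.ofHom (Ideal.Quotient.mk I)
    have hH : ∀ a ∈ IsLocalRing.maximalIdeal R, ((Ideal.Quotient.mk I).comp ρ) a = 0 := by
      intro a ha
      rw [RingHom.comp_apply, Ideal.Quotient.eq_zero_iff_mem]
      exact Ideal.mem_map_of_mem _ ha
    let κmap : IsLocalRing.ResidueField R →+* (X.presheaf.stalk x ⧸ I) :=
      Ideal.Quotient.lift (IsLocalRing.maximalIdeal R) ((Ideal.Quotient.mk I).comp ρ) hH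
    have hκ : κmap.comp (IsLocalRing.residue R) = (Ideal.Quotient.mk I).comp ρ := by
      ext a
      exact Ideal.Quotient.lift_mk (IsLocalRing.maximalIdeal R) ((Ideal.Quotient.mk I).comp ρ) hH
    let a₁ : Spec Q ⟶ X := Spec.map q ≫ X.fromSpecStalk x
    let a₂ : Spec Q ⟶ Spec (CommRingCat.of (IsLocalRing.ResidueField R)) :=
      Spec.map (CommRingCat.ofHom κmap)
    have comm : a₁ ≫ f = a₂ ≫ c := by
      show (Spec.map q ≫ X.fromSpecStalk x) ≫ f = Spec.map (CommRingCat.ofHom κmap) ≫ c
      rw [Category.assoc, fromSpecStalk_comp, hc, ← Spec.map_comp, ← Spec.map_comp]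
      have : CommRingCat.ofHom ((X.presheaf.germ ⊤ x trivial).hom.comp (Coh.toGlobal f)) ≫ q =
          CommRingCat.ofHom (IsLocalRing.residue R) ≫ CommRingCat.ofHom κmap := by
        ext a
        exact (congr($hκ a)).symm
      rw [this]
    let α : Spec Q ⟶ Xs := hs.lift a₁ a₂ comm
    have hα1 : α ≫ gs = a₁ := hs.lift_fst _ _ _
    have hIne : I ≠ ⊤ := by
      have hloc : IsLocalHom ρ := by
        -- ρ kills no units: use the point ξ
        constructor
        intro a ha
        by_contra hna
        have hmem : a ∈ IsLocalRing.maximalIdeal R := hna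
        -- then ρ a maps to zero in the stalk of Xs, contradiction with unit
        have h0 : (gs.stalkMap ξ).hom (ρ a) = 0 := hkill a hmem
        have hu : IsUnit ((gs.stalkMap ξ).hom (ρ a)) := ha.map _
        rw [h0] at hu
        exact not_isUnit_zero hu
      have hle : I ≤ IsLocalRing.maximalIdeal (X.presheaf.stalk x) :=
        ((IsLocalRing.local_hom_TFAE ρ).out 0 2).1 hloc
      exact fun h => (IsLocalRing.maximalIdeal.isMaximal _).ne_top (top_le_iff.1 (h ▸ hle))
    haveI : Nontrivial (X.presheaf.stalk x ⧸ I) := Ideal.Quotient.nontrivial_iff.2 hIne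
    haveI : IsLocalRing (X.presheaf.stalk x ⧸ I) :=
      IsLocalRing.of_surjective' (Ideal.Quotient.mk I) Ideal.Quotient.mk_surjective
    haveI : IsLocalRing Q := inferInstanceAs (IsLocalRing (X.presheaf.stalk x ⧸ I))
    have hinj : Function.Injective gs := gs.isEmbedding.injective
    have hqloc : IsLocalHom q.hom :=
      IsLocalHom.of_surjective _ Ideal.Quotient.mk_surjective
    have hpt : α (IsLocalRing.closedPoint Q) = ξ := by
      apply hinj
      rw [← Scheme.Hom.comp_apply, hα1]
      show X.fromSpecStalk x (Spec.map q (IsLocalRing.closedPoint Q)) = x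
      have h1 : Spec.map q (IsLocalRing.closedPoint Q) =
          IsLocalRing.closedPoint (X.presheaf.stalk x) :=
        IsLocalRing.comap_closedPoint q.hom
      rw [h1, Scheme.fromSpecStalk_closedPoint]
    let θ : Xs.presheaf.stalk ξ ⟶ Q :=
      Xs.presheaf.stalkSpecializes (specializes_of_eq hpt) ≫ Scheme.stalkClosedPointTo α
    have hθ : Spec.map θ ≫ Xs.fromSpecStalk ξ = α := by
      rw [Spec.map_comp, Category.assoc, Scheme.SpecMap_stalkSpecializes_fromSpecStalk,
        Scheme.Spec_stalkClosedPointTo_fromSpecStalk]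
    have hβ : Spec.map (gs.stalkMap ξ) ≫ X.fromSpecStalk (gs ξ) = Xs.fromSpecStalk ξ ≫ gs :=
      Scheme.SpecMap_stalkMap_fromSpecStalk gs
    have e : gs.stalkMap ξ ≫ θ = q := by
      apply Spec.map_injective
      rw [Spec.map_comp, ← cancel_mono (X.fromSpecStalk x), Category.assoc, hβ, ← Category.assoc,
        hθ, hα1]
    intro a ha
    have h1 : q a = 0 := by
      rw [← e]
      show θ (gs.stalkMap ξ a) = 0
      have h2 : gs.stalkMap ξ a = 0 := ha
      rw [h2, map_zero]
    exact Ideal.Quotient.eq_zero_iff_mem.1 h1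
  · -- I ≤ ker
    rw [Ideal.map_le_iff_le_comap]
    intro a ha
    exact hkill a ha

/-- S17018 core -/
theorem main
    (R : Type u) [CommRing R] [IsDomain R] [IsDiscreteValuationRing R]
    (X : Scheme.{u}) (f : X ⟶ Spec (CommRingCat.of R))
    (Xs : Scheme.{u}) (gs : Xs ⟶ X) (fs : Xs ⟶ Spec (CommRingCat.of (IsLocalRing.ResidueField R)))
    (hs : IsPullback gs fs f (Spec.map (CommRingCat.ofHom (IsLocalRing.residue R))))
    [IsReduced Xs]
    (ξ : Xs) (hξ : closure ({ξ} : Set Xs) ∈ irreducibleComponents Xs)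
    (B : Type u) [CommRing B] [IsDomain B] [IsDiscreteValuationRing B] [Algebra R B]
    (e : X.presheaf.stalk (gs.base ξ) ≅ CommRingCat.of B)
    (he : e.hom.hom.comp ((X.presheaf.germ ⊤ (gs.base ξ) trivial).hom.comp (Coh.toGlobal f)) =
      algebraMap R B) :
    IsLocalRing.maximalIdeal B = Ideal.map (algebraMap R B) (IsLocalRing.maximalIdeal R) := by
  obtain ⟨hsurj, hker⟩ := ker_stalkMap R X f Xs gs fs hs ξ
  set ρ : R →+* X.presheaf.stalk (gs.base ξ) :=
    (X.presheaf.germ ⊤ (gs.base ξ) trivial).hom.comp (Coh.toGlobal f) with hρ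
  set I : Ideal (X.presheaf.stalk (gs.base ξ)) := Ideal.map ρ (IsLocalRing.maximalIdeal R) with hI
  have hker' : RingHom.ker (gs.stalkMap ξ).hom = I := hker
  have hfield : IsField (Xs.presheaf.stalk ξ) :=
    isField_stalk_of_closure_mem_irreducibleComponents Xs ξ hξ
  have hImax : I.IsMaximal := by
    rw [← hker']
    have e1 : (X.presheaf.stalk (gs.base ξ) ⧸ RingHom.ker (gs.stalkMap ξ).hom) ≃+*
        Xs.presheaf.stalk ξ := RingHom.quotientKerEquivOfSurjective hsurj
    exact Ideal.Quotient.maximal_of_isField _ (e1.toMulEquiv.isField hfield)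
  have hIeq : I = IsLocalRing.maximalIdeal (X.presheaf.stalk (gs.base ξ)) :=
    IsLocalRing.eq_maximalIdeal hImax
  let E : X.presheaf.stalk (gs.base ξ) ≃+* B := e.commRingCatIsoToRingEquiv
  have hE : (E : X.presheaf.stalk (gs.base ξ) →+* B) = e.hom.hom := rfl
  have h1 : Ideal.map (algebraMap R B) (IsLocalRing.maximalIdeal R) =
      Ideal.map (E : X.presheaf.stalk (gs.base ξ) →+* B) I := by
    rw [hI, Ideal.map_map, hE, he]
  rw [h1]
  symm
  apply IsLocalRing.eq_maximalIdeal
  exact Ideal.map_isMaximal_of_equiv E (hp := hImax)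

end Groth.Agent.Helper3.SpFibUnif
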