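import Mathlib
import Groth.Prelude.Def_CurvBase
import Groth.Agent.Helper3.LocalIso
import Groth.Agent.Helper3.SpFibUnif

set_option autoImplicit false
set_option linter.style.haveILetI false
set_option linter.unusedSectionVars false
set_option linter.unusedVariables false
set_option linter.deprecated false
set_option linter.style.haveILetI false
set_option linter.unusedSectionVars false
set_option linter.unusedVariables false

universe u

open CategoryTheory CategoryTheory.Limits AlgebraicGeometry TopologicalSpace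

namespace Groth.Agent.Helper3.BirFF

/-- uniform annihilators on an integral scheme -/
theorem hunif_of_isIntegral (Y : Scheme.{u}) [IsIntegral Y] :
    ∀ V : Y.Opens, IsAffineOpen V → ∀ p : Ideal Γ(Y, V), p.IsPrime →
      ∃ r₂ : Γ(Y, V), r₂ ∉ p ∧ ∀ a : Γ(Y, V), (∃ b : Γ(Y, V), b ∉ p ∧ b * a = 0) → r₂ * a = 0 := by
  intro V hV p hp
  by_cases hne : Nonempty V
  · refine ⟨1, ?_, ?_⟩
    · exact fun h => hp.ne_top ((Ideal.eq_top_iff_one _).mpr h)
    · rintro a ⟨b, hb, hba⟩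
      have hb0 : b ≠ 0 := fun h => hb (h ▸ p.zero_mem)
      rw [one_mul]
      exact (mul_eq_zero.mp hba).resolve_left hb0
  · exfalso
    have hV0 : V = ⊥ := by
      ext y
      simp only [SetLike.mem_coe, TopologicalSpace.Opens.coe_bot, Set.mem_empty_iff_false,
        iff_false]
      exact fun hy => hne ⟨⟨y, hy⟩⟩
    subst hV0
    exact hp.ne_top (Subsingleton.elim _ _)

/-- A morphism from the spectrum of a local ring `R` given as `Spec ρ ≫ fromSpecStalk y` with `ρ`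
an isomorphism: any other presentation `Spec ρ' ≫ fromSpecStalk y'` has `ρ'` bijective. -/
theorem bijective_of_SpecMap_fromSpecStalk_eq {Y : Scheme.{u}} {R : CommRingCat.{u}} [IsLocalRing R]
    (y y' : Y) (ρ : Y.presheaf.stalk y ⟶ R) (ρ' : Y.presheaf.stalk y' ⟶ R) [IsIso ρ]
    [IsLocalHom ρ'.hom]
    (h : Spec.map ρ ≫ Y.fromSpecStalk y = Spec.map ρ' ≫ Y.fromSpecStalk y') :
    Function.Bijective ρ'.hom := by
  haveI : IsLocalHom ρ.hom := isLocalHom_of_isIso ρ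
  have h1 : (⟨y, ⟨ρ, inferInstance⟩⟩ : Σ x, { f : Y.presheaf.stalk x ⟶ R // IsLocalHom f.hom }) =
      ⟨y', ⟨ρ', inferInstance⟩⟩ := (SpecToEquivOfLocalRing Y R).symm.injective h
  obtain ⟨h2, h3⟩ := SpecToEquivOfLocalRing_eq_iff.1 h1
  have h2' : y = y' := h2
  have h4 : ρ = (Y.presheaf.stalkCongr (Inseparable.of_eq h2')).hom ≫ ρ' := h3
  have h5 : ρ' = (Y.presheaf.stalkCongr (Inseparable.of_eq h2')).inv ≫ ρ := by
    rw [h4, Iso.inv_hom_id_assoc]
  rw [h5]
  exact ConcreteCategory.bijective_of_isIso _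

/-- a spread-out of an isomorphism of local rings has bijective stalk map -/
theorem stalkMap_bijective_of_spread {X Y : Scheme.{u}} (U₀ : X.Opens) (ξ : X) (hξU₀ : ξ ∈ U₀)
    (a : U₀.toScheme ⟶ Y) (η : Y) (ρ₀ : Y.presheaf.stalk η ⟶ X.presheaf.stalk ξ) [IsIso ρ₀]
    (ha1 : Spec.map ρ₀ ≫ Y.fromSpecStalk η = U₀.fromSpecStalkOfMem ξ hξU₀ ≫ a) :
    Function.Bijective (a.stalkMap (⟨ξ, hξU₀⟩ : U₀.toScheme)).hom := by
  generalize hz : (⟨ξ, hξU₀⟩ : U₀.toScheme) = z
  have hzξ : U₀.ι z = ξ := by rw [← hz]; rfl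
  subst hzξ
  let ρ : Y.presheaf.stalk η ⟶ U₀.toScheme.presheaf.stalk z := ρ₀ ≫ U₀.ι.stalkMap z
  haveI : IsIso ρ := by
    show IsIso (ρ₀ ≫ U₀.ι.stalkMap z)
    infer_instance
  refine bijective_of_SpecMap_fromSpecStalk_eq η (a z) ρ (a.stalkMap z) ?_
  rw [Scheme.SpecMap_stalkMap_fromSpecStalk]
  show Spec.map (ρ₀ ≫ U₀.ι.stalkMap z) ≫ Y.fromSpecStalk η = _
  rw [Spec.map_comp, Category.assoc, ha1, Scheme.Opens.fromSpecStalkOfMem]
  show Spec.map (U₀.ι.stalkMap z) ≫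
    (Spec.map (inv (U₀.ι.stalkMap z)) ≫ U₀.toScheme.fromSpecStalk z) ≫ a = _
  rw [← Category.assoc, ← Category.assoc, ← Spec.map_comp, IsIso.inv_hom_id, Spec.map_id,
    Category.id_comp]

theorem main (k : Type u) [Field k] (X : Scheme.{u}) [X.Over (Spec (CommRingCat.of k))]
    [IsIntegral X] [LocallyOfFiniteType (X ↘ (Spec (CommRingCat.of k)))]
    (Y : Scheme.{u}) [Y.Over (Spec (CommRingCat.of k))] [IsIntegral Y]
    [LocallyOfFiniteType (Y ↘ (Spec (CommRingCat.of k)))]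
    (e : X.functionField ≅ Y.functionField)
    (he : e.hom.hom.comp (Curv2.stalkMap k X (genericPoint X)) =
      Curv2.stalkMap k Y (genericPoint Y)) :
    ∃ (U : X.Opens) (V : Y.Opens), (U : Set ↥X).Nonempty ∧
      ∃ φ : (U : Scheme.{u}) ≅ (V : Scheme.{u}),
        φ.hom ≫ V.ι ≫ (Y ↘ (Spec (CommRingCat.of k))) =
          U.ι ≫ (X ↘ (Spec (CommRingCat.of k))) := by
  set sX := X ↘ Spec (CommRingCat.of k) with hsX
  set sY := Y ↘ Spec (CommRingCat.of k) with hsY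
  set ξ := genericPoint X with hξ
  set η := genericPoint Y with hη
  let φX : Spec (X.presheaf.stalk ξ) ⟶ Y := Spec.map e.inv ≫ Y.fromSpecStalk η
  have hφ : φX ≫ sY = X.fromSpecStalk ξ ≫ sX := by
    show (Spec.map e.inv ≫ Y.fromSpecStalk η) ≫ sY = X.fromSpecStalk ξ ≫ sX
    rw [Category.assoc, SpFibUnif.fromSpecStalk_comp, SpFibUnif.fromSpecStalk_comp,
      ← Spec.map_comp]
    congr 1
    ext r
    have h1 := congr($he r)
    show e.inv.hom (Curv2.stalkMap k Y η r) = Curv2.stalkMap k X ξ r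
    rw [← h1]
    show (e.hom ≫ e.inv) (Curv2.stalkMap k X ξ r) = _
    rw [Iso.hom_inv_id]
    rfl
  obtain ⟨U₀, hξU₀, a, ha1, ha2⟩ := spread_out_of_isGermInjective' sX sY φX hφ
  haveI : LocallyOfFiniteType (a ≫ sY) := by
    rw [ha2]
    infer_instance
  haveI : LocallyOfFiniteType a := locallyOfFiniteType_of_comp a sY
  let ξ' : U₀.toScheme := ⟨ξ, hξU₀⟩
  have hbij : Function.Bijective (a.stalkMap ξ').hom :=
    stalkMap_bijective_of_spread U₀ ξ hξU₀ a η e.inv ha1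
  obtain ⟨U, hξU, hoi⟩ :=
    LocalIso.exists_isOpenImmersion_nbhd a ξ' hbij (hunif_of_isIntegral Y)
  haveI := hoi
  let j : U.toScheme ⟶ X := U.ι ≫ U₀.ι
  let m : U.toScheme ⟶ Y := U.ι ≫ a
  refine ⟨j.opensRange, m.opensRange, ⟨ξ, ⟨⟨ξ', hξU⟩, rfl⟩⟩,
    j.isoOpensRange.symm ≪≫ m.isoOpensRange, ?_⟩
  rw [Iso.trans_hom, Iso.symm_hom, Category.assoc, ← Category.assoc m.isoOpensRange.hom,
    Scheme.Hom.isoOpensRange_hom_ι]
  show j.isoOpensRange.inv ≫ (U.ι ≫ a) ≫ sY = _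
  rw [Category.assoc, ha2, ← Category.assoc U.ι, ← Category.assoc]
  show (j.isoOpensRange.inv ≫ j) ≫ sX = _
  rw [Scheme.Hom.isoOpensRange_inv_comp]

end Groth.Agent.Helper3.BirFF
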