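import Mathlib
import Groth.Agent.Helper5.DimFormula3

set_option linter.style.haveILetI false
set_option linter.unusedSectionVars false
set_option linter.unusedVariables false

namespace Groth.Agent.Helper3.PrimesOverHt1

universe u

theorem main (A B : Type u) [CommRing A] [IsDomain A]
    [IsNoetherianRing A] [CommRing B] [IsDomain B] [Algebra A B] [FaithfulSMul A B]
    [Algebra.FiniteType A B] [Algebra.IsAlgebraic A B] (p : Ideal A) [p.IsPrime]
    (hp : p.height = 1) :
    (p.primesOver B).Finite ∧ ∀ q ∈ p.primesOver B, q.height = 1 := by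
  haveI : IsNoetherianRing B := Algebra.FiniteType.isNoetherianRing A B
  have hpne : p ≠ ⊥ := Ideal.ne_bot_of_height_eq_one hp
  have key : ∀ q ∈ p.primesOver B, q.height = 1 := by
    rintro q ⟨hq, hqp⟩
    have h := Groth.Agent.Helper5.DimFormula.dimension_inequality A B p q
    rw [_root_.trdeg_eq_zero (R := A) (A := B), add_zero, hp] at h
    have h1 : (q.height : Cardinal.{u}) ≤ ((1 : ℕ∞) : Cardinal.{u}) :=
      le_trans (self_le_add_right _ _) h
    have h2 : q.height ≤ 1 := Cardinal.ofENat_le_ofENat.1 h1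
    have h3 : q.height ≠ 0 := by
      rw [Ne, Ideal.height_eq_zero_iff_eq_bot]
      exact Ideal.ne_bot_of_mem_primesOver hpne ⟨hq, hqp⟩
    exact le_antisymm h2 (ENat.one_le_iff_ne_zero.2 h3)
  refine ⟨?_, key⟩
  refine Set.Finite.subset ((p.map (algebraMap A B)).finite_minimalPrimes_of_isNoetherianRing B) ?_
  rintro q ⟨hq, hqp⟩
  refine ⟨⟨hq, Ideal.map_le_iff_le_comap.2 (le_of_eq hqp.over)⟩, ?_⟩
  rintro q' ⟨hq', hle⟩ hq'q
  have hlo : q'.LiesOver p :=
    ⟨le_antisymm (Ideal.map_le_iff_le_comap.1 hle) (by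
      rw [hqp.over]; exact Ideal.comap_mono hq'q)⟩
  have e1 := key q' ⟨hq', hlo⟩
  have e2 := key q ⟨hq, hqp⟩
  exact (Ideal.eq_of_le_of_height_le q' hq'q (by rw [e1, e2])).ge

end Groth.Agent.Helper3.PrimesOverHt1
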