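import Groth.Agent.Helper3.PseudoLoc3

open AlgebraicGeometry CategoryTheory CategoryTheory.Limits TopologicalSpace Opposite IsLocalRing

universe u

namespace Groth.Agent.Helper3.BirNormal

/-- a Noetherian integrally closed local domain of dimension `≤ 1` is a valuation ring -/
theorem valuationRing_of_normal (R : Type u) [CommRing R] [IsDomain R] [IsLocalRing R]
    [IsNoetherianRing R] [IsIntegrallyClosed R] (h : ringKrullDim R ≤ 1) : ValuationRing R := by
  haveI : Ring.KrullDimLE 1 R := Ring.krullDimLE_iff.mpr h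
  have h3 : IsIntegrallyClosed R ∧ ∀ P : Ideal R, P ≠ ⊥ → P.IsPrime → P = maximalIdeal R := by
    refine ⟨inferInstance, ?_⟩
    intro P hP hPp
    exact IsLocalRing.eq_maximalIdeal (hPp.isMaximal_of_ne_bot hP)
  exact ((tfae_of_isNoetherianRing_of_isLocalRing_of_isDomain R).out 3 1).mp h3

/-- a section over `U` of a separated morphism from an integral scheme, which is inverse to `f`
over a nonempty open, makes `f` an isomorphism over `U` -/
theorem isIso_restrict_of_section {X Y : Scheme.{u}} [IsIntegral X] (f : X ⟶ Y) [IsSeparated f]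
    (V U : Y.Opens) (hVU : V ≤ U) (hV : (V : Set Y).Nonempty) [IsIso (f ∣_ V)]
    (s' : (U : Scheme.{u}) ⟶ X) (hs' : s' ≫ f = U.ι)
    (hres : Y.homOfLE hVU ≫ s' = inv (f ∣_ V) ≫ (f ⁻¹ᵁ V).ι) : IsIso (f ∣_ U) := by
  have hrange : Set.range s' ⊆ ((f ⁻¹ᵁ U : X.Opens) : Set X) := by
    rintro _ ⟨u, rfl⟩
    show f (s' u) ∈ U
    rw [← Scheme.Hom.comp_apply, hs']
    exact u.2
  let s'' : (U : Scheme.{u}) ⟶ (f ⁻¹ᵁ U : X.Opens) :=
    IsOpenImmersion.lift (f ⁻¹ᵁ U).ι s' (by rw [Scheme.Opens.range_ι]; exact hrange)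
  have hs'' : s'' ≫ (f ⁻¹ᵁ U).ι = s' := IsOpenImmersion.lift_fac _ _ _
  have h1 : s'' ≫ (f ∣_ U) = 𝟙 _ := by
    rw [← cancel_mono U.ι, Category.assoc, morphismRestrict_ι, ← Category.assoc, hs'', hs',
      Category.id_comp]
  have hne : ((f ⁻¹ᵁ V : X.Opens) : Set X).Nonempty := by
    obtain ⟨v, hv⟩ := hV
    have hsurj : Function.Surjective (f ∣_ V) := (f ∣_ V).homeomorph.surjective
    obtain ⟨w, hw⟩ := hsurj ⟨v, hv⟩
    exact ⟨w.1, w.2⟩
  have hdense : Dense ((f ⁻¹ᵁ V : X.Opens) : Set X) := (f ⁻¹ᵁ V).2.dense hne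
  have h2 : (f ∣_ U) ≫ s'' = 𝟙 _ := by
    haveI : IsDominant (X.homOfLE (f.preimage_mono hVU)) :=
      DimOneExt.isDominant_homOfLE _ _ _ hdense
    refine ext_of_isDominant_of_isSeparated (f ∣_ U) ?_ (X.homOfLE (f.preimage_mono hVU)) ?_
    · rw [Category.assoc, h1, Category.comp_id, Category.id_comp]
    · rw [Category.comp_id, ← cancel_mono (f ⁻¹ᵁ U).ι, Category.assoc, Category.assoc, hs'',
        X.homOfLE_ι]
      have e : X.homOfLE (f.preimage_mono hVU) ≫ (f ∣_ U) = (f ∣_ V) ≫ Y.homOfLE hVU := by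
        rw [← cancel_mono U.ι]
        simp [morphismRestrict_ι]
      rw [← Category.assoc, e, Category.assoc, hres, IsIso.hom_inv_id_assoc]
  exact ⟨s'', h2, h1⟩


/-- S14523 (no use of algebraic closedness, separatedness or quasi-compactness) -/
theorem s14523 (k : Type u) [Field k]
    (X Y : Scheme.{u}) [Y.Over (Spec (CommRingCat.of k))]
    [IsIntegral X]
    [IsIntegral Y] [LocallyOfFiniteType (Y ↘ (Spec (CommRingCat.of k)))]
    (hY : ∀ y : Y, IsIntegrallyClosed (Y.presheaf.stalk y))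
    (f : X ⟶ Y) [IsProper f]
    (hbir : ∃ V : Y.Opens, (V : Set Y).Nonempty ∧ IsIso (f ∣_ V))
    (y : Y) (hy : ringKrullDim (Y.presheaf.stalk y) ≤ 1) :
    ∃ V : Y.Opens, y ∈ V ∧ IsIso (f ∣_ V) := by
  obtain ⟨V, hV, hiso⟩ := hbir
  haveI : IsLocallyNoetherian (Spec (CommRingCat.of k)) := isLocallyNoetherian_Spec.mpr
    (inferInstanceAs (IsNoetherianRing k))
  haveI : IsLocallyNoetherian Y :=
    LocallyOfFiniteType.isLocallyNoetherian (Y ↘ (Spec (CommRingCat.of k)))
  haveI := hY y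
  haveI : IsNoetherianRing (Y.presheaf.stalk y) := inferInstance
  have hval : ValuationRing (Y.presheaf.stalk y) := valuationRing_of_normal _ hy
  let s : (V : Scheme.{u}) ⟶ X := inv (f ∣_ V) ≫ (f ⁻¹ᵁ V).ι
  have hs : s ≫ f = V.ι ≫ 𝟙 Y := by
    rw [Category.comp_id, Category.assoc, ← morphismRestrict_ι, IsIso.inv_hom_id_assoc]
  have hdense : Dense (V : Set Y) := V.2.dense hV
  obtain ⟨U', hVU', hyU', s', h1, h2⟩ := PseudoLoc.s9701 (𝟙 Y) f y V s hs (hdense y)
    (Or.inr inferInstance) inferInstance hval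
  refine ⟨U', hyU', ?_⟩
  exact isIso_restrict_of_section f V U' hVU' hV s' (by rw [h1, Category.comp_id]) h2

end Groth.Agent.Helper3.BirNormal
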