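import Mathlib
import Groth.Agent.Helper3.BirNormal
import Groth.Agent.Helper3.BirLocalIso
import Groth.Agent.Helper3.BirEt3

set_option autoImplicit false
set_option linter.style.haveILetI false
set_option linter.unusedSectionVars false
set_option linter.unusedVariables false
set_option linter.deprecated false
set_option linter.style.haveILetI false
set_option linter.unusedSectionVars false
set_option linter.unusedVariables false

universe u

open AlgebraicGeometry CategoryTheory CategoryTheory.Limits TopologicalSpace Opposite IsLocalRing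

namespace Groth.Agent.Helper3.PropBirNormal

/-- `BirNormal.s14523` over a locally Noetherian base. -/
theorem iso_nbhd_of_dim_le_one {X Y : Scheme.{u}} [IsIntegral X] [IsIntegral Y]
    [IsLocallyNoetherian Y]
    (hY : ∀ y : Y, IsIntegrallyClosed (Y.presheaf.stalk y))
    (f : X ⟶ Y) [IsProper f]
    (hbir : ∃ V : Y.Opens, (V : Set Y).Nonempty ∧ IsIso (f ∣_ V))
    (y : Y) (hy : ringKrullDim (Y.presheaf.stalk y) ≤ 1) :
    ∃ V : Y.Opens, y ∈ V ∧ IsIso (f ∣_ V) := by
  obtain ⟨V, hV, hiso⟩ := hbir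
  haveI := hY y
  haveI : IsNoetherianRing (Y.presheaf.stalk y) := inferInstance
  have hval : ValuationRing (Y.presheaf.stalk y) := BirNormal.valuationRing_of_normal _ hy
  let s : (V : Scheme.{u}) ⟶ X := inv (f ∣_ V) ≫ (f ⁻¹ᵁ V).ι
  have hs : s ≫ f = V.ι ≫ 𝟙 Y := by
    rw [Category.comp_id, Category.assoc, ← morphismRestrict_ι, IsIso.inv_hom_id_assoc]
  have hdense : Dense (V : Set Y) := V.2.dense hV
  obtain ⟨U', hVU', hyU', s', h1, h2⟩ := PseudoLoc.s9701 (𝟙 Y) f y V s hs (hdense y)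
    (Or.inr inferInstance) inferInstance hval
  refine ⟨U', hyU', ?_⟩
  exact BirNormal.isIso_restrict_of_section f V U' hVU' hV s' (by rw [h1, Category.comp_id]) h2

theorem lt_two_le_one (d : WithBot ℕ∞) (h : d < 2) : d ≤ 1 := by
  induction d using WithBot.recBotCoe with
  | bot => exact bot_le
  | coe n =>
    have h2 : (n : WithBot ℕ∞) < ((2 : ℕ∞) : WithBot ℕ∞) := h
    rw [WithBot.coe_lt_coe] at h2
    have h3 : n ≤ 1 := Order.le_of_lt_add_one (by rw [one_add_one_eq_two]; exact h2)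
    exact_mod_cast h3

/-- a point isolated in its fibre is a quasi-finite point -/
theorem quasiFiniteAt_of_isOpen {X Y : Scheme.{u}} (f : X ⟶ Y) [LocallyOfFiniteType f]
    (x : X) (y : Y) (hxy : f x = y)
    (h : IsOpen ({⟨x, hxy⟩} : Set (f ⁻¹' {y}))) : f.QuasiFiniteAt x := by
  subst hxy
  rw [Scheme.Hom.quasiFiniteAt_iff_isOpen_singleton_asFiber, ← (f.fiberHomeo (f x)).isOpen_image]
  simpa [Scheme.Hom.asFiber] using h

theorem main {X Y : Scheme.{u}} (f : X ⟶ Y)
    [IsProper f] [IsIntegral X] [IsIntegral Y] [IsLocallyNoetherian Y] (hY : Pi1.IsNormalScheme Y)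
    (hξ : f (genericPoint ↥X) = genericPoint ↥Y)
    (hbir : Function.Bijective (f.stalkMap (genericPoint ↥X))) :
    ∃ V : Y.Opens, IsIso (f ∣_ V) ∧
      (∀ y : Y, y ∉ (V : Set Y) → ∀ x : ↥(f.fiber y), ¬ IsOpen ({x} : Set ↥(f.fiber y))) ∧
      (∀ y : Y, y ∉ (V : Set Y) → 2 ≤ ringKrullDim (Y.presheaf.stalk y)) := by
  have hbirI : IsIso (f.stalkMap (genericPoint ↥X)) :=
    (ConcreteCategory.isIso_iff_bijective _).mpr hbir
  have hN : ∀ y : Y, IsIntegrallyClosed (Y.presheaf.stalk y) := fun y => (hY y).2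
  -- the union of all opens over which `f` is an isomorphism
  let 𝒮 : Set Y.Opens := {W | IsIso (f ∣_ W)}
  let V : Y.Opens := sSup 𝒮
  have hmemV : ∀ y : Y, (∃ W : Y.Opens, y ∈ W ∧ IsIso (f ∣_ W)) → y ∈ V := by
    rintro y ⟨W, hyW, hW⟩
    exact (le_sSup (show W ∈ 𝒮 from hW)) hyW
  have hV : IsIso (f ∣_ V) := by
    rw [← MorphismProperty.isomorphisms.iff]
    refine (IsZariskiLocalAtTarget.iff_of_iSup_eq_top (P := MorphismProperty.isomorphisms Scheme.{u})
      (f := f ∣_ V) (fun W : 𝒮 => V.ι ⁻¹ᵁ W.1) ?_).mpr ?_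
    · rw [eq_top_iff]
      rintro ⟨y, hy⟩ -
      obtain ⟨W, hW, hyW⟩ := TopologicalSpace.Opens.mem_sSup.mp hy
      exact TopologicalSpace.Opens.mem_iSup.mpr ⟨⟨W, hW⟩, hyW⟩
    · rintro ⟨W, hW⟩
      exact (MorphismProperty.isomorphisms.iff _).mpr (BirEt3.isIso_restrict_restrict f W V hW)
  -- quasi-finite points map into `V`
  have hqf : ∀ x : X, f.QuasiFiniteAt x → f x ∈ V := by
    intro x hx
    exact hmemV _ (BirLocalIso.exists_isIso_nbhd f hξ hbirI x hx (hN _))
  have hqfξ : f.QuasiFiniteAt (genericPoint ↥X) := by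
    show (f.stalkMap (genericPoint ↥X)).hom.QuasiFinite
    exact RingHom.QuasiFinite.of_finite (RingHom.Finite.of_surjective _ hbir.2)
  have hηV : genericPoint ↥Y ∈ V := hξ ▸ hqf _ hqfξ
  refine ⟨V, hV, ?_, ?_⟩
  · intro y hyV x' hx'
    apply hyV
    have hz : IsOpen ({f.fiberHomeo y x'} : Set (f ⁻¹' {y})) := by
      have := (f.fiberHomeo y).isOpen_image.mpr hx'
      simpa using this
    have := hqf _ (quasiFiniteAt_of_isOpen f (f.fiberHomeo y x').1 y (f.fiberHomeo y x').2 hz)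
    rw [(f.fiberHomeo y x').2] at this
    exact this
  · intro y hyV
    by_contra hlt
    apply hyV
    have hle : ringKrullDim (Y.presheaf.stalk y) ≤ 1 := lt_two_le_one _ (not_le.mp hlt)
    have hVne : (V : Set Y).Nonempty := ⟨_, hηV⟩
    exact hmemV _ (iso_nbhd_of_dim_le_one hN f ⟨V, hVne, hV⟩ y hle)

end Groth.Agent.Helper3.PropBirNormal
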