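import Mathlib
import Groth.Agent.Helper3.PrimesOverHt1
import Groth.Agent.Helper3.BirLocalIso
import Groth.Agent.Helper3.BirEt3
import Groth.Agent.Helper3.FamNormal2
import Groth.Agent.Helper3.PropBirNormal

set_option autoImplicit false
set_option linter.style.haveILetI false
set_option linter.unusedSectionVars false
set_option linter.unusedVariables false
set_option linter.deprecated false
set_option linter.style.haveILetI false
set_option linter.unusedSectionVars false
set_option linter.unusedVariables false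

universe u

open AlgebraicGeometry CategoryTheory IsLocalRing TopologicalSpace

namespace Groth.Agent.Helper3.BirFinFib

/-- for a birational morphism of finite type between integral schemes with locally Noetherian
target, the part of a fibre over a codimension one point lying in an affine open is finite -/
theorem finite_preimage_inter {X Y : Scheme.{u}} [IsIntegral X] [IsIntegral Y]
    [IsLocallyNoetherian Y] (f : X ⟶ Y) [LocallyOfFiniteType f]
    (hgen : f (genericPoint X) = genericPoint Y) (hbir : IsIso (f.stalkMap (genericPoint X)))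
    {V : Y.Opens} (hV : IsAffineOpen V) {W : X.Opens} (hW : IsAffineOpen W) (e : W ≤ f ⁻¹ᵁ V)
    (y : Y) (hyV : y ∈ V) (hy : ringKrullDim (Y.presheaf.stalk y) = 1) :
    (f ⁻¹' {y} ∩ (W : Set X)).Finite := by
  classical
  by_cases hWne : (W : Set X).Nonempty
  swap
  · rw [Set.not_nonempty_iff_eq_empty] at hWne
    rw [hWne, Set.inter_empty]; exact Set.finite_empty
  have hηW : genericPoint X ∈ W := ((genericPoint_spec X).mem_open_set_iff W.2).mpr
    (by simpa [Set.univ_inter] using hWne)
  have hηV : f (genericPoint X) ∈ V := e hηW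
  haveI : Nonempty W := ⟨⟨_, hηW⟩⟩
  haveI : Nonempty V := ⟨⟨_, hηV⟩⟩
  haveI : IsNoetherianRing Γ(Y, V) := IsLocallyNoetherian.component_noetherian ⟨V, hV⟩
  letI := (f.appLE V W e).hom.toAlgebra
  have halg : ∀ a : Γ(Y, V), algebraMap Γ(Y, V) Γ(X, W) a = f.appLE V W e a := fun a => rfl
  have hbij : Function.Bijective (f.stalkMap (genericPoint X)) :=
    ConcreteCategory.bijective_of_isIso _
  -- injectivity
  have hinj : Function.Injective (algebraMap Γ(Y, V) Γ(X, W)) := by
    intro a₁ a₂ h12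
    rw [halg, halg] at h12
    apply germ_injective_of_isIntegral Y (f (genericPoint X)) hηV
    apply hbij.1
    rw [← BirLocalIso.germ_appLE_apply f e (genericPoint X) hηW,
      ← BirLocalIso.germ_appLE_apply f e (genericPoint X) hηW, h12]
  haveI : FaithfulSMul Γ(Y, V) Γ(X, W) := (faithfulSMul_iff_algebraMap_injective _ _).mpr hinj
  haveI : Algebra.FiniteType Γ(Y, V) Γ(X, W) :=
    HasRingHomProperty.appLE (P := @LocallyOfFiniteType) f inferInstance ⟨V, hV⟩ ⟨W, hW⟩ e
  -- algebraicity
  haveI : Algebra.IsAlgebraic Γ(Y, V) Γ(X, W) := by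
    refine ⟨fun b => ?_⟩
    obtain ⟨κ, hκ⟩ := hbij.2 (X.presheaf.germ W (genericPoint X) hηW b)
    obtain ⟨a₁, a₂, ha₂, hmul⟩ := BirLocalIso.exists_germ_mul_eq hV (f (genericPoint X)) hgen hηV κ
    have h1 := congrArg (f.stalkMap (genericPoint X)) hmul
    rw [map_mul, hκ, ← BirLocalIso.germ_appLE_apply f e (genericPoint X) hηW,
      ← BirLocalIso.germ_appLE_apply f e (genericPoint X) hηW, ← map_mul] at h1
    have h2 := germ_injective_of_isIntegral X (genericPoint X) hηW h1
    refine ⟨Polynomial.C a₂ * Polynomial.X - Polynomial.C a₁, ?_, ?_⟩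
    · intro h0
      have := congrArg (fun p => Polynomial.coeff p 1) h0
      simp at this
      exact ha₂ this
    · simp only [map_sub, map_mul, Polynomial.aeval_C, Polynomial.aeval_X, halg]
      rw [mul_comm, h2, sub_self]
  -- the prime of `y`
  set p : Ideal Γ(Y, V) := (hV.primeIdealOf ⟨y, hyV⟩).asIdeal with hp
  have hht : p.height = 1 := by
    obtain ⟨e₁⟩ := FamNormal.nonempty_stalk_equiv hV (hV.primeIdealOf ⟨y, hyV⟩)
    rw [hV.fromSpec_primeIdealOf ⟨y, hyV⟩] at e₁
    have h1 := ringKrullDim_eq_of_ringEquiv e₁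
    rw [hy, IsLocalization.AtPrime.ringKrullDim_eq_height p] at h1
    exact_mod_cast h1
  obtain ⟨hfin, -⟩ := PrimesOverHt1.main Γ(Y, V) Γ(X, W) p hht
  -- inject the fibre into the primes over `p`
  let g : X → Ideal Γ(X, W) := fun x =>
    if hx : x ∈ W then (hW.primeIdealOf ⟨x, hx⟩).asIdeal else ⊥
  refine Set.Finite.of_finite_image (f := g) (hfin.subset ?_) ?_
  · rintro _ ⟨x, ⟨hxy, hxW⟩, rfl⟩
    have hxW' : x ∈ W := hxW
    simp only [g, dif_pos hxW']
    refine ⟨(hW.primeIdealOf ⟨x, hxW'⟩).2, ⟨?_⟩⟩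
    have h1 := IsAffineOpen.comap_primeIdealOf_appLE (f := f) V hV W hW e hxW'
    have h2 := congrArg PrimeSpectrum.asIdeal h1
    have hxy' : f x = y := hxy
    rw [hp]
    show _ = Ideal.comap (f.appLE V W e).hom _
    refine Eq.trans ?_ h2.symm
    congr 2
    exact Subtype.ext hxy'.symm
  · rintro x₁ ⟨-, hx₁⟩ x₂ ⟨-, hx₂⟩ h12
    have hx₁' : x₁ ∈ W := hx₁
    have hx₂' : x₂ ∈ W := hx₂
    simp only [g, dif_pos hx₁', dif_pos hx₂'] at h12
    have h3 : hW.primeIdealOf ⟨x₁, hx₁'⟩ = hW.primeIdealOf ⟨x₂, hx₂'⟩ := PrimeSpectrum.ext h12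
    have h4 := congrArg hW.fromSpec h3
    rwa [hW.fromSpec_primeIdealOf, hW.fromSpec_primeIdealOf] at h4

/-- the fibre over a codimension one point is finite -/
theorem finite_preimage {X Y : Scheme.{u}} [IsIntegral X] [IsIntegral Y]
    [IsLocallyNoetherian Y] (f : X ⟶ Y) [LocallyOfFiniteType f] [QuasiCompact f]
    (hgen : f (genericPoint X) = genericPoint Y) (hbir : IsIso (f.stalkMap (genericPoint X)))
    (y : Y) (hy : ringKrullDim (Y.presheaf.stalk y) = 1) :
    (f ⁻¹' {y}).Finite := by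
  obtain ⟨V, hV, hyV, -⟩ := exists_isAffineOpen_mem_and_subset (U := ⊤) (x := y) (by simp)
  have hc : IsCompact (f ⁻¹ᵁ V : Set X) := f.isCompact_preimage hV.isCompact
  obtain ⟨s, hs, hsU⟩ := isCompact_iff_finite_and_eq_biUnion_affineOpens.mp hc
  have hsub : f ⁻¹' {y} ⊆ ⋃ i ∈ s, (f ⁻¹' {y} ∩ ((i : X.Opens) : Set X)) := by
    intro x hx
    have hxV : x ∈ f ⁻¹ᵁ V := by
      show f x ∈ V
      rw [show f x = y from hx]; exact hyV
    rw [hsU] at hxV
    simp only [Opens.mem_iSup] at hxV
    obtain ⟨i, hi, hxi⟩ := hxV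
    exact Set.mem_biUnion hi ⟨hx, hxi⟩
  refine (Set.Finite.biUnion hs fun i hi => ?_).subset hsub
  have hle : (i : X.Opens) ≤ f ⁻¹ᵁ V := by
    rw [hsU]
    exact le_iSup₂ (f := fun (j : X.affineOpens) (_ : j ∈ s) => (j : X.Opens)) i hi
  exact finite_preimage_inter f hgen hbir hV i.2 hle y hyV hy

/-- an affine restriction of a morphism with `O_Y ≅ f_* O_X` is an isomorphism -/
theorem isIso_restrict_of_isAffineHom {X Y : Scheme.{u}} (f : X ⟶ Y) (V : Y.Opens)
    [IsAffineHom (f ∣_ V)] (hO : ∀ U : Y.Opens, Function.Bijective (f.app U)) :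
    IsIso (f ∣_ V) := by
  rw [← MorphismProperty.isomorphisms.iff]
  refine (IsZariskiLocalAtTarget.iff_of_iSup_eq_top (P := MorphismProperty.isomorphisms Scheme.{u})
    (f := f ∣_ V) (fun W : (V : Scheme.{u}).affineOpens => W.1)
    (iSup_affineOpens_eq_top _)).mpr ?_
  rintro ⟨W, hW⟩
  haveI h1 : IsIso (f.app (V.ι ''ᵁ W)) := (ConcreteCategory.isIso_iff_bijective _).mpr (hO _)
  have h2 : IsIso ((f ∣_ V).app W) := by
    rw [morphismRestrict_app]
    have h3 : IsIso (X.presheaf.map
        (eqToHom (image_morphismRestrict_preimage f V W)).op) := by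
      haveI : IsIso (eqToHom (image_morphismRestrict_preimage f V W)).op := inferInstance
      exact Functor.map_isIso _ _
    exact @IsIso.comp_isIso _ _ _ _ _ _ _ h1 h3
  exact (MorphismProperty.isomorphisms.iff _).mpr
    ((isIso_morphismRestrict_iff_isIso_app (f := f ∣_ V) hW).mpr h2)

theorem lt_one_le_zero (d : WithBot ℕ∞) (h : d < 1) : d ≤ 0 := by
  induction d using WithBot.recBotCoe with
  | bot => exact bot_le
  | coe n =>
    have h2 : (n : WithBot ℕ∞) < ((1 : ℕ∞) : WithBot ℕ∞) := h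
    rw [WithBot.coe_lt_coe] at h2
    have h3 : n ≤ 0 := Order.le_of_lt_add_one (by rw [zero_add]; exact h2)
    exact_mod_cast h3

/-- a morphism of integral schemes which is an isomorphism over a nonempty open maps the generic
point to the generic point and is an isomorphism on the local rings there -/
theorem generic_of_birational {X Y : Scheme.{u}} [IsIntegral X] [IsIntegral Y] (f : X ⟶ Y)
    (hbir : ∃ U : Y.Opens, (U : Set Y).Nonempty ∧ IsIso (f ∣_ U)) :
    f (genericPoint X) = genericPoint Y ∧ IsIso (f.stalkMap (genericPoint X)) := by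
  obtain ⟨U, hUne, hiso⟩ := hbir
  have hηU : genericPoint Y ∈ U := ((genericPoint_spec Y).mem_open_set_iff U.2).mpr
    (by simpa [Set.univ_inter] using hUne)
  have hsurj : Function.Surjective (f ∣_ U) :=
    (ConcreteCategory.bijective_of_isIso (f ∣_ U).base).2
  obtain ⟨x, hx⟩ := hsurj ⟨genericPoint Y, hηU⟩
  have hx' : f x.1 = genericPoint Y := by
    have := congrArg Subtype.val hx
    rwa [morphismRestrict_base_coe] at this
  have hdom : f (genericPoint X) ⤳ genericPoint Y := by
    have h1 : genericPoint X ⤳ x.1 := genericPoint_specializes x.1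
    have h2 := h1.map f.continuous
    rwa [hx'] at h2
  have heq : f (genericPoint X) = genericPoint Y :=
    ((genericPoint_specializes (f (genericPoint X))).antisymm hdom).symm.eq
  have hηX : genericPoint X ∈ f ⁻¹ᵁ U := by
    show f (genericPoint X) ∈ U
    rw [heq]; exact hηU
  refine ⟨heq, ?_⟩
  have h1 : IsIso ((f ∣_ U).stalkMap ⟨genericPoint X, hηX⟩) := inferInstance
  exact ((MorphismProperty.isomorphisms CommRingCat).arrow_mk_iso_iff
    (morphismRestrictStalkMap f U ⟨genericPoint X, hηX⟩)).mp h1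

theorem main {X Y : Scheme.{u}} [IsIntegral X] [IsIntegral Y] [IsLocallyNoetherian Y]
    (f : X ⟶ Y) [IsProper f]
    (hbir : ∃ U : Y.Opens, (U : Set Y).Nonempty ∧ IsIso (f ∣_ U))
    (hO : ∀ U : Y.Opens, Function.Bijective (f.app U)) :
    ∃ V : Y.Opens, IsIso (f ∣_ V) ∧
      ∀ y : Y, y ∉ (V : Set Y) → 2 ≤ ringKrullDim (Y.presheaf.stalk y) := by
  obtain ⟨hgen, hst⟩ := generic_of_birational f hbir
  -- the union of all opens over which `f` is an isomorphism
  let 𝒮 : Set Y.Opens := {W | IsIso (f ∣_ W)}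
  let V : Y.Opens := sSup 𝒮
  have hmemV : ∀ y : Y, (∃ W : Y.Opens, y ∈ W ∧ IsIso (f ∣_ W)) → y ∈ V := by
    rintro y ⟨W, hyW, hW⟩
    exact (le_sSup (show W ∈ 𝒮 from hW)) hyW
  have hV : IsIso (f ∣_ V) := by
    rw [← MorphismProperty.isomorphisms.iff]
    refine (IsZariskiLocalAtTarget.iff_of_iSup_eq_top (P := MorphismProperty.isomorphisms Scheme.{u})
      (f := f ∣_ V) (fun W : 𝒮 => V.ι ⁻¹ᵁ W.1) ?_).mpr ?_
    · rw [eq_top_iff]
      rintro ⟨y, hy⟩ -
      obtain ⟨W, hW, hyW⟩ := TopologicalSpace.Opens.mem_sSup.mp hy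
      exact TopologicalSpace.Opens.mem_iSup.mpr ⟨⟨W, hW⟩, hyW⟩
    · rintro ⟨W, hW⟩
      exact (MorphismProperty.isomorphisms.iff _).mpr (BirEt3.isIso_restrict_restrict f W V hW)
  refine ⟨V, hV, ?_⟩
  intro y hyV
  by_contra hlt
  apply hyV
  have hle : ringKrullDim (Y.presheaf.stalk y) ≤ 1 :=
    PropBirNormal.lt_two_le_one _ (not_le.mp hlt)
  by_cases hA : maximalIdeal (Y.presheaf.stalk y) = ⊥
  · have hy := FamNormal.eq_genericPoint_of_maximalIdeal_eq_bot Y y hA
    obtain ⟨U, hUne, hU⟩ := hbir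
    refine hmemV _ ⟨U, ?_, hU⟩
    rw [hy]
    exact ((genericPoint_spec Y).mem_open_set_iff U.2).mpr (by simpa [Set.univ_inter] using hUne)
  · have hdim : ringKrullDim (Y.presheaf.stalk y) = 1 := by
      refine le_antisymm hle ?_
      by_contra h1
      have h0 : ringKrullDim (Y.presheaf.stalk y) ≤ 0 := lt_one_le_zero _ (not_le.mp h1)
      haveI : Ring.KrullDimLE 0 (Y.presheaf.stalk y) := by
        rw [Ring.krullDimLE_iff]; exact h0
      exact hA (IsLocalRing.isField_iff_maximalIdeal_eq.mp Ring.KrullDimLE.isField_of_isDomain)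
    have hfin := finite_preimage f hgen hst y hdim
    obtain ⟨W, hyW, hWfin⟩ := exists_isFinite_morphismRestrict_of_finite_preimage_singleton f y hfin
    exact hmemV _ ⟨W, hyW, isIso_restrict_of_isAffineHom f W hO⟩

end Groth.Agent.Helper3.BirFinFib
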