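import Mathlib
import Groth.Agent.Helper3.BirFinFib
import Groth.Agent.Helper6.HProj

set_option autoImplicit false
universe u
open AlgebraicGeometry CategoryTheory

namespace Groth.Agent.Helper3.BirFinFib

theorem s7899 {X Y : Scheme.{u}} [IsNoetherian X] [IsNoetherian Y]
    [IsIntegral X] [IsIntegral Y] (f : X ⟶ Y)
    (n : ℕ) (i : X ⟶ CohB1.ProjSpaceOver n Y) [IsClosedImmersion i] (hi : i ≫ CohB1.ProjSpaceOver.toBase n Y = f)
    (hbir : ∃ U : Y.Opens, (U : Set Y).Nonempty ∧ IsIso (f ∣_ U))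
    (hO : ∀ U : Y.Opens, Function.Bijective (f.app U)) :
    ∃ V : Y.Opens, IsIso (f ∣_ V) ∧ ∀ y : Y, y ∉ (V : Set Y) → 2 ≤ ringKrullDim (Y.presheaf.stalk y) := by
  haveI : IsProper (CohB1.ProjSpaceOver.toBase n Y) := Groth.Agent.Helper6.HProj.isProper_toBase n Y
  haveI : IsProper f := by rw [← hi]; infer_instance
  exact main f hbir hO

end Groth.Agent.Helper3.BirFinFib
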