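import Groth.Agent.Helper3.BirCurve

open AlgebraicGeometry CategoryTheory CategoryTheory.Limits TopologicalSpace Opposite IsLocalRing

universe u

namespace Groth.Agent.Helper3.BirFlat

/-- a flat local homomorphism of local rings inducing a surjection on fraction fields is
bijective -/
theorem bijective_of_flat {A B K L : Type*} [CommRing A] [IsDomain A] [IsLocalRing A]
    [CommRing B] [IsLocalRing B] [Field K] [Field L] [Algebra A K] [IsFractionRing A K]
    [Algebra B L] (hBL : Function.Injective (algebraMap B L))
    [Algebra A B] [IsLocalHom (algebraMap A B)] [Module.Flat A B]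
    (ψ : K →+* L) (hψ : Function.Surjective ψ)
    (hc : ∀ a, ψ (algebraMap A K a) = algebraMap B L (algebraMap A B a)) :
    Function.Bijective (algebraMap A B) := by
  haveI : Module.FaithfullyFlat A B := Module.FaithfullyFlat.of_flat_of_isLocalHom
  have hinj : Function.Injective (algebraMap A B) := by
    rw [injective_iff_map_eq_zero]
    intro a ha
    have h1 : ψ (algebraMap A K a) = 0 := by rw [hc, ha, map_zero]
    have h2 : algebraMap A K a = 0 := (map_eq_zero ψ).mp h1
    exact (IsFractionRing.injective A K) (by rw [h2, map_zero])
  refine ⟨hinj, ?_⟩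
  intro b
  obtain ⟨c, hcb⟩ := hψ (algebraMap B L b)
  obtain ⟨a, s, hs, rfl⟩ := IsFractionRing.div_surjective (A := A) c
  have hs0 : algebraMap A K s ≠ 0 :=
    IsFractionRing.to_map_ne_zero_of_mem_nonZeroDivisors hs
  have h1 : algebraMap A B s * b = algebraMap A B a := by
    apply hBL
    rw [map_mul, ← hc, ← hc, ← hcb, ← map_mul, mul_div_cancel₀ _ hs0]
  have h2 : a ∈ (Ideal.span {s} : Ideal A) := by
    rw [← Ideal.comap_map_eq_self_of_faithfullyFlat (B := B) (Ideal.span {s}), Ideal.mem_comap,
      Ideal.map_span, Set.image_singleton, Ideal.mem_span_singleton]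
    exact ⟨b, h1.symm⟩
  obtain ⟨a', rfl⟩ := Ideal.mem_span_singleton.mp h2
  refine ⟨a', ?_⟩
  have hsB : algebraMap B L (algebraMap A B s) ≠ 0 := by
    rw [← hc]
    exact (map_ne_zero ψ).mpr hs0
  apply hBL
  have h3 : algebraMap B L (algebraMap A B s) * algebraMap B L b =
      algebraMap B L (algebraMap A B s) * algebraMap B L (algebraMap A B a') := by
    rw [← map_mul, h1, map_mul, map_mul]
  exact (mul_left_cancel₀ hsB h3).symm


/-- a dominant morphism of irreducible schemes maps the generic point to the generic point -/
theorem map_genericPoint {X Y : Scheme.{u}} [IrreducibleSpace X] [IrreducibleSpace Y]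
    (f : X ⟶ Y) [IsDominant f] : f (genericPoint X) = genericPoint Y := by
  have hrange : Set.range f ⊆ closure ({f (genericPoint X)} : Set Y) := by
    rintro _ ⟨x, rfl⟩
    have : genericPoint X ⤳ x := genericPoint_specializes x
    exact specializes_iff_mem_closure.mp (this.map f.continuous)
  have h1 : closure ({f (genericPoint X)} : Set Y) = Set.univ := by
    have h2 : closure (Set.range f) = Set.univ := f.denseRange.closure_range
    have h3 : closure (Set.range f) ⊆ closure ({f (genericPoint X)} : Set Y) :=
      closure_minimal hrange isClosed_closure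
    rw [h2] at h3
    exact Set.eq_univ_of_univ_subset h3
  have hg1 : IsGenericPoint (f (genericPoint X)) (⊤ : Set Y) := h1
  exact hg1.eq (genericPoint_spec Y)

/-- stalk maps of a flat birational morphism of integral schemes are bijective -/
theorem stalkMap_bijective_of_flat {X Y : Scheme.{u}} [IsIntegral X] [IsIntegral Y] (f : X ⟶ Y)
    [Flat f] (e : f (genericPoint X) = genericPoint Y)
    (hbir : Function.Surjective (Y.presheaf.stalkSpecializes (specializes_of_eq e) ≫
      f.stalkMap (genericPoint X)).hom) (x : X) :
    Function.Bijective (f.stalkMap x).hom := by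
  letI : Algebra (Y.presheaf.stalk (f x)) (X.presheaf.stalk x) := (f.stalkMap x).hom.toAlgebra
  haveI : IsLocalHom (algebraMap (Y.presheaf.stalk (f x)) (X.presheaf.stalk x)) :=
    inferInstanceAs (IsLocalHom (f.stalkMap x).hom)
  haveI : Module.Flat (Y.presheaf.stalk (f x)) (X.presheaf.stalk x) := Flat.stalkMap f x
  refine bijective_of_flat (K := Y.functionField) (L := X.functionField)
    (IsFractionRing.injective (X.presheaf.stalk x) X.functionField)
    (Y.presheaf.stalkSpecializes (specializes_of_eq e) ≫ f.stalkMap (genericPoint X)).hom
    hbir ?_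
  intro a
  have hsp : genericPoint X ⤳ x := genericPoint_specializes x
  have hnat := f.stalkSpecializes_stalkMap _ _ hsp
  have h1 : Y.presheaf.stalkSpecializes (genericPoint_specializes (f x)) ≫
      Y.presheaf.stalkSpecializes (specializes_of_eq e) =
      Y.presheaf.stalkSpecializes (hsp.map f.continuous) :=
    Y.presheaf.stalkSpecializes_comp _ _
  have h2 : (Y.presheaf.stalkSpecializes (genericPoint_specializes (f x)) ≫
      Y.presheaf.stalkSpecializes (specializes_of_eq e) ≫ f.stalkMap (genericPoint X)) =
      f.stalkMap x ≫ X.presheaf.stalkSpecializes hsp := by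
    rw [← Category.assoc, h1]
    exact hnat
  exact congrArg (fun φ => φ.hom a) h2


/-- S10879 -/
theorem s10879 {X' X : Scheme.{u}} [IsIntegral X'] [IsIntegral X]
    (f : X' ⟶ X) [Surjective f] [IsSeparated f] (hK : IsIso (f.stalkMap (genericPoint X')))
    (h : IsAffineHom f ∨ LocallyOfFinitePresentation f) :
    Flat f ↔ IsIso f := by
  refine ⟨fun hflat => ?_, fun _ => inferInstance⟩
  haveI : IsDominant f := ⟨f.surjective.denseRange⟩
  have e : f (genericPoint X') = genericPoint X := map_genericPoint f
  have hbir : Function.Surjective (X.presheaf.stalkSpecializes (specializes_of_eq e) ≫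
      f.stalkMap (genericPoint X')).hom := by
    rw [CommRingCat.hom_comp, RingHom.coe_comp]
    refine Function.Surjective.comp
      ((ConcreteCategory.isIso_iff_bijective _).mp hK).2 ?_
    intro b
    refine ⟨X.presheaf.stalkSpecializes (specializes_of_eq e.symm) b, ?_⟩
    have h1 : X.presheaf.stalkSpecializes (specializes_of_eq e.symm) ≫
        X.presheaf.stalkSpecializes (specializes_of_eq e) = 𝟙 _ := by
      rw [X.presheaf.stalkSpecializes_comp]
      exact X.presheaf.stalkSpecializes_refl _
    exact congrArg (fun φ => φ.hom b) h1
  have hbij : ∀ x, Function.Bijective (f.stalkMap x).hom := fun x =>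
    stalkMap_bijective_of_flat f e hbir x
  have hiso : ∀ x, IsIso (f.stalkMap x) := fun x =>
    (ConcreteCategory.isIso_iff_bijective _).mpr (hbij x)
  have hinj := BirCurve.injective_of_isIso_stalkMap f e hiso
  have hopen : IsOpenMap f := by
    rcases h with haff | hlfp
    · -- closed map via specializing
      have hspec : SpecializingMap f := by
        intro x' y hy
        change f x' ⤳ y at hy
        obtain ⟨x'', rfl⟩ := f.surjective y
        obtain ⟨z, hz, hfz⟩ := Flat.generalizingMap f hy
        change z ⤳ x'' at hz
        have : z = x' := hinj hfz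
        subst this
        exact ⟨x'', hz, rfl⟩
      have hcl : IsClosedMap f := (isClosedMap_iff_specializingMap f).mpr hspec
      intro U hU
      have : f '' U = (f '' Uᶜ)ᶜ := by
        rw [Set.image_compl_eq ⟨hinj, f.surjective⟩, compl_compl]
      rw [this]
      exact (hcl _ hU.isClosed_compl).isOpen_compl
    · exact f.isOpenMap
  haveI : IsOpenImmersion f := IsOpenImmersion.of_isIso_stalkMap f
    (Topology.IsOpenEmbedding.of_continuous_injective_isOpenMap f.continuous hinj hopen)
  exact (isIso_iff_isOpenImmersion_and_surjective f).mpr ⟨inferInstance, inferInstance⟩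

end Groth.Agent.Helper3.BirFlat
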