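import Mathlib

/-!
One-point schemes are spectra of local rings; morphisms from them factor through `Spec` of the
stalk at the image point.
-/

set_option autoImplicit false

namespace Groth.Agent.Helper3.OnePt

open AlgebraicGeometry CategoryTheory Limits

universe u

lemma isAffine_of_subsingleton (P : Scheme.{u}) [Subsingleton P] [Nonempty P] : IsAffine P := by
  obtain ⟨p0⟩ := (inferInstance : Nonempty P)
  obtain ⟨_, ⟨W, hW, rfl⟩, hpW, -⟩ :=
    P.isBasis_affineOpens.exists_subset_of_mem_open (Set.mem_univ p0) isOpen_univ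
  have hWtop : W = ⊤ := by
    ext p
    simp only [TopologicalSpace.Opens.coe_top, Set.mem_univ, iff_true]
    rw [Subsingleton.elim p p0]
    exact hpW
  subst hWtop
  have : IsAffine ((⊤ : P.Opens) : Scheme) := hW
  exact IsAffine.of_isIso (P.topIso).inv

lemma isLocalRing_of_subsingleton (R : Type u) [CommRing R] [Subsingleton (PrimeSpectrum R)]
    [Nonempty (PrimeSpectrum R)] : IsLocalRing R := by
  obtain ⟨q⟩ := (inferInstance : Nonempty (PrimeSpectrum R))
  have : Nontrivial R := q.nontrivial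
  obtain ⟨M, hM⟩ := Ideal.exists_maximal R
  refine IsLocalRing.of_unique_max_ideal ⟨M, hM, fun M' hM' => ?_⟩
  have := Subsingleton.elim (⟨M', hM'.isPrime⟩ : PrimeSpectrum R) ⟨M, hM.isPrime⟩
  exact congrArg PrimeSpectrum.asIdeal this

theorem exists_lift_fromSpecStalk {P X : Scheme.{u}} (g : P ⟶ X) [Subsingleton P] [Nonempty P]
    (x : X) (hx : ∀ p : P, g p = x) :
    ∃ k : P ⟶ Spec (X.presheaf.stalk x), k ≫ X.fromSpecStalk x = g := by
  have hP : IsAffine P := isAffine_of_subsingleton P
  let e : P ≅ Spec Γ(P, ⊤) := P.isoSpec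
  have h1 : Subsingleton (PrimeSpectrum Γ(P, ⊤)) := by
    refine ⟨fun a b => ?_⟩
    have : e.inv a = e.inv b := Subsingleton.elim _ _
    have h2 := congrArg (fun p => e.hom p) this
    have ha : ∀ a : Spec Γ(P, ⊤), e.hom (e.inv a) = a := fun a => by
      have : (e.inv ≫ e.hom) a = a := by rw [e.inv_hom_id]; rfl
      exact this
    exact (ha a).symm.trans (h2.trans (ha b))
  have h2 : Nonempty (PrimeSpectrum Γ(P, ⊤)) := by
    obtain ⟨p0⟩ := (inferInstance : Nonempty P)
    exact ⟨e.hom p0⟩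
  have hloc : IsLocalRing Γ(P, ⊤) := isLocalRing_of_subsingleton _
  let g' : Spec Γ(P, ⊤) ⟶ X := e.inv ≫ g
  have hx0 : g' (IsLocalRing.closedPoint Γ(P, ⊤)) = x := hx _
  have hsp : g' (IsLocalRing.closedPoint Γ(P, ⊤)) ⤳ x := specializes_of_eq hx0
  refine ⟨e.hom ≫ Spec.map (Scheme.stalkClosedPointTo g') ≫
    Spec.map (X.presheaf.stalkSpecializes hsp), ?_⟩
  rw [Category.assoc, Category.assoc, Scheme.SpecMap_stalkSpecializes_fromSpecStalk hsp,
    Scheme.Spec_stalkClosedPointTo_fromSpecStalk, e.hom_inv_id_assoc]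

end Groth.Agent.Helper3.OnePt
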