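import Mathlib
import Groth.Agent.Helper3.OnePt
import Groth.Agent.Helper3.GenPts
import Groth.Agent.Helper3.FibrePt

/-!
For a birational morphism `f : X ⟶ Y` (bijection on generic points of irreducible components and
isomorphisms on the stalks there), the base change of `f` to `Spec 𝒪_{Y,y}` for a generic point
`y` of a component of `Y` is an isomorphism.
-/

set_option autoImplicit false

namespace Groth.Agent.Helper3.BirStalk

open AlgebraicGeometry CategoryTheory Limits

universe u

theorem isIso_snd_fromSpecStalk {X Y : Scheme.{u}} (f : X ⟶ Y)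
    (hbij : Set.BijOn (fun x : X => f.base x) {x : X | closure {x} ∈ irreducibleComponents ↥X}
      {y : Y | closure {y} ∈ irreducibleComponents ↥Y})
    (hiso : ∀ x : X, closure {x} ∈ irreducibleComponents ↥X → IsIso (f.stalkMap x))
    (y : Y) (hy : closure {y} ∈ irreducibleComponents ↥Y) :
    IsIso (pullback.snd f (Y.fromSpecStalk y)) := by
  obtain ⟨x, hx, hxy⟩ := hbij.surjOn hy
  have hxy' : f x = y := hxy
  subst hxy'
  have hφ : IsIso (f.stalkMap x) := hiso x hx
  have hb : Function.Bijective (f.stalkMap x).hom :=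
    (ConcreteCategory.isIso_iff_bijective _).mp hφ
  have hfib : ∀ z : X, f z = f x → z = x := by
    intro z hz
    obtain ⟨x'', hx'', hxz⟩ := GenPts.exists_genPt_specializes z
    have h1 : f x'' = f x := GenPts.eq_of_specializes hy (hz ▸ hxz.map f.continuous)
    have h2 : x'' = x := hbij.injOn hx'' hx h1
    subst h2
    exact (FibrePt.eq_of_specializes_of_bijective f hxz hz.symm hb).symm
  let h : Spec (X.presheaf.stalk x) ⟶ pullback f (Y.fromSpecStalk (f x)) :=
    pullback.lift (X.fromSpecStalk x) (Spec.map (f.stalkMap x))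
      (Scheme.SpecMap_stalkMap_fromSpecStalk f).symm
  have hfst : ∀ p : ↥(pullback f (Y.fromSpecStalk (f x))),
      (pullback.fst f (Y.fromSpecStalk (f x))) p = x := by
    intro p
    apply hfib
    have h1 : f (pullback.fst f (Y.fromSpecStalk (f x)) p) =
        Y.fromSpecStalk (f x) (pullback.snd f (Y.fromSpecStalk (f x)) p) := by
      have := congrArg (fun g : pullback f (Y.fromSpecStalk (f x)) ⟶ Y => g p)
        (pullback.condition (f := f) (g := Y.fromSpecStalk (f x)))
      exact this
    have h2 : Y.fromSpecStalk (f x) (pullback.snd f (Y.fromSpecStalk (f x)) p) ∈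
        Set.range (Y.fromSpecStalk (f x)) := ⟨_, rfl⟩
    rw [Scheme.range_fromSpecStalk] at h2
    rw [h1]
    exact GenPts.eq_of_specializes hy h2
  have hsub : Subsingleton ↥(pullback f (Y.fromSpecStalk (f x))) :=
    ⟨fun p p' => (pullback.fst f (Y.fromSpecStalk (f x))).isEmbedding.injective
      ((hfst p).trans (hfst p').symm)⟩
  have hne : Nonempty ↥(pullback f (Y.fromSpecStalk (f x))) :=
    ⟨h (IsLocalRing.closedPoint _)⟩
  obtain ⟨k, hk⟩ := OnePt.exists_lift_fromSpecStalk (pullback.fst f (Y.fromSpecStalk (f x))) x hfst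
  have hhk : h ≫ k = 𝟙 _ := by
    rw [← cancel_mono (X.fromSpecStalk x), Category.assoc, hk, pullback.lift_fst,
      Category.id_comp]
  have hkh : k ≫ h = 𝟙 _ := by
    rw [← cancel_mono (pullback.fst f (Y.fromSpecStalk (f x))), Category.assoc,
      pullback.lift_fst, hk, Category.id_comp]
  have hh : IsIso h := ⟨k, hhk, hkh⟩
  have : pullback.snd f (Y.fromSpecStalk (f x)) = inv h ≫ Spec.map (f.stalkMap x) := by
    rw [IsIso.eq_inv_comp, pullback.lift_snd]
  rw [this]
  infer_instance

end Groth.Agent.Helper3.BirStalk
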