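import Mathlib
set_option autoImplicit false
set_option linter.style.haveILetI false
set_option linter.unusedSectionVars false
set_option linter.unusedVariables false
set_option linter.style.haveILetI false
set_option linter.unusedSectionVars false
set_option linter.unusedVariables false

universe u
open CategoryTheory AlgebraicGeometry

namespace Groth.Agent.Helper3.Birat

variable {X Y : Scheme.{u}}

instance dom_toPartialMap (e : X.PartialIso Y) : IsDominant e.toPartialMap.hom := by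
  have := Opens.isDominant_ι e.dense_target
  change IsDominant (e.iso.hom ≫ e.target.ι)
  infer_instance

lemma comp_symm_equiv [IrreducibleSpace X] [Nonempty Y] (e : X.PartialIso Y) :
    (e.toPartialMap.comp e.symm.toPartialMap).equiv (Scheme.PartialMap.id X) := by
  refine ⟨(e.toPartialMap.comp e.symm.toPartialMap).domain,
    (e.toPartialMap.comp e.symm.toPartialMap).dense_domain, le_rfl, le_top, ?_⟩
  obtain ⟨U, hU, V, hV, i⟩ := e
  change X.homOfLE _ ≫ (U.ι.isoImage ((i.hom ≫ V.ι) ⁻¹ᵁ V)).inv ≫ (i.hom ≫ V.ι) ∣_ V ≫ i.inv ≫ U.ι =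
    X.homOfLE _ ≫ (X.topIso.hom ≫ 𝟙 X)
  have h1 : (i.hom ≫ V.ι) ∣_ V ≫ i.inv = ((i.hom ≫ V.ι) ⁻¹ᵁ V).ι := by
    rw [← cancel_mono i.hom, ← cancel_mono V.ι]
    simp only [Category.assoc, Iso.inv_hom_id, Category.comp_id]
    exact morphismRestrict_ι _ _
  rw [← Category.assoc ((i.hom ≫ V.ι) ∣_ V), h1]
  rw [Scheme.Hom.isoImage_inv_ι]
  simp

theorem forward [IsIntegral X] [IsIntegral Y] (h : Scheme.Birational X Y) :
    ∃ (f : X ⤏ Y) (g : Y ⤏ X) (_ : f.IsDominant) (_ : g.IsDominant),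
        f.comp g = Scheme.RationalMap.id X ∧ g.comp f = Scheme.RationalMap.id Y := by
  obtain ⟨e⟩ := h
  refine ⟨e.toRationalMap, e.symm.toRationalMap, inferInstance, inferInstance, ?_, ?_⟩
  · rw [Scheme.RationalMap.toRationalMap_comp, Scheme.PartialMap.toRationalMap_eq_iff]
    exact comp_symm_equiv e
  · rw [Scheme.RationalMap.toRationalMap_comp, Scheme.PartialMap.toRationalMap_eq_iff]
    exact comp_symm_equiv e.symm

lemma half {U W : X.Opens} {V W' : Y.Opens} (hWU : W ≤ U) (hW'V : W' ≤ V)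
    (p : U.toScheme ⟶ Y) (q : V.toScheme ⟶ X)
    (a' : W.toScheme ⟶ V.toScheme)
    (ha1 : a' ≫ V.ι = X.homOfLE hWU ≫ p) (ha2 : a' ≫ q = W.ι) :
    ∃ φ : ((X.homOfLE hWU ≫ p) ⁻¹ᵁ W').toScheme ⟶ ((Y.homOfLE hW'V ≫ q) ⁻¹ᵁ W).toScheme,
      φ ≫ Scheme.Opens.ι _ ≫ W'.ι = Scheme.Opens.ι _ ≫ (X.homOfLE hWU ≫ p) ∧
      φ ≫ Scheme.Opens.ι _ ≫ (Y.homOfLE hW'V ≫ q) = Scheme.Opens.ι _ ≫ W.ι := by
  obtain ⟨a, ha⟩ : ∃ a, a = X.homOfLE hWU ≫ p := ⟨_, rfl⟩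
  obtain ⟨b, hb⟩ : ∃ b, b = Y.homOfLE hW'V ≫ q := ⟨_, rfl⟩
  rw [← ha, ← hb]
  rw [← ha] at ha1
  have e0 : (a ∣_ W') ≫ Y.homOfLE hW'V = (a ⁻¹ᵁ W').ι ≫ a' := by
    rw [← cancel_mono V.ι]
    simp only [Category.assoc, Scheme.homOfLE_ι, ha1]
    exact morphismRestrict_ι _ _
  have e1 : (a ∣_ W') ≫ b = (a ⁻¹ᵁ W').ι ≫ W.ι := by
    rw [hb, ← Category.assoc, e0, Category.assoc, ha2]
  have hr : Set.range (a ∣_ W') ⊆ Set.range (b ⁻¹ᵁ W).ι := by
    rw [Scheme.Opens.range_ι]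
    rintro _ ⟨x, rfl⟩
    change b ((a ∣_ W') x) ∈ W
    rw [← Scheme.Hom.comp_apply, e1, Scheme.Hom.comp_apply]
    exact (Scheme.Opens.ι _ x).2
  refine ⟨IsOpenImmersion.lift (b ⁻¹ᵁ W).ι (a ∣_ W') hr, ?_, ?_⟩
  · rw [IsOpenImmersion.lift_fac_assoc]
    exact morphismRestrict_ι _ _
  · rw [IsOpenImmersion.lift_fac_assoc, e1]

lemma core {U W : X.Opens} {V W' : Y.Opens} (hWU : W ≤ U) (hW'V : W' ≤ V)
    (p : U.toScheme ⟶ Y) (q : V.toScheme ⟶ X)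
    (a' : W.toScheme ⟶ V.toScheme) (b' : W'.toScheme ⟶ U.toScheme)
    (ha1 : a' ≫ V.ι = X.homOfLE hWU ≫ p) (ha2 : a' ≫ q = W.ι)
    (hb1 : b' ≫ U.ι = Y.homOfLE hW'V ≫ q) (hb2 : b' ≫ p = W'.ι) :
    Nonempty (((X.homOfLE hWU ≫ p) ⁻¹ᵁ W').toScheme ≅ ((Y.homOfLE hW'V ≫ q) ⁻¹ᵁ W).toScheme) := by
  obtain ⟨φ, h1, h2⟩ := half (W' := W') hWU hW'V p q a' ha1 ha2
  obtain ⟨ψ, h3, h4⟩ := half (W' := W) hW'V hWU q p b' hb1 hb2
  refine ⟨⟨φ, ψ, ?_, ?_⟩⟩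
  · rw [← cancel_mono (Scheme.Opens.ι _), ← cancel_mono W.ι]
    simp only [Category.assoc, Category.id_comp]
    rw [h3, h2]
  · rw [← cancel_mono (Scheme.Opens.ι _), ← cancel_mono W'.ι]
    simp only [Category.assoc, Category.id_comp]
    rw [h1, h4]

lemma K [PreirreducibleSpace X] [Nonempty Y] (f₀ : X.PartialMap Y) [IsDominant f₀.hom]
    (g₀ : Y.PartialMap X)
    (h : (f₀.comp g₀).equiv (Scheme.PartialMap.id X)) :
    ∃ (W : X.Opens) (hW : Dense (W : Set X)) (hWU : W ≤ f₀.domain)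
      (a' : W.toScheme ⟶ g₀.domain.toScheme),
      a' ≫ g₀.domain.ι = X.homOfLE hWU ≫ f₀.hom ∧ a' ≫ g₀.hom = W.ι := by
  obtain ⟨W, hW, hWl, hWr, e⟩ := h
  have hWU : W ≤ f₀.domain := hWl.trans (f₀.domain.ι_image_le _)
  have hWl' : W ≤ f₀.domain.ι ''ᵁ f₀.hom ⁻¹ᵁ g₀.domain := hWl
  have e' : X.homOfLE hWl' ≫ (f₀.domain.ι.isoImage _).inv ≫ f₀.hom ∣_ g₀.domain ≫ g₀.hom =
      X.homOfLE (le_top : W ≤ ⊤) ≫ (X.topIso.hom ≫ 𝟙 X) := e
  refine ⟨W, hW, hWU, X.homOfLE hWl' ≫ (f₀.domain.ι.isoImage _).inv ≫ (f₀.hom ∣_ g₀.domain), ?_, ?_⟩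
  · simp only [Category.assoc, morphismRestrict_ι]
    rw [← Category.assoc _ _ f₀.hom, ← Category.assoc _ _ f₀.hom]
    congr 1
    rw [← cancel_mono f₀.domain.ι]
    simp only [Category.assoc, Scheme.homOfLE_ι]
    rw [Scheme.Hom.isoImage_inv_ι]
    simp
  · simp only [Category.assoc]
    rw [e']
    simp

theorem backward [IsIntegral X] [IsIntegral Y]
    (h : ∃ (f : X ⤏ Y) (g : Y ⤏ X) (_ : f.IsDominant) (_ : g.IsDominant),
        f.comp g = Scheme.RationalMap.id X ∧ g.comp f = Scheme.RationalMap.id Y) :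
    Scheme.Birational X Y := by
  obtain ⟨f, g, hf, hg, h1, h2⟩ := h
  have h1' : (f.representative.comp g.representative).equiv (Scheme.PartialMap.id X) := by
    rw [← Scheme.PartialMap.toRationalMap_eq_iff, ← Scheme.RationalMap.comp_def,
      Scheme.RationalMap.toRationalMap_representative]
    exact h1
  have h2' : (g.representative.comp f.representative).equiv (Scheme.PartialMap.id Y) := by
    rw [← Scheme.PartialMap.toRationalMap_eq_iff, ← Scheme.RationalMap.comp_def,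
      Scheme.RationalMap.toRationalMap_representative]
    exact h2
  obtain ⟨W, hW, hWU, a', ha1, ha2⟩ := K _ _ h1'
  obtain ⟨W', hW', hW'V, b', hb1, hb2⟩ := K _ _ h2'
  obtain ⟨i⟩ := core hWU hW'V _ _ a' b' ha1 ha2 hb1 hb2
  have hdW : IsDominant (X.homOfLE hWU) := Opens.isDominant_homOfLE hW hWU
  have hdW' : IsDominant (Y.homOfLE hW'V) := Opens.isDominant_homOfLE hW' hW'V
  refine ⟨⟨W.ι ''ᵁ _, ?_, W'.ι ''ᵁ _, ?_, (W.ι.isoImage _).symm ≪≫ i ≪≫ W'.ι.isoImage _⟩⟩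
  · refine (W.ι ''ᵁ _).2.dense ?_
    obtain ⟨_, hy, x, rfl⟩ :=
      (X.homOfLE hWU ≫ f.representative.hom).denseRange.inter_open_nonempty _ W'.2 hW'.nonempty
    exact ⟨W.ι x, x, hy, rfl⟩
  · refine (W'.ι ''ᵁ _).2.dense ?_
    obtain ⟨_, hy, x, rfl⟩ :=
      (Y.homOfLE hW'V ≫ g.representative.hom).denseRange.inter_open_nonempty _ W.2 hW.nonempty
    exact ⟨W'.ι x, x, hy, rfl⟩

theorem main (X Y : Scheme.{u}) [IsIntegral X] [IsIntegral Y] :
    Scheme.Birational X Y ↔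
      ∃ (f : X ⤏ Y) (g : Y ⤏ X) (_ : f.IsDominant) (_ : g.IsDominant),
        f.comp g = Scheme.RationalMap.id X ∧ g.comp f = Scheme.RationalMap.id Y :=
  ⟨forward, backward⟩

end Groth.Agent.Helper3.Birat
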