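import Mathlib
set_option autoImplicit false
set_option linter.style.haveILetI false
set_option linter.unusedSectionVars false
set_option linter.unusedVariables false
set_option linter.style.haveILetI false
set_option linter.unusedSectionVars false
set_option linter.unusedVariables false

namespace Groth.Agent.Helper3.CDivPow
open AlgebraicGeometry CategoryTheory TopologicalSpace

universe u

lemma isUnit_of_span_pow_eq {A : Type*} [CommRing A] {d : A} (hd : d ∈ nonZeroDivisors A)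
    {a b : ℕ} (hab : a ≠ b) (h : Ideal.span {d} ^ a = Ideal.span {d} ^ b) : IsUnit d := by
  wlog hlt : a < b generalizing a b
  · exact this (Ne.symm hab) h.symm (lt_of_le_of_ne (not_lt.mp hlt) (Ne.symm hab))
  rw [Ideal.span_singleton_pow, Ideal.span_singleton_pow] at h
  have hmem : d ^ a ∈ Ideal.span {d ^ b} := h ▸ Ideal.mem_span_singleton_self _
  obtain ⟨c, hc⟩ := Ideal.mem_span_singleton.mp hmem
  have hb : b = a + (b - a) := by omega
  rw [hb, pow_add] at hc
  have h1 : d ^ a * 1 = d ^ a * (d ^ (b - a) * c) := by rw [mul_one, ← mul_assoc]; exact hc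
  have h2 : (1 : A) = d ^ (b - a) * c :=
    (mul_cancel_left_mem_nonZeroDivisors (pow_mem hd a)).mp h1
  have h3 : IsUnit (d ^ (b - a)) := IsUnit.of_mul_eq_one c h2.symm
  exact (isUnit_pow_iff (by omega)).mp h3

lemma cross_of_local {A : Type*} [CommRing A] {d e : A} (hd : d ∈ nonZeroDivisors A)
    (he : e ∈ nonZeroDivisors A) (hne : ¬ (IsUnit d ∧ IsUnit e)) {m n m' n' : ℕ}
    (h1 : Ideal.span {d} ^ m = Ideal.span {e} ^ n)
    (h2 : Ideal.span {d} ^ m' = Ideal.span {e} ^ n') : m * n' = m' * n := by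
  by_contra hcon
  apply hne
  constructor
  · apply isUnit_of_span_pow_eq hd hcon
    calc Ideal.span {d} ^ (m * n') = (Ideal.span {d} ^ m) ^ n' := pow_mul _ _ _
      _ = (Ideal.span {e} ^ n) ^ n' := by rw [h1]
      _ = Ideal.span {e} ^ (n * n') := (pow_mul _ _ _).symm
      _ = Ideal.span {e} ^ (n' * n) := by rw [mul_comm]
      _ = (Ideal.span {e} ^ n') ^ n := pow_mul _ _ _
      _ = (Ideal.span {d} ^ m') ^ n := by rw [h2]
      _ = Ideal.span {d} ^ (m' * n) := (pow_mul _ _ _).symm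
  · have hcon' : n * m' ≠ n' * m := by
      intro h; apply hcon; rw [mul_comm m n', mul_comm m' n]; exact h.symm
    apply isUnit_of_span_pow_eq he hcon'
    calc Ideal.span {e} ^ (n * m') = (Ideal.span {e} ^ n) ^ m' := pow_mul _ _ _
      _ = (Ideal.span {d} ^ m) ^ m' := by rw [h1]
      _ = Ideal.span {d} ^ (m * m') := (pow_mul _ _ _).symm
      _ = Ideal.span {d} ^ (m' * m) := by rw [mul_comm]
      _ = (Ideal.span {d} ^ m') ^ m := pow_mul _ _ _
      _ = (Ideal.span {e} ^ n') ^ m := by rw [h2]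
      _ = Ideal.span {e} ^ (n' * m) := (pow_mul _ _ _).symm

lemma cross_arith {m n m' n' m₀ n₀ : ℕ} (h0 : ¬ (m₀ = 0 ∧ n₀ = 0))
    (h1 : m * n₀ = m₀ * n) (h2 : m' * n₀ = m₀ * n') : m * n' = m' * n := by
  by_cases hm : m₀ = 0
  · have hn : n₀ ≠ 0 := fun h => h0 ⟨hm, h⟩
    subst hm
    simp only [zero_mul, mul_eq_zero] at h1 h2
    have : m = 0 := by tauto
    have : m' = 0 := by tauto
    subst_vars; simp
  by_cases hn : n₀ = 0
  · subst hn
    simp only [mul_zero] at h1 h2
    have h1' : n = 0 := by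
      rcases mul_eq_zero.mp h1.symm with h | h
      · exact absurd h hm
      · exact h
    have h2' : n' = 0 := by
      rcases mul_eq_zero.mp h2.symm with h | h
      · exact absurd h hm
      · exact h
    subst_vars; simp
  have hpos : 0 < m₀ * n₀ := Nat.mul_pos (Nat.pos_of_ne_zero hm) (Nat.pos_of_ne_zero hn)
  apply Nat.eq_of_mul_eq_mul_right hpos
  calc m * n' * (m₀ * n₀) = (m * n₀) * (m₀ * n') := by ring
    _ = (m₀ * n) * (m' * n₀) := by rw [h1, h2]
    _ = m' * n * (m₀ * n₀) := by ring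

variable {X : Scheme.{u}}

/-- The stalk of an ideal sheaf, computed on an affine open neighbourhood. -/
noncomputable def stalkIdeal (I : X.IdealSheafData) (x : X) (U : X.affineOpens) (hx : x ∈ U.1) :
    Ideal (X.presheaf.stalk x) :=
  (I.ideal U).map (X.presheaf.germ U.1 x hx).hom

lemma stalkIdeal_eq_of_le (I : X.IdealSheafData) (x : X) {U V : X.affineOpens} (h : U ≤ V)
    (hx : x ∈ U.1) : stalkIdeal I x U hx = stalkIdeal I x V (h hx) := by
  unfold stalkIdeal
  rw [← I.map_ideal h, Ideal.map_map, ← CommRingCat.hom_comp, X.presheaf.germ_res']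

lemma stalkIdeal_eq (I : X.IdealSheafData) (x : X) (U V : X.affineOpens) (hU : x ∈ U.1)
    (hV : x ∈ V.1) : stalkIdeal I x U hU = stalkIdeal I x V hV := by
  obtain ⟨W, hW, hxW, hWUV⟩ := (Opens.isBasis_iff_nbhd.mp X.isBasis_affineOpens)
    (show x ∈ U.1 ⊓ V.1 from ⟨hU, hV⟩)
  have h1 : (⟨W, hW⟩ : X.affineOpens) ≤ U := fun y hy => (hWUV hy).1
  have h2 : (⟨W, hW⟩ : X.affineOpens) ≤ V := fun y hy => (hWUV hy).2
  rw [← stalkIdeal_eq_of_le I x h1 hxW, ← stalkIdeal_eq_of_le I x h2 hxW]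

lemma stalkIdeal_pow (D E : X.IdealSheafData) (x : X) (U : X.affineOpens) (hx : x ∈ U.1) {m n : ℕ}
    (h : D.ideal U ^ m = E.ideal U ^ n) : stalkIdeal D x U hx ^ m = stalkIdeal E x U hx ^ n := by
  unfold stalkIdeal
  rw [← Ideal.map_pow, ← Ideal.map_pow, h]

lemma stalkIdeal_span (I : X.IdealSheafData) (x : X) (U : X.affineOpens) (hx : x ∈ U.1)
    (g : Γ(X, U)) (hg : I.ideal U = Ideal.span {g}) :
    stalkIdeal I x U hx = Ideal.span {(X.presheaf.germ U.1 x hx).hom g} := by
  unfold stalkIdeal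
  rw [hg, Ideal.map_span, Set.image_singleton]

lemma germ_mem_nonZeroDivisors (x : X) (U : X.affineOpens) (hx : x ∈ U.1)
    (g : Γ(X, U)) (hg : g ∈ nonZeroDivisors Γ(X, U)) :
    (X.presheaf.germ U.1 x hx).hom g ∈ nonZeroDivisors (X.presheaf.stalk x) := by
  letI := X.presheaf.algebra_section_stalk ⟨x, hx⟩
  haveI := U.2.isLocalization_stalk ⟨x, hx⟩
  exact IsLocalization.map_nonZeroDivisors_le (U.2.primeIdealOf ⟨x, hx⟩).asIdeal.primeCompl
    (X.presheaf.stalk x) (Submonoid.mem_map_of_mem _ hg)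

lemma not_isUnit_germ_of_mem_support (I : X.IdealSheafData) (x : X) (U : X.affineOpens)
    (hx : x ∈ U.1) (g : Γ(X, U)) (hg : I.ideal U = Ideal.span {g}) (hxs : x ∈ I.support) :
    ¬ IsUnit ((X.presheaf.germ U.1 x hx).hom g) := by
  rw [Scheme.IdealSheafData.mem_support_iff_of_mem hx, Scheme.mem_zeroLocus_iff] at hxs
  have := hxs g (by rw [SetLike.mem_coe, hg]; exact Ideal.mem_span_singleton_self g)
  rwa [Scheme.mem_basicOpen X g x hx] at this

section main
variable [IsNoetherian X] (D E : X.IdealSheafData)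
    (hD : (∀ x : X, ∃ U : X.affineOpens, x ∈ (U : X.Opens) ∧ ∃ g : Γ(X, U), g ∈ nonZeroDivisors Γ(X, U) ∧ D.ideal U = Ideal.span {g}))
    (hE : (∀ x : X, ∃ U : X.affineOpens, x ∈ (U : X.Opens) ∧ ∃ g : Γ(X, U), g ∈ nonZeroDivisors Γ(X, U) ∧ E.ideal U = Ideal.span {g}))

include hD hE in
lemma ratio_unique (x : X) (hx : x ∈ (D.support : Set X) ∪ (E.support : Set X))
    {m n m' n' : ℕ} (U U' : X.affineOpens) (hU : x ∈ U.1) (hU' : x ∈ U'.1)
    (h1 : D.ideal U ^ m = E.ideal U ^ n) (h2 : D.ideal U' ^ m' = E.ideal U' ^ n') :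
    m * n' = m' * n := by
  obtain ⟨UD, hxD, gD, hgD, hDg⟩ := hD x
  obtain ⟨UE, hxE, gE, hgE, hEg⟩ := hE x
  have e1 := stalkIdeal_pow D E x U hU h1
  have e2 := stalkIdeal_pow D E x U' hU' h2
  rw [stalkIdeal_eq D x U UD hU hxD, stalkIdeal_eq E x U UE hU hxE,
    stalkIdeal_span D x UD hxD gD hDg, stalkIdeal_span E x UE hxE gE hEg] at e1
  rw [stalkIdeal_eq D x U' UD hU' hxD, stalkIdeal_eq E x U' UE hU' hxE,
    stalkIdeal_span D x UD hxD gD hDg, stalkIdeal_span E x UE hxE gE hEg] at e2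
  refine cross_of_local (germ_mem_nonZeroDivisors x UD hxD gD hgD)
    (germ_mem_nonZeroDivisors x UE hxE gE hgE) ?_ e1 e2
  rintro ⟨hu1, hu2⟩
  rcases hx with hx | hx
  · exact not_isUnit_germ_of_mem_support D x UD hxD gD hDg hx hu1
  · exact not_isUnit_germ_of_mem_support E x UE hxE gE hEg hx hu2

lemma ideal_eq_top_of_disjoint (I : X.IdealSheafData) (U : X.affineOpens)
    (h : (I.support : Set X) ∩ U.1 = ∅) : I.ideal U = ⊤ := by
  have := (U.2.fromSpec_image_zeroLocus (I.ideal U : Set Γ(X, U))).trans_subset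
    ((I.coe_support_inter U).symm.trans h).le
  simp only [Set.subset_empty_iff, Set.image_eq_empty] at this
  exact PrimeSpectrum.zeroLocus_empty_iff_eq_top.mp this

include hD hE in
theorem main (hconn : _root_.IsPreconnected ((D.support : Set X) ∪ (E.support : Set X)))
    (hloc : ∀ x : X, ∃ U : X.affineOpens, x ∈ (U : X.Opens) ∧
      ∃ m n : ℕ, (m, n) ≠ (0, 0) ∧ D.ideal U ^ m = E.ideal U ^ n) :
    ∃ m n : ℕ, (m, n) ≠ (0, 0) ∧ ∀ U : X.affineOpens, D.ideal U ^ m = E.ideal U ^ n := by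
  classical
  set T : Set X := (D.support : Set X) ∪ (E.support : Set X) with hT
  let VP : X → ℕ → ℕ → Prop := fun x m n =>
    ∃ U : X.affineOpens, x ∈ U.1 ∧ D.ideal U ^ m = E.ideal U ^ n
  let R : X → X → Prop := fun x y => ∀ m n m' n', VP x m n → VP y m' n' → m * n' = m' * n
  have hR : ∀ x ∈ T, ∀ y ∈ T, R x y := by
    intro x hx y hy
    refine hconn.induction₂ R ?_ ?_ ?_ hx hy
    · intro x hx
      obtain ⟨U₀, hxU₀, m₀, n₀, h0, hv⟩ := hloc x
      filter_upwards [mem_nhdsWithin_of_mem_nhds (U₀.1.isOpen.mem_nhds hxU₀),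
        self_mem_nhdsWithin] with y hyU hyT
      rintro m n m' n' ⟨U, hU, h1⟩ ⟨V, hV, h2⟩
      have e1 := ratio_unique D E hD hE x hx U U₀ hU hxU₀ h1 hv
      have e2 := ratio_unique D E hD hE y hyT V U₀ hV hyU h2 hv
      exact cross_arith (by simpa [Prod.ext_iff] using h0) e1 e2
    · intro x y z hx hy hz hxy hyz
      obtain ⟨U₀, hyU₀, m₀, n₀, h0, hv⟩ := hloc y
      rintro m n m'' n'' h1 h2
      have e1 := hxy m n m₀ n₀ h1 ⟨U₀, hyU₀, hv⟩
      have e2 := hyz m₀ n₀ m'' n'' ⟨U₀, hyU₀, hv⟩ h2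
      exact cross_arith (by simpa [Prod.ext_iff] using h0) e1 e2.symm
    · intro x y hx hy hxy m n m' n' h1 h2
      exact (hxy m' n' m n h2 h1).symm
  choose U hxU mm nn h0 hv using hloc
  obtain ⟨t, ht⟩ := CompactSpace.elim_nhds_subcover (fun x => ((U x).1 : Set X))
    (fun x => (U x).1.isOpen.mem_nhds (hxU x))
  have hext : ∀ m n, (∀ x ∈ t, D.ideal (U x) ^ m = E.ideal (U x) ^ n) →
      ∀ V : X.affineOpens, D.ideal V ^ m = E.ideal V ^ n := by
    intro m n h V
    have key : D ^ m = E ^ n := by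
      refine Scheme.IdealSheafData.ext_of_iSup_eq_top (fun i : t => U i.1) ?_ (fun i => ?_)
      · refine eq_top_iff.mpr fun y _ => ?_
        have hy : y ∈ ⋃ x ∈ t, ((U x).1 : Set X) := ht ▸ Set.mem_univ y
        obtain ⟨x, hx, hyx⟩ := Set.mem_iUnion₂.mp hy
        exact Opens.mem_iSup.mpr ⟨⟨x, hx⟩, hyx⟩
      · simp only [Scheme.IdealSheafData.ideal_pow]; exact h i.1 i.2
    have := congrArg (fun I => I.ideal V) key
    simpa using this
  have hout : ∀ x, T ∩ (U x).1 = ∅ → ∀ m n, D.ideal (U x) ^ m = E.ideal (U x) ^ n := by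
    intro x hdisj m n
    have h1 : (D.support : Set X) ∩ (U x).1 = ∅ :=
      Set.subset_empty_iff.mp (hdisj ▸ Set.inter_subset_inter_left _ Set.subset_union_left)
    have h2 : (E.support : Set X) ∩ (U x).1 = ∅ :=
      Set.subset_empty_iff.mp (hdisj ▸ Set.inter_subset_inter_left _ Set.subset_union_right)
    rw [ideal_eq_top_of_disjoint D (U x) h1, ideal_eq_top_of_disjoint E (U x) h2,
      Ideal.top_pow, Ideal.top_pow]
  let tT := t.filter (fun x => (T ∩ (U x).1).Nonempty)
  by_cases hne : tT.Nonempty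
  · obtain ⟨i₀, hi₀⟩ := hne
    let s : X → ℕ := fun x => mm x + nn x
    let S := ∏ x ∈ tT, s x
    have hspos : ∀ x, 0 < s x := by
      intro x
      have := h0 x
      simp only [ne_eq, Prod.mk.injEq, not_and] at this
      simp only [s]
      by_contra hcon
      have h1 : mm x = 0 := by omega
      have h2 : nn x = 0 := by omega
      exact this h1 h2
    have hSpos : 0 < S := Finset.prod_pos (fun x _ => hspos x)
    refine ⟨S * mm i₀, S * nn i₀, ?_, hext _ _ ?_⟩
    · have := h0 i₀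
      simp only [ne_eq, Prod.mk.injEq, not_and, mul_eq_zero] at this ⊢
      rintro (h | h) 
      · omega
      · rintro (h' | h')
        · omega
        · exact this h h'
    · intro x hx
      by_cases hxT : x ∈ tT
      · obtain ⟨z₀, hz₀T, hz₀U⟩ := (Finset.mem_filter.mp hi₀).2
        obtain ⟨z, hzT, hzU⟩ := (Finset.mem_filter.mp hxT).2
        have hcross : mm i₀ * nn x = mm x * nn i₀ :=
          hR z₀ hz₀T z hzT _ _ _ _ ⟨U i₀, hz₀U, hv i₀⟩ ⟨U x, hzU, hv x⟩
        obtain ⟨k, hk⟩ : s x ∣ S := Finset.dvd_prod_of_mem s hxT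
        have em : S * mm i₀ = mm x * (k * s i₀) := by
          rw [hk]
          calc (mm x + nn x) * k * mm i₀ = k * (mm x * mm i₀) + k * (mm i₀ * nn x) := by ring
            _ = k * (mm x * mm i₀) + k * (mm x * nn i₀) := by rw [hcross]
            _ = mm x * (k * (mm i₀ + nn i₀)) := by ring
        have en : S * nn i₀ = nn x * (k * s i₀) := by
          rw [hk]
          calc (mm x + nn x) * k * nn i₀ = k * (mm x * nn i₀) + k * (nn x * nn i₀) := by ring
            _ = k * (mm i₀ * nn x) + k * (nn x * nn i₀) := by rw [hcross]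
            _ = nn x * (k * (mm i₀ + nn i₀)) := by ring
        rw [em, en, pow_mul, hv x, ← pow_mul]
      · have hdisj : T ∩ (U x).1 = ∅ := by
          by_contra h
          exact hxT (Finset.mem_filter.mpr ⟨hx, Set.nonempty_iff_ne_empty.mpr h⟩)
        exact hout x hdisj _ _
  · refine ⟨1, 1, by simp, hext _ _ ?_⟩
    intro x hx
    have hdisj : T ∩ (U x).1 = ∅ := by
      by_contra h
      exact hne ⟨x, Finset.mem_filter.mpr ⟨hx, Set.nonempty_iff_ne_empty.mpr h⟩⟩
    exact hout x hdisj _ _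

end main

end Groth.Agent.Helper3.CDivPow
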