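import Mathlib
import Groth.Agent.Helper3.CDivPow
import Groth.Agent.Helper9.IdealComap

set_option autoImplicit false
set_option linter.style.haveILetI false
set_option linter.unusedSectionVars false
set_option linter.unusedVariables false
set_option linter.deprecated false
set_option linter.style.haveILetI false
set_option linter.unusedSectionVars false
set_option linter.unusedVariables false

universe u

open AlgebraicGeometry CategoryTheory IsLocalRing TopologicalSpace

namespace Groth.Agent.Helper3.CDivProp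

section alg

/-- classical lemma: a normal Noetherian local domain whose maximal ideal is of the form
`(bA : a)` with `b ≠ 0` has principal maximal ideal -/
theorem isPrincipal_maximalIdeal (A : Type u) [CommRing A] [IsDomain A] [IsNoetherianRing A]
    [IsLocalRing A] [IsIntegrallyClosed A] (a b : A) (hb0 : b ≠ 0) (hbm : b ∈ maximalIdeal A)
    (hkey : ∀ t : A, t ∈ maximalIdeal A ↔ ∃ c : A, t * a = b * c) :
    (maximalIdeal A).IsPrincipal := by
  have hab : ∀ c : A, a ≠ b * c := by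
    intro c hc
    have h1 : (1 : A) ∈ maximalIdeal A := (hkey 1).2 ⟨c, by rw [one_mul]; exact hc⟩
    exact (Ideal.ne_top_iff_one _).1 (Ideal.IsPrime.ne_top inferInstance) h1
  have ha0 : a ≠ 0 := fun h0 => hab 0 (by rw [h0, mul_zero])
  by_cases hcase : ∀ t ∈ maximalIdeal A, ∀ c : A, t * a = b * c → c ∈ maximalIdeal A
  · exfalso
    let K := FractionRing A
    have hinj : Function.Injective (algebraMap A K) := IsFractionRing.injective A K
    have hbK : algebraMap A K b ≠ 0 := fun h0 => hb0 (hinj (by rw [h0, map_zero]))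
    let g : K := algebraMap A K a / algebraMap A K b
    let N : Submodule A K := Submodule.map (Algebra.linearMap A K) (maximalIdeal A)
    have hNbot : N ≠ ⊥ := by
      intro hbot
      have : algebraMap A K b ∈ N := ⟨b, hbm, rfl⟩
      rw [hbot, Submodule.mem_bot] at this
      exact hbK this
    have hNfg : N.FG := (IsNoetherian.noetherian (maximalIdeal A)).map _
    have hgN : ∀ n ∈ N, g • n ∈ N := by
      rintro n ⟨t, ht, rfl⟩
      obtain ⟨c, hc⟩ := (hkey t).1 ht
      refine ⟨c, hcase t ht c hc, ?_⟩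
      show algebraMap A K c = g * algebraMap A K t
      have : algebraMap A K t * algebraMap A K a = algebraMap A K b * algebraMap A K c := by
        rw [← map_mul, ← map_mul, hc]
      show algebraMap A K c = algebraMap A K a / algebraMap A K b * algebraMap A K t
      rw [div_mul_eq_mul_div, eq_div_iff hbK, mul_comm (algebraMap A K c), ← this, mul_comm]
    have hint : IsIntegral A g := isIntegral_of_smul_mem_submodule N hNbot hNfg g hgN
    obtain ⟨c, hc⟩ := IsIntegrallyClosed.isIntegral_iff.1 hint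
    apply hab c
    apply hinj
    rw [map_mul, hc]
    show algebraMap A K a = algebraMap A K b * (algebraMap A K a / algebraMap A K b)
    rw [mul_comm, div_mul_cancel₀ _ hbK]
  · push Not at hcase
    obtain ⟨t, ht, c, hc, hcm⟩ := hcase
    have hcu : IsUnit c := by
      by_contra hnu
      exact hcm ((mem_maximalIdeal c).2 hnu)
    obtain ⟨u, rfl⟩ := hcu
    refine ⟨⟨t, ?_⟩⟩
    apply le_antisymm
    · intro s hs
      obtain ⟨cs, hcs⟩ := (hkey s).1 hs
      rw [Submodule.mem_span_singleton]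
      refine ⟨cs * ↑u⁻¹, ?_⟩
      have h1 : s * (u : A) * a = t * cs * a := by
        calc s * (u : A) * a = (s * a) * u := by ring
          _ = b * cs * u := by rw [hcs]
          _ = (b * u) * cs := by ring
          _ = (t * a) * cs := by rw [hc]
          _ = t * cs * a := by ring
      have h2 : s * (u : A) = t * cs := mul_right_cancel₀ ha0 h1
      show (cs * ↑u⁻¹) • t = s
      rw [smul_eq_mul]
      calc cs * ↑u⁻¹ * t = (t * cs) * ↑u⁻¹ := by ring
        _ = s * u * ↑u⁻¹ := by rw [h2]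
        _ = s := by rw [mul_assoc, Units.mul_inv, mul_one]
    · rw [Submodule.span_singleton_le_iff_mem]
      exact ht

theorem valuationRing_of_colon (A : Type u) [CommRing A] [IsDomain A] [IsNoetherianRing A]
    [IsLocalRing A] [IsIntegrallyClosed A] (a b : A) (hb0 : b ≠ 0) (hbm : b ∈ maximalIdeal A)
    (hkey : ∀ t : A, t ∈ maximalIdeal A ↔ ∃ c : A, t * a = b * c) :
    ValuationRing A :=
  ((tfae_of_isNoetherianRing_of_isLocalRing_of_isDomain A).out 1 4).2
    (isPrincipal_maximalIdeal A a b hb0 hbm hkey)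

/-- Step 3': the valuation-ring step. -/
theorem exists_dvd_of_valuationRing {B : Type u} [CommRing B] (P : Ideal B) [P.IsPrime]
    [IsDomain (Localization.AtPrime P)] [ValuationRing (Localization.AtPrime P)]
    {A' : Type u} [CommRing A'] [IsLocalRing A'] (ψ : B →+* A')
    (hψ : ∀ b : B, ψ b ∈ maximalIdeal A' ↔ b ∈ P) (g h : B) (hg : ψ g ≠ 0)
    (hgh : Ideal.span {ψ g} = Ideal.span {ψ h}) :
    ∃ s : B, s ∉ P ∧ g ∣ s * h := by
  let A := Localization.AtPrime P
  rcases ValuationRing.dvd_total (algebraMap B A g) (algebraMap B A h) with h1 | h1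
  · obtain ⟨c, hc⟩ := h1
    obtain ⟨⟨c0, s'⟩, hcs⟩ := IsLocalization.surj P.primeCompl c
    -- c * s' = c0
    have e1 : algebraMap B A (s' * h) = algebraMap B A (g * c0) := by
      rw [map_mul, map_mul, hc, ← hcs]; ring
    obtain ⟨u, hu⟩ := (IsLocalization.eq_iff_exists P.primeCompl A).1 e1
    refine ⟨u * s', ?_, ⟨u * c0, ?_⟩⟩
    · exact P.primeCompl.mul_mem u.2 s'.2
    · rw [mul_assoc, hu]; ring
  · obtain ⟨c, hc⟩ := h1
    obtain ⟨⟨c0, s'⟩, hcs⟩ := IsLocalization.surj P.primeCompl c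
    have e1 : algebraMap B A (s' * g) = algebraMap B A (h * c0) := by
      rw [map_mul, map_mul, hc, ← hcs]; ring
    obtain ⟨u, hu⟩ := (IsLocalization.eq_iff_exists P.primeCompl A).1 e1
    -- u * (s' * g) = u * (h * c0)
    have hmem : ψ h ∈ Ideal.span {ψ g} := hgh ▸ Ideal.mem_span_singleton_self _
    obtain ⟨c', hc'⟩ := Ideal.mem_span_singleton.1 hmem
    -- ψ h = ψ g * c'
    by_cases hcP : (u : B) * c0 ∈ P
    · exfalso
      have e2 : ψ g * (ψ (u * s') - c' * ψ (u * c0)) = 0 := by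
        have := congrArg ψ hu
        simp only [map_mul] at this ⊢
        rw [hc'] at this
        linear_combination this
      have hunit : IsUnit (ψ (u * s') - c' * ψ (u * c0)) := by
        have hus : (u : B) * s' ∉ P := P.primeCompl.mul_mem u.2 s'.2
        have h1 : IsUnit (ψ (u * s')) := by
          by_contra hn
          exact hus ((hψ _).1 ((mem_maximalIdeal _).2 hn))
        have h2 : c' * ψ (u * c0) ∈ maximalIdeal A' :=
          Ideal.mul_mem_left _ _ ((hψ _).2 hcP)
        by_contra hn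
        have h3 : ψ (u * s') - c' * ψ (u * c0) ∈ maximalIdeal A' := (mem_maximalIdeal _).2 hn
        have h4 : ψ (u * s') ∈ maximalIdeal A' := by
          have := Ideal.add_mem _ h3 h2
          simpa using this
        exact (mem_maximalIdeal _).1 h4 h1
      exact hg (hunit.mul_left_eq_zero.mp e2)
    · refine ⟨u * c0, hcP, ⟨u * s', ?_⟩⟩
      rw [mul_assoc, mul_comm c0 h]
      have := hu
      linear_combination -this

/-- Step 4: the affine-level statement. -/
theorem dvd_of_forall_valuationRing {B : Type u} [CommRing B] [IsNoetherianRing B]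
    (hn : ∀ (P : Ideal B) [P.IsPrime], IsDomain (Localization.AtPrime P) ∧
      IsIntegrallyClosed (Localization.AtPrime P))
    (g h : B) (hg : g ∈ nonZeroDivisors B)
    (hv : ∀ (P : Ideal B) [P.IsPrime] [IsDomain (Localization.AtPrime P)]
      [ValuationRing (Localization.AtPrime P)], ∃ s : B, s ∉ P ∧ g ∣ s * h) :
    g ∣ h := by
  let M := B ⧸ Ideal.span {g}
  by_contra hndvd
  have hm : (Ideal.Quotient.mk (Ideal.span {g}) h : M) ≠ 0 := by
    rw [Ne, Ideal.Quotient.eq_zero_iff_mem, Ideal.mem_span_singleton]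
    exact hndvd
  obtain ⟨P, hP, hle⟩ := exists_le_isAssociatedPrime_of_isNoetherianRing B
    (Ideal.Quotient.mk (Ideal.span {g}) h : M) hm
  rw [isAssociatedPrime_iff] at hP
  obtain ⟨hPp, y, hy⟩ := hP
  obtain ⟨b, rfl⟩ := Ideal.Quotient.mk_surjective y
  haveI := hPp
  have hmemP : ∀ t : B, t ∈ P ↔ g ∣ t * b := by
    intro t
    rw [hy, Submodule.mem_colon_singleton, Submodule.mem_bot]
    show t • (Ideal.Quotient.mk (Ideal.span {g}) b : M) = 0 ↔ _
    rw [← Ideal.Quotient.mk_eq_mk, ← Submodule.Quotient.mk_smul, Ideal.Quotient.mk_eq_mk,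
      Ideal.Quotient.eq_zero_iff_mem, Ideal.mem_span_singleton, smul_eq_mul]
  have hmemh : ∀ t : B, g ∣ t * h → t ∈ P := by
    intro t ht
    apply hle
    rw [Submodule.mem_colon_singleton, Submodule.mem_bot]
    show t • (Ideal.Quotient.mk (Ideal.span {g}) h : M) = 0
    rw [← Ideal.Quotient.mk_eq_mk, ← Submodule.Quotient.mk_smul, Ideal.Quotient.mk_eq_mk,
      Ideal.Quotient.eq_zero_iff_mem, Ideal.mem_span_singleton, smul_eq_mul]
    exact ht
  obtain ⟨hdom, hic⟩ := hn P
  let A := Localization.AtPrime P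
  have hgP : g ∈ P := (hmemP g).2 ⟨b, rfl⟩
  have hb0 : algebraMap B A g ≠ 0 := by
    intro h0
    rw [IsLocalization.map_eq_zero_iff P.primeCompl] at h0
    obtain ⟨u, hu⟩ := h0
    have : (u : B) = 0 := hg.2 _ hu
    exact u.2 (this ▸ P.zero_mem)
  have hbm : algebraMap B A g ∈ maximalIdeal A := by
    rw [IsLocalization.AtPrime.to_map_mem_maximal_iff A P]
    exact hgP
  have hkey : ∀ t : A, t ∈ maximalIdeal A ↔ ∃ c : A, t * algebraMap B A b = algebraMap B A g * c := by
    intro t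
    obtain ⟨⟨t0, s⟩, hts⟩ := IsLocalization.surj P.primeCompl t
    -- t * s = t0
    have hsu : IsUnit (algebraMap B A s) := IsLocalization.map_units A s
    have ht0 : t ∈ maximalIdeal A ↔ t0 ∈ P := by
      rw [← IsLocalization.AtPrime.to_map_mem_maximal_iff A P, ← hts]
      constructor
      · intro ht; exact Ideal.mul_mem_right _ _ ht
      · intro ht
        rcases (Ideal.IsPrime.mem_or_mem inferInstance ht) with h1 | h1
        · exact h1
        · exact absurd hsu ((mem_maximalIdeal _).1 h1)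
    rw [ht0, hmemP]
    constructor
    · rintro ⟨c0, hc0⟩
      refine ⟨algebraMap B A c0 * ↑hsu.unit⁻¹, ?_⟩
      have e : t * algebraMap B A s * algebraMap B A b = algebraMap B A g * algebraMap B A c0 := by
        rw [hts, ← map_mul, hc0, map_mul]
      have hs' : algebraMap B A s * ↑hsu.unit⁻¹ = 1 := hsu.mul_val_inv
      calc t * algebraMap B A b = (t * algebraMap B A s * algebraMap B A b) * ↑hsu.unit⁻¹ := by
            rw [mul_assoc t, mul_comm (algebraMap B A s), ← mul_assoc t, mul_assoc _ _ (↑hsu.unit⁻¹ : A),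
              hs', mul_one]
        _ = algebraMap B A g * (algebraMap B A c0 * ↑hsu.unit⁻¹) := by rw [e, mul_assoc]
    · rintro ⟨c, hc⟩
      obtain ⟨⟨c0, s'⟩, hcs⟩ := IsLocalization.surj P.primeCompl c
      have e1 : algebraMap B A (s' * t0 * b) = algebraMap B A (s * g * c0) := by
        simp only [map_mul]
        rw [← hts, ← hcs]
        linear_combination (algebraMap B A s' * algebraMap B A s) * hc
      obtain ⟨u, hu⟩ := (IsLocalization.eq_iff_exists P.primeCompl A).1 e1
      have h1 : g ∣ (u * s' * t0) * b := ⟨u * s * c0, by linear_combination hu⟩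
      have h2 : (u : B) * s' * t0 ∈ P := (hmemP _).2 h1
      rcases (Ideal.IsPrime.mem_or_mem inferInstance h2) with h3 | h3
      · exact absurd h3 (P.primeCompl.mul_mem u.2 s'.2)
      · exact (hmemP _).1 h3
  haveI := valuationRing_of_colon A (algebraMap B A b) (algebraMap B A g) hb0 hbm hkey
  obtain ⟨s, hsP, hs⟩ := hv P
  exact hsP (hmemh s hs)

end alg

section geom

variable {S S' : Scheme.{u}}

/-- Step 1: a nonzero germ stays nonzero at some point of the fibre (proper dominant `f`). -/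
theorem exists_germ_ne_zero (f : S' ⟶ S) [IsProper f] (hdom : f.ker = ⊥)
    (V : S.Opens) (a : Γ(S, V)) (s : S) (hs : s ∈ V)
    (ha : (S.presheaf.germ V s hs).hom a ≠ 0) :
    ∃ s' : S', ∃ hs' : s' ∈ f ⁻¹ᵁ V, f s' = s ∧
      (S'.presheaf.germ (f ⁻¹ᵁ V) s' hs').hom ((f.app V).hom a) ≠ 0 := by
  by_contra hcon
  push Not at hcon
  set b : Γ(S', f ⁻¹ᵁ V) := (f.app V).hom a with hb
  let W : Set S' := {z | ∃ hz : z ∈ f ⁻¹ᵁ V, (S'.presheaf.germ (f ⁻¹ᵁ V) z hz).hom b = 0}
  have hWopen : IsOpen W := by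
    rw [isOpen_iff_forall_mem_open]
    rintro z ⟨hz, hz0⟩
    obtain ⟨W', hzW', iU, iV, e⟩ := S'.presheaf.germ_eq z hz hz b 0 (by rw [map_zero]; exact hz0)
    refine ⟨W', ?_, W'.2, hzW'⟩
    intro z' hz'
    refine ⟨iU.le hz', ?_⟩
    have := S'.presheaf.germ_res_apply iU z' hz' b
    rw [map_zero] at e
    show (S'.presheaf.germ (f ⁻¹ᵁ V) z' _) b = 0
    rw [← this, e, map_zero]
  have hfib : ∀ z : S', f z = s → z ∈ W := by
    intro z hz
    have hzV : z ∈ f ⁻¹ᵁ V := by show f z ∈ V; rw [hz]; exact hs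
    exact ⟨hzV, hcon z hzV hz⟩
  have hclosed : IsClosed (f '' Wᶜ) := f.isClosedMap _ hWopen.isClosed_compl
  have hsZ : s ∉ f '' Wᶜ := by
    rintro ⟨z, hzW, hz⟩
    exact hzW (hfib z hz)
  let V1 : S.Opens := V ⊓ ⟨(f '' Wᶜ)ᶜ, hclosed.isOpen_compl⟩
  have hsV1 : s ∈ V1 := ⟨hs, hsZ⟩
  obtain ⟨V2, hV2, hsV2, hV21⟩ := (Opens.isBasis_iff_nbhd.mp S.isBasis_affineOpens) hsV1
  have hV2V : V2 ≤ V := fun y hy => (hV21 hy).1
  have hpre : ∀ z : S', z ∈ f ⁻¹ᵁ V2 → z ∈ W := by
    intro z hz
    by_contra hzW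
    exact (hV21 hz).2 ⟨z, hzW, rfl⟩
  -- the restriction of `a` to `V2` is killed by `f.app V2`
  set a2 : Γ(S, V2) := (S.presheaf.map (homOfLE hV2V).op).hom a with ha2
  have hker : (f.app V2).hom a2 = 0 := by
    apply TopCat.Presheaf.section_ext S'.sheaf (f ⁻¹ᵁ V2)
    intro z hz
    obtain ⟨hzV, hz0⟩ := hpre z hz
    show (S'.presheaf.germ (f ⁻¹ᵁ V2) z hz).hom ((f.app V2).hom a2) =
      (S'.presheaf.germ (f ⁻¹ᵁ V2) z hz).hom 0
    rw [map_zero]
    have hnat : (f.app V2).hom a2 =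
        (S'.presheaf.map (homOfLE (show f ⁻¹ᵁ V2 ≤ f ⁻¹ᵁ V from fun y hy => hV2V hy)).op).hom b := by
      have := f.naturality (homOfLE hV2V).op
      have h2 := congrArg (fun φ => φ.hom a) this
      exact h2
    rw [hnat]
    have := S'.presheaf.germ_res_apply
      (homOfLE (show f ⁻¹ᵁ V2 ≤ f ⁻¹ᵁ V from fun y hy => hV2V hy)) z hz b
    exact this.trans hz0
  have hbot : a2 ∈ f.ker.ideal ⟨V2, hV2⟩ := by
    rw [Scheme.Hom.ker_apply]
    exact hker
  rw [hdom] at hbot
  have ha20 : a2 = 0 := hbot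
  apply ha
  have := S.presheaf.germ_res_apply (homOfLE hV2V) s hsV2 a
  rw [← this]
  show (S.presheaf.germ V2 s hsV2) a2 = 0
  rw [ha20, map_zero]

/-- `I` is generated on the affine open `W` by one non-zero-divisor -/
def IsPrinAt (I : S.IdealSheafData) (W : S.affineOpens) : Prop :=
  ∃ g : Γ(S, W), g ∈ nonZeroDivisors Γ(S, W) ∧ I.ideal W = Ideal.span {g}

lemma nzd_res {W V : S.affineOpens} (hWV : W ≤ V) (g : Γ(S, V))
    (hg : g ∈ nonZeroDivisors Γ(S, V)) :
    (S.presheaf.map (homOfLE hWV).op).hom g ∈ nonZeroDivisors Γ(S, W) := by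
  have key : ∀ b : Γ(S, W), b * (S.presheaf.map (homOfLE hWV).op).hom g = 0 → b = 0 := by
    intro b hb
    apply TopCat.Presheaf.section_ext S.sheaf W.1
    intro x hx
    show (S.presheaf.germ W.1 x hx).hom b = (S.presheaf.germ W.1 x hx).hom 0
    rw [map_zero]
    have hgx := CDivPow.germ_mem_nonZeroDivisors x V (hWV hx) g hg
    have h1 : (S.presheaf.germ W.1 x hx).hom b * (S.presheaf.germ V.1 x (hWV hx)).hom g = 0 := by
      have h2 := S.presheaf.germ_res_apply (homOfLE hWV) x hx g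
      have h3 : (S.presheaf.germ V.1 x (hWV hx)).hom g =
          (S.presheaf.germ W.1 x hx).hom ((S.presheaf.map (homOfLE hWV).op).hom g) := h2.symm
      rw [h3, ← map_mul, hb, map_zero]
    exact (mem_nonZeroDivisors_iff.1 hgx).2 _ h1
  rw [mem_nonZeroDivisors_iff]
  exact ⟨fun b hb => key b (by rw [mul_comm]; exact hb), key⟩

lemma IsPrinAt.of_le {I : S.IdealSheafData} {W V : S.affineOpens} (hWV : W ≤ V)
    (h : IsPrinAt I V) : IsPrinAt I W := by
  obtain ⟨g, hg, hI⟩ := h
  refine ⟨_, nzd_res hWV g hg, ?_⟩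
  rw [← I.map_ideal hWV, hI, Ideal.map_span, Set.image_singleton]

/-- Step 5: divisibility of generators on a common affine open. -/
theorem dvd_of_comap_eq [IsLocallyNoetherian S]
    (hnorm : ∀ x : S, IsDomain (S.presheaf.stalk x) ∧ IsIntegrallyClosed (S.presheaf.stalk x))
    (f : S' ⟶ S) [IsProper f] (hdom : f.ker = ⊥) (D E : S.IdealSheafData)
    (h : D.comap f = E.comap f) (W : S.affineOpens) (g h' : Γ(S, W))
    (hg : g ∈ nonZeroDivisors Γ(S, W)) (hD : D.ideal W = Ideal.span {g})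
    (hE : E.ideal W = Ideal.span {h'}) : g ∣ h' := by
  haveI : IsNoetherianRing Γ(S, W) := IsLocallyNoetherian.component_noetherian W
  have hloc : ∀ (P : Ideal Γ(S, W)) [hP : P.IsPrime],
      ∃ y : S, ∃ hy : y ∈ W.1, (∀ b : Γ(S, W), y ∈ S.basicOpen b ↔ b ∉ P) ∧
        Nonempty (Localization.AtPrime P ≃+* S.presheaf.stalk y) := by
    intro P hP
    have hy : W.2.fromSpec ⟨P, hP⟩ ∈ W.1 := (W.2.isoSpec.inv _).2
    refine ⟨W.2.fromSpec ⟨P, hP⟩, hy, ?_, ?_⟩
    · intro b
      have := W.2.fromSpec_preimage_basicOpen b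
      have h2 : (⟨P, hP⟩ : PrimeSpectrum Γ(S, W)) ∈ W.2.fromSpec ⁻¹ᵁ S.basicOpen b ↔
          (⟨P, hP⟩ : PrimeSpectrum Γ(S, W)) ∈ (PrimeSpectrum.basicOpen b : Set _) := by
        rw [this]; rfl
      exact h2
    · letI := TopCat.Presheaf.algebra_section_stalk S.presheaf ⟨W.2.fromSpec ⟨P, hP⟩, hy⟩
      haveI : IsLocalization.AtPrime (S.presheaf.stalk (W.2.fromSpec ⟨P, hP⟩)) P :=
        W.2.isLocalization_stalk' ⟨P, hP⟩ hy
      exact ⟨(IsLocalization.algEquiv P.primeCompl (Localization.AtPrime P)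
        (S.presheaf.stalk (W.2.fromSpec ⟨P, hP⟩))).toRingEquiv⟩
  apply dvd_of_forall_valuationRing (hn := ?_) g h' hg ?_
  · intro P hP
    obtain ⟨y, hy, -, ⟨e⟩⟩ := hloc P
    obtain ⟨h1, h2⟩ := hnorm y
    exact ⟨e.toMulEquiv.isDomain _, IsIntegrallyClosed.of_equiv e.symm⟩
  · intro P hP _ _
    obtain ⟨y, hy, hyb, -⟩ := hloc P
    have hgy : (S.presheaf.germ W.1 y hy).hom g ≠ 0 :=
      nonZeroDivisors.ne_zero (CDivPow.germ_mem_nonZeroDivisors y W hy g hg)
    obtain ⟨y', hy', hfy, hne⟩ := exists_germ_ne_zero f hdom W.1 g y hy hgy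
    let ψ : Γ(S, W) →+* S'.presheaf.stalk y' :=
      (S'.presheaf.germ (f ⁻¹ᵁ W.1) y' hy').hom.comp (f.app W.1).hom
    have hψ : ∀ b : Γ(S, W), ψ b ∈ maximalIdeal (S'.presheaf.stalk y') ↔ b ∈ P := by
      intro b
      rw [mem_maximalIdeal, mem_nonunits_iff]
      have h1 : IsUnit (ψ b) ↔ y' ∈ S'.basicOpen ((f.app W.1).hom b) :=
        (Scheme.mem_basicOpen S' _ y' hy').symm
      rw [h1, ← Scheme.preimage_basicOpen]
      have h2 : y' ∈ f ⁻¹ᵁ S.basicOpen b ↔ y ∈ S.basicOpen b := by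
        rw [← hfy]; rfl
      rw [h2, hyb, not_not]
    obtain ⟨V', hV', hy'V', hV'le⟩ :=
      (Opens.isBasis_iff_nbhd.mp S'.isBasis_affineOpens) hy'
    have e1 := Groth.Agent.Helper9.IdealComap.ideal_comap f D W ⟨V', hV'⟩ hV'le
    have e2 := Groth.Agent.Helper9.IdealComap.ideal_comap f E W ⟨V', hV'⟩ hV'le
    rw [h] at e1
    have e3 : Ideal.map (f.appLE W.1 V' hV'le).hom (Ideal.span {g}) =
        Ideal.map (f.appLE W.1 V' hV'le).hom (Ideal.span {h'}) := by
      rw [← hD, ← hE, ← e1, ← e2]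
    have e4 := congrArg (Ideal.map (S'.presheaf.germ V' y' hy'V').hom) e3
    rw [Ideal.map_map, Ideal.map_map] at e4
    have hcomp : (S'.presheaf.germ V' y' hy'V').hom.comp (f.appLE W.1 V' hV'le).hom = ψ := by
      ext b
      simp only [ψ, RingHom.comp_apply, Scheme.Hom.appLE, CommRingCat.hom_comp]
      exact S'.presheaf.germ_res_apply _ y' hy'V' _
    rw [hcomp, Ideal.map_span, Ideal.map_span, Set.image_singleton, Set.image_singleton] at e4
    exact exists_dvd_of_valuationRing P ψ hψ g h' hne e4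

/-- main theorem -/
theorem main [IsLocallyNoetherian S]
    (hnorm : ∀ x : S, IsDomain (S.presheaf.stalk x) ∧ IsIntegrallyClosed (S.presheaf.stalk x))
    (f : S' ⟶ S) [IsProper f] (hdom : f.ker = ⊥) (D E : S.IdealSheafData)
    (hD : ∀ x : S, ∃ U : S.affineOpens, x ∈ (U : S.Opens) ∧ IsPrinAt D U)
    (hE : ∀ x : S, ∃ U : S.affineOpens, x ∈ (U : S.Opens) ∧ IsPrinAt E U)
    (h : D.comap f = E.comap f) : D = E := by
  have hloc : ∀ x : S, ∃ W : S.affineOpens, x ∈ W.1 ∧ D.ideal W = E.ideal W := by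
    intro x
    obtain ⟨U1, hx1, hp1⟩ := hD x
    obtain ⟨U2, hx2, hp2⟩ := hE x
    obtain ⟨W, hW, hxW, hW12⟩ := (Opens.isBasis_iff_nbhd.mp S.isBasis_affineOpens)
      (show x ∈ U1.1 ⊓ U2.1 from ⟨hx1, hx2⟩)
    have h1 : (⟨W, hW⟩ : S.affineOpens) ≤ U1 := fun y hy => (hW12 hy).1
    have h2 : (⟨W, hW⟩ : S.affineOpens) ≤ U2 := fun y hy => (hW12 hy).2
    obtain ⟨g, hg, hDg⟩ := hp1.of_le h1
    obtain ⟨h', hh', hEh⟩ := hp2.of_le h2
    refine ⟨⟨W, hW⟩, hxW, ?_⟩
    have d1 := dvd_of_comap_eq hnorm f hdom D E h ⟨W, hW⟩ g h' hg hDg hEh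
    have d2 := dvd_of_comap_eq hnorm f hdom E D h.symm ⟨W, hW⟩ h' g hh' hEh hDg
    rw [hDg, hEh]
    exact le_antisymm (Ideal.span_singleton_le_span_singleton.2 d2)
      (Ideal.span_singleton_le_span_singleton.2 d1)
  choose W hxW hW using hloc
  refine Scheme.IdealSheafData.ext_of_iSup_eq_top W ?_ hW
  exact eq_top_iff.mpr fun y _ => Opens.mem_iSup.mpr ⟨y, hxW y⟩

end geom

end Groth.Agent.Helper3.CDivProp
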