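import Mathlib

/-!
Cayley–Hamilton with prescribed reduction: S6887.
-/

namespace Groth.Agent.Helper3.CHIdem

open Polynomial

universe u

variable {A B : Type u} [CommRing A] [CommRing B] [Algebra A B]

theorem core {ι : Type} [Fintype ι] [DecidableEq ι] (I : Ideal A) (y : ι → B)
    (hy : Submodule.span A (Set.range y) = ⊤) (b : B) (d : ι → A)
    (h : ∀ j, b * y j - d j • y j ∈ I • (⊤ : Submodule A B)) :
    ∃ f : A[X], f.Monic ∧ aeval b f = 0 ∧
      f.map (Ideal.Quotient.mk I) = ∏ j, (X - C (Ideal.Quotient.mk I (d j))) := by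
  have h' : ∀ j, ∃ (a : ι →₀ A) (_ : ∀ i, a i ∈ I),
      (a.sum fun i c => c • y i) = b * y j - d j • y j := by
    intro j
    have := h j
    rw [← hy] at this
    exact (Submodule.mem_ideal_smul_span_iff_exists_sum I y _).1 this
  choose c hcI hc using h'
  let M : Matrix ι ι A := Matrix.of (fun i j => c j i) + Matrix.diagonal d
  have hM : M.Represents y (Algebra.lmul A B b) := by
    rw [Matrix.represents_iff']
    intro j
    simp only [M, Matrix.add_apply, Matrix.of_apply, add_smul, Finset.sum_add_distrib]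
    have h1 : ∑ i, c j i • y i = b * y j - d j • y j := by
      rw [← hc j, Finsupp.sum_fintype]; simp
    have h2 : ∑ i, Matrix.diagonal d i j • y i = d j • y j := by
      rw [Finset.sum_eq_single j]
      · simp
      · intro i _ hij
        rw [Matrix.diagonal_apply_ne _ hij, zero_smul]
      · intro hj; exact (hj (Finset.mem_univ j)).elim
    rw [h1, h2]; simp
  refine ⟨M.charpoly, M.charpoly_monic, ?_, ?_⟩
  · let A' : Matrix.isRepresentation A y := ⟨M, _, hM⟩
    have h1 : Matrix.isRepresentation.toEnd A y hy A' = Algebra.lmul A B b :=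
      Matrix.isRepresentation.eq_toEnd_of_represents A y hy A' hM
    have h2 : aeval (Algebra.lmul A B b) M.charpoly = 0 := by
      rw [← h1, Polynomial.aeval_algHom_apply,
        ← map_zero (Matrix.isRepresentation.toEnd A y hy)]
      congr 1
      ext1
      rw [Polynomial.aeval_subalgebra_coe, Matrix.aeval_self_charpoly, Subalgebra.coe_zero]
    rw [Polynomial.aeval_algHom_apply] at h2
    have := LinearMap.congr_fun h2 1
    simpa using this
  · rw [← Matrix.charpoly_map]
    have : M.map (Ideal.Quotient.mk I) =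
        Matrix.diagonal (fun j => Ideal.Quotient.mk I (d j)) := by
      ext i j
      have hc0 : Ideal.Quotient.mk I (c j i) = 0 := Ideal.Quotient.eq_zero_iff_mem.2 (hcI j i)
      by_cases hij : i = j
      · subst hij
        simp [M, hc0]
      · simp [M, hc0, Matrix.diagonal_apply_ne _ hij]
    rw [this, Matrix.charpoly_diagonal]

theorem main' (A B : Type u) [CommRing A] [CommRing B]
    [Algebra A B] [Module.Finite A B] (I : Ideal A) (hI : I ≤ Ideal.jacobson (⊥ : Ideal A))
    (B₁ B₂ : Type u) [CommRing B₁] [CommRing B₂] [Algebra A B₁] [Algebra A B₂]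
    (J : Ideal B) (hJdef : J = I.map (algebraMap A B))
    (e : (B ⧸ J) ≃ₐ[A] B₁ × B₂)
    (h₁ : Function.Surjective (algebraMap A B₁)) (b : B)
    (hb : e (Ideal.Quotient.mk J b) = (1, 0)) :
    ∃ (f : A[X]) (d : ℕ), f.Monic ∧ Polynomial.aeval b f = 0 ∧ 1 ≤ d ∧
      f.map (Ideal.Quotient.mk I) = (X - 1) * X ^ d := by
  classical
  obtain ⟨m, z, hz⟩ := Module.Finite.exists_fin (R := A) (M := B)
  let y : Option (Fin m) → B := fun o => o.elim b (fun k => (1 - b) * z k)
  let d : Option (Fin m) → A := fun o => o.elim 1 (fun _ => 0)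
  have hJ : ∀ w : B, w ∈ I • (⊤ : Submodule A B) ↔ w ∈ J := by
    intro w; rw [Ideal.smul_top_eq_map, hJdef]; rfl
  have hmem : ∀ w : B, e (Ideal.Quotient.mk J w) = 0 → w ∈ J := by
    intro w hw
    have : Ideal.Quotient.mk J w = 0 := by
      simpa using hw
    exact Ideal.Quotient.eq_zero_iff_mem.1 this
  have hbb : b * (1 - b) ∈ J := hmem _ (by
    simp only [map_mul, map_sub, map_one, hb]; ext <;> simp)
  -- spanning
  have hy : Submodule.span A (Set.range y) = ⊤ := by
    refine eq_top_iff.2 (Submodule.le_of_le_smul_of_le_jacobson_bot Module.Finite.fg_top hI ?_)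
    intro w _
    have hw : w = (1 - b) * w + b * w := by ring
    have h1 : (1 - b) * w ∈ Submodule.span A (Set.range y) := by
      have hwz : w ∈ Submodule.span A (Set.range z) := by rw [hz]; trivial
      have := Submodule.mem_map_of_mem (f := (Algebra.lmul A B (1 - b) : B →ₗ[A] B)) hwz
      rw [Submodule.map_span] at this
      refine Submodule.span_mono ?_ this
      rintro _ ⟨_, ⟨k, rfl⟩, rfl⟩
      exact ⟨some k, rfl⟩
    obtain ⟨a, ha⟩ := h₁ (e (Ideal.Quotient.mk J w)).1
    have h2 : b * w - a • b ∈ J := by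
      refine hmem _ ?_
      rw [map_sub, map_sub, map_mul, map_mul, hb, Algebra.smul_def, map_mul, map_mul, hb]
      have : e (Ideal.Quotient.mk J (algebraMap A B a)) = algebraMap A (B₁ × B₂) a := by
        rw [← Ideal.Quotient.algebraMap_eq, ← IsScalarTower.algebraMap_apply, e.commutes]
      rw [this]
      ext
      · simp [ha]
      · simp
    rw [hw]
    refine Submodule.add_mem _ (Submodule.mem_sup_left h1) ?_
    have h3 : b * w = a • b + (b * w - a • b) := by ring
    rw [h3]
    refine Submodule.add_mem _ (Submodule.mem_sup_left ?_) (Submodule.mem_sup_right ((hJ _).2 h2))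
    exact Submodule.smul_mem _ _ (Submodule.subset_span ⟨none, rfl⟩)
  have hcore : ∀ j, b * y j - d j • y j ∈ I • (⊤ : Submodule A B) := by
    intro j
    rw [hJ]
    cases j with
    | none =>
      have : b * y none - d none • y none = -(b * (1 - b)) := by
        simp only [y, d, Option.elim_none, one_smul]; ring
      rw [this]; exact J.neg_mem hbb
    | some k =>
      have : b * y (some k) - d (some k) • y (some k) = (b * (1 - b)) * z k := by
        simp only [y, d, Option.elim_some, zero_smul]; ring
      rw [this]; exact J.mul_mem_right _ hbb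
  obtain ⟨f, hf, hfb, hfm⟩ := core I y hy b d hcore
  refine ⟨f * X, m + 1, hf.mul monic_X, by simp [hfb], Nat.le_add_left 1 m, ?_⟩
  rw [Polynomial.map_mul, hfm, Fintype.prod_option]
  simp [d, pow_succ, mul_assoc]

theorem main (A B : Type u) [CommRing A] [CommRing B]
    [Algebra A B] [Module.Finite A B] (I : Ideal A) (hI : I ≤ Ideal.jacobson (⊥ : Ideal A))
    (B₁ B₂ : Type u) [CommRing B₁] [CommRing B₂] [Algebra A B₁] [Algebra A B₂]
    (e : (B ⧸ I.map (algebraMap A B)) ≃ₐ[A] B₁ × B₂)
    (h₁ : Function.Surjective (algebraMap A B₁)) (b : B)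
    (hb : e (Ideal.Quotient.mk (I.map (algebraMap A B)) b) = (1, 0)) :
    ∃ (f : A[X]) (d : ℕ), f.Monic ∧ Polynomial.aeval b f = 0 ∧ 1 ≤ d ∧
      f.map (Ideal.Quotient.mk I) = (X - 1) * X ^ d :=
  main' A B I hI B₁ B₂ _ rfl e h₁ b hb

end Groth.Agent.Helper3.CHIdem
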