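import Groth.Agent.Helper3.CHIdem

/-!
Abstract version of the Cayley–Hamilton lemma: `b ∈ B` (finite over a Zariski pair `(A, I)`) with
`b(1-b) ∈ IB` and `b B ⊆ A b + IB` is a root of a monic `f ≡ (X - 1) X^d` mod `I`, `d ≥ 1`.
-/

namespace Groth.Agent.Helper3.CHIdem

open Polynomial

universe u

theorem main'' (A B : Type u) [CommRing A] [CommRing B]
    [Algebra A B] [Module.Finite A B] (I : Ideal A) (hI : I ≤ Ideal.jacobson (⊥ : Ideal A))
    (b : B) (hbb : b * (1 - b) ∈ I.map (algebraMap A B))
    (hcyc : ∀ w : B, ∃ a : A, b * w - a • b ∈ I.map (algebraMap A B)) :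
    ∃ (f : A[X]) (d : ℕ), f.Monic ∧ Polynomial.aeval b f = 0 ∧ 1 ≤ d ∧
      f.map (Ideal.Quotient.mk I) = (X - 1) * X ^ d := by
  classical
  obtain ⟨m, z, hz⟩ := Module.Finite.exists_fin (R := A) (M := B)
  let y : Option (Fin m) → B := fun o => o.elim b (fun k => (1 - b) * z k)
  let d : Option (Fin m) → A := fun o => o.elim 1 (fun _ => 0)
  set J := I.map (algebraMap A B) with hJdef
  have hJ : ∀ w : B, w ∈ I • (⊤ : Submodule A B) ↔ w ∈ J := by
    intro w; rw [Ideal.smul_top_eq_map, hJdef]; rfl
  -- spanning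
  have hy : Submodule.span A (Set.range y) = ⊤ := by
    refine eq_top_iff.2 (Submodule.le_of_le_smul_of_le_jacobson_bot Module.Finite.fg_top hI ?_)
    intro w _
    have hw : w = (1 - b) * w + b * w := by ring
    have h1 : (1 - b) * w ∈ Submodule.span A (Set.range y) := by
      have hwz : w ∈ Submodule.span A (Set.range z) := by rw [hz]; trivial
      have := Submodule.mem_map_of_mem (f := (Algebra.lmul A B (1 - b) : B →ₗ[A] B)) hwz
      rw [Submodule.map_span] at this
      refine Submodule.span_mono ?_ this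
      rintro _ ⟨_, ⟨k, rfl⟩, rfl⟩
      exact ⟨some k, rfl⟩
    obtain ⟨a, h2⟩ := hcyc w
    rw [hw]
    refine Submodule.add_mem _ (Submodule.mem_sup_left h1) ?_
    have h3 : b * w = a • b + (b * w - a • b) := by ring
    rw [h3]
    refine Submodule.add_mem _ (Submodule.mem_sup_left ?_) (Submodule.mem_sup_right ((hJ _).2 h2))
    exact Submodule.smul_mem _ _ (Submodule.subset_span ⟨none, rfl⟩)
  have hcore : ∀ j, b * y j - d j • y j ∈ I • (⊤ : Submodule A B) := by
    intro j
    rw [hJ]
    cases j with
    | none =>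
      have : b * y none - d none • y none = -(b * (1 - b)) := by
        simp only [y, d, Option.elim_none, one_smul]; ring
      rw [this]; exact J.neg_mem hbb
    | some k =>
      have : b * y (some k) - d (some k) • y (some k) = (b * (1 - b)) * z k := by
        simp only [y, d, Option.elim_some, zero_smul]; ring
      rw [this]; exact J.mul_mem_right _ hbb
  obtain ⟨f, hf, hfb, hfm⟩ := core I y hy b d hcore
  refine ⟨f * X, m + 1, hf.mul monic_X, by simp [hfb], Nat.le_add_left 1 m, ?_⟩
  rw [Polynomial.map_mul, hfm, Fintype.prod_option]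
  simp [d, pow_succ, mul_assoc]

end Groth.Agent.Helper3.CHIdem
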