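import Mathlib
import Groth.Agent.Helper3.CHR3
import Groth.Agent.Helper2.SerreLoc
import Groth.Agent.Helper2.RegDescent

set_option autoImplicit false
set_option linter.style.haveILetI false
set_option linter.unusedSectionVars false
set_option linter.unusedVariables false
set_option linter.deprecated false
set_option linter.style.haveILetI false
set_option linter.unusedSectionVars false
set_option linter.unusedVariables false

/-!
# Regularity of the invariant ring away from the ramified point
-/

namespace Groth.Agent.Helper3.CHR

universe u v w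

/-- Noetherianity descends along faithfully flat ring maps. -/
theorem isNoetherianRing_of_faithfullyFlat (R S : Type*) [CommRing R] [CommRing S] [Algebra R S]
    [Module.FaithfullyFlat R S] [IsNoetherianRing S] : IsNoetherianRing R := by
  rw [isNoetherianRing_iff, ← monotone_stabilizes_iff_noetherian]
  intro f
  let g : ℕ →o Ideal S := ⟨fun n => Ideal.map (algebraMap R S) (f n : Ideal R), fun a b hab =>
    Ideal.map_mono (f.monotone hab)⟩
  obtain ⟨n, hn⟩ := (monotone_stabilizes_iff_noetherian (R := S) (M := S)).2 inferInstance g
  refine ⟨n, fun m hm => ?_⟩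
  have h1 : (Ideal.map (algebraMap R S) (f n : Ideal R)).comap (algebraMap R S) =
      (Ideal.map (algebraMap R S) (f m : Ideal R)).comap (algebraMap R S) :=
    congrArg (Ideal.comap (algebraMap R S)) (hn m hm)
  rwa [Ideal.comap_map_eq_self_of_faithfullyFlat, Ideal.comap_map_eq_self_of_faithfullyFlat] at h1

attribute [local instance] locAction

instance isInvariant_fixedPoints (A : Type u) [CommRing A] (G : Type w) [Group G]
    [MulSemiringAction G A] : Algebra.IsInvariant (FixedPoints.subring A G) A G :=
  ⟨fun b hb => ⟨⟨b, hb⟩, rfl⟩⟩

/-- A regular local ring `A` with a finite group action whose inertia groups are trivial at the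
primes over a prime `P` of the invariants: the invariant ring is regular at `P`. -/
theorem regular_of_inertia_trivial (A : Type u) [CommRing A] [IsRegularLocalRing A]
    (G : Type w) [Group G] [Finite G] [MulSemiringAction G A]
    (P : Ideal (FixedPoints.subring A G)) [P.IsPrime]
    (h : ∀ q : Ideal A, q.IsPrime → q.comap (algebraMap (FixedPoints.subring A G) A) = P →
      ∀ σ : G, σ ≠ 1 → ∃ x : A, σ • x - x ∉ q) :
    IsRegularLocalRing (Localization.AtPrime P) := by
  have hinj : Function.Injective (algebraMap (FixedPoints.subring A G) A) := Subtype.val_injective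
  obtain ⟨hproj, hfin, -, -⟩ := local_main (FixedPoints.subring A G) A G hinj P h
  set Bp := Localization.AtPrime P
  set Ap := Rm (FixedPoints.subring A G) A P.primeCompl
  have hinj' : Function.Injective (algebraMap Bp Ap) :=
    injective_loc (FixedPoints.subring A G) A G P.primeCompl hinj
  haveI : Nontrivial Ap := hinj'.nontrivial
  obtain ⟨𝔫, h𝔫⟩ := Ideal.exists_maximal Ap
  haveI : Algebra.IsIntegral Bp Ap := Algebra.IsIntegral.of_finite Bp Ap
  have h1 : 𝔫.comap (algebraMap Bp Ap) = IsLocalRing.maximalIdeal Bp :=
    IsLocalRing.eq_maximalIdeal (Ideal.isMaximal_comap_of_isIntegral_of_isMaximal 𝔫)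
  set S := Localization.AtPrime 𝔫
  -- `S` is regular
  haveI : IsRegularRing A := Groth.Agent.Helper2.SerreLoc.isRegularRing_of_isRegularLocalRing A
  haveI hS : IsRegularLocalRing S := by
    have e := IsLocalization.localizationLocalizationAtPrimeIsoLocalization
      (Algebra.algebraMapSubmonoid A P.primeCompl) 𝔫
    haveI : IsRegularLocalRing (Localization.AtPrime (𝔫.comap (algebraMap A Ap))) :=
      (isRegularRing_iff.mp inferInstance) _
    exact IsRegularLocalRing.of_ringEquiv e.toRingEquiv
  -- `Bp → S` is flat and local
  haveI : Module.Flat Bp Ap := inferInstance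
  haveI : Module.Flat Bp S := Module.Flat.trans Bp Ap S
  haveI : IsLocalHom (algebraMap Bp S) := by
    refine ((IsLocalRing.local_hom_TFAE (algebraMap Bp S)).out 0 4).mpr ?_
    rw [IsScalarTower.algebraMap_eq Bp Ap S, ← Ideal.comap_comap]
    have h2 : Ideal.comap (algebraMap Ap S) (IsLocalRing.maximalIdeal S) = 𝔫 :=
      Localization.AtPrime.comap_maximalIdeal (I := 𝔫)
    rw [h2, h1]
  haveI : Module.FaithfullyFlat Bp S := Module.FaithfullyFlat.of_flat_of_isLocalHom
  haveI : IsNoetherianRing Bp := isNoetherianRing_of_faithfullyFlat Bp S
  exact Groth.Agent.Helper2.RegDescent.isRegularLocalRing_of_flat Bp S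

end Groth.Agent.Helper3.CHR
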