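import Mathlib
import Groth.Agent.Helper3.CHR5

set_option autoImplicit false
set_option linter.style.haveILetI false
set_option linter.unusedSectionVars false
set_option linter.unusedVariables false
set_option linter.deprecated false
set_option linter.style.haveILetI false
set_option linter.unusedSectionVars false
set_option linter.unusedVariables false

/-!
# Quotient of an affine variety by a finite group: étale exactly at points with trivial stabilizer
-/

namespace Groth.Agent.Helper3.CHR

open scoped Pointwise

universe u v w

theorem s19402 (k : Type u) [Field k] [IsAlgClosed k]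
    (R : Type v) [CommRing R] [IsDomain R] [Algebra k R] [Algebra.FiniteType k R]
    (G : Type w) [Group G] [Finite G] [MulSemiringAction G R] [FaithfulSMul G R] [SMulCommClass G k R]
    (B : Type v) [CommRing B] [Algebra k B] [Algebra B R] [IsScalarTower k B R] [FaithfulSMul B R]
    [SMulCommClass G B R] [Algebra.IsInvariant B R G]
    (m : Ideal R) [m.IsMaximal] :
    Algebra.IsEtaleAt B m ↔ MulAction.stabilizer G m = ⊥ := by
  constructor
  · intro h
    haveI : Algebra.FormallyEtale B (Localization.AtPrime m) := h
    haveI : Algebra.FormallyUnramified B (Localization.AtPrime m) := inferInstance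
    haveI : IsNoetherianRing R := Algebra.FiniteType.isNoetherianRing k R
    haveI : Algebra.FiniteType B R := Algebra.FiniteType.of_restrictScalars_finiteType k B R
    apply stabilizer_eq_bot_of_unramified B R G m
    intro r
    letI : Field (R ⧸ m) := Ideal.Quotient.field m
    haveI : Module.Finite k (R ⧸ m) := finite_of_finite_type_of_isJacobsonRing k (R ⧸ m)
    haveI : Algebra.IsIntegral k (R ⧸ m) := Algebra.IsIntegral.of_finite k _
    obtain ⟨c, hc⟩ := (IsAlgClosed.algebraMap_bijective_of_isIntegral (k := k) (K := R ⧸ m)).2
      (Ideal.Quotient.mk m r)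
    refine ⟨algebraMap k R c, fun σ => smul_algebraMap σ c, ?_⟩
    rw [← Ideal.Quotient.eq]
    exact hc.symm
  · intro h
    apply formallyEtale_atPrime B R G (FaithfulSMul.algebraMap_injective B R) m
    intro σ hσ
    have h2 : ¬ (σ⁻¹ • m ≤ m) := by
      intro hle
      have h3 : m ≤ σ • m := by
        intro x hx
        rw [Ideal.mem_pointwise_smul_iff_inv_smul_mem]
        exact hle (Ideal.smul_mem_pointwise_smul _ _ _ hx)
      have h4 : σ • m ≠ ⊤ := by
        intro htop
        have h5 : (1 : R) ∈ σ • m := by rw [htop]; trivial
        rw [Ideal.mem_pointwise_smul_iff_inv_smul_mem, smul_one] at h5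
        exact (Ideal.IsMaximal.ne_top ‹m.IsMaximal›) ((Ideal.eq_top_iff_one m).mpr h5)
      have h6 : m = σ • m := Ideal.IsMaximal.eq_of_le ‹m.IsMaximal› h4 h3
      have h7 : σ ∈ MulAction.stabilizer G m := h6.symm
      rw [h] at h7
      exact hσ (Subgroup.mem_bot.mp h7)
    obtain ⟨z, hz, hzm⟩ := SetLike.not_le_iff_exists.mp h2
    refine ⟨z, fun hmem => hzm ?_⟩
    rw [Ideal.mem_pointwise_smul_iff_inv_smul_mem, inv_inv] at hz
    have := sub_mem hz hmem
    simpa using this

end Groth.Agent.Helper3.CHR
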