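import Mathlib

set_option autoImplicit false
set_option linter.style.haveILetI false
set_option linter.unusedSectionVars false
set_option linter.unusedVariables false
set_option linter.deprecated false
set_option linter.unusedSectionVars false
set_option linter.unusedVariables false

open TopologicalSpace

namespace Groth.Agent.Helper3.CartTop

variable {Y : Type*} [TopologicalSpace Y] [QuasiSober Y] [T0Space Y]

/-- every point of a closed set is a specialization of a maximal point of that set -/
theorem exists_maximal_specializes (C : Set Y) (hC : IsClosed C) (z : Y) (hz : z ∈ C) :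
    ∃ y ∈ C, y ⤳ z ∧ ∀ y' ∈ C, y' ⤳ y → y' = y := by
  let z' : C := ⟨z, hz⟩
  let T : Set C := irreducibleComponent z'
  have hTirr : IsIrreducible T := isIrreducible_irreducibleComponent
  have hTcl : IsClosed T := isClosed_irreducibleComponent
  let S : Set Y := Subtype.val '' T
  have hSirr : IsIrreducible S := hTirr.image _ continuous_subtype_val.continuousOn
  have hScl : IsClosed S := hC.isClosedEmbedding_subtypeVal.isClosedMap _ hTcl
  obtain ⟨y, hy⟩ := QuasiSober.sober hSirr hScl
  have hSC : S ⊆ C := by rintro _ ⟨w, -, rfl⟩; exact w.2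
  have hyS : y ∈ S := hy.mem
  have hzS : z ∈ S := ⟨z', mem_irreducibleComponent, rfl⟩
  refine ⟨y, hSC hyS, hy.specializes hzS, ?_⟩
  intro y' hy'C hy'y
  let T' : Set C := closure {(⟨y', hy'C⟩ : C)}
  have hT'irr : IsIrreducible T' := isIrreducible_singleton.closure
  have hTT' : T ⊆ T' := by
    intro w hw
    have h1 : y ⤳ w.1 := hy.specializes ⟨w, hw, rfl⟩
    have h2 : y' ⤳ w.1 := hy'y.trans h1
    have h3 : (⟨y', hy'C⟩ : C) ⤳ w :=
      (Topology.IsInducing.subtypeVal.specializes_iff).mp h2
    exact specializes_iff_mem_closure.mp h3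
  have hT'T : T' = T := (irreducibleComponent_property z').2.2 T' hT'irr.isPreirreducible hTT'
  have hy'T : (⟨y', hy'C⟩ : C) ∈ T := by
    rw [← hT'T]; exact subset_closure rfl
  have hy'S : y' ∈ S := ⟨⟨y', hy'C⟩, hy'T, rfl⟩
  have h4 : y ⤳ y' := hy.specializes hy'S
  exact (hy'y.antisymm h4).eq

/-- a closed subset of a Noetherian space has finitely many maximal points -/
theorem finite_maximal_points [NoetherianSpace Y] (C : Set Y) (hC : IsClosed C) :
    {y | y ∈ C ∧ ∀ y' ∈ C, y' ⤳ y → y' = y}.Finite := by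
  obtain ⟨S, hS, hirr, hsup⟩ := NoetherianSpace.exists_finite_set_closeds_irreducible ⟨C, hC⟩
  have hCS : ∀ t ∈ S, (t : Set Y) ⊆ C := by
    intro t ht
    have : t ≤ (⟨C, hC⟩ : Closeds Y) := by rw [hsup]; exact le_sSup ht
    exact this
  have hCmem : ∀ y ∈ C, ∃ t ∈ S, y ∈ (t : Set Y) := by
    intro y hy
    have h1 : y ∈ ((⟨C, hC⟩ : Closeds Y) : Set Y) := hy
    have hcl : IsClosed (⋃₀ ((fun t : Closeds Y => (t : Set Y)) '' S) : Set Y) := by
      rw [Set.sUnion_image]; exact hS.isClosed_biUnion (fun t _ => t.isClosed)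
    rw [hsup, Closeds.coe_sSup, hcl.closure_eq] at h1
    simpa using h1
  apply Set.Finite.subset (hS.biUnion (t := fun t => {y | IsGenericPoint y (t : Set Y)}) ?_)
  · rintro y ⟨hyC, hymax⟩
    obtain ⟨t, ht, hyt⟩ := hCmem y hyC
    obtain ⟨γ, hγ⟩ := QuasiSober.sober (hirr t ht) t.isClosed
    have h1 : γ ⤳ y := hγ.specializes hyt
    have h2 : γ = y := hymax γ (hCS t ht hγ.mem) h1
    simp only [Set.mem_iUnion, Set.mem_setOf_eq]
    exact ⟨t, ht, h2 ▸ hγ⟩
  · intro t ht
    apply Set.Subsingleton.finite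
    intro a ha b hb
    exact IsGenericPoint.eq ha hb

end Groth.Agent.Helper3.CartTop
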