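import Mathlib
import Groth.Agent.Helper3.CartLoc
import Groth.Agent.Helper3.CartTop

set_option autoImplicit false
set_option linter.style.haveILetI false
set_option linter.unusedSectionVars false
set_option linter.unusedVariables false
set_option linter.deprecated false
set_option linter.style.haveILetI false
set_option linter.unusedSectionVars false
set_option linter.unusedVariables false

open CategoryTheory Limits AlgebraicGeometry TopologicalSpace Opposite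
universe u

namespace Groth.Agent.Helper3.CartOrd

open Groth.Agent.Helper3.CartDict Groth.Agent.Helper3.CartAlg Groth.Agent.Helper3.CartLoc
  Groth.Agent.Helper3.CartTop

variable {X : Scheme.{u}}

/-- inclusions of ideal sheaves in powers pass to smaller affine opens -/
theorem le_pow_of_le (𝓩 J : X.IdealSheafData) (n : ℕ) {V W : X.affineOpens} (hWV : W ≤ V)
    (h : 𝓩.ideal V ≤ J.ideal V ^ n) : 𝓩.ideal W ≤ J.ideal W ^ n := by
  rw [← 𝓩.map_ideal hWV, ← J.map_ideal hWV, ← Ideal.map_pow]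
  exact Ideal.map_mono h

/-- the generic point of an integral closed subscheme -/
theorem exists_generic (J : X.IdealSheafData) [IsIntegral J.subscheme] :
    ∃ ξ : X, IsGenericPoint ξ (J.support : Set X) := by
  have hirr : IsIrreducible (J.support : Set X) := by
    rw [← J.range_subschemeι, ← Set.image_univ]
    exact (IrreducibleSpace.isIrreducible_univ _).image _ J.subschemeι.continuous.continuousOn
  exact QuasiSober.sober hirr J.support.isClosed

section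
variable [IsNoetherian X] (𝓩 : X.IdealSheafData)
    {I : Type u} (𝓓 : I → X.IdealSheafData) (hD : ∀ i, BlowUp.IsEffCartierIdeal (𝓓 i))
    (hDint : ∀ i, IsIntegral (𝓓 i).subscheme)
    (Z' : Set ↥X) (hZ' : IsClosed Z')
    (hcodim : ∀ z ∈ Z', (∀ y ∈ Z', y ⤳ z → y = z) →
      (2 : WithBot ℕ∞) ≤ ringKrullDim ↑(X.presheaf.stalk z))
    (hcover : (𝓩.support : Set ↥X) ⊆ Z' ∪ ⋃ i, ((𝓓 i).support : Set ↥X))
    (ξ : I → X) (hξ : ∀ i, IsGenericPoint (ξ i) ((𝓓 i).support : Set X))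

include hZ' hcodim in
theorem two_le_coheight_of_mem (z : X) (hz : z ∈ Z') : (2 : ℕ∞) ≤ Order.coheight z := by
  obtain ⟨y, hyZ', hyz, hymax⟩ := exists_maximal_specializes Z' hZ' z hz
  have h1 := hcodim y hyZ' hymax
  rw [ringKrullDim_stalk_eq_coheight] at h1
  have h2 : (2 : ℕ∞) ≤ Order.coheight y := by
    have h1' : ((2 : ℕ∞) : WithBot ℕ∞) ≤ ↑(Order.coheight y) := h1
    exact WithBot.coe_le_coe.mp h1'
  have h3 : z ≤ y := hyz
  exact h2.trans (Order.coheight_anti h3)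

include hD hDint hξ in
theorem coheight_eq_zero_of_strict (i : I) (η : X) (hη : η ⤳ ξ i) (hne : η ≠ ξ i) :
    Order.coheight η = 0 := by
  rw [Order.coheight_eq_zero]
  intro y hy
  have hy' : y ⤳ η := hy
  haveI := hDint i
  have := eq_of_specializes_strict (𝓓 i) (ξ i) (hξ i) (hD i) η y hη hne hy'
  rw [this]

include hD hDint hξ hZ' hcodim hcover in
/-- strict generizations of the generic points of the divisors are not in `Z` -/
theorem not_mem_support_of_strict' (i : I) (η : X) (hη : η ⤳ ξ i) (hne : η ≠ ξ i) :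
    η ∉ 𝓩.support := by
  intro hηZ
  rcases hcover hηZ with h | h
  · have h1 := two_le_coheight_of_mem Z' hZ' hcodim η h
    rw [coheight_eq_zero_of_strict 𝓓 hD hDint ξ hξ i η hη hne] at h1
    simp at h1
  · obtain ⟨j, hj⟩ := Set.mem_iUnion.mp h
    haveI := hDint i
    exact not_mem_support_of_strict (𝓓 i) (ξ i) (hξ i) (hD i) (𝓓 j) (hD j) η hη hne hj

/-- `𝓩` vanishes to order at least `n` along the `i`-th divisor -/
def Ord (i : I) (n : ℕ) : Prop :=
  ∃ V : X.affineOpens, ξ i ∈ V.1 ∧ 𝓩.ideal V ≤ (𝓓 i).ideal V ^ n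

include hDint hξ in
/-- the order condition can be read off in any principal chart -/
theorem Ord.pow_dvd {i : I} {n : ℕ} (h : Ord 𝓩 𝓓 ξ i n) (V : X.affineOpens) (hξV : ξ i ∈ V.1)
    (t : Γ(X, V.1)) (ht : t ∈ nonZeroDivisors Γ(X, V.1)) (hIt : (𝓓 i).ideal V = Ideal.span {t})
    (f : Γ(X, V.1)) (hf : f ∈ 𝓩.ideal V) : t ^ n ∣ f := by
  haveI := hDint i
  obtain ⟨V₀, hξV₀, hle⟩ := h
  obtain ⟨f₀, g, hfg, hξg⟩ := exists_basicOpen_le_affine_inter V₀.2 V.2 (ξ i) ⟨hξV₀, hξV⟩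
  let W : X.affineOpens := X.affineBasicOpen g
  have hWV : W ≤ V := X.basicOpen_le g
  have hWV₀ : W ≤ V₀ := by
    change X.basicOpen g ≤ V₀.1
    rw [← hfg]; exact X.basicOpen_le f₀
  have hleW := le_pow_of_le 𝓩 (𝓓 i) n hWV₀ hle
  have hprime : (Ideal.span {t}).IsPrime := by
    rw [← hIt]; exact ideal_isPrime (𝓓 i) (ξ i) (hξ i) V hξV
  haveI : Nontrivial Γ(X, V.1) := by
    by_contra hnt
    rw [not_nontrivial_iff_subsingleton] at hnt
    exact hprime.ne_top (Subsingleton.elim _ _)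
  have ht0 : t ≠ 0 := nonZeroDivisors.ne_zero ht
  have htp : Prime t := (Ideal.span_singleton_prime ht0).mp hprime
  -- the restriction of `f` to `W` lies in the `n`-th power
  have h1 : (X.presheaf.map (homOfLE (X.basicOpen_le g)).op).hom f ∈ (𝓓 i).ideal W ^ n := by
    apply hleW
    rw [← 𝓩.map_ideal hWV]
    exact Ideal.mem_map_of_mem _ hf
  rw [← (𝓓 i).map_ideal hWV, hIt, Ideal.map_span, Set.image_singleton,
    Ideal.span_singleton_pow, ← map_pow] at h1
  haveI := V.2.isLocalization_basicOpen g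
  have h2 : algebraMap Γ(X, V.1) Γ(X, X.basicOpen g) f ∈
      Ideal.map (algebraMap Γ(X, V.1) Γ(X, X.basicOpen g)) (Ideal.span {t ^ n}) := by
    rw [Ideal.map_span, Set.image_singleton]
    exact h1
  obtain ⟨⟨⟨s', hs'⟩, ⟨_, k, rfl⟩⟩, hs⟩ :=
    (IsLocalization.mem_map_algebraMap_iff (.powers g) Γ(X, X.basicOpen g)).mp h2
  simp only at hs
  rw [← map_mul] at hs
  obtain ⟨⟨_, m, rfl⟩, hm⟩ := (IsLocalization.eq_iff_exists (.powers g) _).mp hs
  simp only at hm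
  have h3 : t ^ n ∣ g ^ (m + k) * f := by
    obtain ⟨c, hc⟩ := Ideal.mem_span_singleton.mp hs'
    refine ⟨g ^ m * c, ?_⟩
    calc g ^ (m + k) * f = g ^ m * (f * g ^ k) := by ring
      _ = g ^ m * s' := hm
      _ = t ^ n * (g ^ m * c) := by rw [hc]; ring
  have hng : ¬ t ∣ g ^ (m + k) := by
    intro hdvd
    have h4 : g ^ (m + k) ∈ (𝓓 i).ideal V := by
      rw [hIt]; exact Ideal.mem_span_singleton.mpr hdvd
    haveI := ideal_isPrime (𝓓 i) (ξ i) (hξ i) V hξV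
    have h5 : g ∈ (𝓓 i).ideal V := Ideal.IsPrime.mem_of_pow_mem inferInstance _ h4
    rw [mem_ideal_iff_of_isGenericPoint (𝓓 i) (ξ i) (hξ i)] at h5
    exact h5 (hfg ▸ hξg)
  exact pow_dvd_of_dvd_mul_left htp ht hng n h3

theorem Ord.mono {i : I} {n m : ℕ} (h : Ord 𝓩 𝓓 ξ i n) (hmn : m ≤ n) : Ord 𝓩 𝓓 ξ i m := by
  obtain ⟨V, hξV, hle⟩ := h
  exact ⟨V, hξV, hle.trans (Ideal.pow_le_pow_right hmn)⟩

include hD in
theorem Ord.zero (i : I) : Ord 𝓩 𝓓 ξ i 0 := by
  obtain ⟨V, hξV, -⟩ := hD i (ξ i)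
  exact ⟨V, hξV, by simp⟩

include hD hDint hξ hZ' hcodim hcover in
/-- the order of vanishing is bounded -/
theorem Ord.bddAbove (i : I) : BddAbove {n | Ord 𝓩 𝓓 ξ i n} := by
  by_contra hnb
  rw [not_bddAbove_iff] at hnb
  have hall : ∀ n, Ord 𝓩 𝓓 ξ i n := by
    intro n
    obtain ⟨m, hm, hnm⟩ := hnb n
    exact Ord.mono 𝓩 𝓓 ξ hm hnm.le
  haveI := hDint i
  obtain ⟨V, hξV, t, ht, hIt⟩ := hD i (ξ i)
  haveI : IsNoetherianRing Γ(X, V.1) := IsLocallyNoetherian.component_noetherian V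
  obtain ⟨η, hη, hne⟩ := exists_strict (𝓓 i) (ξ i) (hξ i) (hD i)
  apply not_mem_support_of_strict' 𝓩 𝓓 hD hDint Z' hZ' hcodim hcover ξ hξ i η hη hne
  have hηV : η ∈ V.1 := hη.mem_open V.1.2 hξV
  rw [Scheme.IdealSheafData.mem_support_iff_of_mem (U := V) hηV, Scheme.mem_zeroLocus_iff]
  intro f hf
  rw [← mem_prime_iff V η hηV]
  haveI := (V.2.primeIdealOf ⟨η, hηV⟩).isPrime
  apply mem_of_forall_pow_dvd t f
  · intro n
    exact Ord.pow_dvd 𝓩 𝓓 hDint ξ hξ (hall n) V hξV t ht hIt f hf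
  · rw [← hIt, ← prime_eq (𝓓 i) (ξ i) (hξ i) V hξV]
    exact (specializes_iff V η (ξ i) hηV hξV).mp hη
  · rw [← hIt]; exact ideal_ne_top (𝓓 i) (ξ i) (hξ i) V hξV

/-- the multiplicity of `𝓩` along the `i`-th divisor -/
noncomputable def mult (i : I) : ℕ := sSup {n | Ord 𝓩 𝓓 ξ i n}

include hD hDint hξ hZ' hcodim hcover in
theorem ord_mult (i : I) : Ord 𝓩 𝓓 ξ i (mult 𝓩 𝓓 ξ i) :=
  Nat.sSup_mem ⟨0, Ord.zero 𝓩 𝓓 hD ξ i⟩
    (Ord.bddAbove 𝓩 𝓓 hD hDint Z' hZ' hcodim hcover ξ hξ i)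

include hD hDint hξ hZ' hcodim hcover in
theorem not_ord_mult_succ (i : I) : ¬ Ord 𝓩 𝓓 ξ i (mult 𝓩 𝓓 ξ i + 1) := by
  intro h
  have := le_csSup (Ord.bddAbove 𝓩 𝓓 hD hDint Z' hZ' hcodim hcover ξ hξ i) h
  change _ ≤ mult 𝓩 𝓓 ξ i at this
  omega

end

end Groth.Agent.Helper3.CartOrd
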