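import Mathlib
import Groth.Agent.Helper3.IntMultA
import Groth.Agent.Helper3.CartOrd
import Groth.Agent.Helper2.KD2
import Groth.Agent.Helper6.KSam6
import Groth.Agent.Helper1.TorBalance

set_option autoImplicit false
set_option linter.style.haveILetI false
set_option linter.unusedSectionVars false
set_option linter.unusedVariables false
set_option linter.deprecated false
set_option linter.style.haveILetI false
set_option linter.unusedSectionVars false
set_option linter.unusedVariables false

open CategoryTheory Limits AlgebraicGeometry TopologicalSpace Opposite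
universe u

namespace Groth.Agent.Helper3.IntMultB

open Groth.Agent.Helper6.KEuler Groth.Agent.Helper6.KSam Groth.Agent.Helper1.TorLib Pointwise

section Alg

variable (A : Type u) [CommRing A]

theorem chi_symm (M N : Type u) [AddCommGroup M] [Module A M] [AddCommGroup N] [Module A N] :
    IntMult.chi A M N = IntMult.chi A N M := by
  unfold IntMult.chi
  apply finsum_congr
  intro i
  obtain ⟨e⟩ := nonempty_tor_symm_iso (ModuleCat.of A M) (ModuleCat.of A N) i
  have h : Module.length A (DRing.Tor A i M N) = Module.length A (DRing.Tor A i N M) :=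
    e.toLinearEquiv.length_eq
  rw [h]

theorem chi_congr_ideal (J J' : Ideal A) (h : J = J') (M : Type u) [AddCommGroup M] [Module A M] :
    IntMult.chi A (A ⧸ J) M = IntMult.chi A (A ⧸ J') M := by
  subst h; rfl

theorem length_quotSMulTop (g : A) (I : Ideal A) :
    Module.length A (QuotSMulTop g (A ⧸ I)) = Module.length A (A ⧸ (I ⊔ Ideal.span {g})) := by
  have h1 : g • (⊤ : Submodule A (A ⧸ I)) = Submodule.map (Submodule.mkQ I) (Ideal.span {g}) := by
    ext y
    constructor
    · intro hy
      obtain ⟨z, -, rfl⟩ := (Submodule.mem_smul_pointwise_iff_exists _ _ _).mp hy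
      obtain ⟨a, rfl⟩ := Submodule.mkQ_surjective I z
      refine ⟨g * a, Ideal.mul_mem_right _ _ (Ideal.subset_span rfl), ?_⟩
      rw [← smul_eq_mul, map_smul]
    · rintro ⟨b, hb, rfl⟩
      obtain ⟨c, rfl⟩ := Ideal.mem_span_singleton'.mp hb
      rw [mul_comm, ← smul_eq_mul, map_smul]
      exact Submodule.smul_mem_pointwise_smul _ _ _ Submodule.mem_top
  have e : QuotSMulTop g (A ⧸ I) ≃ₗ[A] A ⧸ (I ⊔ Ideal.span {g}) :=
    (Submodule.quotEquivOfEq _ _ h1).trans
      (Submodule.quotientQuotientEquivQuotientSup (I : Submodule A A) (Ideal.span {g}))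
  exact e.length_eq

theorem chi_principal [IsNoetherianRing A] (g : A) (hreg : IsSMulRegular A g) (I : Ideal A)
    (hI : I.IsPrime) (hg : g ∉ I) :
    IntMult.chi A (A ⧸ I) (A ⧸ Ideal.span {g}) =
      ((Module.length A (A ⧸ (I ⊔ Ideal.span {g}))).toNat : ℤ) := by
  rw [chi_symm]
  have hl : RingTheory.Sequence.IsWeaklyRegular A [g] := by
    rw [RingTheory.Sequence.isWeaklyRegular_cons_iff]
    exact ⟨hreg, RingTheory.Sequence.IsWeaklyRegular.nil _ _⟩
  rw [chi_congr_ideal A _ _ (Ideal.ofList_singleton g).symm, intMult_chi_eq_chiK [g] hl (A ⧸ I)]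
  have hx : IsSMulRegular (A ⧸ I) g := by
    haveI := hI
    intro y z hyz
    have hyz' : g • y = g • z := hyz
    rw [Algebra.smul_def, Algebra.smul_def, Ideal.Quotient.algebraMap_eq] at hyz'
    have hne : Ideal.Quotient.mk I g ≠ 0 := by
      rw [Ne, Ideal.Quotient.eq_zero_iff_mem]
      exact hg
    exact mul_left_cancel₀ hne hyz'
  rw [chiK_cons_of_regular [] (A ⧸ I) g hx, chiK_nil, length_quotSMulTop]

theorem chi_congr_right (J J' : Ideal A) (h : J = J') (M : Type u) [AddCommGroup M] [Module A M] :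
    IntMult.chi A M (A ⧸ J) = IntMult.chi A M (A ⧸ J') := by
  subst h; rfl

end Alg

section Geom

open Groth.Agent.Helper3.IntMultA Groth.Agent.Helper3.CartOrd Groth.Agent.Helper2.KD2

theorem stalkIdeal_bot {X : Scheme.{u}} [IsLocallyNoetherian X] (x : X) :
    IntMult.stalkIdeal (⊥ : X.IdealSheafData) x = ⊥ := by
  obtain ⟨_, ⟨U, hU, rfl⟩, hxU, -⟩ :=
    (X.isBasis_affineOpens).exists_subset_of_mem_open (show x ∈ (⊤ : X.Opens) from trivial)
      (⊤ : X.Opens).2
  rw [stalkIdeal_eq _ ⟨U, hU⟩ x hxU]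
  simp

theorem main (K : Type u) [Field K] [IsAlgClosed K] (X : Scheme.{u})
    (f : X ⟶ Spec (CommRingCat.of K)) [Smooth f] [IsSeparated f] [QuasiCompact f] [IsIntegral X]
    (IV IW : X.IdealSheafData) [IsIntegral IV.subscheme] [IsIntegral IW.subscheme] (n r s : ℕ)
    (hn : topologicalKrullDim X = n) (hr : topologicalKrullDim IV.support = r)
    (hs : topologicalKrullDim IW.support = s)
    (hprop : IntMult.ProperInt (IV.support : Set X) (IW.support : Set X) n r s) (ξ : X)
    (hξV : ξ ∈ IV.support) (hξW : ξ ∈ IW.support)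
    (hmax : ∀ ξ' : X, ξ' ∈ IV.support → ξ' ∈ IW.support → ξ' ⤳ ξ → ξ' = ξ)
    (g : ↑(X.presheaf.stalk ξ)) (hg : IntMult.stalkIdeal IV ξ = Ideal.span {g})
    (hreg : IsSMulRegular (↑(X.presheaf.stalk ξ)) g) :
    (IntMult.mult IV IW ξ : ℤ) = (Module.length (X.presheaf.stalk ξ)
      (↑(X.presheaf.stalk ξ) ⧸ (IntMult.stalkIdeal IW ξ ⊔ Ideal.span {g}))).toNat := by
  haveI : LocallyOfFiniteType f := inferInstance
  haveI : IsLocallyNoetherian X := LocallyOfFiniteType.isLocallyNoetherian f
  obtain ⟨ξW, hξW₀⟩ := exists_generic IW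
  obtain ⟨ξV, hξV₀⟩ := exists_generic IV
  have hP : (IntMult.stalkIdeal IW ξ).IsPrime := stalkIdeal_isPrime IW ξW hξW₀ ξ hξW
  have hgW : g ∉ IntMult.stalkIdeal IW ξ := by
    intro hgW
    have hle : IntMult.stalkIdeal IV ξ ≤ IntMult.stalkIdeal IW ξ := by
      rw [hg, Ideal.span_singleton_le_iff_mem]; exact hgW
    have hsub : (IW.support : Set X) ⊆ IV.support :=
      support_le_of_stalkIdeal_le IW ξW hξW₀ ξ hξW IV hle
    have hVW : (IV.support : Set X) ∩ IW.support = IW.support := Set.inter_eq_right.mpr hsub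
    obtain ⟨h1, h2⟩ := hprop ⟨ξ, hξV, hξW⟩
    rw [hVW] at h2
    have h2' : ((s : ℕ) : WithBot ℕ∞) ≤ ((r + s - n : ℕ) : WithBot ℕ∞) := by
      rw [← hs]; exact h2
    have h3 : s ≤ r + s - n := by exact_mod_cast h2'
    have h4 : n ≤ r := by omega
    have hVne : (IV.support : Set X) ≠ Set.univ := by
      intro hVuniv
      have htop : IV.support = ⊤ := by
        apply TopologicalSpace.Closeds.ext
        rw [hVuniv]; rfl
      have hbot : IV = ⊥ := Scheme.IdealSheafData.support_eq_top_iff.mp htop
      rw [hbot, stalkIdeal_bot] at hg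
      have hg0 : g = 0 := by
        have : g ∈ (⊥ : Ideal (X.presheaf.stalk ξ)) := by
          rw [hg]; exact Ideal.subset_span rfl
        simpa using this
      subst hg0
      have h10 : (1 : X.presheaf.stalk ξ) = 0 := hreg (by simp)
      exact one_ne_zero h10
    have hirrV : IsIrreducible (IV.support : Set X) := hξV₀.isIrreducible
    have h5 := dim_succ_le (Z := (IV.support : Set X)) (W := Set.univ) IV.support.isClosed hirrV
      (IrreducibleSpace.isIrreducible_univ X) (Set.subset_univ _) hVne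
    have h6 : topologicalKrullDim ↥(Set.univ : Set X) ≤ topologicalKrullDim X :=
      topologicalKrullDim_subspace_le X Set.univ
    have h7 : ((r : ℕ) : WithBot ℕ∞) + 1 ≤ ((n : ℕ) : WithBot ℕ∞) := by
      rw [← hr, ← hn]
      exact h5.trans h6
    have h8 : r + 1 ≤ n := by exact_mod_cast h7
    omega
  unfold IntMult.mult
  rw [chi_congr_right _ _ _ hg]
  exact chi_principal _ g hreg _ hP hgW

end Geom

end Groth.Agent.Helper3.IntMultB
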