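import Mathlib
import Groth.Agent.Helper3.IntMultB
import Groth.Agent.Helper2.DepthCM2
import Groth.Agent.Helper2.RegCM
import Groth.Agent.Helper6.KSam6

set_option autoImplicit false
set_option linter.style.haveILetI false
set_option linter.unusedSectionVars false
set_option linter.unusedVariables false
set_option linter.deprecated false
set_option linter.style.haveILetI false
set_option linter.unusedSectionVars false
set_option linter.unusedVariables false

open CategoryTheory Limits TopologicalSpace Opposite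
universe u

namespace Groth.Agent.Helper3.IntMultD

open Groth.Agent.Helper6.KEuler Groth.Agent.Helper6.KSam Groth.Agent.Helper1.TorLib Pointwise
open Groth.Agent.Helper3.IntMultB RingTheory.Sequence IsLocalRing

section Alg

variable {A : Type u} [CommRing A]

/-- `(A/I)/J(A/I) ≃ A/(I+J)` -/
noncomputable def quotSMulTopEquiv (I J : Ideal A) :
    ((A ⧸ I) ⧸ (J • (⊤ : Submodule A (A ⧸ I)))) ≃ₗ[A] A ⧸ (I ⊔ J) := by
  have h1 : J • (⊤ : Submodule A (A ⧸ I)) = Submodule.map (Submodule.mkQ I) J := by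
    have h2 : Submodule.map (Submodule.mkQ I) (J • (⊤ : Submodule A A)) =
        J • Submodule.map (Submodule.mkQ I) (⊤ : Submodule A A) := Submodule.map_smul'' _ _ _
    rw [Submodule.map_top, Submodule.range_mkQ] at h2
    rw [← h2]
    congr 1
    simp
  exact (Submodule.quotEquivOfEq _ _ h1).trans
      (Submodule.quotientQuotientEquivQuotientSup (I : Submodule A A) J)

variable [IsNoetherianRing A]

theorem chiK_of_weaklyRegular : ∀ (l : List A) (M : Type u) [AddCommGroup M] [Module A M],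
    IsWeaklyRegular M l →
    chiK l M = ((Module.length A (M ⧸ Ideal.ofList l • (⊤ : Submodule A M))).toNat : ℤ) := by
  intro l
  induction l with
  | nil =>
    intro M _ _ _
    rw [chiK_nil]
    have e : (M ⧸ Ideal.ofList ([] : List A) • (⊤ : Submodule A M)) ≃ₗ[A] M :=
      Submodule.quotEquivOfEqBot _ (by rw [Ideal.ofList_nil, Submodule.bot_smul])
    rw [e.length_eq]
  | cons x xs ih =>
    intro M _ _ h
    rw [isWeaklyRegular_cons_iff] at h
    rw [chiK_cons_of_regular xs M x h.1, ih (QuotSMulTop x M) h.2,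
      (Submodule.quotOfListConsSMulTopEquivQuotSMulTopInner M x xs).length_eq]

section Local

variable [IsLocalRing A]

theorem cm_module_of_quot (I : Ideal A) (hCM : LocCoh.IsCohenMacaulayLocalRing (A ⧸ I)) :
    LocCoh.IsCohenMacaulayModule A (A ⧸ I) := by
  unfold LocCoh.IsCohenMacaulayModule
  haveI : IsLocalRing (A ⧸ I) := hCM.toIsLocalRing
  haveI : IsLocalHom (algebraMap A (A ⧸ I)) :=
    IsLocalHom.of_surjective (Ideal.Quotient.mk I) Ideal.Quotient.mk_surjective
  rw [Module.supportDim_quotient_eq_ringKrullDim,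
    Groth.Agent.Helper2.RegCM.depth_eq_of_isLocalHom A (A ⧸ I) (A ⧸ I),
    ← Module.supportDim_self_eq_ringKrullDim]
  exact hCM.supportDim_eq_depth

theorem mem_maximalIdeal_of_isRegular (l : List A) (hreg : IsRegular A l) :
    ∀ x ∈ l, x ∈ maximalIdeal A := by
  intro x hx
  have hne : Ideal.ofList l ≠ ⊤ := by
    intro h
    apply hreg.top_ne_smul
    rw [h]
    simp
  exact IsLocalRing.le_maximalIdeal hne (Ideal.subset_span hx)

theorem ringKrullDim_quot_sup_eq_zero (IW J : Ideal A) (hJ : J ≤ maximalIdeal A)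
    (hIW : IW ≤ maximalIdeal A)
    (hfl : ∀ p : Ideal A, p.IsPrime → IW ≤ p → J ≤ p → p.IsMaximal) :
    ringKrullDim (A ⧸ (IW ⊔ J)) = 0 := by
  have hne : IW ⊔ J ≠ ⊤ := by
    intro h
    have : IW ⊔ J ≤ maximalIdeal A := sup_le hIW hJ
    rw [h] at this
    exact (IsLocalRing.maximalIdeal.isMaximal A).ne_top (top_le_iff.mp this)
  haveI : Nontrivial (A ⧸ (IW ⊔ J)) := Ideal.Quotient.nontrivial_iff.mpr hne
  apply le_antisymm
  · have : Ring.KrullDimLE 0 (A ⧸ (IW ⊔ J)) := by
      rw [Ring.krullDimLE_zero_iff]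
      intro q hq
      have h1 : (q.comap (Ideal.Quotient.mk (IW ⊔ J))).IsPrime := Ideal.comap_isPrime _ _
      have h2 : IW ⊔ J ≤ q.comap (Ideal.Quotient.mk (IW ⊔ J)) := by
        intro a ha
        rw [Ideal.mem_comap, Ideal.Quotient.eq_zero_iff_mem.mpr ha]
        exact q.zero_mem
      have h3 := hfl _ h1 (le_sup_left.trans h2) (le_sup_right.trans h2)
      have h4 : q = (q.comap (Ideal.Quotient.mk (IW ⊔ J))).map (Ideal.Quotient.mk (IW ⊔ J)) :=
        (Ideal.map_comap_of_surjective _ Ideal.Quotient.mk_surjective q).symm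
      rcases Ideal.map_eq_top_or_isMaximal_of_surjective (Ideal.Quotient.mk (IW ⊔ J))
        Ideal.Quotient.mk_surjective h3 with h5 | h5
      · rw [← h4] at h5
        exact absurd h5 hq.ne_top
      · rw [← h4] at h5
        exact h5
    exact Ring.krullDimLE_iff.mp this
  · exact ringKrullDim_nonneg_of_nontrivial

theorem supportDim_quot_smul_top (IW J : Ideal A) (hJ : J ≤ maximalIdeal A)
    (hIW : IW ≤ maximalIdeal A)
    (hfl : ∀ p : Ideal A, p.IsPrime → IW ≤ p → J ≤ p → p.IsMaximal) :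
    Module.supportDim A ((A ⧸ IW) ⧸ J • (⊤ : Submodule A (A ⧸ IW))) = 0 := by
  rw [Module.supportDim_eq_of_equiv (quotSMulTopEquiv IW J),
    Module.supportDim_quotient_eq_ringKrullDim]
  exact ringKrullDim_quot_sup_eq_zero IW J hJ hIW hfl

theorem ofList_le_maximalIdeal (l : List A) (hreg : IsRegular A l) :
    Ideal.ofList l ≤ maximalIdeal A := by
  rw [Ideal.ofList, Ideal.span_le]
  exact fun x hx => mem_maximalIdeal_of_isRegular l hreg x hx

/-- the intersection multiplicity in the Cohen-Macaulay case -/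
theorem chi_of_cm (IW : Ideal A) (hIW : IW ≤ maximalIdeal A) (l : List A) (hreg : IsRegular A l)
    (hCM : LocCoh.IsCohenMacaulayLocalRing (A ⧸ IW))
    (hdim : ringKrullDim (A ⧸ IW) = (l.length : WithBot ℕ∞))
    (hfl : ∀ p : Ideal A, p.IsPrime → IW ≤ p → Ideal.ofList l ≤ p → p.IsMaximal) :
    IntMult.chi A (A ⧸ IW) (A ⧸ Ideal.ofList l) =
      ((Module.length A (A ⧸ (IW ⊔ Ideal.ofList l))).toNat : ℤ) := by
  rw [chi_symm, intMult_chi_eq_chiK l hreg.toIsWeaklyRegular (A ⧸ IW)]
  have hmem := mem_maximalIdeal_of_isRegular l hreg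
  have hwr : IsWeaklyRegular (A ⧸ IW) l := by
    apply Groth.Agent.Helper2.DepthCM2.weaklyRegular_of_dim_drop l (A ⧸ IW)
      (cm_module_of_quot IW hCM) hmem
    rw [supportDim_quot_smul_top IW _ (ofList_le_maximalIdeal l hreg) hIW hfl,
      Module.supportDim_quotient_eq_ringKrullDim, hdim, zero_add]
  rw [chiK_of_weaklyRegular l _ hwr, (quotSMulTopEquiv IW (Ideal.ofList l)).length_eq]

open Filter Topology in
/-- the intersection multiplicity as a Samuel multiplicity -/
theorem chi_samuel (IW : Ideal A) (hIW : IW ≤ maximalIdeal A) (l : List A) (hreg : IsRegular A l)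
    (c : ℕ) (hc : l.length = c)
    (hdim : ringKrullDim (A ⧸ IW) = (c : WithBot ℕ∞))
    (hfl : ∀ p : Ideal A, p.IsPrime → IW ≤ p → Ideal.ofList l ≤ p → p.IsMaximal) :
    Tendsto (fun t : ℕ => (c.factorial : ℝ) *
        ((Module.length A (A ⧸ (IW ⊔ Ideal.ofList l ^ t))).toNat : ℝ) / (t : ℝ) ^ c) atTop
      (𝓝 ((IntMult.chi A (A ⧸ IW) (A ⧸ Ideal.ofList l) : ℤ) : ℝ)) ∧
    0 < IntMult.chi A (A ⧸ IW) (A ⧸ Ideal.ofList l) := by
  rw [chi_symm, intMult_chi_eq_chiK l hreg.toIsWeaklyRegular (A ⧸ IW)]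
  have hmem := mem_maximalIdeal_of_isRegular l hreg
  have hFL : FL (Ideal.span {a | a ∈ l}) (A ⧸ IW) := by
    intro p hp hJ
    have h1 : IW ≤ p.asIdeal := by
      rw [Module.mem_support_iff_of_finite, Ideal.annihilator_quotient] at hp
      exact hp
    exact hfl p.asIdeal p.isPrime h1 hJ
  constructor
  · have h := samuel_tendsto l c hc hmem (A ⧸ IW) hFL
    refine h.congr ?_
    intro t
    have e := (quotSMulTopEquiv IW (Ideal.span {a | a ∈ l} ^ t)).length_eq
    rw [e]
  · have h := chiK_dim l hmem (A ⧸ IW) hFL c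
      (by rw [Module.supportDim_quotient_eq_ringKrullDim, hdim])
    exact h.2 hc.symm

end Local

end Alg

end Groth.Agent.Helper3.IntMultD
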