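import Mathlib
import Groth.Agent.Helper3.IntMultD
import Groth.Agent.Helper2.RegSeq
import Groth.Agent.Helper2.RegCM

set_option autoImplicit false
set_option linter.style.haveILetI false
set_option linter.unusedSectionVars false
set_option linter.unusedVariables false
set_option linter.deprecated false
set_option linter.style.haveILetI false
set_option linter.unusedSectionVars false
set_option linter.unusedVariables false

open CategoryTheory Limits TopologicalSpace Opposite
universe u

namespace Groth.Agent.Helper3.IntMultF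

open Groth.Agent.Helper3.IntMultB Groth.Agent.Helper3.IntMultD RingTheory.Sequence IsLocalRing

variable {A : Type u} [CommRing A] [IsRegularLocalRing A]

/-- the span in the cotangent space of the classes of the elements of `P` -/
noncomputable def cotSpan (P : Ideal A) : Submodule (ResidueField A) (CotangentSpace A) :=
  Submodule.span (ResidueField A)
    (Set.range (fun z : {z : maximalIdeal A // (z : A) ∈ P} => (maximalIdeal A).toCotangent z.1))

theorem exists_indep (P : Ideal A) :
    ∃ (v : ℕ) (x : Fin v → maximalIdeal A), (∀ i, ((x i : maximalIdeal A) : A) ∈ P) ∧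
      LinearIndependent (ResidueField A) (fun i => (maximalIdeal A).toCotangent (x i)) ∧
      Module.finrank (ResidueField A) (cotSpan P) = v := by
  obtain ⟨κ, a, ha, hspan, hli⟩ := exists_linearIndependent' (ResidueField A)
    (fun z : {z : maximalIdeal A // (z : A) ∈ P} => (maximalIdeal A).toCotangent z.1)
  haveI : Finite κ := hli.finite
  let e := Finite.equivFin κ
  refine ⟨Nat.card κ, fun i => (a (e.symm i)).1, fun i => (a (e.symm i)).2, ?_, ?_⟩
  · exact hli.comp e.symm e.symm.injective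
  · unfold cotSpan
    rw [← hspan]
    haveI : Fintype κ := Fintype.ofFinite κ
    rw [finrank_span_eq_card hli, Nat.card_eq_fintype_card]

theorem cotSpan_sup (P Q : Ideal A) (h : P ⊔ Q = maximalIdeal A) :
    cotSpan P ⊔ cotSpan Q = ⊤ := by
  rw [eq_top_iff]
  intro τ _
  obtain ⟨z, rfl⟩ := (maximalIdeal A).toCotangent_surjective τ
  have hz : (z : A) ∈ P ⊔ Q := by rw [h]; exact z.2
  obtain ⟨p, hp, q, hq, hpq⟩ := Submodule.mem_sup.mp hz
  have hpm : p ∈ maximalIdeal A := by rw [← h]; exact Ideal.mem_sup_left hp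
  have hqm : q ∈ maximalIdeal A := by rw [← h]; exact Ideal.mem_sup_right hq
  have hz' : z = ⟨p, hpm⟩ + ⟨q, hqm⟩ := Subtype.ext hpq.symm
  rw [hz', map_add]
  refine Submodule.add_mem_sup ?_ ?_
  · exact Submodule.subset_span ⟨⟨⟨p, hpm⟩, hp⟩, rfl⟩
  · exact Submodule.subset_span ⟨⟨⟨q, hqm⟩, hq⟩, rfl⟩

theorem finrank_cotangent (d : ℕ) (hd : ringKrullDim A = d) :
    Module.finrank (ResidueField A) (CotangentSpace A) = d := by
  have h1 : ((maximalIdeal A).spanFinrank : WithBot ℕ∞) = ringKrullDim A :=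
    IsRegularLocalRing.spanFinrank_maximalIdeal
  rw [hd] at h1
  have h2 : (maximalIdeal A).spanFinrank = d := by exact_mod_cast h1
  rw [← h2]
  exact (IsLocalRing.spanFinrank_maximalIdeal_eq_finrank_cotangentSpace A).symm

theorem ofList_ofFn {R : Type u} [CommRing R] (c : ℕ) (g : Fin c → R) :
    Ideal.ofList (List.ofFn g) = Ideal.span (Set.range g) := by
  unfold Ideal.ofList
  congr 1
  ext x
  simp [List.mem_ofFn]

theorem exists_nat_dim (R : Type u) [CommRing R] [Nontrivial R] (n : ℕ)
    (h : ringKrullDim R ≤ (n : WithBot ℕ∞)) : ∃ m : ℕ, ringKrullDim R = (m : WithBot ℕ∞) := by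
  have h0 : ringKrullDim R ≠ ⊥ := by
    intro h1
    have := ringKrullDim_nonneg_of_nontrivial (R := R)
    rw [h1] at this
    exact absurd this (by simp)
  obtain ⟨m, hm, -⟩ := Groth.Agent.Helper2.RegSeq.withBot_nat_of_le h h0
  exact ⟨m, hm⟩

section one

variable (P : Ideal A) (hP : P.IsPrime) (v : ℕ) (x : Fin v → maximalIdeal A)
  (hxP : ∀ i, ((x i : maximalIdeal A) : A) ∈ P)
  (hli : LinearIndependent (ResidueField A) (fun i => (maximalIdeal A).toCotangent (x i)))
  (d : ℕ) (hd : ringKrullDim A = d) (aV : ℕ) (haV : ringKrullDim (A ⧸ P) = aV)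

include hP hxP hli hd haV

theorem span_le : Ideal.span (Set.range fun i => ((x i : maximalIdeal A) : A)) ≤ P := by
  rw [Ideal.span_le]
  rintro _ ⟨i, rfl⟩
  exact hxP i

theorem exists_dim_quot : ∃ D : ℕ,
    ringKrullDim (A ⧸ Ideal.span (Set.range fun i => ((x i : maximalIdeal A) : A))) = D ∧
      D + v = d ∧ aV ≤ D := by
  obtain ⟨h1, h2⟩ := Groth.Agent.Helper2.RegSeq.quotient_regular_of_indep v x hli
  haveI := h2
  have hle : ringKrullDim (A ⧸ Ideal.span (Set.range fun i => ((x i : maximalIdeal A) : A))) ≤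
      (d : WithBot ℕ∞) := by
    rw [← hd]; exact ringKrullDim_quotient_le _
  obtain ⟨D, hD⟩ := exists_nat_dim _ d hle
  refine ⟨D, hD, ?_, ?_⟩
  · rw [hD, hd] at h1
    exact_mod_cast h1
  · have h3 := ringKrullDim_le_of_surjective
      (Ideal.Quotient.factor (span_le P hP v x hxP hli d hd aV haV))
      (Ideal.Quotient.factor_surjective _)
    rw [hD, haV] at h3
    exact_mod_cast h3

theorem span_eq (heq : aV + v = d) :
    Ideal.span (Set.range fun i => ((x i : maximalIdeal A) : A)) = P := by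
  set J := Ideal.span (Set.range fun i => ((x i : maximalIdeal A) : A)) with hJ
  have hJP : J ≤ P := span_le P hP v x hxP hli d hd aV haV
  obtain ⟨D, hD, hDv, haVD⟩ := exists_dim_quot P hP v x hxP hli d hd aV haV
  obtain ⟨h1, h2⟩ := Groth.Agent.Helper2.RegSeq.quotient_regular_of_indep v x hli
  haveI : IsRegularLocalRing (A ⧸ J) := h2
  haveI : IsDomain (A ⧸ J) := Groth.Agent.Lead.RegLocal.isDomain_of_isRegularLocalRing _
  by_contra hne
  have hlt : J < P := lt_of_le_of_ne hJP hne
  obtain ⟨r, hrP, hrJ⟩ := Set.exists_of_ssubset hlt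
  have hr0 : Ideal.Quotient.mk J r ≠ 0 := by
    rw [Ne, Ideal.Quotient.eq_zero_iff_mem]; exact hrJ
  have hnzd : Ideal.Quotient.mk J r ∈ nonZeroDivisors (A ⧸ J) := mem_nonZeroDivisors_of_ne_zero hr0
  have h3 := ringKrullDim_quotient_succ_le_of_nonZeroDivisor hnzd
  have hkill : Ideal.span {Ideal.Quotient.mk J r} ≤ RingHom.ker (Ideal.Quotient.factor hJP) := by
    rw [Ideal.span_le]
    rintro _ rfl
    rw [SetLike.mem_coe, RingHom.mem_ker, Ideal.Quotient.factor_mk, Ideal.Quotient.eq_zero_iff_mem]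
    exact hrP
  have h4 := ringKrullDim_le_of_surjective
    (Ideal.Quotient.lift (Ideal.span {Ideal.Quotient.mk J r}) (Ideal.Quotient.factor hJP)
      (fun a ha => hkill ha))
    (by
      intro b
      obtain ⟨a, rfl⟩ := Ideal.Quotient.mk_surjective b
      exact ⟨Ideal.Quotient.mk _ (Ideal.Quotient.mk J a), by simp⟩)
  rw [haV] at h4
  rw [hD] at h3
  have h5 : ((aV : ℕ) : WithBot ℕ∞) + 1 ≤ ((D : ℕ) : WithBot ℕ∞) :=
    (add_le_add_left h4 1).trans h3
  have h6 : aV + 1 ≤ D := by exact_mod_cast h5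
  omega

end one

/-- a regular sequence generating `P`, from independent elements spanning `P` -/
theorem isRegular_ofFn (v : ℕ) (x : Fin v → maximalIdeal A)
    (hli : LinearIndependent (ResidueField A) (fun i => (maximalIdeal A).toCotangent (x i))) :
    IsRegular A (List.ofFn fun i => ((x i : maximalIdeal A) : A)) := by
  obtain ⟨h1, h2⟩ := Groth.Agent.Helper2.RegSeq.quotient_regular_of_indep v x hli
  have hmem : ∀ a ∈ (List.ofFn fun i => ((x i : maximalIdeal A) : A)), a ∈ maximalIdeal A := by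
    intro a ha
    rw [List.mem_ofFn] at ha
    obtain ⟨i, rfl⟩ := ha
    exact (x i).2
  have hle : Ideal.ofList (List.ofFn fun i => ((x i : maximalIdeal A) : A)) ≤ maximalIdeal A := by
    rw [Ideal.ofList, Ideal.span_le]
    exact hmem
  refine ⟨?_, ?_⟩
  · apply Groth.Agent.Helper2.DepthCM2.weaklyRegular_of_dim_drop _ A
      (Groth.Agent.Helper2.RegCM.cm_of_isRegularLocalRing A) hmem
    have eq : Ideal.ofList (List.ofFn fun i => ((x i : maximalIdeal A) : A)) =
        Ideal.ofList (List.ofFn fun i => ((x i : maximalIdeal A) : A)) • (⊤ : Ideal A) := by simp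
    rw [← Module.supportDim_eq_of_equiv (Submodule.quotEquivOfEq _ _ eq),
      Module.supportDim_quotient_eq_ringKrullDim, Module.supportDim_self_eq_ringKrullDim,
      ofList_ofFn, List.length_ofFn]
    exact h1
  · intro h
    have h3 : Ideal.ofList (List.ofFn fun i => ((x i : maximalIdeal A) : A)) = ⊤ := by
      have : Ideal.ofList (List.ofFn fun i => ((x i : maximalIdeal A) : A)) • (⊤ : Ideal A) = ⊤ :=
        h.symm
      simpa using this
    rw [h3] at hle
    exact (IsLocalRing.maximalIdeal.isMaximal A).ne_top (top_le_iff.mp hle)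

theorem core (P Q : Ideal A) (hP : P.IsPrime) (hQ : Q.IsPrime) (h : P ⊔ Q = maximalIdeal A)
    (d aV aW : ℕ) (hd : ringKrullDim A = d) (haV : ringKrullDim (A ⧸ P) = aV)
    (haW : ringKrullDim (A ⧸ Q) = aW) (hsum : d ≤ aV + aW) :
    IsRegularLocalRing (A ⧸ P) ∧ IsRegularLocalRing (A ⧸ Q) ∧
      ∃ l : List A, Ideal.ofList l = P ∧ IsRegular A l ∧ l.length = aW := by
  obtain ⟨v, x, hxP, hxli, hv⟩ := exists_indep P
  obtain ⟨w, y, hyQ, hyli, hw⟩ := exists_indep Q
  have hvw : d ≤ v + w := by
    have h1 := Submodule.finrank_add_le_finrank_add_finrank (cotSpan P) (cotSpan Q)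
    rw [cotSpan_sup P Q h, finrank_top, finrank_cotangent d hd, hv, hw] at h1
    exact h1
  obtain ⟨D1, hD1, hD1v, haVD1⟩ := exists_dim_quot P hP v x hxP hxli d hd aV haV
  obtain ⟨D2, hD2, hD2w, haWD2⟩ := exists_dim_quot Q hQ w y hyQ hyli d hd aW haW
  have e1 : aV + v = d := by omega
  have e2 : aW + w = d := by omega
  have hJP := span_eq P hP v x hxP hxli d hd aV haV e1
  have hJQ := span_eq Q hQ w y hyQ hyli d hd aW haW e2
  obtain ⟨-, hregP⟩ := Groth.Agent.Helper2.RegSeq.quotient_regular_of_indep v x hxli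
  obtain ⟨-, hregQ⟩ := Groth.Agent.Helper2.RegSeq.quotient_regular_of_indep w y hyli
  rw [hJP] at hregP
  rw [hJQ] at hregQ
  refine ⟨hregP, hregQ, List.ofFn (fun i => ((x i : maximalIdeal A) : A)), ?_,
    isRegular_ofFn v x hxli, ?_⟩
  · rw [ofList_ofFn, hJP]
  · rw [List.length_ofFn]; omega

theorem cmLocalRing_of_regular (R : Type u) [CommRing R] [IsRegularLocalRing R] :
    LocCoh.IsCohenMacaulayLocalRing R :=
  { supportDim_eq_depth := Groth.Agent.Helper2.RegCM.cm_of_isRegularLocalRing R }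

theorem chi_transversal (P Q : Ideal A) (hP : P.IsPrime) (hQ : Q.IsPrime)
    (h : P ⊔ Q = maximalIdeal A)
    (d aV aW : ℕ) (hd : ringKrullDim A = d) (haV : ringKrullDim (A ⧸ P) = aV)
    (haW : ringKrullDim (A ⧸ Q) = aW) (hsum : d ≤ aV + aW) :
    IntMult.chi A (A ⧸ Q) (A ⧸ P) = ((Module.length A (A ⧸ (Q ⊔ P))).toNat : ℤ) ∧
      IsRegularLocalRing (A ⧸ P) ∧ IsRegularLocalRing (A ⧸ Q) := by
  obtain ⟨hregP, hregQ, l, hl, hlreg, hlen⟩ := core P Q hP hQ h d aV aW hd haV haW hsum
  refine ⟨?_, hregP, hregQ⟩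
  rw [chi_congr_right A _ _ hl.symm]
  haveI := hregQ
  have hQle : Q ≤ maximalIdeal A := IsLocalRing.le_maximalIdeal hQ.ne_top
  have h1 := chi_of_cm Q hQle l hlreg (cmLocalRing_of_regular (A ⧸ Q))
    (by rw [haW, hlen]) (by
      intro p hp hQp hlp
      rw [hl] at hlp
      have : maximalIdeal A ≤ p := by rw [← h]; exact sup_le hlp hQp
      have hpm : p = maximalIdeal A :=
        le_antisymm (IsLocalRing.le_maximalIdeal hp.ne_top) this
      rw [hpm]
      exact IsLocalRing.maximalIdeal.isMaximal A)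
  rw [h1, hl]

/-- length one forces the sum of the two ideals to be the maximal ideal -/
theorem sup_eq_maximalIdeal (P Q : Ideal A)
    (h1 : Module.length A (A ⧸ (P ⊔ Q)) = 1) : P ⊔ Q = maximalIdeal A := by
  rw [Module.length_eq_one_iff, isSimpleModule_iff_isCoatom] at h1
  have : (P ⊔ Q).IsMaximal := Ideal.isMaximal_def.mpr h1
  exact IsLocalRing.eq_maximalIdeal this

end Groth.Agent.Helper3.IntMultF
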