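import Mathlib
import Groth.Prelude
import Groth.Agent.Helper2.DepthCM2
import Groth.Agent.Helper1.LDualI
import Groth.Agent.Helper3.IntMultF

set_option autoImplicit false
set_option linter.style.haveILetI false
set_option linter.unusedSectionVars false
set_option linter.unusedVariables false
set_option linter.deprecated false
set_option linter.unusedSectionVars false
set_option linter.unusedVariables false

open RingTheory.Sequence IsLocalRing Module
universe u

namespace Groth.Agent.Helper3.CMIntA

variable {O : Type u} [CommRing O]

/-- in a Cohen–Macaulay local ring, `c` elements of the maximal ideal all of whose enclosing primes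
have height at least `c` form a regular sequence -/
theorem weaklyRegular_of_height [hCM : LocCoh.IsCohenMacaulayLocalRing O] (l : List O)
    (hmem : ∀ x ∈ l, x ∈ maximalIdeal O)
    (hht : ∀ p : Ideal O, p.IsPrime → Ideal.ofList l ≤ p → (l.length : ℕ∞) ≤ p.height) :
    IsWeaklyRegular O l := by
  haveI : IsNoetherianRing O := inferInstance
  haveI : IsLocalRing O := inferInstance
  set K := Ideal.ofList l with hK
  have hKle : K ≤ maximalIdeal O := by
    rw [hK, Ideal.ofList, Ideal.span_le]; exact hmem
  have hKtop : K ≠ ⊤ := fun e => (IsLocalRing.maximalIdeal.isMaximal O).ne_top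
    (top_le_iff.mp (e ▸ hKle))
  -- the dimensions are natural numbers
  obtain ⟨N, hN'⟩ := ENat.ne_top_iff_exists.1
    (Ideal.height_ne_top_of_isPrime (I := maximalIdeal O))
  have hN : ringKrullDim O = N := by
    rw [← IsLocalRing.maximalIdeal_height_eq_ringKrullDim, ← hN']
    rfl
  haveI : Nontrivial (O ⧸ K) := Ideal.Quotient.nontrivial_iff.mpr hKtop
  obtain ⟨d, hd⟩ : ∃ d : ℕ, ringKrullDim (O ⧸ K) = d := by
    have hle : ringKrullDim (O ⧸ K) ≤ (N : WithBot ℕ∞) := by
      rw [← hN]; exact ringKrullDim_quotient_le _
    exact Groth.Agent.Helper3.IntMultF.exists_nat_dim _ N hle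
  have hgfin : K.height ≠ ⊤ := by
    have h1 : K.height ≤ (maximalIdeal O).height := Ideal.height_mono hKle
    have h2 := Ideal.height_ne_top_of_isPrime (I := maximalIdeal O)
    exact ne_top_of_le_ne_top h2 h1
  obtain ⟨g, hg⟩ := ENat.ne_top_iff_exists.1 hgfin
  have hsum := Groth.Agent.Helper1.LDual.height_add_dim K g d N hg.symm hd hN
  -- the height of `K` is at least the number of elements
  have hge : l.length ≤ g := by
    have h1 : (l.length : ℕ∞) ≤ K.height := by
      rw [Ideal.height_eq_inf_minimalPrimes]
      refine le_iInf₂ fun p hp => ?_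
      exact hht p hp.1.1 hp.1.2
    rw [← hg] at h1
    exact_mod_cast h1
  -- Krull
  have hkrull := Groth.Agent.Helper2.DepthCM2.supportDim_le_quot_ofList_add l O hmem
  have e1 : K = K • (⊤ : Submodule O O) := by simp
  rw [Module.supportDim_self_eq_ringKrullDim,
    ← Module.supportDim_eq_of_equiv (Submodule.quotEquivOfEq _ _ e1),
    Module.supportDim_quotient_eq_ringKrullDim, hN, hd] at hkrull
  have hkrull' : N ≤ d + l.length := by exact_mod_cast hkrull
  apply Groth.Agent.Helper2.DepthCM2.weaklyRegular_of_dim_drop l O hCM.supportDim_eq_depth hmem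
  rw [Module.supportDim_self_eq_ringKrullDim,
    ← Module.supportDim_eq_of_equiv (Submodule.quotEquivOfEq _ _ e1),
    Module.supportDim_quotient_eq_ringKrullDim, hN, hd]
  have : d + l.length = N := by omega
  exact_mod_cast this

end Groth.Agent.Helper3.CMIntA
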