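import Mathlib
import Groth.Prelude
import Groth.Agent.Helper7.VascF

set_option autoImplicit false
set_option linter.style.haveILetI false
set_option linter.unusedSectionVars false
set_option linter.unusedVariables false
set_option linter.deprecated false
set_option linter.unusedSectionVars false
set_option linter.unusedVariables false

open RingTheory.Sequence
universe u

namespace Groth.Agent.Helper3.CMIntC
open Groth.Agent.Helper7.Vasc

/-- spreading out weak regularity from the localisation at a prime to a basic open -/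
theorem spread' {R : Type u} [CommRing R] [IsNoetherianRing R] (p : Ideal R) [hp : p.IsPrime]
    (S : Type u) [CommRing S] [Algebra R S] [IsLocalization.AtPrime S p] (ys : List R)
    (hreg : IsWeaklyRegular S (ys.map (algebraMap R S))) :
    ∃ g : R, g ∉ p ∧ ∀ (L : Type u) [CommRing L] [Algebra R L] [IsLocalization.Away g L],
      IsWeaklyRegular L (ys.map (algebraMap R L)) := by
  classical
  have h1 : ∀ i : Fin ys.length, ∃ g, g ∉ p ∧ ∀ r : R,
      ys[i] * r ∈ Ideal.ofList (ys.take i) → g * r ∈ Ideal.ofList (ys.take i) := by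
    intro i
    let C : Ideal R :=
      { carrier := {r | ys[i] * r ∈ Ideal.ofList (ys.take i)}
        add_mem' := fun {a b} ha hb => by
          simp only [Set.mem_setOf_eq] at ha hb ⊢
          rw [mul_add]; exact Ideal.add_mem _ ha hb
        zero_mem' := by simp
        smul_mem' := fun c {a} ha => by
          simp only [Set.mem_setOf_eq, smul_eq_mul] at ha ⊢
          rw [mul_left_comm]; exact Ideal.mul_mem_left _ _ ha }
    obtain ⟨g, hg, hgC⟩ := fg_clear p C (Ideal.ofList (ys.take i)) (by
      intro r hr
      obtain ⟨t, ht, htr⟩ := forall_of_isWeaklyRegular_map p.primeCompl S ys hreg i i.2 r hr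
      exact ⟨t, ht, htr⟩)
    exact ⟨g, hg, fun r hr => hgC r hr⟩
  choose g₁ hg₁ hg₁' using h1
  set G := ∏ i : Fin ys.length, g₁ i with hG
  have hGp : G ∉ p := by
    intro hmem
    obtain ⟨i, -, hi⟩ := (hp.prod_mem_iff).1 hmem
    exact hg₁ i hi
  refine ⟨G, hGp, ?_⟩
  intro L _ _ _
  apply isWeaklyRegular_map_of_forall (Submonoid.powers G) L ys
  intro i hi r hr
  refine ⟨G, Submonoid.mem_powers G, ?_⟩
  have h2 := hg₁' ⟨i, hi⟩ r hr
  have h3 : G = (∏ j ∈ (Finset.univ.erase (⟨i, hi⟩ : Fin ys.length)), g₁ j) * g₁ ⟨i, hi⟩ :=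
    (Finset.prod_erase_mul _ _ (Finset.mem_univ _)).symm
  rw [h3, mul_assoc]
  exact Ideal.mul_mem_left _ _ h2

end Groth.Agent.Helper3.CMIntC
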