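import Mathlib
import Groth.Agent.Helper3.IntMultF

set_option autoImplicit false
set_option linter.style.haveILetI false
set_option linter.unusedSectionVars false
set_option linter.unusedVariables false
set_option linter.deprecated false

open CategoryTheory Limits TopologicalSpace Opposite
universe u

namespace Groth.Agent.Helper3.IntMultH

open Groth.Agent.Helper3.IntMultB Groth.Agent.Helper3.IntMultD Groth.Agent.Helper3.IntMultF
open RingTheory.Sequence IsLocalRing

variable {A : Type u} [CommRing A] [IsRegularLocalRing A]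

section one

variable (P : Ideal A) (v : ℕ) (x : Fin v → maximalIdeal A)
  (hxP : ∀ i, ((x i : maximalIdeal A) : A) ∈ P)
  (hli : LinearIndependent (ResidueField A) (fun i => (maximalIdeal A).toCotangent (x i)))
  (d : ℕ) (hd : ringKrullDim A = d) (aV : ℕ) (haV : (aV : WithBot ℕ∞) ≤ ringKrullDim (A ⧸ P))

include hxP hli hd haV

theorem span_le : Ideal.span (Set.range fun i => ((x i : maximalIdeal A) : A)) ≤ P := by
  rw [Ideal.span_le]
  rintro _ ⟨i, rfl⟩
  exact hxP i

theorem exists_dim_quot : ∃ D : ℕ,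
    ringKrullDim (A ⧸ Ideal.span (Set.range fun i => ((x i : maximalIdeal A) : A))) = D ∧
      D + v = d ∧ aV ≤ D := by
  obtain ⟨h1, h2⟩ := Groth.Agent.Helper2.RegSeq.quotient_regular_of_indep v x hli
  haveI := h2
  have hle : ringKrullDim (A ⧸ Ideal.span (Set.range fun i => ((x i : maximalIdeal A) : A))) ≤
      (d : WithBot ℕ∞) := by
    rw [← hd]; exact ringKrullDim_quotient_le _
  obtain ⟨D, hD⟩ := exists_nat_dim _ d hle
  refine ⟨D, hD, ?_, ?_⟩
  · rw [hD, hd] at h1
    exact_mod_cast h1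
  · have h3 := ringKrullDim_le_of_surjective
      (Ideal.Quotient.factor (span_le P v x hxP hli d hd aV haV))
      (Ideal.Quotient.factor_surjective _)
    rw [hD] at h3
    have h4 := haV.trans h3
    exact_mod_cast h4

theorem span_eq (heq : aV + v = d) :
    Ideal.span (Set.range fun i => ((x i : maximalIdeal A) : A)) = P := by
  set J := Ideal.span (Set.range fun i => ((x i : maximalIdeal A) : A)) with hJ
  have hJP : J ≤ P := span_le P v x hxP hli d hd aV haV
  obtain ⟨D, hD, hDv, haVD⟩ := exists_dim_quot P v x hxP hli d hd aV haV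
  obtain ⟨h1, h2⟩ := Groth.Agent.Helper2.RegSeq.quotient_regular_of_indep v x hli
  haveI : IsRegularLocalRing (A ⧸ J) := h2
  haveI : IsDomain (A ⧸ J) := Groth.Agent.Lead.RegLocal.isDomain_of_isRegularLocalRing _
  by_contra hne
  have hlt : J < P := lt_of_le_of_ne hJP hne
  obtain ⟨r, hrP, hrJ⟩ := Set.exists_of_ssubset hlt
  have hr0 : Ideal.Quotient.mk J r ≠ 0 := by
    rw [Ne, Ideal.Quotient.eq_zero_iff_mem]; exact hrJ
  have hnzd : Ideal.Quotient.mk J r ∈ nonZeroDivisors (A ⧸ J) := mem_nonZeroDivisors_of_ne_zero hr0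
  have h3 := ringKrullDim_quotient_succ_le_of_nonZeroDivisor hnzd
  have hkill : Ideal.span {Ideal.Quotient.mk J r} ≤ RingHom.ker (Ideal.Quotient.factor hJP) := by
    rw [Ideal.span_le]
    rintro _ rfl
    rw [SetLike.mem_coe, RingHom.mem_ker, Ideal.Quotient.factor_mk, Ideal.Quotient.eq_zero_iff_mem]
    exact hrP
  have h4 := ringKrullDim_le_of_surjective
    (Ideal.Quotient.lift (Ideal.span {Ideal.Quotient.mk J r}) (Ideal.Quotient.factor hJP)
      (fun a ha => RingHom.mem_ker.mp (hkill ha)))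
    (by
      intro b
      obtain ⟨a, rfl⟩ := Ideal.Quotient.mk_surjective b
      refine ⟨Ideal.Quotient.mk _ (Ideal.Quotient.mk J a), ?_⟩
      rw [Ideal.Quotient.lift_mk, Ideal.Quotient.factor_mk])
  have h4' := haV.trans h4
  rw [hD] at h3
  have h5 : ((aV : ℕ) : WithBot ℕ∞) + 1 ≤ ((D : ℕ) : WithBot ℕ∞) :=
    (add_le_add_left h4' 1).trans h3
  have h6 : aV + 1 ≤ D := by exact_mod_cast h5
  omega

end one

/-- two ideals of a regular local ring spanning the maximal ideal whose quotients have large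
dimension: both quotients are regular of the expected dimensions, and `P` is generated by a regular
sequence. -/
theorem core (P Q : Ideal A) (h : P ⊔ Q = maximalIdeal A)
    (d aV aW : ℕ) (hd : ringKrullDim A = d) (haV : (aV : WithBot ℕ∞) ≤ ringKrullDim (A ⧸ P))
    (haW : (aW : WithBot ℕ∞) ≤ ringKrullDim (A ⧸ Q)) (hsum : d ≤ aV + aW) :
    IsRegularLocalRing (A ⧸ P) ∧ IsRegularLocalRing (A ⧸ Q) ∧
      ringKrullDim (A ⧸ P) = aV ∧ ringKrullDim (A ⧸ Q) = aW ∧
      ∃ l : List A, Ideal.ofList l = P ∧ IsRegular A l ∧ l.length = aW := by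
  obtain ⟨v, x, hxP, hxli, hv⟩ := exists_indep P
  obtain ⟨w, y, hyQ, hyli, hw⟩ := exists_indep Q
  have hvw : d ≤ v + w := by
    have h1 := Submodule.finrank_add_le_finrank_add_finrank (cotSpan P) (cotSpan Q)
    rw [cotSpan_sup P Q h, finrank_top, finrank_cotangent d hd, hv, hw] at h1
    exact h1
  obtain ⟨D1, hD1, hD1v, haVD1⟩ := exists_dim_quot P v x hxP hxli d hd aV haV
  obtain ⟨D2, hD2, hD2w, haWD2⟩ := exists_dim_quot Q w y hyQ hyli d hd aW haW
  have e1 : aV + v = d := by omega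
  have e2 : aW + w = d := by omega
  have hJP := span_eq P v x hxP hxli d hd aV haV e1
  have hJQ := span_eq Q w y hyQ hyli d hd aW haW e2
  obtain ⟨-, hregP⟩ := Groth.Agent.Helper2.RegSeq.quotient_regular_of_indep v x hxli
  obtain ⟨-, hregQ⟩ := Groth.Agent.Helper2.RegSeq.quotient_regular_of_indep w y hyli
  rw [hJP] at hregP hD1
  rw [hJQ] at hregQ hD2
  refine ⟨hregP, hregQ, ?_, ?_, List.ofFn (fun i => ((x i : maximalIdeal A) : A)), ?_,
    isRegular_ofFn v x hxli, ?_⟩
  · rw [hD1]; congr 1; congr 1; omega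
  · rw [hD2]; congr 1; congr 1; omega
  · rw [ofList_ofFn, hJP]
  · rw [List.length_ofFn]; omega

theorem chi_transversal (P Q : Ideal A)
    (h : P ⊔ Q = maximalIdeal A)
    (d aV aW : ℕ) (hd : ringKrullDim A = d) (haV : (aV : WithBot ℕ∞) ≤ ringKrullDim (A ⧸ P))
    (haW : (aW : WithBot ℕ∞) ≤ ringKrullDim (A ⧸ Q)) (hsum : d ≤ aV + aW) :
    IntMult.chi A (A ⧸ Q) (A ⧸ P) = 1 ∧
      IsRegularLocalRing (A ⧸ P) ∧ IsRegularLocalRing (A ⧸ Q) ∧
      ringKrullDim (A ⧸ P) = aV ∧ ringKrullDim (A ⧸ Q) = aW := by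
  obtain ⟨hregP, hregQ, hdP, hdQ, l, hl, hlreg, hlen⟩ := core P Q h d aV aW hd haV haW hsum
  refine ⟨?_, hregP, hregQ, hdP, hdQ⟩
  rw [chi_congr_right A _ _ hl.symm]
  haveI := hregQ
  have hQtop : Q ≠ ⊤ := by
    intro e
    haveI : Nontrivial (A ⧸ Q) := hregQ.toIsLocalRing.toNontrivial
    exact (Ideal.Quotient.nontrivial_iff.mp inferInstance) e
  have hQle : Q ≤ maximalIdeal A := IsLocalRing.le_maximalIdeal hQtop
  have h1 := chi_of_cm Q hQle l hlreg (cmLocalRing_of_regular (A ⧸ Q))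
    (by rw [hdQ, hlen]) (by
      intro p hp hQp hlp
      rw [hl] at hlp
      have : maximalIdeal A ≤ p := by rw [← h]; exact sup_le hlp hQp
      have hpm : p = maximalIdeal A :=
        le_antisymm (IsLocalRing.le_maximalIdeal hp.ne_top) this
      rw [hpm]
      exact IsLocalRing.maximalIdeal.isMaximal A)
  rw [h1, hl, sup_comm, h]
  have : Module.length A (A ⧸ maximalIdeal A) = 1 := by
    rw [Module.length_eq_one_iff, isSimpleModule_iff_isCoatom]
    exact (Ideal.isMaximal_def.mp (IsLocalRing.maximalIdeal.isMaximal A))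
  rw [this]
  rfl

end Groth.Agent.Helper3.IntMultH
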