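import Mathlib
import Groth.Agent.Helper3.IntMultB
import Groth.Agent.Helper5.StalkDict
import Groth.Agent.Helper5.VarCodim
import Groth.Agent.Helper5.VarDim7

set_option autoImplicit false
set_option linter.style.haveILetI false
set_option linter.unusedSectionVars false
set_option linter.unusedVariables false
set_option linter.deprecated false
set_option linter.style.haveILetI false
set_option linter.unusedSectionVars false
set_option linter.unusedVariables false

open CategoryTheory Limits AlgebraicGeometry TopologicalSpace Opposite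
universe u

namespace Groth.Agent.Helper3.IntMultC

open Groth.Agent.Helper3.IntMultA Groth.Agent.Helper3.IntMultB Groth.Agent.Helper3.CartOrd
open Groth.Agent.Helper3.CartDict Groth.Agent.Helper3.CartLoc
open Groth.Agent.Helper5.StalkDict Groth.Agent.Helper5.SubDim Groth.Agent.Helper5.VarDim

variable {X : Scheme.{u}} [IsLocallyNoetherian X]

/-- the prime `I_ξ` of the local ring at `ξ` corresponds to the generic point of `V(I)` -/
theorem fromSpecStalk_stalkIdeal (I : X.IdealSheafData) [IsIntegral I.subscheme] (η : X)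
    (hη : IsGenericPoint η (I.support : Set X)) (ξ : X) (hξ : ξ ∈ I.support)
    (hP : (IntMult.stalkIdeal I ξ).IsPrime) :
    X.fromSpecStalk ξ ⟨IntMult.stalkIdeal I ξ, hP⟩ = η := by
  obtain ⟨_, ⟨U, hU, rfl⟩, hxU, -⟩ :=
    (X.isBasis_affineOpens).exists_subset_of_mem_open (show ξ ∈ (⊤ : X.Opens) from trivial)
      (⊤ : X.Opens).2
  have hηU : η ∈ U := (hη.specializes hξ).mem_open U.2 hxU
  rw [← hU.fromSpecStalk_eq_fromSpecStalk hxU, IsAffineOpen.fromSpecStalk, Scheme.Hom.comp_apply]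
  have hIP := ideal_isPrime I η hη ⟨U, hU⟩ hηU
  letI := X.presheaf.algebra_section_stalk ⟨ξ, hxU⟩
  haveI := hU.isLocalization_stalk ⟨ξ, hxU⟩
  have hdisj : Disjoint ((hU.primeIdealOf ⟨ξ, hxU⟩).asIdeal.primeCompl : Set Γ(X, U))
      (I.ideal ⟨U, hU⟩ : Set Γ(X, U)) := by
    rw [Set.disjoint_left]
    intro f hf hfI
    apply hf
    refine (mem_prime_iff ⟨U, hU⟩ ξ hxU f).mpr ?_
    have h1 := (Scheme.IdealSheafData.mem_support_iff_of_mem (I := I) (U := ⟨U, hU⟩) hxU).mp hξ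
    rw [Scheme.mem_zeroLocus_iff] at h1
    exact h1 f hfI
  have h3 := IsLocalization.under_map_of_isPrime_disjoint
      (hU.primeIdealOf ⟨ξ, hxU⟩).asIdeal.primeCompl (X.presheaf.stalk ξ) hIP hdisj
  have key : Spec.map (X.presheaf.germ U ξ hxU) ⟨IntMult.stalkIdeal I ξ, hP⟩ =
      hU.primeIdealOf ⟨η, hηU⟩ := by
    apply PrimeSpectrum.ext
    rw [prime_eq I η hη ⟨U, hU⟩ hηU]
    show Ideal.comap (X.presheaf.germ U ξ hxU).hom (IntMult.stalkIdeal I ξ) = I.ideal ⟨U, hU⟩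
    rw [stalkIdeal_eq I ⟨U, hU⟩ ξ hxU]
    exact h3
  rw [key, hU.fromSpec_primeIdealOf ⟨η, hηU⟩]

theorem dim_quot_stalkIdeal (K : Type u) [Field K] (f : X ⟶ Spec (CommRingCat.of K))
    [LocallyOfFiniteType f] (I : X.IdealSheafData) [IsIntegral I.subscheme] (ξ : X)
    (hξ : ξ ∈ I.support) (d : ℕ) (hd : topologicalKrullDim I.support = d) :
    ∃ a t : ℕ, ringKrullDim (X.presheaf.stalk ξ ⧸ IntMult.stalkIdeal I ξ) = a ∧
      topologicalKrullDim ↥(closure ({ξ} : Set X)) = t ∧ a + t = d := by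
  obtain ⟨η, hη⟩ := exists_generic I
  have hP := stalkIdeal_isPrime I η hη ξ hξ
  have h1 := ringKrullDim_stalk_quotient ξ ⟨IntMult.stalkIdeal I ξ, hP⟩
  rw [fromSpecStalk_stalkIdeal I η hη ξ hξ hP] at h1
  obtain ⟨a, tx, tz, ha, htx, htz, hsum⟩ := variety_codim K f ξ η (hη.specializes hξ)
  obtain ⟨n1, hn1, hn1'⟩ := dim_closure_point K f η
  obtain ⟨n2, hn2, hn2'⟩ := dim_closure_point K f ξ
  have e1 : n1 = tz := by exact_mod_cast (hn1'.symm.trans htz)
  have e2 : n2 = tx := by exact_mod_cast (hn2'.symm.trans htx)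
  have e3 : n1 = d := by
    rw [hη.def] at hn1
    have : ((n1 : ℕ) : WithBot ℕ∞) = ((d : ℕ) : WithBot ℕ∞) := hn1.symm.trans hd
    exact_mod_cast this
  refine ⟨a, n2, h1.trans ha, hn2, by omega⟩

theorem dim_stalk (K : Type u) [Field K] (f : X ⟶ Spec (CommRingCat.of K))
    [LocallyOfFiniteType f] [IsIntegral X] (ξ : X) (n : ℕ) (hn : topologicalKrullDim X = n) :
    ∃ a t : ℕ, ringKrullDim (X.presheaf.stalk ξ) = a ∧
      topologicalKrullDim ↥(closure ({ξ} : Set X)) = t ∧ a + t = n := by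
  haveI : Nonempty (⊥ : X.IdealSheafData).subscheme :=
    ⟨(inv (⊥ : X.IdealSheafData).subschemeι) ξ⟩
  haveI : IsIntegral (⊥ : X.IdealSheafData).subscheme :=
    isIntegral_of_isOpenImmersion (⊥ : X.IdealSheafData).subschemeι
  have hd : topologicalKrullDim (⊥ : X.IdealSheafData).support = n := by
    rw [← hn]
    have h0 : ((⊥ : X.IdealSheafData).support : Set X) = Set.univ := by
      rw [Scheme.IdealSheafData.support_bot]; rfl
    show topologicalKrullDim ↥((⊥ : X.IdealSheafData).support : Set X) = _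
    rw [h0]
    exact (Homeomorph.Set.univ X).isHomeomorph.topologicalKrullDim_eq _
  obtain ⟨a, t, h1, h2, h3⟩ := dim_quot_stalkIdeal K f ⊥ ξ
    (by rw [Scheme.IdealSheafData.support_bot]; trivial) n hd
  refine ⟨a, t, ?_, h2, h3⟩
  rw [← h1, stalkIdeal_bot]
  exact (ringKrullDim_eq_of_ringEquiv (RingEquiv.quotientBot _)).symm

theorem mem_support_of_le (I : X.IdealSheafData) [IsIntegral I.subscheme] (ξ : X)
    (hξ : ξ ∈ I.support) (p : Ideal (X.presheaf.stalk ξ)) (hp : p.IsPrime)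
    (hle : IntMult.stalkIdeal I ξ ≤ p) : X.fromSpecStalk ξ ⟨p, hp⟩ ∈ I.support := by
  obtain ⟨η, hη⟩ := exists_generic I
  have hP := stalkIdeal_isPrime I η hη ξ hξ
  have h1 : X.fromSpecStalk ξ ⟨IntMult.stalkIdeal I ξ, hP⟩ ⤳ X.fromSpecStalk ξ ⟨p, hp⟩ :=
    (fromSpecStalk_specializes_iff ξ ⟨IntMult.stalkIdeal I ξ, hP⟩ ⟨p, hp⟩).mpr hle
  rw [fromSpecStalk_stalkIdeal I η hη ξ hξ hP] at h1
  exact h1.mem_closed I.support.isClosed (hη.mem)

theorem isMaximal_of_le (IV IW : X.IdealSheafData) [IsIntegral IV.subscheme]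
    [IsIntegral IW.subscheme] (ξ : X) (hξV : ξ ∈ IV.support) (hξW : ξ ∈ IW.support)
    (hmax : ∀ ξ' : X, ξ' ∈ IV.support → ξ' ∈ IW.support → ξ' ⤳ ξ → ξ' = ξ)
    (p : Ideal (X.presheaf.stalk ξ)) (hp : p.IsPrime)
    (hW : IntMult.stalkIdeal IW ξ ≤ p) (hV : IntMult.stalkIdeal IV ξ ≤ p) : p.IsMaximal := by
  have h1 := mem_support_of_le IV ξ hξV p hp hV
  have h2 := mem_support_of_le IW ξ hξW p hp hW
  have h3 := hmax _ h1 h2 (fromSpecStalk_specializes ξ ⟨p, hp⟩)
  have h4 : X.fromSpecStalk ξ (IsLocalRing.closedPoint (X.presheaf.stalk ξ)) = ξ :=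
    Scheme.fromSpecStalk_closedPoint
  have h5 : (⟨p, hp⟩ : PrimeSpectrum (X.presheaf.stalk ξ)) =
      IsLocalRing.closedPoint (X.presheaf.stalk ξ) :=
    (X.fromSpecStalk ξ).isEmbedding.injective (h3.trans h4.symm)
  have h6 : p = IsLocalRing.maximalIdeal (X.presheaf.stalk ξ) := congrArg PrimeSpectrum.asIdeal h5
  rw [h6]
  exact IsLocalRing.maximalIdeal.isMaximal _

end Groth.Agent.Helper3.IntMultC
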