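import Mathlib
import Groth.Agent.Helper3.SmKregG
import Groth.Agent.Helper5.RelGCI12

set_option autoImplicit false
set_option linter.style.haveILetI false
set_option linter.unusedSectionVars false
set_option linter.unusedVariables false
set_option linter.deprecated false
set_option linter.style.haveILetI false
set_option linter.unusedSectionVars false
set_option linter.unusedVariables false

open CategoryTheory Limits AlgebraicGeometry TopologicalSpace Opposite
universe u

namespace Groth.Agent.Helper3.DiagA

/-- the identity is a Koszul-regular immersion -/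
theorem kreg_id (X : Scheme.{u}) : RegImm.IsRegularImmersion .koszul (𝟙 X) := by
  refine ⟨inferInstance, ?_⟩
  intro z
  obtain ⟨_, ⟨U, hU, rfl⟩, hzU, -⟩ :=
    (X.isBasis_affineOpens).exists_subset_of_mem_open (show z ∈ (⊤ : X.Opens) from trivial)
      (⊤ : X.Opens).2
  refine ⟨⟨U, hU⟩, hzU, inferInstance, [], ?_, ?_⟩
  · exact Groth.Agent.Helper5.RelGCI.kreg_of_isWeaklyRegular []
      (RingTheory.Sequence.IsWeaklyRegular.nil _ _)
  · rw [Ideal.ofList_nil]
    rw [RingHom.ker_eq_bot_iff_eq_zero]
    intro a ha
    have : ((𝟙 X : X ⟶ X).app U).hom a = a := by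
      simp
      rfl
    rw [this] at ha
    exact ha

/-- the diagonal of a smooth morphism is a Koszul-regular immersion -/
theorem kreg_diag {X S : Scheme.{u}} (f : X ⟶ S) [Smooth f] :
    RegImm.IsRegularImmersion .koszul (pullback.diagonal f) := by
  haveI : Smooth (pullback.fst f f ≫ f) := inferInstance
  exact Groth.Agent.Helper3.SmKregG.two_smooth f (pullback.fst f f ≫ f) (𝟙 X) (pullback.diagonal f)
    (by simp) (kreg_id X)

end Groth.Agent.Helper3.DiagA
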