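import Mathlib
import Groth.Agent.Helper3.DiagA
import Groth.Agent.Helper3.IntMultA
import Groth.Agent.Helper2.LciGlobal

set_option autoImplicit false
set_option linter.style.haveILetI false
set_option linter.unusedSectionVars false
set_option linter.unusedVariables false
set_option linter.deprecated false
set_option linter.style.haveILetI false
set_option linter.unusedSectionVars false
set_option linter.unusedVariables false

open CategoryTheory Limits AlgebraicGeometry TopologicalSpace Opposite
universe u

namespace Groth.Agent.Helper3.DiagB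

open RingTheory.Sequence IsLocalRing Groth.Agent.Helper3.IntMultA Groth.Agent.Helper3.CartDict

theorem weaklyRegular_of_isLocalization {S : Type u} [CommRing S] [IsNoetherianRing S] (Q : Ideal S)
    [Q.IsPrime] (B : Type u) [CommRing B] [Algebra S B] [IsLocalization.AtPrime B Q] (l : List S)
    (hl : LCI.IsKoszulRegularSeq S l) (hmem : ∀ x ∈ l, x ∈ Q) :
    IsWeaklyRegular B (l.map (algebraMap S B)) := by
  have h1 := Groth.Agent.Helper2.LciGlobal.isWeaklyRegular_atPrime Q l hl hmem
  rw [isWeaklyRegular_map_algebraMap_iff] at h1 ⊢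
  exact ((IsLocalization.algEquiv Q.primeCompl (Localization.AtPrime Q)
    B).toLinearEquiv.isWeaklyRegular_congr l).1 h1

/-- a Koszul-regular closed immersion into a locally Noetherian scheme: the stalk of the ideal at a
point of the image is generated by a regular sequence -/
theorem stalk_regular {Z P : Scheme.{u}} [IsLocallyNoetherian P] (i : Z ⟶ P) [IsClosedImmersion i]
    (hi : RegImm.IsRegularImmersion .koszul i) (z : Z) :
    ∃ l : List (P.presheaf.stalk (i z)), IsWeaklyRegular (P.presheaf.stalk (i z)) l ∧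
      (∀ a ∈ l, a ∈ maximalIdeal (P.presheaf.stalk (i z))) ∧
      Ideal.ofList l = IntMult.stalkIdeal i.ker (i z) := by
  obtain ⟨U, hzU, -, rs, hrs, hker⟩ := hi.2 z
  have hrs' : LCI.IsKoszulRegularSeq Γ(P, U.1) rs := hrs
  haveI : IsNoetherianRing Γ(P, U.1) := IsLocallyNoetherian.component_noetherian U
  letI := P.presheaf.algebra_section_stalk ⟨i z, hzU⟩
  haveI := U.2.isLocalization_stalk ⟨i z, hzU⟩
  have hI : i.ker.ideal U = Ideal.ofList rs := by rw [Scheme.Hom.ker_apply, hker]
  have hsupp : i z ∈ i.ker.support := by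
    have h1 : (i.ker.support : Set P) = closure (Set.range i) := Scheme.Hom.support_ker i
    show i z ∈ (i.ker.support : Set P)
    rw [h1]
    exact subset_closure ⟨z, rfl⟩
  have hmem : ∀ x ∈ rs, x ∈ (U.2.primeIdealOf ⟨i z, hzU⟩).asIdeal := by
    intro x hx
    refine (mem_prime_iff U (i z) hzU x).mpr ?_
    have h1 := (Scheme.IdealSheafData.mem_support_iff_of_mem (I := i.ker) (U := U) hzU).mp hsupp
    rw [Scheme.mem_zeroLocus_iff] at h1
    apply h1 x
    rw [hI]
    exact Ideal.subset_span hx
  refine ⟨rs.map (algebraMap Γ(P, U.1) (P.presheaf.stalk (i z))), ?_, ?_, ?_⟩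
  · exact weaklyRegular_of_isLocalization (U.2.primeIdealOf ⟨i z, hzU⟩).asIdeal _ rs hrs' hmem
  · intro a ha
    rw [List.mem_map] at ha
    obtain ⟨x, hx, rfl⟩ := ha
    have h2 := hmem x hx
    rw [← IsLocalization.AtPrime.to_map_mem_maximal_iff (P.presheaf.stalk (i z))
      (U.2.primeIdealOf ⟨i z, hzU⟩).asIdeal] at h2
    exact h2
  · rw [stalkIdeal_eq i.ker U (i z) hzU, hI, Ideal.map_ofList]
    rfl

end Groth.Agent.Helper3.DiagB
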