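import Mathlib
import Groth.Prelude
import Groth.Agent.Helper1.TorBC2
import Groth.Agent.Helper6.KSam6
import Groth.Agent.Helper3.PosA

set_option autoImplicit false
set_option linter.style.haveILetI false
set_option linter.unusedSectionVars false
set_option linter.unusedVariables false
set_option linter.deprecated false
set_option linter.style.haveILetI false
set_option linter.unusedSectionVars false
set_option linter.unusedVariables false

universe u

namespace Groth.Agent.Helper3.PosB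
open IsLocalRing CategoryTheory Groth.Agent.Helper1.TorLib Groth.Agent.Helper3.PosA TensorProduct
open Groth.Agent.Helper6.KEuler Groth.Agent.Helper6.KSam

variable {O R : Type u} [CommRing O] [CommRing R] [Algebra O R]

/-- `O / Q ≃ R / J` when `O → R / J` is onto with kernel `Q` -/
noncomputable def quotEquiv (Q : Ideal O) (J : Ideal R)
    (hQ : J.comap (algebraMap O R) = Q) (hsurj : ∀ r : R, ∃ a : O, r - algebraMap O R a ∈ J) :
    (O ⧸ Q) ≃ₐ[O] (R ⧸ J) := by
  have hs : Function.Surjective (Algebra.ofId O (R ⧸ J)) := by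
    intro y
    obtain ⟨r, rfl⟩ := Ideal.Quotient.mk_surjective y
    obtain ⟨a, ha⟩ := hsurj r
    refine ⟨a, ?_⟩
    show Ideal.Quotient.mk J (algebraMap O R a) = Ideal.Quotient.mk J r
    rw [Ideal.Quotient.eq]
    have : algebraMap O R a - r = -(r - algebraMap O R a) := by ring
    rw [this]
    exact J.neg_mem ha
  have hk : Q = RingHom.ker (Algebra.ofId O (R ⧸ J)) := by
    rw [← hQ]
    ext a
    rw [Ideal.mem_comap, RingHom.mem_ker]
    show _ ↔ Ideal.Quotient.mk J (algebraMap O R a) = 0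
    rw [Ideal.Quotient.eq_zero_iff_mem]
  exact (Ideal.quotientEquivAlgOfEq O hk).trans (Ideal.quotientKerAlgEquivOfSurjective hs)

variable [IsLocalRing R] [Module.Flat O R]

theorem length_tor_eq (P Q : Ideal O) (J : Ideal R) (hJ : J ≤ maximalIdeal R)
    (hQ : J.comap (algebraMap O R) = Q) (hsurj : ∀ r : R, ∃ a : O, r - algebraMap O R a ∈ J)
    (n : ℕ) :
    Module.length O (DRing.Tor O n (O ⧸ Q) (O ⧸ P)) =
      Module.length R (DRing.Tor R n (R ⧸ J) (R ⧸ P.map (algebraMap O R))) := by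
  have hres : ∀ b : R, ∃ a : O, b - algebraMap O R a ∈ maximalIdeal R := by
    intro b
    obtain ⟨a, ha⟩ := hsurj b
    exact ⟨a, hJ ha⟩
  let e1 : (O ⧸ Q) ≃ₗ[O] (R ⧸ J) := (quotEquiv Q J hQ hsurj).toLinearEquiv
  let i1 := ((Tor (ModuleCat.{u} O) n).mapIso e1.toModuleIso).app (ModuleCat.of O (O ⧸ P))
  have h1 : Module.length O (DRing.Tor O n (O ⧸ Q) (O ⧸ P)) =
      Module.length O (DRing.Tor O n (R ⧸ J) (O ⧸ P)) := i1.toLinearEquiv.length_eq
  obtain ⟨σ, hσ⟩ := exists_semilinear_tor_flat_left (A := O) (A' := R) (R ⧸ J) (O ⧸ P) n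
  have h2 := length_semilinear hres _ _ σ hσ
  let e3 : (R ⊗[O] (O ⧸ P)) ≃ₗ[R] (R ⧸ P.map (algebraMap O R)) :=
    (Algebra.TensorProduct.quotIdealMapEquivTensorQuot R P).symm.toLinearEquiv
  let i3 := ((Tor (ModuleCat.{u} R) n).obj (ModuleCat.of R (R ⧸ J))).mapIso e3.toModuleIso
  have h3 : Module.length R (DRing.Tor R n (R ⧸ J) (R ⊗[O] (O ⧸ P))) =
      Module.length R (DRing.Tor R n (R ⧸ J) (R ⧸ P.map (algebraMap O R))) :=
    i3.toLinearEquiv.length_eq
  rw [h1, ← h3]
  exact h2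

theorem chi_eq (P Q : Ideal O) (J : Ideal R) (hJ : J ≤ maximalIdeal R)
    (hQ : J.comap (algebraMap O R) = Q) (hsurj : ∀ r : R, ∃ a : O, r - algebraMap O R a ∈ J) :
    IntMult.chi O (O ⧸ Q) (O ⧸ P) = IntMult.chi R (R ⧸ J) (R ⧸ P.map (algebraMap O R)) := by
  unfold IntMult.chi
  apply finsum_congr
  intro n
  rw [length_tor_eq P Q J hJ hQ hsurj n]

theorem chi_eq_chiK (P Q : Ideal O) (l : List R) (hl : RingTheory.Sequence.IsWeaklyRegular R l)
    (hJ : Ideal.ofList l ≤ maximalIdeal R)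
    (hQ : (Ideal.ofList l).comap (algebraMap O R) = Q)
    (hsurj : ∀ r : R, ∃ a : O, r - algebraMap O R a ∈ Ideal.ofList l) :
    IntMult.chi O (O ⧸ Q) (O ⧸ P) = chiK l (R ⧸ P.map (algebraMap O R)) := by
  rw [chi_eq P Q (Ideal.ofList l) hJ hQ hsurj]
  exact intMult_chi_eq_chiK l hl _

end Groth.Agent.Helper3.PosB
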