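import Mathlib
import Groth.Prelude
import Groth.Agent.Helper6.KEuler7
import Groth.Agent.Helper3.PosB

set_option autoImplicit false
set_option linter.style.haveILetI false
set_option linter.unusedSectionVars false
set_option linter.unusedVariables false
set_option linter.deprecated false
set_option linter.style.haveILetI false
set_option linter.unusedSectionVars false
set_option linter.unusedVariables false

universe u

namespace Groth.Agent.Helper3.PosC
open IsLocalRing CategoryTheory TensorProduct RingTheory.Sequence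
open Groth.Agent.Helper6.KEuler Groth.Agent.Helper6.KSam Groth.Agent.Helper3.PosB

section D1
variable (A B : Type u) [CommRing A] [CommRing B] [IsLocalRing A] [IsLocalRing B] [IsNoetherianRing A]
  [IsNoetherianRing B] [Algebra A B] [IsLocalHom (algebraMap A B)] [Module.Flat A B]

theorem dim_flat_local : ringKrullDim B = ringKrullDim A +
    ringKrullDim (B ⧸ (maximalIdeal A).map (algebraMap A B)) := by
  set I := (maximalIdeal A).map (algebraMap A B) with hI
  have hcomap : (maximalIdeal B).comap (algebraMap A B) = maximalIdeal A :=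
    ((local_hom_TFAE (algebraMap A B)).out 0 4).mp ‹_›
  haveI : (maximalIdeal B).LiesOver (maximalIdeal A) := ⟨hcomap.symm⟩
  have hht := Ideal.height_eq_height_add_of_liesOver_of_hasGoingDown (maximalIdeal A)
    (maximalIdeal B)
  have hIle : I ≤ maximalIdeal B := IsLocalRing.map_maximalIdeal_le (algebraMap A B)
  haveI : Nontrivial (B ⧸ I) := Ideal.Quotient.nontrivial_iff.mpr (fun h => by
    rw [h] at hIle
    exact (IsLocalRing.maximalIdeal.isMaximal B).ne_top (top_le_iff.mp hIle))
  haveI : IsLocalRing (B ⧸ I) := IsLocalRing.of_surjective' (Ideal.Quotient.mk I)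
    Ideal.Quotient.mk_surjective
  have hmax : (maximalIdeal B).map (Ideal.Quotient.mk I) = maximalIdeal (B ⧸ I) :=
    IsLocalRing.map_maximalIdeal_of_surjective _ Ideal.Quotient.mk_surjective
  rw [hmax] at hht
  rw [← IsLocalRing.maximalIdeal_height_eq_ringKrullDim,
    ← IsLocalRing.maximalIdeal_height_eq_ringKrullDim,
    ← IsLocalRing.maximalIdeal_height_eq_ringKrullDim, hht]
  rfl

end D1

section D2
variable {O R : Type u} [CommRing O] [CommRing R] [Algebra O R] [IsLocalRing O] [IsLocalRing R]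
  [IsNoetherianRing O] [IsNoetherianRing R] [IsLocalHom (algebraMap O R)] [Module.Flat O R]

theorem dim_quot_flat (P : Ideal O) (hP : P ≠ ⊤) :
    ringKrullDim (R ⧸ P.map (algebraMap O R)) = ringKrullDim (O ⧸ P) +
      ringKrullDim (R ⧸ (maximalIdeal O).map (algebraMap O R)) := by
  have hPm : P ≤ maximalIdeal O := IsLocalRing.le_maximalIdeal hP
  have hmR : (maximalIdeal O).map (algebraMap O R) ≤ maximalIdeal R :=
    IsLocalRing.map_maximalIdeal_le (algebraMap O R)
  have hPR : P.map (algebraMap O R) ≤ maximalIdeal R := (Ideal.map_mono hPm).trans hmR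
  haveI : Nontrivial (O ⧸ P) := Ideal.Quotient.nontrivial_iff.mpr hP
  haveI : Nontrivial (R ⧸ P.map (algebraMap O R)) := Ideal.Quotient.nontrivial_iff.mpr (fun h => by
    rw [h] at hPR
    exact (IsLocalRing.maximalIdeal.isMaximal R).ne_top (top_le_iff.mp hPR))
  haveI : IsLocalRing (O ⧸ P) := IsLocalRing.of_surjective' (Ideal.Quotient.mk P)
    Ideal.Quotient.mk_surjective
  haveI : IsLocalRing (R ⧸ P.map (algebraMap O R)) :=
    IsLocalRing.of_surjective' (Ideal.Quotient.mk _) Ideal.Quotient.mk_surjective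
  haveI : Module.Flat (O ⧸ P) (R ⧸ P.map (algebraMap O R)) :=
    Module.Flat.of_linearEquiv
      (Algebra.TensorProduct.quotIdealMapEquivQuotTensor R P).toLinearEquiv
  haveI : IsLocalHom (algebraMap (O ⧸ P) (R ⧸ P.map (algebraMap O R))) := by
    constructor
    intro x hx
    obtain ⟨a, rfl⟩ := Ideal.Quotient.mk_surjective x
    have hx' : IsUnit (Ideal.Quotient.mk (P.map (algebraMap O R)) (algebraMap O R a)) := hx
    haveI : IsLocalHom (Ideal.Quotient.mk (P.map (algebraMap O R))) :=
      IsLocalHom.of_surjective _ Ideal.Quotient.mk_surjective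
    have h1 : IsUnit (algebraMap O R a) := isUnit_of_map_unit _ _ hx'
    have h2 : IsUnit a := isUnit_of_map_unit (algebraMap O R) _ h1
    exact h2.map _
  have h := dim_flat_local (O ⧸ P) (R ⧸ P.map (algebraMap O R))
  have hm : (maximalIdeal (O ⧸ P)).map (algebraMap (O ⧸ P) (R ⧸ P.map (algebraMap O R))) =
      ((maximalIdeal O).map (algebraMap O R)).map (Ideal.Quotient.mk (P.map (algebraMap O R))) := by
    rw [← IsLocalRing.map_maximalIdeal_of_surjective (Ideal.Quotient.mk P)
      Ideal.Quotient.mk_surjective, Ideal.map_map, Ideal.map_map]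
    rfl
  let e : ((R ⧸ P.map (algebraMap O R)) ⧸ ((maximalIdeal O).map (algebraMap O R)).map
      (Ideal.Quotient.mk (P.map (algebraMap O R)))) ≃+* R ⧸ (maximalIdeal O).map (algebraMap O R) :=
    DoubleQuot.quotQuotEquivQuotOfLE (Ideal.map_mono hPm)
  rw [h, ringKrullDim_eq_of_ringEquiv (Ideal.quotEquivOfEq hm), ringKrullDim_eq_of_ringEquiv e]

end D2

section Pos
variable {O R : Type u} [CommRing O] [CommRing R] [Algebra O R] [IsLocalRing O] [IsLocalRing R]
  [IsNoetherianRing O] [IsNoetherianRing R] [IsLocalHom (algebraMap O R)] [Module.Flat O R]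

theorem FL_quot (P Q : Ideal O) (l : List R)
    (hmem : ∀ a ∈ l, a ∈ maximalIdeal R)
    (hQ : (Ideal.ofList l).comap (algebraMap O R) = Q)
    (hsurj : ∀ r : R, ∃ a : O, r - algebraMap O R a ∈ Ideal.ofList l)
    (hmax : ∀ 𝔭 : Ideal O, 𝔭.IsPrime → P ≤ 𝔭 → Q ≤ 𝔭 → 𝔭 = maximalIdeal O) :
    FL (Ideal.span {a | a ∈ l}) (R ⧸ P.map (algebraMap O R)) := by
  intro 𝔯 h𝔯 hle
  have hlm : Ideal.ofList l ≤ maximalIdeal R := by
    rw [Ideal.ofList, Ideal.span_le]
    exact hmem
  have hle' : Ideal.ofList l ≤ 𝔯.asIdeal := hle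
  have hPR : P.map (algebraMap O R) ≤ 𝔯.asIdeal := by
    have := Module.annihilator_le_of_mem_support h𝔯
    rwa [Ideal.annihilator_quotient] at this
  have hcomap : 𝔯.asIdeal.comap (algebraMap O R) = maximalIdeal O := by
    apply hmax _ (Ideal.IsPrime.comap _)
    · exact Ideal.map_le_iff_le_comap.mp hPR
    · rw [← hQ]
      exact Ideal.comap_mono hle'
  have hge : maximalIdeal R ≤ 𝔯.asIdeal := by
    intro x hx
    obtain ⟨a, ha⟩ := hsurj x
    have h1 : algebraMap O R a ∈ maximalIdeal R := by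
      have : algebraMap O R a = x - (x - algebraMap O R a) := by ring
      rw [this]
      exact Ideal.sub_mem _ hx (hlm ha)
    have h2 : a ∈ maximalIdeal O := by
      rw [IsLocalRing.mem_maximalIdeal, mem_nonunits_iff]
      intro hu
      exact (IsLocalRing.mem_maximalIdeal _).mp h1 (hu.map _)
    have h3 : algebraMap O R a ∈ 𝔯.asIdeal := by
      rw [← hcomap] at h2
      exact h2
    have : x = (x - algebraMap O R a) + algebraMap O R a := by ring
    rw [this]
    exact Ideal.add_mem _ (hle' ha) h3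
  have : 𝔯.asIdeal = maximalIdeal R :=
    le_antisymm (IsLocalRing.le_maximalIdeal 𝔯.isPrime.ne_top) hge
  rw [this]
  exact IsLocalRing.maximalIdeal.isMaximal R

theorem supportDim_quot (P Q : Ideal O) (hP : P ≠ ⊤) (l : List R) (hl : IsWeaklyRegular R l)
    (hmem : ∀ a ∈ l, a ∈ maximalIdeal R)
    (hQ : (Ideal.ofList l).comap (algebraMap O R) = Q)
    (hsurj : ∀ r : R, ∃ a : O, r - algebraMap O R a ∈ Ideal.ofList l)
    (a b d : ℕ) (hd : ringKrullDim O = d) (ha : ringKrullDim (O ⧸ P) = a)
    (hb : ringKrullDim (O ⧸ Q) = b) (hab : a + b = d) :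
    Module.supportDim R (R ⧸ P.map (algebraMap O R)) = (l.length : ℕ) := by
  have hlm : Ideal.ofList l ≤ maximalIdeal R := by
    rw [Ideal.ofList, Ideal.span_le]
    exact hmem
  have hreg : IsRegular R l := by
    refine ⟨hl, ?_⟩
    intro h
    have h3 : Ideal.ofList l = ⊤ := by
      have : Ideal.ofList l • (⊤ : Ideal R) = ⊤ := h.symm
      simpa using this
    rw [h3] at hlm
    exact (IsLocalRing.maximalIdeal.isMaximal _).ne_top (top_le_iff.mp hlm)
  have f0 := ringKrullDim_add_length_eq_ringKrullDim_of_isRegular l hreg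
  have f1 : ringKrullDim (R ⧸ Ideal.ofList l) = b := by
    rw [← hb]
    exact (ringKrullDim_eq_of_ringEquiv (quotEquiv Q (Ideal.ofList l) hQ hsurj).toRingEquiv).symm
  have f2 := dim_flat_local O R
  have f3 := dim_quot_flat (R := R) P hP
  rw [Module.supportDim_quotient_eq_ringKrullDim, f3, ha]
  rw [f1, f2, hd] at f0
  set F := ringKrullDim (R ⧸ (maximalIdeal O).map (algebraMap O R)) with hF
  have hmR : (maximalIdeal O).map (algebraMap O R) ≤ maximalIdeal R :=
    IsLocalRing.map_maximalIdeal_le (algebraMap O R)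
  haveI : Nontrivial (R ⧸ (maximalIdeal O).map (algebraMap O R)) :=
    Ideal.Quotient.nontrivial_iff.mpr (fun h => by
      rw [h] at hmR
      exact (IsLocalRing.maximalIdeal.isMaximal R).ne_top (top_le_iff.mp hmR))
  have hFbot : F ≠ ⊥ := ringKrullDim_ne_bot
  have hFle : F ≤ ((b + l.length : ℕ) : WithBot ℕ∞) := by
    have h1 : F ≤ ringKrullDim R := ringKrullDim_quotient_le _
    rw [f2, hd] at h1
    rw [← f0] at h1
    push_cast
    exact h1
  obtain ⟨f, hf⟩ := exists_nat_of_le hFle hFbot
  rw [hf] at f0 ⊢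
  have h5 : b + l.length = d + f := by exact_mod_cast f0
  have h6 : a + f = l.length := by omega
  exact_mod_cast h6

theorem chiK_pos (P Q : Ideal O) (hP : P ≠ ⊤) (l : List R) (hl : IsWeaklyRegular R l)
    (hmem : ∀ a ∈ l, a ∈ maximalIdeal R)
    (hQ : (Ideal.ofList l).comap (algebraMap O R) = Q)
    (hsurj : ∀ r : R, ∃ a : O, r - algebraMap O R a ∈ Ideal.ofList l)
    (hmax : ∀ 𝔭 : Ideal O, 𝔭.IsPrime → P ≤ 𝔭 → Q ≤ 𝔭 → 𝔭 = maximalIdeal O)
    (a b d : ℕ) (hd : ringKrullDim O = d) (ha : ringKrullDim (O ⧸ P) = a)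
    (hb : ringKrullDim (O ⧸ Q) = b) (hab : a + b = d) :
    0 < IntMult.chi O (O ⧸ Q) (O ⧸ P) := by
  have hlm : Ideal.ofList l ≤ maximalIdeal R := by
    rw [Ideal.ofList, Ideal.span_le]
    exact hmem
  rw [chi_eq_chiK P Q l hl hlm hQ hsurj]
  have hFL := FL_quot P Q l hmem hQ hsurj hmax
  have hdim := supportDim_quot P Q hP l hl hmem hQ hsurj a b d hd ha hb hab
  exact (chiK_dim l hmem (R ⧸ P.map (algebraMap O R)) hFL l.length hdim).2 rfl

end Pos

end Groth.Agent.Helper3.PosC
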