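import Mathlib
import Groth.Prelude
import Groth.Agent.Lead.SubStalk
import Groth.Agent.Helper3.DiagB
import Groth.Agent.Helper3.PosC

set_option autoImplicit false
set_option linter.style.haveILetI false
set_option linter.unusedSectionVars false
set_option linter.unusedVariables false
set_option linter.deprecated false
set_option linter.style.haveILetI false
set_option linter.unusedSectionVars false
set_option linter.unusedVariables false

open CategoryTheory Limits AlgebraicGeometry TopologicalSpace Opposite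
universe u

namespace Groth.Agent.Helper3.PosD
open IsLocalRing RingTheory.Sequence Groth.Agent.Helper3.IntMultA Groth.Agent.Helper3.DiagB
open Groth.Agent.Helper3.PosC

theorem ker_transport {X V : Scheme.{u}} (f g : X ⟶ V) (e : f = g) (I : V.IdealSheafData)
    (H : ∀ (x : X), RingHom.ker (f.stalkMap x).hom = IntMult.stalkIdeal I (f x)) :
    ∀ (x : X), RingHom.ker (g.stalkMap x).hom = IntMult.stalkIdeal I (g x) := by
  subst e
  exact H

/-- the kernel of the stalk map of a closed immersion is the stalk of its ideal sheaf -/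
theorem ker_stalkMap {Z P : Scheme.{u}} [IsLocallyNoetherian P] (j : Z ⟶ P) [IsClosedImmersion j] (z : Z) :
    RingHom.ker (j.stalkMap z).hom = IntMult.stalkIdeal j.ker (j z) := by
  refine ker_transport (j.toImage ≫ j.imageι) j j.toImage_imageι j.ker ?_ z
  intro x
  obtain ⟨_, ⟨U, hU, rfl⟩, hxU, -⟩ :=
    (P.isBasis_affineOpens).exists_subset_of_mem_open
      (show (j.toImage ≫ j.imageι) x ∈ (⊤ : P.Opens) from trivial) (⊤ : P.Opens).2
  rw [stalkIdeal_eq j.ker ⟨U, hU⟩ _ hxU]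
  have hinj : Function.Injective (j.toImage.stalkMap x).hom :=
    (ConcreteCategory.bijective_of_isIso (j.toImage.stalkMap x)).1
  have h1 := Groth.Agent.Lead.SubStalk.ker_stalkMap_subschemeι j.ker (j.toImage x) ⟨U, hU⟩ hxU
  ext y
  have hy : ((j.toImage ≫ j.imageι).stalkMap x).hom y =
      (j.toImage.stalkMap x).hom ((j.imageι.stalkMap (j.toImage x)).hom y) := by
    rw [Scheme.Hom.stalkMap_comp]
    rfl
  rw [RingHom.mem_ker, hy]
  exact Iff.trans (map_eq_zero_iff _ hinj)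
    (Iff.trans RingHom.mem_ker.symm (Ideal.ext_iff.mp h1 y))

theorem core {X Y W : Scheme.{u}} [IsLocallyNoetherian X] [IsLocallyNoetherian Y] (p : Y ⟶ X)
    [Flat p] (Γ : W ⟶ Y) [IsClosedImmersion Γ] (hΓ : RegImm.IsRegularImmersion .koszul Γ)
    (i : W ⟶ X) [IsClosedImmersion i] (hi : Γ ≫ p = i) (w : W) (IV : X.IdealSheafData)
    (hP : IntMult.stalkIdeal IV (i w) ≠ ⊤)
    (hmax : ∀ 𝔭 : Ideal (X.presheaf.stalk (i w)), 𝔭.IsPrime → IntMult.stalkIdeal IV (i w) ≤ 𝔭 →
      IntMult.stalkIdeal i.ker (i w) ≤ 𝔭 → 𝔭 = maximalIdeal (X.presheaf.stalk (i w)))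
    (a b d : ℕ) (hd : ringKrullDim (X.presheaf.stalk (i w)) = d)
    (ha : ringKrullDim (X.presheaf.stalk (i w) ⧸ IntMult.stalkIdeal IV (i w)) = a)
    (hb : ringKrullDim (X.presheaf.stalk (i w) ⧸ IntMult.stalkIdeal i.ker (i w)) = b)
    (hab : a + b = d) :
    0 < IntMult.chi (X.presheaf.stalk (i w))
      (X.presheaf.stalk (i w) ⧸ IntMult.stalkIdeal i.ker (i w))
      (X.presheaf.stalk (i w) ⧸ IntMult.stalkIdeal IV (i w)) := by
  subst hi
  obtain ⟨l, hl, hmem, hJ⟩ := stalk_regular Γ hΓ w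
  letI : Algebra (X.presheaf.stalk (p (Γ w))) (Y.presheaf.stalk (Γ w)) :=
    (p.stalkMap (Γ w)).hom.toAlgebra
  haveI : Module.Flat (X.presheaf.stalk (p (Γ w))) (Y.presheaf.stalk (Γ w)) :=
    Flat.stalkMap p (Γ w)
  haveI : IsLocalHom (algebraMap (X.presheaf.stalk (p (Γ w))) (Y.presheaf.stalk (Γ w))) :=
    inferInstanceAs (IsLocalHom (p.stalkMap (Γ w)).hom)
  have hcomp : ((Γ ≫ p).stalkMap w).hom =
      (Γ.stalkMap w).hom.comp (p.stalkMap (Γ w)).hom := by
    rw [Scheme.Hom.stalkMap_comp]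
    rfl
  have hkΓ := ker_stalkMap Γ w
  have hkc := ker_stalkMap (Γ ≫ p) w
  have hQ : (Ideal.ofList l).comap (algebraMap (X.presheaf.stalk (p (Γ w))) (Y.presheaf.stalk (Γ w)))
      = IntMult.stalkIdeal (Γ ≫ p).ker ((Γ ≫ p) w) := by
    rw [hJ, ← hkΓ, ← hkc, hcomp, RingHom.comap_ker]
    rfl
  have hsurj : ∀ r : Y.presheaf.stalk (Γ w), ∃ a : X.presheaf.stalk (p (Γ w)),
      r - algebraMap (X.presheaf.stalk (p (Γ w))) (Y.presheaf.stalk (Γ w)) a ∈ Ideal.ofList l := by
    intro r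
    obtain ⟨a, ha⟩ := (Γ ≫ p).stalkMap_surjective w ((Γ.stalkMap w).hom r)
    refine ⟨a, ?_⟩
    rw [hJ, ← hkΓ, RingHom.mem_ker, map_sub, sub_eq_zero]
    have : ((Γ ≫ p).stalkMap w).hom a = (Γ.stalkMap w).hom ((p.stalkMap (Γ w)).hom a) := by
      rw [hcomp]; rfl
    exact ha.symm.trans this
  exact chiK_pos (O := X.presheaf.stalk (p (Γ w))) (R := Y.presheaf.stalk (Γ w))
    (IntMult.stalkIdeal IV (p (Γ w))) (IntMult.stalkIdeal (Γ ≫ p).ker (p (Γ w))) hP
    l hl hmem hQ hsurj hmax a b d hd ha hb hab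

end Groth.Agent.Helper3.PosD
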