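import Mathlib
import Groth.Prelude
import Groth.Agent.Helper3.IntMultC
import Groth.Agent.Helper3.PosD
import Groth.Agent.Helper3.RedA

set_option autoImplicit false
set_option linter.style.haveILetI false
set_option linter.unusedSectionVars false
set_option linter.unusedVariables false
set_option linter.deprecated false
set_option linter.style.haveILetI false
set_option linter.unusedSectionVars false
set_option linter.unusedVariables false

open CategoryTheory Limits AlgebraicGeometry TopologicalSpace Opposite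
universe u

namespace Groth.Agent.Helper3.TransA
open Groth.Agent.Helper3.IntMultA Groth.Agent.Helper3.CartDict Groth.Agent.Helper5.StalkDict
open IsLocalRing

section Dict

variable {X : Scheme.{u}}

/-- the prime of `Γ(X, U)` of the generisation given by a prime of the local ring -/
theorem comap_germ (U : X.Opens) (hU : IsAffineOpen U) (x : X) (hxU : x ∈ U)
    (p : ↥(Spec (X.presheaf.stalk x))) :
    ∃ htU : X.fromSpecStalk x p ∈ U,
      (hU.primeIdealOf ⟨X.fromSpecStalk x p, htU⟩).asIdeal =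
        p.asIdeal.comap (X.presheaf.germ U x hxU).hom := by
  have htU : X.fromSpecStalk x p ∈ U :=
    (fromSpecStalk_specializes x p).mem_open U.2 hxU
  refine ⟨htU, ?_⟩
  have h1 : X.fromSpecStalk x p = hU.fromSpec (Spec.map (X.presheaf.germ U x hxU) p) := by
    rw [← hU.fromSpecStalk_eq_fromSpecStalk hxU, IsAffineOpen.fromSpecStalk, Scheme.Hom.comp_apply]
  have h2 : hU.fromSpec (hU.primeIdealOf ⟨X.fromSpecStalk x p, htU⟩) =
      hU.fromSpec (Spec.map (X.presheaf.germ U x hxU) p) := by
    rw [hU.fromSpec_primeIdealOf]; exact h1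
  have h3 := hU.fromSpec.isOpenEmbedding.injective h2
  rw [h3]
  rfl

variable [IsLocallyNoetherian X]

/-- a prime of the local ring whose generisation lies on `V(I)` contains the stalk of `I` -/
theorem stalkIdeal_le_of_mem_support (I : X.IdealSheafData) (x : X)
    (p : ↥(Spec (X.presheaf.stalk x))) (h : X.fromSpecStalk x p ∈ I.support) :
    IntMult.stalkIdeal I x ≤ p.asIdeal := by
  obtain ⟨_, ⟨U, hU, rfl⟩, hxU, -⟩ :=
    (X.isBasis_affineOpens).exists_subset_of_mem_open (show x ∈ (⊤ : X.Opens) from trivial)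
      (⊤ : X.Opens).2
  obtain ⟨htU, hcomap⟩ := comap_germ U hU x hxU p
  rw [stalkIdeal_eq I ⟨U, hU⟩ x hxU, Ideal.map_le_iff_le_comap, ← hcomap]
  intro f hf
  refine (mem_prime_iff ⟨U, hU⟩ _ htU f).mpr ?_
  have h1 := (Scheme.IdealSheafData.mem_support_iff_of_mem (I := I) (U := ⟨U, hU⟩) htU).mp h
  rw [Scheme.mem_zeroLocus_iff] at h1
  exact h1 f hf

/-- the stalk at a specialisation of the ideal of the reduced closure of a point -/
theorem stalkIdeal_ptIdeal (x : X) (p : ↥(Spec (X.presheaf.stalk x))) :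
    IntMult.stalkIdeal (IntMult.ptIdeal (X.fromSpecStalk x p)) x = p.asIdeal := by
  obtain ⟨_, ⟨U, hU, rfl⟩, hxU, -⟩ :=
    (X.isBasis_affineOpens).exists_subset_of_mem_open (show x ∈ (⊤ : X.Opens) from trivial)
      (⊤ : X.Opens).2
  obtain ⟨htU, hcomap⟩ := comap_germ U hU x hxU p
  set t := X.fromSpecStalk x p with ht
  rw [stalkIdeal_eq _ ⟨U, hU⟩ x hxU]
  have hideal : (IntMult.ptIdeal t).ideal ⟨U, hU⟩ = (hU.primeIdealOf ⟨t, htU⟩).asIdeal := by
    unfold IntMult.ptIdeal
    rw [Scheme.IdealSheafData.vanishingIdeal_ideal]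
    have hpre : hU.fromSpec ⁻¹' ((⟨closure {t}, isClosed_closure⟩ : Closeds X) : Set X) =
        closure {hU.primeIdealOf ⟨t, htU⟩} := by
      show hU.fromSpec ⁻¹' closure {t} = _
      rw [hU.fromSpec.isOpenEmbedding.isOpenMap.preimage_closure_eq_closure_preimage
        hU.fromSpec.continuous]
      congr 1
      ext q
      simp only [Set.mem_preimage, Set.mem_singleton_iff]
      constructor
      · intro hq
        apply hU.fromSpec.isOpenEmbedding.injective
        rw [hq, hU.fromSpec_primeIdealOf]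
      · intro hq
        rw [hq, hU.fromSpec_primeIdealOf]
    refine (congrArg PrimeSpectrum.vanishingIdeal hpre).trans ?_
    rw [PrimeSpectrum.vanishingIdeal_closure, PrimeSpectrum.vanishingIdeal_singleton]
  rw [hideal, hcomap]
  letI := X.presheaf.algebra_section_stalk ⟨x, hxU⟩
  haveI := hU.isLocalization_stalk ⟨x, hxU⟩
  exact IsLocalization.map_comap (hU.primeIdealOf ⟨x, hxU⟩).asIdeal.primeCompl
    (X.presheaf.stalk x) p.asIdeal

/-- the local ring of a closed subscheme is the quotient by the stalk of its ideal -/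
noncomputable def stalkQuotEquiv {Z : Scheme.{u}} (j : Z ⟶ X) [IsClosedImmersion j] (z : Z) :
    (X.presheaf.stalk (j z) ⧸ IntMult.stalkIdeal j.ker (j z)) ≃+* Z.presheaf.stalk z :=
  (Ideal.quotEquivOfEq (Groth.Agent.Helper3.PosD.ker_stalkMap j z).symm).trans
    (RingHom.quotientKerEquivOfSurjective (j.stalkMap_surjective z))

end Dict

section Gen

variable {Y : Scheme.{u}}

/-- the local ring at a generisation of a point with integral local ring is a domain -/
theorem isDomain_stalk_of_specializes (y₀ y : Y) (h : y₀ ⤳ y) [IsDomain (Y.presheaf.stalk y)] :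
    IsDomain (Y.presheaf.stalk y₀) := by
  obtain ⟨_, ⟨U, hU, rfl⟩, hyU, -⟩ :=
    (Y.isBasis_affineOpens).exists_subset_of_mem_open (show y ∈ (⊤ : Y.Opens) from trivial)
      (⊤ : Y.Opens).2
  have hy₀U : y₀ ∈ U := h.mem_open U.2 hyU
  letI a1 := Y.presheaf.algebra_section_stalk ⟨y, hyU⟩
  haveI l1 := hU.isLocalization_stalk ⟨y, hyU⟩
  letI a2 := Y.presheaf.algebra_section_stalk ⟨y₀, hy₀U⟩
  haveI l2 := hU.isLocalization_stalk ⟨y₀, hy₀U⟩
  letI a3 : Algebra (Y.presheaf.stalk y) (Y.presheaf.stalk y₀) :=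
    (Y.presheaf.stalkSpecializes h).hom.toAlgebra
  haveI : IsScalarTower Γ(Y, U) (Y.presheaf.stalk y) (Y.presheaf.stalk y₀) := by
    apply IsScalarTower.of_algebraMap_eq
    intro r
    have := Y.presheaf.germ_stalkSpecializes (U := U) hyU h
    exact (congrArg (fun φ => φ.hom r) this).symm
  have hle : (hU.primeIdealOf ⟨y, hyU⟩).asIdeal.primeCompl ≤
      (hU.primeIdealOf ⟨y₀, hy₀U⟩).asIdeal.primeCompl := by
    intro r hr hr'
    exact hr ((specializes_iff ⟨U, hU⟩ y₀ y hy₀U hyU).mp h hr')
  haveI := IsLocalization.isLocalization_of_submonoid_le (Y.presheaf.stalk y)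
    (Y.presheaf.stalk y₀) _ _ hle
  refine IsLocalization.isDomain_of_le_nonZeroDivisors (Y.presheaf.stalk y₀)
    (M := ((hU.primeIdealOf ⟨y₀, hy₀U⟩).asIdeal.primeCompl).map
      (algebraMap Γ(Y, U) (Y.presheaf.stalk y))) ?_
  rintro _ ⟨r, hr, rfl⟩
  apply mem_nonZeroDivisors_of_ne_zero
  intro h0
  have h1 : algebraMap Γ(Y, U) (Y.presheaf.stalk y₀) r = 0 := by
    rw [IsScalarTower.algebraMap_apply Γ(Y, U) (Y.presheaf.stalk y) (Y.presheaf.stalk y₀), h0,
      map_zero]
  have h2 := IsLocalization.map_units (Y.presheaf.stalk y₀)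
    (⟨r, hr⟩ : (hU.primeIdealOf ⟨y₀, hy₀U⟩).asIdeal.primeCompl)
  rw [h1] at h2
  exact not_isUnit_zero h2

/-- the local ring at a maximal point is a field as soon as it is a domain -/
theorem length_stalk_eq_one (y₀ : Y) [IsDomain (Y.presheaf.stalk y₀)]
    (hmax : ∀ t : Y, t ⤳ y₀ → t = y₀) :
    Module.length (Y.presheaf.stalk y₀) (Y.presheaf.stalk y₀) = 1 := by
  have hbot : (⊥ : Ideal (Y.presheaf.stalk y₀)) = maximalIdeal (Y.presheaf.stalk y₀) := by
    let q : ↥(Spec (Y.presheaf.stalk y₀)) := ⟨⊥, Ideal.isPrime_bot⟩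
    have h1 := hmax _ (fromSpecStalk_specializes y₀ q)
    have h2 : Y.fromSpecStalk y₀ (IsLocalRing.closedPoint (Y.presheaf.stalk y₀)) = y₀ :=
      Scheme.fromSpecStalk_closedPoint
    have h3 : q = IsLocalRing.closedPoint (Y.presheaf.stalk y₀) :=
      (Y.fromSpecStalk y₀).isEmbedding.injective (h1.trans h2.symm)
    exact congrArg PrimeSpectrum.asIdeal h3
  have h4 : Module.length (Y.presheaf.stalk y₀)
      (Y.presheaf.stalk y₀ ⧸ maximalIdeal (Y.presheaf.stalk y₀)) = 1 := by
    rw [Module.length_eq_one_iff, isSimpleModule_iff_isCoatom]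
    exact (Ideal.isMaximal_def.mp (IsLocalRing.maximalIdeal.isMaximal _))
  rw [← h4, ← hbot]
  exact (LinearEquiv.length_eq
    (Submodule.quotEquivOfEqBot (⊥ : Ideal (Y.presheaf.stalk y₀)) rfl)).symm

end Gen

section SubFun

variable {X Z : Scheme.{u}} (δ : X → ℤ) (k : ℤ) (i : Z ⟶ X)

theorem subschemeFun_ne_zero (x : X) (h : Cyc.subschemeFun δ k i x ≠ 0) :
    δ x = k ∧ ∃ z : Z, i z = x := by
  unfold Cyc.subschemeFun at h
  by_cases hk : δ x = k
  · refine ⟨hk, ?_⟩
    rw [if_pos hk] at h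
    by_contra hne
    push Not at hne
    apply h
    have : {z : Z | i z = x} = ∅ := by
      ext z; simp [hne z]
    rw [this, finsum_mem_empty]
  · rw [if_neg hk] at h
    exact absurd rfl h

theorem subschemeFun_eq_length (hi : Function.Injective i) (z : Z) (hk : δ (i z) = k) :
    Cyc.subschemeFun δ k i (i z) =
      ((Module.length (Z.presheaf.stalk z) (Z.presheaf.stalk z)).toNat : ℤ) := by
  unfold Cyc.subschemeFun
  rw [if_pos hk]
  have : {z' : Z | i z' = i z} = {z} := by
    ext z'
    simp only [Set.mem_setOf_eq, Set.mem_singleton_iff]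
    exact ⟨fun h => hi h, fun h => by rw [h]⟩
  rw [this, finsum_mem_singleton]

end SubFun

end Groth.Agent.Helper3.TransA
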