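import Mathlib
import Groth.Prelude
import Groth.Agent.Helper3.TransA
import Groth.Agent.Helper3.IntMultH
import Groth.Agent.Helper5.CycDim3
import Groth.Agent.Helper2.SmoothRegSch

set_option autoImplicit false
set_option linter.style.haveILetI false
set_option linter.unusedSectionVars false
set_option linter.unusedVariables false
set_option linter.deprecated false
set_option linter.style.haveILetI false
set_option linter.unusedSectionVars false
set_option linter.unusedVariables false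

open CategoryTheory Limits AlgebraicGeometry TopologicalSpace Opposite
universe u

namespace Groth.Agent.Helper3.TransB
open Groth.Agent.Helper3.IntMultA Groth.Agent.Helper3.IntMultB Groth.Agent.Helper3.TransA
open Groth.Agent.Helper5.StalkDict Groth.Agent.Helper5.CycDim
open IsLocalRing

section Alg

/-- the kernel of a surjection from a local ring onto a ring of length one is the maximal ideal -/
theorem ker_eq_maximalIdeal {O T : Type u} [CommRing O] [IsLocalRing O] [CommRing T]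
    (φ : O →+* T) (hφ : Function.Surjective φ) (hT : Module.length T T = 1) :
    RingHom.ker φ = maximalIdeal O := by
  rw [Module.length_eq_one_iff, isSimpleModule_self_iff_isUnit] at hT
  obtain ⟨hnt, hunit⟩ := hT
  apply le_antisymm
  · apply IsLocalRing.le_maximalIdeal
    exact RingHom.ker_ne_top φ
  · intro x hx
    rw [RingHom.mem_ker]
    by_contra hne
    obtain ⟨u, hu⟩ := hunit _ hne
    obtain ⟨y, hy⟩ := hφ (↑u⁻¹ : T)
    have h1 : φ (x * y - 1) = 0 := by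
      rw [map_sub, map_mul, hy, ← hu, map_one, Units.mul_inv, sub_self]
    have h2 : x * y - 1 ∈ maximalIdeal O := by
      apply IsLocalRing.le_maximalIdeal (RingHom.ker_ne_top φ)
      exact h1
    have h3 : x * y ∈ maximalIdeal O := Ideal.mul_mem_right _ _ hx
    have h4 : (1 : O) ∈ maximalIdeal O := by
      have := Ideal.sub_mem _ h3 h2
      simpa using this
    exact (IsLocalRing.maximalIdeal.isMaximal O).ne_top ((Ideal.eq_top_iff_one _).mpr h4)

/-- a prime containing an ideal with integral quotient of the same finite dimension equals it -/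
theorem eq_of_le_of_dim_le {A : Type u} [CommRing A] (J P : Ideal A) [IsDomain (A ⧸ J)]
    (hJP : J ≤ P) (D : ℕ) (hD : ringKrullDim (A ⧸ J) = D)
    (hP : (D : WithBot ℕ∞) ≤ ringKrullDim (A ⧸ P)) : J = P := by
  by_contra hne
  have hlt : J < P := lt_of_le_of_ne hJP hne
  obtain ⟨r, hrP, hrJ⟩ := Set.exists_of_ssubset hlt
  have hr0 : Ideal.Quotient.mk J r ≠ 0 := by
    rw [Ne, Ideal.Quotient.eq_zero_iff_mem]; exact hrJ
  have hnzd : Ideal.Quotient.mk J r ∈ nonZeroDivisors (A ⧸ J) := mem_nonZeroDivisors_of_ne_zero hr0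
  have h3 := ringKrullDim_quotient_succ_le_of_nonZeroDivisor hnzd
  have hkill : Ideal.span {Ideal.Quotient.mk J r} ≤ RingHom.ker (Ideal.Quotient.factor hJP) := by
    rw [Ideal.span_le]
    rintro _ rfl
    rw [SetLike.mem_coe, RingHom.mem_ker, Ideal.Quotient.factor_mk, Ideal.Quotient.eq_zero_iff_mem]
    exact hrP
  have h4 := ringKrullDim_le_of_surjective
    (Ideal.Quotient.lift (Ideal.span {Ideal.Quotient.mk J r}) (Ideal.Quotient.factor hJP)
      (fun a ha => RingHom.mem_ker.mp (hkill ha)))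
    (by
      intro b
      obtain ⟨a, rfl⟩ := Ideal.Quotient.mk_surjective b
      refine ⟨Ideal.Quotient.mk _ (Ideal.Quotient.mk J a), ?_⟩
      rw [Ideal.Quotient.lift_mk, Ideal.Quotient.factor_mk])
  have h4' := hP.trans h4
  rw [hD] at h3
  have h5 : ((D : ℕ) : WithBot ℕ∞) + 1 ≤ ((D : ℕ) : WithBot ℕ∞) :=
    (add_le_add_left h4' 1).trans h3
  have h6 : D + 1 ≤ D := by exact_mod_cast h5
  omega

end Alg

section Geo

variable {X : Scheme.{u}} [IsLocallyNoetherian X]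

/-- dimension of the quotient of the local ring by the prime of a generisation -/
theorem dim_quot_prime (δ : X → ℤ) (hδ : Cyc.IsDimFun X δ) (τ : X)
    (p : ↥(Spec (X.presheaf.stalk τ))) :
    ringKrullDim (X.presheaf.stalk τ ⧸ p.asIdeal) =
      (((δ (X.fromSpecStalk τ p) - δ τ).toNat : ℕ) : WithBot ℕ∞) := by
  rw [ringKrullDim_stalk_quotient τ p, krullDim_Icc δ hδ _ τ (fromSpecStalk_specializes τ p)]

/-- the dimension of the local ring of an integral scheme -/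
theorem dim_stalk [IsIntegral X] (δ : X → ℤ) (hδ : Cyc.IsDimFun X δ) (τ : X) :
    ringKrullDim (X.presheaf.stalk τ) =
      (((δ (genericPoint X) - δ τ).toNat : ℕ) : WithBot ℕ∞) := by
  let p₀ : ↥(Spec (X.presheaf.stalk τ)) := ⟨⊥, Ideal.isPrime_bot⟩
  have hmin : p₀.asIdeal ∈ minimalPrimes (X.presheaf.stalk τ) := by
    rw [IsDomain.minimalPrimes_eq_singleton_bot]; rfl
  have h1 : genericPoint X = X.fromSpecStalk τ p₀ :=
    max_of_mem_minimalPrimes τ p₀ hmin _ ((genericPoint_spec X).specializes trivial)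
  rw [h1, ← dim_quot_prime δ hδ τ p₀]
  exact ringKrullDim_eq_of_ringEquiv (RingEquiv.quotientBot _).symm

section Side

variable {Y : Scheme.{u}} (ι : Y ⟶ X) [IsClosedImmersion ι] (δ : X → ℤ) (hδ : Cyc.IsDimFun X δ)
  (r : ℤ) (τ : X)

include hδ in
theorem dim_ge (ξ : X) (hα : Cyc.subschemeFun δ r ι ξ ≠ 0) (hξτ : ξ ⤳ τ) :
    (((r - δ τ).toNat : ℕ) : WithBot ℕ∞) ≤
      ringKrullDim (X.presheaf.stalk τ ⧸ IntMult.stalkIdeal ι.ker τ) := by
  obtain ⟨hr, y, rfl⟩ := subschemeFun_ne_zero δ r ι ξ hα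
  obtain ⟨p, hp⟩ := exists_prime_of_specializes τ _ hξτ
  have hle : IntMult.stalkIdeal ι.ker τ ≤ p.asIdeal := by
    apply stalkIdeal_le_of_mem_support
    rw [hp]
    exact ι.range_subset_ker_support ⟨y, rfl⟩
  have h1 := ringKrullDim_le_of_surjective (Ideal.Quotient.factor hle)
    (Ideal.Quotient.factor_surjective _)
  rw [dim_quot_prime δ hδ τ p, hp, hr] at h1
  exact h1

theorem regular_of_eq (hreg : IsRegularLocalRing (X.presheaf.stalk τ ⧸ IntMult.stalkIdeal ι.ker τ))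
    (y : Y) (hy : ι y = τ) : IsRegularLocalRing (Y.presheaf.stalk y) := by
  subst hy
  haveI := hreg
  exact IsRegularLocalRing.of_ringEquiv (stalkQuotEquiv ι y)

variable (hI : (IntMult.stalkIdeal ι.ker τ).IsPrime)
  (hdimI : ringKrullDim (X.presheaf.stalk τ ⧸ IntMult.stalkIdeal ι.ker τ) =
    (((r - δ τ).toNat : ℕ) : WithBot ℕ∞))

include hδ hI hdimI in
/-- a point of the cycle specialising to `τ` is the generic point of the branch through `τ` -/
theorem unique_pt (ξ' : X) (hα : Cyc.subschemeFun δ r ι ξ' ≠ 0) (hξτ : ξ' ⤳ τ) :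
    ξ' = X.fromSpecStalk τ ⟨IntMult.stalkIdeal ι.ker τ, hI⟩ := by
  obtain ⟨hr, y, rfl⟩ := subschemeFun_ne_zero δ r ι ξ' hα
  obtain ⟨p, hp⟩ := exists_prime_of_specializes τ _ hξτ
  have hle : IntMult.stalkIdeal ι.ker τ ≤ p.asIdeal := by
    apply stalkIdeal_le_of_mem_support
    rw [hp]
    exact ι.range_subset_ker_support ⟨y, rfl⟩
  haveI : IsDomain (X.presheaf.stalk τ ⧸ IntMult.stalkIdeal ι.ker τ) :=
    (Ideal.Quotient.isDomain_iff_prime _).mpr hI
  have heq := eq_of_le_of_dim_le (IntMult.stalkIdeal ι.ker τ) p.asIdeal hle _ hdimI (by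
    rw [dim_quot_prime δ hδ τ p, hp, hr])
  rw [← hp]
  congr 1
  exact PrimeSpectrum.ext heq.symm

include hδ hI hdimI in
/-- the coefficient of the branch through `τ` is one when the local ring of `Y` over `τ` is a
domain -/
theorem coeff_one (ξ : X) (hα : Cyc.subschemeFun δ r ι ξ ≠ 0) (hξτ : ξ ⤳ τ)
    (y : Y) (hy : ι y = τ) [IsDomain (Y.presheaf.stalk y)] :
    Cyc.subschemeFun δ r ι (X.fromSpecStalk τ ⟨IntMult.stalkIdeal ι.ker τ, hI⟩) = 1 ∧
      δ (X.fromSpecStalk τ ⟨IntMult.stalkIdeal ι.ker τ, hI⟩) = r := by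
  have hξ := unique_pt ι δ hδ r τ hI hdimI ξ hα hξτ
  rw [← hξ]
  obtain ⟨hr, y₀, rfl⟩ := subschemeFun_ne_zero δ r ι ξ hα
  refine ⟨?_, hr⟩
  have hinj : Function.Injective ι := ι.isEmbedding.injective
  rw [subschemeFun_eq_length δ r ι hinj y₀ hr]
  have hspec : y₀ ⤳ y := by
    apply ι.isEmbedding.toIsInducing.specializes_iff.mp
    rw [hy]
    exact hξτ
  haveI := isDomain_stalk_of_specializes y₀ y hspec
  have hmax : ∀ t : Y, t ⤳ y₀ → t = y₀ := by
    intro t ht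
    apply hinj
    have h1 : ι t ⤳ ι y₀ := ht.map ι.continuous
    obtain ⟨pt, hpt⟩ := exists_prime_of_specializes τ _ (h1.trans hξτ)
    have hle : IntMult.stalkIdeal ι.ker τ ≤ pt.asIdeal := by
      apply stalkIdeal_le_of_mem_support
      rw [hpt]
      exact ι.range_subset_ker_support ⟨t, rfl⟩
    have hge : pt.asIdeal ≤ IntMult.stalkIdeal ι.ker τ := by
      have h2 : X.fromSpecStalk τ pt ⤳ X.fromSpecStalk τ ⟨IntMult.stalkIdeal ι.ker τ, hI⟩ := by
        rw [hpt, ← hξ]; exact h1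
      exact (fromSpecStalk_specializes_iff τ pt ⟨_, hI⟩).mp h2
    have : pt = ⟨IntMult.stalkIdeal ι.ker τ, hI⟩ := PrimeSpectrum.ext (le_antisymm hge hle)
    rw [← hpt, this, ← hξ]
  rw [length_stalk_eq_one y₀ hmax]
  rfl

end Side

section Sup

variable {Y Z : Scheme.{u}} (ιY : Y ⟶ X) (ιZ : Z ⟶ X) [IsClosedImmersion ιY] [IsClosedImmersion ιZ]

theorem ker_inter : (pullback.fst ιY ιZ ≫ ιY).ker = ιY.ker ⊔ ιZ.ker := by
  rw [Scheme.Hom.ker_comp, Scheme.IdealSheafData.ker_fst_of_isClosedImmersion,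
    Groth.Agent.Helper3.RedA.map_comap_of_isClosedImmersion, sup_comm]

theorem sup_eq (δ : X → ℤ) (k : ℤ) (τ : X)
    (hmult : Cyc.subschemeFun δ k (pullback.fst ιY ιZ ≫ ιY) τ = 1) :
    IntMult.stalkIdeal ιY.ker τ ⊔ IntMult.stalkIdeal ιZ.ker τ =
        maximalIdeal (X.presheaf.stalk τ) ∧
      (∃ y : Y, ιY y = τ) ∧ ∃ z : Z, ιZ z = τ := by
  have hne : Cyc.subschemeFun δ k (pullback.fst ιY ιZ ≫ ιY) τ ≠ 0 := by
    rw [hmult]; exact one_ne_zero
  obtain ⟨hk, w, rfl⟩ := subschemeFun_ne_zero δ k _ τ hne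
  have hinj : Function.Injective (pullback.fst ιY ιZ ≫ ιY) :=
    (pullback.fst ιY ιZ ≫ ιY).isEmbedding.injective
  rw [subschemeFun_eq_length δ k _ hinj w hk] at hmult
  have hlen : Module.length ((pullback ιY ιZ).presheaf.stalk w)
      ((pullback ιY ιZ).presheaf.stalk w) = 1 := by
    have h1 : (Module.length ((pullback ιY ιZ).presheaf.stalk w)
      ((pullback ιY ιZ).presheaf.stalk w)).toNat = 1 := by exact_mod_cast hmult
    exact (ENat.toNat_eq_iff (by norm_num)).mp h1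
  have hker := ker_eq_maximalIdeal ((pullback.fst ιY ιZ ≫ ιY).stalkMap w).hom
    ((pullback.fst ιY ιZ ≫ ιY).stalkMap_surjective w) hlen
  rw [Groth.Agent.Helper3.PosD.ker_stalkMap, ker_inter,
    Groth.Agent.Helper3.RedA.stalkIdeal_sup] at hker
  refine ⟨hker, ⟨pullback.fst ιY ιZ w, rfl⟩, ⟨pullback.snd ιY ιZ w, ?_⟩⟩
  have := congrArg (fun ψ : pullback ιY ιZ ⟶ X => ψ w) (pullback.condition (f := ιY) (g := ιZ))
  exact this.symm

end Sup

end Geo

theorem main (K : Type u) [Field K] (X : Scheme.{u}) (f : X ⟶ Spec (CommRingCat.of K)) [Smooth f]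
    [IsIntegral X] (δ : X → ℤ) (hX : Cyc.IsSetup X δ) (n : ℤ) (hn : δ (genericPoint X) = n)
    (Y Z : Scheme.{u}) (ιY : Y ⟶ X) (ιZ : Z ⟶ X) [IsClosedImmersion ιY] [IsClosedImmersion ιZ]
    (r s : ℤ) (τ : X) (hτ : δ τ = r + s - n)
    (hξ : ∃ ξ η : X, Cyc.subschemeFun δ r ιY ξ ≠ 0 ∧ Cyc.subschemeFun δ s ιZ η ≠ 0 ∧
      ξ ⤳ τ ∧ η ⤳ τ)
    (hmult : Cyc.subschemeFun δ (r + s - n) (pullback.fst ιY ιZ ≫ ιY) τ = 1) :
    IntMult.interProd δ n (Cyc.subschemeFun δ r ιY) (Cyc.subschemeFun δ s ιZ) τ = 1 ∧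
      (∀ y : Y, ιY y = τ → IsRegularLocalRing (Y.presheaf.stalk y)) ∧
      (∀ z : Z, ιZ z = τ → IsRegularLocalRing (Z.presheaf.stalk z)) := by
  obtain ⟨hNoeth, -, hδ⟩ := hX
  haveI := hNoeth
  haveI : IsRegularLocalRing (X.presheaf.stalk τ) :=
    Groth.Agent.Helper2.SmoothRegSch.stalk_regular_of_smooth K X f τ
  obtain ⟨ξ, η, hαξ, hβη, hξτ, hητ⟩ := hξ
  obtain ⟨hsup, ⟨y, hy⟩, ⟨z, hz⟩⟩ := sup_eq ιY ιZ δ (r + s - n) τ hmult
  -- dimensions
  have hd := dim_stalk δ hδ τ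
  rw [hn] at hd
  have hrδ : δ ξ = r := (subschemeFun_ne_zero δ r ιY ξ hαξ).1
  have hsδ : δ η = s := (subschemeFun_ne_zero δ s ιZ η hβη).1
  have h1 := Groth.Agent.Helper5.CycDim.delta_mono δ hδ ξ τ hξτ
  have h2 := Groth.Agent.Helper5.CycDim.delta_mono δ hδ η τ hητ
  have hV := dim_ge ιY δ hδ r τ ξ hαξ hξτ
  have hW := dim_ge ιZ δ hδ s τ η hβη hητ
  obtain ⟨hchi, hregV, hregW, hdV, hdW⟩ :=
    Groth.Agent.Helper3.IntMultH.chi_transversal (IntMult.stalkIdeal ιY.ker τ)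
      (IntMult.stalkIdeal ιZ.ker τ) hsup (n - δ τ).toNat (r - δ τ).toNat (s - δ τ).toNat hd hV hW
      (by omega)
  refine ⟨?_, regular_of_eq ιY τ hregV, regular_of_eq ιZ τ hregW⟩
  -- primes
  haveI : IsDomain (X.presheaf.stalk τ ⧸ IntMult.stalkIdeal ιY.ker τ) :=
    Groth.Agent.Lead.RegLocal.isDomain_of_isRegularLocalRing _
  haveI : IsDomain (X.presheaf.stalk τ ⧸ IntMult.stalkIdeal ιZ.ker τ) :=
    Groth.Agent.Lead.RegLocal.isDomain_of_isRegularLocalRing _
  have hI : (IntMult.stalkIdeal ιY.ker τ).IsPrime :=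
    (Ideal.Quotient.isDomain_iff_prime _).mp inferInstance
  have hJ : (IntMult.stalkIdeal ιZ.ker τ).IsPrime :=
    (Ideal.Quotient.isDomain_iff_prime _).mp inferInstance
  set ξ₀ := X.fromSpecStalk τ ⟨IntMult.stalkIdeal ιY.ker τ, hI⟩ with hξ₀
  set η₀ := X.fromSpecStalk τ ⟨IntMult.stalkIdeal ιZ.ker τ, hJ⟩ with hη₀
  haveI : IsDomain (Y.presheaf.stalk y) := by
    haveI := regular_of_eq ιY τ hregV y hy
    exact Groth.Agent.Lead.RegLocal.isDomain_of_isRegularLocalRing _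
  haveI : IsDomain (Z.presheaf.stalk z) := by
    haveI := regular_of_eq ιZ τ hregW z hz
    exact Groth.Agent.Lead.RegLocal.isDomain_of_isRegularLocalRing _
  obtain ⟨hα1, hδξ₀⟩ := coeff_one ιY δ hδ r τ hI hdV ξ hαξ hξτ y hy
  obtain ⟨hβ1, hδη₀⟩ := coeff_one ιZ δ hδ s τ hJ hdW η hβη hητ z hz
  -- the sum
  unfold IntMult.interProd
  let p₀ : {p : X × X // p.1 ⤳ τ ∧ p.2 ⤳ τ ∧ δ p.1 + δ p.2 - n = δ τ} :=
    ⟨(ξ₀, η₀), fromSpecStalk_specializes τ _, fromSpecStalk_specializes τ _, by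
      show δ ξ₀ + δ η₀ - n = δ τ
      rw [hδξ₀, hδη₀, hτ]⟩
  rw [finsum_eq_single _ p₀]
  · show Cyc.subschemeFun δ r ιY ξ₀ * Cyc.subschemeFun δ s ιZ η₀ *
      IntMult.mult (IntMult.ptIdeal ξ₀) (IntMult.ptIdeal η₀) τ = 1
    rw [hα1, hβ1, one_mul, one_mul]
    unfold IntMult.mult
    rw [chi_congr_ideal _ _ _ (stalkIdeal_ptIdeal τ ⟨IntMult.stalkIdeal ιZ.ker τ, hJ⟩),
      chi_congr_right _ _ _ (stalkIdeal_ptIdeal τ ⟨IntMult.stalkIdeal ιY.ker τ, hI⟩)]
    exact hchi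
  · intro p hp
    by_cases ha : Cyc.subschemeFun δ r ιY p.1.1 = 0
    · rw [ha, zero_mul, zero_mul]
    by_cases hb : Cyc.subschemeFun δ s ιZ p.1.2 = 0
    · rw [hb, mul_zero, zero_mul]
    exfalso
    apply hp
    have e1 := unique_pt ιY δ hδ r τ hI hdV p.1.1 ha p.2.1
    have e2 := unique_pt ιZ δ hδ s τ hJ hdW p.1.2 hb p.2.2.1
    apply Subtype.ext
    exact Prod.ext e1 e2

end Groth.Agent.Helper3.TransB
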