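import Mathlib
import Groth.Prelude
import Groth.Agent.Helper3.CMIntA
import Groth.Agent.Helper3.TransB
import Groth.Agent.Helper5.CIntDim1
import Groth.Agent.Helper3.CMIntC

set_option autoImplicit false
set_option linter.style.haveILetI false
set_option linter.unusedSectionVars false
set_option linter.unusedVariables false
set_option linter.deprecated false
set_option linter.style.haveILetI false
set_option linter.unusedSectionVars false
set_option linter.unusedVariables false

open CategoryTheory Limits AlgebraicGeometry TopologicalSpace Opposite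
universe u

namespace Groth.Agent.Helper3.CMIntB
open Groth.Agent.Helper3.IntMultA Groth.Agent.Helper3.CartDict Groth.Agent.Helper5.StalkDict
open Groth.Agent.Helper3.TransA Groth.Agent.Helper3.TransB
open IsLocalRing RingTheory.Sequence

variable {X : Scheme.{u}} [IsLocallyNoetherian X]

/-- a prime of the local ring containing the stalk of `I` gives a generisation on `V(I)` -/
theorem mem_support_of_stalkIdeal_le (I : X.IdealSheafData) (x : X)
    (p : ↥(Spec (X.presheaf.stalk x))) (h : IntMult.stalkIdeal I x ≤ p.asIdeal) :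
    X.fromSpecStalk x p ∈ I.support := by
  obtain ⟨_, ⟨U, hU, rfl⟩, hxU, -⟩ :=
    (X.isBasis_affineOpens).exists_subset_of_mem_open (show x ∈ (⊤ : X.Opens) from trivial)
      (⊤ : X.Opens).2
  obtain ⟨htU, hcomap⟩ := comap_germ U hU x hxU p
  rw [Scheme.IdealSheafData.mem_support_iff_of_mem (I := I) (U := ⟨U, hU⟩) htU,
    Scheme.mem_zeroLocus_iff]
  intro f hf
  have h1 : f ∈ (hU.primeIdealOf ⟨X.fromSpecStalk x p, htU⟩).asIdeal := by
    rw [hcomap, Ideal.mem_comap]
    apply h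
    rw [stalkIdeal_eq I ⟨U, hU⟩ x hxU]
    exact Ideal.mem_map_of_mem _ hf
  exact (mem_prime_iff ⟨U, hU⟩ _ htU f).mp h1

/-- germs of a regular sequence generating the ideal of a closed subscheme on an affine open -/
theorem germ_data {Y : Scheme.{u}} (i : Y ⟶ X) [IsClosedImmersion i] (U : X.affineOpens)
    (rs : List Γ(X, U.1)) (hreg : IsRegular Γ(X, U.1) rs)
    (hker : RingHom.ker (i.app U.1).hom = Ideal.ofList rs) (x : X) (hx : x ∈ U.1) :
    IsWeaklyRegular (X.presheaf.stalk x) (rs.map (X.presheaf.germ U.1 x hx).hom) ∧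
      Ideal.ofList (rs.map (X.presheaf.germ U.1 x hx).hom) = IntMult.stalkIdeal i.ker x := by
  haveI : IsNoetherianRing Γ(X, U.1) := IsLocallyNoetherian.component_noetherian U
  letI := X.presheaf.algebra_section_stalk ⟨x, hx⟩
  haveI := U.2.isLocalization_stalk ⟨x, hx⟩
  refine ⟨?_, ?_⟩
  · exact hreg.toIsWeaklyRegular.of_isLocalization (X.presheaf.stalk x)
      (U.2.primeIdealOf ⟨x, hx⟩).asIdeal.primeCompl
  · rw [stalkIdeal_eq i.ker U x hx, Scheme.Hom.ker_apply, hker, Ideal.map_ofList]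

theorem support_ker_eq_range {Y : Scheme.{u}} (i : Y ⟶ X) [IsClosedImmersion i] :
    (i.ker.support : Set X) = Set.range i := by
  rw [Scheme.Hom.support_ker]
  exact i.isClosedEmbedding.isClosed_range.closure_eq

theorem stalkIdeal_le_maximalIdeal {Y : Scheme.{u}} (i : Y ⟶ X) [IsClosedImmersion i] (x : X)
    (hx : x ∈ Set.range i) : IntMult.stalkIdeal i.ker x ≤ maximalIdeal (X.presheaf.stalk x) := by
  have h := stalkIdeal_le_of_mem_support i.ker x (IsLocalRing.closedPoint (X.presheaf.stalk x)) (by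
    rw [Scheme.fromSpecStalk_closedPoint]
    exact i.range_subset_ker_support hx)
  exact h

/-- the local statement: the two generating sequences together form a regular sequence -/
theorem local_regular (hCM : ∀ x : X, LocCoh.IsCohenMacaulayLocalRing (X.presheaf.stalk x))
    {Y Z : Scheme.{u}} (iY : Y ⟶ X) (iZ : Z ⟶ X) [IsClosedImmersion iY] [IsClosedImmersion iZ]
    (c : ℕ)
    (hcodim : ∀ t : X, t ∈ Set.range iY → t ∈ Set.range iZ →
      ((c : ℕ) : WithBot ℕ∞) ≤ ringKrullDim (X.presheaf.stalk t))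
    (x : X) (hxY : x ∈ Set.range iY) (hxZ : x ∈ Set.range iZ)
    (l₁ l₂ : List (X.presheaf.stalk x)) (hlen : l₁.length + l₂.length = c)
    (e₁ : Ideal.ofList l₁ = IntMult.stalkIdeal iY.ker x)
    (e₂ : Ideal.ofList l₂ = IntMult.stalkIdeal iZ.ker x) :
    IsWeaklyRegular (X.presheaf.stalk x) (l₁ ++ l₂) := by
  haveI := hCM x
  apply Groth.Agent.Helper3.CMIntA.weaklyRegular_of_height
  · intro r hr
    rcases List.mem_append.mp hr with hr | hr
    · apply stalkIdeal_le_maximalIdeal iY x hxY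
      rw [← e₁]; exact Ideal.subset_span hr
    · apply stalkIdeal_le_maximalIdeal iZ x hxZ
      rw [← e₂]; exact Ideal.subset_span hr
  · intro p hp hle
    rw [Ideal.ofList_append, e₁, e₂, sup_le_iff] at hle
    let p' : ↥(Spec (X.presheaf.stalk x)) := ⟨p, hp⟩
    have h1 := mem_support_of_stalkIdeal_le iY.ker x p' hle.1
    have h2 := mem_support_of_stalkIdeal_le iZ.ker x p' hle.2
    have h1' : X.fromSpecStalk x p' ∈ Set.range iY := by
      rw [← support_ker_eq_range]; exact h1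
    have h2' : X.fromSpecStalk x p' ∈ Set.range iZ := by
      rw [← support_ker_eq_range]; exact h2
    have h3 := hcodim _ h1' h2'
    rw [Groth.Agent.Helper5.CIntDim.ringKrullDim_stalk_fromSpecStalk] at h3
    rw [List.length_append, hlen]
    have h4 : ((c : ℕ∞) : WithBot ℕ∞) ≤ ((p.height : ℕ∞) : WithBot ℕ∞) := h3
    exact WithBot.coe_le_coe.mp h4

theorem part1 (hCM : ∀ x : X, LocCoh.IsCohenMacaulayLocalRing (X.presheaf.stalk x))
    {Y Z : Scheme.{u}} (iY : Y ⟶ X) (iZ : Z ⟶ X) [IsClosedImmersion iY] [IsClosedImmersion iZ]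
    (a b : ℕ) (hY : RegImm.IsRegularImmersionOfCodim RegImm.Kind.regular a iY)
    (hZ : RegImm.IsRegularImmersionOfCodim RegImm.Kind.regular b iZ)
    (hcodim : ∀ t : X, t ∈ Set.range iY → t ∈ Set.range iZ →
      ((a + b : ℕ) : WithBot ℕ∞) ≤ ringKrullDim (X.presheaf.stalk t)) :
    RegImm.IsRegularImmersionOfCodim RegImm.Kind.regular (a + b)
      (pullback.fst iY iZ ≫ iY) := by
  refine ⟨inferInstance, fun w => ?_⟩
  set x := (pullback.fst iY iZ ≫ iY) w with hx
  have hy : iY (pullback.fst iY iZ w) = x := rfl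
  have hz : iZ (pullback.snd iY iZ w) = x := by
    have := congrArg (fun ψ : pullback iY iZ ⟶ X => ψ w) (pullback.condition (f := iY) (g := iZ))
    exact this.symm
  obtain ⟨U₁, hx₁, -, rs₁, hl₁, hreg₁, hker₁⟩ := hY.2 (pullback.fst iY iZ w)
  obtain ⟨U₂, hx₂, -, rs₂, hl₂, hreg₂, hker₂⟩ := hZ.2 (pullback.snd iY iZ w)
  rw [hz] at hx₂
  rw [hy] at hx₁
  have hreg₁' : IsRegular Γ(X, U₁.1) rs₁ := hreg₁
  have hreg₂' : IsRegular Γ(X, U₂.1) rs₂ := hreg₂
  obtain ⟨wr₁, e₁⟩ := germ_data iY U₁ rs₁ hreg₁' hker₁ x hx₁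
  obtain ⟨wr₂, e₂⟩ := germ_data iZ U₂ rs₂ hreg₂' hker₂ x hx₂
  have hloc := local_regular hCM iY iZ (a + b) hcodim x ⟨_, hy⟩ ⟨_, hz⟩ _ _
    (by rw [List.length_map, List.length_map, hl₁, hl₂]) e₁ e₂
  -- a common affine open
  obtain ⟨_, ⟨V, hV, rfl⟩, hxV, hVle⟩ := X.isBasis_affineOpens.exists_subset_of_mem_open
    (show x ∈ (U₁.1 ⊓ U₂.1 : X.Opens) from ⟨hx₁, hx₂⟩) (U₁.1 ⊓ U₂.1).2
  have hV₁ : (⟨V, hV⟩ : X.affineOpens) ≤ U₁ := fun t ht => (hVle ht).1
  have hV₂ : (⟨V, hV⟩ : X.affineOpens) ≤ U₂ := fun t ht => (hVle ht).2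
  set res₁ : Γ(X, U₁.1) →+* Γ(X, V) := (X.presheaf.map (homOfLE hV₁).op).hom with hres₁
  set res₂ : Γ(X, U₂.1) →+* Γ(X, V) := (X.presheaf.map (homOfLE hV₂).op).hom with hres₂
  set ys : List Γ(X, V) := rs₁.map res₁ ++ rs₂.map res₂ with hys
  have hgerm : ys.map (X.presheaf.germ V x hxV).hom =
      rs₁.map (X.presheaf.germ U₁.1 x hx₁).hom ++ rs₂.map (X.presheaf.germ U₂.1 x hx₂).hom := by
    rw [hys, List.map_append, List.map_map, List.map_map]
    congr 1
    · apply List.map_congr_left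
      intro r _
      exact X.presheaf.germ_res_apply (homOfLE hV₁) x hxV r
    · apply List.map_congr_left
      intro r _
      exact X.presheaf.germ_res_apply (homOfLE hV₂) x hxV r
  have hI : (pullback.fst iY iZ ≫ iY).ker.ideal ⟨V, hV⟩ = Ideal.ofList ys := by
    rw [ker_inter, Scheme.IdealSheafData.ideal_sup, Pi.sup_apply, hys, Ideal.ofList_append,
      ← Ideal.map_ofList, ← Ideal.map_ofList, ← hker₁, ← hker₂, ← Scheme.Hom.ker_apply,
      ← Scheme.Hom.ker_apply, hres₁, hres₂, Scheme.IdealSheafData.map_ideal,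
      Scheme.IdealSheafData.map_ideal]
  haveI : IsNoetherianRing Γ(X, V) := IsLocallyNoetherian.component_noetherian ⟨V, hV⟩
  letI := X.presheaf.algebra_section_stalk ⟨x, hxV⟩
  haveI := hV.isLocalization_stalk ⟨x, hxV⟩
  have hregS : IsWeaklyRegular (X.presheaf.stalk x)
      (ys.map (algebraMap Γ(X, V) (X.presheaf.stalk x))) := by
    show IsWeaklyRegular (X.presheaf.stalk x) (ys.map (X.presheaf.germ V x hxV).hom)
    rw [hgerm]; exact hloc
  obtain ⟨g, hgp, hL⟩ := Groth.Agent.Helper3.CMIntC.spread'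
    (hV.primeIdealOf ⟨x, hxV⟩).asIdeal (X.presheaf.stalk x) ys hregS
  have hD : IsAffineOpen (X.basicOpen g) := hV.basicOpen g
  haveI := hV.isLocalization_basicOpen g
  have hwr := hL Γ(X, X.basicOpen g)
  have hxD : x ∈ X.basicOpen g := by
    by_contra hcon
    exact hgp ((mem_prime_iff ⟨V, hV⟩ x hxV g).mpr hcon)
  have hDV : (⟨X.basicOpen g, hD⟩ : X.affineOpens) ≤ ⟨V, hV⟩ := X.basicOpen_le g
  have hkerD : RingHom.ker ((pullback.fst iY iZ ≫ iY).app (X.basicOpen g)).hom =
      Ideal.ofList (ys.map (algebraMap Γ(X, V) Γ(X, X.basicOpen g))) := by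
    rw [← Ideal.map_ofList, ← hI]
    have := Scheme.IdealSheafData.map_ideal (pullback.fst iY iZ ≫ iY).ker hDV
    exact (Scheme.Hom.ker_apply (pullback.fst iY iZ ≫ iY) ⟨X.basicOpen g, hD⟩).symm.trans this.symm
  refine ⟨⟨X.basicOpen g, hD⟩, hxD, inferInstance,
    ys.map (algebraMap Γ(X, V) Γ(X, X.basicOpen g)), ?_, ?_, hkerD⟩
  · rw [List.length_map, hys, List.length_append, List.length_map, List.length_map, hl₁, hl₂]
  · show IsRegular _ _
    refine ⟨hwr, ?_⟩
    rw [Groth.Agent.Helper7.Vasc.smul_top_eq_self, ← hkerD]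
    intro htop
    have hne : Nontrivial Γ(pullback iY iZ, (pullback.fst iY iZ ≫ iY) ⁻¹ᵁ X.basicOpen g) := by
      exact @Scheme.component_nontrivial _ _ ⟨⟨w, hxD⟩⟩
    exact (RingHom.ker_ne_top _) htop.symm

end Groth.Agent.Helper3.CMIntB
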