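import Mathlib
import Groth.Prelude
import Groth.Agent.Helper1.TorFlatBC
import Groth.Agent.Helper1.TorBC2
import Groth.Agent.Helper1.FlatCxDRank

set_option autoImplicit false
set_option linter.style.haveILetI false
set_option linter.unusedSectionVars false
set_option linter.unusedVariables false
set_option linter.deprecated false
set_option linter.unusedSectionVars false
set_option linter.unusedVariables false

open CategoryTheory Limits TensorProduct
universe u

namespace Groth.Agent.Helper3.CMIntD
open Groth.Agent.Helper1.TorLib Groth.Agent.Helper1.FlatCx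

variable {A : Type u} [CommRing A]

/-- a module all of whose localisations at maximal ideals vanish is zero (base change form) -/
theorem isZero_of_forall_extendScalars (T : ModuleCat.{u} A)
    (h : ∀ (m : Ideal A) [m.IsPrime], ∃ (B : Type u) (_ : CommRing B) (_ : Algebra A B),
      IsLocalization m.primeCompl B ∧
        IsZero ((ModuleCat.extendScalars (algebraMap A B)).obj T)) : IsZero T := by
  rw [ModuleCat.isZero_iff_subsingleton]
  by_contra hcon
  rw [not_subsingleton_iff_nontrivial] at hcon
  obtain ⟨t, ht⟩ := exists_ne (0 : T)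
  let ann : Ideal A := LinearMap.ker (LinearMap.toSpanSingleton A T t)
  have hann : ann ≠ ⊤ := by
    intro e
    have : (1 : A) ∈ ann := by rw [e]; trivial
    have h1 : (1 : A) • t = 0 := this
    rw [one_smul] at h1
    exact ht h1
  obtain ⟨m, hm, hle⟩ := Ideal.exists_le_maximal ann hann
  haveI := hm.isPrime
  obtain ⟨B, _, _, hloc, hz⟩ := h m
  haveI := hloc
  rw [ModuleCat.isZero_iff_subsingleton] at hz
  have h1 : (1 : B) ⊗ₜ[A] t = (0 : B ⊗[A] T) := by
    haveI : Subsingleton (B ⊗[A] T) := (extendScalarsEquiv (S := B) T).symm.toEquiv.subsingleton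
    exact Subsingleton.elim _ _
  haveI : IsLocalizedModule m.primeCompl (TensorProduct.mk A B T 1) :=
    (isLocalizedModule_iff_isBaseChange m.primeCompl B _).mpr (TensorProduct.isBaseChange A T B)
  have h2 : (TensorProduct.mk A B T 1) t = 0 := h1
  rw [IsLocalizedModule.eq_zero_iff m.primeCompl] at h2
  obtain ⟨c, hc⟩ := h2
  have h3 : (c : A) ∈ ann := hc
  exact c.2 (hle h3)

variable {B : Type u} [CommRing B] [Algebra A B]

/-- `B ⊗ A/I ≅ B/IB` in `ModuleCat B` -/
noncomputable def extQuotIso (I : Ideal A) :
    (ModuleCat.extendScalars (algebraMap A B)).obj (ModuleCat.of A (A ⧸ I)) ≅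
      ModuleCat.of B (B ⧸ I.map (algebraMap A B)) :=
  ((extendScalarsEquiv (S := B) (ModuleCat.of A (A ⧸ I))).trans
    (Algebra.TensorProduct.quotIdealMapEquivTensorQuot B I).symm.toLinearEquiv).toModuleIso

/-- flat base change of `Tor` of two cyclic modules -/
theorem isZero_extendScalars_tor [Module.Flat A B] (I J : Ideal A) (n : ℕ)
    (h : IsZero (((Tor (ModuleCat.{u} B) n).obj
      (ModuleCat.of B (B ⧸ I.map (algebraMap A B)))).obj
      (ModuleCat.of B (B ⧸ J.map (algebraMap A B))))) :
    IsZero ((ModuleCat.extendScalars (algebraMap A B)).obj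
      (((Tor (ModuleCat.{u} A) n).obj (ModuleCat.of A (A ⧸ I))).obj (ModuleCat.of A (A ⧸ J)))) := by
  have hf : (algebraMap A B).Flat := RingHom.flat_algebraMap_iff.mpr inferInstance
  obtain ⟨e⟩ := nonempty_tor_extendScalars_iso (algebraMap A B) hf
    (ModuleCat.of A (A ⧸ I)) (ModuleCat.of A (A ⧸ J)) n
  refine IsZero.of_iso ?_ e.symm
  refine IsZero.of_iso h ?_
  exact ((Tor (ModuleCat.{u} B) n).mapIso (extQuotIso I)).app _ ≪≫
    ((Tor (ModuleCat.{u} B) n).obj _).mapIso (extQuotIso J)

end Groth.Agent.Helper3.CMIntD
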