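import Mathlib
import Groth.Prelude
import Groth.Agent.Helper3.CMIntB
import Groth.Agent.Helper3.CMIntD
import Groth.Agent.Helper3.KzTor
import Groth.Agent.Helper5.RelGCI12

set_option autoImplicit false
set_option linter.style.haveILetI false
set_option linter.unusedSectionVars false
set_option linter.unusedVariables false
set_option linter.deprecated false
set_option linter.style.haveILetI false
set_option linter.unusedSectionVars false
set_option linter.unusedVariables false

open CategoryTheory Limits AlgebraicGeometry TopologicalSpace Opposite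
universe u

namespace Groth.Agent.Helper3.CMIntE
open Groth.Agent.Helper3.IntMultA Groth.Agent.Helper3.CartDict Groth.Agent.Helper5.StalkDict
open Groth.Agent.Helper3.TransA Groth.Agent.Helper3.CMIntB Groth.Agent.Helper3.CMIntD
open IsLocalRing RingTheory.Sequence

section Alg

variable {B : Type u} [CommRing B]

theorem isWeaklyRegular_of_subsingleton (M : Type u) [AddCommGroup M] [Module B M] [Subsingleton M]
    (l : List B) : IsWeaklyRegular M l := by
  rw [isWeaklyRegular_iff]
  intro i hi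
  exact fun a b _ => Subsingleton.elim a b

/-- `Tor` of two cyclic modules vanishes when the first ideal is generated by a regular sequence
which stays regular modulo the second ideal -/
theorem isZero_tor_of_regular (I J : Ideal B) (l : List B) (hI : Ideal.ofList l = I)
    (hl : IsWeaklyRegular B l)
    (hl' : IsWeaklyRegular (B ⧸ J) (l.map (algebraMap B (B ⧸ J)))) (i : ℕ) (hi : 1 ≤ i) :
    IsZero (((Tor (ModuleCat.{u} B) i).obj (ModuleCat.of B (B ⧸ I))).obj
      (ModuleCat.of B (B ⧸ J))) := by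
  subst hI
  exact Groth.Agent.Helper3.KzTor.isZero_tor_quot_algebra l
    (Groth.Agent.Helper5.RelGCI.kreg_of_isWeaklyRegular l hl)
    (Groth.Agent.Helper5.RelGCI.kreg_of_isWeaklyRegular _ hl') i hi

/-- the unit ideal -/
theorem isZero_tor_of_top_left (I J : Ideal B) (hI : I = ⊤) (i : ℕ) (hi : 1 ≤ i) :
    IsZero (((Tor (ModuleCat.{u} B) i).obj (ModuleCat.of B (B ⧸ I))).obj
      (ModuleCat.of B (B ⧸ J))) := by
  apply isZero_tor_of_regular I J [1] (by rw [hI, Ideal.ofList_singleton, Ideal.span_singleton_one])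
  · rw [isWeaklyRegular_singleton_iff]
    exact IsSMulRegular.one _
  · rw [List.map_singleton, map_one, isWeaklyRegular_singleton_iff]
    exact IsSMulRegular.one _
  · exact hi

/-- the second ideal is the unit ideal -/
theorem isZero_tor_of_top_right (I J : Ideal B) (l : List B) (hI : Ideal.ofList l = I)
    (hl : IsWeaklyRegular B l) (hJ : J = ⊤) (i : ℕ) (hi : 1 ≤ i) :
    IsZero (((Tor (ModuleCat.{u} B) i).obj (ModuleCat.of B (B ⧸ I))).obj
      (ModuleCat.of B (B ⧸ J))) := by
  haveI : Subsingleton (B ⧸ J) := by rw [hJ]; exact Ideal.Quotient.subsingleton_iff.mpr rfl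
  exact isZero_tor_of_regular I J l hI hl (isWeaklyRegular_of_subsingleton _ _) i hi

/-- from a regular sequence `l₂ ++ l₁` -/
theorem isZero_tor_of_append (I J : Ideal B) (l₁ l₂ : List B) (hI : Ideal.ofList l₁ = I)
    (hJ : Ideal.ofList l₂ = J) (h : IsWeaklyRegular B (l₂ ++ l₁)) (h₁ : IsWeaklyRegular B l₁)
    (i : ℕ) (hi : 1 ≤ i) :
    IsZero (((Tor (ModuleCat.{u} B) i).obj (ModuleCat.of B (B ⧸ I))).obj
      (ModuleCat.of B (B ⧸ J))) := by
  apply isZero_tor_of_regular I J l₁ hI h₁ _ i hi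
  rw [isWeaklyRegular_append_iff] at h
  have h2 := h.2
  have e : (Ideal.ofList l₂ • ⊤ : Submodule B B) = J := by
    rw [hJ]; simp
  rw [isWeaklyRegular_map_algebraMap_iff]
  exact ((Submodule.quotEquivOfEq _ _ e).isWeaklyRegular_congr l₁).mp h2

end Alg

section Geo

variable {X : Scheme.{u}} [IsLocallyNoetherian X]
  (hCM : ∀ x : X, LocCoh.IsCohenMacaulayLocalRing (X.presheaf.stalk x))
  {Y Z : Scheme.{u}} (iY : Y ⟶ X) (iZ : Z ⟶ X) [IsClosedImmersion iY] [IsClosedImmersion iZ]
  (a b : ℕ) (hY : RegImm.IsRegularImmersionOfCodim RegImm.Kind.regular a iY)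
  (hZ : RegImm.IsRegularImmersionOfCodim RegImm.Kind.regular b iZ)
  (hcodim : ∀ t : X, t ∈ Set.range iY → t ∈ Set.range iZ →
    ((a + b : ℕ) : WithBot ℕ∞) ≤ ringKrullDim (X.presheaf.stalk t))

theorem stalkIdeal_eq_top {W : Scheme.{u}} (j : W ⟶ X) [IsClosedImmersion j] (x : X)
    (hx : x ∉ Set.range j) : IntMult.stalkIdeal j.ker x = ⊤ := by
  by_contra hne
  apply hx
  rw [← support_ker_eq_range]
  have h1 : IntMult.stalkIdeal j.ker x ≤
      (IsLocalRing.closedPoint (X.presheaf.stalk x)).asIdeal :=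
    IsLocalRing.le_maximalIdeal hne
  have h2 := mem_support_of_stalkIdeal_le j.ker x _ h1
  rwa [Scheme.fromSpecStalk_closedPoint] at h2

/-- germs of a local generating regular sequence at a point of a regularly immersed subscheme -/
theorem exists_germ_list {W : Scheme.{u}} (j : W ⟶ X) [IsClosedImmersion j] (c : ℕ)
    (hj : RegImm.IsRegularImmersionOfCodim RegImm.Kind.regular c j) (x : X)
    (hx : x ∈ Set.range j) :
    ∃ l : List (X.presheaf.stalk x), l.length = c ∧ IsWeaklyRegular (X.presheaf.stalk x) l ∧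
      Ideal.ofList l = IntMult.stalkIdeal j.ker x := by
  obtain ⟨w, rfl⟩ := hx
  obtain ⟨U₁, hx₁, -, rs₁, hl₁, hreg₁, hker₁⟩ := hj.2 w
  have hreg₁' : IsRegular Γ(X, U₁.1) rs₁ := hreg₁
  obtain ⟨wr₁, e₁⟩ := germ_data j U₁ rs₁ hreg₁' hker₁ (j w) hx₁
  exact ⟨_, by rw [List.length_map, hl₁], wr₁, e₁⟩

include hCM hY hZ hcodim in
theorem stalk_tor_zero (x : X) (i : ℕ) (hi : 1 ≤ i) :
    IsZero (((Tor (ModuleCat.{u} (X.presheaf.stalk x)) i).obj
      (ModuleCat.of _ (X.presheaf.stalk x ⧸ IntMult.stalkIdeal iY.ker x))).obj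
      (ModuleCat.of _ (X.presheaf.stalk x ⧸ IntMult.stalkIdeal iZ.ker x))) := by
  by_cases hxY : x ∈ Set.range iY
  · obtain ⟨l₁, hlen₁, hwr₁, e₁⟩ := exists_germ_list iY a hY x hxY
    by_cases hxZ : x ∈ Set.range iZ
    · obtain ⟨l₂, hlen₂, hwr₂, e₂⟩ := exists_germ_list iZ b hZ x hxZ
      have hloc := local_regular hCM iZ iY (a + b) (fun t h1 h2 => hcodim t h2 h1) x hxZ hxY
        l₂ l₁ (by rw [hlen₁, hlen₂, add_comm]) e₂ e₁
      exact isZero_tor_of_append _ _ l₁ l₂ e₁ e₂ hloc hwr₁ i hi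
    · exact isZero_tor_of_top_right _ _ l₁ e₁ hwr₁ (stalkIdeal_eq_top iZ x hxZ) i hi
  · exact isZero_tor_of_top_left _ _ (stalkIdeal_eq_top iY x hxY) i hi

/-- the sections of a closed subscheme over an affine open, as a cyclic module -/
noncomputable def quotLinearEquiv {A M : Type u} [CommRing A] [CommRing M] (φ : A →+* M)
    (hφ : Function.Surjective φ) :
    letI := φ.toModule
    (A ⧸ RingHom.ker φ) ≃ₗ[A] M :=
  letI := φ.toModule
  { (RingHom.quotientKerEquivOfSurjective hφ).toAddEquiv with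
    map_smul' := by
      intro a q
      obtain ⟨q, rfl⟩ := Ideal.Quotient.mk_surjective q
      show RingHom.quotientKerEquivOfSurjective hφ (a • Ideal.Quotient.mk _ q) =
        φ a * RingHom.quotientKerEquivOfSurjective hφ (Ideal.Quotient.mk _ q)
      rw [show a • Ideal.Quotient.mk (RingHom.ker φ) q = Ideal.Quotient.mk _ (a * q) from rfl]
      rw [RingHom.quotientKerEquivOfSurjective_apply_mk, RingHom.quotientKerEquivOfSurjective_apply_mk,
        map_mul] }

include hCM hY hZ hcodim in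
theorem part2 (U : X.Opens) (hU : IsAffineOpen U) (i : ℕ) (hi : 0 < i) :
    Subsingleton (@DRing.Tor Γ(X, U) _ i Γ(Y, iY ⁻¹ᵁ U) Γ(Z, iZ ⁻¹ᵁ U) _
      (iY.app U).hom.toModule _ (iZ.app U).hom.toModule) := by
  letI mY : Module Γ(X, U) Γ(Y, iY ⁻¹ᵁ U) := (iY.app U).hom.toModule
  letI mZ : Module Γ(X, U) Γ(Z, iZ ⁻¹ᵁ U) := (iZ.app U).hom.toModule
  have hsY : Function.Surjective (iY.app U).hom :=
    (isClosedImmersion_iff_isAffineHom.mp ‹IsClosedImmersion iY›).2 U hU
  have hsZ : Function.Surjective (iZ.app U).hom :=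
    (isClosedImmersion_iff_isAffineHom.mp ‹IsClosedImmersion iZ›).2 U hU
  let eY := quotLinearEquiv (iY.app U).hom hsY
  let eZ := quotLinearEquiv (iZ.app U).hom hsZ
  set I := RingHom.ker (iY.app U).hom with hI
  set J := RingHom.ker (iZ.app U).hom with hJ
  have key : IsZero (((Tor (ModuleCat.{u} Γ(X, U)) i).obj (ModuleCat.of Γ(X, U) (Γ(X, U) ⧸ I))).obj
      (ModuleCat.of Γ(X, U) (Γ(X, U) ⧸ J))) := by
    apply isZero_of_forall_extendScalars
    intro m hm
    let q : ↥(Spec Γ(X, U)) := ⟨m, hm⟩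
    have hxU : hU.fromSpec q ∈ U := by
      have : hU.fromSpec q ∈ Set.range hU.fromSpec := ⟨q, rfl⟩
      rw [hU.range_fromSpec] at this
      exact this
    set x := hU.fromSpec q with hx
    have hq : hU.primeIdealOf ⟨x, hxU⟩ = q := by
      apply hU.fromSpec.isOpenEmbedding.injective
      rw [hU.fromSpec_primeIdealOf]
    letI := X.presheaf.algebra_section_stalk ⟨x, hxU⟩
    have hloc := hU.isLocalization_stalk ⟨x, hxU⟩
    rw [hq] at hloc
    have hloc' : IsLocalization m.primeCompl (X.presheaf.stalk x) := hloc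
    refine ⟨X.presheaf.stalk x, inferInstance, inferInstance, hloc', ?_⟩
    haveI : Module.Flat Γ(X, U) (X.presheaf.stalk x) := IsLocalization.flat _ m.primeCompl
    apply isZero_extendScalars_tor I J i
    have h1 := stalk_tor_zero hCM iY iZ a b hY hZ hcodim x i hi
    rw [stalkIdeal_eq iY.ker ⟨U, hU⟩ x hxU, stalkIdeal_eq iZ.ker ⟨U, hU⟩ x hxU,
      Scheme.Hom.ker_apply, Scheme.Hom.ker_apply] at h1
    exact h1
  have h2 : IsZero (((Tor (ModuleCat.{u} Γ(X, U)) i).obj
      (ModuleCat.of Γ(X, U) Γ(Y, iY ⁻¹ᵁ U))).obj (ModuleCat.of Γ(X, U) Γ(Z, iZ ⁻¹ᵁ U))) := by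
    refine IsZero.of_iso key ?_
    exact (((Tor (ModuleCat.{u} Γ(X, U)) i).mapIso eY.toModuleIso).app _ ≪≫
      ((Tor (ModuleCat.{u} Γ(X, U)) i).obj _).mapIso eZ.toModuleIso).symm
  exact ModuleCat.subsingleton_of_isZero h2

end Geo

end Groth.Agent.Helper3.CMIntE
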