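import Mathlib
import Groth.Prelude
import Groth.Agent.Helper3.CMIntB
import Groth.Agent.Helper3.CMIntE

set_option autoImplicit false
set_option linter.style.haveILetI false
set_option linter.unusedSectionVars false
set_option linter.unusedVariables false
set_option linter.deprecated false

open CategoryTheory Limits AlgebraicGeometry TopologicalSpace Opposite
universe u

namespace Groth.Agent.Helper3.CMIntF

theorem hcodim_range {X Y Z : Scheme.{u}} (iY : Y ⟶ X) (iZ : Z ⟶ X) (a b : ℕ)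
    (hcodim : ∀ w : ↥(pullback iY iZ), ((a + b : ℕ) : WithBot ℕ∞) ≤
      ringKrullDim (X.presheaf.stalk ((pullback.fst iY iZ ≫ iY).base w))) :
    ∀ t : X, t ∈ Set.range iY → t ∈ Set.range iZ →
      ((a + b : ℕ) : WithBot ℕ∞) ≤ ringKrullDim (X.presheaf.stalk t) := by
  rintro t ⟨y, rfl⟩ ⟨z, hz⟩
  obtain ⟨w, hw1, hw2⟩ :=
    AlgebraicGeometry.Scheme.Pullback.exists_preimage_pullback (f := iY) (g := iZ) y z hz.symm
  have h := hcodim w
  have e : (pullback.fst iY iZ ≫ iY).base w = iY y := by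
    have : (pullback.fst iY iZ ≫ iY).base w = iY (pullback.fst iY iZ w) := rfl
    rw [this, hw1]
  rw [e] at h
  exact h

theorem main {X Y Z : Scheme.{u}}
    [IsLocallyNoetherian X] (hCM : ∀ x : X, LocCoh.IsCohenMacaulayLocalRing (X.presheaf.stalk x))
    (iY : Y ⟶ X) (iZ : Z ⟶ X) [IsClosedImmersion iY] [IsClosedImmersion iZ] (a b : ℕ)
    (hY : RegImm.IsRegularImmersionOfCodim RegImm.Kind.regular a iY)
    (hZ : RegImm.IsRegularImmersionOfCodim RegImm.Kind.regular b iZ)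
    (hcodim : ∀ w : ↥(pullback iY iZ), ((a + b : ℕ) : WithBot ℕ∞) ≤
      ringKrullDim (X.presheaf.stalk ((pullback.fst iY iZ ≫ iY).base w))) :
    RegImm.IsRegularImmersionOfCodim RegImm.Kind.regular (a + b) (pullback.fst iY iZ ≫ iY) ∧
      ∀ (U : X.Opens), IsAffineOpen U → ∀ (i : ℕ), 0 < i →
        Subsingleton (@DRing.Tor Γ(X, U) _ i Γ(Y, iY ⁻¹ᵁ U) Γ(Z, iZ ⁻¹ᵁ U) _ (iY.app U).hom.toModule _ (iZ.app U).hom.toModule) := by
  have h := hcodim_range iY iZ a b hcodim
  exact ⟨CMIntB.part1 hCM iY iZ a b hY hZ h,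
    fun U hU i hi => CMIntE.part2 hCM iY iZ a b hY hZ h U hU i hi⟩

end Groth.Agent.Helper3.CMIntF
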