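import Mathlib
import Groth.Agent.Helper1.JZ

open TensorProduct KaehlerDifferential

namespace Groth.Agent.Helper3.EtChart

universe u

/-- a smooth algebra with a basis of differentials `d a_i` is étale over the polynomial ring -/
theorem etale_of_basis {k S : Type u} [CommRing k] [CommRing S] [Algebra k S] [Algebra.Smooth k S]
    {ι : Type} [Finite ι] (a : ι → S) (b : Module.Basis ι S Ω[S⁄k])
    (hb : ∀ i, b i = D k S (a i)) :
    (MvPolynomial.aeval a : MvPolynomial ι k →ₐ[k] S).toRingHom.Etale := by
  letI : Algebra (MvPolynomial ι k) S := (MvPolynomial.aeval a : MvPolynomial ι k →ₐ[k] S).toRingHom.toAlgebra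
  haveI : IsScalarTower k (MvPolynomial ι k) S :=
    IsScalarTower.of_algebraMap_eq' (MvPolynomial.aeval a : MvPolynomial ι k →ₐ[k] S).comp_algebraMap.symm
  have hX : ∀ i, algebraMap (MvPolynomial ι k) S (MvPolynomial.X i) = a i := fun i =>
    MvPolynomial.aeval_X a i
  let b₀ : Module.Basis ι S (S ⊗[MvPolynomial ι k] Ω[MvPolynomial ι k⁄k]) :=
    (KaehlerDifferential.mvPolynomialBasis k ι).baseChange S
  have hb₀ : ∀ i, mapBaseChange k (MvPolynomial ι k) S (b₀ i) = b i := by
    intro i
    rw [hb i, ← hX i]
    simp [b₀, Module.Basis.baseChange_apply]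
  have hφ : mapBaseChange k (MvPolynomial ι k) S = (b₀.equiv b (Equiv.refl ι)).toLinearMap := by
    apply b₀.ext
    intro i
    rw [hb₀ i]
    simp
  have hbij : Function.Bijective (mapBaseChange k (MvPolynomial ι k) S) := by
    rw [hφ]; exact (b₀.equiv b (Equiv.refl ι)).bijective
  haveI : Algebra.FormallyEtale (MvPolynomial ι k) S :=
    (Groth.Agent.Helper1.JZ.formallyEtale_iff_bijective k (MvPolynomial ι k) S).mpr hbij
  haveI : Algebra.FinitePresentation (MvPolynomial ι k) S :=
    Algebra.FinitePresentation.of_restrict_scalars_finitePresentation k (MvPolynomial ι k) S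
  show Algebra.Etale (MvPolynomial ι k) S
  exact { }

set_option backward.isDefEq.respectTransparency.types false in
/-- spreading out a prescribed basis of differentials -/
theorem exists_basis_away {k S : Type u} [CommRing k] [CommRing S] [Algebra k S]
    [Algebra.FinitePresentation k S] (p : Ideal S) [p.IsPrime] {ι : Type} [Finite ι] (a : ι → S)
    (h : Function.Bijective (Finsupp.linearCombination (Localization.AtPrime p)
        (fun i => D k (Localization.AtPrime p) (algebraMap S (Localization.AtPrime p) (a i)))))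
    (g₂ : S) (hg₂ : g₂ ∉ p) :
    ∃ g : S, g ∉ p ∧ g₂ ∣ g ∧
      ∃ b : Module.Basis ι (Localization.Away g) Ω[Localization.Away g⁄k],
      ∀ i, b i = D k (Localization.Away g) (algebraMap S (Localization.Away g) (a i)) := by
  let e : (ι →₀ S) →ₗ[S] Ω[S⁄k] := Finsupp.linearCombination S fun i : ι ↦ D k S (a i)
  let l₁ : (ι →₀ S) →ₗ[S] (ι →₀ Localization.AtPrime p) :=
    Finsupp.mapRange.linearMap (Algebra.linearMap S (Localization.AtPrime p))
  let l₂ : Ω[S⁄k] →ₗ[S] Ω[Localization.AtPrime p⁄k] := map k k S (Localization.AtPrime p)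
  let eₚ : (ι →₀ Localization.AtPrime p) →ₗ[Localization.AtPrime p] Ω[Localization.AtPrime p⁄k] :=
    IsLocalizedModule.mapExtendScalars p.primeCompl l₁ l₂ (Localization.AtPrime p) e
  have : eₚ = Finsupp.linearCombination (Localization.AtPrime p)
        (fun i => D k (Localization.AtPrime p) (algebraMap S (Localization.AtPrime p) (a i))) := by
    ext i
    trans IsLocalizedModule.map p.primeCompl l₁ l₂ e <| l₁ <| Finsupp.single i 1
    · simp [eₚ, -IsLocalizedModule.map_apply, l₁]
    · simp [l₂, e]
  have heₚ : Function.Bijective eₚ := this ▸ h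
  obtain ⟨r, hr, hr'⟩ := exists_bijective_map_powers p.primeCompl l₁ l₂ e heₚ
  obtain ⟨g, hgdef⟩ : ∃ g, g = r * g₂ := ⟨_, rfl⟩
  have hg : g ∉ p := by
    rw [hgdef]
    exact fun hmem => (Ideal.IsPrime.mem_or_mem inferInstance hmem).elim hr hg₂
  have h := hr' g (hgdef ▸ dvd_mul_right r g₂)
  let l₁ₜ : (ι →₀ S) →ₗ[S] (ι →₀ Localization.Away g) :=
    Finsupp.mapRange.linearMap (Algebra.linearMap S _)
  let l₂ₜ : Ω[S⁄k] →ₗ[S] Ω[Localization.Away g⁄k] :=
    map k k S (Localization.Away g)
  rw [← IsLocalizedModule.map_bijective_iff_localizedModuleMap_bijective l₁ₜ l₂ₜ] at h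
  let eₜ' : (ι →₀ Localization.Away g) →ₗ[Localization.Away g] Ω[Localization.Away g⁄k] :=
    IsLocalizedModule.mapExtendScalars (Submonoid.powers g) l₁ₜ l₂ₜ (Localization.Away g) e
  refine ⟨g, hg, hgdef ▸ dvd_mul_left g₂ r, .ofRepr (LinearEquiv.ofBijective eₜ' h).symm, ?_⟩
  intro i
  simp +zetaDelta [IsLocalizedModule.map_linearCombination]

/-- the fibre dimension of differentials computed over `R ⧸ m` or over the residue field of `R_m` -/
theorem finrank_fibre (k R : Type u) [CommRing k] [CommRing R] [Algebra k R] (m : Ideal R)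
    [m.IsMaximal] :
    Module.finrank m.ResidueField
        (m.ResidueField ⊗[Localization.AtPrime m] Ω[Localization.AtPrime m⁄k]) =
      Module.finrank (R ⧸ m) ((R ⧸ m) ⊗[R] Ω[R⁄k]) := by
  letI : Field (R ⧸ m) := Ideal.Quotient.field m
  let e1 : m.ResidueField ⊗[R ⧸ m] ((R ⧸ m) ⊗[R] Ω[R⁄k]) ≃ₗ[m.ResidueField]
      m.ResidueField ⊗[R] Ω[R⁄k] :=
    TensorProduct.AlgebraTensorModule.cancelBaseChange R (R ⧸ m) m.ResidueField m.ResidueField _
  let e2 : m.ResidueField ⊗[Localization.AtPrime m] (Localization.AtPrime m ⊗[R] Ω[R⁄k])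
      ≃ₗ[m.ResidueField] m.ResidueField ⊗[R] Ω[R⁄k] :=
    TensorProduct.AlgebraTensorModule.cancelBaseChange R (Localization.AtPrime m)
      m.ResidueField m.ResidueField _
  let e3 : m.ResidueField ⊗[Localization.AtPrime m] (Localization.AtPrime m ⊗[R] Ω[R⁄k])
      ≃ₗ[m.ResidueField] m.ResidueField ⊗[Localization.AtPrime m] Ω[Localization.AtPrime m⁄k] :=
    TensorProduct.AlgebraTensorModule.congr (LinearEquiv.refl m.ResidueField m.ResidueField)
      (tensorKaehlerEquivOfFormallyEtale k R (Localization.AtPrime m))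
  rw [← e3.finrank_eq, e2.finrank_eq, ← e1.finrank_eq, Module.finrank_baseChange]

section delta

variable (k R : Type u) [CommRing k] [CommRing R] [Algebra k R] (m : Ideal R) [m.IsPrime]

/-- the map `a ↦ 1 ⊗ d(a/1)` into the fibre of the differentials -/
noncomputable def delta (a : R) :
    m.ResidueField ⊗[Localization.AtPrime m] Ω[Localization.AtPrime m⁄k] :=
  (1 : m.ResidueField) ⊗ₜ[Localization.AtPrime m]
    D k (Localization.AtPrime m) (algebraMap R (Localization.AtPrime m) a)

lemma delta_add (a b : R) : delta k R m (a + b) = delta k R m a + delta k R m b := by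
  simp [delta, tmul_add]

lemma delta_smul (a : R) (ω : Ω[Localization.AtPrime m⁄k]) :
    (1 : m.ResidueField) ⊗ₜ[Localization.AtPrime m] (algebraMap R (Localization.AtPrime m) a • ω) =
      algebraMap R m.ResidueField a • ((1 : m.ResidueField) ⊗ₜ[Localization.AtPrime m] ω) := by
  rw [← smul_tmul, smul_tmul', Algebra.smul_def, mul_one, smul_eq_mul, mul_one,
    ← IsScalarTower.algebraMap_apply]

lemma delta_mul (a b : R) : delta k R m (a * b) =
    algebraMap R m.ResidueField a • delta k R m b +
      algebraMap R m.ResidueField b • delta k R m a := by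
  simp only [delta, map_mul, Derivation.leibniz, tmul_add, delta_smul]

lemma delta_pow_eq_zero (x : R) (h : delta k R m x = 0) (j : ℕ) : delta k R m (x ^ j) = 0 := by
  induction j with
  | zero => simp [delta]
  | succ j ih => rw [pow_succ, delta_mul, ih, h, smul_zero, smul_zero, add_zero]

lemma span_delta : Submodule.span m.ResidueField (Set.range (delta k R m)) = ⊤ := by
  rw [eq_top_iff]
  rintro t -
  induction t using TensorProduct.induction_on with
  | zero => exact zero_mem _
  | add x y hx hy => exact add_mem hx hy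
  | tmul c ω =>
    have hω : ω ∈ Submodule.span (Localization.AtPrime m)
        (Set.range fun a : R => D k (Localization.AtPrime m)
          (algebraMap R (Localization.AtPrime m) a)) := by
      have h1 := span_range_map_derivation_of_isLocalization k R (Localization.AtPrime m)
        m.primeCompl
      have h2 : (⇑(map k k R (Localization.AtPrime m)) ∘ ⇑(D k R)) =
          fun a : R => D k (Localization.AtPrime m) (algebraMap R (Localization.AtPrime m) a) := by
        ext a; simp
      rw [h2] at h1
      rw [h1]; trivial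
    have h3 : c ⊗ₜ[Localization.AtPrime m] ω =
        c • ((1 : m.ResidueField) ⊗ₜ[Localization.AtPrime m] ω) := by
      rw [smul_tmul', smul_eq_mul, mul_one]
    rw [h3]
    refine Submodule.smul_mem _ _ ?_
    clear h3
    induction hω using Submodule.span_induction with
    | mem x hx =>
      obtain ⟨a, rfl⟩ := hx
      exact Submodule.subset_span ⟨a, rfl⟩
    | zero => simp
    | add x y _ _ hx hy => rw [tmul_add]; exact add_mem hx hy
    | smul r x _ hx =>
      have h4 : (1 : m.ResidueField) ⊗ₜ[Localization.AtPrime m] (r • x) =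
          algebraMap (Localization.AtPrime m) m.ResidueField r •
            ((1 : m.ResidueField) ⊗ₜ[Localization.AtPrime m] x) := by
        rw [← smul_tmul, smul_tmul', Algebra.smul_def, mul_one, smul_eq_mul, mul_one]
      rw [h4]
      exact Submodule.smul_mem _ _ hx

end delta

theorem exists_family (k R : Type u) [CommRing k] [CommRing R] [Algebra k R] (m : Ideal R)
    [m.IsMaximal] [Finite m.ResidueField]
    [Module.Finite m.ResidueField
      (m.ResidueField ⊗[Localization.AtPrime m] Ω[Localization.AtPrime m⁄k])]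
    (r : ℕ) (hr : Module.finrank m.ResidueField
      (m.ResidueField ⊗[Localization.AtPrime m] Ω[Localization.AtPrime m⁄k]) = r)
    (hpos : 0 < r) :
    ∃ (a : Fin r → R) (i₀ : Fin r),
      LinearIndependent m.ResidueField (fun i => delta k R m (a i)) ∧
      Submodule.span m.ResidueField (Set.range fun i => delta k R m (a i)) = ⊤ ∧
      ∀ y : m.ResidueField, y = 0 ∨ ∃ j : ℕ, y = algebraMap R m.ResidueField (a i₀) ^ j := by
  classical
  -- generator of the unit group
  obtain ⟨θ, hθ⟩ := IsCyclic.exists_monoid_generator (α := (m.ResidueField)ˣ)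
  obtain ⟨θ', hθ'⟩ := Ideal.algebraMap_residueField_surjective m (θ : m.ResidueField)
  have hgen : ∀ (x : R), algebraMap R m.ResidueField x = θ →
      ∀ y : m.ResidueField, y = 0 ∨ ∃ j : ℕ, y = algebraMap R m.ResidueField x ^ j := by
    intro x hx y
    by_cases hy : y = 0
    · exact Or.inl hy
    · right
      obtain ⟨j, hj⟩ := (Submonoid.mem_powers_iff _ _).mp (hθ (Units.mk0 y hy))
      refine ⟨j, ?_⟩
      rw [hx, ← Units.val_pow_eq_pow_val, hj]
      rfl
  -- an element with residue θ and nonzero differential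
  obtain ⟨x₁, hx₁θ, hx₁δ⟩ : ∃ x₁ : R, algebraMap R m.ResidueField x₁ = θ ∧ delta k R m x₁ ≠ 0 := by
    by_cases h0 : delta k R m θ' ≠ 0
    · exact ⟨θ', hθ', h0⟩
    · push Not at h0
      by_cases hz : ∃ z ∈ m, delta k R m z ≠ 0
      · obtain ⟨z, hzm, hzδ⟩ := hz
        refine ⟨θ' + z, ?_, ?_⟩
        · rw [map_add, hθ', Ideal.algebraMap_residueField_eq_zero.mpr hzm, add_zero]
        · rw [delta_add, h0, zero_add]; exact hzδ
      · exfalso
        push Not at hz
        have hall : ∀ a : R, delta k R m a = 0 := by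
          intro a
          rcases hgen θ' hθ' (algebraMap R m.ResidueField a) with ha | ⟨j, hj⟩
          · exact hz a (Ideal.algebraMap_residueField_eq_zero.mp ha)
          · have hmem : a - θ' ^ j ∈ m := by
              rw [← Ideal.algebraMap_residueField_eq_zero, map_sub, map_pow, hj, sub_self]
            have : a = θ' ^ j + (a - θ' ^ j) := by ring
            rw [this, delta_add, delta_pow_eq_zero k R m θ' h0, hz _ hmem, add_zero]
        have hsp := span_delta k R m
        have hr0 : Set.range (delta k R m) ⊆ {0} := by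
          rintro _ ⟨a, rfl⟩; exact hall a
        have hbot : (⊤ : Submodule m.ResidueField
            (m.ResidueField ⊗[Localization.AtPrime m] Ω[Localization.AtPrime m⁄k])) = ⊥ := by
          rw [← hsp, Submodule.span_eq_bot]
          intro x hx; exact hr0 hx
        have : Module.finrank m.ResidueField
            (m.ResidueField ⊗[Localization.AtPrime m] Ω[Localization.AtPrime m⁄k]) = 0 := by
          rw [← finrank_top, hbot, finrank_bot]
        omega
  -- extend to a basis
  have hs : LinearIndepOn m.ResidueField (delta k R m) ({x₁} : Set R) :=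
    (linearIndepOn_singleton_iff _).mpr hx₁δ
  obtain ⟨b, -, hsb, hspan, hli⟩ := exists_linearIndepOn_extension hs (Set.subset_univ _)
  have hspan' : Submodule.span m.ResidueField (Set.range fun x : b => delta k R m x) = ⊤ := by
    rw [eq_top_iff, ← span_delta k R m, Submodule.span_le]
    have : (Set.range fun x : b => delta k R m x) = delta k R m '' b := by
      ext y; simp
    rw [this]
    rw [Set.image_univ] at hspan
    exact hspan
  let B : Module.Basis b m.ResidueField
      (m.ResidueField ⊗[Localization.AtPrime m] Ω[Localization.AtPrime m⁄k]) :=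
    Module.Basis.mk hli hspan'.ge
  haveI : Finite b := Module.Finite.finite_basis B
  haveI : Fintype b := Fintype.ofFinite b
  have hcard : Fintype.card b = r := by
    rw [← hr, Module.finrank_eq_card_basis B]
  let e : b ≃ Fin r := Fintype.equivFinOfCardEq hcard
  refine ⟨fun i => (e.symm i : R), e ⟨x₁, hsb rfl⟩, ?_, ?_, ?_⟩
  · exact hli.comp e.symm e.symm.injective
  · rw [← hspan']
    congr 1
    ext y
    constructor
    · rintro ⟨i, rfl⟩; exact ⟨e.symm i, rfl⟩
    · rintro ⟨x, rfl⟩; exact ⟨e x, by simp⟩
  · simp only [Equiv.symm_apply_apply]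
    exact hgen x₁ hx₁θ

theorem main
    (k : Type u) [CommRing k] [IsLocalRing k] [Finite (IsLocalRing.ResidueField k)]
    (R : Type u) [CommRing R] [Algebra k R] [Algebra.FinitePresentation k R]
    (m : Ideal R) [m.IsMaximal] (hm : m.comap (algebraMap k R) = IsLocalRing.maximalIdeal k)
    [Algebra.IsSmoothAt k m] (d : ℕ) (hd : 0 < d)
    (hdim : Module.finrank (R ⧸ m) ((R ⧸ m) ⊗[R] Ω[R⁄k]) = d) :
    ∃ g : R, g ∉ m ∧ ∃ φ : MvPolynomial (Fin d) k →ₐ[k] Localization.Away g,
      φ.toRingHom.Etale ∧
      Function.Surjective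
        ((Ideal.Quotient.mk (m.map (algebraMap R (Localization.Away g)))).comp φ.toRingHom) := by
  -- finiteness of the residue field
  haveI : m.LiesOver (IsLocalRing.maximalIdeal k) := ⟨hm.symm⟩
  letI : Field (R ⧸ m) := Ideal.Quotient.field m
  letI : Field (k ⧸ IsLocalRing.maximalIdeal k) := Ideal.Quotient.field _
  haveI : Algebra.FiniteType (k ⧸ IsLocalRing.maximalIdeal k) (R ⧸ m) :=
    Algebra.FiniteType.of_restrictScalars_finiteType k _ _
  haveI : Module.Finite (k ⧸ IsLocalRing.maximalIdeal k) (R ⧸ m) :=
    finite_of_finite_type_of_isJacobsonRing _ _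
  haveI : Finite (k ⧸ IsLocalRing.maximalIdeal k) := ‹Finite (IsLocalRing.ResidueField k)›
  haveI : Finite (R ⧸ m) := Module.finite_of_finite (k ⧸ IsLocalRing.maximalIdeal k)
  haveI : Finite m.ResidueField := inferInstance
  -- the fibre
  have hr := finrank_fibre k R m
  rw [hdim] at hr
  obtain ⟨a, i₀, hli, hsp, hgen⟩ := exists_family k R m d hr hd
  -- bijectivity over the local ring
  have hbij : Function.Bijective (Finsupp.linearCombination (Localization.AtPrime m)
      (fun i => D k (Localization.AtPrime m) (algebraMap R (Localization.AtPrime m) (a i)))) := by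
    apply Module.IsLocalRing.linearCombination_bijective_of_flat
    constructor
    · exact hli
    · rw [← LinearMap.range_eq_top, Finsupp.range_linearCombination]
      exact hsp
  -- smooth neighbourhood
  obtain ⟨g₂, hg₂, hsm⟩ := Algebra.IsSmoothAt.exists_notMem_smooth k m
  obtain ⟨g, hg, hdvd, b, hb⟩ := exists_basis_away m a hbij g₂ hg₂
  haveI : Algebra.Smooth k (Localization.Away g) := by
    rw [← Algebra.basicOpen_subset_smoothLocus_iff_smooth] at hsm ⊢
    refine subset_trans ?_ hsm
    obtain ⟨c, rfl⟩ := hdvd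
    intro x hx
    simp only [PrimeSpectrum.basicOpen_mul, SetLike.mem_coe] at hx ⊢
    exact hx.1
  have het := etale_of_basis (fun i => algebraMap R (Localization.Away g) (a i)) b hb
  refine ⟨g, hg, MvPolynomial.aeval (fun i => algebraMap R (Localization.Away g) (a i)), het, ?_⟩
  let Rg := Localization.Away g
  let π := Ideal.Quotient.mk (m.map (algebraMap R Rg))
  have hπm : ∀ x ∈ m, π (algebraMap R Rg x) = 0 := fun x hx =>
    Ideal.Quotient.eq_zero_iff_mem.mpr (Ideal.mem_map_of_mem _ hx)
  -- every class comes from `R`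
  have h1 : ∀ y, ∃ r : R, π (algebraMap R Rg r) = y := by
    intro y
    obtain ⟨z, rfl⟩ := Ideal.Quotient.mk_surjective y
    obtain ⟨⟨r, ⟨_, n, rfl⟩⟩, hz⟩ := IsLocalization.surj (Submonoid.powers g) z
    obtain ⟨g', i, hi, hgi⟩ := Ideal.IsMaximal.exists_inv (I := m) inferInstance hg
    have h2 : π (algebraMap R Rg (g' * g)) = 1 := by
      have : g' * g = 1 - i := by rw [← hgi]; ring
      rw [this, map_sub, map_sub, map_one, map_one, hπm i hi, sub_zero]
    have h3 : π (algebraMap R Rg ((g' * g) ^ n)) = 1 := by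
      rw [map_pow, map_pow, h2, one_pow]
    refine ⟨r * g' ^ n, ?_⟩
    have hz' : z * algebraMap R Rg (g ^ n) = algebraMap R Rg r := hz
    calc π (algebraMap R Rg (r * g' ^ n))
        = π (z * algebraMap R Rg (g ^ n) * algebraMap R Rg (g' ^ n)) := by
          rw [map_mul (algebraMap R Rg), hz']
      _ = π z * π (algebraMap R Rg ((g' * g) ^ n)) := by
          rw [mul_pow, map_mul (algebraMap R Rg) (g' ^ n), map_mul, map_mul, map_mul]; ring
      _ = π z := by rw [h3, mul_one]
  intro y
  obtain ⟨r, rfl⟩ := h1 y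
  rcases hgen (algebraMap R m.ResidueField r) with h0 | ⟨j, hj⟩
  · refine ⟨0, ?_⟩
    rw [map_zero]
    exact (hπm r (Ideal.algebraMap_residueField_eq_zero.mp h0)).symm
  · refine ⟨MvPolynomial.X i₀ ^ j, ?_⟩
    have hmem : r - a i₀ ^ j ∈ m := by
      rw [← Ideal.algebraMap_residueField_eq_zero, map_sub, map_pow, hj, sub_self]
    have h4 := hπm _ hmem
    rw [map_sub, map_sub, sub_eq_zero] at h4
    rw [h4]
    simp [π]
    rfl

end Groth.Agent.Helper3.EtChart
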