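import Mathlib
import Groth.Agent.Helper3.EtChart

open TensorProduct KaehlerDifferential

namespace Groth.Agent.Helper3.EtSlice

universe u

/-- the quotient of an étale chart by the coordinate functions is étale over the base -/
theorem etale_quotient {R S : Type u} [CommRing R] [CommRing S] [Algebra R S] {ι : Type}
    [Finite ι] (a : ι → S)
    (h : (MvPolynomial.aeval a : MvPolynomial ι R →ₐ[R] S).toRingHom.Etale) :
    Algebra.Etale R (S ⧸ Ideal.span (Set.range a)) := by
  letI : Algebra (MvPolynomial ι R) S :=
    (MvPolynomial.aeval a : MvPolynomial ι R →ₐ[R] S).toRingHom.toAlgebra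
  haveI : IsScalarTower R (MvPolynomial ι R) S :=
    IsScalarTower.of_algebraMap_eq'
      (MvPolynomial.aeval a : MvPolynomial ι R →ₐ[R] S).comp_algebraMap.symm
  haveI : Algebra.Etale (MvPolynomial ι R) S := h
  have hX : ∀ i, algebraMap (MvPolynomial ι R) S (MvPolynomial.X i) = a i := fun i =>
    MvPolynomial.aeval_X a i
  let I : Ideal (MvPolynomial ι R) := MvPolynomial.idealOfVars ι R
  have hI : I.map (algebraMap (MvPolynomial ι R) S) = Ideal.span (Set.range a) := by
    rw [Ideal.map_span, ← Set.range_comp]
    congr 1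
    ext y
    simp [hX]
  rw [← hI]
  let e2 : ((MvPolynomial ι R ⧸ I) ⊗[MvPolynomial ι R] S) ≃ₐ[MvPolynomial ι R ⧸ I]
      (S ⧸ I.map (algebraMap (MvPolynomial ι R) S)) :=
    (Algebra.TensorProduct.quotIdealMapEquivQuotTensor S I).symm
  haveI h2 : Algebra.Etale (MvPolynomial ι R ⧸ I) (S ⧸ I.map (algebraMap (MvPolynomial ι R) S)) :=
    Algebra.Etale.of_equiv (A := (MvPolynomial ι R ⧸ I) ⊗[MvPolynomial ι R] S) e2
  have hbij : Function.Bijective (algebraMap R (MvPolynomial ι R ⧸ I)) := by
    constructor
    · rw [injective_iff_map_eq_zero]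
      intro r hr
      rw [IsScalarTower.algebraMap_apply R (MvPolynomial ι R) (MvPolynomial ι R ⧸ I),
        Ideal.Quotient.algebraMap_eq, Ideal.Quotient.eq_zero_iff_mem] at hr
      have h3 : MvPolynomial.C r ∈ MvPolynomial.idealOfVars ι R ^ 1 := by
        rw [pow_one]; exact hr
      rcases (MvPolynomial.C_mem_pow_idealOfVars_iff 1 r).mp h3 with h | h
      · exact h
      · exact absurd h one_ne_zero
    · intro y
      obtain ⟨p, rfl⟩ := Ideal.Quotient.mk_surjective y
      refine ⟨MvPolynomial.constantCoeff p, ?_⟩
      rw [IsScalarTower.algebraMap_apply R (MvPolynomial ι R) (MvPolynomial ι R ⧸ I),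
        Ideal.Quotient.algebraMap_eq, Ideal.Quotient.eq]
      have h3 : MvPolynomial.C (MvPolynomial.constantCoeff p) - p ∈
          MvPolynomial.idealOfVars ι R ^ 1 := by
        rw [MvPolynomial.mem_pow_idealOfVars_iff']
        intro x hx
        have hx0 : x = 0 := by
          have : Finsupp.degree x = 0 := by omega
          exact (Finsupp.degree_eq_zero_iff x).mp this
        subst hx0
        simp [MvPolynomial.constantCoeff_eq]
      rw [pow_one] at h3
      exact h3
  haveI h3 : Algebra.Etale R (MvPolynomial ι R ⧸ I) :=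
    Algebra.Etale.of_equiv (AlgEquiv.ofBijective (Algebra.ofId R _) hbij)
  haveI : IsScalarTower R (MvPolynomial ι R ⧸ I) (S ⧸ I.map (algebraMap (MvPolynomial ι R) S)) := by
    refine IsScalarTower.of_algebraMap_eq (R := R) (S := MvPolynomial ι R ⧸ I)
      (A := S ⧸ I.map (algebraMap (MvPolynomial ι R) S)) (fun r => ?_)
    rw [IsScalarTower.algebraMap_apply R (MvPolynomial ι R) (MvPolynomial ι R ⧸ I),
      Ideal.Quotient.algebraMap_eq, Ideal.Quotient.algebraMap_quotient_map_quotient,
      IsScalarTower.algebraMap_apply R S (S ⧸ I.map (algebraMap (MvPolynomial ι R) S)),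
      Ideal.Quotient.algebraMap_eq, ← IsScalarTower.algebraMap_apply]
  exact Algebra.Etale.comp R (MvPolynomial ι R ⧸ I) (S ⧸ I.map (algebraMap (MvPolynomial ι R) S))

/-- the separability criterion gives spanning by differentials of elements of `q` -/
theorem span_delta_of_sep (R B : Type u) [CommRing R] [CommRing B] [Algebra R B] (q : Ideal B)
    [q.IsPrime]
    (hsep : ∀ b : B, ∃ P : Polynomial R, Polynomial.aeval b P ∈ q ∧
      Polynomial.aeval b (Polynomial.derivative P) ∉ q) :
    Submodule.span q.ResidueField (EtChart.delta R B q '' (q : Set B)) = ⊤ := by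
  rw [eq_top_iff, ← EtChart.span_delta R B q, Submodule.span_le]
  rintro _ ⟨b, rfl⟩
  obtain ⟨P, hP, hP'⟩ := hsep b
  have h1 : EtChart.delta R B q (Polynomial.aeval b P) =
      algebraMap B q.ResidueField (Polynomial.aeval b (Polynomial.derivative P)) •
        EtChart.delta R B q b := by
    unfold EtChart.delta
    rw [← Polynomial.aeval_algebraMap_apply, Derivation.map_aeval,
      Polynomial.aeval_algebraMap_apply, EtChart.delta_smul]
  have hc : algebraMap B q.ResidueField (Polynomial.aeval b (Polynomial.derivative P)) ≠ 0 := by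
    rw [Ne, Ideal.algebraMap_residueField_eq_zero]; exact hP'
  have h2 : EtChart.delta R B q b =
      (algebraMap B q.ResidueField (Polynomial.aeval b (Polynomial.derivative P)))⁻¹ •
        EtChart.delta R B q (Polynomial.aeval b P) := by
    rw [h1, smul_smul, inv_mul_cancel₀ hc, one_smul]
  rw [SetLike.mem_coe, h2]
  exact Submodule.smul_mem _ _ (Submodule.subset_span ⟨_, hP, rfl⟩)


/-- ring-level étale slice -/
theorem slice (R B : Type u) [CommRing R] [CommRing B] [Algebra R B]
    [Algebra.FinitePresentation R B] (q : Ideal B) [q.IsPrime] [Algebra.IsSmoothAt R q]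
    (hsp : Submodule.span q.ResidueField (EtChart.delta R B q '' (q : Set B)) = ⊤) :
    ∃ (f : B) (_ : f ∉ q) (I : Ideal (Localization.Away f)),
      I ≤ q.map (algebraMap B (Localization.Away f)) ∧
        Algebra.Etale R (Localization.Away f ⧸ I) := by
  classical
  have hs : LinearIndepOn q.ResidueField (EtChart.delta R B q) (∅ : Set B) := linearIndepOn_empty _ _
  obtain ⟨b, hbq, -, hspan, hlib⟩ := exists_linearIndepOn_extension hs (Set.empty_subset (q : Set B))
  have hspan' : Submodule.span q.ResidueField (Set.range fun x : b => EtChart.delta R B q x) = ⊤ := by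
    have h1 : (Set.range fun x : b => EtChart.delta R B q x) = EtChart.delta R B q '' b := by
      ext y; simp
    rw [h1, eq_top_iff, ← hsp, Submodule.span_le]
    exact hspan
  let 𝓑 : Module.Basis b q.ResidueField
      (q.ResidueField ⊗[Localization.AtPrime q] Ω[Localization.AtPrime q⁄R]) :=
    Module.Basis.mk hlib hspan'.ge
  haveI : Finite b := Module.Finite.finite_basis 𝓑
  haveI : Fintype b := Fintype.ofFinite b
  let e : b ≃ Fin (Fintype.card b) := Fintype.equivFin b
  let a : Fin (Fintype.card b) → B := fun i => (e.symm i : B)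
  have haq : ∀ i, a i ∈ q := fun i => hbq (e.symm i).2
  have hlia : LinearIndependent q.ResidueField (fun i => EtChart.delta R B q (a i)) :=
    hlib.comp e.symm e.symm.injective
  have hspa : Submodule.span q.ResidueField (Set.range fun i => EtChart.delta R B q (a i)) = ⊤ := by
    rw [← hspan']
    congr 1
    ext y
    constructor
    · rintro ⟨i, rfl⟩; exact ⟨e.symm i, rfl⟩
    · rintro ⟨x, rfl⟩; exact ⟨e x, by simp [a]⟩
  have hbij : Function.Bijective (Finsupp.linearCombination (Localization.AtPrime q)
      (fun k => D R (Localization.AtPrime q) (algebraMap B (Localization.AtPrime q) (a k)))) := by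
    apply Module.IsLocalRing.linearCombination_bijective_of_flat
    constructor
    · exact hlia
    · rw [← LinearMap.range_eq_top, Finsupp.range_linearCombination]
      exact hspa
  obtain ⟨g₂, hg₂, hsm⟩ := Algebra.IsSmoothAt.exists_notMem_smooth R q
  obtain ⟨f, hf, hdvd, bb, hbb⟩ := EtChart.exists_basis_away q a hbij g₂ hg₂
  haveI : Algebra.Smooth R (Localization.Away f) := by
    rw [← Algebra.basicOpen_subset_smoothLocus_iff_smooth] at hsm ⊢
    refine subset_trans ?_ hsm
    obtain ⟨c, rfl⟩ := hdvd
    intro x hx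
    simp only [PrimeSpectrum.basicOpen_mul, SetLike.mem_coe] at hx ⊢
    exact hx.1
  have het := EtChart.etale_of_basis (fun k => algebraMap B (Localization.Away f) (a k)) bb hbb
  refine ⟨f, hf, Ideal.span (Set.range fun k => algebraMap B (Localization.Away f) (a k)), ?_,
    etale_quotient _ het⟩
  rw [Ideal.span_le]
  rintro _ ⟨i, rfl⟩
  exact Ideal.mem_map_of_mem _ (haq i)


end Groth.Agent.Helper3.EtSlice
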