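import Mathlib
import Groth.Agent.Helper3.EtSlice

open CategoryTheory CategoryTheory.Limits AlgebraicGeometry Opposite TensorProduct

namespace Groth.Agent.Helper3.EtSliceSch

universe u

open Polynomial in
/-- clearing denominators of a polynomial over a "fraction-like" field -/
theorem exists_poly_lift {R K : Type*} [CommRing R] [Field K] (ev : R →+* K)
    (h : ∀ c : K, ∃ n t : R, ev t ≠ 0 ∧ ev t * c = ev n) (Pb : Polynomial K) :
    ∃ (P : Polynomial R) (t : R), ev t ≠ 0 ∧ P.map ev = C (ev t) * Pb := by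
  induction Pb using Polynomial.induction_on' with
  | add p q hp hq =>
    obtain ⟨P₁, t₁, ht₁, h₁⟩ := hp
    obtain ⟨P₂, t₂, ht₂, h₂⟩ := hq
    refine ⟨C t₂ * P₁ + C t₁ * P₂, t₁ * t₂, ?_, ?_⟩
    · rw [map_mul]; exact mul_ne_zero ht₁ ht₂
    · rw [Polynomial.map_add, Polynomial.map_mul, Polynomial.map_mul, Polynomial.map_C,
        Polynomial.map_C, h₁, h₂, map_mul, map_mul]
      ring
  | monomial n c =>
    obtain ⟨m, t, ht, hc⟩ := h c
    refine ⟨monomial n m, t, ht, ?_⟩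
    rw [Polynomial.map_monomial, C_mul_monomial, hc]

open Polynomial in
/-- the separability criterion in terms of evaluation maps -/
theorem sep_criterion {R B K L : Type*} [CommRing R] [CommRing B] [Field K] [Field L]
    [Algebra R B] [Algebra K L] [Algebra.IsSeparable K L]
    (evR : R →+* K) (evB : B →+* L)
    (hcomp : ∀ r, evB (algebraMap R B r) = algebraMap K L (evR r))
    (hK : ∀ c : K, ∃ n t : R, evR t ≠ 0 ∧ evR t * c = evR n) (q : Ideal B)
    (hq : ∀ b, evB b = 0 ↔ b ∈ q) (b : B) :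
    ∃ P : Polynomial R, aeval b P ∈ q ∧ aeval b (derivative P) ∉ q := by
  have hsep : (minpoly K (evB b)).Separable := Algebra.IsSeparable.isSeparable K (evB b)
  obtain ⟨P, t, ht, hP⟩ := exists_poly_lift evR hK (minpoly K (evB b))
  have hcomp' : evB.comp (algebraMap R B) = (algebraMap K L).comp evR := RingHom.ext hcomp
  have key : ∀ Q : Polynomial R, evB (aeval b Q) = aeval (evB b) (Q.map evR) := by
    intro Q
    rw [aeval_def, Polynomial.hom_eval₂, hcomp', aeval_def, Polynomial.eval₂_map]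
  refine ⟨P, ?_, ?_⟩
  · rw [← hq, key, hP, map_mul, minpoly.aeval, mul_zero]
  · rw [← hq, key, ← Polynomial.derivative_map, hP, Polynomial.derivative_C_mul, map_mul,
      aeval_C]
    refine mul_ne_zero ?_ (hsep.aeval_derivative_ne_zero (minpoly.aeval _ _))
    rw [Ne, map_eq_zero]
    exact ht

/-- elements of the residue field of a point in an affine open are fractions of sections -/
theorem residueField_fraction {S : Scheme.{u}} {U : S.Opens} (hU : IsAffineOpen U) (s : S)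
    (hs : s ∈ U) (c : S.residueField s) :
    ∃ n t : Γ(S, U), (S.evaluation U s hs).hom t ≠ 0 ∧
      (S.evaluation U s hs).hom t * c = (S.evaluation U s hs).hom n := by
  obtain ⟨γ, rfl⟩ := S.residue_surjective s c
  have hloc := hU.isLocalization_stalk ⟨s, hs⟩
  letI := TopCat.Presheaf.algebra_section_stalk S.presheaf (⟨s, hs⟩ : U)
  obtain ⟨⟨n, t⟩, h⟩ := IsLocalization.surj (hU.primeIdealOf ⟨s, hs⟩).asIdeal.primeCompl γ
  have hu : IsUnit (algebraMap Γ(S, U) (S.presheaf.stalk s) t) :=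
    IsLocalization.map_units (S.presheaf.stalk s) t
  refine ⟨n, t, ?_, ?_⟩
  · have h1 : (S.evaluation U s hs).hom t =
        (S.residue s).hom (algebraMap Γ(S, U) (S.presheaf.stalk s) t) := rfl
    rw [h1]
    exact (hu.map (S.residue s).hom).ne_zero
  · have h1 : ∀ y, (S.evaluation U s hs).hom y =
        (S.residue s).hom (algebraMap Γ(S, U) (S.presheaf.stalk s) y) := fun _ => rfl
    rw [h1, h1, ← h, map_mul, mul_comm]


theorem mem_primeIdealOf_iff {X : Scheme.{u}} {V : X.Opens} (hV : IsAffineOpen V) (x : X)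
    (hxV : x ∈ V) (b : Γ(X, V)) :
    (X.evaluation V x hxV).hom b = 0 ↔ b ∈ (hV.primeIdealOf ⟨x, hxV⟩).asIdeal := by
  have h1 : (X.evaluation V x hxV).hom b = 0 ↔ x ∉ X.basicOpen b :=
    Scheme.evaluation_eq_zero_iff_notMem_basicOpen X x hxV b
  rw [h1, not_iff_comm]
  rw [← PrimeSpectrum.mem_basicOpen, ← hV.fromSpec_preimage_basicOpen]
  show hV.fromSpec (hV.primeIdealOf ⟨x, hxV⟩) ∈ X.basicOpen b ↔ _
  rw [hV.fromSpec_primeIdealOf]

theorem evaluation_appLE {X S : Scheme.{u}} (f : X ⟶ S) (x : X) {U : S.Opens} {V : X.Opens}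
    (e : V ≤ f ⁻¹ᵁ U) (hxV : x ∈ V) (r : Γ(S, U)) :
    (X.evaluation V x hxV).hom ((f.appLE U V e).hom r) =
      (f.residueFieldMap x).hom ((S.evaluation U (f x) (e hxV)).hom r) := by
  have h1 := Scheme.evaluation_naturality_apply f x (e hxV) r
  rw [show (f.residueFieldMap x).hom ((S.evaluation U (f x) (e hxV)).hom r) =
    f.residueFieldMap x (S.evaluation U (f x) (e hxV) r) from rfl, h1]
  simp only [Scheme.Hom.appLE, Scheme.evaluation, CommRingCat.hom_comp, RingHom.comp_apply]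
  congr 1
  exact TopCat.Presheaf.germ_res_apply _ _ _ _ _


theorem sep_scheme {X S : Scheme.{u}} (f : X ⟶ S) (x : X) {U : S.Opens} (hU : IsAffineOpen U)
    {V : X.Opens} (hV : IsAffineOpen V) (e : V ≤ f ⁻¹ᵁ U) (hxV : x ∈ V)
    (hsep : @Algebra.IsSeparable (S.residueField (f x)) (X.residueField x) _ _
      (f.residueFieldMap x).hom.toAlgebra) :
    letI := (f.appLE U V e).hom.toAlgebra
    ∀ b : Γ(X, V), ∃ P : Polynomial Γ(S, U),
      Polynomial.aeval b P ∈ (hV.primeIdealOf ⟨x, hxV⟩).asIdeal ∧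
      Polynomial.aeval b (Polynomial.derivative P) ∉ (hV.primeIdealOf ⟨x, hxV⟩).asIdeal := by
  letI := (f.appLE U V e).hom.toAlgebra
  letI := (f.residueFieldMap x).hom.toAlgebra
  intro b
  exact sep_criterion (S.evaluation U (f x) (e hxV)).hom (X.evaluation V x hxV).hom
    (fun r => evaluation_appLE f x e hxV r)
    (fun c => residueField_fraction hU (f x) (e hxV) c) _
    (fun b => mem_primeIdealOf_iff hV x hxV b) b


theorem main {X S : Scheme.{u}} (f : X ⟶ S) [Smooth f] (x : X)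
    (hsep : @Algebra.IsSeparable (S.residueField (f x)) (X.residueField x) _ _
      (f.residueFieldMap x).hom.toAlgebra) :
    ∃ (Z : Scheme.{u}) (i : Z ⟶ X) (z : Z), IsImmersion i ∧ Etale (i ≫ f) ∧ i z = x ∧
      ∀ z' : ↑Z, f (i z') = f x → z' = z := by
  obtain ⟨_, ⟨U, hU, rfl⟩, hxU, -⟩ :=
    S.isBasis_affineOpens.exists_subset_of_mem_open (Set.mem_univ (f x)) isOpen_univ
  obtain ⟨_, ⟨V, hV, rfl⟩, hxV, hVU : V ≤ f ⁻¹ᵁ U⟩ :=
    X.isBasis_affineOpens.exists_subset_of_mem_open hxU (f ⁻¹ᵁ U).2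
  replace hU : IsAffineOpen U := hU
  replace hV : IsAffineOpen V := hV
  have hsm : (f.appLE U V hVU).hom.Smooth :=
    HasRingHomProperty.appLE (P := @Smooth) (f := f) ‹Smooth f› ⟨U, hU⟩ ⟨V, hV⟩ hVU
  have hsepc := sep_scheme f x hU hV hVU hxV hsep
  algebraize [(f.appLE U V hVU).hom]
  haveI : Algebra.IsSmoothAt Γ(S, U) (hV.primeIdealOf ⟨x, hxV⟩).asIdeal :=
    Algebra.FormallySmooth.comp Γ(S, U) Γ(X, V) _
  have hsp := EtSlice.span_delta_of_sep Γ(S, U) Γ(X, V) (hV.primeIdealOf ⟨x, hxV⟩).asIdeal hsepc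
  obtain ⟨g, hg, I, hI, het⟩ := EtSlice.slice Γ(S, U) Γ(X, V) (hV.primeIdealOf ⟨x, hxV⟩).asIdeal hsp
  set q := (hV.primeIdealOf ⟨x, hxV⟩).asIdeal with hq
  let Bg := Localization.Away g
  let ψ : Γ(X, V) →+* Bg ⧸ I := (Ideal.Quotient.mk I).comp (algebraMap Γ(X, V) Bg)
  let Z₀ : Scheme.{u} := Spec (.of (Bg ⧸ I))
  let j : Z₀ ⟶ Spec Γ(X, V) := Spec.map (CommRingCat.ofHom ψ)
  have hj : j = Spec.map (CommRingCat.ofHom (Ideal.Quotient.mk I)) ≫
      Spec.map (CommRingCat.ofHom (algebraMap Γ(X, V) Bg)) := by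
    rw [← Spec.map_comp]; rfl
  haveI : IsClosedImmersion (Spec.map (CommRingCat.ofHom (Ideal.Quotient.mk I))) :=
    IsClosedImmersion.spec_of_surjective _ Ideal.Quotient.mk_surjective
  haveI : IsOpenImmersion (Spec.map (CommRingCat.ofHom (algebraMap Γ(X, V) Bg))) :=
    IsOpenImmersion.of_isLocalization g
  haveI : IsImmersion j := by rw [hj]; infer_instance
  let i₀ : Z₀ ⟶ X := j ≫ hV.fromSpec
  haveI : IsImmersion i₀ := IsImmersion.comp j hV.fromSpec
  -- étaleness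
  have hcomp : i₀ ≫ f = Spec.map (CommRingCat.ofHom (algebraMap Γ(S, U) (Bg ⧸ I))) ≫ hU.fromSpec := by
    have h1 : Spec.map (CommRingCat.ofHom (algebraMap Γ(S, U) (Bg ⧸ I))) =
        j ≫ Spec.map (f.appLE U V hVU) := by
      rw [← Spec.map_comp]
      congr 1
    calc i₀ ≫ f = j ≫ (hV.fromSpec ≫ f) := Category.assoc _ _ _
      _ = j ≫ (Spec.map (f.appLE U V hVU) ≫ hU.fromSpec) := by
        rw [IsAffineOpen.SpecMap_appLE_fromSpec f hU hV hVU]
      _ = (j ≫ Spec.map (f.appLE U V hVU)) ≫ hU.fromSpec := (Category.assoc _ _ _).symm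
      _ = _ := by rw [h1]
  haveI : Etale (Spec.map (CommRingCat.ofHom (algebraMap Γ(S, U) (Bg ⧸ I)))) :=
    HasRingHomProperty.Spec_iff.mpr (RingHom.etale_algebraMap.mpr het)
  haveI : Etale (i₀ ≫ f) := by rw [hcomp]; infer_instance
  -- the point
  have hdisj : Disjoint (Submonoid.powers g : Set Γ(X, V)) (q : Set Γ(X, V)) := by
    rw [Set.disjoint_left]
    rintro _ ⟨k, rfl⟩ hk
    exact hg (Ideal.IsPrime.mem_of_pow_mem inferInstance k hk)
  let qg : Ideal Bg := q.map (algebraMap Γ(X, V) Bg)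
  haveI hqg : qg.IsPrime :=
    IsLocalization.isPrime_of_isPrime_disjoint (Submonoid.powers g) Bg q inferInstance hdisj
  have hqg' : qg.comap (algebraMap Γ(X, V) Bg) = q :=
    IsLocalization.comap_map_of_isPrime_disjoint (Submonoid.powers g) Bg inferInstance hdisj
  let qq : Ideal (Bg ⧸ I) := qg.map (Ideal.Quotient.mk I)
  haveI hqq : qq.IsPrime :=
    Ideal.map_isPrime_of_surjective Ideal.Quotient.mk_surjective (by rw [Ideal.mk_ker]; exact hI)
  have hqq' : qq.comap (Ideal.Quotient.mk I) = qg := by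
    rw [Ideal.comap_map_of_surjective _ Ideal.Quotient.mk_surjective, ← RingHom.ker_eq_comap_bot,
      Ideal.mk_ker, sup_eq_left]
    exact hI
  let z₀ : Z₀ := ⟨qq, hqq⟩
  have hz₀ : i₀ z₀ = x := by
    have h1 : j z₀ = hV.primeIdealOf ⟨x, hxV⟩ := by
      apply PrimeSpectrum.ext
      show (qq.comap (Ideal.Quotient.mk I)).comap (algebraMap Γ(X, V) Bg) = q
      rw [hqq', hqg']
    show hV.fromSpec (j z₀) = x
    rw [h1, hV.fromSpec_primeIdealOf]
  -- local quasi-finiteness and discreteness of the fibre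
  haveI : Algebra.QuasiFinite Γ(S, U) (Bg ⧸ I) := inferInstance
  haveI : LocallyQuasiFinite (Spec.map (CommRingCat.ofHom (algebraMap Γ(S, U) (Bg ⧸ I)))) :=
    HasRingHomProperty.Spec_iff.mpr (RingHom.quasiFinite_algebraMap.mpr inferInstance)
  haveI : LocallyQuasiFinite (i₀ ≫ f) := by rw [hcomp]; infer_instance
  have hdisc := (i₀ ≫ f).isDiscrete_preimage_singleton (f x)
  have hz₀mem : z₀ ∈ (i₀ ≫ f) ⁻¹' {f x} := by
    show (i₀ ≫ f) z₀ = f x
    rw [Scheme.Hom.comp_apply, hz₀]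
  obtain ⟨O, hO, hOs⟩ := isOpen_inter_eq_singleton_of_mem_discrete hdisc hz₀mem
  let O' : Z₀.Opens := ⟨O, hO⟩
  have hz₀O : z₀ ∈ O' := by
    have : z₀ ∈ O ∩ (i₀ ≫ f) ⁻¹' {f x} := by rw [hOs]; rfl
    exact this.1
  refine ⟨O', O'.ι ≫ i₀, ⟨z₀, hz₀O⟩, inferInstance, ?_, ?_, ?_⟩
  · rw [Category.assoc]; infer_instance
  · show i₀ (O'.ι ⟨z₀, hz₀O⟩) = x
    exact hz₀
  · intro z' hz'
    have h1 : (O'.ι z') ∈ O ∩ (i₀ ≫ f) ⁻¹' {f x} := by
      refine ⟨z'.2, ?_⟩
      show (i₀ ≫ f) (O'.ι z') = f x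
      rw [Scheme.Hom.comp_apply]
      exact hz'
    rw [hOs] at h1
    exact Subtype.ext h1


end Groth.Agent.Helper3.EtSliceSch
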