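import Mathlib
import Groth.Prelude.Def_ega3
import Groth.Prelude.Def_LCI2
import Groth.Prelude.Def_CAlgX
import Groth.Agent.Helper3.KzLoc
import Groth.Agent.Helper8.SliceC
import Groth.Agent.Helper2.EssFP
import Groth.Agent.Helper2.LocCritFP
import Groth.Agent.Helper1.KoszulAcyclic
import Groth.Agent.S15821

set_option autoImplicit false
set_option linter.style.haveILetI false
set_option linter.unusedSectionVars false
set_option linter.unusedVariables false
set_option linter.deprecated false
set_option linter.style.haveILetI false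
set_option linter.unusedSectionVars false
set_option linter.unusedVariables false

/-!
# The fibre criterion for Koszul-regularity (local form)
-/

namespace Groth.Agent.Helper3.KzFib
open IsLocalRing RingTheory.Sequence Groth.Agent.Helper3.KzLoc Groth.Agent.Lead.KoszulFunC

universe u

section aux
variable {A T : Type u} [CommRing A] [CommRing T] [Algebra A T] (q : Ideal A) [q.IsPrime]
  [IsLocalization.AtPrime T q]

/-- containment of extended ideals in the local ring spreads to a basic open -/
lemma exists_mul_mem_of_map_le (I₁ I₂ : Ideal A) (h1 : I₁.FG)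
    (hle : I₁.map (algebraMap A T) ≤ I₂.map (algebraMap A T)) :
    ∃ t : A, t ∉ q ∧ ∀ x ∈ I₁, t * x ∈ I₂ := by
  classical
  obtain ⟨s, hs⟩ := h1
  have h1 : ∀ x ∈ s, ∃ t ∈ q.primeCompl, t * x ∈ I₂ := by
    intro x hx
    have hxI : x ∈ I₁ := hs ▸ Ideal.subset_span hx
    have h2 : algebraMap A T x ∈ I₂.map (algebraMap A T) := hle (Ideal.mem_map_of_mem _ hxI)
    rw [← IsLocalization.mk'_one (M := q.primeCompl) T x,
      IsLocalization.mk'_mem_map_algebraMap_iff] at h2
    exact h2
  choose! t ht htx using h1
  refine ⟨∏ x ∈ s, t x, ?_, ?_⟩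
  · have : ∏ x ∈ s, t x ∈ q.primeCompl := Submonoid.prod_mem _ ht
    exact this
  · intro x hx
    have hle : I₁ ≤ Submodule.comap (LinearMap.mulLeft A (∏ x ∈ s, t x)) I₂ := by
      rw [← hs, Ideal.span, Submodule.span_le]
      intro y hy
      show (∏ x ∈ s, t x) * y ∈ I₂
      rw [← Finset.mul_prod_erase s t hy, mul_right_comm]
      exact Ideal.mul_mem_right _ _ (htx y hy)
    exact hle hx

omit [q.IsPrime] [IsLocalization.AtPrime T q] in
lemma map_le_of_mul_mem {S : Type u} [CommRing S] (ψ : A →+* S) (I₁ I₂ : Ideal A) (t : A)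
    (ht : ∀ x ∈ I₁, t * x ∈ I₂) (hu : IsUnit (ψ t)) : I₁.map ψ ≤ I₂.map ψ := by
  rw [Ideal.map_le_iff_le_comap]
  intro x hx
  rw [Ideal.mem_comap, ← Ideal.unit_mul_mem_iff_mem _ hu, ← map_mul]
  exact Ideal.mem_map_of_mem _ (ht x hx)

end aux

lemma exists_list_lift {T F : Type*} (f : T → F) (S : Set T) :
    ∀ ls : List F, (∀ x ∈ ls, ∃ t ∈ S, f t = x) →
      ∃ hs : List T, (∀ h ∈ hs, h ∈ S) ∧ hs.map f = ls
  | [], _ => ⟨[], by simp, rfl⟩
  | x :: ls, h => by
    obtain ⟨t, ht, rfl⟩ := h x List.mem_cons_self
    obtain ⟨hs, h1, h2⟩ := exists_list_lift f S ls (fun y hy => h y (List.mem_cons_of_mem _ hy))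
    refine ⟨t :: hs, ?_, by rw [List.map_cons, h2]⟩
    intro h' hh'
    rcases List.mem_cons.mp hh' with rfl | hh'
    · exact ht
    · exact h1 _ hh'

section nak
variable {R T : Type u} [CommRing R] [CommRing T] [Algebra R T]

/-- a finitely generated ideal `K ⊇ J` with `T/K` flat which agrees with `J` modulo `𝔭T ⊆ rad T`
equals `J` -/
lemma eq_of_flat_of_le_sup (p : Ideal R) (hp : p.map (algebraMap R T) ≤ (⊥ : Ideal T).jacobson)
    (J K : Ideal T) (hJK : J ≤ K) (hK : K.FG) (hflat : Module.Flat R (T ⧸ K))
    (hsup : K ≤ J ⊔ p.map (algebraMap R T)) : K = J := by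
  refine le_antisymm ?_ hJK
  refine Submodule.le_of_le_smul_of_le_jacobson_bot hK hp ?_
  intro x hx
  let f : T ⧸ J →ₗ[R] T ⧸ K := (Ideal.Quotient.factorₐ R hJK).toLinearMap
  have hf : Function.Surjective f := Ideal.Quotient.factor_surjective hJK
  have hfl := LinearMap.ker_inf_smul_top_eq_smul_of_flat p f hf
  have hfmk : ∀ t : T, f (Ideal.Quotient.mk J t) = Ideal.Quotient.mk K t := fun t => rfl
  have hmem : Ideal.Quotient.mk J x ∈ LinearMap.ker f ⊓ p • (⊤ : Submodule R (T ⧸ J)) := by
    refine ⟨?_, ?_⟩
    · show Ideal.Quotient.mk J x ∈ LinearMap.ker f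
      rw [LinearMap.mem_ker, hfmk, Ideal.Quotient.eq_zero_iff_mem]
      exact hx
    · show Ideal.Quotient.mk J x ∈ p • (⊤ : Submodule R (T ⧸ J))
      obtain ⟨j, hj, y, hy, rfl⟩ := Submodule.mem_sup.mp (hsup hx)
      rw [map_add, Ideal.Quotient.eq_zero_iff_mem.mpr hj, zero_add]
      have hy' : y ∈ p • (⊤ : Submodule R T) := by
        rw [Ideal.smul_top_eq_map]
        exact hy
      have : Ideal.Quotient.mk J y = (Ideal.Quotient.mkₐ R J).toLinearMap y := rfl
      rw [this]
      have h3 := Submodule.mem_map_of_mem (f := (Ideal.Quotient.mkₐ R J).toLinearMap) hy'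
      rw [Submodule.map_smul''] at h3
      exact Submodule.smul_mono le_rfl le_top h3
  rw [hfl] at hmem
  -- every element of `p • ker f` lifts into `J ⊔ pT • K`
  have key : ∀ z ∈ p • LinearMap.ker f, ∀ t : T, Ideal.Quotient.mk J t = z →
      t ∈ J ⊔ p.map (algebraMap R T) • K := by
    intro z hz
    refine Submodule.smul_induction_on hz ?_ ?_
    · intro r hr m hm t ht
      obtain ⟨k, rfl⟩ := Ideal.Quotient.mk_surjective m
      have hk : k ∈ K := by
        rw [LinearMap.mem_ker, hfmk, Ideal.Quotient.eq_zero_iff_mem] at hm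
        exact hm
      have h1 : t - algebraMap R T r * k ∈ J := by
        rw [← Ideal.Quotient.eq, ht, Algebra.smul_def]
        rfl
      have h2 : algebraMap R T r * k ∈ p.map (algebraMap R T) • K :=
        Submodule.smul_mem_smul (Ideal.mem_map_of_mem _ hr) hk
      have : t = (t - algebraMap R T r * k) + algebraMap R T r * k := by ring
      rw [this]
      exact Submodule.add_mem_sup h1 h2
    · intro z₁ z₂ h1 h2 t ht
      obtain ⟨t₁, rfl⟩ := Ideal.Quotient.mk_surjective z₁
      have h3 : Ideal.Quotient.mk J (t - t₁) = z₂ := by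
        rw [map_sub, ht]
        ring
      have := Submodule.add_mem _ (h1 t₁ rfl) (h2 (t - t₁) h3)
      rwa [add_sub_cancel] at this
  exact key _ hmem x rfl

end nak

section Main
variable {R A T : Type u} [CommRing R] [CommRing A] [CommRing T] [Algebra R A] [Algebra A T]
  [Algebra R T] [IsScalarTower R A T] [Algebra.FinitePresentation R A] (q : Ideal A) [q.IsPrime]
  [IsLocalization.AtPrime T q]

/-- **Fibre criterion, local form.** `A` finitely presented over `R`, flat at `q`; `I` a finitely
generated ideal with `A/I` flat at `q`.  If the image of `I` in the local ring of the fibre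
`T/𝔭T` is generated by a Koszul-regular sequence then `I` is generated by a Koszul-regular
sequence on a basic open neighbourhood of `q`. -/
theorem fibre_criterion_local (p : Ideal R) (hp : p = q.comap (algebraMap R A))
    (hflat : Module.Flat R T) (I : Ideal A) (hI : I.FG) (hIq : I ≤ q)
    (hFI : Module.Flat R (T ⧸ I.map (algebraMap A T)))
    (ls : List (T ⧸ p.map (algebraMap R T)))
    (hls : LCI.IsKoszulRegularSeq _ ls)
    (hgen : Ideal.ofList ls = (I.map (algebraMap A T)).map (Ideal.Quotient.mk _)) :
    LocKReg I q := by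
  classical
  haveI : IsLocalRing T := IsLocalization.AtPrime.isLocalRing T q
  haveI hpp : p.IsPrime := hp ▸ Ideal.comap_isPrime _ _
  -- the structure of `R_p`-algebra on `T`
  have hunits : ∀ y : p.primeCompl, IsUnit (algebraMap R T (y : R)) := by
    intro y
    rw [IsScalarTower.algebraMap_apply R A T]
    refine IsLocalization.map_units T (⟨algebraMap R A y, ?_⟩ : q.primeCompl)
    intro h
    have h6 : (y : R) ∈ q.comap (algebraMap R A) := h
    rw [← hp] at h6
    exact y.2 h6
  letI algRpT : Algebra (Localization.AtPrime p) T :=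
    (IsLocalization.lift (M := p.primeCompl) (g := algebraMap R T) hunits).toAlgebra
  haveI tw : IsScalarTower R (Localization.AtPrime p) T :=
    IsScalarTower.of_algebraMap_eq (fun r => by
      show algebraMap R T r =
        IsLocalization.lift hunits (algebraMap R (Localization.AtPrime p) r)
      rw [IsLocalization.lift_eq])
  haveI hlochom : IsLocalHom (algebraMap (Localization.AtPrime p) T) := by
    constructor
    intro z hz
    obtain ⟨r, s, rfl⟩ := IsLocalization.exists_mk'_eq p.primeCompl z
    have h1 : IsUnit (algebraMap R T r) := by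
      have h2 : algebraMap (Localization.AtPrime p) T (IsLocalization.mk' _ r s) *
          algebraMap R T (s : R) = algebraMap R T r := by
        rw [IsScalarTower.algebraMap_apply R (Localization.AtPrime p) T (s : R),
          IsScalarTower.algebraMap_apply R (Localization.AtPrime p) T r, ← map_mul,
          IsLocalization.mk'_spec]
      rw [← h2]
      exact hz.mul (hunits s)
    have h3 : r ∈ p.primeCompl := by
      intro hr
      rw [IsScalarTower.algebraMap_apply R A T] at h1
      have h4 := (IsLocalization.AtPrime.isUnit_to_map_iff T q _).mp h1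
      apply h4
      rw [hp] at hr
      exact hr
    exact (IsLocalization.AtPrime.isUnit_mk'_iff (Localization.AtPrime p) p r s).mpr h3
  have hess : CAlgX.IsEssFinitePresentation (Localization.AtPrime p) T :=
    Groth.Agent.Helper2.EssFP.essFP_of_atPrime p q (fun a ha h => ha (by rw [hp]; exact h)) _ _
  have hpT : (maximalIdeal (Localization.AtPrime p)).map
      (algebraMap (Localization.AtPrime p) T) = p.map (algebraMap R T) := by
    rw [← Localization.AtPrime.map_eq_maximalIdeal, Ideal.map_map,
      ← IsScalarTower.algebraMap_eq]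
  have hpTle : p.map (algebraMap R T) ≤ maximalIdeal T := by
    rw [← hpT]
    exact ((IsLocalRing.local_hom_TFAE (algebraMap (Localization.AtPrime p) T)).out 0 2).mp
      hlochom
  -- the fibre ring
  haveI hFnoeth : IsNoetherianRing (T ⧸ p.map (algebraMap R T)) := by
    have := Groth.Agent.Helper2.LocCritFP.isNoetherianRing_quot_of_essFP hess
    rwa [hpT] at this
  haveI hFnt : Nontrivial (T ⧸ p.map (algebraMap R T)) := by
    rw [Ideal.Quotient.nontrivial_iff]
    exact (hpTle.trans_lt (maximalIdeal.isMaximal T).ne_top.lt_top).ne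
  haveI hFloc : IsLocalRing (T ⧸ p.map (algebraMap R T)) :=
    IsLocalRing.of_surjective' (Ideal.Quotient.mk (p.map (algebraMap R T)))
      Ideal.Quotient.mk_surjective
  have hKle : I.map (algebraMap A T) ≤ maximalIdeal T := by
    rw [← IsLocalization.AtPrime.map_eq_maximalIdeal q T]
    exact Ideal.map_mono hIq
  -- members of `ls` are in the radical
  have hlsmem : ∀ x ∈ ls, x ∈ (I.map (algebraMap A T)).map
      (Ideal.Quotient.mk (p.map (algebraMap R T))) := by
    intro x hx
    rw [← hgen]
    exact Ideal.subset_span hx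
  have hjac : ∀ x ∈ ls, x ∈ (⊥ : Ideal (T ⧸ p.map (algebraMap R T))).jacobson := by
    intro x hx
    rw [IsLocalRing.jacobson_eq_maximalIdeal ⊥ bot_ne_top]
    have h1 := hlsmem x hx
    have h2 : (I.map (algebraMap A T)).map (Ideal.Quotient.mk (p.map (algebraMap R T))) ≤
        maximalIdeal (T ⧸ p.map (algebraMap R T)) := by
      rw [Ideal.map_le_iff_le_comap]
      intro t ht
      have ht' := hKle ht
      rw [Ideal.mem_comap, mem_maximalIdeal, mem_nonunits_iff]
      intro hu
      rw [mem_maximalIdeal, mem_nonunits_iff] at ht'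
      apply ht'
      haveI : IsLocalHom (Ideal.Quotient.mk (p.map (algebraMap R T))) :=
        IsLocalHom.of_surjective _ Ideal.Quotient.mk_surjective
      exact isUnit_of_map_unit (Ideal.Quotient.mk (p.map (algebraMap R T))) t hu
    exact h2 h1
  -- weak regularity in the fibre
  have hlwr : IsWeaklyRegular (T ⧸ p.map (algebraMap R T)) ls := by
    apply Groth.Agent.Helper1.Koszul.isWeaklyRegular_of_acyclic (T ⧸ p.map (algebraMap R T)) ls hjac
    intro j hj
    exact (isKoszulRegularSeq_iff ls).mp hls j hj.ne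
  -- lift to `I T`
  obtain ⟨hs, hhsK, hhsls⟩ := exists_list_lift
    (Ideal.Quotient.mk (p.map (algebraMap R T))) (I.map (algebraMap A T) : Set T) ls
    (fun x hx => (Ideal.mem_map_iff_of_surjective _ Ideal.Quotient.mk_surjective).mp
      (hlsmem x hx))
  have hwrT : IsWeaklyRegular (T ⧸ p.map (algebraMap R T)) hs := by
    refine (isWeaklyRegular_map_algebraMap_iff (T ⧸ p.map (algebraMap R T))
      (T ⧸ p.map (algebraMap R T)) hs).mp ?_
    have : hs.map (algebraMap T (T ⧸ p.map (algebraMap R T))) = ls := hhsls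
    rw [this]
    exact hlwr
  have hmemT : ∀ h ∈ hs, h ∈ maximalIdeal T := fun h hh => hKle (hhsK h hh)
  -- the induction
  have hbot : (⊥ : Ideal A).map (algebraMap A T) = ⊥ := Ideal.map_bot
  have hF0 : Module.Flat R (T ⧸ (⊥ : Ideal A).map (algebraMap A T)) := by
    rw [hbot]
    exact Module.Flat.of_linearEquiv
      ((Submodule.quotEquivOfEqBot (⊥ : Ideal T) rfl).restrictScalars R)
  have hwr0 : IsWeaklyRegular (T ⧸ ((⊥ : Ideal A).map (algebraMap A T) ⊔
      p.map (algebraMap R T))) hs := by
    rw [hbot, bot_sup_eq]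
    exact hwrT
  obtain ⟨as, g₀, hg₀, has, hmap, -, hWR⟩ :=
    Groth.Agent.Helper8.SliceC.induction_step q p hess hpT hs ⊥ Submodule.fg_bot bot_le hF0
      hwr0 hmemT
  rw [bot_sup_eq, hbot, bot_sup_eq] at hmap
  -- `(hs) T = I T`
  have hJK : Ideal.ofList hs ≤ I.map (algebraMap A T) := Ideal.span_le.mpr hhsK
  have hsup : I.map (algebraMap A T) ≤ Ideal.ofList hs ⊔ p.map (algebraMap R T) := by
    intro x hx
    have h1 : Ideal.Quotient.mk (p.map (algebraMap R T)) x ∈
        (Ideal.ofList hs).map (Ideal.Quotient.mk (p.map (algebraMap R T))) := by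
      rw [Ideal.map_ofList, hhsls, hgen]
      exact Ideal.mem_map_of_mem _ hx
    obtain ⟨y, hy, hyx⟩ := (Ideal.mem_map_iff_of_surjective _
      Ideal.Quotient.mk_surjective).mp h1
    have h2 : x - y ∈ p.map (algebraMap R T) := by
      rw [← Ideal.Quotient.eq, hyx]
    have : x = y + (x - y) := by ring
    rw [this]
    exact Submodule.add_mem_sup hy h2
  have hEq : I.map (algebraMap A T) = Ideal.ofList hs :=
    eq_of_flat_of_le_sup p
      (by rw [IsLocalRing.jacobson_eq_maximalIdeal ⊥ bot_ne_top]; exact hpTle)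
      _ _ hJK (hI.map _) hFI hsup
  have hEq' : I.map (algebraMap A T) = (Ideal.ofList as).map (algebraMap A T) := by
    rw [hEq, hmap]
  -- spread the equality of ideals
  have hasfg : (Ideal.ofList as).FG := Submodule.fg_span (List.finite_toSet as)
  obtain ⟨t₁, ht₁, h1⟩ := exists_mul_mem_of_map_le (T := T) q I (Ideal.ofList as) hI hEq'.le
  obtain ⟨t₂, ht₂, h2⟩ := exists_mul_mem_of_map_le (T := T) q (Ideal.ofList as) I hasfg hEq'.ge
  set G := g₀ * t₁ * t₂ with hG
  have hGq : G ∉ q := by
    intro h
    rcases Ideal.IsPrime.mem_or_mem inferInstance h with h | h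
    · rcases Ideal.IsPrime.mem_or_mem inferInstance h with h | h
      · exact hg₀ h
      · exact ht₁ h
    · exact ht₂ h
  have hGu : IsUnit (algebraMap A (Localization.Away G) G) :=
    IsLocalization.Away.algebraMap_isUnit G
  have hu1 : IsUnit (algebraMap A (Localization.Away G) t₁) :=
    isUnit_of_dvd_unit (map_dvd _ ⟨g₀ * t₂, by rw [hG]; ring⟩) hGu
  have hu2 : IsUnit (algebraMap A (Localization.Away G) t₂) :=
    isUnit_of_dvd_unit (map_dvd _ ⟨g₀ * t₁, by rw [hG]; ring⟩) hGu
  have hIG : I.map (algebraMap A (Localization.Away G)) =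
      (Ideal.ofList as).map (algebraMap A (Localization.Away G)) :=
    le_antisymm (map_le_of_mul_mem _ _ _ t₁ h1 hu1) (map_le_of_mul_mem _ _ _ t₂ h2 hu2)
  have hwrG := hWR G ⟨t₁ * t₂, by rw [hG]; ring⟩ (Localization.Away G)
  have hbot' : (⊥ : Ideal A).map (algebraMap A (Localization.Away G)) = ⊥ := Ideal.map_bot
  rw [hbot'] at hwrG
  have hwrG' : IsWeaklyRegular (Localization.Away G)
      (as.map (algebraMap A (Localization.Away G))) :=
    ((Submodule.quotEquivOfEqBot (⊥ : Ideal (Localization.Away G)) rfl).isWeaklyRegular_congr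
      _).mp hwrG
  refine ⟨G, hGq, as.map (algebraMap A (Localization.Away G)),
    (Groth.Agent.S15821.result _ _ hwrG').1, ?_⟩
  rw [hIG, Ideal.map_ofList]

end Main

end Groth.Agent.Helper3.KzFib
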