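import Mathlib
import Groth.Prelude.Def_ega3
import Groth.Prelude.Def_LCI2
import Groth.Prelude.Def_CAlgX
import Groth.Prelude.Def_RegImm
import Groth.Agent.Helper3.KzFib2
import Groth.Agent.Helper7.QRReg
import Groth.Agent.Lead.QRegBCd
import Groth.Agent.Lead.QRegFlat
import Groth.Agent.Lead.KoszulGeoD

set_option autoImplicit false
set_option linter.style.haveILetI false
set_option linter.unusedSectionVars false
set_option linter.unusedVariables false
set_option linter.deprecated false
set_option linter.style.haveILetI false
set_option linter.unusedSectionVars false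
set_option linter.unusedVariables false

/-!
# The fibre criterion for regular sequences (weakly regular form), and quasi-regular ⇒ regular
for flat finitely presented algebras
-/

namespace Groth.Agent.Helper3.KzFib
open IsLocalRing RingTheory.Sequence Groth.Agent.Helper3.KzLoc Groth.Agent.Lead.KoszulFunC

universe u

section Main
variable {R A T : Type u} [CommRing R] [CommRing A] [CommRing T] [Algebra R A] [Algebra A T]
  [Algebra R T] [IsScalarTower R A T] [Algebra.FinitePresentation R A] (q : Ideal A) [q.IsPrime]
  [IsLocalization.AtPrime T q]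

/-- **Fibre criterion, local form, for weakly regular sequences.** -/
theorem fibre_criterion_local_wr (p : Ideal R) (hp : p = q.comap (algebraMap R A))
    (hflat : Module.Flat R T) (I : Ideal A) (hI : I.FG) (hIq : I ≤ q)
    (hFI : Module.Flat R (T ⧸ I.map (algebraMap A T)))
    (ls : List (T ⧸ p.map (algebraMap R T)))
    (hlwr : IsWeaklyRegular (T ⧸ p.map (algebraMap R T)) ls)
    (hgen : Ideal.ofList ls = (I.map (algebraMap A T)).map (Ideal.Quotient.mk _)) :
    ∃ G : A, G ∉ q ∧ ∃ as : List A, ∀ (A' : Type u) [CommRing A'] [Algebra A A']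
      [IsLocalization.Away G A'],
      IsWeaklyRegular A' (as.map (algebraMap A A')) ∧
        I.map (algebraMap A A') = Ideal.ofList (as.map (algebraMap A A')) := by
  classical
  haveI : IsLocalRing T := IsLocalization.AtPrime.isLocalRing T q
  haveI hpp : p.IsPrime := hp ▸ Ideal.comap_isPrime _ _
  -- the structure of `R_p`-algebra on `T`
  have hunits : ∀ y : p.primeCompl, IsUnit (algebraMap R T (y : R)) := by
    intro y
    rw [IsScalarTower.algebraMap_apply R A T]
    refine IsLocalization.map_units T (⟨algebraMap R A y, ?_⟩ : q.primeCompl)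
    intro h
    have h6 : (y : R) ∈ q.comap (algebraMap R A) := h
    rw [← hp] at h6
    exact y.2 h6
  letI algRpT : Algebra (Localization.AtPrime p) T :=
    (IsLocalization.lift (M := p.primeCompl) (g := algebraMap R T) hunits).toAlgebra
  haveI tw : IsScalarTower R (Localization.AtPrime p) T :=
    IsScalarTower.of_algebraMap_eq (fun r => by
      show algebraMap R T r =
        IsLocalization.lift hunits (algebraMap R (Localization.AtPrime p) r)
      rw [IsLocalization.lift_eq])
  haveI hlochom : IsLocalHom (algebraMap (Localization.AtPrime p) T) := by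
    constructor
    intro z hz
    obtain ⟨r, s, rfl⟩ := IsLocalization.exists_mk'_eq p.primeCompl z
    have h1 : IsUnit (algebraMap R T r) := by
      have h2 : algebraMap (Localization.AtPrime p) T (IsLocalization.mk' _ r s) *
          algebraMap R T (s : R) = algebraMap R T r := by
        rw [IsScalarTower.algebraMap_apply R (Localization.AtPrime p) T (s : R),
          IsScalarTower.algebraMap_apply R (Localization.AtPrime p) T r, ← map_mul,
          IsLocalization.mk'_spec]
      rw [← h2]
      exact hz.mul (hunits s)
    have h3 : r ∈ p.primeCompl := by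
      intro hr
      rw [IsScalarTower.algebraMap_apply R A T] at h1
      have h4 := (IsLocalization.AtPrime.isUnit_to_map_iff T q _).mp h1
      apply h4
      rw [hp] at hr
      exact hr
    exact (IsLocalization.AtPrime.isUnit_mk'_iff (Localization.AtPrime p) p r s).mpr h3
  have hess : CAlgX.IsEssFinitePresentation (Localization.AtPrime p) T :=
    Groth.Agent.Helper2.EssFP.essFP_of_atPrime p q (fun a ha h => ha (by rw [hp]; exact h)) _ _
  have hpT : (maximalIdeal (Localization.AtPrime p)).map
      (algebraMap (Localization.AtPrime p) T) = p.map (algebraMap R T) := by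
    rw [← Localization.AtPrime.map_eq_maximalIdeal, Ideal.map_map,
      ← IsScalarTower.algebraMap_eq]
  have hpTle : p.map (algebraMap R T) ≤ maximalIdeal T := by
    rw [← hpT]
    exact ((IsLocalRing.local_hom_TFAE (algebraMap (Localization.AtPrime p) T)).out 0 2).mp
      hlochom
  have hKle : I.map (algebraMap A T) ≤ maximalIdeal T := by
    rw [← IsLocalization.AtPrime.map_eq_maximalIdeal q T]
    exact Ideal.map_mono hIq
  -- members of `ls` are in the image of `I`
  have hlsmem : ∀ x ∈ ls, x ∈ (I.map (algebraMap A T)).map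
      (Ideal.Quotient.mk (p.map (algebraMap R T))) := by
    intro x hx
    rw [← hgen]
    exact Ideal.subset_span hx
  -- lift to `I T`
  obtain ⟨hs, hhsK, hhsls⟩ := exists_list_lift
    (Ideal.Quotient.mk (p.map (algebraMap R T))) (I.map (algebraMap A T) : Set T) ls
    (fun x hx => (Ideal.mem_map_iff_of_surjective _ Ideal.Quotient.mk_surjective).mp
      (hlsmem x hx))
  have hwrT : IsWeaklyRegular (T ⧸ p.map (algebraMap R T)) hs := by
    refine (isWeaklyRegular_map_algebraMap_iff (T ⧸ p.map (algebraMap R T))
      (T ⧸ p.map (algebraMap R T)) hs).mp ?_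
    have : hs.map (algebraMap T (T ⧸ p.map (algebraMap R T))) = ls := hhsls
    rw [this]
    exact hlwr
  have hmemT : ∀ h ∈ hs, h ∈ maximalIdeal T := fun h hh => hKle (hhsK h hh)
  -- the induction
  have hbot : (⊥ : Ideal A).map (algebraMap A T) = ⊥ := Ideal.map_bot
  have hF0 : Module.Flat R (T ⧸ (⊥ : Ideal A).map (algebraMap A T)) := by
    rw [hbot]
    exact Module.Flat.of_linearEquiv
      ((Submodule.quotEquivOfEqBot (⊥ : Ideal T) rfl).restrictScalars R)
  have hwr0 : IsWeaklyRegular (T ⧸ ((⊥ : Ideal A).map (algebraMap A T) ⊔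
      p.map (algebraMap R T))) hs := by
    rw [hbot, bot_sup_eq]
    exact hwrT
  obtain ⟨as, g₀, hg₀, has, hmap, -, hWR⟩ :=
    Groth.Agent.Helper8.SliceC.induction_step q p hess hpT hs ⊥ Submodule.fg_bot bot_le hF0
      hwr0 hmemT
  rw [bot_sup_eq, hbot, bot_sup_eq] at hmap
  -- `(hs) T = I T`
  have hJK : Ideal.ofList hs ≤ I.map (algebraMap A T) := Ideal.span_le.mpr hhsK
  have hsup : I.map (algebraMap A T) ≤ Ideal.ofList hs ⊔ p.map (algebraMap R T) := by
    intro x hx
    have h1 : Ideal.Quotient.mk (p.map (algebraMap R T)) x ∈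
        (Ideal.ofList hs).map (Ideal.Quotient.mk (p.map (algebraMap R T))) := by
      rw [Ideal.map_ofList, hhsls, hgen]
      exact Ideal.mem_map_of_mem _ hx
    obtain ⟨y, hy, hyx⟩ := (Ideal.mem_map_iff_of_surjective _
      Ideal.Quotient.mk_surjective).mp h1
    have h2 : x - y ∈ p.map (algebraMap R T) := by
      rw [← Ideal.Quotient.eq, hyx]
    have : x = y + (x - y) := by ring
    rw [this]
    exact Submodule.add_mem_sup hy h2
  have hEq : I.map (algebraMap A T) = Ideal.ofList hs :=
    eq_of_flat_of_le_sup p
      (by rw [IsLocalRing.jacobson_eq_maximalIdeal ⊥ bot_ne_top]; exact hpTle)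
      _ _ hJK (hI.map _) hFI hsup
  have hEq' : I.map (algebraMap A T) = (Ideal.ofList as).map (algebraMap A T) := by
    rw [hEq, hmap]
  -- spread the equality of ideals
  have hasfg : (Ideal.ofList as).FG := Submodule.fg_span (List.finite_toSet as)
  obtain ⟨t₁, ht₁, h1⟩ := exists_mul_mem_of_map_le (T := T) q I (Ideal.ofList as) hI hEq'.le
  obtain ⟨t₂, ht₂, h2⟩ := exists_mul_mem_of_map_le (T := T) q (Ideal.ofList as) I hasfg hEq'.ge
  have hGq : g₀ * t₁ * t₂ ∉ q := by
    intro h
    rcases Ideal.IsPrime.mem_or_mem inferInstance h with h | h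
    · rcases Ideal.IsPrime.mem_or_mem inferInstance h with h | h
      · exact hg₀ h
      · exact ht₁ h
    · exact ht₂ h
  refine ⟨g₀ * t₁ * t₂, hGq, as, ?_⟩
  intro A' _ _ _
  have hGu : IsUnit (algebraMap A A' (g₀ * t₁ * t₂)) :=
    IsLocalization.Away.algebraMap_isUnit (g₀ * t₁ * t₂)
  have hu1 : IsUnit (algebraMap A A' t₁) :=
    isUnit_of_dvd_unit (map_dvd _ ⟨g₀ * t₂, by ring⟩) hGu
  have hu2 : IsUnit (algebraMap A A' t₂) :=
    isUnit_of_dvd_unit (map_dvd _ ⟨g₀ * t₁, by ring⟩) hGu
  have hIG : I.map (algebraMap A A') = (Ideal.ofList as).map (algebraMap A A') :=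
    le_antisymm (map_le_of_mul_mem _ _ _ t₁ h1 hu1) (map_le_of_mul_mem _ _ _ t₂ h2 hu2)
  have hwrG := hWR (g₀ * t₁ * t₂) ⟨t₁ * t₂, by ring⟩ A'
  have hbot' : (⊥ : Ideal A).map (algebraMap A A') = ⊥ := Ideal.map_bot
  rw [hbot'] at hwrG
  have hwrG' : IsWeaklyRegular A' (as.map (algebraMap A A')) :=
    ((Submodule.quotEquivOfEqBot (⊥ : Ideal A') rfl).isWeaklyRegular_congr _).mp hwrG
  refine ⟨hwrG', ?_⟩
  rw [hIG, Ideal.map_ofList]


/-- the fibre local ring is Noetherian and local -/
theorem fibre_ring_props (p : Ideal R) (hp : p = q.comap (algebraMap R A)) :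
    IsNoetherianRing (T ⧸ p.map (algebraMap R T)) ∧ IsLocalRing (T ⧸ p.map (algebraMap R T)) := by
  classical
  haveI : IsLocalRing T := IsLocalization.AtPrime.isLocalRing T q
  haveI hpp : p.IsPrime := hp ▸ Ideal.comap_isPrime _ _
  have hunits : ∀ y : p.primeCompl, IsUnit (algebraMap R T (y : R)) := by
    intro y
    rw [IsScalarTower.algebraMap_apply R A T]
    refine IsLocalization.map_units T (⟨algebraMap R A y, ?_⟩ : q.primeCompl)
    intro h
    have h6 : (y : R) ∈ q.comap (algebraMap R A) := h
    rw [← hp] at h6
    exact y.2 h6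
  letI algRpT : Algebra (Localization.AtPrime p) T :=
    (IsLocalization.lift (M := p.primeCompl) (g := algebraMap R T) hunits).toAlgebra
  haveI tw : IsScalarTower R (Localization.AtPrime p) T :=
    IsScalarTower.of_algebraMap_eq (fun r => by
      show algebraMap R T r =
        IsLocalization.lift hunits (algebraMap R (Localization.AtPrime p) r)
      rw [IsLocalization.lift_eq])
  have hess : CAlgX.IsEssFinitePresentation (Localization.AtPrime p) T :=
    Groth.Agent.Helper2.EssFP.essFP_of_atPrime p q (fun a ha h => ha (by rw [hp]; exact h)) _ _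
  have hpT : (maximalIdeal (Localization.AtPrime p)).map
      (algebraMap (Localization.AtPrime p) T) = p.map (algebraMap R T) := by
    rw [← Localization.AtPrime.map_eq_maximalIdeal, Ideal.map_map,
      ← IsScalarTower.algebraMap_eq]
  have hpTle : p.map (algebraMap R T) ≤ maximalIdeal T := by
    rw [← IsLocalization.AtPrime.map_eq_maximalIdeal q T, IsScalarTower.algebraMap_eq R A T,
      ← Ideal.map_map]
    apply Ideal.map_mono
    rw [Ideal.map_le_iff_le_comap, hp]
  haveI hFnoeth : IsNoetherianRing (T ⧸ p.map (algebraMap R T)) := by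
    have := Groth.Agent.Helper2.LocCritFP.isNoetherianRing_quot_of_essFP hess
    rwa [hpT] at this
  haveI hFnt : Nontrivial (T ⧸ p.map (algebraMap R T)) := by
    rw [Ideal.Quotient.nontrivial_iff]
    exact (hpTle.trans_lt (maximalIdeal.isMaximal T).ne_top.lt_top).ne
  exact ⟨hFnoeth, IsLocalRing.of_surjective' (Ideal.Quotient.mk (p.map (algebraMap R T)))
      Ideal.Quotient.mk_surjective⟩

end Main

section Quasi
open TensorProduct

lemma ofList_ofFn' {S : Type u} [CommRing S] {r : ℕ} (f : Fin r → S) :
    Ideal.ofList (List.ofFn f) = Ideal.span (Set.range f) := by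
  show Ideal.span {x | x ∈ List.ofFn f} = Ideal.span (Set.range f)
  congr 1
  ext x
  simp [List.mem_ofFn]
variable {R P : Type u} [CommRing R] [CommRing P] [Algebra R P] [Algebra.FinitePresentation R P]

/-- a quasi-regular sequence with flat quotient in a finitely presented algebra, flat at a prime
`q`, generates near `q` an ideal generated by a regular sequence. -/
theorem exists_regular_of_quasi (q : Ideal P) [q.IsPrime]
    (hflatT : Module.Flat R (Localization.AtPrime q))
    (rs : List P) (hrs : CAlgX.IsQuasiRegular rs.get) (hq : Ideal.ofList rs ≤ q)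
    (hflat : Module.Flat R (P ⧸ Ideal.ofList rs)) :
    ∃ G : P, G ∉ q ∧ ∃ as : List P, ∀ (P' : Type u) [CommRing P'] [Algebra P P']
      [IsLocalization.Away G P'],
      IsWeaklyRegular P' (as.map (algebraMap P P')) ∧
        (Ideal.ofList rs).map (algebraMap P P') = Ideal.ofList (as.map (algebraMap P P')) := by
  classical
  have hI : (Ideal.ofList rs).FG := Submodule.fg_span (List.finite_toSet rs)
  obtain ⟨hFnoeth, hFloc⟩ := fibre_ring_props (T := Localization.AtPrime q) q
    (q.comap (algebraMap R P)) rfl
  -- flatness of the quotient of the local ring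
  have hFI : Module.Flat R (Localization.AtPrime q ⧸
      (Ideal.ofList rs).map (algebraMap P (Localization.AtPrime q))) := by
    haveI : IsLocalization (Algebra.algebraMapSubmonoid (P ⧸ Ideal.ofList rs) q.primeCompl)
        (Localization.AtPrime q ⧸
          (Ideal.ofList rs).map (algebraMap P (Localization.AtPrime q))) := inferInstance
    haveI : Module.Flat (P ⧸ Ideal.ofList rs) (Localization.AtPrime q ⧸
        (Ideal.ofList rs).map (algebraMap P (Localization.AtPrime q))) :=
      IsLocalization.flat _ (Algebra.algebraMapSubmonoid (P ⧸ Ideal.ofList rs) q.primeCompl)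
    haveI : IsScalarTower R (P ⧸ Ideal.ofList rs) (Localization.AtPrime q ⧸
        (Ideal.ofList rs).map (algebraMap P (Localization.AtPrime q))) :=
      IsScalarTower.of_algebraMap_eq (fun r => by
        show Ideal.Quotient.mk _ (algebraMap R (Localization.AtPrime q) r) =
          Ideal.Quotient.mk _ (algebraMap P (Localization.AtPrime q) (algebraMap R P r))
        rw [← IsScalarTower.algebraMap_apply R P (Localization.AtPrime q)])
    exact Module.Flat.trans R (P ⧸ Ideal.ofList rs) _
  -- quasi-regularity in the local ring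
  have hqT : CAlgX.IsQuasiRegular (rs.map (algebraMap P (Localization.AtPrime q))).get := by
    have h1 := Groth.Agent.Lead.QRegFlat.isQuasiRegular_of_flat (S := Localization.AtPrime q)
      rs.get hrs
    refine Groth.Agent.Lead.KoszulGeoD.isQuasiRegular_congr (List.length_map _).symm _ _
      (fun k => ?_) h1
    simp
  have hfl' : Module.Flat R (Localization.AtPrime q ⧸
      Ideal.span (Set.range (rs.map (algebraMap P (Localization.AtPrime q))).get)) := by
    rw [Set.range_list_get]
    have : Ideal.span {x | x ∈ rs.map (algebraMap P (Localization.AtPrime q))} =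
        (Ideal.ofList rs).map (algebraMap P (Localization.AtPrime q)) := by
      rw [Ideal.map_ofList]
    rw [this]
    exact hFI
  have h1 := Groth.Agent.Lead.QRegBCd.main R (Localization.AtPrime q)
    (R ⧸ q.comap (algebraMap R P)) _ hfl' hqT
  -- transfer to the fibre ring
  let e := (Algebra.TensorProduct.quotIdealMapEquivQuotTensor (Localization.AtPrime q)
    (q.comap (algebraMap R P))).symm
  have he : ∀ t : Localization.AtPrime q, e ((1 : R ⧸ q.comap (algebraMap R P)) ⊗ₜ[R] t) =
      Ideal.Quotient.mk _ t := by
    intro t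
    rw [AlgEquiv.symm_apply_eq]
    rfl
  letI algF : Algebra ((R ⧸ q.comap (algebraMap R P)) ⊗[R] Localization.AtPrime q)
      (Localization.AtPrime q ⧸ (q.comap (algebraMap R P)).map
        (algebraMap R (Localization.AtPrime q))) := e.toRingEquiv.toRingHom.toAlgebra
  haveI : Module.Flat ((R ⧸ q.comap (algebraMap R P)) ⊗[R] Localization.AtPrime q)
      (Localization.AtPrime q ⧸ (q.comap (algebraMap R P)).map
        (algebraMap R (Localization.AtPrime q))) :=
    RingHom.Flat.of_bijective (f := e.toRingEquiv.toRingHom) e.bijective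
  have h2 := Groth.Agent.Lead.QRegFlat.isQuasiRegular_of_flat
    (S := Localization.AtPrime q ⧸ (q.comap (algebraMap R P)).map
        (algebraMap R (Localization.AtPrime q))) _ h1
  have hjac : ∀ i, (fun i => algebraMap ((R ⧸ q.comap (algebraMap R P)) ⊗[R]
      Localization.AtPrime q) (Localization.AtPrime q ⧸ (q.comap (algebraMap R P)).map
        (algebraMap R (Localization.AtPrime q)))
      (Groth.Agent.Lead.QRegBCd.f' (A := R) (A' := R ⧸ q.comap (algebraMap R P))
        (rs.map (algebraMap P (Localization.AtPrime q))).get i)) i ∈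
      Ring.jacobson (Localization.AtPrime q ⧸ (q.comap (algebraMap R P)).map
        (algebraMap R (Localization.AtPrime q))) := by
    intro i
    haveI : IsLocalRing (Localization.AtPrime q) := IsLocalization.AtPrime.isLocalRing _ q
    rw [IsLocalRing.ringJacobson_eq_maximalIdeal]
    show e ((1 : R ⧸ q.comap (algebraMap R P)) ⊗ₜ[R]
      (rs.map (algebraMap P (Localization.AtPrime q))).get i) ∈ _
    rw [he, mem_maximalIdeal, mem_nonunits_iff]
    intro hu
    haveI : IsLocalHom (Ideal.Quotient.mk ((q.comap (algebraMap R P)).map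
        (algebraMap R (Localization.AtPrime q)))) :=
      IsLocalHom.of_surjective _ Ideal.Quotient.mk_surjective
    have hu' := isUnit_of_map_unit (Ideal.Quotient.mk ((q.comap (algebraMap R P)).map
        (algebraMap R (Localization.AtPrime q)))) _ hu
    have hmem : (rs.map (algebraMap P (Localization.AtPrime q))).get i ∈
        maximalIdeal (Localization.AtPrime q) := by
      rw [← IsLocalization.AtPrime.map_eq_maximalIdeal q (Localization.AtPrime q)]
      rw [List.get_eq_getElem, List.getElem_map]
      apply Ideal.mem_map_of_mem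
      apply hq
      exact Ideal.subset_span (List.getElem_mem _)
    exact hmem hu'
  have h3 := Groth.Agent.Helper7.QRReg.isWeaklyRegular_of_isQuasiRegular _ _ _ hjac h2
  refine fibre_criterion_local_wr (T := Localization.AtPrime q) q (q.comap (algebraMap R P)) rfl
    hflatT (Ideal.ofList rs) hI hq hFI _ h3 ?_
  rw [ofList_ofFn', Ideal.map_ofList, Ideal.map_ofList]
  show Ideal.span (Set.range fun i => e ((1 : R ⧸ q.comap (algebraMap R P)) ⊗ₜ[R]
      (rs.map (algebraMap P (Localization.AtPrime q))).get i)) = _
  simp_rw [he]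
  have : (Set.range fun i => Ideal.Quotient.mk ((q.comap (algebraMap R P)).map
      (algebraMap R (Localization.AtPrime q)))
        ((rs.map (algebraMap P (Localization.AtPrime q))).get i)) =
      {x | x ∈ (rs.map (algebraMap P (Localization.AtPrime q))).map (Ideal.Quotient.mk _)} := by
    ext x
    simp only [Set.mem_range, Set.mem_setOf_eq]
    constructor
    · rintro ⟨i, rfl⟩
      exact List.mem_map.mpr ⟨_, List.get_mem _ i, rfl⟩
    · intro hx
      obtain ⟨y, hy, rfl⟩ := List.mem_map.mp hx
      obtain ⟨i, rfl⟩ := List.get_of_mem hy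
      exact ⟨i, rfl⟩
  rw [this]

end Quasi

end Groth.Agent.Helper3.KzFib
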