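import Mathlib
import Groth.Agent.Helper3.KzFib11

set_option autoImplicit false
set_option linter.style.haveILetI false
set_option linter.unusedSectionVars false
set_option linter.unusedVariables false
set_option linter.deprecated false
set_option linter.style.haveILetI false
set_option linter.unusedSectionVars false
set_option linter.unusedVariables false

/-!
# Fibre criterion for regular sequences: abstract form with a model of the fibre local ring
-/

namespace Groth.Agent.Helper3.KzFib
open IsLocalRing RingTheory.Sequence

universe u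

section Main
variable {R A T : Type u} [CommRing R] [CommRing A] [CommRing T] [Algebra R A] [Algebra A T]
  [Algebra R T] [IsScalarTower R A T] [Algebra.FinitePresentation R A] (q : Ideal A) [q.IsPrime]
  [IsLocalization.AtPrime T q]

/-- **Fibre criterion with a model `O'` of the local ring of the fibre**: `ψ₀ : T → O'` is
surjective with kernel `𝔭T`; `B'` is a ring with a flat map `γ : B' → O'` (a chart of the fibre)
receiving `A` compatibly; if `I B'` is generated by a quasi-regular sequence then `I` is generated
by a regular sequence on a basic open neighbourhood of `q`. -/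
theorem fibre_criterion_model (hflat : Module.Flat R T) (I : Ideal A) (hI : I.FG) (hIq : I ≤ q)
    (hFI : Module.Flat R (T ⧸ I.map (algebraMap A T)))
    {O' B' : Type u} [CommRing O'] [CommRing B'] (ψ₀ : T →+* O') (hψ : Function.Surjective ψ₀)
    (hker : RingHom.ker ψ₀ = (q.comap (algebraMap R A)).map (algebraMap R T))
    (γ : B' →+* O') (hγ : γ.Flat) (θ : A →+* B')
    (hcomm : γ.comp θ = ψ₀.comp (algebraMap A T))
    (rs : List B') (hrs : CAlgX.IsQuasiRegular rs.get) (hgen : Ideal.ofList rs = I.map θ) :
    ∃ G : A, G ∉ q ∧ ∃ as : List A, ∀ (A' : Type u) [CommRing A'] [Algebra A A']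
      [IsLocalization.Away G A'],
      IsWeaklyRegular A' (as.map (algebraMap A A')) ∧
        I.map (algebraMap A A') = Ideal.ofList (as.map (algebraMap A A')) := by
  classical
  haveI : IsLocalRing T := IsLocalization.AtPrime.isLocalRing T q
  obtain ⟨hFnoeth, hFloc⟩ := fibre_ring_props (T := T) q (q.comap (algebraMap R A)) rfl
  -- the isomorphism `F ≅ O'`
  let ψ : (T ⧸ (q.comap (algebraMap R A)).map (algebraMap R T)) ≃+* O' :=
    (Ideal.quotEquivOfEq hker.symm).trans (RingHom.quotientKerEquivOfSurjective hψ)
  have hψmk : ∀ t : T, ψ (Ideal.Quotient.mk _ t) = ψ₀ t := fun t => rfl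
  let σ : O' →+* (T ⧸ (q.comap (algebraMap R A)).map (algebraMap R T)) := ψ.symm.toRingHom
  have hσ : ∀ o, σ o = ψ.symm o := fun o => rfl
  -- quasi-regularity in `O'`, then in `F`
  have h1 : CAlgX.IsQuasiRegular (rs.map γ).get := by
    letI := γ.toAlgebra
    haveI : Module.Flat B' O' := hγ
    have h0 := Groth.Agent.Lead.QRegFlat.isQuasiRegular_of_flat (S := O') rs.get hrs
    refine Groth.Agent.Lead.KoszulGeoD.isQuasiRegular_congr (List.length_map _).symm _ _
      (fun k => ?_) h0
    rw [List.get_eq_getElem, List.getElem_map]
    rfl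
  have h2 : CAlgX.IsQuasiRegular ((rs.map γ).map σ).get := by
    letI := σ.toAlgebra
    haveI : Module.Flat O' (T ⧸ (q.comap (algebraMap R A)).map (algebraMap R T)) :=
      RingHom.Flat.of_bijective (f := σ) ψ.symm.bijective
    have h0 := Groth.Agent.Lead.QRegFlat.isQuasiRegular_of_flat
      (S := T ⧸ (q.comap (algebraMap R A)).map (algebraMap R T)) (rs.map γ).get h1
    refine Groth.Agent.Lead.KoszulGeoD.isQuasiRegular_congr (List.length_map _).symm _ _
      (fun k => ?_) h0
    rw [List.get_eq_getElem, List.getElem_map]
    rfl
  -- the generation statement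
  have hgen' : Ideal.ofList ((rs.map γ).map σ) =
      (I.map (algebraMap A T)).map (Ideal.Quotient.mk _) := by
    rw [← Ideal.map_ofList, ← Ideal.map_ofList, hgen, Ideal.map_map, Ideal.map_map, Ideal.map_map]
    congr 1
    ext a
    show σ (γ (θ a)) = Ideal.Quotient.mk _ (algebraMap A T a)
    rw [hσ, RingEquiv.symm_apply_eq, hψmk]
    exact RingHom.congr_fun hcomm a
  -- membership in the maximal ideal
  have hKle : I.map (algebraMap A T) ≤ maximalIdeal T := by
    rw [← IsLocalization.AtPrime.map_eq_maximalIdeal q T]
    exact Ideal.map_mono hIq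
  have hmem : ∀ x ∈ (rs.map γ).map σ, x ∈ maximalIdeal
      (T ⧸ (q.comap (algebraMap R A)).map (algebraMap R T)) := by
    intro x hx
    have h3 : x ∈ (I.map (algebraMap A T)).map (Ideal.Quotient.mk
        ((q.comap (algebraMap R A)).map (algebraMap R T))) := by
      rw [← hgen']
      exact Ideal.subset_span hx
    have h4 : (I.map (algebraMap A T)).map (Ideal.Quotient.mk
        ((q.comap (algebraMap R A)).map (algebraMap R T))) ≤
        maximalIdeal (T ⧸ (q.comap (algebraMap R A)).map (algebraMap R T)) := by
      rw [Ideal.map_le_iff_le_comap]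
      intro t ht
      have ht' := hKle ht
      rw [Ideal.mem_comap, mem_maximalIdeal, mem_nonunits_iff]
      intro hu
      rw [mem_maximalIdeal, mem_nonunits_iff] at ht'
      apply ht'
      haveI : IsLocalHom (Ideal.Quotient.mk ((q.comap (algebraMap R A)).map (algebraMap R T))) :=
        IsLocalHom.of_surjective _ Ideal.Quotient.mk_surjective
      exact isUnit_of_map_unit (Ideal.Quotient.mk _) t hu
    exact h4 h3
  -- weak regularity in the fibre ring
  have h3 : IsWeaklyRegular (T ⧸ (q.comap (algebraMap R A)).map (algebraMap R T))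
      ((rs.map γ).map σ) := by
    have h0 := Groth.Agent.Helper7.QRReg.isWeaklyRegular_of_isQuasiRegular _ _
      ((rs.map γ).map σ).get (fun i => by
        rw [IsLocalRing.ringJacobson_eq_maximalIdeal]
        exact hmem _ (List.get_mem _ i)) h2
    rwa [List.ofFn_get] at h0
  exact fibre_criterion_local_wr (T := T) q (q.comap (algebraMap R A)) rfl hflat I hI hIq hFI _
    h3 hgen'

end Main

end Groth.Agent.Helper3.KzFib
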