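import Mathlib
import Groth.Prelude.Def_RegImm
import Groth.Agent.Helper3.KzFib11
import Groth.Agent.Helper3.EtSliceSch
import Groth.Agent.Lead.RelBCb

set_option autoImplicit false
set_option linter.style.haveILetI false
set_option linter.unusedSectionVars false
set_option linter.unusedVariables false
set_option linter.deprecated false
set_option linter.style.haveILetI false
set_option linter.unusedSectionVars false
set_option linter.unusedVariables false

/-!
# Relative quasi-regular immersions into flat l.f.p. schemes are regular immersions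
-/

namespace Groth.Agent.Helper3.RelQR
open CategoryTheory Limits AlgebraicGeometry TopologicalSpace RingTheory.Sequence

universe u

/-- the quotient by the kernel of a surjection with flat composite is flat -/
theorem flat_quot_of_comp {R P C : CommRingCat.{u}} (φ : R ⟶ P) (π : P ⟶ C)
    (hπ : Function.Surjective π.hom) (hCflat : (φ ≫ π).hom.Flat) :
    letI : Algebra R P := φ.hom.toAlgebra
    Module.Flat R (P ⧸ RingHom.ker π.hom) := by
  letI : Algebra R P := φ.hom.toAlgebra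
  letI : Algebra R C := (φ ≫ π).hom.toAlgebra
  haveI : Module.Flat R C := hCflat
  let ℓ : (P ⧸ RingHom.ker π.hom) ≃+* C := RingHom.quotientKerEquivOfSurjective hπ
  let ℓ' : (P ⧸ RingHom.ker π.hom) ≃ₗ[R] C :=
    { ℓ with
      map_smul' := by
        intro r x
        obtain ⟨a, rfl⟩ := Ideal.Quotient.mk_surjective x
        show ℓ (r • Ideal.Quotient.mk _ a) = (φ ≫ π).hom r * ℓ (Ideal.Quotient.mk _ a)
        have : r • Ideal.Quotient.mk (RingHom.ker π.hom) a =
            Ideal.Quotient.mk _ (φ.hom r * a) := rfl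
        rw [this]
        show π.hom (φ.hom r * a) = (φ ≫ π).hom r * π.hom a
        rw [map_mul]
        rfl }
  exact Module.Flat.of_linearEquiv ℓ'

/-- ring-level core in `CommRingCat` form -/
theorem ring_core {R P C : CommRingCat.{u}} (φ : R ⟶ P) (π : P ⟶ C)
    (hfp : φ.hom.FinitePresentation) (hflat : φ.hom.Flat) (hπ : Function.Surjective π.hom)
    (hCflat : (φ ≫ π).hom.Flat) (q : Ideal P) [q.IsPrime] (hq : RingHom.ker π.hom ≤ q)
    (rs : List P) (hrs : CAlgX.IsQuasiRegular rs.get)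
    (hker : RingHom.ker π.hom = Ideal.ofList rs) :
    ∃ G : P, G ∉ q ∧ ∃ as : List P, ∀ (P' : Type u) [CommRing P'] [Algebra P P']
      [IsLocalization.Away G P'],
      IsWeaklyRegular P' (as.map (algebraMap P P')) ∧
        (RingHom.ker π.hom).map (algebraMap P P') = Ideal.ofList (as.map (algebraMap P P')) := by
  letI : Algebra R P := φ.hom.toAlgebra
  haveI : Algebra.FinitePresentation R P := hfp
  haveI : Module.Flat R P := hflat
  have hfl := flat_quot_of_comp φ π hπ hCflat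
  rw [hker] at hfl hq ⊢
  exact Groth.Agent.Helper3.KzFib.exists_regular_of_quasi q
    (Module.Flat.trans R P (Localization.AtPrime q)) rs hrs hq hfl

variable {Z X S : Scheme.{u}}

/-- **Relative quasi-regular immersions into flat, locally finitely presented `S`-schemes are
regular immersions.** -/
theorem regular_of_relQuasi (f : X ⟶ S) [Flat f] [LocallyOfFinitePresentation f]
    (i : Z ⟶ X) (hi : RegImm.IsRelRegularImmersion RegImm.Kind.quasi f i) :
    RegImm.IsRegularImmersion RegImm.Kind.regular i := by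
  obtain ⟨⟨himm, hat⟩, hfl⟩ := hi
  refine ⟨himm, fun z => ?_⟩
  obtain ⟨U, hzU, hcl, rs, hrs, hker⟩ := hat z
  obtain ⟨W, hW, hsW⟩ : ∃ W : S.Opens, IsAffineOpen W ∧ f (i z) ∈ W := by
    obtain ⟨_, ⟨W, hW, rfl⟩, hs, -⟩ := S.isBasis_affineOpens.exists_subset_of_mem_open
      (Set.mem_univ (f (i z))) isOpen_univ
    exact ⟨W, hW, hs⟩
  obtain ⟨U₁, hU₁, hzU₁, hle⟩ :
      ∃ U₁ : X.Opens, IsAffineOpen U₁ ∧ i z ∈ U₁ ∧ U₁ ≤ U.1 ⊓ f ⁻¹ᵁ W := by
    obtain ⟨_, ⟨V, hV, rfl⟩, hx, hsub⟩ := X.isBasis_affineOpens.exists_subset_of_mem_open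
      (show i z ∈ ((U.1 ⊓ f ⁻¹ᵁ W : X.Opens) : Set X) from ⟨hzU, hsW⟩) (U.1 ⊓ f ⁻¹ᵁ W).2
    exact ⟨V, hV, hx, hsub⟩
  have hU₁U : U₁ ≤ U.1 := hle.trans inf_le_left
  have e : U₁ ≤ f ⁻¹ᵁ W := hle.trans inf_le_right
  haveI := hcl
  obtain ⟨hcl₁, hrs₁, hker₁⟩ := Groth.Agent.Lead.RelBCb.kind_restrict RegImm.Kind.quasi i U.2 hU₁
    hU₁U rs hrs hker z hzU₁
  haveI := hcl₁
  obtain ⟨hUX, hsurj⟩ := Groth.Agent.Lead.H1RegB.affine_of_restrict_closed i hU₁
  have hfp := HasRingHomProperty.appLE (P := @LocallyOfFinitePresentation) f inferInstance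
    ⟨W, hW⟩ ⟨U₁, hU₁⟩ e
  have hflat := HasRingHomProperty.appLE (P := @Flat) f inferInstance ⟨W, hW⟩ ⟨U₁, hU₁⟩ e
  have e' : i ⁻¹ᵁ U₁ ≤ (i ≫ f) ⁻¹ᵁ W := by
    intro y hy
    exact e hy
  have hCflat := HasRingHomProperty.appLE (P := @Flat) (i ≫ f) hfl ⟨W, hW⟩ ⟨i ⁻¹ᵁ U₁, hUX⟩ e'
  have hcomp : (i ≫ f).appLE W (i ⁻¹ᵁ U₁) e' = f.appLE W U₁ e ≫ i.app U₁ := by
    rw [Scheme.Hom.app_eq_appLE, Scheme.Hom.appLE_comp_appLE]
  rw [hcomp] at hCflat
  -- the prime
  have hqle : RingHom.ker (i.app U₁).hom ≤ (hU₁.primeIdealOf ⟨i z, hzU₁⟩).asIdeal := by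
    intro a ha
    rw [← Groth.Agent.Helper3.EtSliceSch.mem_primeIdealOf_iff hU₁ (i z) hzU₁ a,
      Scheme.evaluation_eq_zero_iff_notMem_basicOpen]
    intro hmem
    have h1 : z ∈ i ⁻¹ᵁ (X.basicOpen a) := hmem
    rw [Scheme.preimage_basicOpen] at h1
    have h2 : (i.app U₁).hom a = 0 := ha
    rw [show (i.app U₁) a = (i.app U₁).hom a from rfl, h2, Scheme.basicOpen_zero] at h1
    exact h1
  obtain ⟨G, hGq, as, hG⟩ := ring_core (f.appLE W U₁ e) (i.app U₁) hfp hflat hsurj hCflat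
    (hU₁.primeIdealOf ⟨i z, hzU₁⟩).asIdeal hqle _ hrs₁ hker₁
  haveI hlocG : IsLocalization.Away G Γ(X, X.basicOpen G) := hU₁.isLocalization_basicOpen G
  obtain ⟨hwr, hmap⟩ := hG Γ(X, X.basicOpen G)
  have hzG : i z ∈ X.basicOpen G := by
    by_contra hcon
    apply hGq
    rw [← Groth.Agent.Helper3.EtSliceSch.mem_primeIdealOf_iff hU₁ (i z) hzU₁ G,
      Scheme.evaluation_eq_zero_iff_notMem_basicOpen]
    exact hcon
  have hGaff : IsAffineOpen (X.basicOpen G) := hU₁.basicOpen G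
  have hcl₂ : IsClosedImmersion (i ∣_ X.basicOpen G) :=
    Groth.Agent.Lead.KoszulGeoA.isClosedImmersion_restrict_of_le i (X.basicOpen_le G)
  have hker₂ : RingHom.ker (i.app (X.basicOpen G)).hom =
      Ideal.ofList (as.map (algebraMap Γ(X, U₁) Γ(X, X.basicOpen G))) := by
    rw [← hmap, ← Groth.Agent.Lead.KoszulGeoA.ker_restrict i hU₁ hGaff (X.basicOpen_le G)]
    rfl
  refine ⟨⟨X.basicOpen G, hGaff⟩, hzG, hcl₂, as.map (algebraMap Γ(X, U₁) Γ(X, X.basicOpen G)),
    ?_, hker₂⟩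
  refine (⟨hwr, ?_⟩ : RingTheory.Sequence.IsRegular _ _)
  intro h
  rw [Ideal.smul_eq_mul, Ideal.mul_top] at h
  have h1 : (1 : Γ(X, X.basicOpen G)) ∈ RingHom.ker (i.app (X.basicOpen G)).hom := by
    rw [hker₂, ← h]
    trivial
  rw [RingHom.mem_ker, map_one] at h1
  haveI : Nonempty (i ⁻¹ᵁ (X.basicOpen G) : Z.Opens) := ⟨⟨z, hzG⟩⟩
  exact one_ne_zero h1

end Groth.Agent.Helper3.RelQR
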