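import Mathlib
import Groth.Prelude.Def_RegImm
import Groth.Agent.Helper3.KzFib12
import Groth.Agent.Helper3.RelQR1
import Groth.Agent.Helper3.EtSliceSch
import Groth.Agent.Helper5.FibStalk
import Groth.Agent.Lead.RelBCb

set_option autoImplicit false
set_option linter.style.haveILetI false
set_option linter.unusedSectionVars false
set_option linter.unusedVariables false
set_option linter.deprecated false
set_option linter.style.haveILetI false
set_option linter.unusedSectionVars false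
set_option linter.unusedVariables false

/-!
# Regularity of an immersion from regularity of its fibres (scheme-level chart form)
-/

namespace Groth.Agent.Helper3.FibReg
open CategoryTheory Limits AlgebraicGeometry TopologicalSpace RingTheory.Sequence IsLocalRing

universe u

variable {X S Z : Scheme.{u}}

/-- the germ of a pulled back section -/
theorem germ_appLE (g : X ⟶ S) {W : S.Opens} {U : X.Opens} (e : U ≤ g ⁻¹ᵁ W) (x : X)
    (hx : x ∈ U) :
    g.appLE W U e ≫ X.presheaf.germ U x hx =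
      S.presheaf.germ W (g x) (e hx) ≫ g.stalkMap x := by
  rw [Scheme.Hom.germ_stalkMap, Scheme.Hom.appLE, Category.assoc, X.presheaf.germ_res]

/-- germs at points of an affine open are flat -/
theorem flat_germ {Y : Scheme.{u}} {V : Y.Opens} (hV : IsAffineOpen V) (y : Y) (hy : y ∈ V) :
    (Y.presheaf.germ V y hy).hom.Flat := by
  letI := TopCat.Presheaf.algebra_section_stalk Y.presheaf ⟨y, hy⟩
  haveI : IsLocalization.AtPrime (Y.presheaf.stalk y) (hV.primeIdealOf ⟨y, hy⟩).asIdeal :=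
    hV.isLocalization_stalk ⟨y, hy⟩
  show Module.Flat Γ(Y, V) (Y.presheaf.stalk y)
  exact IsLocalization.flat _ (hV.primeIdealOf ⟨y, hy⟩).asIdeal.primeCompl

/-- **Regularity from the fibre.** -/
theorem regular_of_fibre (g : X ⟶ S) [LocallyOfFinitePresentation g] (i : Z ⟶ X)
    (s : S) {Z' : Scheme.{u}} (i' : Z' ⟶ g.fiber s) (h' : Z' ⟶ Z)
    (hsq : IsPullback h' i' i (g.fiberι s)) (z' : Z')
    (W : S.Opens) (hW : IsAffineOpen W)
    (U : X.Opens) (hU : IsAffineOpen U) (e : U ≤ g ⁻¹ᵁ W)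
    (hzU : g.fiberι s (i' z') ∈ U) [IsClosedImmersion (i ∣_ U)]
    (hfg : (RingHom.ker (i.app U).hom).FG)
    (hflX : (g.stalkMap (g.fiberι s (i' z'))).hom.Flat) (hflZ : Flat (i ≫ g))
    (V' : (g.fiber s).Opens) (hV' : IsAffineOpen V') (hzV' : i' z' ∈ V')
    [IsClosedImmersion (i' ∣_ V')]
    (rs' : List Γ(g.fiber s, V')) (hrs' : CAlgX.IsQuasiRegular rs'.get)
    (hker' : RingHom.ker (i'.app V').hom = Ideal.ofList rs') :
    ∃ G : Γ(X, U), g.fiberι s (i' z') ∈ X.basicOpen G ∧ ∃ as : List Γ(X, X.basicOpen G),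
      IsWeaklyRegular Γ(X, X.basicOpen G) as ∧
        RingHom.ker (i.app (X.basicOpen G)).hom = Ideal.ofList as := by
  have hxz : i (h' z') = g.fiberι s (i' z') := by
    rw [← Scheme.Hom.comp_apply, hsq.w, Scheme.Hom.comp_apply]
  -- a chart on the fibre
  obtain ⟨U', hU', hxU', hle'⟩ : ∃ U' : (g.fiber s).Opens, IsAffineOpen U' ∧ i' z' ∈ U' ∧
      U' ≤ (g.fiberι s) ⁻¹ᵁ U ⊓ V' := by
    obtain ⟨_, ⟨V, hV, rfl⟩, hx, hsub⟩ :=
      (g.fiber s).isBasis_affineOpens.exists_subset_of_mem_open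
      (show i' z' ∈ (((g.fiberι s) ⁻¹ᵁ U ⊓ V' : (g.fiber s).Opens) : Set (g.fiber s)) from
        ⟨hzU, hzV'⟩) ((g.fiberι s) ⁻¹ᵁ U ⊓ V').2
    exact ⟨V, hV, hx, hsub⟩
  have e' : U' ≤ (g.fiberι s) ⁻¹ᵁ U := hle'.trans inf_le_left
  obtain ⟨hcl'', hrs'', hker''⟩ := Groth.Agent.Lead.RelBCb.kind_restrict RegImm.Kind.quasi i' hV'
    hU' (hle'.trans inf_le_right) rs' hrs' hker' z' hxU'
  obtain ⟨-, hkerbc⟩ := Groth.Agent.Lead.RelBCb.baseChange_chart' i (g.fiberι s) i' h' hsq U hU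
    U' hU' e'
  -- the rings
  letI algA : Algebra Γ(S, W) Γ(X, U) := (g.appLE W U e).hom.toAlgebra
  letI algT : Algebra Γ(X, U) (X.presheaf.stalk (g.fiberι s (i' z'))) :=
    (X.presheaf.germ U (g.fiberι s (i' z')) hzU).hom.toAlgebra
  letI algRT : Algebra Γ(S, W) (X.presheaf.stalk (g.fiberι s (i' z'))) :=
    ((X.presheaf.germ U (g.fiberι s (i' z')) hzU).hom.comp (g.appLE W U e).hom).toAlgebra
  haveI : IsScalarTower Γ(S, W) Γ(X, U) (X.presheaf.stalk (g.fiberι s (i' z'))) :=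
    IsScalarTower.of_algebraMap_eq (fun _ => rfl)
  haveI : Algebra.FinitePresentation Γ(S, W) Γ(X, U) :=
    HasRingHomProperty.appLE (P := @LocallyOfFinitePresentation) g inferInstance ⟨W, hW⟩
      ⟨U, hU⟩ e
  haveI hloc : IsLocalization.AtPrime (X.presheaf.stalk (g.fiberι s (i' z')))
      (hU.primeIdealOf ⟨g.fiberι s (i' z'), hzU⟩).asIdeal :=
    hU.isLocalization_stalk ⟨g.fiberι s (i' z'), hzU⟩
  -- flatness of the local ring
  have hfac : (X.presheaf.germ U (g.fiberι s (i' z')) hzU).hom.comp (g.appLE W U e).hom =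
      (g.stalkMap (g.fiberι s (i' z'))).hom.comp
        (S.presheaf.germ W (g (g.fiberι s (i' z'))) (e hzU)).hom := by
    have := congrArg CommRingCat.Hom.hom (germ_appLE g e (g.fiberι s (i' z')) hzU)
    exact this
  have hflat : Module.Flat Γ(S, W) (X.presheaf.stalk (g.fiberι s (i' z'))) := by
    show ((X.presheaf.germ U (g.fiberι s (i' z')) hzU).hom.comp (g.appLE W U e).hom).Flat
    rw [hfac]
    exact RingHom.Flat.comp (flat_germ hW _ _) hflX
  -- flatness of the quotient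
  haveI := hcl''
  obtain ⟨hUX, hsurj⟩ := Groth.Agent.Lead.H1RegB.affine_of_restrict_closed i hU
  have eZ : i ⁻¹ᵁ U ≤ (i ≫ g) ⁻¹ᵁ W := by
    intro y hy
    exact e hy
  have hCflat := HasRingHomProperty.appLE (P := @Flat) (i ≫ g) hflZ ⟨W, hW⟩ ⟨i ⁻¹ᵁ U, hUX⟩ eZ
  have hcomp : (i ≫ g).appLE W (i ⁻¹ᵁ U) eZ = g.appLE W U e ≫ i.app U := by
    rw [Scheme.Hom.app_eq_appLE, Scheme.Hom.appLE_comp_appLE]
  rw [hcomp] at hCflat
  have hflQ : Module.Flat Γ(S, W) (Γ(X, U) ⧸ RingHom.ker (i.app U).hom) :=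
    Groth.Agent.Helper3.RelQR.flat_quot_of_comp (g.appLE W U e) (i.app U) hsurj hCflat
  have hFI : Module.Flat Γ(S, W) (X.presheaf.stalk (g.fiberι s (i' z')) ⧸
      (RingHom.ker (i.app U).hom).map
        (algebraMap Γ(X, U) (X.presheaf.stalk (g.fiberι s (i' z'))))) := by
    haveI : IsLocalization (Algebra.algebraMapSubmonoid (Γ(X, U) ⧸ RingHom.ker (i.app U).hom)
        (hU.primeIdealOf ⟨g.fiberι s (i' z'), hzU⟩).asIdeal.primeCompl)
        (X.presheaf.stalk (g.fiberι s (i' z')) ⧸ (RingHom.ker (i.app U).hom).map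
          (algebraMap Γ(X, U) (X.presheaf.stalk (g.fiberι s (i' z'))))) := inferInstance
    haveI : Module.Flat (Γ(X, U) ⧸ RingHom.ker (i.app U).hom)
        (X.presheaf.stalk (g.fiberι s (i' z')) ⧸ (RingHom.ker (i.app U).hom).map
          (algebraMap Γ(X, U) (X.presheaf.stalk (g.fiberι s (i' z'))))) :=
      IsLocalization.flat _ (Algebra.algebraMapSubmonoid (Γ(X, U) ⧸ RingHom.ker (i.app U).hom)
        (hU.primeIdealOf ⟨g.fiberι s (i' z'), hzU⟩).asIdeal.primeCompl)
    haveI : IsScalarTower Γ(S, W) (Γ(X, U) ⧸ RingHom.ker (i.app U).hom)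
        (X.presheaf.stalk (g.fiberι s (i' z')) ⧸ (RingHom.ker (i.app U).hom).map
          (algebraMap Γ(X, U) (X.presheaf.stalk (g.fiberι s (i' z'))))) :=
      IsScalarTower.of_algebraMap_eq (fun r => rfl)
    exact Module.Flat.trans Γ(S, W) (Γ(X, U) ⧸ RingHom.ker (i.app U).hom) _
  -- the prime contains the ideal
  have hqle : RingHom.ker (i.app U).hom ≤
      (hU.primeIdealOf ⟨g.fiberι s (i' z'), hzU⟩).asIdeal := by
    intro a ha
    rw [← Groth.Agent.Helper3.EtSliceSch.mem_primeIdealOf_iff hU _ hzU a,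
      Scheme.evaluation_eq_zero_iff_notMem_basicOpen]
    intro hmem
    rw [← hxz] at hmem
    have h1 : h' z' ∈ i ⁻¹ᵁ (X.basicOpen a) := hmem
    rw [Scheme.preimage_basicOpen] at h1
    have h2 : (i.app U).hom a = 0 := ha
    rw [show (i.app U) a = (i.app U).hom a from rfl, h2, Scheme.basicOpen_zero] at h1
    exact h1
  -- the model of the fibre local ring
  obtain ⟨hψsurj, hψker⟩ := Groth.Agent.Helper5.FibStalk.s9501 g s (i' z')
  have hker0 : RingHom.ker ((g.fiberι s).stalkMap (i' z')).hom =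
      ((hU.primeIdealOf ⟨g.fiberι s (i' z'), hzU⟩).asIdeal.comap
        (algebraMap Γ(S, W) Γ(X, U))).map
        (algebraMap Γ(S, W) (X.presheaf.stalk (g.fiberι s (i' z')))) := by
    rw [hψker]
    have h1 : (hU.primeIdealOf ⟨g.fiberι s (i' z'), hzU⟩).asIdeal.comap
        (algebraMap Γ(S, W) Γ(X, U)) =
        (hW.primeIdealOf ⟨g (g.fiberι s (i' z')), e hzU⟩).asIdeal :=
      congrArg PrimeSpectrum.asIdeal (IsAffineOpen.comap_primeIdealOf_appLE W hW U hU e hzU)
    rw [h1]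
    letI := TopCat.Presheaf.algebra_section_stalk S.presheaf
      (⟨g (g.fiberι s (i' z')), e hzU⟩ : W)
    haveI : IsLocalization.AtPrime (S.presheaf.stalk (g (g.fiberι s (i' z'))))
        (hW.primeIdealOf ⟨g (g.fiberι s (i' z')), e hzU⟩).asIdeal :=
      hW.isLocalization_stalk ⟨g (g.fiberι s (i' z')), e hzU⟩
    rw [← IsLocalization.AtPrime.map_eq_maximalIdeal
      (hW.primeIdealOf ⟨g (g.fiberι s (i' z')), e hzU⟩).asIdeal
      (S.presheaf.stalk (g (g.fiberι s (i' z')))), Ideal.map_map]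
    congr 1
    exact hfac.symm
  have hcomm : ((g.fiber s).presheaf.germ U' (i' z') hxU').hom.comp
      ((g.fiberι s).appLE U U' e').hom =
      ((g.fiberι s).stalkMap (i' z')).hom.comp
        (algebraMap Γ(X, U) (X.presheaf.stalk (g.fiberι s (i' z')))) := by
    have := congrArg CommRingCat.Hom.hom (germ_appLE (g.fiberι s) e' (i' z') hxU')
    exact this
  have hgen : Ideal.ofList (rs'.map ((g.fiber s).presheaf.map
      (homOfLE (hle'.trans inf_le_right)).op).hom) =
      (RingHom.ker (i.app U).hom).map ((g.fiberι s).appLE U U' e').hom := by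
    rw [← hker'', hkerbc]
  obtain ⟨G, hGq, as, hG⟩ := Groth.Agent.Helper3.KzFib.fibre_criterion_model
    (T := X.presheaf.stalk (g.fiberι s (i' z')))
    (hU.primeIdealOf ⟨g.fiberι s (i' z'), hzU⟩).asIdeal hflat _ hfg hqle hFI
    ((g.fiberι s).stalkMap (i' z')).hom hψsurj hker0
    ((g.fiber s).presheaf.germ U' (i' z') hxU').hom (flat_germ hU' _ _)
    ((g.fiberι s).appLE U U' e').hom hcomm _ hrs'' hgen
  haveI hlocG : IsLocalization.Away G Γ(X, X.basicOpen G) := hU.isLocalization_basicOpen G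
  obtain ⟨hwr, hmap⟩ := hG Γ(X, X.basicOpen G)
  have hzG : g.fiberι s (i' z') ∈ X.basicOpen G := by
    by_contra hcon
    apply hGq
    rw [← Groth.Agent.Helper3.EtSliceSch.mem_primeIdealOf_iff hU _ hzU G,
      Scheme.evaluation_eq_zero_iff_notMem_basicOpen]
    exact hcon
  have hGaff : IsAffineOpen (X.basicOpen G) := hU.basicOpen G
  have hker₂ : RingHom.ker (i.app (X.basicOpen G)).hom =
      Ideal.ofList (as.map (algebraMap Γ(X, U) Γ(X, X.basicOpen G))) := by
    rw [← hmap, ← Groth.Agent.Lead.KoszulGeoA.ker_restrict i hU hGaff (X.basicOpen_le G)]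
    rfl
  exact ⟨G, hzG, as.map (algebraMap Γ(X, U) Γ(X, X.basicOpen G)), hwr, hker₂⟩

end Groth.Agent.Helper3.FibReg
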