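import Mathlib
import Groth.Prelude.Def_RegImm
import Groth.Agent.Helper3.FibReg1
import Groth.Agent.Helper2.LfpComp
import Groth.Agent.Lead.KoszulH1
import Groth.Agent.S15821
import Groth.Agent.S2103

set_option autoImplicit false
set_option linter.style.haveILetI false
set_option linter.unusedSectionVars false
set_option linter.unusedVariables false
set_option linter.deprecated false
set_option linter.style.haveILetI false
set_option linter.unusedSectionVars false
set_option linter.unusedVariables false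

/-!
# Fibrewise quasi-regular closed subschemes of flat l.f.p. schemes are relative quasi-regular
-/

namespace Groth.Agent.Helper3.FibReg
open CategoryTheory Limits AlgebraicGeometry TopologicalSpace RingTheory.Sequence IsLocalRing

universe u

variable {X S Z : Scheme.{u}}

/-- the kernel of a finitely presented surjective chart map is finitely generated -/
theorem ker_fg_of_lfp (i : Z ⟶ X) [LocallyOfFinitePresentation i] {U : X.Opens}
    (hU : IsAffineOpen U) (hUX : IsAffineOpen (i ⁻¹ᵁ U))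
    (hsurj : Function.Surjective (i.app U).hom) : (RingHom.ker (i.app U).hom).FG := by
  have h1 := HasRingHomProperty.appLE (P := @LocallyOfFinitePresentation) i inferInstance
    ⟨U, hU⟩ ⟨i ⁻¹ᵁ U, hUX⟩ le_rfl
  rw [Scheme.Hom.appLE_eq_app] at h1
  letI := (i.app U).hom.toAlgebra
  haveI : Algebra.FinitePresentation Γ(X, U) Γ(Z, i ⁻¹ᵁ U) := h1
  exact Algebra.FinitePresentation.ker_fG_of_surjective (Algebra.ofId Γ(X, U) Γ(Z, i ⁻¹ᵁ U))
    hsurj

/-- weakly regular sequences are quasi-regular -/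
theorem quasi_of_weaklyRegular {A : Type u} [CommRing A] (l : List A)
    (hl : IsWeaklyRegular A l) : CAlgX.IsQuasiRegular l.get :=
  Groth.Agent.S2103.result l.get
    (Groth.Agent.Lead.KoszulH1.isH1Regular_of_isKoszulRegularSeq l
      (Groth.Agent.S15821.result A l hl).1)

/-- **S8896** -/
theorem relQuasi_of_fibres (φ : X ⟶ S) [Flat φ] [LocallyOfFinitePresentation φ]
    (i : Z ⟶ X) [IsClosedImmersion i] [Flat (i ≫ φ)] [LocallyOfFinitePresentation (i ≫ φ)]
    (hfib : ∀ s : S, RegImm.IsRegularImmersion RegImm.Kind.quasi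
      (pullback.snd i (φ.fiberι s))) :
    RegImm.IsRelRegularImmersion RegImm.Kind.quasi φ i := by
  haveI : LocallyOfFinitePresentation i :=
    Groth.Agent.Helper2.LfpComp.locallyOfFinitePresentation_of_comp i φ inferInstance inferInstance
  refine ⟨⟨inferInstance, fun z => ?_⟩, inferInstance⟩
  have hx' : φ.fiberι (φ (i z)) (φ.asFiber (i z)) = i z := Scheme.Hom.fiberι_asFiber _ _
  obtain ⟨z', hz'1, hz'2⟩ := Scheme.Pullback.exists_preimage_pullback
    (f := i) (g := φ.fiberι (φ (i z))) z (φ.asFiber (i z)) hx'.symm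
  obtain ⟨V', hzV', hclV', rs', hrs', hker'⟩ := (hfib (φ (i z))).2 z'
  obtain ⟨W, hW, hsW⟩ : ∃ W : S.Opens, IsAffineOpen W ∧ φ (i z) ∈ W := by
    obtain ⟨_, ⟨W, hW, rfl⟩, hs, -⟩ := S.isBasis_affineOpens.exists_subset_of_mem_open
      (Set.mem_univ (φ (i z))) isOpen_univ
    exact ⟨W, hW, hs⟩
  obtain ⟨U, hU, hzU, e⟩ : ∃ U : X.Opens, IsAffineOpen U ∧ i z ∈ U ∧ U ≤ φ ⁻¹ᵁ W := by
    obtain ⟨_, ⟨V, hV, rfl⟩, hx, hsub⟩ := X.isBasis_affineOpens.exists_subset_of_mem_open
      (show i z ∈ ((φ ⁻¹ᵁ W : X.Opens) : Set X) from hsW) (φ ⁻¹ᵁ W).2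
    exact ⟨V, hV, hx, hsub⟩
  haveI hclU : IsClosedImmersion (i ∣_ U) := inferInstance
  obtain ⟨hUX, hsurj⟩ := Groth.Agent.Lead.H1RegB.affine_of_restrict_closed i hU
  have hfg := ker_fg_of_lfp i hU hUX hsurj
  have hpt : φ.fiberι (φ (i z)) ((pullback.snd i (φ.fiberι (φ (i z)))) z') = i z := by
    rw [hz'2, hx']
  haveI := hclV'
  obtain ⟨G, hzG, as, hwr, hker⟩ := regular_of_fibre φ i (φ (i z))
    (pullback.snd i (φ.fiberι (φ (i z)))) (pullback.fst i (φ.fiberι (φ (i z))))
    (IsPullback.of_hasPullback _ _) z' W hW U hU e (by rw [hpt]; exact hzU) hfg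
    (Flat.stalkMap φ _) inferInstance V'.1 V'.2 hzV' rs' hrs' hker'
  rw [hpt] at hzG
  exact ⟨⟨X.basicOpen G, hU.basicOpen G⟩, hzG,
    Groth.Agent.Lead.KoszulGeoA.isClosedImmersion_restrict_of_le i (X.basicOpen_le G), as,
    quasi_of_weaklyRegular as hwr, hker⟩

end Groth.Agent.Helper3.FibReg
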