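import Mathlib
import Groth.Prelude.Def_CAlgX

set_option autoImplicit false
set_option linter.style.haveILetI false
set_option linter.unusedSectionVars false
set_option linter.unusedVariables false
set_option linter.deprecated false
set_option linter.style.haveILetI false
set_option linter.unusedSectionVars false
set_option linter.unusedVariables false

/-!
# The Koszul complex in low degrees, explicitly
-/

namespace Groth.Agent.Helper3.KosLow

universe u
variable {A : Type u} [CommRing A] {r : ℕ}

/-- the trivial relations -/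
def triv (f : Fin r → A) (ij : Fin r × Fin r) : Fin r → A :=
  Pi.single ij.1 (f ij.2) - Pi.single ij.2 (f ij.1)

/-- `d₁` -/
noncomputable def d1 (f : Fin r → A) : (Fin r → A) →ₗ[A] A := Fintype.linearCombination A f

/-- `d₂` (on all ordered pairs) -/
noncomputable def d2 (f : Fin r → A) : (Fin r × Fin r → A) →ₗ[A] (Fin r → A) :=
  Fintype.linearCombination A (triv f)

lemma d1_apply (f : Fin r → A) (a : Fin r → A) : d1 f a = ∑ i, a i * f i := by
  simp [d1, Fintype.linearCombination_apply]

lemma d1_single (f : Fin r → A) (i : Fin r) (a : A) : d1 f (Pi.single i a) = a * f i := by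
  simp [d1, Fintype.linearCombination_apply_single]

lemma d2_single (f : Fin r → A) (ij : Fin r × Fin r) (a : A) :
    d2 f (Pi.single ij a) = a • triv f ij := by
  simp [d2, Fintype.linearCombination_apply_single]

lemma d1_triv (f : Fin r → A) (ij : Fin r × Fin r) : d1 f (triv f ij) = 0 := by
  rw [triv, map_sub, d1_single, d1_single]
  ring

lemma d1_d2 (f : Fin r → A) (c : Fin r × Fin r → A) : d1 f (d2 f c) = 0 := by
  rw [d2, Fintype.linearCombination_apply, map_sum]
  refine Finset.sum_eq_zero fun ij _ => ?_
  rw [map_smul, d1_triv, smul_zero]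

lemma range_d2 (f : Fin r → A) :
    LinearMap.range (d2 f) = Submodule.span A (Set.range (triv f)) :=
  Fintype.range_linearCombination A (triv f)

/-- `H_1`-regularity in terms of `d₁`, `d₂` -/
lemma isH1Regular_iff (f : Fin r → A) :
    CAlgX.IsH1Regular f ↔ LinearMap.ker (d1 f) ≤ LinearMap.range (d2 f) := by
  have hset : {v : Fin r → A | ∃ i j : Fin r, v = Pi.single i (f j) - Pi.single j (f i)} =
      Set.range (triv f) := by
    ext v
    constructor
    · rintro ⟨i, j, rfl⟩
      exact ⟨(i, j), rfl⟩
    · rintro ⟨⟨i, j⟩, rfl⟩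
      exact ⟨i, j, rfl⟩
  unfold CAlgX.IsH1Regular
  rw [hset, range_d2]
  constructor
  · intro h a ha
    rw [LinearMap.mem_ker, d1_apply] at ha
    exact h a ha
  · intro h a ha
    apply h
    rw [LinearMap.mem_ker, d1_apply]
    exact ha

/-- the standard second syzygies -/
def Z2gen (f : Fin r → A) : Set (Fin r × Fin r → A) :=
  {z | ∃ i j l : Fin r, z = Pi.single (i, j) (f l) + Pi.single (j, l) (f i) +
      Pi.single (l, i) (f j)} ∪
  {z | ∃ i j : Fin r, z = Pi.single (i, j) 1 + Pi.single (j, i) 1} ∪
  {z | ∃ i : Fin r, z = Pi.single (i, i) 1}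

lemma triv_swap (f : Fin r → A) (i j : Fin r) : triv f (i, j) + triv f (j, i) = 0 := by
  simp only [triv]
  abel

lemma triv_diag (f : Fin r → A) (i : Fin r) : triv f (i, i) = 0 := by
  simp [triv]

lemma Z2gen_le_ker (f : Fin r → A) : Submodule.span A (Z2gen f) ≤ LinearMap.ker (d2 f) := by
  rw [Submodule.span_le]
  rintro z ((⟨i, j, l, rfl⟩ | ⟨i, j, rfl⟩) | ⟨i, rfl⟩)
  · rw [SetLike.mem_coe, LinearMap.mem_ker, map_add, map_add, d2_single, d2_single, d2_single]
    simp only [triv]
    ext k
    simp only [Pi.add_apply, Pi.smul_apply, Pi.sub_apply, Pi.single_apply, smul_eq_mul,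
      Pi.zero_apply]
    split_ifs <;> ring
  · rw [SetLike.mem_coe, LinearMap.mem_ker, map_add, d2_single, d2_single, one_smul, one_smul,
      triv_swap]
  · rw [SetLike.mem_coe, LinearMap.mem_ker, d2_single, one_smul, triv_diag]

section map
variable {B : Type u} [CommRing B] (φ : A →+* B)

lemma map_triv (f : Fin r → A) (ij : Fin r × Fin r) :
    (fun k => φ (triv f ij k)) = triv (fun i => φ (f i)) ij := by
  ext k
  simp only [triv, Pi.sub_apply, Pi.single_apply, map_sub]
  split_ifs <;> simp

lemma map_d1 (f a : Fin r → A) : φ (d1 f a) = d1 (fun i => φ (f i)) (fun i => φ (a i)) := by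
  rw [d1_apply, d1_apply, map_sum]
  simp

lemma map_d2 (f : Fin r → A) (c : Fin r × Fin r → A) :
    (fun k => φ (d2 f c k)) = d2 (fun i => φ (f i)) (fun ij => φ (c ij)) := by
  ext k
  rw [d2, d2, Fintype.linearCombination_apply, Fintype.linearCombination_apply,
    Finset.sum_apply, Finset.sum_apply, map_sum]
  refine Finset.sum_congr rfl fun ij _ => ?_
  rw [Pi.smul_apply, Pi.smul_apply, smul_eq_mul, smul_eq_mul, map_mul, ← map_triv]

end map

end Groth.Agent.Helper3.KosLow
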