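import Mathlib
import Groth.Prelude.Def_CAlgX
import Groth.Agent.Helper3.KosLow1

set_option autoImplicit false
set_option linter.style.haveILetI false
set_option linter.unusedSectionVars false
set_option linter.unusedVariables false
set_option linter.deprecated false
set_option linter.style.haveILetI false
set_option linter.unusedSectionVars false
set_option linter.unusedVariables false

/-!
# Second syzygies of a sequence: the inductive step
-/

namespace Groth.Agent.Helper3.KosLow

universe u
variable {A : Type u} [CommRing A] {n : ℕ}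

/-- extension by zero of vectors -/
noncomputable def ext1 : (Fin n → A) →ₗ[A] (Fin (n + 1) → A) :=
  Fintype.linearCombination A (fun i : Fin n => (Pi.single (Fin.castSucc i) 1 : Fin (n + 1) → A))

/-- extension by zero of matrices -/
noncomputable def ext2 : (Fin n × Fin n → A) →ₗ[A] (Fin (n + 1) × Fin (n + 1) → A) :=
  Fintype.linearCombination A (fun ij : Fin n × Fin n =>
    (Pi.single (Fin.castSucc ij.1, Fin.castSucc ij.2) 1 : Fin (n + 1) × Fin (n + 1) → A))

/-- the last column -/
noncomputable def colL : (Fin n → A) →ₗ[A] (Fin (n + 1) × Fin (n + 1) → A) :=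
  Fintype.linearCombination A (fun i : Fin n =>
    (Pi.single (Fin.castSucc i, Fin.last n) 1 : Fin (n + 1) × Fin (n + 1) → A))

/-- the last row -/
noncomputable def rowL : (Fin n → A) →ₗ[A] (Fin (n + 1) × Fin (n + 1) → A) :=
  Fintype.linearCombination A (fun j : Fin n =>
    (Pi.single (Fin.last n, Fin.castSucc j) 1 : Fin (n + 1) × Fin (n + 1) → A))

lemma ext1_single (i : Fin n) (a : A) :
    ext1 (Pi.single i a) = (Pi.single (Fin.castSucc i) a : Fin (n + 1) → A) := by
  rw [ext1, Fintype.linearCombination_apply_single, ← Pi.single_smul, smul_eq_mul, mul_one]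

lemma ext2_single (ij : Fin n × Fin n) (a : A) :
    ext2 (Pi.single ij a) =
      (Pi.single (Fin.castSucc ij.1, Fin.castSucc ij.2) a : Fin (n + 1) × Fin (n + 1) → A) := by
  rw [ext2, Fintype.linearCombination_apply_single, ← Pi.single_smul, smul_eq_mul, mul_one]

lemma colL_single (i : Fin n) (a : A) :
    colL (Pi.single i a) =
      (Pi.single (Fin.castSucc i, Fin.last n) a : Fin (n + 1) × Fin (n + 1) → A) := by
  rw [colL, Fintype.linearCombination_apply_single, ← Pi.single_smul, smul_eq_mul, mul_one]

lemma rowL_single (j : Fin n) (a : A) :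
    rowL (Pi.single j a) =
      (Pi.single (Fin.last n, Fin.castSucc j) a : Fin (n + 1) × Fin (n + 1) → A) := by
  rw [rowL, Fintype.linearCombination_apply_single, ← Pi.single_smul, smul_eq_mul, mul_one]

lemma ext1_castSucc (u : Fin n → A) (i : Fin n) : ext1 u (Fin.castSucc i) = u i := by
  simp [ext1, Fintype.linearCombination_apply, Pi.single_apply, Finset.sum_apply]

lemma ext1_last (u : Fin n → A) : ext1 u (Fin.last n) = 0 := by
  simp [ext1, Fintype.linearCombination_apply, Pi.single_apply, Finset.sum_apply,
    Fin.castSucc_ne_last, (Fin.castSucc_ne_last _).symm]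

/-- the block decomposition -/
lemma decomp (c : Fin (n + 1) × Fin (n + 1) → A) :
    c = ext2 (fun ij => c (Fin.castSucc ij.1, Fin.castSucc ij.2)) +
      colL (fun i => c (Fin.castSucc i, Fin.last n)) +
      rowL (fun j => c (Fin.last n, Fin.castSucc j)) +
      Pi.single (Fin.last n, Fin.last n) (c (Fin.last n, Fin.last n)) := by
  funext ⟨a, b⟩
  induction a using Fin.lastCases with
  | last =>
    induction b using Fin.lastCases <;>
    simp [ext2, colL, rowL, Fintype.linearCombination_apply, Pi.single_apply, Finset.sum_apply,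
      Fin.castSucc_ne_last, (Fin.castSucc_ne_last _).symm, Fintype.sum_prod_type]
  | cast i =>
    induction b using Fin.lastCases with
    | last =>
      simp [ext2, colL, rowL, Fintype.linearCombination_apply, Pi.single_apply, Finset.sum_apply,
        Fin.castSucc_ne_last, (Fin.castSucc_ne_last _).symm, Fintype.sum_prod_type]
    | cast j =>
      simp only [ext2, colL, rowL, Fintype.linearCombination_apply, Pi.add_apply,
        Finset.sum_apply, Pi.smul_apply, Pi.single_apply, smul_eq_mul, mul_ite, mul_one, mul_zero,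
        Prod.mk.injEq, Fin.castSucc_inj, Fin.castSucc_ne_last, (Fin.castSucc_ne_last _).symm,
        and_false, false_and, if_false, Finset.sum_const_zero, add_zero, Fintype.sum_prod_type]
      rw [Finset.sum_eq_single i, Finset.sum_eq_single j]
      · simp
      · intro b _ hb
        rw [if_neg]
        rintro ⟨-, h⟩
        exact hb h.symm
      · intro h
        exact absurd (Finset.mem_univ _) h
      · intro b _ hb
        refine Finset.sum_eq_zero fun y _ => ?_
        rw [if_neg]
        rintro ⟨h, -⟩
        exact hb h.symm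
      · intro h
        exact absurd (Finset.mem_univ _) h

section step
variable (f : Fin (n + 1) → A)

lemma ext1_triv (ij : Fin n × Fin n) :
    ext1 (triv (fun i => f (Fin.castSucc i)) ij) =
      triv f (Fin.castSucc ij.1, Fin.castSucc ij.2) := by
  simp only [triv, map_sub, ext1_single]

lemma d2_ext2 (c' : Fin n × Fin n → A) :
    d2 f (ext2 c') = ext1 (d2 (fun i => f (Fin.castSucc i)) c') := by
  have : (d2 f) ∘ₗ ext2 = ext1 ∘ₗ d2 (fun i => f (Fin.castSucc i)) := by
    refine LinearMap.pi_ext fun ij a => ?_
    rw [LinearMap.comp_apply, LinearMap.comp_apply, ext2_single, d2_single, d2_single, map_smul,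
      ext1_triv]
  exact LinearMap.congr_fun this c'

lemma d2_colL (u : Fin n → A) :
    d2 f (colL u) = f (Fin.last n) • ext1 u -
      d1 (fun i => f (Fin.castSucc i)) u • (Pi.single (Fin.last n) 1 : Fin (n + 1) → A) := by
  have : (d2 f) ∘ₗ colL = f (Fin.last n) • ext1 -
      (LinearMap.toSpanSingleton A _ (Pi.single (Fin.last n) 1 : Fin (n + 1) → A)) ∘ₗ
        d1 (fun i => f (Fin.castSucc i)) := by
    refine LinearMap.pi_ext fun i a => ?_
    rw [LinearMap.comp_apply, colL_single, d2_single, LinearMap.sub_apply, LinearMap.smul_apply,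
      LinearMap.comp_apply, ext1_single, d1_single, LinearMap.toSpanSingleton_apply]
    ext k
    simp only [triv, Pi.smul_apply, Pi.sub_apply, Pi.single_apply, smul_eq_mul]
    split_ifs <;> ring
  have h := LinearMap.congr_fun this u
  rw [LinearMap.comp_apply, LinearMap.sub_apply, LinearMap.smul_apply, LinearMap.comp_apply,
    LinearMap.toSpanSingleton_apply] at h
  exact h

lemma d2_rowL (v : Fin n → A) :
    d2 f (rowL v) = - (f (Fin.last n) • ext1 v -
      d1 (fun i => f (Fin.castSucc i)) v • (Pi.single (Fin.last n) 1 : Fin (n + 1) → A)) := by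
  have : (d2 f) ∘ₗ rowL = - (f (Fin.last n) • ext1 -
      (LinearMap.toSpanSingleton A _ (Pi.single (Fin.last n) 1 : Fin (n + 1) → A)) ∘ₗ
        d1 (fun i => f (Fin.castSucc i))) := by
    refine LinearMap.pi_ext fun i a => ?_
    rw [LinearMap.comp_apply, rowL_single, d2_single, LinearMap.neg_apply, LinearMap.sub_apply,
      LinearMap.smul_apply, LinearMap.comp_apply, ext1_single, d1_single,
      LinearMap.toSpanSingleton_apply]
    ext k
    simp only [triv, Pi.smul_apply, Pi.sub_apply, Pi.neg_apply, Pi.single_apply, smul_eq_mul]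
    split_ifs <;> ring
  have h := LinearMap.congr_fun this v
  rw [LinearMap.comp_apply, LinearMap.neg_apply, LinearMap.sub_apply, LinearMap.smul_apply,
    LinearMap.comp_apply, LinearMap.toSpanSingleton_apply] at h
  exact h

lemma ext2_mem (z : Fin n × Fin n → A)
    (hz : z ∈ Submodule.span A (Z2gen (fun i => f (Fin.castSucc i)))) :
    ext2 z ∈ Submodule.span A (Z2gen f) := by
  have : Submodule.span A (Z2gen (fun i => f (Fin.castSucc i))) ≤
      (Submodule.span A (Z2gen f)).comap ext2 := by
    rw [Submodule.span_le]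
    rintro z ((⟨i, j, l, rfl⟩ | ⟨i, j, rfl⟩) | ⟨i, rfl⟩)
    · rw [SetLike.mem_coe, Submodule.mem_comap, map_add, map_add, ext2_single, ext2_single,
        ext2_single]
      exact Submodule.subset_span (Or.inl (Or.inl ⟨_, _, _, rfl⟩))
    · rw [SetLike.mem_coe, Submodule.mem_comap, map_add, ext2_single, ext2_single]
      exact Submodule.subset_span (Or.inl (Or.inr ⟨_, _, rfl⟩))
    · rw [SetLike.mem_coe, Submodule.mem_comap, ext2_single]
      exact Submodule.subset_span (Or.inr ⟨_, rfl⟩)
  exact this hz

lemma sym_mem (v : Fin n → A) : colL v + rowL v ∈ Submodule.span A (Z2gen f) := by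
  have h1 : colL v + rowL v = Fintype.linearCombination A (fun j : Fin n =>
      ((Pi.single (Fin.last n, Fin.castSucc j) 1 + Pi.single (Fin.castSucc j, Fin.last n) 1 :
        Fin (n + 1) × Fin (n + 1) → A))) v := by
    simp only [colL, rowL, Fintype.linearCombination_apply, smul_add, Finset.sum_add_distrib]
    exact add_comm _ _
  rw [h1]
  have h2 : LinearMap.range (Fintype.linearCombination A (fun j : Fin n =>
      ((Pi.single (Fin.last n, Fin.castSucc j) 1 + Pi.single (Fin.castSucc j, Fin.last n) 1 :
        Fin (n + 1) × Fin (n + 1) → A)))) ≤ Submodule.span A (Z2gen f) := by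
    rw [Fintype.range_linearCombination]
    apply Submodule.span_mono
    rintro _ ⟨j, rfl⟩
    exact Or.inl (Or.inr ⟨_, _, rfl⟩)
  exact h2 (LinearMap.mem_range_self _ v)

lemma kos_mem (ω : Fin n × Fin n → A) :
    colL (d2 (fun i => f (Fin.castSucc i)) ω) - f (Fin.last n) • ext2 ω ∈
      Submodule.span A (Z2gen f) := by
  have h1 : colL ∘ₗ d2 (fun i => f (Fin.castSucc i)) - f (Fin.last n) • ext2 =
      Fintype.linearCombination A (fun jl : Fin n × Fin n =>
        (- ((Pi.single (Fin.castSucc jl.1, Fin.castSucc jl.2) (f (Fin.last n)) +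
          Pi.single (Fin.castSucc jl.2, Fin.last n) (f (Fin.castSucc jl.1)) +
          Pi.single (Fin.last n, Fin.castSucc jl.1) (f (Fin.castSucc jl.2))) -
          f (Fin.castSucc jl.2) • (Pi.single (Fin.last n, Fin.castSucc jl.1) 1 +
            Pi.single (Fin.castSucc jl.1, Fin.last n) 1)) :
          Fin (n + 1) × Fin (n + 1) → A)) := by
    refine LinearMap.pi_ext fun jl a => ?_
    rw [LinearMap.sub_apply, LinearMap.comp_apply, LinearMap.smul_apply, d2_single, map_smul,
      ext2_single, Fintype.linearCombination_apply_single]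
    simp only [triv, map_sub, colL_single]
    ext ⟨p, q⟩
    simp only [Pi.smul_apply, Pi.sub_apply, Pi.add_apply, Pi.neg_apply, Pi.single_apply,
      smul_eq_mul]
    split_ifs <;> ring
  have h2 := LinearMap.congr_fun h1 ω
  rw [LinearMap.sub_apply, LinearMap.comp_apply, LinearMap.smul_apply] at h2
  rw [h2]
  have h3 : LinearMap.range (Fintype.linearCombination A (fun jl : Fin n × Fin n =>
        (- ((Pi.single (Fin.castSucc jl.1, Fin.castSucc jl.2) (f (Fin.last n)) +
          Pi.single (Fin.castSucc jl.2, Fin.last n) (f (Fin.castSucc jl.1)) +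
          Pi.single (Fin.last n, Fin.castSucc jl.1) (f (Fin.castSucc jl.2))) -
          f (Fin.castSucc jl.2) • (Pi.single (Fin.last n, Fin.castSucc jl.1) 1 +
            Pi.single (Fin.castSucc jl.1, Fin.last n) 1)) :
          Fin (n + 1) × Fin (n + 1) → A))) ≤ Submodule.span A (Z2gen f) := by
    rw [Fintype.range_linearCombination, Submodule.span_le]
    rintro _ ⟨jl, rfl⟩
    refine Submodule.neg_mem _ (Submodule.sub_mem _ ?_ (Submodule.smul_mem _ _ ?_))
    · exact Submodule.subset_span (Or.inl (Or.inl ⟨_, _, _, rfl⟩))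
    · exact Submodule.subset_span (Or.inl (Or.inr ⟨_, _, rfl⟩))
  exact h3 (LinearMap.mem_range_self _ ω)

/-- **the inductive step** -/
theorem ker_d2_le_step
    (hH1 : LinearMap.ker (d1 (fun i => f (Fin.castSucc i))) ≤
      LinearMap.range (d2 (fun i => f (Fin.castSucc i))))
    (hH2 : LinearMap.ker (d2 (fun i => f (Fin.castSucc i))) ≤
      Submodule.span A (Z2gen (fun i => f (Fin.castSucc i)))) :
    LinearMap.ker (d2 f) ≤ Submodule.span A (Z2gen f) := by
  intro c hc
  rw [LinearMap.mem_ker] at hc
  obtain ⟨c', u, v, w, hcd⟩ : ∃ (c' : Fin n × Fin n → A) (u v : Fin n → A) (w : A),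
      c = ext2 c' + colL u + rowL v + Pi.single (Fin.last n, Fin.last n) w :=
    ⟨_, _, _, _, decomp c⟩
  have hd : d2 f c = ext1 (d2 (fun i => f (Fin.castSucc i)) c' + f (Fin.last n) • (u - v)) -
      d1 (fun i => f (Fin.castSucc i)) (u - v) • (Pi.single (Fin.last n) 1 : Fin (n + 1) → A) := by
    rw [hcd, map_add, map_add, map_add, d2_ext2, d2_colL, d2_rowL, d2_single, triv_diag,
      smul_zero, map_add, map_smul, map_sub, map_sub, sub_smul, smul_sub]
    abel
  rw [hc] at hd
  have hL : d1 (fun i => f (Fin.castSucc i)) (u - v) = 0 := by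
    have := congrFun hd (Fin.last n)
    rw [Pi.zero_apply, Pi.sub_apply, ext1_last, Pi.smul_apply, Pi.single_eq_same, smul_eq_mul,
      mul_one, zero_sub] at this
    exact neg_eq_zero.mp this.symm
  have hK : d2 (fun i => f (Fin.castSucc i)) c' + f (Fin.last n) • (u - v) = 0 := by
    funext k
    have := congrFun hd (Fin.castSucc k)
    rw [Pi.zero_apply, Pi.sub_apply, ext1_castSucc, hL, zero_smul, Pi.zero_apply, sub_zero] at this
    exact this.symm
  obtain ⟨ω, hω⟩ := hH1 (LinearMap.mem_ker.mpr hL)
  have h2 : c' + f (Fin.last n) • ω ∈ LinearMap.ker (d2 (fun i => f (Fin.castSucc i))) := by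
    rw [LinearMap.mem_ker, map_add, map_smul, hω]
    exact hK
  have h3 := ext2_mem f _ (hH2 h2)
  have h4 := sym_mem f v
  have h5 := kos_mem f ω
  have h6 : (Pi.single (Fin.last n, Fin.last n) w : Fin (n + 1) × Fin (n + 1) → A) ∈
      Submodule.span A (Z2gen f) := by
    have : (Pi.single (Fin.last n, Fin.last n) w : Fin (n + 1) × Fin (n + 1) → A) =
        w • Pi.single (Fin.last n, Fin.last n) 1 := by
      rw [← Pi.single_smul, smul_eq_mul, mul_one]
    rw [this]
    exact Submodule.smul_mem _ _ (Submodule.subset_span (Or.inr ⟨_, rfl⟩))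
  have hfin : c = ext2 (c' + f (Fin.last n) • ω) + (colL v + rowL v) +
      (colL (d2 (fun i => f (Fin.castSucc i)) ω) - f (Fin.last n) • ext2 ω) +
      Pi.single (Fin.last n, Fin.last n) w := by
    rw [hcd, hω, map_add, map_smul, map_sub]
    abel
  rw [hfin]
  exact Submodule.add_mem _ (Submodule.add_mem _ (Submodule.add_mem _ h3 h4) h5) h6

end step

end Groth.Agent.Helper3.KosLow
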