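import Mathlib
import Groth.Prelude.Def_CAlgX
import Groth.Agent.Helper3.KosLow2
import Groth.Agent.Lead.KoszulH1
import Groth.Agent.Lead.KoszulGeoD
import Groth.Agent.S15821

set_option autoImplicit false
set_option linter.style.haveILetI false
set_option linter.unusedSectionVars false
set_option linter.unusedVariables false
set_option linter.deprecated false
set_option linter.style.haveILetI false
set_option linter.unusedSectionVars false
set_option linter.unusedVariables false

/-!
# Second syzygies of a regular sequence are the standard ones
-/

namespace Groth.Agent.Helper3.KosLow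
open RingTheory.Sequence

universe u
variable {A : Type u} [CommRing A]

/-- weakly regular sequences are `H_1`-regular -/
theorem isH1Regular_of_isWeaklyRegular {r : ℕ} (f : Fin r → A)
    (hf : IsWeaklyRegular A (List.ofFn f)) : CAlgX.IsH1Regular f := by
  have h1 := (Groth.Agent.S15821.result A _ hf).1
  have h2 := Groth.Agent.Lead.KoszulH1.isH1Regular_of_isKoszulRegularSeq _ h1
  refine Groth.Agent.Lead.KoszulGeoD.isH1Regular_congr (List.length_ofFn (f := f)) _ _
    (fun k => ?_) h2
  rw [List.get_ofFn]

/-- **the second syzygies of a weakly regular sequence are generated by the Koszul relations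
and the symmetric ones** -/
theorem ker_d2_le : ∀ (r : ℕ) (f : Fin r → A), IsWeaklyRegular A (List.ofFn f) →
    LinearMap.ker (d2 f) ≤ Submodule.span A (Z2gen f)
  | 0, f, _ => by
    intro c _
    have : c = 0 := Subsingleton.elim _ _
    rw [this]
    exact zero_mem _
  | n + 1, f, hf => by
    have hf' : IsWeaklyRegular A (List.ofFn fun i => f (Fin.castSucc i)) := by
      rw [List.ofFn_succ', List.concat_eq_append, isWeaklyRegular_append_iff] at hf
      exact hf.1
    refine ker_d2_le_step f ?_ (ker_d2_le n _ hf')
    rw [← isH1Regular_iff]
    exact isH1Regular_of_isWeaklyRegular _ hf'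

end Groth.Agent.Helper3.KosLow
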