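import Mathlib
import Groth.Prelude.Def_CAlgX
import Groth.Agent.Helper3.KosLow3

set_option autoImplicit false
set_option linter.style.haveILetI false
set_option linter.unusedSectionVars false
set_option linter.unusedVariables false
set_option linter.deprecated false
set_option linter.style.haveILetI false
set_option linter.unusedSectionVars false
set_option linter.unusedVariables false

/-!
# `Tor₁` of a quotient by an `H₁`-regular sequence with flat quotient: the key inclusion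
-/

namespace Groth.Agent.Helper3.KosLow
open RingTheory.Sequence IsLocalRing

universe u

section fg
variable {P : Type u} [CommRing P] (𝔪 : Ideal P) [IsNoetherianRing (P ⧸ 𝔪)]
  {M : Type u} [AddCommGroup M] [Module P M]

/-- submodules of a finitely generated submodule killed by `𝔪`, with `P/𝔪` Noetherian, are
finitely generated -/
theorem fg_of_le_of_torsion (Q' N : Submodule P M) (hQ' : Q'.FG)
    (hkill : ∀ a ∈ 𝔪, ∀ x ∈ Q', a • x = 0) (hN : N ≤ Q') : N.FG := by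
  have htors : Module.IsTorsionBySet P Q' (𝔪 : Set P) := by
    intro x a
    apply Subtype.ext
    exact hkill a.1 a.2 x.1 x.2
  letI := htors.module
  haveI : IsScalarTower P (P ⧸ 𝔪) Q' := htors.isScalarTower
  haveI : Module.Finite P Q' := Module.Finite.iff_fg.mpr hQ'
  haveI : Module.Finite (P ⧸ 𝔪) Q' := Module.Finite.of_restrictScalars_finite P (P ⧸ 𝔪) Q'
  haveI : IsNoetherian (P ⧸ 𝔪) Q' := isNoetherian_of_isNoetherianRing_of_finite _ _
  let N₁ : Submodule (P ⧸ 𝔪) Q' :=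
    { carrier := {x | (x : M) ∈ N}
      add_mem' := fun {a b} ha hb => N.add_mem ha hb
      zero_mem' := N.zero_mem
      smul_mem' := by
        intro c x hx
        obtain ⟨c, rfl⟩ := Ideal.Quotient.mk_surjective c
        have : (Ideal.Quotient.mk 𝔪 c) • x = c • x := by
          rw [← algebraMap_smul (P ⧸ 𝔪) c x]
          rfl
        rw [Set.mem_setOf_eq, this]
        exact N.smul_mem c hx }
  have h1 : N₁.FG := IsNoetherian.noetherian N₁
  have h2 := Submodule.FG.restrictScalars_of_surjective (R := P) h1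
    (Ideal.Quotient.mk_surjective (I := 𝔪))
  have h3 : N = (N₁.restrictScalars P).map Q'.subtype := by
    ext x
    constructor
    · intro hx
      exact ⟨⟨x, hN hx⟩, hx, rfl⟩
    · rintro ⟨y, hy, rfl⟩
      exact hy
  rw [h3]
  exact h2.map _

end fg

section lift
variable {P Tb : Type u} [CommRing P] [CommRing Tb] (ρ : P →+* Tb) {r : ℕ}

lemma map_single {ι : Type*} [DecidableEq ι] (i : ι) (a : P) :
    (fun k => ρ ((Pi.single i a : ι → P) k)) = Pi.single i (ρ a) := by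
  ext k
  simp only [Pi.single_apply]
  split_ifs <;> simp

/-- standard syzygies lift along surjections -/
lemma exists_lift_Z2 (hρ : Function.Surjective ρ) (g : Fin r → P) (c : Fin r × Fin r → Tb)
    (hc : c ∈ Submodule.span Tb (Z2gen (fun i => ρ (g i)))) :
    ∃ z ∈ Submodule.span P (Z2gen g), (fun ij => ρ (z ij)) = c := by
  induction hc using Submodule.span_induction with
  | mem x hx =>
    rcases hx with ((⟨i, j, l, rfl⟩ | ⟨i, j, rfl⟩) | ⟨i, rfl⟩)
    · refine ⟨_, Submodule.subset_span (Or.inl (Or.inl ⟨i, j, l, rfl⟩)), ?_⟩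
      ext ij
      simp only [Pi.add_apply, map_add, Pi.single_apply]
      split_ifs <;> simp
    · refine ⟨_, Submodule.subset_span (Or.inl (Or.inr ⟨i, j, rfl⟩)), ?_⟩
      ext ij
      simp only [Pi.add_apply, map_add, Pi.single_apply]
      split_ifs <;> simp
    · refine ⟨_, Submodule.subset_span (Or.inr ⟨i, rfl⟩), ?_⟩
      ext ij
      simp only [Pi.single_apply]
      split_ifs <;> simp
  | zero => exact ⟨0, zero_mem _, by ext; simp⟩
  | add x y _ _ hx hy =>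
    obtain ⟨zx, hzx, rfl⟩ := hx
    obtain ⟨zy, hzy, rfl⟩ := hy
    exact ⟨zx + zy, add_mem hzx hzy, by ext; simp⟩
  | smul t x _ hx =>
    obtain ⟨zx, hzx, rfl⟩ := hx
    obtain ⟨p, rfl⟩ := hρ t
    exact ⟨p • zx, Submodule.smul_mem _ _ hzx, by ext; simp⟩

lemma d2_mem (g : Fin r → P) (I : Ideal P) (c : Fin r × Fin r → P) (hc : ∀ ij, c ij ∈ I)
    (k : Fin r) : d2 g c k ∈ I := by
  rw [d2, Fintype.linearCombination_apply, Finset.sum_apply]
  refine Ideal.sum_mem _ fun ij _ => ?_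
  rw [Pi.smul_apply, smul_eq_mul]
  exact Ideal.mul_mem_right _ _ (hc ij)

end lift

section core
variable {P T Tb : Type u} [CommRing P] [CommRing T] [CommRing Tb]
  (𝔪 J : Ideal P) {r : ℕ} (g : Fin r → P)

/-- the `Tor` computation -/
theorem tor_step
    (hA : (J ⊔ Ideal.span (Set.range g)) ⊓ 𝔪 ≤ 𝔪 * (J ⊔ Ideal.span (Set.range g)))
    (σ : P →+* T) (hσ : Function.Surjective σ) (hσk : RingHom.ker σ = J)
    (hH1 : CAlgX.IsH1Regular (fun i => σ (g i)))
    (ρ : P →+* Tb) (hρ : Function.Surjective ρ) (hρk : RingHom.ker ρ = J ⊔ 𝔪)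
    (hreg : IsWeaklyRegular Tb (List.ofFn (fun i => ρ (g i)))) :
    J ⊓ 𝔪 ≤ 𝔪 * J ⊔ Ideal.span (Set.range g) * (J ⊓ 𝔪) := by
  classical
  rintro k ⟨hkJ, hk𝔪⟩
  have h1 : k ∈ 𝔪 * (J ⊔ Ideal.span (Set.range g)) := hA ⟨Ideal.mem_sup_left hkJ, hk𝔪⟩
  rw [Ideal.mul_sup] at h1
  obtain ⟨j', hj', y, hy, rfl⟩ := Submodule.mem_sup.mp h1
  -- `y = Σ μ_i g_i` with `μ_i ∈ 𝔪`
  obtain ⟨μ, hμ, rfl⟩ : ∃ μ : Fin r → P, (∀ i, μ i ∈ 𝔪) ∧ d1 g μ = y := by
    rw [← Ideal.smul_eq_mul] at hy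
    obtain ⟨a, ha, rfl⟩ := (Submodule.mem_ideal_smul_span_iff_exists_sum 𝔪 g y).mp hy
    refine ⟨a, ha, ?_⟩
    rw [d1_apply]
    exact (Finsupp.sum_fintype a (fun i c => c • g i) (fun i => zero_smul P (g i))).symm
  have hj'J : j' ∈ J := (Ideal.mul_le_right : 𝔪 * J ≤ J) hj'
  have hyJ : d1 g μ ∈ J := by
    have : d1 g μ = (j' + d1 g μ) - j' := by ring
    rw [this]
    exact J.sub_mem hkJ hj'J
  -- `H₁`-regularity
  have h2 : (fun i => σ (μ i)) ∈ LinearMap.ker (d1 (fun i => σ (g i))) := by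
    rw [LinearMap.mem_ker, ← map_d1, ← RingHom.mem_ker, hσk]
    exact hyJ
  obtain ⟨cT, hcT⟩ := (isH1Regular_iff _).mp hH1 h2
  obtain ⟨ĉ, hĉ⟩ : ∃ ĉ : Fin r × Fin r → P, (fun ij => σ (ĉ ij)) = cT :=
    ⟨fun ij => (hσ (cT ij)).choose, funext fun ij => (hσ (cT ij)).choose_spec⟩
  have hjJ : ∀ i, μ i - d2 g ĉ i ∈ J := by
    intro i
    rw [← hσk, RingHom.mem_ker, map_sub, sub_eq_zero]
    have := congrFun (map_d2 σ g ĉ) i
    rw [this, hĉ, hcT]
  -- the second syzygy in the fibre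
  have hle : J ≤ RingHom.ker ρ := hρk ▸ le_sup_left
  have hle' : 𝔪 ≤ RingHom.ker ρ := hρk ▸ le_sup_right
  have h3 : (fun ij => ρ (ĉ ij)) ∈ LinearMap.ker (d2 (fun i => ρ (g i))) := by
    rw [LinearMap.mem_ker, ← map_d2]
    funext i
    have e1 : d2 g ĉ i = μ i - (μ i - d2 g ĉ i) := by ring
    rw [e1, map_sub, Pi.zero_apply, RingHom.mem_ker.mp (hle' (hμ i)),
      RingHom.mem_ker.mp (hle (hjJ i)), sub_zero]
  obtain ⟨z, hz, hzc⟩ := exists_lift_Z2 ρ hρ g _ (ker_d2_le r _ hreg h3)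
  have hzker : d2 g z = 0 := LinearMap.mem_ker.mp (Z2gen_le_ker g hz)
  have hsplit : ∀ ij, ∃ a ∈ J, ∃ b ∈ 𝔪, a + b = ĉ ij - z ij := by
    intro ij
    have : ĉ ij - z ij ∈ J ⊔ 𝔪 := by
      rw [← hρk, RingHom.mem_ker, map_sub, sub_eq_zero]
      exact (congrFun hzc ij).symm
    exact Submodule.mem_sup.mp this
  choose a ha b hb hab using hsplit
  have hĉ' : ĉ = z + a + b := by
    funext ij
    rw [Pi.add_apply, Pi.add_apply, add_assoc, hab]
    ring
  have hd2 : d2 g ĉ = d2 g a + d2 g b := by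
    rw [hĉ', map_add, map_add, hzker, zero_add]
  -- the new coefficients
  have hj''J : ∀ i, μ i - d2 g b i ∈ J := by
    intro i
    have : μ i - d2 g b i = (μ i - d2 g ĉ i) + d2 g a i := by
      rw [hd2, Pi.add_apply]
      ring
    rw [this]
    exact J.add_mem (hjJ i) (d2_mem g J a ha i)
  have hj''m : ∀ i, μ i - d2 g b i ∈ 𝔪 := fun i => 𝔪.sub_mem (hμ i) (d2_mem g 𝔪 b hb i)
  have hfin : d1 g μ = d1 g (fun i => μ i - d2 g b i) := by
    have : (fun i => μ i - d2 g b i) = μ - d2 g b := rfl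
    rw [this, map_sub, d1_d2, sub_zero]
  refine Submodule.add_mem_sup hj' ?_
  rw [hfin, d1_apply]
  refine Ideal.sum_mem _ fun i _ => ?_
  have h7 : g i ∈ Ideal.span (Set.range g) := Ideal.subset_span (Set.mem_range_self i)
  have h8 : μ i - d2 g b i ∈ J ⊓ 𝔪 := Ideal.mem_inf.mpr ⟨hj''J i, hj''m i⟩
  have h9 := Ideal.mul_mem_mul h7 h8
  rw [mul_comm (g i)] at h9
  exact h9

/-- **the key inclusion** `J ∩ 𝔪 ⊆ 𝔪 J` -/
theorem core [IsLocalRing P] [IsNoetherianRing (P ⧸ 𝔪)] (hJ : J.FG)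
    (hg : ∀ i, g i ∈ maximalIdeal P)
    (hA : (J ⊔ Ideal.span (Set.range g)) ⊓ 𝔪 ≤ 𝔪 * (J ⊔ Ideal.span (Set.range g)))
    (σ : P →+* T) (hσ : Function.Surjective σ) (hσk : RingHom.ker σ = J)
    (hH1 : CAlgX.IsH1Regular (fun i => σ (g i)))
    (ρ : P →+* Tb) (hρ : Function.Surjective ρ) (hρk : RingHom.ker ρ = J ⊔ 𝔪)
    (hreg : IsWeaklyRegular Tb (List.ofFn (fun i => ρ (g i)))) :
    J ⊓ 𝔪 ≤ 𝔪 * J := by
  have hstep := tor_step 𝔪 J g hA σ hσ hσk hH1 ρ hρ hρk hreg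
  have hGle : Ideal.span (Set.range g) ≤ (⊥ : Ideal P).jacobson := by
    rw [IsLocalRing.jacobson_eq_maximalIdeal ⊥ bot_ne_top, Ideal.span_le]
    rintro _ ⟨i, rfl⟩
    exact hg i
  -- pass to `P ⧸ 𝔪 J`
  set K₁ : Ideal P := 𝔪 * J with hK₁
  let mk : P →ₗ[P] P ⧸ K₁ := Submodule.mkQ K₁
  let N : Submodule P (P ⧸ K₁) := Submodule.map mk (J ⊓ 𝔪)
  let Q' : Submodule P (P ⧸ K₁) := Submodule.map mk J
  have hNfg : N.FG := by
    refine fg_of_le_of_torsion 𝔪 Q' N (Submodule.FG.map mk hJ) ?_ (Submodule.map_mono inf_le_left)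
    rintro a ha _ ⟨x, hx, rfl⟩
    rw [← map_smul, smul_eq_mul]
    exact (Submodule.Quotient.mk_eq_zero _).mpr (Ideal.mul_mem_mul ha hx)
  have hNle : N ≤ Ideal.span (Set.range g) • N := by
    rintro _ ⟨x, hx, rfl⟩
    obtain ⟨x₁, hx₁, x₂, hx₂, rfl⟩ := Submodule.mem_sup.mp (hstep hx)
    rw [map_add]
    have e1 : mk x₁ = 0 := (Submodule.Quotient.mk_eq_zero _).mpr hx₁
    rw [e1, zero_add]
    have h5 : Ideal.span (Set.range g) • (J ⊓ 𝔪 : Submodule P P) ≤
        (Ideal.span (Set.range g) • N).comap mk := by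
      rw [Submodule.smul_le]
      intro s hs n hn
      rw [Submodule.mem_comap, map_smul]
      exact Submodule.smul_mem_smul hs (Submodule.mem_map_of_mem hn)
    exact h5 hx₂
  have hN0 : N = ⊥ :=
    Submodule.eq_bot_of_le_smul_of_le_jacobson_bot _ N hNfg hNle hGle
  intro x hx
  have : mk x ∈ N := Submodule.mem_map_of_mem hx
  rw [hN0, Submodule.mem_bot] at this
  exact (Submodule.Quotient.mk_eq_zero _).mp this

end core

end Groth.Agent.Helper3.KosLow
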