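import Mathlib
import Groth.Agent.Helper3.KzFib11

set_option autoImplicit false
set_option linter.style.haveILetI false
set_option linter.unusedSectionVars false
set_option linter.unusedVariables false
set_option linter.deprecated false
set_option linter.style.haveILetI false
set_option linter.unusedSectionVars false
set_option linter.unusedVariables false

/-!
# A quasi-regular sequence with flat quotient is regular in the local rings of the fibres
-/

namespace Groth.Agent.Helper3.KzFib
open IsLocalRing RingTheory.Sequence TensorProduct

universe u

section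
variable {R A : Type u} [CommRing R] [CommRing A] [Algebra R A] [Algebra.FinitePresentation R A]

/-- flatness of the quotient of the local ring -/
theorem flat_quot_localization (q : Ideal A) [q.IsPrime] (I : Ideal A)
    (hflat : Module.Flat R (A ⧸ I)) :
    Module.Flat R (Localization.AtPrime q ⧸ I.map (algebraMap A (Localization.AtPrime q))) := by
  haveI : IsLocalization (Algebra.algebraMapSubmonoid (A ⧸ I) q.primeCompl)
      (Localization.AtPrime q ⧸ I.map (algebraMap A (Localization.AtPrime q))) := inferInstance
  haveI : Module.Flat (A ⧸ I) (Localization.AtPrime q ⧸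
      I.map (algebraMap A (Localization.AtPrime q))) :=
    IsLocalization.flat _ (Algebra.algebraMapSubmonoid (A ⧸ I) q.primeCompl)
  haveI : IsScalarTower R (A ⧸ I) (Localization.AtPrime q ⧸
      I.map (algebraMap A (Localization.AtPrime q))) :=
    IsScalarTower.of_algebraMap_eq (fun r => by
      show Ideal.Quotient.mk _ (algebraMap R (Localization.AtPrime q) r) =
        Ideal.Quotient.mk _ (algebraMap A (Localization.AtPrime q) (algebraMap R A r))
      rw [← IsScalarTower.algebraMap_apply R A (Localization.AtPrime q)])
  exact Module.Flat.trans R (A ⧸ I) _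

/-- **regularity in the fibre** -/
theorem weaklyRegular_fibre (q : Ideal A) [q.IsPrime] {r : ℕ} (f : Fin r → A)
    (hf : CAlgX.IsQuasiRegular f) (hfq : Ideal.span (Set.range f) ≤ q)
    (hflat : Module.Flat R (A ⧸ Ideal.span (Set.range f))) :
    IsWeaklyRegular (Localization.AtPrime q ⧸ (q.comap (algebraMap R A)).map
        (algebraMap R (Localization.AtPrime q)))
      (List.ofFn fun i => Ideal.Quotient.mk ((q.comap (algebraMap R A)).map
        (algebraMap R (Localization.AtPrime q))) (algebraMap A (Localization.AtPrime q) (f i))) := by
  classical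
  obtain ⟨hFnoeth, hFloc⟩ := fibre_ring_props (T := Localization.AtPrime q) q
    (q.comap (algebraMap R A)) rfl
  have hFI := flat_quot_localization (R := R) q _ hflat
  have hqT : CAlgX.IsQuasiRegular (fun i => algebraMap A (Localization.AtPrime q) (f i)) :=
    Groth.Agent.Lead.QRegFlat.isQuasiRegular_of_flat (S := Localization.AtPrime q) f hf
  have hspan : Ideal.span (Set.range fun i => algebraMap A (Localization.AtPrime q) (f i)) =
      (Ideal.span (Set.range f)).map (algebraMap A (Localization.AtPrime q)) := by
    rw [Ideal.map_span, ← Set.range_comp]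
    rfl
  have hfl' : Module.Flat R (Localization.AtPrime q ⧸
      Ideal.span (Set.range fun i => algebraMap A (Localization.AtPrime q) (f i))) := by
    rw [hspan]
    exact hFI
  have h1 := Groth.Agent.Lead.QRegBCd.main R (Localization.AtPrime q)
    (R ⧸ q.comap (algebraMap R A)) _ hfl' hqT
  let e := (Algebra.TensorProduct.quotIdealMapEquivQuotTensor (Localization.AtPrime q)
    (q.comap (algebraMap R A))).symm
  have he : ∀ t : Localization.AtPrime q, e ((1 : R ⧸ q.comap (algebraMap R A)) ⊗ₜ[R] t) =
      Ideal.Quotient.mk _ t := by
    intro t
    rw [AlgEquiv.symm_apply_eq]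
    rfl
  letI algF : Algebra ((R ⧸ q.comap (algebraMap R A)) ⊗[R] Localization.AtPrime q)
      (Localization.AtPrime q ⧸ (q.comap (algebraMap R A)).map
        (algebraMap R (Localization.AtPrime q))) := e.toRingEquiv.toRingHom.toAlgebra
  haveI : Module.Flat ((R ⧸ q.comap (algebraMap R A)) ⊗[R] Localization.AtPrime q)
      (Localization.AtPrime q ⧸ (q.comap (algebraMap R A)).map
        (algebraMap R (Localization.AtPrime q))) :=
    RingHom.Flat.of_bijective (f := e.toRingEquiv.toRingHom) e.bijective
  have h2 := Groth.Agent.Lead.QRegFlat.isQuasiRegular_of_flat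
    (S := Localization.AtPrime q ⧸ (q.comap (algebraMap R A)).map
        (algebraMap R (Localization.AtPrime q))) _ h1
  have hfun : (fun i => algebraMap ((R ⧸ q.comap (algebraMap R A)) ⊗[R]
      Localization.AtPrime q) (Localization.AtPrime q ⧸ (q.comap (algebraMap R A)).map
        (algebraMap R (Localization.AtPrime q)))
      (Groth.Agent.Lead.QRegBCd.f' (A := R) (A' := R ⧸ q.comap (algebraMap R A))
        (fun i => algebraMap A (Localization.AtPrime q) (f i)) i)) =
      fun i => Ideal.Quotient.mk ((q.comap (algebraMap R A)).map
        (algebraMap R (Localization.AtPrime q))) (algebraMap A (Localization.AtPrime q) (f i)) :=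
    funext fun i => he _
  rw [hfun] at h2
  refine Groth.Agent.Helper7.QRReg.isWeaklyRegular_of_isQuasiRegular _ _ _ (fun i => ?_) h2
  haveI : IsLocalRing (Localization.AtPrime q) := IsLocalization.AtPrime.isLocalRing _ q
  rw [IsLocalRing.ringJacobson_eq_maximalIdeal, mem_maximalIdeal, mem_nonunits_iff]
  intro hu
  haveI : IsLocalHom (Ideal.Quotient.mk ((q.comap (algebraMap R A)).map
      (algebraMap R (Localization.AtPrime q)))) :=
    IsLocalHom.of_surjective _ Ideal.Quotient.mk_surjective
  have hu' := isUnit_of_map_unit (Ideal.Quotient.mk ((q.comap (algebraMap R A)).map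
      (algebraMap R (Localization.AtPrime q)))) _ hu
  have hmem : algebraMap A (Localization.AtPrime q) (f i) ∈
      maximalIdeal (Localization.AtPrime q) := by
    rw [← IsLocalization.AtPrime.map_eq_maximalIdeal q (Localization.AtPrime q)]
    exact Ideal.mem_map_of_mem _ (hfq (Ideal.subset_span (Set.mem_range_self i)))
  exact hmem hu'

end

end Groth.Agent.Helper3.KzFib
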