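import Mathlib
import Groth.Agent.Helper3.KosLow4
import Groth.Agent.Helper3.KzFib13
import Groth.Agent.Helper2.LocCritFP
import Groth.Agent.Helper2.EssFP
import Groth.Agent.Lead.H1RegA
import Groth.Agent.S2103

set_option autoImplicit false
set_option linter.style.haveILetI false
set_option linter.unusedSectionVars false
set_option linter.unusedVariables false
set_option linter.deprecated false
set_option linter.style.haveILetI false
set_option linter.unusedSectionVars false
set_option linter.unusedVariables false

/-!
# An `H₁`-regular sequence with flat quotient in a finitely presented algebra: the algebra is flat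
along the zero locus of the sequence
-/

namespace Groth.Agent.Helper3.KosFlat
open IsLocalRing RingTheory.Sequence Groth.Agent.Helper3.KosLow Groth.Agent.Helper3.KzFib

universe u

section local_form
variable {R A₀ P : Type u} [CommRing R] [CommRing A₀] [CommRing P] [Algebra R A₀] [Algebra A₀ P]
  [Algebra R P] [IsScalarTower R A₀ P] [Algebra.FinitePresentation R A₀] (Q : Ideal A₀)
  [Q.IsPrime] [IsLocalization.AtPrime P Q]

/-- **local criterion in the form needed**: `P` the local ring at `Q` of a finitely presented
`R`-algebra, flat over `R`; `J` a finitely generated ideal with `J ∩ 𝔭P ⊆ 𝔭J`; then `P/J` is flat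
over `R`. -/
theorem flat_quot_of_inf_le (hflat : Module.Flat R P) (J : Ideal P) (hJ : J.FG)
    (H : J ⊓ (Q.comap (algebraMap R A₀)).map (algebraMap R P) ≤
      (Q.comap (algebraMap R A₀)).map (algebraMap R P) * J) :
    Module.Flat R (P ⧸ J) := by
  classical
  haveI : IsLocalRing P := IsLocalization.AtPrime.isLocalRing P Q
  haveI hpp : (Q.comap (algebraMap R A₀)).IsPrime := Ideal.comap_isPrime _ _
  have hunits : ∀ y : (Q.comap (algebraMap R A₀)).primeCompl, IsUnit (algebraMap R P (y : R)) := by
    intro y
    rw [IsScalarTower.algebraMap_apply R A₀ P]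
    exact IsLocalization.map_units P (⟨algebraMap R A₀ y, y.2⟩ : Q.primeCompl)
  letI algRpT : Algebra (Localization.AtPrime (Q.comap (algebraMap R A₀))) P :=
    (IsLocalization.lift (M := (Q.comap (algebraMap R A₀)).primeCompl)
      (g := algebraMap R P) hunits).toAlgebra
  haveI tw : IsScalarTower R (Localization.AtPrime (Q.comap (algebraMap R A₀))) P :=
    IsScalarTower.of_algebraMap_eq (fun r => by
      show algebraMap R P r =
        IsLocalization.lift hunits (algebraMap R (Localization.AtPrime _) r)
      rw [IsLocalization.lift_eq])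
  haveI hlochom : IsLocalHom (algebraMap (Localization.AtPrime (Q.comap (algebraMap R A₀))) P) := by
    constructor
    intro z hz
    obtain ⟨r, s, rfl⟩ := IsLocalization.exists_mk'_eq (Q.comap (algebraMap R A₀)).primeCompl z
    have h1 : IsUnit (algebraMap R P r) := by
      have h2 : algebraMap (Localization.AtPrime (Q.comap (algebraMap R A₀))) P
          (IsLocalization.mk' _ r s) * algebraMap R P (s : R) = algebraMap R P r := by
        rw [IsScalarTower.algebraMap_apply R (Localization.AtPrime (Q.comap (algebraMap R A₀))) P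
          (s : R), IsScalarTower.algebraMap_apply R
          (Localization.AtPrime (Q.comap (algebraMap R A₀))) P r, ← map_mul,
          IsLocalization.mk'_spec]
      rw [← h2]
      exact hz.mul (hunits s)
    have h3 : r ∈ (Q.comap (algebraMap R A₀)).primeCompl := by
      intro hr
      rw [IsScalarTower.algebraMap_apply R A₀ P] at h1
      exact (IsLocalization.AtPrime.isUnit_to_map_iff P Q _).mp h1 hr
    exact (IsLocalization.AtPrime.isUnit_mk'_iff (Localization.AtPrime _) _ r s).mpr h3
  have hess : CAlgX.IsEssFinitePresentation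
      (Localization.AtPrime (Q.comap (algebraMap R A₀))) P :=
    Groth.Agent.Helper2.EssFP.essFP_of_atPrime (Q.comap (algebraMap R A₀)) Q
      (fun a ha h => ha h) _ _
  have hpT : (maximalIdeal (Localization.AtPrime (Q.comap (algebraMap R A₀)))).map
      (algebraMap (Localization.AtPrime (Q.comap (algebraMap R A₀))) P) =
      (Q.comap (algebraMap R A₀)).map (algebraMap R P) := by
    rw [← Localization.AtPrime.map_eq_maximalIdeal, Ideal.map_map,
      ← IsScalarTower.algebraMap_eq]
  haveI hflatS : Module.Flat (Localization.AtPrime (Q.comap (algebraMap R A₀))) P :=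
    (Module.flat_iff_of_isLocalization (Localization.AtPrime (Q.comap (algebraMap R A₀)))
      (Q.comap (algebraMap R A₀)).primeCompl P).mpr hflat
  have key := Groth.Agent.Helper2.LocCritFP.flat_of_tor_vanish
    (S := Localization.AtPrime (Q.comap (algebraMap R A₀))) (P := P) (M := P ⧸ J) (F := P) hess
    (Submodule.mkQ J) (Submodule.mkQ_surjective J) (by rw [Submodule.ker_mkQ]; exact hJ) (by
      intro k hk hk'
      rw [Submodule.ker_mkQ] at hk ⊢
      rw [hpT] at hk' ⊢
      rw [Ideal.smul_eq_mul, Ideal.mul_top] at hk'
      rw [Ideal.smul_eq_mul]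
      exact H ⟨hk, hk'⟩)
  haveI : IsScalarTower R (Localization.AtPrime (Q.comap (algebraMap R A₀))) (P ⧸ J) :=
    IsScalarTower.of_algebraMap_eq (fun r => by
      show Ideal.Quotient.mk J (algebraMap R P r) = Ideal.Quotient.mk J
        (algebraMap (Localization.AtPrime (Q.comap (algebraMap R A₀))) P
          (algebraMap R (Localization.AtPrime _) r))
      rw [← IsScalarTower.algebraMap_apply R (Localization.AtPrime _) P])
  exact (Module.flat_iff_of_isLocalization (Localization.AtPrime (Q.comap (algebraMap R A₀)))
      (Q.comap (algebraMap R A₀)).primeCompl (P ⧸ J)).mp key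

end local_form

section main
variable {R A : Type u} [CommRing R] [CommRing A] [Algebra R A] [Algebra.FinitePresentation R A]

/-- conversion of the flatness consequence to ideals -/
theorem inf_le_mul_of_flat {P N : Type u} [CommRing P] [Algebra R P] [AddCommGroup N] [Module R N]
    [Module.Flat R N] (ψ : P →ₗ[R] N) (hψ : Function.Surjective ψ) (p : Ideal R) (K : Ideal P)
    (hK : ∀ x, x ∈ K ↔ ψ x = 0) :
    K ⊓ p.map (algebraMap R P) ≤ p.map (algebraMap R P) * K := by
  have hfl := LinearMap.ker_inf_smul_top_eq_smul_of_flat p ψ hψ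
  rintro k ⟨hk1, hk2⟩
  have hmem : k ∈ LinearMap.ker ψ ⊓ p • (⊤ : Submodule R P) := by
    refine ⟨(hK k).mp hk1, ?_⟩
    rw [Ideal.smul_top_eq_map]
    exact hk2
  rw [hfl] at hmem
  refine Submodule.smul_induction_on hmem ?_ ?_
  · intro r hr m hm
    rw [Algebra.smul_def]
    exact Ideal.mul_mem_mul (Ideal.mem_map_of_mem _ hr) ((hK m).mpr hm)
  · intro x y hx hy
    exact Ideal.add_mem _ hx hy

/-- **Flatness along the zero locus of an `H₁`-regular sequence with flat quotient.** -/
theorem flat_localization_of_h1 (q : Ideal A) [q.IsPrime] {r : ℕ} (f : Fin r → A)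
    (hf : CAlgX.IsH1Regular f) (hfq : Ideal.span (Set.range f) ≤ q)
    (hflat : Module.Flat R (A ⧸ Ideal.span (Set.range f))) :
    Module.Flat R (Localization.AtPrime q) := by
  classical
  obtain ⟨n, φ, hφ, hφfg⟩ := Algebra.FinitePresentation.out (R := R) (A := A)
  -- the prime of the polynomial ring
  haveI hQ : (q.comap φ.toRingHom).IsPrime := Ideal.comap_isPrime _ _
  have hle : (q.comap φ.toRingHom).primeCompl ≤ q.primeCompl.comap φ.toRingHom := fun x hx => hx
  let σ : Localization.AtPrime (q.comap φ.toRingHom) →+* Localization.AtPrime q :=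
    IsLocalization.map (Localization.AtPrime q) φ.toRingHom hle
  have hσalg : ∀ a, σ (algebraMap _ _ a) = algebraMap A (Localization.AtPrime q) (φ a) :=
    fun a => IsLocalization.map_eq hle a
  have hσR : ∀ x : R, σ (algebraMap R _ x) = algebraMap R (Localization.AtPrime q) x := by
    intro x
    rw [IsScalarTower.algebraMap_apply R (MvPolynomial (Fin n) R)
      (Localization.AtPrime (q.comap φ.toRingHom)), hσalg, φ.commutes,
      ← IsScalarTower.algebraMap_apply]
  have hσsurj : Function.Surjective σ := by
    intro t
    obtain ⟨a, s, rfl⟩ := IsLocalization.exists_mk'_eq q.primeCompl t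
    obtain ⟨a₀, rfl⟩ := hφ a
    obtain ⟨s₀, hs₀⟩ := hφ s.1
    have hs₀' : s₀ ∈ (q.comap φ.toRingHom).primeCompl := by
      intro h
      apply s.2
      rw [← hs₀]
      exact h
    refine ⟨IsLocalization.mk' _ a₀ (⟨s₀, hs₀'⟩ : (q.comap φ.toRingHom).primeCompl), ?_⟩
    rw [IsLocalization.map_mk']
    congr 1
    exact Subtype.ext hs₀
  have hmapcompl : Submonoid.map φ.toRingHom (q.comap φ.toRingHom).primeCompl = q.primeCompl := by
    ext s
    constructor
    · rintro ⟨s₀, hs₀, rfl⟩
      exact hs₀
    · intro hs
      obtain ⟨s₀, rfl⟩ := hφ s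
      exact ⟨s₀, hs, rfl⟩
  have hσker : RingHom.ker σ = (RingHom.ker φ.toRingHom).map
      (algebraMap _ (Localization.AtPrime (q.comap φ.toRingHom))) :=
    IsLocalization.ker_map (Localization.AtPrime q) φ.toRingHom hmapcompl
  have hp : (q.comap φ.toRingHom).comap (algebraMap R (MvPolynomial (Fin n) R)) =
      q.comap (algebraMap R A) := by
    ext x
    simp only [Ideal.mem_comap]
    show φ (algebraMap R _ x) ∈ q ↔ _
    rw [φ.commutes]
  -- lifts of the sequence
  choose f₀ hf₀ using fun i => hφ (f i)
  have hσg : ∀ i, σ (algebraMap _ _ (f₀ i)) = algebraMap A (Localization.AtPrime q) (f i) :=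
    fun i => by rw [hσalg, hf₀]
  haveI : IsLocalRing (Localization.AtPrime (q.comap φ.toRingHom)) :=
    IsLocalization.AtPrime.isLocalRing _ (q.comap φ.toRingHom)
  have hg : ∀ i, algebraMap _ (Localization.AtPrime (q.comap φ.toRingHom)) (f₀ i) ∈
      maximalIdeal (Localization.AtPrime (q.comap φ.toRingHom)) := by
    intro i
    rw [IsLocalization.AtPrime.to_map_mem_maximal_iff _ (q.comap φ.toRingHom)]
    show φ (f₀ i) ∈ q
    rw [hf₀]
    exact hfq (Ideal.subset_span ⟨i, rfl⟩)
  have hJfg : ((RingHom.ker φ.toRingHom).map
      (algebraMap _ (Localization.AtPrime (q.comap φ.toRingHom)))).FG := hφfg.map _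
  haveI hflatP : Module.Flat R (Localization.AtPrime (q.comap φ.toRingHom)) :=
    Module.Flat.trans R (MvPolynomial (Fin n) R) _
  -- the flat quotient
  have hFI := flat_quot_localization (R := R) q _ hflat
  let σa : Localization.AtPrime (q.comap φ.toRingHom) →ₐ[R] Localization.AtPrime q :=
    { σ with commutes' := hσR }
  let ψ : Localization.AtPrime (q.comap φ.toRingHom) →ₗ[R]
      (Localization.AtPrime q ⧸ (Ideal.span (Set.range f)).map
        (algebraMap A (Localization.AtPrime q))) :=
    (Ideal.Quotient.mkₐ R _).toLinearMap ∘ₗ σa.toLinearMap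
  have hψ : Function.Surjective ψ :=
    (Ideal.Quotient.mkₐ_surjective R _).comp hσsurj
  have hmapG : (Ideal.span (Set.range fun i =>
      algebraMap _ (Localization.AtPrime (q.comap φ.toRingHom)) (f₀ i))).map σ =
      (Ideal.span (Set.range f)).map (algebraMap A (Localization.AtPrime q)) := by
    rw [Ideal.map_span, Ideal.map_span, ← Set.range_comp, ← Set.range_comp]
    congr 2
    funext i
    exact hσg i
  have hK : ∀ x, x ∈ (RingHom.ker φ.toRingHom).map
      (algebraMap _ (Localization.AtPrime (q.comap φ.toRingHom))) ⊔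
      Ideal.span (Set.range fun i =>
        algebraMap _ (Localization.AtPrime (q.comap φ.toRingHom)) (f₀ i)) ↔ ψ x = 0 := by
    intro x
    have h1 : ψ x = 0 ↔ σ x ∈ (Ideal.span (Set.range f)).map
        (algebraMap A (Localization.AtPrime q)) := by
      show Ideal.Quotient.mk _ (σ x) = 0 ↔ _
      exact Ideal.Quotient.eq_zero_iff_mem
    rw [h1, ← hmapG, ← Ideal.mem_comap, Ideal.comap_map_of_surjective σ hσsurj,
      ← RingHom.ker_eq_comap_bot, hσker, sup_comm]
  have hA := inf_le_mul_of_flat ψ hψ
    ((q.comap φ.toRingHom).comap (algebraMap R (MvPolynomial (Fin n) R))) _ hK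
  -- `H₁`-regularity in the local ring
  have hH1 : CAlgX.IsH1Regular (fun i => σ (algebraMap _ _ (f₀ i))) := by
    have := Groth.Agent.Lead.H1RegA.isH1Regular_of_flat (S := Localization.AtPrime q) f hf
    rwa [← (funext hσg : (fun i => σ (algebraMap _ _ (f₀ i))) = _)] at this
  -- the fibre
  let ρ : Localization.AtPrime (q.comap φ.toRingHom) →+*
      Localization.AtPrime q ⧸ (q.comap (algebraMap R A)).map
        (algebraMap R (Localization.AtPrime q)) :=
    (Ideal.Quotient.mk _).comp σ
  have hρsurj : Function.Surjective ρ := Ideal.Quotient.mk_surjective.comp hσsurj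
  have hmap𝔪 : (((q.comap φ.toRingHom).comap (algebraMap R (MvPolynomial (Fin n) R))).map
      (algebraMap R (Localization.AtPrime (q.comap φ.toRingHom)))).map σ =
      (q.comap (algebraMap R A)).map (algebraMap R (Localization.AtPrime q)) := by
    rw [Ideal.map_map, hp]
    congr 1
    ext x
    exact hσR x
  have hρk : RingHom.ker ρ = (RingHom.ker φ.toRingHom).map
      (algebraMap _ (Localization.AtPrime (q.comap φ.toRingHom))) ⊔
      ((q.comap φ.toRingHom).comap (algebraMap R (MvPolynomial (Fin n) R))).map
        (algebraMap R (Localization.AtPrime (q.comap φ.toRingHom))) := by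
    show RingHom.ker ((Ideal.Quotient.mk _).comp σ) = _
    rw [← RingHom.comap_ker, Ideal.mk_ker, ← hmap𝔪, Ideal.comap_map_of_surjective σ hσsurj,
      ← RingHom.ker_eq_comap_bot, hσker, sup_comm]
  have hreg : IsWeaklyRegular (Localization.AtPrime q ⧸ (q.comap (algebraMap R A)).map
        (algebraMap R (Localization.AtPrime q)))
      (List.ofFn fun i => ρ (algebraMap _ _ (f₀ i))) := by
    have := weaklyRegular_fibre (R := R) q f (Groth.Agent.S2103.result f hf) hfq hflat
    have e : (fun i => ρ (algebraMap _ _ (f₀ i))) = fun i => Ideal.Quotient.mk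
        ((q.comap (algebraMap R A)).map (algebraMap R (Localization.AtPrime q)))
        (algebraMap A (Localization.AtPrime q) (f i)) := by
      funext i
      show Ideal.Quotient.mk _ (σ (algebraMap _ _ (f₀ i))) = _
      rw [hσg]
    rw [e]
    exact this
  haveI hnoeth : IsNoetherianRing (Localization.AtPrime (q.comap φ.toRingHom) ⧸
      ((q.comap φ.toRingHom).comap (algebraMap R (MvPolynomial (Fin n) R))).map
        (algebraMap R (Localization.AtPrime (q.comap φ.toRingHom)))) :=
    (fibre_ring_props (T := Localization.AtPrime (q.comap φ.toRingHom)) (q.comap φ.toRingHom)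
      _ rfl).1
  have hcore := core _ _ (fun i => algebraMap _ (Localization.AtPrime (q.comap φ.toRingHom)) (f₀ i))
    hJfg hg hA σ hσsurj hσker hH1 ρ hρsurj hρk hreg
  have hflatQ := flat_quot_of_inf_le (P := Localization.AtPrime (q.comap φ.toRingHom))
    (q.comap φ.toRingHom) hflatP _ hJfg hcore
  -- transfer to the local ring of `A`
  let ℓ : (Localization.AtPrime (q.comap φ.toRingHom) ⧸ (RingHom.ker φ.toRingHom).map
      (algebraMap _ (Localization.AtPrime (q.comap φ.toRingHom)))) →ₐ[R] Localization.AtPrime q :=
    Ideal.Quotient.liftₐ _ σa (fun a ha => by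
      rw [← hσker] at ha
      exact ha)
  have hℓbij : Function.Bijective ℓ := by
    constructor
    · rw [injective_iff_map_eq_zero]
      intro x hx
      obtain ⟨x, rfl⟩ := Ideal.Quotient.mk_surjective x
      have : σ x = 0 := hx
      rw [Ideal.Quotient.eq_zero_iff_mem, ← hσker]
      exact this
    · intro t
      obtain ⟨x, rfl⟩ := hσsurj t
      exact ⟨Ideal.Quotient.mk _ x, rfl⟩
  exact Module.Flat.of_linearEquiv (AlgEquiv.ofBijective ℓ hℓbij).symm.toLinearEquiv

end main

end Groth.Agent.Helper3.KosFlat
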