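import Mathlib

set_option autoImplicit false
set_option linter.style.haveILetI false
set_option linter.unusedSectionVars false
set_option linter.unusedVariables false
set_option linter.deprecated false
set_option linter.style.haveILetI false
set_option linter.unusedSectionVars false
set_option linter.unusedVariables false

open CategoryTheory Limits AlgebraicGeometry TopologicalSpace Opposite
universe u

namespace Groth.Agent.Helper3.CartGood

variable {X : Scheme.{u}} (𝓐 𝓑 : X.IdealSheafData)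

/-- the two ideal sheaves agree on the affine open `V` -/
def Good (V : X.affineOpens) : Prop := 𝓐.ideal V = 𝓑.ideal V

variable {𝓐 𝓑} in
theorem Good.of_le {V W : X.affineOpens} (h : Good 𝓐 𝓑 V) (hWV : W ≤ V) : Good 𝓐 𝓑 W := by
  unfold Good at h ⊢
  rw [← 𝓐.map_ideal hWV, ← 𝓑.map_ideal hWV, h]

/-- the largest open on which the two ideal sheaves agree -/
def goodOpen : X.Opens := ⨆ V : {V : X.affineOpens // Good 𝓐 𝓑 V}, V.1.1

variable {𝓐 𝓑} in
theorem mem_goodOpen {V : X.affineOpens} (h : Good 𝓐 𝓑 V) {x : X} (hx : x ∈ V.1) :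
    x ∈ goodOpen 𝓐 𝓑 := by
  unfold goodOpen
  rw [Opens.mem_iSup]
  exact ⟨⟨V, h⟩, hx⟩

theorem comap_goodOpen_eq : 𝓐.comap (goodOpen 𝓐 𝓑).ι = 𝓑.comap (goodOpen 𝓐 𝓑).ι := by
  set U := goodOpen 𝓐 𝓑 with hU
  have hle : ∀ V : {V : X.affineOpens // Good 𝓐 𝓑 V}, V.1.1 ≤ U := fun V => le_iSup (fun V : {V : X.affineOpens // Good 𝓐 𝓑 V} => V.1.1) V
  have haff : ∀ V : {V : X.affineOpens // Good 𝓐 𝓑 V}, IsAffineOpen (U.ι ⁻¹ᵁ V.1.1) := by
    intro V
    apply V.1.2.preimage_of_isOpenImmersion U.ι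
    rw [Scheme.Opens.opensRange_ι]
    exact hle V
  apply Scheme.IdealSheafData.ext_of_iSup_eq_top
    (fun V : {V : X.affineOpens // Good 𝓐 𝓑 V} => (⟨U.ι ⁻¹ᵁ V.1.1, haff V⟩ : (U : Scheme.{u}).affineOpens))
  · rw [eq_top_iff]
    rintro ⟨y, hy⟩ -
    have hy' : y ∈ goodOpen 𝓐 𝓑 := hy
    unfold goodOpen at hy'
    rw [Opens.mem_iSup] at hy'
    obtain ⟨V, hyV⟩ := hy'
    rw [Opens.mem_iSup]
    exact ⟨V, hyV⟩
  · intro V
    rw [Scheme.IdealSheafData.ideal_comap_of_isOpenImmersion,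
      Scheme.IdealSheafData.ideal_comap_of_isOpenImmersion]
    have hgood : Good 𝓐 𝓑 ⟨U.ι ''ᵁ (U.ι ⁻¹ᵁ V.1.1), (haff V).image_of_isOpenImmersion U.ι⟩ := by
      apply V.2.of_le
      change U.ι ''ᵁ (U.ι ⁻¹ᵁ V.1.1) ≤ V.1.1
      exact Scheme.Hom.image_preimage_le _ _
    unfold Good at hgood
    rw [hgood]

end Groth.Agent.Helper3.CartGood
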