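import Mathlib
import Groth.Agent.Helper3.CartOrd
import Groth.Agent.Helper3.CartGood

set_option autoImplicit false
set_option linter.style.haveILetI false
set_option linter.unusedSectionVars false
set_option linter.unusedVariables false
set_option linter.deprecated false
set_option linter.style.haveILetI false
set_option linter.unusedSectionVars false
set_option linter.unusedVariables false

open CategoryTheory Limits AlgebraicGeometry TopologicalSpace Opposite
universe u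

namespace Groth.Agent.Helper3.CartMain

open Groth.Agent.Helper3.CartDict Groth.Agent.Helper3.CartAlg Groth.Agent.Helper3.CartLoc
  Groth.Agent.Helper3.CartTop Groth.Agent.Helper3.CartOrd Groth.Agent.Helper3.CartGood

variable {X : Scheme.{u}}

/-- evaluation of ideal sheaves on an affine open, as a monoid homomorphism -/
noncomputable def idealHom (V : X.affineOpens) : X.IdealSheafData →* Ideal Γ(X, V.1) where
  toFun J := J.ideal V
  map_one' := by
    change (⊤ : X.IdealSheafData).ideal V = 1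
    rw [Scheme.IdealSheafData.ideal_top, Ideal.one_eq_top]; rfl
  map_mul' _ _ := rfl

theorem ideal_prod {I : Type u} (𝓓 : I → X.IdealSheafData) (a : I →₀ ℕ) (V : X.affineOpens) :
    (a.prod (fun i n => 𝓓 i ^ n)).ideal V = a.prod (fun i n => (𝓓 i).ideal V ^ n) := by
  have := map_finsuppProd (idealHom V) a (fun i n => 𝓓 i ^ n)
  simp only [map_pow] at this
  exact this

section
variable [IsNoetherian X] (𝓩 : X.IdealSheafData)
    {I : Type u} (𝓓 : I → X.IdealSheafData) (hD : ∀ i, BlowUp.IsEffCartierIdeal (𝓓 i))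
    (hDint : ∀ i, IsIntegral (𝓓 i).subscheme)
    (Z' : Set ↥X) (hZ' : IsClosed Z')
    (hcodim : ∀ z ∈ Z', (∀ y ∈ Z', y ⤳ z → y = z) →
      (2 : WithBot ℕ∞) ≤ ringKrullDim ↑(X.presheaf.stalk z))
    (hcover : (𝓩.support : Set ↥X) ⊆ Z' ∪ ⋃ i, ((𝓓 i).support : Set ↥X))
    (ξ : I → X) (hξ : ∀ i, IsGenericPoint (ξ i) ((𝓓 i).support : Set X))
    (S : Finset I) (hSinj : ∀ i ∈ S, ∀ j ∈ S, ξ i = ξ j → i = j)

include hD hDint hZ' hcodim hcover hξ hSinj in
/-- in a chart where all the chosen divisors are principal, every section of `𝓩` is divisible by the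
product of the local equations to the power of the multiplicities -/
theorem prod_dvd_of_mem (V : X.affineOpens) (t : I → Γ(X, V.1))
    (ht : ∀ i ∈ S, t i ∈ nonZeroDivisors Γ(X, V.1) ∧ (𝓓 i).ideal V = Ideal.span {t i})
    (f : Γ(X, V.1)) (hf : f ∈ 𝓩.ideal V) : ∏ i ∈ S, t i ^ mult 𝓩 𝓓 ξ i ∣ f := by
  classical
  have hunit : ∀ i ∈ S, ξ i ∉ V.1 → IsUnit (t i) := by
    intro i hi hξV
    haveI := hDint i
    have h1 := ideal_eq_top (𝓓 i) (ξ i) (hξ i) V hξV
    rw [(ht i hi).2] at h1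
    exact Ideal.span_singleton_eq_top.mp h1
  have hprime : ∀ i ∈ S, ξ i ∈ V.1 → Prime (t i) := by
    intro i hi hξV
    haveI := hDint i
    have hp : (Ideal.span {t i}).IsPrime := by
      rw [← (ht i hi).2]; exact ideal_isPrime (𝓓 i) (ξ i) (hξ i) V hξV
    haveI : Nontrivial Γ(X, V.1) := by
      by_contra hnt
      rw [not_nontrivial_iff_subsingleton] at hnt
      exact hp.ne_top (Subsingleton.elim _ _)
    exact (Ideal.span_singleton_prime (nonZeroDivisors.ne_zero (ht i hi).1)).mp hp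
  apply prod_pow_dvd S t (mult 𝓩 𝓓 ξ)
  · intro i hi; exact (ht i hi).1
  · intro i hi
    by_cases hξV : ξ i ∈ V.1
    · exact Or.inl (hprime i hi hξV)
    · exact Or.inr (hunit i hi hξV)
  · intro i hi j hj hij hpi hpj hdvd
    haveI := hDint i
    haveI := hDint j
    have hξiV : ξ i ∈ V.1 := by
      by_contra h
      exact hpi.not_unit (hunit i hi h)
    have h1 : t j ∈ (𝓓 i).ideal V := by
      rw [(ht i hi).2]; exact Ideal.mem_span_singleton.mpr hdvd
    rw [mem_ideal_iff_of_isGenericPoint (𝓓 i) (ξ i) (hξ i)] at h1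
    have h2 : ξ i ∈ (𝓓 j).support := by
      rw [Scheme.IdealSheafData.mem_support_iff_of_mem (U := V) hξiV, Scheme.mem_zeroLocus_iff]
      intro g hg hξg
      rw [(ht j hj).2] at hg
      obtain ⟨c, rfl⟩ := Ideal.mem_span_singleton.mp hg
      rw [Scheme.basicOpen_mul] at hξg
      exact h1 hξg.1
    have h3 : ξ j ⤳ ξ i := (hξ j).specializes h2
    have h4 : ξ j ≠ ξ i := fun h => hij (hSinj i hi j hj h.symm)
    exact not_mem_support_of_strict (𝓓 i) (ξ i) (hξ i) (hD i) (𝓓 j) (hD j) (ξ j) h3 h4 (hξ j).mem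
  · intro i hi
    by_cases hξV : ξ i ∈ V.1
    · exact Ord.pow_dvd 𝓩 𝓓 hDint ξ hξ
        (ord_mult 𝓩 𝓓 hD hDint Z' hZ' hcodim hcover ξ hξ i) V hξV (t i) (ht i hi).1 (ht i hi).2 f hf
    · exact ((hunit i hi hξV).pow _).dvd

variable (a : I →₀ ℕ) (ha1 : a.support ⊆ S) (ha2 : ∀ i ∈ S, a i = mult 𝓩 𝓓 ξ i)

include ha1 ha2 in
theorem ideal_tot_eq (V : X.affineOpens) (t : I → Γ(X, V.1))
    (ht : ∀ i ∈ S, t i ∈ nonZeroDivisors Γ(X, V.1) ∧ (𝓓 i).ideal V = Ideal.span {t i}) :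
    (a.prod (fun i n => 𝓓 i ^ n)).ideal V = Ideal.span {∏ i ∈ S, t i ^ mult 𝓩 𝓓 ξ i} := by
  rw [ideal_prod, Finsupp.prod_of_support_subset a ha1 _ (by intro i _; simp),
    ← Ideal.prod_span_singleton]
  apply Finset.prod_congr rfl
  intro i hi
  rw [(ht i hi).2, ha2 i hi, Ideal.span_singleton_pow]

include hD hDint hZ' hcodim hcover hξ hSinj ha1 ha2 in
theorem le_tot : 𝓩 ≤ a.prod (fun i n => 𝓓 i ^ n) := by
  classical
  apply Scheme.IdealSheafData.le_of_iSup_eq_top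
    (fun V : {V : X.affineOpens // ∀ i ∈ S, Princ (𝓓 i) V} => V.1)
  · rw [eq_top_iff]
    intro x _
    obtain ⟨V, hxV, hV⟩ := exists_princ_chart 𝓓 hD S x
    rw [Opens.mem_iSup]
    exact ⟨⟨V, hV⟩, hxV⟩
  · rintro ⟨V, hV⟩
    let t : I → Γ(X, V.1) := fun i => if h : i ∈ S then (hV i h).choose else 1
    have ht : ∀ i ∈ S, t i ∈ nonZeroDivisors Γ(X, V.1) ∧ (𝓓 i).ideal V = Ideal.span {t i} := by
      intro i hi
      simp only [t, dif_pos hi]
      exact (hV i hi).choose_spec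
    simp only
    rw [ideal_tot_eq 𝓩 𝓓 ξ S a ha1 ha2 V t ht]
    intro f hf
    exact Ideal.mem_span_singleton.mpr
      (prod_dvd_of_mem 𝓩 𝓓 hD hDint Z' hZ' hcodim hcover ξ hξ S hSinj V t ht f hf)

include hD hDint hZ' hcodim hcover hξ hSinj ha1 ha2 in
/-- near the generic point of each chosen divisor the two ideal sheaves agree -/
theorem generic_mem_goodOpen (i₀ : I) (hi₀ : i₀ ∈ S) :
    ξ i₀ ∈ goodOpen (a.prod (fun i n => 𝓓 i ^ n)) 𝓩 := by
  classical
  haveI := hDint i₀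
  obtain ⟨V, hξV, hV⟩ := exists_princ_chart 𝓓 hD S (ξ i₀)
  let t : I → Γ(X, V.1) := fun i => if h : i ∈ S then (hV i h).choose else 1
  have ht : ∀ i ∈ S, t i ∈ nonZeroDivisors Γ(X, V.1) ∧ (𝓓 i).ideal V = Ideal.span {t i} := by
    intro i hi
    simp only [t, dif_pos hi]
    exact (hV i hi).choose_spec
  obtain ⟨q, hq⟩ : ∃ q : Γ(X, V.1), q = ∏ i ∈ S, t i ^ mult 𝓩 𝓓 ξ i := ⟨_, rfl⟩
  have hdvd := prod_dvd_of_mem 𝓩 𝓓 hD hDint Z' hZ' hcodim hcover ξ hξ S hSinj V t ht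
  have hex : ∃ g : Γ(X, V.1), ξ i₀ ∈ X.basicOpen g ∧ q * g ∈ 𝓩.ideal V := by
    by_contra hcon
    push Not at hcon
    apply not_ord_mult_succ 𝓩 𝓓 hD hDint Z' hZ' hcodim hcover ξ hξ i₀
    refine ⟨V, hξV, ?_⟩
    intro f hf
    obtain ⟨c, rfl⟩ := hdvd f hf
    rw [← hq] at hf ⊢
    have hc : c ∈ (𝓓 i₀).ideal V := by
      rw [mem_ideal_iff_of_isGenericPoint (𝓓 i₀) (ξ i₀) (hξ i₀)]
      intro h
      exact hcon c h hf
    rw [(ht i₀ hi₀).2] at hc ⊢
    obtain ⟨d, rfl⟩ := Ideal.mem_span_singleton.mp hc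
    rw [Ideal.span_singleton_pow, Ideal.mem_span_singleton]
    refine ⟨(∏ i ∈ S.erase i₀, t i ^ mult 𝓩 𝓓 ξ i) * d, ?_⟩
    rw [hq, ← Finset.mul_prod_erase S _ hi₀, pow_succ]
    ring
  obtain ⟨g, hξg, hqg⟩ := hex
  let W : X.affineOpens := X.affineBasicOpen g
  have hWV : W ≤ V := X.basicOpen_le g
  apply mem_goodOpen (V := W) _ hξg
  unfold Good
  apply le_antisymm
  · rw [← Scheme.IdealSheafData.map_ideal _ hWV, ← Scheme.IdealSheafData.map_ideal _ hWV,
      ideal_tot_eq 𝓩 𝓓 ξ S a ha1 ha2 V t ht, ← hq, Ideal.map_span, Set.image_singleton,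
      Ideal.span_singleton_le_iff_mem]
    have hu : IsUnit ((X.presheaf.map (homOfLE (X.basicOpen_le g)).op).hom g) :=
      RingedSpace.isUnit_res_basicOpen _ g
    obtain ⟨u, hu⟩ := hu
    have h1 : (X.presheaf.map (homOfLE (X.basicOpen_le g)).op).hom (q * g) ∈
        Ideal.map (X.presheaf.map (homOfLE (X.basicOpen_le g)).op).hom (𝓩.ideal V) :=
      Ideal.mem_map_of_mem _ hqg
    rw [map_mul, ← hu] at h1
    have h2 := Ideal.mul_mem_right (↑u⁻¹ : Γ(X, X.basicOpen g)) _ h1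
    rw [mul_assoc, Units.mul_inv, mul_one] at h2
    exact h2
  · exact le_tot 𝓩 𝓓 hD hDint Z' hZ' hcodim hcover ξ hξ S hSinj a ha1 ha2 W

end

end Groth.Agent.Helper3.CartMain
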