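import Mathlib
import Groth.Agent.Helper3.CartMain

set_option autoImplicit false
set_option linter.style.haveILetI false
set_option linter.unusedSectionVars false
set_option linter.unusedVariables false
set_option linter.deprecated false
set_option linter.style.haveILetI false
set_option linter.unusedSectionVars false
set_option linter.unusedVariables false

open CategoryTheory Limits AlgebraicGeometry TopologicalSpace Opposite
universe u

namespace Groth.Agent.Helper3.CartFinal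

open Groth.Agent.Helper3.CartDict Groth.Agent.Helper3.CartAlg Groth.Agent.Helper3.CartLoc
  Groth.Agent.Helper3.CartTop Groth.Agent.Helper3.CartOrd Groth.Agent.Helper3.CartGood
  Groth.Agent.Helper3.CartMain

theorem main (X : Scheme.{u}) [IsNoetherian X] (𝓩 : X.IdealSheafData)
    {I : Type u} (𝓓 : I → X.IdealSheafData) (hD : ∀ i, BlowUp.IsEffCartierIdeal (𝓓 i))
    (hDint : ∀ i, IsIntegral (𝓓 i).subscheme)
    (Z' : Set ↥X) (hZ' : IsClosed Z')
    (hcodim : ∀ z ∈ Z', (∀ y ∈ Z', y ⤳ z → y = z) →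
      (2 : WithBot ℕ∞) ≤ ringKrullDim ↑(X.presheaf.stalk z))
    (hcover : (𝓩.support : Set ↥X) ⊆ Z' ∪ ⋃ i, ((𝓓 i).support : Set ↥X)) :
    ∃ a : I →₀ ℕ, 𝓩 ≤ a.prod (fun i n => 𝓓 i ^ n) ∧
      ∃ U : X.Opens, (a.prod (fun i n => 𝓓 i ^ n)).comap U.ι = 𝓩.comap U.ι ∧
        ∀ z ∈ (𝓩.support : Set ↥X) \ (U : Set ↥X),
          (∀ y ∈ (𝓩.support : Set ↥X) \ (U : Set ↥X), y ⤳ z → y = z) →
          (2 : WithBot ℕ∞) ≤ ringKrullDim ↑(X.presheaf.stalk z) := by
  classical
  have hgen : ∀ i, ∃ ξ : X, IsGenericPoint ξ ((𝓓 i).support : Set X) := fun i => by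
    haveI := hDint i
    exact exists_generic (𝓓 i)
  choose ξ hξ using hgen
  -- maximal points of `Z`
  let M : Set X := {w | w ∈ (𝓩.support : Set X) ∧ ∀ w' ∈ (𝓩.support : Set X), w' ⤳ w → w' = w}
  have hM : M.Finite := finite_maximal_points (𝓩.support : Set X) 𝓩.support.isClosed
  have hξM : ∀ i, ξ i ∈ 𝓩.support → ξ i ∈ M := by
    intro i hi
    refine ⟨hi, ?_⟩
    intro w' hw' hsp
    by_contra hne
    exact not_mem_support_of_strict' 𝓩 𝓓 hD hDint Z' hZ' hcodim hcover ξ hξ i w' hsp hne hw'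
  let M₁ : Set X := {w | w ∈ M ∧ ∃ i, ξ i = w}
  have hM₁ : M₁.Finite := hM.subset (fun w hw => hw.1)
  haveI : Finite M₁ := hM₁.to_subtype
  let r : M₁ → I := fun w => w.2.2.choose
  have hr : ∀ w : M₁, ξ (r w) = w.1 := fun w => w.2.2.choose_spec
  let S : Finset I := (Set.finite_range r).toFinset
  have hS : ∀ i, i ∈ S ↔ ∃ w : M₁, r w = i := by
    intro i
    simp only [S, Set.Finite.mem_toFinset, Set.mem_range]
  have hSinj : ∀ i ∈ S, ∀ j ∈ S, ξ i = ξ j → i = j := by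
    intro i hi j hj hij
    obtain ⟨w, rfl⟩ := (hS i).mp hi
    obtain ⟨w', rfl⟩ := (hS j).mp hj
    rw [hr, hr] at hij
    rw [Subtype.ext hij]
  have hSrep : ∀ i, ξ i ∈ 𝓩.support → ∃ i' ∈ S, ξ i' = ξ i := by
    intro i hi
    let w : M₁ := ⟨ξ i, hξM i hi, i, rfl⟩
    exact ⟨r w, (hS _).mpr ⟨w, rfl⟩, hr w⟩
  let a : I →₀ ℕ := Finsupp.onFinset S (fun i => if i ∈ S then mult 𝓩 𝓓 ξ i else 0) (by
    intro i hi
    by_contra h
    simp [h] at hi)
  have ha1 : a.support ⊆ S := Finsupp.support_onFinset_subset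
  have ha2 : ∀ i ∈ S, a i = mult 𝓩 𝓓 ξ i := by
    intro i hi
    simp [a, Finsupp.onFinset_apply, hi]
  refine ⟨a, le_tot 𝓩 𝓓 hD hDint Z' hZ' hcodim hcover ξ hξ S hSinj a ha1 ha2,
    goodOpen (a.prod (fun i n => 𝓓 i ^ n)) 𝓩, comap_goodOpen_eq _ _, ?_⟩
  rintro z ⟨hzZ, hzU⟩ -
  rw [ringKrullDim_stalk_eq_coheight]
  suffices h : (2 : ℕ∞) ≤ Order.coheight z from WithBot.coe_le_coe.mpr h
  rcases hcover hzZ with h | h
  · exact two_le_coheight_of_mem Z' hZ' hcodim z h
  · obtain ⟨i, hi⟩ := Set.mem_iUnion.mp h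
    haveI := hDint i
    have hsp : ξ i ⤳ z := (hξ i).specializes hi
    by_cases hzi : z = ξ i
    · exfalso
      apply hzU
      obtain ⟨i', hi'S, hi'⟩ := hSrep i (hzi ▸ hzZ)
      rw [hzi, ← hi']
      exact generic_mem_goodOpen 𝓩 𝓓 hD hDint Z' hZ' hcodim hcover ξ hξ S hSinj a ha1 ha2 i' hi'S
    · obtain ⟨η, hη, hne⟩ := exists_strict (𝓓 i) (ξ i) (hξ i) (hD i)
      have h1 : z < ξ i := by
        rw [lt_iff_le_not_ge]
        refine ⟨hsp, ?_⟩
        intro hle
        have hle' : z ⤳ ξ i := hle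
        exact hzi (hle'.antisymm hsp).eq
      have h2 : ξ i < η := by
        rw [lt_iff_le_not_ge]
        refine ⟨hη, ?_⟩
        intro hle
        have hle' : ξ i ⤳ η := hle
        exact hne (hη.antisymm hle').eq
      have h3 := Order.coheight_add_one_le h1
      have h4 := Order.coheight_add_one_le h2
      calc (2 : ℕ∞) = 0 + 1 + 1 := by norm_num
        _ ≤ Order.coheight η + 1 + 1 := by gcongr; exact bot_le
        _ ≤ Order.coheight (ξ i) + 1 := by gcongr
        _ ≤ Order.coheight z := h3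

end Groth.Agent.Helper3.CartFinal
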