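import Mathlib

set_option autoImplicit false
set_option linter.style.haveILetI false
set_option linter.unusedSectionVars false
set_option linter.unusedVariables false
set_option linter.style.haveILetI false
set_option linter.unusedSectionVars false
set_option linter.unusedVariables false

universe u
open CategoryTheory CategoryTheory.Limits AlgebraicGeometry

namespace Groth.Agent.Helper3.CartOpen

section ring

variable {B B' R R' : Type u} [CommRing B] [CommRing B'] [CommRing R] [CommRing R']
  (s : B →+* R) (t : R' →+* R) (p : B' →+* B) (q : B' →+* R')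

theorem away_bij (hw : ∀ x, s (p x) = t (q x))
    (hinj : ∀ x y : B', p x = p y → q x = q y → x = y)
    (hex : ∀ b r', s b = t r' → ∃ x, p x = b ∧ q x = r')
    (h : B') (hiso : Function.Bijective (Localization.awayMap s (p h))) :
    Function.Bijective (Localization.awayMap q h) := by
  constructor
  · rw [Localization.awayMap_injective_iff]
    intro a ha
    have h1 : s (p a) = 0 := by rw [hw, ha, map_zero]
    obtain ⟨n, hn⟩ := (Localization.awayMap_injective_iff.mp hiso.1) (p a) h1
    refine ⟨n, hinj _ _ ?_ ?_⟩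
    · rw [map_mul, map_pow, hn, map_zero]
    · rw [map_mul, ha, mul_zero, map_zero]
  · rw [Localization.awayMap_surjective_iff]
    intro a
    obtain ⟨b0, m0, hb0⟩ := (Localization.awayMap_surjective_iff.mp hiso.2) (t a)
    have h2 : s b0 = t (q h ^ m0 * a) := by
      rw [hb0, map_mul, map_pow, hw]
    obtain ⟨x, -, hx⟩ := hex b0 _ h2
    exact ⟨x, m0, hx⟩

end ring


section sch

variable {B' R' : Type u} [CommRing B'] [CommRing R'] (q : B' →+* R')

theorem isOpenImmersion_comp_of_range (h : B')
    (hbij : Function.Bijective (Localization.awayMap q h))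
    {Y : Scheme.{u}} (j : Y ⟶ Spec (CommRingCat.of R')) [IsOpenImmersion j]
    (hr : Set.range j ⊆ (PrimeSpectrum.basicOpen (q h) : Set (PrimeSpectrum R'))) :
    IsOpenImmersion (j ≫ Spec.map (CommRingCat.ofHom q)) := by
  let jf := Spec.map (CommRingCat.ofHom (algebraMap R' (Localization.Away (q h))))
  have hjf : Set.range jf = (PrimeSpectrum.basicOpen (q h) : Set (PrimeSpectrum R')) :=
    PrimeSpectrum.localization_away_comap_range _ _
  let l := IsOpenImmersion.lift jf j (by rw [hjf]; exact hr)
  have hl : l ≫ jf = j := IsOpenImmersion.lift_fac _ _ _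
  haveI : IsOpenImmersion (l ≫ jf) := by rw [hl]; infer_instance
  haveI : IsOpenImmersion l := IsOpenImmersion.of_comp l jf
  have hcomm : jf ≫ Spec.map (CommRingCat.ofHom q) =
      Spec.map (CommRingCat.ofHom (Localization.awayMap q h)) ≫
        Spec.map (CommRingCat.ofHom (algebraMap B' (Localization.Away h))) := by
    rw [← Spec.map_comp, ← Spec.map_comp]
    congr 1
    ext x
    simp [Localization.awayMap, IsLocalization.Away.map]
  haveI : IsIso (CommRingCat.ofHom (Localization.awayMap q h)) :=
    (ConcreteCategory.isIso_iff_bijective _).mpr hbij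
  rw [← hl, Category.assoc, hcomm]
  infer_instance


theorem main_aux {n : ℕ} (h : Fin n → B')
    (hbij : ∀ i, Function.Bijective (Localization.awayMap q (h i))) :
    IsOpenImmersion (Scheme.Opens.ι (X := Spec (CommRingCat.of R'))
        (⨆ i, PrimeSpectrum.basicOpen (q (h i))) ≫ Spec.map (CommRingCat.ofHom q)) := by
  set W' : (Spec (CommRingCat.of R')).Opens := ⨆ i, PrimeSpectrum.basicOpen (q (h i)) with hW'
  set φ := W'.ι ≫ Spec.map (CommRingCat.ofHom q) with hφ
  let D : Fin n → (Spec (CommRingCat.of R')).Opens := fun i => PrimeSpectrum.basicOpen (q (h i))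
  let U : Fin n → W'.toScheme.Opens := fun i => W'.ι ⁻¹ᵁ D i
  have hcov : ∀ x : W'.toScheme, ∃ i, x ∈ U i := by
    intro x
    have hx : x.1 ∈ (⨆ i, D i : (Spec (CommRingCat.of R')).Opens) := x.2
    rw [TopologicalSpace.Opens.mem_iSup] at hx
    exact hx
  have hU : ∀ i, IsOpenImmersion ((U i).ι ≫ φ) := fun i => by
    rw [hφ, ← Category.assoc]
    refine isOpenImmersion_comp_of_range q (h i) (hbij i) ((U i).ι ≫ W'.ι) ?_
    rintro _ ⟨x, rfl⟩
    exact x.2
  have hmem : ∀ (i : Fin n) (y : Spec (CommRingCat.of R')),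
      (Spec.map (CommRingCat.ofHom q)) y ∈ (PrimeSpectrum.basicOpen (h i) : Set (PrimeSpectrum B')) ↔
        y ∈ D i := fun i y => Iff.rfl
  haveI : ∀ x, IsIso (φ.stalkMap x) := by
    intro x
    obtain ⟨i, hi⟩ := hcov x
    haveI := hU i
    have h1 := Scheme.Hom.stalkMap_comp (U i).ι φ ⟨x, hi⟩
    haveI : IsIso (((U i).ι ≫ φ).stalkMap ⟨x, hi⟩) := inferInstance
    haveI : IsIso (φ.stalkMap ((U i).ι ⟨x, hi⟩) ≫ (U i).ι.stalkMap ⟨x, hi⟩) := h1 ▸ this
    exact IsIso.of_isIso_comp_right (φ.stalkMap ((U i).ι ⟨x, hi⟩)) ((U i).ι.stalkMap ⟨x, hi⟩)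
  refine IsOpenImmersion.of_isIso_stalkMap φ ?_
  refine Topology.IsOpenEmbedding.of_continuous_injective_isOpenMap φ.continuous ?_ ?_
  · intro x y hxy
    obtain ⟨i, hi⟩ := hcov x
    have hy : y ∈ U i := by
      show W'.ι y ∈ D i
      rw [← hmem]
      have : (Spec.map (CommRingCat.ofHom q)) (W'.ι y) = (Spec.map (CommRingCat.ofHom q)) (W'.ι x) := by
        rw [← Scheme.Hom.comp_apply, ← Scheme.Hom.comp_apply]; exact hxy.symm
      rw [this, hmem]
      exact hi
    haveI := hU i
    have h2 : ((U i).ι ≫ φ) ⟨x, hi⟩ = ((U i).ι ≫ φ) ⟨y, hy⟩ := by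
      rw [Scheme.Hom.comp_apply, Scheme.Hom.comp_apply]
      exact hxy
    have h3 := ((U i).ι ≫ φ).isOpenEmbedding.injective h2
    exact congrArg Subtype.val h3
  · have hOC : TopologicalSpace.IsOpenCover U :=
      TopologicalSpace.IsOpenCover.mk (top_le_iff.mp fun x _ =>
        TopologicalSpace.Opens.mem_iSup.mpr (hcov x))
    rw [hOC.isOpenMap_iff_comp]
    intro i
    haveI := hU i
    exact ((U i).ι ≫ φ).isOpenEmbedding.isOpenMap

end sch


theorem main {B B' R R' : Type u} [CommRing B] [CommRing B']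
    [CommRing R] [CommRing R'] (s : B →+* R) (t : R' →+* R) (p : B' →+* B) (q : B' →+* R')
    (hsq : IsPullback (CommRingCat.ofHom p) (CommRingCat.ofHom q) (CommRingCat.ofHom s)
      (CommRingCat.ofHom t))
    {n : ℕ} (f : Fin n → R') (g : Fin n → B) (hfg : ∀ i, t (f i) = s (g i))
    (hiso : ∀ i, Function.Bijective (Localization.awayMap s (g i))) :
    IsOpenImmersion (Scheme.Opens.ι (X := Spec (CommRingCat.of R'))
      (⨆ i, PrimeSpectrum.basicOpen (f i)) ≫ Spec.map (CommRingCat.ofHom q)) := by
  have hT := hsq.map (forget CommRingCat)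
  have hw : ∀ x, s (p x) = t (q x) := fun x => congrArg (fun φ => φ.hom x) hsq.w
  have hinj : ∀ x y : B', p x = p y → q x = q y → x = y := fun x y h1 h2 =>
    Limits.Types.ext_of_isPullback hT h1 h2
  have hex : ∀ b r', s b = t r' → ∃ x, p x = b ∧ q x = r' := fun b r' h =>
    Limits.Types.exists_of_isPullback hT b r' h
  choose h hh1 hh2 using fun i => hex (g i) (f i) (hfg i).symm
  have hf : f = fun i => q (h i) := funext fun i => (hh2 i).symm
  subst hf
  exact main_aux q h (fun i => away_bij s t p q hw hinj hex (h i) (by rw [hh1]; exact hiso i))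

end Groth.Agent.Helper3.CartOpen
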