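import Mathlib
import Groth.Prelude.Def_W4stkcategoriessitesFib

set_option autoImplicit false
universe v u

namespace Groth.Agent.Helper3.CatPbMap
open CategoryTheory Limits

variable {X Y Z A B C : Type u} [Category.{v} X] [Category.{v} Y] [Category.{v} Z] [Category.{v} A]
  [Category.{v} B] [Category.{v} C] {H : X ⥤ Z} {I : Y ⥤ Z} {F : A ⥤ C} {G : B ⥤ C}
  (ψ : CatCospanTransform H I F G)

theorem map_obj_iso_hom (x : CategoricalPullback H I) :
    ((FibCat.categoricalPullbackMap ψ).obj x).iso.hom =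
      ψ.squareLeft.iso.inv.app x.fst ≫ ψ.base.map x.iso.hom ≫ ψ.squareRight.iso.hom.app x.snd := by
  simp [FibCat.categoricalPullbackMap]
  rfl

theorem faithful [ψ.left.Faithful] [ψ.right.Faithful] :
    (FibCat.categoricalPullbackMap ψ).Faithful := by
  refine ⟨fun {x y} f g h => ?_⟩
  have h1 : ψ.left.map f.fst = ψ.left.map g.fst := congrArg (fun t => t.fst) h
  have h2 : ψ.right.map f.snd = ψ.right.map g.snd := congrArg (fun t => t.snd) h
  apply CategoricalPullback.hom_ext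
  · exact ψ.left.map_injective h1
  · exact ψ.right.map_injective h2

theorem full [ψ.left.Full] [ψ.right.Full] [ψ.base.Faithful] :
    (FibCat.categoricalPullbackMap ψ).Full := by
  refine ⟨fun {x x'} Θ => ?_⟩
  obtain ⟨f₁, hf₁⟩ := ψ.left.map_surjective (X := x.fst) (Y := x'.fst) Θ.fst
  obtain ⟨f₂, hf₂⟩ := ψ.right.map_surjective (X := x.snd) (Y := x'.snd) Θ.snd
  have hw := Θ.w
  rw [map_obj_iso_hom, map_obj_iso_hom] at hw
  have n1 : F.map (ψ.left.map f₁) ≫ ψ.squareLeft.iso.inv.app x'.fst =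
      ψ.squareLeft.iso.inv.app x.fst ≫ ψ.base.map (H.map f₁) :=
    ψ.squareLeft.iso.inv.naturality f₁
  have n2 : ψ.base.map (I.map f₂) ≫ ψ.squareRight.iso.hom.app x'.snd =
      ψ.squareRight.iso.hom.app x.snd ≫ G.map (ψ.right.map f₂) :=
    ψ.squareRight.iso.hom.naturality f₂
  have w : H.map f₁ ≫ x'.iso.hom = x.iso.hom ≫ I.map f₂ := by
    apply ψ.base.map_injective
    rw [ψ.base.map_comp, ψ.base.map_comp]
    rw [← cancel_epi (ψ.squareLeft.iso.inv.app x.fst),
      ← cancel_mono (ψ.squareRight.iso.hom.app x'.snd)]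
    simp only [Category.assoc]
    rw [n2, ← reassoc_of% n1, hf₁, hf₂]
    erw [Category.assoc, Category.assoc] at hw
    exact hw
  refine ⟨⟨f₁, f₂, w⟩, ?_⟩
  apply CategoricalPullback.hom_ext
  · exact hf₁
  · exact hf₂


theorem essSurj [ψ.left.EssSurj] [ψ.right.EssSurj] [ψ.base.Full] [ψ.base.Faithful] :
    (FibCat.categoricalPullbackMap ψ).EssSurj := by
  refine ⟨fun y => ?_⟩
  let x₁ := ψ.left.objPreimage y.fst
  let e₁ : ψ.left.obj x₁ ≅ y.fst := ψ.left.objObjPreimageIso y.fst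
  let x₂ := ψ.right.objPreimage y.snd
  let e₂ : ψ.right.obj x₂ ≅ y.snd := ψ.right.objObjPreimageIso y.snd
  let τ : ψ.base.obj (H.obj x₁) ≅ ψ.base.obj (I.obj x₂) :=
    ψ.squareLeft.iso.app x₁ ≪≫ F.mapIso e₁ ≪≫ y.iso ≪≫ (G.mapIso e₂).symm ≪≫
      (ψ.squareRight.iso.app x₂).symm
  let φ : H.obj x₁ ≅ I.obj x₂ := ψ.base.preimageIso τ
  let x : CategoricalPullback H I := ⟨x₁, x₂, φ⟩
  have hφ : ψ.base.map φ.hom = τ.hom := ψ.base.map_preimage τ.hom
  have hiso' : ψ.squareLeft.iso.inv.app x₁ ≫ ψ.base.map φ.hom ≫ ψ.squareRight.iso.hom.app x₂ =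
      F.map e₁.hom ≫ y.iso.hom ≫ G.map e₂.inv := by
    rw [hφ]
    simp [τ]
  have hw : F.map e₁.hom ≫ y.iso.hom =
      (ψ.squareLeft.iso.inv.app x₁ ≫ ψ.base.map φ.hom ≫ ψ.squareRight.iso.hom.app x₂) ≫
        G.map e₂.hom := by
    rw [hiso']
    simp only [Category.assoc, ← G.map_comp, Iso.inv_hom_id, G.map_id, Category.comp_id]
  exact ⟨x, ⟨CategoricalPullback.mkIso (x := (FibCat.categoricalPullbackMap ψ).obj x) (y := y)
    e₁ e₂ (by rw [map_obj_iso_hom]; exact hw)⟩⟩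

theorem isEquivalence [ψ.left.IsEquivalence] [ψ.right.IsEquivalence] [ψ.base.Full]
    [ψ.base.Faithful] : (FibCat.categoricalPullbackMap ψ).IsEquivalence :=
  { faithful := faithful ψ
    full := full ψ
    essSurj := essSurj ψ }

end Groth.Agent.Helper3.CatPbMap
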