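import Mathlib

set_option autoImplicit false
set_option linter.style.haveILetI false
set_option linter.unusedSectionVars false
set_option linter.unusedVariables false
set_option linter.style.haveILetI false
set_option linter.unusedSectionVars false
set_option linter.unusedVariables false

open AlgebraicGeometry CategoryTheory CategoryTheory.Limits TopologicalSpace

universe u

namespace Groth.Agent.Helper3.LofpComp

lemma fp_source :
    RingHom.StableUnderCompositionWithLocalizationAwaySource @RingHom.FinitePresentation := by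
  intro R S T _ _ _ _ r _ f hf
  exact RingHom.finitePresentation_stableUnderComposition _ _
    (RingHom.finitePresentation_holdsForLocalizationAway S r) hf

/-- cancellation for morphisms locally of finite presentation -/
theorem lofp_of_comp {X Y Z : Scheme.{u}} (f : X ⟶ Y) (g : Y ⟶ Z)
    [LocallyOfFinitePresentation (f ≫ g)] [LocallyOfFiniteType g] :
    LocallyOfFinitePresentation f := by
  rw [HasRingHomProperty.iff_exists_appLE (P := @LocallyOfFinitePresentation) fp_source]
  intro x
  obtain ⟨_, ⟨W, hW, rfl⟩, hxW, -⟩ :=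
    Z.isBasis_affineOpens.exists_subset_of_mem_open (Set.mem_univ (g (f x))) isOpen_univ
  obtain ⟨_, ⟨U, hU, rfl⟩, hxU, hUW⟩ :=
    Y.isBasis_affineOpens.exists_subset_of_mem_open
      (show f x ∈ ((g ⁻¹ᵁ W : Y.Opens) : Set Y) from hxW) (g ⁻¹ᵁ W).2
  obtain ⟨_, ⟨V, hV, rfl⟩, hxV, hVU⟩ :=
    X.isBasis_affineOpens.exists_subset_of_mem_open
      (show x ∈ ((f ⁻¹ᵁ U : X.Opens) : Set X) from hxU) (f ⁻¹ᵁ U).2
  refine ⟨⟨U, hU⟩, ⟨V, hV⟩, hxV, hVU, ?_⟩
  have h1 : (g.appLE W U hUW).hom.FiniteType := g.finiteType_appLE hW hU hUW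
  have hVW : V ≤ (f ≫ g) ⁻¹ᵁ W := fun p hp => hUW (hVU hp)
  have h2 : ((f ≫ g).appLE W V hVW).hom.FinitePresentation :=
    (f ≫ g).finitePresentation_appLE hW hV hVW
  rw [← Scheme.Hom.appLE_comp_appLE f g W U V hUW hVU, CommRingCat.hom_comp] at h2
  exact RingHom.FinitePresentation.of_comp_finiteType _ h2 h1

end Groth.Agent.Helper3.LofpComp
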