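import Mathlib
import Groth.Agent.Helper3.LofpComp

set_option autoImplicit false
set_option linter.style.haveILetI false
set_option linter.unusedSectionVars false
set_option linter.unusedVariables false
set_option linter.style.haveILetI false
set_option linter.unusedSectionVars false
set_option linter.unusedVariables false

open AlgebraicGeometry CategoryTheory CategoryTheory.Limits TopologicalSpace
open MonoidalCategory CartesianMonoidalCategory MonObj GrpObj

universe u

namespace Groth.Agent.Helper3.CentSec

open Groth.Agent.Helper3.LofpComp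

theorem main (S : Scheme.{u}) (G : Over S) [GrpObj G]
    [IsAffineHom G.hom] [LocallyOfFinitePresentation G.hom] (g : 𝟙_ (Over S) ⟶ G) :
    ∃ (Z : Over S) (j : Z ⟶ G), IsClosedImmersion j.left ∧ LocallyOfFinitePresentation j.left ∧
      ∀ (T : Over S) (x : T ⟶ G), (∃ z : T ⟶ Z, z ≫ j = x) ↔
        x * (toUnit T ≫ g) = (toUnit T ≫ g) * x := by
  have hη : η[G].left ≫ G.hom = 𝟙 S := by
    have := Over.w η[G]
    rw [this]
    rfl
  haveI : IsIso (η[G].left ≫ G.hom) := by
    rw [Over.w η[G]]
    exact inferInstanceAs (IsIso (𝟙 S))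
  haveI : IsClosedImmersion (η[G].left ≫ G.hom) := inferInstance
  haveI : IsClosedImmersion η[G].left := IsClosedImmersion.of_comp η[G].left G.hom
  haveI : LocallyOfFinitePresentation (η[G].left ≫ G.hom) := inferInstance
  haveI : LocallyOfFinitePresentation η[G].left := lofp_of_comp η[G].left G.hom
  let c : G ⟶ G := 𝟙 G * (toUnit G ≫ g) * (𝟙 G)⁻¹ * (toUnit G ≫ g)⁻¹
  let j₀ := pullback.fst c.left η[G].left
  refine ⟨Over.mk (j₀ ≫ G.hom), Over.homMk j₀ rfl, inferInstanceAs (IsClosedImmersion j₀),
    inferInstanceAs (LocallyOfFinitePresentation j₀), ?_⟩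
  intro T x
  have key : x ≫ c = x * (toUnit T ≫ g) * x⁻¹ * (toUnit T ≫ g)⁻¹ := by
    have h1 : x ≫ toUnit G = toUnit T := toUnit_unique _ _
    simp only [c, MonObj.comp_mul, GrpObj.comp_inv, Category.comp_id, ← Category.assoc, h1]
  have key2 : x * (toUnit T ≫ g) = (toUnit T ≫ g) * x ↔ x ≫ c = toUnit T ≫ η[G] := by
    rw [key, ← CategoryTheory.Hom.one_def]
    generalize toUnit T ≫ g = b
    constructor
    · intro h
      calc x * b * x⁻¹ * b⁻¹ = (x * b) * x⁻¹ * b⁻¹ := by group
        _ = (b * x) * x⁻¹ * b⁻¹ := by rw [h]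
        _ = 1 := by group
    · intro h
      calc x * b = (x * b * x⁻¹ * b⁻¹) * b * x := by group
        _ = b * x := by rw [h, _root_.one_mul]
  rw [key2]
  have hT : (toUnit T).left = T.hom := by
    have := Over.w (toUnit T)
    rw [← this]
    exact (Category.comp_id _).symm
  have hc : c.left ≫ G.hom = G.hom := Over.w c
  constructor
  · rintro ⟨z, rfl⟩
    apply Over.OverMorphism.ext
    change (z.left ≫ j₀) ≫ c.left = (toUnit T).left ≫ η[G].left
    rw [Category.assoc, pullback.condition, ← Category.assoc]
    congr 1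
    rw [hT]
    have h1 : (z.left ≫ pullback.snd c.left η[G].left) ≫ η[G].left ≫ G.hom = T.hom := by
      rw [Category.assoc, ← pullback.condition_assoc, hc]
      exact Over.w z
    rw [hη] at h1
    exact (Category.comp_id _).symm.trans h1
  · intro h
    have h' : x.left ≫ c.left = (toUnit T).left ≫ η[G].left := by
      rw [← Over.comp_left, h, Over.comp_left]
    refine ⟨Over.homMk (pullback.lift x.left (toUnit T).left h') ?_, ?_⟩
    · change pullback.lift x.left (toUnit T).left h' ≫ j₀ ≫ G.hom = T.hom
      rw [pullback.lift_fst_assoc]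
      exact Over.w x
    · apply Over.OverMorphism.ext
      exact pullback.lift_fst _ _ _

end Groth.Agent.Helper3.CentSec
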