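import Mathlib

set_option linter.style.haveILetI false
set_option linter.unusedSectionVars false
set_option linter.unusedVariables false

universe u

namespace Groth.Agent.Helper3.CentreDim

open MvPolynomial

section

variable {A : Type u} [CommRing A] {O : Type u} [CommRing O] [Algebra A O] {n : ℕ} (f : Fin n → O)

/-- partial evaluation points -/
noncomputable def g (j : ℕ) : Fin n → MvPolynomial (Fin n) O :=
  fun i => if i.val < j then C (f i) else X i

/-- partial evaluation -/
noncomputable def ψ (j : ℕ) : MvPolynomial (Fin n) A →ₐ[A] MvPolynomial (Fin n) O :=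
  aeval (g f j)

/-- evaluate the `j`-th variable -/
noncomputable def θ (j : ℕ) : MvPolynomial (Fin n) O →ₐ[O] MvPolynomial (Fin n) O :=
  aeval (fun i => if i.val = j then C (f i) else X i)

theorem ψ_succ (j : ℕ) (p : MvPolynomial (Fin n) A) : ψ f (j + 1) p = θ f j (ψ f j p) := by
  have : ψ (A := A) f (j + 1) = ((θ f j).restrictScalars A).comp (ψ f j) := by
    apply MvPolynomial.algHom_ext
    intro i
    simp only [ψ, θ, g, aeval_X, AlgHom.comp_apply, AlgHom.restrictScalars_apply]
    by_cases h1 : i.val < j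
    · rw [if_pos h1, if_pos (by omega)]
      rw [← algebraMap_eq, AlgHom.commutes]
    · rw [if_neg h1, aeval_X]
      by_cases h2 : i.val = j
      · rw [if_pos h2, if_pos (by omega)]
      · rw [if_neg h2, if_neg (by omega)]
  rw [this]; rfl

theorem ψ_n (p : MvPolynomial (Fin n) A) : ψ f n p = C (aeval f p) := by
  have : ψ (A := A) f n = (IsScalarTower.toAlgHom A O (MvPolynomial (Fin n) O)).comp (aeval f) := by
    apply MvPolynomial.algHom_ext
    intro i
    simp only [ψ, g, aeval_X, AlgHom.comp_apply, IsScalarTower.coe_toAlgHom']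
    rw [if_pos i.2]; rfl
  rw [this]; rfl

end

theorem main (A : Type u) [CommRing A] [IsDomain A] [IsNoetherianRing A] [IsLocalRing A]
    (O : Type u) [CommRing O] [IsDomain O] [ValuationRing O] [Algebra A O]
    (hinj : Function.Injective (algebraMap A O)) (hloc : IsLocalHom (algebraMap A O))
    (hfrac : ∀ x : O, ∃ a b : A, b ≠ 0 ∧ algebraMap A O b * x = algebraMap A O a)
    (hnt : ¬ IsField O) (n : ℕ) (f : Fin n → O)
    (hind : ∀ p : MvPolynomial (Fin n) A,
      MvPolynomial.eval₂ ((IsLocalRing.residue O).comp (algebraMap A O))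
        (fun i => IsLocalRing.residue O (f i)) p = 0 →
      ∀ m : Fin n →₀ ℕ, IsLocalRing.residue A (p.coeff m) = 0) :
    (n : WithBot ℕ∞) + 1 ≤ ringKrullDim A := by
  classical
  let S := MvPolynomial (Fin n) A
  let P : ℕ → Ideal S := fun j => RingHom.ker (ψ (A := A) f j).toRingHom
  haveI hPprime : ∀ j, (P j).IsPrime := fun j => RingHom.ker_isPrime _
  let ev : S →ₐ[A] O := aeval f
  let Q : Ideal S := Ideal.comap ev.toRingHom (IsLocalRing.maximalIdeal O)
  haveI hQprime : Q.IsPrime := Ideal.comap_isPrime _ _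
  -- P j < P (j+1)
  have hlt : ∀ j, j < n → P j < P (j + 1) := by
    intro j hj
    refine lt_of_le_of_ne ?_ ?_
    · intro p hp
      change ψ f j p = 0 at hp
      change ψ f (j + 1) p = 0
      rw [ψ_succ, hp, map_zero]
    · obtain ⟨a, b, hb, hab⟩ := hfrac (f ⟨j, hj⟩)
      intro heq
      have hmem : (C b * X ⟨j, hj⟩ - C a : S) ∈ P (j + 1) := by
        change ψ f (j + 1) _ = 0
        simp only [ψ, g, map_sub, map_mul, aeval_C, aeval_X]
        rw [if_pos (by simp), IsScalarTower.algebraMap_apply A O (MvPolynomial (Fin n) O) b,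
          IsScalarTower.algebraMap_apply A O (MvPolynomial (Fin n) O) a, algebraMap_eq, ← C_mul,
          hab, sub_self]
      rw [← heq] at hmem
      change ψ f j _ = 0 at hmem
      simp only [ψ, g, map_sub, map_mul, aeval_C, aeval_X] at hmem
      rw [if_neg (by simp)] at hmem
      rw [IsScalarTower.algebraMap_apply A O (MvPolynomial (Fin n) O) b,
        IsScalarTower.algebraMap_apply A O (MvPolynomial (Fin n) O) a, algebraMap_eq] at hmem
      have hc := congrArg (fun q => MvPolynomial.coeff (Finsupp.single (⟨j, hj⟩ : Fin n) 1) q) hmem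
      simp only [coeff_sub, coeff_C_mul, coeff_X, mul_one, coeff_zero] at hc
      rw [coeff_C, if_neg (Finsupp.single_ne_zero.2 one_ne_zero).symm, sub_zero] at hc
      rw [if_pos trivial, mul_one] at hc
      exact hb ((map_eq_zero_iff _ hinj).1 hc)
  -- heights
  have hht : ∀ j, j ≤ n → (j : ℕ∞) ≤ (P j).height := by
    intro j
    induction j with
    | zero => intro _; simp
    | succ j ih =>
      intro hj
      have h1 := ih (by omega)
      have h2 := Ideal.height_add_one_le_of_lt_of_isPrime (hlt j (by omega))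
      calc ((j + 1 : ℕ) : ℕ∞) = (j : ℕ∞) + 1 := by push_cast; rfl
        _ ≤ (P j).height + 1 := by gcongr
        _ ≤ (P (j + 1)).height := h2
  -- P n < Q
  have hPQ : P n < Q := by
    refine lt_of_le_of_ne ?_ ?_
    · intro p hp
      change ψ f n p = 0 at hp
      rw [ψ_n] at hp
      have : aeval f p = 0 := C_injective _ _ (by rw [hp, C_0])
      change aeval f p ∈ IsLocalRing.maximalIdeal O
      rw [this]; exact Ideal.zero_mem _
    · intro heq
      have hne : IsLocalRing.maximalIdeal O ≠ ⊥ := fun h =>
        hnt (IsLocalRing.isField_iff_maximalIdeal_eq.2 h)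
      obtain ⟨x, hx, hx0⟩ := Submodule.exists_mem_ne_zero_of_ne_bot hne
      obtain ⟨a, b, hb, hab⟩ := hfrac x
      have hb0 : algebraMap A O b ≠ 0 := (map_ne_zero_iff _ hinj).2 hb
      have ha : algebraMap A O a ∈ IsLocalRing.maximalIdeal O := by
        rw [← hab]; exact Ideal.mul_mem_left _ _ hx
      have ha0 : algebraMap A O a ≠ 0 := by rw [← hab]; exact mul_ne_zero hb0 hx0
      have hmem : (C a : S) ∈ Q := by
        change aeval f (C a) ∈ IsLocalRing.maximalIdeal O
        rw [aeval_C]; exact ha
      rw [← heq] at hmem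
      change ψ f n (C a) = 0 at hmem
      rw [ψ_n, aeval_C] at hmem
      exact ha0 (C_injective _ _ (by rw [hmem, C_0]))
  have hQn : ((n : ℕ∞) + 1) ≤ Q.height :=
    (add_le_add_left (hht n le_rfl) 1).trans (Ideal.height_add_one_le_of_lt_of_isPrime hPQ)
  -- Q lies over m
  let m := IsLocalRing.maximalIdeal A
  have hQm : Q ≤ m.map (algebraMap A S) := by
    intro p hp
    rw [algebraMap_eq, MvPolynomial.mem_map_C_iff]
    intro μ
    have h1 : IsLocalRing.residue O (aeval f p) = 0 := (IsLocalRing.residue_eq_zero_iff _).2 hp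
    rw [aeval_def, eval₂_comp_left] at h1
    have := hind p h1 μ
    exact (IsLocalRing.residue_eq_zero_iff _).1 this
  haveI hover : Q.LiesOver m := by
    refine ⟨?_⟩
    ext x
    rw [Ideal.under_def, Ideal.mem_comap]
    change x ∈ IsLocalRing.maximalIdeal A ↔ aeval f (algebraMap A S x) ∈ IsLocalRing.maximalIdeal O
    rw [algebraMap_eq, aeval_C, IsLocalRing.mem_maximalIdeal, IsLocalRing.mem_maximalIdeal,
      mem_nonunits_iff, mem_nonunits_iff, isUnit_map_iff]
  have hmtop : m.map (algebraMap A S) ≠ ⊤ := by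
    intro h
    have : (1 : S) ∈ m.map (algebraMap A S) := by rw [h]; trivial
    rw [algebraMap_eq, MvPolynomial.mem_map_C_iff] at this
    have h1 := this 0
    rw [coeff_one, if_pos rfl] at h1
    exact (IsLocalRing.maximalIdeal.isMaximal A).ne_top ((Ideal.eq_top_iff_one _).2 h1)
  haveI : Nontrivial (S ⧸ m.map (algebraMap A S)) := Ideal.Quotient.nontrivial_iff.2 hmtop
  have hQle : Q.height ≤ m.height := by
    have h1 := Ideal.height_le_height_add_of_liesOver m Q
    have h2 : Q.map (Ideal.Quotient.mk (m.map (algebraMap A S))) = ⊥ := by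
      rw [eq_bot_iff]
      exact (Ideal.map_mono hQm).trans (Ideal.map_quotient_self _).le
    rw [h2, Ideal.height_bot, add_zero] at h1
    exact h1
  rw [← IsLocalRing.maximalIdeal_height_eq_ringKrullDim]
  have := hQn.trans hQle
  exact_mod_cast this

end Groth.Agent.Helper3.CentreDim
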