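import Mathlib
import Groth.Agent.Helper5.GrpClosed3
import Groth.Prelude

set_option autoImplicit false
set_option linter.style.haveILetI false
set_option linter.unusedSectionVars false
set_option linter.unusedVariables false
set_option linter.style.haveILetI false
set_option linter.unusedSectionVars false
set_option linter.unusedVariables false

universe u

open AlgebraicGeometry CategoryTheory CategoryTheory.Limits TopologicalSpace
open MonoidalCategory CartesianMonoidalCategory MonObj GrpObj

namespace Groth.Agent.Helper3.GrpImg1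

open Groth.Agent.Helper5.GrpDense

section
variable {S : Scheme.{u}}

/-- `Y ◁ u` is the base change of `u` along the second projection -/
theorem isPullback_whiskerLeft {H G : Over S} (u : H ⟶ G) (Y : Over S) :
    IsPullback (Y ◁ u).left (snd Y H).left (snd Y G).left u.left := by
  have hr : IsPullback (fst Y G).left (snd Y G).left Y.hom G.hom :=
    IsPullback.of_hasPullback Y.hom G.hom
  have hb : IsPullback (fst Y H).left (snd Y H).left Y.hom H.hom :=
    IsPullback.of_hasPullback Y.hom H.hom
  have e1 : (Y ◁ u).left ≫ (fst Y G).left = (fst Y H).left := by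
    rw [← Over.comp_left, whiskerLeft_fst]
  have e2 : u.left ≫ G.hom = H.hom := Over.w u
  have e3 : (Y ◁ u).left ≫ (snd Y G).left = (snd Y H).left ≫ u.left := by
    rw [← Over.comp_left, ← Over.comp_left, whiskerLeft_snd]
  refine IsPullback.of_right ?_ e3 hr
  rw [e1, e2]
  exact hb

theorem range_whiskerLeft {H G : Over S} (u : H ⟶ G) (Y : Over S) :
    Set.range (Y ◁ u).left = (snd Y G).left ⁻¹' Set.range u.left := by
  have hp := isPullback_whiskerLeft u Y
  ext z
  constructor
  · rintro ⟨w, rfl⟩
    refine ⟨(snd Y H).left w, ?_⟩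
    rw [← Scheme.Hom.comp_apply, ← hp.w, Scheme.Hom.comp_apply]
  · rintro ⟨h, hh⟩
    obtain ⟨w, hw1, hw2⟩ := Scheme.Pullback.exists_preimage_pullback
      (f := (snd Y G).left) (g := u.left) z h hh.symm
    refine ⟨hp.isoPullback.inv w, ?_⟩
    rw [← Scheme.Hom.comp_apply, IsPullback.isoPullback_inv_fst]
    exact hw1

end

section
variable {S : Scheme.{u}} {G H : Over S} [GrpObj G] [GrpObj H] (u : H ⟶ G) [IsMonHom u]
variable (T : Over S) (x₀ : T ⟶ G)

/-- the map `(h, y) ↦ u(h)⁻¹ y` -/
noncomputable def lam : H ⊗ G ⟶ G := (fst H G ≫ u)⁻¹ * snd H G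

theorem whiskerLeft_lam : (H ◁ u) ≫ lam u = ((fst H H)⁻¹ * snd H H) ≫ u := by
  unfold lam
  rw [MonObj.comp_mul, GrpObj.comp_inv, whiskerLeft_snd, ← Category.assoc,
    whiskerLeft_fst, MonObj.mul_comp, GrpObj.inv_comp]

/-- the closure of the image of a subgroup is stable under left translation by the subgroup -/
theorem claim1' (hopen : IsOpenMap (snd H G).left) :
    (snd H G).left ⁻¹' closure (Set.range u.left) ⊆
      (lam u).left ⁻¹' closure (Set.range u.left) := by
  have h1 : (snd H G).left ⁻¹' closure (Set.range u.left) =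
      closure ((snd H G).left ⁻¹' Set.range u.left) :=
    hopen.preimage_closure_eq_closure_preimage (snd H G).left.continuous _
  rw [h1]
  apply closure_minimal _ (isClosed_closure.preimage (lam u).left.continuous)
  rw [← range_whiskerLeft u H]
  rintro _ ⟨w, rfl⟩
  apply subset_closure
  show (lam u).left ((H ◁ u).left w) ∈ Set.range u.left
  rw [← Scheme.Hom.comp_apply, ← Over.comp_left, whiskerLeft_lam, Over.comp_left,
    Scheme.Hom.comp_apply]
  exact ⟨_, rfl⟩

/-- `(h, t) ↦ (u(h)⁻¹ x₀(t), t)` -/
noncomputable def bet : H ⊗ T ⟶ G ⊗ T := lift ((fst H T ≫ u)⁻¹ * (snd H T ≫ x₀)) (snd H T)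

theorem bet_fst : bet u T x₀ ≫ fst G T = (H ◁ x₀) ≫ lam u := by
  unfold bet lam
  rw [lift_fst, MonObj.comp_mul, GrpObj.comp_inv, whiskerLeft_snd, ← Category.assoc,
    whiskerLeft_fst]

theorem bet_invTransl'_fst : bet u T x₀ ≫ invTransl' G T x₀ ≫ fst G T = fst H T ≫ u := by
  unfold bet
  rw [invTransl'_fst, MonObj.comp_mul, GrpObj.comp_inv, ← Category.assoc, lift_snd, lift_fst,
    _root_.mul_inv_rev, _root_.inv_inv, mul_inv_cancel_left]

/-- a point of the closure of the image lies in the image, provided the image contains a nonempty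
relatively open subset of its closure -/
theorem mem_range_of_mem_closure' (hopenH : IsOpenMap (fst G H).left)
    (hopenS : IsOpenMap (snd H G).left)
    (g : G.left) (hg : g ∈ closure (Set.range u.left))
    (W : Set G.left) (hWo : IsOpen W)
    (hW : closure (Set.range u.left) ∩ W ⊆ Set.range u.left)
    (hopenT : IsOpenMap (fst G T).left) (hx₀ : ∀ t, x₀.left t = g)
    (ζ : (H ⊗ T).left) (hζ : u.left ((fst H T).left ζ) ∈ W) :
    g ∈ Set.range u.left := by
  have hRcl : closure (Set.range (u ▷ T).left) =
      (fst G T).left ⁻¹' closure (Set.range u.left) := by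
    rw [range_whiskerRight u T]
    exact (hopenT.preimage_closure_eq_closure_preimage (fst G T).left.continuous _).symm
  have hg'cl : (bet u T x₀).left ζ ∈ closure (Set.range (u ▷ T).left) := by
    rw [hRcl]
    show (fst G T).left ((bet u T x₀).left ζ) ∈ closure (Set.range u.left)
    rw [← Scheme.Hom.comp_apply, ← Over.comp_left, bet_fst, Over.comp_left, Scheme.Hom.comp_apply]
    apply claim1' u hopenS
    show (snd H G).left ((H ◁ x₀).left ζ) ∈ closure (Set.range u.left)
    rw [← Scheme.Hom.comp_apply, ← Over.comp_left, whiskerLeft_snd, Over.comp_left,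
      Scheme.Hom.comp_apply, hx₀]
    exact hg
  have hOo : IsOpen ((invTransl' G T x₀).left ⁻¹' ((fst G T).left ⁻¹' W)) :=
    (hWo.preimage (fst G T).left.continuous).preimage (invTransl' G T x₀).left.continuous
  have hg'O : (bet u T x₀).left ζ ∈ (invTransl' G T x₀).left ⁻¹' ((fst G T).left ⁻¹' W) := by
    show (fst G T).left ((invTransl' G T x₀).left ((bet u T x₀).left ζ)) ∈ W
    rw [← Scheme.Hom.comp_apply, ← Scheme.Hom.comp_apply, ← Over.comp_left, ← Over.comp_left,
      bet_invTransl'_fst, Over.comp_left, Scheme.Hom.comp_apply]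
    exact hζ
  obtain ⟨v, hvO, ⟨h₁, hh₁⟩⟩ := mem_closure_iff.1 hg'cl _ hOo hg'O
  have hz₁fst : (fst G H).left ((q₁ T x₀).left h₁) = g := by
    rw [← Scheme.Hom.comp_apply, ← Over.comp_left, q₁_fst, Over.comp_left, Scheme.Hom.comp_apply,
      hx₀]
  have hz₁α : (αbar u).left ((q₁ T x₀).left h₁) =
      (fst G T).left ((invTransl' G T x₀).left v) := by
    rw [← hh₁, ← Scheme.Hom.comp_apply, ← Over.comp_left, q₁_αbar, Over.comp_left,
      Over.comp_left, Scheme.Hom.comp_apply, Scheme.Hom.comp_apply]
  have hαRu : (αbar u).left ((q₁ T x₀).left h₁) ∈ Set.range u.left := by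
    apply hW
    refine ⟨claim1 u hopenH ?_, ?_⟩
    · show (fst G H).left ((q₁ T x₀).left h₁) ∈ closure (Set.range u.left)
      rw [hz₁fst]; exact hg
    · rw [hz₁α]
      exact hvO
  have := mem_range_of_αbar_mem u _ hαRu
  rwa [hz₁fst] at this

end

end Groth.Agent.Helper3.GrpImg1
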