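import Mathlib
import Groth.Prelude

set_option autoImplicit false
set_option linter.style.haveILetI false
set_option linter.unusedSectionVars false
set_option linter.unusedVariables false
set_option linter.deprecated false
set_option linter.style.haveILetI false
set_option linter.unusedSectionVars false
set_option linter.unusedVariables false

universe u

open IsLocalRing

namespace Groth.Agent.Helper3.ClFib

/-- The residue field of the integral closure of a domain in an algebraically closed field,
at a maximal ideal, is algebraically closed. -/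
theorem isAlgClosed_quot {A : Type u} [CommRing A] {L : Type u} [Field L] [Algebra A L]
    [IsAlgClosed L] (P : Ideal (integralClosure A L)) [P.IsMaximal] :
    letI : Field (integralClosure A L ⧸ P) := Ideal.Quotient.field P
    IsAlgClosed (integralClosure A L ⧸ P) := by
  letI : Field (integralClosure A L ⧸ P) := Ideal.Quotient.field P
  refine IsAlgClosed.of_exists_root _ fun p hp hirr => ?_
  obtain ⟨q, hq, hdeg, hqm⟩ := Polynomial.lifts_and_degree_eq_and_monic
    ((Polynomial.mem_lifts _).mpr (Polynomial.map_surjective _ Ideal.Quotient.mk_surjective p)) hp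
  have hq0 : (q.map (algebraMap (integralClosure A L) L)).degree ≠ 0 := by
    rw [Polynomial.degree_map_eq_of_injective (Subtype.val_injective), hdeg]
    exact (Polynomial.degree_pos_of_irreducible hirr).ne'
  obtain ⟨z, hz⟩ := IsAlgClosed.exists_root _ hq0
  have hzint : IsIntegral (integralClosure A L) z :=
    ⟨q, hqm, by rwa [Polynomial.IsRoot.def, Polynomial.eval_map] at hz⟩
  have hzA : IsIntegral A z := isIntegral_trans z hzint
  refine ⟨Ideal.Quotient.mk P ⟨z, hzA⟩, ?_⟩
  rw [← hq, Polynomial.eval_map, Polynomial.eval₂_hom]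
  have hz0 : Polynomial.eval₂ (algebraMap (integralClosure A L) L) z q = 0 := by
    rwa [Polynomial.IsRoot.def, Polynomial.eval_map] at hz
  have h2 : Polynomial.eval (⟨z, hzA⟩ : integralClosure A L) q = 0 := by
    apply Subtype.val_injective
    have := Polynomial.hom_eval₂ q (RingHom.id _) (integralClosure A L).val.toRingHom ⟨z, hzA⟩
    simp only [Polynomial.eval₂_id, RingHom.comp_id] at this
    rw [show ((integralClosure A L).val.toRingHom (Polynomial.eval ⟨z, hzA⟩ q)) =
      ((Polynomial.eval (⟨z, hzA⟩ : integralClosure A L) q : integralClosure A L) : L) from rfl] at this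
    rw [this]
    exact hz0
  rw [h2, map_zero]

/-- The polynomial case: over a local domain which is not a field, every maximal ideal of a
polynomial ring lying over the maximal ideal with integral residue ring contains a prime `r`
lying over `0`, with `A[T]/r` integral over `A`, avoiding a given nonzero polynomial. -/
theorem exists_prime_mvPolynomial {A : Type u} [CommRing A] [IsDomain A] [IsLocalRing A]
    (a : A) (ha : a ∈ maximalIdeal A) (ha0 : a ≠ 0) (e : ℕ)
    (p : Ideal (MvPolynomial (Fin e) A)) [p.IsPrime]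
    (hp : maximalIdeal A ≤ p.under A)
    (hint : Algebra.IsIntegral A (MvPolynomial (Fin e) A ⧸ p))
    (g : MvPolynomial (Fin e) A) (hg : g ≠ 0) :
    ∃ r : Ideal (MvPolynomial (Fin e) A), r.IsPrime ∧ r ≤ p ∧ r.under A = ⊥ ∧ g ∉ r ∧
      Algebra.IsIntegral A (MvPolynomial (Fin e) A ⧸ r) := by
  classical
  let K := FractionRing A
  let L := AlgebraicClosure K
  have hinjL : Function.Injective (algebraMap A L) := by
    rw [IsScalarTower.algebraMap_eq A K L]
    exact (algebraMap K L).injective.comp (IsFractionRing.injective A K)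
  let Ω := integralClosure A L
  have hinjΩ : Function.Injective (algebraMap A Ω) := by
    intro x y h
    apply hinjL
    have := congrArg (Subtype.val) h
    exact this
  haveI : FaithfulSMul A Ω := (faithfulSMul_iff_algebraMap_injective A Ω).mpr hinjΩ
  -- the maximal ideal
  have hprime : (p.under A).IsPrime := Ideal.IsPrime.under A p
  have hm' : p.under A = maximalIdeal A :=
    le_antisymm (IsLocalRing.le_maximalIdeal hprime.ne_top) hp
  haveI hmax : (p.under A).IsMaximal := hm' ▸ IsLocalRing.maximalIdeal.isMaximal A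
  obtain ⟨𝔓, h𝔓max, h𝔓over⟩ := Ideal.exists_maximal_ideal_liesOver_of_isIntegral (S := Ω) (p.under A)
  haveI := h𝔓max
  haveI := h𝔓over
  letI : Field (A ⧸ p.under A) := Ideal.Quotient.field _
  letI : Field (Ω ⧸ 𝔓) := Ideal.Quotient.field 𝔓
  haveI : IsAlgClosed (Ω ⧸ 𝔓) := isAlgClosed_quot 𝔓
  haveI : Algebra.IsIntegral (A ⧸ p.under A) (MvPolynomial (Fin e) A ⧸ p) :=
    ⟨fun x => (hint.isIntegral x).tower_top⟩
  have hfield : IsField (MvPolynomial (Fin e) A ⧸ p) :=
    isField_of_isIntegral_of_isField' (R := A ⧸ p.under A) (Field.toIsField _)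
  haveI hpmax : p.IsMaximal := Ideal.Quotient.maximal_of_isField p hfield
  let ι : (MvPolynomial (Fin e) A ⧸ p) →ₐ[A ⧸ p.under A] (Ω ⧸ 𝔓) := IsAlgClosed.lift
  choose ω0 hω0 using fun i : Fin e =>
    Ideal.Quotient.mk_surjective (I := 𝔓) (ι (Ideal.Quotient.mk p (MvPolynomial.X i)))
  -- the box
  have ha𝔓 : algebraMap A Ω a ∈ 𝔓 := by
    have : a ∈ 𝔓.under A := by rw [← h𝔓over.over, hm']; exact ha
    exact this
  have hanu : ¬ IsUnit (algebraMap A Ω a) := fun hu =>
    h𝔓max.ne_top (Ideal.eq_top_of_isUnit_mem _ ha𝔓 hu)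
  have ha0' : algebraMap A Ω a ≠ 0 := fun h => ha0 (hinjΩ (by rw [h, map_zero]))
  let sbox : Fin e → Set Ω := fun i => {w | w - ω0 i ∈ 𝔓}
  have hsbox : ∀ i, (sbox i).Infinite := by
    intro i
    have hinj : Function.Injective (fun n : ℕ => ω0 i + (algebraMap A Ω a) ^ (n + 1)) := by
      intro m n h
      have h1 : (algebraMap A Ω a) ^ (m + 1) = (algebraMap A Ω a) ^ (n + 1) := add_left_cancel h
      have := pow_injective_of_not_isUnit hanu ha0' h1
      omega
    refine Set.infinite_of_injective_forall_mem hinj (fun n => ?_)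
    show ω0 i + (algebraMap A Ω a) ^ (n + 1) - ω0 i ∈ 𝔓
    rw [add_sub_cancel_left]
    exact Ideal.pow_mem_of_mem _ ha𝔓 _ (Nat.succ_pos n)
  have hgΩ : MvPolynomial.map (algebraMap A Ω) g ≠ 0 := by
    intro h
    exact hg (MvPolynomial.map_injective _ hinjΩ (by rw [h, map_zero]))
  obtain ⟨x, hxbox, hx⟩ : ∃ x ∈ Set.pi Set.univ sbox,
      MvPolynomial.eval x (MvPolynomial.map (algebraMap A Ω) g) ≠ 0 := by
    by_contra hcon
    simp only [not_exists, not_and, not_not] at hcon
    exact hgΩ (MvPolynomial.funext_set sbox hsbox (fun x hx => by rw [hcon x hx, map_zero]))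
  let ψ : MvPolynomial (Fin e) A →ₐ[A] Ω := MvPolynomial.aeval x
  have hkey : (Ideal.Quotient.mk 𝔓).comp (ψ : MvPolynomial (Fin e) A →+* Ω) =
      (ι : (MvPolynomial (Fin e) A ⧸ p) →+* (Ω ⧸ 𝔓)).comp (Ideal.Quotient.mk p) := by
    refine MvPolynomial.ringHom_ext (fun c => ?_) (fun i => ?_)
    · have h1 := (ι.restrictScalars A).commutes c
      simp only [RingHom.comp_apply, RingHom.coe_coe]
      rw [show ψ (MvPolynomial.C c) = algebraMap A Ω c from by
        simp [ψ, MvPolynomial.algebraMap_eq]]
      exact h1.symm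
    · simp only [RingHom.comp_apply, RingHom.coe_coe]
      rw [show ψ (MvPolynomial.X i) = x i from by simp [ψ], ← hω0 i]
      exact (Ideal.Quotient.eq.mpr (hxbox i (Set.mem_univ i)))
  have hcomap : Ideal.comap (ψ : MvPolynomial (Fin e) A →+* Ω) 𝔓 = p := by
    symm
    refine hpmax.eq_of_le (Ideal.comap_ne_top _ h𝔓max.ne_top) (fun F hF => ?_)
    rw [Ideal.mem_comap, ← Ideal.Quotient.eq_zero_iff_mem]
    have := congrArg (fun φ => φ F) hkey
    simp only [RingHom.comp_apply] at this
    rw [this, Ideal.Quotient.eq_zero_iff_mem.mpr hF, map_zero]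
  refine ⟨RingHom.ker (ψ : MvPolynomial (Fin e) A →+* Ω), RingHom.ker_isPrime _, ?_, ?_, ?_, ?_⟩
  · rw [← hcomap]
    intro F hF
    rw [Ideal.mem_comap, (RingHom.mem_ker).mp hF]
    exact Ideal.zero_mem _
  · rw [eq_bot_iff]
    intro c hc
    have h1 : ψ (algebraMap A _ c) = 0 := hc
    rw [AlgHom.commutes] at h1
    exact (Ideal.mem_bot).mpr (hinjΩ (by rw [h1, map_zero]))
  · intro hgr
    apply hx
    have h1 : ψ g = 0 := hgr
    rw [MvPolynomial.eval_map]
    exact h1
  · exact Algebra.IsIntegral.of_injective (Ideal.kerLiftAlg ψ) (Ideal.kerLiftAlg_injective ψ)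

end Groth.Agent.Helper3.ClFib
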