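import Mathlib
import Groth.Prelude

set_option autoImplicit false
set_option linter.style.haveILetI false
set_option linter.unusedSectionVars false
set_option linter.unusedVariables false
set_option linter.deprecated false
set_option linter.style.haveILetI false
set_option linter.unusedSectionVars false
set_option linter.unusedVariables false

universe u

open IsLocalRing

namespace Groth.Agent.Helper3.ClFib

/-- In a valuation ring, a nonempty finite family has a member dividing all the others. -/
theorem exists_dvd_all {V : Type u} [CommRing V] [IsDomain V] [ValuationRing V] {ι : Type*}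
    (S : Finset ι) (hS : S.Nonempty) (f : ι → V) : ∃ i₀ ∈ S, ∀ i ∈ S, f i₀ ∣ f i := by
  classical
  induction hS using Finset.Nonempty.cons_induction with
  | singleton a => exact ⟨a, Finset.mem_singleton_self a, fun i hi => by
      rw [Finset.mem_singleton.mp hi]⟩
  | cons a s ha hs ih =>
    obtain ⟨i₀, hi₀, h⟩ := ih
    rcases ValuationRing.dvd_total (f a) (f i₀) with h1 | h1
    · refine ⟨a, Finset.mem_cons_self a s, fun i hi => ?_⟩
      rcases Finset.mem_cons.mp hi with rfl | hi
      · exact dvd_rfl
      · exact h1.trans (h i hi)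
    · refine ⟨i₀, Finset.mem_cons.mpr (Or.inr hi₀), fun i hi => ?_⟩
      rcases Finset.mem_cons.mp hi with rfl | hi
      · exact h1
      · exact h i hi

/-- Over a valuation ring, a nonzero polynomial is a nonzero constant times a polynomial with a
coefficient equal to one. -/
theorem exists_primitive {V : Type u} [CommRing V] [IsDomain V] [ValuationRing V] {σ : Type*}
    (F : MvPolynomial σ V) (hF : F ≠ 0) :
    ∃ (c : V) (F' : MvPolynomial σ V), c ≠ 0 ∧ F = MvPolynomial.C c * F' ∧
      ∃ n, MvPolynomial.coeff n F' = 1 := by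
  classical
  have hne : F.support.Nonempty := by
    rwa [Finset.nonempty_iff_ne_empty, Ne, MvPolynomial.support_eq_empty]
  obtain ⟨n₀, hn₀, hdvd⟩ := exists_dvd_all F.support hne (fun n => MvPolynomial.coeff n F)
  have hc0 : MvPolynomial.coeff n₀ F ≠ 0 := MvPolynomial.mem_support_iff.mp hn₀
  have hd : ∀ n, ∃ d : V, MvPolynomial.coeff n F = MvPolynomial.coeff n₀ F * d := by
    intro n
    by_cases hn : n ∈ F.support
    · exact hdvd n hn
    · exact ⟨0, by rw [MvPolynomial.notMem_support_iff.mp hn, mul_zero]⟩
  choose d hd using hd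
  refine ⟨MvPolynomial.coeff n₀ F, ∑ n ∈ F.support, MvPolynomial.monomial n (d n), hc0, ?_, n₀, ?_⟩
  · rw [Finset.mul_sum]
    conv_lhs => rw [MvPolynomial.as_sum F]
    refine Finset.sum_congr rfl (fun n _ => ?_)
    rw [MvPolynomial.C_mul_monomial, ← hd n]
  · rw [MvPolynomial.coeff_sum]
    rw [Finset.sum_eq_single n₀]
    · rw [MvPolynomial.coeff_monomial, if_pos rfl]
      have := hd n₀
      exact (mul_left_cancel₀ hc0 (by rw [← this, mul_one])).symm
    · intro n _ hn
      rw [MvPolynomial.coeff_monomial, if_neg hn]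
    · intro h
      exact absurd hn₀ h

/-- Over a valuation ring, algebraic independence modulo the maximal ideal lifts. -/
theorem injective_aeval_of_mod {V B : Type u} [CommRing V] [IsDomain V] [ValuationRing V]
    [CommRing B] [IsDomain B] [Algebra V B] (hinj : Function.Injective (algebraMap V B))
    {e : ℕ} (t : Fin e → B) (I : Ideal B)
    (h : ∀ F : MvPolynomial (Fin e) V, MvPolynomial.aeval t F ∈ I →
      MvPolynomial.map (Ideal.Quotient.mk (maximalIdeal V)) F = 0) :
    Function.Injective (MvPolynomial.aeval t : MvPolynomial (Fin e) V →ₐ[V] B) := by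
  rw [injective_iff_map_eq_zero]
  intro F hF
  by_contra hF0
  obtain ⟨c, F', hc, hFF', n, hn⟩ := exists_primitive F hF0
  rw [hFF', map_mul, MvPolynomial.aeval_C] at hF
  have hc' : algebraMap V B c ≠ 0 := fun h0 => hc (hinj (by rw [h0, map_zero]))
  have hF' : MvPolynomial.aeval t F' = 0 := (mul_eq_zero.mp hF).resolve_left hc'
  have h1 := h F' (by rw [hF']; exact I.zero_mem)
  have h2 := congrArg (MvPolynomial.coeff n) h1
  rw [MvPolynomial.coeff_map, hn, map_one, MvPolynomial.coeff_zero] at h2
  exact one_ne_zero h2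

open scoped TensorProduct in
/-- If `B` is generated as a module by finitely many elements modulo `J B`, for an ideal `J`
contained in the contraction of the prime `q`, then `B` is quasi-finite at `q`. -/
theorem quasiFiniteAt_of_span {R B : Type u} [CommRing R] [CommRing B] [Algebra R B]
    [Algebra.FiniteType R B] (q : Ideal B) [q.IsPrime] (J : Ideal R) (hJ : J ≤ q.under R)
    (n : ℕ) (β : Fin n → B)
    (hs : ∀ b : B, ∃ c : Fin n → R, b - ∑ j, c j • β j ∈ J.map (algebraMap R B)) :
    Algebra.QuasiFiniteAt R q := by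
  classical
  let p : Ideal R := q.under R
  haveI : p.IsPrime := Ideal.IsPrime.under R q
  haveI : q.LiesOver p := ⟨rfl⟩
  -- elements of `J B` die in the fibre
  have hzero : ∀ y ∈ J.map (algebraMap R B), (1 : p.ResidueField) ⊗ₜ[R] y = 0 := by
    intro y hy
    refine Submodule.span_induction (p := fun y _ => (1 : p.ResidueField) ⊗ₜ[R] y = 0)
      ?_ ?_ ?_ ?_ hy
    · rintro _ ⟨a, ha, rfl⟩
      rw [Algebra.algebraMap_eq_smul_one, ← TensorProduct.smul_tmul, Algebra.smul_def, mul_one,
        (Ideal.algebraMap_residueField_eq_zero).mpr (hJ ha), TensorProduct.zero_tmul]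
    · exact TensorProduct.tmul_zero _ _
    · intro x y _ _ hx hy
      rw [TensorProduct.tmul_add, hx, hy, add_zero]
    · intro c x _ hx
      have : (1 : p.ResidueField) ⊗ₜ[R] (c • x) =
          ((1 : p.ResidueField) ⊗ₜ[R] c) * ((1 : p.ResidueField) ⊗ₜ[R] x) := by
        rw [Algebra.TensorProduct.tmul_mul_tmul, one_mul, smul_eq_mul]
      rw [this, hx, mul_zero]
  have hspan : ∀ b : B, (1 : p.ResidueField) ⊗ₜ[R] b ∈
      Submodule.span p.ResidueField (Set.range (fun j : Fin n => (1 : p.ResidueField) ⊗ₜ[R] β j)) := by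
    intro b
    obtain ⟨c, hc⟩ := hs b
    have h0 := hzero _ hc
    rw [TensorProduct.tmul_sub, sub_eq_zero] at h0
    rw [h0, TensorProduct.tmul_sum]
    refine Submodule.sum_mem _ (fun j hj => ?_)
    have : (1 : p.ResidueField) ⊗ₜ[R] (c j • β j) =
        (algebraMap R p.ResidueField (c j)) • ((1 : p.ResidueField) ⊗ₜ[R] β j) := by
      rw [TensorProduct.tmul_smul, TensorProduct.smul_tmul', TensorProduct.smul_tmul',
        Algebra.smul_def, mul_one, smul_eq_mul, mul_one]
    rw [this]
    exact Submodule.smul_mem _ _ (Submodule.subset_span ⟨j, rfl⟩)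
  haveI : Module.Finite p.ResidueField (p.Fiber B) := by
    refine ⟨⟨Finset.univ.image (fun j : Fin n => (1 : p.ResidueField) ⊗ₜ[R] β j), ?_⟩⟩
    rw [Finset.coe_image, Finset.coe_univ, Set.image_univ, eq_top_iff]
    intro x _
    obtain ⟨r, hr, b, hb⟩ := Ideal.Fiber.exists_smul_eq_one_tmul p x
    have hru : algebraMap R p.ResidueField r ≠ 0 := by
      rwa [Ne, Ideal.algebraMap_residueField_eq_zero]
    have hx : x = (algebraMap R p.ResidueField r)⁻¹ • ((1 : p.ResidueField) ⊗ₜ[R] b) := by
      rw [← hb, ← algebraMap_smul p.ResidueField r x, smul_smul, inv_mul_cancel₀ hru, one_smul]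
    rw [hx]
    exact Submodule.smul_mem _ _ (hspan b)
  obtain ⟨Q, hQ⟩ := (PrimeSpectrum.preimageEquivFiber R B ⟨p, inferInstance⟩).symm.surjective
    ⟨⟨q, inferInstance⟩, rfl⟩
  exact Algebra.QuasiFiniteAt.of_quasiFiniteAt_residueField p q Q.asIdeal
    congr($(hQ).1.asIdeal)

/-- Polynomial rings in finitely many variables over an integrally closed domain are
integrally closed. -/
theorem isIntegrallyClosed_mvPolynomial (V : Type u) [CommRing V] [IsDomain V]
    [IsIntegrallyClosed V] (e : ℕ) : IsIntegrallyClosed (MvPolynomial (Fin e) V) := by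
  induction e with
  | zero => exact IsIntegrallyClosed.of_equiv (MvPolynomial.isEmptyRingEquiv V (Fin 0)).symm
  | succ e ih =>
    haveI := ih
    exact IsIntegrallyClosed.of_equiv (MvPolynomial.finSuccEquiv V e).symm.toRingEquiv

end Groth.Agent.Helper3.ClFib
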