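import Mathlib
import Groth.Prelude
import Groth.Agent.Helper3.ClFibA
import Groth.Agent.Helper3.ClFibB

set_option autoImplicit false
set_option linter.style.haveILetI false
set_option linter.unusedSectionVars false
set_option linter.unusedVariables false
set_option linter.deprecated false
set_option linter.style.haveILetI false
set_option linter.unusedSectionVars false
set_option linter.unusedVariables false

universe u

open IsLocalRing

namespace Groth.Agent.Helper3.ClFib

/-- Noether normalisation of the special fibre, lifted. -/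
theorem exists_quasiFinite_polynomial {V B : Type u} [CommRing V] [IsDomain V] [ValuationRing V]
    [CommRing B] [IsDomain B] [Algebra V B] [Algebra.FiniteType V B]
    (hinj : Function.Injective (algebraMap V B)) (q' : Ideal B) [q'.IsPrime]
    (hq' : maximalIdeal V ≤ q'.under V) :
    ∃ (e : ℕ) (φ : MvPolynomial (Fin e) V →ₐ[V] B), Function.Injective φ ∧
      @Algebra.QuasiFiniteAt (MvPolynomial (Fin e) V) B _ _ φ.toRingHom.toAlgebra q' _ := by
  classical
  letI : Field (V ⧸ maximalIdeal V) := Ideal.Quotient.field _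
  let I : Ideal B := (maximalIdeal V).map (algebraMap V B)
  have hIq : I ≤ q' := Ideal.map_le_iff_le_comap.mpr hq'
  haveI : Nontrivial (B ⧸ I) :=
    Ideal.Quotient.nontrivial_iff.mpr (fun h => (Ideal.IsPrime.ne_top ‹_›) (top_le_iff.mp (h ▸ hIq)))
  haveI : Algebra.FiniteType V (B ⧸ I) :=
    Algebra.FiniteType.of_surjective (Ideal.Quotient.mkₐ V I) Ideal.Quotient.mk_surjective
  haveI : Algebra.FiniteType (V ⧸ maximalIdeal V) (B ⧸ I) :=
    Algebra.FiniteType.of_restrictScalars_finiteType V _ _
  obtain ⟨e, g, hginj, hgfin⟩ := exists_finite_inj_algHom_of_fg (V ⧸ maximalIdeal V) (B ⧸ I)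
  choose t ht using fun i : Fin e => Ideal.Quotient.mk_surjective (I := I) (g (MvPolynomial.X i))
  let φ : MvPolynomial (Fin e) V →ₐ[V] B := MvPolynomial.aeval t
  have hcompat : ∀ F : MvPolynomial (Fin e) V, Ideal.Quotient.mk I (φ F) =
      g (MvPolynomial.map (Ideal.Quotient.mk (maximalIdeal V)) F) := by
    have : (Ideal.Quotient.mk I).comp (φ : MvPolynomial (Fin e) V →+* B) =
        (g : MvPolynomial (Fin e) (V ⧸ maximalIdeal V) →+* (B ⧸ I)).comp
          (MvPolynomial.map (Ideal.Quotient.mk (maximalIdeal V))) := by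
      refine MvPolynomial.ringHom_ext (fun c => ?_) (fun i => ?_)
      · simp only [RingHom.comp_apply, RingHom.coe_coe, MvPolynomial.map_C]
        rw [show φ (MvPolynomial.C c) = algebraMap V B c from by simp [φ],
          show (MvPolynomial.C (Ideal.Quotient.mk (maximalIdeal V) c) :
            MvPolynomial (Fin e) (V ⧸ maximalIdeal V)) =
            algebraMap (V ⧸ maximalIdeal V) _ (Ideal.Quotient.mk (maximalIdeal V) c) from rfl,
          AlgHom.commutes]
        rfl
      · simp only [RingHom.comp_apply, RingHom.coe_coe, MvPolynomial.map_X]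
        rw [show φ (MvPolynomial.X i) = t i from by simp [φ], ht]
    intro F
    exact congrArg (fun ψ => ψ F) this
  have hφinj : Function.Injective φ :=
    injective_aeval_of_mod hinj t I (fun F hF => hginj (by
      rw [← hcompat, Ideal.Quotient.eq_zero_iff_mem.mpr hF, map_zero]))
  refine ⟨e, φ, hφinj, ?_⟩
  letI algT : Algebra (MvPolynomial (Fin e) V) B := φ.toRingHom.toAlgebra
  haveI : IsScalarTower V (MvPolynomial (Fin e) V) B :=
    IsScalarTower.of_algebraMap_eq (fun c => (φ.commutes c).symm)
  haveI : Algebra.FiniteType (MvPolynomial (Fin e) V) B :=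
    Algebra.FiniteType.of_restrictScalars_finiteType V _ _
  -- generators of the special fibre
  letI algk : Algebra (MvPolynomial (Fin e) (V ⧸ maximalIdeal V)) (B ⧸ I) := g.toRingHom.toAlgebra
  haveI : Module.Finite (MvPolynomial (Fin e) (V ⧸ maximalIdeal V)) (B ⧸ I) := hgfin
  obtain ⟨n, βbar, hβbar⟩ := Module.Finite.exists_fin
    (R := MvPolynomial (Fin e) (V ⧸ maximalIdeal V)) (M := B ⧸ I)
  choose β hβ using fun j : Fin n => Ideal.Quotient.mk_surjective (I := I) (βbar j)
  have hJI : ((maximalIdeal V).map (algebraMap V (MvPolynomial (Fin e) V))).map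
      (algebraMap (MvPolynomial (Fin e) V) B) = I := by
    rw [Ideal.map_map, ← IsScalarTower.algebraMap_eq]
  refine quasiFiniteAt_of_span q' ((maximalIdeal V).map (algebraMap V (MvPolynomial (Fin e) V)))
    ?_ n β (fun b => ?_)
  · rw [Ideal.map_le_iff_le_comap]
    intro c hc
    have := hq' hc
    rw [Ideal.mem_comap, Ideal.mem_comap, ← IsScalarTower.algebraMap_apply]
    exact this
  · have hb : Ideal.Quotient.mk I b ∈ Submodule.span (MvPolynomial (Fin e) (V ⧸ maximalIdeal V))
        (Set.range βbar) := by rw [hβbar]; trivial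
    obtain ⟨cbar, hcbar⟩ := (Submodule.mem_span_range_iff_exists_fun _).mp hb
    choose c hc using fun j : Fin n => MvPolynomial.map_surjective
      (Ideal.Quotient.mk (maximalIdeal V)) Ideal.Quotient.mk_surjective (cbar j)
    refine ⟨c, ?_⟩
    rw [hJI, ← Ideal.Quotient.eq_zero_iff_mem, map_sub, map_sum, sub_eq_zero, ← hcbar]
    refine Finset.sum_congr rfl (fun j _ => ?_)
    rw [Algebra.smul_def, Algebra.smul_def, map_mul, hβ j]
    congr 1
    rw [← hc j]
    exact (hcompat (c j)).symm

/-- Transfer of a prime of the integral closure along the Zariski main theorem isomorphism. -/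
theorem exists_prime_of_awayMap_bijective {R B : Type u} [CommRing R] [CommRing B] [Algebra R B]
    (r₀ : integralClosure R B)
    (hbij : Function.Bijective (Localization.awayMap (integralClosure R B).val.toRingHom r₀))
    (Q₁ : Ideal (integralClosure R B)) [Q₁.IsPrime] (hr : r₀ ∉ Q₁) :
    ∃ q₁ : Ideal B, q₁.IsPrime ∧ q₁.comap (integralClosure R B).val.toRingHom = Q₁ := by
  let B₀ := integralClosure R B
  let ψ := Localization.awayMap B₀.val.toRingHom r₀
  have hdisj : Disjoint (Submonoid.powers r₀ : Set B₀) (Q₁ : Set B₀) := by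
    rw [Set.disjoint_left]
    rintro _ ⟨m, rfl⟩ hm
    exact hr (Ideal.IsPrime.mem_of_pow_mem ‹_› m hm)
  let J : Ideal (Localization.Away r₀) := Ideal.map (algebraMap B₀ (Localization.Away r₀)) Q₁
  have hJprime : J.IsPrime :=
    IsLocalization.isPrime_of_isPrime_disjoint (Submonoid.powers r₀) _ Q₁ ‹_› hdisj
  have hJcomap : J.comap (algebraMap B₀ (Localization.Away r₀)) = Q₁ :=
    IsLocalization.comap_map_of_isPrime_disjoint (Submonoid.powers r₀) _ ‹_› hdisj
  let eqv : Localization.Away r₀ ≃+* Localization.Away (B₀.val.toRingHom r₀) :=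
    RingEquiv.ofBijective ψ hbij
  let JB : Ideal (Localization.Away (B₀.val.toRingHom r₀)) :=
    J.comap (eqv.symm : Localization.Away (B₀.val.toRingHom r₀) →+* Localization.Away r₀)
  haveI : JB.IsPrime := Ideal.comap_isPrime _ _
  refine ⟨JB.comap (algebraMap B (Localization.Away (B₀.val.toRingHom r₀))),
    Ideal.comap_isPrime _ _, ?_⟩
  rw [← hJcomap]
  simp only [JB, Ideal.comap_comap]
  congr 1
  ext y
  simp only [RingHom.comp_apply]
  have h1 : ψ (algebraMap B₀ (Localization.Away r₀) y) =
      algebraMap B (Localization.Away (B₀.val.toRingHom r₀)) (B₀.val.toRingHom y) := by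
    exact IsLocalization.map_eq _ _
  rw [← h1]
  exact eqv.symm_apply_apply _

end Groth.Agent.Helper3.ClFib
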