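import Mathlib
import Groth.Prelude
import Groth.Agent.Helper3.ClFibC

set_option autoImplicit false
set_option linter.style.haveILetI false
set_option linter.unusedSectionVars false
set_option linter.unusedVariables false
set_option linter.deprecated false
set_option linter.style.haveILetI false
set_option linter.unusedSectionVars false
set_option linter.unusedVariables false

universe u

open IsLocalRing

namespace Groth.Agent.Helper3.ClFib

/-- The valuation ring case. -/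
theorem exists_prime_valuationRing {V B : Type u} [CommRing V] [IsDomain V] [ValuationRing V]
    [CommRing B] [IsDomain B] [Algebra V B] [Algebra.FiniteType V B]
    (hinj : Function.Injective (algebraMap V B)) (a : V) (ha : a ∈ maximalIdeal V) (ha0 : a ≠ 0)
    (q' : Ideal B) [q'.IsPrime] (hq' : maximalIdeal V ≤ q'.under V)
    (hint : Algebra.IsIntegral V (B ⧸ q')) (g : B) (hg : g ≠ 0) :
    ∃ q₁ : Ideal B, q₁.IsPrime ∧ q₁ ≤ q' ∧ q₁.under V = ⊥ ∧ g ∉ q₁ ∧
      Algebra.IsAlgebraic V (B ⧸ q₁) := by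
  classical
  obtain ⟨e, φ, hφ, hqf⟩ := exists_quasiFinite_polynomial hinj q' hq'
  letI algT : Algebra (MvPolynomial (Fin e) V) B := φ.toRingHom.toAlgebra
  haveI : IsScalarTower V (MvPolynomial (Fin e) V) B :=
    IsScalarTower.of_algebraMap_eq (fun c => (φ.commutes c).symm)
  haveI : Algebra.FiniteType (MvPolynomial (Fin e) V) B :=
    Algebra.FiniteType.of_restrictScalars_finiteType V _ _
  haveI : Algebra.QuasiFiniteAt (MvPolynomial (Fin e) V) q' := hqf
  obtain ⟨r₀, hr₀q, hbij⟩ := Algebra.ZariskisMainProperty.of_finiteType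
    (R := MvPolynomial (Fin e) V) q'
  have hsurj := Localization.awayMap_surjective_iff.mp hbij.2
  let B₀ := integralClosure (MvPolynomial (Fin e) V) B
  haveI : FaithfulSMul (MvPolynomial (Fin e) V) B₀ := by
    rw [faithfulSMul_iff_algebraMap_injective]
    intro x y h
    exact hφ (congrArg Subtype.val h)
  haveI : IsIntegrallyClosed (MvPolynomial (Fin e) V) := isIntegrallyClosed_mvPolynomial V e
  haveI : Algebra.HasGoingDown (MvPolynomial (Fin e) V) B₀ := inferInstance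
  let p : Ideal (MvPolynomial (Fin e) V) := q'.under (MvPolynomial (Fin e) V)
  haveI : p.IsPrime := Ideal.IsPrime.under _ q'
  have hp : maximalIdeal V ≤ p.under V := by
    rw [Ideal.under_under]; exact hq'
  have hintp : Algebra.IsIntegral V (MvPolynomial (Fin e) V ⧸ p) := by
    let f : (MvPolynomial (Fin e) V ⧸ p) →ₐ[V] (B ⧸ q') :=
      Ideal.quotientMapₐ q' (IsScalarTower.toAlgHom V (MvPolynomial (Fin e) V) B) le_rfl
    exact Algebra.IsIntegral.of_injective f (Ideal.quotientMap_injective)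
  -- the element to avoid
  obtain ⟨bg, N, hbg⟩ := hsurj g
  have hr0 : (r₀ : B) ≠ 0 := fun h => hr₀q (h ▸ q'.zero_mem)
  have hb₀ : r₀ * bg ≠ 0 := by
    intro h
    have h1 : (r₀ : B) * (bg : B) = 0 := congrArg Subtype.val h
    have h2 : (bg : B) = (r₀ : B) ^ N * g := hbg
    rw [h2] at h1
    rcases mul_eq_zero.mp h1 with h3 | h3
    · exact hr0 h3
    · rcases mul_eq_zero.mp h3 with h4 | h4
      · exact hr0 (pow_eq_zero_iff (n := N) (by
          intro hN; subst hN; simp at h4) |>.mp h4)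
      · exact hg h4
  have hne : (Ideal.span {r₀ * bg}).comap (algebraMap (MvPolynomial (Fin e) V) B₀) ≠ ⊥ :=
    Ideal.comap_ne_bot_of_integral_mem hb₀ (Ideal.mem_span_singleton_self _)
      (integralClosure.isIntegral _)
  obtain ⟨c, hc, hc0⟩ := Submodule.exists_mem_ne_zero_of_ne_bot hne
  obtain ⟨rA, hrAprime, hrAp, hrAV, hcrA, hrAint⟩ :=
    exists_prime_mvPolynomial a ha ha0 e p hp hintp c hc0
  haveI := hrAprime
  -- going down
  let Q' : Ideal B₀ := q'.under B₀
  haveI : Q'.IsPrime := Ideal.IsPrime.under _ q'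
  haveI : Q'.LiesOver p := ⟨by rw [Ideal.under_under]⟩
  obtain ⟨Q₁, hQ₁le, hQ₁prime, hQ₁over⟩ :=
    Ideal.exists_ideal_le_liesOver_of_le (p := rA) (q := p) Q' hrAp
  haveI := hQ₁prime
  have hprodQ₁ : r₀ * bg ∉ Q₁ := by
    intro h
    apply hcrA
    rw [hQ₁over.over]
    exact (Ideal.span_singleton_le_iff_mem (I := Q₁)).mpr h hc
  have hr₀Q₁ : r₀ ∉ Q₁ := fun h => hprodQ₁ (Q₁.mul_mem_right _ h)
  have hbgQ₁ : bg ∉ Q₁ := fun h => hprodQ₁ (Q₁.mul_mem_left _ h)
  obtain ⟨q₁, hq₁prime, hq₁comap⟩ := exists_prime_of_awayMap_bijective r₀ hbij Q₁ hr₀Q₁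
  haveI := hq₁prime
  have hmemQ₁ : ∀ y : B₀, (y : B) ∈ q₁ ↔ y ∈ Q₁ := by
    intro y
    rw [← hq₁comap]
    rfl
  have hq₁le : q₁ ≤ q' := by
    intro x hx
    obtain ⟨bx, m, hbx⟩ := hsurj x
    have h1 : (bx : B) ∈ q₁ := by
      rw [show (bx : B) = (r₀ : B) ^ m * x from hbx]
      exact q₁.mul_mem_left _ hx
    have h2 : bx ∈ Q' := hQ₁le ((hmemQ₁ bx).mp h1)
    have h3 : (r₀ : B) ^ m * x ∈ q' := by
      rw [← show (bx : B) = (r₀ : B) ^ m * x from hbx]
      exact h2
    rcases Ideal.IsPrime.mem_or_mem ‹q'.IsPrime› h3 with h4 | h4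
    · exact absurd (Ideal.IsPrime.mem_of_pow_mem ‹q'.IsPrime› m h4) hr₀q
    · exact h4
  have hq₁V : q₁.under V = ⊥ := by
    rw [eq_bot_iff]
    intro x hx
    rw [← hrAV]
    show algebraMap V (MvPolynomial (Fin e) V) x ∈ rA
    rw [hQ₁over.over]
    show algebraMap (MvPolynomial (Fin e) V) B₀ (algebraMap V (MvPolynomial (Fin e) V) x) ∈ Q₁
    rw [← hmemQ₁]
    have : algebraMap V B x ∈ q₁ := hx
    rw [IsScalarTower.algebraMap_apply V (MvPolynomial (Fin e) V) B] at this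
    exact this
  have hgq₁ : g ∉ q₁ := by
    intro h
    apply hbgQ₁
    rw [← hmemQ₁, show (bg : B) = (r₀ : B) ^ N * g from hbg]
    exact q₁.mul_mem_left _ h
  refine ⟨q₁, hq₁prime, hq₁le, hq₁V, hgq₁, ?_⟩
  haveI : q₁.LiesOver rA := ⟨by
    rw [hQ₁over.over]
    ext x
    rw [Ideal.mem_comap, Ideal.mem_comap, ← hmemQ₁]
    rfl⟩
  haveI := hrAint
  have hintB₀ : ∀ y : B₀, IsIntegral V (Ideal.Quotient.mk q₁ (y : B)) := by
    intro y
    have h1 : IsIntegral (MvPolynomial (Fin e) V) (y : B) := y.2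
    have h2 : IsIntegral (MvPolynomial (Fin e) V) (Ideal.Quotient.mk q₁ (y : B)) :=
      h1.map (Ideal.Quotient.mkₐ (MvPolynomial (Fin e) V) q₁)
    have h3 : IsIntegral (MvPolynomial (Fin e) V ⧸ rA) (Ideal.Quotient.mk q₁ (y : B)) :=
      h2.tower_top
    exact isIntegral_trans _ h3
  refine ⟨fun z => ?_⟩
  obtain ⟨x, rfl⟩ := Ideal.Quotient.mk_surjective z
  obtain ⟨bx, m, hbx⟩ := hsurj x
  have hrne : Ideal.Quotient.mk q₁ (r₀ : B) ≠ 0 := by
    rw [Ne, Ideal.Quotient.eq_zero_iff_mem, hmemQ₁]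
    exact hr₀Q₁
  have hy : (Ideal.Quotient.mk q₁ (r₀ : B)) ^ m ∈ nonZeroDivisors (B ⧸ q₁) :=
    mem_nonZeroDivisors_of_ne_zero (pow_ne_zero m hrne)
  refine IsAlgebraic.of_mul hy ((hintB₀ r₀).pow m).isAlgebraic ?_
  have : (Ideal.Quotient.mk q₁ (r₀ : B)) ^ m * Ideal.Quotient.mk q₁ x =
      Ideal.Quotient.mk q₁ (bx : B) := by
    rw [show (bx : B) = (r₀ : B) ^ m * x from hbx, map_mul, map_pow]
  rw [this]
  exact (hintB₀ bx).isAlgebraic

end Groth.Agent.Helper3.ClFib
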