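import Mathlib
import Groth.Prelude
import Groth.Agent.Helper3.ClFibD

set_option autoImplicit false
set_option linter.style.haveILetI false
set_option linter.unusedSectionVars false
set_option linter.unusedVariables false
set_option linter.deprecated false
set_option linter.style.haveILetI false
set_option linter.unusedSectionVars false
set_option linter.unusedVariables false

universe u

open IsLocalRing

namespace Groth.Agent.Helper3.ClFib

/-- A valuation ring of the fraction field dominating the local ring of a domain at a prime. -/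
theorem exists_valuationSubring_dominating {B : Type u} [CommRing B] [IsDomain B]
    (q' : Ideal B) [q'.IsPrime] :
    ∃ 𝒱 : ValuationSubring (FractionRing B),
      (∀ b : B, algebraMap B (FractionRing B) b ∈ 𝒱) ∧
      ∀ b : B, (𝒱.valuation (algebraMap B (FractionRing B) b) < 1 ↔ b ∈ q') := by
  let L := FractionRing B
  let C := Localization.AtPrime q'
  have hunits : ∀ y : q'.primeCompl, IsUnit (algebraMap B L y) := by
    intro y
    refine IsUnit.mk0 _ ?_
    intro h
    have h0 : (y : B) = 0 := (IsFractionRing.injective B L) (by rw [h, map_zero])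
    exact y.2 (h0 ▸ q'.zero_mem)
  let f : C →+* L := IsLocalization.lift (M := q'.primeCompl) (g := algebraMap B L) hunits
  have hf : ∀ b : B, f (algebraMap B C b) = algebraMap B L b := fun b =>
    IsLocalization.lift_eq _ _
  obtain ⟨𝒱, h𝒱, hloc⟩ := IsLocalRing.exists_factor_valuationRing f
  have hmem : ∀ b : B, algebraMap B L b ∈ 𝒱 := fun b => hf b ▸ h𝒱 _
  refine ⟨𝒱, hmem, fun b => ?_⟩
  have hiff : 𝒱.valuation (algebraMap B L b) < 1 ↔
      (⟨algebraMap B L b, hmem b⟩ : 𝒱) ∈ maximalIdeal 𝒱 :=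
    (𝒱.valuation_lt_one_iff ⟨algebraMap B L b, hmem b⟩).symm
  rw [hiff, mem_maximalIdeal, mem_nonunits_iff]
  have hcod : (f.codRestrict 𝒱.toSubring h𝒱) (algebraMap B C b) =
      (⟨algebraMap B L b, hmem b⟩ : 𝒱) := Subtype.ext (hf b)
  constructor
  · intro hnu
    by_contra hb
    apply hnu
    rw [← hcod]
    exact (IsLocalization.map_units C (⟨b, hb⟩ : q'.primeCompl)).map _
  · intro hb hu
    rw [← hcod] at hu
    have := hloc.map_nonunit _ hu
    exact (IsLocalization.AtPrime.isUnit_to_map_iff C q' b).mp this hb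

/-- An element with a polynomial relation, one of whose coefficients is a unit modulo the prime,
is integral modulo the prime when the contraction is maximal. -/
theorem isIntegral_mk_of_root {R S : Type u} [CommRing R] [CommRing S] [Algebra R S]
    (q : Ideal S) [q.IsPrime] (hmax : (q.under R).IsMaximal) (s : S) (F : Polynomial R) (i : ℕ)
    (hi : algebraMap R S (F.coeff i) ∉ q) (hF : Polynomial.aeval s F ∈ q) :
    IsIntegral R (Ideal.Quotient.mk q s) := by
  haveI := hmax
  letI : Field (R ⧸ q.under R) := Ideal.Quotient.field _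
  have hroot : Polynomial.aeval (Ideal.Quotient.mk q s)
      (F.map (algebraMap R (R ⧸ q.under R))) = 0 := by
    rw [Polynomial.aeval_map_algebraMap]
    have := Polynomial.aeval_algHom_apply (Ideal.Quotient.mkₐ R q) s F
    rw [Ideal.Quotient.mkₐ_eq_mk] at this
    rw [this, Ideal.Quotient.eq_zero_iff_mem]
    exact hF
  have hne : F.map (algebraMap R (R ⧸ q.under R)) ≠ 0 := by
    intro h
    have h1 := congrArg (fun P => P.coeff i) h
    simp only [Polynomial.coeff_map, Polynomial.coeff_zero] at h1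
    rw [Ideal.Quotient.algebraMap_eq, Ideal.Quotient.eq_zero_iff_mem] at h1
    exact hi h1
  have halg : IsAlgebraic (R ⧸ q.under R) (Ideal.Quotient.mk q s) := ⟨_, hne, hroot⟩
  have hint : IsIntegral (R ⧸ q.under R) (Ideal.Quotient.mk q s) :=
    isAlgebraic_iff_isIntegral.mp halg
  haveI : Algebra.IsIntegral R (R ⧸ q.under R) :=
    Algebra.IsIntegral.of_surjective (Ideal.Quotient.mkₐ R (q.under R))
      Ideal.Quotient.mk_surjective
  exact isIntegral_trans _ hint

/-- The case of an injective finite type map of domains. -/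
theorem exists_prime_domain {A B : Type u} [CommRing A] [IsDomain A] [CommRing B] [IsDomain B]
    [Algebra A B] [Algebra.FiniteType A B] (hinj : Function.Injective (algebraMap A B))
    (q' : Ideal B) [q'.IsPrime] (a : A) (ha : algebraMap A B a ∈ q') (ha0 : a ≠ 0)
    (halg : ∀ b : B, ∃ F : Polynomial A, (∃ i, algebraMap A B (F.coeff i) ∉ q') ∧
      Polynomial.aeval b F ∈ q')
    (g : B) (hg : g ≠ 0) :
    ∃ q₁ : Ideal B, q₁.IsPrime ∧ q₁ ≤ q' ∧ q₁.under A = ⊥ ∧ g ∉ q₁ ∧
      ∀ b : B, ∃ F : Polynomial A, F ≠ 0 ∧ Polynomial.aeval b F ∈ q₁ := by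
  classical
  let L := FractionRing B
  let K := FractionRing A
  obtain ⟨𝒱, hmem, hlt⟩ := exists_valuationSubring_dominating q'
  have hinjL : Function.Injective (algebraMap A L) := by
    rw [IsScalarTower.algebraMap_eq A B L]
    exact (IsFractionRing.injective B L).comp hinj
  haveI : FaithfulSMul A L := (faithfulSMul_iff_algebraMap_injective A L).mpr hinjL
  letI : Algebra K L := FractionRing.liftAlgebra A L
  haveI : IsScalarTower A K L := FractionRing.isScalarTower_liftAlgebra A L
  let V₀ : ValuationSubring K := 𝒱.comap (algebraMap K L)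
  have hAV₀ : ∀ x : A, algebraMap A K x ∈ V₀ := by
    intro x
    rw [ValuationSubring.mem_comap, ← IsScalarTower.algebraMap_apply A K L,
      IsScalarTower.algebraMap_apply A B L]
    exact hmem _
  let j₀ : A →+* V₀ := (algebraMap A K).codRestrict V₀ hAV₀
  letI algV₀L : Algebra V₀ L := ((algebraMap K L).comp V₀.subtype).toAlgebra
  let Bf : Subalgebra V₀ L := Algebra.adjoin V₀ (Set.range (algebraMap B L))
  let ι : B →+* Bf := (algebraMap B L).codRestrict Bf (fun b => Algebra.subset_adjoin ⟨b, rfl⟩)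
  have hBf𝒱 : ∀ x : Bf, (x : L) ∈ 𝒱 := by
    rintro ⟨x, hx⟩
    refine Algebra.adjoin_induction (p := fun x _ => x ∈ 𝒱) ?_ ?_ ?_ ?_ hx
    · rintro _ ⟨b, rfl⟩; exact hmem b
    · intro r; exact ValuationSubring.mem_comap.mp r.2
    · intro x y _ _ hx hy; exact 𝒱.add_mem _ _ hx hy
    · intro x y _ _ hx hy; exact 𝒱.mul_mem _ _ hx hy
  let jj : Bf →+* 𝒱 := (Bf.val : Bf →+* L).codRestrict 𝒱 hBf𝒱
  let q'' : Ideal Bf := Ideal.comap jj (maximalIdeal 𝒱)
  haveI : q''.IsPrime := Ideal.comap_isPrime _ _
  have hmemq'' : ∀ x : Bf, x ∈ q'' ↔ 𝒱.valuation (x : L) < 1 := by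
    intro x
    exact 𝒱.valuation_lt_one_iff (jj x)
  have hιq' : ∀ b : B, ι b ∈ q'' ↔ b ∈ q' := fun b => (hmemq'' (ι b)).trans (hlt b)
  have hιj₀ : ∀ x : A, ι (algebraMap A B x) = algebraMap V₀ Bf (j₀ x) := by
    intro x
    apply Subtype.ext
    show algebraMap B L (algebraMap A B x) = algebraMap K L (algebraMap A K x)
    rw [← IsScalarTower.algebraMap_apply, ← IsScalarTower.algebraMap_apply]
  have hj₀inj : Function.Injective j₀ := by
    intro x y h
    exact IsFractionRing.injective A K (congrArg Subtype.val h)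
  have hinjV₀ : Function.Injective (algebraMap V₀ Bf) := by
    intro x y h
    have h1 : algebraMap K L (x : K) = algebraMap K L (y : K) := congrArg Subtype.val h
    exact Subtype.ext ((algebraMap K L).injective h1)
  -- finite type
  haveI hft : Algebra.FiniteType V₀ Bf := by
    obtain ⟨s, hs⟩ := Algebra.FiniteType.out (R := A) (A := B)
    have hle : Bf ≤ Algebra.adjoin V₀ (↑(s.image (algebraMap B L)) : Set L) := by
      refine Algebra.adjoin_le ?_
      rintro _ ⟨b, rfl⟩
      have hb : b ∈ Algebra.adjoin A (s : Set B) := by rw [hs]; trivial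
      refine Algebra.adjoin_induction (p := fun b _ => algebraMap B L b ∈
        Algebra.adjoin V₀ (↑(s.image (algebraMap B L)) : Set L)) ?_ ?_ ?_ ?_ hb
      · intro x hx
        exact Algebra.subset_adjoin (Finset.mem_coe.mpr (Finset.mem_image_of_mem _ hx))
      · intro x
        have := congrArg Subtype.val (hιj₀ x)
        rw [show algebraMap B L (algebraMap A B x) = algebraMap V₀ L (j₀ x) from this]
        exact Subalgebra.algebraMap_mem _ _
      · intro x y _ _ hx hy; rw [map_add]; exact add_mem hx hy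
      · intro x y _ _ hx hy; rw [map_mul]; exact mul_mem hx hy
    have heq : Bf = Algebra.adjoin V₀ (↑(s.image (algebraMap B L)) : Set L) :=
      le_antisymm hle (Algebra.adjoin_mono (by
        intro x hx
        obtain ⟨b, _, rfl⟩ := Finset.mem_image.mp (Finset.mem_coe.mp hx)
        exact ⟨b, rfl⟩))
    rw [← Subalgebra.fg_iff_finiteType, heq]
    exact Subalgebra.fg_adjoin_finset _
  -- the maximal ideal
  have hmV₀ : maximalIdeal V₀ ≤ q''.under V₀ := by
    intro x hx
    rw [Ideal.mem_comap, hmemq'']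
    show 𝒱.valuation (algebraMap K L (x : K)) < 1
    have hx𝒱 : algebraMap K L (x : K) ∈ 𝒱 := ValuationSubring.mem_comap.mp x.2
    rcases 𝒱.valuation_lt_one_or_eq_one ⟨_, hx𝒱⟩ with h | h
    · exact h
    · exfalso
      have hx0 : (x : K) ≠ 0 := by
        intro h0
        have : 𝒱.valuation (algebraMap K L (x : K)) = 1 := h
        rw [h0, map_zero, map_zero] at this
        exact zero_ne_one this
      have hinv : algebraMap K L ((x : K)⁻¹) ∈ 𝒱 := by
        rw [map_inv₀, ← 𝒱.valuation_le_one_iff, map_inv₀]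
        have : 𝒱.valuation (algebraMap K L (x : K)) = 1 := h
        rw [this, inv_one]
      have hxinv : (x : K)⁻¹ ∈ V₀ := ValuationSubring.mem_comap.mpr hinv
      have hu : IsUnit x := by
        refine isUnit_iff_exists_inv.mpr ⟨⟨(x : K)⁻¹, hxinv⟩, ?_⟩
        apply Subtype.ext
        show (x : K) * (x : K)⁻¹ = 1
        exact mul_inv_cancel₀ hx0
      exact (mem_maximalIdeal x).mp hx hu
  have ha₀ : j₀ a ∈ maximalIdeal V₀ := by
    rw [mem_maximalIdeal, mem_nonunits_iff]
    intro hu
    have h1 : ι (algebraMap A B a) ∈ q'' := (hιq' _).mpr ha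
    rw [hιj₀] at h1
    exact (Ideal.IsPrime.ne_top ‹q''.IsPrime›) (Ideal.eq_top_of_isUnit_mem _ h1 (hu.map _))
  have ha₀0 : j₀ a ≠ 0 := fun h => ha0 (hj₀inj (by rw [h, map_zero]))
  have hmaxV₀ : (q''.under V₀).IsMaximal := by
    have hprime : (q''.under V₀).IsPrime := Ideal.IsPrime.under _ q''
    have : q''.under V₀ = maximalIdeal V₀ :=
      le_antisymm (IsLocalRing.le_maximalIdeal hprime.ne_top) hmV₀
    rw [this]
    exact IsLocalRing.maximalIdeal.isMaximal V₀
  -- compatibility of evaluation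
  have hιaeval : ∀ (b : B) (F : Polynomial A),
      Polynomial.aeval (ι b) (F.map j₀) = ι (Polynomial.aeval b F) := by
    intro b F
    rw [Polynomial.aeval_def, Polynomial.eval₂_map, Polynomial.aeval_def, Polynomial.hom_eval₂]
    congr 1
    ext x
    exact congrArg Subtype.val (hιj₀ x).symm
  have hint'' : Algebra.IsIntegral V₀ (Bf ⧸ q'') := by
    refine ⟨fun z => ?_⟩
    obtain ⟨⟨x, hx⟩, rfl⟩ := Ideal.Quotient.mk_surjective z
    refine Algebra.adjoin_induction
      (p := fun x hx => Ideal.Quotient.mk q'' (⟨x, hx⟩ : Bf) ∈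
        integralClosure V₀ (Bf ⧸ q'')) ?_ ?_ ?_ ?_ hx
    · rintro _ ⟨b, rfl⟩
      obtain ⟨F, ⟨i, hi⟩, hF⟩ := halg b
      refine isIntegral_mk_of_root q'' hmaxV₀ (ι b) (F.map j₀) i ?_ ?_
      · rw [Polynomial.coeff_map, ← hιj₀, hιq']
        exact hi
      · rw [hιaeval, hιq']
        exact hF
    · intro r
      exact (integralClosure V₀ (Bf ⧸ q'')).algebraMap_mem r
    · intro x y hx hy h1 h2
      exact (integralClosure V₀ (Bf ⧸ q'')).add_mem h1 h2
    · intro x y hx hy h1 h2
      exact (integralClosure V₀ (Bf ⧸ q'')).mul_mem h1 h2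
  have hιg : ι g ≠ 0 := by
    intro h
    have : algebraMap B L g = 0 := congrArg Subtype.val h
    exact hg (IsFractionRing.injective B L (by rw [this, map_zero]))
  obtain ⟨q₁'', hq₁prime, hq₁le, hq₁V, hgq₁, hq₁alg⟩ :=
    exists_prime_valuationRing hinjV₀ (j₀ a) ha₀ ha₀0 q'' hmV₀ hint'' (ι g) hιg
  haveI := hq₁prime
  refine ⟨q₁''.comap ι, Ideal.comap_isPrime _ _, ?_, ?_, hgq₁, ?_⟩
  · intro b hb
    exact (hιq' b).mp (hq₁le hb)
  · rw [eq_bot_iff]
    intro x hx
    have h1 : ι (algebraMap A B x) ∈ q₁'' := hx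
    rw [hιj₀] at h1
    have h2 : j₀ x ∈ q₁''.under V₀ := h1
    rw [hq₁V, Ideal.mem_bot] at h2
    exact (Ideal.mem_bot).mpr (hj₀inj (by rw [h2, map_zero]))
  · intro b
    obtain ⟨P₀, hP₀ne, hP₀⟩ := hq₁alg.isAlgebraic (Ideal.Quotient.mk q₁'' (ι b))
    have hP₀mem : Polynomial.aeval (ι b) P₀ ∈ q₁'' := by
      have := Polynomial.aeval_algHom_apply (Ideal.Quotient.mkₐ V₀ q₁'') (ι b) P₀
      rw [Ideal.Quotient.mkₐ_eq_mk, hP₀] at this
      exact Ideal.Quotient.eq_zero_iff_mem.mp this.symm
    have hsubinj : Function.Injective (Polynomial.map (V₀.subtype : V₀ →+* K)) :=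
      Polynomial.map_injective _ Subtype.val_injective
    let P₀K : Polynomial K := P₀.map V₀.subtype
    have hP₀K : P₀K ≠ 0 := fun h => hP₀ne (hsubinj (by rw [Polynomial.map_zero]; exact h))
    let F : Polynomial A := IsLocalization.integerNormalization (nonZeroDivisors A) P₀K
    obtain ⟨d, hd, hFd⟩ := IsLocalization.integerNormalization_spec (nonZeroDivisors A) P₀K
    have hFne : F ≠ 0 := fun h => hP₀K (IsFractionRing.integerNormalization_eq_zero_iff.mp h)
    have hFmap : F.map j₀ = Polynomial.C (j₀ d) * P₀ := by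
      apply hsubinj
      rw [Polynomial.map_map, Polynomial.map_mul, Polynomial.map_C]
      have h1 : (V₀.subtype : V₀ →+* K).comp j₀ = algebraMap A K := by
        ext x; rfl
      rw [h1]
      show F.map (algebraMap A K) = Polynomial.C (algebraMap A K d) * P₀K
      rw [hFd, Algebra.smul_def]
      rfl
    refine ⟨F, hFne, ?_⟩
    show ι (Polynomial.aeval b F) ∈ q₁''
    rw [← hιaeval, hFmap, map_mul, Polynomial.aeval_C]
    exact q₁''.mul_mem_left _ hP₀mem

end Groth.Agent.Helper3.ClFib
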