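import Mathlib
import Groth.Prelude
import Groth.Agent.Helper3.ClFibE

set_option autoImplicit false
set_option linter.style.haveILetI false
set_option linter.unusedSectionVars false
set_option linter.unusedVariables false
set_option linter.deprecated false
set_option linter.style.haveILetI false
set_option linter.unusedSectionVars false
set_option linter.unusedVariables false

universe u

open IsLocalRing

namespace Groth.Agent.Helper3.ClFib

/-- A polynomial relation with a coefficient outside the prime gives algebraicity of the class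
over the quotient of the base by the contraction. -/
theorem isAlgebraic_mk_of_root {R S : Type u} [CommRing R] [CommRing S] [Algebra R S]
    (q : Ideal S) [q.IsPrime] (s : S) (F : Polynomial R) (i : ℕ)
    (hi : algebraMap R S (F.coeff i) ∉ q) (hF : Polynomial.aeval s F ∈ q) :
    IsAlgebraic (R ⧸ q.under R) (Ideal.Quotient.mk q s) := by
  have hroot : Polynomial.aeval (Ideal.Quotient.mk q s)
      (F.map (algebraMap R (R ⧸ q.under R))) = 0 := by
    rw [Polynomial.aeval_map_algebraMap]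
    have := Polynomial.aeval_algHom_apply (Ideal.Quotient.mkₐ R q) s F
    rw [Ideal.Quotient.mkₐ_eq_mk] at this
    rw [this, Ideal.Quotient.eq_zero_iff_mem]
    exact hF
  have hne : F.map (algebraMap R (R ⧸ q.under R)) ≠ 0 := by
    intro h
    have h1 := congrArg (fun P => P.coeff i) h
    simp only [Polynomial.coeff_map, Polynomial.coeff_zero] at h1
    rw [Ideal.Quotient.algebraMap_eq, Ideal.Quotient.eq_zero_iff_mem] at h1
    exact hi h1
  exact ⟨_, hne, hroot⟩

/-- Incomparability from algebraicity. -/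
theorem eq_of_le_of_root {R S : Type u} [CommRing R] [CommRing S] [Algebra R S]
    (q P : Ideal S) [q.IsPrime] [P.IsPrime] (hle : q ≤ P) (hunder : P.under R = q.under R)
    (halg : ∀ s : S, ∃ F : Polynomial R, (∃ i, algebraMap R S (F.coeff i) ∉ q) ∧
      Polynomial.aeval s F ∈ q) : P = q := by
  refine le_antisymm (fun s hs => ?_) hle
  by_contra hsq
  obtain ⟨F, ⟨i, hi⟩, hF⟩ := halg s
  have hsalg := isAlgebraic_mk_of_root q s F i hi hF
  haveI : (q.under R).IsPrime := Ideal.IsPrime.under R q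
  have hs0 : Ideal.Quotient.mk q s ≠ 0 := by
    rwa [Ne, Ideal.Quotient.eq_zero_iff_mem]
  have hmem : Ideal.Quotient.mk q s ∈ P.map (Ideal.Quotient.mk q) := Ideal.mem_map_of_mem _ hs
  have hne := Ideal.comap_ne_bot_of_algebraic_mem (R := R ⧸ q.under R) hs0 hmem hsalg
  obtain ⟨r, hr, hr0⟩ := Submodule.exists_mem_ne_zero_of_ne_bot hne
  obtain ⟨r, rfl⟩ := Ideal.Quotient.mk_surjective r
  apply hr0
  rw [Ideal.Quotient.eq_zero_iff_mem, ← hunder]
  have h1 : algebraMap (R ⧸ q.under R) (S ⧸ q) (Ideal.Quotient.mk _ r) ∈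
      P.map (Ideal.Quotient.mk q) := hr
  have h2 : algebraMap (R ⧸ q.under R) (S ⧸ q) (Ideal.Quotient.mk _ r) =
      Ideal.Quotient.mk q (algebraMap R S r) := rfl
  rw [h2, Ideal.mem_quotient_iff_mem hle] at h1
  exact h1

open scoped TensorProduct in
/-- A prime which is maximal in its fibre of a finite type algebra has algebraic residue ring. -/
theorem exists_root_of_maximal_in_fibre {R S : Type u} [CommRing R] [CommRing S] [Algebra R S]
    [Algebra.FiniteType R S] (q : Ideal S) [q.IsPrime]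
    (hmax : ∀ P : Ideal S, P.IsPrime → q ≤ P → P.under R = q.under R → P = q) (s : S) :
    ∃ F : Polynomial R, (∃ i, algebraMap R S (F.coeff i) ∉ q) ∧ Polynomial.aeval s F ∈ q := by
  classical
  let p : Ideal R := q.under R
  haveI : p.IsPrime := Ideal.IsPrime.under R q
  let e := PrimeSpectrum.preimageOrderIsoFiber R S ⟨p, inferInstance⟩
  let x₀ : (PrimeSpectrum.comap (algebraMap R S)) ⁻¹' {⟨p, inferInstance⟩} := ⟨⟨q, inferInstance⟩, rfl⟩
  let Q : Ideal (p.Fiber S) := (e x₀).asIdeal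
  have hQcomap : Q.comap Algebra.TensorProduct.includeRight.toRingHom = q :=
    congr($(e.symm_apply_apply x₀).1.asIdeal)
  -- `Q` is maximal
  have hQmax : Q.IsMaximal := by
    obtain ⟨M, hM, hQM⟩ := Ideal.exists_le_maximal Q (e x₀).isPrime.ne_top
    have hle : e x₀ ≤ ⟨M, hM.isPrime⟩ := hQM
    have hle' : x₀ ≤ e.symm ⟨M, hM.isPrime⟩ := by
      rw [← e.symm_apply_apply x₀]
      exact e.symm.monotone hle
    have hP := hmax (e.symm ⟨M, hM.isPrime⟩).1.asIdeal inferInstance hle'
      (congr($((e.symm ⟨M, hM.isPrime⟩).2).asIdeal))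
    have : e.symm ⟨M, hM.isPrime⟩ = x₀ := Subtype.ext (PrimeSpectrum.ext hP)
    have h2 : (⟨M, hM.isPrime⟩ : PrimeSpectrum (p.Fiber S)) = e x₀ := by
      rw [← this, e.apply_symm_apply]
    have h3 : M = Q := congr($(h2).asIdeal)
    exact h3 ▸ hM
  letI : Field (p.Fiber S ⧸ Q) := Ideal.Quotient.field Q
  haveI : Algebra.FiniteType p.ResidueField (p.Fiber S) := inferInstance
  haveI : Algebra.FiniteType p.ResidueField (p.Fiber S ⧸ Q) :=
    Algebra.FiniteType.of_surjective (Ideal.Quotient.mkₐ p.ResidueField Q)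
      Ideal.Quotient.mk_surjective
  haveI : Module.Finite p.ResidueField (p.Fiber S ⧸ Q) :=
    finite_of_finite_type_of_isJacobsonRing _ _
  let ψ : S →ₐ[R] (p.Fiber S ⧸ Q) :=
    (Ideal.Quotient.mkₐ R Q).comp Algebra.TensorProduct.includeRight
  have hzint : IsIntegral p.ResidueField (ψ s) := Algebra.IsIntegral.isIntegral _
  obtain ⟨G, hG0, hG⟩ := hzint.isAlgebraic
  let Gbar : Polynomial (R ⧸ p) :=
    IsLocalization.integerNormalization (nonZeroDivisors (R ⧸ p)) G
  obtain ⟨d, hd, hGd⟩ := IsLocalization.integerNormalization_spec (nonZeroDivisors (R ⧸ p)) G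
  have hGbar0 : Gbar ≠ 0 := fun h => hG0 (IsFractionRing.integerNormalization_eq_zero_iff.mp h)
  obtain ⟨F, hF⟩ := Polynomial.map_surjective (Ideal.Quotient.mk p) Ideal.Quotient.mk_surjective Gbar
  have hGd' : Gbar.map (algebraMap (R ⧸ p) p.ResidueField) = d • G := hGd
  have hFmap : F.map (algebraMap R p.ResidueField) =
      Polynomial.C (algebraMap (R ⧸ p) p.ResidueField d) * G := by
    rw [← Polynomial.algebraMap_apply, ← Algebra.smul_def, ← hGd', ← hF, Polynomial.map_map]
    congr 1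
  have haeval : Polynomial.aeval (ψ s) F = 0 := by
    rw [← Polynomial.aeval_map_algebraMap p.ResidueField, hFmap, map_mul, hG, mul_zero]
  refine ⟨F, ?_, ?_⟩
  · obtain ⟨i, hi⟩ : ∃ i, Gbar.coeff i ≠ 0 := by
      by_contra hcon
      simp only [not_exists, not_not] at hcon
      exact hGbar0 (Polynomial.ext (fun i => by rw [hcon i, Polynomial.coeff_zero]))
    refine ⟨i, fun hmem => hi ?_⟩
    rw [← hF, Polynomial.coeff_map, Ideal.Quotient.eq_zero_iff_mem]
    exact hmem
  · rw [Polynomial.aeval_algHom_apply] at haeval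
    have h1 : Algebra.TensorProduct.includeRight (R := R) (A := p.ResidueField)
        (Polynomial.aeval s F) ∈ Q := Ideal.Quotient.eq_zero_iff_mem.mp haeval
    rw [← hQcomap]
    exact h1

/-- The ring-theoretic form of the density statement. -/
theorem exists_prime_ring {A B : Type u} [CommRing A] [CommRing B] [Algebra A B]
    [Algebra.FiniteType A B] (q q' : Ideal B) [q.IsPrime] [q'.IsPrime] (hqq' : q ≤ q')
    (hne : q.under A ≠ q'.under A)
    (hmax : ∀ P : Ideal B, P.IsPrime → q' ≤ P → P.under A = q'.under A → P = q')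
    (g : B) (hg : g ∉ q) :
    ∃ q₁ : Ideal B, q₁.IsPrime ∧ q ≤ q₁ ∧ q₁ ≤ q' ∧ q₁.under A = q.under A ∧ g ∉ q₁ ∧
      ∀ P : Ideal B, P.IsPrime → q₁ ≤ P → P.under A = q₁.under A → P = q₁ := by
  classical
  have halg' := exists_root_of_maximal_in_fibre (R := A) q' hmax
  let p : Ideal A := q.under A
  haveI : p.IsPrime := Ideal.IsPrime.under A q
  haveI : IsDomain (A ⧸ p) := Ideal.Quotient.isDomain p
  haveI : IsDomain (B ⧸ q) := Ideal.Quotient.isDomain q
  have hinj : Function.Injective (algebraMap (A ⧸ p) (B ⧸ q)) :=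
    Ideal.algebraMap_quotient_injective
  haveI : Algebra.FiniteType A (B ⧸ q) :=
    Algebra.FiniteType.of_surjective (Ideal.Quotient.mkₐ A q) Ideal.Quotient.mk_surjective
  haveI : Algebra.FiniteType (A ⧸ p) (B ⧸ q) :=
    Algebra.FiniteType.of_restrictScalars_finiteType A _ _
  let qb' : Ideal (B ⧸ q) := q'.map (Ideal.Quotient.mk q)
  have hmemqb' : ∀ b : B, Ideal.Quotient.mk q b ∈ qb' ↔ b ∈ q' := fun b =>
    Ideal.mem_quotient_iff_mem hqq'
  haveI : qb'.IsPrime := Ideal.map_isPrime_of_surjective Ideal.Quotient.mk_surjective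
    (by rw [Ideal.mk_ker]; exact hqq')
  have hmk : ∀ x : A, algebraMap (A ⧸ p) (B ⧸ q) (Ideal.Quotient.mk p x) =
      Ideal.Quotient.mk q (algebraMap A B x) := fun x => rfl
  -- the element `a`
  obtain ⟨a, haq', haq⟩ : ∃ a, a ∈ q'.under A ∧ a ∉ p := by
    by_contra hcon
    simp only [not_exists, not_and, not_not] at hcon
    exact hne (le_antisymm (Ideal.comap_mono hqq') hcon)
  have hab0 : Ideal.Quotient.mk p a ≠ 0 := by
    rwa [Ne, Ideal.Quotient.eq_zero_iff_mem]
  have hab : algebraMap (A ⧸ p) (B ⧸ q) (Ideal.Quotient.mk p a) ∈ qb' := by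
    rw [hmk, hmemqb']; exact haq'
  have haevalmk : ∀ (b : B) (F : Polynomial A),
      Polynomial.aeval (Ideal.Quotient.mk q b) (F.map (Ideal.Quotient.mk p)) =
        Ideal.Quotient.mk q (Polynomial.aeval b F) := by
    intro b F
    have h1 := Polynomial.aeval_map_algebraMap (A ⧸ p) (Ideal.Quotient.mk q b) F
    rw [Ideal.Quotient.algebraMap_eq] at h1
    rw [h1]
    have h2 := Polynomial.aeval_algHom_apply (Ideal.Quotient.mkₐ A q) b F
    rw [Ideal.Quotient.mkₐ_eq_mk] at h2
    exact h2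
  have halgb : ∀ b : B ⧸ q, ∃ F : Polynomial (A ⧸ p),
      (∃ i, algebraMap (A ⧸ p) (B ⧸ q) (F.coeff i) ∉ qb') ∧ Polynomial.aeval b F ∈ qb' := by
    intro b
    obtain ⟨b, rfl⟩ := Ideal.Quotient.mk_surjective b
    obtain ⟨F, ⟨i, hi⟩, hF⟩ := halg' b
    refine ⟨F.map (Ideal.Quotient.mk p), ⟨i, ?_⟩, ?_⟩
    · rw [Polynomial.coeff_map, hmk, hmemqb']; exact hi
    · rw [haevalmk, hmemqb']; exact hF
  have hgb : Ideal.Quotient.mk q g ≠ 0 := by
    rwa [Ne, Ideal.Quotient.eq_zero_iff_mem]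
  obtain ⟨qb₁, hqb₁prime, hqb₁le, hqb₁A, hgqb₁, hqb₁alg⟩ :=
    exists_prime_domain hinj qb' (Ideal.Quotient.mk p a) hab hab0 halgb (Ideal.Quotient.mk q g) hgb
  haveI := hqb₁prime
  let q₁ : Ideal B := qb₁.comap (Ideal.Quotient.mk q)
  haveI hq₁prime : q₁.IsPrime := Ideal.comap_isPrime _ _
  have hqq₁ : q ≤ q₁ := by
    intro b hb
    show Ideal.Quotient.mk q b ∈ qb₁
    rw [Ideal.Quotient.eq_zero_iff_mem.mpr hb]
    exact qb₁.zero_mem
  have hq₁q' : q₁ ≤ q' := fun b hb => (hmemqb' b).mp (hqb₁le hb)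
  have hq₁A : q₁.under A = p := by
    refine le_antisymm (fun x hx => ?_) (Ideal.comap_mono hqq₁)
    have h1 : Ideal.Quotient.mk q (algebraMap A B x) ∈ qb₁ := hx
    rw [← hmk] at h1
    have h2 : Ideal.Quotient.mk p x ∈ qb₁.under (A ⧸ p) := h1
    rw [hqb₁A, Ideal.mem_bot, Ideal.Quotient.eq_zero_iff_mem] at h2
    exact h2
  refine ⟨q₁, hq₁prime, hqq₁, hq₁q', hq₁A, hgqb₁, fun P hP hle hPA => ?_⟩
  haveI := hP
  refine eq_of_le_of_root (R := A) q₁ P hle hPA (fun s => ?_)
  obtain ⟨Fb, hFb0, hFb⟩ := hqb₁alg (Ideal.Quotient.mk q s)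
  obtain ⟨F, rfl⟩ := Polynomial.map_surjective (Ideal.Quotient.mk p) Ideal.Quotient.mk_surjective Fb
  refine ⟨F, ?_, ?_⟩
  · obtain ⟨i, hi⟩ : ∃ i, (F.map (Ideal.Quotient.mk p)).coeff i ≠ 0 := by
      by_contra hcon
      simp only [not_exists, not_not] at hcon
      exact hFb0 (Polynomial.ext (fun i => by rw [hcon i, Polynomial.coeff_zero]))
    refine ⟨i, fun hmem => hi ?_⟩
    rw [Polynomial.coeff_map, Ideal.Quotient.eq_zero_iff_mem, ← hq₁A]
    exact hmem
  · rw [haevalmk] at hFb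
    exact hFb

end Groth.Agent.Helper3.ClFib
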