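import Mathlib
import Groth.Prelude
import Groth.Agent.Helper3.ClFibF

set_option autoImplicit false
set_option linter.style.haveILetI false
set_option linter.unusedSectionVars false
set_option linter.unusedVariables false
set_option linter.deprecated false
set_option linter.style.haveILetI false
set_option linter.unusedSectionVars false
set_option linter.unusedVariables false

universe u

open CategoryTheory CategoryTheory.Limits AlgebraicGeometry TopologicalSpace Opposite IsLocalRing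

namespace Groth.Agent.Helper3.ClFib

/-- A singleton is closed as soon as the point has no proper specialization. -/
theorem isClosed_singleton_of_forall_specializes {T : Type*} [TopologicalSpace T] (a : T)
    (h : ∀ b : T, a ⤳ b → b = a) : IsClosed ({a} : Set T) := by
  rw [← closure_subset_iff_isClosed]
  intro b hb
  exact h b (specializes_iff_mem_closure.mpr hb)

/-- A closed point has no proper specialization. -/
theorem eq_of_specializes_of_isClosed {T : Type*} [TopologicalSpace T] (a b : T)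
    (h : IsClosed ({a} : Set T)) (hab : a ⤳ b) : b = a := by
  have := specializes_iff_mem_closure.mp hab
  rw [h.closure_eq] at this
  exact this

/-- In a Jacobson space, a point closed in an open subset is closed. -/
theorem isClosed_singleton_of_isClosed_in_open {T : Type*} [TopologicalSpace T] [JacobsonSpace T]
    (W : Set T) (hW : IsOpen W) (a : T) (ha : a ∈ W)
    (h : ∀ b : T, b ∈ W → a ⤳ b → b = a) : IsClosed ({a} : Set T) := by
  have hemb : Topology.IsOpenEmbedding (Subtype.val : W → T) := hW.isOpenEmbedding_subtypeVal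
  have h1 : IsClosed ({(⟨a, ha⟩ : W)} : Set W) := by
    refine isClosed_singleton_of_forall_specializes _ (fun b hb => ?_)
    have := (subtype_specializes_iff _ _).mp hb
    exact Subtype.ext (h b.1 b.2 this)
  have h2 : (⟨a, ha⟩ : W) ∈ closedPoints W := h1
  rw [← hemb.preimage_closedPoints] at h2
  exact h2

/-- The main theorem: closed points of the fibre between a specialization are dense. -/
theorem dense_closedPoints_fibre {X S : Scheme.{u}} (f : X ⟶ S) [LocallyOfFiniteType f] (x x' : X)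
    (hsp : x ⤳ x') (hne : f x ≠ f x')
    (hcl : IsClosed (Subtype.val ⁻¹' {x'} : Set ↑(f ⁻¹' {f x'}))) :
    Dense (Subtype.val ⁻¹' {x₁ : ↑X | f x₁ = f x ∧
      IsClosed (Subtype.val ⁻¹' {x₁} : Set ↑(f ⁻¹' {f x})) ∧ x ⤳ x₁ ∧ x₁ ⤳ x'} :
      Set ↑(closure {x} ∩ f ⁻¹' {f x})) := by
  classical
  -- charts
  obtain ⟨VS, hVS, hfx'VS, -⟩ := exists_isAffineOpen_mem_and_subset (x := f x') (U := ⊤) trivial
  obtain ⟨U, hU, hx'U, hUle⟩ := exists_isAffineOpen_mem_and_subset (x := x') (U := f ⁻¹ᵁ VS) hfx'VS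
  have e : U ≤ f ⁻¹ᵁ VS := hUle
  have hxU : x ∈ U := hsp.mem_open U.2 hx'U
  let φ := f.appLE VS U e
  letI algφ : Algebra Γ(S, VS) Γ(X, U) := φ.hom.toAlgebra
  haveI : Algebra.FiniteType Γ(S, VS) Γ(X, U) := f.finiteType_appLE hVS hU e
  let j := hU.fromSpec
  have hjemb : Topology.IsOpenEmbedding j := j.isOpenEmbedding
  have hjS : Function.Injective hVS.fromSpec := hVS.fromSpec.isOpenEmbedding.injective
  have hfj : ∀ P : Spec Γ(X, U), f (j P) = hVS.fromSpec (Spec.map φ P) := by
    intro P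
    have := IsAffineOpen.SpecMap_appLE_fromSpec f hVS hU e
    have h2 := congrArg (fun ψ => ψ P) this
    simpa using h2.symm
  have hunder_iff : ∀ P P' : Spec Γ(X, U), f (j P) = f (j P') ↔
      P.asIdeal.under Γ(S, VS) = P'.asIdeal.under Γ(S, VS) := by
    intro P P'
    rw [hfj, hfj]
    constructor
    · intro h
      have h1 := hjS h
      exact congrArg PrimeSpectrum.asIdeal h1
    · intro h
      congr 1
      exact PrimeSpectrum.ext h
  have hle_iff : ∀ P P' : Spec Γ(X, U), j P ⤳ j P' ↔ P.asIdeal ≤ P'.asIdeal := by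
    intro P P'
    rw [hjemb.isInducing.specializes_iff]
    exact (PrimeSpectrum.le_iff_specializes P P').symm
  let q : Spec Γ(X, U) := hU.primeIdealOf ⟨x, hxU⟩
  let q' : Spec Γ(X, U) := hU.primeIdealOf ⟨x', hx'U⟩
  have hjq : j q = x := hU.fromSpec_primeIdealOf ⟨x, hxU⟩
  have hjq' : j q' = x' := hU.fromSpec_primeIdealOf ⟨x', hx'U⟩
  have hqq' : q.asIdeal ≤ q'.asIdeal := by
    rw [← hle_iff, hjq, hjq']; exact hsp
  have hne' : q.asIdeal.under Γ(S, VS) ≠ q'.asIdeal.under Γ(S, VS) := by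
    rw [Ne, ← hunder_iff, hjq, hjq']; exact hne
  have hmax : ∀ P : Ideal Γ(X, U), P.IsPrime → q'.asIdeal ≤ P →
      P.under Γ(S, VS) = q'.asIdeal.under Γ(S, VS) → P = q'.asIdeal := by
    intro P hP hle hund
    let P' : Spec Γ(X, U) := ⟨P, hP⟩
    have h1 : x' ⤳ j P' := by rw [← hjq', hle_iff]; exact hle
    have h2 : f (j P') = f x' := by rw [← hjq', hunder_iff]; exact hund
    have hcl' : IsClosed ({(⟨x', rfl⟩ : ↑(f ⁻¹' {f x'}))} : Set ↑(f ⁻¹' {f x'})) := by
      convert hcl using 1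
      ext z
      simp only [Set.mem_singleton_iff, Set.mem_preimage]
      exact Subtype.ext_iff
    have h3 := eq_of_specializes_of_isClosed (⟨x', rfl⟩ : ↑(f ⁻¹' {f x'})) ⟨j P', h2⟩ hcl'
      ((subtype_specializes_iff _ _).mpr h1)
    have h4 : j P' = j q' := by rw [hjq']; exact congrArg Subtype.val h3
    exact congrArg PrimeSpectrum.asIdeal (hjemb.injective h4)
  -- the fibre over `f x` is a Jacobson space
  haveI : JacobsonSpace ↑(f ⁻¹' {f x}) :=
    JacobsonSpace.of_isOpenEmbedding (f.fiberHomeo (f x)).symm.isOpenEmbedding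
  rw [dense_iff_inter_open]
  intro O hO hOne
  obtain ⟨O', hO', rfl⟩ := isOpen_induced_iff.mp hO
  obtain ⟨⟨y, hy⟩, hyO⟩ := hOne
  have hxO' : x ∈ O' := (specializes_iff_mem_closure.mpr hy.1).mem_open hO' hyO
  -- a basic open neighbourhood
  have hpre : IsOpen (j ⁻¹' O') := hO'.preimage j.continuous
  have hqpre : q ∈ j ⁻¹' O' := by
    show j q ∈ O'
    rw [hjq]; exact hxO'
  obtain ⟨_, ⟨g, rfl⟩, hqg, hgO'⟩ :=
    PrimeSpectrum.isTopologicalBasis_basic_opens.exists_subset_of_mem_open hqpre hpre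
  have hg : g ∉ q.asIdeal := hqg
  obtain ⟨q₁, hq₁prime, hqq₁, hq₁q', hq₁A, hgq₁, hq₁max⟩ :=
    exists_prime_ring (A := Γ(S, VS)) q.asIdeal q'.asIdeal hqq' hne' hmax g hg
  let Q₁ : Spec Γ(X, U) := ⟨q₁, hq₁prime⟩
  have hfx₁ : f (j Q₁) = f x := by rw [← hjq, hunder_iff]; exact hq₁A
  have hxx₁ : x ⤳ j Q₁ := by rw [← hjq, hle_iff]; exact hqq₁
  have hx₁x' : j Q₁ ⤳ x' := by rw [← hjq', hle_iff]; exact hq₁q'
  have hx₁O' : j Q₁ ∈ O' := by
    have hmem : Q₁ ∈ (fun r => (↑(PrimeSpectrum.basicOpen r) : Set (PrimeSpectrum Γ(X, U)))) g :=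
      hgq₁
    exact hgO' hmem
  have hx₁cl : IsClosed (Subtype.val ⁻¹' {j Q₁} : Set ↑(f ⁻¹' {f x})) := by
    have hset : (Subtype.val ⁻¹' {j Q₁} : Set ↑(f ⁻¹' {f x})) = {⟨j Q₁, hfx₁⟩} := by
      ext z
      simp only [Set.mem_singleton_iff, Set.mem_preimage]
      exact ⟨fun h => Subtype.ext h, fun h => congrArg Subtype.val h⟩
    rw [hset]
    refine isClosed_singleton_of_isClosed_in_open (Subtype.val ⁻¹' (U : Set X))
      (U.2.preimage continuous_subtype_val) _ ?_ ?_
    · have hr : j Q₁ ∈ Set.range j := ⟨Q₁, rfl⟩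
      rw [hU.range_fromSpec] at hr
      exact hr
    · rintro ⟨b, hb⟩ hbU hsb
      have hbU' : b ∈ (U : Set X) := hbU
      rw [← hU.range_fromSpec] at hbU'
      obtain ⟨Pb, rfl⟩ := hbU'
      have h1 : j Q₁ ⤳ j Pb :=
        (subtype_specializes_iff (⟨j Q₁, hfx₁⟩ : ↑(f ⁻¹' {f x})) ⟨j Pb, hb⟩).mp hsb
      rw [hle_iff] at h1
      have h2 : f (j Pb) = f (j Q₁) := by rw [hfx₁]; exact hb
      rw [hunder_iff] at h2
      have h3 := hq₁max Pb.asIdeal Pb.isPrime h1 h2
      apply Subtype.ext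
      show j Pb = j Q₁
      congr 1
      exact PrimeSpectrum.ext h3
  exact ⟨⟨j Q₁, specializes_iff_mem_closure.mp hxx₁, hfx₁⟩, hx₁O', hfx₁, hx₁cl, hxx₁, hx₁x'⟩

end Groth.Agent.Helper3.ClFib
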