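import Mathlib
set_option backward.isDefEq.respectTransparency.types false
set_option maxHeartbeats 4000000
set_option synthInstance.maxHeartbeats 400000

universe u

namespace Groth.Agent.Helper3.ClImmAlg

/-- surjectivity of a finite algebra map can be tested modulo every maximal ideal. -/
theorem surjective_of_mod_maximal {A B : Type*} [CommRing A] [CommRing B] [Algebra A B]
    [Module.Finite A B]
    (h : ∀ (m : Ideal A), m.IsMaximal → ∀ b : B, ∃ a : A,
      b - algebraMap A B a ∈ m.map (algebraMap A B)) :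
    Function.Surjective (algebraMap A B) := by
  classical
  set N : Submodule A B := LinearMap.range (Algebra.linearMap A B) with hN
  suffices hNt : N = ⊤ by
    intro b
    have : b ∈ N := hNt ▸ Submodule.mem_top
    obtain ⟨a, ha⟩ := this
    exact ⟨a, ha⟩
  by_contra hne
  -- the annihilator of B/N
  set I : Ideal A := Module.annihilator A (B ⧸ N) with hI
  have hIne : I ≠ ⊤ := by
    intro hI1
    apply hne
    rw [eq_top_iff]
    intro b _
    have h1 : (1 : A) ∈ I := hI1 ▸ Submodule.mem_top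
    have := Module.mem_annihilator.mp h1 (Submodule.Quotient.mk b)
    rw [one_smul] at this
    exact (Submodule.Quotient.mk_eq_zero N).mp this
  obtain ⟨m, hm, hIm⟩ := Ideal.exists_le_maximal I hIne
  have hfg : (⊤ : Submodule A (B ⧸ N)).FG := Module.Finite.fg_top
  have hle : (⊤ : Submodule A (B ⧸ N)) ≤ m • ⊤ := by
    intro c _
    obtain ⟨b, rfl⟩ := Submodule.Quotient.mk_surjective N c
    obtain ⟨a, ha⟩ := h m hm b
    have h1 : Submodule.Quotient.mk (p := N) b = Submodule.Quotient.mk (b - algebraMap A B a) := by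
      rw [Submodule.Quotient.eq]
      simp only [sub_sub_cancel]
      exact ⟨a, rfl⟩
    rw [h1]
    -- element of m B maps into m • ⊤
    have h2 : ∀ x ∈ m.map (algebraMap A B), Submodule.Quotient.mk (p := N) x ∈ m • (⊤ : Submodule A (B ⧸ N)) := by
      intro x hx
      have hx' : x ∈ m • (⊤ : Submodule A B) := by
        rw [Ideal.smul_top_eq_map]; exact hx
      have h3 : N.mkQ x ∈ (m • (⊤ : Submodule A B)).map N.mkQ := Submodule.mem_map_of_mem hx'
      rw [Submodule.map_smul''] at h3
      exact Submodule.smul_mono le_rfl le_top h3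
    exact h2 _ ha
  obtain ⟨r, hr1, hr2⟩ := Submodule.exists_sub_one_mem_and_smul_eq_zero_of_fg_of_le_smul m ⊤ hfg hle
  have hrI : r ∈ I := Module.mem_annihilator.mpr fun c => hr2 c Submodule.mem_top
  have hrm : r ∈ m := hIm hrI
  have : (1 : A) ∈ m := by
    have := m.sub_mem hrm hr1
    simpa using this
  exact hm.ne_top ((Ideal.eq_top_iff_one m).mpr this)


theorem fibre {k A B : Type u} [Field k] [IsAlgClosed k] [CommRing A] [CommRing B]
    [Algebra k A] [Algebra.FiniteType k A] [Algebra A B] [Module.Finite A B]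
    (m : Ideal A) [hm : m.IsMaximal]
    (h1 : ∀ (P P' : Ideal B), P.IsPrime → P'.IsPrime → P.comap (algebraMap A B) = m →
      P'.comap (algebraMap A B) = m → P = P')
    (h2 : ∀ (P : Ideal B), P.IsPrime → P.comap (algebraMap A B) = m → ∀ p ∈ P, ∃ s ∉ P,
      s * p ∈ m.map (algebraMap A B) ⊔ P ^ 2)
    (b : B) : ∃ a : A, b - algebraMap A B a ∈ m.map (algebraMap A B) := by
  classical
  obtain ⟨mB, hmB⟩ : ∃ mB : Ideal B, mB = m.map (algebraMap A B) := ⟨_, rfl⟩
  rw [← hmB]
  letI : Field (A ⧸ m) := Ideal.Quotient.field m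
  haveI : Module.Finite k (A ⧸ m) := finite_of_finite_type_of_isJacobsonRing k (A ⧸ m)
  have hbij : Function.Bijective (algebraMap k (A ⧸ m)) :=
    IsAlgClosed.algebraMap_bijective_of_isIntegral
  haveI : IsAlgClosed (A ⧸ m) :=
    IsAlgClosed.of_ringEquiv k (A ⧸ m) (RingEquiv.ofBijective (algebraMap k (A ⧸ m)) hbij)
  haveI : Module.Finite (A ⧸ m) (B ⧸ m.map (algebraMap A B)) :=
    Module.Finite.of_restrictScalars_finite A (A ⧸ m) (B ⧸ m.map (algebraMap A B))
  haveI : IsArtinianRing (B ⧸ m.map (algebraMap A B)) :=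
    IsArtinianRing.of_finite (A ⧸ m) (B ⧸ m.map (algebraMap A B))
  subst hmB
  by_cases hC : Subsingleton (B ⧸ m.map (algebraMap A B))
  · refine ⟨0, ?_⟩
    have : Ideal.Quotient.mk (m.map (algebraMap A B)) b = 0 := Subsingleton.elim _ _
    simpa [Ideal.Quotient.eq_zero_iff_mem] using this
  rw [not_subsingleton_iff_nontrivial] at hC
  obtain ⟨P', hP'⟩ := Ideal.exists_maximal (B ⧸ m.map (algebraMap A B))
  have hP'prime : P'.IsPrime := hP'.isPrime
  obtain ⟨P, hPdef⟩ : ∃ P : Ideal B, P = P'.comap (Ideal.Quotient.mk (m.map (algebraMap A B))) :=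
    ⟨_, rfl⟩
  have hPprime : P.IsPrime := hPdef ▸ hP'prime.comap _
  have hle_comap : ∀ Q' : Ideal (B ⧸ m.map (algebraMap A B)),
      m.map (algebraMap A B) ≤ Q'.comap (Ideal.Quotient.mk (m.map (algebraMap A B))) := by
    intro Q' x hx
    rw [Ideal.mem_comap, Ideal.Quotient.eq_zero_iff_mem.mpr hx]
    exact Q'.zero_mem
  have hover : ∀ Q : Ideal B, Q.IsPrime → m.map (algebraMap A B) ≤ Q →
      Q.comap (algebraMap A B) = m := by
    intro Q hQ hle
    have h3 : m ≤ Q.comap (algebraMap A B) := Ideal.map_le_iff_le_comap.mp hle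
    exact (hm.eq_of_le (Ideal.comap_ne_top _ hQ.ne_top) h3).symm
  have hPover : P.comap (algebraMap A B) = m := hover P hPprime (hPdef ▸ hle_comap P')
  have huniq : ∀ Q' : Ideal (B ⧸ m.map (algebraMap A B)), Q'.IsPrime → Q' = P' := by
    intro Q' hQ'
    have hQ : (Q'.comap (Ideal.Quotient.mk (m.map (algebraMap A B)))).IsPrime := hQ'.comap _
    have h3 := h1 _ _ hQ hPprime (hover _ hQ (hle_comap Q')) hPover
    rw [hPdef] at h3
    exact Ideal.comap_injective_of_surjective _ Ideal.Quotient.mk_surjective h3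
  have hnil : nilradical (B ⧸ m.map (algebraMap A B)) = P' := by
    rw [nilradical_eq_sInf]
    apply le_antisymm
    · exact sInf_le hP'prime
    · apply le_sInf
      intro Q hQ
      rw [huniq Q hQ]
  have hunit : ∀ c : B ⧸ m.map (algebraMap A B), c ∉ P' → IsUnit c := by
    intro c hc
    by_contra hnu
    obtain ⟨M, hM, hcM⟩ := exists_max_ideal_of_mem_nonunits hnu
    rw [huniq M hM.isPrime] at hcM
    exact hc hcM
  have hmapP : P.map (Ideal.Quotient.mk (m.map (algebraMap A B))) = P' := by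
    rw [hPdef]
    exact Ideal.map_comap_of_surjective _ Ideal.Quotient.mk_surjective _
  have hsq : P' ≤ P' ^ 2 := by
    intro c hc
    obtain ⟨p, rfl⟩ := Ideal.Quotient.mk_surjective c
    have hp : p ∈ P := by rw [hPdef]; exact hc
    obtain ⟨s, hs, hsp⟩ := h2 P hPprime hPover p hp
    have hsu : IsUnit (Ideal.Quotient.mk (m.map (algebraMap A B)) s) :=
      hunit _ (fun h => hs (by rw [hPdef]; exact h))
    have h4 : Ideal.Quotient.mk (m.map (algebraMap A B)) (s * p) ∈ P' ^ 2 := by
      have h5 := Ideal.mem_map_of_mem (Ideal.Quotient.mk (m.map (algebraMap A B))) hsp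
      rw [Ideal.map_sup, Ideal.map_pow, hmapP, Ideal.map_quotient_self, bot_sup_eq] at h5
      exact h5
    rw [map_mul] at h4
    exact (Ideal.unit_mul_mem_iff_mem _ hsu).mp h4
  have hbot : P' = ⊥ := by
    obtain ⟨n, hn⟩ := IsArtinianRing.isNilpotent_nilradical (R := B ⧸ m.map (algebraMap A B))
    rw [hnil] at hn
    have hpow : ∀ n : ℕ, P' ≤ P' ^ (n + 1) := by
      intro n
      induction n with
      | zero => simp
      | succ n ih =>
        calc P' ≤ P' ^ 2 := hsq
          _ = P' * P' := sq _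
          _ ≤ P' ^ (n + 1) * P' := Ideal.mul_mono_left ih
          _ = P' ^ (n + 1 + 1) := (pow_succ _ _).symm
    have h3 := hpow n
    rw [pow_succ, hn, Ideal.zero_eq_bot, Ideal.bot_mul] at h3
    exact le_bot_iff.mp h3
  haveI : IsDomain (B ⧸ m.map (algebraMap A B)) := by
    haveI : (⊥ : Ideal (B ⧸ m.map (algebraMap A B))).IsPrime := hbot ▸ hP'prime
    exact IsDomain.of_bot_isPrime _
  obtain ⟨κ, hκ⟩ := (IsAlgClosed.algebraMap_bijective_of_isIntegral (k := A ⧸ m)
    (K := B ⧸ m.map (algebraMap A B))).2 (Ideal.Quotient.mk (m.map (algebraMap A B)) b)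
  obtain ⟨a, rfl⟩ := Ideal.Quotient.mk_surjective κ
  refine ⟨a, ?_⟩
  rw [← Ideal.Quotient.eq, ← hκ]
  rfl


theorem alg_main {k A B : Type u} [Field k] [IsAlgClosed k] [CommRing A] [CommRing B]
    [Algebra k A] [Algebra.FiniteType k A] [Algebra A B] [Module.Finite A B]
    (h1 : ∀ (P P' : Ideal B), P.IsPrime → P'.IsPrime → (P.comap (algebraMap A B)).IsMaximal →
      P.comap (algebraMap A B) = P'.comap (algebraMap A B) → P = P')
    (h2 : ∀ (P : Ideal B), P.IsPrime → (P.comap (algebraMap A B)).IsMaximal → ∀ p ∈ P, ∃ s ∉ P,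
      s * p ∈ (P.comap (algebraMap A B)).map (algebraMap A B) ⊔ P ^ 2) :
    Function.Surjective (algebraMap A B) := by
  apply surjective_of_mod_maximal
  intro m hm b
  refine fibre (k := k) m ?_ ?_ b
  · intro P P' hP hP' hPm hP'm
    exact h1 P P' hP hP' (hPm ▸ hm) (hPm.trans hP'm.symm)
  · intro P hP hPm p hp
    have := h2 P hP (hPm ▸ hm) p hp
    rwa [hPm] at this

end Groth.Agent.Helper3.ClImmAlg
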