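import Mathlib
import Groth.Agent.Helper3.ClImmAlg
set_option backward.isDefEq.respectTransparency.types false
set_option maxHeartbeats 4000000
set_option synthInstance.maxHeartbeats 400000

universe u
open CategoryTheory AlgebraicGeometry

namespace Groth.Agent.Helper3.ClImm

theorem stalk_to_sections {X Y : Scheme.{u}} (f : X ⟶ Y) (U : Y.Opens) (hU : IsAffineOpen U)
    (hV : IsAffineOpen (f ⁻¹ᵁ U)) (x : X) (hx : x ∈ f ⁻¹ᵁ U)
    (hTx : Ideal.map (f.stalkMap x).hom (IsLocalRing.maximalIdeal (Y.presheaf.stalk (f.base x))) ⊔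
        IsLocalRing.maximalIdeal (X.presheaf.stalk x) ^ 2 =
        IsLocalRing.maximalIdeal (X.presheaf.stalk x)) :
    ∀ p ∈ (hV.primeIdealOf ⟨x, hx⟩).asIdeal, ∃ s ∉ (hV.primeIdealOf ⟨x, hx⟩).asIdeal,
      s * p ∈ Ideal.map (f.app U).hom ((hV.primeIdealOf ⟨x, hx⟩).asIdeal.comap (f.app U).hom) ⊔
        (hV.primeIdealOf ⟨x, hx⟩).asIdeal ^ 2 := by
  intro p hp
  have hfx : f.base x ∈ U := hx
  let _ : Algebra Γ(Y, U) (Y.presheaf.stalk (f.base x)) :=
    TopCat.Presheaf.algebra_section_stalk Y.presheaf ⟨f.base x, hfx⟩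
  let _ : Algebra Γ(X, f ⁻¹ᵁ U) (X.presheaf.stalk x) :=
    TopCat.Presheaf.algebra_section_stalk X.presheaf ⟨x, hx⟩
  have hlocY := hU.isLocalization_stalk ⟨f.base x, hfx⟩
  have hlocX := hV.isLocalization_stalk ⟨x, hx⟩
  have hcomap : (hV.primeIdealOf ⟨x, hx⟩).asIdeal.comap (f.app U).hom =
      (hU.primeIdealOf ⟨f.base x, hfx⟩).asIdeal := by
    have := IsAffineOpen.comap_primeIdealOf_appLE (f := f) U hU (f ⁻¹ᵁ U) hV le_rfl hx
    rw [← Scheme.Hom.app_eq_appLE] at this
    exact congrArg PrimeSpectrum.asIdeal this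
  have hmX : IsLocalRing.maximalIdeal (X.presheaf.stalk x) =
      Ideal.map (X.presheaf.germ (f ⁻¹ᵁ U) x hx).hom (hV.primeIdealOf ⟨x, hx⟩).asIdeal :=
    (IsLocalization.AtPrime.map_eq_maximalIdeal (hV.primeIdealOf ⟨x, hx⟩).asIdeal
      (X.presheaf.stalk x)).symm
  have hmY : IsLocalRing.maximalIdeal (Y.presheaf.stalk (f.base x)) =
      Ideal.map (Y.presheaf.germ U (f.base x) hfx).hom (hU.primeIdealOf ⟨f.base x, hfx⟩).asIdeal :=
    (IsLocalization.AtPrime.map_eq_maximalIdeal (hU.primeIdealOf ⟨f.base x, hfx⟩).asIdeal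
      (Y.presheaf.stalk (f.base x))).symm
  have hcomp : (f.stalkMap x).hom.comp (Y.presheaf.germ U (f.base x) hfx).hom =
      (X.presheaf.germ (f ⁻¹ᵁ U) x hx).hom.comp (f.app U).hom := by
    ext a
    exact Scheme.Hom.germ_stalkMap_apply f U x hfx a
  have h1 : Ideal.map (f.stalkMap x).hom (IsLocalRing.maximalIdeal (Y.presheaf.stalk (f.base x))) =
      Ideal.map (X.presheaf.germ (f ⁻¹ᵁ U) x hx).hom
        (Ideal.map (f.app U).hom (hU.primeIdealOf ⟨f.base x, hfx⟩).asIdeal) := by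
    rw [hmY, Ideal.map_map, Ideal.map_map, hcomp]
  have h2 : (X.presheaf.germ (f ⁻¹ᵁ U) x hx).hom p ∈ Ideal.map (X.presheaf.germ (f ⁻¹ᵁ U) x hx).hom
      (Ideal.map (f.app U).hom ((hV.primeIdealOf ⟨x, hx⟩).asIdeal.comap (f.app U).hom) ⊔
        (hV.primeIdealOf ⟨x, hx⟩).asIdeal ^ 2) := by
    rw [Ideal.map_sup, Ideal.map_pow, ← hmX, hcomap, ← h1, hTx, hmX]
    exact Ideal.mem_map_of_mem _ hp
  obtain ⟨⟨j, s⟩, hjs⟩ := (IsLocalization.mem_map_algebraMap_iff
    (hV.primeIdealOf ⟨x, hx⟩).asIdeal.primeCompl (X.presheaf.stalk x)).mp h2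
  have h3 : (X.presheaf.germ (f ⁻¹ᵁ U) x hx).hom (p * s.1 - j.1) = 0 := by
    rw [map_sub, map_mul, sub_eq_zero]
    exact hjs
  obtain ⟨t, ht⟩ := (IsLocalization.map_eq_zero_iff
      (hV.primeIdealOf ⟨x, hx⟩).asIdeal.primeCompl
      (X.presheaf.stalk x) (p * s.1 - j.1)).mp h3
  refine ⟨t.1 * s.1, ?_, ?_⟩
  · exact (hV.primeIdealOf ⟨x, hx⟩).asIdeal.primeCompl.mul_mem t.2 s.2
  · have : t.1 * s.1 * p = t.1 * j.1 := by
      have h4 : t.1 * (p * s.1 - j.1) = 0 := ht
      linear_combination h4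
    rw [this]
    exact Ideal.mul_mem_left _ _ j.2


theorem fibre_singleton {X Y : Scheme.{u}} (f : X ⟶ Y) [JacobsonSpace X]
    (hinj : Set.InjOn f.base {x : X | IsClosed ({x} : Set X)})
    (y : Y) (hy : IsClosed ({y} : Set Y)) (x : X) (hx : f.base x = y) :
    IsClosed ({x} : Set X) ∧ f.base ⁻¹' {y} = {x} := by
  have hZ : IsClosed (f.base ⁻¹' {y}) := hy.preimage f.continuous
  have hne : (f.base ⁻¹' {y}).Nonempty := ⟨x, hx⟩
  obtain ⟨x₀, hx₀Z, hx₀c⟩ := nonempty_inter_closedPoints hne hZ.isLocallyClosed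
  have hx₀c' : IsClosed ({x₀} : Set X) := hx₀c
  have hsub : f.base ⁻¹' {y} ∩ closedPoints X ⊆ {x₀} := by
    rintro z ⟨hz, hzc⟩
    exact hinj hzc hx₀c (hz.trans hx₀Z.symm)
  have hcl : f.base ⁻¹' {y} ⊆ {x₀} := by
    have h1 := JacobsonSpace.closure_inter_closedPoints_eq_closure hZ.isLocallyClosed
    rw [hZ.closure_eq] at h1
    rw [← h1]
    exact closure_minimal hsub hx₀c'
  have hxx₀ : x = x₀ := hcl hx
  subst hxx₀
  exact ⟨hx₀c', Set.Subset.antisymm hcl (Set.singleton_subset_iff.mpr hx)⟩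

theorem isFinite_of {k : Type u} [Field k] {X Y : Scheme.{u}} (f : X ⟶ Y)
    (q : Y ⟶ Spec (CommRingCat.of k)) [LocallyOfFiniteType q]
    [LocallyOfFiniteType (f ≫ q)] [IsProper f]
    (hinj : Set.InjOn f.base {x : X | IsClosed ({x} : Set X)}) : IsFinite f := by
  haveI : JacobsonSpace X := LocallyOfFiniteType.jacobsonSpace (f ≫ q)
  haveI : JacobsonSpace Y := LocallyOfFiniteType.jacobsonSpace q
  have hW : f.quasiFiniteLocus = ⊤ := by
    by_contra hne
    have hne' : ((f.quasiFiniteLocus : Set X)ᶜ).Nonempty := by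
      rw [Set.nonempty_compl]
      intro h
      apply hne
      ext1
      exact h
    obtain ⟨x, hxW, hxc⟩ := nonempty_inter_closedPoints hne'
      f.quasiFiniteLocus.2.isClosed_compl.isLocallyClosed
    apply hxW
    have hxc' : IsClosed ({x} : Set X) := hxc
    have hyc : IsClosed ({f.base x} : Set Y) := by
      have := f.isClosedMap _ hxc'
      rwa [Set.image_singleton] at this
    obtain ⟨-, hfib⟩ := fibre_singleton f hinj (f.base x) hyc x rfl
    show f.QuasiFiniteAt x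
    rw [Scheme.Hom.quasiFiniteAt_iff_isOpen_singleton_asFiber]
    haveI : Subsingleton (f.fiber (f.base x)) := by
      have : Subsingleton (f.base ⁻¹' {f.base x}) := by rw [hfib]; infer_instance
      exact (f.fiberHomeo (f.base x)).injective.subsingleton
    exact isOpen_discrete _
  haveI := f.quasiFiniteLocus_eq_top_iff.mp hW
  exact IsFinite.of_isProper_of_locallyQuasiFinite f


theorem app_surjective {k : Type u} [Field k] [IsAlgClosed k] {X Y : Scheme.{u}} (f : X ⟶ Y)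
    (q : Y ⟶ Spec (CommRingCat.of k)) [LocallyOfFiniteType q]
    [LocallyOfFiniteType (f ≫ q)] [IsFinite f]
    (hinj : Set.InjOn f.base {x : X | IsClosed ({x} : Set X)})
    (hT : ∀ x : X, IsClosed ({x} : Set X) →
      Ideal.map (f.stalkMap x).hom (IsLocalRing.maximalIdeal (Y.presheaf.stalk (f.base x))) ⊔
        IsLocalRing.maximalIdeal (X.presheaf.stalk x) ^ 2 =
        IsLocalRing.maximalIdeal (X.presheaf.stalk x))
    (U : Y.Opens) (hU : IsAffineOpen U) : Function.Surjective (f.app U) := by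
  haveI : JacobsonSpace X := LocallyOfFiniteType.jacobsonSpace (f ≫ q)
  haveI : JacobsonSpace Y := LocallyOfFiniteType.jacobsonSpace q
  have hV : IsAffineOpen (f ⁻¹ᵁ U) := hU.preimage f
  have hft0 : RingHom.FiniteType (q.appLE ⊤ U le_top).hom :=
    HasRingHomProperty.appLE (P := @LocallyOfFiniteType) q inferInstance
      ⟨⊤, isAffineOpen_top _⟩ ⟨U, hU⟩ le_top
  have hft : RingHom.FiniteType
      ((q.appLE ⊤ U le_top).hom.comp (Scheme.ΓSpecIso (CommRingCat.of k)).inv.hom) := by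
    refine hft0.comp (RingHom.FiniteType.of_surjective _ ?_)
    exact (ConcreteCategory.bijective_of_isIso (Scheme.ΓSpecIso (CommRingCat.of k)).inv).2
  have hfin : (f.app U).hom.Finite := IsFinite.finite_app f U hU
  -- the commutative square on points
  have hsq : ∀ p : Spec Γ(X, f ⁻¹ᵁ U),
      f.base (hV.fromSpec.base p) = hU.fromSpec.base ((Spec.map (f.app U)).base p) := by
    intro p
    have h1 := IsAffineOpen.SpecMap_appLE_fromSpec f hU hV le_rfl
    rw [← Scheme.Hom.app_eq_appLE] at h1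
    have h2 := congrArg (fun g => g.base p) h1
    exact h2.symm
  -- closedness of the image of a maximal ideal
  have hclosedY : ∀ p : Spec Γ(Y, U), p.asIdeal.IsMaximal →
      IsClosed ({hU.fromSpec.base p} : Set Y) := by
    intro p hp
    have hpre := hU.fromSpec.isOpenEmbedding.preimage_closedPoints
    have h1 : p ∈ closedPoints (Spec Γ(Y, U)) :=
      (PrimeSpectrum.isClosed_singleton_iff_isMaximal p).mpr hp
    rw [← hpre] at h1
    exact h1
  -- points in the range of fromSpec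
  have hmemV : ∀ p : Spec Γ(X, f ⁻¹ᵁ U), hV.fromSpec.base p ∈ f ⁻¹ᵁ U := by
    intro p
    have h1 : hV.fromSpec.base p ∈ Set.range hV.fromSpec.base := Set.mem_range_self p
    have h2 := hV.range_fromSpec
    rw [h2] at h1
    exact h1
  have hprime : ∀ (p : Spec Γ(X, f ⁻¹ᵁ U)),
      hV.primeIdealOf ⟨hV.fromSpec.base p, hmemV p⟩ = p := by
    intro p
    apply hV.fromSpec.isOpenEmbedding.injective
    exact hV.fromSpec_primeIdealOf ⟨hV.fromSpec.base p, hmemV p⟩
  algebraize [((q.appLE ⊤ U le_top).hom.comp (Scheme.ΓSpecIso (CommRingCat.of k)).inv.hom),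
    (f.app U).hom]
  refine Groth.Agent.Helper3.ClImmAlg.alg_main (k := k) (A := Γ(Y, U)) (B := Γ(X, f ⁻¹ᵁ U)) ?_ ?_
  · intro P P' hP hP' hmax heq
    let pP : Spec Γ(X, f ⁻¹ᵁ U) := ⟨P, hP⟩
    let pP' : Spec Γ(X, f ⁻¹ᵁ U) := ⟨P', hP'⟩
    have hcl := hclosedY ((Spec.map (f.app U)).base pP) hmax
    have hfP : f.base (hV.fromSpec.base pP) =
        hU.fromSpec.base ((Spec.map (f.app U)).base pP) := hsq pP
    have hfP' : f.base (hV.fromSpec.base pP') =
        hU.fromSpec.base ((Spec.map (f.app U)).base pP) := by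
      rw [hsq pP']
      congr 1
      apply PrimeSpectrum.ext
      exact heq.symm
    obtain ⟨-, hfib⟩ := fibre_singleton f hinj _ hcl (hV.fromSpec.base pP) hfP
    have hmem : hV.fromSpec.base pP' ∈
        f.base ⁻¹' {hU.fromSpec.base ((Spec.map (f.app U)).base pP)} := hfP'
    rw [hfib] at hmem
    have h3 : pP' = pP := hV.fromSpec.isOpenEmbedding.injective hmem
    exact (congrArg PrimeSpectrum.asIdeal h3).symm
  · intro P hP hmax p hp
    let pP : Spec Γ(X, f ⁻¹ᵁ U) := ⟨P, hP⟩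
    have hcl := hclosedY ((Spec.map (f.app U)).base pP) hmax
    obtain ⟨hxc, -⟩ := fibre_singleton f hinj _ hcl (hV.fromSpec.base pP) (hsq pP)
    have h3 := stalk_to_sections f U hU hV (hV.fromSpec.base pP) (hmemV pP) (hT _ hxc)
    rw [hprime pP] at h3
    exact h3 p hp


theorem main (k : Type u) [Field k] [IsAlgClosed k]
    {X Y : Scheme.{u}} (f : X ⟶ Y) (q : Y ⟶ Spec (CommRingCat.of k)) [LocallyOfFiniteType q]
    [LocallyOfFiniteType (f ≫ q)] [IsProper f]
    (hinj : Set.InjOn f.base {x : X | IsClosed ({x} : Set X)})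
    (hT : ∀ x : X, IsClosed ({x} : Set X) →
      Ideal.map (f.stalkMap x).hom (IsLocalRing.maximalIdeal (Y.presheaf.stalk (f.base x))) ⊔
        IsLocalRing.maximalIdeal (X.presheaf.stalk x) ^ 2 =
        IsLocalRing.maximalIdeal (X.presheaf.stalk x)) :
    IsClosedImmersion f := by
  haveI : IsFinite f := isFinite_of f q hinj
  rw [isClosedImmersion_iff_isAffineHom]
  exact ⟨inferInstance, fun U hU => app_surjective f q hinj hT U hU⟩

end Groth.Agent.Helper3.ClImm
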