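import Mathlib
import Groth.Agent.Helper3.FinIso

set_option autoImplicit false
set_option linter.style.haveILetI false
set_option linter.unusedSectionVars false
set_option linter.unusedVariables false
set_option linter.deprecated false
set_option linter.style.haveILetI false
set_option linter.unusedSectionVars false
set_option linter.unusedVariables false

universe u

open CategoryTheory CategoryTheory.Limits AlgebraicGeometry TopologicalSpace Opposite

namespace Groth.Agent.Helper3.ClosedCover

open Scheme.Modules Groth.Agent.Helper1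

section prod

variable {X : Scheme.{u}} {I : Type u} (Q : I → X.Modules)

/-- the trivial local condition -/
def triv : SubProd.LocalCond Q where
  C := fun _ _ => True
  zero := fun _ => trivial
  add := fun _ _ _ _ _ => trivial
  smul := fun _ _ _ _ => trivial
  res := fun _ _ _ => trivial
  loc := fun _ _ _ => trivial

/-- the product of a family of modules -/
noncomputable def P : X.Modules := SubProd.L (triv Q)

/-- the projections -/
noncomputable def pr (i : I) : P Q ⟶ Q i := SubProd.π (triv Q) i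

theorem P_ext (V : X.Opens) (s s' : Γ(P Q, V)) (h : ∀ i, (pr Q i).app V s = (pr Q i).app V s') :
    s = s' := SubProd.ext (triv Q) V s s' h

theorem P_exists (V : X.Opens) (σ : ∀ i, Γ(Q i, V)) :
    ∃ s : Γ(P Q, V), ∀ i, (pr Q i).app V s = σ i :=
  SubProd.exists_section (triv Q) V σ trivial

end prod

section cover

variable {X : Scheme.{u}} [IsReduced X] {I : Type u} [Finite I] {Zs : I → Scheme.{u}}
  (ι : ∀ i, Zs i ⟶ X) [∀ i, IsClosedImmersion (ι i)]

/-- the set of points lying on two members of the closed cover -/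
def Dset : Set X := ⋃ i, ⋃ j, ⋃ (_ : i ≠ j), Set.range (ι i) ∩ Set.range (ι j)

theorem isClosed_Dset : IsClosed (Dset ι) := by
  apply isClosed_iUnion_of_finite
  intro i
  apply isClosed_iUnion_of_finite
  intro j
  apply isClosed_iUnion_of_finite
  intro _
  exact (ι i).isClosedEmbedding.isClosed_range.inter (ι j).isClosedEmbedding.isClosed_range

/-- the open where the members of the cover are disjoint -/
def Vopen : X.Opens := ⟨(Dset ι)ᶜ, (isClosed_Dset ι).isOpen_compl⟩

theorem eq_of_mem_Vopen {y : X} (hy : y ∈ Vopen ι) {i j : I} (hi : y ∈ Set.range (ι i))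
    (hj : y ∈ Set.range (ι j)) : i = j := by
  by_contra hij
  apply hy
  simp only [Dset, Set.mem_iUnion]
  exact ⟨i, j, hij, hi, hj⟩

/-- functions on a reduced scheme are detected on a closed cover -/
theorem eq_zero_of_app_eq_zero (hcov : ⋃ i, Set.range (ι i) = Set.univ) (T : X.Opens)
    (r : Γ(X, T)) (h : ∀ i, (ι i).app T r = 0) : r = 0 := by
  rw [← basicOpen_eq_bot_iff]
  rw [eq_bot_iff]
  intro y hy
  have hy' : y ∈ ⋃ i, Set.range (ι i) := by rw [hcov]; trivial
  obtain ⟨i, w, rfl⟩ := Set.mem_iUnion.mp hy'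
  have h1 : w ∈ (ι i) ⁻¹ᵁ (X.basicOpen r) := hy
  rw [Scheme.preimage_basicOpen, h i] at h1
  have h2 : (Zs i).basicOpen (0 : Γ(Zs i, (ι i) ⁻¹ᵁ T)) = ⊥ := Scheme.basicOpen_zero _ _
  rw [h2] at h1
  exact h1

/-- the part of `T` lying on the `i`-th member -/
def part (T : X.Opens) (i : I) : X.Opens :=
  T ⊓ ⟨(⋃ j, ⋃ (_ : j ≠ i), Set.range (ι j))ᶜ, by
    rw [isOpen_compl_iff]
    apply isClosed_iUnion_of_finite
    intro j
    apply isClosed_iUnion_of_finite
    intro _
    exact (ι j).isClosedEmbedding.isClosed_range⟩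

theorem part_le (T : X.Opens) (i : I) : part ι T i ≤ T := inf_le_left

theorem mem_part_iff (hcov : ⋃ i, Set.range (ι i) = Set.univ) {T : X.Opens} (hT : T ≤ Vopen ι)
    (i : I) {y : X} (hy : y ∈ T) : y ∈ part ι T i ↔ y ∈ Set.range (ι i) := by
  constructor
  · rintro ⟨-, h2⟩
    have hy' : y ∈ ⋃ i, Set.range (ι i) := by rw [hcov]; trivial
    obtain ⟨k, hk⟩ := Set.mem_iUnion.mp hy'
    by_cases hki : k = i
    · rw [← hki]; exact hk
    · exfalso
      apply h2
      simp only [Set.mem_iUnion]
      exact ⟨k, hki, hk⟩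
  · intro hi
    refine ⟨hy, ?_⟩
    intro h2
    simp only [Set.mem_iUnion] at h2
    obtain ⟨j, hji, hj⟩ := h2
    exact hji (eq_of_mem_Vopen ι (hT hy) hj hi)

theorem part_disjoint (hcov : ⋃ i, Set.range (ι i) = Set.univ) {T : X.Opens} (hT : T ≤ Vopen ι)
    {i j : I} (hij : i ≠ j) : part ι T i ⊓ part ι T j ≤ ⊥ := by
  intro y hy
  have h1 := (mem_part_iff ι hcov hT i hy.1.1).mp hy.1
  have h2 := (mem_part_iff ι hcov hT j hy.1.1).mp hy.2
  exact hij (eq_of_mem_Vopen ι (hT hy.1.1) h1 h2)

theorem le_iSup_part (hcov : ⋃ i, Set.range (ι i) = Set.univ) {T : X.Opens} (hT : T ≤ Vopen ι) :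
    T ≤ ⨆ i, part ι T i := by
  intro y hy
  have hy' : y ∈ ⋃ i, Set.range (ι i) := by rw [hcov]; trivial
  obtain ⟨k, hk⟩ := Set.mem_iUnion.mp hy'
  exact Opens.mem_iSup.mpr ⟨k, (mem_part_iff ι hcov hT k hy).mpr hk⟩

theorem preimage_part (hcov : ⋃ i, Set.range (ι i) = Set.univ) {T : X.Opens} (hT : T ≤ Vopen ι)
    (i : I) : (ι i) ⁻¹ᵁ T ≤ (ι i) ⁻¹ᵁ (part ι T i) := by
  intro w hw
  exact (mem_part_iff ι hcov hT i hw).mpr ⟨w, rfl⟩

/-- over a part, the closed immersion is an isomorphism -/
theorem isIso_restrict_part (hcov : ⋃ i, Set.range (ι i) = Set.univ) {T : X.Opens}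
    (hT : T ≤ Vopen ι) (i : I) : IsIso ((ι i) ∣_ (part ι T i)) := by
  haveI : IsClosedImmersion ((ι i) ∣_ (part ι T i)) := inferInstance
  haveI : Surjective ((ι i) ∣_ (part ι T i)) := by
    constructor
    intro y
    obtain ⟨w, hw⟩ := (mem_part_iff ι hcov hT i (part_le ι T i y.2)).mp y.2
    have hw' : w ∈ (ι i) ⁻¹ᵁ (part ι T i) := by
      show (ι i) w ∈ part ι T i
      rw [hw]; exact y.2
    refine ⟨⟨w, hw'⟩, ?_⟩
    apply Subtype.ext
    rw [morphismRestrict_base_coe]
    exact hw
  exact isIso_of_isClosedImmersion_of_surjective _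

/-- sections over an empty open of a reduced scheme -/
theorem subsingleton_of_le_bot {O : X.Opens} (hO : O ≤ ⊥) : Subsingleton Γ(X, O) := by
  have h1 : X.basicOpen (1 : Γ(X, O)) = ⊥ := eq_bot_iff.mpr ((X.basicOpen_le _).trans hO)
  rw [basicOpen_eq_bot_iff] at h1
  exact subsingleton_of_zero_eq_one h1.symm

/-- functions on an open where the cover is disjoint can be prescribed on the members -/
theorem exists_app_eq (hcov : ⋃ i, Set.range (ι i) = Set.univ) {T : X.Opens} (hT : T ≤ Vopen ι)
    (ρ : ∀ i, Γ(Zs i, (ι i) ⁻¹ᵁ T)) : ∃ r : Γ(X, T), ∀ i, (ι i).app T r = ρ i := by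
  classical
  have hb : ∀ i, Function.Bijective ((ι i).app (part ι T i)) := fun i =>
    Groth.Agent.Helper3.FinIso.app_bijective_of_le (ι i) (part ι T i)
      (isIso_restrict_part ι hcov hT i) (part ι T i) le_rfl
  choose r0 hr0 using fun i => (hb i).2
    ((Zs i).presheaf.map (homOfLE ((ι i).preimage_mono (part_le ι T i))).op (ρ i))
  -- glue
  have hcompat : TopCat.Presheaf.IsCompatible X.presheaf (fun i => part ι T i) r0 := by
    intro i j
    by_cases hij : i = j
    · subst hij; rfl
    · haveI := subsingleton_of_le_bot (part_disjoint ι hcov hT hij)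
      exact Subsingleton.elim _ _
  obtain ⟨r, hr, -⟩ := TopCat.Sheaf.existsUnique_gluing' X.sheaf (fun i => part ι T i) T
    (fun i => homOfLE (part_le ι T i)) (le_iSup_part ι hcov hT) r0 hcompat
  refine ⟨r, fun i => ?_⟩
  have hinj := (Groth.Agent.Helper3.GlueInv.presheaf_map_bijective_of_eq (X := Zs i)
    ((ι i).preimage_mono (part_le ι T i)) (preimage_part ι hcov hT i)).1
  apply hinj
  rw [← hr0 i, ← hr i]
  have := (ι i).naturality (homOfLE (part_le ι T i)).op
  exact (congrArg (fun g => g.hom r) this).symm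

end cover

end Groth.Agent.Helper3.ClosedCover
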