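import Mathlib
import Groth.Agent.Helper3.ClosedCover1

set_option autoImplicit false
set_option linter.style.haveILetI false
set_option linter.unusedSectionVars false
set_option linter.unusedVariables false
set_option linter.deprecated false
set_option linter.style.haveILetI false
set_option linter.unusedSectionVars false
set_option linter.unusedVariables false

universe u

open CategoryTheory CategoryTheory.Limits AlgebraicGeometry TopologicalSpace Opposite

namespace Groth.Agent.Helper3.ClosedCover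

open Scheme.Modules Groth.Agent.Helper1 Groth.Agent.Helper4.TwistExt Groth.Agent.Helper3.FrameFin
  Groth.Agent.Helper4.StalkExact Groth.Agent.Helper1.CC

variable {X : Scheme.{u}} [IsReduced X] {I : Type u} [Finite I] {Zs : I → Scheme.{u}}
  (ι : ∀ i, Zs i ⟶ X) [∀ i, IsClosedImmersion (ι i)]
  (L : ∀ i, (Zs i).Modules) (hL : ∀ i, PicF.IsInvertible (L i))

/-- the pushforwards -/
noncomputable abbrev Qm (i : I) : X.Modules := (pushforward (ι i)).obj (L i)

include hL in
/-- common frames near a point -/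
theorem exists_common_frames (y : X) (O : X.Opens) (hy : y ∈ O) :
    ∃ (W : X.Opens) (ε : ∀ i, Γ(L i, (ι i) ⁻¹ᵁ W)), y ∈ W ∧ W ≤ O ∧
      ∀ i, IsFrame (L i) ((ι i) ⁻¹ᵁ W) (ε i) := by
  choose W₀ ε₀ hyW₀ hW₀O hε₀ using fun i =>
    Groth.Agent.Helper3.FinIso.exists_frame_preimage (ι i) (L i) (hL i) y O hy
  let W : X.Opens := O ⊓ ⟨⋂ i, (W₀ i : Set X), isOpen_iInter_of_finite (fun i => (W₀ i).isOpen)⟩
  have hWW₀ : ∀ i, W ≤ W₀ i := fun i w hw => Set.mem_iInter.mp hw.2 i
  refine ⟨W, fun i => (L i).presheaf.map (homOfLE ((ι i).preimage_mono (hWW₀ i))).op (ε₀ i),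
    ⟨hy, Set.mem_iInter.mpr hyW₀⟩, inf_le_left, fun i => isFrame_of_le (hε₀ i) _⟩

/-- the product of frames is a frame where the cover is disjoint -/
theorem isFrame_prod (hcov : ⋃ i, Set.range (ι i) = Set.univ) (T : X.Opens) (hT : T ≤ Vopen ι)
    (ε : ∀ i, Γ(L i, (ι i) ⁻¹ᵁ T)) (hε : ∀ i, IsFrame (L i) ((ι i) ⁻¹ᵁ T) (ε i))
    (e : Γ(P (Qm ι L), T)) (he : ∀ i, (pr (Qm ι L) i).app T e = ε i) :
    IsFrame (P (Qm ι L)) T e := by
  intro T' hT'
  have key : ∀ (r : Γ(X, T')) (i : I),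
      (pr (Qm ι L) i).app T' (r • (P (Qm ι L)).presheaf.map (homOfLE hT').op e) =
        (ι i).app T' r • (L i).presheaf.map (homOfLE ((ι i).preimage_mono hT')).op (ε i) := by
    intro r i
    rw [Scheme.Modules.Hom.app_smul, app_res, he i]
    rfl
  constructor
  · intro m
    choose ρ hρ using fun i =>
      (hε i ((ι i) ⁻¹ᵁ T') ((ι i).preimage_mono hT')).1 ((pr (Qm ι L) i).app T' m)
    obtain ⟨r, hr⟩ := exists_app_eq ι hcov (hT'.trans hT) ρ
    refine ⟨r, ?_⟩
    apply P_ext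
    intro i
    rw [key r i, hr i]
    exact hρ i
  · intro r hr
    apply eq_zero_of_app_eq_zero ι hcov T' r
    intro i
    apply (hε i ((ι i) ⁻¹ᵁ T') ((ι i).preimage_mono hT')).2
    rw [← key r i, hr]
    exact map_zero ((pr (Qm ι L) i).app T').hom

include hL in
/-- **Invertible modules on the members of a closed cover with discrete pairwise intersections of
a reduced scheme come from an invertible module on the scheme.** -/
theorem main (hcov : ⋃ i, Set.range (ι i) = Set.univ)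
    (hdisc : ∀ i j, i ≠ j → DiscreteTopology ↥(Set.range (ι i) ∩ Set.range (ι j))) :
    ∃ M : X.Modules, PicF.IsInvertible M ∧
      ∀ i, Nonempty ((Scheme.Modules.pullback (ι i)).obj M ≅ L i) := by
  classical
  let Zt : Type u := {z : X // z ∉ Vopen ι}
  -- isolating neighbourhoods
  have hiso : ∀ z : Zt, ∃ O : X.Opens, z.1 ∈ O ∧ ∀ y ∈ O, y ∉ Vopen ι → y = z.1 := by
    intro z
    have hpair : ∀ i j : I, ∃ O : Set X, IsOpen O ∧ z.1 ∈ O ∧
        (i ≠ j → ∀ y ∈ O, y ∈ Set.range (ι i) ∩ Set.range (ι j) → y = z.1) := by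
      intro i j
      by_cases hij : i = j
      · exact ⟨Set.univ, isOpen_univ, trivial, fun h => absurd hij h⟩
      by_cases hz : z.1 ∈ Set.range (ι i) ∩ Set.range (ι j)
      · haveI := hdisc i j hij
        obtain ⟨O, hO, hOz⟩ : ∃ O : Set X, IsOpen O ∧
            (Subtype.val : ↥(Set.range (ι i) ∩ Set.range (ι j)) → X) ⁻¹' O = {⟨z.1, hz⟩} :=
          isOpen_induced_iff.mp
            (isOpen_discrete ({⟨z.1, hz⟩} : Set ↥(Set.range (ι i) ∩ Set.range (ι j))))
        refine ⟨O, hO, ?_, fun _ y hy hyS => ?_⟩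
        · have : (⟨z.1, hz⟩ : ↥(Set.range (ι i) ∩ Set.range (ι j))) ∈
              (Subtype.val : ↥(Set.range (ι i) ∩ Set.range (ι j)) → X) ⁻¹' O := by
            rw [hOz]; rfl
          exact this
        · have : (⟨y, hyS⟩ : ↥(Set.range (ι i) ∩ Set.range (ι j))) ∈
              (Subtype.val : ↥(Set.range (ι i) ∩ Set.range (ι j)) → X) ⁻¹' O := hy
          rw [hOz] at this
          exact congrArg Subtype.val this
      · refine ⟨(Set.range (ι i) ∩ Set.range (ι j))ᶜ, ?_, hz, fun _ y hy hyS => absurd hyS hy⟩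
        exact ((ι i).isClosedEmbedding.isClosed_range.inter
          (ι j).isClosedEmbedding.isClosed_range).isOpen_compl
    choose O hO hzO hOS using hpair
    refine ⟨⟨⋂ i, ⋂ j, O i j, isOpen_iInter_of_finite
      (fun i => isOpen_iInter_of_finite (fun j => hO i j))⟩, ?_, ?_⟩
    · exact Set.mem_iInter.mpr (fun i => Set.mem_iInter.mpr (fun j => hzO i j))
    · intro y hy hyV
      have hyD : y ∈ Dset ι := by
        by_contra h
        exact hyV h
      simp only [Dset, Set.mem_iUnion] at hyD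
      obtain ⟨i, j, hij, hyS⟩ := hyD
      exact hOS i j hij y (Set.mem_iInter.mp (Set.mem_iInter.mp hy i) j) hyS
  choose O hzO hOz using hiso
  choose W ε hzW hWO hε using fun z : Zt => exists_common_frames ι L hL z.1 (O z) (hzO z)
  have hsparse : ∀ z z' : Zt, z ≠ z' → W z ⊓ W z' ≤ Vopen ι := by
    intro z z' hzz y hy
    by_contra hyV
    exact hzz (Subtype.ext ((hOz z y (hWO z hy.1) hyV).symm.trans (hOz z' y (hWO z' hy.2) hyV)))
  have hcovW : ∀ y : X, y ∉ Vopen ι → ∃ z : Zt, y ∈ W z := fun y hy => ⟨⟨y, hy⟩, hzW ⟨y, hy⟩⟩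
  let M : X.Modules := P (Qm ι L)
  choose e he using fun z : Zt => P_exists (Qm ι L) (W z) (fun i => ε z i)
  have heF : ∀ (z : Zt) (T : X.Opens) (hT : T ≤ W z ⊓ Vopen ι),
      Function.Bijective (fun r : Γ(X, T) =>
        r • M.presheaf.map (homOfLE (hT.trans inf_le_left)).op (e z)) := by
    intro z T hT
    have hfr : IsFrame M T (M.presheaf.map (homOfLE (hT.trans inf_le_left)).op (e z)) := by
      apply isFrame_prod ι L hcov T (hT.trans inf_le_right)
        (fun i => (L i).presheaf.map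
          (homOfLE ((ι i).preimage_mono (hT.trans inf_le_left))).op (ε z i))
        (fun i => isFrame_of_le (hε z i) _)
      intro i
      rw [app_res, he z i]
      rfl
    have := Groth.Agent.Helper3.DiscPic2.bijective_of_isFrame M T _ hfr T le_rfl
    have hid : M.presheaf.map (homOfLE (le_rfl : T ≤ T)).op
        (M.presheaf.map (homOfLE (hT.trans inf_le_left)).op (e z)) =
        M.presheaf.map (homOfLE (hT.trans inf_le_left)).op (e z) := by
      rw [map_map]
    rw [hid] at this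
    exact this
  obtain ⟨N, π₀, s, hπ₀, hs, hπs⟩ :=
    Groth.Agent.Helper3.GlueInv2.glue' (Vopen ι) M W hsparse e heF
  have hM : ∀ y ∈ Vopen ι, ∃ (W' : X.Opens) (m : Γ(M, W')), W' ≤ Vopen ι ∧ y ∈ W' ∧
      IsFrame M W' m ∧ ∀ i, IsFrame (L i) ((ι i) ⁻¹ᵁ W') ((pr (Qm ι L) i).app W' m) := by
    intro y hy
    obtain ⟨W', ε', hyW', hW'V, hε'⟩ := exists_common_frames ι L hL y (Vopen ι) hy
    obtain ⟨m, hm⟩ := P_exists (Qm ι L) W' (fun i => ε' i)
    refine ⟨W', m, hW'V, hyW', isFrame_prod ι L hcov W' hW'V ε' hε' m hm, fun i => ?_⟩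
    rw [hm i]
    exact hε' i
  have hN : PicF.IsInvertible N :=
    Groth.Agent.Helper3.GlueInv2.isInvertible_of_frames (Vopen ι) M N π₀ hπ₀ W hcovW s hs
      (fun y hy => by
        obtain ⟨W', m, h1, h2, h3, -⟩ := hM y hy
        exact ⟨W', m, h1, h2, h3⟩)
  refine ⟨N, hN, fun i => ?_⟩
  apply Groth.Agent.Helper3.PullCrit.nonempty_iso_of_frames (ι i) N hN (L i) (hL i)
    (π₀ ≫ pr (Qm ι L) i)
  intro y
  by_cases hy : y ∈ Vopen ι
  · obtain ⟨W', m, hW'V, hyW', -, hm⟩ := hM y hy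
    obtain ⟨n, hn⟩ := (hπ₀ W' hW'V).2 m
    refine ⟨W', n, hyW', ?_⟩
    intro W'' hW'' l
    have h1 : (π₀ ≫ pr (Qm ι L) i).app W' n = (pr (Qm ι L) i).app W' m := by
      rw [← hn]; rfl
    rw [h1]
    exact (hm i W'' hW'').1 l
  · refine ⟨W ⟨y, hy⟩, s ⟨y, hy⟩, hzW ⟨y, hy⟩, ?_⟩
    intro W'' hW'' l
    have h1 : (π₀ ≫ pr (Qm ι L) i).app (W ⟨y, hy⟩) (s ⟨y, hy⟩) = ε ⟨y, hy⟩ i := by
      rw [← he ⟨y, hy⟩ i, ← hπs ⟨y, hy⟩]; rfl
    rw [h1]
    exact (hε ⟨y, hy⟩ i W'' hW'').1 l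

end Groth.Agent.Helper3.ClosedCover
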