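import Mathlib

open CategoryTheory CategoryTheory.Limits AlgebraicGeometry Opposite
universe u

namespace Groth.Agent.Helper3.ClosedNbhd

theorem main {X Y B : Scheme.{u}} (pX : X ⟶ B) (pY : Y ⟶ B) (f : X ⟶ Y) (w : f ≫ pY = pX)
    (hcl : IsClosedMap f.base) (D : B.Opens)
    (hη : ∃ U : X.Opens, U ⊔ pX ⁻¹ᵁ D = ⊤ ∧ Etale ((U ⊓ pX ⁻¹ᵁ D).ι ≫ f)) :
    ∃ W : Y.Opens, W ⊔ pY ⁻¹ᵁ D = ⊤ ∧ Etale ((f ⁻¹ᵁ W ⊓ pX ⁻¹ᵁ D).ι ≫ f) := by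
  obtain ⟨U, hU, het⟩ := hη
  let W : Y.Opens := ⟨(f.base '' ((U : Set X)ᶜ))ᶜ, (hcl _ U.isOpen.isClosed_compl).isOpen_compl⟩
  have hWU : f ⁻¹ᵁ W ≤ U := by
    intro x hx
    by_contra hxU
    exact hx ⟨x, hxU, rfl⟩
  refine ⟨W, ?_, ?_⟩
  · rw [eq_top_iff]
    intro y _
    by_cases hy : y ∈ W
    · exact Or.inl hy
    · right
      have hy' : y ∈ f.base '' ((U : Set X)ᶜ) := by
        by_contra h
        exact hy h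
      obtain ⟨x, hxU, rfl⟩ := hy'
      have hx : x ∈ U ⊔ pX ⁻¹ᵁ D := by rw [hU]; trivial
      rcases hx with hx | hx
      · exact (hxU hx).elim
      · show pY.base (f.base x) ∈ D
        have : pY.base (f.base x) = pX.base x := by
          rw [← w]; rfl
        rw [this]; exact hx
  · have hle : f ⁻¹ᵁ W ⊓ pX ⁻¹ᵁ D ≤ U ⊓ pX ⁻¹ᵁ D := inf_le_inf_right _ hWU
    have : (f ⁻¹ᵁ W ⊓ pX ⁻¹ᵁ D).ι = X.homOfLE hle ≫ (U ⊓ pX ⁻¹ᵁ D).ι := by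
      rw [Scheme.homOfLE_ι]
    rw [this, Category.assoc]
    infer_instance

end Groth.Agent.Helper3.ClosedNbhd
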