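import Mathlib
import Groth.Prelude.Def_AlgGrp
import Groth.Agent.Helper3.SepClosedEq
import Groth.Agent.Helper2.SmoothRegSch

set_option autoImplicit false
set_option linter.style.haveILetI false
set_option linter.unusedSectionVars false
set_option linter.unusedVariables false
set_option linter.style.haveILetI false
set_option linter.unusedSectionVars false
set_option linter.unusedVariables false
universe u
open scoped TensorProduct
open CategoryTheory CategoryTheory.Limits MonoidalCategory CartesianMonoidalCategory MonObj AlgebraicGeometry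

namespace Groth.Agent.Helper3.RatPtsMulInv

open Groth.Agent.Helper3.SepClosedEq

section Tr
variable {C : Type*} [Category C] [CartesianMonoidalCategory C] {H : C} [GrpObj H]

/-- left translation by a point -/
noncomputable def tr (h : 𝟙_ C ⟶ H) : H ⟶ H := (toUnit H ≫ h) * 𝟙 H

lemma tr_inv_comp_tr (h : 𝟙_ C ⟶ H) : tr h⁻¹ ≫ tr h = 𝟙 H := by
  unfold tr
  rw [MonObj.comp_mul, Category.comp_id, ← Category.assoc, toUnit_unique (_ ≫ toUnit H) (toUnit H),
    GrpObj.comp_inv]
  exact mul_inv_cancel_left _ _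

lemma tr_comp_tr_inv (h : 𝟙_ C ⟶ H) : tr h ≫ tr h⁻¹ = 𝟙 H := by
  have := tr_inv_comp_tr h⁻¹
  rwa [inv_inv] at this

lemma pt_comp_tr (h u : 𝟙_ C ⟶ H) : u ≫ tr h = h * u := by
  unfold tr
  rw [MonObj.comp_mul, Category.comp_id, ← Category.assoc, toUnit_unique (u ≫ toUnit H) (𝟙 _),
    Category.id_comp]

end Tr

theorem main (k : Type u) [Field k] [IsAlgClosed k]
    (H : Over (Spec (CommRingCat.of k))) [GrpObj H] [Smooth H.hom] [QuasiCompact H.hom]
    (U : H.left.Opens) (hU : Dense (U : Set ↥H.left)) (h : 𝟙_ (Over (Spec (CommRingCat.of k))) ⟶ H) :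
    ∃ u₁ u₂ : 𝟙_ (Over (Spec (CommRingCat.of k))) ⟶ H,
      u₁.left.base (IsLocalRing.closedPoint k) ∈ U ∧ u₂.left.base (IsLocalRing.closedPoint k) ∈ U ∧
        h = u₂ * u₁⁻¹ := by
  haveI : GeometricallyReduced H.hom :=
    Groth.Agent.Helper2.SmoothRegSch.geometricallyReduced_of_smooth k _ _
  -- translation is a homeomorphism
  have hhomeo : IsHomeomorph (tr h).left.base := by
    have e1 : (tr h).left ≫ (tr h⁻¹).left = 𝟙 _ := by
      rw [← Over.comp_left, tr_comp_tr_inv]; rfl
    have e2 : (tr h⁻¹).left ≫ (tr h).left = 𝟙 _ := by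
      rw [← Over.comp_left, tr_inv_comp_tr]; rfl
    haveI : IsIso (tr h).left := ⟨⟨_, e1, e2⟩⟩
    exact (tr h).left.homeomorph.isHomeomorph
  let V : H.left.Opens := U ⊓ (tr h).left ⁻¹ᵁ U
  have hV : (V : Set H.left).Nonempty := by
    have hd : Dense ((tr h).left.base ⁻¹' (U : Set H.left)) :=
      hU.preimage hhomeo.isOpenMap
    have hne : ((tr h).left.base ⁻¹' (U : Set H.left)).Nonempty := by
      haveI : Nonempty H.left := ⟨η[H].left.base (IsLocalRing.closedPoint k)⟩
      exact hd.nonempty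
    obtain ⟨x, hx1, hx2⟩ := hU.inter_open_nonempty _
      (U.isOpen.preimage (tr h).left.continuous) hne
    exact ⟨x, hx2, hx1⟩
  obtain ⟨y, hy, hyV⟩ := exists_point_mem k k H.hom V hV
  have hy' : y ≫ H.hom = (𝟙_ (Over (Spec (CommRingCat.of k)))).hom := by
    rw [hy, Algebra.algebraMap_self]
    exact Spec.map_id _
  let u₁ : 𝟙_ (Over (Spec (CommRingCat.of k))) ⟶ H := Over.homMk y hy'
  refine ⟨u₁, h * u₁, hyV.1, ?_, ?_⟩
  · rw [← pt_comp_tr, Over.comp_left]
    exact hyV.2
  · rw [mul_inv_cancel_right]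

end Groth.Agent.Helper3.RatPtsMulInv
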