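import Mathlib
import Groth.Agent.Helper3.SepPts
import Groth.Agent.Helper4.GeomRedMin
import Groth.Agent.Helper4.GeomRedSch
import Groth.Agent.S4372

set_option linter.style.haveILetI false
set_option linter.unusedSectionVars false
set_option linter.unusedVariables false
set_option linter.style.haveILetI false
set_option linter.unusedSectionVars false
set_option linter.unusedVariables false

open AlgebraicGeometry CategoryTheory CategoryTheory.Limits TensorProduct Function

namespace Groth.Agent.Helper3.SepMax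

universe u

open Groth.Agent.Helper3.SepPts

/-- A reduced algebra with a dense set of primes each containing the kernel of a map to a
geometrically reduced algebra is geometrically reduced. -/
theorem isGeometricallyReduced_of_dense {k : Type u} [Field k] (R : Type u) [CommRing R]
    [Algebra k R] [IsReduced R] (D : Set (PrimeSpectrum R)) (hD : Dense D)
    (h : ∀ 𝔭 ∈ D, ∃ (R' : Type u) (_ : CommRing R') (_ : Algebra k R')
      (_ : Algebra.IsGeometricallyReduced k R') (φ : R →ₐ[k] R'),
      RingHom.ker φ.toRingHom ≤ 𝔭.asIdeal) :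
    Algebra.IsGeometricallyReduced k R := by
  rw [Algebra.isGeometricallyReduced_field_iff]
  set K := AlgebraicClosure k
  suffices hRK : IsReduced (R ⊗[k] K) from
    isReduced_of_injective (Algebra.TensorProduct.comm k K R).toRingHom
      (Algebra.TensorProduct.comm k K R).injective
  let 𝓑 := Module.Free.chooseBasis k K
  constructor
  intro z hz
  have hcoord : ∀ i, (Algebra.TensorProduct.basis R 𝓑).repr z i = 0 := by
    intro i
    set c := (Algebra.TensorProduct.basis R 𝓑).repr z i with hc
    have hmem : ∀ 𝔭 ∈ D, c ∈ 𝔭.asIdeal := by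
      intro 𝔭 h𝔭
      obtain ⟨R', _, _, _, φ, hφ⟩ := h 𝔭 h𝔭
      apply hφ
      rw [RingHom.mem_ker]
      show φ _ = 0
      rw [hc, ← Groth.Agent.Helper4.GeomRedMin.repr_map 𝓑 φ z i]
      have h1 : IsNilpotent (Algebra.TensorProduct.map φ (AlgHom.id k K) z) := hz.map _
      have h2 : IsReduced (R' ⊗[k] K) :=
        isReduced_of_injective (Algebra.TensorProduct.comm k R' K).toRingHom
          (Algebra.TensorProduct.comm k R' K).injective
      rw [h2.eq_zero _ h1]
      simp
    have hsub : D ⊆ PrimeSpectrum.zeroLocus {c} := by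
      intro 𝔭 h𝔭
      rw [PrimeSpectrum.mem_zeroLocus, Set.singleton_subset_iff]
      exact hmem 𝔭 h𝔭
    have hcl : closure D ⊆ PrimeSpectrum.zeroLocus {c} :=
      (PrimeSpectrum.isClosed_zeroLocus _).closure_subset_iff.mpr hsub
    rw [hD.closure_eq, Set.univ_subset_iff, PrimeSpectrum.zeroLocus_eq_univ_iff,
      Set.singleton_subset_iff] at hcl
    have : c ∈ nilradical R := hcl
    rwa [nilradical_eq_zero] at this
  apply (Algebra.TensorProduct.basis R 𝓑).repr.injective
  ext i
  rw [hcoord i]
  simp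


variable (k : Type u) [Field k] {X : Scheme.{u}} (f : X ⟶ Spec (CommRingCat.of k))

theorem isGeometricallyReduced_chart {Z : Scheme.{u}} (z : Z ⟶ X) [IsClosedImmersion z]
    [IsReduced Z] (hd : Dense (z.base ⁻¹' sepSet k f)) (R : CommRingCat.{u}) (j : Spec R ⟶ Z)
    [IsOpenImmersion j] (φ : CommRingCat.of k ⟶ R) (hφ : Spec.map φ = j ≫ z ≫ f) :
    letI := φ.hom.toAlgebra
    Algebra.IsGeometricallyReduced k R := by
  letI := φ.hom.toAlgebra
  haveI : IsReduced (Spec R) := isReduced_of_isOpenImmersion j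
  haveI : _root_.IsReduced R := (affine_isReduced_iff R).mp inferInstance
  let D : Set (PrimeSpectrum R) := j.base ⁻¹' (z.base ⁻¹' sepSet k f)
  have hD : Dense D := hd.preimage j.isOpenEmbedding.isOpenMap
  apply isGeometricallyReduced_of_dense R D hD
  intro 𝔭 h𝔭
  obtain ⟨K, _, _, _, x, hx, hxp⟩ := h𝔭
  have hsub : ∀ a : Spec (CommRingCat.of K), a = IsLocalRing.closedPoint K := fun a =>
    Subsingleton.elim (α := PrimeSpectrum K) _ _
  obtain ⟨y, hy⟩ := lift_of_reduced z x (by
    rintro _ ⟨a, rfl⟩
    rw [hsub a, hxp]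
    exact ⟨_, rfl⟩)
  have hyp : y.base (IsLocalRing.closedPoint K) = j.base 𝔭 := by
    apply z.injective
    rw [← Scheme.Hom.comp_apply, hy, hxp]
  have hr : Set.range y.base ⊆ Set.range j.base := by
    rintro _ ⟨a, rfl⟩
    rw [hsub a, hyp]
    exact ⟨𝔭, rfl⟩
  let y' := IsOpenImmersion.lift j y hr
  have hy' : y' ≫ j = y := IsOpenImmersion.lift_fac _ _ _
  obtain ⟨w, hw⟩ := Spec.map_surjective y'
  have hcomp : φ ≫ w = CommRingCat.ofHom (algebraMap k K) := by
    apply Spec.map_injective
    rw [Spec.map_comp, hw, hφ, ← Category.assoc, hy', ← Category.assoc, hy, hx]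
  let W : R →ₐ[k] K :=
    { w.hom with
      commutes' := fun c => by
        have := congr($(hcomp).hom c)
        exact this }
  refine ⟨K, inferInstance, inferInstance, inferInstance, W, ?_⟩
  have hpt : y'.base (IsLocalRing.closedPoint K) = 𝔭 := by
    apply j.injective
    rw [← Scheme.Hom.comp_apply, hy', hyp]
  intro a ha
  rw [← hpt, ← hw]
  show a ∈ (PrimeSpectrum.comap w.hom (IsLocalRing.closedPoint K)).asIdeal
  rw [PrimeSpectrum.comap_asIdeal, Ideal.mem_comap]
  have ha' : w.hom a = 0 := ha
  rw [ha']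
  exact zero_mem _

theorem geometricallyReduced_of_dense {Z : Scheme.{u}} (z : Z ⟶ X) [IsClosedImmersion z]
    [IsReduced Z] (hd : Dense (z.base ⁻¹' sepSet k f)) : GeometricallyReduced (z ≫ f) := by
  constructor
  rw [geometrically_iff_of_commRing_of_isClosedUnderIsomorphisms]
  intro K _ _
  let 𝒱 := Z.affineOpenCover
  let 𝒰 := 𝒱.openCover
  refine (IsReduced.iff_of_openCover _ (Scheme.Pullback.openCoverOfLeft 𝒰 (z ≫ f)
    (Spec.map (CommRingCat.ofHom (algebraMap k K))))).mpr (fun (i : 𝒱.I₀) => ?_)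
  show IsReduced (pullback (𝒱.f i ≫ z ≫ f) (Spec.map (CommRingCat.ofHom (algebraMap k K))))
  haveI : IsOpenImmersion (𝒱.f i) := 𝒱.map_prop i
  obtain ⟨φ, hφ⟩ := Spec.map_surjective (𝒱.f i ≫ z ≫ f)
  have hgr := isGeometricallyReduced_chart k f z hd (𝒱.X i) (𝒱.f i) φ hφ
  letI := φ.hom.toAlgebra
  have key : IsReduced (pullback (Spec.map (CommRingCat.ofHom (algebraMap k (𝒱.X i))))
      (Spec.map (CommRingCat.ofHom (algebraMap k K)))) :=
    (Groth.Agent.Helper4.GeomRedSch.isReduced_pullback_Spec_iff (k := k) (𝒱.X i) K).mpr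
      (Groth.Agent.Helper4.GeomRed.isReduced_tensor_of_isGeometricallyReduced _ K)
  have e : Spec.map (CommRingCat.ofHom (algebraMap k (𝒱.X i))) = 𝒱.f i ≫ z ≫ f := hφ
  rw [e] at key
  exact key

theorem main (X : Scheme.{u}) (f : X ⟶ Spec (CommRingCat.of k)) :
    ∃ (Z : Scheme.{u}) (z : Z ⟶ X), IsClosedImmersion z ∧ GeometricallyReduced (z ≫ f) ∧
      (∀ (k' : Type u) [Field k'] [Algebra k k'] [Algebra.IsGeometricallyReduced k k']
        (x : Spec (CommRingCat.of k') ⟶ X),
        x ≫ f = Spec.map (CommRingCat.ofHom (algebraMap k k')) →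
        ∃ y : Spec (CommRingCat.of k') ⟶ Z, y ≫ z = x) ∧
      ∀ (Z' : Scheme.{u}) (z' : Z' ⟶ X), IsClosedImmersion z' → GeometricallyReduced (z' ≫ f) →
        (∀ (k' : Type u) [Field k'] [Algebra k k'] [Algebra.IsGeometricallyReduced k k']
        (x : Spec (CommRingCat.of k') ⟶ X),
        x ≫ f = Spec.map (CommRingCat.ofHom (algebraMap k k')) →
        ∃ y : Spec (CommRingCat.of k') ⟶ Z', y ≫ z' = x) →
        ∃ e : Z' ≅ Z, e.hom ≫ z = z' := by
  let C : TopologicalSpace.Closeds X := ⟨closure (sepSet k f), isClosed_closure⟩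
  let I := Scheme.IdealSheafData.vanishingIdeal C
  let z : I.subscheme ⟶ X := I.subschemeι
  haveI : IsReduced I.subscheme := Groth.Agent.S4372.isReduced_vanishingIdeal_subscheme C
  have hrange : Set.range z.base = closure (sepSet k f) := by
    rw [Scheme.IdealSheafData.range_subschemeι, Scheme.IdealSheafData.coe_support_vanishingIdeal]
    rfl
  have hd : Dense (z.base ⁻¹' sepSet k f) := by
    rw [dense_iff_closure_eq, z.isEmbedding.isInducing.closure_eq_preimage_closure_image,
      Set.image_preimage_eq_inter_range, hrange,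
      Set.inter_eq_left.mpr subset_closure, ← hrange]
    exact Set.preimage_range _
  haveI hgr : GeometricallyReduced (z ≫ f) := geometricallyReduced_of_dense k f z hd
  have hsubsing : ∀ (K : Type u) [Field K] (a : Spec (CommRingCat.of K)),
      a = IsLocalRing.closedPoint K := fun K _ a =>
    Subsingleton.elim (α := PrimeSpectrum K) _ _
  refine ⟨I.subscheme, z, inferInstance, hgr, ?_, ?_⟩
  · intro k' _ _ _ x hx
    apply lift_of_reduced z x
    rintro _ ⟨a, rfl⟩
    rw [hrange]
    apply subset_closure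
    exact ⟨k', inferInstance, inferInstance, inferInstance, x, hx, by rw [hsubsing k' a]⟩
  · intro Z' z' hz' hgr' hpts'
    haveI := hz'
    haveI := hgr'
    haveI : IsReduced Z' := isReduced_of_geometricallyReduced k (z' ≫ f)
    -- range z ⊆ range z'
    have h1 : Set.range z.base ⊆ Set.range z'.base := by
      rw [hrange]
      apply z'.isClosedEmbedding.isClosed_range.closure_subset_iff.mpr
      rintro p ⟨K, _, _, _, x, hx, rfl⟩
      obtain ⟨y, hy⟩ := hpts' K x hx
      refine ⟨y.base (IsLocalRing.closedPoint K), ?_⟩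
      rw [← Scheme.Hom.comp_apply, hy]
    -- range z' ⊆ range z
    have h2 : Set.range z'.base ⊆ Set.range z.base := by
      rw [hrange]
      apply range_subset_of_sepSet k (z' ≫ f) z' _ isClosed_closure
      rintro p ⟨K, _, _, _, x, hx, rfl⟩
      apply subset_closure
      refine ⟨K, inferInstance, inferInstance, inferInstance, x ≫ z', ?_, ?_⟩
      · rw [Category.assoc, hx]
      · rw [Scheme.Hom.comp_apply]
    obtain ⟨ψ', hψ'⟩ := lift_of_reduced z z' h2
    obtain ⟨ψ, hψ⟩ := lift_of_reduced z' z h1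
    refine ⟨⟨ψ', ψ, ?_, ?_⟩, hψ'⟩
    · rw [← cancel_mono z', Category.assoc, hψ, hψ', Category.id_comp]
    · rw [← cancel_mono z, Category.assoc, hψ', hψ, Category.id_comp]

end Groth.Agent.Helper3.SepMax
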