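import Mathlib
import Groth.Agent.Helper3.SepMax

set_option linter.style.haveILetI false
set_option linter.unusedSectionVars false
set_option linter.unusedVariables false
set_option linter.style.haveILetI false
set_option linter.unusedSectionVars false
set_option linter.unusedVariables false

open AlgebraicGeometry CategoryTheory CategoryTheory.Limits TensorProduct Function

namespace Groth.Agent.Helper3.GeomRedProd

universe u

/-- A reduced algebra tensored with a geometrically reduced algebra is reduced. -/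
theorem isReduced_tensor {k : Type u} [Field k] (C A : Type u) [CommRing C] [Algebra k C]
    [IsReduced C] [CommRing A] [Algebra k A] [Algebra.IsGeometricallyReduced k A] :
    IsReduced (C ⊗[k] A) := by
  let 𝓑 := Module.Free.chooseBasis k A
  constructor
  intro z hz
  have hcoord : ∀ i, (Algebra.TensorProduct.basis C 𝓑).repr z i = 0 := by
    intro i
    set c := (Algebra.TensorProduct.basis C 𝓑).repr z i with hc
    have hmem : c ∈ nilradical C := by
      rw [nilradical_eq_sInf, Ideal.mem_sInf]
      intro 𝔭 h𝔭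
      haveI : 𝔭.IsPrime := h𝔭
      let φ : C →ₐ[k] 𝔭.ResidueField := IsScalarTower.toAlgHom k C 𝔭.ResidueField
      have hφ : φ c = 0 := by
        rw [hc, ← Groth.Agent.Helper4.GeomRedMin.repr_map 𝓑 φ z i]
        have h1 : IsNilpotent (Algebra.TensorProduct.map φ (AlgHom.id k A) z) := hz.map _
        have h2 : IsReduced (𝔭.ResidueField ⊗[k] A) :=
          Groth.Agent.Helper4.GeomRed.isReduced_tensor_of_isGeometricallyReduced A 𝔭.ResidueField
        rw [h2.eq_zero _ h1]
        simp
      have : algebraMap C 𝔭.ResidueField c = 0 := hφ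
      rwa [Ideal.algebraMap_residueField_eq_zero] at this
    rwa [nilradical_eq_zero] at hmem
  apply (Algebra.TensorProduct.basis C 𝓑).repr.injective
  ext i
  rw [hcoord i]
  simp

/-- The tensor product of geometrically reduced algebras is geometrically reduced. -/
theorem isGeometricallyReduced_tensor {k : Type u} [Field k] (A B : Type u) [CommRing A]
    [Algebra k A] [Algebra.IsGeometricallyReduced k A] [CommRing B] [Algebra k B]
    [Algebra.IsGeometricallyReduced k B] : Algebra.IsGeometricallyReduced k (A ⊗[k] B) := by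
  rw [Algebra.isGeometricallyReduced_field_iff]
  haveI h1 : IsReduced (AlgebraicClosure k ⊗[k] A) :=
    (Algebra.isGeometricallyReduced_field_iff k A).mp inferInstance
  haveI h2 : IsReduced ((AlgebraicClosure k ⊗[k] A) ⊗[k] B) := isReduced_tensor _ B
  exact isReduced_of_injective
    (Algebra.TensorProduct.assoc k k k (AlgebraicClosure k) A B).symm.toRingHom
    (Algebra.TensorProduct.assoc k k k (AlgebraicClosure k) A B).symm.injective


open Groth.Agent.Helper3.GeomRedPt3 in
/-- affine case of the product -/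
theorem isReduced_pullback_affine (k : Type u) [Field k] (A B : CommRingCat.{u})
    (φ₁ : CommRingCat.of k ⟶ A) (φ₂ : CommRingCat.of k ⟶ B)
    [GeometricallyReduced (Spec.map φ₁)] [GeometricallyReduced (Spec.map φ₂)]
    (K : Type u) [Field K] [Algebra k K] :
    IsReduced (pullback (pullback.fst (Spec.map φ₁) (Spec.map φ₂) ≫ Spec.map φ₁)
      (Spec.map (CommRingCat.ofHom (algebraMap k K)))) := by
  letI := φ₁.hom.toAlgebra
  letI := φ₂.hom.toAlgebra
  have h1 : φ₁ = CommRingCat.ofHom (algebraMap k A) := rfl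
  have h2 : φ₂ = CommRingCat.ofHom (algebraMap k B) := rfl
  haveI : GeometricallyReduced (Spec.map (CommRingCat.ofHom (algebraMap k A))) := by
    rw [← h1]; infer_instance
  haveI : GeometricallyReduced (Spec.map (CommRingCat.ofHom (algebraMap k B))) := by
    rw [← h2]; infer_instance
  haveI : Algebra.IsGeometricallyReduced k A := isGeometricallyReduced_of_Spec k A
  haveI : Algebra.IsGeometricallyReduced k B := isGeometricallyReduced_of_Spec k B
  haveI : Algebra.IsGeometricallyReduced k (A ⊗[k] B) := isGeometricallyReduced_tensor A B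
  rw [h1, h2]
  let e := pullbackSpecIso k A B
  let α := Spec.map (CommRingCat.ofHom (algebraMap k (A ⊗[k] B)))
  let s' := Spec.map (CommRingCat.ofHom (algebraMap k K))
  have hbase : pullback.fst (Spec.map (CommRingCat.ofHom (algebraMap k A)))
      (Spec.map (CommRingCat.ofHom (algebraMap k B))) ≫
      Spec.map (CommRingCat.ofHom (algebraMap k A)) = e.hom ≫ α :=
    (pullbackSpecIso_hom_base k A B).symm
  rw [hbase]
  haveI : IsReduced (pullback α s') :=
    (Groth.Agent.Helper4.GeomRedSch.isReduced_pullback_Spec_iff (k := k) (A ⊗[k] B) K).mpr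
      (Groth.Agent.Helper4.GeomRed.isReduced_tensor_of_isGeometricallyReduced _ K)
  let m : pullback (e.hom ≫ α) s' ⟶ pullback α s' :=
    pullback.map _ _ _ _ e.hom (𝟙 _) (𝟙 _) (by rw [Category.comp_id])
      (by rw [Category.comp_id, Category.id_comp])
  haveI : IsIso m := by dsimp only [m]; infer_instance
  exact isReduced_of_isOpenImmersion m

theorem isReduced_pullback_affine' (k : Type u) [Field k] (A B : CommRingCat.{u})
    (a₁ : Spec A ⟶ Spec (CommRingCat.of k)) (a₂ : Spec B ⟶ Spec (CommRingCat.of k))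
    [GeometricallyReduced a₁] [GeometricallyReduced a₂]
    (K : Type u) [Field K] [Algebra k K] :
    IsReduced (pullback (pullback.fst a₁ a₂ ≫ a₁)
      (Spec.map (CommRingCat.ofHom (algebraMap k K)))) := by
  obtain ⟨φ₁, rfl⟩ := Spec.map_surjective a₁
  obtain ⟨φ₂, rfl⟩ := Spec.map_surjective a₂
  exact isReduced_pullback_affine k A B φ₁ φ₂ K

open Groth.Agent.Helper3.GeomRedPt3 in
/-- products of geometrically reduced schemes over a field are geometrically reduced -/
theorem geometricallyReduced_prod (k : Type u) [Field k] {Z₁ Z₂ : Scheme.{u}}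
    (g₁ : Z₁ ⟶ Spec (CommRingCat.of k)) (g₂ : Z₂ ⟶ Spec (CommRingCat.of k))
    [GeometricallyReduced g₁] [GeometricallyReduced g₂] :
    GeometricallyReduced (pullback.fst g₁ g₂ ≫ g₁) := by
  constructor
  rw [geometrically_iff_of_commRing_of_isClosedUnderIsomorphisms]
  intro K _ _
  let 𝒱₁ := Z₁.affineOpenCover
  let 𝒱₂ := Z₂.affineOpenCover
  let 𝒲 := Scheme.Pullback.openCoverOfLeftRight 𝒱₁.openCover 𝒱₂.openCover g₁ g₂
  refine (IsReduced.iff_of_openCover _ (Scheme.Pullback.openCoverOfLeft 𝒲
    (pullback.fst g₁ g₂ ≫ g₁) (Spec.map (CommRingCat.ofHom (algebraMap k K))))).mpr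
    (fun (ij : 𝒱₁.I₀ × 𝒱₂.I₀) => ?_)
  show IsReduced (pullback (𝒲.f ij ≫ pullback.fst g₁ g₂ ≫ g₁)
    (Spec.map (CommRingCat.ofHom (algebraMap k K))))
  haveI : IsOpenImmersion (𝒱₁.f ij.1) := 𝒱₁.map_prop ij.1
  haveI : IsOpenImmersion (𝒱₂.f ij.2) := 𝒱₂.map_prop ij.2
  haveI : GeometricallyReduced (𝒱₁.f ij.1 ≫ g₁) := geomRed_comp_openImmersion _ g₁
  haveI : GeometricallyReduced (𝒱₂.f ij.2 ≫ g₂) := geomRed_comp_openImmersion _ g₂
  have e : 𝒲.f ij ≫ pullback.fst g₁ g₂ ≫ g₁ =
      pullback.fst (𝒱₁.f ij.1 ≫ g₁) (𝒱₂.f ij.2 ≫ g₂) ≫ 𝒱₁.f ij.1 ≫ g₁ := by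
    simp only [𝒲, Scheme.Pullback.openCoverOfLeftRight_f]
    rw [← Category.assoc, ← Category.assoc]
    congr 1
    exact pullback.lift_fst _ _ _
  rw [e]
  exact isReduced_pullback_affine' k _ _ (𝒱₁.f ij.1 ≫ g₁) (𝒱₂.f ij.2 ≫ g₂) K

end Groth.Agent.Helper3.GeomRedProd
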