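import Mathlib
import Groth.Prelude.Def_AlgGrp
import Groth.Agent.Helper3.SepGrp
import Groth.Agent.Helper3.SepMax
import Groth.Agent.Helper3.GeomRedProd
import Groth.Agent.Helper2.SmoothRegSch

set_option autoImplicit false
set_option linter.style.haveILetI false
set_option linter.unusedSectionVars false
set_option linter.unusedVariables false
set_option linter.style.haveILetI false
set_option linter.unusedSectionVars false
set_option linter.unusedVariables false
universe u
open scoped TensorProduct
open CategoryTheory CategoryTheory.Limits MonoidalCategory CartesianMonoidalCategory MonObj GrpObj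
  AlgebraicGeometry

namespace Groth.Agent.Helper3.SubGrpStable

open Groth.Agent.Helper3.SepPts Groth.Agent.Helper3.GeomRedSm Groth.Agent.Helper3.GrpGeomRed

/-- A geometrically reduced closed subscheme of a group scheme (lft over a field) which contains
the unit and is set-theoretically stable under multiplication and inversion is a smooth subgroup
scheme. -/
theorem smooth_grp_of_stable (k : Type u) [Field k] (G : Over (Spec (CommRingCat.of k)))
    [GrpObj G] [LocallyOfFiniteType G.hom]
    (Z : Over (Spec (CommRingCat.of k))) (z : Z ⟶ G) [IsClosedImmersion z.left]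
    [GeometricallyReduced Z.hom]
    (he : Set.range η[G].left.base ⊆ Set.range z.left.base)
    (hm : Set.range ((z ⊗ₘ z) ≫ μ[G]).left.base ⊆ Set.range z.left.base)
    (hi : Set.range (z ≫ ι[G]).left.base ⊆ Set.range z.left.base) :
    Smooth Z.hom ∧ ∃ inst : GrpObj Z, IsMonHom z := by
  haveI : LocallyOfFiniteType Z.hom := by rw [← Over.w z]; infer_instance
  haveI : Mono z := Over.mono_of_mono_left z
  haveI : IsReduced Z.left := isReduced_of_geometricallyReduced k Z.hom
  haveI : GeometricallyReduced (Z ⊗ Z).hom := by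
    rw [Over.tensorObj_hom]
    exact Groth.Agent.Helper3.GeomRedProd.geometricallyReduced_prod k Z.hom Z.hom
  haveI : IsReduced (Z ⊗ Z).left := isReduced_of_geometricallyReduced k (Z ⊗ Z).hom
  haveI : IsReduced (𝟙_ (Over (Spec (CommRingCat.of k)))).left := by
    show IsReduced (Spec (CommRingCat.of k))
    infer_instance
  have liftOver : ∀ (T : Over (Spec (CommRingCat.of k))) [IsReduced T.left] (φ : T ⟶ G),
      Set.range φ.left.base ⊆ Set.range z.left.base → ∃ ψ : T ⟶ Z, ψ ≫ z = φ := by
    intro T _ φ h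
    obtain ⟨ψ, hψ⟩ := lift_of_reduced z.left φ.left h
    refine ⟨Over.homMk ψ (by rw [← Over.w z, ← Category.assoc, hψ, Over.w φ]), ?_⟩
    ext
    exact hψ
  obtain ⟨e, he'⟩ := liftOver _ η[G] he
  obtain ⟨m, hm'⟩ := liftOver _ ((z ⊗ₘ z) ≫ μ[G]) hm
  obtain ⟨i', hi'⟩ := liftOver _ (z ≫ ι[G]) hi
  letI inst : GrpObj Z := Groth.Agent.Helper9.SubGrpObj.grpObjOfMono z e m i' he' hm' hi'
  have hmon : IsMonHom z :=
    Groth.Agent.Helper9.SubGrpObj.isMonHom_of_grpObjOfMono z e m i' he' hm' hi'
  refine ⟨?_, inst, hmon⟩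
  letI : GrpObj (Over.mk Z.hom) := inst
  apply smooth_of_nonempty_smoothLocus Z.hom
  haveI : Nonempty Z.left := ⟨e.left.base (IsLocalRing.closedPoint k)⟩
  exact (dense_smoothLocus k Z.hom).nonempty

/-- S15604 -/
theorem main (k : Type u) [Field k]
    (G G' : Over (Spec (CommRingCat.of k))) [GrpObj G] [GrpObj G'] [Smooth G.hom] [QuasiCompact G.hom]
    [LocallyOfFiniteType G'.hom] [QuasiCompact G'.hom] (f : G ⟶ G') [IsMonHom f]
    (H : Scheme.{u}) (i : H ⟶ G'.left) [IsClosedImmersion i] [IsReduced H]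
    (hH : Set.range i.base = Set.range f.left.base) : Smooth (i ≫ G'.hom) := by
  haveI : GeometricallyReduced G.hom :=
    Groth.Agent.Helper2.SmoothRegSch.geometricallyReduced_of_smooth k _ _
  haveI : IsReduced G.left := isReduced_of_geometricallyReduced k G.hom
  let Z : Over (Spec (CommRingCat.of k)) := Over.mk (i ≫ G'.hom)
  let z : Z ⟶ G' := Over.homMk i rfl
  haveI : IsClosedImmersion z.left := ‹IsClosedImmersion i›
  obtain ⟨ψ₀, hψ₀⟩ := lift_of_reduced i f.left (by rw [hH])
  let ψ : G ⟶ Z := Over.homMk ψ₀ (by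
    show ψ₀ ≫ i ≫ G'.hom = G.hom
    rw [← Category.assoc, hψ₀, Over.w f])
  have hψ : ψ ≫ z = f := by ext; exact hψ₀
  have hinj : Function.Injective i.base := i.isClosedEmbedding.injective
  haveI hsurj : Surjective ψ.left := ⟨fun w => by
    have : i.base w ∈ Set.range f.left.base := by rw [← hH]; exact ⟨w, rfl⟩
    obtain ⟨v, hv⟩ := this
    refine ⟨v, hinj ?_⟩
    rw [← hv, ← hψ₀]
    rfl⟩
  -- density of separable points
  have hd : Dense (i.base ⁻¹' sepSet k G'.hom) := by
    have h1 : Dense (ψ₀.base '' genericPoints G.left) := by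
      have := (hsurj.surj : Function.Surjective ψ₀.base).denseRange.dense_image ψ₀.continuous
        (s := genericPoints G.left) (by
          rw [dense_iff_closure_eq]; exact genericPoints.closure)
      exact this
    refine h1.mono ?_
    rintro _ ⟨g, hg, rfl⟩
    obtain ⟨K, _, _, _, x, hx, hxg⟩ := genericPoints_subset_sepSet k G.hom hg
    refine ⟨K, inferInstance, inferInstance, inferInstance, x ≫ f.left, ?_, ?_⟩
    · rw [Category.assoc, Over.w f, hx]
    · rw [Scheme.Hom.comp_apply, hxg, ← hψ₀]
      rfl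
  haveI : GeometricallyReduced Z.hom :=
    Groth.Agent.Helper3.SepMax.geometricallyReduced_of_dense k G'.hom i hd
  have hrange : ∀ {T : Over (Spec (CommRingCat.of k))} (a : T ⟶ G),
      Set.range (a ≫ f).left.base ⊆ Set.range z.left.base := by
    intro T a
    rintro _ ⟨t, rfl⟩
    refine ⟨ψ.left.base (a.left.base t), ?_⟩
    rw [← hψ]
    rfl
  refine (smooth_grp_of_stable k G' Z z ?_ ?_ ?_).1
  · rw [← IsMonHom.one_hom f]
    exact hrange _
  · have hs : Surjective (ψ ⊗ₘ ψ).left := by
      rw [Over.tensorHom_left]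
      exact MorphismProperty.pullbackMap (P := @Surjective) hsurj hsurj (Over.w ψ).symm
        (Over.w ψ).symm
    rintro _ ⟨w, rfl⟩
    obtain ⟨v, rfl⟩ := hs.surj w
    have e1 : (ψ ⊗ₘ ψ) ≫ (z ⊗ₘ z) ≫ μ[G'] = (μ[G]) ≫ f := by
      rw [← Category.assoc, tensorHom_comp_tensorHom, hψ, IsMonHom.mul_hom f]
    have := hrange (T := G ⊗ G) μ[G] ⟨v, rfl⟩
    rw [← e1] at this
    exact this
  · rintro _ ⟨w, rfl⟩
    obtain ⟨v, rfl⟩ := hsurj.surj w
    have e1 : ψ ≫ z ≫ ι[G'] = ι[G] ≫ f := by
      rw [← Category.assoc, hψ, GrpObj.inv_hom]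
    have := hrange (T := G) ι[G] ⟨v, rfl⟩
    rw [← e1] at this
    exact this

end Groth.Agent.Helper3.SubGrpStable
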