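import Mathlib
import Groth.Prelude.Def_AlgGrp
import Groth.Agent.Helper3.SubGrpStable
import Groth.Agent.Helper3.RatPtsMulInv
import Groth.Agent.S4372

set_option autoImplicit false
set_option linter.style.haveILetI false
set_option linter.unusedSectionVars false
set_option linter.unusedVariables false
set_option linter.style.haveILetI false
set_option linter.unusedSectionVars false
set_option linter.unusedVariables false
universe u
open scoped TensorProduct
open CategoryTheory CategoryTheory.Limits MonoidalCategory CartesianMonoidalCategory MonObj GrpObj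
  AlgebraicGeometry

namespace Groth.Agent.Helper3.ClosureSubgrp

open Groth.Agent.Helper3.SepPts Groth.Agent.Helper3.RatPtsMulInv
  Groth.Agent.Helper3.SubGrpStable

/-- A point of `Z ×ₖ Z` whose first projection is a rational point `s` lies in the image of
`(s, id) : Z → Z ×ₖ Z`. -/
theorem mem_range_of_fst_eq {k : Type u} [Field k] (Z : Over (Spec (CommRingCat.of k)))
    (s : 𝟙_ (Over (Spec (CommRingCat.of k))) ⟶ Z) (w : ↥(Z ⊗ Z).left)
    (hw : (fst Z Z).left.base w = s.left.base (IsLocalRing.closedPoint k)) :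
    w ∈ Set.range (lift (toUnit Z ≫ s) (𝟙 Z)).left.base := by
  have hw' : (pullback.fst Z.hom Z.hom).base w = s.left.base (IsLocalRing.closedPoint k) := hw
  obtain ⟨a, ha, -⟩ := Scheme.Pullback.exists_preimage_pullback
    (f := pullback.fst Z.hom Z.hom) (g := s.left) w (IsLocalRing.closedPoint k) hw'
  let θ : pullback (pullback.fst Z.hom Z.hom) s.left ⟶ Z.left :=
    pullback.fst _ _ ≫ pullback.snd Z.hom Z.hom
  have hs : s.left ≫ Z.hom = 𝟙 _ := Over.w s
  have key : pullback.fst (pullback.fst Z.hom Z.hom) s.left =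
      θ ≫ (lift (toUnit Z ≫ s) (𝟙 Z)).left := by
    apply pullback.hom_ext
    · have h1 : (lift (toUnit Z ≫ s) (𝟙 Z)).left ≫ pullback.fst Z.hom Z.hom =
          (toUnit Z ≫ s).left := by
        rw [← Over.fst_left, ← Over.comp_left, lift_fst]
      rw [Category.assoc, h1, Over.comp_left, Over.toUnit_left, pullback.condition]
      have h2 : pullback.snd (pullback.fst Z.hom Z.hom) s.left = θ ≫ Z.hom := by
        calc pullback.snd (pullback.fst Z.hom Z.hom) s.left
            = pullback.snd (pullback.fst Z.hom Z.hom) s.left ≫ s.left ≫ Z.hom := by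
              rw [hs, Category.comp_id]
          _ = θ ≫ Z.hom := by
              rw [← Category.assoc, ← pullback.condition, Category.assoc, pullback.condition,
                ← Category.assoc]
      rw [h2, Category.assoc]
    · have h1 : (lift (toUnit Z ≫ s) (𝟙 Z)).left ≫ pullback.snd Z.hom Z.hom = 𝟙 _ := by
        rw [← Over.snd_left, ← Over.comp_left, lift_snd]; rfl
      rw [Category.assoc, h1, Category.comp_id]
  refine ⟨θ.base a, ?_⟩
  rw [← Scheme.Hom.comp_apply, ← key]
  exact ha

theorem main (k : Type u) [Field k]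
    (G : Over (Spec (CommRingCat.of k))) [GrpObj G] [Smooth G.hom] [QuasiCompact G.hom]
    (S : Subgroup (𝟙_ (Over (Spec (CommRingCat.of k))) ⟶ G)) :
    ∃ (H : Over (Spec (CommRingCat.of k))) (_ : GrpObj H) (i : H ⟶ G), IsMonHom i ∧ IsClosedImmersion i.left ∧ Smooth H.hom ∧
      Set.range i.left.base =
        closure ((fun s : (𝟙_ (Over (Spec (CommRingCat.of k))) ⟶ G) => s.left.base (IsLocalRing.closedPoint k)) '' (S : Set _)) := by
  set pts : (𝟙_ (Over (Spec (CommRingCat.of k))) ⟶ G) → G.left :=
    fun s => s.left.base (IsLocalRing.closedPoint k) with hpts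
  set P : Set G.left := pts '' (S : Set _) with hP
  let C : TopologicalSpace.Closeds G.left := ⟨closure P, isClosed_closure⟩
  let I := Scheme.IdealSheafData.vanishingIdeal C
  let z₀ : I.subscheme ⟶ G.left := I.subschemeι
  haveI : IsReduced I.subscheme := Groth.Agent.S4372.isReduced_vanishingIdeal_subscheme C
  have hrange : Set.range z₀.base = closure P := by
    rw [Scheme.IdealSheafData.range_subschemeι, Scheme.IdealSheafData.coe_support_vanishingIdeal]
    rfl
  have hdP : Dense (z₀.base ⁻¹' P) := by
    rw [dense_iff_closure_eq, z₀.isEmbedding.isInducing.closure_eq_preimage_closure_image,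
      Set.image_preimage_eq_inter_range, hrange,
      Set.inter_eq_left.mpr subset_closure, ← hrange]
    exact Set.preimage_range _
  haveI : Algebra.IsGeometricallyReduced k k := by
    rw [Algebra.isGeometricallyReduced_field_iff]
    exact isReduced_of_injective (Algebra.TensorProduct.rid k k (AlgebraicClosure k)).toRingHom
      (Algebra.TensorProduct.rid k k (AlgebraicClosure k)).injective
  have hPsep : P ⊆ sepSet k G.hom := by
    rintro _ ⟨s, -, rfl⟩
    refine ⟨k, inferInstance, inferInstance, inferInstance, s.left, ?_, rfl⟩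
    rw [Over.w s, Algebra.algebraMap_self]
    exact (Spec.map_id _).symm
  have hd : Dense (z₀.base ⁻¹' sepSet k G.hom) := hdP.mono (Set.preimage_mono hPsep)
  let Z : Over (Spec (CommRingCat.of k)) := Over.mk (z₀ ≫ G.hom)
  let z : Z ⟶ G := Over.homMk z₀ rfl
  haveI : IsClosedImmersion z.left := by
    show IsClosedImmersion I.subschemeι
    infer_instance
  haveI hgr : GeometricallyReduced Z.hom :=
    Groth.Agent.Helper3.SepMax.geometricallyReduced_of_dense k G.hom z₀ hd
  haveI : LocallyOfFiniteType Z.hom := by rw [← Over.w z]; infer_instance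
  have hrange' : Set.range z.left.base = closure P := hrange
  -- lifts of the points of `S`
  have hlift : ∀ s ∈ S, ∃ s' : 𝟙_ (Over (Spec (CommRingCat.of k))) ⟶ Z, s' ≫ z = s := by
    intro s hs
    haveI : IsReduced (𝟙_ (Over (Spec (CommRingCat.of k)))).left := by
      show IsReduced (Spec (CommRingCat.of k))
      infer_instance
    have hsub : ∀ a : ↥(𝟙_ (Over (Spec (CommRingCat.of k)))).left,
        a = IsLocalRing.closedPoint k := fun a => Subsingleton.elim (α := PrimeSpectrum k) _ _
    obtain ⟨ψ, hψ⟩ := lift_of_reduced z.left s.left (by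
      rintro _ ⟨a, rfl⟩
      rw [hrange', hsub a]
      exact subset_closure ⟨s, hs, rfl⟩)
    refine ⟨Over.homMk ψ (by rw [← Over.w z, ← Category.assoc, hψ, Over.w s]), ?_⟩
    ext
    exact hψ
  -- stability of closure P under continuous maps preserving P
  have hstab : ∀ (φ : G ⟶ G), (∀ p ∈ P, φ.left.base p ∈ P) →
      ∀ c ∈ closure P, φ.left.base c ∈ closure P := by
    intro φ hφ c hc
    have h1 := image_closure_subset_closure_image φ.left.continuous (s := P) ⟨c, hc, rfl⟩
    have h2 : φ.left.base '' P ⊆ P := by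
      rintro _ ⟨p, hp, rfl⟩
      exact hφ p hp
    exact closure_mono h2 h1
  have hsub1 : ∀ a : ↥(𝟙_ (Over (Spec (CommRingCat.of k)))).left,
      a = IsLocalRing.closedPoint k := fun a => Subsingleton.elim (α := PrimeSpectrum k) _ _
  have htr : ∀ s ∈ S, ∀ c ∈ closure P, (tr s).left.base c ∈ closure P := by
    intro s hs
    apply hstab
    rintro _ ⟨σ, hσ, rfl⟩
    refine ⟨s * σ, S.mul_mem hs hσ, ?_⟩
    show (s * σ).left.base _ = (tr s).left.base (σ.left.base _)
    rw [← pt_comp_tr]
    rfl
  refine ⟨Z, ?_⟩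
  suffices hh : Set.range η[G].left.base ⊆ Set.range z.left.base ∧
      Set.range ((z ⊗ₘ z) ≫ μ[G]).left.base ⊆ Set.range z.left.base ∧
      Set.range (z ≫ ι[G]).left.base ⊆ Set.range z.left.base by
    obtain ⟨hsm, inst, hmon⟩ := smooth_grp_of_stable k G Z z hh.1 hh.2.1 hh.2.2
    exact ⟨inst, z, hmon, inferInstance, hsm, hrange'⟩
  refine ⟨?_, ?_, ?_⟩
  · -- unit
    rintro _ ⟨a, rfl⟩
    rw [hrange', hsub1 a]
    exact subset_closure ⟨1, S.one_mem, rfl⟩
  · -- multiplication
    let E : Set ↥(Z ⊗ Z).left := ((z ⊗ₘ z) ≫ μ[G]).left.base ⁻¹' closure P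
    have hEcl : IsClosed E := isClosed_closure.preimage ((z ⊗ₘ z) ≫ μ[G]).left.continuous
    have hEd : Dense E := by
      rw [dense_iff_inter_open]
      intro W hW hWne
      haveI : Flat Z.hom := inferInstance
      haveI : UniversallyOpen Z.hom := inferInstance
      have hopen : IsOpenMap (pullback.fst Z.hom Z.hom).base :=
        (pullback.fst Z.hom Z.hom).isOpenMap
      have hW' : IsOpen ((pullback.fst Z.hom Z.hom).base '' W) := hopen W hW
      obtain ⟨_, ⟨w, hwW, rfl⟩, s, hs, hsw⟩ :=
        hdP.inter_open_nonempty _ hW' (hWne.image _)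
      obtain ⟨s', hs'⟩ := hlift s hs
      have hsw' : (fst Z Z).left.base w = s'.left.base (IsLocalRing.closedPoint k) := by
        apply z.left.isClosedEmbedding.injective
        show z₀.base ((pullback.fst Z.hom Z.hom).base w) = _
        rw [← hsw, ← hs']
        rfl
      obtain ⟨v, hv⟩ := mem_range_of_fst_eq Z s' w hsw'
      refine ⟨w, hwW, ?_⟩
      show ((z ⊗ₘ z) ≫ μ[G]).left.base w ∈ closure P
      rw [← hv, ← Scheme.Hom.comp_apply, ← Over.comp_left]
      have e1 : lift (toUnit Z ≫ s') (𝟙 Z) ≫ (z ⊗ₘ z) ≫ μ[G] = z ≫ tr s := by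
        rw [← Category.assoc, lift_map, Category.assoc, hs', Category.id_comp]
        unfold tr
        rw [MonObj.comp_mul, Category.comp_id, ← Category.assoc,
          toUnit_unique (z ≫ toUnit G) (toUnit Z), Hom.mul_def]
      rw [e1, Over.comp_left, Scheme.Hom.comp_apply]
      apply htr s hs
      rw [← hrange']
      exact ⟨v, rfl⟩
    intro x hx
    obtain ⟨w, rfl⟩ := hx
    have : w ∈ E := by
      have := hEd.closure_eq
      rw [hEcl.closure_eq] at this
      rw [this]; trivial
    rw [hrange']
    exact this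
  · -- inverse
    rintro _ ⟨w, rfl⟩
    rw [hrange']
    show ι[G].left.base (z.left.base w) ∈ closure P
    apply hstab ι[G]
    · rintro _ ⟨σ, hσ, rfl⟩
      refine ⟨σ⁻¹, S.inv_mem hσ, ?_⟩
      show (σ⁻¹).left.base _ = ι[G].left.base (σ.left.base _)
      rw [Hom.inv_def]
      rfl
    · rw [← hrange']
      exact ⟨w, rfl⟩

end Groth.Agent.Helper3.ClosureSubgrp
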