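import Mathlib
import Groth.Prelude
import Groth.Agent.Helper3.CnIsoB

set_option autoImplicit false
set_option linter.style.haveILetI false
set_option linter.unusedSectionVars false
set_option linter.unusedVariables false
set_option linter.deprecated false
set_option linter.style.haveILetI false
set_option linter.unusedSectionVars false
set_option linter.unusedVariables false

open CategoryTheory Limits AlgebraicGeometry TopologicalSpace Opposite TensorProduct
universe u

namespace Groth.Agent.Helper3.CnIsoC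
open Groth.Agent.Helper4 Groth.Agent.Helper4.StalkDict Groth.Agent.Lead
open Groth.Agent.Helper1.IdealMod (fn ofFn)
open RingTheory.Sequence Groth.Agent.Helper3.CnIsoB

variable {X Y : Scheme.{u}}

/-- germs of a basis over an affine open span the stalk -/
theorem span_germ_basis (E : X.Modules) [E.IsQuasicoherent] {U : X.Opens} (hU : IsAffineOpen U)
    {n : ℕ} (b : Module.Basis (Fin n) Γ(X, U) Γ(E, U)) (x : X) (hx : x ∈ U) :
    Submodule.span (X.presheaf.stalk x) (Set.range fun k => E.presheaf.germ U x hx (b k)) = ⊤ := by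
  letI := sectionModStalk E x hx
  letI := X.presheaf.algebra_section_stalk ⟨x, hx⟩
  haveI := hU.isLocalization_stalk ⟨x, hx⟩
  haveI := isLocalizedModule_germ hU E x hx
  haveI : IsScalarTower Γ(X, U) (X.presheaf.stalk x) (E.presheaf.stalk x) :=
    IsScalarTower.of_algebraMap_smul (fun r m => rfl)
  let B := b.ofIsLocalizedModule (X.presheaf.stalk x)
    (hU.primeIdealOf ⟨x, hx⟩).asIdeal.primeCompl (germLin E x hx)
  have hB : (fun k => E.presheaf.germ U x hx (b k)) = B := by
    funext k
    exact (Module.Basis.ofIsLocalizedModule_apply (X.presheaf.stalk x)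
      (hU.primeIdealOf ⟨x, hx⟩).asIdeal.primeCompl (germLin E x hx) b k).symm
  rw [hB]
  exact B.span_eq


/-- the local injectivity statement -/
theorem baseChange_stalk_injective (n : ℕ) (E : X.Modules) [E.IsQuasicoherent]
    (s : E ⟶ Coh.structureModule X) (i : Y ⟶ X) [IsClosedImmersion i]
    (t : E ⟶ ClSub.idealMod i.ker) [Epi t] (hts : t ≫ ClSub.idealModι i.ker = s) (y : Y)
    (U : X.affineOpens) (hxU : i y ∈ U.1)
    (b : Module.Basis (Fin n) Γ(X, U.1) Γ(E, U.1))
    (hreg : IsWeaklyRegular Γ(X, U.1) (List.ofFn fun k => fn (s.app U.1 (b k))))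
    [alg : Algebra (X.presheaf.stalk (i y)) (Y.presheaf.stalk y)]
    (halg : ∀ a, algebraMap (X.presheaf.stalk (i y)) (Y.presheaf.stalk y) a = (i.stalkMap y).hom a) :
    Function.Injective ((stalkLin t (i y)).baseChange (Y.presheaf.stalk y)) := by
  have hkereq : RingHom.ker (algebraMap (X.presheaf.stalk (i y)) (Y.presheaf.stalk y)) =
      RingHom.ker (i.stalkMap y).hom := by
    ext a
    rw [RingHom.mem_ker, RingHom.mem_ker, halg]
  have hφ : Function.Surjective (algebraMap (X.presheaf.stalk (i y)) (Y.presheaf.stalk y)) := by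
    intro c
    obtain ⟨a, ha⟩ := i.stalkMap_surjective y c
    exact ⟨a, (halg a).trans ha⟩
  let g : Fin n → Γ(X, U.1) := fun k => fn (s.app U.1 (b k))
  let e : Fin n → E.presheaf.stalk (i y) := fun k => E.presheaf.germ U.1 (i y) hxU (b k)
  have he : Submodule.span (X.presheaf.stalk (i y)) (Set.range e) = ⊤ :=
    span_germ_basis E U.2 b (i y) hxU
  have hιt : ∀ m : Γ(E, U.1), fn ((ClSub.idealModι i.ker).app U.1 (t.app U.1 m)) = fn (s.app U.1 m) := by
    intro m
    rw [← hts]
    rfl
  have hfg : ∀ k, iotaStalk i.ker (i y) (stalkLin t (i y) (e k)) = X.presheaf.germ U.1 (i y) hxU (g k) := by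
    intro k
    change iotaStalk i.ker (i y) (stalkLin t (i y) (E.presheaf.germ U.1 (i y) hxU (b k))) = _
    rw [StalkExact.stalkLin_germ, iotaStalk_germ, hιt]
  have hfun : (fun k => iotaStalk i.ker (i y) (stalkLin t (i y) (e k))) =
      fun k => X.presheaf.germ U.1 (i y) hxU (g k) := funext hfg
  have hT : Function.Surjective (stalkLin t (i y)) := EpiStalk.stalkLin_surjective_of_epi t (i y)
  have hgmem : ∀ k, g k ∈ i.ker.ideal U := fun k =>
    (IdealModDict.exists_section_iff i.ker U _).mp ⟨t.app U.1 (b k), hιt (b k)⟩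
  refine CnIsoA.baseChange_injective hφ (stalkLin t (i y)) (iotaStalk i.ker (i y)) ?_ e he ?_ ?_
  · intro j
    rw [hkereq]
    exact iotaStalk_mem_ker i y j
  · rw [hkereq, ker_stalkMap_germ i y U hxU, hfun]
    apply le_antisymm
    · rw [Ideal.map_le_iff_le_comap]
      intro a ha
      rw [Ideal.mem_comap]
      obtain ⟨σ, hσ⟩ := (IdealModDict.exists_section_iff i.ker U a).mpr ha
      have h1 : X.presheaf.germ U.1 (i y) hxU a =
          iotaStalk i.ker (i y) ((ClSub.idealMod i.ker).presheaf.germ U.1 (i y) hxU σ) := by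
        rw [iotaStalk_germ, hσ]
        rfl
      obtain ⟨m, hm⟩ := hT ((ClSub.idealMod i.ker).presheaf.germ U.1 (i y) hxU σ)
      have hmspan : m ∈ Submodule.span (X.presheaf.stalk (i y)) (Set.range e) := by rw [he]; trivial
      obtain ⟨c, rfl⟩ := (Submodule.mem_span_range_iff_exists_fun _).mp hmspan
      change (X.presheaf.germ U.1 (i y) hxU) a ∈ _
      rw [h1, ← hm, map_sum, map_sum]
      apply Ideal.sum_mem
      intro k _
      rw [map_smul, map_smul, smul_eq_mul, hfg]
      exact Ideal.mul_mem_left _ _ (Ideal.subset_span ⟨k, rfl⟩)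
    · rw [Ideal.span_le]
      rintro _ ⟨k, rfl⟩
      exact Ideal.mem_map_of_mem _ (hgmem k)
  · rw [hfun]
    letI := X.presheaf.algebra_section_stalk ⟨i y, hxU⟩
    haveI := U.2.isLocalization_stalk ⟨i y, hxU⟩
    have h1 := hreg.of_isLocalization (X.presheaf.stalk (i y))
      (U.2.primeIdealOf ⟨i y, hxU⟩).asIdeal.primeCompl
    rw [List.map_ofFn] at h1
    exact Groth.Agent.Helper2.T1CI.isQuasiRegular_of_isWeaklyRegular _ h1

end Groth.Agent.Helper3.CnIsoC
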