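import Mathlib
import Groth.Prelude
import Groth.Agent.Helper3.CnIsoC

set_option autoImplicit false
set_option linter.style.haveILetI false
set_option linter.unusedSectionVars false
set_option linter.unusedVariables false
set_option linter.deprecated false
set_option linter.style.haveILetI false
set_option linter.unusedSectionVars false
set_option linter.unusedVariables false

open CategoryTheory Limits AlgebraicGeometry TopologicalSpace Opposite TensorProduct
universe u

namespace Groth.Agent.Helper3.CnIsoD
open Groth.Agent.Helper4 Groth.Agent.Helper4.StalkDict Groth.Agent.Lead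
open Groth.Agent.Helper1.IdealMod (fn ofFn)
open RingTheory.Sequence Groth.Agent.Helper3.CnIsoB Groth.Agent.Helper3.CnIsoC
open Groth.Agent.Helper9

variable {X Y : Scheme.{u}}

theorem main (n : ℕ) (E : X.Modules)
    (hE : FlatMod.IsFinLocFreeOfRank n E) (s : E ⟶ Coh.structureModule X)
    (hs : ∀ x : X, ∃ U : X.affineOpens, x ∈ U.1 ∧
      ∃ b : Module.Basis (Fin n) Γ(X, U.1) (E.val.obj (op U.1)),
        @RingTheory.Sequence.IsWeaklyRegular Γ(X, U.1) Γ(X, U.1) _ _ _ (List.ofFn fun k => (s.val.app (op U.1)).hom (b k)))
    (i : Y ⟶ X) [IsClosedImmersion i] (t : E ⟶ ClSub.idealMod i.ker) [Epi t]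
    (hts : t ≫ ClSub.idealModι i.ker = s) :
    IsIso ((Scheme.Modules.pullback i).map t) := by
  haveI : E.IsQuasicoherent := FinLocFree4.isQuasicoherent_of_isFinLocFree E (fun x => by
    obtain ⟨U, hx, h⟩ := hE x
    exact ⟨U, n, hx, h⟩)
  apply QcohLocal.isIso_of_stalkLin_bijective
  intro y
  constructor
  · obtain ⟨U, hxU, b, hreg⟩ := hs (i y)
    letI alg : Algebra (X.presheaf.stalk (i y)) (Y.presheaf.stalk y) :=
      ((algebraMap (Y.presheaf.stalk y) (Y.presheaf.stalk y)).comp (i.stalkMap y).hom).toAlgebra
    have key := baseChange_stalk_injective n E s i t hts y U hxU b hreg (fun a => rfl)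
    have nat := (SkyMod4.pullStalkIso y i).hom.naturality t
    have hC : Function.Injective ((SkyMod4.pullStalkIso y i).hom.app E).hom :=
      (ConcreteCategory.bijective_of_isIso ((SkyMod4.pullStalkIso y i).hom.app E)).1
    have hD : Function.Injective ((SkyMod4.St (i y) ⋙ SkyMod4.ext y i).map t).hom := key
    intro m₁ m₂ h
    apply hC
    apply hD
    have h1 := congrArg (fun ψ => ψ.hom m₁) nat
    have h2 := congrArg (fun ψ => ψ.hom m₂) nat
    simp only [ModuleCat.hom_comp, LinearMap.comp_apply] at h1 h2
    rw [← h1, ← h2]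
    congr 1
  · haveI : (Scheme.Modules.pullback i).PreservesEpimorphisms :=
      Functor.preservesEpimorphisms_of_adjunction (Scheme.Modules.pullbackPushforwardAdjunction i)
    haveI : Epi ((Scheme.Modules.pullback i).map t) := inferInstance
    exact EpiStalk.stalkLin_surjective_of_epi _ y

end Groth.Agent.Helper3.CnIsoD
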