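import Mathlib
import Groth.Agent.Lead.CnSplitD

set_option autoImplicit false
set_option linter.style.haveILetI false
set_option linter.unusedSectionVars false
set_option linter.unusedVariables false
set_option linter.style.haveILetI false
set_option linter.unusedSectionVars false
set_option linter.unusedVariables false
open CategoryTheory CategoryTheory.Limits AlgebraicGeometry Opposite TopologicalSpace
universe u

/-!
# Split conormal sequences: fibrewise injectivity of the conormal map without regularity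
-/

namespace Groth.Agent.Helper3.CnSplitE
open Scheme.Modules OmegaSh Groth.Agent.Lead Groth.Agent.Helper4 Groth.Agent.Lead.BCMap
open TensorProduct

/-- a local section of the second map of a short exact sequence gives a local retraction of the
first map -/
theorem exists_retraction {Z : Scheme.{u}} {A B C : Z.Modules} (a : A ⟶ B) (b : B ⟶ C)
    (w : a ≫ b = 0) (hex : (ShortComplex.mk a b w).ShortExact) (U : Z.Opens)
    (r : (restrictFunctor U.ι).obj C ⟶ (restrictFunctor U.ι).obj B)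
    (hr : r ≫ (restrictFunctor U.ι).map b = 𝟙 _) :
    ∃ ρ : (restrictFunctor U.ι).obj B ⟶ (restrictFunctor U.ι).obj A,
      (restrictFunctor U.ι).map a ≫ ρ = 𝟙 _ := by
  have hex' := hex.map_of_exact (restrictFunctor U.ι)
  haveI := hex'.mono_f
  let s := ShortComplex.Splitting.ofExactOfSection _ hex'.exact r hr inferInstance
  exact ⟨s.r, s.f_r⟩

section alg
variable {P S M N : Type u} [CommRing P] [CommRing S] [Algebra P S]
  [AddCommGroup M] [Module P M] [AddCommGroup N] [Module P N] [Module S N] [IsScalarTower P S N]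

/-- base change along a surjection reflects membership in `q • ⊤` -/
theorem mem_smul_top_of_isBaseChange (hsurj : Function.Surjective (algebraMap P S))
    (f : M →ₗ[P] N) (hf : IsBaseChange S f) (q : Ideal S) (m : M)
    (hm : f m ∈ q • (⊤ : Submodule S N)) :
    m ∈ (q.comap (algebraMap P S)) • (⊤ : Submodule P M) := by
  have hfs : Function.Surjective f := by
    intro n
    refine hf.inductionOn n (fun n => ∃ m, f m = n) ⟨0, map_zero f⟩ (fun m => ⟨m, rfl⟩) ?_ ?_
    · rintro s _ ⟨m, rfl⟩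
      obtain ⟨p, rfl⟩ := hsurj s
      exact ⟨p • m, by rw [_root_.map_smul, algebraMap_smul]⟩
    · rintro _ _ ⟨m, rfl⟩ ⟨m', rfl⟩
      exact ⟨m + m', map_add f m m'⟩
  have hker : ∀ m : M, f m = 0 → m ∈ (RingHom.ker (algebraMap P S)) • (⊤ : Submodule P M) := by
    intro m h0
    have h1 : hf.equiv ((1 : S) ⊗ₜ[P] m) = 0 := by
      rw [IsBaseChange.equiv_tmul, one_smul]
      exact h0
    have h2 : (1 : S) ⊗ₜ[P] m = 0 := hf.equiv.injective (h1.trans (map_zero _).symm)
    exact OmegaCnE.mem_smul_top_of_one_tmul_eq_zero P S M hsurj m h2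
  have hle : RingHom.ker (algebraMap P S) ≤ q.comap (algebraMap P S) := by
    intro x hx
    rw [Ideal.mem_comap, (RingHom.mem_ker).1 hx]
    exact q.zero_mem
  have key : ∀ n ∈ q • (⊤ : Submodule S N),
      ∃ m' ∈ (q.comap (algebraMap P S)) • (⊤ : Submodule P M), f m' = n := by
    intro n hn
    refine Submodule.smul_induction_on hn ?_ ?_
    · intro s hs n _
      obtain ⟨p, rfl⟩ := hsurj s
      obtain ⟨m₁, rfl⟩ := hfs n
      exact ⟨p • m₁, Submodule.smul_mem_smul hs Submodule.mem_top, by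
        rw [_root_.map_smul, algebraMap_smul]⟩
    · rintro _ _ ⟨m₁, hm₁, rfl⟩ ⟨m₂, hm₂, rfl⟩
      exact ⟨m₁ + m₂, Submodule.add_mem _ hm₁ hm₂, map_add f m₁ m₂⟩
  obtain ⟨m', hm', hfm'⟩ := key _ hm
  have h3 : m - m' ∈ (RingHom.ker (algebraMap P S)) • (⊤ : Submodule P M) :=
    hker _ (by rw [map_sub, hfm', sub_self])
  have h4 := Submodule.add_mem _ (Submodule.smul_mono_left hle h3) hm'
  simpa using h4

end alg

/-- pulling back sections along a morphism which is a closed immersion over the chart reflects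
membership in `q • ⊤` -/
theorem mem_smul_top_of_pullSect {X' X : Scheme.{u}} (h : X' ⟶ X) (M : X.Modules)
    [M.IsQuasicoherent] {U : X.Opens} (hU : IsAffineOpen U) (hV : IsAffineOpen (h ⁻¹ᵁ U))
    (hsurj : Function.Surjective (h.app U)) (q' : Ideal Γ(X', h ⁻¹ᵁ U)) (m : Γ(M, U))
    (hm : pullSect h M U m ∈ q' • (⊤ : Submodule Γ(X', h ⁻¹ᵁ U)
      Γ((Scheme.Modules.pullback h).obj M, h ⁻¹ᵁ U))) :
    m ∈ (q'.comap (h.app U).hom) • (⊤ : Submodule Γ(X, U) Γ(M, U)) := by
  have e : h ⁻¹ᵁ U ≤ h ⁻¹ᵁ U := le_rfl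
  letI algBC := (h.appLE U (h ⁻¹ᵁ U) e).hom.toAlgebra
  letI : Module Γ(X, U) Γ((Scheme.Modules.pullback h).obj M, h ⁻¹ᵁ U) :=
    Module.compHom _ (h.appLE U (h ⁻¹ᵁ U) e).hom
  haveI : IsScalarTower Γ(X, U) Γ(X', h ⁻¹ᵁ U)
      Γ((Scheme.Modules.pullback h).obj M, h ⁻¹ᵁ U) :=
    IsScalarTower.of_compHom _ _ _
  have halg : algebraMap Γ(X, U) Γ(X', h ⁻¹ᵁ U) = (h.app U).hom := by
    change (h.appLE U (h ⁻¹ᵁ U) e).hom = _
    rw [Scheme.Hom.appLE_eq_app]
  have hsurj' : Function.Surjective (algebraMap Γ(X, U) Γ(X', h ⁻¹ᵁ U)) := by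
    rw [halg]
    exact hsurj
  obtain ⟨ρ, hρ, hb⟩ := exists_isBaseChange_pbSec h M hU hV e
  have h1 := mem_smul_top_of_isBaseChange hsurj' ρ hb q' m (by
    rw [hρ, OmegaCnB.pbSec_self]
    exact hm)
  rwa [halg] at h1

section FI
variable {Z Y X : Scheme.{u}} (i : Z ⟶ Y) (j : Y ⟶ X) [IsImmersion i] [IsImmersion j]
  [QuasiCompact i] [QuasiCompact j]
  (a : (Scheme.Modules.pullback i).obj (Omega.conormal j) ⟶ Omega.conormal (i ≫ j))
  (ha : IsConormalMap (i ≫ j) j (𝟙 X) i a)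

include ha in
/-- **fibrewise injectivity** of the conormal map from a retraction over the chart, without any
regularity assumption -/
theorem fibre_condition {W : X.Opens} (hW : IsAffineOpen W) (hV : IsAffineOpen (j ⁻¹ᵁ W))
    (hO : IsAffineOpen (i ⁻¹ᵁ (j ⁻¹ᵁ W)))
    (hsj : Function.Surjective (j.app W)) (hsi : Function.Surjective (i.app (j ⁻¹ᵁ W)))
    (V₁ : Z.Opens) (hV₁ : V₁ = i ⁻¹ᵁ (j ⁻¹ᵁ W))
    (ρ₀ : Γ(Omega.conormal (i ≫ j), V₁) →ₗ[Γ(Z, V₁)]
      Γ((Scheme.Modules.pullback i).obj (Omega.conormal j), V₁))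
    (hρ₀ : ∀ x, ρ₀ (a.app V₁ x) = x)
    (q : Ideal Γ(X, W)) (hq : RingHom.ker ((i ≫ j).app W).hom ≤ q)
    (x : Γ(X, W)) (hxJ : x ∈ RingHom.ker (j.app W).hom)
    (hx : x ∈ q * RingHom.ker ((i ≫ j).app W).hom) :
    x ∈ q * RingHom.ker (j.app W).hom := by
  subst hV₁
  obtain ⟨σ, hσ, hmem⟩ := CnSplitB.conormalSect_mem_smul_top j i hW q x hx
  obtain ⟨τ, hτ⟩ := OmegaCnB.exists_idealSect j hW x hxJ
  obtain ⟨s, hs, hφ⟩ := OmegaCnH.phi1_pull j i a ha W τ
  have hsσ : s = σ := OmegaCnC.idealSect_injective (i ≫ j) W (hs.trans (hτ.trans hσ.symm))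
  rw [hsσ] at hφ
  have h1 := CnSplitA.map_mem_of_mem_smul_top ρ₀ _ _ hmem
  rw [← hφ, hρ₀] at h1
  haveI : (Omega.conormal j).IsQuasicoherent :=
    StalkPull.isQuasicoherent_pullbackObj j (ClSub.idealMod j.ker)
  have h2 := mem_smul_top_of_pullSect i (Omega.conormal j) hV hO hsi _ _ h1
  have h3 := mem_smul_top_of_pullSect j (ClSub.idealMod j.ker) hW hV hsj _ τ h2
  have hsurjc : Function.Surjective ((i ≫ j).app W).hom := by
    intro t
    obtain ⟨b₀, hb₀⟩ := hsi t
    obtain ⟨a', ha'⟩ := hsj b₀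
    refine ⟨a', ?_⟩
    change i.app (j ⁻¹ᵁ W) (j.app W a') = t
    rw [ha', hb₀]
  have hqq : ((q.map ((i ≫ j).app W).hom).comap (i.app (j ⁻¹ᵁ W)).hom).comap (j.app W).hom =
      q := by
    ext y
    change ((i ≫ j).app W).hom y ∈ q.map ((i ≫ j).app W).hom ↔ y ∈ q
    rw [← Ideal.mem_comap,
      Ideal.comap_map_of_surjective _ hsurjc, ← RingHom.ker_eq_comap_bot, sup_eq_left.2 hq]
  have h3' : τ ∈ q • (⊤ : Submodule Γ(X, W) Γ(ClSub.idealMod j.ker, W)) := by
    rw [← hqq]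
    exact h3
  rw [← hτ]
  refine Submodule.smul_induction_on h3' ?_ ?_
  · intro π hπ ν _
    rw [OmegaCnC.idealSect_smul]
    exact Ideal.mul_mem_mul hπ (RingHom.mem_ker.2 (OmegaCnB.app_idealSect j hW ν))
  · intro x y hx hy
    rw [map_add]
    exact add_mem hx hy

end FI

end Groth.Agent.Helper3.CnSplitE
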