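import Mathlib
import Groth.Agent.Helper3.CnSplitE
import Groth.Agent.Helper3.RegDownB
import Groth.Agent.Helper3.FFDescS2
import Groth.Agent.Helper3.FFDescK
import Groth.Agent.Helper3.FFDescH
import Groth.Agent.Helper3.FFDescQ

set_option autoImplicit false
set_option linter.style.haveILetI false
set_option linter.unusedSectionVars false
set_option linter.unusedVariables false
set_option linter.style.haveILetI false
set_option linter.unusedSectionVars false
set_option linter.unusedVariables false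
open CategoryTheory CategoryTheory.Limits AlgebraicGeometry Opposite TopologicalSpace
universe u

/-!
# Permanence of regular immersions under a locally split conormal sequence
-/

namespace Groth.Agent.Helper3.CnSplitF
open Scheme.Modules OmegaSh Groth.Agent.Lead Groth.Agent.Helper4 Groth.Agent.Lead.BCMap
open Groth.Agent.Helper3.FFDesc Groth.Agent.Helper3.FFDescS Groth.Agent.Helper3.RegCancel

section chart
variable {Z Y X : Scheme.{u}}

/-- the kernel of a closed-immersion chart of a morphism locally of finite presentation is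
finitely generated -/
theorem ker_fg_of_lfp (j : Y ⟶ X) [LocallyOfFinitePresentation j] {W : X.Opens}
    (hW : IsAffineOpen W) (hV : IsAffineOpen (j ⁻¹ᵁ W)) (hsj : Function.Surjective (j.app W)) :
    (RingHom.ker (j.app W).hom).FG := by
  have h1 : (j.appLE W (j ⁻¹ᵁ W) le_rfl).hom.FinitePresentation :=
    HasRingHomProperty.appLE (P := @LocallyOfFinitePresentation) j inferInstance ⟨W, hW⟩
      ⟨j ⁻¹ᵁ W, hV⟩ le_rfl
  rw [Scheme.Hom.appLE_eq_app] at h1
  letI := (j.app W).hom.toAlgebra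
  haveI : Algebra.FinitePresentation Γ(X, W) Γ(Y, j ⁻¹ᵁ W) := h1
  exact Algebra.FinitePresentation.ker_fG_of_surjective (Algebra.ofId Γ(X, W) Γ(Y, j ⁻¹ᵁ W)) hsj

/-- a good affine chart around a point for a pair of composable immersions -/
theorem exists_chart (i : Z ⟶ Y) (j : Y ⟶ X) [IsImmersion i] [IsImmersion j] (z : Z)
    (G : X.Opens) (hG : (i ≫ j) z ∈ G) :
    ∃ W : X.Opens, IsAffineOpen W ∧ (i ≫ j) z ∈ W ∧ W ≤ G ∧ IsAffineOpen (j ⁻¹ᵁ W) ∧
      IsAffineOpen (i ⁻¹ᵁ (j ⁻¹ᵁ W)) ∧ Function.Surjective (j.app W) ∧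
        Function.Surjective (i.app (j ⁻¹ᵁ W)) := by
  have h1 : (i ≫ j) z ∈ j.coborderRange := by
    have : (i ≫ j) z = j (i z) := rfl
    rw [this]
    exact subset_coborder ⟨i z, rfl⟩
  have h2 : (i ≫ j) z ∈ (i ≫ j).coborderRange := subset_coborder ⟨z, rfl⟩
  obtain ⟨_, ⟨W, hW : IsAffineOpen W, rfl⟩, hzW, hWsub⟩ :=
    X.isBasis_affineOpens.exists_subset_of_mem_open
    (show (i ≫ j) z ∈ ((j.coborderRange ⊓ (i ≫ j).coborderRange ⊓ G : X.Opens) : Set X) from
      ⟨⟨h1, h2⟩, hG⟩) (j.coborderRange ⊓ (i ≫ j).coborderRange ⊓ G : X.Opens).isOpen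
  have hW₁ : W ≤ j.coborderRange := fun x hx => (hWsub hx).1.1
  have hW₂ : W ≤ (i ≫ j).coborderRange := fun x hx => (hWsub hx).1.2
  have hW₃ : W ≤ G := fun x hx => (hWsub hx).2
  obtain ⟨hV, hsj⟩ := OmegaCnD.affine_of_le_coborderRange j hW hW₁
  obtain ⟨hO, hsij⟩ := OmegaCnD.affine_of_le_coborderRange (i ≫ j) hW hW₂
  refine ⟨W, hW, hzW, hW₃, hV, hO, hsj, ?_⟩
  intro t
  obtain ⟨a', ha'⟩ := hsij t
  exact ⟨j.app W a', ha'⟩

end chart

section main
variable {Z Y X : Scheme.{u}} (i : Z ⟶ Y) (j : Y ⟶ X) [IsImmersion i] [IsImmersion j]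
  [QuasiCompact i] [QuasiCompact j]
  (a : (Scheme.Modules.pullback i).obj (Omega.conormal j) ⟶ Omega.conormal (i ≫ j))
  (ha : IsConormalMap (i ≫ j) j (𝟙 X) i a)

lemma comap_ker (W : X.Opens) :
    (RingHom.ker (i.app (j ⁻¹ᵁ W)).hom).comap (j.app W).hom =
      RingHom.ker ((i ≫ j).app W).hom := by
  ext x
  rw [Ideal.mem_comap, RingHom.mem_ker, RingHom.mem_ker]
  rfl

variable (C : RegClass.{u}) (k : RegImm.Kind)
  (hk : ∀ (R : Type u) [CommRing R] (l : List R), k.Seq R l ↔ C.P R l)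

include ha hk in
/-- quasi-regularity and `H₁`-regularity of the composite pass to the first immersion when the
conormal sequence is locally split and the second immersion is locally of finite presentation -/
theorem main12 (hC : Cancel1 C) [LocallyOfFinitePresentation j]
    (hretr : ∀ z : Z, ∃ (U : Z.Opens)
      (ρ : (restrictFunctor U.ι).obj (Omega.conormal (i ≫ j)) ⟶
        (restrictFunctor U.ι).obj ((Scheme.Modules.pullback i).obj (Omega.conormal j))),
        z ∈ U ∧ (restrictFunctor U.ι).map a ≫ ρ = 𝟙 _)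
    (hij : RegImm.IsRegularImmersion k (i ≫ j)) : RegImm.IsRegularImmersion k i := by
  refine ⟨inferInstance, fun z => ?_⟩
  obtain ⟨U, ρ, hzU, hρ⟩ := hretr z
  obtain ⟨G', hG', hGG'⟩ := ((i ≫ j).isEmbedding.isInducing.isOpen_iff).1 U.isOpen
  have hzG' : (i ≫ j) z ∈ G' := by
    have : z ∈ (i ≫ j) ⁻¹' G' := by rw [hGG']; exact hzU
    exact this
  obtain ⟨W, hW, hzW, hWG, hV, hO, hsj, hsi⟩ := exists_chart i j z ⟨G', hG'⟩ hzG'
  have hWU : i ⁻¹ᵁ (j ⁻¹ᵁ W) ≤ U := by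
    intro y hy
    have h1 : (i ≫ j) y ∈ G' := hWG hy
    have h2 : y ∈ (i ≫ j) ⁻¹' G' := h1
    rw [hGG'] at h2
    exact h2
  obtain ⟨V₁, hV₁, ρ₀, hρ₀⟩ := CnSplitC.exists_retraction_sections a U ρ hρ _ hWU
  have hsij : Function.Surjective ((i ≫ j).app W).hom := by
    intro t
    obtain ⟨b₀, hb₀⟩ := hsi t
    obtain ⟨a', ha'⟩ := hsj b₀
    refine ⟨a', ?_⟩
    change i.app (j ⁻¹ᵁ W) (j.app W a') = t
    rw [ha', hb₀]
  have hO' : IsAffineOpen ((i ≫ j) ⁻¹ᵁ W) := hO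
  haveI : IsClosedImmersion ((i ≫ j) ∣_ W) :=
    Groth.Agent.Helper8.RegSeqE.isClosedImmersion_restrict_of_surjective (i ≫ j) hW hO' hsij
  haveI : IsClosedImmersion (i ∣_ (j ⁻¹ᵁ W)) :=
    Groth.Agent.Helper8.RegSeqE.isClosedImmersion_restrict_of_surjective i hV hO hsi
  have hLG : LocGen C (RingHom.ker ((i ≫ j).app W).hom) :=
    locGen_of_regImm C k hk (i ≫ j) hij W hW
  have hK : LocGen C (RingHom.ker (i.app (j ⁻¹ᵁ W)).hom) := by
    refine Groth.Agent.Helper3.RegDown.main C hC (j.app W).hom hsj (ker_fg_of_lfp j hW hV hsj) _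
      ?_ ?_
    · intro q hq hle x hxJ hx
      rw [comap_ker] at hle hx
      exact Groth.Agent.Helper3.CnSplitE.fibre_condition i j a ha hW hV hO hsj hsi V₁ hV₁ ρ₀ hρ₀
        q hle x hxJ hx
    · rw [comap_ker]
      exact hLG
  exact regImmAt_of_locGen C k hk i (j ⁻¹ᵁ W) hV hK z hzW

include ha in
/-- Koszul-regularity of the composite and of the second immersion pass to the first immersion
when the conormal sequence is locally split -/
theorem main3
    (hretr : ∀ z : Z, ∃ (U : Z.Opens)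
      (ρ : (restrictFunctor U.ι).obj (Omega.conormal (i ≫ j)) ⟶
        (restrictFunctor U.ι).obj ((Scheme.Modules.pullback i).obj (Omega.conormal j))),
        z ∈ U ∧ (restrictFunctor U.ι).map a ≫ ρ = 𝟙 _)
    (hj : RegImm.IsRegularImmersion .koszul j)
    (hij : RegImm.IsRegularImmersion .koszul (i ≫ j)) : RegImm.IsRegularImmersion .koszul i := by
  have hk : ∀ (R : Type u) [CommRing R] (l : List R),
      RegImm.Kind.koszul.Seq R l ↔ FFDescK.kregClass.P R l := fun R _ l => Iff.rfl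
  refine ⟨inferInstance, fun z => ?_⟩
  obtain ⟨U, ρ, hzU, hρ⟩ := hretr z
  obtain ⟨U₁, hz₁, hc₁, rs₁, hrs₁, hk₁⟩ := hj.2 (i z)
  haveI := hc₁
  obtain ⟨G', hG', hGG'⟩ := ((i ≫ j).isEmbedding.isInducing.isOpen_iff).1 U.isOpen
  have hzG' : (i ≫ j) z ∈ G' := by
    have : z ∈ (i ≫ j) ⁻¹' G' := by rw [hGG']; exact hzU
    exact this
  obtain ⟨W, hW, hzW, hWG, hV, hO, hsj, hsi⟩ :=
    exists_chart i j z (U₁.1 ⊓ ⟨G', hG'⟩) ⟨hz₁, hzG'⟩
  have hW₁ : W ≤ U₁.1 := fun x hx => (hWG hx).1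
  have hWU : i ⁻¹ᵁ (j ⁻¹ᵁ W) ≤ U := by
    intro y hy
    have h1 : (i ≫ j) y ∈ G' := (hWG hy).2
    have h2 : y ∈ (i ≫ j) ⁻¹' G' := h1
    rw [hGG'] at h2
    exact h2
  obtain ⟨V₁, hV₁, ρ₀, hρ₀⟩ := CnSplitC.exists_retraction_sections a U ρ hρ _ hWU
  have hsij : Function.Surjective ((i ≫ j).app W).hom := by
    intro t
    obtain ⟨b₀, hb₀⟩ := hsi t
    obtain ⟨a', ha'⟩ := hsj b₀
    refine ⟨a', ?_⟩
    change i.app (j ⁻¹ᵁ W) (j.app W a') = t
    rw [ha', hb₀]
  have hO' : IsAffineOpen ((i ≫ j) ⁻¹ᵁ W) := hO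
  haveI : IsClosedImmersion ((i ≫ j) ∣_ W) :=
    Groth.Agent.Helper8.RegSeqE.isClosedImmersion_restrict_of_surjective (i ≫ j) hW hO' hsij
  haveI : IsClosedImmersion (i ∣_ (j ⁻¹ᵁ W)) :=
    Groth.Agent.Helper8.RegSeqE.isClosedImmersion_restrict_of_surjective i hV hO hsi
  have hLG : LCI.IsKoszulRegularIdeal (RingHom.ker ((i ≫ j).app W).hom) :=
    locGen_of_regImm FFDescK.kregClass .koszul hk (i ≫ j) hij W hW
  obtain ⟨-, hfs, hkf⟩ := KoszulGeoB.koszul_restrict j U₁.2 hW hW₁ rs₁ hrs₁ hk₁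
  set fs := rs₁.map (X.presheaf.map (homOfLE hW₁).op).hom with hfsdef
  have hqr : CAlgX.IsQuasiRegular fs.get :=
    Groth.Agent.Helper7.QR.main_2103 fs.get (KoszulH1.isH1Regular_of_isKoszulRegularSeq fs hfs)
  have hkf' : RingHom.ker (j.app W).hom = Ideal.span (Set.range fs.get) := by
    rw [hkf, Set.range_list_get]
  have hK : LCI.IsKoszulRegularIdeal (RingHom.ker (i.app (j ⁻¹ᵁ W)).hom) := by
    refine Groth.Agent.Helper3.KzIdeal.down_ideal (j.app W).hom hsj fs.get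
      (by rw [List.ofFn_get]; exact hkf) (by rw [List.ofFn_get]; exact hfs) _ ?_ ?_
    · intro p hp hKp c hc
      rw [comap_ker] at hc
      refine CnSplitB.fiberInj j i a ha hW hV hO hsj hsi fs.get hqr hkf' V₁ hV₁ ρ₀ hρ₀
        (p.comap (j.app W).hom) ?_ c hc
      rw [← comap_ker]
      exact Ideal.comap_mono hKp
    · rw [comap_ker]
      exact hLG
  exact regImmAt_of_locGen FFDescK.kregClass .koszul hk i (j ⁻¹ᵁ W) hV hK z hzW

include ha in
/-- **S8920** -/
theorem main [LocallyOfFinitePresentation j] {C' : Z.Modules} (b' : Omega.conormal (i ≫ j) ⟶ C')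
    (w : a ≫ b' = 0) (hex : (ShortComplex.mk a b' w).ShortExact)
    (hsplit : ∀ z : Z, ∃ U : Z.Opens, z ∈ U ∧
      ∃ r : (restrictFunctor U.ι).obj C' ⟶ (restrictFunctor U.ι).obj (Omega.conormal (i ≫ j)),
        r ≫ (restrictFunctor U.ι).map b' = 𝟙 _) :
    (RegImm.IsRegularImmersion RegImm.Kind.quasi (i ≫ j) →
        RegImm.IsRegularImmersion RegImm.Kind.quasi i) ∧
      (RegImm.IsRegularImmersion RegImm.Kind.h1 (i ≫ j) →
        RegImm.IsRegularImmersion RegImm.Kind.h1 i) ∧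
      (RegImm.IsRegularImmersion RegImm.Kind.koszul j →
        RegImm.IsRegularImmersion RegImm.Kind.koszul (i ≫ j) →
        RegImm.IsRegularImmersion RegImm.Kind.koszul i) := by
  have hretr : ∀ z : Z, ∃ (U : Z.Opens)
      (ρ : (restrictFunctor U.ι).obj (Omega.conormal (i ≫ j)) ⟶
        (restrictFunctor U.ι).obj ((Scheme.Modules.pullback i).obj (Omega.conormal j))),
        z ∈ U ∧ (restrictFunctor U.ι).map a ≫ ρ = 𝟙 _ := by
    intro z
    obtain ⟨U, hzU, r, hr⟩ := hsplit z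
    obtain ⟨ρ, hρ⟩ := Groth.Agent.Helper3.CnSplitE.exists_retraction a b' w hex U r hr
    exact ⟨U, ρ, hzU, hρ⟩
  refine ⟨?_, ?_, ?_⟩
  · exact main12 i j a ha FFDescQ.qregClass .quasi (fun R _ l => Iff.rfl) cancel1_quasi hretr
  · exact main12 i j a ha FFDescH.h1Class .h1 (fun R _ l => Iff.rfl) cancel1_h1 hretr
  · exact main3 i j a ha hretr

end main

end Groth.Agent.Helper3.CnSplitF
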