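import Mathlib

set_option autoImplicit false
set_option linter.style.haveILetI false
set_option linter.unusedSectionVars false
set_option linter.unusedVariables false
set_option linter.style.haveILetI false
set_option linter.unusedSectionVars false
set_option linter.unusedVariables false

open CategoryTheory CategoryTheory.Limits

universe u

namespace Groth.Agent.Helper3.CoefIdeal

section Alg
variable {A R : Type*} [CommRing A] [CommRing R] [Algebra A R]

/-- the coefficient ideal of an ideal `J` of an `A`-algebra `R`: the ideal of `A` generated by the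
values of `A`-linear functionals on `J` -/
def coef (J : Ideal R) : Ideal A := ⨆ Λ : R →ₗ[A] A, (J.restrictScalars A).map Λ

lemma mem_coef (J : Ideal R) (Λ : R →ₗ[A] A) {j : R} (hj : j ∈ J) : Λ j ∈ coef (A := A) J := by
  refine (le_iSup (fun Λ : R →ₗ[A] A => (J.restrictScalars A).map Λ) Λ) ?_
  exact Submodule.mem_map_of_mem hj

lemma coef_le_iff (J : Ideal R) (I : Ideal A) :
    coef (A := A) J ≤ I ↔ ∀ (Λ : R →ₗ[A] A), ∀ j ∈ J, Λ j ∈ I := by
  unfold coef
  rw [iSup_le_iff]
  constructor
  · intro h Λ j hj
    exact h Λ (Submodule.mem_map_of_mem hj)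
  · rintro h Λ _ ⟨j, hj, rfl⟩
    exact h Λ j hj

/-- key property of the coefficient ideal for projective `R` -/
theorem forall_eq_zero_iff [Module.Projective A R] {C D : Type*} [CommRing C] [Algebra A C]
    [CommRing D] [Algebra C D] [Algebra A D] [IsScalarTower A C D] [Algebra R D]
    [IsScalarTower A R D] (hf : IsBaseChange C (IsScalarTower.toAlgHom A R D).toLinearMap)
    (J : Ideal R) :
    (∀ j ∈ J, algebraMap R D j = 0) ↔ coef (A := A) J ≤ RingHom.ker (algebraMap A C) := by
  constructor
  · intro h
    rw [coef_le_iff]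
    intro Λ j hj
    let g : R →ₗ[A] C := (Algebra.linearMap A C) ∘ₗ Λ
    have h1 := hf.lift_eq g j
    have h2 : (IsScalarTower.toAlgHom A R D).toLinearMap j = 0 := h j hj
    rw [h2, map_zero] at h1
    exact h1.symm
  · intro h j hj
    obtain ⟨s, hs⟩ := Module.projective_def'.mp (inferInstance : Module.Projective A R)
    have hj' : j = Finsupp.linearCombination A id (s j) := by
      have := congrArg (fun l => l j) hs
      exact this.symm
    rw [hj', Finsupp.linearCombination_apply, Finsupp.sum, map_sum]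
    apply Finset.sum_eq_zero
    intro r _
    have hmem : (s j) r ∈ coef (A := A) J := by
      have := mem_coef (A := A) J ((Finsupp.lapply r) ∘ₗ s) hj
      exact this
    have h0 : algebraMap A C ((s j) r) = 0 := h hmem
    rw [id, Algebra.smul_def, map_mul, ← IsScalarTower.algebraMap_apply,
      IsScalarTower.algebraMap_apply A C D, h0, map_zero, zero_mul]

end Alg

section Cat

/-- version for pushout squares of commutative rings -/
theorem ker_iff_of_isPushout {A C R D : CommRingCat.{u}} (φ : A ⟶ C) (ψ : A ⟶ R) (φ' : C ⟶ D)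
    (ψ' : R ⟶ D) (h : IsPushout φ ψ φ' ψ')
    (hproj : letI := ψ.hom.toAlgebra; Module.Projective A R) (J : Ideal R) :
    J ≤ RingHom.ker ψ'.hom ↔
      (letI := ψ.hom.toAlgebra; coef (A := A) J) ≤ RingHom.ker φ.hom := by
  letI : Algebra A R := ψ.hom.toAlgebra
  letI : Algebra A C := φ.hom.toAlgebra
  letI : Algebra C D := φ'.hom.toAlgebra
  letI : Algebra R D := ψ'.hom.toAlgebra
  letI : Algebra A D := (φ ≫ φ').hom.toAlgebra
  haveI : IsScalarTower A C D := .of_algebraMap_eq' rfl
  haveI : IsScalarTower A R D := .of_algebraMap_eq' (by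
    change (φ ≫ φ').hom = (ψ ≫ ψ').hom
    rw [h.w])
  haveI : Module.Projective A R := hproj
  have hP : Algebra.IsPushout A C R D := CommRingCat.isPushout_iff_isPushout.mp h
  have key := forall_eq_zero_iff (A := A) (R := R) (C := C) (D := D) hP.out J
  refine Iff.trans ?_ key
  constructor
  · intro hJ j hj
    exact hJ hj
  · intro hJ j hj
    exact hJ j hj

/-- the coefficient ideal commutes with base change -/
theorem coef_map_of_isPushout {A A' R R' : CommRingCat.{u}} (ρ : A ⟶ A') (ψ : A ⟶ R)
    (ψ₁ : A' ⟶ R') (g : R ⟶ R') (h : IsPushout ρ ψ ψ₁ g)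
    (hproj : letI := ψ.hom.toAlgebra; Module.Projective A R)
    (hproj' : letI := ψ₁.hom.toAlgebra; Module.Projective A' R') (J : Ideal R) :
    (letI := ψ₁.hom.toAlgebra; coef (A := A') (J.map g.hom)) =
      (letI := ψ.hom.toAlgebra; coef (A := A) J).map ρ.hom := by
  have key : ∀ I' : Ideal A',
      (letI := ψ₁.hom.toAlgebra; coef (A := A') (J.map g.hom)) ≤ I' ↔
        (letI := ψ.hom.toAlgebra; coef (A := A) J).map ρ.hom ≤ I' := by
    intro I'
    let C : CommRingCat.{u} := CommRingCat.of (A' ⧸ I')
    let φ : A' ⟶ C := CommRingCat.ofHom (Ideal.Quotient.mk I')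
    have hφ : RingHom.ker φ.hom = I' := Ideal.mk_ker
    have t := IsPushout.of_hasPushout φ ψ₁
    have st := h.paste_horiz t
    have e1 := ker_iff_of_isPushout φ ψ₁ (pushout.inl φ ψ₁) (pushout.inr φ ψ₁) t hproj' (J.map g.hom)
    have e2 := ker_iff_of_isPushout (ρ ≫ φ) ψ (pushout.inl φ ψ₁) (g ≫ pushout.inr φ ψ₁) st hproj J
    rw [hφ] at e1
    rw [← e1, Ideal.map_le_iff_le_comap, RingHom.comap_ker, ← CommRingCat.hom_comp, e2,
      CommRingCat.hom_comp, ← RingHom.comap_ker, hφ, Ideal.map_le_iff_le_comap]
  exact le_antisymm ((key _).mpr le_rfl) ((key _).mp le_rfl)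

end Cat

end Groth.Agent.Helper3.CoefIdeal
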