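import Mathlib
import Groth.Agent.Helper8.GenFree6

set_option autoImplicit false
set_option linter.style.haveILetI false
set_option linter.unusedSectionVars false
set_option linter.unusedVariables false
set_option linter.style.haveILetI false
set_option linter.unusedSectionVars false
set_option linter.unusedVariables false

namespace Groth.Agent.Helper3.CokGF1

open Groth.Agent.Helper8.GenFree

section
variable {R : Type*} [CommRing R] {M : Type*} [AddCommGroup M] [Module R M]

theorem GFat.of_pow {f : R} {k : ℕ} (h : GFat R M (f ^ k)) : GFat R M f := by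
  obtain ⟨s, hs, hsp⟩ := h
  refine ⟨s, hs, fun m => ?_⟩
  obtain ⟨n, hn⟩ := hsp m
  exact ⟨k * n, by rwa [pow_mul]⟩

end

section
variable {R : Type*} [CommRing R] {A : Type*} [CommRing A] [Algebra R A]
  {N : Type*} [AddCommGroup N] [Module A N] [Module R N] [IsScalarTower R A N]

/-- Infinite filtration lemma: an exhaustive ℕ-filtration whose graded pieces are all free after
inverting `f` has free total quotient after inverting `f`. -/
theorem of_filtration {f : R} (F : ℕ → Submodule A N) (hmono : Monotone F)
    (h : ∀ j, GFat R ↥((F (j + 1)).map (F j).mkQ) f) :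
    GFat R ↥((⨆ j, F j).map (F 0).mkQ) f := by
  classical
  unfold GFat at h
  choose t hind hsp using h
  have hσ : ∀ j (x : ↥((F (j + 1)).map (F j).mkQ)), ∃ y : N, y ∈ F (j + 1) ∧ (F j).mkQ y = x.1 := by
    intro j x
    obtain ⟨y, hy, hyx⟩ := x.2
    exact ⟨y, hy, hyx⟩
  choose σ hσmem hσq using hσ
  let w : (Σ j, t j) → N := fun i => σ i.1 i.2.1
  have hwmem : ∀ i, w i ∈ F (i.1 + 1) := fun i => hσmem _ _
  have hsup : ∀ j, F j ≤ ⨆ j, F j := le_iSup F
  let v : (Σ j, t j) → ↥((⨆ j, F j).map (F 0).mkQ) := fun i =>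
    ⟨(F 0).mkQ (w i), Submodule.mem_map_of_mem (hsup _ (hwmem i))⟩
  have hq : ∀ n (c : t n →₀ R), (F n).mkQ (c.sum fun x a => a • w ⟨n, x⟩) =
      ((Finsupp.linearCombination R (fun x : t n => (x : ↥((F (n + 1)).map (F n).mkQ))) c :
        ↥((F (n + 1)).map (F n).mkQ)) : N ⧸ F n) := by
    intro n c
    simp only [Finsupp.linearCombination_apply, Finsupp.sum, map_sum, Submodule.coe_sum]
    refine Finset.sum_congr rfl fun x _ => ?_
    rw [LinearMap.map_smul_of_tower, hσq]; rfl
  have hzmem : ∀ n (c : t n →₀ R), (c.sum fun x a => a • w ⟨n, x⟩) ∈ F (n + 1) := by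
    intro n c
    refine Submodule.sum_mem _ fun x _ => ?_
    exact Submodule.smul_of_tower_mem _ _ (hwmem ⟨n, x⟩)
  have key : ∀ n (l : (Σ j, t j) →₀ R), (∀ i ∈ l.support, i.1 < n) →
      Finsupp.linearCombination R w l ∈ F 0 → l = 0 := by
    intro n
    induction n with
    | zero =>
      intro l hb _
      exact Finsupp.support_eq_empty.mp
        (Finset.eq_empty_of_forall_notMem fun i hi => absurd (hb i hi) (Nat.not_lt_zero _))
    | succ n ih =>
      intro l hb hl
      have hsplit0 : l.split n = 0 := by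
        apply linearIndependent_iff.mp (hind n)
        apply Subtype.ext
        change ((Finsupp.linearCombination R (fun x : t n => (x : ↥((F (n + 1)).map (F n).mkQ)))
          (l.split n) : ↥((F (n + 1)).map (F n).mkQ)) : N ⧸ F n) = 0
        rw [← hq n (l.split n), Submodule.mkQ_apply, Submodule.Quotient.mk_eq_zero]
        have hsum : Finsupp.linearCombination R w l =
            ∑ j ∈ Finset.range (n + 1), (l.split j).sum fun x a => a • w ⟨j, x⟩ := by
          rw [Finsupp.linearCombination_apply, Finsupp.sigma_sum]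
          apply Finset.sum_subset
          · intro j hj
            simp only [Finsupp.splitSupport, Finset.mem_image] at hj
            obtain ⟨i, hi, rfl⟩ := hj
            exact Finset.mem_range.mpr (hb i hi)
          · intro j _ hj
            rw [Finsupp.mem_splitSupport_iff_nonzero, not_not] at hj
            rw [hj]; simp
        rw [Finset.sum_range_succ] at hsum
        have h2 : ((l.split n).sum fun x a => a • w ⟨n, x⟩) = Finsupp.linearCombination R w l -
            ∑ j ∈ Finset.range n, (l.split j).sum fun x a => a • w ⟨j, x⟩ := by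
          rw [hsum]; abel
        rw [h2]
        refine Submodule.sub_mem _ (hmono (Nat.zero_le n) hl) (Submodule.sum_mem _ fun j hj => ?_)
        have hjn : j + 1 ≤ n := by have := Finset.mem_range.mp hj; omega
        exact hmono hjn (hzmem j _)
      apply ih l _ hl
      intro i hi
      have hlt := hb i hi
      rcases Nat.lt_succ_iff_lt_or_eq.mp hlt with h | h
      · exact h
      · exfalso
        obtain ⟨j, x⟩ := i
        simp only at h
        subst h
        have h0 : l.split j x = 0 := by rw [hsplit0]; rfl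
        rw [Finsupp.split_apply] at h0
        exact (Finsupp.mem_support_iff.mp hi) h0
  have hli : LinearIndependent R v := by
    rw [linearIndependent_iff]
    intro l hl
    have h1 : (F 0).mkQ (Finsupp.linearCombination R w l) =
        ((Finsupp.linearCombination R v l : ↥((⨆ j, F j).map (F 0).mkQ)) : N ⧸ F 0) := by
      simp only [Finsupp.linearCombination_apply, Finsupp.sum, map_sum, Submodule.coe_sum]
      refine Finset.sum_congr rfl fun i _ => ?_
      rw [LinearMap.map_smul_of_tower]; rfl
    rw [hl] at h1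
    have h2 : Finsupp.linearCombination R w l ∈ F 0 := by
      rw [← Submodule.Quotient.mk_eq_zero, ← Submodule.mkQ_apply, h1]; rfl
    refine key (l.support.sup (fun i => i.1) + 1) l (fun i hi => ?_) h2
    exact Nat.lt_succ_of_le (Finset.le_sup (f := fun i : (Σ j, t j) => i.1) hi)
  refine ⟨Set.range v, hli.linearIndepOn_id, ?_⟩
  -- spanning
  have hspan : ∀ n (y : N) (hy : y ∈ F n), ∃ k : ℕ,
      f ^ k • (⟨(F 0).mkQ y, Submodule.mem_map_of_mem (hsup _ hy)⟩ : ↥((⨆ j, F j).map (F 0).mkQ)) ∈
        Submodule.span R (Set.range v) := by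
    intro n
    induction n with
    | zero =>
      intro y hy
      refine ⟨0, ?_⟩
      have : (⟨(F 0).mkQ y, Submodule.mem_map_of_mem (hsup _ hy)⟩ :
          ↥((⨆ j, F j).map (F 0).mkQ)) = 0 := by
        apply Subtype.ext
        change (F 0).mkQ y = 0
        rw [Submodule.mkQ_apply, Submodule.Quotient.mk_eq_zero]; exact hy
      rw [this, smul_zero]; exact Submodule.zero_mem _
    | succ n ih =>
      intro y hy
      obtain ⟨k, hk⟩ := hsp n ⟨(F n).mkQ y, Submodule.mem_map_of_mem hy⟩
      have hk' : f ^ k • (⟨(F n).mkQ y, Submodule.mem_map_of_mem hy⟩ :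
          ↥((F (n + 1)).map (F n).mkQ)) ∈
          Submodule.span R (Set.range fun x : t n => (x : ↥((F (n + 1)).map (F n).mkQ))) := by
        simpa using hk
      obtain ⟨c, hc⟩ := (Finsupp.mem_span_range_iff_exists_finsupp).mp hk'
      set z : N := c.sum fun x a => a • w ⟨n, x⟩ with hz
      have hzq : (F n).mkQ z = f ^ k • (F n).mkQ y := by
        rw [hz, hq n c, Finsupp.linearCombination_apply, hc]; rfl
      have hdiff : f ^ k • y - z ∈ F n := by
        rw [← Submodule.Quotient.mk_eq_zero, ← Submodule.mkQ_apply, map_sub, hzq,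
          LinearMap.map_smul_of_tower, sub_self]
      obtain ⟨k', hk'⟩ := ih _ hdiff
      have hzspan : (⟨(F 0).mkQ z, Submodule.mem_map_of_mem (hsup _ (hzmem n c))⟩ :
          ↥((⨆ j, F j).map (F 0).mkQ)) ∈ Submodule.span R (Set.range v) := by
        have : (⟨(F 0).mkQ z, Submodule.mem_map_of_mem (hsup _ (hzmem n c))⟩ :
            ↥((⨆ j, F j).map (F 0).mkQ)) = c.sum fun x a => a • v ⟨n, x⟩ := by
          apply Subtype.ext
          simp only [hz, Finsupp.sum, map_sum, Submodule.coe_sum]
          refine Finset.sum_congr rfl fun x _ => ?_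
          rw [LinearMap.map_smul_of_tower]; rfl
        rw [this]
        refine Submodule.sum_mem _ fun x _ => ?_
        exact Submodule.smul_mem _ _ (Submodule.subset_span ⟨⟨n, x⟩, rfl⟩)
      refine ⟨k' + k, ?_⟩
      have : f ^ (k' + k) • (⟨(F 0).mkQ y, Submodule.mem_map_of_mem (hsup _ hy)⟩ :
          ↥((⨆ j, F j).map (F 0).mkQ)) =
          f ^ k' • (⟨(F 0).mkQ (f ^ k • y - z), Submodule.mem_map_of_mem (hsup _ hdiff)⟩ :
            ↥((⨆ j, F j).map (F 0).mkQ)) +
          f ^ k' • (⟨(F 0).mkQ z, Submodule.mem_map_of_mem (hsup _ (hzmem n c))⟩ :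
            ↥((⨆ j, F j).map (F 0).mkQ)) := by
        apply Subtype.ext
        change f ^ (k' + k) • (F 0).mkQ y = f ^ k' • (F 0).mkQ (f ^ k • y - z) + f ^ k' • (F 0).mkQ z
        rw [map_sub, LinearMap.map_smul_of_tower, smul_sub, sub_add_cancel, smul_smul, pow_add]
      rw [this]
      exact Submodule.add_mem _ hk' (Submodule.smul_mem _ _ hzspan)
  rintro ⟨m, hm⟩
  obtain ⟨y, hy, rfl⟩ := hm
  have hy' : ∃ n, y ∈ F n := (Submodule.mem_iSup_of_chain ⟨F, hmono⟩ y).mp hy
  obtain ⟨n, hn⟩ := hy'
  exact hspan n y hn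

end

end Groth.Agent.Helper3.CokGF1
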