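import Mathlib
import Groth.Agent.Helper3.CokGF1

set_option autoImplicit false
set_option linter.style.haveILetI false
set_option linter.unusedSectionVars false
set_option linter.unusedVariables false
set_option linter.style.haveILetI false
set_option linter.unusedSectionVars false
set_option linter.unusedVariables false

universe u

namespace Groth.Agent.Helper3.CokGF2

open Groth.Agent.Helper8.GenFree Groth.Agent.Helper3.CokGF1

section
variable {A : Type*} [CommRing A] {N : Type*} [AddCommGroup N] [Module A N]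

/-- the filtration `M' + φ M' + ⋯ + φ^j M'` -/
def F (φ : N →ₗ[A] N) (M' : Submodule A N) : ℕ → Submodule A N
  | 0 => M'
  | j + 1 => M' ⊔ (F φ M' j).map φ

variable (φ : N →ₗ[A] N) (M' : Submodule A N)

@[simp] theorem F_zero : F φ M' 0 = M' := rfl
theorem F_succ (j : ℕ) : F φ M' (j + 1) = M' ⊔ (F φ M' j).map φ := rfl

theorem F_le_succ (j : ℕ) : F φ M' j ≤ F φ M' (j + 1) := by
  induction j with
  | zero => rw [F_succ]; exact le_sup_left
  | succ j ih =>
    rw [F_succ φ M' (j + 1), F_succ φ M' j]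
    exact sup_le_sup_left (Submodule.map_mono ih) _

theorem F_mono : Monotone (F φ M') := monotone_nat_of_le_succ (F_le_succ φ M')

theorem le_F (j : ℕ) : M' ≤ F φ M' j := F_mono φ M' (Nat.zero_le j)

theorem F_succ' (j : ℕ) : F φ M' (j + 1) = F φ M' j ⊔ M'.map (φ ^ (j + 1)) := by
  induction j with
  | zero => rw [F_succ, F_zero, pow_one]
  | succ j ih =>
    rw [F_succ φ M' (j + 1), ih, Submodule.map_sup, ← sup_assoc, ← F_succ, ih,
      ← Submodule.map_comp]
    congr 2
    rw [pow_succ' φ (j + 1)]; rfl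

theorem map_F_le (j : ℕ) : (F φ M' j).map φ ≤ F φ M' (j + 1) := by
  rw [F_succ]; exact le_sup_right

theorem map_iSup_F_le : (⨆ j, F φ M' j).map φ ≤ ⨆ j, F φ M' j := by
  rw [Submodule.map_iSup]
  exact iSup_le fun j => (map_F_le φ M' j).trans (le_iSup (F φ M') (j + 1))

theorem F_le_of_stable (W : Submodule A N) (h1 : M' ≤ W) (h2 : W.map φ ≤ W) (j : ℕ) :
    F φ M' j ≤ W := by
  induction j with
  | zero => exact h1
  | succ j ih => rw [F_succ]; exact sup_le h1 ((Submodule.map_mono ih).trans h2)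

/-- the `A`-linear map `m ↦ [φ^(j+1) m]` from `M'` to `N / F j` -/
noncomputable def π (j : ℕ) : ↥M' →ₗ[A] (N ⧸ F φ M' j) :=
  (F φ M' j).mkQ ∘ₗ (φ ^ (j + 1)) ∘ₗ M'.subtype

theorem range_π (j : ℕ) : LinearMap.range (π φ M' j) = (F φ M' (j + 1)).map (F φ M' j).mkQ := by
  rw [F_succ', Submodule.map_sup, Submodule.mkQ_map_self, bot_sup_eq, π, LinearMap.range_comp,
    LinearMap.range_comp, Submodule.range_subtype]

theorem ker_π_mono : Monotone fun j => LinearMap.ker (π φ M' j) := by
  refine monotone_nat_of_le_succ fun j m hm => ?_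
  rw [LinearMap.mem_ker] at hm ⊢
  simp only [π, LinearMap.coe_comp, Function.comp_apply, Submodule.mkQ_apply,
    Submodule.Quotient.mk_eq_zero, Submodule.subtype_apply] at hm ⊢
  rw [pow_succ', Module.End.mul_apply]
  exact map_F_le φ M' j (Submodule.mem_map_of_mem hm)

end

section
variable (R : Type u) [CommRing R] [IsDomain R] [IsNoetherianRing R]
  (A : Type u) [CommRing A] [Algebra R A] [Algebra.FiniteType R A]
  {N : Type u} [AddCommGroup N] [Module A N] [Module R N] [IsScalarTower R A N]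

/-- **Core lemma** (one endomorphism): `(∑_j φ^j M') / M'` is generically free over `R`. -/
theorem core (φ : N →ₗ[A] N) (M' : Submodule A N) (hfg : M'.FG) :
    ∃ f : R, f ≠ 0 ∧ GFat R ↥((⨆ j, F φ M' j).map M'.mkQ) f := by
  classical
  haveI : IsNoetherianRing A := Algebra.FiniteType.isNoetherianRing R A
  haveI : IsNoetherian A ↥M' := isNoetherian_of_fg_of_noetherian M' hfg
  haveI : Module.Finite A ↥M' := Module.Finite.iff_fg.mpr hfg
  obtain ⟨j₀, hj₀⟩ := monotone_stabilizes_iff_noetherian.mpr ‹IsNoetherian A ↥M'›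
    ⟨fun j => LinearMap.ker (π φ M' j), ker_π_mono φ M'⟩
  have hgf : ∀ j, GF R (↥M' ⧸ LinearMap.ker (π φ M' j)) := fun j =>
    genericFreeness R A (↥M' ⧸ LinearMap.ker (π φ M' j))
  choose g hg0 hg using hgf
  let f : R := ∏ j ∈ Finset.range (j₀ + 1), g j
  have hf0 : f ≠ 0 := Finset.prod_ne_zero_iff.mpr fun j _ => hg0 j
  have hle : ∀ j, j ≤ j₀ → GFat R (↥M' ⧸ LinearMap.ker (π φ M' j)) f := by
    intro j hj
    have hmem : j ∈ Finset.range (j₀ + 1) := Finset.mem_range.mpr (Nat.lt_succ_of_le hj)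
    have : f = g j * ∏ i ∈ (Finset.range (j₀ + 1)).erase j, g i :=
      (Finset.mul_prod_erase _ _ hmem).symm
    rw [this]
    exact (hg j).mul_right _
  have hall : ∀ j, GFat R (↥M' ⧸ LinearMap.ker (π φ M' j)) f := by
    intro j
    rcases le_total j j₀ with h | h
    · exact hle j h
    · have h1 : LinearMap.ker (π φ M' j₀) = LinearMap.ker (π φ M' j) := hj₀ j h
      rw [← h1]
      exact hle j₀ le_rfl
  refine ⟨f, hf0, ?_⟩
  have hfil := of_filtration (R := R) (f := f) (F φ M') (F_mono φ M') (fun j => ?_)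
  · exact hfil
  · let e : (↥M' ⧸ LinearMap.ker (π φ M' j)) ≃ₗ[A] ↥((F φ M' (j + 1)).map (F φ M' j).mkQ) :=
      (π φ M' j).quotKerEquivRange.trans (LinearEquiv.ofEq _ _ (range_π φ M' j))
    exact GFat.of_linearEquiv (e.restrictScalars R) (hall j)

end

end Groth.Agent.Helper3.CokGF2
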