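import Mathlib
import Groth.Agent.Helper3.CokGF2

set_option autoImplicit false
set_option linter.style.haveILetI false
set_option linter.unusedSectionVars false
set_option linter.unusedVariables false
set_option linter.style.haveILetI false
set_option linter.unusedSectionVars false
set_option linter.unusedVariables false

universe u

namespace Groth.Agent.Helper3.CokGF3

open Groth.Agent.Helper8.GenFree Groth.Agent.Helper3.CokGF1 Groth.Agent.Helper3.CokGF2
open Polynomial

section
variable {R : Type*} [CommRing R] {N : Type*} [AddCommGroup N] [Module R N]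

/-- extension lemma for `U ≤ V ≤ W` -/
theorem ext {U V W : Submodule R N} (hUV : U ≤ V) (hVW : V ≤ W) {f₁ f₂ : R}
    (h₁ : GFat R ↥(V.map U.mkQ) f₁) (h₂ : GFat R ↥(W.map V.mkQ) f₂) :
    GFat R ↥(W.map U.mkQ) (f₁ * f₂) := by
  have hUV' : U ≤ V.comap (LinearMap.id : N →ₗ[R] N) := by simpa using hUV
  have hf : ∀ x ∈ W.map U.mkQ, (U.mapQ V LinearMap.id hUV') x ∈ W.map V.mkQ := by
    rintro _ ⟨w, hw, rfl⟩
    exact ⟨w, hw, by simp⟩
  let i : ↥(V.map U.mkQ) →ₗ[R] ↥(W.map U.mkQ) := Submodule.inclusion (Submodule.map_mono hVW)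
  let q : ↥(W.map U.mkQ) →ₗ[R] ↥(W.map V.mkQ) := (U.mapQ V LinearMap.id hUV').restrict hf
  have hq : ∀ (w : N) (hw : w ∈ W), q ⟨U.mkQ w, Submodule.mem_map_of_mem hw⟩ =
      ⟨V.mkQ w, Submodule.mem_map_of_mem hw⟩ := by
    intro w hw
    apply Subtype.ext
    simp [q, LinearMap.restrict_apply]
  refine GFat.of_exact i q (Submodule.inclusion_injective _) ?_ ?_ h₁ h₂
  · rintro ⟨_, ⟨w, hw, rfl⟩⟩
    exact ⟨⟨U.mkQ w, Submodule.mem_map_of_mem hw⟩, hq w hw⟩
  · rintro ⟨_, ⟨w, hw, rfl⟩⟩
    have hq' := hq w hw
    constructor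
    · intro h0
      have h1 : q ⟨U.mkQ w, Submodule.mem_map_of_mem hw⟩ = 0 := h0
      rw [hq'] at h1
      have h2 : V.mkQ w = 0 := congrArg Subtype.val h1
      rw [Submodule.mkQ_apply, Submodule.Quotient.mk_eq_zero] at h2
      exact ⟨⟨U.mkQ w, Submodule.mem_map_of_mem h2⟩, rfl⟩
    · rintro ⟨⟨_, ⟨v, hv, rfl⟩⟩, hz⟩
      rw [← hz]
      have : i ⟨U.mkQ v, Submodule.mem_map_of_mem hv⟩ =
          ⟨U.mkQ v, Submodule.mem_map_of_mem (hVW hv)⟩ := rfl
      rw [this, hq v (hVW hv)]
      apply Subtype.ext
      change V.mkQ v = 0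
      rw [Submodule.mkQ_apply, Submodule.Quotient.mk_eq_zero]; exact hv

theorem of_le {U W : Submodule R N} (h : W ≤ U) : GFat R ↥(W.map U.mkQ) 1 := by
  haveI : Subsingleton ↥(W.map U.mkQ) := by
    refine ⟨fun a b => ?_⟩
    obtain ⟨_, ⟨w, hw, rfl⟩⟩ := a
    obtain ⟨_, ⟨w', hw', rfl⟩⟩ := b
    apply Subtype.ext
    change U.mkQ w = U.mkQ w'
    rw [Submodule.mkQ_apply, Submodule.mkQ_apply, (Submodule.Quotient.mk_eq_zero U).mpr (h hw),
      (Submodule.Quotient.mk_eq_zero U).mpr (h hw')]
  exact GFat.of_free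

end

section
variable (R : Type*) [CommRing R] {A : Type*} [CommRing A] [Algebra R A]
  {N : Type*} [AddCommGroup N] [Module A N] [Module R N] [IsScalarTower R A N]

/-- comparison between the `A`-submodule and `R`-submodule versions of `V/U` -/
noncomputable def mapMkQEquiv (U V : Submodule A N) :
    ↥((V.restrictScalars R).map (U.restrictScalars R).mkQ) ≃ₗ[R] ↥(V.map U.mkQ) := by
  let e₀ : (N ⧸ U.restrictScalars R) ≃ₗ[R] (N ⧸ U) := Submodule.Quotient.restrictScalarsEquiv R U
  have he₀ : ∀ y : N, e₀ ((U.restrictScalars R).mkQ y) = U.mkQ y := fun y => rfl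
  have hmem : ∀ x ∈ (V.restrictScalars R).map (U.restrictScalars R).mkQ,
      (e₀ : (N ⧸ U.restrictScalars R) →ₗ[R] (N ⧸ U)) x ∈ (V.map U.mkQ).restrictScalars R := by
    rintro _ ⟨y, hy, rfl⟩
    exact ⟨y, hy, rfl⟩
  let g : ↥((V.restrictScalars R).map (U.restrictScalars R).mkQ) →ₗ[R]
      ↥((V.map U.mkQ).restrictScalars R) :=
    (e₀ : (N ⧸ U.restrictScalars R) →ₗ[R] (N ⧸ U)).restrict hmem
  have hg : Function.Bijective g := by
    constructor
    · intro a b hab
      apply Subtype.ext
      have := congrArg Subtype.val hab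
      exact e₀.injective this
    · rintro ⟨_, ⟨y, hy, rfl⟩⟩
      exact ⟨⟨(U.restrictScalars R).mkQ y, Submodule.mem_map_of_mem hy⟩, rfl⟩
  exact (LinearEquiv.ofBijective g hg).trans
    ((Submodule.restrictScalarsEquiv R A (N ⧸ U) (V.map U.mkQ)).restrictScalars R)

end

section
variable (R : Type u) [CommRing R] [IsDomain R] [IsNoetherianRing R]

/-- the inductive statement -/
def P (n : ℕ) : Prop :=
  ∀ (A B : Type u) [CommRing A] [CommRing B] [Algebra R A] [Algebra R B] [Algebra A B]
    [IsScalarTower R A B] [Algebra.FiniteType R A]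
    (N : Type u) [AddCommGroup N] [Module R N] [Module A N] [Module B N]
    [IsScalarTower R A N] [IsScalarTower A B N] [IsScalarTower R B N]
    (x : Fin n → B), Algebra.adjoin A (Set.range x) = ⊤ →
    ∀ (M' : Submodule A N), M'.FG →
      GF R ↥(((Submodule.span B (M' : Set N)).restrictScalars R).map
        (M'.restrictScalars R).mkQ)

theorem P_zero : P R 0 := by
  intro A B _ _ _ _ _ _ _ N _ _ _ _ _ _ _ x hx M' hfg
  refine ⟨1, one_ne_zero, of_le ?_⟩
  have hsurj : Function.Surjective (algebraMap A B) := by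
    intro b
    have hb : b ∈ (⊤ : Subalgebra A B) := Algebra.mem_top
    rw [← hx, Set.range_eq_empty, Algebra.adjoin_empty, Algebra.mem_bot] at hb
    exact hb
  intro y hy
  change y ∈ Submodule.span B (M' : Set N) at hy
  change y ∈ M'
  induction hy using Submodule.span_induction with
  | mem y hy => exact hy
  | zero => exact M'.zero_mem
  | add a b _ _ ha hb => exact M'.add_mem ha hb
  | smul b y _ hy =>
    obtain ⟨a, rfl⟩ := hsurj b
    rw [algebraMap_smul]
    exact M'.smul_mem a hy

theorem P_succ (n : ℕ) (ih : P R n) : P R (n + 1) := by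
  intro A B _ _ _ _ _ _ _ N _ _ _ _ _ _ _ x hx M' hfg
  letI algA'B : Algebra A[X] B := (Polynomial.aeval (x 0) : A[X] →ₐ[A] B).toRingHom.toAlgebra
  have halg : ∀ p : A[X], algebraMap A[X] B p = Polynomial.aeval (x 0) p := fun p => rfl
  haveI : IsScalarTower A A[X] B := IsScalarTower.of_algebraMap_eq fun a => by
    rw [halg, Polynomial.algebraMap_apply, Algebra.algebraMap_self_apply, Polynomial.aeval_C]
  haveI : IsScalarTower R A[X] B := IsScalarTower.of_algebraMap_eq fun r => by
    rw [halg, Polynomial.algebraMap_apply, Polynomial.aeval_C,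
      ← IsScalarTower.algebraMap_apply R A B]
  letI modA'N : Module A[X] N := Module.compHom N (algebraMap A[X] B)
  have hsm : ∀ (p : A[X]) (y : N), p • y = (Polynomial.aeval (x 0) p) • y := fun p y => rfl
  haveI : IsScalarTower A[X] B N := ⟨fun p b y => by
    rw [hsm, Algebra.smul_def, halg, mul_smul]⟩
  haveI : IsScalarTower R A[X] N := ⟨fun r p y => by
    rw [hsm, hsm, ← algebraMap_smul A r p, map_smul, algebraMap_smul, smul_assoc]⟩
  haveI : IsScalarTower A A[X] N := ⟨fun a p y => by
    rw [hsm, hsm, map_smul, smul_assoc]⟩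
  haveI : Algebra.FiniteType R A[X] :=
    Algebra.FiniteType.trans (inferInstance : Algebra.FiniteType R A)
      (inferInstance : Algebra.FiniteType A A[X])
  -- the intermediate module
  let M'' : Submodule A[X] N := Submodule.span A[X] (M' : Set N)
  have hfg'' : M''.FG := by
    obtain ⟨s, hs⟩ := hfg
    refine ⟨s, ?_⟩
    change Submodule.span A[X] (s : Set N) = Submodule.span A[X] (M' : Set N)
    rw [← hs, Submodule.span_span_of_tower]
  have hx' : Algebra.adjoin A[X] (Set.range (Fin.tail x)) = ⊤ := by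
    rw [eq_top_iff]
    intro b _
    have h1 : Algebra.adjoin A (Set.range x) ≤
        (Algebra.adjoin A[X] (Set.range (Fin.tail x))).restrictScalars A := by
      refine Algebra.adjoin_le ?_
      rintro _ ⟨i, rfl⟩
      refine Fin.cases ?_ (fun k => ?_) i
      · have : x 0 = algebraMap A[X] B Polynomial.X := by rw [halg, Polynomial.aeval_X]
        rw [this]
        exact Subalgebra.algebraMap_mem (Algebra.adjoin A[X] (Set.range (Fin.tail x))) Polynomial.X
      · exact Algebra.subset_adjoin (R := A[X]) ⟨k, rfl⟩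
    rw [hx] at h1
    exact h1 Algebra.mem_top
  obtain ⟨f₂, hf₂, h₂⟩ := ih A[X] B N (Fin.tail x) hx' M'' hfg''
  have hspan : Submodule.span B (M'' : Set N) = Submodule.span B (M' : Set N) :=
    Submodule.span_span_of_tower A[X] B (M' : Set N)
  rw [hspan] at h₂
  -- the core lemma
  let φ : N →ₗ[A] N := (Algebra.lsmul A A N (x 0) : N →ₗ[A] N)
  have hφ : ∀ y, φ y = x 0 • y := fun y => rfl
  obtain ⟨f₁, hf₁, h₁⟩ := core R A φ M' hfg
  have hW : (⨆ j, F φ M' j).restrictScalars R = M''.restrictScalars R := by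
    apply le_antisymm
    · intro y hy
      change y ∈ ⨆ j, F φ M' j at hy
      change y ∈ M''
      have hle : (⨆ j, F φ M' j) ≤ M''.restrictScalars A := by
        refine iSup_le fun j => F_le_of_stable φ M' _ ?_ ?_ j
        · intro z hz; exact Submodule.subset_span hz
        · rintro _ ⟨z, hz, rfl⟩
          change φ z ∈ M''
          have : φ z = (Polynomial.X : A[X]) • z := by rw [hφ, hsm, Polynomial.aeval_X]
          rw [this]
          exact M''.smul_mem _ hz
      exact hle hy
    · intro y hy
      change y ∈ M'' at hy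
      change y ∈ ⨆ j, F φ M' j
      have hpow : ∀ (k : ℕ) (z : N), z ∈ (⨆ j, F φ M' j) → x 0 ^ k • z ∈ ⨆ j, F φ M' j := by
        intro k
        induction k with
        | zero => intro z hz; simpa using hz
        | succ k ihk =>
          intro z hz
          rw [pow_succ', mul_smul, ← hφ]
          exact map_iSup_F_le φ M' (Submodule.mem_map_of_mem (ihk z hz))
      have hsmul : ∀ (p : A[X]) (z : N), z ∈ (⨆ j, F φ M' j) → p • z ∈ ⨆ j, F φ M' j := by
        intro p
        induction p using Polynomial.induction_on' with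
        | add p q hp hq =>
          intro z hz
          rw [add_smul]
          exact Submodule.add_mem _ (hp z hz) (hq z hz)
        | monomial k a =>
          intro z hz
          rw [hsm, Polynomial.aeval_monomial, mul_smul, algebraMap_smul]
          exact Submodule.smul_mem _ a (hpow k z hz)
      induction hy using Submodule.span_induction with
      | mem z hz => exact (le_F φ M' 0).trans (le_iSup (F φ M') 0) hz
      | zero => exact Submodule.zero_mem _
      | add a b _ _ ha hb => exact Submodule.add_mem _ ha hb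
      | smul p z _ hz => exact hsmul p z hz
  have h₁' : GFat R ↥((M''.restrictScalars R).map (M'.restrictScalars R).mkQ) f₁ := by
    have := GFat.of_linearEquiv (mapMkQEquiv R M' (⨆ j, F φ M' j)).symm h₁
    rwa [hW] at this
  have hUV : M'.restrictScalars R ≤ M''.restrictScalars R := fun z hz =>
    Submodule.subset_span hz
  have hVW : M''.restrictScalars R ≤ (Submodule.span B (M' : Set N)).restrictScalars R := by
    intro z hz
    change z ∈ Submodule.span B (M' : Set N)
    rw [← hspan]
    exact Submodule.subset_span hz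
  exact ⟨f₁ * f₂, mul_ne_zero hf₁ hf₂, ext hUV hVW h₁' h₂⟩

theorem P_all (n : ℕ) : P R n := by
  induction n with
  | zero => exact P_zero R
  | succ n ih => exact P_succ R n ih

end

end Groth.Agent.Helper3.CokGF3
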