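import Mathlib
import Groth.Agent.Helper3.CokGF3

set_option autoImplicit false
set_option linter.style.haveILetI false
set_option linter.unusedSectionVars false
set_option linter.unusedVariables false
set_option linter.style.haveILetI false
set_option linter.unusedSectionVars false
set_option linter.unusedVariables false

universe u

namespace Groth.Agent.Helper3.CokGF4

open Groth.Agent.Helper8.GenFree Groth.Agent.Helper3.CokGF1 Groth.Agent.Helper3.CokGF2
  Groth.Agent.Helper3.CokGF3

/-- generic freeness of the cokernel, internal form -/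
theorem gf {R A B : Type u} [CommRing R] [IsDomain R] [IsNoetherianRing R] [CommRing A] [CommRing B]
    [Algebra R A] [Algebra A B] [Algebra R B] [IsScalarTower R A B] [Algebra.FiniteType R A]
    [Algebra.FiniteType A B]
    {N : Type u} [AddCommGroup N] [Module B N] [Module A N] [Module R N] [IsScalarTower A B N]
    [IsScalarTower R A N] [Module.Finite B N]
    (M' : Submodule A N) (hfg : M'.FG) :
    GF R (N ⧸ M'.restrictScalars R) := by
  classical
  haveI : IsScalarTower R B N := ⟨fun r b y => by
    rw [← algebraMap_smul A r b, smul_assoc, algebraMap_smul]⟩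
  obtain ⟨s, hs⟩ := (Algebra.FiniteType.out : (⊤ : Subalgebra A B).FG)
  let e := s.equivFin
  have hrange : Set.range (fun i => (e.symm i : B)) = (s : Set B) := by
    ext x
    constructor
    · rintro ⟨i, rfl⟩; exact (e.symm i).2
    · intro hx; exact ⟨e ⟨x, hx⟩, by simp⟩
  obtain ⟨f₁, hf₁, h₁⟩ := P_all R s.card A B N (fun i => (e.symm i : B)) (by rw [hrange, hs]) M' hfg
  let N' : Submodule B N := Submodule.span B (M' : Set N)
  haveI : Algebra.FiniteType R B :=
    Algebra.FiniteType.trans (inferInstance : Algebra.FiniteType R A)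
      (inferInstance : Algebra.FiniteType A B)
  obtain ⟨f₂, hf₂, h₂⟩ := genericFreeness R B (N ⧸ N')
  have hle : M'.restrictScalars R ≤ LinearMap.ker (N'.mkQ.restrictScalars R) := by
    intro y hy
    rw [LinearMap.mem_ker]
    change N'.mkQ y = 0
    rw [Submodule.mkQ_apply, Submodule.Quotient.mk_eq_zero]
    exact Submodule.subset_span hy
  let q : (N ⧸ M'.restrictScalars R) →ₗ[R] (N ⧸ N') :=
    (M'.restrictScalars R).liftQ (N'.mkQ.restrictScalars R) hle
  have hq : ∀ y : N, q ((M'.restrictScalars R).mkQ y) = N'.mkQ y := fun y => rfl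
  refine ⟨f₁ * f₂, mul_ne_zero hf₁ hf₂, ?_⟩
  refine GFat.of_exact (Submodule.subtype _) q (Submodule.subtype_injective _) ?_ ?_ h₁ h₂
  · intro z
    obtain ⟨y, rfl⟩ := Submodule.Quotient.mk_surjective N' z
    exact ⟨(M'.restrictScalars R).mkQ y, hq y⟩
  · intro z
    obtain ⟨y, rfl⟩ := Submodule.Quotient.mk_surjective (M'.restrictScalars R) z
    change q ((M'.restrictScalars R).mkQ y) = 0 ↔ _
    rw [hq, Submodule.mkQ_apply, Submodule.Quotient.mk_eq_zero]
    constructor
    · intro hy
      exact ⟨⟨(M'.restrictScalars R).mkQ y, Submodule.mem_map_of_mem hy⟩, rfl⟩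
    · rintro ⟨⟨_, ⟨y', hy', h⟩⟩, hz⟩
      have h1 : (M'.restrictScalars R).mkQ y' = (M'.restrictScalars R).mkQ y := by
        rw [h]; exact hz
      rw [Submodule.mkQ_apply, Submodule.mkQ_apply, Submodule.Quotient.eq] at h1
      have h2 : y' - y ∈ N' := Submodule.subset_span h1
      have h3 : y = y' - (y' - y) := by abel
      rw [h3]
      exact Submodule.sub_mem _ hy' h2

theorem main {R A B : Type u} [CommRing R] [IsDomain R] [IsNoetherianRing R] [CommRing A] [CommRing B]
    [Algebra R A] [Algebra A B] [Algebra R B] [IsScalarTower R A B] [Algebra.FiniteType R A]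
    [Algebra.FiniteType A B]
    {M N : Type u} [AddCommGroup M] [Module A M] [Module R M] [IsScalarTower R A M]
    [Module.Finite A M]
    [AddCommGroup N] [Module B N] [Module A N] [Module R N] [IsScalarTower A B N]
    [IsScalarTower R A N] [Module.Finite B N]
    (u : M →ₗ[A] N) :
    ∃ f : R, f ≠ 0 ∧ Module.Flat (Localization.Away f)
      (LocalizedModule (Submonoid.powers f) (N ⧸ (LinearMap.range u).restrictScalars R)) := by
  have hfg : (LinearMap.range u).FG := by
    rw [LinearMap.range_eq_map]
    exact (Module.Finite.fg_top : (⊤ : Submodule A M).FG).map u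
  obtain ⟨f, hf, h⟩ := gf (R := R) (B := B) (LinearMap.range u) hfg
  refine ⟨f, hf, ?_⟩
  haveI : Module.Free (Localization.Away f)
      (LocalizedModule (Submonoid.powers f) (N ⧸ (LinearMap.range u).restrictScalars R)) :=
    h.free_of_isLocalizedModule (Localization.Away f)
      (LocalizedModule (Submonoid.powers f) (N ⧸ (LinearMap.range u).restrictScalars R))
      (LocalizedModule.mkLinearMap (Submonoid.powers f) _)
  infer_instance

end Groth.Agent.Helper3.CokGF4
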