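import Mathlib
set_option autoImplicit false
set_option linter.style.haveILetI false
set_option linter.unusedSectionVars false
set_option linter.unusedVariables false
set_option linter.style.haveILetI false
set_option linter.unusedSectionVars false
set_option linter.unusedVariables false

universe u

namespace Groth.Agent.Helper3.CokLen

variable {A : Type u} [CommRing A]

/-- Part A: `length A/(f, ab) = length A/(f,a) + length A/(f,b)` for `f` prime not dividing `b`. -/
lemma length_pair_mul [IsDomain A] {f a b : A} (hf : Prime f) (hb : ¬ f ∣ b) :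
    Module.length A (A ⧸ Ideal.span ({f, a * b} : Set A)) =
      Module.length A (A ⧸ Ideal.span ({f, a} : Set A)) +
        Module.length A (A ⧸ Ideal.span ({f, b} : Set A)) := by
  have h1 : Ideal.span ({f, a} : Set A) ≤
      Submodule.comap (LinearMap.lsmul A A b) (Ideal.span ({f, a * b} : Set A)) := by
    intro x hx
    rw [Ideal.mem_span_pair] at hx
    obtain ⟨s, t, rfl⟩ := hx
    rw [Submodule.mem_comap, Ideal.mem_span_pair]
    exact ⟨b * s, t, by simp; ring⟩
  have h2 : Ideal.span ({f, a * b} : Set A) ≤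
      Submodule.comap (LinearMap.id : A →ₗ[A] A) (Ideal.span ({f, b} : Set A)) := by
    intro x hx
    rw [Ideal.mem_span_pair] at hx
    obtain ⟨s, t, rfl⟩ := hx
    rw [Submodule.mem_comap, Ideal.mem_span_pair]
    exact ⟨s, t * a, by simp; ring⟩
  refine Module.length_eq_add_of_exact
    (Submodule.mapQ _ _ (LinearMap.lsmul A A b) h1) (Submodule.mapQ _ _ LinearMap.id h2) ?_ ?_ ?_
  · rw [injective_iff_map_eq_zero]
    intro x hx
    obtain ⟨x, rfl⟩ := Submodule.Quotient.mk_surjective _ x
    rw [Submodule.mapQ_apply, Submodule.Quotient.mk_eq_zero] at hx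
    rw [Submodule.Quotient.mk_eq_zero]
    change b • x ∈ Ideal.span _ at hx
    rw [Ideal.mem_span_pair] at hx ⊢
    obtain ⟨s, t, hst⟩ := hx
    have hdvd : f ∣ b * (x - t * a) := ⟨s, by rw [smul_eq_mul] at hst; linear_combination -hst⟩
    obtain ⟨c, hc⟩ := (hf.dvd_or_dvd hdvd).resolve_left hb
    exact ⟨c, t, by linear_combination -hc⟩
  · intro x
    obtain ⟨x, rfl⟩ := Submodule.Quotient.mk_surjective _ x
    exact ⟨Submodule.Quotient.mk x, by simp⟩
  · intro x
    obtain ⟨x, rfl⟩ := Submodule.Quotient.mk_surjective _ x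
    rw [Submodule.mapQ_apply, Submodule.Quotient.mk_eq_zero]
    constructor
    · intro hx
      change x ∈ Ideal.span _ at hx
      rw [Ideal.mem_span_pair] at hx
      obtain ⟨s, t, rfl⟩ := hx
      refine ⟨Submodule.Quotient.mk t, ?_⟩
      rw [Submodule.mapQ_apply, eq_comm, ← sub_eq_zero, ← Submodule.Quotient.mk_sub,
        Submodule.Quotient.mk_eq_zero]
      change _ ∈ Ideal.span _
      rw [Ideal.mem_span_pair]
      exact ⟨s, 0, by simp; ring⟩
    · rintro ⟨y, hy⟩
      obtain ⟨y, rfl⟩ := Submodule.Quotient.mk_surjective _ y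
      rw [Submodule.mapQ_apply, ← sub_eq_zero, ← Submodule.Quotient.mk_sub,
        Submodule.Quotient.mk_eq_zero] at hy
      change _ ∈ Ideal.span _ at hy
      rw [Ideal.mem_span_pair] at hy
      obtain ⟨s, t, hst⟩ := hy
      change x ∈ Ideal.span _
      rw [Ideal.mem_span_pair]
      refine ⟨-s, y - t * a, ?_⟩
      simp only [LinearMap.lsmul_apply, smul_eq_mul] at hst
      linear_combination -hst

/-- Part B: product version. -/
lemma length_pair_prod [IsDomain A] {f : A} (hf : Prime f) :
    ∀ (n : ℕ) (g : Fin n → A), (∀ j, ¬ f ∣ g j) →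
    Module.length A (A ⧸ Ideal.span ({f, ∏ j, g j} : Set A)) =
      ∑ j, Module.length A (A ⧸ Ideal.span ({f, g j} : Set A)) := by
  intro n
  induction n with
  | zero =>
    intro g _
    rw [Fin.prod_univ_zero, Fin.sum_univ_zero]
    have : Ideal.span ({f, 1} : Set A) = ⊤ :=
      Ideal.eq_top_of_isUnit_mem _ (Ideal.subset_span (by simp)) isUnit_one
    rw [this, Module.length_eq_zero_iff]
    infer_instance
  | succ n ih =>
    intro g hg
    rw [Fin.prod_univ_succ, Fin.sum_univ_succ]
    have hb : ¬ f ∣ ∏ j : Fin n, g j.succ := by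
      rw [Prime.dvd_finset_prod_iff hf]
      rintro ⟨j, -, hj⟩
      exact hg _ hj
    rw [length_pair_mul hf hb, ih (fun j => g j.succ) (fun j => hg _)]

/-- Part C: cokernel of a composition. -/
lemma length_coker_comp {X Y Z : Type*} [AddCommGroup X] [Module A X] [AddCommGroup Y] [Module A Y]
    [AddCommGroup Z] [Module A Z] (u : X →ₗ[A] Y) (v : Y →ₗ[A] Z) (hv : Function.Injective v) :
    Module.length A (Z ⧸ LinearMap.range (v ∘ₗ u)) =
      Module.length A (Y ⧸ LinearMap.range u) + Module.length A (Z ⧸ LinearMap.range v) := by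
  have h1 : LinearMap.range u ≤ (LinearMap.range (v ∘ₗ u)).comap v := by
    rintro _ ⟨x, rfl⟩
    exact ⟨x, rfl⟩
  have h2 : LinearMap.range (v ∘ₗ u) ≤ (LinearMap.range v).comap LinearMap.id := by
    rintro _ ⟨x, rfl⟩
    exact ⟨u x, rfl⟩
  refine Module.length_eq_add_of_exact
    (Submodule.mapQ _ _ v h1) (Submodule.mapQ _ _ LinearMap.id h2) ?_ ?_ ?_
  · rw [injective_iff_map_eq_zero]
    intro y hy
    obtain ⟨y, rfl⟩ := Submodule.Quotient.mk_surjective _ y
    rw [Submodule.mapQ_apply, Submodule.Quotient.mk_eq_zero] at hy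
    rw [Submodule.Quotient.mk_eq_zero]
    obtain ⟨x, hx⟩ := hy
    exact ⟨x, hv hx⟩
  · intro z
    obtain ⟨z, rfl⟩ := Submodule.Quotient.mk_surjective _ z
    exact ⟨Submodule.Quotient.mk z, rfl⟩
  · intro z
    obtain ⟨z, rfl⟩ := Submodule.Quotient.mk_surjective _ z
    rw [Submodule.mapQ_apply, Submodule.Quotient.mk_eq_zero]
    constructor
    · rintro ⟨y, hy⟩
      exact ⟨Submodule.Quotient.mk y, by rw [Submodule.mapQ_apply, hy]; rfl⟩
    · rintro ⟨y, hy⟩
      obtain ⟨y, rfl⟩ := Submodule.Quotient.mk_surjective _ y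
      rw [Submodule.mapQ_apply, ← sub_eq_zero, ← Submodule.Quotient.mk_sub,
        Submodule.Quotient.mk_eq_zero] at hy
      obtain ⟨x, hx⟩ := hy
      refine ⟨y - u x, ?_⟩
      simp only [LinearMap.coe_comp, Function.comp_apply] at hx
      rw [map_sub, hx, LinearMap.id_apply]
      abel


/-- Part D: the cokernel of `A/I → A/(a) × A/(b)` is `A/(a,b)`. -/
lemma length_coker_pair (I : Ideal A) (a b : A) (ha : I ≤ Ideal.span {a}) (hb : I ≤ Ideal.span {b}) :
    Module.length A (((A ⧸ Ideal.span {a}) × (A ⧸ Ideal.span {b})) ⧸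
      LinearMap.range ((Submodule.mapQ I (Ideal.span {a}) LinearMap.id ha).prod
        (Submodule.mapQ I (Ideal.span {b}) LinearMap.id hb))) =
    Module.length A (A ⧸ Ideal.span ({a, b} : Set A)) := by
  have h1 : Ideal.span {a} ≤ Submodule.comap (LinearMap.id : A →ₗ[A] A)
      (Ideal.span ({a, b} : Set A)) := by
    intro x hx
    exact Ideal.span_mono (by simp) hx
  have h2 : Ideal.span {b} ≤ Submodule.comap (LinearMap.id : A →ₗ[A] A)
      (Ideal.span ({a, b} : Set A)) := by
    intro x hx
    exact Ideal.span_mono (by simp) hx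
  let d : ((A ⧸ Ideal.span {a}) × (A ⧸ Ideal.span {b})) →ₗ[A] A ⧸ Ideal.span ({a, b} : Set A) :=
    (Submodule.mapQ _ _ LinearMap.id h1).coprod (-(Submodule.mapQ _ _ LinearMap.id h2))
  have hd : Function.Surjective d := by
    intro z
    obtain ⟨z, rfl⟩ := Submodule.Quotient.mk_surjective _ z
    exact ⟨(Submodule.Quotient.mk z, 0), by simp [d]⟩
  have hker : LinearMap.range ((Submodule.mapQ I (Ideal.span {a}) LinearMap.id ha).prod
        (Submodule.mapQ I (Ideal.span {b}) LinearMap.id hb)) = LinearMap.ker d := by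
    ext ⟨x, y⟩
    obtain ⟨x, rfl⟩ := Submodule.Quotient.mk_surjective _ x
    obtain ⟨y, rfl⟩ := Submodule.Quotient.mk_surjective _ y
    constructor
    · rintro ⟨z, hz⟩
      obtain ⟨z, rfl⟩ := Submodule.Quotient.mk_surjective _ z
      rw [LinearMap.mem_ker, ← hz]
      simp [d]
    · intro h
      rw [LinearMap.mem_ker] at h
      simp only [d, LinearMap.coprod_apply, Submodule.mapQ_apply, LinearMap.id_apply,
        LinearMap.neg_apply] at h
      rw [← sub_eq_add_neg, ← Submodule.Quotient.mk_sub, Submodule.Quotient.mk_eq_zero] at h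
      change _ ∈ Ideal.span _ at h
      rw [Ideal.mem_span_pair] at h
      obtain ⟨s, t, hst⟩ := h
      refine ⟨Submodule.Quotient.mk (x - s * a), ?_⟩
      rw [LinearMap.prod_apply]
      change (Submodule.mapQ I (Ideal.span {a}) LinearMap.id ha (Submodule.Quotient.mk (x - s * a)),
        Submodule.mapQ I (Ideal.span {b}) LinearMap.id hb (Submodule.Quotient.mk (x - s * a))) = _
      rw [Submodule.mapQ_apply, Submodule.mapQ_apply, LinearMap.id_apply, Prod.mk.injEq]
      constructor
      · rw [← sub_eq_zero, ← Submodule.Quotient.mk_sub, Submodule.Quotient.mk_eq_zero]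
        change _ ∈ Ideal.span _
        rw [Ideal.mem_span_singleton']
        exact ⟨-s, by ring⟩
      · rw [← sub_eq_zero, ← Submodule.Quotient.mk_sub, Submodule.Quotient.mk_eq_zero]
        change _ ∈ Ideal.span _
        rw [Ideal.mem_span_singleton']
        exact ⟨t, by linear_combination hst⟩
  exact ((Submodule.quotEquivOfEq _ _ hker).trans (d.quotKerEquivOfSurjective hd)).length_eq

/-- Part D': cokernel of `id × ψ`. -/
lemma length_coker_prodMap {W X Z : Type*} [AddCommGroup W] [Module A W] [AddCommGroup X]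
    [Module A X] [AddCommGroup Z] [Module A Z] (ψ : X →ₗ[A] Z) :
    Module.length A ((W × Z) ⧸ LinearMap.range (LinearMap.prodMap (LinearMap.id : W →ₗ[A] W) ψ)) =
      Module.length A (Z ⧸ LinearMap.range ψ) := by
  let q : (W × Z) →ₗ[A] Z ⧸ LinearMap.range ψ := (LinearMap.range ψ).mkQ ∘ₗ LinearMap.snd A W Z
  have hq : Function.Surjective q := by
    intro z
    obtain ⟨z, rfl⟩ := Submodule.Quotient.mk_surjective _ z
    exact ⟨(0, z), rfl⟩
  have hker : LinearMap.range (LinearMap.prodMap (LinearMap.id : W →ₗ[A] W) ψ) =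
      LinearMap.ker q := by
    ext ⟨w, z⟩
    simp only [LinearMap.mem_range, LinearMap.prodMap_apply, LinearMap.id_apply, Prod.mk.injEq,
      Prod.exists, LinearMap.mem_ker, q, LinearMap.coe_comp, Function.comp_apply,
      LinearMap.snd_apply, Submodule.mkQ_apply, Submodule.Quotient.mk_eq_zero]
    constructor
    · rintro ⟨_, x, -, hx⟩
      exact ⟨x, hx⟩
    · rintro ⟨x, hx⟩
      exact ⟨w, x, rfl, hx⟩
  exact ((Submodule.quotEquivOfEq _ _ hker).trans (q.quotKerEquivOfSurjective hq)).length_eq

/-- Part D'': cokernel after composing with an equivalence. -/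
lemma length_coker_equiv_comp {X Z Z₂ : Type*} [AddCommGroup X] [Module A X] [AddCommGroup Z]
    [Module A Z] [AddCommGroup Z₂] [Module A Z₂] (w : X →ₗ[A] Z) (c : Z ≃ₗ[A] Z₂) :
    Module.length A (Z₂ ⧸ LinearMap.range (c.toLinearMap ∘ₗ w)) =
      Module.length A (Z ⧸ LinearMap.range w) := by
  have h : (LinearMap.range w).map c.toLinearMap = LinearMap.range (c.toLinearMap ∘ₗ w) := by
    rw [LinearMap.range_comp]
  exact (Submodule.Quotient.equiv (LinearMap.range w) (LinearMap.range (c.toLinearMap ∘ₗ w)) c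
    h).length_eq.symm


lemma sum_lt_succ {n : ℕ} (L : Fin (n + 1) → Fin (n + 1) → ℕ∞) :
    (∑ i : Fin (n + 1), ∑ j : Fin (n + 1), if i < j then L i j else 0) =
      (∑ j : Fin n, L 0 j.succ) +
        ∑ i : Fin n, ∑ j : Fin n, if i < j then L i.succ j.succ else 0 := by
  rw [Fin.sum_univ_succ]
  congr 1
  · rw [Fin.sum_univ_succ]
    simp [Fin.succ_pos]
  · apply Finset.sum_congr rfl
    intro i _
    rw [Fin.sum_univ_succ]
    simp [Fin.succ_lt_succ_iff]

theorem main_aux [IsDomain A] [UniqueFactorizationMonoid A] :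
    ∀ (n : ℕ) (f : Fin n → A), (∀ i, Prime (f i)) → (∀ i j, i ≠ j → IsRelPrime (f i) (f j)) →
    ∀ (I : Ideal A) (hI : I = Ideal.span {∏ i, f i})
      (ψ : (A ⧸ I) →ₗ[A] ((i : Fin n) → A ⧸ Ideal.span {f i})),
      (∀ x : A, ψ (Submodule.Quotient.mk x) = fun i => Submodule.Quotient.mk x) →
      Function.Injective ψ ∧
        Module.length A (((i : Fin n) → A ⧸ Ideal.span {f i}) ⧸ LinearMap.range ψ) =
        ∑ i : Fin n, ∑ j : Fin n,
          if i < j then Module.length A (A ⧸ Ideal.span ({f i, f j} : Set A)) else 0 := by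
  intro n
  induction n with
  | zero =>
    intro f _ _ I hI ψ hψ
    have hItop : I = ⊤ := by
      rw [hI, Fin.prod_univ_zero, Ideal.span_singleton_one]
    have : Subsingleton (A ⧸ I) := by
      exact Submodule.Quotient.subsingleton_iff.mpr hItop
    refine ⟨Function.injective_of_subsingleton ψ, ?_⟩
    rw [Fin.sum_univ_zero, Module.length_eq_zero_iff]
    infer_instance
  | succ n ih =>
    intro f hp hrel I hI ψ hψ
    set g : A := ∏ i : Fin n, f i.succ with hg
    have hprod : ∏ i, f i = f 0 * g := Fin.prod_univ_succ f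
    have hIa : I ≤ Ideal.span {f 0} := by
      rw [hI, hprod, Ideal.span_singleton_le_span_singleton]
      exact dvd_mul_right _ _
    have hIb : I ≤ Ideal.span {g} := by
      rw [hI, hprod, Ideal.span_singleton_le_span_singleton]
      exact dvd_mul_left _ _
    have hrel0 : IsRelPrime (f 0) g :=
      IsRelPrime.prod_right fun j _ => hrel 0 j.succ (Fin.succ_ne_zero j).symm
    have hndvd : ∀ j : Fin n, ¬ f 0 ∣ f j.succ := by
      intro j hj
      exact (hp 0).not_unit (hrel 0 j.succ (Fin.succ_ne_zero j).symm dvd_rfl hj)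
    let u : (A ⧸ I) →ₗ[A] (A ⧸ Ideal.span {f 0}) × (A ⧸ Ideal.span {g}) :=
      (Submodule.mapQ I (Ideal.span {f 0}) LinearMap.id hIa).prod
        (Submodule.mapQ I (Ideal.span {g}) LinearMap.id hIb)
    have hle : ∀ i : Fin n, Ideal.span {g} ≤
        Submodule.comap (LinearMap.id : A →ₗ[A] A) (Ideal.span {f i.succ}) := by
      intro i
      change Ideal.span {g} ≤ Ideal.span {f i.succ}
      rw [Ideal.span_singleton_le_span_singleton]
      exact Finset.dvd_prod_of_mem (fun i : Fin n => f i.succ) (Finset.mem_univ i)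
    let ψ' : (A ⧸ Ideal.span {g}) →ₗ[A] ((i : Fin n) → A ⧸ Ideal.span {f i.succ}) :=
      LinearMap.pi fun i => Submodule.mapQ _ _ LinearMap.id (hle i)
    obtain ⟨hinj', hlen'⟩ := ih (fun i => f i.succ) (fun i => hp _)
      (fun i j hij => hrel _ _ (fun h => hij (Fin.succ_injective _ h))) (Ideal.span {g}) rfl ψ'
      (fun x => rfl)
    let v : (A ⧸ Ideal.span {f 0}) × (A ⧸ Ideal.span {g}) →ₗ[A]
        (A ⧸ Ideal.span {f 0}) × ((i : Fin n) → A ⧸ Ideal.span {f i.succ}) :=
      LinearMap.prodMap LinearMap.id ψ'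
    let c := Fin.consLinearEquiv A (fun i : Fin (n + 1) => A ⧸ Ideal.span {f i})
    have hψe : ψ = c.toLinearMap ∘ₗ (v ∘ₗ u) := by
      apply LinearMap.ext
      intro x
      obtain ⟨x, rfl⟩ := Submodule.Quotient.mk_surjective _ x
      rw [hψ]
      funext i
      refine Fin.cases ?_ (fun i => ?_) i
      · rfl
      · rfl
    have hvinj : Function.Injective v := by
      intro a b hab
      simp only [v, LinearMap.prodMap_apply, LinearMap.id_apply, Prod.mk.injEq] at hab
      exact Prod.ext hab.1 (hinj' hab.2)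
    have huinj : Function.Injective u := by
      rw [injective_iff_map_eq_zero]
      intro x hx
      obtain ⟨x, rfl⟩ := Submodule.Quotient.mk_surjective _ x
      have hx1 : Submodule.mapQ I (Ideal.span {f 0}) LinearMap.id hIa (Submodule.Quotient.mk x) = 0 :=
        congrArg Prod.fst hx
      have hx2 : Submodule.mapQ I (Ideal.span {g}) LinearMap.id hIb (Submodule.Quotient.mk x) = 0 :=
        congrArg Prod.snd hx
      rw [Submodule.mapQ_apply, Submodule.Quotient.mk_eq_zero] at hx1 hx2
      change x ∈ Ideal.span _ at hx1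
      change x ∈ Ideal.span _ at hx2
      rw [Ideal.mem_span_singleton] at hx1 hx2
      rw [Submodule.Quotient.mk_eq_zero, hI, hprod, Ideal.mem_span_singleton]
      exact hrel0.mul_dvd hx1 hx2
    refine ⟨?_, ?_⟩
    · rw [hψe]
      exact c.injective.comp (hvinj.comp huinj)
    · rw [hψe, length_coker_equiv_comp, length_coker_comp u v hvinj, length_coker_pair,
        length_coker_prodMap, hlen', length_pair_prod (hp 0) n (fun j => f j.succ) hndvd,
        sum_lt_succ]

end Groth.Agent.Helper3.CokLen
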