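import Mathlib

/-! Cokernel of a map of finite projective modules: local freeness via residue fields. -/

universe u v w

set_option linter.unusedSectionVars false

open scoped TensorProduct

namespace Groth.Agent.Helper3

open TensorProduct

variable {R : Type u} [CommRing R]

section Local

variable (S : Type u) [CommRing S] [Algebra R S] [IsLocalRing S]

/-- naturality of `cancelBaseChange` -/
theorem cancelBaseChange_nat {X : Type v} {Y : Type w} [AddCommGroup X] [Module R X]
    [AddCommGroup Y] [Module R Y] (κ : Type u) [Field κ] [Algebra S κ] [Algebra R κ]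
    [IsScalarTower R S κ] (g : X →ₗ[R] Y) (z : κ ⊗[S] (S ⊗[R] X)) :
    AlgebraTensorModule.cancelBaseChange R S S κ Y ((LinearMap.lTensor κ (g.baseChange S)) z) =
      (g.baseChange κ) (AlgebraTensorModule.cancelBaseChange R S S κ X z) := by
  induction z using TensorProduct.induction_on with
  | zero => simp
  | tmul a w =>
    induction w using TensorProduct.induction_on with
    | zero => simp
    | tmul s x => simp
    | add w₁ w₂ h₁ h₂ =>
      rw [TensorProduct.tmul_add, map_add, map_add, map_add, map_add, h₁, h₂]
  | add z₁ z₂ h₁ h₂ => rw [map_add, map_add, map_add, map_add, h₁, h₂]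

end Local

variable {M : Type v} {N : Type w} [AddCommGroup M] [Module R M] [AddCommGroup N] [Module R N]

theorem cond_iff_injective (κ : Type u) [Field κ] [Algebra R κ] (d : M →ₗ[R] N) :
    LinearMap.ker (d.baseChange κ) ≤ LinearMap.range ((LinearMap.ker d).subtype.baseChange κ) ↔
      Function.Injective ((LinearMap.range d).subtype.baseChange κ) := by
  set d' : M →ₗ[R] LinearMap.range d := d.rangeRestrict with hd'
  have hsurj : Function.Surjective d' := d.surjective_rangeRestrict
  have hex0 : Function.Exact (LinearMap.ker d).subtype d' := by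
    intro x
    constructor
    · intro hx
      have hx' : d x = 0 := congrArg Subtype.val hx
      exact ⟨⟨x, hx'⟩, rfl⟩
    · rintro ⟨⟨y, hy⟩, rfl⟩
      apply Subtype.ext
      exact LinearMap.mem_ker.mp hy
  have hex : Function.Exact ((LinearMap.ker d).subtype.baseChange κ) (d'.baseChange κ) := by
    have := lTensor_exact κ hex0 hsurj
    simpa only [LinearMap.baseChange_eq_ltensor] using this
  have hsurj' : Function.Surjective (d'.baseChange κ) := by
    have := LinearMap.lTensor_surjective κ hsurj
    simpa only [LinearMap.baseChange_eq_ltensor] using this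
  have hcomp : ∀ x, d.baseChange κ x =
      (LinearMap.range d).subtype.baseChange κ (d'.baseChange κ x) := by
    intro x
    have h0 : d = (LinearMap.range d).subtype ∘ₗ d' := by
      ext m
      rfl
    conv_lhs => rw [h0, LinearMap.baseChange_comp]
    rfl
  constructor
  · intro hc
    rw [injective_iff_map_eq_zero]
    intro y hy
    obtain ⟨x, rfl⟩ := hsurj' y
    have hx : x ∈ LinearMap.ker (d.baseChange κ) := by
      rw [LinearMap.mem_ker, hcomp, hy]
    exact (hex x).2 (hc hx)
  · intro hinj x hx
    rw [LinearMap.mem_ker, hcomp] at hx
    have : d'.baseChange κ x = 0 := hinj (by rw [hx, map_zero])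
    exact (hex x).1 this

theorem cond_iff_mem_freeLocus [Module.Finite R M] [Module.Finite R N] [Module.Projective R N]
    (d : M →ₗ[R] N) (p : PrimeSpectrum R) :
    LinearMap.ker (d.baseChange p.asIdeal.ResidueField) ≤
        LinearMap.range ((LinearMap.ker d).subtype.baseChange p.asIdeal.ResidueField) ↔
      p ∈ Module.freeLocus R (N ⧸ LinearMap.range d) := by
  rw [cond_iff_injective, Module.mem_freeLocus_iff_tensor p (Localization.AtPrime p.asIdeal)]
  set S := Localization.AtPrime p.asIdeal with hS
  set κ := p.asIdeal.ResidueField with hκ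
  set E := LinearMap.range d with hE
  let ι : E →ₗ[R] N := E.subtype
  let q : N →ₗ[R] N ⧸ E := E.mkQ
  let l : S ⊗[R] E →ₗ[S] S ⊗[R] N := ι.baseChange S
  let qS : S ⊗[R] N →ₗ[S] S ⊗[R] (N ⧸ E) := q.baseChange S
  have hl_inj : Function.Injective l := by
    have := Module.Flat.lTensor_preserves_injective_linearMap (M := S) ι E.subtype_injective
    simpa only [l, LinearMap.baseChange_eq_ltensor] using this
  have hqS : Function.Surjective qS := by
    have := LinearMap.lTensor_surjective S (Submodule.mkQ_surjective E)
    simpa only [qS, LinearMap.baseChange_eq_ltensor] using this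
  have hex : Function.Exact l qS := by
    have := lTensor_exact S (LinearMap.exact_subtype_mkQ E) (Submodule.mkQ_surjective E)
    simpa only [l, qS, LinearMap.baseChange_eq_ltensor] using this
  have hnat := cancelBaseChange_nat (R := R) S κ ι
  have hequiv : Function.Injective (LinearMap.lTensor κ l) ↔
      Function.Injective (ι.baseChange κ) := by
    constructor
    · intro h
      rw [injective_iff_map_eq_zero]
      intro y hy
      obtain ⟨z, rfl⟩ := (AlgebraTensorModule.cancelBaseChange R S S κ E).surjective y
      rw [← hnat, LinearEquiv.map_eq_zero_iff] at hy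
      have := h (a₁ := z) (a₂ := 0) (by rw [hy, map_zero])
      rw [this, map_zero]
    · intro h
      rw [injective_iff_map_eq_zero]
      intro z hz
      have h1 := hnat z
      rw [hz, map_zero] at h1
      have h2 := h (a₁ := _) (a₂ := 0) (by rw [← h1, map_zero])
      exact (AlgebraTensorModule.cancelBaseChange R S S κ E).map_eq_zero_iff.mp h2
  have : Module.Finite R E := Module.Finite.range d
  have : Module.Free S (S ⊗[R] N) := Module.free_of_flat_of_isLocalRing
  rw [← hequiv]
  constructor
  · intro h
    exact Module.free_of_lTensor_residueField_injective l qS hqS hex h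
  · intro hfree
    obtain ⟨s, hs⟩ := Module.projective_lifting_property qS LinearMap.id hqS
    let P : S ⊗[R] N →ₗ[S] S ⊗[R] N := LinearMap.id - s ∘ₗ qS
    have hP : ∀ x, P x ∈ LinearMap.range l := by
      intro x
      apply (hex _).1
      have := LinearMap.congr_fun hs (qS x)
      simp only [LinearMap.comp_apply, LinearMap.id_apply] at this
      simp only [P, LinearMap.sub_apply, LinearMap.id_apply, LinearMap.comp_apply, map_sub, this,
        sub_self]
    let r : S ⊗[R] N →ₗ[S] S ⊗[R] E :=
      (LinearEquiv.ofInjective l hl_inj).symm.toLinearMap ∘ₗ P.codRestrict _ hP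
    have hr : r ∘ₗ l = LinearMap.id := by
      refine LinearMap.ext fun x => ?_
      simp only [r, LinearMap.comp_apply, LinearEquiv.coe_coe, LinearMap.id_apply]
      rw [LinearEquiv.symm_apply_eq]
      apply Subtype.ext
      rw [LinearMap.codRestrict_apply, LinearEquiv.ofInjective_apply]
      simp only [P, LinearMap.sub_apply, LinearMap.id_apply, LinearMap.comp_apply]
      rw [(hex _).2 ⟨x, rfl⟩, map_zero, sub_zero]
    have h3 : LinearMap.lTensor κ r ∘ₗ LinearMap.lTensor κ l = LinearMap.id := by
      rw [← LinearMap.lTensor_comp, hr, LinearMap.lTensor_id]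
    exact Function.HasLeftInverse.injective ⟨_, LinearMap.congr_fun h3⟩

end Groth.Agent.Helper3
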