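import Mathlib

set_option autoImplicit false
set_option linter.style.haveILetI false
set_option linter.unusedSectionVars false
set_option linter.unusedVariables false
set_option linter.deprecated false
set_option linter.style.haveILetI false
set_option linter.unusedSectionVars false
set_option linter.unusedVariables false

universe u

open TensorProduct

namespace Groth.Agent.Helper3.CompSchA

variable (k A : Type u) [Field k] [CommRing A] [Algebra k A]

/-- a finite étale (= finite and unramified) subalgebra -/
def IsEt (M : Subalgebra k A) : Prop := Module.Finite k M ∧ Algebra.FormallyUnramified k M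

variable {k A}

theorem isEt_of_surjective {B : Type u} [CommRing B] [Algebra k B] [Module.Finite k B]
    [Algebra.FormallyUnramified k B] (M : Subalgebra k A) (φ : B →ₐ[k] M)
    (hφ : Function.Surjective φ) : IsEt k A M :=
  ⟨Module.Finite.of_surjective φ.toLinearMap hφ, Algebra.FormallyUnramified.of_surjective φ hφ⟩

theorem isEt_range {B : Type u} [CommRing B] [Algebra k B] [Module.Finite k B]
    [Algebra.FormallyUnramified k B] (φ : B →ₐ[k] A) : IsEt k A φ.range :=
  isEt_of_surjective φ.range φ.rangeRestrict φ.rangeRestrict_surjective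

theorem isEt_bot : IsEt k A ⊥ := by
  have h := isEt_range (k := k) (A := A) (Algebra.ofId k A)
  have e : (Algebra.ofId k A).range = ⊥ := by
    rw [eq_bot_iff]
    rintro _ ⟨x, rfl⟩
    exact Subalgebra.algebraMap_mem _ x
  rwa [e] at h

theorem IsEt.sup {M M' : Subalgebra k A} (h : IsEt k A M) (h' : IsEt k A M') :
    IsEt k A (M ⊔ M') := by
  haveI := h.1
  haveI := h.2
  haveI := h'.1
  haveI := h'.2
  haveI : Algebra.FormallyUnramified M (M ⊗[k] M') := Algebra.FormallyUnramified.base_change M
  haveI : Algebra.FormallyUnramified k (M ⊗[k] M') := Algebra.FormallyUnramified.comp k M _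
  have hr := isEt_range (k := k) (A := A) (Algebra.TensorProduct.productMap M.val M'.val)
  rwa [Algebra.TensorProduct.productMap_range, Subalgebra.range_val, Subalgebra.range_val] at hr

/-- an Artinian ring with only trivial idempotents is local -/
theorem isLocalRing_of_idem (R : Type u) [CommRing R] [IsArtinianRing R] [Nontrivial R]
    (h : ∀ e : R, IsIdempotentElem e → e = 0 ∨ e = 1) : IsLocalRing R := by
  obtain ⟨m, hm⟩ := Ideal.exists_maximal R
  refine IsLocalRing.of_unique_max_ideal ⟨m, hm, fun m' hm' => ?_⟩
  by_contra hne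
  let p : PrimeSpectrum R := ⟨m, hm.isPrime⟩
  let p' : PrimeSpectrum R := ⟨m', hm'.isPrime⟩
  have hcl : IsClopen ({p} : Set (PrimeSpectrum R)) := isClopen_discrete _
  obtain ⟨e, he, hs⟩ := PrimeSpectrum.isClopen_iff.mp hcl
  rcases h e he with rfl | rfl
  · have : p ∈ ({p} : Set (PrimeSpectrum R)) := rfl
    rw [hs] at this
    simp at this
  · have : p' ∈ ((PrimeSpectrum.basicOpen (1 : R) : TopologicalSpace.Opens _) :
        Set (PrimeSpectrum R)) := by simp
    rw [← hs] at this
    have h2 : p' = p := this
    exact hne (congrArg PrimeSpectrum.asIdeal h2)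

theorem IsEt.isField [Nontrivial A] (hidem : ∀ e : A, IsIdempotentElem e → e = 0 ∨ e = 1)
    {M : Subalgebra k A} (h : IsEt k A M) : IsField M := by
  haveI := h.1
  haveI := h.2
  haveI : IsArtinianRing M := IsArtinianRing.of_finite k M
  haveI : Algebra.EssFiniteType k M := inferInstance
  haveI : IsReduced M := Algebra.FormallyUnramified.isReduced_of_field k M
  haveI : IsLocalRing M := by
    apply isLocalRing_of_idem
    intro e he
    have he' : IsIdempotentElem (e : A) := by
      have := congrArg Subtype.val he.eq
      exact this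
    rcases hidem _ he' with h0 | h1
    · left; exact Subtype.ext h0
    · right; exact Subtype.ext h1
  exact IsArtinianRing.isField_of_isReduced_of_isLocalRing M

theorem exists_max [Nontrivial A] (hidem : ∀ e : A, IsIdempotentElem e → e = 0 ∨ e = 1)
    (L : Type u) [CommRing L] [Nontrivial L] [Algebra k L] [Module.Finite k L] (ev : A →ₐ[k] L) :
    ∃ M₀ : Subalgebra k A, IsEt k A M₀ ∧ ∀ M, IsEt k A M → M ≤ M₀ := by
  have hbound : ∀ M : Subalgebra k A, IsEt k A M → Module.finrank k M ≤ Module.finrank k L := by
    intro M hM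
    letI := (hM.isField hidem).toField
    have hinj : Function.Injective (ev.comp M.val) := (ev.comp M.val).toRingHom.injective
    exact LinearMap.finrank_le_finrank_of_injective (f := (ev.comp M.val).toLinearMap) hinj
  let S : Set ℕ := {n | ∃ M : Subalgebra k A, IsEt k A M ∧ Module.finrank k M = n}
  have hSne : S.Nonempty := ⟨_, ⊥, isEt_bot, rfl⟩
  have hSb : BddAbove S := ⟨Module.finrank k L, by
    rintro n ⟨M, hM, rfl⟩
    exact hbound M hM⟩
  obtain ⟨M₀, hM₀, hn⟩ := Nat.sSup_mem hSne hSb
  refine ⟨M₀, hM₀, fun M hM => ?_⟩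
  have hsup := hM.sup hM₀
  have hle : Module.finrank k ↥(M ⊔ M₀) ≤ Module.finrank k M₀ := by
    rw [hn]
    exact le_csSup hSb ⟨_, hsup, rfl⟩
  haveI := hsup.1
  have heq : Subalgebra.toSubmodule M₀ = Subalgebra.toSubmodule (M ⊔ M₀) := by
    haveI : FiniteDimensional k ↥(Subalgebra.toSubmodule (M ⊔ M₀)) := hsup.1
    apply Submodule.eq_of_le_of_finrank_le
    · exact Subalgebra.toSubmodule.monotone le_sup_right
    · exact hle
  have heq' : M₀ = M ⊔ M₀ := Subalgebra.toSubmodule_injective heq
  rw [heq']
  exact le_sup_left

end Groth.Agent.Helper3.CompSchA
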