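import Mathlib
import Groth.Agent.Helper3.CompSchA
import Groth.Agent.Helper3.GammaConn

set_option autoImplicit false
set_option linter.style.haveILetI false
set_option linter.unusedSectionVars false
set_option linter.unusedVariables false
set_option linter.deprecated false
set_option linter.style.haveILetI false
set_option linter.unusedSectionVars false
set_option linter.unusedVariables false

universe u

open CategoryTheory CategoryTheory.Limits AlgebraicGeometry TopologicalSpace Opposite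

namespace Groth.Agent.Helper3.CompSchB

variable (k : Type u) [Field k]

/-- an étale scheme over a field is locally Artinian -/
theorem isLocallyArtinian_of_etale {Y : Scheme.{u}} (gY : Y ⟶ Spec (CommRingCat.of k))
    [Etale gY] : IsLocallyArtinian Y := by
  refine ⟨fun U => ?_⟩
  have h1 : (gY.appLE ⊤ U.1 le_top).hom.Etale :=
    HasRingHomProperty.appLE (P := @Etale) gY inferInstance ⟨⊤, isAffineOpen_top _⟩ U _
  let φ : k →+* Γ(Y, U.1) :=
    ((Scheme.ΓSpecIso (CommRingCat.of k)).inv ≫ gY.appLE ⊤ U.1 le_top).hom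
  have h2 : φ.Etale :=
    RingHom.Etale.respectsIso.2 _
      (Scheme.ΓSpecIso (CommRingCat.of k)).symm.commRingCatIsoToRingEquiv h1
  algebraize [φ]
  haveI : Algebra.Etale k Γ(Y, U.1) := h2
  haveI : Module.Finite k Γ(Y, U.1) := Algebra.FormallyUnramified.finite_of_free k _
  exact IsArtinianRing.of_finite k _

theorem discreteTopology_of_etale {Y : Scheme.{u}} (gY : Y ⟶ Spec (CommRingCat.of k))
    [Etale gY] : DiscreteTopology Y := by
  haveI := isLocallyArtinian_of_etale k gY
  infer_instance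

/-- the universal étale quotient of a connected scheme -/
structure Pi0Data (C : Scheme.{u}) (f : C ⟶ Spec (CommRingCat.of k)) where
  K : CommRingCat.{u}
  g : Spec K ⟶ Spec (CommRingCat.of k)
  q : C ⟶ Spec K
  etale_g : Etale g
  fac : q ≫ g = f
  flat_q : Flat q
  surj_q : Surjective q
  subs : Subsingleton ↥(Spec K)
  univ : ∀ (Y : Scheme.{u}) (gY : Y ⟶ Spec (CommRingCat.of k)) (h : C ⟶ Y), Etale gY →
    h ≫ gY = f → ∃ t : Spec K ⟶ Y, q ≫ t = h

variable {k}

theorem toSpecΓ_comp (C : Scheme.{u}) (f : C ⟶ Spec (CommRingCat.of k)) :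
    C.toSpecΓ ≫ Spec.map ((Scheme.ΓSpecIso (CommRingCat.of k)).inv ≫ f.appTop) = f := by
  rw [Spec.map_comp, ← Category.assoc, ← Scheme.toSpecΓ_naturality, Category.assoc,
    toSpecΓ_SpecMap_ΓSpecIso_inv, Category.comp_id]

theorem nonempty_pi0Data (C : Scheme.{u}) (f : C ⟶ Spec (CommRingCat.of k))
    [LocallyOfFiniteType f] [ConnectedSpace C] : Nonempty (Pi0Data k C f) := by
  classical
  obtain ⟨x₀⟩ := (inferInstance : Nonempty C)
  -- the algebra structure
  let φA : k →+* Γ(C, ⊤) := ((Scheme.ΓSpecIso (CommRingCat.of k)).inv ≫ f.appTop).hom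
  letI algA : Algebra k Γ(C, ⊤) := φA.toAlgebra
  have hfA : C.toSpecΓ ≫ Spec.map (CommRingCat.ofHom φA) = f := toSpecΓ_comp C f
  haveI : Nontrivial Γ(C, ⊤) := by
    refine ⟨⟨0, 1, fun h => ?_⟩⟩
    have := congrArg (C.presheaf.germ ⊤ x₀ trivial) h
    rw [map_one, map_zero] at this
    exact zero_ne_one this
  have hidem : ∀ e : Γ(C, ⊤), IsIdempotentElem e → e = 0 ∨ e = 1 :=
    fun e he => Groth.Agent.Helper3.GammaConn.idem_trivial e he
  -- a point with finite residue ring
  obtain ⟨_, ⟨U, hU : IsAffineOpen U, rfl⟩, hxU, -⟩ :=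
    C.isBasis_affineOpens.exists_subset_of_mem_open (Set.mem_univ x₀) isOpen_univ
  let res : Γ(C, ⊤) →+* Γ(C, U) := (C.presheaf.map (homOfLE (le_top : U ≤ ⊤)).op).hom
  letI algR : Algebra k Γ(C, U) := (res.comp φA).toAlgebra
  haveI : Nontrivial Γ(C, U) := by
    refine ⟨⟨0, 1, fun h => ?_⟩⟩
    have := congrArg (C.presheaf.germ U x₀ hxU) h
    rw [map_one, map_zero] at this
    exact zero_ne_one this
  haveI : Algebra.FiniteType k Γ(C, U) := by
    have h1 : (f.appLE ⊤ U le_top).hom.FiniteType :=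
      HasRingHomProperty.appLE (P := @LocallyOfFiniteType) f inferInstance
        ⟨⊤, isAffineOpen_top _⟩ ⟨U, hU⟩ _
    have h2 : (res.comp φA).FiniteType :=
      RingHom.finiteType_respectsIso.2 _
        (Scheme.ΓSpecIso (CommRingCat.of k)).symm.commRingCatIsoToRingEquiv h1
    exact h2
  obtain ⟨m, hm⟩ := Ideal.exists_maximal Γ(C, U)
  letI : Field (Γ(C, U) ⧸ m) := Ideal.Quotient.field m
  haveI : Algebra.FiniteType k (Γ(C, U) ⧸ m) :=
    Algebra.FiniteType.of_surjective (Ideal.Quotient.mkₐ k m) Ideal.Quotient.mk_surjective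
  haveI : Module.Finite k (Γ(C, U) ⧸ m) := finite_of_finite_type_of_isJacobsonRing k _
  let ev : Γ(C, ⊤) →ₐ[k] (Γ(C, U) ⧸ m) :=
    { (Ideal.Quotient.mk m).comp res with
      commutes' := fun a => rfl }
  obtain ⟨M₀, hM₀, hmax⟩ := Groth.Agent.Helper3.CompSchA.exists_max hidem _ ev
  letI fldM : Field M₀ := (hM₀.isField hidem).toField
  haveI := hM₀.1
  haveI := hM₀.2
  haveI : Algebra.IsSeparable k M₀ := Algebra.FormallyUnramified.isSeparable k M₀
  haveI : Algebra.FormallyEtale k M₀ := Algebra.FormallyEtale.of_isSeparable k M₀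
  haveI : Algebra.FinitePresentation k M₀ := Algebra.FinitePresentation.of_finiteType.mp inferInstance
  haveI : Algebra.Etale k M₀ := {}
  haveI subs : Subsingleton ↥(Spec (CommRingCat.of M₀)) :=
    inferInstanceAs (Subsingleton (PrimeSpectrum M₀))
  haveI : IsIntegral (Spec (CommRingCat.of M₀)) := inferInstance
  let q : C ⟶ Spec (CommRingCat.of M₀) :=
    C.toSpecΓ ≫ Spec.map (CommRingCat.ofHom M₀.val.toRingHom)
  refine ⟨{
    K := CommRingCat.of M₀
    g := Spec.map (CommRingCat.ofHom (algebraMap k M₀))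
    q := q
    etale_g := ?_
    fac := ?_
    flat_q := inferInstance
    surj_q := ⟨fun z => ⟨x₀, Subsingleton.elim _ _⟩⟩
    subs := subs
    univ := ?_ }⟩
  · rw [HasRingHomProperty.Spec_iff (P := @Etale)]
    exact RingHom.etale_algebraMap.mpr inferInstance
  · show (C.toSpecΓ ≫ Spec.map (CommRingCat.ofHom M₀.val.toRingHom)) ≫
      Spec.map (CommRingCat.ofHom (algebraMap k M₀)) = f
    rw [Category.assoc, ← Spec.map_comp]
    exact hfA
  · intro Y gY h hE hh
    haveI := hE
    haveI : DiscreteTopology Y := discreteTopology_of_etale k gY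
    let V : Y.Opens := ⟨{h x₀}, isOpen_discrete _⟩
    have hcl : IsClopen (h ⁻¹' {h x₀}) := (isClopen_discrete {h x₀}).preimage h.continuous
    have huniv : h ⁻¹' {h x₀} = Set.univ := hcl.eq_univ ⟨x₀, rfl⟩
    have hrange : Set.range h ⊆ Set.range V.ι := by
      rw [Scheme.Opens.range_ι]
      rintro _ ⟨z, rfl⟩
      have : z ∈ h ⁻¹' {h x₀} := by rw [huniv]; trivial
      exact this
    let h' : C ⟶ V := IsOpenImmersion.lift V.ι h hrange
    have hh' : h' ≫ V.ι = h := IsOpenImmersion.lift_fac _ _ _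
    haveI : Subsingleton ↥(V : Scheme.{u}) := by
      refine ⟨fun a b => Subtype.ext ?_⟩
      exact (a.2 : a.1 = h x₀).trans (b.2 : b.1 = h x₀).symm
    haveI : IsAffine (V : Scheme.{u}) := inferInstance
    let gV : (V : Scheme.{u}) ⟶ Spec (CommRingCat.of k) := V.ι ≫ gY
    haveI : Etale gV := inferInstance
    have hgV : h' ≫ gV = f := by rw [← hh, ← hh', Category.assoc]
    let φB : k →+* Γ((V : Scheme.{u}), ⊤) :=
      ((Scheme.ΓSpecIso (CommRingCat.of k)).inv ≫ gV.appTop).hom
    have h1 : gV.appTop.hom.Etale := (HasRingHomProperty.iff_of_isAffine (P := @Etale)).mp inferInstance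
    have h2 : φB.Etale :=
      RingHom.Etale.respectsIso.2 _
        (Scheme.ΓSpecIso (CommRingCat.of k)).symm.commRingCatIsoToRingEquiv h1
    letI algB : Algebra k Γ((V : Scheme.{u}), ⊤) := φB.toAlgebra
    haveI : Algebra.Etale k Γ((V : Scheme.{u}), ⊤) := h2
    haveI : Module.Finite k Γ((V : Scheme.{u}), ⊤) :=
      Algebra.FormallyUnramified.finite_of_free k _
    let ψ : Γ((V : Scheme.{u}), ⊤) →ₐ[k] Γ(C, ⊤) :=
      { h'.appTop.hom with
        commutes' := fun a => by
          show h'.appTop.hom (φB a) = φA a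
          have : f.appTop = gV.appTop ≫ h'.appTop := by
            rw [← Scheme.Hom.comp_appTop, hgV]
          show (((Scheme.ΓSpecIso (CommRingCat.of k)).inv ≫ gV.appTop) ≫ h'.appTop).hom a =
            ((Scheme.ΓSpecIso (CommRingCat.of k)).inv ≫ f.appTop).hom a
          rw [this, Category.assoc] }
    have hle : ψ.range ≤ M₀ := hmax _ (Groth.Agent.Helper3.CompSchA.isEt_range ψ)
    let ψ' : Γ((V : Scheme.{u}), ⊤) →ₐ[k] M₀ := ψ.codRestrict M₀ (fun b => hle ⟨b, rfl⟩)
    have hψ' : CommRingCat.ofHom ψ'.toRingHom ≫ CommRingCat.ofHom M₀.val.toRingHom =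
        h'.appTop := by
      ext b
      rfl
    refine ⟨Spec.map (CommRingCat.ofHom ψ'.toRingHom) ≫ inv (V : Scheme.{u}).toSpecΓ ≫ V.ι, ?_⟩
    show (C.toSpecΓ ≫ Spec.map (CommRingCat.ofHom M₀.val.toRingHom)) ≫
      Spec.map (CommRingCat.ofHom ψ'.toRingHom) ≫ inv (V : Scheme.{u}).toSpecΓ ≫ V.ι = h
    rw [Category.assoc, ← Spec.map_comp_assoc, hψ', ← Scheme.toSpecΓ_naturality_assoc,
      IsIso.hom_inv_id_assoc, hh']

end Groth.Agent.Helper3.CompSchB
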