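import Mathlib
import Groth.Agent.Helper3.CompSchB
import Groth.Agent.Helper1.FinCondTop

set_option autoImplicit false
set_option linter.style.haveILetI false
set_option linter.unusedSectionVars false
set_option linter.unusedVariables false
set_option linter.deprecated false
set_option linter.style.haveILetI false
set_option linter.unusedSectionVars false
set_option linter.unusedVariables false

universe u

open CategoryTheory CategoryTheory.Limits AlgebraicGeometry TopologicalSpace Opposite

namespace Groth.Agent.Helper3.CompSchC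

open Groth.Agent.Helper3.CompSchB

theorem locallyConnectedSpace {X : Scheme.{u}} [IsLocallyNoetherian X] :
    LocallyConnectedSpace X := by
  apply Groth.Agent.Helper1.FinCondTop.locallyConnectedSpace_of_locallyNoetherian
  intro x
  obtain ⟨_, ⟨W, hW : IsAffineOpen W, rfl⟩, hxW, -⟩ :=
    X.isBasis_affineOpens.exists_subset_of_mem_open (Set.mem_univ x) isOpen_univ
  haveI : IsNoetherianRing Γ(X, W) := IsLocallyNoetherian.component_noetherian ⟨W, hW⟩
  exact ⟨(W : Set X), W.isOpen.mem_nhds hxW, noetherianSpace_of_isAffineOpen W hW⟩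

theorem main (k : Type u) [Field k]
    (X : Scheme.{u}) (f : X ⟶ Spec (CommRingCat.of k)) [LocallyOfFiniteType f] :
    ∃ (P : Scheme.{u}) (g : P ⟶ Spec (CommRingCat.of k)) (q : X ⟶ P), Etale g ∧ q ≫ g = f ∧
      (∀ (Y : Scheme.{u}) (gY : Y ⟶ Spec (CommRingCat.of k)) (h : X ⟶ Y), Etale gY → h ≫ gY = f →
        ∃! t : P ⟶ Y, t ≫ gY = g ∧ q ≫ t = h) ∧
      Flat q ∧ Surjective q ∧
      ∀ x : ↥X, (fun x' : ↥X => q x') ⁻¹' {q x} = connectedComponent x := by
  classical
  haveI : IsLocallyNoetherian X := LocallyOfFiniteType.isLocallyNoetherian f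
  haveI : LocallyConnectedSpace X := locallyConnectedSpace
  have hopen : ∀ c : _root_.ConnectedComponents X,
      IsOpen ((fun x : X => (x : _root_.ConnectedComponents X)) ⁻¹' {c}) := by
    intro c
    obtain ⟨x, rfl⟩ := _root_.ConnectedComponents.surjective_coe c
    rw [connectedComponents_preimage_singleton]
    exact isOpen_connectedComponent
  let U : _root_.ConnectedComponents X → X.Opens := fun c => ⟨_, hopen c⟩
  have hmem : ∀ x : X, x ∈ U (x : _root_.ConnectedComponents X) := fun x => rfl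
  have hmem_iff : ∀ (x : X) (c : _root_.ConnectedComponents X), x ∈ U c ↔ (x : _root_.ConnectedComponents X) = c :=
    fun x c => Iff.rfl
  have hU : ⨆ c, U c = ⊤ :=
    top_le_iff.mp fun x _ => Opens.mem_iSup.mpr ⟨_, hmem x⟩
  haveI hconn : ∀ c, ConnectedSpace ↥(U c : Scheme.{u}) := by
    intro c
    obtain ⟨x, rfl⟩ := _root_.ConnectedComponents.surjective_coe c
    have h1 : ((U (x : _root_.ConnectedComponents X) : X.Opens) : Set X) = connectedComponent x :=
      connectedComponents_preimage_singleton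
    have h2 : _root_.IsConnected ((U (x : _root_.ConnectedComponents X) : X.Opens) : Set X) := by
      rw [h1]; exact isConnected_connectedComponent
    exact isConnected_iff_connectedSpace.mp h2
  have D : ∀ c, Pi0Data k (U c : Scheme.{u}) ((U c).ι ≫ f) := fun c =>
    (nonempty_pi0Data (U c : Scheme.{u}) ((U c).ι ≫ f)).some
  let S : _root_.ConnectedComponents X → Scheme.{u} := fun c => Spec (D c).K
  let P : Scheme.{u} := ∐ S
  let g : P ⟶ Spec (CommRingCat.of k) := Sigma.desc fun c => (D c).g
  let 𝒰 : X.OpenCover := X.openCoverOfIsOpenCover U (.mk hU)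
  have hcompat : ∀ c c' : _root_.ConnectedComponents X,
      pullback.fst (𝒰.f c) (𝒰.f c') ≫ ((D c).q ≫ Sigma.ι S c) =
        pullback.snd (𝒰.f c) (𝒰.f c') ≫ ((D c').q ≫ Sigma.ι S c') := by
    intro c c'
    by_cases hcc : c = c'
    · subst hcc
      have : pullback.fst (𝒰.f c) (𝒰.f c) = pullback.snd (𝒰.f c) (𝒰.f c) := by
        rw [← cancel_mono (𝒰.f c)]
        exact pullback.condition
      rw [this]
    · haveI : IsEmpty ↥(pullback (𝒰.f c) (𝒰.f c')) := by
        refine ⟨fun z => hcc ?_⟩
        have h1 := (pullback.fst (𝒰.f c) (𝒰.f c') z).2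
        have h2 := (pullback.snd (𝒰.f c) (𝒰.f c') z).2
        have h3 : (𝒰.f c) (pullback.fst (𝒰.f c) (𝒰.f c') z) =
            (𝒰.f c') (pullback.snd (𝒰.f c) (𝒰.f c') z) := by
          rw [← Scheme.Hom.comp_apply, ← Scheme.Hom.comp_apply, pullback.condition]
        have h1' : ((𝒰.f c) (pullback.fst (𝒰.f c) (𝒰.f c') z) : _root_.ConnectedComponents X) = c := h1
        have h2' : ((𝒰.f c') (pullback.snd (𝒰.f c) (𝒰.f c') z) : _root_.ConnectedComponents X) = c' := h2
        exact h1'.symm.trans ((congrArg (fun y : X => (y : _root_.ConnectedComponents X)) h3).trans h2')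
      exact (isInitialOfIsEmpty : IsInitial (pullback (𝒰.f c) (𝒰.f c'))).hom_ext _ _
  let q : X ⟶ P := 𝒰.glueMorphisms (fun c => (D c).q ≫ Sigma.ι S c) hcompat
  have hq : ∀ c, (U c).ι ≫ q = (D c).q ≫ Sigma.ι S c := fun c =>
    𝒰.ι_glueMorphisms _ hcompat c
  have hqpt : ∀ c (z : ↥(U c : Scheme.{u})), q z.1 = Sigma.ι S c ((D c).q z) := by
    intro c z
    have := congrArg (fun φ : (U c : Scheme.{u}) ⟶ P => φ z) (hq c)
    simpa [Scheme.Hom.comp_apply] using this
  have hfac : q ≫ g = f := by
    refine 𝒰.hom_ext _ _ fun c => ?_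
    show (U c).ι ≫ q ≫ g = (U c).ι ≫ f
    rw [← Category.assoc, hq c, Category.assoc]
    show (D c).q ≫ Sigma.ι S c ≫ Sigma.desc _ = _
    rw [Sigma.ι_desc, (D c).fac]
  have hflat : Flat q := by
    refine (IsZariskiLocalAtSource.iff_of_openCover (P := @Flat) 𝒰).mpr fun c => ?_
    show Flat ((U c).ι ≫ q)
    rw [hq c]
    haveI := (D c).flat_q
    infer_instance
  have hsurj : Surjective q := by
    refine ⟨fun p => ?_⟩
    obtain ⟨c, z, rfl⟩ := (sigmaOpenCover S).exists_eq p
    obtain ⟨x', rfl⟩ := (D c).surj_q.surj z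
    exact ⟨x'.1, hqpt c x'⟩
  haveI := hflat
  haveI := hsurj
  haveI : Epi q := Flat.epi_of_flat_of_surjective q
  refine ⟨P, g, q, ?_, hfac, ?_, hflat, hsurj, ?_⟩
  · refine (IsZariskiLocalAtSource.iff_of_openCover (P := @Etale) (sigmaOpenCover S)).mpr
      fun c => ?_
    show Etale (Sigma.ι S c ≫ Sigma.desc _)
    rw [Sigma.ι_desc]
    exact (D c).etale_g
  · intro Y gY h hE hh
    have ht : ∀ c, ∃ t : Spec (D c).K ⟶ Y, (D c).q ≫ t = (U c).ι ≫ h := fun c =>
      (D c).univ Y gY ((U c).ι ≫ h) hE (by rw [Category.assoc, hh])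
    choose t ht using ht
    let T : P ⟶ Y := Sigma.desc t
    have hT : q ≫ T = h := by
      refine 𝒰.hom_ext _ _ fun c => ?_
      show (U c).ι ≫ q ≫ T = (U c).ι ≫ h
      rw [← Category.assoc, hq c, Category.assoc]
      show (D c).q ≫ Sigma.ι S c ≫ Sigma.desc t = _
      rw [Sigma.ι_desc, ht c]
    refine ⟨T, ⟨?_, hT⟩, fun t' ht' => ?_⟩
    · rw [← cancel_epi q, ← Category.assoc, hT, hh, hfac]
    · rw [← cancel_epi q, ht'.2, hT]
  · intro x
    ext x'
    simp only [Set.mem_preimage, Set.mem_singleton_iff]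
    rw [← _root_.ConnectedComponents.coe_eq_coe']
    constructor
    · intro hx'
      have h1 := hqpt _ ⟨x', hmem x'⟩
      have h2 := hqpt _ ⟨x, hmem x⟩
      rw [h1, h2] at hx'
      have := (sigmaι_eq_iff S _ _ _ _).mp hx'
      exact congrArg Sigma.fst this
    · intro hx'
      have hx'' : x' ∈ U (x : _root_.ConnectedComponents X) := hx'
      have h1 := hqpt _ ⟨x', hx''⟩
      have h2 := hqpt _ ⟨x, hmem x⟩
      show q x' = q x
      rw [h1, h2]
      haveI := (D (x : _root_.ConnectedComponents X)).subs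
      congr 1
      exact Subsingleton.elim _ _

end Groth.Agent.Helper3.CompSchC
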