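import Mathlib

/-! A module for which `Hom(N, -)` commutes injectively with filtered colimits is finitely generated. -/

set_option autoImplicit false
universe u

open CategoryTheory CategoryTheory.Limits

namespace Groth.Agent.Helper3.CompactFG

variable (R : Type u) [CommRing R] (N : Type u) [AddCommGroup N] [Module R N]

/-- finitely generated submodules -/
abbrev FGSub : Type u := {P : Submodule R N // P.FG}

instance : Nonempty (FGSub R N) := ⟨⟨⊥, Submodule.fg_bot⟩⟩

instance : IsDirected (FGSub R N) (· ≤ ·) :=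
  ⟨fun a b => ⟨⟨a.1 ⊔ b.1, a.2.sup b.2⟩, le_sup_left (a := a.1), le_sup_right (a := a.1)⟩⟩

/-- the diagram of quotients by finitely generated submodules -/
noncomputable def quotFunctor : FGSub R N ⥤ ModuleCat.{u} R where
  obj P := ModuleCat.of R (N ⧸ P.1)
  map {P Q} f := ModuleCat.ofHom (Submodule.mapQ P.1 Q.1 LinearMap.id (by
    have : P.1 ≤ Q.1 := leOfHom f
    simpa using this))
  map_id P := by
    ext x
    rfl
  map_comp f g := by
    ext x
    rfl

lemma quotFunctor_map_mk {P Q : FGSub R N} (f : P ⟶ Q) (n : N) :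
    ((quotFunctor R N).map f).hom (Submodule.Quotient.mk n : N ⧸ P.1) =
      (Submodule.Quotient.mk n : N ⧸ Q.1) := rfl

theorem finite_of_injective
    (h : Function.Injective (colimit.post (quotFunctor R N)
      (coyoneda.obj (Opposite.op (ModuleCat.of R N))))) : Module.Finite R N := by
  let F := quotFunctor R N
  let G := coyoneda.obj (Opposite.op (ModuleCat.of R N))
  let j₀ : FGSub R N := ⟨⊥, Submodule.fg_bot⟩
  let q : ModuleCat.of R N ⟶ F.obj j₀ := ModuleCat.ofHom (Submodule.mkQ _)
  let a : colimit (F ⋙ G) := colimit.ι (F ⋙ G) j₀ q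
  let b : colimit (F ⋙ G) := colimit.ι (F ⋙ G) j₀ (0 : ModuleCat.of R N ⟶ F.obj j₀)
  have hpost : ∀ x : (F ⋙ G).obj j₀, colimit.post F G (colimit.ι (F ⋙ G) j₀ x) =
      x ≫ colimit.ι F j₀ := by
    intro x
    have := congrArg (fun φ : (F ⋙ G).obj j₀ ⟶ G.obj (colimit F) => φ x) (colimit.ι_post F G j₀)
    exact this
  have hab : colimit.post F G a = colimit.post F G b := by
    rw [hpost, hpost, Limits.zero_comp]
    refine ModuleCat.hom_ext (LinearMap.ext fun n => ?_)
    -- `n` dies in the quotient by `span {n}`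
    let j₁ : FGSub R N := ⟨Submodule.span R {n}, Submodule.fg_span_singleton n⟩
    let f : j₀ ⟶ j₁ := homOfLE (show j₀ ≤ j₁ from bot_le (a := j₁.1))
    have hw := colimit.w F f
    rw [← hw]
    change (colimit.ι F j₁).hom ((F.map f).hom (q.hom n)) = 0
    have : (F.map f).hom (q.hom n) = 0 := by
      change ((quotFunctor R N).map f).hom (Submodule.Quotient.mk n : N ⧸ j₀.1) = 0
      rw [quotFunctor_map_mk]
      exact (Submodule.Quotient.mk_eq_zero _).mpr (Submodule.mem_span_singleton_self n)
    rw [this, map_zero]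
  have hab' := h hab
  obtain ⟨k, f, g, hk⟩ := (Types.FilteredColimit.colimit_eq_iff (F ⋙ G)).mp hab'
  have hk' : q ≫ F.map f = 0 := by
    have h1 : (F ⋙ G).map f q = q ≫ F.map f := rfl
    have h2 : (F ⋙ G).map g (0 : ModuleCat.of R N ⟶ F.obj j₀) = 0 ≫ F.map g := rfl
    rw [← h1, hk, h2, Limits.zero_comp]
  have hktop : k.1 = ⊤ := by
    rw [eq_top_iff]
    intro n _
    have := congrArg (fun φ => φ.hom n) hk'
    change ((quotFunctor R N).map f).hom (Submodule.Quotient.mk n : N ⧸ j₀.1) = 0 at this
    rw [quotFunctor_map_mk] at this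
    exact (Submodule.Quotient.mk_eq_zero _).mp this
  exact ⟨hktop ▸ k.2⟩

end Groth.Agent.Helper3.CompactFG
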