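import Mathlib

/-! A module for which `Hom(N, -)` commutes (surjectively) with a specific filtered colimit
is finitely presented, given a finite free cover. -/

set_option autoImplicit false
universe u

open CategoryTheory CategoryTheory.Limits

namespace Groth.Agent.Helper3.CompactFP

variable (R : Type u) [CommRing R] {n : ℕ} (K : Submodule R (Fin n → R))

/-- finitely generated submodules of `K` -/
abbrev FGSubK : Type u := {P : Submodule R (Fin n → R) // P.FG ∧ P ≤ K}

instance : Nonempty (FGSubK R K) := ⟨⟨⊥, Submodule.fg_bot, bot_le⟩⟩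

instance : IsDirected (FGSubK R K) (· ≤ ·) :=
  ⟨fun a b => ⟨⟨a.1 ⊔ b.1, a.2.1.sup b.2.1, sup_le a.2.2 b.2.2⟩,
    le_sup_left (a := a.1), le_sup_right (a := a.1)⟩⟩

/-- the diagram of quotients by finitely generated submodules of `K` -/
noncomputable def quotFunctor : FGSubK R K ⥤ ModuleCat.{u} R where
  obj P := ModuleCat.of R ((Fin n → R) ⧸ P.1)
  map {P Q} f := ModuleCat.ofHom (Submodule.mapQ P.1 Q.1 LinearMap.id (by
    have : P.1 ≤ Q.1 := leOfHom f
    simpa using this))
  map_id P := by
    ext x
    rfl
  map_comp f g := by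
    ext x
    rfl

lemma quotFunctor_map_mk {P Q : FGSubK R K} (f : P ⟶ Q) (r : Fin n → R) :
    ((quotFunctor R K).map f).hom (Submodule.Quotient.mk r : (Fin n → R) ⧸ P.1) =
      (Submodule.Quotient.mk r : (Fin n → R) ⧸ Q.1) := rfl

variable {R} (N : Type u) [AddCommGroup N] [Module R N] (π : (Fin n → R) →ₗ[R] N)

/-- the cocone with point `N`. -/
noncomputable def cocone : Cocone (quotFunctor R (LinearMap.ker π)) where
  pt := ModuleCat.of R N
  ι :=
    { app := fun P => ModuleCat.ofHom (P.1.liftQ π P.2.2)
      naturality := fun P Q f => by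
        ext x
        obtain ⟨r, rfl⟩ := Submodule.Quotient.mk_surjective _ x
        rfl }

lemma cocone_ι_mk (P : FGSubK R (LinearMap.ker π)) (r : Fin n → R) :
    ((cocone N π).ι.app P).hom (Submodule.Quotient.mk r : (Fin n → R) ⧸ P.1) = π r := rfl

theorem fp_of_surjective (hπ : Function.Surjective π)
    (h : Function.Surjective (colimit.post (quotFunctor R (LinearMap.ker π))
      (coyoneda.obj (Opposite.op (ModuleCat.of R N))))) : Module.FinitePresentation R N := by
  let F := quotFunctor R (LinearMap.ker π)
  let G := coyoneda.obj (Opposite.op (ModuleCat.of R N))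
  let c := cocone N π
  let d : colimit F ⟶ ModuleCat.of R N := colimit.desc F c
  have hd : ∀ (P : FGSubK R (LinearMap.ker π)) (r : Fin n → R),
      d.hom ((colimit.ι F P).hom (Submodule.Quotient.mk r : (Fin n → R) ⧸ P.1)) = π r := by
    intro P r
    have := congrArg (fun φ => φ.hom (Submodule.Quotient.mk r : (Fin n → R) ⧸ P.1))
      (colimit.ι_desc c P)
    exact this
  have hbij : Function.Bijective d.hom := by
    constructor
    · rw [injective_iff_map_eq_zero]
      intro x hx
      obtain ⟨P, y, rfl⟩ := Concrete.colimit_exists_rep F x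
      obtain ⟨r, rfl⟩ := Submodule.Quotient.mk_surjective _ y
      have hr : r ∈ LinearMap.ker π := by
        have := hd P r
        rw [LinearMap.mem_ker, ← this]
        exact hx
      let P' : FGSubK R (LinearMap.ker π) :=
        ⟨P.1 ⊔ Submodule.span R {r}, P.2.1.sup (Submodule.fg_span_singleton r),
          sup_le P.2.2 ((Submodule.span_singleton_le_iff_mem r _).2 hr)⟩
      let f : P ⟶ P' := homOfLE (show P ≤ P' from le_sup_left (a := P.1))
      have hw := colimit.w F f
      have : (colimit.ι F P).hom (Submodule.Quotient.mk r : (Fin n → R) ⧸ P.1) =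
          (colimit.ι F P').hom ((F.map f).hom (Submodule.Quotient.mk r : (Fin n → R) ⧸ P.1)) := by
        rw [← hw]; rfl
      refine this.trans ?_
      have h0 : (F.map f).hom (Submodule.Quotient.mk r : (Fin n → R) ⧸ P.1) = 0 := by
        change ((quotFunctor R (LinearMap.ker π)).map f).hom _ = 0
        rw [quotFunctor_map_mk]
        exact (Submodule.Quotient.mk_eq_zero _).mpr
          (Submodule.mem_sup_right (Submodule.mem_span_singleton_self r))
      rw [h0, map_zero]
    · intro y
      obtain ⟨r, rfl⟩ := hπ y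
      exact ⟨_, hd ⟨⊥, Submodule.fg_bot, bot_le⟩ r⟩
  have hiso : IsIso d := (ConcreteCategory.isIso_iff_bijective d).2 hbij
  obtain ⟨z, hz⟩ := h (inv d)
  obtain ⟨P, s, rfl⟩ := Types.jointly_surjective' z
  have hpost : colimit.post F G (colimit.ι (F ⋙ G) P s) = s ≫ colimit.ι F P := by
    have := congrArg (fun φ : (F ⋙ G).obj P ⟶ G.obj (colimit F) => φ s) (colimit.ι_post F G P)
    exact this
  rw [hpost] at hz
  let s' : ModuleCat.of R N ⟶ F.obj P := s
  have hz' : s' ≫ colimit.ι F P = inv d := hz
  let q : F.obj P ⟶ ModuleCat.of R N := c.ι.app P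
  have hsec : s' ≫ q = 𝟙 (ModuleCat.of R N) := by
    have h1 : colimit.ι F P ≫ d = q := colimit.ι_desc c P
    calc s' ≫ q = s' ≫ (colimit.ι F P ≫ d) := by rw [h1]
      _ = (s' ≫ colimit.ι F P) ≫ d := (Category.assoc _ _ _).symm
      _ = 𝟙 (ModuleCat.of R N) := by rw [hz', IsIso.inv_hom_id]
  -- now a purely module-theoretic conclusion
  let p : ((Fin n → R) ⧸ P.1) →ₗ[R] N := P.1.liftQ π P.2.2
  let σ : N →ₗ[R] ((Fin n → R) ⧸ P.1) := s'.hom
  have hpσ : ∀ y, p (σ y) = y := fun y => by
    have := congrArg (fun φ => φ.hom y) hsec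
    exact this
  have : Module.FinitePresentation R ((Fin n → R) ⧸ P.1) :=
    Module.finitePresentation_of_surjective P.1.mkQ (Submodule.mkQ_surjective _)
      (by rw [Submodule.ker_mkQ]; exact P.2.1)
  refine Module.finitePresentation_of_surjective p (fun y => ⟨σ y, hpσ y⟩) ?_
  have hker : LinearMap.ker p = LinearMap.range (LinearMap.id - σ ∘ₗ p) := by
    ext x
    constructor
    · intro hx
      refine ⟨x, ?_⟩
      simp only [LinearMap.sub_apply, LinearMap.id_coe, id_eq, LinearMap.coe_comp,
        Function.comp_apply]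
      rw [LinearMap.mem_ker.1 hx, map_zero, sub_zero]
    · rintro ⟨y, rfl⟩
      rw [LinearMap.mem_ker]
      simp only [LinearMap.sub_apply, LinearMap.id_coe, id_eq, LinearMap.coe_comp,
        Function.comp_apply, map_sub, hpσ, sub_self]
  rw [hker, LinearMap.range_eq_map]
  exact Submodule.FG.map _ Module.Finite.fg_top

end Groth.Agent.Helper3.CompactFP
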