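import Mathlib
import Groth.Prelude

set_option autoImplicit false
set_option linter.style.haveILetI false
set_option linter.unusedSectionVars false
set_option linter.unusedVariables false
set_option linter.deprecated false
set_option linter.style.haveILetI false
set_option linter.unusedSectionVars false
set_option linter.unusedVariables false

universe u

open CategoryTheory CategoryTheory.Limits AlgebraicGeometry TopologicalSpace Opposite

namespace Groth.Agent.Helper3.ProdImg

/-- the canonical map to the scheme-theoretic image of a quasi-compact morphism is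
scheme-theoretically dominant -/
instance toImage_dominant {X Y : Scheme.{u}} (f : X ⟶ Y) [QuasiCompact f] :
    IsSchemeTheoreticallyDominant f.toImage := by
  rw [isSchemeTheoreticallyDominant_iff]
  refine Scheme.IdealSheafData.ext_of_iSup_eq_top
    (fun U : Y.affineOpens => ⟨f.imageι ⁻¹ᵁ U.1, U.2.preimage f.imageι⟩) ?_ ?_
  · show ⨆ U : Y.affineOpens, f.imageι ⁻¹ᵁ U.1 = ⊤
    rw [← Scheme.Hom.preimage_iSup, iSup_affineOpens_eq_top, Scheme.Hom.preimage_top]
  · intro U
    rw [Scheme.Hom.ker_apply, Scheme.IdealSheafData.ideal_bot, Pi.bot_apply]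
    exact (RingHom.injective_iff_ker_eq_bot _).mp (f.toImage_app_injective U)

section

variable {S A B X Y : Scheme.{u}} (a : A ⟶ S) (b : B ⟶ S) (x : X ⟶ S) (y : Y ⟶ S)
  (f : A ⟶ X) (g : B ⟶ Y) (hf : f ≫ x = a) (hg : g ≫ y = b)

/-- kernel of a product of closed subschemes (the `≥` part uses nothing) -/
theorem ker_prod_closed {Z Z' : Scheme.{u}} (iZ : Z ⟶ X) (iZ' : Z' ⟶ Y) [IsClosedImmersion iZ]
    [IsClosedImmersion iZ'] :
    (pullback.map (iZ ≫ x) (iZ' ≫ y) x y iZ iZ' (𝟙 S) (by simp) (by simp)).ker =
      iZ.ker.comap (pullback.fst x y) ⊔ iZ'.ker.comap (pullback.snd x y) := by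
  set i := pullback.map (iZ ≫ x) (iZ' ≫ y) x y iZ iZ' (𝟙 S) (by simp) (by simp) with hi
  set J := iZ.ker.comap (pullback.fst x y) ⊔ iZ'.ker.comap (pullback.snd x y) with hJ
  apply le_antisymm
  · -- construct a lift
    have h1 : iZ.ker ≤ (J.subschemeι ≫ pullback.fst x y).ker := by
      show iZ.ker ≤ J.map (pullback.fst x y)
      rw [Scheme.IdealSheafData.le_map_iff_comap_le]
      exact le_sup_left
    have h2 : iZ'.ker ≤ (J.subschemeι ≫ pullback.snd x y).ker := by
      show iZ'.ker ≤ J.map (pullback.snd x y)
      rw [Scheme.IdealSheafData.le_map_iff_comap_le]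
      exact le_sup_right
    let a' : J.subscheme ⟶ Z := IsClosedImmersion.lift iZ (J.subschemeι ≫ pullback.fst x y) h1
    let b' : J.subscheme ⟶ Z' := IsClosedImmersion.lift iZ' (J.subschemeι ≫ pullback.snd x y) h2
    have ha' : a' ≫ iZ = J.subschemeι ≫ pullback.fst x y := IsClosedImmersion.lift_fac _ _ _
    have hb' : b' ≫ iZ' = J.subschemeι ≫ pullback.snd x y := IsClosedImmersion.lift_fac _ _ _
    let l : J.subscheme ⟶ pullback (iZ ≫ x) (iZ' ≫ y) := pullback.lift a' b' (by
      rw [reassoc_of% ha', reassoc_of% hb', pullback.condition])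
    have hl : l ≫ i = J.subschemeι := by
      apply pullback.hom_ext
      · simp only [l, i, pullback.lift_fst, pullback.lift_snd, pullback.lift_fst_assoc, pullback.lift_snd_assoc, Category.assoc, Category.comp_id, Category.id_comp, ha']
      · simp only [l, i, pullback.lift_fst, pullback.lift_snd, pullback.lift_fst_assoc, pullback.lift_snd_assoc, Category.assoc, Category.comp_id, Category.id_comp, hb']
    have := Scheme.Hom.le_ker_comp l i
    rwa [hl, Scheme.IdealSheafData.ker_subschemeι] at this
  · refine sup_le ?_ ?_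
    · rw [← Scheme.IdealSheafData.le_map_iff_comap_le, Scheme.IdealSheafData.map_ker]
      have : i ≫ pullback.fst x y = pullback.fst (iZ ≫ x) (iZ' ≫ y) ≫ iZ := by simp only [i, pullback.lift_fst, pullback.lift_snd, pullback.lift_fst_assoc, pullback.lift_snd_assoc, Category.assoc, Category.comp_id, Category.id_comp]
      rw [this, Scheme.Hom.ker_comp]
      calc iZ.ker = Scheme.IdealSheafData.map ⊥ iZ := by simp
        _ ≤ _ := Scheme.IdealSheafData.map_mono _ bot_le
    · rw [← Scheme.IdealSheafData.le_map_iff_comap_le, Scheme.IdealSheafData.map_ker]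
      have : i ≫ pullback.snd x y = pullback.snd (iZ ≫ x) (iZ' ≫ y) ≫ iZ' := by simp only [i, pullback.lift_fst, pullback.lift_snd, pullback.lift_fst_assoc, pullback.lift_snd_assoc, Category.assoc, Category.comp_id, Category.id_comp]
      rw [this, Scheme.Hom.ker_comp]
      calc iZ'.ker = Scheme.IdealSheafData.map ⊥ iZ' := by simp
        _ ≤ _ := Scheme.IdealSheafData.map_mono _ bot_le

include hf hg in
/-- scheme-theoretic image of a product of quasi-compact morphisms over a base over which
everything is flat -/
theorem main [QuasiCompact f] [QuasiCompact g]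
    (hflat : ∀ {T : Scheme.{u}} (t : T ⟶ S), Flat t)
    (F : pullback a b ⟶ pullback x y)
    (hF₁ : F ≫ pullback.fst x y = pullback.fst a b ≫ f)
    (hF₂ : F ≫ pullback.snd x y = pullback.snd a b ≫ g) :
    F.ker = f.ker.comap (pullback.fst x y) ⊔ g.ker.comap (pullback.snd x y) := by
  set iZ := f.imageι with hiZ
  set iZ' := g.imageι with hiZ'
  set f' := f.toImage with hf'
  set g' := g.toImage with hg'
  have hfi : f' ≫ iZ = f := f.toImage_imageι
  have hgi : g' ≫ iZ' = g := g.toImage_imageι
  set z := iZ ≫ x with hz
  set z' := iZ' ≫ y with hz'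
  have hfz : f' ≫ z = a := by rw [hz, reassoc_of% hfi, hf]
  have hgz : g' ≫ z' = b := by rw [hz', reassoc_of% hgi, hg]
  let P1 : pullback a b ⟶ pullback z b :=
    pullback.map a b z b f' (𝟙 B) (𝟙 S) (by simp [hfz]) (by simp)
  let P2 : pullback z b ⟶ pullback z z' :=
    pullback.map z b z z' (𝟙 _) g' (𝟙 S) (by simp) (by simp [hgz])
  have hP1 : IsPullback (pullback.fst a b) P1 f' (pullback.fst z b) := by
    refine IsPullback.flip (IsPullback.of_right (h₁₂ := pullback.snd z b) (v₁₃ := b) (h₂₂ := z)
      ?_ (by simp only [P1, pullback.lift_fst, pullback.lift_snd, pullback.lift_fst_assoc, pullback.lift_snd_assoc, Category.assoc, Category.comp_id, Category.id_comp]) (IsPullback.of_hasPullback z b).flip)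
    have e1 : P1 ≫ pullback.snd z b = pullback.snd a b := by simp only [P1, pullback.lift_fst, pullback.lift_snd, pullback.lift_fst_assoc, pullback.lift_snd_assoc, Category.assoc, Category.comp_id, Category.id_comp]
    rw [e1, hfz]
    exact (IsPullback.of_hasPullback a b).flip
  have hP2 : IsPullback (pullback.snd z b) P2 g' (pullback.snd z z') := by
    refine IsPullback.flip (IsPullback.of_right (h₁₂ := pullback.fst z z') (v₁₃ := z) (h₂₂ := z')
      ?_ (by simp only [P2, pullback.lift_fst, pullback.lift_snd, pullback.lift_fst_assoc, pullback.lift_snd_assoc, Category.assoc, Category.comp_id, Category.id_comp]) (IsPullback.of_hasPullback z z'))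
    have e1 : P2 ≫ pullback.fst z z' = pullback.fst z b := by simp only [P2, pullback.lift_fst, pullback.lift_snd, pullback.lift_fst_assoc, pullback.lift_snd_assoc, Category.assoc, Category.comp_id, Category.id_comp]
    rw [e1, hgz]
    exact IsPullback.of_hasPullback z b
  haveI : Flat (pullback.fst z b) := by
    haveI := hflat b
    infer_instance
  haveI : Flat (pullback.snd z z') := by
    haveI := hflat z
    infer_instance
  haveI : IsSchemeTheoreticallyDominant P1 := IsSchemeTheoreticallyDominant.of_isPullback hP1
  haveI : IsSchemeTheoreticallyDominant P2 := IsSchemeTheoreticallyDominant.of_isPullback hP2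
  set i := pullback.map z z' x y iZ iZ' (𝟙 S) (by simp [hz]) (by simp [hz']) with hi
  have hF : F = (P1 ≫ P2) ≫ i := by
    apply pullback.hom_ext
    · rw [hF₁]; simp only [P1, P2, i, pullback.lift_fst, pullback.lift_snd, pullback.lift_fst_assoc, pullback.lift_snd_assoc, Category.assoc, Category.comp_id, Category.id_comp, hfi]
    · rw [hF₂]; simp only [P1, P2, i, pullback.lift_fst, pullback.lift_snd, pullback.lift_fst_assoc, pullback.lift_snd_assoc, Category.assoc, Category.comp_id, Category.id_comp, hgi]
  rw [hF, Scheme.Hom.ker_comp, (P1 ≫ P2).ker_eq_bot, Scheme.IdealSheafData.map_bot]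
  have := ker_prod_closed x y iZ iZ'
  rw [Scheme.IdealSheafData.ker_subschemeι, Scheme.IdealSheafData.ker_subschemeι] at this
  exact this

end

end Groth.Agent.Helper3.ProdImg
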