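import Mathlib
import Groth.Prelude
import Groth.Agent.Helper3.QProj1
import Groth.Agent.Helper3.ProdImg
import Groth.Agent.Helper5.VarDim
import Groth.Agent.S10831

set_option autoImplicit false
set_option linter.style.haveILetI false
set_option linter.unusedSectionVars false
set_option linter.unusedVariables false
set_option linter.deprecated false
set_option linter.style.haveILetI false
set_option linter.unusedSectionVars false
set_option linter.unusedVariables false

universe u

open CategoryTheory CategoryTheory.Limits AlgebraicGeometry TopologicalSpace Opposite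

namespace Groth.Agent.Helper3.ComplCurve

variable (k : Type u) [Field k]

/-- a dense open subscheme of a scheme locally of finite type over a field has the same dimension
bound -/
theorem genericPoints_subset_of_dense {α : Type*} [TopologicalSpace α] [NoetherianSpace α]
    (O : Set α) (hO : IsOpen O) (hd : Dense O) : genericPoints α ⊆ O := by
  intro η hη
  obtain ⟨o, ho, hne, hoZ⟩ :=
    NoetherianSpace.exists_isOpen_nonempty_subset_irreducibleComponent (closure {η}) hη
  obtain ⟨p, hpo, hpO⟩ := hd.inter_open_nonempty o ho hne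
  have hsp : η ⤳ p := specializes_iff_mem_closure.mpr (hoZ hpo)
  exact hsp.mem_open hO hpO

theorem dim_le_of_dense_open {X Y : Scheme.{u}} [NoetherianSpace Y]
    (q : Y ⟶ Spec (CommRingCat.of k))
    [LocallyOfFiniteType q] (j : X ⟶ Y) [IsOpenImmersion j] (hj : Dense (Set.range j))
    (d : WithBot ℕ∞) (hdim : topologicalKrullDim X ≤ d) : topologicalKrullDim Y ≤ d := by
  rw [Groth.Agent.S10831.result Y]
  refine iSup₂_le fun C hC => ?_
  let Cz : Closeds Y := ⟨C, isClosed_of_mem_irreducibleComponents C hC⟩
  let YC : Scheme.{u} := (Scheme.IdealSheafData.vanishingIdeal Cz).subscheme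
  let ιC : YC ⟶ Y := (Scheme.IdealSheafData.vanishingIdeal Cz).subschemeι
  haveI : IsIntegral YC := Groth.Agent.Helper3.AffPts.isIntegral_subscheme Cz hC.1
  have hrange : Set.range ιC = C := Groth.Agent.Helper3.AffPts.range_vanishingIdeal_subschemeι Cz
  -- dimension of `C` is that of `YC`
  have h1 : topologicalKrullDim ↥C = topologicalKrullDim YC := by
    have e1 := IsHomeomorph.topologicalKrullDim_eq _
      (ιC.isEmbedding.toHomeomorph.isHomeomorph)
    have e2 := IsHomeomorph.topologicalKrullDim_eq _
      ((Homeomorph.setCongr hrange).isHomeomorph)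
    exact (e1.trans e2).symm
  rw [h1]
  -- the open part
  let W : YC.Opens := ιC ⁻¹ᵁ j.opensRange
  have hWne : (W : Set YC).Nonempty := by
    have hgen : IsGenericPoint (ιC (genericPoint YC)) C :=
      Groth.Agent.Helper3.AffPts.isGenericPoint_subschemeι Cz
    have hmem : ιC (genericPoint YC) ∈ genericPoints Y := by
      show closure {ιC (genericPoint YC)} ∈ irreducibleComponents Y
      rw [hgen.def]; exact hC
    exact ⟨genericPoint YC, genericPoints_subset_of_dense
      (Set.range j) j.isOpenEmbedding.isOpen_range hj hmem⟩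
  have h2 := Groth.Agent.Helper5.VarDim.dim_open_eq k (ιC ≫ q) W hWne
  rw [← h2]
  -- `W` embeds in `X`
  have hWj : ∀ w : W, ιC w.1 ∈ Set.range j := fun w => w.2
  let g : W → Set.range j := fun w => ⟨ιC w.1, hWj w⟩
  have hg : Topology.IsInducing g := by
    have : Topology.IsInducing (fun w : W => ιC w.1) :=
      ιC.isEmbedding.isInducing.comp Topology.IsInducing.subtypeVal
    exact Topology.IsInducing.codRestrict this hWj
  have h3 : topologicalKrullDim ↥(W : Set YC) ≤ topologicalKrullDim ↥(Set.range j) :=
    hg.topologicalKrullDim_le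
  have h4 : topologicalKrullDim X = topologicalKrullDim ↥(Set.range j) :=
    IsHomeomorph.topologicalKrullDim_eq _ (j.isEmbedding.toHomeomorph.isHomeomorph)
  exact h3.trans (h4 ▸ hdim)


/-- points of the complement of a dense open are closed, and there are finitely many of them, on a
Noetherian scheme of dimension `≤ 1` -/
theorem finite_compl_of_dense_open (Y : Scheme.{u}) [IsNoetherian Y]
    (hdim : topologicalKrullDim Y ≤ 1) (O : Y.Opens) (hO : Dense (O : Set Y)) :
    ((O : Set Y)ᶜ).Finite ∧ ∀ y ∈ (O : Set Y)ᶜ, IsClosed ({y} : Set Y) := by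
  have hgen : genericPoints Y ⊆ (O : Set Y) := genericPoints_subset_of_dense _ O.isOpen hO
  have hdisc : DiscreteTopology ↥((O : Set Y)ᶜ) :=
    Groth.Agent.Helper3.Dim1Gen.discreteTopology_compl' Y O hgen hdim
  refine ⟨(NoetherianSpace.isCompact ((O : Set Y)ᶜ)).finite ⟨hdisc⟩, fun y hy => ?_⟩
  have hcl : IsClosed ((O : Set Y)ᶜ) := O.isOpen.isClosed_compl
  have h1 : IsClosed ({⟨y, hy⟩} : Set ↥((O : Set Y)ᶜ)) := isClosed_discrete _
  have h2 := hcl.isClosedEmbedding_subtypeVal.isClosedMap _ h1
  simpa using h2

variable (X : Scheme.{u}) [X.Over (Spec (CommRingCat.of k))]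

/-- **Projective completion of a separated scheme of finite type of dimension `≤ 1`.** -/
theorem main [IsSeparated (X ↘ (Spec (CommRingCat.of k)))]
    [LocallyOfFiniteType (X ↘ (Spec (CommRingCat.of k)))]
    [QuasiCompact (X ↘ (Spec (CommRingCat.of k)))] (hdim : topologicalKrullDim X ≤ 1) :
    ∃ (d : ℕ) (Y : Scheme.{u}) (c : Y ⟶ CohB1.ProjSpace d k) (j : X ⟶ Y),
      IsClosedImmersion c ∧ IsOpenImmersion j ∧
      j ≫ c ≫ CohB1.ProjSpace.toSpec d k = X ↘ (Spec (CommRingCat.of k)) ∧
      Dense (Set.range j.base) ∧ IsSchemeTheoreticallyDominant j ∧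
      (Set.range j.base)ᶜ.Finite ∧ ∀ y ∈ (Set.range j.base)ᶜ, IsClosed ({y} : Set Y) := by
  obtain ⟨d, i, hi, hcomp⟩ := Groth.Agent.Helper3.QProj1.quasiProjective k X hdim
  haveI := Groth.Agent.Helper3.QProj1.isNoetherian_of_lft k X
  haveI : QuasiCompact i := inferInstance
  haveI := Groth.Agent.Helper6.HProj.isProper_toSpec d k
  let q : i.image ⟶ Spec (CommRingCat.of k) := i.imageι ≫ CohB1.ProjSpace.toSpec d k
  haveI : LocallyOfFiniteType q := inferInstance
  haveI : QuasiCompact q := inferInstance
  letI : (i.image).Over (Spec (CommRingCat.of k)) := ⟨q⟩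
  haveI : LocallyOfFiniteType (i.image ↘ (Spec (CommRingCat.of k))) :=
    (inferInstance : LocallyOfFiniteType q)
  haveI : QuasiCompact (i.image ↘ (Spec (CommRingCat.of k))) :=
    (inferInstance : QuasiCompact q)
  haveI : IsNoetherian i.image := Groth.Agent.Helper3.QProj1.isNoetherian_of_lft k i.image
  have hdense : Dense (Set.range i.toImage) := i.toImage.denseRange
  have hdimY : topologicalKrullDim i.image ≤ 1 :=
    dim_le_of_dense_open k q i.toImage hdense 1 hdim
  obtain ⟨hfin, hcl⟩ := finite_compl_of_dense_open i.image hdimY i.toImage.opensRange hdense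
  refine ⟨d, i.image, i.imageι, i.toImage, inferInstance, inferInstance, ?_, hdense,
    inferInstance, hfin, hcl⟩
  rw [← Category.assoc, i.toImage_imageι, hcomp]

end Groth.Agent.Helper3.ComplCurve
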