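import Mathlib
import Groth.Agent.Helper3.ComplUnram

set_option autoImplicit false
set_option linter.style.haveILetI false

namespace Groth.Agent.Helper3.ComplEtale

open TensorProduct IsLocalRing AdicCompletion
open Groth.Agent.Helper3.ComplUnram Groth.Agent.Helper3.ComplFlat

universe u

section Main

variable (A B : Type u) [CommRing A] [CommRing B] [IsLocalRing A] [IsLocalRing B]
  [IsNoetherianRing A] [IsNoetherianRing B] [Algebra A B] [IsLocalHom (algebraMap A B)]
  (ψ : AdicCompletion (maximalIdeal A) A →+* AdicCompletion (maximalIdeal B) B)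
  (hψ : ψ.comp (algebraMap A (AdicCompletion (maximalIdeal A) A)) =
    (algebraMap B (AdicCompletion (maximalIdeal B) B)).comp (algebraMap A B))

local notation "Â" => AdicCompletion (maximalIdeal A) A
local notation "B̂" => AdicCompletion (maximalIdeal B) B

include hψ

theorem etale_iff :
    (Module.Flat A B ∧ (maximalIdeal A).map (algebraMap A B) = maximalIdeal B ∧
        Module.Finite (ResidueField A) (ResidueField B) ∧
        Algebra.IsSeparable (ResidueField A) (ResidueField B)) ↔ ψ.Etale := by
  letI := ψ.toAlgebra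
  have halg : algebraMap Â B̂ = ψ := rfl
  haveI := isNoetherianRing_completion A
  constructor
  · rintro ⟨hfl, hm, hfin, hsep⟩
    obtain ⟨h1, h2⟩ := (unramified_iff A B ψ hψ).mp ⟨hm, hfin, hsep⟩
    haveI : Algebra.FiniteType Â B̂ := h1
    haveI : Algebra.FormallyUnramified Â B̂ := h2
    haveI : Algebra.FinitePresentation Â B̂ := Algebra.FinitePresentation.of_finiteType.mp h1
    haveI : Module.Flat Â B̂ := flat_completion_map A B ψ hψ
    change Algebra.Etale Â B̂
    exact Algebra.Etale.of_formallyUnramified_of_flat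
  · intro h
    haveI : Algebra.Etale Â B̂ := h
    have h1 : ψ.FiniteType := by
      change Algebra.FiniteType Â B̂
      infer_instance
    have h2 : ψ.FormallyUnramified := by
      change Algebra.FormallyUnramified Â B̂
      infer_instance
    obtain ⟨hm, hfin, hsep⟩ := (unramified_iff A B ψ hψ).mpr ⟨h1, h2⟩
    refine ⟨?_, hm, hfin, hsep⟩
    have h3 : ψ.Flat := by
      change Module.Flat Â B̂
      infer_instance
    have := flat_of_flat_completion_map A B ψ hψ h3
    rwa [RingHom.flat_algebraMap_iff] at this

theorem free_of_etale (h : ψ.Etale) :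
    letI := ψ.toAlgebra
    ∃ n : ℕ, 0 < n ∧ Nonempty ((Fin n → Â) ≃ₗ[Â] B̂) := by
  letI := ψ.toAlgebra
  have halg : algebraMap Â B̂ = ψ := rfl
  obtain ⟨hfl, hm, hfin, hsep⟩ := (etale_iff A B ψ hψ).mpr h
  haveI := finite_completion A B ψ hψ halg hm
  haveI : Module.Flat Â B̂ := flat_completion_map A B ψ hψ
  haveI : Module.Free Â B̂ := Module.free_of_flat_of_isLocalRing
  refine ⟨Module.finrank Â B̂, (Module.finrank_pos_iff_of_free (R := Â) (M := B̂)).mpr inferInstance,
    ⟨(Module.finBasis Â B̂).equivFun.symm⟩⟩

end Main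

end Groth.Agent.Helper3.ComplEtale
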