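import Mathlib
import Groth.Agent.Helper5.ComplDVR

set_option autoImplicit false
set_option linter.style.haveILetI false
set_option linter.unusedSectionVars false

namespace Groth.Agent.Helper3.ComplLoc

open TensorProduct

universe u

section Key

variable {R : Type u} [CommRing R] [IsNoetherianRing R] (a b : Ideal R)
  [IsAdicComplete a (R ⧸ b)]

theorem tmul_eq (x y : AdicCompletion a R)
    (h : AdicCompletion.ofTensorProduct a (R ⧸ b) (x ⊗ₜ[R] (1 : R ⧸ b)) =
      AdicCompletion.ofTensorProduct a (R ⧸ b) (y ⊗ₜ[R] (1 : R ⧸ b))) :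
    x - y ∈ b.map (algebraMap R (AdicCompletion a R)) := by
  have h1 := (AdicCompletion.ofTensorProduct_bijective_of_finite_of_isNoetherian a (R ⧸ b)).1 h
  have h2 : (Ideal.qoutMapEquivTensorQout (AdicCompletion a R) (I := b))
      (Ideal.Quotient.mk _ x) = x ⊗ₜ[R] (1 : R ⧸ b) := rfl
  have h3 : (Ideal.qoutMapEquivTensorQout (AdicCompletion a R) (I := b))
      (Ideal.Quotient.mk _ y) = y ⊗ₜ[R] (1 : R ⧸ b) := rfl
  have h4 : Ideal.Quotient.mk (b.map (algebraMap R (AdicCompletion a R))) x =
      Ideal.Quotient.mk _ y :=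
    (Ideal.qoutMapEquivTensorQout (AdicCompletion a R) (I := b)).injective
      (by rw [h2, h3, h1])
  exact Ideal.Quotient.eq.mp h4

theorem exists_sub_mem (x : AdicCompletion a R) :
    ∃ r : R, x - algebraMap R (AdicCompletion a R) r ∈
      b.map (algebraMap R (AdicCompletion a R)) := by
  obtain ⟨n, hn⟩ := AdicCompletion.of_surjective a (R ⧸ b)
    (AdicCompletion.ofTensorProduct a (R ⧸ b) (x ⊗ₜ[R] (1 : R ⧸ b)))
  obtain ⟨r, rfl⟩ := Ideal.Quotient.mk_surjective n
  refine ⟨r, tmul_eq a b _ _ ?_⟩
  rw [← hn, AdicCompletion.ofTensorProduct_tmul, algebraMap_smul, ← map_smul]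
  congr 1
  rw [Algebra.smul_def, mul_one]
  rfl

theorem mem_of_algebraMap_mem (r : R)
    (h : algebraMap R (AdicCompletion a R) r ∈ b.map (algebraMap R (AdicCompletion a R))) :
    r ∈ b := by
  have h0 : Ideal.Quotient.mk (b.map (algebraMap R (AdicCompletion a R)))
      (algebraMap R (AdicCompletion a R) r) = 0 := Ideal.Quotient.eq_zero_iff_mem.mpr h
  have h2 : (Ideal.qoutMapEquivTensorQout (AdicCompletion a R) (I := b))
      (Ideal.Quotient.mk _ (algebraMap R (AdicCompletion a R) r)) =
        (algebraMap R (AdicCompletion a R) r) ⊗ₜ[R] (1 : R ⧸ b) := rfl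
  rw [h0, map_zero] at h2
  have h3 := congrArg (AdicCompletion.ofTensorProduct a (R ⧸ b)) h2
  rw [map_zero, AdicCompletion.ofTensorProduct_tmul, algebraMap_smul, ← map_smul] at h3
  have h4 := (AdicCompletion.of_injective a (R ⧸ b)) (h3.symm.trans (map_zero _).symm)
  rw [Algebra.smul_def, mul_one] at h4
  exact Ideal.Quotient.eq_zero_iff_mem.mp h4

end Key

section Loc

variable {A : Type u} [CommRing A] (p : Ideal A) [p.IsPrime] (f : A)
  (hf : IsUnit (Ideal.Quotient.mk p f))

include hf

theorem loc_mem (a0 : A)
    (h : algebraMap A (Localization.Away f) a0 ∈ p.map (algebraMap A (Localization.Away f))) :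
    a0 ∈ p := by
  have hdisj : Disjoint (Submonoid.powers f : Set A) (p : Set A) := by
    rw [Set.disjoint_left]
    rintro _ ⟨n, rfl⟩ hn
    have hfp : f ∈ p := Ideal.IsPrime.mem_of_pow_mem inferInstance n hn
    have : Ideal.Quotient.mk p f = 0 := Ideal.Quotient.eq_zero_iff_mem.mpr hfp
    rw [this] at hf
    exact not_isUnit_zero hf
  have h1 := IsLocalization.under_map_of_isPrime_disjoint (Submonoid.powers f)
    (Localization.Away f) inferInstance hdisj
  rw [← h1]
  exact h

theorem loc_exists (r : Localization.Away f) :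
    ∃ a0 : A, r - algebraMap A (Localization.Away f) a0 ∈
      p.map (algebraMap A (Localization.Away f)) := by
  obtain ⟨b, hb⟩ := hf.exists_right_inv
  obtain ⟨g, rfl⟩ := Ideal.Quotient.mk_surjective b
  obtain ⟨⟨a1, ⟨_, n, rfl⟩⟩, h1⟩ := IsLocalization.surj (Submonoid.powers f) r
  simp only at h1
  refine ⟨a1 * g ^ n, ?_⟩
  have h2 : (1 : A) - (f * g) ^ n ∈ p := by
    rw [← Ideal.Quotient.eq_zero_iff_mem, map_sub, map_one, map_pow, map_mul, hb, one_pow,
      sub_self]
  have h3 : r - algebraMap A (Localization.Away f) (a1 * g ^ n) =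
      r * algebraMap A (Localization.Away f) (1 - (f * g) ^ n) := by
    rw [map_mul, ← h1]
    simp only [map_sub, map_one, map_pow, map_mul]
    ring
  rw [h3]
  exact Ideal.mul_mem_left _ _ (Ideal.mem_map_of_mem _ h2)

end Loc

theorem main (A : Type u) [CommRing A] [IsNoetherianRing A] (I : Ideal A) [IsAdicComplete I A]
    (p : Ideal A) [p.IsPrime] (f : A) (hf : IsUnit (Ideal.Quotient.mk p f)) :
    (p.map (algebraMap A (AdicCompletion (I.map (algebraMap A (Localization.Away f)))
        (Localization.Away f)))).IsPrime ∧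
      Function.Bijective (Ideal.quotientMap (p.map (algebraMap A (AdicCompletion
        (I.map (algebraMap A (Localization.Away f))) (Localization.Away f))))
        (algebraMap A (AdicCompletion (I.map (algebraMap A (Localization.Away f)))
          (Localization.Away f))) Ideal.le_comap_map) := by
  obtain ⟨a, ha⟩ : ∃ a : Ideal (Localization.Away f), a = I.map (algebraMap A _) := ⟨_, rfl⟩
  obtain ⟨b, hb⟩ : ∃ b : Ideal (Localization.Away f), b = p.map (algebraMap A _) := ⟨_, rfl⟩
  rw [← ha]
  -- R/b is finite over A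
  have hsurj : Function.Surjective (Algebra.linearMap A (Localization.Away f ⧸ b)) := by
    intro y
    obtain ⟨r, rfl⟩ := Ideal.Quotient.mk_surjective y
    obtain ⟨a0, ha0⟩ := loc_exists p f hf r
    refine ⟨a0, ?_⟩
    rw [Algebra.linearMap_apply]
    show Ideal.Quotient.mk b (algebraMap A _ a0) = _
    rw [eq_comm, Ideal.Quotient.eq, hb]
    exact ha0
  haveI : Module.Finite A (Localization.Away f ⧸ b) := Module.Finite.of_surjective _ hsurj
  haveI : IsPrecomplete I (Localization.Away f ⧸ b) :=
    Groth.Agent.Helper5.ComplDVR.isPrecomplete_of_finite I _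
  haveI : IsHausdorff I (Localization.Away f ⧸ b) :=
    IsHausdorff.of_le_jacobson I _ (IsAdicComplete.le_jacobson_bot I)
  haveI : IsAdicComplete I (Localization.Away f ⧸ b) := { }
  haveI hcompl : IsAdicComplete a (Localization.Away f ⧸ b) := by
    rw [ha]
    exact (IsAdicComplete.map_algebraMap_iff (R := A) (S := Localization.Away f) (I := I)
      (M := Localization.Away f ⧸ b)).mpr inferInstance
  have hP : p.map (algebraMap A (AdicCompletion a (Localization.Away f))) =
      b.map (algebraMap (Localization.Away f) (AdicCompletion a (Localization.Away f))) := by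
    rw [hb, Ideal.map_map]
    rfl
  have hbij : Function.Bijective (Ideal.quotientMap (p.map (algebraMap A (AdicCompletion
        a (Localization.Away f))))
        (algebraMap A (AdicCompletion a (Localization.Away f))) Ideal.le_comap_map) := by
    constructor
    · rw [injective_iff_map_eq_zero]
      intro x hx
      obtain ⟨a0, rfl⟩ := Ideal.Quotient.mk_surjective x
      rw [Ideal.quotientMap_mk, Ideal.Quotient.eq_zero_iff_mem, hP] at hx
      rw [Ideal.Quotient.eq_zero_iff_mem]
      apply loc_mem p f hf
      rw [← hb]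
      exact mem_of_algebraMap_mem a b _ hx
    · intro y
      obtain ⟨x, rfl⟩ := Ideal.Quotient.mk_surjective y
      obtain ⟨r, hr⟩ := exists_sub_mem a b x
      obtain ⟨a0, ha0⟩ := loc_exists p f hf r
      refine ⟨Ideal.Quotient.mk p a0, ?_⟩
      rw [Ideal.quotientMap_mk, eq_comm, Ideal.Quotient.eq, hP]
      have h1 : x - algebraMap A (AdicCompletion a (Localization.Away f)) a0 =
          (x - algebraMap (Localization.Away f) _ r) +
            algebraMap (Localization.Away f) (AdicCompletion a (Localization.Away f))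
              (r - algebraMap A _ a0) := by
        rw [map_sub]
        have : algebraMap A (AdicCompletion a (Localization.Away f)) a0 =
          algebraMap (Localization.Away f) _ (algebraMap A _ a0) := rfl
        rw [this]
        ring
      rw [h1]
      refine Ideal.add_mem _ hr (Ideal.mem_map_of_mem _ ?_)
      rw [hb]
      exact ha0
  refine ⟨?_, hbij⟩
  rw [← Ideal.Quotient.isDomain_iff_prime]
  haveI : IsDomain (A ⧸ p) := Ideal.Quotient.isDomain p
  exact MulEquiv.isDomain _ (RingEquiv.ofBijective _ hbij).symm.toMulEquiv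

end Groth.Agent.Helper3.ComplLoc
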