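import Mathlib

set_option autoImplicit false
set_option linter.style.haveILetI false
set_option linter.unusedSectionVars false
set_option linter.unusedVariables false
set_option linter.style.haveILetI false
set_option linter.unusedSectionVars false
set_option linter.unusedVariables false

universe u

open TensorProduct

namespace Groth.Agent.Helper3.CtblAdapt

/-- S6383 -/
theorem main (R S : Type u) [CommRing R] [CommRing S] [Algebra R S]
    (M : Type u) [AddCommGroup M] [Module R M] {I : Type u} [DecidableEq I]
    (Q : I → Submodule S (S ⊗[R] M))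
    (hQ : DirectSum.IsInternal Q)
    (hQc : ∀ i, ∃ t : Set (S ⊗[R] M), t.Countable ∧ Submodule.span S t = Q i)
    (N : Submodule R M) (hN : ∃ s : Set M, s.Countable ∧ Submodule.span R s = N) :
    ∃ (N' : Submodule R M) (I' : Set I), N ≤ N' ∧
      (∃ s : Set M, s.Countable ∧ Submodule.span R s = N') ∧
      Submodule.span S ((TensorProduct.mk R S M 1) '' (N' : Set M)) = ⨆ i ∈ I', Q i := by
  classical
  have hsupp : ∀ x : S ⊗[R] M, ∃ F : Finset I, x ∈ ⨆ i ∈ F, Q i := by
    intro x
    let e := LinearEquiv.ofBijective (DirectSum.coeLinearMap Q) hQ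
    let d := e.symm x
    refine ⟨DFinsupp.support d, ?_⟩
    have hx : x = DirectSum.coeLinearMap Q d := (e.apply_symm_apply x).symm
    rw [hx, DirectSum.coeLinearMap_eq_dfinsuppSum, DFinsupp.sum]
    refine Submodule.sum_mem _ fun i hi => ?_
    exact Submodule.mem_iSup_of_mem i (Submodule.mem_iSup_of_mem hi (d i).2)
  choose supp hsupp' using hsupp
  have hlift : ∀ τ : S ⊗[R] M, ∃ F : Finset M,
      τ ∈ Submodule.span S ((TensorProduct.mk R S M 1) '' (F : Set M)) := by
    intro τ
    induction τ using TensorProduct.induction_on with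
    | zero => exact ⟨∅, Submodule.zero_mem _⟩
    | tmul s m =>
      refine ⟨{m}, ?_⟩
      have : s ⊗ₜ[R] m = s • (TensorProduct.mk R S M 1 m) := by
        simp [TensorProduct.smul_tmul']
      rw [this]
      exact Submodule.smul_mem _ _ (Submodule.subset_span ⟨m, by simp, rfl⟩)
    | add a b ha hb =>
      obtain ⟨Fa, hFa⟩ := ha
      obtain ⟨Fb, hFb⟩ := hb
      refine ⟨Fa ∪ Fb, Submodule.add_mem _ (Submodule.span_mono ?_ hFa)
        (Submodule.span_mono ?_ hFb)⟩
      · exact Set.image_mono (by simp)
      · exact Set.image_mono (by simp)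
  choose liftF hliftF using hlift
  choose t ht1 ht2 using hQc
  let suppS : Set M → Set I := fun s => ⋃ m ∈ s, (supp (TensorProduct.mk R S M 1 m) : Set I)
  let liftS : Set I → Set M := fun J => ⋃ i ∈ J, ⋃ τ ∈ t i, (liftF τ : Set M)
  obtain ⟨s0, hs0c, hs0⟩ := hN
  let sseq : ℕ → Set M := fun k => Nat.rec s0 (fun _ s => s ∪ liftS (suppS s)) k
  have hsucc : ∀ k, sseq (k + 1) = sseq k ∪ liftS (suppS (sseq k)) := fun k => rfl
  have hcount : ∀ k, (sseq k).Countable := by
    intro k
    induction k with
    | zero => exact hs0c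
    | succ k ih =>
      rw [hsucc]
      refine ih.union ?_
      refine Set.Countable.biUnion ?_
        (fun i _ => Set.Countable.biUnion (ht1 i) (fun τ _ => (liftF τ).countable_toSet))
      exact Set.Countable.biUnion ih (fun m _ => (supp _).countable_toSet)
  let s' : Set M := ⋃ k, sseq k
  let I' : Set I := ⋃ k, suppS (sseq k)
  refine ⟨Submodule.span R s', I', ?_, ⟨s', Set.countable_iUnion hcount, rfl⟩, ?_⟩
  · rw [← hs0]; exact Submodule.span_mono (Set.subset_iUnion sseq 0)
  · have h1 : Submodule.span S ((TensorProduct.mk R S M 1) ''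
        ((Submodule.span R s' : Submodule R M) : Set M)) =
        Submodule.span S ((TensorProduct.mk R S M 1) '' s') := by
      apply le_antisymm
      · rw [Submodule.span_le]
        rintro _ ⟨m, hm, rfl⟩
        induction hm using Submodule.span_induction with
        | mem x hx => exact Submodule.subset_span ⟨x, hx, rfl⟩
        | zero => simp
        | add x y _ _ hx hy => rw [map_add]; exact Submodule.add_mem _ hx hy
        | smul r x _ hx =>
          rw [map_smul, ← algebraMap_smul S r]
          exact Submodule.smul_mem _ _ hx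
      · exact Submodule.span_mono (Set.image_mono Submodule.subset_span)
    rw [h1]
    apply le_antisymm
    · rw [Submodule.span_le]
      rintro _ ⟨m, hm, rfl⟩
      obtain ⟨k, hk⟩ := Set.mem_iUnion.mp hm
      have h3 := hsupp' (TensorProduct.mk R S M 1 m)
      refine (iSup₂_le fun i hi => ?_ : (⨆ i ∈ supp (TensorProduct.mk R S M 1 m), Q i) ≤ _) h3
      exact le_biSup Q (Set.mem_iUnion.mpr ⟨k, Set.mem_biUnion hk hi⟩)
    · refine iSup₂_le fun i hi => ?_
      obtain ⟨k, hk⟩ := Set.mem_iUnion.mp hi
      rw [← ht2 i, Submodule.span_le]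
      intro τ hτ
      have h2 := hliftF τ
      refine Submodule.span_mono (Set.image_mono ?_) h2
      intro m hm
      refine Set.mem_iUnion.mpr ⟨k + 1, ?_⟩
      rw [hsucc]
      exact Or.inr (Set.mem_biUnion hk (Set.mem_biUnion hτ hm))

end Groth.Agent.Helper3.CtblAdapt
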