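import Mathlib
import Groth.Prelude
import Groth.Agent.Helper3.GenLocD
import Groth.Agent.Helper3.ComplCurve
import Groth.Agent.Helper4.SN63
import Groth.Agent.Helper4.UCAffine

set_option autoImplicit false
set_option linter.style.haveILetI false
set_option linter.unusedSectionVars false
set_option linter.unusedVariables false
set_option linter.deprecated false
set_option linter.style.haveILetI false
set_option linter.unusedSectionVars false
set_option linter.unusedVariables false

universe u

open CategoryTheory CategoryTheory.Limits AlgebraicGeometry TopologicalSpace Opposite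

namespace Groth.Agent.Helper3.CurveAff

open Scheme.Modules Groth.Agent.Helper4.TwistExt Groth.Agent.Helper4.GenLoc
  Groth.Agent.Helper3.GenLocA

section glue
variable {X : Scheme.{u}}

/-- **The invertible module of an effective Cartier divisor given by local equations, with its
canonical section.** -/
theorem exists_section_genLocus (U : X.Opens) {Z : Type u} (V : Z → X.Opens)
    (hV : ∀ z z' : Z, z ≠ z' → V z ⊓ V z' ≤ U) (hcov : ∀ x : X, x ∉ U → ∃ z, x ∈ V z)
    (c : ∀ z, Γ(X, V z)) (hc : ∀ z, X.basicOpen (c z) = V z ⊓ U) :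
    ∃ (L : X.Modules) (σ : Coh.structureModule X ⟶ L), PicF.IsInvertible L ∧
      CohB1.genLocus L σ = U := by
  classical
  let c' : ∀ z, Γ(X, V z ⊓ U) := fun z =>
    X.presheaf.map (homOfLE (inf_le_left : V z ⊓ U ≤ V z)).op (c z)
  have hunit : ∀ z, IsUnit (c' z) := fun z =>
    (Groth.Agent.Helper4.SN413.isUnit_res_iff' (inf_le_left : V z ⊓ U ≤ V z) (c z)).mpr
      (hc z).ge
  choose b hb using fun z => (hunit z)
  let b' : ∀ z, Γ(X, V z ⊓ U) := fun z => ((b z)⁻¹ : (Γ(X, V z ⊓ U))ˣ)
  have hb' : ∀ z, IsUnit (b' z) := fun z => Units.isUnit _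
  have hcb : ∀ z, c' z * b' z = 1 := fun z => by
    show c' z * ((b z)⁻¹ : (Γ(X, V z ⊓ U))ˣ) = 1
    rw [← hb z]; exact Units.mul_inv _
  obtain ⟨L, s₀, s, hinv, hF₀, hF, hrel⟩ :=
    Groth.Agent.Helper3.GlueUnits.exists_of_units U V hV hcov b' hb'
  obtain ⟨σ, hσ₀, hσV⟩ := Groth.Agent.Helper3.FrameHom.exists_hom (Coh.structureModule X) L U
    V hV hcov
    (one X U) (isFrame_one U) (fun z => one X (V z)) (fun z => isFrame_one (V z))
    s₀ (fun z => c z • s z) (fun _ => 1)
    (by
      intro z
      rw [one_smul]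
      exact (map_one (X.presheaf.map (homOfLE (inf_le_left : V z ⊓ U ≤ V z)).op).hom).trans
        (map_one (X.presheaf.map (homOfLE (inf_le_right : V z ⊓ U ≤ U)).op).hom).symm)
    (by
      intro z
      rw [one_smul, Scheme.Modules.map_smul, hrel z, smul_smul]
      have : c' z * b' z = 1 := hcb z
      rw [this, one_smul])
  refine ⟨L, σ, hinv, ?_⟩
  have h1 := Groth.Agent.Helper4.SN413.genLocus_inf_eq_basicOpen_of_isFrame σ hF₀ (1 : Γ(X, U))
    (by rw [one_smul]; exact hσ₀)
  have h2 : X.basicOpen (1 : Γ(X, U)) = U := X.basicOpen_of_isUnit isUnit_one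
  rw [h2] at h1
  have h3 : ∀ z, CohB1.genLocus L σ ⊓ V z = V z ⊓ U := fun z => by
    rw [Groth.Agent.Helper4.SN413.genLocus_inf_eq_basicOpen_of_isFrame σ (hF z) (c z) (hσV z), hc z]
  apply le_antisymm
  · intro x hx
    by_contra hxU
    obtain ⟨z, hz⟩ := hcov x hxU
    have : x ∈ CohB1.genLocus L σ ⊓ V z := ⟨hx, hz⟩
    rw [h3 z] at this
    exact hxU this.2
  · exact inf_eq_right.mp h1

end glue


section curve
variable (k : Type u) [Field k] (Y : Scheme.{u}) [Y.Over (Spec (CommRingCat.of k))]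
  [IsProper (Y ↘ (Spec (CommRingCat.of k)))] [IsIntegral Y]

include k in
/-- **Every nonempty proper open subset of a proper integral curve is affine.** -/
theorem isAffineOpen_of_ne_top (hdim : topologicalKrullDim Y = 1) (U : Y.Opens)
    (hne : (U : Set Y).Nonempty) (hU : U ≠ ⊤) : IsAffineOpen U := by
  haveI := Groth.Agent.Helper4.NApx82.isNoetherian_of_proper k Y
  have hdense : Dense (U : Set Y) := U.isOpen.dense hne
  have hgen := Groth.Agent.Helper3.ComplCurve.genericPoints_subset_of_dense _ U.isOpen hdense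
  have hdisc := Groth.Agent.Helper3.Dim1Gen.discreteTopology_compl' Y U hgen hdim.le
  have hdim' : ∀ y : Y, ringKrullDim (Y.presheaf.stalk y) ≤ 1 := fun y =>
    (Groth.Agent.Helper3.CurveFlat.ringKrullDim_stalk_le Y y).trans hdim.le
  have hloc : ∀ t : ↥((U : Set Y)ᶜ), ∃ (V : Y.Opens) (h : Γ(Y, V)), IsAffineOpen V ∧ t.1 ∈ V ∧
      (∀ y ∈ V, y ∉ U → y = t.1) ∧ Y.basicOpen h = V ⊓ U :=
    fun t => Groth.Agent.Helper3.Dim1Gen.exists_local' Y U hdisc t.1 t.2
      (Groth.Agent.Helper3.Dim1Gen.finite_minimalPrimes_stalk Y t.1) (hdim' t.1)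
  choose V h hV htV hVU hh using hloc
  obtain ⟨L, σ, hinv, hσ⟩ := exists_section_genLocus U V
    (by
      intro t t' htt' y hy
      by_contra hyU
      exact htt' (Subtype.ext ((hVU t y hy.1 hyU).symm.trans (hVU t' y hy.2 hyU))))
    (fun y hy => ⟨⟨y, hy⟩, htV ⟨y, hy⟩⟩) h hh
  have hσ0 : σ ≠ 0 := by
    rintro rfl
    obtain ⟨x, hx⟩ := hne
    exact Groth.Agent.Helper4.AmpleFinite.notMem_genLocus_zero hinv x (hσ ▸ hx)
  obtain ⟨h1, h2⟩ := Groth.Agent.Helper4.NApx82.main1521 k Y hdim _ _
    Groth.Agent.Helper4.TensorInv.isInvertible_structureModule hinv σ hσ0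
  rw [Groth.Agent.Helper4.NApx82.deg_structureModule] at h1 h2
  have hpos : 0 < Curv2.deg k Y L 1 := by
    refine lt_of_le_of_ne h1 (fun h0 => ?_)
    haveI := h2 h0
    exact hU (hσ ▸ Groth.Agent.Helper4.AmpleEventual.genLocus_eq_top_of_isIso σ)
  have hamp := Groth.Agent.Helper4.SN.isAmple_of_deg_pos k hdim L hinv hpos
  have := Groth.Agent.Helper4.UCAffine.isAffineOpen_genLocus_of_universallyClosed
    (Y ↘ (Spec (CommRingCat.of k))) L hamp σ
  rwa [hσ] at this

end curve


section main
variable (k : Type u) [Field k] (X : Scheme.{u}) [X.Over (Spec (CommRingCat.of k))]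

/-- **A curve is affine or projective.** -/
theorem affine_or_projective [IsIntegral X] [IsSeparated (X ↘ (Spec (CommRingCat.of k)))]
    [LocallyOfFiniteType (X ↘ (Spec (CommRingCat.of k)))]
    [QuasiCompact (X ↘ (Spec (CommRingCat.of k)))] (hdim : topologicalKrullDim X = 1) :
    IsAffine X ∨ ∃ (d : ℕ) (c : X ⟶ CohB1.ProjSpace d k), IsClosedImmersion c ∧
      c ≫ CohB1.ProjSpace.toSpec d k = X ↘ (Spec (CommRingCat.of k)) := by
  obtain ⟨d, Y, c, j, hc, hj, hcomp, hdense, hsd, hfin, hcl⟩ :=
    Groth.Agent.Helper3.ComplCurve.main k X hdim.le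
  haveI := hc
  haveI := hj
  haveI := hsd
  haveI := Groth.Agent.Helper3.QProj1.isNoetherian_of_lft k X
  haveI : QuasiCompact j := inferInstance
  haveI : IsReduced Y := IsSchemeTheoreticallyDominant.isReduced j
  haveI : IrreducibleSpace Y := by
    have h1 : IsIrreducible (Set.range j) := by
      rw [← Set.image_univ]
      exact (IrreducibleSpace.isIrreducible_univ X).image _ j.continuous.continuousOn
    have h2 := h1.closure
    rw [hdense.closure_eq] at h2
    exact (irreducibleSpace_def Y).mpr h2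
  haveI : IsIntegral Y := isIntegral_of_irreducibleSpace_of_isReduced Y
  haveI := Groth.Agent.Helper6.HProj.isProper_toSpec d k
  letI : Y.Over (Spec (CommRingCat.of k)) := ⟨c ≫ CohB1.ProjSpace.toSpec d k⟩
  haveI : IsProper (Y ↘ (Spec (CommRingCat.of k))) :=
    (inferInstance : IsProper (c ≫ CohB1.ProjSpace.toSpec d k))
  haveI := Groth.Agent.Helper4.NApx82.isNoetherian_of_proper k Y
  have hdimY : topologicalKrullDim Y = 1 := by
    apply le_antisymm
    · exact Groth.Agent.Helper3.ComplCurve.dim_le_of_dense_open k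
        (Y ↘ (Spec (CommRingCat.of k))) j hdense 1 hdim.le
    · rw [← hdim]
      exact j.isEmbedding.isInducing.topologicalKrullDim_le
  by_cases hsurj : j.opensRange = ⊤
  · right
    haveI : IsIso j := isIso_of_isOpenImmersion_of_opensRange_eq_top j hsurj
    exact ⟨d, j ≫ c, inferInstance, by rw [Category.assoc, hcomp]⟩
  · left
    have haff : IsAffineOpen j.opensRange :=
      isAffineOpen_of_ne_top k Y hdimY j.opensRange
        ⟨j (Nonempty.some inferInstance), ⟨_, rfl⟩⟩ hsurj
    haveI : IsAffine (j.opensRange : Scheme.{u}) := haff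
    exact IsAffine.of_isIso j.isoOpensRange.hom

end main

end Groth.Agent.Helper3.CurveAff
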