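import Mathlib
import Groth.Prelude
import Groth.Agent.Helper3.CurveAff
import Groth.Agent.S9203
import Groth.Agent.S1529

set_option autoImplicit false
set_option linter.style.haveILetI false
set_option linter.unusedSectionVars false
set_option linter.unusedVariables false
set_option linter.deprecated false
set_option linter.style.haveILetI false
set_option linter.unusedSectionVars false
set_option linter.unusedVariables false

universe u

open CategoryTheory CategoryTheory.Limits AlgebraicGeometry TopologicalSpace Opposite

namespace Groth.Agent.Helper3.CurveAffB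

theorem isReduced_radical_subscheme {X : Scheme.{u}} (J : X.IdealSheafData) :
    IsReduced J.radical.subscheme := by
  rw [← Scheme.IdealSheafData.vanishingIdeal_support]
  exact Groth.Agent.Helper3.AffPts.isReduced_subscheme_vanishingIdeal _

theorem lt_one_le_zero (x : WithBot ℕ∞) (h1 : x ≤ 1) (h2 : x ≠ 1) : x ≤ 0 := by
  have hlt : x < 1 := lt_of_le_of_ne h1 h2
  induction x using WithBot.recBotCoe with
  | bot => exact bot_le
  | coe n =>
    have : n < 1 := by exact_mod_cast hlt
    have : n = 0 := ENat.lt_one_iff_eq_zero.mp this
    rw [this]; rfl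

variable (k : Type u) [Field k] (X : Scheme.{u}) [X.Over (Spec (CommRingCat.of k))]

theorem main [IsSeparated (X ↘ (Spec (CommRingCat.of k)))]
    [LocallyOfFiniteType (X ↘ (Spec (CommRingCat.of k)))]
    [IsNoetherian X] (hdim : topologicalKrullDim X ≤ 1)
    (h : ∀ (C : Set X) (hC : C ∈ irreducibleComponents (X : Type u)), topologicalKrullDim C = 1 →
      ¬ IsProper ((X.irreducibleComponentIdeal C hC).radical.subschemeι ≫
        (X ↘ (Spec (CommRingCat.of k))))) :
    IsAffine X := by
  classical
  let κ : Type u := ↥(irreducibleComponents X)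
  haveI : Finite κ := (NoetherianSpace.finite_irreducibleComponents (α := X)).to_subtype
  let I : κ → X.IdealSheafData := fun C => (X.irreducibleComponentIdeal C.1 C.2).radical
  let Z : κ → Scheme.{u} := fun C => (I C).subscheme
  let ι : ∀ C, Z C ⟶ X := fun C => (I C).subschemeι
  have hrange : ∀ C, Set.range (ι C) = C.1 := fun C => by
    rw [Scheme.IdealSheafData.range_subschemeι]
    rfl
  haveI hqc : QuasiCompact (X ↘ (Spec (CommRingCat.of k))) := inferInstance
  haveI : ∀ C, IsAffine (Z C) := by
    intro C
    haveI : IsReduced (Z C) := isReduced_radical_subscheme _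
    haveI : IrreducibleSpace (Z C) := by
      have e := (ι C).isClosedEmbedding.isEmbedding.toHomeomorph
      rw [e.irreducibleSpace_iff]
      apply Subtype.irreducibleSpace
      rw [hrange]
      exact C.2.1
    haveI : IsIntegral (Z C) := isIntegral_of_irreducibleSpace_of_isReduced _
    letI : (Z C).Over (Spec (CommRingCat.of k)) := ⟨ι C ≫ (X ↘ (Spec (CommRingCat.of k)))⟩
    haveI : IsSeparated (Z C ↘ (Spec (CommRingCat.of k))) :=
      (inferInstance : IsSeparated (ι C ≫ (X ↘ (Spec (CommRingCat.of k)))))
    haveI : LocallyOfFiniteType (Z C ↘ (Spec (CommRingCat.of k))) :=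
      (inferInstance : LocallyOfFiniteType (ι C ≫ (X ↘ (Spec (CommRingCat.of k)))))
    haveI : QuasiCompact (Z C ↘ (Spec (CommRingCat.of k))) :=
      (inferInstance : QuasiCompact (ι C ≫ (X ↘ (Spec (CommRingCat.of k)))))
    have hdimC : topologicalKrullDim (Z C) = topologicalKrullDim ↥C.1 := by
      have e1 := IsHomeomorph.topologicalKrullDim_eq _
        ((ι C).isEmbedding.toHomeomorph.isHomeomorph)
      have e2 := IsHomeomorph.topologicalKrullDim_eq _
        ((Homeomorph.setCongr (hrange C)).isHomeomorph)
      exact e1.trans e2
    by_cases hd1 : topologicalKrullDim ↥C.1 = 1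
    · rcases Groth.Agent.Helper3.CurveAff.affine_or_projective k (Z C) (hdimC.trans hd1) with
        haff | ⟨d, c, hc, hcomp⟩
      · exact haff
      · exfalso
        apply h C.1 C.2 hd1
        haveI := hc
        haveI := Groth.Agent.Helper6.HProj.isProper_toSpec d k
        have : IsProper (c ≫ CohB1.ProjSpace.toSpec d k) := inferInstance
        rw [hcomp] at this
        exact this
    · have hle : topologicalKrullDim ↥C.1 ≤ 1 :=
        (topologicalKrullDim_subspace_le X C.1).trans hdim
      have h0 : topologicalKrullDim (Z C) ≤ 0 := by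
        rw [hdimC]; exact lt_one_le_zero _ hle hd1
      exact (Groth.Agent.S1529.result k (Z C) h0).1
  refine Groth.Agent.S9203.result X Z ι (fun x => ?_)
  refine ⟨⟨irreducibleComponent x, irreducibleComponent_mem_irreducibleComponents x⟩, ?_⟩
  show x ∈ Set.range (ι _)
  rw [hrange]
  exact mem_irreducibleComponent

end Groth.Agent.Helper3.CurveAffB
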