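import Mathlib
import Groth.Agent.Helper3.StalkNbhd2
import Groth.Agent.Helper2.SmoothRegSch
import Groth.Agent.Helper5.DimIneq2

set_option linter.style.haveILetI false
set_option linter.unusedSectionVars false
set_option linter.unusedVariables false

namespace Groth.Agent.Helper3.CurveEtPt
open AlgebraicGeometry CategoryTheory Groth.Agent.Helper3.StalkNbhd

universe u

/-- over an algebraically closed field, the residue field map at a closed point of a scheme
locally of finite type is surjective -/
theorem residueFieldMap_surjective (k : Type u) [Field k] [IsAlgClosed k] {X Y : Scheme.{u}}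
    (pX : X ⟶ Spec (CommRingCat.of k)) (pY : Y ⟶ Spec (CommRingCat.of k)) (φ : X ⟶ Y)
    (w : φ ≫ pY = pX) [LocallyOfFiniteType pX] (x : X) (hx : IsClosed ({x} : Set X)) :
    Function.Surjective (φ.residueFieldMap x).hom := by
  haveI : IsClosedImmersion (X.fromSpecResidueField x) :=
    isClosed_singleton_iff_isClosedImmersion.mp hx
  obtain ⟨ψ, hψ⟩ := Spec.map_surjective (X.fromSpecResidueField x ≫ pX)
  obtain ⟨ψY, hψY⟩ := Spec.map_surjective (Y.fromSpecResidueField (φ x) ≫ pY)
  have hcomp : ψ = ψY ≫ φ.residueFieldMap x := by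
    apply Spec.map_injective
    rw [Spec.map_comp, hψ, hψY, ← w, ← Category.assoc,
      ← Scheme.Hom.SpecMap_residueFieldMap_fromSpecResidueField, Category.assoc]
  have hft : ψ.hom.FiniteType := by
    have : LocallyOfFiniteType (Spec.map ψ) := hψ ▸ inferInstance
    exact HasRingHomProperty.Spec_iff.mp this
  algebraize [ψ.hom]
  haveI : Module.Finite k (X.residueField x) := finite_of_finite_type_of_isJacobsonRing k _
  have hbij := IsAlgClosed.algebraMap_bijective_of_isIntegral (k := k) (K := X.residueField x)
  intro b
  obtain ⟨c, rfl⟩ := hbij.2 b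
  refine ⟨ψY.hom c, ?_⟩
  change (ψY ≫ φ.residueFieldMap x).hom c = ψ.hom c
  rw [hcomp]

/-- the local ring at a closed point of an integral scheme of dimension one is not a field -/
theorem maximalIdeal_ne_bot_of_closed (X : Scheme.{u}) [IsIntegral X]
    (hdim : topologicalKrullDim X = 1) (x : X) (hx : IsClosed ({x} : Set X)) :
    IsLocalRing.maximalIdeal (X.presheaf.stalk x) ≠ ⊥ := by
  intro hbot
  have hmem : genericPoint X ∈ Set.range (X.fromSpecStalk x) := by
    rw [Scheme.range_fromSpecStalk]
    exact genericPoint_specializes x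
  obtain ⟨p, hp⟩ := hmem
  have hpc : p = IsLocalRing.closedPoint (X.presheaf.stalk x) := by
    apply PrimeSpectrum.ext
    apply le_antisymm
    · exact IsLocalRing.le_maximalIdeal p.2.ne_top
    · change IsLocalRing.maximalIdeal _ ≤ _
      rw [hbot]
      exact bot_le
  rw [hpc, Scheme.fromSpecStalk_closedPoint] at hp
  have hgen : closure ({x} : Set X) = Set.univ := by
    rw [hp]
    exact genericPoint_closure X
  rw [hx.closure_eq] at hgen
  haveI : Subsingleton X := by
    constructor
    intro a b
    have ha : a ∈ ({x} : Set X) := hgen ▸ Set.mem_univ a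
    have hb : b ∈ ({x} : Set X) := hgen ▸ Set.mem_univ b
    rw [Set.mem_singleton_iff] at ha hb
    rw [ha, hb]
  have : topologicalKrullDim X ≤ 0 := by
    apply Order.krullDim_nonpos_iff_forall_isMax.mpr
    intro Z Y h
    refine (h.antisymm' fun a ha ↦ ?_).le
    obtain ⟨z, hz⟩ := Z.2.nonempty
    rwa [Subsingleton.elim a z]
  rw [hdim] at this
  exact absurd this (by norm_num)

/-- local rings of a smooth integral curve are principal ideal domains -/
theorem isPrincipalIdealRing_stalk (k : Type u) [Field k] (Y : Scheme.{u})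
    (pY : Y ⟶ Spec (CommRingCat.of k)) [Smooth pY] [IsIntegral Y]
    (hdY : topologicalKrullDim Y = 1) (y : Y) : IsPrincipalIdealRing (Y.presheaf.stalk y) := by
  haveI : IsLocallyNoetherian Y := LocallyOfFiniteType.isLocallyNoetherian pY
  have hreg := Groth.Agent.Helper2.SmoothRegSch.stalk_regular_of_smooth k Y pY y
  have h1 := (IsRegularLocalRing.iff_finrank_cotangentSpace _).1 hreg
  have h2 : ringKrullDim (Y.presheaf.stalk y) ≤ 1 := by
    rw [← hdY]
    exact Groth.Agent.Helper5.DimIneq.ringKrullDim_stalk_le_dim Y y
  have h3 : Module.finrank (IsLocalRing.ResidueField (Y.presheaf.stalk y))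
      (IsLocalRing.CotangentSpace (Y.presheaf.stalk y)) ≤ 1 := by
    rw [← h1] at h2
    exact_mod_cast h2
  exact ((tfae_of_isNoetherianRing_of_isLocalRing_of_isDomain (Y.presheaf.stalk y)).out 5 0).mp h3

theorem s19541 (k : Type u) [Field k] [IsAlgClosed k] {X Y : Scheme.{u}}
    (pX : X ⟶ Spec (CommRingCat.of k)) (pY : Y ⟶ Spec (CommRingCat.of k)) (φ : X ⟶ Y)
    (w : φ ≫ pY = pX)
    [IsIntegral X] [Smooth pX] (hdX : topologicalKrullDim X = 1)
    [IsIntegral Y] [Smooth pY] (hdY : topologicalKrullDim Y = 1)
    (x : X) (hx : IsClosed ({x} : Set X)) :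
    (∃ U : X.Opens, x ∈ U ∧ Etale (U.ι ≫ φ)) ↔
      Ideal.map (φ.stalkMap x).hom (IsLocalRing.maximalIdeal (Y.presheaf.stalk (φ.base x))) =
        IsLocalRing.maximalIdeal (X.presheaf.stalk x) := by
  haveI : LocallyOfFiniteType (φ ≫ pY) := w ▸ inferInstance
  haveI : LocallyOfFiniteType φ := locallyOfFiniteType_of_comp φ pY
  haveI : IsLocallyNoetherian Y := LocallyOfFiniteType.isLocallyNoetherian pY
  haveI : LocallyOfFinitePresentation φ := inferInstance
  rw [etale_nbhd_iff φ x]
  have hess := LocallyOfFiniteType.stalkMap φ x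
  have hsurj := residueFieldMap_surjective k pX pY φ w x hx
  haveI hPID := isPrincipalIdealRing_stalk k Y pY hdY (φ x)
  have hne := maximalIdeal_ne_bot_of_closed X hdX x hx
  algebraize [(φ.stalkMap x).hom]
  haveI : IsLocalHom (algebraMap (Y.presheaf.stalk (φ x)) (X.presheaf.stalk x)) :=
    inferInstanceAs (IsLocalHom (φ.stalkMap x).hom)
  constructor
  · rintro ⟨-, hun⟩
    haveI : Algebra.FormallyUnramified (Y.presheaf.stalk (φ x)) (X.presheaf.stalk x) := hun
    exact Algebra.FormallyUnramified.map_maximalIdeal
  · intro H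
    constructor
    · -- flatness
      have hinj : Function.Injective (algebraMap (Y.presheaf.stalk (φ x)) (X.presheaf.stalk x)) := by
        rw [RingHom.injective_iff_ker_eq_bot]
        by_contra hker
        haveI hprime : (RingHom.ker (algebraMap (Y.presheaf.stalk (φ x))
            (X.presheaf.stalk x))).IsPrime := RingHom.ker_isPrime _
        have hmax := hprime.isMaximal hker
        have heq := IsLocalRing.eq_maximalIdeal hmax
        apply hne
        rw [← H]
        change Ideal.map (algebraMap (Y.presheaf.stalk (φ x)) (X.presheaf.stalk x)) _ = ⊥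
        rw [← heq, Ideal.map_eq_bot_iff_le_ker]
      haveI : Module.IsTorsionFree (Y.presheaf.stalk (φ x)) (X.presheaf.stalk x) :=
        Module.isTorsionFree_iff_algebraMap_injective.mpr hinj
      change Module.Flat _ _
      infer_instance
    · haveI : Algebra.IsSeparable (IsLocalRing.ResidueField (Y.presheaf.stalk (φ x)))
          (IsLocalRing.ResidueField (X.presheaf.stalk x)) := by
        have hsurj' : Function.Surjective
            (algebraMap (IsLocalRing.ResidueField (Y.presheaf.stalk (φ x)))
              (IsLocalRing.ResidueField (X.presheaf.stalk x))) := hsurj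
        refine ⟨fun b => ?_⟩
        obtain ⟨a, rfl⟩ := hsurj' b
        exact isSeparable_algebraMap a
      exact Algebra.FormallyUnramified.of_map_maximalIdeal H

end Groth.Agent.Helper3.CurveEtPt
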