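import Mathlib
import Groth.Prelude
import Groth.Agent.Helper3.ComplCurve
import Groth.Agent.Helper3.QProj1
import Groth.Agent.S2358

set_option autoImplicit false
set_option linter.style.haveILetI false
set_option linter.unusedSectionVars false
set_option linter.unusedVariables false
set_option linter.deprecated false
set_option linter.style.haveILetI false
set_option linter.unusedSectionVars false
set_option linter.unusedVariables false

universe u

open CategoryTheory CategoryTheory.Limits AlgebraicGeometry TopologicalSpace Opposite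

namespace Groth.Agent.Helper3.CurveExt

/-- a morphism from a curve to a proper `k`-scheme extends over a projective completion (closure
of the graph in `completion × Y`). -/
theorem main (k : Type u) [Field k]
    (X Y : Scheme.{u}) [X.Over (Spec (CommRingCat.of k))] [Y.Over (Spec (CommRingCat.of k))]
    [IsIntegral X] [IsSeparated (X ↘ (Spec (CommRingCat.of k)))]
    [LocallyOfFiniteType (X ↘ (Spec (CommRingCat.of k)))]
    [QuasiCompact (X ↘ (Spec (CommRingCat.of k)))] (hdX : topologicalKrullDim X = 1)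
    [IsProper (Y ↘ (Spec (CommRingCat.of k)))]
    (f : X ⟶ Y) (hf : f ≫ (Y ↘ (Spec (CommRingCat.of k))) = X ↘ (Spec (CommRingCat.of k))) :
    ∃ (Xb : Scheme.{u}) (_ : Xb.Over (Spec (CommRingCat.of k))) (j : X ⟶ Xb) (g : Xb ⟶ Y),
      IsOpenImmersion j ∧ j ≫ g = f ∧
      j ≫ (Xb ↘ (Spec (CommRingCat.of k))) = X ↘ (Spec (CommRingCat.of k)) ∧
      g ≫ (Y ↘ (Spec (CommRingCat.of k))) = Xb ↘ (Spec (CommRingCat.of k)) ∧
      IsIntegral Xb ∧ topologicalKrullDim Xb = 1 ∧
      ∃ (n : ℕ) (i : Xb ⟶ CohB1.ProjSpace n k), IsClosedImmersion i ∧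
        i ≫ CohB1.ProjSpace.toSpec n k = Xb ↘ (Spec (CommRingCat.of k)) := by
  obtain ⟨d, Y₀, c₀, j₀, hc₀, hj₀, hcomp₀, -, -, -, -⟩ :=
    Groth.Agent.Helper3.ComplCurve.main k X hdX.le
  haveI := Groth.Agent.Helper3.QProj1.isNoetherian_of_lft k X
  haveI := Groth.Agent.Helper6.HProj.isProper_toSpec d k
  let s₀ : Y₀ ⟶ Spec (CommRingCat.of k) := c₀ ≫ CohB1.ProjSpace.toSpec d k
  haveI : IsProper s₀ := inferInstance
  let sY : Y ⟶ Spec (CommRingCat.of k) := Y ↘ (Spec (CommRingCat.of k))
  have hγ : j₀ ≫ s₀ = f ≫ sY := by rw [hf]; exact hcomp₀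
  let γ : X ⟶ pullback s₀ sY := pullback.lift j₀ f hγ
  haveI : IsImmersion (γ ≫ pullback.fst s₀ sY) := by
    rw [pullback.lift_fst]; infer_instance
  haveI : IsImmersion γ := IsImmersion.of_comp γ (pullback.fst s₀ sY)
  haveI : QuasiCompact γ := inferInstance
  let q : γ.image ⟶ Spec (CommRingCat.of k) := γ.imageι ≫ pullback.fst s₀ sY ≫ s₀
  haveI : IsProper q := inferInstance
  letI : (γ.image).Over (Spec (CommRingCat.of k)) := ⟨q⟩
  haveI : IsProper (γ.image ↘ (Spec (CommRingCat.of k))) := (inferInstance : IsProper q)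
  haveI : LocallyOfFiniteType (γ.image ↘ (Spec (CommRingCat.of k))) :=
    (inferInstance : LocallyOfFiniteType q)
  haveI : QuasiCompact (γ.image ↘ (Spec (CommRingCat.of k))) :=
    (inferInstance : QuasiCompact q)
  haveI : IsNoetherian γ.image := Groth.Agent.Helper3.QProj1.isNoetherian_of_lft k γ.image
  have hdense : Dense (Set.range γ.toImage) := γ.toImage.denseRange
  have hdimle : topologicalKrullDim γ.image ≤ 1 :=
    Groth.Agent.Helper3.ComplCurve.dim_le_of_dense_open k q γ.toImage hdense 1 hdX.le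
  have hdimge : (1 : WithBot ℕ∞) ≤ topologicalKrullDim γ.image := by
    rw [← hdX]
    exact γ.toImage.isOpenEmbedding.isEmbedding.topologicalKrullDim_le
  obtain ⟨n, i, hi, hicomp⟩ := Groth.Agent.Helper3.QProj1.projective k γ.image hdimle
  refine ⟨γ.image, ⟨q⟩, γ.toImage, γ.imageι ≫ pullback.snd s₀ sY, inferInstance, ?_, ?_, ?_,
    Groth.Agent.S2358.isIntegral_image γ, le_antisymm hdimle hdimge, n, i, hi, hicomp⟩
  · rw [← Category.assoc, γ.toImage_imageι, pullback.lift_snd]
  · show γ.toImage ≫ γ.imageι ≫ pullback.fst s₀ sY ≫ s₀ = _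
    rw [← Category.assoc, γ.toImage_imageι, ← Category.assoc, pullback.lift_fst]
    exact hcomp₀
  · show (γ.imageι ≫ pullback.snd s₀ sY) ≫ sY = γ.imageι ≫ pullback.fst s₀ sY ≫ s₀
    rw [Category.assoc, pullback.condition]

end Groth.Agent.Helper3.CurveExt
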