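import Mathlib
import Groth.Prelude
import Groth.Agent.Helper3.CurveFlat
import Groth.Agent.Helper6.FppfSm2
import Groth.Agent.Helper4.SchLFP

set_option autoImplicit false
set_option linter.style.haveILetI false
set_option linter.unusedSectionVars false
set_option linter.unusedVariables false
set_option linter.deprecated false
set_option linter.style.haveILetI false
set_option linter.unusedSectionVars false
set_option linter.unusedVariables false

universe u v w

open AlgebraicGeometry CategoryTheory CategoryTheory.Limits TopologicalSpace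

namespace Groth.Agent.Helper3.CurveSm

theorem nontrivial_of_dim_one (Y : Type u) [TopologicalSpace Y] (h : topologicalKrullDim Y = 1) :
    Nontrivial Y := by
  by_contra hn
  rw [not_nontrivial_iff_subsingleton] at hn
  haveI : Subsingleton (IrreducibleCloseds Y) := by
    constructor
    intro a b
    apply IrreducibleCloseds.ext
    ext y
    constructor
    · intro _
      obtain ⟨z, hz⟩ := b.isIrreducible'.nonempty
      rwa [Subsingleton.elim y z]
    · intro _
      obtain ⟨z, hz⟩ := a.isIrreducible'.nonempty
      rwa [Subsingleton.elim y z]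
  have h1 : topologicalKrullDim Y ≤ 0 := Order.krullDim_nonpos_of_subsingleton
  rw [h] at h1
  exact absurd h1 (by decide)

theorem s6557 (k : Type u) [Field k]
    (X Y : Scheme.{u}) [X.Over (Spec (CommRingCat.of k))] [Y.Over (Spec (CommRingCat.of k))]
    [IsIntegral X] [IsIntegral Y]
    [LocallyOfFiniteType (Y ↘ (Spec (CommRingCat.of k)))] [QuasiCompact (Y ↘ (Spec (CommRingCat.of k)))]
    (hdY : topologicalKrullDim Y = 1)
    (f : X ⟶ Y) (hf : f ≫ (Y ↘ (Spec (CommRingCat.of k))) = X ↘ (Spec (CommRingCat.of k))) [Surjective f]
    [Smooth (X ↘ (Spec (CommRingCat.of k)))] (hY : Pi1.IsNormalScheme Y) :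
    Smooth (Y ↘ (Spec (CommRingCat.of k))) := by
  haveI : Smooth (f ≫ (Y ↘ (Spec (CommRingCat.of k)))) := by rw [hf]; infer_instance
  haveI : LocallyOfFinitePresentation f :=
    Groth.Agent.Helper4.SchLFP.locallyOfFinitePresentation_of_comp f (Y ↘ (Spec (CommRingCat.of k)))
  haveI : Flat f := by
    refine Groth.Agent.Helper3.CurveFlat.s0220 k X Y (Y ↘ (Spec (CommRingCat.of k))) hdY hY f ?_
    haveI := nontrivial_of_dim_one Y hdY
    have : Set.range f.base = Set.univ := Set.range_eq_univ.2 f.surjective
    rw [this]
    exact Set.nontrivial_univ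
  exact Groth.Agent.Helper6.FppfSm2.smooth_of_comp_fppf f (Y ↘ (Spec (CommRingCat.of k)))

end Groth.Agent.Helper3.CurveSm
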