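import Groth.Agent.Helper3.CurveTop
import Groth.Agent.Helper5.ConstrCurve

open AlgebraicGeometry CategoryTheory CategoryTheory.Limits TopologicalSpace Opposite IsLocalRing

universe u

namespace Groth.Agent.Helper3.CurveSub

/-- S13792 -/
theorem s13792 {k : Type u} [Field k]
    {E G : Scheme.{u}} (f : E ⟶ Spec (CommRingCat.of k)) [LocallyOfFiniteType f] [QuasiCompact f]
    [IsIntegral E] (hdim : topologicalKrullDim ↥E = 1) (ι : G ⟶ E) [IsClosedImmersion ι] :
    IsIso ι ∨ IsFinite (ι ≫ f) := by
  haveI := CurveTop.noetherianSpace_of_finiteType k E f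
  by_cases hs : Function.Surjective ι
  · left
    haveI : Surjective ι := ⟨hs⟩
    exact isIso_of_isClosedImmersion_of_surjective ι
  · right
    have hcl : IsClosed (Set.range ι) := ι.isClosedEmbedding.isClosed_range
    have hη : genericPoint E ∉ Set.range ι := by
      intro h
      apply hs
      rw [← Set.range_eq_univ]
      apply Set.eq_univ_of_univ_subset
      rw [← (genericPoint_spec E).def]
      exact hcl.closure_subset_iff.mpr (Set.singleton_subset_iff.mpr h)
    have hfin : (Set.range ι).Finite :=
      Groth.Agent.Helper5.ConstrCurve.finite_of_isClosed_of_notMem hdim.le _ hcl hη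
    have hG : Finite G := by
      have : Finite (Set.range ι) := hfin
      exact Finite.of_injective (fun g : G => (⟨ι g, g, rfl⟩ : Set.range ι))
        (fun a b h => ι.isClosedEmbedding.injective (congrArg Subtype.val h))
    haveI : LocallyQuasiFinite (ι ≫ f) :=
      LocallyQuasiFinite.of_finite_preimage_singleton _ fun x => Set.toFinite _
    haveI : IsLocallyArtinian (Spec (CommRingCat.of k)) :=
      Scheme.isLocallyArtinianScheme_Spec.mpr (inferInstanceAs (IsArtinianRing k))
    exact IsFinite.of_locallyQuasiFinite (ι ≫ f)

end Groth.Agent.Helper3.CurveSub
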