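import Mathlib
import Groth.Agent.S0393
import Groth.Agent.Helper1.AssTensor

set_option linter.style.haveILetI false
set_option linter.unusedSectionVars false
set_option linter.unusedVariables false

namespace Groth.Agent.Helper3.CxFlat

universe u

open IsLocalRing TensorProduct

section E

variable {R : Type u} [CommRing R] [IsLocalRing R] {M N : Type u} [AddCommGroup M] [Module R M]
  [AddCommGroup N] [Module R N]

/-- elementwise criterion for injectivity modulo the maximal ideal -/
theorem lTensor_residue_injective (u : N →ₗ[R] M)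
    (h : ∀ x : N, u x ∈ (maximalIdeal R • ⊤ : Submodule R M) →
      x ∈ (maximalIdeal R • ⊤ : Submodule R N)) :
    Function.Injective (LinearMap.lTensor (ResidueField R) u) := by
  rw [injective_iff_map_eq_zero]
  intro t ht
  obtain ⟨x, rfl⟩ : ∃ x : N, t = (1 : ResidueField R) ⊗ₜ[R] x := by
    clear ht
    induction t using TensorProduct.induction_on with
    | zero => exact ⟨0, by simp⟩
    | tmul r x =>
      obtain ⟨r, rfl⟩ := Ideal.Quotient.mk_surjective r
      refine ⟨r • x, ?_⟩
      rw [TensorProduct.tmul_smul, TensorProduct.smul_tmul']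
      congr 1
      rw [Algebra.smul_def, mul_one]
      rfl
    | add a b ha hb =>
      obtain ⟨x, rfl⟩ := ha
      obtain ⟨y, rfl⟩ := hb
      exact ⟨x + y, by rw [TensorProduct.tmul_add]⟩
  rw [LinearMap.lTensor_tmul] at ht
  have h1 := (Groth.Agent.Helper2.InjModMax.one_tmul_eq_zero_iff (maximalIdeal R) M (u x)).1 ht
  exact (Groth.Agent.Helper2.InjModMax.one_tmul_eq_zero_iff (maximalIdeal R) N x).2 (h x h1)

end E

section concrete

variable {R S : Type u} [CommRing R] [CommRing S] [IsLocalRing R] [IsLocalRing S]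
  [IsNoetherianRing S] [Algebra R S] [IsLocalHom (algebraMap R S)]
  (F : ℕ → Type u) [∀ j, AddCommGroup (F j)] [∀ j, Module S (F j)] [∀ j, Module R (F j)]
  [∀ j, IsScalarTower R S (F j)] [∀ j, Module.Finite S (F j)] [∀ j, Module.Flat R (F j)]
  (d : ∀ j, F (j + 1) →ₗ[S] F j) (hdd : ∀ j x, d j (d (j + 1) x) = 0) (e : ℕ)
  (hzero : ∀ j, e < j → Subsingleton (F j))
  (hex : ∀ i, i + 1 ≤ e → ∀ x : F (i + 1),
    d i x ∈ ((maximalIdeal R).map (algebraMap R S) • ⊤ : Submodule S (F i)) →
     ∃ y : F (i + 2), x - d (i + 1) y ∈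
      ((maximalIdeal R).map (algebraMap R S) • ⊤ : Submodule S (F (i + 1))))

include hdd hex in
theorem step (i : ℕ) (hi : i + 1 ≤ e)
    (hQ : Module.Flat R (F (i + 1) ⧸ LinearMap.range (d (i + 1)))) :
    (∀ x : F (i + 1), d i x = 0 → ∃ y, d (i + 1) y = x) ∧
      Module.Flat R (F i ⧸ LinearMap.range (d i)) := by
  set P : Submodule S (F (i + 1)) := LinearMap.range (d (i + 1)) with hP
  have hle : P ≤ LinearMap.ker (d i) := by
    rintro _ ⟨y, rfl⟩
    exact hdd i y
  let ū : (F (i + 1) ⧸ P) →ₗ[S] F i := P.liftQ (d i) hle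
  let ūR : (F (i + 1) ⧸ P) →ₗ[R] F i := ū.restrictScalars R
  have h : ∀ x : F (i + 1) ⧸ P, ūR x ∈ (maximalIdeal R • ⊤ : Submodule R (F i)) →
      x ∈ (maximalIdeal R • ⊤ : Submodule R (F (i + 1) ⧸ P)) := by
    intro x hx
    obtain ⟨x, rfl⟩ := Submodule.Quotient.mk_surjective _ x
    have h1 : d i x ∈ (maximalIdeal R • ⊤ : Submodule R (F i)) := hx
    rw [← Groth.Agent.Helper1.AssTensor.mem_map_smul_top_iff (S := S)] at h1
    obtain ⟨y, hy⟩ := hex i hi x h1
    rw [Groth.Agent.Helper1.AssTensor.mem_map_smul_top_iff] at hy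
    have h2 := Submodule.smul_top_le_comap_smul_top (maximalIdeal R) (P.mkQ.restrictScalars R) hy
    rw [Submodule.mem_comap] at h2
    have h3 : (P.mkQ.restrictScalars R) (x - d (i + 1) y) = Submodule.Quotient.mk x := by
      show Submodule.Quotient.mk (x - d (i + 1) y) = Submodule.Quotient.mk x
      rw [Submodule.Quotient.mk_sub]
      have : (Submodule.Quotient.mk (d (i + 1) y) : F (i + 1) ⧸ P) = 0 :=
        (Submodule.Quotient.mk_eq_zero _).2 ⟨y, rfl⟩
      rw [this, sub_zero]
    rw [h3] at h2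
    exact h2
  have key := Groth.Agent.S0393.result (S := S) ūR (lTensor_residue_injective ūR h)
  constructor
  · intro x hx
    have h1 : ūR (Submodule.Quotient.mk x) = 0 := hx
    have h2 := key.1 (h1.trans (map_zero ūR).symm)
    have h3 := (Submodule.Quotient.mk_eq_zero _).1 h2
    obtain ⟨y, hy⟩ := h3
    exact ⟨y, hy⟩
  · have hrange : LinearMap.range ūR = (LinearMap.range (d i)).restrictScalars R := by
      ext z
      constructor
      · rintro ⟨x, rfl⟩
        obtain ⟨x, rfl⟩ := Submodule.Quotient.mk_surjective _ x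
        exact ⟨x, rfl⟩
      · rintro ⟨x, rfl⟩
        exact ⟨Submodule.Quotient.mk x, rfl⟩
    have e1 : (F i ⧸ LinearMap.range ūR) ≃ₗ[R] (F i ⧸ (LinearMap.range (d i)).restrictScalars R) :=
      Submodule.quotEquivOfEq _ _ hrange
    have e2 := Submodule.Quotient.restrictScalarsEquiv R (LinearMap.range (d i))
    haveI := key.2
    exact Module.Flat.of_linearEquiv (e1.trans e2).symm

include hdd hex hzero in
theorem concrete :
    (∀ i, i + 1 ≤ e → ∀ x : F (i + 1), d i x = 0 → ∃ y, d (i + 1) y = x) ∧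
      Module.Flat R (F 0 ⧸ LinearMap.range (d 0)) := by
  have hQ : ∀ k, k ≤ e → Module.Flat R (F (e - k) ⧸ LinearMap.range (d (e - k))) := by
    intro k
    induction k with
    | zero =>
      intro _
      have hsub : Subsingleton (F (e + 1)) := hzero _ (Nat.lt_succ_self e)
      have hbot : LinearMap.range (d e) = ⊥ := by
        rw [eq_bot_iff]
        rintro _ ⟨y, rfl⟩
        rw [Subsingleton.elim y 0, map_zero]
        exact Submodule.zero_mem _
      have e1 : (F e ⧸ LinearMap.range (d e)) ≃ₗ[R] F e :=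
        (Submodule.quotEquivOfEqBot _ hbot).restrictScalars R
      exact Module.Flat.of_linearEquiv e1
    | succ k ih =>
      intro hk
      have h1 := ih (by omega)
      have h2 : e - k = (e - (k + 1)) + 1 := by omega
      rw [h2] at h1
      exact (step F d hdd e hex (e - (k + 1)) (by omega) h1).2
  constructor
  · intro i hi
    have h1 := hQ (e - (i + 1)) (by omega)
    have h2 : e - (e - (i + 1)) = i + 1 := by omega
    rw [h2] at h1
    exact (step F d hdd e hex i hi h1).1
  · have := hQ e le_rfl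
    rwa [Nat.sub_self] at this

end concrete

section wrap

open CategoryTheory

theorem exists_one_tmul {S : Type u} [CommRing S] (I : Ideal S) {N : Type u} [AddCommGroup N]
    [Module S N] (t : (S ⧸ I) ⊗[S] N) : ∃ x : N, t = (Ideal.Quotient.mk I 1) ⊗ₜ[S] x := by
  induction t using TensorProduct.induction_on with
  | zero => exact ⟨0, by simp⟩
  | tmul r x =>
    obtain ⟨r, rfl⟩ := Ideal.Quotient.mk_surjective r
    refine ⟨r • x, ?_⟩
    rw [TensorProduct.tmul_smul, TensorProduct.smul_tmul']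
    congr 1
    rw [Algebra.smul_def, map_one, mul_one]
    rfl
  | add a b ha hb =>
    obtain ⟨x, rfl⟩ := ha
    obtain ⟨y, rfl⟩ := hb
    exact ⟨x + y, by rw [TensorProduct.tmul_add]⟩

theorem range_d_eq {S : Type u} [CommRing S] (C : ChainComplex (ModuleCat.{u} S) ℕ) (a : ℕ)
    (ha : a = 1) : LinearMap.range (C.d a 0).hom = LinearMap.range (C.d 1 0).hom := by
  subst ha; rfl

theorem main {R S : Type u} [CommRing R] [CommRing S]
    [IsLocalRing R] [IsLocalRing S] [IsNoetherianRing R] [IsNoetherianRing S] [Algebra R S]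
    [IsLocalHom (algebraMap R S)] (C : ChainComplex (ModuleCat.{u} S) ℕ) (e : ℕ)
    (hzero : ∀ j, e < j → Limits.IsZero (C.X j)) (hfin : ∀ j, Module.Finite S (C.X j))
    (hflat : ∀ j, Module.Flat R ((ModuleCat.restrictScalars (algebraMap R S)).obj (C.X j)))
    (hex : ∀ j, 1 ≤ j → j ≤ e →
      (((MonoidalCategory.tensorLeft
          (ModuleCat.of S (S ⧸ (IsLocalRing.maximalIdeal R).map (algebraMap R S)))).mapHomologicalComplex
          (ComplexShape.down ℕ)).obj C).ExactAt j) :
    (∀ j, 1 ≤ j → j ≤ e → C.ExactAt j) ∧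
      Module.Flat R ((ModuleCat.restrictScalars (algebraMap R S)).obj (C.homology 0)) := by
  letI modR : ∀ j, Module R (C.X j) := fun j => Module.compHom _ (algebraMap R S)
  haveI : ∀ j, IsScalarTower R S (C.X j) := fun j =>
    IsScalarTower.of_algebraMap_smul (fun r x => rfl)
  haveI : ∀ j, Module.Finite S (C.X j) := hfin
  haveI : ∀ j, Module.Flat R (C.X j) := fun j => hflat j
  set I := (IsLocalRing.maximalIdeal R).map (algebraMap R S) with hI
  let d : ∀ j, C.X (j + 1) →ₗ[S] C.X j := fun j => (C.d (j + 1) j).hom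
  have hdd : ∀ j x, d j (d (j + 1) x) = 0 := by
    intro j x
    have := C.d_comp_d (j + 2) (j + 1) j
    exact congrArg (fun φ => φ.hom x) this
  have hzero' : ∀ j, e < j → Subsingleton (C.X j) := fun j hj =>
    ModuleCat.subsingleton_of_isZero (hzero j hj)
  have hex' : ∀ i, i + 1 ≤ e → ∀ x : C.X (i + 1),
      d i x ∈ (I • ⊤ : Submodule S (C.X i)) →
      ∃ y : C.X (i + 2), x - d (i + 1) y ∈ (I • ⊤ : Submodule S (C.X (i + 1))) := by
    intro i hi x hx
    have h1 := hex (i + 1) (by omega) hi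
    rw [HomologicalComplex.exactAt_iff' _ (i + 2) (i + 1) i (by simp) (by simp),
      ShortComplex.moduleCat_exact_iff] at h1
    have h2 := h1 ((Ideal.Quotient.mk I 1) ⊗ₜ[S] x) (by
      show (Ideal.Quotient.mk I 1) ⊗ₜ[S] (d i x) = 0
      exact (Groth.Agent.Helper2.InjModMax.one_tmul_eq_zero_iff I _ _).2 hx)
    obtain ⟨s, hs⟩ := h2
    obtain ⟨y, rfl⟩ := exists_one_tmul I s
    refine ⟨y, ?_⟩
    have h3 : (Ideal.Quotient.mk I 1) ⊗ₜ[S] (d (i + 1) y) = (Ideal.Quotient.mk I 1) ⊗ₜ[S] x := hs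
    rw [← Groth.Agent.Helper2.InjModMax.one_tmul_eq_zero_iff, TensorProduct.tmul_sub, h3, sub_self]
  obtain ⟨h1, h2⟩ := concrete (R := R) (S := S) (fun j => C.X j) d hdd e hzero' hex'
  constructor
  · intro j hj1 hje
    obtain ⟨i, rfl⟩ : ∃ i, j = i + 1 := ⟨j - 1, by omega⟩
    rw [HomologicalComplex.exactAt_iff' _ (i + 2) (i + 1) i (by simp) (by simp),
      ShortComplex.moduleCat_exact_iff]
    intro x hx
    exact h1 i hje x hx
  · let ε₁ : C.homology 0 ≅ C.opcycles 0 := C.isoHomologyι₀
    let ε₂ := (C.sc 0).moduleCatOpcyclesIso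
    let ε₃ : (C.X 0 ⧸ LinearMap.range (C.d ((ComplexShape.down ℕ).prev 0) 0).hom) ≃ₗ[S]
        (C.X 0 ⧸ LinearMap.range (C.d 1 0).hom) :=
      Submodule.quotEquivOfEq _ _ (range_d_eq C _ (by simp))
    let ε : (C.homology 0) ≃ₗ[S] (C.X 0 ⧸ LinearMap.range (C.d 1 0).hom) :=
      (ε₁ ≪≫ ε₂).toLinearEquiv.trans ε₃
    letI : Module R (C.homology 0) := Module.compHom _ (algebraMap R S)
    haveI : IsScalarTower R S (C.homology 0) := IsScalarTower.of_algebraMap_smul (fun r x => rfl)
    haveI : Module.Flat R (C.X 0 ⧸ LinearMap.range (C.d 1 0).hom) := h2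
    exact Module.Flat.of_linearEquiv (ε.restrictScalars R)

end wrap

end Groth.Agent.Helper3.CxFlat
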