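import Mathlib
import Groth.Prelude

set_option autoImplicit false
set_option linter.style.haveILetI false
set_option linter.unusedSectionVars false
set_option linter.unusedVariables false
set_option linter.deprecated false
set_option linter.style.haveILetI false
set_option linter.unusedSectionVars false
set_option linter.unusedVariables false

open CategoryTheory Limits AlgebraicGeometry TopologicalSpace Opposite
universe u

namespace Groth.Agent.Helper3.CycEnv

/-- a surjective ring homomorphism between fields has trivial transcendence degree and degree one -/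
theorem trdeg_finrank_of_surjective {k K : Type u} [Field k] [Field K] [Algebra k K]
    (h : Function.Surjective (algebraMap k K)) :
    Algebra.trdeg k K = 0 ∧ Module.finrank k K = 1 := by
  have hbij : Function.Bijective (algebraMap k K) := ⟨(algebraMap k K).injective, h⟩
  haveI : Algebra.IsAlgebraic k K := by
    refine ⟨fun x => ?_⟩
    obtain ⟨a, rfl⟩ := h x
    exact isAlgebraic_algebraMap a
  refine ⟨trdeg_eq_zero, ?_⟩
  let e : k ≃ₗ[k] K := LinearEquiv.ofBijective (Algebra.linearMap k K) hbij
  rw [← e.finrank_eq]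
  exact Module.finrank_self k

theorem main (X Y : Scheme.{u}) (δ : X → ℤ) (δY : Y → ℤ) (f : Y ⟶ X) [IsProper f]
    (hcd : Cyc.IsCompletelyDecomposed f) (hδ : Cyc.DeltaCompat f δY δ) (k : ℤ)
    (α : AlgebraicCycle X ℤ) (hα : α ∈ Cyc.Zk X δ k) :
    ∃ β : AlgebraicCycle Y ℤ, β ∈ Cyc.Zk Y δY k ∧ AlgebraicCycle.map f δY δ β = α := by
  classical
  choose σ hσ1 hσ2 using hcd
  have hσ : ∀ x : X, δY (σ x) = δ x ∧ f.residueDegree (σ x) = 1 := by
    intro x
    letI := (f.residueFieldMap (σ x)).hom.toAlgebra
    obtain ⟨h1, h2⟩ := trdeg_finrank_of_surjective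
      (k := X.residueField (f (σ x))) (K := Y.residueField (σ x)) (hσ2 x)
    obtain ⟨n, hn1, hn2⟩ := hδ (σ x)
    have hn0 : n = 0 := by
      have : (n : Cardinal.{u}) = 0 := hn1.symm.trans h1
      exact_mod_cast this
    refine ⟨?_, h2⟩
    rw [hn2, hn0, hσ1 x]
    simp
  let g : Y → ℤ := fun y => if σ (f y) = y then α (f y) else 0
  have hsupp : ∀ y, g y ≠ 0 → σ (f y) = y ∧ α (f y) ≠ 0 := by
    intro y hy
    by_cases h : σ (f y) = y
    · refine ⟨h, ?_⟩
      simpa [g, h] using hy
    · exact absurd (by simp [g, h]) hy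
  let β : AlgebraicCycle Y ℤ :=
    { toFun := g
      supportWithinDomain' := fun _ _ => Set.mem_univ _
      supportLocallyFiniteWithinDomain' := by
        intro z _
        obtain ⟨t, ht, hfin⟩ := α.supportLocallyFiniteWithinDomain' (f z) (Set.mem_univ _)
        refine ⟨f ⁻¹' t, f.continuous.continuousAt.preimage_mem_nhds ht, ?_⟩
        refine (hfin.image σ).subset ?_
        rintro y ⟨hy1, hy2⟩
        obtain ⟨h1, h2⟩ := hsupp y hy2
        exact ⟨f y, ⟨hy1, h2⟩, h1⟩ }
  have hβ : ∀ y, β y = g y := fun _ => rfl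
  refine ⟨β, ?_, ?_⟩
  · intro y hy
    by_contra hne
    obtain ⟨h1, h2⟩ := hsupp y hne
    apply h2
    apply hα
    rw [← (hσ (f y)).1, h1]
    exact hy
  · ext x
    change ∑ᶠ y ∈ f ⁻¹' {x}, β y * ((AlgebraicCycle.mapCoeff f δY δ y : ℕ) : ℤ) = α x
    rw [finsum_mem_def, finsum_eq_single _ (σ x)]
    · have hmem : σ x ∈ f ⁻¹' {x} := hσ1 x
      rw [Set.indicator_of_mem hmem, hβ]
      have hg : g (σ x) = α x := by
        simp only [g]
        rw [hσ1 x, if_pos rfl]
      have hc : AlgebraicCycle.mapCoeff f δY δ (σ x) = 1 := by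
        unfold AlgebraicCycle.mapCoeff
        rw [if_pos (by rw [(hσ x).1, hσ1 x]), (hσ x).2]
      rw [hg, hc]
      simp
    · intro y hy
      by_cases hyx : y ∈ f ⁻¹' {x}
      · rw [Set.indicator_of_mem hyx]
        have hfy : f y = x := hyx
        have : β y = 0 := by
          by_contra hne
          obtain ⟨h1, -⟩ := hsupp y hne
          apply hy
          rw [← h1, hfy]
        rw [this, zero_mul]
      · rw [Set.indicator_of_notMem hyx]

end Groth.Agent.Helper3.CycEnv
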