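import Mathlib
import Groth.Prelude
import Groth.Agent.Helper3.CycLimD
import Groth.Agent.Helper3.PullDivM
import Groth.Agent.Helper3.CycPBD

set_option autoImplicit false
set_option linter.style.haveILetI false
set_option linter.unusedSectionVars false
set_option linter.unusedVariables false
set_option linter.deprecated false
set_option linter.style.haveILetI false
set_option linter.unusedSectionVars false
set_option linter.unusedVariables false

namespace Groth.Agent.Helper3.CycLimE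

universe u

open AlgebraicGeometry CategoryTheory Limits IsLocalRing
  Groth.Agent.Helper3.PullDivI Groth.Agent.Helper3.CycLimC Groth.Agent.Helper3.CycLimD

theorem finite_index {X : Scheme.{u}} [CompactSpace X] {ι : Type u} (ξ : ι → X)
    (hlf : ∀ x : X, ∃ U : Set X, IsOpen U ∧ x ∈ U ∧ {i | (closure {ξ i} ∩ U).Nonempty}.Finite) :
    Finite ι := by
  choose U hUo hxU hUfin using hlf
  obtain ⟨t, ht⟩ := CompactSpace.elim_nhds_subcover U (fun x => (hUo x).mem_nhds (hxU x))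
  have hsub : (Set.univ : Set ι) ⊆ ⋃ x ∈ t, {l | (closure {ξ l} ∩ U x).Nonempty} := by
    intro l _
    have h1 : ξ l ∈ ⋃ x ∈ t, U x := by rw [ht]; trivial
    obtain ⟨x, hxt, hx⟩ := Set.mem_iUnion₂.1 h1
    exact Set.mem_iUnion₂.2 ⟨x, hxt, ξ l, subset_closure (Set.mem_singleton _), hx⟩
  exact Set.finite_univ_iff.mp ((t.finite_toSet.biUnion (fun x _ => hUfin x)).subset hsub)

theorem s6497 (I : Type u) [Preorder I] [IsDirected I (fun a b => a ≤ b)] [Nonempty I]
    (D : Iᵒᵖ ⥤ Scheme.{u}) (c : Limits.Cone D) (hc : Limits.IsLimit c)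
    (haff : ∀ (i j : Iᵒᵖ) (f : i ⟶ j), IsAffineHom (D.map f))
    (hflat : ∀ (i j : Iᵒᵖ) (f : i ⟶ j), Flat (D.map f))
    (hqc : ∀ i, CompactSpace ↥(D.obj i)) (δ : (i : Iᵒᵖ) → ↥(D.obj i) → ℤ) (δ' : ↥c.pt → ℤ)
    (hset : ∀ i, Cyc.IsSetup (D.obj i) (δ i)) (hset' : Cyc.IsSetup c.pt δ')
    (hshift : ∀ (i j : Iᵒᵖ) (f : i ⟶ j) (x : ↥(D.obj i)),
      (∀ y, D.map f y = D.map f x → y ⤳ x → y = x) → δ i x = δ j (D.map f x))
    (hflat' : ∀ i, Flat (c.π.app i))
    (hshift' : ∀ (i : Iᵒᵖ) (x : ↥c.pt),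
      (∀ y, c.π.app i y = c.π.app i x → y ⤳ x → y = x) → δ' x = δ i (c.π.app i x))
    (k : ℤ) (i : Iᵒᵖ) (α : AlgebraicCycle (D.obj i) ℤ) (α' : AlgebraicCycle c.pt ℤ)
    (hα' : ⇑α' = Cyc.pullFun (c.π.app i) δ' (δ i) 0 ⇑α) (h0 : Cyc.RatEquivZero δ' k α') :
    ∃ (j : Iᵒᵖ) (f : j ⟶ i) (αj : AlgebraicCycle (D.obj j) ℤ),
      ⇑αj = Cyc.pullFun (D.map f) (δ j) (δ i) 0 ⇑α ∧ Cyc.RatEquivZero (δ j) k αj := by
  classical
  haveI : ∀ {i j : Iᵒᵖ} (f : i ⟶ j), IsAffineHom (D.map f) := fun f => haff _ _ f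
  haveI : ∀ {i j : Iᵒᵖ} (f : i ⟶ j), Flat (D.map f) := fun f => hflat _ _ f
  haveI := hqc
  haveI : ∀ i, Flat (c.π.app i) := hflat'
  haveI : CompactSpace c.pt := Scheme.compactSpace_of_isLimit D c hc
  haveI : IsLocallyNoetherian c.pt := hset'.1
  haveI : ∀ i, IsLocallyNoetherian (D.obj i) := fun i => (hset i).1
  haveI : TopologicalSpace.NoetherianSpace c.pt := noetherianSpace_of
  obtain ⟨ι, ξ, f, hδξ, hf, hlf, hsum⟩ := h0
  haveI hιfin : Finite ι := finite_index ξ hlf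
  letI : Fintype ι := Fintype.ofFinite ι
  -- the stage
  obtain ⟨i1, hi1⟩ := exists_good_stage D c hc (Set.range ξ) (Set.finite_range ξ)
  choose J3 hJ3 using fun l => exists_residue_lift D c hc (ξ l) (f l)
  obtain ⟨j, hj⟩ := IsCofiltered.inf_objs_exists (insert i (insert i1 (Finset.univ.image J3)))
  obtain ⟨ψi⟩ := hj (Finset.mem_insert_self _ _)
  obtain ⟨ψ1⟩ := hj (Finset.mem_insert_of_mem (Finset.mem_insert_self _ _))
  have ψ3 : ∀ l, j ⟶ J3 l := fun l =>
    (hj (Finset.mem_insert_of_mem (Finset.mem_insert_of_mem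
      (Finset.mem_image_of_mem J3 (Finset.mem_univ l))))).some
  have hgood : ∀ l, Good D c j (ξ l) := fun l => hi1 j ψ1 (ξ l) ⟨l, rfl⟩
  choose φ hφ using fun l => hJ3 l j (ψ3 l)
  have hφ0 : ∀ l, φ l ≠ 0 := by
    intro l h
    apply hf l
    rw [← hφ l, h, map_zero]
  have Hp : Hyp (c.π.app j) δ' (δ j) 0 :=
    PullDivL.hyp_of_hc (X := D.obj j) (X' := c.pt) (c.π.app j) (hset j) hset'
      (fun x' hmax => by rw [hshift' j x' hmax, add_zero])
  have Hψi : Hyp (D.map ψi) (δ j) (δ i) 0 :=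
    PullDivL.hyp_of_hc (D.map ψi) (hset i) (hset j)
      (fun x' hmax => by rw [hshift j i ψi x' hmax, add_zero])
  -- the functions on the stage `j`
  let B : D.obj j → ℤ := fun y => ∑ᶠ l, Cyc.divFun (δ j) (c.π.app j (ξ l)) (φ l) y
  let A : D.obj j → ℤ := Cyc.pullFun (D.map ψi) (δ j) (δ i) 0 ⇑α
  have hBfin : (Function.support B).Finite := by
    refine (Set.finite_iUnion (fun l => finite_support_divFun (δ j) (hset j).2.2
      (c.π.app j (ξ l)) (φ l) (hφ0 l))).subset ?_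
    intro y hy
    rw [Function.mem_support] at hy
    by_contra hne
    apply hy
    apply finsum_eq_zero_of_forall_eq_zero
    intro l
    by_contra hl
    exact hne (Set.mem_iUnion.2 ⟨l, hl⟩)
  have hAfin : (Function.support A).Finite :=
    finite_support_pullFun (D.map ψi) Hψi ⇑α (finite_support_of_compact α)
  have hABfin : (Function.support (A - B)).Finite := by
    refine (hAfin.union hBfin).subset ?_
    intro y hy
    rw [Function.mem_support, Pi.sub_apply] at hy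
    by_contra hne
    rw [Set.mem_union, not_or, Function.mem_support, Function.mem_support, not_not, not_not] at hne
    apply hy
    rw [hne.1, hne.2, sub_zero]
  -- the pullback of `A - B` to the limit vanishes
  have hpull : Cyc.pullFun (c.π.app j) δ' (δ j) 0 ⇑(ofFinite (A - B) hABfin) = 0 := by
    rw [coe_ofFinite, PullDivM.pullFun_sub]
    have hA : Cyc.pullFun (c.π.app j) δ' (δ j) 0 A = ⇑α' := by
      rw [hα']
      have h1 := (CycPBD.main (D.map ψi) (c.π.app j) (δ i) (δ j) δ' (hset j).2.2 hset'.2.2 0 0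
        (fun x' hmax => by rw [hshift j i ψi x' hmax, add_zero])
        (fun x' hmax => by rw [hshift' j x' hmax, add_zero]) ⇑α).2
      rw [c.w ψi, zero_add] at h1
      exact h1.symm
    have hB : Cyc.pullFun (c.π.app j) δ' (δ j) 0 B = ⇑α' := by
      funext t
      rw [hsum t]
      have h1 : Cyc.pullFun (c.π.app j) δ' (δ j) 0 B t =
          ∑ᶠ l, Cyc.pullFun (c.π.app j) δ' (δ j) 0
            (Cyc.divFun (δ j) (c.π.app j (ξ l)) (φ l)) t := by
        unfold Cyc.pullFun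
        split_ifs with hx
        · rw [finsum_mul]
        · simp
      rw [h1]
      apply finsum_congr
      intro l
      rw [pull_div_good (X' := c.pt) (X := D.obj j) (c.π.app j) Hp (ξ l) (φ l) (hφ0 l)
        (hgood l).1 (hgood l).2, hφ l]
    rw [hA, hB, sub_self]
  -- descend the vanishing
  obtain ⟨j', ψ, hψ⟩ := CycLimA.s6496 D c hc haff hqc hflat δ δ' hset' hflat' hshift' j
    (ofFinite (A - B) hABfin) hpull
  rw [coe_ofFinite, PullDivM.pullFun_sub, sub_eq_zero] at hψ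
  have Hψ' : Hyp (D.map (ψ ≫ ψi)) (δ j') (δ i) 0 :=
    PullDivL.hyp_of_hc (D.map (ψ ≫ ψi)) (hset i) (hset j')
      (fun x' hmax => by rw [hshift j' i (ψ ≫ ψi) x' hmax, add_zero])
  refine ⟨j', ψ ≫ ψi, ofFinite (Cyc.pullFun (D.map (ψ ≫ ψi)) (δ j') (δ i) 0 ⇑α)
    (finite_support_pullFun _ Hψ' _ (finite_support_of_compact α)), rfl, ?_⟩
  have hαj : ⇑(ofFinite (Cyc.pullFun (D.map (ψ ≫ ψi)) (δ j') (δ i) 0 ⇑α)
      (finite_support_pullFun _ Hψ' _ (finite_support_of_compact α))) =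
      Cyc.pullFun (D.map ψ) (δ j') (δ j) 0 B := by
    rw [coe_ofFinite]
    have h1 := (CycPBD.main (D.map ψi) (D.map ψ) (δ i) (δ j) (δ j') (hset j).2.2 (hset j').2.2 0 0
      (fun x' hmax => by rw [hshift j i ψi x' hmax, add_zero])
      (fun x' hmax => by rw [hshift j' j ψ x' hmax, add_zero]) ⇑α).2
    rw [zero_add, ← D.map_comp] at h1
    rw [h1]
    exact hψ
  have hδj : ∀ l, δ j (c.π.app j (ξ l)) = k + 1 := by
    intro l
    have h1 := Hp.h2 (ξ l) (max_of_le_map (c.π.app j) (ξ l) (hgood l).2)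
    rw [add_zero] at h1
    rw [← h1, hδξ l]
  have hres := main_fun (D.obj j) (D.obj j') (δ j) (δ j') (hset j) (hset j') (D.map ψ) 0
    (fun x' hmax => by rw [hshift j' j ψ x' hmax, add_zero]) k B
    (fun l => c.π.app j (ξ l)) φ hδj hφ0
    (fun x => ⟨Set.univ, isOpen_univ, trivial, Set.toFinite _⟩) (fun y => rfl) _ hαj
  rwa [add_zero] at hres

end Groth.Agent.Helper3.CycLimE
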