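import Mathlib
import Groth.Prelude
import Groth.Agent.Helper3.CycPBE
import Groth.Agent.S9357

set_option autoImplicit false
set_option linter.style.haveILetI false
set_option linter.unusedSectionVars false
set_option linter.unusedVariables false
set_option linter.deprecated false
set_option linter.style.haveILetI false
set_option linter.unusedSectionVars false
set_option linter.unusedVariables false

open CategoryTheory Limits AlgebraicGeometry TopologicalSpace Opposite TensorProduct
universe u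

namespace Groth.Agent.Helper3.CycPBF
open Groth.Agent.Helper3.CycPBA

theorem main (X Y Z : Scheme.{u}) (δX : X → ℤ) (δY : Y → ℤ) (δZ : Z → ℤ) (hX : Cyc.IsSetup X δX)
    (hY : Cyc.IsSetup Y δY) (f : X ⟶ Y) (g : Y ⟶ Z) [Flat f] [LocallyOfFiniteType f] [Flat g]
    [LocallyOfFiniteType g] (r s : ℕ) (hr : Cyc.HasRelDim f r) (hs : Cyc.HasRelDim g s)
    (hf : Cyc.DeltaCompat f δX δY) (hg : Cyc.DeltaCompat g δY δZ) :
    Cyc.HasRelDim (f ≫ g) (r + s) ∧ ∀ α : Z → ℤ,
      Cyc.pullFun f δX δY r (Cyc.pullFun g δY δZ s α) =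
        Cyc.pullFun (f ≫ g) δX δZ ((r : ℤ) + s) α := by
  refine ⟨(Groth.Agent.S9357.result f g r s).2 hr hs inferInstance, fun α => ?_⟩
  have h := (Groth.Agent.Helper3.CycPBD.main g f δZ δY δX hY.2.2 hX.2.2 (s : ℤ) (r : ℤ)
    (fun x hx => Groth.Agent.Helper3.CycPBC.shift_of_hasRelDim g s hs δY δZ hg x hx)
    (fun x hx => Groth.Agent.Helper3.CycPBC.shift_of_hasRelDim f r hr δX δY hf x hx) α).2
  rw [add_comm (r : ℤ) (s : ℤ)]
  exact h.symm

end Groth.Agent.Helper3.CycPBF
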