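import Mathlib

/-! Factorization of a morphism of cochain complexes as a termwise split injection followed by
a homotopy equivalence with a section (and dually). -/

set_option autoImplicit false
universe v u

open CategoryTheory CategoryTheory.Limits CochainComplex HomologicalComplex

namespace Groth.Agent.Helper3.CylFact

variable {V : Type u} [Category.{v} V] [Preadditive V] [HasBinaryBiproducts V]

/-- recognition of biproducts -/
lemma exists_iso_biprod {A C B : V} (iA : A ⟶ B) (pA : B ⟶ A) (iC : C ⟶ B) (pC : B ⟶ C)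
    (h1 : iA ≫ pA = 𝟙 A) (h2 : iC ≫ pC = 𝟙 C) (h3 : iA ≫ pC = 0) (h4 : iC ≫ pA = 0)
    (h5 : pA ≫ iA + pC ≫ iC = 𝟙 B) :
    ∃ e : B ≅ A ⊞ C, e.hom = biprod.lift pA pC ∧ e.inv = biprod.desc iA iC := by
  refine ⟨⟨biprod.lift pA pC, biprod.desc iA iC, ?_, ?_⟩, rfl, rfl⟩
  · rw [biprod.lift_desc, h5]
  · apply biprod.hom_ext' <;> apply biprod.hom_ext <;> simp [h1, h2, h3, h4]

variable (K L : CochainComplex V ℤ) (α : K ⟶ L)

/-- the middle object -/
noncomputable abbrev L' : CochainComplex V ℤ := mappingCone (𝟙 K) ⊞ L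

/-- the termwise split injection -/
noncomputable def α' : K ⟶ L' K L := biprod.lift (mappingCone.inr (𝟙 K)) α

/-- the homotopy equivalence -/
noncomputable abbrev π : L' K L ⟶ L := biprod.snd

/-- its section -/
noncomputable abbrev s : L ⟶ L' K L := biprod.inr

lemma fac : α' K L α ≫ π K L = α := by simp [α']

lemma s_π : s K L ≫ π K L = 𝟙 L := by simp

/-- the homotopy -/
noncomputable def homotopy : Homotopy (π K L ≫ s K L) (𝟙 (L' K L)) :=
  let h₀ : Homotopy (𝟙 (mappingCone (𝟙 K))) 0 := mappingCone.homotopyToZeroOfId K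
  let h₁ := (h₀.compRight
    (biprod.inl : _ ⟶ mappingCone (𝟙 K) ⊞ L)).compLeft
      (biprod.fst : mappingCone (𝟙 K) ⊞ L ⟶ _)
  let h₂ := Homotopy.add h₁ (Homotopy.refl (biprod.snd ≫ biprod.inr))
  (Homotopy.ofEq (by simp)).trans (h₂.symm.trans (Homotopy.ofEq (by simp)))


lemma α'_f (n : ℤ) : (α' K L α).f n =
    (mappingCone.inr (𝟙 K)).f n ≫ (biprod.inl : mappingCone (𝟙 K) ⟶ L' K L).f n +
      α.f n ≫ (biprod.inr : L ⟶ L' K L).f n := by
  rw [← comp_f, ← comp_f, ← add_f_apply, α', biprod.lift_eq]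

theorem termwise_split (n : ℤ) :
    ∃ (C : V) (e : (L' K L).X n ≅ K.X n ⊞ C), (α' K L α).f n ≫ e.hom = biprod.inl := by
  let fstL : (L' K L).X n ⟶ (mappingCone (𝟙 K)).X n :=
    (biprod.fst : L' K L ⟶ mappingCone (𝟙 K)).f n
  let sndL : (L' K L).X n ⟶ L.X n := (biprod.snd : L' K L ⟶ L).f n
  let inlL : (mappingCone (𝟙 K)).X n ⟶ (L' K L).X n :=
    (biprod.inl : mappingCone (𝟙 K) ⟶ L' K L).f n
  let inrL : L.X n ⟶ (L' K L).X n := (biprod.inr : L ⟶ L' K L).f n
  have e1 : inlL ≫ fstL = 𝟙 _ := by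
    simp only [inlL, fstL, ← comp_f, biprod.inl_fst, id_f]
  have e2 : inlL ≫ sndL = 0 := by
    simp only [inlL, sndL, ← comp_f, biprod.inl_snd, zero_f]
  have e3 : inrL ≫ fstL = 0 := by
    simp only [inrL, fstL, ← comp_f, biprod.inr_fst, zero_f]
  have e4 : inrL ≫ sndL = 𝟙 _ := by
    simp only [inrL, sndL, ← comp_f, biprod.inr_snd, id_f]
  have e5 : fstL ≫ inlL + sndL ≫ inrL = 𝟙 _ := by
    simp only [inlL, fstL, inrL, sndL, ← comp_f, ← add_f_apply, biprod.total, id_f]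
  let fstv : (mappingCone (𝟙 K)).X n ⟶ K.X (n + 1) := (mappingCone.fst (𝟙 K)).1.v n (n + 1) rfl
  let sndv : (mappingCone (𝟙 K)).X n ⟶ K.X n := (mappingCone.snd (𝟙 K)).v n n (add_zero n)
  let inlv : K.X (n + 1) ⟶ (mappingCone (𝟙 K)).X n :=
    (mappingCone.inl (𝟙 K)).v (n + 1) n (by omega)
  let inrf : K.X n ⟶ (mappingCone (𝟙 K)).X n := (mappingCone.inr (𝟙 K)).f n
  have c1 : inlv ≫ fstv = 𝟙 _ := mappingCone.inl_v_fst_v _ _ _ rfl
  have c2 : inlv ≫ sndv = 0 := mappingCone.inl_v_snd_v _ _ _ _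
  have c3 : inrf ≫ fstv = 0 := mappingCone.inr_f_fst_v _ _ _ rfl
  have c4 : inrf ≫ sndv = 𝟙 _ := mappingCone.inr_f_snd_v _ _
  have c5 : fstv ≫ inlv + sndv ≫ inrf = 𝟙 _ := mappingCone.id_X _ _ _ rfl
  have hi : (α' K L α).f n = inrf ≫ inlL + α.f n ≫ inrL := α'_f K L α n
  let ρ : (L' K L).X n ⟶ K.X n := fstL ≫ sndv
  let q : (L' K L).X n ⟶ K.X (n + 1) ⊞ L.X n :=
    biprod.lift (fstL ≫ fstv) (sndL - ρ ≫ α.f n)
  let j : K.X (n + 1) ⊞ L.X n ⟶ (L' K L).X n := biprod.desc (inlv ≫ inlL) inrL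
  have h1 : (α' K L α).f n ≫ ρ = 𝟙 _ := by
    simp only [hi, ρ, Preadditive.add_comp, Category.assoc, reassoc_of% e1, reassoc_of% e3,
      c4, Limits.zero_comp, Limits.comp_zero, add_zero]
  have h3 : (α' K L α).f n ≫ q = 0 := by
    apply biprod.hom_ext
    · simp only [q, biprod.lift_fst, Category.assoc, Limits.zero_comp, hi,
        Preadditive.add_comp, reassoc_of% e1, reassoc_of% e3, c3, Limits.comp_zero, add_zero]
    · simp only [q, biprod.lift_snd, Category.assoc, Limits.zero_comp, Preadditive.comp_sub,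
        reassoc_of% h1]
      simp only [hi, Preadditive.add_comp, Category.assoc, e2, e4, Limits.comp_zero,
        Category.comp_id, zero_add, sub_self]
  have h2 : j ≫ q = 𝟙 _ := by
    apply biprod.hom_ext' <;> apply biprod.hom_ext
    · simp only [j, q, ρ, biprod.inl_desc_assoc, Category.assoc, biprod.lift_fst,
        reassoc_of% e1, c1, Category.comp_id, biprod.inl_fst]
    · simp only [j, q, ρ, biprod.inl_desc_assoc, Category.assoc, biprod.lift_snd,
        Preadditive.comp_sub, e2, Limits.comp_zero, reassoc_of% e1, reassoc_of% c2,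
        Limits.zero_comp, sub_self, Category.comp_id, biprod.inl_snd]
    · simp only [j, q, ρ, biprod.inr_desc_assoc, Category.assoc, biprod.lift_fst,
        reassoc_of% e3, Limits.zero_comp, Category.comp_id, biprod.inr_fst]
    · simp only [j, q, ρ, biprod.inr_desc_assoc, Category.assoc, biprod.lift_snd,
        Preadditive.comp_sub, e4, reassoc_of% e3, Limits.zero_comp, sub_zero, Category.comp_id,
        biprod.inr_snd]
  have h4 : j ≫ ρ = 0 := by
    apply biprod.hom_ext'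
    · simp only [j, ρ, biprod.inl_desc_assoc, Category.assoc, reassoc_of% e1, c2,
        Limits.comp_zero]
    · simp only [j, ρ, biprod.inr_desc_assoc, reassoc_of% e3, Limits.zero_comp,
        Limits.comp_zero]
  have h5 : ρ ≫ (α' K L α).f n + q ≫ j = 𝟙 _ := by
    have hq : q ≫ j = fstL ≫ fstv ≫ inlv ≫ inlL + (sndL - ρ ≫ α.f n) ≫ inrL := by
      simp only [q, j, biprod.lift_desc, Category.assoc]
    rw [hq, hi]
    have : fstL ≫ inlL = fstL ≫ (fstv ≫ inlv + sndv ≫ inrf) ≫ inlL := by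
      rw [c5, Category.id_comp]
    rw [← e5, this]
    simp only [ρ, Preadditive.comp_add, Preadditive.add_comp, Preadditive.sub_comp,
      Category.assoc]
    abel
  obtain ⟨e, he, -⟩ := exists_iso_biprod ((α' K L α).f n) ρ j q h1 h2 h3 h4 h5
  refine ⟨_, e, ?_⟩
  rw [he]
  apply biprod.hom_ext
  · simp only [Category.assoc, biprod.lift_fst, h1, biprod.inl_fst]
  · simp only [Category.assoc, biprod.lift_snd, h3, biprod.inl_snd]


lemma isZero_L'_X (i : ℤ) (h1 : IsZero (K.X (i + 1))) (h2 : IsZero (K.X i)) (h3 : IsZero (L.X i)) :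
    IsZero ((L' K L).X i) := by
  refine IsZero.of_iso ?_ ((HomologicalComplex.eval V (ComplexShape.up ℤ) i).mapBiprod _ _)
  simp only [HomologicalComplex.eval_obj, biprod_isZero_iff, mappingCone.isZero_X_iff]
  exact ⟨⟨h1, h2⟩, h3⟩

lemma isStrictlyGE_L' (a : ℤ) [K.IsStrictlyGE a] [L.IsStrictlyGE a] :
    (L' K L).IsStrictlyGE (a - 1) := by
  rw [isStrictlyGE_iff]
  intro i hi
  exact isZero_L'_X K L i (K.isZero_of_isStrictlyGE a _ (by omega))
    (K.isZero_of_isStrictlyGE a _ (by omega)) (L.isZero_of_isStrictlyGE a _ (by omega))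

lemma isStrictlyLE_L' (a : ℤ) [K.IsStrictlyLE a] [L.IsStrictlyLE a] :
    (L' K L).IsStrictlyLE a := by
  rw [isStrictlyLE_iff]
  intro i hi
  exact isZero_L'_X K L i (K.isZero_of_isStrictlyLE a _ (by omega))
    (K.isZero_of_isStrictlyLE a _ (by omega)) (L.isZero_of_isStrictlyLE a _ (by omega))


/-- `π` is a homotopy equivalence -/
noncomputable def homotopyEquiv : HomotopyEquiv (L' K L) L where
  hom := π K L
  inv := s K L
  homotopyHomInvId := homotopy K L
  homotopyInvHomId := Homotopy.ofEq (s_π K L)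

section Sequence

variable (X : ℕ → CochainComplex V ℤ) (a : ∀ i, X i ⟶ X (i + 1))

/-- the recursive state -/
noncomputable def state : ∀ i : ℕ, Σ B : CochainComplex V ℤ, HomotopyEquiv B (X i)
  | 0 => ⟨X 0, HomotopyEquiv.refl _⟩
  | (i + 1) => ⟨L' (state i).1 (X (i + 1)), homotopyEquiv (state i).1 (X (i + 1))⟩

/-- the replaced complexes -/
noncomputable def B (i : ℕ) : CochainComplex V ℤ := (state X i).1

/-- the homotopy equivalences -/
noncomputable def e (i : ℕ) : HomotopyEquiv (B X i) (X i) := (state X i).2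

/-- the transition maps -/
noncomputable def b (i : ℕ) : B X i ⟶ B X (i + 1) :=
  α' (B X i) (X (i + 1)) ((e X i).hom ≫ a i)

lemma b_comp (i : ℕ) : b X a i ≫ (e X (i + 1)).hom = (e X i).hom ≫ a i :=
  fac (B X i) (X (i + 1)) ((e X i).hom ≫ a i)

lemma b_split (i : ℕ) (n : ℤ) :
    ∃ (C : V) (ε : (B X (i + 1)).X n ≅ (B X i).X n ⊞ C), (b X a i).f n ≫ ε.hom = biprod.inl :=
  termwise_split (B X i) (X (i + 1)) ((e X i).hom ≫ a i) n

lemma B_ge (h : ∀ i, ∃ m : ℤ, (X i).IsStrictlyGE m) : ∀ i, ∃ m : ℤ, (B X i).IsStrictlyGE m := by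
  intro i
  induction i with
  | zero => exact h 0
  | succ i ih =>
    obtain ⟨m1, hm1⟩ := ih
    obtain ⟨m2, hm2⟩ := h (i + 1)
    have h1 : (B X i).IsStrictlyGE (min m1 m2) :=
      (B X i).isStrictlyGE_of_ge (min m1 m2) m1 (min_le_left _ _)
    have h2 : (X (i + 1)).IsStrictlyGE (min m1 m2) :=
      (X (i + 1)).isStrictlyGE_of_ge (min m1 m2) m2 (min_le_right _ _)
    exact ⟨min m1 m2 - 1, isStrictlyGE_L' (B X i) (X (i + 1)) (min m1 m2)⟩

lemma B_le (h : ∀ i, ∃ m : ℤ, (X i).IsStrictlyLE m) : ∀ i, ∃ m : ℤ, (B X i).IsStrictlyLE m := by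
  intro i
  induction i with
  | zero => exact h 0
  | succ i ih =>
    obtain ⟨m1, hm1⟩ := ih
    obtain ⟨m2, hm2⟩ := h (i + 1)
    have h1 : (B X i).IsStrictlyLE (max m1 m2) :=
      (B X i).isStrictlyLE_of_le m1 (max m1 m2) (le_max_left _ _)
    have h2 : (X (i + 1)).IsStrictlyLE (max m1 m2) :=
      (X (i + 1)).isStrictlyLE_of_le m2 (max m1 m2) (le_max_right _ _)
    exact ⟨max m1 m2, isStrictlyLE_L' (B X i) (X (i + 1)) (max m1 m2)⟩

end Sequence

end Groth.Agent.Helper3.CylFact
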