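import Mathlib
import Groth.Agent.Helper3.CylFact

/-! Dual factorization: a morphism of cochain complexes as a homotopy equivalence with a retraction
followed by a termwise split surjection. -/

set_option autoImplicit false
universe v u

open CategoryTheory CategoryTheory.Limits CochainComplex HomologicalComplex

namespace Groth.Agent.Helper3.CylFactDual

open Groth.Agent.Helper3.CylFact

variable {V : Type u} [Category.{v} V] [Preadditive V] [HasBinaryBiproducts V]

variable (K L : CochainComplex V ℤ) (α : K ⟶ L)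

/-- the contractible complex `cone(id_L)[-1]` -/
noncomputable abbrev D : CochainComplex V ℤ := (mappingCone (𝟙 L))⟦(-1 : ℤ)⟧

/-- the termwise split surjection `D ⟶ L`. -/
noncomputable def p : D L ⟶ L where
  f n := (mappingCone.fst (𝟙 L)).1.v (n + -1) n (by omega)
  comm' i j hij := by
    obtain rfl : j = i + 1 := hij.symm
    have h1 : (D L).d i (i + 1) =
        (-1 : ℤ).negOnePow • (mappingCone (𝟙 L)).d (i + -1) (i + 1 + -1) := rfl
    have key : ∀ (m : ℤ) (hm : m = i) (h' : m + 1 = i + 1),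
        (mappingCone (𝟙 L)).d (i + -1) m ≫ (mappingCone.fst (𝟙 L)).1.v m (i + 1) h' =
          (mappingCone (𝟙 L)).d (i + -1) i ≫ (mappingCone.fst (𝟙 L)).1.v i (i + 1) rfl := by
      rintro m rfl h'
      rfl
    have h2 := mappingCone.d_fst_v (𝟙 L) (i + -1) i (i + 1) (by omega) rfl
    have h3 := key (i + 1 + -1) (by omega) (by omega)
    have e1 : (mappingCone.fst (𝟙 L)).1.v (i + -1) i (by omega) ≫ L.d i (i + 1)
        = - ((mappingCone (𝟙 L)).d (i + -1) i ≫ (mappingCone.fst (𝟙 L)).1.v i (i + 1) rfl) := by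
      rw [h2, neg_neg]
    have e2 : (D L).d i (i + 1) ≫ (mappingCone.fst (𝟙 L)).1.v (i + 1 + -1) (i + 1) (by omega) =
        - ((mappingCone (𝟙 L)).d (i + -1) (i + 1 + -1) ≫
            (mappingCone.fst (𝟙 L)).1.v (i + 1 + -1) (i + 1) (by omega)) := by
      rw [h1]
      simp only [Int.negOnePow_neg, Int.negOnePow_one, Units.neg_smul, one_smul]
      exact Preadditive.neg_comp _ _
    exact e1.trans ((congrArg Neg.neg h3.symm).trans e2.symm)


lemma p_f (n : ℤ) : (p L).f n = (mappingCone.fst (𝟙 L)).1.v (n + -1) n (by omega) := rfl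

/-- the middle object -/
noncomputable abbrev K' : CochainComplex V ℤ := K ⊞ D L

/-- the homotopy equivalence -/
noncomputable abbrev ι : K ⟶ K' K L := biprod.inl

/-- the termwise split surjection -/
noncomputable def α' : K' K L ⟶ L := biprod.desc α (p L)

/-- the retraction -/
noncomputable abbrev r : K' K L ⟶ K := biprod.fst

lemma fac : ι K L ≫ α' K L α = α := by simp [α']

lemma ι_r : ι K L ≫ r K L = 𝟙 K := by simp

/-- the homotopy -/
noncomputable def homotopy : Homotopy (r K L ≫ ι K L) (𝟙 (K' K L)) :=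
  let h₀ : Homotopy (𝟙 (D L)) 0 :=
    (Homotopy.ofEq (by simp)).trans
      (((mappingCone.homotopyToZeroOfId L).shift (-1 : ℤ)).trans (Homotopy.ofEq (by simp)))
  let h₁ := (h₀.compRight
    (biprod.inr : _ ⟶ K ⊞ D L)).compLeft
      (biprod.snd : K ⊞ D L ⟶ _)
  let h₂ := Homotopy.add (Homotopy.refl (biprod.fst ≫ biprod.inl)) h₁
  (Homotopy.ofEq (by simp)).trans (h₂.symm.trans (Homotopy.ofEq (by simp)))

lemma α'_f (n : ℤ) : (α' K L α).f n =
    (biprod.fst : K' K L ⟶ K).f n ≫ α.f n + (biprod.snd : K' K L ⟶ D L).f n ≫ (p L).f n := by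
  rw [← comp_f, ← comp_f, ← add_f_apply, α', biprod.desc_eq]


theorem termwise_split (n : ℤ) :
    ∃ (C : V) (e : (K' K L).X n ≅ C ⊞ L.X n), e.inv ≫ (α' K L α).f n = biprod.snd := by
  let fstK : (K' K L).X n ⟶ K.X n := (biprod.fst : K' K L ⟶ K).f n
  let sndK : (K' K L).X n ⟶ (mappingCone (𝟙 L)).X (n + -1) := (biprod.snd : K' K L ⟶ D L).f n
  let inlK : K.X n ⟶ (K' K L).X n := (biprod.inl : K ⟶ K' K L).f n
  let inrK : (mappingCone (𝟙 L)).X (n + -1) ⟶ (K' K L).X n := (biprod.inr : D L ⟶ K' K L).f n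
  have e1 : inlK ≫ fstK = 𝟙 _ := by
    simp only [inlK, fstK, ← comp_f, biprod.inl_fst, id_f]
  have e2 : inlK ≫ sndK = 0 := by
    have : (biprod.inl : K ⟶ K' K L).f n ≫ (biprod.snd : K' K L ⟶ D L).f n = 0 := by
      simp only [← comp_f, biprod.inl_snd, zero_f]
    exact this
  have e3 : inrK ≫ fstK = 0 := by
    have : (biprod.inr : D L ⟶ K' K L).f n ≫ (biprod.fst : K' K L ⟶ K).f n = 0 := by
      simp only [← comp_f, biprod.inr_fst, zero_f]
    exact this
  have e4 : inrK ≫ sndK = 𝟙 _ := by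
    have : (biprod.inr : D L ⟶ K' K L).f n ≫ (biprod.snd : K' K L ⟶ D L).f n = 𝟙 ((D L).X n) := by
      simp only [← comp_f, biprod.inr_snd, id_f]
    exact this
  have e5 : fstK ≫ inlK + sndK ≫ inrK = 𝟙 _ := by
    have : (biprod.fst : K' K L ⟶ K).f n ≫ (biprod.inl : K ⟶ K' K L).f n +
        (biprod.snd : K' K L ⟶ D L).f n ≫ (biprod.inr : D L ⟶ K' K L).f n = 𝟙 _ := by
      simp only [← comp_f, ← add_f_apply, biprod.total, id_f]
    exact this
  let fstv : (mappingCone (𝟙 L)).X (n + -1) ⟶ L.X n :=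
    (mappingCone.fst (𝟙 L)).1.v (n + -1) n (by omega)
  let sndv : (mappingCone (𝟙 L)).X (n + -1) ⟶ L.X (n + -1) :=
    (mappingCone.snd (𝟙 L)).v (n + -1) (n + -1) (add_zero _)
  let inlv : L.X n ⟶ (mappingCone (𝟙 L)).X (n + -1) :=
    (mappingCone.inl (𝟙 L)).v n (n + -1) rfl
  let inrf : L.X (n + -1) ⟶ (mappingCone (𝟙 L)).X (n + -1) := (mappingCone.inr (𝟙 L)).f (n + -1)
  have c1 : inlv ≫ fstv = 𝟙 _ := mappingCone.inl_v_fst_v _ _ _ (by omega)
  have c2 : inlv ≫ sndv = 0 := mappingCone.inl_v_snd_v _ _ _ _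
  have c3 : inrf ≫ fstv = 0 := mappingCone.inr_f_fst_v _ _ _ (by omega)
  have c4 : inrf ≫ sndv = 𝟙 _ := mappingCone.inr_f_snd_v _ _
  have c5 : fstv ≫ inlv + sndv ≫ inrf = 𝟙 _ := mappingCone.id_X _ _ _ (by omega)
  have hα : (α' K L α).f n = fstK ≫ α.f n + sndK ≫ fstv := α'_f K L α n
  let j : L.X n ⟶ (K' K L).X n := inlv ≫ inrK
  let iC : K.X n ⊞ L.X (n + -1) ⟶ (K' K L).X n := biprod.desc (inlK - α.f n ≫ j) (inrf ≫ inrK)
  let pC : (K' K L).X n ⟶ K.X n ⊞ L.X (n + -1) := biprod.lift fstK (sndK ≫ sndv)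
  have h2 : j ≫ (α' K L α).f n = 𝟙 _ := by
    simp only [hα, j, Preadditive.comp_add, Category.assoc, reassoc_of% e3, reassoc_of% e4,
      c1, Limits.zero_comp, Limits.comp_zero, zero_add]
  have h3 : iC ≫ (α' K L α).f n = 0 := by
    apply biprod.hom_ext'
    · simp only [iC, biprod.inl_desc_assoc, Preadditive.sub_comp, Category.assoc, h2,
        Category.comp_id, Limits.comp_zero]
      simp only [hα, Preadditive.comp_add, reassoc_of% e1, reassoc_of% e2, Limits.zero_comp,
        add_zero, sub_self]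
    · simp only [iC, biprod.inr_desc_assoc, Category.assoc, Limits.comp_zero, hα,
        Preadditive.comp_add, reassoc_of% e3, reassoc_of% e4, c3, Limits.zero_comp, add_zero]
  have h4 : j ≫ pC = 0 := by
    apply biprod.hom_ext
    · simp only [j, pC, Category.assoc, biprod.lift_fst, e3, Limits.comp_zero, Limits.zero_comp]
    · simp only [j, pC, Category.assoc, biprod.lift_snd, reassoc_of% e4, c2, Limits.zero_comp]
  have h1 : iC ≫ pC = 𝟙 _ := by
    apply biprod.hom_ext' <;> apply biprod.hom_ext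
    · simp only [iC, pC, j, biprod.inl_desc_assoc, Category.assoc, biprod.lift_fst,
        Preadditive.sub_comp, e1, e3, Limits.comp_zero, sub_zero, Category.comp_id,
        biprod.inl_fst]
    · simp only [iC, pC, j, biprod.inl_desc_assoc, Category.assoc, biprod.lift_snd,
        Preadditive.sub_comp, reassoc_of% e2, reassoc_of% e4, c2, Limits.zero_comp,
        Limits.comp_zero, sub_zero, Category.comp_id, biprod.inl_snd]
    · simp only [iC, pC, biprod.inr_desc_assoc, Category.assoc, biprod.lift_fst, e3,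
        Limits.comp_zero, Category.comp_id, biprod.inr_fst]
    · simp only [iC, pC, biprod.inr_desc_assoc, Category.assoc, biprod.lift_snd,
        reassoc_of% e4, c4, Category.comp_id, biprod.inr_snd]
  have h5 : pC ≫ iC + (α' K L α).f n ≫ j = 𝟙 _ := by
    have hq : pC ≫ iC = fstK ≫ (inlK - α.f n ≫ j) + (sndK ≫ sndv) ≫ inrf ≫ inrK := by
      simp only [pC, iC, biprod.lift_desc]
    rw [hq, hα]
    have : sndK ≫ inrK = sndK ≫ (fstv ≫ inlv + sndv ≫ inrf) ≫ inrK := by
      rw [c5, Category.id_comp]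
    rw [← e5, this]
    simp only [j, Preadditive.comp_add, Preadditive.add_comp, Preadditive.comp_sub,
      Category.assoc]
    abel
  obtain ⟨e, -, he⟩ := exists_iso_biprod iC pC j ((α' K L α).f n) h1 h2 h3 h4 h5
  refine ⟨_, e, ?_⟩
  rw [he]
  apply biprod.hom_ext'
  · simp only [biprod.inl_desc_assoc, h3, biprod.inl_snd]
  · simp only [biprod.inr_desc_assoc, h2, biprod.inr_snd]

lemma isZero_K'_X (i : ℤ) (h1 : IsZero (L.X (i + -1 + 1))) (h2 : IsZero (L.X (i + -1)))
    (h3 : IsZero (K.X i)) : IsZero ((K' K L).X i) := by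
  refine IsZero.of_iso ?_ ((HomologicalComplex.eval V (ComplexShape.up ℤ) i).mapBiprod _ _)
  simp only [HomologicalComplex.eval_obj, biprod_isZero_iff]
  refine ⟨h3, ?_⟩
  change IsZero ((mappingCone (𝟙 L)).X (i + -1))
  rw [mappingCone.isZero_X_iff]
  exact ⟨h1, h2⟩

lemma isStrictlyGE_K' (a : ℤ) [K.IsStrictlyGE a] [L.IsStrictlyGE a] :
    (K' K L).IsStrictlyGE a := by
  rw [isStrictlyGE_iff]
  intro i hi
  exact isZero_K'_X K L i (L.isZero_of_isStrictlyGE a _ (by omega))
    (L.isZero_of_isStrictlyGE a _ (by omega)) (K.isZero_of_isStrictlyGE a _ (by omega))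

lemma isStrictlyLE_K' (a : ℤ) [K.IsStrictlyLE a] [L.IsStrictlyLE a] :
    (K' K L).IsStrictlyLE (a + 1) := by
  rw [isStrictlyLE_iff]
  intro i hi
  exact isZero_K'_X K L i (L.isZero_of_isStrictlyLE a _ (by omega))
    (L.isZero_of_isStrictlyLE a _ (by omega)) (K.isZero_of_isStrictlyLE a _ (by omega))

end Groth.Agent.Helper3.CylFactDual
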