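import Mathlib

/-! A long-exact-sequence lemma in a pretriangulated category: for a distinguished triangle
`F₁ → F₂ → X → F₁⟦1⟧` and an object `L`, all `Hom(X, L⟦n⟧)` vanish iff precomposition with
`F₁ → F₂` is bijective on all `Hom(-, L⟦n⟧)`. -/

set_option autoImplicit false
universe v u
open CategoryTheory CategoryTheory.Limits

namespace Groth.Agent.Helper3.TriLES

open Pretriangulated

variable {C : Type u} [Category.{v} C] [HasZeroObject C] [HasShift C ℤ] [Preadditive C]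
  [∀ n : ℤ, (shiftFunctor C n).Additive] [Pretriangulated C]

omit [HasZeroObject C] [∀ n : ℤ, (shiftFunctor C n).Additive] [Pretriangulated C] in
/-- Hom-vanishing into all shifts is stable under shifting the target. -/
lemma hom_shift_eq_zero {X L : C} (h : ∀ n : ℤ, ∀ f : X ⟶ L⟦n⟧, f = 0) (n m k : ℤ) (hk : n + m = k)
    (f : X ⟶ (L⟦n⟧)⟦m⟧) : f = 0 := by
  have := h k (f ≫ ((shiftFunctorAdd' C n m k hk).app L).inv)
  rw [← cancel_mono ((shiftFunctorAdd' C n m k hk).app L).inv, this, zero_comp]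

lemma bijective_of_hom_eq_zero (T : Triangle C) (hT : T ∈ distTriang C) (L : C)
    (h : ∀ n : ℤ, ∀ f : T.obj₃ ⟶ L⟦n⟧, f = 0) (n : ℤ) :
    Function.Bijective (fun g : T.obj₂ ⟶ L⟦n⟧ => T.mor₁ ≫ g) := by
  constructor
  · intro g₁ g₂ hg
    have h0 : T.mor₁ ≫ (g₁ - g₂) = 0 := by
      rw [Preadditive.comp_sub]; exact sub_eq_zero.mpr hg
    obtain ⟨k, hk⟩ := Triangle.yoneda_exact₂ T hT (g₁ - g₂) h0
    rw [h n k, comp_zero] at hk
    exact sub_eq_zero.mp hk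
  · intro k
    -- use the rotated triangle and exactness at `obj₁⟦1⟧`
    have hz : T.mor₃ ≫ k⟦(1 : ℤ)⟧' = 0 := hom_shift_eq_zero h n 1 (n + 1) rfl _
    obtain ⟨(g : (T.obj₂)⟦(1 : ℤ)⟧ ⟶ (L⟦n⟧)⟦(1 : ℤ)⟧), hg⟩ :=
      Triangle.yoneda_exact₃ T.rotate (rot_of_distTriang _ hT) (k⟦(1 : ℤ)⟧') hz
    have hg' : k⟦(1 : ℤ)⟧' = (-(T.mor₁⟦(1 : ℤ)⟧')) ≫ g := hg
    obtain ⟨g₀, rfl⟩ := (shiftFunctor C (1 : ℤ)).map_surjective g
    refine ⟨-g₀, ?_⟩
    apply (shiftFunctor C (1 : ℤ)).map_injective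
    change (shiftFunctor C (1 : ℤ)).map (T.mor₁ ≫ (-g₀)) = _
    rw [hg', Functor.map_comp, Functor.map_neg]
    simp

lemma hom_eq_zero_of_bijective (T : Triangle C) (hT : T ∈ distTriang C) (L : C)
    (h : ∀ n : ℤ, Function.Bijective (fun g : T.obj₂ ⟶ L⟦n⟧ => T.mor₁ ≫ g)) (n : ℤ)
    (f : T.obj₃ ⟶ L⟦n⟧) : f = 0 := by
  have h1 : T.mor₂ ≫ f = 0 := by
    apply (h n).1
    change T.mor₁ ≫ T.mor₂ ≫ f = T.mor₁ ≫ 0
    rw [← Category.assoc, comp_distTriang_mor_zero₁₂ _ hT, zero_comp, comp_zero]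
  obtain ⟨f', hf'⟩ := Triangle.yoneda_exact₃ T hT f h1
  let e := (shiftFunctorAdd' C (n - 1) 1 n (by omega)).app L
  obtain ⟨k, hk⟩ := (shiftFunctor C (1 : ℤ)).map_surjective (f' ≫ e.hom)
  obtain ⟨g, hg⟩ := (h (n - 1)).2 k
  have hg' : T.mor₁ ≫ g = k := hg
  have : f' = T.mor₁⟦(1 : ℤ)⟧' ≫ g⟦(1 : ℤ)⟧' ≫ e.inv := by
    rw [← Category.assoc, ← Functor.map_comp, hg', hk, Category.assoc, Iso.hom_inv_id,
      Category.comp_id]
  rw [hf', this, ← Category.assoc, comp_distTriang_mor_zero₃₁ _ hT, zero_comp]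

end Groth.Agent.Helper3.TriLES
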