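import Mathlib
import Groth.Prelude.Def_DRing3
import Groth.Agent.Helper3.DRing1
import Groth.Agent.Helper3.TriLES

/-! The two-term free resolution `0 → A[X] → A[X] → A_f → 0` and the concrete criterion for
derived completeness of a module. -/

set_option autoImplicit false
universe u
open CategoryTheory CategoryTheory.Limits Polynomial

namespace Groth.Agent.Helper3.DRingLib

attribute [local instance] HasDerivedCategory.standard

variable {A : Type u} [CommRing A] (f : A)

/-- The polynomial `f X - 1`. -/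
noncomputable def awayPoly : A[X] := C f * X - 1

lemma awayPoly_mul_eq_zero (g : A[X]) (h : awayPoly f * g = 0) : g = 0 := by
  have hc : ∀ n, g.coeff n = 0 := by
    intro n
    induction n with
    | zero =>
      have := congrArg (fun p => p.coeff 0) h
      simp only [awayPoly, sub_mul, one_mul, coeff_sub, mul_assoc, coeff_C_mul, coeff_X_mul_zero,
        mul_zero, zero_sub, coeff_zero, neg_eq_zero] at this
      exact this
    | succ n ih =>
      have := congrArg (fun p => p.coeff (n + 1)) h
      simp only [awayPoly, sub_mul, one_mul, coeff_sub, mul_assoc, coeff_C_mul, coeff_X_mul,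
        coeff_zero, ih, mul_zero, zero_sub, neg_eq_zero] at this
      exact this
  ext n
  simp [hc n]

lemma awayPoly_mul_injective : Function.Injective (LinearMap.mulLeft A (awayPoly f)) := by
  rw [← LinearMap.ker_eq_bot, LinearMap.ker_eq_bot']
  intro g hg
  exact awayPoly_mul_eq_zero f g hg

/-- The projection `A[X] → A_f`, `X ↦ 1/f`. -/
noncomputable def awayπ : A[X] →ₗ[A] Localization.Away f :=
  (Localization.awayEquivAdjoin f).symm.toLinearMap ∘ₗ
    (Polynomial.aeval (AdjoinRoot.root (C f * X - 1))).toLinearMap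

lemma awayπ_apply (g : A[X]) :
    awayπ f g = (Localization.awayEquivAdjoin f).symm (AdjoinRoot.mk (C f * X - 1) g) := by
  simp [awayπ, AdjoinRoot.aeval_eq]

lemma awayπ_eq_zero_iff (g : A[X]) : awayπ f g = 0 ↔ awayPoly f ∣ g := by
  rw [awayπ_apply, EmbeddingLike.map_eq_zero_iff, AdjoinRoot.mk_eq_zero, awayPoly]

lemma awayπ_surjective : Function.Surjective (awayπ f) := by
  intro y
  obtain ⟨g, hg⟩ := AdjoinRoot.mk_surjective (Localization.awayEquivAdjoin f y)
  refine ⟨g, ?_⟩
  rw [awayπ_apply, hg, AlgEquiv.symm_apply_apply]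

/-- The short complex `A[X] → A[X] → A_f`. -/
noncomputable def awaySC : ShortComplex (ModuleCat.{u} A) :=
  ShortComplex.mk (ModuleCat.ofHom (LinearMap.mulLeft A (awayPoly f)))
    (ModuleCat.ofHom (awayπ f)) (by
      apply ModuleCat.hom_ext
      apply LinearMap.ext
      intro g
      change awayπ f (awayPoly f * g) = 0
      rw [awayπ_eq_zero_iff]
      exact dvd_mul_right _ _)

lemma awaySC_shortExact : (awaySC f).ShortExact := by
  have hex : (awaySC f).Exact := by
    rw [ShortComplex.moduleCat_exact_iff]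
    intro (x : A[X]) hx
    have hx' : awayπ f x = 0 := hx
    rw [awayπ_eq_zero_iff] at hx'
    obtain ⟨q, rfl⟩ := hx'
    exact ⟨q, rfl⟩
  have : Mono (awaySC f).f := by
    rw [ModuleCat.mono_iff_injective]
    exact awayPoly_mul_injective f
  have : Epi (awaySC f).g := by
    rw [ModuleCat.epi_iff_surjective]
    exact awayπ_surjective f
  exact ShortComplex.ShortExact.mk hex

/-! ### vanishing of `Hom(F[0], M[0]⟦n⟧)` for `F` projective and `n ≠ 0` -/

lemma isKProjective_single (F : ModuleCat.{u} A) [Projective F] :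
    ((CochainComplex.singleFunctor (ModuleCat.{u} A) 0).obj F).IsKProjective := by
  have : ∀ n : ℤ, Projective (((CochainComplex.singleFunctor (ModuleCat.{u} A) 0).obj F).X n) := by
    intro n
    by_cases hn : n = 0
    · subst hn
      exact Projective.of_iso (HomologicalComplex.singleObjXSelf (ComplexShape.up ℤ) 0 F).symm
        inferInstance
    · exact (HomologicalComplex.isZero_single_obj_X (ComplexShape.up ℤ) 0 F n hn).projective
  exact CochainComplex.isKProjective_of_projective _ 0

lemma hom_single_shift_eq_zero (F M : ModuleCat.{u} A) [Projective F] (n : ℤ) (hn : n ≠ 0)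
    (g : (DerivedCategory.singleFunctor (ModuleCat.{u} A) 0).obj F ⟶
      ((DerivedCategory.singleFunctor (ModuleCat.{u} A) 0).obj M)⟦n⟧) : g = 0 := by
  rcases lt_or_gt_of_ne hn with h | h
  · -- n < 0 : t-structure
    have : (((DerivedCategory.singleFunctor (ModuleCat.{u} A) 0).obj M)⟦n⟧).IsGE (-n) :=
      DerivedCategory.TStructure.t.isGE_shift _ 0 n (-n) (by omega)
    exact DerivedCategory.TStructure.t.zero g 0 (-n) (by omega)
  · have : (((DerivedCategory.singleFunctor (ModuleCat.{u} A) 0).obj M)⟦n⟧).IsLE (-n) :=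
      DerivedCategory.TStructure.t.isLE_shift _ 0 n (-n) (by omega)
    haveI := isKProjective_single F
    exact hom_eq_zero_of_isLE ((CochainComplex.singleFunctor (ModuleCat.{u} A) 0).obj F) 0
      (fun i hi => HomologicalComplex.isZero_single_obj_X (ComplexShape.up ℤ) 0 F i (by omega))
      _ (-n) (by omega) g

/-! ### the criterion -/

/-- All morphisms `A_f[0] → K⟦n⟧` vanish. -/
def DCf (K : Dual.D A) : Prop :=
  ∀ n : ℤ, ∀ h : Dual.inD A (Localization.Away f) ⟶ K⟦n⟧, h = 0

lemma isDerivedComplete_iff_dcf (I : Ideal A) (K : Dual.D A) :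
    DRing.IsDerivedComplete I K ↔ ∀ f ∈ I, DCf f K := by
  constructor
  · intro h f hf n g
    have := h f hf n
    exact Subsingleton.elim _ _
  · intro h f hf n
    exact ⟨fun x y => by rw [h f hf n x, h f hf n y]⟩

/-- `A[X]` placed in degree `0`. -/
noncomputable abbrev sglF (A : Type u) [CommRing A] : Dual.D A :=
  (DerivedCategory.singleFunctor (ModuleCat.{u} A) 0).obj (ModuleCat.of A A[X])

/-- multiplication by `fX - 1` on `A[X][0]`. -/
noncomputable abbrev sglφ : sglF A ⟶ sglF A :=
  (DerivedCategory.singleFunctor (ModuleCat.{u} A) 0).map (awaySC f).f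

lemma dcf_iff_bijective (K : Dual.D A) :
    DCf f K ↔ ∀ n : ℤ, Function.Bijective (fun g : sglF A ⟶ K⟦n⟧ => sglφ f ≫ g) := by
  have hT := (awaySC_shortExact f).singleTriangle_distinguished
  constructor
  · intro h n
    exact TriLES.bijective_of_hom_eq_zero _ hT K h n
  · intro h n g
    exact TriLES.hom_eq_zero_of_bijective _ hT K h n g

/-- The comparison map `Hom_A(A[X], M) → Hom_{D(A)}(A[X][0], M[0]⟦0⟧)`. -/
noncomputable def Φ₀ (M : Type u) [AddCommGroup M] [Module A M] (g : A[X] →ₗ[A] M) :
    sglF A ⟶ (Dual.inD A M)⟦(0 : ℤ)⟧ :=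
  (DerivedCategory.singleFunctor (ModuleCat.{u} A) 0).map (ModuleCat.ofHom g) ≫
    ((shiftFunctorZero (Dual.D A) ℤ).app (Dual.inD A M)).inv

lemma Φ₀_bijective (M : Type u) [AddCommGroup M] [Module A M] :
    Function.Bijective (Φ₀ (A := A) M) := by
  constructor
  · intro g₁ g₂ h
    have h' := (cancel_mono _).mp h
    have := (DerivedCategory.singleFunctor (ModuleCat.{u} A) 0).map_injective h'
    exact congrArg ModuleCat.Hom.hom this
  · intro k
    obtain ⟨g, hg⟩ := (DerivedCategory.singleFunctor (ModuleCat.{u} A) 0).map_surjective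
      (k ≫ ((shiftFunctorZero (Dual.D A) ℤ).app (Dual.inD A M)).hom)
    refine ⟨g.hom, ?_⟩
    change (DerivedCategory.singleFunctor (ModuleCat.{u} A) 0).map (ModuleCat.ofHom g.hom) ≫ _ = _
    rw [ModuleCat.ofHom_hom, hg, Category.assoc, Iso.hom_inv_id, Category.comp_id]

lemma Φ₀_comp (M : Type u) [AddCommGroup M] [Module A M] (g : A[X] →ₗ[A] M) :
    Φ₀ M (g ∘ₗ LinearMap.mulLeft A (awayPoly f)) = sglφ f ≫ Φ₀ M g := by
  have : ModuleCat.ofHom (g ∘ₗ LinearMap.mulLeft A (awayPoly f)) =
      (ModuleCat.ofHom (LinearMap.mulLeft A (awayPoly f)) : ModuleCat.of A A[X] ⟶ _) ≫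
        ModuleCat.ofHom g := rfl
  unfold Φ₀ sglφ
  rw [this, Functor.map_comp, Category.assoc]
  rfl

lemma bijective_shift_zero_iff (M : Type u) [AddCommGroup M] [Module A M] :
    Function.Bijective (fun g : sglF A ⟶ (Dual.inD A M)⟦(0 : ℤ)⟧ => sglφ f ≫ g) ↔
      Function.Bijective (fun g : A[X] →ₗ[A] M => g ∘ₗ LinearMap.mulLeft A (awayPoly f)) := by
  have hcomm : (Φ₀ (A := A) M) ∘ (fun g : A[X] →ₗ[A] M => g ∘ₗ LinearMap.mulLeft A (awayPoly f)) =
      (fun g : sglF A ⟶ (Dual.inD A M)⟦(0 : ℤ)⟧ => sglφ f ≫ g) ∘ (Φ₀ (A := A) M) := by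
    funext g
    exact Φ₀_comp f M g
  rw [← Function.Bijective.of_comp_iff' (Φ₀_bijective M), hcomm,
    Function.Bijective.of_comp_iff _ (Φ₀_bijective M)]

lemma dcf_module_iff (M : Type u) [AddCommGroup M] [Module A M] :
    DCf f (Dual.inD A M) ↔
      Function.Bijective (fun g : A[X] →ₗ[A] M => g ∘ₗ LinearMap.mulLeft A (awayPoly f)) := by
  rw [dcf_iff_bijective]
  have h0 := bijective_shift_zero_iff f M
  constructor
  · intro h
    exact h0.mp (h 0)
  · intro h n
    by_cases hn : n = 0
    · subst hn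
      exact h0.mpr h
    · have hz : ∀ g : sglF A ⟶ (Dual.inD A M)⟦n⟧, g = 0 := fun g =>
        hom_single_shift_eq_zero (ModuleCat.of A A[X]) (ModuleCat.of A M) n hn g
      constructor
      · intro g₁ g₂ _
        rw [hz g₁, hz g₂]
      · intro k
        exact ⟨0, by rw [hz k]; exact comp_zero⟩

/-- The operator `(x_n) ↦ (f x_{n+1} - x_n)` on sequences. -/
def seqOp (M : Type u) [AddCommGroup M] [Module A M] (x : ℕ → M) : ℕ → M :=
  fun n => f • x (n + 1) - x n

/-- Sequences in `M` are linear maps `A[X] → M`. -/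
noncomputable def seqEquiv (M : Type u) [AddCommGroup M] [Module A M] :
    (ℕ → M) ≃ₗ[A] (A[X] →ₗ[A] M) := (Polynomial.basisMonomials A).constr A

lemma seqEquiv_monomial (M : Type u) [AddCommGroup M] [Module A M] (x : ℕ → M) (n : ℕ) :
    seqEquiv M x (monomial n (1 : A)) = x n := by
  have := (Polynomial.basisMonomials A).constr_basis A x n
  rwa [Polynomial.coe_basisMonomials] at this

lemma seqEquiv_comp (M : Type u) [AddCommGroup M] [Module A M] (x : ℕ → M) :
    (seqEquiv M x) ∘ₗ LinearMap.mulLeft A (awayPoly f) = seqEquiv M (seqOp f M x) := by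
  apply Polynomial.lhom_ext'
  intro n
  apply LinearMap.ext_ring
  have h1 : awayPoly f * monomial n (1 : A) = f • monomial (n + 1) (1 : A) - monomial n 1 := by
    rw [awayPoly, sub_mul, one_mul, mul_assoc, X_mul_monomial, ← smul_eq_C_mul]
  simp only [LinearMap.coe_comp, Function.comp_apply, LinearMap.mulLeft_apply]
  rw [h1, map_sub, map_smul, seqEquiv_monomial, seqEquiv_monomial, seqEquiv_monomial]
  rfl

lemma dcf_module_iff_seq (M : Type u) [AddCommGroup M] [Module A M] :
    DCf f (Dual.inD A M) ↔ Function.Bijective (seqOp f M) := by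
  rw [dcf_module_iff]
  have hcomm : (fun g : A[X] →ₗ[A] M => g ∘ₗ LinearMap.mulLeft A (awayPoly f)) ∘ (seqEquiv M) =
      (seqEquiv M) ∘ (seqOp f M) := by
    funext x
    exact seqEquiv_comp f M x
  rw [← Function.Bijective.of_comp_iff _ (seqEquiv (A := A) M).bijective, hcomm,
    Function.Bijective.of_comp_iff' (seqEquiv (A := A) M).bijective]

/-- The concrete criterion: `M[0]` is derived `I`-complete iff for all `f ∈ I` the operator
`(x_n) ↦ (f x_{n+1} - x_n)` on sequences in `M` is bijective. -/
theorem isDerivedComplete_module_iff (I : Ideal A) (M : Type u) [AddCommGroup M] [Module A M] :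
    DRing.IsDerivedComplete I (Dual.inD A M) ↔ ∀ f ∈ I, Function.Bijective (seqOp f M) := by
  rw [isDerivedComplete_iff_dcf]
  exact forall₂_congr fun f _ => dcf_module_iff_seq f M

end Groth.Agent.Helper3.DRingLib
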