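import Mathlib
import Groth.Prelude.Def_DRing2
import Groth.Agent.Helper3.DRing1

/-! `Hom_{D(A)}(P, N[i])` for a K-projective complex `P` in terms of maps `P^{-i} → N`. -/

set_option autoImplicit false
universe u
open CategoryTheory CategoryTheory.Limits

namespace Groth.Agent.Helper3.DRingLib

attribute [local instance] HasDerivedCategory.standard

open CochainComplex.HomComplex

variable {A : Type u} [CommRing A]

/-- `Q((N[0])[i]) ≅ (N[0])[i]` in `D(A)`. -/
noncomputable def extIso (N : ModuleCat.{u} A) (i : ℤ) :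
    DerivedCategory.Q.obj (((CochainComplex.singleFunctor (ModuleCat.{u} A) 0).obj N)⟦i⟧) ≅
      ((DerivedCategory.singleFunctor (ModuleCat.{u} A) 0).obj N)⟦i⟧ :=
  (DerivedCategory.Q.commShiftIso i).app _ ≪≫
    (CategoryTheory.shiftFunctor _ i).mapIso
      ((DerivedCategory.singleFunctorIsoCompQ (ModuleCat.{u} A) 0).symm.app N)

lemma extIso_naturality {N N' : ModuleCat.{u} A} (g : N ⟶ N') (i : ℤ) :
    DerivedCategory.Q.map (((CochainComplex.singleFunctor (ModuleCat.{u} A) 0).map g)⟦i⟧') ≫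
        (extIso N' i).hom =
      (extIso N i).hom ≫ ((DerivedCategory.singleFunctor (ModuleCat.{u} A) 0).map g)⟦i⟧' := by
  dsimp [extIso]
  rw [← Category.assoc]
  have h1 := (DerivedCategory.Q.commShiftIso i).hom.naturality
    ((CochainComplex.singleFunctor (ModuleCat.{u} A) 0).map g)
  dsimp at h1
  rw [h1, Category.assoc, Category.assoc]
  congr 1
  rw [← Functor.map_comp, ← Functor.map_comp]
  congr 1

/-- The cocycle attached to `f : P^j → N` with `d ≫ f = 0`, where `j + i = 0`. -/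
noncomputable def extCocycle (P : DRing.Cx A) (N : ModuleCat.{u} A) (i j : ℤ) (hij : j + i = 0)
    (f : P.X j ⟶ N) (hf : P.d (j - 1) j ≫ f = 0) :
    Cocycle P ((CochainComplex.singleFunctor (ModuleCat.{u} A) 0).obj N) i :=
  Cocycle.toSingleMk f hij (j - 1) (by omega) hf

/-- The morphism `P → N[i]` in `D(A)` attached to `f : P^j → N` with `d ≫ f = 0`. -/
noncomputable def extRep (P : DRing.Cx A) (N : ModuleCat.{u} A) (i j : ℤ) (hij : j + i = 0)
    (f : P.X j ⟶ N) (hf : P.d (j - 1) j ≫ f = 0) :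
    DRing.toD P ⟶ ((DerivedCategory.singleFunctor (ModuleCat.{u} A) 0).obj N)⟦i⟧ :=
  DerivedCategory.Q.map (Cocycle.equivHomShift.symm (extCocycle P N i j hij f hf)) ≫
    (extIso N i).hom

lemma extRep_surjective (P : DRing.Cx A) [P.IsKProjective] (N : ModuleCat.{u} A) (i j : ℤ)
    (hij : j + i = 0)
    (e : DRing.toD P ⟶ ((DerivedCategory.singleFunctor (ModuleCat.{u} A) 0).obj N)⟦i⟧) :
    ∃ (f : P.X j ⟶ N) (hf : P.d (j - 1) j ≫ f = 0), extRep P N i j hij f hf = e := by
  obtain ⟨φ, hφ⟩ := exists_Q_map_eq P _ (e ≫ (extIso N i).inv)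
  obtain ⟨f, hf, h⟩ := Cocycle.toSingleMk_surjective (Cocycle.equivHomShift φ) j hij (j - 1)
    (by omega)
  refine ⟨f, hf, ?_⟩
  dsimp only [extRep, extCocycle]
  rw [h, AddEquiv.symm_apply_apply, hφ, Category.assoc, Iso.inv_hom_id, Category.comp_id]

lemma extRep_eq_zero_iff (P : DRing.Cx A) [P.IsKProjective] (N : ModuleCat.{u} A) (i j : ℤ)
    (hij : j + i = 0) (f : P.X j ⟶ N) (hf : P.d (j - 1) j ≫ f = 0) :
    extRep P N i j hij f hf = 0 ↔ ∃ h : P.X (j + 1) ⟶ N, P.d j (j + 1) ≫ h = f := by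
  rw [← Cocycle.toSingleMk_mem_coboundaries_iff f hij (j - 1) (by omega) hf (j + 1) rfl,
    ← CohomologyClass.toHom_mk_eq_zero_iff, CohomologyClass.toHom_mk]
  dsimp only [extRep, extCocycle]
  constructor
  · intro h
    have h1 : DerivedCategory.Q.map (Cocycle.equivHomShift.symm
        (Cocycle.toSingleMk f hij (j - 1) (by omega) hf)) = DerivedCategory.Q.map 0 := by
      rw [Functor.map_zero, ← cancel_mono (extIso N i).hom, h, zero_comp]
    obtain ⟨H⟩ := homotopy_of_Q_map_eq P _ _ _ h1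
    rw [HomotopyCategory.eq_of_homotopy _ _ H, Functor.map_zero]
  · intro h
    have h2 : DerivedCategory.Q.map (Cocycle.equivHomShift.symm
        (Cocycle.toSingleMk f hij (j - 1) (by omega) hf)) = 0 := by
      have := DerivedCategory.quotientCompQhIso_hom_naturality (C := ModuleCat.{u} A)
        (Cocycle.equivHomShift.symm (Cocycle.toSingleMk f hij (j - 1) (by omega) hf))
      rw [h] at this
      simpa using this.symm
    rw [h2, zero_comp]

lemma extRep_comp (P : DRing.Cx A) {N N' : ModuleCat.{u} A} (i j : ℤ)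
    (hij : j + i = 0) (f : P.X j ⟶ N) (hf : P.d (j - 1) j ≫ f = 0) (g : N ⟶ N') :
    extRep P N i j hij f hf ≫ ((DerivedCategory.singleFunctor (ModuleCat.{u} A) 0).map g)⟦i⟧' =
      extRep P N' i j hij (f ≫ g) (by rw [← Category.assoc, hf, zero_comp]) := by
  dsimp only [extRep, extCocycle]
  rw [Cocycle.toSingleMk_postcomp f hij (j - 1) (by omega) hf g,
    Cocycle.equivHomShift_symm_postcomp, Functor.map_comp, Category.assoc, Category.assoc,
    extIso_naturality]

lemma extRep_add (P : DRing.Cx A) (N : ModuleCat.{u} A) (i j : ℤ)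
    (hij : j + i = 0) (f f' : P.X j ⟶ N) (hf : P.d (j - 1) j ≫ f = 0)
    (hf' : P.d (j - 1) j ≫ f' = 0) :
    extRep P N i j hij (f + f') (by rw [Preadditive.comp_add, hf, hf', add_zero]) =
      extRep P N i j hij f hf + extRep P N i j hij f' hf' := by
  dsimp only [extRep, extCocycle]
  rw [Cocycle.toSingleMk_add f f' hij (j - 1) (by omega) hf hf', map_add, Functor.map_add,
    Preadditive.add_comp]

lemma extRep_neg (P : DRing.Cx A) (N : ModuleCat.{u} A) (i j : ℤ)
    (hij : j + i = 0) (f : P.X j ⟶ N) (hf : P.d (j - 1) j ≫ f = 0) :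
    extRep P N i j hij (-f) (by rw [Preadditive.comp_neg, hf, neg_zero]) =
      - extRep P N i j hij f hf := by
  dsimp only [extRep, extCocycle]
  rw [Cocycle.toSingleMk_neg f hij (j - 1) (by omega) hf, map_neg, Functor.map_neg,
    Preadditive.neg_comp]

lemma extRep_sub (P : DRing.Cx A) (N : ModuleCat.{u} A) (i j : ℤ)
    (hij : j + i = 0) (f f' : P.X j ⟶ N) (hf : P.d (j - 1) j ≫ f = 0)
    (hf' : P.d (j - 1) j ≫ f' = 0) :
    extRep P N i j hij (f - f') (by rw [Preadditive.comp_sub, hf, hf', sub_zero]) =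
      extRep P N i j hij f hf - extRep P N i j hij f' hf' := by
  dsimp only [extRep, extCocycle]
  rw [Cocycle.toSingleMk_sub f f' hij (j - 1) (by omega) hf hf', map_sub, Functor.map_sub,
    Preadditive.sub_comp]

lemma extRep_smul (P : DRing.Cx A) (N : ModuleCat.{u} A) (i j : ℤ)
    (hij : j + i = 0) (f : P.X j ⟶ N) (hf : P.d (j - 1) j ≫ f = 0) (x : A) :
    x • extRep P N i j hij f hf =
      extRep P N i j hij (x • f) (by rw [Linear.comp_smul, hf, smul_zero]) := by
  have h := extRep_comp P i j hij f hf (x • 𝟙 N)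
  rw [Functor.map_smul, Functor.map_smul, Linear.comp_smul, CategoryTheory.Functor.map_id,
    CategoryTheory.Functor.map_id, Category.comp_id] at h
  rw [h]
  congr 1

lemma extRep_eq_iff (P : DRing.Cx A) [P.IsKProjective] (N : ModuleCat.{u} A) (i j : ℤ)
    (hij : j + i = 0) (f f' : P.X j ⟶ N) (hf : P.d (j - 1) j ≫ f = 0)
    (hf' : P.d (j - 1) j ≫ f' = 0) :
    extRep P N i j hij f hf = extRep P N i j hij f' hf' ↔
      ∃ h : P.X (j + 1) ⟶ N, f = f' + P.d j (j + 1) ≫ h := by
  rw [← sub_eq_zero, ← extRep_sub, extRep_eq_zero_iff]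
  constructor
  · rintro ⟨h, hh⟩
    exact ⟨h, by rw [hh]; abel⟩
  · rintro ⟨h, hh⟩
    exact ⟨h, by rw [hh]; abel⟩

end Groth.Agent.Helper3.DRingLib
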