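import Mathlib
import Groth.Prelude.Def_DRing2
import Groth.Agent.Helper3.DRingExt
import Groth.Agent.Helper3.ARExt

/-! Essential constancy of `Ext^i(K, M/IⁿM)` for a bounded-above finite free complex. -/

set_option autoImplicit false
universe u
open CategoryTheory CategoryTheory.Limits

namespace Groth.Agent.Helper3.DRingLib

attribute [local instance] HasDerivedCategory.standard

variable {A : Type u} [CommRing A]

lemma extRep_congr (P : DRing.Cx A) (N : ModuleCat.{u} A) (i j : ℤ) (hij : j + i = 0)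
    (f f' : P.X j ⟶ N) (hf : P.d (j - 1) j ≫ f = 0) (hf' : P.d (j - 1) j ≫ f' = 0)
    (h : f = f') : extRep P N i j hij f hf = extRep P N i j hij f' hf' := by
  subst h
  rfl

theorem ext_essentially_constant_core [IsNoetherianRing A] (I : Ideal A) (E : DRing.Cx A)
    [E.IsKProjective] (hff : DRing.TermwiseFiniteFree E)
    (M : Type u) [AddCommGroup M] [Module A M] [Module.Finite A M] (i : ℤ)
    (htors : ∀ e : DRing.toD E ⟶ (Dual.inD A M)⟦i⟧, ∃ n : ℕ, ∀ x ∈ I ^ n, x • e = 0) :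
    (∃ m : ℕ, ∀ e e' : DRing.toD E ⟶ (Dual.inD A M)⟦i⟧,
        e ≫ ((DerivedCategory.singleFunctor (ModuleCat.{u} A) 0).map
          (ModuleCat.ofHom (I ^ m • ⊤ : Submodule A M).mkQ))⟦i⟧' =
        e' ≫ ((DerivedCategory.singleFunctor (ModuleCat.{u} A) 0).map
          (ModuleCat.ofHom (I ^ m • ⊤ : Submodule A M).mkQ))⟦i⟧' → e = e') ∧
    ∀ n : ℕ, ∃ (m' : ℕ) (hnm : n ≤ m'),
      ∀ ebar : DRing.toD E ⟶ (Dual.inD A (M ⧸ (I ^ m' • ⊤ : Submodule A M)))⟦i⟧,
        ∃ e : DRing.toD E ⟶ (Dual.inD A M)⟦i⟧,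
          e ≫ ((DerivedCategory.singleFunctor (ModuleCat.{u} A) 0).map
            (ModuleCat.ofHom (I ^ n • ⊤ : Submodule A M).mkQ))⟦i⟧' =
          ebar ≫ ((DerivedCategory.singleFunctor (ModuleCat.{u} A) 0).map (ModuleCat.ofHom
            (Submodule.mapQ (I ^ m' • ⊤ : Submodule A M) (I ^ n • ⊤ : Submodule A M)
              (LinearMap.id : M →ₗ[A] M)
              (Submodule.smul_mono_left (Ideal.pow_le_pow_right hnm)))))⟦i⟧' := by
  obtain ⟨j, hij⟩ : ∃ j : ℤ, j + i = 0 := ⟨-i, by omega⟩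
  have := (hff (j - 1)).1
  have := (hff (j - 1)).2
  have := (hff j).1
  have := (hff j).2
  have := (hff (j + 1)).2
  have hd : (E.d j (j + 1)).hom ∘ₗ (E.d (j - 1) j).hom = 0 := by
    have := E.d_comp_d (j - 1) j (j + 1)
    have h2 := congrArg ModuleCat.Hom.hom this
    rw [ModuleCat.hom_comp, ModuleCat.hom_zero] at h2
    exact h2
  have hcyc : ∀ {N : Type u} [AddCommGroup N] [Module A N] (f : E.X j →ₗ[A] N),
      f ∘ₗ (E.d (j - 1) j).hom = 0 → E.d (j - 1) j ≫ ModuleCat.ofHom f = 0 := by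
    intro N _ _ f hf
    apply ModuleCat.hom_ext
    simpa using hf
  have hcyc' : ∀ {N : Type u} [AddCommGroup N] [Module A N] (f : E.X j ⟶ ModuleCat.of A N),
      E.d (j - 1) j ≫ f = 0 → f.hom ∘ₗ (E.d (j - 1) j).hom = 0 := by
    intro N _ _ f hf
    have h2 := congrArg ModuleCat.Hom.hom hf
    simpa using h2
  -- torsion hypothesis in linear-algebra form
  have htors' : ∀ f : E.X j →ₗ[A] M, f ∘ₗ (E.d (j - 1) j).hom = 0 →
      ∃ n : ℕ, ∀ x ∈ I ^ n, ∃ h : E.X (j + 1) →ₗ[A] M, x • f = h ∘ₗ (E.d j (j + 1)).hom := by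
    intro f hf
    obtain ⟨n, hn⟩ := htors (extRep E (ModuleCat.of A M) i j hij (ModuleCat.ofHom f) (hcyc f hf))
    refine ⟨n, fun x hx => ?_⟩
    have h1 := hn x hx
    rw [extRep_smul, extRep_eq_zero_iff] at h1
    obtain ⟨h, hh⟩ := h1
    refine ⟨h.hom, ?_⟩
    have h2 := congrArg ModuleCat.Hom.hom hh
    simpa using h2.symm
  constructor
  · obtain ⟨m, hm⟩ := ARExt.exists_injective_bound I (E.d (j - 1) j).hom (E.d j (j + 1)).hom hd
      htors'
    refine ⟨m, fun e e' hee' => ?_⟩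
    obtain ⟨f, hf, rfl⟩ := extRep_surjective E (ModuleCat.of A M) i j hij e
    obtain ⟨f', hf', rfl⟩ := extRep_surjective E (ModuleCat.of A M) i j hij e'
    rw [extRep_comp, extRep_comp, extRep_eq_iff] at hee'
    obtain ⟨hbar, hh⟩ := hee'
    rw [extRep_eq_iff]
    obtain ⟨h, hh'⟩ := hm (f.hom - f'.hom)
      (by rw [LinearMap.sub_comp, hcyc' f hf, hcyc' f' hf', sub_zero])
      ⟨hbar.hom, by
        have h2 := congrArg ModuleCat.Hom.hom hh
        simp only [ModuleCat.hom_comp, ModuleCat.hom_add, ModuleCat.hom_ofHom] at h2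
        rw [LinearMap.comp_sub, h2]
        abel⟩
    refine ⟨ModuleCat.ofHom h, ?_⟩
    apply ModuleCat.hom_ext
    simp only [ModuleCat.hom_comp, ModuleCat.hom_add, ModuleCat.hom_ofHom]
    rw [← hh']
    abel
  · intro n
    obtain ⟨m', hnm, hm'⟩ := ARExt.exists_lift_bound (M := M) I (E.d (j - 1) j).hom n
    refine ⟨m', hnm, fun ebar => ?_⟩
    obtain ⟨fbar, hfbar, rfl⟩ := extRep_surjective E (ModuleCat.of A _) i j hij ebar
    obtain ⟨f, g, hf, hg, hfg⟩ := hm' fbar.hom (hcyc' fbar hfbar)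
    refine ⟨extRep E (ModuleCat.of A M) i j hij (ModuleCat.ofHom g) (hcyc g hg), ?_⟩
    rw [extRep_comp, extRep_comp]
    apply extRep_congr
    apply ModuleCat.hom_ext
    simp only [ModuleCat.hom_comp, ModuleCat.hom_ofHom]
    rw [← hf]
    apply LinearMap.ext
    intro p
    simp only [LinearMap.comp_apply, Submodule.mkQ_apply, Submodule.mapQ_apply, LinearMap.id_apply]
    symm
    rw [Submodule.Quotient.eq]
    exact hfg p

end Groth.Agent.Helper3.DRingLib
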