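import Mathlib

/-! Maps from finite free modules into filtered colimits of modules. -/

set_option autoImplicit false
set_option linter.unusedSectionVars false
universe u
open CategoryTheory CategoryTheory.Limits

namespace Groth.Agent.Helper3.FiltColimFF

variable {R : Type u} [CommRing R] {J : Type u} [SmallCategory J] [IsFiltered J]
  (F : J ⥤ ModuleCat.{u} R) (c : Cocone F) (hc : IsColimit c)

include hc

lemma exists_rep (x : c.pt) : ∃ (j : J) (y : F.obj j), (c.ι.app j).hom y = x := by
  obtain ⟨j, y, hy⟩ := Concrete.isColimit_exists_rep F hc x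
  exact ⟨j, y, hy⟩

lemma exists_map_eq_zero (j : J) (y : F.obj j) (h : (c.ι.app j).hom y = 0) :
    ∃ (j' : J) (f : j ⟶ j'), (F.map f).hom y = 0 := by
  have := (Concrete.isColimit_rep_eq_iff_exists F hc (i := j) (j := j) y 0).mp (by simpa using h)
  obtain ⟨k, f, g, hfg⟩ := this
  exact ⟨k, f, by simpa using hfg⟩

omit hc in
lemma ι_map_apply {j j' : J} (f : j ⟶ j') (y : F.obj j) :
    (c.ι.app j').hom ((F.map f).hom y) = (c.ι.app j).hom y := by
  have := c.w f
  have h2 := congrArg (fun φ => φ.hom y) this
  exact h2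

/-- (L1) a map from a finite free module into the colimit factors through a stage. -/
lemma exists_factor {P : Type u} [AddCommGroup P] [Module R P] [Module.Finite R P]
    [Module.Free R P] (f : P →ₗ[R] c.pt) :
    ∃ (j : J) (f₁ : P →ₗ[R] F.obj j), (c.ι.app j).hom ∘ₗ f₁ = f := by
  classical
  let b := Module.Free.chooseBasis R P
  choose jl yl hyl using fun l => exists_rep F c hc (f (b l))
  obtain ⟨j, hj⟩ := IsFiltered.sup_objs_exists (Finset.univ.image jl)
  have hjl : ∀ l, Nonempty (jl l ⟶ j) := fun l =>
    hj (Finset.mem_image_of_mem _ (Finset.mem_univ l))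
  let g : ∀ l, jl l ⟶ j := fun l => (hjl l).some
  refine ⟨j, b.constr R (fun l => (F.map (g l)).hom (yl l)), ?_⟩
  apply b.ext
  intro l
  rw [LinearMap.comp_apply, Module.Basis.constr_basis, ι_map_apply, hyl]

/-- (L2) a map from a finite free module into a stage which dies in the colimit dies at a
later stage. -/
lemma exists_map_comp_eq_zero {P : Type u} [AddCommGroup P] [Module R P] [Module.Finite R P]
    [Module.Free R P] (j : J) (f : P →ₗ[R] F.obj j) (h : (c.ι.app j).hom ∘ₗ f = 0) :
    ∃ (j' : J) (g : j ⟶ j'), (F.map g).hom ∘ₗ f = 0 := by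
  classical
  let b := Module.Free.chooseBasis R P
  have key : ∀ S : Finset (Module.Free.ChooseBasisIndex R P),
      ∃ (j' : J) (g : j ⟶ j'), ∀ l ∈ S, (F.map g).hom (f (b l)) = 0 := by
    intro S
    induction S using Finset.induction_on with
    | empty => exact ⟨j, 𝟙 j, fun l hl => absurd hl (Finset.notMem_empty l)⟩
    | insert l₀ S _ ih =>
      obtain ⟨j', g, hg⟩ := ih
      have h0 : (c.ι.app j').hom ((F.map g).hom (f (b l₀))) = 0 := by
        rw [ι_map_apply]
        exact LinearMap.congr_fun h (b l₀)
      obtain ⟨j'', g', hg'⟩ := exists_map_eq_zero F c hc j' _ h0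
      refine ⟨j'', g ≫ g', fun l hl => ?_⟩
      rw [F.map_comp, ModuleCat.hom_comp, LinearMap.comp_apply]
      rcases Finset.mem_insert.mp hl with rfl | hl
      · exact hg'
      · rw [hg l hl, map_zero]
  obtain ⟨j', g, hg⟩ := key Finset.univ
  refine ⟨j', g, ?_⟩
  apply b.ext
  intro l
  rw [LinearMap.comp_apply, LinearMap.zero_apply]
  exact hg l (Finset.mem_univ l)

end Groth.Agent.Helper3.FiltColimFF
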