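import Mathlib
import Groth.Prelude.Def_DRing2
import Groth.Agent.Helper3.DRingExt2
import Groth.Agent.Helper3.DRingApprox
import Groth.Agent.Helper3.FiltColimFF

/-! `Ext` out of an `m`-pseudo-coherent object and filtered colimits of modules. -/

set_option autoImplicit false
universe u
open CategoryTheory CategoryTheory.Limits CategoryTheory.Pretriangulated

namespace Groth.Agent.Helper3.DRingLib

attribute [local instance] HasDerivedCategory.standard

open DerivedCategory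

variable {A : Type u} [CommRing A]

lemma isGE_single_shift (N : ModuleCat.{u} A) (n : ℤ) :
    (((singleFunctor (ModuleCat.{u} A) 0).obj N)⟦n⟧).IsGE (-n) :=
  TStructure.t.isGE_shift _ 0 n (-n) (by omega)

/-- Precomposition with an `m`-approximation is injective on `Hom(-, N[n])` for `n ≤ -m`. -/
lemma precomp_injective_of_isApprox {m : ℤ} {X K : Dual.D A} (α : X ⟶ K) (hα : IsApprox m α)
    (N : ModuleCat.{u} A) (n : ℤ) (hn : n ≤ -m)
    (x y : K ⟶ ((singleFunctor (ModuleCat.{u} A) 0).obj N)⟦n⟧) (h : α ≫ x = α ≫ y) : x = y := by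
  obtain ⟨C, p, d, hT⟩ := distinguished_cocone_triangle α
  have hC : C.IsLE (m - 1) := (isApprox_iff_isLE _ hT m).mp hα
  have := isGE_single_shift N n
  rw [← sub_eq_zero]
  obtain ⟨g, hg⟩ := Triangle.yoneda_exact₂ _ hT (x - y) (by
    change α ≫ (x - y) = 0
    rw [Preadditive.comp_sub, h, sub_self])
  have hg0 : g = 0 := TStructure.t.zero_of_isLE_of_isGE g (m - 1) (-n) (by omega) hC this
  rw [hg, hg0]
  exact comp_zero

/-- Precomposition with an `m`-approximation is surjective on `Hom(-, N[n])` for `n < -m`. -/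
lemma precomp_surjective_of_isApprox {m : ℤ} {X K : Dual.D A} (α : X ⟶ K) (hα : IsApprox m α)
    (N : ModuleCat.{u} A) (n : ℤ) (hn : n < -m)
    (z : X ⟶ ((singleFunctor (ModuleCat.{u} A) 0).obj N)⟦n⟧) : ∃ x, α ≫ x = z := by
  obtain ⟨C, p, d, hT⟩ := distinguished_cocone_triangle α
  have hC : C.IsLE (m - 1) := (isApprox_iff_isLE _ hT m).mp hα
  have := isGE_single_shift N n
  have hC' : (C⟦(-1 : ℤ)⟧).IsLE m := TStructure.t.isLE_shift _ (m - 1) (-1) m (by omega)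
  have hT' := inv_rot_of_distTriang _ hT
  obtain ⟨g, hg⟩ := Triangle.yoneda_exact₂ _ hT' z
    (TStructure.t.zero_of_isLE_of_isGE _ m (-n) (by omega) hC' this)
  exact ⟨g, hg.symm⟩

section Colim

variable {J : Type u} [SmallCategory J] [IsFiltered J] (F : J ⥤ ModuleCat.{u} A) (c : Cocone F)
  (hc : IsColimit c)

include hc

theorem ext_colim_surjective (E : DRing.Cx A) [E.IsKProjective] (hff : DRing.TermwiseFiniteFree E)
    (n : ℤ) (z : DRing.toD E ⟶ ((singleFunctor (ModuleCat.{u} A) 0).obj c.pt)⟦n⟧) :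
    ∃ (j : J) (y : DRing.toD E ⟶ ((singleFunctor (ModuleCat.{u} A) 0).obj (F.obj j))⟦n⟧),
      y ≫ ((singleFunctor (ModuleCat.{u} A) 0).map (c.ι.app j))⟦n⟧' = z := by
  obtain ⟨jj, hij⟩ : ∃ jj : ℤ, jj + n = 0 := ⟨-n, by omega⟩
  have := (hff jj).1
  have := (hff jj).2
  have := (hff (jj - 1)).1
  have := (hff (jj - 1)).2
  obtain ⟨f, hf, rfl⟩ := extRep_surjective E c.pt n jj hij z
  obtain ⟨j₁, f₁, hf₁⟩ := FiltColimFF.exists_factor F c hc f.hom
  have h0 : (c.ι.app j₁).hom ∘ₗ (f₁ ∘ₗ (E.d (jj - 1) jj).hom) = 0 := by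
    rw [← LinearMap.comp_assoc, hf₁]
    have h2 := congrArg ModuleCat.Hom.hom hf
    rw [ModuleCat.hom_comp, ModuleCat.hom_zero] at h2
    exact h2
  obtain ⟨j₂, g, hg⟩ := FiltColimFF.exists_map_comp_eq_zero F c hc j₁ _ h0
  have hcyc : E.d (jj - 1) jj ≫ ModuleCat.ofHom ((F.map g).hom ∘ₗ f₁) = 0 := by
    apply ModuleCat.hom_ext
    rw [ModuleCat.hom_comp, ModuleCat.hom_ofHom, ModuleCat.hom_zero, LinearMap.comp_assoc]
    exact hg
  refine ⟨j₂, extRep E (F.obj j₂) n jj hij (ModuleCat.ofHom ((F.map g).hom ∘ₗ f₁)) hcyc, ?_⟩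
  rw [extRep_comp]
  apply extRep_congr
  apply ModuleCat.hom_ext
  rw [ModuleCat.hom_comp, ModuleCat.hom_ofHom, ← hf₁, ← LinearMap.comp_assoc]
  congr 1
  have := c.w g
  exact congrArg ModuleCat.Hom.hom this

theorem ext_colim_injective (E : DRing.Cx A) [E.IsKProjective] (hff : DRing.TermwiseFiniteFree E)
    (n : ℤ) (j : J) (y : DRing.toD E ⟶ ((singleFunctor (ModuleCat.{u} A) 0).obj (F.obj j))⟦n⟧)
    (hy : y ≫ ((singleFunctor (ModuleCat.{u} A) 0).map (c.ι.app j))⟦n⟧' = 0) :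
    ∃ (j' : J) (f : j ⟶ j'),
      y ≫ ((singleFunctor (ModuleCat.{u} A) 0).map (F.map f))⟦n⟧' = 0 := by
  obtain ⟨jj, hij⟩ : ∃ jj : ℤ, jj + n = 0 := ⟨-n, by omega⟩
  have := (hff jj).1
  have := (hff jj).2
  have := (hff (jj + 1)).1
  have := (hff (jj + 1)).2
  obtain ⟨f, hf, rfl⟩ := extRep_surjective E (F.obj j) n jj hij y
  rw [extRep_comp, extRep_eq_zero_iff] at hy
  obtain ⟨h, hh⟩ := hy
  obtain ⟨j₁, h₁, hh₁⟩ := FiltColimFF.exists_factor F c hc h.hom
  let j₂ := IsFiltered.max j j₁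
  let u : j ⟶ j₂ := IsFiltered.leftToMax j j₁
  let v : j₁ ⟶ j₂ := IsFiltered.rightToMax j j₁
  let φ : E.X jj →ₗ[A] F.obj j₂ :=
    (F.map u).hom ∘ₗ f.hom - (F.map v).hom ∘ₗ h₁ ∘ₗ (E.d jj (jj + 1)).hom
  have hφ : (c.ι.app j₂).hom ∘ₗ φ = 0 := by
    have hu := congrArg ModuleCat.Hom.hom (c.w u)
    have hv := congrArg ModuleCat.Hom.hom (c.w v)
    rw [ModuleCat.hom_comp] at hu hv
    have h2 := congrArg ModuleCat.Hom.hom hh
    rw [ModuleCat.hom_comp, ModuleCat.hom_comp] at h2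
    rw [LinearMap.comp_sub, ← LinearMap.comp_assoc, hu, ← LinearMap.comp_assoc, hv,
      ← LinearMap.comp_assoc, hh₁, h2, sub_self]
  obtain ⟨j₃, w, hw⟩ := FiltColimFF.exists_map_comp_eq_zero F c hc j₂ φ hφ
  refine ⟨j₃, u ≫ w, ?_⟩
  rw [extRep_comp, extRep_eq_zero_iff]
  refine ⟨ModuleCat.ofHom ((F.map (v ≫ w)).hom ∘ₗ h₁), ?_⟩
  apply ModuleCat.hom_ext
  rw [ModuleCat.hom_comp, ModuleCat.hom_comp, ModuleCat.hom_ofHom, F.map_comp, F.map_comp,
    ModuleCat.hom_comp, ModuleCat.hom_comp]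
  have h3 : (F.map w).hom ∘ₗ (F.map u).hom ∘ₗ f.hom =
      (F.map w).hom ∘ₗ (F.map v).hom ∘ₗ h₁ ∘ₗ (E.d jj (jj + 1)).hom := by
    rw [← sub_eq_zero, ← LinearMap.comp_sub]
    exact hw
  rw [LinearMap.comp_assoc, LinearMap.comp_assoc, LinearMap.comp_assoc, ← h3]

end Colim

end Groth.Agent.Helper3.DRingLib
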