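import Mathlib
import Groth.Prelude.Def_DRing3
import Groth.Agent.Helper3.DRing1

/-! Helper library for `DRing` rows on derived completeness (Ext form). -/

set_option autoImplicit false
universe u
open CategoryTheory CategoryTheory.Limits

namespace Groth.Agent.Helper3.DRingLib

attribute [local instance] HasDerivedCategory.standard

variable {A : Type u} [CommRing A]

open Pretriangulated in
/-- If `Hom(X, T.obj₁⟦n⟧) = 0 = Hom(X, T.obj₃⟦n⟧)` then `Hom(X, T.obj₂⟦n⟧) = 0`. -/
lemma subsingleton_hom_shift_obj₂ (X : Dual.D A) (T : Triangle (Dual.D A)) (hT : T ∈ distTriang _)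
    (n : ℤ) (h1 : Subsingleton (X ⟶ T.obj₁⟦n⟧)) (h3 : Subsingleton (X ⟶ T.obj₃⟦n⟧)) :
    Subsingleton (X ⟶ T.obj₂⟦n⟧) := by
  have hT' := Triangle.shift_distinguished T hT n
  have key : ∀ g : X ⟶ T.obj₂⟦n⟧, g = 0 := by
    intro g
    have h3' : Subsingleton (X ⟶ ((shiftFunctor (Triangle (Dual.D A)) n).obj T).obj₃) := h3
    have h1' : Subsingleton (X ⟶ ((shiftFunctor (Triangle (Dual.D A)) n).obj T).obj₁) := h1
    obtain ⟨g', hg'⟩ := Triangle.coyoneda_exact₂ _ hT' g (h3'.elim _ _)
    have : g' = 0 := h1'.elim _ _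
    rw [hg', this]
    exact zero_comp
  exact ⟨fun f g => by rw [key f, key g]⟩

open Pretriangulated in
lemma isDerivedComplete_obj₂ (I : Ideal A) (T : Triangle (Dual.D A)) (hT : T ∈ distTriang _)
    (h1 : DRing.IsDerivedComplete I T.obj₁) (h3 : DRing.IsDerivedComplete I T.obj₃) :
    DRing.IsDerivedComplete I T.obj₂ :=
  fun f hf n => subsingleton_hom_shift_obj₂ _ T hT n (h1 f hf n) (h3 f hf n)

open Pretriangulated in
lemma isDerivedComplete_obj₃ (I : Ideal A) (T : Triangle (Dual.D A)) (hT : T ∈ distTriang _)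
    (h1 : DRing.IsDerivedComplete I T.obj₁) (h2 : DRing.IsDerivedComplete I T.obj₂) :
    DRing.IsDerivedComplete I T.obj₃ := by
  intro f hf n
  have := subsingleton_hom_shift_obj₂ (Dual.inD A (Localization.Away f)) T.rotate
    (rot_of_distTriang _ hT) n (h2 f hf n) ?_
  · exact this
  · have e : (T.rotate.obj₃)⟦n⟧ ≅ T.obj₁⟦n + 1⟧ :=
      (shiftFunctorAdd' (Dual.D A) 1 n (n + 1) (by omega)).symm.app T.obj₁
    have := h1 f hf (n + 1)
    exact ⟨fun x y => by
      rw [← cancel_mono e.hom]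
      exact Subsingleton.elim _ _⟩

open Pretriangulated in
lemma isDerivedComplete_obj₁ (I : Ideal A) (T : Triangle (Dual.D A)) (hT : T ∈ distTriang _)
    (h2 : DRing.IsDerivedComplete I T.obj₂) (h3 : DRing.IsDerivedComplete I T.obj₃) :
    DRing.IsDerivedComplete I T.obj₁ := by
  intro f hf n
  have := subsingleton_hom_shift_obj₂ (Dual.inD A (Localization.Away f)) T.invRotate
    (inv_rot_of_distTriang _ hT) n ?_ (h2 f hf n)
  · exact this
  · have e : (T.invRotate.obj₁)⟦n⟧ ≅ T.obj₃⟦n - 1⟧ :=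
      (shiftFunctorAdd' (Dual.D A) (-1) n (n - 1) (by omega)).symm.app T.obj₃
    have := h3 f hf (n - 1)
    exact ⟨fun x y => by
      rw [← cancel_mono e.hom]
      exact Subsingleton.elim _ _⟩

lemma isDerivedComplete_of_iso (I : Ideal A) {K L : Dual.D A} (e : K ≅ L)
    (h : DRing.IsDerivedComplete I K) : DRing.IsDerivedComplete I L := by
  intro f hf n
  have := h f hf n
  exact ⟨fun x y => by
    rw [← cancel_mono ((shiftFunctor (Dual.D A) n).mapIso e).inv]
    exact Subsingleton.elim _ _⟩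

/-- The short exact sequence `0 → M₁ → M → M/M₁ → 0` in `ModuleCat`. -/
noncomputable def quotSC (M : Type u) [AddCommGroup M] [Module A M] (M₁ : Submodule A M) :
    ShortComplex (ModuleCat.{u} A) :=
  ShortComplex.mk (ModuleCat.ofHom M₁.subtype) (ModuleCat.ofHom M₁.mkQ)
    (by ext x; simp)

lemma quotSC_shortExact (M : Type u) [AddCommGroup M] [Module A M] (M₁ : Submodule A M) :
    (quotSC M M₁).ShortExact := by
  have hex : (quotSC M M₁).Exact := by
    rw [ShortComplex.moduleCat_exact_iff]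
    intro x hx
    have : x ∈ M₁ := by
      have hx' : M₁.mkQ x = 0 := hx
      exact (Submodule.Quotient.mk_eq_zero _).mp hx'
    exact ⟨⟨x, this⟩, rfl⟩
  have : Mono (quotSC M M₁).f := by
    rw [ModuleCat.mono_iff_injective]
    exact M₁.injective_subtype
  have : Epi (quotSC M M₁).g := by
    rw [ModuleCat.epi_iff_surjective]
    exact M₁.mkQ_surjective
  exact ShortComplex.ShortExact.mk hex

end Groth.Agent.Helper3.DRingLib
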