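import Mathlib
import Groth.Prelude.Def_DRing2
import Groth.Agent.Helper3.DRingExt2

/-! `extRep` as a linear map on cycles; Artin–Rees for images of `Ext^p(K, IⁿM)`. -/

set_option autoImplicit false
universe u
open CategoryTheory CategoryTheory.Limits

namespace Groth.Agent.Helper3.DRingLib

attribute [local instance] HasDerivedCategory.standard

variable {A : Type u} [CommRing A]

/-- The cycles in `Hom(E^j, N)`. -/
def extZ (E : DRing.Cx A) (N : Type u) [AddCommGroup N] [Module A N] (j : ℤ) :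
    Submodule A (E.X j →ₗ[A] N) :=
  LinearMap.ker (LinearMap.lcomp A N (E.d (j - 1) j).hom)

lemma mem_extZ (E : DRing.Cx A) (N : Type u) [AddCommGroup N] [Module A N] (j : ℤ)
    (f : E.X j →ₗ[A] N) : f ∈ extZ E N j ↔ f ∘ₗ (E.d (j - 1) j).hom = 0 := by
  rw [extZ, LinearMap.mem_ker]
  rfl

lemma d_comp_ofHom_of_mem_extZ (E : DRing.Cx A) (N : Type u) [AddCommGroup N] [Module A N]
    (j : ℤ) (f : E.X j →ₗ[A] N) (hf : f ∈ extZ E N j) :
    E.d (j - 1) j ≫ ModuleCat.ofHom f = 0 := by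
  apply ModuleCat.hom_ext
  simpa using (mem_extZ E N j f).mp hf

/-- `extRep` as a linear map on the cycles. -/
noncomputable def extRepL (E : DRing.Cx A) (N : Type u) [AddCommGroup N] [Module A N]
    (i j : ℤ) (hij : j + i = 0) :
    extZ E N j →ₗ[A] (DRing.toD E ⟶ (Dual.inD A N)⟦i⟧) where
  toFun f := extRep E (ModuleCat.of A N) i j hij (ModuleCat.ofHom f.1)
    (d_comp_ofHom_of_mem_extZ E N j f.1 f.2)
  map_add' f g := by
    rw [← extRep_add]
    exact extRep_congr _ _ _ _ _ _ _ _ _ rfl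
  map_smul' x f := by
    rw [RingHom.id_apply, extRep_smul]
    exact extRep_congr _ _ _ _ _ _ _ _ _ rfl

lemma extRepL_apply (E : DRing.Cx A) (N : Type u) [AddCommGroup N] [Module A N]
    (i j : ℤ) (hij : j + i = 0) (f : extZ E N j) :
    extRepL E N i j hij f = extRep E (ModuleCat.of A N) i j hij (ModuleCat.ofHom f.1)
      (d_comp_ofHom_of_mem_extZ E N j f.1 f.2) := rfl

theorem ext_pow_image_core [IsNoetherianRing A] (I : Ideal A) (E : DRing.Cx A)
    [E.IsKProjective] (hff : DRing.TermwiseFiniteFree E)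
    (M : Type u) [AddCommGroup M] [Module A M] [Module.Finite A M] (p : ℤ) :
    ∃ c : ℕ, ∀ n : ℕ, c ≤ n →
      ∀ e : DRing.toD E ⟶ (Dual.inD A ↥(I ^ n • ⊤ : Submodule A M))⟦p⟧,
        e ≫ ((DerivedCategory.singleFunctor (ModuleCat.{u} A) 0).map
              (ModuleCat.ofHom (I ^ n • ⊤ : Submodule A M).subtype))⟦p⟧' ∈
          (I ^ (n - c) • ⊤ : Submodule A (DRing.toD E ⟶ (Dual.inD A M)⟦p⟧)) := by
  obtain ⟨j, hij⟩ : ∃ j : ℤ, j + p = 0 := ⟨-p, by omega⟩
  have := (hff j).1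
  have := (hff j).2
  obtain ⟨c, hc⟩ := Ideal.exists_pow_inf_eq_pow_smul I (extZ E M j)
  refine ⟨c, fun n hn e => ?_⟩
  obtain ⟨f, hf, rfl⟩ := extRep_surjective E (ModuleCat.of A _) p j hij e
  rw [extRep_comp]
  -- the composite `g : E^j → M`
  set g : E.X j →ₗ[A] M := (I ^ n • ⊤ : Submodule A M).subtype ∘ₗ f.hom with hg
  have hgZ : g ∈ extZ E M j := by
    rw [mem_extZ, hg, LinearMap.comp_assoc]
    have h2 := congrArg ModuleCat.Hom.hom hf
    rw [ModuleCat.hom_comp, ModuleCat.hom_zero] at h2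
    rw [h2, LinearMap.comp_zero]
  have hgI : g ∈ (I ^ n • ⊤ : Submodule A (E.X j →ₗ[A] M)) :=
    ARExt.mem_smul_top_of_values _ _ (fun x => (f.hom x).2)
  have hmem : g ∈ (I ^ n • ⊤ : Submodule A (E.X j →ₗ[A] M)) ⊓ extZ E M j := ⟨hgI, hgZ⟩
  rw [hc n hn] at hmem
  have hle : (I ^ (n - c) • (I ^ c • ⊤ ⊓ extZ E M j) : Submodule A (E.X j →ₗ[A] M)) ≤
      Submodule.map (extZ E M j).subtype (I ^ (n - c) • ⊤ : Submodule A (extZ E M j)) := by
    rw [Submodule.map_smul'', Submodule.map_subtype_top]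
    exact Submodule.smul_mono le_rfl inf_le_right
  obtain ⟨z, hz, hzg⟩ := hle hmem
  have h1 : Submodule.map (extRepL E M p j hij) (I ^ (n - c) • ⊤ : Submodule A (extZ E M j)) ≤
      (I ^ (n - c) • ⊤ : Submodule A (DRing.toD E ⟶ (Dual.inD A M)⟦p⟧)) := by
    rw [Submodule.map_smul'']
    exact Submodule.smul_mono le_rfl le_top
  have h2 := h1 (Submodule.mem_map_of_mem hz)
  rw [extRepL_apply] at h2
  convert h2 using 1
  apply extRep_congr
  apply ModuleCat.hom_ext
  rw [ModuleCat.hom_comp, ModuleCat.hom_ofHom, ModuleCat.hom_ofHom]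
  exact hzg.symm

end Groth.Agent.Helper3.DRingLib
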