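import Mathlib
import Groth.Prelude.Def_DRing3
import Groth.Agent.Helper3.DRing1

/-! The zigzag `L ← τ_{≤0} L → H⁰(L)[0]` and bijectivity of post-composition on
`Hom(F[0], -)` for projective `F`. -/

set_option autoImplicit false
universe u
open CategoryTheory CategoryTheory.Limits

namespace Groth.Agent.Helper3.DRingLib

attribute [local instance] HasDerivedCategory.standard

variable {A : Type u} [CommRing A]

open Pretriangulated DerivedCategory

/-- post-composition with `T.mor₁` is bijective on `Hom(G, -)` if `G ∈ D^{≤0}`, `T.obj₃ ∈ D^{≥1}` -/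
lemma postcomp_mor₁_bijective (G : Dual.D A) [G.IsLE 0] (T : Triangle (Dual.D A))
    (hT : T ∈ distTriang _) [T.obj₃.IsGE 1] :
    Function.Bijective (fun g : G ⟶ T.obj₁ => g ≫ T.mor₁) := by
  constructor
  · intro g₁ g₂ hg
    have h0 : (g₁ - g₂) ≫ T.mor₁ = 0 := by
      rw [Preadditive.sub_comp]; exact sub_eq_zero.mpr hg
    obtain ⟨(h : G ⟶ T.obj₃⟦(-1 : ℤ)⟧), hh⟩ :=
      Triangle.coyoneda_exact₂ T.invRotate (inv_rot_of_distTriang _ hT) (g₁ - g₂) h0
    have : (T.obj₃⟦(-1 : ℤ)⟧).IsGE 2 := TStructure.t.isGE_shift T.obj₃ 1 (-1) 2 (by omega)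
    have hz : h = 0 := TStructure.t.zero h 0 2 (by omega)
    rw [hz] at hh
    have hh' : g₁ - g₂ = 0 := hh.trans zero_comp
    exact sub_eq_zero.mp hh'
  · intro k
    have hz : k ≫ T.mor₂ = 0 := TStructure.t.zero _ 0 1 (by omega)
    obtain ⟨g, hg⟩ := Triangle.coyoneda_exact₂ T hT k hz
    exact ⟨g, hg.symm⟩

/-- post-composition with `T.mor₂` is bijective on `Hom(F[0], -)` if `F` is projective and
`T.obj₁ ∈ D^{≤-1}` -/
lemma postcomp_mor₂_bijective (P : DRing.Cx A) [P.IsKProjective] (hP : ∀ i, i < 0 → IsZero (P.X i))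
    (T : Triangle (Dual.D A)) (hT : T ∈ distTriang _) [T.obj₁.IsLE (-1)] :
    Function.Bijective (fun g : DRing.toD P ⟶ T.obj₂ => g ≫ T.mor₂) := by
  constructor
  · intro g₁ g₂ hg
    have h0 : (g₁ - g₂) ≫ T.mor₂ = 0 := by
      rw [Preadditive.sub_comp]; exact sub_eq_zero.mpr hg
    obtain ⟨h, hh⟩ := Triangle.coyoneda_exact₂ T hT (g₁ - g₂) h0
    have hz : h = 0 := hom_eq_zero_of_isLE P 0 hP T.obj₁ (-1) (by omega) h
    rw [hz] at hh
    have hh' : g₁ - g₂ = 0 := hh.trans zero_comp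
    exact sub_eq_zero.mp hh'
  · intro k
    have : (T.obj₁⟦(1 : ℤ)⟧).IsLE (-2) := TStructure.t.isLE_shift T.obj₁ (-1) 1 (-2) (by omega)
    have hz : k ≫ T.mor₃ = 0 := hom_eq_zero_of_isLE P 0 hP _ (-2) (by omega) _
    obtain ⟨g, hg⟩ := Triangle.coyoneda_exact₃ T hT k hz
    exact ⟨g, hg.symm⟩

/-- The zigzag. -/
lemma exists_zigzag (L : Dual.D A) :
    ∃ (L' : Dual.D A) (a : L' ⟶ L) (b : L' ⟶ Dual.inD A (Dual.HD A L 0)),
      ∀ (P : DRing.Cx A) [P.IsKProjective], (∀ i, i < 0 → IsZero (P.X i)) →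
        (∀ i, 0 < i → IsZero (P.X i)) →
        Function.Bijective (fun g : DRing.toD P ⟶ L' => g ≫ a) ∧
          Function.Bijective (fun g : DRing.toD P ⟶ L' => g ≫ b) := by
  obtain ⟨L', W, hL', hW, a, b₁, c, hT1⟩ := TStructure.t.exists_triangle L 0 1 rfl
  obtain ⟨U, Z, hU, hZ, c', b, d, hT2⟩ := TStructure.t.exists_triangle L' (-1) 0 (by omega)
  have iL' : L'.IsLE 0 := ⟨hL'⟩
  have iW : W.IsGE 1 := ⟨hW⟩
  have iU : U.IsLE (-1) := ⟨hU⟩
  have iZ : Z.IsGE 0 := ⟨hZ⟩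
  -- Z is ≤ 0
  have iZ' : Z.IsLE 0 := by
    rw [DerivedCategory.isLE_iff]
    intro i hi
    have ex := HomologySequence.exact₃ _ hT2 i (i + 1) rfl
    exact ex.isZero_of_both_isZero (L'.isZero_of_isLE 0 i hi) (U.isZero_of_isLE (-1) (i + 1) (by omega))
  obtain ⟨Y, ⟨eY⟩⟩ := exists_iso_singleFunctor_obj_of_isGE_of_isLE Z 0
  -- H⁰(L') ≅ H⁰(Z)
  have i1 : IsIso ((homologyFunctor (ModuleCat.{u} A) 0).map b) := by
    have hm : Mono ((homologyFunctor (ModuleCat.{u} A) 0).map b) :=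
      (HomologySequence.mono_homologyMap_mor₂_iff _ hT2 0).mpr
        ((U.isZero_of_isLE (-1) 0 (by omega)).eq_of_src _ _)
    have he : Epi ((homologyFunctor (ModuleCat.{u} A) 0).map b) :=
      (HomologySequence.epi_homologyMap_mor₂_iff _ hT2 0 1 rfl).mpr
        ((U.isZero_of_isLE (-1) 1 (by omega)).eq_of_tgt _ _)
    exact isIso_of_mono_of_epi _
  -- H⁰(L') ≅ H⁰(L)
  have i2 : IsIso ((homologyFunctor (ModuleCat.{u} A) 0).map a) := by
    have hm : Mono ((homologyFunctor (ModuleCat.{u} A) 0).map a) :=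
      (HomologySequence.mono_homologyMap_mor₁_iff _ hT1 (-1) 0 (by omega)).mpr
        ((W.isZero_of_isGE 1 (-1) (by omega)).eq_of_src _ _)
    have he : Epi ((homologyFunctor (ModuleCat.{u} A) 0).map a) :=
      (HomologySequence.epi_homologyMap_mor₁_iff _ hT1 0).mpr
        ((W.isZero_of_isGE 1 0 (by omega)).eq_of_tgt _ _)
    exact isIso_of_mono_of_epi _
  -- Y ≅ H⁰(L)
  let eH : Y ≅ (homologyFunctor (ModuleCat.{u} A) 0).obj L :=
    ((singleFunctorCompHomologyFunctorIso (ModuleCat.{u} A) 0).app Y).symm ≪≫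
      ((homologyFunctor (ModuleCat.{u} A) 0).mapIso eY).symm ≪≫
      (asIso ((homologyFunctor (ModuleCat.{u} A) 0).map b)).symm ≪≫
      asIso ((homologyFunctor (ModuleCat.{u} A) 0).map a)
  let eZ : Z ≅ Dual.inD A (Dual.HD A L 0) :=
    eY ≪≫ (singleFunctor (ModuleCat.{u} A) 0).mapIso eH
  refine ⟨L', a, b ≫ eZ.hom, ?_⟩
  intro P _ hP1 hP2
  have iP : (DRing.toD P).IsLE 0 := by
    have : P.IsStrictlyLE 0 := by
      rw [CochainComplex.isStrictlyLE_iff]; exact hP2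
    infer_instance
  have iW' : (Triangle.mk a b₁ c).obj₃.IsGE 1 := iW
  have iU' : (Triangle.mk c' b d).obj₁.IsLE (-1) := iU
  refine ⟨postcomp_mor₁_bijective (DRing.toD P) _ hT1, ?_⟩
  have h2 := postcomp_mor₂_bijective P hP1 _ hT2
  have h3 : Function.Bijective (fun g : DRing.toD P ⟶ Z => g ≫ eZ.hom) :=
    ⟨fun g₁ g₂ h => (cancel_mono _).mp h, fun k => ⟨k ≫ eZ.inv, by simp⟩⟩
  have := h3.comp h2
  have heq : (fun g : DRing.toD P ⟶ L' => g ≫ b ≫ eZ.hom) =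
      ((fun g : DRing.toD P ⟶ Z => g ≫ eZ.hom) ∘
        fun g : DRing.toD P ⟶ L' => g ≫ (Triangle.mk c' b d).mor₂) := by
    funext g
    simp
  rw [heq]
  exact this

end Groth.Agent.Helper3.DRingLib
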