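import Mathlib
import Groth.Prelude.Def_DRing3
import Groth.Agent.Helper3.DRingAway
import Groth.Agent.Helper3.DRingZig

/-! Derived completeness is detected on cohomology modules. -/

set_option autoImplicit false
universe u
open CategoryTheory CategoryTheory.Limits Polynomial

namespace Groth.Agent.Helper3.DRingLib

attribute [local instance] HasDerivedCategory.standard

variable {A : Type u} [CommRing A] (f : A)

/-- precomposition with `fX - 1` is bijective on `Hom(A[X][0], L)` -/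
def BijAt (L : Dual.D A) : Prop := Function.Bijective (fun g : sglF A ⟶ L => sglφ f ≫ g)

lemma bijAt_of_postcomp {L₁ L₂ : Dual.D A} (c : L₁ ⟶ L₂)
    (hc : Function.Bijective (fun g : sglF A ⟶ L₁ => g ≫ c)) : BijAt f L₁ ↔ BijAt f L₂ := by
  unfold BijAt
  have hcomm : (fun g : sglF A ⟶ L₁ => g ≫ c) ∘ (fun g : sglF A ⟶ L₁ => sglφ f ≫ g) =
      (fun g : sglF A ⟶ L₂ => sglφ f ≫ g) ∘ (fun g : sglF A ⟶ L₁ => g ≫ c) := by
    funext g
    simp
  rw [← Function.Bijective.of_comp_iff' hc, hcomm, Function.Bijective.of_comp_iff _ hc]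

lemma bijAt_iso {L₁ L₂ : Dual.D A} (e : L₁ ≅ L₂) : BijAt f L₁ ↔ BijAt f L₂ :=
  bijAt_of_postcomp f e.hom
    ⟨fun g₁ g₂ h => (cancel_mono _).mp h, fun k => ⟨k ≫ e.inv, by simp⟩⟩

instance : Projective (ModuleCat.of A A[X]) :=
  projective_obj _ (inferInstanceAs (Module.Projective A A[X]))

lemma bijAt_iff_H0 (L : Dual.D A) : BijAt f L ↔ BijAt f (Dual.inD A (Dual.HD A L 0)) := by
  obtain ⟨L', a, b, h⟩ := exists_zigzag L
  haveI := isKProjective_single (ModuleCat.of A A[X])
  obtain ⟨ha, hb⟩ := h ((CochainComplex.singleFunctor (ModuleCat.{u} A) 0).obj (ModuleCat.of A A[X]))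
    (fun i hi => HomologicalComplex.isZero_single_obj_X (ComplexShape.up ℤ) 0 _ i (by omega))
    (fun i hi => HomologicalComplex.isZero_single_obj_X (ComplexShape.up ℤ) 0 _ i (by omega))
  rw [← bijAt_of_postcomp f a ha, bijAt_of_postcomp f b hb]

lemma dcf_module_iff_bijAt (M : Type u) [AddCommGroup M] [Module A M] :
    DCf f (Dual.inD A M) ↔ BijAt f (Dual.inD A M) := by
  rw [dcf_module_iff, ← bijective_shift_zero_iff]
  exact bijAt_iso f ((shiftFunctorZero (Dual.D A) ℤ).app (Dual.inD A M))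

/-- The iso `H⁰(K⟦n⟧) ≅ Hⁿ(K)`. -/
noncomputable def HDShiftIso (K : Dual.D A) (n : ℤ) :
    (DerivedCategory.homologyFunctor (ModuleCat.{u} A) 0).obj (K⟦n⟧) ≅
      (DerivedCategory.homologyFunctor (ModuleCat.{u} A) n).obj K :=
  ((DerivedCategory.homologyFunctor (ModuleCat.{u} A) 0).shiftIso n 0 n (by omega)).app K

theorem dcf_iff_homology (K : Dual.D A) :
    DCf f K ↔ ∀ n : ℤ, DCf f (Dual.inD A (Dual.HD A K n)) := by
  rw [dcf_iff_bijective]
  refine forall_congr' fun n => ?_
  change BijAt f (K⟦n⟧) ↔ _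
  rw [bijAt_iff_H0, dcf_module_iff_bijAt]
  exact bijAt_iso f ((DerivedCategory.singleFunctor (ModuleCat.{u} A) 0).mapIso (HDShiftIso K n))

theorem isDerivedComplete_iff_homology (I : Ideal A) (K : Dual.D A) :
    DRing.IsDerivedComplete I K ↔ ∀ i : ℤ, DRing.IsDerivedComplete I (Dual.inD A (Dual.HD A K i)) := by
  simp only [isDerivedComplete_iff_dcf]
  constructor
  · intro h i f hf
    exact (dcf_iff_homology f K).mp (h f hf) i
  · intro h f hf
    exact (dcf_iff_homology f K).mpr (fun i => h i f hf)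

end Groth.Agent.Helper3.DRingLib
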