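import Mathlib
import Groth.Prelude.Def_DRing2

/-! The homology functor on `D(A)` is `A`-linear. -/

set_option autoImplicit false
universe u
open CategoryTheory CategoryTheory.Limits

namespace Groth.Agent.Helper3.DRingLib

attribute [local instance] HasDerivedCategory.standard

variable {A : Type u} [CommRing A]

lemma homologyMap_smul' {K L : DRing.Cx A} (φ : K ⟶ L) (x : A) (i : ℤ) :
    HomologicalComplex.homologyMap (x • φ) i = x • HomologicalComplex.homologyMap φ i := by
  have h : (HomologicalComplex.shortComplexFunctor (ModuleCat.{u} A) (ComplexShape.up ℤ) i).map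
      (x • φ) = x • (HomologicalComplex.shortComplexFunctor (ModuleCat.{u} A)
        (ComplexShape.up ℤ) i).map φ := by
    ext <;> rfl
  change ShortComplex.homologyMap _ = x • ShortComplex.homologyMap _
  rw [h]
  exact ShortComplex.homologyMap_smul _ _

lemma homologyFunctor_map_smul_id (K : Dual.D A) (x : A) (i : ℤ) :
    (DerivedCategory.homologyFunctor (ModuleCat.{u} A) i).map (x • 𝟙 K) =
      x • 𝟙 ((DerivedCategory.homologyFunctor (ModuleCat.{u} A) i).obj K) := by
  obtain ⟨K', ⟨e⟩⟩ : ∃ K' : DRing.Cx A, Nonempty (DerivedCategory.Q.obj K' ≅ K) :=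
    ⟨_, ⟨(DerivedCategory.Q.objObjPreimageIso K)⟩⟩
  have h1 : x • 𝟙 K = e.inv ≫ DerivedCategory.Q.map (x • 𝟙 K') ≫ e.hom := by
    rw [Functor.map_smul, CategoryTheory.Functor.map_id, Linear.smul_comp, Linear.comp_smul,
      Category.id_comp, Iso.inv_hom_id]
  have h2 : (DerivedCategory.homologyFunctor (ModuleCat.{u} A) i).map
      (DerivedCategory.Q.map (x • 𝟙 K')) =
      x • 𝟙 ((DerivedCategory.homologyFunctor (ModuleCat.{u} A) i).obj
        (DerivedCategory.Q.obj K')) := by
    have hmap : (HomologicalComplex.homologyFunctor (ModuleCat.{u} A) (ComplexShape.up ℤ) i).map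
        (x • 𝟙 K') = x • 𝟙 ((HomologicalComplex.homologyFunctor (ModuleCat.{u} A)
          (ComplexShape.up ℤ) i).obj K') := by
      rw [HomologicalComplex.homologyFunctor_map, homologyMap_smul',
        HomologicalComplex.homologyMap_id]
      rfl
    have nat := (DerivedCategory.homologyFunctorFactors (ModuleCat.{u} A) i).hom.naturality
      (x • 𝟙 K')
    rw [hmap, Linear.comp_smul, Category.comp_id] at nat
    have nat2 := congrArg
      (fun z => z ≫ (DerivedCategory.homologyFunctorFactors (ModuleCat.{u} A) i).inv.app K') nat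
    rw [Category.assoc, Linear.smul_comp, Iso.hom_inv_id_app] at nat2
    erw [Category.comp_id] at nat2
    exact nat2
  rw [h1, Functor.map_comp, Functor.map_comp, h2, Linear.smul_comp, Linear.comp_smul,
    Category.id_comp, ← Functor.map_comp, Iso.inv_hom_id, CategoryTheory.Functor.map_id]

lemma homologyFunctor_map_smul {K L : Dual.D A} (φ : K ⟶ L) (x : A) (i : ℤ) :
    (DerivedCategory.homologyFunctor (ModuleCat.{u} A) i).map (x • φ) =
      x • (DerivedCategory.homologyFunctor (ModuleCat.{u} A) i).map φ := by
  have : x • φ = (x • 𝟙 K) ≫ φ := by rw [Linear.smul_comp, Category.id_comp]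
  rw [this, Functor.map_comp, homologyFunctor_map_smul_id, Linear.smul_comp, Category.id_comp]

lemma HD_map_smul_id_apply (K : Dual.D A) (x : A) (i : ℤ) (y : Dual.HD A K i) :
    ((DerivedCategory.homologyFunctor (ModuleCat.{u} A) i).map (x • 𝟙 K)).hom y = x • y := by
  rw [homologyFunctor_map_smul_id]
  rfl

end Groth.Agent.Helper3.DRingLib
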