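import Mathlib
import Groth.Prelude.Def_DRing3
import Groth.Agent.Helper3.DRingAway

/-! Algebra of the sequence operator `(x_n) ↦ (f x_{n+1} - x_n)`: permanence properties of
derived complete modules (kernels, quotients, images, cokernels). -/

set_option autoImplicit false
universe u
open CategoryTheory CategoryTheory.Limits

namespace Groth.Agent.Helper3.DRingLib

attribute [local instance] HasDerivedCategory.standard

variable {A : Type u} [CommRing A] (f : A)

lemma seqOp_sub {M : Type u} [AddCommGroup M] [Module A M] (x y : ℕ → M) :
    seqOp f M (x - y) = seqOp f M x - seqOp f M y := by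
  funext n
  simp only [seqOp, Pi.sub_apply, smul_sub]
  abel

lemma seqOp_zero {M : Type u} [AddCommGroup M] [Module A M] :
    seqOp f M (0 : ℕ → M) = 0 := by
  funext n
  simp [seqOp]

lemma seqOp_injective_iff {M : Type u} [AddCommGroup M] [Module A M] :
    Function.Injective (seqOp f M) ↔ ∀ x : ℕ → M, seqOp f M x = 0 → x = 0 := by
  constructor
  · intro h x hx
    exact h (hx.trans (seqOp_zero f).symm)
  · intro h x y hxy
    have := h (x - y) (by rw [seqOp_sub, hxy, sub_self])
    exact sub_eq_zero.mp this

lemma seqOp_map {M N : Type u} [AddCommGroup M] [Module A M] [AddCommGroup N] [Module A N]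
    (u : M →ₗ[A] N) (x : ℕ → M) :
    seqOp f N (fun n => u (x n)) = fun n => u (seqOp f M x n) := by
  funext n
  simp [seqOp]

lemma seqOp_bijective_of_equiv {M N : Type u} [AddCommGroup M] [Module A M] [AddCommGroup N]
    [Module A N] (e : M ≃ₗ[A] N) (h : Function.Bijective (seqOp f M)) :
    Function.Bijective (seqOp f N) := by
  constructor
  · rw [seqOp_injective_iff]
    intro x hx
    have h1 : seqOp f M (fun n => e.symm (x n)) = 0 := by
      have := seqOp_map f e.symm.toLinearMap x
      simp only [LinearEquiv.coe_coe] at this
      rw [this, hx]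
      funext n
      simp
    have h2 := (seqOp_injective_iff f).mp h.1 _ h1
    funext n
    have := congrFun h2 n
    simpa using this
  · intro y
    obtain ⟨x, hx⟩ := h.2 (fun n => e.symm (y n))
    refine ⟨fun n => e (x n), ?_⟩
    have := seqOp_map f e.toLinearMap x
    simp only [LinearEquiv.coe_coe] at this
    rw [this, hx]
    funext n
    simp

lemma seqOp_bijective_ker {M N : Type u} [AddCommGroup M] [Module A M] [AddCommGroup N]
    [Module A N] (u : M →ₗ[A] N) (hM : Function.Bijective (seqOp f M))
    (hN : Function.Injective (seqOp f N)) :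
    Function.Bijective (seqOp f (LinearMap.ker u)) := by
  constructor
  · rw [seqOp_injective_iff]
    intro x hx
    have h1 : seqOp f M (fun n => (x n : M)) = 0 := by
      have := seqOp_map f (LinearMap.ker u).subtype x
      simp only [Submodule.subtype_apply] at this
      rw [this, hx]
      rfl
    have h2 := (seqOp_injective_iff f).mp hM.1 _ h1
    funext n
    exact Subtype.ext (congrFun h2 n)
  · intro y
    obtain ⟨x, hx⟩ := hM.2 (fun n => (y n : M))
    have hux : (fun n => u (x n)) = 0 := by
      apply (seqOp_injective_iff f).mp hN
      rw [seqOp_map, hx]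
      funext n
      exact (y n).2
    refine ⟨fun n => ⟨x n, congrFun hux n⟩, ?_⟩
    funext n
    apply Subtype.ext
    have := congrFun hx n
    simpa [seqOp] using this

lemma seqOp_bijective_quot {M : Type u} [AddCommGroup M] [Module A M] (K : Submodule A M)
    (hM : Function.Bijective (seqOp f M)) (hK : Function.Surjective (seqOp f K)) :
    Function.Bijective (seqOp f (M ⧸ K)) := by
  constructor
  · rw [seqOp_injective_iff]
    intro x hx
    choose x' hx' using fun n => Submodule.Quotient.mk_surjective K (x n)
    have h1 : ∀ n, seqOp f M x' n ∈ K := by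
      intro n
      rw [← Submodule.Quotient.mk_eq_zero K]
      have := congrFun (seqOp_map f K.mkQ x') n
      simp only [Submodule.mkQ_apply] at this
      rw [← this]
      have hxx : (fun n => Submodule.Quotient.mk (x' n)) = x := funext hx'
      rw [hxx, hx]
      rfl
    obtain ⟨k, hk⟩ := hK (fun n => ⟨seqOp f M x' n, h1 n⟩)
    have h2 : seqOp f M (fun n => (k n : M)) = seqOp f M x' := by
      have := seqOp_map f K.subtype k
      simp only [Submodule.subtype_apply] at this
      rw [this, hk]
    have h3 := hM.1 h2
    funext n
    rw [← hx' n, ← congrFun h3 n]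
    exact (Submodule.Quotient.mk_eq_zero K).mpr (k n).2
  · intro y
    choose y' hy' using fun n => Submodule.Quotient.mk_surjective K (y n)
    obtain ⟨x, hx⟩ := hM.2 y'
    refine ⟨fun n => Submodule.Quotient.mk (x n), ?_⟩
    have := seqOp_map f K.mkQ x
    simp only [Submodule.mkQ_apply] at this
    rw [this, hx]
    exact funext hy'

lemma seqOp_bijective_range {M N : Type u} [AddCommGroup M] [Module A M] [AddCommGroup N]
    [Module A N] (u : M →ₗ[A] N) (hM : Function.Bijective (seqOp f M))
    (hN : Function.Injective (seqOp f N)) :
    Function.Bijective (seqOp f (LinearMap.range u)) :=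
  seqOp_bijective_of_equiv f u.quotKerEquivRange
    (seqOp_bijective_quot f _ hM (seqOp_bijective_ker f u hM hN).2)

lemma seqOp_bijective_coker {M N : Type u} [AddCommGroup M] [Module A M] [AddCommGroup N]
    [Module A N] (u : M →ₗ[A] N) (hM : Function.Bijective (seqOp f M))
    (hN : Function.Bijective (seqOp f N)) :
    Function.Bijective (seqOp f (N ⧸ LinearMap.range u)) :=
  seqOp_bijective_quot f _ hN (seqOp_bijective_range f u hM hN.1).2

lemma seqOp_bijective_pi {ι : Type u} {M : Type u} [AddCommGroup M] [Module A M]
    (h : Function.Bijective (seqOp f M)) : Function.Bijective (seqOp f (ι → M)) := by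
  constructor
  · rw [seqOp_injective_iff]
    intro x hx
    funext n i
    have h1 : seqOp f M (fun n => x n i) = 0 := by
      funext n
      have := congrFun (congrFun hx n) i
      simpa [seqOp] using this
    exact congrFun ((seqOp_injective_iff f).mp h.1 _ h1) n
  · intro y
    choose x hx using fun i => h.2 (fun n => y n i)
    refine ⟨fun n i => x i n, ?_⟩
    funext n i
    have := congrFun (hx i) n
    simpa [seqOp] using this

lemma seqOp_bijective_of_finite_free {M : Type u} [AddCommGroup M] [Module A M]
    [Module.Finite A M] [Module.Free A M] (h : Function.Bijective (seqOp f A)) :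
    Function.Bijective (seqOp f M) := by
  have e := (Module.Free.chooseBasis A M).equivFun
  have h1 : Function.Bijective (seqOp f (ULift.{u} (Module.Free.ChooseBasisIndex A M) → A)) :=
    seqOp_bijective_pi f h
  exact seqOp_bijective_of_equiv f
    ((LinearEquiv.funCongrLeft A A Equiv.ulift).symm ≪≫ₗ e.symm) h1

lemma seqOp_bijective_homology (S : ShortComplex (ModuleCat.{u} A))
    (h1 : Function.Bijective (seqOp f S.X₁)) (h2 : Function.Bijective (seqOp f S.X₂))
    (h3 : Function.Injective (seqOp f S.X₃)) : Function.Bijective (seqOp f S.homology) := by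
  have hk := seqOp_bijective_ker f S.g.hom h2 h3
  have hc := seqOp_bijective_coker f S.moduleCatToCycles h1 hk
  exact seqOp_bijective_of_equiv f S.moduleCatHomologyIso.toLinearEquiv.symm hc

/-- If `seqOp f` is bijective on all terms of a complex, it is so on all cohomology modules of
its image in `D(A)`. -/
lemma seqOp_bijective_HD_toD (E : DRing.Cx A) (h : ∀ i, Function.Bijective (seqOp f (E.X i)))
    (i : ℤ) : Function.Bijective (seqOp f (Dual.HD A (DRing.toD E) i)) := by
  have h1 := seqOp_bijective_homology f (E.sc i) (h _) (h _) (h _).1
  exact seqOp_bijective_of_equiv f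
    ((DerivedCategory.homologyFunctorFactors (ModuleCat.{u} A) i).app E).toLinearEquiv.symm h1

end Groth.Agent.Helper3.DRingLib
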