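import Mathlib
import Groth.Prelude.Def_DRing3
import Groth.Agent.Helper3.DRingSeq

/-! Nakayama for derived complete modules and the ideal property of the set of `f` for which a
module is derived `f`-complete. -/

set_option autoImplicit false
universe u
open CategoryTheory CategoryTheory.Limits

namespace Groth.Agent.Helper3.DRingLib

attribute [local instance] HasDerivedCategory.standard

/-- Nakayama: a module derived complete w.r.t. each element of a finite set `s` with
`(s) M = M` is zero. -/
theorem subsingleton_of_span_smul_top {A : Type u} [CommRing A] [DecidableEq A] :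
    ∀ (s : Finset A) (M : Type u) [AddCommGroup M] [Module A M],
      (∀ f ∈ s, Function.Bijective (Groth.Agent.Helper3.DRingLib.seqOp f M)) →
      (Ideal.span (s : Set A)) • (⊤ : Submodule A M) = ⊤ → Subsingleton M := by
  intro s
  induction s using Finset.induction_on with
  | empty =>
    intro M _ _ _ h
    simp only [Finset.coe_empty, Ideal.span_empty, Submodule.bot_smul] at h
    exact (Submodule.subsingleton_iff A).mp ⟨fun a b => by
      have ha : a = ⊥ := by rw [eq_bot_iff, h]; exact le_top
      have hb : b = ⊥ := by rw [eq_bot_iff, h]; exact le_top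
      rw [ha, hb]⟩
  | insert g s' hg ih =>
    intro M _ _ hbij h
    let u : M →ₗ[A] M := LinearMap.lsmul A M g
    have hN : Subsingleton (M ⧸ LinearMap.range u) := by
      apply ih
      · intro f hf
        have := hbij f (Finset.mem_insert_of_mem hf)
        exact Groth.Agent.Helper3.DRingLib.seqOp_bijective_coker f u this this
      · rw [eq_top_iff]
        rintro n -
        obtain ⟨m, rfl⟩ := Submodule.Quotient.mk_surjective _ n
        have hm : m ∈ (Ideal.span ((insert g s' : Finset A) : Set A)) • (⊤ : Submodule A M) := by
          rw [h]; trivial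
        rw [Finset.coe_insert, Ideal.span_insert, Submodule.sup_smul] at hm
        obtain ⟨a, ha, b, hb, rfl⟩ := Submodule.mem_sup.mp hm
        rw [Submodule.ideal_span_singleton_smul, Submodule.mem_smul_pointwise_iff_exists] at ha
        obtain ⟨m', _, rfl⟩ := ha
        have h1 : Submodule.Quotient.mk (p := LinearMap.range u) (g • m' + b) =
            (LinearMap.range u).mkQ b := by
          rw [Submodule.Quotient.mk_add, Submodule.mkQ_apply]
          have : Submodule.Quotient.mk (p := LinearMap.range u) (g • m') = 0 :=
            (Submodule.Quotient.mk_eq_zero _).mpr ⟨m', rfl⟩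
          rw [this, zero_add]
        rw [h1]
        have h2 : (LinearMap.range u).mkQ b ∈
            Submodule.map (LinearMap.range u).mkQ (Ideal.span (s' : Set A) • (⊤ : Submodule A M)) :=
          Submodule.mem_map_of_mem hb
        rw [Submodule.map_smul''] at h2
        exact Submodule.smul_mono le_rfl le_top h2
    have hsurj : Function.Surjective u := by
      rw [← LinearMap.range_eq_top]
      exact Submodule.Quotient.subsingleton_iff.mp hN
    refine ⟨fun m₁ m₂ => ?_⟩
    have hzero : ∀ m : M, m = 0 := by
      intro m
      choose v hv using hsurj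
      let x : ℕ → M := fun n => Nat.rec m (fun _ y => v y) n
      have hx : Groth.Agent.Helper3.DRingLib.seqOp g M x =
          Groth.Agent.Helper3.DRingLib.seqOp g M 0 := by
        rw [Groth.Agent.Helper3.DRingLib.seqOp_zero]
        funext n
        simp only [Groth.Agent.Helper3.DRingLib.seqOp, Pi.zero_apply]
        have : g • x (n + 1) = x n := hv (x n)
        rw [this, sub_self]
      have := congrFun ((hbij g (Finset.mem_insert_self g s')).1 hx) 0
      exact this
    rw [hzero m₁, hzero m₂]

variable {A : Type u} [CommRing A]

lemma seqOp_bijective_pi₀ {ι : Type} (f : A) {M : Type u} [AddCommGroup M] [Module A M]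
    (h : Function.Bijective (seqOp f M)) : Function.Bijective (seqOp f (ι → M)) := by
  constructor
  · rw [seqOp_injective_iff]
    intro x hx
    funext n i
    have h1 : seqOp f M (fun n => x n i) = 0 := by
      funext n
      have := congrFun (congrFun hx n) i
      simpa [seqOp] using this
    exact congrFun ((seqOp_injective_iff f).mp h.1 _ h1) n
  · intro y
    choose x hx using fun i => h.2 (fun n => y n i)
    refine ⟨fun n i => x i n, ?_⟩
    funext n i
    have := congrFun (hx i) n
    simpa [seqOp] using this

/-- The operator `T_h` as a linear map on sequences. -/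
def seqOpₗ (h : A) (M : Type u) [AddCommGroup M] [Module A M] : (ℕ → M) →ₗ[A] (ℕ → M) where
  toFun := seqOp h M
  map_add' x y := by
    funext n
    simp only [seqOp, Pi.add_apply, smul_add]
    abel
  map_smul' a x := by
    funext n
    simp only [seqOp, Pi.smul_apply, RingHom.id_apply, smul_sub, smul_comm h a]

/-- If `M` is derived complete w.r.t. each element of a finite set `s` and a power of `h` lies in
the ideal generated by `s`, then `M` is derived `h`-complete. -/
theorem seqOp_bijective_of_pow_mem (s : Finset A) (M : Type u) [AddCommGroup M] [Module A M]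
    (hM : ∀ f ∈ s, Function.Bijective (seqOp f M)) (h : A) (n : ℕ)
    (hn : h ^ n ∈ Ideal.span (s : Set A)) : Function.Bijective (seqOp h M) := by
  classical
  have hW : ∀ f ∈ s, Function.Bijective (seqOp f (ℕ → M)) := fun f hf =>
    seqOp_bijective_pi₀ f (hM f hf)
  let τ := seqOpₗ h M
  -- the shift
  let σ : (ℕ → M) →ₗ[A] (ℕ → M) :=
    { toFun := fun x k => x (k + 1), map_add' := fun _ _ => rfl, map_smul' := fun _ _ => rfl }
  have hστ : ∀ x, τ (σ x) = σ (τ x) := fun x => rfl
  have hid : ∀ x : ℕ → M, h • σ x = x + τ x := by
    intro x
    funext k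
    change h • x (k + 1) = x k + (h • x (k + 1) - x k)
    abel
  -- kernel
  have hK : Subsingleton (LinearMap.ker τ) := by
    apply subsingleton_of_span_smul_top s
    · intro f hf
      exact seqOp_bijective_ker f τ (hW f hf) (hW f hf).1
    · rw [eq_top_iff]
      rintro ⟨x, hx⟩ -
      have hx0 : τ x = 0 := hx
      -- x = h^n • σ^n x
      have hpow : ∀ (k : ℕ) (x : ℕ → M), τ x = 0 → ∃ y : ℕ → M, τ y = 0 ∧ h ^ k • y = x := by
        intro k
        induction k with
        | zero => intro x hx; exact ⟨x, hx, by simp⟩
        | succ k ih =>
          intro x hx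
          obtain ⟨y, hy0, hy⟩ := ih x hx
          refine ⟨σ y, by rw [hστ, hy0, map_zero], ?_⟩
          rw [pow_succ, mul_smul, hid y, hy0, add_zero, hy]
      obtain ⟨y, hy0, hy⟩ := hpow n x hx0
      have : (⟨x, hx⟩ : LinearMap.ker τ) = h ^ n • (⟨y, hy0⟩ : LinearMap.ker τ) :=
        Subtype.ext hy.symm
      rw [this]
      exact Submodule.smul_mem_smul hn trivial
  have hC : Subsingleton ((ℕ → M) ⧸ LinearMap.range τ) := by
    apply subsingleton_of_span_smul_top s
    · intro f hf
      exact seqOp_bijective_coker f τ (hW f hf) (hW f hf)
    · rw [eq_top_iff]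
      rintro c -
      obtain ⟨x, rfl⟩ := Submodule.Quotient.mk_surjective _ c
      have hpow : ∀ (k : ℕ) (x : ℕ → M), ∃ y : ℕ → M,
          Submodule.Quotient.mk (p := LinearMap.range τ) (h ^ k • y) =
            Submodule.Quotient.mk (p := LinearMap.range τ) x := by
        intro k
        induction k with
        | zero => intro x; exact ⟨x, by simp⟩
        | succ k ih =>
          intro x
          obtain ⟨y, hy⟩ := ih x
          refine ⟨σ y, ?_⟩
          rw [← hy, pow_succ, mul_smul, hid y, smul_add, Submodule.Quotient.mk_add]
          have : Submodule.Quotient.mk (p := LinearMap.range τ) (h ^ k • τ y) = 0 := by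
            rw [Submodule.Quotient.mk_eq_zero, ← map_smul]
            exact LinearMap.mem_range_self _ _
          rw [this, add_zero]
      obtain ⟨y, hy⟩ := hpow n x
      rw [← hy, Submodule.Quotient.mk_smul]
      exact Submodule.smul_mem_smul hn trivial
  constructor
  · rw [seqOp_injective_iff]
    intro x hx
    have : (⟨x, hx⟩ : LinearMap.ker τ) = 0 := Subsingleton.elim _ _
    exact congrArg Subtype.val this
  · have : LinearMap.range τ = ⊤ := Submodule.Quotient.subsingleton_iff.mp hC
    exact LinearMap.range_eq_top.mp this

end Groth.Agent.Helper3.DRingLib
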