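import Mathlib
import Groth.Prelude.Def_DRing2
import Groth.Agent.Helper3.DRingPC5
import Groth.Agent.Helper3.DRingPeel

/-! A pseudo-coherent object maps to a shifted finitely presented module injectively on `H^i`. -/

set_option autoImplicit false
universe u
open CategoryTheory CategoryTheory.Limits

namespace Groth.Agent.Helper3.DRingLib

attribute [local instance] HasDerivedCategory.standard

open Pretriangulated DerivedCategory ZeroObject

variable {A : Type u} [CommRing A]

/-- An object of `D^{≤ i}` with finitely presented `H^i` maps to `H^i[-i]` isomorphically on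
`H^i`. -/
lemma exists_hom_to_shift_of_isLE (K : Dual.D A) (i : ℤ) [K.IsLE i]
    (hfp : Module.FinitePresentation A (Dual.HD A K i)) :
    ∃ (M : ModuleCat.{u} A) (_ : Module.FinitePresentation A M)
      (f : K ⟶ ((DerivedCategory.singleFunctor (ModuleCat.{u} A) 0).obj M)⟦-i⟧),
      Mono ((homologyFunctor (ModuleCat.{u} A) i).map f) := by
  obtain ⟨X, Y, hX, hY, f, g, δ, hT⟩ := TStructure.t.exists_triangle K (i - 1) i (by omega)
  have iX : X.IsLE (i - 1) := ⟨hX⟩
  have iY : Y.IsGE i := ⟨hY⟩
  have iX' : (Triangle.mk f g δ).obj₁.IsLE (i - 1) := iX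
  have hg : ∀ j, i ≤ j → IsIso ((homologyFunctor (ModuleCat.{u} A) j).map g) :=
    fun j hj => isIso_HD_mor₂ _ hT (i - 1) j (by omega)
  have iYm : Y.IsLE i := by
    rw [DerivedCategory.isLE_iff]
    intro j hj
    have := hg j hj.le
    exact (K.isZero_of_isLE i j hj).of_iso
      (asIso ((homologyFunctor (ModuleCat.{u} A) j).map g)).symm
  obtain ⟨e⟩ := exists_iso_single_HD Y i
  have := hg i le_rfl
  have hfp' : Module.FinitePresentation A (Dual.HD A Y i) :=
    finitePresentation_of_iso (asIso ((homologyFunctor (ModuleCat.{u} A) i).map g)) hfp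
  refine ⟨ModuleCat.of A (Dual.HD A Y i), hfp', g ≫ e.hom, ?_⟩
  rw [Functor.map_comp]
  infer_instance

theorem exists_hom_to_shift_aux (i : ℤ) (n : ℕ) : ∀ (P : DRing.Cx A) (b : ℤ), b ≤ i + n →
    DRing.VanishesAbove P b → DRing.TermwiseFiniteFree P →
    ∃ (M : ModuleCat.{u} A) (_ : Module.FinitePresentation A M)
      (f : DRing.toD P ⟶ ((DerivedCategory.singleFunctor (ModuleCat.{u} A) 0).obj M)⟦-i⟧),
      Mono ((homologyFunctor (ModuleCat.{u} A) i).map f) := by
  induction n with
  | zero =>
    intro P b hb hv hff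
    have hv' : DRing.VanishesAbove P i := fun j hj => hv j (by simp at hb; omega)
    have := isStrictlyLE_of_vanishesAbove P i hv'
    have : (DRing.toD P).IsLE i := inferInstance
    have hfp : DRing.TermwiseFiniteProjective P := fun j => by
      obtain ⟨h1, h2⟩ := hff j
      exact ⟨h1, inferInstance⟩
    have := finitePresentation_homology_of_exact_above P hfp i hv' i
      (fun j hj => (DRing.toD P).isZero_of_isLE i j hj)
    exact exists_hom_to_shift_of_isLE (DRing.toD P) i this
  | succ n ih =>
    intro P b hb hv hff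
    by_cases hb' : b ≤ i + n
    · exact ih P b hb' hv hff
    obtain ⟨P', π, ι, δ, hv', hπ, hT⟩ := exists_peel_top P b hv
    have hff' : DRing.TermwiseFiniteFree P' := by
      intro j
      by_cases hj : j ≤ b - 1
      · have := hπ j hj
        obtain ⟨h1, h2⟩ := hff j
        let e := (asIso (π.f j)).toLinearEquiv
        exact ⟨Module.Finite.equiv e, Module.Free.of_equiv e⟩
      · have := ModuleCat.subsingleton_of_isZero (hv' j (by omega))
        exact ⟨inferInstance, inferInstance⟩
    obtain ⟨M, hM, f, hf⟩ := ih P' (b - 1) (by push_cast at hb; omega) hv' hff'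
    refine ⟨M, hM, DerivedCategory.Q.map π ≫ f, ?_⟩
    have hz : IsZero ((homologyFunctor (ModuleCat.{u} A) i).obj
        ((DerivedCategory.singleFunctor (ModuleCat.{u} A) b).obj (P.X b))) :=
      ((DerivedCategory.singleFunctor (ModuleCat.{u} A) b).obj (P.X b)).isZero_of_isGE b i
        (by omega)
    have hm : Mono ((homologyFunctor (ModuleCat.{u} A) i).map (DerivedCategory.Q.map π)) :=
      (HomologySequence.mono_homologyMap_mor₂_iff _ hT i).mpr (hz.eq_of_src _ _)
    rw [Functor.map_comp]
    exact mono_comp _ _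

theorem exists_hom_to_shift_of_isPseudoCoherent' (K : Dual.D A)
    (hK : DRing.IsPseudoCoherent' A K) (i : ℤ) :
    ∃ (M : ModuleCat.{u} A) (_ : Module.FinitePresentation A M)
      (f : K ⟶ ((DerivedCategory.singleFunctor (ModuleCat.{u} A) 0).obj M)⟦-i⟧),
      Mono ((homologyFunctor (ModuleCat.{u} A) i).map f) := by
  obtain ⟨E, b, hv, hff, ⟨e⟩⟩ := hK
  obtain ⟨M, hM, f, hf⟩ := exists_hom_to_shift_aux i (b - i).toNat E b (by omega) hv hff
  refine ⟨M, hM, e.inv ≫ f, ?_⟩
  rw [Functor.map_comp]
  exact mono_comp _ _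

end Groth.Agent.Helper3.DRingLib
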