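import Mathlib
import Groth.Prelude.Def_DRing2
import Groth.Agent.Helper3.DRing1
import Groth.Agent.Helper3.DRingTor3

/-! Splitting `K ≅ τ_{<n} K ⊕ τ_{≥n} K` when `K` is represented by a bounded above complex of
projectives `P` with `coker(P^{n-1} → P^n)` projective. -/

set_option autoImplicit false
universe u
open CategoryTheory CategoryTheory.Limits CategoryTheory.Pretriangulated

namespace Groth.Agent.Helper3.DRingLib

attribute [local instance] HasDerivedCategory.standard

open DerivedCategory

variable {A : Type u} [CommRing A]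

lemma quasiIso_X₃ (P : DRing.Cx A) (n₀ n₁ : ℤ) (h : n₀ + 1 = n₁) :
    QuasiIso (P.shortComplexTruncLEX₃ToTruncGE n₀ n₁ h) := by
  unfold CochainComplex.shortComplexTruncLEX₃ToTruncGE
  infer_instance

set_option backward.defeqAttrib.useBackward true in
set_option backward.isDefEq.respectTransparency false in
/-- The canonical truncation triangle `Q(τ_{≤n₀}P) → Q(P) → Q(τ_{≥n₁}P) →` is distinguished. -/
lemma exists_truncTriangle_distinguished (P : DRing.Cx A) (n₀ n₁ : ℤ) (h : n₀ + 1 = n₁) :
    ∃ δ : Q.obj (P.truncGE n₁) ⟶ (Q.obj (P.truncLE n₀))⟦(1 : ℤ)⟧,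
      Triangle.mk (Q.map (P.ιTruncLE n₀)) (Q.map (P.πTruncGE n₁)) δ ∈ distTriang (Dual.D A) := by
  have hS := P.shortComplexTruncLE_shortExact n₀
  have hq := quasiIso_X₃ P n₀ n₁ h
  have : IsIso (Q.map (P.shortComplexTruncLEX₃ToTruncGE n₀ n₁ h)) :=
    (isIso_Q_map_iff_quasiIso (ModuleCat.{u} A) _).mpr hq
  refine ⟨inv (Q.map (P.shortComplexTruncLEX₃ToTruncGE n₀ n₁ h)) ≫ (triangleOfSES hS).mor₃,
    isomorphic_distinguished _ (triangleOfSES_distinguished hS) _ (Iso.symm ?_)⟩
  refine Triangle.isoMk _ _ (Iso.refl _) (Iso.refl _)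
    (asIso (Q.map (P.shortComplexTruncLEX₃ToTruncGE n₀ n₁ h))) ?_ ?_ (by simp)
  · dsimp
    rw [Category.id_comp, Category.comp_id]
    rfl
  · dsimp
    rw [← Q.map_comp, CochainComplex.g_shortComplexTruncLEX₃ToTruncGE .., Category.id_comp]

set_option backward.defeqAttrib.useBackward true in
set_option backward.isDefEq.respectTransparency false in
/-- `Q(τ_{≥n}P) ≅ τ_{≥n}(Q P)` compatibly with the projections. -/
lemma exists_iso_truncGE (P : DRing.Cx A) (n : ℤ) :
    ∃ e : Q.obj (P.truncGE n) ≅ (TStructure.t.truncGE n).obj (Q.obj P),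
      Q.map (P.πTruncGE n) ≫ e.hom = (TStructure.t.truncGEπ n).app (Q.obj P) := by
  obtain ⟨δ, hδ⟩ := exists_truncTriangle_distinguished P (n - 1) n (by omega)
  obtain ⟨e', he'⟩ := TStructure.t.triangle_iso_exists hδ
    (TStructure.t.triangleLTGE_distinguished n (Q.obj P)) (Iso.refl _) (n - 1) n
    (by dsimp; infer_instance) (by dsimp; infer_instance)
    (by dsimp; infer_instance) (by dsimp; infer_instance)
  refine ⟨(Triangle.π₃).mapIso e', ?_⟩
  have := e'.hom.comm₂
  dsimp at this he' ⊢
  rw [this, he', Category.id_comp]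

/-- The truncation `τ_{≥n}P` of a bounded above complex of projectives with projective
`coker(P^{n-1} → P^n)` is a complex of projectives in `[n, b]`. -/
lemma truncGE_projective (P : DRing.Cx A) (b : ℤ) (hb : DRing.VanishesAbove P b)
    (hproj : ∀ i : ℤ, Module.Projective A (P.X i)) (m n : ℤ) (hmn : m + 1 = n)
    (hcoker : Module.Projective A (P.X n ⧸ LinearMap.range (P.d m n).hom)) :
    DRing.VanishesOutside (P.truncGE n) n b ∧ ∀ i : ℤ, Module.Projective A ((P.truncGE n).X i) := by
  constructor
  · intro i hi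
    rcases hi with hi | hi
    · exact (P.truncGE n).isZero_of_isStrictlyGE n i hi
    · by_cases hia : n < i
      · exact (hb i hi).of_iso (P.truncGEXIso n i hia)
      · by_cases hia' : i = n
        · subst hia'
          have hz : IsZero (P.X i) := hb i hi
          have := ModuleCat.subsingleton_of_isZero hz
          let e1 := (P.truncGEXIsoOpcycles i) ≪≫ opcyclesIsoQuot P m i hmn
          have : Subsingleton ((P.truncGE i).X i) := e1.toLinearEquiv.toEquiv.subsingleton
          exact ModuleCat.isZero_of_subsingleton _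
        · exact (P.truncGE n).isZero_of_isStrictlyGE n i (by omega)
  · intro i
    by_cases h1 : i < n
    · have := ModuleCat.subsingleton_of_isZero ((P.truncGE n).isZero_of_isStrictlyGE n i h1)
      infer_instance
    · by_cases h2 : i = n
      · subst h2
        let e1 := (P.truncGEXIsoOpcycles i) ≪≫ opcyclesIsoQuot P m i hmn
        exact Module.Projective.of_equiv e1.toLinearEquiv.symm
      · have := hproj i
        let e2 := (P.truncGEXIso n i (by omega))
        exact Module.Projective.of_equiv e2.toLinearEquiv.symm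

/-- General splitting statement. -/
theorem split_of_projective_coker (K : Dual.D A) (P : DRing.Cx A) (b : ℤ)
    (hb : DRing.VanishesAbove P b) (hproj : ∀ i : ℤ, Module.Projective A (P.X i))
    (eK : DRing.toD P ≅ K) (m n : ℤ) (hmn : m + 1 = n)
    (hcoker : Module.Projective A (P.X n ⧸ LinearMap.range (P.d m n).hom)) :
    (∃ (P'' : DRing.Cx A), DRing.VanishesOutside P'' n b ∧
      (∀ i : ℤ, Module.Projective A (P''.X i)) ∧
      Nonempty (DRing.toD P'' ≅ (TStructure.t.truncGE n).obj K)) ∧
    (TStructure.t.truncGEδLT n).app K = 0 := by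
  obtain ⟨h1, h2⟩ := truncGE_projective P b hb hproj m n hmn hcoker
  obtain ⟨e, -⟩ := exists_iso_truncGE P n
  let e' : DRing.toD (P.truncGE n) ≅ (TStructure.t.truncGE n).obj K :=
    e ≪≫ (TStructure.t.truncGE n).mapIso eK
  refine ⟨⟨P.truncGE n, h1, h2, ⟨e'⟩⟩, ?_⟩
  have : (P.truncGE n).IsKProjective :=
    isKProjective_of_vanishesAbove _ b (fun i hi => h1 i (Or.inr hi)) h2
  have : (((TStructure.t.truncLT n).obj K)⟦(1 : ℤ)⟧).IsLE (n - 2) :=
    TStructure.t.isLE_shift _ (n - 1) 1 (n - 2) (by omega)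
  have h0 := hom_eq_zero_of_isLE (P.truncGE n) n (fun i hi => h1 i (Or.inl hi))
    (((TStructure.t.truncLT n).obj K)⟦(1 : ℤ)⟧) (n - 2) (by omega)
    (e'.hom ≫ (TStructure.t.truncGEδLT n).app K)
  rw [← cancel_epi e'.hom, h0, comp_zero]

/-- The resulting biproduct decomposition. -/
theorem exists_iso_biprod_of_truncGEδLT_eq_zero (K : Dual.D A) (n : ℤ)
    (h0 : (TStructure.t.truncGEδLT n).app K = 0)
    [HasBinaryBiproduct ((TStructure.t.truncLT n).obj K) ((TStructure.t.truncGE n).obj K)] :
    ∃ e : K ≅ (TStructure.t.truncLT n).obj K ⊞ (TStructure.t.truncGE n).obj K,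
      (TStructure.t.truncLTι n).app K ≫ e.hom = biprod.inl ∧
        e.hom ≫ biprod.snd = (TStructure.t.truncGEπ n).app K := by
  obtain ⟨e, he1, he2⟩ := exists_iso_binaryBiproduct_of_distTriang
    ((TStructure.t.triangleLTGE n).obj K) (TStructure.t.triangleLTGE_distinguished n K) h0
  exact ⟨e, he1, he2.symm⟩

end Groth.Agent.Helper3.DRingLib
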