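import Mathlib
import Groth.Prelude.Def_DRing2
import Groth.Agent.Helper3.DRingExt
import Groth.Agent.Helper3.DRingSplit
import Groth.Agent.Helper3.DRingResP

/-! Projectivity of cokernels from `Ext` conditions. -/

set_option autoImplicit false
universe u
open CategoryTheory CategoryTheory.Limits CategoryTheory.Pretriangulated

namespace Groth.Agent.Helper3.DRingLib

attribute [local instance] HasDerivedCategory.standard

open DerivedCategory

variable {A : Type u} [CommRing A]

/-- A submodule with a retraction has projective quotient (inside a projective module). -/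
lemma projective_quotient_of_retraction {X : Type u} [AddCommGroup X] [Module A X]
    [Module.Projective A X] (M : Submodule A X) (r : X →ₗ[A] M) (hr : ∀ x : M, r x = x) :
    Module.Projective A (X ⧸ M) := by
  let s : X ⧸ M →ₗ[A] X := M.liftQ (LinearMap.id - M.subtype ∘ₗ r) (by
    intro x hx
    rw [LinearMap.mem_ker, LinearMap.sub_apply, LinearMap.id_apply, LinearMap.comp_apply,
      Submodule.subtype_apply]
    have := hr ⟨x, hx⟩
    rw [this]
    simp)
  refine Module.Projective.of_split s M.mkQ ?_
  apply LinearMap.ext
  intro y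
  obtain ⟨x, rfl⟩ := M.mkQ_surjective y
  simp only [LinearMap.comp_apply, LinearMap.id_apply, s, Submodule.mkQ_apply,
    Submodule.liftQ_apply, LinearMap.sub_apply, Submodule.subtype_apply]
  rw [Submodule.Quotient.mk_sub, sub_eq_self, Submodule.Quotient.mk_eq_zero]
  exact (r x).2

theorem projective_coker_of_ext_injective (P : DRing.Cx A) [P.IsKProjective]
    (hproj : ∀ i : ℤ, Module.Projective A (P.X i)) (i j : ℤ) (hij : j + i = 0)
    (h : ∀ (M M' : Type u) [AddCommGroup M] [Module A M] [AddCommGroup M'] [Module A M']
      (g : M →ₗ[A] M'), Function.Injective g →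
      Function.Injective (fun x : DRing.toD P ⟶ (Dual.inD A M)⟦i⟧ =>
        x ≫ ((DerivedCategory.singleFunctor (ModuleCat.{u} A) 0).map (ModuleCat.ofHom g))⟦i⟧')) :
    Module.Projective A (P.X (j + 1) ⧸ LinearMap.range (P.d j (j + 1)).hom) := by
  have := hproj (j + 1)
  let M : Submodule A (P.X (j + 1)) := LinearMap.range (P.d j (j + 1)).hom
  let f : P.X j →ₗ[A] M := (P.d j (j + 1)).hom.rangeRestrict
  have hf : P.d (j - 1) j ≫ ModuleCat.ofHom f = 0 := by
    apply ModuleCat.hom_ext
    apply LinearMap.ext
    intro x
    apply Subtype.ext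
    have h2 := congrArg (fun φ => φ.hom x) (P.d_comp_d (j - 1) j (j + 1))
    exact h2
  have hinj := h M (P.X (j + 1)) M.subtype (Submodule.subtype_injective M)
  have h0 : extRep P (ModuleCat.of A M) i j hij (ModuleCat.ofHom f) hf = 0 := by
    apply hinj
    dsimp only
    rw [zero_comp, extRep_comp, extRep_eq_zero_iff]
    exact ⟨𝟙 _, by
      rw [Category.comp_id]
      apply ModuleCat.hom_ext
      rfl⟩
  rw [extRep_eq_zero_iff] at h0
  obtain ⟨r, hr⟩ := h0
  refine projective_quotient_of_retraction M r.hom ?_
  rintro ⟨_, y, rfl⟩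
  have h2 := congrArg (fun φ => φ.hom y) hr
  exact h2

end Groth.Agent.Helper3.DRingLib
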