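import Mathlib
import Groth.Prelude.Def_DRing2
import Groth.Agent.Helper3.DRingSplit2
import Groth.Agent.Helper3.DRingFin
import Groth.Agent.Helper3.DRingTor1

/-! Comparison `τ_{<a+1} K ≅ τ_{<a} K` when `H^a(K) = 0`, and vanishing of `H^a` from `Ext`. -/

set_option autoImplicit false
universe u
open CategoryTheory CategoryTheory.Limits CategoryTheory.Pretriangulated

namespace Groth.Agent.Helper3.DRingLib

attribute [local instance] HasDerivedCategory.standard

open DerivedCategory

variable {A : Type u} [CommRing A]

set_option backward.defeqAttrib.useBackward true in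
set_option backward.isDefEq.respectTransparency false in
lemma exists_iso_truncLT_of_subsingleton_HD (K : Dual.D A) (a : ℤ)
    (h : Subsingleton (Dual.HD A K a)) :
    ∃ e : (TStructure.t.truncLT (a + 1)).obj K ≅ (TStructure.t.truncLT a).obj K,
      e.hom ≫ (TStructure.t.truncLTι a).app K = (TStructure.t.truncLTι (a + 1)).app K := by
  have hT := TStructure.t.triangleLTGE_distinguished (a + 1) K
  have hle : ((TStructure.t.truncLT (a + 1)).obj K).IsLE (a - 1) := by
    apply isLE_of_HD
    intro i hi
    by_cases hia : i = a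
    · subst hia
      have ex := DerivedCategory.HomologySequence.exact₁ _ hT (i - 1) i (by omega)
      have hz : IsZero ((DerivedCategory.homologyFunctor (ModuleCat.{u} A) i).obj
          ((TStructure.t.truncLT (i + 1)).obj K)) := by
        refine ex.isZero_of_both_zeros ?_ ?_
        · have : Subsingleton (Dual.HD A ((TStructure.t.truncGE (i + 1)).obj K) (i - 1)) :=
            subsingleton_HD_of_isGE _ (i + 1) (i - 1) (by omega)
          have hz1 : IsZero ((DerivedCategory.homologyFunctor (ModuleCat.{u} A) (i - 1)).obj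
              ((TStructure.t.truncGE (i + 1)).obj K)) := ModuleCat.isZero_of_subsingleton _
          exact hz1.eq_of_src _ _
        · have hz3 : IsZero ((DerivedCategory.homologyFunctor (ModuleCat.{u} A) i).obj K) :=
            ModuleCat.isZero_of_subsingleton _
          exact hz3.eq_of_tgt _ _
      exact ModuleCat.subsingleton_of_isZero hz
    · exact subsingleton_HD_of_isLE _ a i (by omega)
  have hge : ((TStructure.t.truncGE (a + 1)).obj K).IsGE a :=
    TStructure.t.isGE_of_ge _ a (a + 1) (by omega)
  obtain ⟨e', he'⟩ := TStructure.t.triangle_iso_exists hT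
    (TStructure.t.triangleLTGE_distinguished a K) (Iso.refl _) (a - 1) a
    (by dsimp; exact hle) (by dsimp; exact hge)
    (by dsimp; infer_instance) (by dsimp; infer_instance)
  refine ⟨(Triangle.π₁).mapIso e', ?_⟩
  have := e'.hom.comm₁
  dsimp at this he' ⊢
  rw [← this, he', Category.comp_id]

/-- Vanishing of `Hom(P, M[i])` for all `M` kills `H^j(P)` (`j + i = 0`). -/
lemma exactAt_of_ext_subsingleton (P : DRing.Cx A) [P.IsKProjective] (i j : ℤ) (hij : j + i = 0)
    (h : ∀ (M : Type u) [AddCommGroup M] [Module A M],
      Subsingleton (DRing.toD P ⟶ (Dual.inD A M)⟦i⟧)) : P.ExactAt j := by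
  rw [exactAt_iff_forall P (j - 1) j (j + 1) (by omega) rfl]
  intro x hx
  let N : Submodule A (P.X j) := LinearMap.range (P.d (j - 1) j).hom
  have hf : P.d (j - 1) j ≫ ModuleCat.ofHom N.mkQ = 0 := by
    apply ModuleCat.hom_ext
    apply LinearMap.ext
    intro y
    change N.mkQ ((P.d (j - 1) j).hom y) = 0
    rw [Submodule.mkQ_apply, Submodule.Quotient.mk_eq_zero]
    exact LinearMap.mem_range_self _ y
  have h0 : extRep P (ModuleCat.of A (P.X j ⧸ N)) i j hij (ModuleCat.ofHom N.mkQ) hf = 0 :=
    (h _).elim _ _
  rw [extRep_eq_zero_iff] at h0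
  obtain ⟨r, hr⟩ := h0
  have h2 := congrArg (fun φ => φ.hom x) hr
  change r.hom ((P.d j (j + 1)).hom x) = N.mkQ x at h2
  rw [hx, map_zero] at h2
  have h3 : x ∈ N := by
    rw [← Submodule.Quotient.mk_eq_zero]
    exact h2.symm
  exact h3

end Groth.Agent.Helper3.DRingLib
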