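import Mathlib
import Groth.Prelude.Def_DRing2
import Groth.Agent.Helper3.DRingSplit3

/-! Projective amplitude via `Ext` vanishing. -/

set_option autoImplicit false
universe u
open CategoryTheory CategoryTheory.Limits CategoryTheory.Pretriangulated

namespace Groth.Agent.Helper3.DRingLib

attribute [local instance] HasDerivedCategory.standard

open DerivedCategory CochainComplex.HomComplex

variable {A : Type u} [CommRing A]

lemma extRep_precomp {L P : DRing.Cx A} (g : L ⟶ P) (N : ModuleCat.{u} A) (i j : ℤ)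
    (hij : j + i = 0) (f : P.X j ⟶ N) (hf : P.d (j - 1) j ≫ f = 0) :
    DerivedCategory.Q.map g ≫ extRep P N i j hij f hf =
      extRep L N i j hij (g.f j ≫ f) (by rw [← g.comm_assoc, hf, comp_zero]) := by
  dsimp only [extRep, extCocycle]
  rw [Cocycle.toSingleMk_precomp f hij (j - 1) (by omega) hf g,
    Cocycle.equivHomShift_symm_precomp, Functor.map_comp, Category.assoc]

lemma extRep_zero (P : DRing.Cx A) [P.IsKProjective] (N : ModuleCat.{u} A) (i j : ℤ)
    (hij : j + i = 0) : extRep P N i j hij 0 (by rw [comp_zero]) = 0 := by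
  rw [extRep_eq_zero_iff]
  exact ⟨0, by rw [comp_zero]⟩

/-- Vanishing of all maps `K' → N[i]` forces exactness of `K'` in degree `-i`, for an arbitrary
complex `K'`. -/
theorem exactAt_of_ext_eq_zero (K' : DRing.Cx A) (i n : ℤ) (hij : n + i = 0)
    (h : ∀ (N : ModuleCat.{u} A) (e : DRing.toD K' ⟶ ((singleFunctor (ModuleCat.{u} A) 0).obj N)⟦i⟧),
      e = 0) : K'.ExactAt n := by
  rw [exactAt_iff_forall K' (n - 1) n (n + 1) (by omega) rfl]
  intro x hx
  let M : Submodule A (K'.X n) := LinearMap.range (K'.d (n - 1) n).hom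
  have hf : K'.d (n - 1) n ≫ ModuleCat.ofHom M.mkQ = 0 := by
    apply ModuleCat.hom_ext
    apply LinearMap.ext
    intro y
    change M.mkQ ((K'.d (n - 1) n).hom y) = 0
    rw [Submodule.mkQ_apply, Submodule.Quotient.mk_eq_zero]
    exact LinearMap.mem_range_self _ y
  have h0 := h (ModuleCat.of A (K'.X n ⧸ M)) (extRep K' _ i n hij (ModuleCat.ofHom M.mkQ) hf)
  -- the chain map `A[-n] → K'` picking `x`
  let S : DRing.Cx A := (CochainComplex.singleFunctor (ModuleCat.{u} A) n).obj (ModuleCat.of A A)
  let φ : S ⟶ K' := HomologicalComplex.mkHomFromSingle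
    (ModuleCat.ofHom (LinearMap.toSpanSingleton A (K'.X n) x)) (by
      intro k hk
      have hk' : n + 1 = k := hk
      subst hk'
      apply ModuleCat.hom_ext
      apply LinearMap.ext_ring
      change (K'.d n (n + 1)).hom ((1 : A) • x) = 0
      rw [one_smul, hx])
  have hSproj : S.IsKProjective := by
    have hS : ∀ k : ℤ, Module.Projective A (S.X k) := by
      intro k
      by_cases hk : k = n
      · subst hk
        exact Module.Projective.of_equiv
          (HomologicalComplex.singleObjXSelf (ComplexShape.up ℤ) k (ModuleCat.of A A)).toLinearEquiv.symm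
      · have hz : IsZero (S.X k) := HomologicalComplex.isZero_single_obj_X _ _ _ _ hk
        have := ModuleCat.subsingleton_of_isZero hz
        infer_instance
    exact isKProjective_of_vanishesAbove S n
      (fun k hk => HomologicalComplex.isZero_single_obj_X _ _ _ _ (by omega)) hS
  have h1 : extRep S _ i n hij (φ.f n ≫ ModuleCat.ofHom M.mkQ)
      (by rw [← φ.comm_assoc, hf, comp_zero]) = 0 := by
    have h3 := extRep_precomp φ _ i n hij (ModuleCat.ofHom M.mkQ) hf
    rw [← h3, h0, comp_zero]
  rw [extRep_eq_zero_iff] at h1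
  obtain ⟨r, hr⟩ := h1
  have hSz : IsZero (S.X (n + 1)) := HomologicalComplex.isZero_single_obj_X _ _ _ _ (by omega)
  have hr0 : φ.f n ≫ ModuleCat.ofHom M.mkQ = 0 := by
    rw [← hr, hSz.eq_of_src r 0, comp_zero]
  have hφ : φ.f n = (HomologicalComplex.singleObjXSelf (ComplexShape.up ℤ) n
      (ModuleCat.of A A)).hom ≫ ModuleCat.ofHom (LinearMap.toSpanSingleton A (K'.X n) x) :=
    HomologicalComplex.mkHomFromSingle_f _ _
  have key : ∀ z, M.mkQ ((φ.f n).hom z) = 0 := fun z => by
    have h3 := congrArg (fun ψ => ψ.hom z) hr0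
    exact h3
  let e := HomologicalComplex.singleObjXSelf (ComplexShape.up ℤ) n (ModuleCat.of A A)
  have hx' : (φ.f n).hom (e.inv.hom (1 : A)) = x := by
    rw [hφ]
    change (LinearMap.toSpanSingleton A (K'.X n) x) (e.hom.hom (e.inv.hom (1 : A))) = x
    have h4 : e.hom.hom (e.inv.hom (1 : A)) = (1 : A) := by
      have h5 := congrArg (fun ψ => ψ.hom (1 : A)) e.inv_hom_id
      exact h5
    rw [h4]
    exact one_smul A x
  have h2 := key (e.inv.hom (1 : A))
  rw [hx', Submodule.mkQ_apply, Submodule.Quotient.mk_eq_zero] at h2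
  exact h2

lemma subsingleton_HD_toD_of_exactAt (P : DRing.Cx A) (j : ℤ) (h : P.ExactAt j) :
    Subsingleton (Dual.HD A (DRing.toD P) j) := by
  rw [HomologicalComplex.exactAt_iff_isZero_homology] at h
  exact ModuleCat.subsingleton_of_isZero (h.of_iso (homologyToDIso P j))

lemma exactAt_of_subsingleton_HD_toD (P : DRing.Cx A) (j : ℤ)
    (h : Subsingleton (Dual.HD A (DRing.toD P) j)) : P.ExactAt j :=
  exactAt_of_isZero P j (ModuleCat.isZero_of_subsingleton _)

lemma subsingleton_HD_of_iso {K L : Dual.D A} (e : K ≅ L) (j : ℤ)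
    (h : Subsingleton (Dual.HD A K j)) : Subsingleton (Dual.HD A L j) := by
  have hz : IsZero ((DerivedCategory.homologyFunctor (ModuleCat.{u} A) j).obj K) :=
    ModuleCat.isZero_of_subsingleton _
  exact ModuleCat.subsingleton_of_isZero
    (hz.of_iso ((DerivedCategory.homologyFunctor (ModuleCat.{u} A) j).mapIso e.symm))

/-- Core of the projective amplitude criterion. -/
theorem exists_projective_rep_of_ext (K : Dual.D A) (a' n b : ℤ) (hn : a' + 1 = n)
    (hb : ∀ k : ℤ, b < k → Subsingleton (Dual.HD A K k))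
    (ha : ∀ k : ℤ, k < a' → Subsingleton (Dual.HD A K k))
    (hext : ∀ (N : Type u) [AddCommGroup N] [Module A N],
      Subsingleton (K ⟶ (Dual.inD A N)⟦-a'⟧)) :
    ∃ P : DRing.Cx A, DRing.VanishesOutside P n b ∧ (∀ i : ℤ, Module.Projective A (P.X i)) ∧
      Nonempty (DRing.toD P ≅ K) := by
  subst hn
  haveI : K.IsLE b := isLE_of_HD K b hb
  obtain ⟨P, hPb, hproj, ⟨eK⟩⟩ := exists_projective_rep K b
  haveI : P.IsKProjective := isKProjective_of_vanishesAbove P b hPb hproj
  have hextP : ∀ (N : Type u) [AddCommGroup N] [Module A N],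
      Subsingleton (DRing.toD P ⟶ (Dual.inD A N)⟦-a'⟧) := by
    intro N _ _
    constructor
    intro x y
    have := hext N
    rw [← cancel_epi eK.inv]
    exact Subsingleton.elim _ _
  have hcoker := projective_coker_of_ext_injective P hproj (-a') a' (by omega)
    (fun M M' _ _ _ _ g _ x y _ => by
      have := hextP M
      exact Subsingleton.elim _ _)
  obtain ⟨⟨P'', hv, hp, ⟨e''⟩⟩, -⟩ :=
    split_of_projective_coker K P b hPb hproj eK a' (a' + 1) rfl hcoker
  have hex : P.ExactAt a' := exactAt_of_ext_subsingleton P (-a') a' (by omega) hextP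
  haveI : K.IsGE (a' + 1) := by
    apply isGE_of_HD
    intro k hk
    by_cases hk' : k = a'
    · subst hk'
      exact subsingleton_HD_of_iso eK k (subsingleton_HD_toD_of_exactAt P k hex)
    · exact ha k (by omega)
  haveI : IsIso ((TStructure.t.truncGEπ (a' + 1)).app K) :=
    (TStructure.t.isGE_iff_isIso_truncGEπ_app (a' + 1) K).mp inferInstance
  exact ⟨P'', hv, hp, ⟨e'' ≪≫ (asIso ((TStructure.t.truncGEπ (a' + 1)).app K)).symm⟩⟩

end Groth.Agent.Helper3.DRingLib
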