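import Mathlib
import Groth.Prelude.Def_DRing2
import Groth.Prelude.Def_DDual2
import Groth.Agent.Helper3.DRingRestr2
import Groth.Agent.Helper3.DRingTor7

/-! Restriction of scalars: perfect complexes. -/

set_option autoImplicit false
universe u
open CategoryTheory CategoryTheory.Limits

namespace Groth.Agent.Helper3.DRingLib

attribute [local instance] HasDerivedCategory.standard

open Pretriangulated DerivedCategory ZeroObject

section Perf

variable {A B : Type u} [CommRing A] [CommRing B] [Algebra A B]

/-- A triangulated, retract-closed property of objects of `D(A)` holding for `B[0]` holds for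
the restriction of every bounded complex of finite projective `B`-modules. -/
theorem restr_perfect_induction (P : Dual.D A → Prop)
    (hiso : ∀ {K L : Dual.D A}, (K ≅ L) → P K → P L)
    (hzero : ∀ K : Dual.D A, IsZero K → P K)
    (hext : ∀ T : Triangle (Dual.D A), T ∈ distTriang _ → P T.obj₁ → P T.obj₃ → P T.obj₂)
    (hshift : ∀ (K : Dual.D A) (n : ℤ), P K → P (K⟦n⟧))
    (hretract : ∀ (K Z : Dual.D A) (i : K ⟶ Z) (r : Z ⟶ K), i ≫ r = 𝟙 K → P Z → P K)
    (hB : P (Dual.inD A B)) {K : Dual.D B} (hK : DRing.IsPerfect B K) :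
    P ((DRing.restrictD (algebraMap A B)).obj K) := by
  obtain ⟨E, a, b, hv, hfp, ⟨e⟩⟩ := hK
  refine hiso ((DRing.restrictD (algebraMap A B)).mapIso e) ?_
  refine induction_on_bounded' (fun K => P ((DRing.restrictD (algebraMap A B)).obj K))
    (fun e h => hiso ((DRing.restrictD (algebraMap A B)).mapIso e) h)
    (fun K hK => hzero _ (Functor.map_isZero _ hK))
    (fun T hT h1 h3 => hext _ ((DRing.restrictD (algebraMap A B)).map_distinguished _ hT) h1 h3)
    E a b hv (fun i => ?_)
  obtain ⟨h1, h2⟩ := hfp i
  -- the free module case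
  have hfree : ∀ n : ℕ, P ((singleFunctor (ModuleCat.{u} A) 0).obj
      ((rF (algebraMap A B)).obj (ModuleCat.of B (Fin n → B)))) := by
    intro n
    refine finite_free_induction
      (fun M => P ((singleFunctor (ModuleCat.{u} A) 0).obj ((rF (algebraMap A B)).obj M)))
      (fun e h => hiso ((singleFunctor (ModuleCat.{u} A) 0).mapIso
        ((rF (algebraMap A B)).mapIso e)) h)
      (fun M hM => hzero _ (Functor.map_isZero _ (Functor.map_isZero _ hM)))
      (fun S hS h1 h3 => restr_single_ext P hext S hS h1 h3) ?_ (ModuleCat.of B (Fin n → B))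
    exact hiso ((singleFunctor (ModuleCat.{u} A) 0).mapIso
      (restrictSelfEquiv (A := A) (B := B)).toModuleIso.symm) hB
  have hmod : P ((singleFunctor (ModuleCat.{u} A) 0).obj ((rF (algebraMap A B)).obj (E.X i))) := by
    obtain ⟨n, f, hf⟩ := Module.Finite.exists_fin' B (E.X i)
    obtain ⟨g, hg⟩ := Module.projective_lifting_property f LinearMap.id hf
    refine hretract _ _
      ((singleFunctor (ModuleCat.{u} A) 0).map ((rF (algebraMap A B)).map (ModuleCat.ofHom g)))
      ((singleFunctor (ModuleCat.{u} A) 0).map ((rF (algebraMap A B)).map (ModuleCat.ofHom f)))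
      ?_ (hfree n)
    rw [← Functor.map_comp, ← Functor.map_comp, ← ModuleCat.ofHom_comp, hg]
    erw [ModuleCat.ofHom_id]
    rw [CategoryTheory.Functor.map_id, CategoryTheory.Functor.map_id]
  refine hiso ((DRing.restrictD (algebraMap A B)).mapIso (singleShiftIso (E.X i) i)) ?_
  refine hiso (((DRing.restrictD (algebraMap A B)).commShiftIso (-i)).symm.app _) ?_
  exact hshift _ _ (hiso (rDSingle (algebraMap A B) 0 (E.X i)).symm hmod)

theorem rD_isPerfect (hB : DRing.IsPerfect A (Dual.inD A B)) {K : Dual.D B}
    (hK : DRing.IsPerfect B K) :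
    DRing.IsPerfect A ((DRing.restrictD (algebraMap A B)).obj K) :=
  restr_perfect_induction (DRing.IsPerfect A) (fun e h => isPerfect_of_iso e h)
    isPerfect_of_isZero (fun T hT h1 h3 => isPerfect_obj₂ T hT h1 h3)
    (fun _ n h => isPerfect_shift n h) (fun _ _ i r hir h => isPerfect_of_retract i r hir h) hB hK

end Perf

end Groth.Agent.Helper3.DRingLib
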