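import Mathlib
import Groth.Prelude.Def_DRing2
import Groth.Agent.Helper3.DRingColim
import Groth.Agent.Helper3.DRingPC2
import Groth.Agent.Helper3.DRingProjAmp

/-! Objects of `D(A)` with cohomology in degrees `-1, 0`. -/

set_option autoImplicit false
universe u
open CategoryTheory CategoryTheory.Limits CategoryTheory.Pretriangulated

namespace Groth.Agent.Helper3.DRingLib

attribute [local instance] HasDerivedCategory.standard

open DerivedCategory

variable {A : Type u} [CommRing A]

/-- A map `α : K → K'` between objects with cohomology in `[-1, 0]` which is an isomorphism on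
`H^0` and surjective on `H^{-1}` is a `(-1)`-approximation. -/
lemma isApprox_of_twoTerm {K K' : Dual.D A} (α : K ⟶ K')
    (hK : ∀ i : ℤ, i ≠ -1 → i ≠ 0 → Subsingleton (Dual.HD A K i))
    (hK' : ∀ i : ℤ, i ≠ -1 → i ≠ 0 → Subsingleton (Dual.HD A K' i))
    (h0 : IsIso ((DerivedCategory.homologyFunctor (ModuleCat.{u} A) 0).map α))
    (h1 : Epi ((DerivedCategory.homologyFunctor (ModuleCat.{u} A) (-1)).map α)) :
    IsApprox (-1) α := by
  refine ⟨fun i hi => ?_, h1⟩
  by_cases hi0 : i = 0
  · subst hi0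
    exact h0
  · have := hK i (by omega) hi0
    have := hK' i (by omega) hi0
    exact isIso_of_isZero' _ (ModuleCat.isZero_of_subsingleton _) (ModuleCat.isZero_of_subsingleton _)

/-- In the situation above, maps out of `K'` into `D^{≥ -1}` are detected on `K`. -/
lemma eq_zero_of_comp_eq_zero_of_twoTerm {K K' : Dual.D A} (α : K ⟶ K')
    (hK : ∀ i : ℤ, i ≠ -1 → i ≠ 0 → Subsingleton (Dual.HD A K i))
    (hK' : ∀ i : ℤ, i ≠ -1 → i ≠ 0 → Subsingleton (Dual.HD A K' i))
    (h0 : IsIso ((DerivedCategory.homologyFunctor (ModuleCat.{u} A) 0).map α))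
    (h1 : Epi ((DerivedCategory.homologyFunctor (ModuleCat.{u} A) (-1)).map α))
    (Z : Dual.D A) [Z.IsGE (-1)] (g : K' ⟶ Z) (hg : α ≫ g = 0) : g = 0 := by
  have hα := isApprox_of_twoTerm α hK hK' h0 h1
  obtain ⟨C, p, d, hT⟩ := distinguished_cocone_triangle α
  have hC : C.IsLE (-1 - 1) := (isApprox_iff_isLE _ hT (-1)).mp hα
  obtain ⟨g', hg'⟩ := Triangle.yoneda_exact₂ _ hT g hg
  have hg0 : g' = 0 :=
    TStructure.t.zero_of_isLE_of_isGE g' (-1 - 1) (-1) (by omega) hC inferInstance
  rw [hg', hg0]
  exact comp_zero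

/-- A complex concentrated in a single degree is a single complex. -/
lemma exists_iso_single_of_vanishesOutside (P : DRing.Cx A) (n : ℤ)
    (hP : DRing.VanishesOutside P n n) :
    Nonempty ((CochainComplex.singleFunctor (ModuleCat.{u} A) n).obj (P.X n) ≅ P) := by
  let φ : (CochainComplex.singleFunctor (ModuleCat.{u} A) n).obj (P.X n) ⟶ P :=
    HomologicalComplex.mkHomFromSingle (𝟙 (P.X n)) (by
      intro k hk
      have hk' : n + 1 = k := hk
      exact (hP k (Or.inr (by omega))).eq_of_tgt _ _)
  have hφ : ∀ i : ℤ, IsIso (φ.f i) := by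
    intro i
    by_cases hi : i = n
    · subst hi
      have h1 : φ.f i = (HomologicalComplex.singleObjXSelf (ComplexShape.up ℤ) i (P.X i)).hom ≫
          𝟙 (P.X i) := HomologicalComplex.mkHomFromSingle_f _ _
      rw [h1, Category.comp_id]
      exact (HomologicalComplex.singleObjXSelf (ComplexShape.up ℤ) i (P.X i)).isIso_hom
    · refine isIso_of_isZero' _ (HomologicalComplex.isZero_single_obj_X _ _ _ _ hi) (hP i ?_)
      omega
  haveI : IsIso φ := HomologicalComplex.Hom.isIso_of_components φ
  exact ⟨asIso φ⟩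

/-- There are no nonzero maps `H[0] → M[i]`, `i ≠ 0`, for a projective module `H`. -/
lemma hom_single_projective_eq_zero (H M : ModuleCat.{u} A) [Module.Projective A H] (i : ℤ)
    (hi : i ≠ 0) (e : (singleFunctor (ModuleCat.{u} A) 0).obj H ⟶
      ((singleFunctor (ModuleCat.{u} A) 0).obj M)⟦i⟧) : e = 0 := by
  let S : DRing.Cx A := (CochainComplex.singleFunctor (ModuleCat.{u} A) 0).obj H
  have hSproj : S.IsKProjective :=
    isKProjective_of_vanishesAbove S 0
      (fun k hk => HomologicalComplex.isZero_single_obj_X _ _ _ _ (by omega))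
      (single_termwiseProjective H 0)
  let eS : (singleFunctor (ModuleCat.{u} A) 0).obj H ≅ DRing.toD S :=
    (DerivedCategory.singleFunctorIsoCompQ (ModuleCat.{u} A) 0).app H
  obtain ⟨f, hf, hz⟩ := extRep_surjective S M i (-i) (by omega) (eS.inv ≫ e)
  have hz0 : IsZero (S.X (-i)) := HomologicalComplex.isZero_single_obj_X _ _ _ _ (by omega)
  have hf0 : f = 0 := hz0.eq_of_src _ _
  subst hf0
  rw [extRep_zero] at hz
  rw [← cancel_epi eS.inv, ← hz, comp_zero]

end Groth.Agent.Helper3.DRingLib
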