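import Mathlib
import Groth.Prelude.Def_DRing2
import Groth.Agent.Helper3.DRingResP
import Groth.Agent.Helper3.DRingTwoTerm

/-! Two term representatives of objects of `D(A)` with cohomology in degrees `-1, 0`. -/

set_option autoImplicit false
universe u
open CategoryTheory CategoryTheory.Limits CategoryTheory.Pretriangulated

namespace Groth.Agent.Helper3.DRingLib

attribute [local instance] HasDerivedCategory.standard

open DerivedCategory

variable {A : Type u} [CommRing A]

/-- An object of `D^{≤ m}` admits an `m`-approximation by any projective module `F` placed in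
degree `m` equipped with a surjection onto `H^m`. -/
theorem exists_single_approx_of_epi (K : Dual.D A) (m : ℤ) [K.IsLE m]
    (F : ModuleCat.{u} A) [hF : Module.Projective A F]
    (p : F ⟶ (homologyFunctor (ModuleCat.{u} A) m).obj K) [hp : Epi p] :
    ∃ (α : ((DerivedCategory.singleFunctor (ModuleCat.{u} A) 0).obj F)⟦-m⟧ ⟶ K), IsApprox m α := by
  obtain ⟨X, Y, hX, hY, f, g, δ, hT⟩ := TStructure.t.exists_triangle K (m - 1) m (by omega)
  have iX : X.IsLE (m - 1) := ⟨hX⟩
  have iY : Y.IsGE m := ⟨hY⟩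
  have iX' : (Triangle.mk f g δ).obj₁.IsLE (m - 1) := iX
  have hg : ∀ i, m ≤ i → IsIso ((homologyFunctor (ModuleCat.{u} A) i).map g) :=
    fun i hi => isIso_HD_mor₂ _ hT (m - 1) i (by omega)
  have iYm : Y.IsLE m := by
    rw [DerivedCategory.isLE_iff]
    intro i hi
    have := hg i hi.le
    exact (K.isZero_of_isLE m i hi).of_iso
      (asIso ((homologyFunctor (ModuleCat.{u} A) i).map g)).symm
  obtain ⟨e⟩ := exists_iso_single_HD Y m
  have hgm := hg m le_rfl
  let p' : F ⟶ ModuleCat.of A (Dual.HD A Y m) :=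
    p ≫ (homologyFunctor (ModuleCat.{u} A) m).map g
  have hp' : Epi p' := epi_comp _ _
  let s := (DerivedCategory.singleFunctor (ModuleCat.{u} A) 0).map p'
  let φ : ((DerivedCategory.singleFunctor (ModuleCat.{u} A) 0).obj F)⟦-m⟧ ⟶ Y := s⟦-m⟧' ≫ e.inv
  -- the source as a single complex
  let S : DRing.Cx A := (HomologicalComplex.single (ModuleCat.{u} A) (ComplexShape.up ℤ) m).obj F
  let eS : ((DerivedCategory.singleFunctor (ModuleCat.{u} A) 0).obj F)⟦-m⟧ ≅ DRing.toD S := singleShiftIso F m
  have hSv : DRing.VanishesOutside S m m := single_vanishesOutside F m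
  have hSK : S.IsKProjective :=
    isKProjective_of_vanishesAbove S m (fun i hi => hSv i (Or.inr hi))
      (single_termwiseProjective F m)
  have iX1 : (X⟦(1 : ℤ)⟧).IsLE (m - 2) := TStructure.t.isLE_shift X (m - 1) 1 (m - 2) (by omega)
  have hφδ : φ ≫ δ = 0 := by
    have h0 : eS.inv ≫ (φ ≫ δ) = 0 :=
      hom_eq_zero_of_isLE S m (fun i hi => hSv i (Or.inl hi)) (X⟦(1 : ℤ)⟧) (m - 2) (by omega) _
    rw [← cancel_epi eS.inv, h0, comp_zero]
  obtain ⟨(α : ((DerivedCategory.singleFunctor (ModuleCat.{u} A) 0).obj F)⟦-m⟧ ⟶ K), hα⟩ :=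
    Triangle.coyoneda_exact₃ _ hT φ hφδ
  refine ⟨α, ?_⟩
  have iXF : (((DerivedCategory.singleFunctor (ModuleCat.{u} A) 0).obj F)⟦-m⟧).IsLE m := by
    have : (DRing.toD S).IsLE m := by
      have := isStrictlyLE_of_vanishesOutside S m m hSv
      infer_instance
    exact TStructure.t.isLE_of_iso eS.symm m
  refine ⟨fun i hi => isIso_of_isZero' _
    ((((DerivedCategory.singleFunctor (ModuleCat.{u} A) 0).obj F)⟦-m⟧).isZero_of_isLE m i hi)
    (K.isZero_of_isLE m i hi), ?_⟩
  have h1 : (homologyFunctor (ModuleCat.{u} A) m).map α ≫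
      (homologyFunctor (ModuleCat.{u} A) m).map g =
        (homologyFunctor (ModuleCat.{u} A) m).map (s⟦-m⟧') ≫
          (homologyFunctor (ModuleCat.{u} A) m).map e.inv := by
    rw [← Functor.map_comp, ← Functor.map_comp]
    congr 1
    exact hα.symm
  have h2 : Epi ((homologyFunctor (ModuleCat.{u} A) m).map (s⟦-m⟧')) := by
    rw [epi_homology_shift_iff s (-m) m 0 (by omega)]
    exact (epi_map_iff_of_natIso (singleFunctorCompHomologyFunctorIso (ModuleCat.{u} A) 0) p').mpr hp'
  have h3 : Epi ((homologyFunctor (ModuleCat.{u} A) m).map α ≫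
      (homologyFunctor (ModuleCat.{u} A) m).map g) := by
    rw [h1]
    exact epi_comp _ _
  have h4 : (homologyFunctor (ModuleCat.{u} A) m).map α =
      ((homologyFunctor (ModuleCat.{u} A) m).map α ≫
        (homologyFunctor (ModuleCat.{u} A) m).map g) ≫
          inv ((homologyFunctor (ModuleCat.{u} A) m).map g) := by simp
  rw [h4]
  exact epi_comp _ _

/-- Variant of `exists_cone_iso` with a prescribed map of complexes. -/
lemma cone_iso_of_map (T : Triangle (Dual.D A)) (hT : T ∈ distTriang _) {E1 E2 : DRing.Cx A}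
    (φ : E1 ⟶ E2) (e1 : DRing.toD E1 ≅ T.obj₁) (e2 : DRing.toD E2 ≅ T.obj₂)
    (h : DerivedCategory.Q.map φ ≫ e2.hom = e1.hom ≫ T.mor₁) :
    Nonempty (DRing.toD (CochainComplex.mappingCone φ) ≅ T.obj₃) := by
  have hT' := DerivedCategory.mappingCone_triangle_distinguished φ
  have e := isoTriangleOfIso₁₂ _ T hT' hT e1 e2 h
  exact ⟨Triangle.π₃.mapIso e⟩

lemma finite_of_exact_noeth {M N P : Type u} [AddCommGroup M] [AddCommGroup N] [AddCommGroup P]
    [Module A M] [Module A N] [Module A P] (f : M →ₗ[A] N) (g : N →ₗ[A] P)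
    (h : Function.Exact f g) [Module.Finite A M] [IsNoetherian A P] : Module.Finite A N := by
  have : Module.Finite A (LinearMap.range g) := inferInstance
  refine Module.Finite.of_exact (f := f) (g := g.rangeRestrict) ?_ g.surjective_rangeRestrict
  intro y
  rw [← h y]
  simp [Subtype.ext_iff]

/-- An object `K` of `D(A)` with cohomology in degrees `-1, 0` is the cone of a map of modules
`d : N → F`, where `F` is any projective module with a surjection onto `H^0(K)`. -/
theorem exists_twoTerm_rep (K : Dual.D A)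
    (hK : ∀ i : ℤ, i ≠ -1 → i ≠ 0 → Subsingleton (Dual.HD A K i))
    (F : ModuleCat.{u} A) [Module.Projective A F]
    (p : F ⟶ (homologyFunctor (ModuleCat.{u} A) 0).obj K) [Epi p] :
    ∃ (N : ModuleCat.{u} A) (d : N ⟶ F),
      Nonempty (DRing.toD (CochainComplex.mappingCone
        ((CochainComplex.singleFunctor (ModuleCat.{u} A) 0).map d)) ≅ K) ∧
      (Module.Finite A (Dual.HD A K (-1)) → IsNoetherian A F → Module.Finite A N) := by
  have iK : K.IsLE 0 := isLE_of_HD K 0 (fun i hi => hK i (by omega) (by omega))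
  have iK' : K.IsGE (-1) := isGE_of_HD K (-1) (fun i hi => hK i (by omega) (by omega))
  obtain ⟨α0, hα0⟩ := exists_single_approx_of_epi K 0 F p
  let S : DRing.Cx A := (CochainComplex.singleFunctor (ModuleCat.{u} A) 0).obj F
  let iF : (singleFunctor (ModuleCat.{u} A) 0).obj F ≅ DRing.toD S :=
    (DerivedCategory.singleFunctorIsoCompQ (ModuleCat.{u} A) 0).app F
  let eS : ((singleFunctor (ModuleCat.{u} A) 0).obj F)⟦-(0 : ℤ)⟧ ≅ DRing.toD S :=
    singleShiftIso F 0 ≪≫ iF
  let α : DRing.toD S ⟶ K := eS.inv ≫ α0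
  have hα : IsApprox 0 α := (isApprox_of_isIso 0 eS.inv).comp hα0
  obtain ⟨C, β, γ, hT⟩ := distinguished_cocone_triangle α
  have hSv : DRing.VanishesOutside S 0 0 := single_vanishesOutside F 0
  have iS : (DRing.toD S).IsGE 0 := by
    have := isStrictlyGE_of_vanishesOutside S 0 0 hSv
    infer_instance
  have hC1 : C.IsLE (-1) := (isApprox_iff_isLE _ hT 0).mp hα
  have hC2 : C.IsGE (-1) := by
    have iS1 : ((DRing.toD S)⟦(1 : ℤ)⟧).IsGE (-1) :=
      TStructure.t.isGE_shift (DRing.toD S) 0 1 (-1) (by omega)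
    exact TStructure.t.isGE₂ _ (rot_of_distTriang _ hT) (-1) iK' iS1
  obtain ⟨eC0⟩ := exists_iso_single_HD C (-1)
  let N : ModuleCat.{u} A := (homologyFunctor (ModuleCat.{u} A) (-1)).obj C
  have eC : C ≅ ((singleFunctor (ModuleCat.{u} A) 0).obj N)⟦(1 : ℤ)⟧ := eC0
  let SN : DRing.Cx A := (CochainComplex.singleFunctor (ModuleCat.{u} A) 0).obj N
  let iN : (singleFunctor (ModuleCat.{u} A) 0).obj N ≅ DRing.toD SN :=
    (DerivedCategory.singleFunctorIsoCompQ (ModuleCat.{u} A) 0).app N
  let T' := (Triangle.mk α β γ).invRotate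
  have hT' : T' ∈ distTriang _ := inv_rot_of_distTriang _ hT
  let e1' : (singleFunctor (ModuleCat.{u} A) 0).obj N ≅ T'.obj₁ :=
    ((shiftFunctorCompIsoId (Dual.D A) (1 : ℤ) (-1) (by omega)).app _).symm ≪≫
      (shiftFunctor (Dual.D A) (-1 : ℤ)).mapIso eC.symm
  let u : (singleFunctor (ModuleCat.{u} A) 0).obj N ⟶ DRing.toD S := e1'.hom ≫ T'.mor₁
  obtain ⟨d, hd⟩ := (singleFunctor (ModuleCat.{u} A) 0).map_surjective (u ≫ iF.inv)
  have h2 : (singleFunctor (ModuleCat.{u} A) 0).map d ≫ iF.hom = u := by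
    rw [hd, Category.assoc, Iso.inv_hom_id, Category.comp_id]
  refine ⟨N, d, ?_, ?_⟩
  · refine cone_iso_of_map T' hT' ((CochainComplex.singleFunctor (ModuleCat.{u} A) 0).map d)
      (iN.symm ≪≫ e1') (Iso.refl _) ?_
    have hnat := (DerivedCategory.singleFunctorIsoCompQ (ModuleCat.{u} A) 0).hom.naturality d
    have h1 : DerivedCategory.Q.map ((CochainComplex.singleFunctor (ModuleCat.{u} A) 0).map d) =
        iN.inv ≫ (singleFunctor (ModuleCat.{u} A) 0).map d ≫ iF.hom := by
      rw [← cancel_epi iN.hom, Iso.hom_inv_id_assoc]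
      exact hnat.symm
    change DerivedCategory.Q.map ((CochainComplex.singleFunctor (ModuleCat.{u} A) 0).map d) ≫
      𝟙 (DRing.toD S) = (iN.inv ≫ e1'.hom) ≫ T'.mor₁
    rw [Category.comp_id, h1, h2, Category.assoc]
    rfl
  · intro h1 hF
    have hex := HomologySequence.exact₃ _ hT (-1) 0 rfl
    rw [ShortComplex.ShortExact.moduleCat_exact_iff_function_exact] at hex
    let eH : (homologyFunctor (ModuleCat.{u} A) 0).obj (DRing.toD S) ≅ F :=
      ((homologyFunctor (ModuleCat.{u} A) 0).mapIso iF).symm ≪≫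
        (singleFunctorCompHomologyFunctorIso (ModuleCat.{u} A) 0).app F
    have : IsNoetherian A ((homologyFunctor (ModuleCat.{u} A) 0).obj (DRing.toD S)) :=
      isNoetherian_of_linearEquiv eH.toLinearEquiv.symm
    have h1' : Module.Finite A ((homologyFunctor (ModuleCat.{u} A) (-1)).obj K) := h1
    exact @finite_of_exact_noeth A _ ((homologyFunctor (ModuleCat.{u} A) (-1)).obj K) N
      ((homologyFunctor (ModuleCat.{u} A) 0).obj (DRing.toD S)) _ _ _ _ _ _ _ _ hex h1' this

/-- Two term complex representing an object with cohomology in degrees `-1, 0`, with prescribed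
free term in degree `0`. -/
theorem exists_twoTerm_cx (K : Dual.D A)
    (hK : ∀ i : ℤ, i ≠ -1 → i ≠ 0 → Subsingleton (Dual.HD A K i))
    (F : Type u) [AddCommGroup F] [Module A F] [Module.Free A F]
    (p : F →ₗ[A] Dual.HD A K 0) (hp : Function.Surjective p) :
    ∃ E : DRing.Cx A, DRing.VanishesOutside E (-1) 0 ∧ Module.Free A (E.X 0) ∧
      (Module.Finite A F → Module.Finite A (E.X 0)) ∧
      (Module.Finite A (Dual.HD A K (-1)) → IsNoetherian A F → Module.Finite A (E.X (-1))) ∧
      Nonempty (DRing.toD E ≅ K) := by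
  let F' : ModuleCat.{u} A := ModuleCat.of A F
  have : Module.Projective A F' := Module.Projective.of_free
  let p' : F' ⟶ (homologyFunctor (ModuleCat.{u} A) 0).obj K := ModuleCat.ofHom p
  have : Epi p' := (ModuleCat.epi_iff_surjective p').mpr hp
  obtain ⟨N, d, ⟨e⟩, hfin⟩ := exists_twoTerm_rep K hK F' p'
  let SN : DRing.Cx A := (CochainComplex.singleFunctor (ModuleCat.{u} A) 0).obj N
  let S : DRing.Cx A := (CochainComplex.singleFunctor (ModuleCat.{u} A) 0).obj F'
  let φ : SN ⟶ S := (CochainComplex.singleFunctor (ModuleCat.{u} A) 0).map d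
  have hSNv : DRing.VanishesOutside SN 0 0 := single_vanishesOutside N 0
  have hSv : DRing.VanishesOutside S 0 0 := single_vanishesOutside F' 0
  let eN : SN.X 0 ≃ₗ[A] N := (HomologicalComplex.singleObjXSelf (ComplexShape.up ℤ) 0 N).toLinearEquiv
  let eF : S.X 0 ≃ₗ[A] F := (HomologicalComplex.singleObjXSelf (ComplexShape.up ℤ) 0 F').toLinearEquiv
  have hs1 : Subsingleton (SN.X (0 + 1)) :=
    ModuleCat.subsingleton_of_isZero (hSNv _ (Or.inr (by omega)))
  have hs2 : Subsingleton (S.X (-1)) :=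
    ModuleCat.subsingleton_of_isZero (hSv _ (Or.inl (by omega)))
  refine ⟨CochainComplex.mappingCone φ, ?_, ?_, ?_, ?_, ⟨e⟩⟩
  · exact cone_vanishesOutside φ (-1) 0 (vanishesOutside_mono SN (by omega) (by omega) hSNv)
      (vanishesOutside_mono S (by omega) (by omega) hSv)
  · have : Module.Free A (S.X 0) := Module.Free.of_equiv eF.symm
    exact Module.Free.of_equiv (coneXEquiv φ 0).symm
  · intro hF
    have : Module.Finite A (S.X 0) := Module.Finite.equiv eF.symm
    exact Module.Finite.equiv (coneXEquiv φ 0).symm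
  · intro h1 hF
    have hN : Module.Finite A N := hfin h1 hF
    have : Module.Finite A (SN.X (-1 + 1)) := Module.Finite.equiv eN.symm
    exact Module.Finite.equiv (coneXEquiv φ (-1)).symm

end Groth.Agent.Helper3.DRingLib
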