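import Mathlib
import Groth.Prelude.Def_DRing2
import Groth.Agent.Helper3.DRingTwoTerm2

/-! A two term complex is the cone of its differential; the associated distinguished triangle. -/

set_option autoImplicit false
universe u
open CategoryTheory CategoryTheory.Limits CategoryTheory.Pretriangulated

namespace Groth.Agent.Helper3.DRingLib

attribute [local instance] HasDerivedCategory.standard

open DerivedCategory CochainComplex HomComplex

variable {A : Type u} [CommRing A]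

lemma conj_aux {C : Type*} [Category C] {X X' Y Y' : C} (e : X' ≅ X) (e' : Y' ≅ Y) (d : X ⟶ Y) :
    d = e.inv ≫ (e.hom ≫ d ≫ e'.inv) ≫ e'.hom := by simp

/-- the differential of a two term complex, as a map of single complexes -/
noncomputable abbrev twoTermMap (E : DRing.Cx A) :
    (CochainComplex.singleFunctor (ModuleCat.{u} A) 0).obj (E.X (-1)) ⟶
      (CochainComplex.singleFunctor (ModuleCat.{u} A) 0).obj (E.X 0) :=
  (CochainComplex.singleFunctor (ModuleCat.{u} A) 0).map (E.d (-1) 0)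

noncomputable def twoTermIncl (E : DRing.Cx A) (hE : DRing.VanishesOutside E (-1) 0) :
    (CochainComplex.singleFunctor (ModuleCat.{u} A) 0).obj (E.X 0) ⟶ E :=
  HomologicalComplex.mkHomFromSingle (𝟙 (E.X 0)) (by
    intro k hk
    have hk' : (0 : ℤ) + 1 = k := hk
    exact (hE k (Or.inr (by omega))).eq_of_tgt _ _)

lemma twoTermIncl_f (E : DRing.Cx A) (hE : DRing.VanishesOutside E (-1) 0) :
    (twoTermIncl E hE).f 0 =
      (HomologicalComplex.singleObjXSelf (ComplexShape.up ℤ) 0 (E.X 0)).hom := by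
  have h1 : (twoTermIncl E hE).f 0 =
      (HomologicalComplex.singleObjXSelf (ComplexShape.up ℤ) 0 (E.X 0)).hom ≫ 𝟙 (E.X 0) :=
    HomologicalComplex.mkHomFromSingle_f _ _
  rw [h1, Category.comp_id]

noncomputable def twoTermConeHom (E : DRing.Cx A) (hE : DRing.VanishesOutside E (-1) 0) :
    mappingCone (twoTermMap E) ⟶ E :=
  mappingCone.desc (twoTermMap E)
    (Cochain.fromSingleMk (𝟙 (E.X (-1))) (by omega : (0 : ℤ) + (-1) = -1))
    (twoTermIncl E hE) (by
      rw [Cochain.δ_fromSingleMk (𝟙 (E.X (-1))) (by omega : (0 : ℤ) + (-1) = -1) 0 0 (by omega)]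
      apply (Cochain.fromSingleEquiv (by omega : (0 : ℤ) + 0 = 0)).injective
      rw [Cochain.fromSingleEquiv_fromSingleMk]
      change _ = (HomologicalComplex.singleObjXSelf (ComplexShape.up ℤ) 0 (E.X (-1))).inv ≫
        (Cochain.ofHom (twoTermMap E ≫ twoTermIncl E hE)).v 0 0 (by omega)
      have h1 : (twoTermMap E).f 0 =
          (HomologicalComplex.singleObjXSelf (ComplexShape.up ℤ) 0 (E.X (-1))).hom ≫
            E.d (-1) 0 ≫ (HomologicalComplex.singleObjXSelf (ComplexShape.up ℤ) 0 (E.X 0)).inv :=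
        HomologicalComplex.single_map_f_self _ _ _
      rw [Cochain.ofHom_v, HomologicalComplex.comp_f, twoTermIncl_f, h1]
      exact conj_aux _ _ _)

lemma isIso_twoTermConeHom (E : DRing.Cx A) (hE : DRing.VanishesOutside E (-1) 0) :
    IsIso (twoTermConeHom E hE) := by
  suffices ∀ i, IsIso ((twoTermConeHom E hE).f i) from
    HomologicalComplex.Hom.isIso_of_components _
  intro i
  have hz : ∀ (M : ModuleCat.{u} A) (j : ℤ), j ≠ 0 →
      IsZero (((CochainComplex.singleFunctor (ModuleCat.{u} A) 0).obj M).X j) :=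
    fun M j hj => HomologicalComplex.isZero_single_obj_X _ _ _ _ hj
  by_cases h0 : i = 0
  · subst h0
    have h1 : (twoTermConeHom E hE).f 0 = (mappingCone.fst (twoTermMap E)).1.v 0 1 (by omega) ≫
        (Cochain.fromSingleMk (𝟙 (E.X (-1))) (by omega : (0 : ℤ) + (-1) = -1)).v 1 0 (by omega) +
        (mappingCone.snd (twoTermMap E)).v 0 0 (add_zero 0) ≫ (twoTermIncl E hE).f 0 :=
      mappingCone.desc_f _ _ _ _ 0 1 (by omega)
    have hz1 : (mappingCone.fst (twoTermMap E)).1.v 0 1 (by omega) = 0 :=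
      (hz _ 1 (by omega)).eq_of_tgt _ _
    rw [hz1, zero_comp, zero_add] at h1
    have hsnd : IsIso ((mappingCone.snd (twoTermMap E)).v 0 0 (add_zero 0)) := by
      refine ⟨(mappingCone.inr (twoTermMap E)).f 0, ?_, mappingCone.inr_f_snd_v _ 0⟩
      have := mappingCone.id_X (twoTermMap E) 0 1 (by omega)
      rw [hz1, zero_comp, zero_add] at this
      exact this
    rw [h1, twoTermIncl_f]
    exact @IsIso.comp_isIso _ _ _ _ _ _ _ hsnd
      (HomologicalComplex.singleObjXSelf (ComplexShape.up ℤ) 0 (E.X 0)).isIso_hom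
  · by_cases h1 : i = -1
    · subst h1
      have h1 : (twoTermConeHom E hE).f (-1) =
          (mappingCone.fst (twoTermMap E)).1.v (-1) 0 (by omega) ≫
          (Cochain.fromSingleMk (𝟙 (E.X (-1))) (by omega : (0 : ℤ) + (-1) = -1)).v 0 (-1)
            (by omega) +
          (mappingCone.snd (twoTermMap E)).v (-1) (-1) (add_zero _) ≫ (twoTermIncl E hE).f (-1) :=
        mappingCone.desc_f _ _ _ _ (-1) 0 (by omega)
      have hz1 : (mappingCone.snd (twoTermMap E)).v (-1) (-1) (add_zero _) = 0 :=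
        (hz _ (-1) (by omega)).eq_of_tgt _ _
      rw [hz1, zero_comp, add_zero, Cochain.fromSingleMk_v, Category.comp_id] at h1
      have hfst : IsIso ((mappingCone.fst (twoTermMap E)).1.v (-1) 0 (by omega)) := by
        refine ⟨(mappingCone.inl (twoTermMap E)).v 0 (-1) (by omega), ?_,
          mappingCone.inl_v_fst_v _ 0 (-1) (by omega)⟩
        have := mappingCone.id_X (twoTermMap E) (-1) 0 (by omega)
        rw [hz1, zero_comp, add_zero] at this
        exact this
      rw [h1]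
      exact @IsIso.comp_isIso _ _ _ _ _ _ _ hfst
        (HomologicalComplex.singleObjXSelf (ComplexShape.up ℤ) 0 (E.X (-1))).isIso_hom
    · refine isIso_of_isZero' _ ?_ (hE i (by omega))
      rw [mappingCone.isZero_X_iff]
      exact ⟨hz _ _ (by omega), hz _ _ h0⟩

/-- The distinguished triangle `E^{-1}[0] → E^0[0] → E → E^{-1}[1]` of a two term complex. -/
theorem twoTerm_triangle (E : DRing.Cx A) (hE : DRing.VanishesOutside E (-1) 0) :
    ∃ (ι : (DerivedCategory.singleFunctor (ModuleCat.{u} A) 0).obj (E.X 0) ⟶ DRing.toD E)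
      (π : DRing.toD E ⟶ ((DerivedCategory.singleFunctor (ModuleCat.{u} A) 0).obj (E.X (-1)))⟦(1 : ℤ)⟧),
      Triangle.mk ((DerivedCategory.singleFunctor (ModuleCat.{u} A) 0).map (E.d (-1) 0)) ι π ∈
        distTriang (Dual.D A) := by
  let φ := twoTermMap E
  let ψ := twoTermConeHom E hE
  have hψ : IsIso ψ := isIso_twoTermConeHom E hE
  let T₀ := DerivedCategory.Q.mapTriangle.obj (mappingCone.triangle φ)
  have hT₀ : T₀ ∈ distTriang _ := mappingCone_triangle_distinguished φ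
  let iN : (DerivedCategory.singleFunctor (ModuleCat.{u} A) 0).obj (E.X (-1)) ≅ T₀.obj₁ :=
    (DerivedCategory.singleFunctorIsoCompQ (ModuleCat.{u} A) 0).app (E.X (-1))
  let iF : (DerivedCategory.singleFunctor (ModuleCat.{u} A) 0).obj (E.X 0) ≅ T₀.obj₂ :=
    (DerivedCategory.singleFunctorIsoCompQ (ModuleCat.{u} A) 0).app (E.X 0)
  have hQψ : IsIso (DerivedCategory.Q.map ψ) := Functor.map_isIso _ _
  let e₃ : T₀.obj₃ ≅ DRing.toD E := @asIso _ _ _ _ (DerivedCategory.Q.map ψ) hQψ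
  refine ⟨iF.hom ≫ T₀.mor₂ ≫ e₃.hom, e₃.inv ≫ T₀.mor₃ ≫ iN.inv⟦(1 : ℤ)⟧', ?_⟩
  refine isomorphic_distinguished T₀ hT₀ _ (Triangle.isoMk _ _ iN iF e₃.symm ?_ ?_ ?_)
  · exact (DerivedCategory.singleFunctorIsoCompQ (ModuleCat.{u} A) 0).hom.naturality (E.d (-1) 0)
  · change (iF.hom ≫ T₀.mor₂ ≫ e₃.hom) ≫ e₃.inv = iF.hom ≫ T₀.mor₂
    rw [Category.assoc, Category.assoc, Iso.hom_inv_id, Category.comp_id]
  · change (e₃.inv ≫ T₀.mor₃ ≫ iN.inv⟦(1 : ℤ)⟧') ≫ iN.hom⟦(1 : ℤ)⟧' = e₃.inv ≫ T₀.mor₃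
    rw [Category.assoc, Category.assoc, ← Functor.map_comp, Iso.inv_hom_id, CategoryTheory.Functor.map_id,
      Category.comp_id]

lemma smul_id_shift_single (M : ModuleCat.{u} A) (a : A) :
    a • 𝟙 (((DerivedCategory.singleFunctor (ModuleCat.{u} A) 0).obj M)⟦(1 : ℤ)⟧) =
      ((DerivedCategory.singleFunctor (ModuleCat.{u} A) 0).map (a • 𝟙 M))⟦(1 : ℤ)⟧' := by
  rw [Functor.map_smul, Functor.map_smul, CategoryTheory.Functor.map_id,
    CategoryTheory.Functor.map_id]

/-- If multiplication by `a` on `E^{-1}` factors through the differential, then `a` kills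
`Ext^1(E, N)`. -/
theorem smul_ext_eq_zero_of_twoTerm (E : DRing.Cx A) (hE : DRing.VanishesOutside E (-1) 0)
    [Module.Projective A (E.X 0)] (a : A) (h : E.X 0 ⟶ E.X (-1))
    (hh : E.d (-1) 0 ≫ h = a • 𝟙 (E.X (-1))) (N : ModuleCat.{u} A)
    (ξ : DRing.toD E ⟶ ((DerivedCategory.singleFunctor (ModuleCat.{u} A) 0).obj N)⟦(1 : ℤ)⟧) :
    a • ξ = 0 := by
  obtain ⟨ι, π, hT⟩ := twoTerm_triangle E hE
  have h0 : ι ≫ ξ = 0 := hom_single_projective_eq_zero (E.X 0) N 1 (by omega) _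
  obtain ⟨(ζ : ((DerivedCategory.singleFunctor (ModuleCat.{u} A) 0).obj (E.X (-1)))⟦(1 : ℤ)⟧ ⟶
    ((DerivedCategory.singleFunctor (ModuleCat.{u} A) 0).obj N)⟦(1 : ℤ)⟧), hζ⟩ :=
    Triangle.yoneda_exact₃ _ hT ξ h0
  have hζ' : ξ = π ≫ ζ := hζ
  have h1 : π ≫ ((DerivedCategory.singleFunctor (ModuleCat.{u} A) 0).map (E.d (-1) 0))⟦(1 : ℤ)⟧' = 0 :=
    comp_distTriang_mor_zero₃₁ _ hT
  have h2 : a • ξ = (π ≫ (a • 𝟙 _)) ≫ ζ := by
    rw [hζ', Linear.comp_smul, Category.comp_id, Linear.smul_comp]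
  rw [h2, smul_id_shift_single, ← hh, Functor.map_comp, Functor.map_comp, ← Category.assoc π, h1,
    zero_comp, zero_comp]

/-- If `a` kills `Ext^1(E, E^{-1})`, then multiplication by `a` on `E^{-1}` factors through the
differential. -/
theorem exists_factor_of_smul_ext_eq_zero (E : DRing.Cx A) (hE : DRing.VanishesOutside E (-1) 0)
    (a : A)
    (hξ : ∀ ξ : DRing.toD E ⟶
      ((DerivedCategory.singleFunctor (ModuleCat.{u} A) 0).obj (E.X (-1)))⟦(1 : ℤ)⟧, a • ξ = 0) :
    ∃ h : E.X 0 ⟶ E.X (-1), E.d (-1) 0 ≫ h = a • 𝟙 (E.X (-1)) := by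
  obtain ⟨ι, π, hT⟩ := twoTerm_triangle E hE
  have hT' := rot_of_distTriang _ hT
  have h1 : π ≫ (a • 𝟙 _) = 0 := by
    rw [Linear.comp_smul, Category.comp_id]
    exact hξ π
  obtain ⟨(g : ((DerivedCategory.singleFunctor (ModuleCat.{u} A) 0).obj (E.X 0))⟦(1 : ℤ)⟧ ⟶
    ((DerivedCategory.singleFunctor (ModuleCat.{u} A) 0).obj (E.X (-1)))⟦(1 : ℤ)⟧), hg⟩ :=
    Triangle.yoneda_exact₃ _ hT' (a • 𝟙 _) h1
  obtain ⟨g₀, rfl⟩ := (CategoryTheory.shiftFunctor (Dual.D A) (1 : ℤ)).map_surjective g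
  obtain ⟨h₀, rfl⟩ := (DerivedCategory.singleFunctor (ModuleCat.{u} A) 0).map_surjective g₀
  refine ⟨-h₀, ?_⟩
  apply (DerivedCategory.singleFunctor (ModuleCat.{u} A) 0).map_injective
  apply (CategoryTheory.shiftFunctor (Dual.D A) (1 : ℤ)).map_injective
  rw [← smul_id_shift_single]
  have hg' : a • 𝟙 (((DerivedCategory.singleFunctor (ModuleCat.{u} A) 0).obj (E.X (-1)))⟦(1 : ℤ)⟧) =
      (-((DerivedCategory.singleFunctor (ModuleCat.{u} A) 0).map (E.d (-1) 0))⟦(1 : ℤ)⟧') ≫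
        ((DerivedCategory.singleFunctor (ModuleCat.{u} A) 0).map h₀)⟦(1 : ℤ)⟧' := hg
  rw [hg', Preadditive.comp_neg, Functor.map_neg, Functor.map_neg, Functor.map_comp,
    Functor.map_comp, Preadditive.neg_comp]

end Groth.Agent.Helper3.DRingLib
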