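import Mathlib

open TensorProduct

universe u

namespace Groth.Agent.Helper3.DVRQuasiSec

open IsLocalRing in
/-- A Noetherian local ring whose maximal ideal is generated by a non-zero-divisor is a domain. -/
theorem isDomain_of_principal_regular (R : Type*) [CommRing R] [IsLocalRing R] [IsNoetherianRing R]
    (π : R) (hπ : IsSMulRegular R π) (hm : maximalIdeal R = Ideal.span {π}) : IsDomain R := by
  have hbot : ⨅ i, (maximalIdeal R) ^ i = ⊥ :=
    Ideal.iInf_pow_eq_bot_of_isLocalRing _ (maximalIdeal.isMaximal R).ne_top
  have hpow : ∀ k : ℕ, π ^ k ≠ 0 := by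
    intro k h0
    have h1 : IsSMulRegular R (π ^ k) := hπ.pow k
    have : (1 : R) = 0 := by
      apply h1
      simp [h0]
    exact one_ne_zero this
  have key : ∀ x : R, x ≠ 0 → ∃ (n : ℕ) (u : R), IsUnit u ∧ x = u * π ^ n := by
    intro x hx
    have hex : ∃ n, x ∉ (maximalIdeal R) ^ n := by
      by_contra hcon
      push Not at hcon
      apply hx
      have : x ∈ ⨅ i, (maximalIdeal R) ^ i := by
        rw [Ideal.mem_iInf]; exact hcon
      rw [hbot] at this
      exact this
    classical
    let n := Nat.find hex
    have hn : x ∉ (maximalIdeal R) ^ n := Nat.find_spec hex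
    have hn0 : n ≠ 0 := by
      intro h0
      rw [h0, pow_zero, Ideal.one_eq_top] at hn
      exact hn trivial
    obtain ⟨m, hm'⟩ := Nat.exists_eq_succ_of_ne_zero hn0
    have hm1 : x ∈ (maximalIdeal R) ^ m := by
      by_contra h
      have := Nat.find_min' hex h
      omega
    rw [hm, Ideal.span_singleton_pow, Ideal.mem_span_singleton] at hm1
    obtain ⟨u, hu⟩ := hm1
    refine ⟨m, u, ?_, by rw [hu, mul_comm]⟩
    by_contra hnu
    have hum : u ∈ maximalIdeal R := (mem_maximalIdeal u).mpr hnu
    apply hn
    rw [hm'] 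
    rw [hm] at hum ⊢
    rw [Ideal.mem_span_singleton] at hum
    obtain ⟨v, hv⟩ := hum
    rw [Ideal.span_singleton_pow, Ideal.mem_span_singleton]
    refine ⟨v, ?_⟩
    rw [hu, hv, pow_succ]
    ring
  haveI : NoZeroDivisors R := by
    constructor
    intro x y hxy
    by_contra hcon
    push Not at hcon
    obtain ⟨a, u, hu, rfl⟩ := key x hcon.1
    obtain ⟨b, v, hv, rfl⟩ := key y hcon.2
    have h1 : (u * v) * π ^ (a + b) = 0 := by
      rw [← hxy]; ring
    have h2 : π ^ (a + b) = 0 := by
      have := (hu.mul hv).mul_right_eq_zero.mp h1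
      exact this
    exact hpow _ h2
  exact NoZeroDivisors.to_isDomain R

open IsLocalRing in
theorem isDVR_of_principal_regular (R : Type*) [CommRing R] [IsLocalRing R] [IsNoetherianRing R]
    [IsDomain R] (π : R) (hπ : π ≠ 0) (hm : maximalIdeal R = Ideal.span {π}) :
    IsDiscreteValuationRing R := by
  have hnf : ¬ IsField R := by
    rw [IsLocalRing.isField_iff_maximalIdeal_eq]
    rw [hm]
    intro h
    apply hπ
    rw [Ideal.span_singleton_eq_bot] at h
    exact h
  have hprin : (maximalIdeal R).IsPrincipal := ⟨π, by rw [hm]⟩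
  exact ((IsDiscreteValuationRing.TFAE R hnf).out 0 4).mpr hprin


open AlgebraicGeometry CategoryTheory Limits in
theorem exists_prime_tensor' (P B T : Type u) [CommRing P] [CommRing B] [CommRing T]
    [Algebra P B] [Algebra P T] (Q : PrimeSpectrum B) (p : PrimeSpectrum T)
    (h : PrimeSpectrum.comap (algebraMap P T) p = PrimeSpectrum.comap (algebraMap P B) Q) :
    ∃ z : PrimeSpectrum (T ⊗[P] B),
      PrimeSpectrum.comap (algebraMap T (T ⊗[P] B)) z = p ∧
      PrimeSpectrum.comap (Algebra.TensorProduct.includeRight : B →ₐ[P] T ⊗[P] B).toRingHom z = Q := by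
  have hpb := isPullback_SpecMap_of_isPushout _ _ _ _ (CommRingCat.isPushout_tensorProduct P T B)
  obtain ⟨z, hz1, hz2⟩ := Scheme.exists_preimage_of_isPullback hpb p Q h
  exact ⟨z, hz1, hz2⟩

set_option maxHeartbeats 1600000 in
theorem main (B : Type u) [CommRing B] [IsDomain B] [IsDiscreteValuationRing B]
    (A : Type u) [CommRing A] [Algebra B A] [Algebra.FiniteType B A]
    (p : Ideal A) [p.IsPrime] (hp : p.comap (algebraMap B A) = IsLocalRing.maximalIdeal B)
    [Algebra.IsSmoothAt B p]
    (hres : Function.Surjective ((algebraMap A p.ResidueField).comp (algebraMap B A))) :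
    ∃ (B' : Type u) (_ : CommRing B') (_ : IsDomain B') (_ : IsDiscreteValuationRing B')
      (ψ : A →+* B'),
      Ideal.comap ψ (IsLocalRing.maximalIdeal B') = p ∧
      Function.Injective (ψ.comp (algebraMap B A)) ∧
      Ideal.map (ψ.comp (algebraMap B A)) (IsLocalRing.maximalIdeal B) =
        IsLocalRing.maximalIdeal B' ∧
      Function.Surjective ((IsLocalRing.residue B').comp (ψ.comp (algebraMap B A))) := by
  haveI : Algebra.FinitePresentation B A :=
    Algebra.FinitePresentation.of_finiteType.mp inferInstance
  obtain ⟨f, hfq, n, alg, tower, hstd⟩ :=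
    Algebra.IsSmoothAt.exists_isStandardEtale_mvPolynomial (R := B) (p := p)
  have hdisj : Disjoint (Submonoid.powers f : Set A) (p : Set A) :=
    (Ideal.disjoint_powers_iff_notMem_of_isPrime _).mpr hfq
  haveI hqf : (p.map (algebraMap A (Localization.Away f))).IsPrime :=
    IsLocalization.isPrime_of_isPrime_disjoint (.powers f) _ _ ‹_› hdisj
  have hqf_comap : (p.map (algebraMap A (Localization.Away f))).comap
      (algebraMap A (Localization.Away f)) = p :=
    IsLocalization.under_map_of_isPrime_disjoint (.powers f) _ ‹_› hdisj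
  -- elements of `A` are congruent to elements of `B` modulo `p`
  have hA : ∀ a : A, ∃ b : B, a - algebraMap B A b ∈ p := by
    intro a
    obtain ⟨b, hb⟩ := hres (algebraMap A p.ResidueField a)
    refine ⟨b, ?_⟩
    rw [← Ideal.algebraMap_residueField_eq_zero, map_sub, sub_eq_zero]
    exact hb.symm
  have hAq : ∀ a : A, ∃ b : B, Ideal.Quotient.mk (p.map (algebraMap A (Localization.Away f)))
      (algebraMap A (Localization.Away f) a) =
      Ideal.Quotient.mk (p.map (algebraMap A (Localization.Away f)))
        (algebraMap B (Localization.Away f) b) := by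
    intro a
    obtain ⟨b, hb⟩ := hA a
    refine ⟨b, ?_⟩
    rw [Ideal.Quotient.eq, IsScalarTower.algebraMap_apply B A (Localization.Away f), ← map_sub]
    exact Ideal.mem_map_of_mem _ hb
  have hmB : ∀ b : B, algebraMap B (Localization.Away f) b ∈
      p.map (algebraMap A (Localization.Away f)) ↔ b ∈ IsLocalRing.maximalIdeal B := by
    intro b
    rw [← hp, Ideal.mem_comap, IsScalarTower.algebraMap_apply B A (Localization.Away f)]
    conv_rhs => rw [← hqf_comap]
    rfl
  have hC : ∀ c : Localization.Away f, ∃ b : B,
      Ideal.Quotient.mk (p.map (algebraMap A (Localization.Away f))) c =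
      Ideal.Quotient.mk (p.map (algebraMap A (Localization.Away f)))
        (algebraMap B (Localization.Away f) b) := by
    intro c
    obtain ⟨⟨a, s⟩, hc⟩ := IsLocalization.surj (Submonoid.powers f) c
    obtain ⟨m, hm⟩ := s.2
    obtain ⟨ba, hba⟩ := hAq a
    obtain ⟨bf, hbf⟩ := hAq f
    have hbfu : IsUnit bf := by
      by_contra hnu
      have h1 : bf ∈ IsLocalRing.maximalIdeal B := (IsLocalRing.mem_maximalIdeal bf).mpr hnu
      have h2 := (hmB bf).mpr h1
      rw [← Ideal.Quotient.eq_zero_iff_mem, ← hbf, Ideal.Quotient.eq_zero_iff_mem] at h2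
      have h3 : f ∈ (p.map (algebraMap A (Localization.Away f))).comap
          (algebraMap A (Localization.Away f)) := h2
      rw [hqf_comap] at h3
      exact hfq h3
    obtain ⟨u, rfl⟩ := hbfu
    refine ⟨ba * ↑(u⁻¹ ^ m), ?_⟩
    have h4 := congrArg (Ideal.Quotient.mk (p.map (algebraMap A (Localization.Away f)))) hc
    simp only [map_mul] at h4
    rw [hba, ← hm, map_pow, map_pow, hbf] at h4
    have h5 : Ideal.Quotient.mk (p.map (algebraMap A (Localization.Away f)))
        (algebraMap B (Localization.Away f) (↑u)) ^ m *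
        Ideal.Quotient.mk (p.map (algebraMap A (Localization.Away f)))
        (algebraMap B (Localization.Away f) (↑(u⁻¹ ^ m))) = 1 := by
      rw [← map_pow, ← map_pow, ← map_mul, ← map_mul, ← Units.val_pow_eq_pow_val, ← Units.val_mul,
        ← mul_pow, mul_inv_cancel, one_pow, Units.val_one, map_one, map_one]
    rw [map_mul, map_mul, ← h4, mul_assoc, h5, mul_one]
  choose t ht using fun i : Fin n =>
    hC (algebraMap (MvPolynomial (Fin n) B) (Localization.Away f) (MvPolynomial.X i))
  let ev : MvPolynomial (Fin n) B →ₐ[B] B := MvPolynomial.aeval t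
  have hev : ∀ g : MvPolynomial (Fin n) B,
      Ideal.Quotient.mk (p.map (algebraMap A (Localization.Away f)))
        (algebraMap (MvPolynomial (Fin n) B) (Localization.Away f) g) =
      Ideal.Quotient.mk (p.map (algebraMap A (Localization.Away f)))
        (algebraMap B (Localization.Away f) (ev g)) := by
    intro g
    have h1 : (Ideal.Quotient.mkₐ B (p.map (algebraMap A (Localization.Away f)))).comp
        (IsScalarTower.toAlgHom B (MvPolynomial (Fin n) B) (Localization.Away f)) =
        (Ideal.Quotient.mkₐ B (p.map (algebraMap A (Localization.Away f)))).comp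
          ((Algebra.ofId B (Localization.Away f)).comp ev) := by
      apply MvPolynomial.algHom_ext
      intro i
      simp only [AlgHom.comp_apply, IsScalarTower.coe_toAlgHom', Ideal.Quotient.mkₐ_eq_mk,
        Algebra.ofId_apply]
      rw [ht i]
      congr 2
      exact (MvPolynomial.aeval_X t i).symm
    exact congr($h1 g)
  have hcomap : (p.map (algebraMap A (Localization.Away f))).comap
      (algebraMap (MvPolynomial (Fin n) B) (Localization.Away f)) =
      (IsLocalRing.maximalIdeal B).comap ev.toRingHom := by
    ext g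
    rw [Ideal.mem_comap, Ideal.mem_comap, ← Ideal.Quotient.eq_zero_iff_mem, hev g,
      Ideal.Quotient.eq_zero_iff_mem, hmB]
    rfl
  letI algPB : Algebra (MvPolynomial (Fin n) B) B := ev.toRingHom.toAlgebra
  haveI : IsScalarTower B (MvPolynomial (Fin n) B) B :=
    .of_algebraMap_eq' (RingHom.ext fun r => (ev.commutes r).symm)
  obtain ⟨z, hz1, hz2⟩ := exists_prime_tensor' (MvPolynomial (Fin n) B) (Localization.Away f) B
    ⟨_, hqf⟩ ⟨IsLocalRing.maximalIdeal B, inferInstance⟩ (PrimeSpectrum.ext hcomap.symm)
  haveI : Algebra.Etale (MvPolynomial (Fin n) B) (Localization.Away f) := inferInstance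
  haveI hEet : Algebra.Etale B (B ⊗[MvPolynomial (Fin n) B] Localization.Away f) := inferInstance
  have hz1' : z.asIdeal.comap (algebraMap B (B ⊗[MvPolynomial (Fin n) B] Localization.Away f)) =
      IsLocalRing.maximalIdeal B := congrArg PrimeSpectrum.asIdeal hz1
  have hz2' : z.asIdeal.comap (Algebra.TensorProduct.includeRight :
      Localization.Away f →ₐ[MvPolynomial (Fin n) B]
        B ⊗[MvPolynomial (Fin n) B] Localization.Away f).toRingHom =
      p.map (algebraMap A (Localization.Away f)) := congrArg PrimeSpectrum.asIdeal hz2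
  have hone : ∀ b : B, (1 : B) ⊗ₜ[MvPolynomial (Fin n) B] algebraMap B (Localization.Away f) b =
      algebraMap B (B ⊗[MvPolynomial (Fin n) B] Localization.Away f) b := by
    intro b
    rw [IsScalarTower.algebraMap_apply B (MvPolynomial (Fin n) B) (Localization.Away f),
      Algebra.algebraMap_eq_smul_one (A := Localization.Away f), ← TensorProduct.smul_tmul,
      Algebra.TensorProduct.algebraMap_apply]
    congr 1
    show ev (MvPolynomial.C b) • (1 : B) = algebraMap B B b
    simp [ev]
  have hE : ∀ e : B ⊗[MvPolynomial (Fin n) B] Localization.Away f, ∃ b : B,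
      Ideal.Quotient.mk z.asIdeal e = Ideal.Quotient.mk z.asIdeal
        (algebraMap B (B ⊗[MvPolynomial (Fin n) B] Localization.Away f) b) := by
    intro e
    induction e using TensorProduct.induction_on with
    | zero => exact ⟨0, by simp⟩
    | tmul b₀ c =>
      obtain ⟨bc, hbc⟩ := hC c
      refine ⟨b₀ * bc, ?_⟩
      have h1 : (1 : B) ⊗ₜ[MvPolynomial (Fin n) B] c -
          (1 : B) ⊗ₜ[MvPolynomial (Fin n) B] (algebraMap B (Localization.Away f) bc) ∈
            z.asIdeal := by
        rw [← TensorProduct.tmul_sub]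
        have : c - algebraMap B (Localization.Away f) bc ∈
            p.map (algebraMap A (Localization.Away f)) := Ideal.Quotient.eq.mp hbc
        rw [← hz2'] at this
        exact this
      rw [hone] at h1
      have h2 : b₀ ⊗ₜ[MvPolynomial (Fin n) B] c =
          algebraMap B (B ⊗[MvPolynomial (Fin n) B] Localization.Away f) b₀ *
            ((1 : B) ⊗ₜ[MvPolynomial (Fin n) B] c) := by
        rw [Algebra.TensorProduct.algebraMap_apply, Algebra.TensorProduct.tmul_mul_tmul,
          mul_one, one_mul]
        rfl
      rw [h2, map_mul (algebraMap B (B ⊗[MvPolynomial (Fin n) B] Localization.Away f)),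
        map_mul, map_mul, Ideal.Quotient.eq.mpr h1]
    | add x y hx hy =>
      obtain ⟨bx, hbx⟩ := hx
      obtain ⟨by', hby⟩ := hy
      exact ⟨bx + by', by rw [map_add, map_add, map_add, hbx, hby]⟩
  haveI : IsNoetherianRing (B ⊗[MvPolynomial (Fin n) B] Localization.Away f) :=
    Algebra.FiniteType.isNoetherianRing B _
  haveI : IsNoetherianRing (Localization.AtPrime z.asIdeal) :=
    IsLocalization.isNoetherianRing z.asIdeal.primeCompl _ inferInstance
  haveI : Module.Flat B (Localization.AtPrime z.asIdeal) :=
    Module.Flat.trans B (B ⊗[MvPolynomial (Fin n) B] Localization.Away f) _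
  have hcm : Ideal.comap (algebraMap (B ⊗[MvPolynomial (Fin n) B] Localization.Away f)
      (Localization.AtPrime z.asIdeal)) (IsLocalRing.maximalIdeal (Localization.AtPrime z.asIdeal)) =
      z.asIdeal := IsLocalization.AtPrime.comap_maximalIdeal (Localization.AtPrime z.asIdeal) z.asIdeal
  have hcomapB : (IsLocalRing.maximalIdeal (Localization.AtPrime z.asIdeal)).comap
      (algebraMap B (Localization.AtPrime z.asIdeal)) = IsLocalRing.maximalIdeal B := by
    rw [IsScalarTower.algebraMap_eq B (B ⊗[MvPolynomial (Fin n) B] Localization.Away f)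
      (Localization.AtPrime z.asIdeal), ← Ideal.comap_comap, hcm, hz1']
  haveI : IsLocalHom (algebraMap B (Localization.AtPrime z.asIdeal)) :=
    ((IsLocalRing.local_hom_TFAE _).out 0 4).mpr hcomapB
  haveI : Algebra.FormallyUnramified B (Localization.AtPrime z.asIdeal) := inferInstance
  haveI : Algebra.EssFiniteType B (Localization.AtPrime z.asIdeal) :=
    Algebra.EssFiniteType.comp B (B ⊗[MvPolynomial (Fin n) B] Localization.Away f) _
  have hmap : (IsLocalRing.maximalIdeal B).map (algebraMap B (Localization.AtPrime z.asIdeal)) =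
      IsLocalRing.maximalIdeal _ := Algebra.FormallyUnramified.map_maximalIdeal
  haveI : Module.FaithfullyFlat B (Localization.AtPrime z.asIdeal) :=
    Module.FaithfullyFlat.of_flat_of_isLocalHom
  have hinj : Function.Injective (algebraMap B (Localization.AtPrime z.asIdeal)) :=
    FaithfulSMul.algebraMap_injective B _
  obtain ⟨π, hπ⟩ := IsDiscreteValuationRing.exists_irreducible B
  have hmπ : IsLocalRing.maximalIdeal B = Ideal.span {π} := hπ.maximalIdeal_eq
  have hm' : IsLocalRing.maximalIdeal (Localization.AtPrime z.asIdeal) =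
      Ideal.span {algebraMap B (Localization.AtPrime z.asIdeal) π} := by
    rw [← hmap, hmπ, Ideal.map_span, Set.image_singleton]
  have hregB : IsSMulRegular B π := by
    intro x y h
    exact mul_left_cancel₀ hπ.ne_zero h
  have hreg : IsSMulRegular (Localization.AtPrime z.asIdeal)
      (algebraMap B (Localization.AtPrime z.asIdeal) π) := IsSMulRegular.of_flat hregB
  haveI hdom : IsDomain (Localization.AtPrime z.asIdeal) :=
    isDomain_of_principal_regular _ _ hreg hm'
  have hπ0 : algebraMap B (Localization.AtPrime z.asIdeal) π ≠ 0 := by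
    intro h0
    exact hπ.ne_zero (hinj (h0.trans (map_zero _).symm))
  haveI hdvr : IsDiscreteValuationRing (Localization.AtPrime z.asIdeal) :=
    isDVR_of_principal_regular _ _ hπ0 hm'
  let ψ : A →+* Localization.AtPrime z.asIdeal :=
    (algebraMap (B ⊗[MvPolynomial (Fin n) B] Localization.Away f) _).comp
      ((Algebra.TensorProduct.includeRight : Localization.Away f →ₐ[MvPolynomial (Fin n) B]
        B ⊗[MvPolynomial (Fin n) B] Localization.Away f).toRingHom.comp
          (algebraMap A (Localization.Away f)))
  have hψB : ψ.comp (algebraMap B A) = algebraMap B (Localization.AtPrime z.asIdeal) := by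
    ext b
    show algebraMap (B ⊗[MvPolynomial (Fin n) B] Localization.Away f) _
      ((1 : B) ⊗ₜ (algebraMap A (Localization.Away f) (algebraMap B A b))) = _
    rw [← IsScalarTower.algebraMap_apply B A (Localization.Away f), hone,
      ← IsScalarTower.algebraMap_apply]
  refine ⟨Localization.AtPrime z.asIdeal, inferInstance, hdom, hdvr, ψ, ?_, ?_, ?_, ?_⟩
  · show Ideal.comap ((algebraMap (B ⊗[MvPolynomial (Fin n) B] Localization.Away f) _).comp
      ((Algebra.TensorProduct.includeRight : Localization.Away f →ₐ[MvPolynomial (Fin n) B]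
        B ⊗[MvPolynomial (Fin n) B] Localization.Away f).toRingHom.comp
          (algebraMap A (Localization.Away f)))) _ = p
    rw [← Ideal.comap_comap, hcm, ← Ideal.comap_comap, hz2', hqf_comap]
  · rw [hψB]; exact hinj
  · rw [hψB]; exact hmap
  · rw [hψB]
    intro y
    obtain ⟨x, rfl⟩ := IsLocalRing.residue_surjective y
    obtain ⟨⟨e, s⟩, hx⟩ := IsLocalization.surj z.asIdeal.primeCompl x
    obtain ⟨be, hbe⟩ := hE e
    obtain ⟨bs, hbs⟩ := hE s
    have hresE : ∀ (e' : B ⊗[MvPolynomial (Fin n) B] Localization.Away f) (b' : B),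
        Ideal.Quotient.mk z.asIdeal e' = Ideal.Quotient.mk z.asIdeal (algebraMap B _ b') →
        IsLocalRing.residue (Localization.AtPrime z.asIdeal) (algebraMap _ _ e') =
          IsLocalRing.residue (Localization.AtPrime z.asIdeal) (algebraMap B _ b') := by
      intro e' b' h
      have h1 : e' - algebraMap B _ b' ∈ z.asIdeal := Ideal.Quotient.eq.mp h
      have h2 : algebraMap _ (Localization.AtPrime z.asIdeal) (e' - algebraMap B _ b') ∈
          IsLocalRing.maximalIdeal (Localization.AtPrime z.asIdeal) :=
        (IsLocalization.AtPrime.to_map_mem_maximal_iff _ z.asIdeal _).mpr h1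
      rw [← IsLocalRing.residue_eq_zero_iff, map_sub, map_sub, sub_eq_zero,
        ← IsScalarTower.algebraMap_apply] at h2
      exact h2
    have hbsu : IsUnit bs := by
      by_contra hnu
      have h1 : bs ∈ IsLocalRing.maximalIdeal B := (IsLocalRing.mem_maximalIdeal bs).mpr hnu
      rw [← hz1'] at h1
      have h2 : (s : B ⊗[MvPolynomial (Fin n) B] Localization.Away f) ∈ z.asIdeal := by
        rw [← Ideal.Quotient.eq_zero_iff_mem, hbs, Ideal.Quotient.eq_zero_iff_mem]
        exact h1
      exact s.2 h2
    obtain ⟨u, rfl⟩ := hbsu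
    refine ⟨be * ↑u⁻¹, ?_⟩
    have h3 := congrArg (IsLocalRing.residue (Localization.AtPrime z.asIdeal)) hx
    rw [map_mul, hresE e be hbe, hresE s u hbs] at h3
    show IsLocalRing.residue _ (algebraMap B _ (be * ↑u⁻¹)) = IsLocalRing.residue _ x
    have h6 : algebraMap B (Localization.AtPrime z.asIdeal) (↑u) *
        algebraMap B (Localization.AtPrime z.asIdeal) (↑u⁻¹) = 1 := by
      rw [← map_mul, Units.mul_inv, map_one]
    rw [map_mul (algebraMap B (Localization.AtPrime z.asIdeal)),
      map_mul (IsLocalRing.residue (Localization.AtPrime z.asIdeal)), ← h3, mul_assoc,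
      ← map_mul (IsLocalRing.residue (Localization.AtPrime z.asIdeal)), h6, map_one, mul_one]

end Groth.Agent.Helper3.DVRQuasiSec
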