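import Groth.Agent.Helper3.DomTfae

open AlgebraicGeometry CategoryTheory CategoryTheory.Limits TopologicalSpace Opposite IsLocalRing

universe u

namespace Groth.Agent.Helper3.DedFlat

/-- the prime of `O_{X,x}` corresponding to a generization `ξ` of `x` is the preimage of the
maximal ideal of `O_{X,ξ}` -/
theorem prime_of_generization {X : Scheme.{u}} {ξ x : X} (h : ξ ⤳ x)
    (𝔭 : PrimeSpectrum (X.presheaf.stalk x)) (h𝔭 : X.fromSpecStalk x 𝔭 = ξ) :
    𝔭.asIdeal = (maximalIdeal (X.presheaf.stalk ξ)).comap (X.presheaf.stalkSpecializes h).hom := by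
  have h1 : X.fromSpecStalk x (Spec.map (X.presheaf.stalkSpecializes h)
      (closedPoint (X.presheaf.stalk ξ))) = ξ := by
    show (Spec.map (X.presheaf.stalkSpecializes h) ≫ X.fromSpecStalk x) _ = _
    rw [Scheme.SpecMap_stalkSpecializes_fromSpecStalk]
    exact Scheme.fromSpecStalk_closedPoint
  have h2 : Spec.map (X.presheaf.stalkSpecializes h) (closedPoint (X.presheaf.stalk ξ)) = 𝔭 :=
    (X.fromSpecStalk x).isEmbedding.injective (h1.trans h𝔭.symm)
  rw [← h2]
  rfl


/-- an irreducible component with dense image has its generic point mapped to the generic point -/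
theorem map_generic_of_dense {X Y : Scheme.{u}} [IrreducibleSpace Y] (f : X ⟶ Y) (Z : Set X)
    (ξ : X) (hξ : IsGenericPoint ξ Z) (hd : Dense (f.base '' Z)) : f ξ = genericPoint Y := by
  have hsub : f.base '' Z ⊆ closure ({f ξ} : Set Y) := by
    rintro _ ⟨z, hz, rfl⟩
    have h1 : ξ ⤳ z := hξ.specializes hz
    exact specializes_iff_mem_closure.mp (h1.map f.continuous)
  have h1 : closure ({f ξ} : Set Y) = Set.univ := by
    apply Set.eq_univ_of_univ_subset
    rw [← hd.closure_eq]
    exact closure_minimal hsub isClosed_closure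
  have hg1 : IsGenericPoint (f ξ) (⊤ : Set Y) := h1
  exact hg1.eq (genericPoint_spec Y)

/-- torsion-freeness of stalks over a domain stalk when all components dominate -/
theorem torsionFree_stalk {X Y : Scheme.{u}} [IsIntegral Y] (f : X ⟶ Y) [IsReduced X]
    (hdom : ∀ Z ∈ irreducibleComponents (X : Type u), Dense (f.base '' Z))
    (x : X) (a : Y.presheaf.stalk (f x)) (ha : a ≠ 0) (m : X.presheaf.stalk x)
    (hm : (f.stalkMap x).hom a * m = 0) : m = 0 := by
  have hnil : m ∈ nilradical (X.presheaf.stalk x) := by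
    rw [nilradical_eq_sInf, Ideal.mem_sInf]
    intro 𝔮 h𝔮
    haveI : 𝔮.IsPrime := h𝔮
    obtain ⟨𝔭, h𝔭min, h𝔭le⟩ := Ideal.exists_minimalPrimes_le (I := ⊥) (J := 𝔮) bot_le
    apply h𝔭le
    haveI h𝔭p : 𝔭.IsPrime := h𝔭min.1.1
    have hmem : (f.stalkMap x).hom a * m ∈ 𝔭 := by rw [hm]; exact 𝔭.zero_mem
    refine (h𝔭p.mem_or_mem hmem).resolve_left ?_
    intro haP
    -- the corresponding generic point
    let P : PrimeSpectrum (X.presheaf.stalk x) := ⟨𝔭, h𝔭p⟩
    set ξ := X.fromSpecStalk x P with hξdef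
    have hξx : ξ ⤳ x := by
      have : ξ ∈ Set.range (X.fromSpecStalk x) := ⟨P, rfl⟩
      rwa [Scheme.range_fromSpecStalk] at this
    have hZ' := irreducibleComponent_mem_irreducibleComponents ξ
    obtain ⟨ξ', hξ'⟩ := QuasiSober.sober (isIrreducible_irreducibleComponent (x := ξ))
      (isClosed_irreducibleComponent (x := ξ))
    have hξ'ξ : ξ' ⤳ ξ := hξ'.specializes mem_irreducibleComponent
    have hξ'x : ξ' ⤳ x := hξ'ξ.trans hξx
    have hgen : f ξ' = genericPoint Y := map_generic_of_dense f _ ξ' hξ' (hdom _ hZ')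
    obtain ⟨P', hP'⟩ : ∃ P' : PrimeSpectrum (X.presheaf.stalk x), X.fromSpecStalk x P' = ξ' := by
      have : ξ' ∈ Set.range (X.fromSpecStalk x) := by
        rw [Scheme.range_fromSpecStalk]; exact hξ'x
      exact this
    have hind : Topology.IsInducing (X.fromSpecStalk x) :=
      (X.fromSpecStalk x).isEmbedding.isInducing
    have hle : P' ≤ P := by
      rw [PrimeSpectrum.le_iff_specializes]
      exact (hind.specializes_iff (x := P') (y := P)).mp (by rw [hP']; exact hξ'ξ)
    have hle' : 𝔭 ≤ P'.asIdeal := h𝔭min.2 ⟨P'.isPrime, bot_le⟩ hle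
    have haP' : (f.stalkMap x).hom a ∈ P'.asIdeal := hle' haP
    rw [prime_of_generization hξ'x P' hP', Ideal.mem_comap] at haP'
    -- naturality
    have hnat := f.stalkSpecializes_stalkMap _ _ hξ'x
    have h1 : (X.presheaf.stalkSpecializes hξ'x).hom ((f.stalkMap x).hom a) =
        (f.stalkMap ξ').hom ((Y.presheaf.stalkSpecializes (hξ'x.map f.continuous)).hom a) :=
      (congrArg (fun φ => φ.hom a) hnat).symm
    rw [h1] at haP'
    have hb : (Y.presheaf.stalkSpecializes (hξ'x.map f.continuous)).hom a ≠ 0 := by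
      intro h0
      exact ha (CurveFlat.stalkSpecializes_injective Y (hξ'x.map f.continuous)
        (by rw [h0, map_zero]))
    have hF := CurveFlat.isField_stalk_of_eq_genericPoint Y _ hgen
    have hu : IsUnit ((Y.presheaf.stalkSpecializes (hξ'x.map f.continuous)).hom a) := by
      obtain ⟨c, hc⟩ := hF.mul_inv_cancel hb
      exact IsUnit.of_mul_eq_one _ hc
    exact haP' (hu.map (f.stalkMap ξ').hom)
  have hred : nilradical (X.presheaf.stalk x) = ⊥ := nilradical_eq_bot_iff.mpr inferInstance
  rw [hred] at hnil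
  exact hnil


/-- S10887 -/
theorem s10887 {X Y : Scheme.{u}} [IsIntegral Y]
    (hreg : ∀ y : Y, IsRegularLocalRing (Y.presheaf.stalk y)) (hdim : topologicalKrullDim Y ≤ 1)
    (f : X ⟶ Y) [IsReduced X] :
    Flat f ↔ ∀ Z ∈ irreducibleComponents (X : Type u), Dense (f.base '' Z) := by
  constructor
  · intro hflat Z hZ
    obtain ⟨ξ, hξ⟩ := QuasiSober.sober hZ.1 (isClosed_of_mem_irreducibleComponents Z hZ)
    obtain ⟨x', hx'ξ, hfx'⟩ := Flat.generalizingMap f (genericPoint_specializes (f ξ))
    change x' ⤳ ξ at hx'ξ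
    have hZsub : Z ⊆ closure ({x'} : Set X) := by
      rw [← hξ.def]
      exact closure_minimal (Set.singleton_subset_iff.mpr hx'ξ.mem_closure) isClosed_closure
    have hsub : closure ({x'} : Set X) ⊆ Z := hZ.2 isIrreducible_singleton.closure hZsub
    have hξx' : ξ ⤳ x' := hξ.specializes (hsub (subset_closure rfl))
    have hxeq : x' = ξ := (hx'ξ.antisymm hξx').eq
    rw [hxeq] at hfx'
    rw [Dense]
    intro y
    have h1 : genericPoint Y ∈ f.base '' Z := ⟨ξ, hξ.mem, hfx'⟩
    have h2 : closure ({genericPoint Y} : Set Y) ⊆ closure (f.base '' Z) :=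
      closure_mono (Set.singleton_subset_iff.mpr h1)
    rw [(genericPoint_spec Y).def] at h2
    exact h2 (Set.mem_univ y)
  · intro hdom
    apply Flat.of_stalkMap
    intro x
    haveI := hreg (f x)
    obtain ⟨hd, hval⟩ := DimOneExt.valuationRing_of_regular (Y.presheaf.stalk (f x))
      ((CurveFlat.ringKrullDim_stalk_le Y (f x)).trans hdim)
    letI : Algebra (Y.presheaf.stalk (f x)) (X.presheaf.stalk x) := (f.stalkMap x).hom.toAlgebra
    show Module.Flat (Y.presheaf.stalk (f x)) (X.presheaf.stalk x)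
    rw [Module.Flat.flat_iff_torsion_eq_bot_of_isBezout, Submodule.eq_bot_iff]
    intro m hm
    obtain ⟨a, ha⟩ := (Submodule.mem_torsion_iff m).mp hm
    exact torsionFree_stalk f hdom x a (nonZeroDivisors.coe_ne_zero a) m ha

end Groth.Agent.Helper3.DedFlat
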