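import Mathlib
set_option backward.isDefEq.respectTransparency.types false
set_option maxHeartbeats 4000000
set_option synthInstance.maxHeartbeats 400000
set_option autoImplicit false
universe u

namespace Groth.Agent.Helper3.DedFlatQ

open TensorProduct

variable {A K : Type u} [CommRing A] [IsDomain A] [Field K] [Algebra A K] [IsFractionRing A K]
  {M : Type u} [AddCommGroup M] [Module A M]

/-- every element of `K ⊗ M` is `(1/s) ⊗ m`. -/
theorem exists_smul_eq_tmul (x : K ⊗[A] M) :
    ∃ (s : A) (m : M), s ≠ 0 ∧ (algebraMap A K s) • x = (1 : K) ⊗ₜ[A] m := by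
  haveI : IsLocalizedModule (nonZeroDivisors A) (TensorProduct.mk A K M 1) :=
    (isLocalizedModule_iff_isBaseChange (nonZeroDivisors A) K _).mpr
      (TensorProduct.isBaseChange A M K)
  obtain ⟨⟨m, s⟩, h⟩ := IsLocalizedModule.surj (nonZeroDivisors A) (TensorProduct.mk A K M 1) x
  refine ⟨s, m, nonZeroDivisors.ne_zero s.2, ?_⟩
  rw [algebraMap_smul]
  exact h

/-- For flat `N`, `N → K ⊗ N` is injective. -/
theorem tmul_one_injective (N : Type u) [AddCommGroup N] [Module A N] [Module.Flat A N] :
    Function.Injective (fun n : N => (1 : K) ⊗ₜ[A] n) := by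
  have h := Module.Flat.rTensor_preserves_injective_linearMap (M := N)
    (Algebra.linearMap A K) (IsFractionRing.injective A K)
  intro a b hab
  have : (Algebra.linearMap A K).rTensor N ((1 : A) ⊗ₜ a) = (Algebra.linearMap A K).rTensor N ((1 : A) ⊗ₜ b) := by
    simpa using hab
  have h2 := h this
  have h3 := congrArg (TensorProduct.lid A N) h2
  simpa using h3

theorem mem_iff_of_smul {P : Submodule K (K ⊗[A] M)} {s : A} (hs : s ≠ 0) (x : K ⊗[A] M) :
    (algebraMap A K s) • x ∈ P ↔ x ∈ P := by
  have hs' : algebraMap A K s ≠ 0 := by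
    rwa [Ne, map_eq_zero_iff _ (IsFractionRing.injective A K)]
  constructor
  · intro h
    have := P.smul_mem (algebraMap A K s)⁻¹ h
    rwa [smul_smul, inv_mul_cancel₀ hs', one_smul] at this
  · exact fun h => P.smul_mem _ h

end Groth.Agent.Helper3.DedFlatQ

namespace Groth.Agent.Helper3.DedFlatQ

open TensorProduct

theorem main {A K : Type u} [CommRing A] [IsDedekindDomain A] [Field K]
    [Algebra A K] [IsFractionRing A K] {M : Type u} [AddCommGroup M] [Module A M]
    (P' : Submodule K (K ⊗[A] M)) (Q : Submodule A M) :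
    Q = LinearMap.ker ((P'.restrictScalars A).mkQ ∘ₗ TensorProduct.mk A K M 1) ↔
      (Module.Flat A (M ⧸ Q) ∧ LinearMap.ker (Q.mkQ.baseChange K) = P') := by
  have hker : ∀ m : M, m ∈ LinearMap.ker ((P'.restrictScalars A).mkQ ∘ₗ TensorProduct.mk A K M 1) ↔
      (1 : K) ⊗ₜ[A] m ∈ P' := by
    intro m
    rw [LinearMap.mem_ker, LinearMap.comp_apply, Submodule.mkQ_apply,
      Submodule.Quotient.mk_eq_zero]
    rfl
  constructor
  · rintro rfl
    set Q := LinearMap.ker ((P'.restrictScalars A).mkQ ∘ₗ TensorProduct.mk A K M 1) with hQ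
    have hflat : Module.Flat A (M ⧸ Q) := by
      rw [IsDedekindDomain.flat_iff_torsion_eq_bot, eq_bot_iff]
      intro y hy
      rw [Submodule.mem_torsion_iff] at hy
      obtain ⟨a, ha⟩ := hy
      obtain ⟨m, rfl⟩ := Q.mkQ_surjective y
      have ha0 : (a : A) ≠ 0 := nonZeroDivisors.ne_zero a.2
      rw [Submodule.mem_bot, Submodule.mkQ_apply, Submodule.Quotient.mk_eq_zero, hker]
      have h1 : (a : A) • m ∈ Q := by
        rw [← Submodule.Quotient.mk_eq_zero, Submodule.Quotient.mk_smul]
        exact ha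
      rw [hker, TensorProduct.tmul_smul, ← algebraMap_smul K] at h1
      exact (mem_iff_of_smul ha0 _).mp h1
    refine ⟨hflat, ?_⟩
    ext x
    obtain ⟨s, m, hs, hx⟩ := exists_smul_eq_tmul (A := A) (K := K) x
    rw [← mem_iff_of_smul hs x, ← mem_iff_of_smul (P := P') hs x, hx, ← hker, LinearMap.mem_ker,
      LinearMap.baseChange_tmul, Submodule.mkQ_apply]
    constructor
    · intro h
      have : (1 : K) ⊗ₜ[A] (Submodule.Quotient.mk m : M ⧸ Q) = (1 : K) ⊗ₜ[A] (0 : M ⧸ Q) := by
        rw [h, TensorProduct.tmul_zero]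
      have := tmul_one_injective (A := A) (K := K) (M ⧸ Q) this
      exact (Submodule.Quotient.mk_eq_zero Q).mp this
    · intro h
      rw [(Submodule.Quotient.mk_eq_zero Q).mpr h, TensorProduct.tmul_zero]
  · rintro ⟨hflat, hk⟩
    ext m
    rw [hker, ← hk, LinearMap.mem_ker, LinearMap.baseChange_tmul, Submodule.mkQ_apply]
    constructor
    · intro h
      rw [(Submodule.Quotient.mk_eq_zero Q).mpr h, TensorProduct.tmul_zero]
    · intro h
      have : (1 : K) ⊗ₜ[A] (Submodule.Quotient.mk m : M ⧸ Q) = (1 : K) ⊗ₜ[A] (0 : M ⧸ Q) := by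
        rw [h, TensorProduct.tmul_zero]
      have := tmul_one_injective (A := A) (K := K) (M ⧸ Q) this
      exact (Submodule.Quotient.mk_eq_zero Q).mp this

end Groth.Agent.Helper3.DedFlatQ
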