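import Mathlib
set_option linter.style.haveILetI false
set_option linter.unusedSectionVars false
set_option linter.unusedVariables false

namespace Groth.Agent.Helper3.DerExt
open TensorProduct

universe u

/-- Extension of a `ℤ`-derivation along a formally étale map. -/
noncomputable def extend {R T : Type u} [CommRing R] [CommRing T] [Algebra R T]
    [Algebra.FormallyEtale R T] (D : Derivation ℤ R R) : Derivation ℤ T T :=
  ((LinearMap.liftBaseChange T ((Algebra.linearMap R T).comp D.liftKaehlerDifferential)).comp
    (KaehlerDifferential.tensorKaehlerEquivOfFormallyEtale ℤ R T).symm.toLinearMap).compDer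
      (KaehlerDifferential.D ℤ T)

lemma extend_algebraMap {R T : Type u} [CommRing R] [CommRing T] [Algebra R T]
    [Algebra.FormallyEtale R T] (D : Derivation ℤ R R) (r : R) :
    extend (T := T) D (algebraMap R T r) = algebraMap R T (D r) := by
  unfold extend
  rw [Derivation.coe_comp]
  simp only [LinearMap.comp_apply, LinearEquiv.coe_coe, LinearMap.coe_restrictScalars,
    Derivation.coeFn_coe]
  rw [KaehlerDifferential.tensorKaehlerEquivOfFormallyEtale_symm_D_algebraMap]
  simp

variable {R R' : Type u} [CommRing R] [CommRing R'] [Algebra R R']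

lemma isLocalization_away (hinj : Function.Injective (algebraMap R R')) (g : R)
    (hloc : ∀ x : R', ∃ n : ℕ, (algebraMap R R' g) ^ n * x ∈ Set.range (algebraMap R R'))
    (T : Type u) [CommRing T] [Algebra R' T] [Algebra R T] [IsScalarTower R R' T]
    [IsLocalization.Away (algebraMap R R' g) T] :
    IsLocalization.Away g T := by
  set g' := algebraMap R R' g with hg'
  have hu : IsUnit (algebraMap R T g) := by
    rw [IsScalarTower.algebraMap_apply R R' T]
    exact IsLocalization.Away.algebraMap_isUnit g'
  refine IsLocalization.Away.mk g hu ?_ ?_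
  · intro z
    obtain ⟨n, x, hx⟩ := IsLocalization.Away.surj g' z
    obtain ⟨m, r, hr⟩ := hloc x
    refine ⟨n + m, r, ?_⟩
    rw [IsScalarTower.algebraMap_apply R R' T r, hr, IsScalarTower.algebraMap_apply R R' T g,
      map_mul, ← hx, map_pow, pow_add]
    ring
  · intro a b hab
    rw [IsScalarTower.algebraMap_apply R R' T, IsScalarTower.algebraMap_apply R R' T] at hab
    obtain ⟨n, hn⟩ := IsLocalization.Away.exists_of_eq g' hab
    refine ⟨n, hinj ?_⟩
    simpa using hn

theorem main_aux [Algebra.FiniteType R R']
    (hinj : Function.Injective (algebraMap R R')) (g : R) (hg : IsSMulRegular R' (algebraMap R R' g))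
    (hloc : ∀ x : R', ∃ n : ℕ, (algebraMap R R' g) ^ n * x ∈ Set.range (algebraMap R R'))
    (D : Derivation ℤ R R)
    (T : Type u) [CommRing T] [Algebra R' T] [Algebra R T] [IsScalarTower R R' T]
    [IsLocalization.Away (algebraMap R R' g) T] :
    ∃ (N : ℕ) (D' : Derivation ℤ R' R'),
      ∀ r : R, D' (algebraMap R R' r) = algebraMap R R' (g ^ N * D r) := by
  classical
  set g' := algebraMap R R' g with hg'
  haveI : IsLocalization.Away g T := isLocalization_away hinj g hloc T
  haveI : Algebra.FormallyEtale R T := Algebra.FormallyEtale.of_isLocalization (Submonoid.powers g)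
  let DT : Derivation ℤ T T := extend D
  have hDT : ∀ r, DT (algebraMap R T r) = algebraMap R T (D r) := extend_algebraMap D
  let ι : R' →+* T := algebraMap R' T
  have hι : Function.Injective ι := by
    apply IsLocalization.injective T (M := Submonoid.powers g')
    rintro _ ⟨n, rfl⟩
    have h1 : IsSMulRegular R' (g' ^ n) := hg.pow n
    rw [mem_nonZeroDivisors_iff_right]
    intro x hx
    apply h1
    simpa [mul_comm] using hx
  -- every element of T times a power of g' lies in the image of R'
  have hden : ∀ z : T, ∃ n : ℕ, ι (g' ^ n) * z ∈ Set.range ι := by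
    intro z
    obtain ⟨n, x, hx⟩ := IsLocalization.Away.surj g' z
    exact ⟨n, x, by rw [← hx, map_pow]; ring⟩
  obtain ⟨s, hs⟩ := (Algebra.FiniteType.out : (⊤ : Subalgebra R R').FG)
  choose n hn using fun x : R' => hden (DT (ι x))
  let N := s.sup n
  have hN : ∀ x ∈ s, ι (g' ^ N) * DT (ι x) ∈ Set.range ι := by
    intro x hx
    have hle : n x ≤ N := Finset.le_sup hx
    obtain ⟨y, hy⟩ := hn x
    refine ⟨g' ^ (N - n x) * y, ?_⟩
    rw [map_mul, hy, ← mul_assoc, ← map_mul, ← pow_add, Nat.sub_add_cancel hle]
  let E : Derivation ℤ T T := (ι (g' ^ N)) • DT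
  have hE : ∀ z, E z = ι (g' ^ N) * DT z := fun z => rfl
  -- the subalgebra of elements whose image is mapped into the image
  let S : Subalgebra R R' :=
    { carrier := {x | E (ι x) ∈ Set.range ι}
      mul_mem' := by
        rintro a b ⟨a', ha⟩ ⟨b', hb⟩
        refine ⟨a * b' + b * a', ?_⟩
        simp only [map_mul, map_add, Derivation.leibniz, smul_eq_mul, ha, hb]
      add_mem' := by
        rintro a b ⟨a', ha⟩ ⟨b', hb⟩
        exact ⟨a' + b', by simp only [map_add, ha, hb]⟩
      algebraMap_mem' := by
        intro r
        refine ⟨algebraMap R R' (g ^ N * D r), ?_⟩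
        show ι (algebraMap R R' (g ^ N * D r)) = E (ι (algebraMap R R' r))
        rw [hE, ← IsScalarTower.algebraMap_apply R R' T, ← IsScalarTower.algebraMap_apply R R' T,
          hDT, map_mul, map_pow, IsScalarTower.algebraMap_apply R R' T g, map_pow] }
  have hS : S = ⊤ := by
    rw [eq_top_iff, ← hs]
    apply Algebra.adjoin_le
    intro x hx
    exact hN x hx
  have hall : ∀ x : R', ∃ y : R', ι y = E (ι x) := by
    intro x
    have : x ∈ S := hS ▸ Algebra.mem_top
    exact this
  choose D' hD' using hall
  have hadd : ∀ x y, D' (x + y) = D' x + D' y := by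
    intro x y
    apply hι
    simp only [map_add, hD']
  let D'lin : R' →ₗ[ℤ] R' := (AddMonoidHom.mk' D' hadd).toIntLinearMap
  have hleib : ∀ a b, D'lin (a * b) = a • D'lin b + b • D'lin a := by
    intro a b
    show D' (a * b) = a • D' b + b • D' a
    apply hι
    simp only [map_mul, map_add, hD', smul_eq_mul, Derivation.leibniz]
  refine ⟨N, Derivation.mk' D'lin hleib, ?_⟩
  intro r
  show D' (algebraMap R R' r) = _
  apply hι
  rw [hD', hE]
  show ι (g' ^ N) * DT (ι (algebraMap R R' r)) = ι (algebraMap R R' (g ^ N * D r))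
  rw [← IsScalarTower.algebraMap_apply R R' T, ← IsScalarTower.algebraMap_apply R R' T,
    hDT, map_mul, map_pow, map_pow, IsScalarTower.algebraMap_apply R R' T g]

theorem main [Algebra.FiniteType R R']
    (hinj : Function.Injective (algebraMap R R')) (g : R) (hg : IsSMulRegular R' (algebraMap R R' g))
    (hloc : ∀ x : R', ∃ n : ℕ, (algebraMap R R' g) ^ n * x ∈ Set.range (algebraMap R R'))
    (D : Derivation ℤ R R) :
    ∃ (N : ℕ) (D' : Derivation ℤ R' R'),
      ∀ r : R, D' (algebraMap R R' r) = algebraMap R R' (g ^ N * D r) :=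
  main_aux hinj g hg hloc D (Localization.Away (algebraMap R R' g))

end Groth.Agent.Helper3.DerExt
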