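import Mathlib

set_option autoImplicit false
set_option linter.style.haveILetI false
set_option linter.unusedSectionVars false
set_option linter.unusedVariables false
set_option linter.deprecated false
set_option linter.style.haveILetI false
set_option linter.unusedSectionVars false
set_option linter.unusedVariables false

universe u

namespace Groth.Agent.Helper3.DetCodim1

open TensorProduct

/-- Over a noetherian local ring, a linear map between finite free modules which becomes bijective
over some field-valued point through every prime of height `≤ 1` is bijective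
(determinant + Krull's principal ideal theorem). -/
theorem bijective_local {R : Type u} [CommRing R] [IsLocalRing R] [IsNoetherianRing R]
    {M N : Type u} [AddCommGroup M] [Module R M] [AddCommGroup N] [Module R N]
    [Module.Finite R M] [Module.Free R M] [Module.Finite R N] [Module.Free R N]
    (φ : M →ₗ[R] N)
    (h : ∀ (p : Ideal R), p.IsPrime → p.height ≤ 1 →
      ∃ (κ : Type u) (_ : Field κ) (_ : Algebra R κ),
        p ≤ RingHom.ker (algebraMap R κ) ∧ Function.Bijective (φ.baseChange κ)) :
    Function.Bijective φ := by
  -- equal ranks, from a minimal prime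
  obtain ⟨p₀, hp₀⟩ := (⊥ : Ideal R).nonempty_minimalPrimes (by simp)
  have hp₀prime : p₀.IsPrime := hp₀.1.1
  have hp₀h : p₀.height ≤ 1 := by
    have : p₀.height = 0 := Ideal.height_eq_zero_iff.mpr (by simpa [minimalPrimes] using hp₀)
    rw [this]; exact bot_le
  have hrank : Module.finrank R N = Module.finrank R M := by
    obtain ⟨κ, _, _, -, hbij⟩ := h p₀ hp₀prime hp₀h
    have e : (κ ⊗[R] M) ≃ₗ[κ] (κ ⊗[R] N) := LinearEquiv.ofBijective (φ.baseChange κ) hbij
    have := e.finrank_eq
    rw [Module.finrank_baseChange, Module.finrank_baseChange] at this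
    exact this.symm
  let e : N ≃ₗ[R] M := LinearEquiv.ofFinrankEq N M hrank
  let θ : M →ₗ[R] M := e.toLinearMap ∘ₗ φ
  suffices hθ : IsUnit (LinearMap.det θ) by
    have hu : IsUnit θ := (LinearMap.isUnit_iff_isUnit_det θ).mpr hθ
    have hb : Function.Bijective θ := (Module.End.isUnit_iff θ).mp hu
    have : (φ : M → N) = e.symm ∘ θ := by
      ext x; simp [θ]
    rw [this]
    exact e.symm.bijective.comp hb
  by_contra hd
  obtain ⟨p, hp⟩ := (Ideal.span {LinearMap.det θ}).nonempty_minimalPrimes
    (by rwa [Ne, Ideal.span_singleton_eq_top])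
  have hpprime : p.IsPrime := hp.1.1
  have hph : p.height ≤ 1 := Ideal.height_le_one_of_isPrincipal_of_mem_minimalPrimes _ p hp
  obtain ⟨κ, _, _, hker, hbij⟩ := h p hpprime hph
  have hdp : LinearMap.det θ ∈ p := hp.1.2 (Ideal.mem_span_singleton_self _)
  have h0 : algebraMap R κ (LinearMap.det θ) = 0 := hker hdp
  have hbc : θ.baseChange κ = (e.toLinearMap.baseChange κ) ∘ₗ (φ.baseChange κ) :=
    LinearMap.baseChange_comp _ _
  have hbij' : Function.Bijective (θ.baseChange κ) := by
    rw [hbc, LinearMap.coe_comp]
    refine Function.Bijective.comp ?_ hbij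
    exact (e.baseChange R κ N M).bijective
  have hu : IsUnit (θ.baseChange κ) := (Module.End.isUnit_iff _).mpr hbij'
  have hud := LinearMap.isUnit_det _ hu
  rw [LinearMap.det_baseChange, h0] at hud
  exact not_isUnit_zero hud

/-- naturality of `cancelBaseChange` -/
theorem cancel_nat {A R' κ : Type u} [CommRing A] [CommRing R'] [Field κ] [Algebra A R']
    [Algebra A κ] [Algebra R' κ] [IsScalarTower A R' κ]
    {M N : Type u} [AddCommGroup M] [Module A M] [AddCommGroup N] [Module A N]
    (φ : M →ₗ[A] N) (x : κ ⊗[R'] (R' ⊗[A] M)) :
    (TensorProduct.AlgebraTensorModule.cancelBaseChange A R' κ κ N)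
      (((φ.baseChange R').baseChange κ) x) =
    (φ.baseChange κ) ((TensorProduct.AlgebraTensorModule.cancelBaseChange A R' κ κ M) x) := by
  induction x using TensorProduct.induction_on with
  | zero => simp
  | add x y hx hy => simp only [map_add, hx, hy]
  | tmul c y =>
    induction y using TensorProduct.induction_on with
    | zero => simp
    | add x y hx hy => simp only [TensorProduct.tmul_add, map_add, hx, hy]
    | tmul r m =>
      simp [TensorProduct.AlgebraTensorModule.cancelBaseChange_tmul, TensorProduct.smul_tmul']

/-- Over a noetherian ring, a linear map between finite flat modules which becomes bijective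
at a field-valued point with kernel `p`, for every prime `p` of height `≤ 1`, is bijective. -/
theorem bijective_global {A : Type u} [CommRing A] [IsNoetherianRing A]
    {M N : Type u} [AddCommGroup M] [Module A M] [AddCommGroup N] [Module A N]
    [Module.Finite A M] [Module.Flat A M] [Module.Finite A N] [Module.Flat A N]
    (φ : M →ₗ[A] N)
    (h : ∀ (p : Ideal A), p.IsPrime → p.height ≤ 1 →
      ∃ (κ : Type u) (_ : Field κ) (_ : Algebra A κ),
        RingHom.ker (algebraMap A κ) = p ∧ Function.Bijective (φ.baseChange κ)) :
    Function.Bijective φ := by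
  apply bijective_of_isLocalized_maximal
    (fun P _ => Localization.AtPrime P ⊗[A] M)
    (fun P _ => TensorProduct.mk A (Localization.AtPrime P) M 1)
    (fun P _ => Localization.AtPrime P ⊗[A] N)
    (fun P _ => TensorProduct.mk A (Localization.AtPrime P) N 1) φ
  intro J hJ
  set R' := Localization.AtPrime J with hR'
  have hmap : IsLocalizedModule.map J.primeCompl (TensorProduct.mk A R' M 1)
      (TensorProduct.mk A R' N 1) φ = (φ.baseChange R').restrictScalars A := by
    apply IsLocalizedModule.ext J.primeCompl (TensorProduct.mk A R' M 1)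
      (IsLocalizedModule.map_units (TensorProduct.mk A R' N 1))
    ext m
    show (IsLocalizedModule.map J.primeCompl (TensorProduct.mk A R' M 1)
      (TensorProduct.mk A R' N 1) φ) ((TensorProduct.mk A R' M 1) m) = _
    rw [IsLocalizedModule.map_apply]
    rfl
  rw [hmap]
  show Function.Bijective (φ.baseChange R')
  haveI : Module.Free R' (R' ⊗[A] M) := Module.free_of_flat_of_isLocalRing
  haveI : Module.Free R' (R' ⊗[A] N) := Module.free_of_flat_of_isLocalRing
  apply bijective_local
  intro p' hp' hp'h
  set p : Ideal A := p'.comap (algebraMap A R') with hp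
  have hpprime : p.IsPrime := Ideal.IsPrime.comap _
  have hph : p.height ≤ 1 := by
    have := IsLocalization.height_under J.primeCompl (A := R') p'
    rw [show p'.under A = p from rfl] at this
    rw [this]; exact hp'h
  obtain ⟨κ, iκ, aκ, hker, hbij⟩ := h p hpprime hph
  have hpJ : p ≤ J := by
    intro x hx
    by_contra hxJ
    have : IsUnit (algebraMap A R' x) := IsLocalization.map_units R' (⟨x, hxJ⟩ : J.primeCompl)
    exact hp'.ne_top (Ideal.eq_top_of_isUnit_mem _ hx this)
  have hunits : ∀ y : J.primeCompl, IsUnit (algebraMap A κ y) := by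
    intro y
    rw [isUnit_iff_ne_zero]
    intro h0
    have : (y : A) ∈ p := by rw [← hker]; exact h0
    exact y.2 (hpJ this)
  let ψ : R' →+* κ := IsLocalization.lift hunits
  letI aκ' : Algebra R' κ := ψ.toAlgebra
  haveI : IsScalarTower A R' κ := IsScalarTower.of_algebraMap_eq (fun x => by
    show algebraMap A κ x = ψ (algebraMap A R' x)
    rw [IsLocalization.lift_eq])
  refine ⟨κ, iκ, aκ', ?_, ?_⟩
  · intro x hx
    obtain ⟨a, s, rfl⟩ := IsLocalization.exists_mk'_eq J.primeCompl x
    have ha : algebraMap A R' a ∈ p' := by
      have := p'.mul_mem_left (algebraMap A R' s) hx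
      rwa [mul_comm, IsLocalization.mk'_spec] at this
    have ha' : a ∈ RingHom.ker (algebraMap A κ) := by rw [hker]; exact ha
    rw [RingHom.mem_ker]
    show ψ (IsLocalization.mk' R' a s) = 0
    rw [IsLocalization.lift_mk', RingHom.mem_ker.mp ha', zero_mul]
  · let c1 := TensorProduct.AlgebraTensorModule.cancelBaseChange A R' κ κ M
    let c2 := TensorProduct.AlgebraTensorModule.cancelBaseChange A R' κ κ N
    have hcomm : ∀ x, c2 (((φ.baseChange R').baseChange κ) x) = (φ.baseChange κ) (c1 x) :=
      cancel_nat φ
    have : (((φ.baseChange R').baseChange κ) : _ → _) = c2.symm ∘ (φ.baseChange κ) ∘ c1 := by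
      ext x
      simp only [Function.comp_apply]
      rw [← hcomm, LinearEquiv.symm_apply_apply]
    rw [this]
    exact c2.symm.bijective.comp (hbij.comp c1.bijective)

end Groth.Agent.Helper3.DetCodim1
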