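import Mathlib

/-!
# A detecting family contains a small detecting subfamily (given a small detecting family)
-/

namespace Groth.Agent.Helper3.DetectSmall

open CategoryTheory CategoryTheory.Limits

universe w v u

variable {E : Type u} [Category.{v} E]

/-- `f` induces a bijection on maps out of `Z`. -/
def Bij (Z : E) {A B : E} (f : A ⟶ B) : Prop := ∀ h : Z ⟶ B, ∃! h' : Z ⟶ A, h' ≫ f = h

/-- `f` induces an injection on maps out of `Z`. -/
def Inj (Z : E) {A B : E} (f : A ⟶ B) : Prop := ∀ h₁ h₂ : Z ⟶ A, h₁ ≫ f = h₂ ≫ f → h₁ = h₂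

lemma detecting_iff {κ : Type*} (G : κ → E) :
    (ObjectProperty.ofObj G).IsDetecting ↔
      ∀ ⦃A B : E⦄ (f : A ⟶ B), (∀ k, Bij (G k) f) → IsIso f := by
  constructor
  · intro h A B f hf
    apply h f
    rintro Z ⟨k⟩ g
    exact hf k g
  · intro h A B f hf
    apply h f
    intro k g
    exact hf (G k) ⟨k⟩ g

variable [HasPullbacks E]

lemma bij_pullback {A B B' : E} (f : A ⟶ B) (g : B' ⟶ B) (Z : E) (h : Bij Z f) :
    Bij Z (pullback.snd f g) := by
  intro t
  obtain ⟨ℓ, hℓ, huniq⟩ := h (t ≫ g)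
  refine ⟨pullback.lift ℓ t hℓ, pullback.lift_snd _ _ _, ?_⟩
  intro s hs
  apply pullback.hom_ext
  · rw [pullback.lift_fst]
    apply huniq
    rw [Category.assoc, pullback.condition, ← Category.assoc, hs]
  · rw [pullback.lift_snd, hs]

lemma inj_pullback {A B B' : E} (f : A ⟶ B) (g : B' ⟶ B) (Z : E) (h : Inj Z f) :
    Inj Z (pullback.snd f g) := by
  intro s₁ s₂ hs
  apply pullback.hom_ext
  · apply h
    rw [Category.assoc, Category.assoc, pullback.condition, ← Category.assoc, ← Category.assoc, hs]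
  · exact hs

lemma existsUnique_lift_of_isIso {A B B' : E} (f : A ⟶ B) (g : B' ⟶ B)
    [IsIso (pullback.snd f g)] : ∃! ℓ : B' ⟶ A, ℓ ≫ f = g := by
  refine ⟨inv (pullback.snd f g) ≫ pullback.fst f g, ?_, ?_⟩
  · show (inv (pullback.snd f g) ≫ pullback.fst f g) ≫ f = g
    rw [Category.assoc, pullback.condition, IsIso.inv_hom_id_assoc]
  · intro ℓ hℓ
    have h1 : pullback.lift ℓ (𝟙 B') (by rw [hℓ, Category.id_comp]) ≫ pullback.snd f g = 𝟙 B' :=
      pullback.lift_snd _ _ _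
    have h2 : pullback.lift ℓ (𝟙 B') (by rw [hℓ, Category.id_comp]) = inv (pullback.snd f g) := by
      rw [← cancel_mono (pullback.snd f g), h1, IsIso.inv_hom_id]
    rw [← h2, pullback.lift_fst]

section Main

variable {κ : Type*} (G : κ → E) (hG : (ObjectProperty.ofObj G).IsDetecting)
  {I : Type w} (Y : I → E) (hY : (ObjectProperty.ofObj Y).IsDetecting) (J : Set I)
  (R : ∀ (k : κ) (i : I) (g : Y i ⟶ G k), ∃ j ∈ J, ∃ g' : Y j ⟶ G k,
    ∀ (k' : κ) (t : G k' ⟶ Y i), ∃ t' : G k' ⟶ Y j, t' ≫ g' = t ≫ g)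

include hG hY R

lemma stepA0 {A' : E} {k : κ} (f' : A' ⟶ G k) (h1 : ∀ j ∈ J, Bij (Y j) f')
    (h2 : ∀ k', Inj (G k') f') : IsIso f' := by
  apply (detecting_iff Y).1 hY
  intro i g
  have : IsIso (pullback.snd f' g) := by
    apply (detecting_iff G).1 hG
    intro k' t
    obtain ⟨j, hj, g', hg'⟩ := R k i g
    obtain ⟨t', ht'⟩ := hg' k' t
    obtain ⟨ℓ, hℓ, -⟩ := h1 j hj g'
    refine ⟨pullback.lift (t' ≫ ℓ) t (by rw [Category.assoc, hℓ, ht']),
      pullback.lift_snd _ _ _, ?_⟩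
    intro s hs
    apply inj_pullback f' g (G k') (h2 k')
    rw [hs, pullback.lift_snd]
  exact existsUnique_lift_of_isIso f' g

lemma stepA {A B : E} (f : A ⟶ B) (h1 : ∀ j ∈ J, Bij (Y j) f)
    (h2 : ∀ k', Inj (G k') f) : IsIso f := by
  apply (detecting_iff G).1 hG
  intro k g
  have : IsIso (pullback.snd f g) :=
    stepA0 G hG Y hY J R (pullback.snd f g) (fun j hj => bij_pullback f g _ (h1 j hj))
      (fun k' => inj_pullback f g _ (h2 k'))
  exact existsUnique_lift_of_isIso f g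

lemma stepB {A B : E} (f : A ⟶ B) (h1 : ∀ j ∈ J, Bij (Y j) f) : IsIso f := by
  let δ : A ⟶ pullback f f := pullback.lift (𝟙 A) (𝟙 A) rfl
  have hδ1 : δ ≫ pullback.fst f f = 𝟙 A := pullback.lift_fst _ _ _
  have hδ2 : δ ≫ pullback.snd f f = 𝟙 A := pullback.lift_snd _ _ _
  have : IsIso δ := by
    apply stepA G hG Y hY J R δ
    · intro j hj w
      have hw : w ≫ pullback.fst f f = w ≫ pullback.snd f f := by
        obtain ⟨ℓ, -, huniq⟩ := h1 j hj (w ≫ pullback.fst f f ≫ f)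
        rw [huniq (w ≫ pullback.fst f f) (by
            show (w ≫ pullback.fst f f) ≫ f = _
            rw [Category.assoc]),
          huniq (w ≫ pullback.snd f f) (by
            show (w ≫ pullback.snd f f) ≫ f = _
            rw [Category.assoc, pullback.condition])]
      refine ⟨w ≫ pullback.fst f f, ?_, ?_⟩
      · apply pullback.hom_ext
        · rw [Category.assoc, hδ1, Category.comp_id]
        · rw [Category.assoc, hδ2, Category.comp_id, hw]
      · intro h'' hh
        rw [← hh, Category.assoc, hδ1, Category.comp_id]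
    · intro k' s₁ s₂ hs
      have := congrArg (fun m => m ≫ pullback.fst f f) hs
      simpa [Category.assoc, hδ1] using this
  have h12 : pullback.fst f f = pullback.snd f f := by
    rw [← cancel_epi δ, hδ1, hδ2]
  apply stepA G hG Y hY J R f h1
  intro k' a b hab
  calc a = pullback.lift a b hab ≫ pullback.fst f f := (pullback.lift_fst _ _ _).symm
    _ = pullback.lift a b hab ≫ pullback.snd f f := by rw [h12]
    _ = b := pullback.lift_snd _ _ _

lemma detecting_sub : (ObjectProperty.ofObj (fun j : J => Y j)).IsDetecting := by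
  rw [detecting_iff]
  intro A B f hf
  exact stepB G hG Y hY J R f (fun j hj => hf ⟨j, hj⟩)

end Main

theorem main {κ : Type v} (G : κ → E) (hG : (ObjectProperty.ofObj G).IsDetecting)
    {I : Type w} (Y : I → E) (hY : (ObjectProperty.ofObj Y).IsDetecting) :
    ∃ J : Set I, Small.{v} J ∧ (ObjectProperty.ofObj (fun j : J => Y j)).IsDetecting := by
  classical
  let Φ : ∀ k : κ, (Σ i, (Y i ⟶ G k)) → (∀ k', Set (G k' ⟶ G k)) :=
    fun k x k' => {m | ∃ t : G k' ⟶ Y x.1, t ≫ x.2 = m}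
  have hσ : ∀ (k : κ) (p : Set.range (Φ k)), ∃ x, Φ k x = p.1 := fun k p => p.2
  choose σ hσ' using hσ
  let J : Set I := Set.range (fun x : Σ k, Set.range (Φ k) => (σ x.1 x.2).1)
  refine ⟨J, small_range _, detecting_sub G hG Y hY J ?_⟩
  intro k i g
  let p : Set.range (Φ k) := ⟨Φ k ⟨i, g⟩, ⟨_, rfl⟩⟩
  refine ⟨(σ k p).1, ⟨⟨k, p⟩, rfl⟩, (σ k p).2, ?_⟩
  intro k' t
  have h1 : t ≫ g ∈ Φ k ⟨i, g⟩ k' := ⟨t, rfl⟩
  have h2 : Φ k (σ k p) = Φ k ⟨i, g⟩ := hσ' k p
  rw [← h2] at h1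
  obtain ⟨t', ht'⟩ := h1
  exact ⟨t', ht'⟩

end Groth.Agent.Helper3.DetectSmall
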