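import Mathlib

set_option autoImplicit false
set_option linter.style.haveILetI false
set_option linter.unusedSectionVars false
set_option linter.unusedVariables false
set_option linter.style.haveILetI false
set_option linter.unusedSectionVars false
set_option linter.unusedVariables false

universe u

namespace Groth.Agent.Helper3.DevDS

/-- S6389 -/
theorem main (R : Type u) [CommRing R] (M : Type u)
    [AddCommGroup M] [Module R M] (S : Type u) [LinearOrder S] [WellFoundedLT S] (Mf : S → Submodule R M)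
    (hmono : Monotone Mf)
    (hlim : ∀ s : S, Order.IsSuccPrelimit s → Mf s = ⨆ t : {t : S // t < s}, Mf t.1)
    (htop : (⨆ s, Mf s) = ⊤)
    (hcompl : ∀ s t : S, s ⋖ t → ∃ C : Submodule R M, Mf s ⊓ C = ⊥ ∧ Mf s ⊔ C = Mf t) :
    Nonempty (M ≃ₗ[R] DirectSum {p : S × S // p.1 ⋖ p.2}
        fun p => ↥(Mf p.1.2) ⧸ Submodule.comap (Mf p.1.2).subtype (Mf p.1.1)) := by
  classical
  choose C hC1 hC2 using fun p : {p : S × S // p.1 ⋖ p.2} => hcompl p.1.1 p.1.2 p.2
  have hCle : ∀ p : {p : S × S // p.1 ⋖ p.2}, C p ≤ Mf p.1.2 := fun p => by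
    rw [← hC2 p]; exact le_sup_right
  have hA : ∀ s : S, Mf s ≤ ⨆ p : {p : S × S // p.1 ⋖ p.2}, C p := by
    intro s
    induction s using WellFoundedLT.induction with
    | ind s ih =>
      by_cases hs : Order.IsSuccPrelimit s
      · rw [hlim s hs]
        exact iSup_le fun t => ih t.1 t.2
      · rw [Order.not_isSuccPrelimit_iff] at hs
        obtain ⟨r, hr⟩ := hs
        have := hC2 ⟨(r, s), hr⟩
        rw [← this]
        exact sup_le (ih r hr.lt) (le_iSup C ⟨(r, s), hr⟩)
  have hsup : (⨆ p : {p : S × S // p.1 ⋖ p.2}, C p) = ⊤ :=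
    top_le_iff.mp (htop ▸ iSup_le hA)
  have hsurj : Function.Surjective (DirectSum.coeLinearMap C) := by
    rw [← LinearMap.range_eq_top, DirectSum.range_coeLinearMap, hsup]
  have hinj : Function.Injective (DirectSum.coeLinearMap C) := by
    rw [injective_iff_map_eq_zero]
    intro x hx
    by_contra hne
    have hsupp : (DFinsupp.support x).Nonempty := by
      rw [Finset.nonempty_iff_ne_empty, Ne, DFinsupp.support_eq_empty]
      exact hne
    obtain ⟨p, hp, hmax⟩ := Finset.exists_max_image (DFinsupp.support x) (fun p => p.1.2) hsupp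
    rw [DirectSum.coeLinearMap_eq_dfinsuppSum, DFinsupp.sum, ← Finset.add_sum_erase _ _ hp] at hx
    have h2 : ∀ q ∈ (DFinsupp.support x).erase p, ((x q : C q) : M) ∈ Mf p.1.1 := by
      intro q hq
      have hqp : q.1.2 ≤ p.1.2 := hmax q (Finset.mem_of_mem_erase hq)
      have hne' : q.1.2 ≠ p.1.2 := by
        intro h
        have hq2 := q.2
        rw [h] at hq2
        have h1 : q.1.1 = p.1.1 := hq2.unique_left p.2
        exact (Finset.ne_of_mem_erase hq) (Subtype.ext (Prod.ext h1 h))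
      have hlt : q.1.2 < p.1.2 := lt_of_le_of_ne hqp hne'
      exact hmono (p.2.le_of_lt hlt) (hCle q (x q).2)
    have h3 : ((x p : C p) : M) ∈ Mf p.1.1 ⊓ C p := by
      refine ⟨?_, (x p).2⟩
      have : ((x p : C p) : M) = - ∑ q ∈ (DFinsupp.support x).erase p, ((x q : C q) : M) :=
        eq_neg_of_add_eq_zero_left hx
      rw [this]
      exact neg_mem (Submodule.sum_mem _ h2)
    rw [hC1 p, Submodule.mem_bot] at h3
    exact (DFinsupp.mem_support_iff.mp hp) (Subtype.ext h3)
  -- component isomorphisms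
  have hcomp : ∀ p : {p : S × S // p.1 ⋖ p.2}, Nonempty (C p ≃ₗ[R]
      (↥(Mf p.1.2) ⧸ Submodule.comap (Mf p.1.2).subtype (Mf p.1.1))) := by
    intro p
    let φ : C p →ₗ[R] (↥(Mf p.1.2) ⧸ Submodule.comap (Mf p.1.2).subtype (Mf p.1.1)) :=
      (Submodule.mkQ _) ∘ₗ (Submodule.inclusion (hCle p))
    refine ⟨LinearEquiv.ofBijective φ ⟨?_, ?_⟩⟩
    · rw [injective_iff_map_eq_zero]
      intro c hc
      change Submodule.Quotient.mk _ = 0 at hc
      rw [Submodule.Quotient.mk_eq_zero] at hc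
      have h1 : (c : M) ∈ Mf p.1.1 ⊓ C p := ⟨hc, c.2⟩
      rw [hC1 p, Submodule.mem_bot] at h1
      exact Subtype.ext h1
    · intro y
      obtain ⟨y, rfl⟩ := Submodule.mkQ_surjective _ y
      have hy : (y : M) ∈ Mf p.1.1 ⊔ C p := by rw [hC2 p]; exact y.2
      obtain ⟨a, ha, c, hc, hac⟩ := Submodule.mem_sup.mp hy
      refine ⟨⟨c, hc⟩, ?_⟩
      change Submodule.Quotient.mk _ = Submodule.Quotient.mk _
      rw [Submodule.Quotient.eq]
      change ((⟨c, hCle p hc⟩ : Mf p.1.2) - y : Mf p.1.2).1 ∈ Mf p.1.1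
      have : ((⟨c, hCle p hc⟩ : Mf p.1.2) - y : Mf p.1.2).1 = - a := by
        change c - (y : M) = -a
        rw [← hac]; abel
      rw [this]
      exact neg_mem ha
  let e : ∀ p : {p : S × S // p.1 ⋖ p.2}, C p ≃ₗ[R]
      (↥(Mf p.1.2) ⧸ Submodule.comap (Mf p.1.2).subtype (Mf p.1.1)) :=
    fun p => Classical.choice (hcomp p)
  exact ⟨(LinearEquiv.ofBijective (DirectSum.coeLinearMap C) ⟨hinj, hsurj⟩).symm.trans
    (DFinsupp.mapRange.linearEquiv e)⟩

end Groth.Agent.Helper3.DevDS
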