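import Mathlib
import Groth.Agent.Helper5.BCMin12
import Groth.Agent.Helper1.Dev9

set_option autoImplicit false
set_option linter.style.haveILetI false
set_option linter.unusedSectionVars false
set_option linter.unusedVariables false
set_option linter.deprecated false
set_option linter.style.haveILetI false
set_option linter.unusedSectionVars false
set_option linter.unusedVariables false

open CategoryTheory Limits AlgebraicGeometry TopologicalSpace Opposite
universe u

namespace Groth.Agent.Helper3.DiagC

theorem dim_closure_image {A B : Type*} [TopologicalSpace A] [TopologicalSpace B] {j : A → B}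
    (hj : Topology.IsClosedEmbedding j) (a : A) :
    topologicalKrullDim ↥(closure ({j a} : Set B)) = topologicalKrullDim ↥(closure ({a} : Set A)) := by
  have h1 : closure ({j a} : Set B) = j '' closure ({a} : Set A) := by
    rw [← hj.closure_image_eq, Set.image_singleton]
  rw [h1]
  exact (IsHomeomorph.topologicalKrullDim_eq _
    (hj.isEmbedding.homeomorphImage (closure ({a} : Set A))).isHomeomorph).symm

/-- a point of `X ×ₖ X` specializing to the diagonal point over `ξ ∈ V ∩ W`, lying in `V × W`, of
dimension `dim V + dim W` -/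
theorem exists_big_point (k : Type u) [Field k] {X : Scheme.{u}}
    (f : X ⟶ Spec (CommRingCat.of k)) [LocallyOfFiniteType f]
    (V W : Closeds X) (hVi : IsIrreducible (V : Set X)) (hWi : IsIrreducible (W : Set X))
    (r s : ℕ) (hr : topologicalKrullDim ↥(V : Set X) = r) (hs : topologicalKrullDim ↥(W : Set X) = s)
    (ξ : X) (hξV : ξ ∈ V) (hξW : ξ ∈ W) :
    ∃ ζ : ↥(pullback f f), ζ ⤳ pullback.diagonal f ξ ∧ pullback.fst f f ζ ∈ V ∧
      pullback.snd f f ζ ∈ W ∧
      topologicalKrullDim ↥(closure ({ζ} : Set ↥(pullback f f))) = ((r + s : ℕ) : WithBot ℕ∞) := by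
  let IV := Scheme.IdealSheafData.vanishingIdeal V
  let IW := Scheme.IdealSheafData.vanishingIdeal W
  let ιV : IV.subscheme ⟶ X := IV.subschemeι
  let ιW : IW.subscheme ⟶ X := IW.subschemeι
  haveI : IsIntegral IV.subscheme := Groth.Agent.Helper1.Dev.isIntegral_subscheme V hVi
  haveI : IsIntegral IW.subscheme := Groth.Agent.Helper1.Dev.isIntegral_subscheme W hWi
  have hrV : Set.range ιV = (V : Set X) := by
    rw [Scheme.IdealSheafData.range_subschemeι, Scheme.IdealSheafData.coe_support_vanishingIdeal]
  have hrW : Set.range ιW = (W : Set X) := by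
    rw [Scheme.IdealSheafData.range_subschemeι, Scheme.IdealSheafData.coe_support_vanishingIdeal]
  -- dimensions of the reduced subschemes
  have hdV : topologicalKrullDim ↥IV.subscheme = r := by
    rw [← hr, ← hrV]
    exact IsHomeomorph.topologicalKrullDim_eq _ ιV.isEmbedding.toHomeomorph.isHomeomorph
  have hdW : topologicalKrullDim ↥IW.subscheme = s := by
    rw [← hs, ← hrW]
    exact IsHomeomorph.topologicalKrullDim_eq _ ιW.isEmbedding.toHomeomorph.isHomeomorph
  -- the product of the two subschemes
  let fV := ιV ≫ f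
  let fW := ιW ≫ f
  let j : pullback fV fW ⟶ pullback f f :=
    pullback.map fV fW f f ιV ιW (𝟙 _) (by simp [fV]) (by simp [fW])
  haveI : IsClosedImmersion j :=
    MorphismProperty.pullbackMap (P := @IsClosedImmersion) (f := fV) (g := fW) (f' := f) (g' := f)
      (i₁ := ιV) (i₂ := ιW) inferInstance inferInstance rfl rfl
  -- a point over the diagonal point
  obtain ⟨v, hv⟩ : ξ ∈ Set.range ιV := by rw [hrV]; exact hξV
  obtain ⟨w, hw⟩ : ξ ∈ Set.range ιW := by rw [hrW]; exact hξW
  obtain ⟨τ, hτ1, hτ2⟩ := Scheme.Pullback.exists_preimage_pullback (f := ιV) (g := ιW) v w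
    (hv.trans hw.symm)
  let φ : pullback ιV ιW ⟶ pullback fV fW :=
    pullback.lift (pullback.fst ιV ιW) (pullback.snd ιV ιW)
      (by simp only [fV, fW]; rw [← Category.assoc, pullback.condition, Category.assoc])
  have hφj : φ ≫ j = (pullback.fst ιV ιW ≫ ιV) ≫ pullback.diagonal f := by
    apply pullback.hom_ext
    · show (pullback.lift _ _ _ ≫ pullback.lift _ _ _) ≫ pullback.fst f f = _
      rw [Category.assoc, pullback.lift_fst, pullback.lift_fst_assoc, Category.assoc,
        pullback.diagonal_fst, Category.comp_id]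
    · show (pullback.lift _ _ _ ≫ pullback.lift _ _ _) ≫ pullback.snd f f = _
      rw [Category.assoc, pullback.lift_snd, pullback.lift_snd_assoc, Category.assoc,
        pullback.diagonal_snd, Category.comp_id, pullback.condition]
  let δ' := φ τ
  have hδ' : j δ' = pullback.diagonal f ξ := by
    have h1 := congrArg (fun ψ : pullback ιV ιW ⟶ pullback f f => ψ τ) hφj
    simp only [Scheme.Hom.comp_apply] at h1
    rw [hτ1, hv] at h1
    exact h1
  -- the irreducible component through that point
  have hC := irreducibleComponent_mem_irreducibleComponents δ'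
  have hCcl := isClosed_of_mem_irreducibleComponents _ hC
  obtain ⟨ζ', hζ'⟩ := QuasiSober.sober hC.1 hCcl
  have hdimC := Groth.Agent.Helper5.BCMin.dim_component_product k fV fW _ hC
  rw [hdV, hdW] at hdimC
  have hζδ : ζ' ⤳ δ' := by
    rw [specializes_iff_mem_closure, hζ'.def]
    exact mem_irreducibleComponent
  refine ⟨j ζ', ?_, ?_, ?_, ?_⟩
  · rw [← hδ']
    exact hζδ.map j.continuous
  · have h1 : pullback.fst f f (j ζ') = ιV (pullback.fst fV fW ζ') := by
      have h2 : j ≫ pullback.fst f f = pullback.fst fV fW ≫ ιV := pullback.lift_fst _ _ _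
      have h3 := congrArg (fun ψ : pullback fV fW ⟶ X => ψ ζ') h2
      simpa only [Scheme.Hom.comp_apply] using h3
    rw [h1]
    show ιV (pullback.fst fV fW ζ') ∈ (V : Set X)
    rw [← hrV]
    exact ⟨_, rfl⟩
  · have h1 : pullback.snd f f (j ζ') = ιW (pullback.snd fV fW ζ') := by
      have h2 : j ≫ pullback.snd f f = pullback.snd fV fW ≫ ιW := pullback.lift_snd _ _ _
      have h3 := congrArg (fun ψ : pullback fV fW ⟶ X => ψ ζ') h2
      simpa only [Scheme.Hom.comp_apply] using h3
    rw [h1]
    show ιW (pullback.snd fV fW ζ') ∈ (W : Set X)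
    rw [← hrW]
    exact ⟨_, rfl⟩
  · rw [dim_closure_image j.isClosedEmbedding ζ', hζ'.def, hdimC]
    push_cast
    rfl

end Groth.Agent.Helper3.DiagC
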