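import Mathlib
import Groth.Agent.Helper3.DiagB
import Groth.Agent.Helper3.DiagC
import Groth.Agent.Helper3.IntMultC
import Groth.Agent.Helper3.IntMultD
import Groth.Agent.Helper5.ProdDim
import Groth.Agent.Helper2.SmoothRegSch

set_option autoImplicit false
set_option linter.style.haveILetI false
set_option linter.unusedSectionVars false
set_option linter.unusedVariables false
set_option linter.deprecated false
set_option linter.style.haveILetI false
set_option linter.unusedSectionVars false
set_option linter.unusedVariables false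

open CategoryTheory Limits AlgebraicGeometry TopologicalSpace Opposite
universe u

namespace Groth.Agent.Helper3.DiagD

open Groth.Agent.Helper3.DiagA Groth.Agent.Helper3.DiagB Groth.Agent.Helper3.DiagC
open Groth.Agent.Helper3.IntMultC Groth.Agent.Helper3.IntMultD
open Groth.Agent.Helper5.StalkDict Groth.Agent.Helper5.SubDim Groth.Agent.Helper5.VarDim
open RingTheory.Sequence IsLocalRing

theorem core (k : Type u) [Field k] (X : Scheme.{u}) (f : X ⟶ Spec (CommRingCat.of k))
    [Smooth f] [IsSeparated f] [IsIntegral X] (n r s : ℕ) (hn : topologicalKrullDim X = n)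
    (V W : Closeds X) (hVi : IsIrreducible (V : Set X)) (hWi : IsIrreducible (W : Set X))
    (hr : topologicalKrullDim ↥(V : Set X) = r) (hs : topologicalKrullDim ↥(W : Set X) = s)
    (ξ : X) (hξV : ξ ∈ V) (hξW : ξ ∈ W)
    (hmax : ∀ x : X, x ∈ V → x ∈ W → x ⤳ ξ → x = ξ)
    (t : ℕ) (ht : topologicalKrullDim ↥(closure ({ξ} : Set X)) = t) : r + s ≤ t + n := by
  haveI : LocallyOfFiniteType f := inferInstance
  haveI : IsLocallyNoetherian X := LocallyOfFiniteType.isLocallyNoetherian f
  let g : pullback f f ⟶ Spec (CommRingCat.of k) := pullback.fst f f ≫ f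
  haveI : Smooth g := inferInstance
  haveI : LocallyOfFiniteType g := inferInstance
  haveI : IsLocallyNoetherian (pullback f f) := LocallyOfFiniteType.isLocallyNoetherian g
  haveI : IsClosedImmersion (pullback.diagonal f) := inferInstance
  obtain ⟨ζ, hζδ, hζV, hζW, hζdim⟩ := exists_big_point k f V W hVi hWi r s hr hs ξ hξV hξW
  haveI : IsRegularLocalRing ((pullback f f).presheaf.stalk (pullback.diagonal f ξ)) :=
    Groth.Agent.Helper2.SmoothRegSch.stalk_regular_of_smooth k (pullback f f) g _
  haveI : IsDomain ((pullback f f).presheaf.stalk (pullback.diagonal f ξ)) :=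
    Groth.Agent.Lead.RegLocal.isDomain_of_isRegularLocalRing _
  -- dimension of the closure of the diagonal point
  have hδdim : topologicalKrullDim ↥(closure ({pullback.diagonal f ξ} : Set ↥(pullback f f))) = t := by
    rw [dim_closure_image (pullback.diagonal f).isClosedEmbedding ξ, ht]
  -- the prime of ζ
  obtain ⟨𝔭, h𝔭⟩ := exists_prime_of_specializes (pullback.diagonal f ξ) ζ hζδ
  have h1 := ringKrullDim_stalk_quotient (pullback.diagonal f ξ) 𝔭
  rw [h𝔭] at h1
  obtain ⟨a, tx, tz, ha, htx, htz, hsum⟩ := variety_codim k g (pullback.diagonal f ξ) ζ hζδ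
  obtain ⟨n1, hn1, hn1'⟩ := dim_closure_point k g ζ
  obtain ⟨n2, hn2, hn2'⟩ := dim_closure_point k g (pullback.diagonal f ξ)
  have e1 : n1 = tz := by exact_mod_cast (hn1'.symm.trans htz)
  have e2 : n2 = tx := by exact_mod_cast (hn2'.symm.trans htx)
  have e3 : n1 = r + s := by
    have : ((n1 : ℕ) : WithBot ℕ∞) = ((r + s : ℕ) : WithBot ℕ∞) := hn1.symm.trans hζdim
    exact_mod_cast this
  have e4 : n2 = t := by
    have : ((n2 : ℕ) : WithBot ℕ∞) = ((t : ℕ) : WithBot ℕ∞) := hn2.symm.trans hδdim
    exact_mod_cast this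
  have hat : a + t = r + s := by omega
  have hdim𝔭 : ringKrullDim (↑((pullback f f).presheaf.stalk (pullback.diagonal f ξ)) ⧸ 𝔭.asIdeal) = a :=
    h1.trans ha
  -- dimension of B
  let 𝔮0 : ↥(Spec ((pullback f f).presheaf.stalk (pullback.diagonal f ξ))) := ⟨⊥, Ideal.isPrime_bot⟩
  have h2 := ringKrullDim_stalk_quotient (pullback.diagonal f ξ) 𝔮0
  have hζ0 := fromSpecStalk_specializes (pullback.diagonal f ξ) 𝔮0
  obtain ⟨a0, tx0, tz0, ha0, htx0, htz0, hsum0⟩ := variety_codim k g (pullback.diagonal f ξ)
    ((pullback f f).fromSpecStalk (pullback.diagonal f ξ) 𝔮0) hζ0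
  obtain ⟨n3, hn3, hn3'⟩ := dim_closure_point k g
    ((pullback f f).fromSpecStalk (pullback.diagonal f ξ) 𝔮0)
  have e5 : n3 = tz0 := by exact_mod_cast (hn3'.symm.trans htz0)
  have e6 : n2 = tx0 := by exact_mod_cast (hn2'.symm.trans htx0)
  have hP : topologicalKrullDim ↥(pullback f f) = ((n + n : ℕ) : WithBot ℕ∞) := by
    rw [Groth.Agent.Helper5.OverField.dim_pullback k f f, hn]
    push_cast
    rfl
  have e7 : n3 ≤ n + n := by
    have h3 := topologicalKrullDim_subspace_le ↥(pullback f f)
      (closure ({(pullback f f).fromSpecStalk (pullback.diagonal f ξ) 𝔮0} : Set ↥(pullback f f)))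
    rw [hn3, hP] at h3
    exact_mod_cast h3
  have hdimB : ringKrullDim ((pullback f f).presheaf.stalk (pullback.diagonal f ξ)) = a0 := by
    rw [← ha0, ← h2]
    exact ringKrullDim_eq_of_ringEquiv (RingEquiv.quotientBot _).symm
  have ha0t : a0 + t ≤ n + n := by omega
  -- the diagonal ideal
  obtain ⟨l, hlw, hlm, hlD⟩ := stalk_regular (pullback.diagonal f) (kreg_diag f) ξ
  have hlle : Ideal.ofList l ≤
      maximalIdeal ((pullback f f).presheaf.stalk (pullback.diagonal f ξ)) := by
    rw [Ideal.ofList, Ideal.span_le]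
    exact hlm
  have hreg : IsRegular ((pullback f f).presheaf.stalk (pullback.diagonal f ξ)) l := by
    refine ⟨hlw, ?_⟩
    intro h
    have h3 : Ideal.ofList l = ⊤ := by
      have : Ideal.ofList l • (⊤ : Ideal ((pullback f f).presheaf.stalk (pullback.diagonal f ξ))) = ⊤ :=
        h.symm
      simpa using this
    rw [h3] at hlle
    exact (IsLocalRing.maximalIdeal.isMaximal _).ne_top (top_le_iff.mp hlle)
  have h4 := ringKrullDim_add_length_eq_ringKrullDim_of_isRegular l hreg
  -- the image of the diagonal is integral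
  haveI : Nonempty ↥(pullback.diagonal f).image := ⟨(pullback.diagonal f).toImage ξ⟩
  haveI : IsIntegral (pullback.diagonal f).ker.subscheme :=
    isIntegral_of_isOpenImmersion (inv (pullback.diagonal f).toImage)
  have hsuppΔ : ((pullback.diagonal f).ker.support : Set ↥(pullback f f)) =
      Set.range (pullback.diagonal f) := by
    rw [Scheme.Hom.support_ker]
    exact (pullback.diagonal f).isClosedEmbedding.isClosed_range.closure_eq
  have hδsupp : pullback.diagonal f ξ ∈ (pullback.diagonal f).ker.support := by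
    show pullback.diagonal f ξ ∈ ((pullback.diagonal f).ker.support : Set ↥(pullback f f))
    rw [hsuppΔ]
    exact ⟨ξ, rfl⟩
  have hdimΔ : topologicalKrullDim (pullback.diagonal f).ker.support = n := by
    show topologicalKrullDim ↥((pullback.diagonal f).ker.support : Set ↥(pullback f f)) = n
    rw [hsuppΔ, ← hn]
    exact (IsHomeomorph.topologicalKrullDim_eq _
      (pullback.diagonal f).isEmbedding.toHomeomorph.isHomeomorph).symm
  obtain ⟨a', t', ha', ht', hsum'⟩ := dim_quot_stalkIdeal k g (pullback.diagonal f).ker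
    (pullback.diagonal f ξ) hδsupp n hdimΔ
  have et' : t' = t := by
    have : ((t' : ℕ) : WithBot ℕ∞) = ((t : ℕ) : WithBot ℕ∞) := ht'.symm.trans hδdim
    exact_mod_cast this
  rw [hlD, ha', hdimB] at h4
  have h4' : a' + l.length = a0 := by exact_mod_cast h4
  have hc : l.length ≤ n := by omega
  -- primes containing both ideals are maximal
  have hfl : ∀ q : Ideal ((pullback f f).presheaf.stalk (pullback.diagonal f ξ)), q.IsPrime →
      𝔭.asIdeal ≤ q → Ideal.ofList l ≤ q → q.IsMaximal := by
    intro q hq h𝔭q hlq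
    have hy1 := fromSpecStalk_specializes (pullback.diagonal f ξ) ⟨q, hq⟩
    have hy2 : ζ ⤳ (pullback f f).fromSpecStalk (pullback.diagonal f ξ) ⟨q, hq⟩ := by
      rw [← h𝔭]
      exact (fromSpecStalk_specializes_iff (pullback.diagonal f ξ) 𝔭 ⟨q, hq⟩).mpr h𝔭q
    have hy3 := mem_support_of_le (pullback.diagonal f).ker (pullback.diagonal f ξ) hδsupp q hq
      (hlD ▸ hlq)
    have hy3' : (pullback f f).fromSpecStalk (pullback.diagonal f ξ) ⟨q, hq⟩ ∈
        Set.range (pullback.diagonal f) := by
      rw [← hsuppΔ]; exact hy3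
    obtain ⟨x, hx⟩ := hy3'
    have hp1 : pullback.fst f f (pullback.diagonal f x) = x := by
      have h5 := congrArg (fun ψ : X ⟶ X => ψ x) (pullback.diagonal_fst f)
      simp only [Scheme.Hom.comp_apply] at h5
      exact h5.trans rfl
    have hp2 : pullback.snd f f (pullback.diagonal f x) = x := by
      have h5 := congrArg (fun ψ : X ⟶ X => ψ x) (pullback.diagonal_snd f)
      simp only [Scheme.Hom.comp_apply] at h5
      exact h5.trans rfl
    have hp1ξ : pullback.fst f f (pullback.diagonal f ξ) = ξ := by
      have h5 := congrArg (fun ψ : X ⟶ X => ψ ξ) (pullback.diagonal_fst f)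
      simp only [Scheme.Hom.comp_apply] at h5
      exact h5.trans rfl
    rw [← hx] at hy1 hy2
    have hxV : x ∈ V := by
      have h6 := hy2.map (pullback.fst f f).continuous
      rw [hp1] at h6
      exact h6.mem_closed V.isClosed hζV
    have hxW : x ∈ W := by
      have h6 := hy2.map (pullback.snd f f).continuous
      rw [hp2] at h6
      exact h6.mem_closed W.isClosed hζW
    have hxξ : x ⤳ ξ := by
      have h6 := hy1.map (pullback.fst f f).continuous
      rw [hp1, hp1ξ] at h6
      exact h6
    have hxeq := hmax x hxV hxW hxξ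
    rw [hxeq] at hx
    have h7 : (pullback f f).fromSpecStalk (pullback.diagonal f ξ)
        (IsLocalRing.closedPoint ((pullback f f).presheaf.stalk (pullback.diagonal f ξ))) =
          pullback.diagonal f ξ := Scheme.fromSpecStalk_closedPoint
    have h8 : (⟨q, hq⟩ : PrimeSpectrum ((pullback f f).presheaf.stalk (pullback.diagonal f ξ))) =
        IsLocalRing.closedPoint _ :=
      ((pullback f f).fromSpecStalk (pullback.diagonal f ξ)).isEmbedding.injective
        (hx.symm.trans h7.symm)
    have h9 : q = maximalIdeal _ := congrArg PrimeSpectrum.asIdeal h8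
    rw [h9]
    exact IsLocalRing.maximalIdeal.isMaximal _
  -- Krull's bound
  have h𝔭le : 𝔭.asIdeal ≤ maximalIdeal ((pullback f f).presheaf.stalk (pullback.diagonal f ξ)) :=
    IsLocalRing.le_maximalIdeal 𝔭.isPrime.ne_top
  have h10 := Groth.Agent.Helper2.DepthCM2.supportDim_le_quot_ofList_add l
    (↑((pullback f f).presheaf.stalk (pullback.diagonal f ξ)) ⧸ 𝔭.asIdeal) hlm
  rw [supportDim_quot_smul_top 𝔭.asIdeal (Ideal.ofList l) hlle h𝔭le hfl,
    Module.supportDim_quotient_eq_ringKrullDim, hdim𝔭, zero_add] at h10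
  have h11 : a ≤ l.length := by exact_mod_cast h10
  omega

end Groth.Agent.Helper3.DiagD
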