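import Mathlib
import Groth.Agent.Helper3.DiagD

set_option autoImplicit false
set_option linter.style.haveILetI false
set_option linter.unusedSectionVars false
set_option linter.unusedVariables false
set_option linter.deprecated false
set_option linter.style.haveILetI false
set_option linter.unusedSectionVars false
set_option linter.unusedVariables false

open CategoryTheory Limits AlgebraicGeometry TopologicalSpace Opposite
universe u

namespace Groth.Agent.Helper3.DiagE

open Groth.Agent.Helper3.DiagC Groth.Agent.Helper3.DiagD Groth.Agent.Helper5.VarDim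

theorem main (k : Type u) [Field k] (X : Scheme.{u})
    (f : X ⟶ Spec (CommRingCat.of k)) [Smooth f] [IsSeparated f] [QuasiCompact f] [IsIntegral X]
    (n r s : ℕ) (hn : topologicalKrullDim X = n) (V W : Set X) (hVc : IsClosed V)
    (hVi : IsIrreducible V) (hWc : IsClosed W) (hWi : IsIrreducible W)
    (hr : topologicalKrullDim ↥V = r) (hs : topologicalKrullDim ↥W = s) (Z : Set ↥(V ∩ W))
    (hZ : Z ∈ irreducibleComponents ↥(V ∩ W)) :
    ((r + s : ℕ) : WithBot ℕ∞) ≤ topologicalKrullDim ↥Z + n := by
  haveI : LocallyOfFiniteType f := inferInstance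
  have hVWc : IsClosed (V ∩ W) := hVc.inter hWc
  have hemb : Topology.IsClosedEmbedding (Subtype.val : ↥(V ∩ W) → X) :=
    hVWc.isClosedEmbedding_subtypeVal
  haveI : QuasiSober ↥(V ∩ W) := hemb.quasiSober
  have hZcl : IsClosed Z := isClosed_of_mem_irreducibleComponents Z hZ
  have hZirr : IsIrreducible Z := hZ.1
  obtain ⟨z0, hz0⟩ := QuasiSober.sober hZirr hZcl
  obtain ⟨t, ht, -⟩ := dim_closure_point k f (z0 : X)
  have hdimZ : topologicalKrullDim ↥Z = t := by
    rw [← ht, dim_closure_image hemb z0, hz0.def]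
  have hmax : ∀ x : X, x ∈ V → x ∈ W → x ⤳ (z0 : X) → x = (z0 : X) := by
    intro x hxV hxW hx
    let x' : ↥(V ∩ W) := ⟨x, hxV, hxW⟩
    have hx' : x' ⤳ z0 := by
      exact (hemb.isEmbedding.isInducing.specializes_iff (x := x') (y := z0)).mp hx
    have hirr : IsIrreducible (closure ({x'} : Set ↥(V ∩ W))) := isIrreducible_singleton.closure
    have hZle : Z ≤ closure ({x'} : Set ↥(V ∩ W)) := by
      rw [← hz0.def]
      exact closure_minimal (Set.singleton_subset_iff.mpr (specializes_iff_mem_closure.mp hx'))
        isClosed_closure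
    have hle : closure ({x'} : Set ↥(V ∩ W)) ≤ Z := hZ.le_of_ge hirr hZle
    have hxZ : x' ∈ Z := hle (subset_closure rfl)
    have hz0x : z0 ⤳ x' := by
      rw [specializes_iff_mem_closure, hz0.def]
      exact hxZ
    have : x' = z0 := (hx'.antisymm hz0x).eq
    exact congrArg Subtype.val this
  have hcore := core k X f n r s hn ⟨V, hVc⟩ ⟨W, hWc⟩ hVi hWi hr hs (z0 : X) z0.2.1 z0.2.2 hmax t ht
  rw [hdimZ]
  exact_mod_cast hcore

end Groth.Agent.Helper3.DiagE
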