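import Mathlib

set_option autoImplicit false
set_option linter.style.haveILetI false
set_option linter.unusedSectionVars false
set_option linter.unusedVariables false
set_option linter.style.haveILetI false
set_option linter.unusedSectionVars false
set_option linter.unusedVariables false

universe u

open AlgebraicGeometry CategoryTheory CategoryTheory.Limits

namespace Groth.Agent.Helper3.ProdSurj

/-- any family of field extensions of `k` embeds in a common extension -/
theorem exists_common_extension (k : Type u) [Field k] {I : Type u} (L : I → Type u)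
    [∀ i, Field (L i)] [∀ i, Algebra k (L i)] :
    ∃ (K : Type u) (_ : Field K) (_ : Algebra k K), ∀ i, Nonempty (L i →ₐ[k] K) := by
  classical
  choose B hB using fun i => exists_isTranscendenceBasis k (L i)
  let ι : Type u := Σ i, B i
  let P := MvPolynomial ι k
  let K := AlgebraicClosure (FractionRing P)
  refine ⟨K, inferInstance, inferInstance, fun i => ?_⟩
  let x : B i → L i := Subtype.val
  have hx : AlgebraicIndependent k x := (hB i).1
  let R := Algebra.adjoin k (Set.range x)
  haveI : Algebra.IsAlgebraic R (L i) := (hB i).isAlgebraic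
  let g : MvPolynomial (B i) k →ₐ[k] K :=
    (IsScalarTower.toAlgHom k P K).comp (MvPolynomial.rename (fun b => (⟨i, b⟩ : ι)))
  have hg : Function.Injective g := by
    have h1 : Function.Injective (MvPolynomial.rename (R := k) (fun b : B i => (⟨i, b⟩ : ι))) :=
      MvPolynomial.rename_injective _ (fun a b h => by simpa using h)
    have h2 : Function.Injective (algebraMap P K) := by
      rw [IsScalarTower.algebraMap_eq P (FractionRing P) K]
      exact (algebraMap (FractionRing P) K).injective.comp (IsFractionRing.injective P (FractionRing P))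
    exact h2.comp h1
  let g' : R →ₐ[k] K := g.comp hx.aevalEquiv.symm.toAlgHom
  have hg' : Function.Injective g' := hg.comp hx.aevalEquiv.symm.injective
  letI algK : Algebra R K := g'.toRingHom.toAlgebra
  haveI : IsScalarTower k R K := IsScalarTower.of_algebraMap_eq (fun a => (g'.commutes a).symm)
  haveI : Module.IsTorsionFree R (L i) :=
    Module.isTorsionFree_iff_algebraMap_injective.mpr Subtype.val_injective
  haveI : Module.IsTorsionFree R K := Module.isTorsionFree_iff_algebraMap_injective.mpr hg'
  exact ⟨(IsAlgClosed.lift : L i →ₐ[R] K).restrictScalars k⟩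

/-- S7394 (affineness is not needed) -/
theorem main {S : Scheme.{u}} {I : Type u} (T : I → Over S)
    (hT : ∀ i, Surjective (T i).hom) (c : Limits.Fan T) (hc : Limits.IsLimit c) :
    Surjective c.pt.hom := by
  refine ⟨fun s => ?_⟩
  choose t ht using fun i => (hT i).surj s
  let k : Type u := S.residueField s
  let L : I → Type u := fun i => (T i).left.residueField (t i)
  let φ : ∀ i, S.residueField s ⟶ (T i).left.residueField (t i) := fun i =>
    (S.residueFieldCongr (ht i)).inv ≫ (T i).hom.residueFieldMap (t i)
  letI : ∀ i, Algebra k (L i) := fun i => (φ i).hom.toAlgebra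
  obtain ⟨K, _, _, hK⟩ := exists_common_extension k L
  let ψ : ∀ i, L i →ₐ[k] K := fun i => Classical.choice (hK i)
  let σ : Spec (CommRingCat.of K) ⟶ S :=
    Spec.map (CommRingCat.ofHom (algebraMap k K)) ≫ S.fromSpecResidueField s
  let Z : Over S := Over.mk σ
  have hτ : ∀ i, (Spec.map (CommRingCat.ofHom (ψ i).toRingHom) ≫
      (T i).left.fromSpecResidueField (t i)) ≫ (T i).hom = σ := by
    intro i
    have h1 : CommRingCat.ofHom (algebraMap k K) = φ i ≫ CommRingCat.ofHom (ψ i).toRingHom := by
      ext a
      exact ((ψ i).commutes a).symm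
    change _ = Spec.map (CommRingCat.ofHom (algebraMap k K)) ≫ S.fromSpecResidueField s
    rw [h1, Spec.map_comp, Category.assoc, Category.assoc,
      ← Scheme.Hom.SpecMap_residueFieldMap_fromSpecResidueField]
    congr 1
    change _ = Spec.map ((S.residueFieldCongr (ht i)).inv ≫ (T i).hom.residueFieldMap (t i)) ≫ _
    rw [Spec.map_comp, Category.assoc, Scheme.residueFieldCongr_inv,
      Scheme.residueFieldCongr_fromSpecResidueField]
  let τ : ∀ i, Z ⟶ T i := fun i => Over.homMk (Spec.map (CommRingCat.ofHom (ψ i).toRingHom) ≫
      (T i).left.fromSpecResidueField (t i)) (hτ i)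
  let lift : Z ⟶ c.pt := hc.lift (Fan.mk Z τ)
  let z₀ : Spec (CommRingCat.of K) := IsLocalRing.closedPoint K
  refine ⟨lift.left z₀, ?_⟩
  have hw : lift.left ≫ c.pt.hom = σ := Over.w lift
  rw [← Scheme.Hom.comp_apply, hw]
  change S.fromSpecResidueField s _ = s
  exact S.fromSpecResidueField_apply s _

end Groth.Agent.Helper3.ProdSurj
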