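import Mathlib
import Groth.Agent.Helper3.ProdSurj

set_option autoImplicit false
set_option linter.style.haveILetI false
set_option linter.unusedSectionVars false
set_option linter.unusedVariables false
set_option linter.style.haveILetI false
set_option linter.unusedSectionVars false
set_option linter.unusedVariables false

universe u

open TensorProduct

namespace Groth.Agent.Helper3.DiagMeet

/-- there is no infinite "dual family" in a finite-dimensional space -/
theorem no_dual_family {Ω : Type*} [Field Ω] {ι : Type*} [Fintype ι] (x y : ℕ → ι → Ω)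
    (h : ∀ n m, ∑ i, x n i * y m i = if n = m then 1 else 0) : False := by
  classical
  have hli : LinearIndependent Ω (fun n : Fin (Fintype.card ι + 1) => x n) := by
    rw [Fintype.linearIndependent_iff]
    intro c hc m
    have h1 : ∑ i, (∑ n : Fin (Fintype.card ι + 1), c n • x n) i * y m i = 0 := by
      rw [hc]; simp
    have h2 : ∑ i, (∑ n : Fin (Fintype.card ι + 1), c n • x n) i * y m i =
        ∑ n : Fin (Fintype.card ι + 1), c n * ∑ i, x n i * y m i := by
      simp only [Finset.sum_apply, Pi.smul_apply, smul_eq_mul, Finset.sum_mul, Finset.mul_sum]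
      rw [Finset.sum_comm]
      refine Finset.sum_congr rfl fun n _ => Finset.sum_congr rfl fun i _ => ?_
      ring
    rw [h2] at h1
    simp only [h] at h1
    have h3 : ∑ n : Fin (Fintype.card ι + 1), c n * (if (n : ℕ) = (m : ℕ) then (1 : Ω) else 0) =
        c m := by
      rw [Finset.sum_eq_single m]
      · simp
      · intro b _ hb
        rw [if_neg (fun hh => hb (Fin.ext hh)), mul_zero]
      · intro hm; exact absurd (Finset.mem_univ m) hm
    rw [h3] at h1
    exact h1
  have := hli.fintype_card_le_finrank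
  rw [Fintype.card_fin, Module.finrank_pi, ] at this
  omega

section
variable (A : Type u) [CommRing A] (k : Type u) [Field k]
  (K : ℕ → Type u) [∀ n, Field (K n)] [∀ n, Algebra A (K n)] [∀ n, Algebra k (K n)]

/-- the map `A ⊗ A → K n ⊗_k K m` -/
noncomputable def φ (n m : ℕ) : A ⊗[ℤ] A →+* K n ⊗[k] K m :=
  (Algebra.TensorProduct.lift
    ((Algebra.TensorProduct.includeLeft (R := k) (S := ℤ) (A := K n) (B := K m)).toRingHom.toIntAlgHom.comp
      (Algebra.ofId A (K n)).toRingHom.toIntAlgHom)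
    ((Algebra.TensorProduct.includeRight (R := k) (A := K n) (B := K m)).toRingHom.toIntAlgHom.comp
      (Algebra.ofId A (K m)).toRingHom.toIntAlgHom)
    (fun _ _ => Commute.all _ _)).toRingHom

theorem φ_tmul (n m : ℕ) (a b : A) :
    φ A k K n m (a ⊗ₜ b) = algebraMap A (K n) a ⊗ₜ[k] algebraMap A (K m) b := by
  unfold φ
  change (Algebra.TensorProduct.lift _ _ _) (a ⊗ₜ[ℤ] b) = _
  rw [Algebra.TensorProduct.lift_tmul]
  change (algebraMap A (K n) a ⊗ₜ[k] (1 : K m)) * ((1 : K n) ⊗ₜ[k] algebraMap A (K m) b) = _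
  rw [Algebra.TensorProduct.tmul_mul_tmul, mul_one, one_mul]

theorem main :
    (closure (⋃ (n : ℕ) (m : ℕ) (_ : n ≠ m),
        Set.range (PrimeSpectrum.comap (φ A k K n m))) ∩
      Set.range (PrimeSpectrum.comap (Algebra.TensorProduct.lmul' (S := A) ℤ).toRingHom)).Nonempty := by
  classical
  by_contra hne
  rw [Set.not_nonempty_iff_eq_empty] at hne
  set S : Set (PrimeSpectrum (A ⊗[ℤ] A)) := ⋃ (n : ℕ) (m : ℕ) (_ : n ≠ m),
        Set.range (PrimeSpectrum.comap (φ A k K n m)) with hS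
  let μ : A ⊗[ℤ] A →+* A := (Algebra.TensorProduct.lmul' (S := A) ℤ).toRingHom
  have hμsurj : Function.Surjective μ := fun a => ⟨a ⊗ₜ 1, by simp [μ]⟩
  rw [← PrimeSpectrum.zeroLocus_vanishingIdeal_eq_closure,
    range_comap_of_surjective _ μ hμsurj, ← PrimeSpectrum.zeroLocus_sup,
    PrimeSpectrum.zeroLocus_empty_iff_eq_top] at hne
  have h1 : (1 : A ⊗[ℤ] A) ∈ PrimeSpectrum.vanishingIdeal S ⊔ RingHom.ker μ := by
    rw [hne]; trivial
  obtain ⟨t, ht, s, hs, hts⟩ := Submodule.mem_sup.1 h1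
  have hμt : μ t = 1 := by
    have := congrArg μ hts
    rw [map_add, (RingHom.mem_ker).1 hs, add_zero, map_one] at this
    exact this
  rw [PrimeSpectrum.mem_vanishingIdeal] at ht
  -- the common extension
  obtain ⟨Ω, _, _, hΩ⟩ := Groth.Agent.Helper3.ProdSurj.exists_common_extension k
    (I := ULift.{u} ℕ) (fun i => K i.down)
  have j : ∀ n, K n →ₐ[k] Ω := fun n => (hΩ ⟨n⟩).some
  -- the maps to Ω
  let ρ : ∀ n m, K n ⊗[k] K m →ₐ[k] Ω := fun n m =>
    Algebra.TensorProduct.lift (j n) (j m) (fun _ _ => Commute.all _ _)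
  let Ψ : ∀ n m, A ⊗[ℤ] A →+* Ω := fun n m => ((ρ n m : K n ⊗[k] K m →+* Ω)).comp (φ A k K n m)
  have hΨ : ∀ n m a b, Ψ n m (a ⊗ₜ b) = j n (algebraMap A (K n) a) * j m (algebraMap A (K m) b) := by
    intro n m a b
    change ρ n m (φ A k K n m (a ⊗ₜ b)) = _
    rw [φ_tmul]
    exact Algebra.TensorProduct.lift_tmul _ _ _ _ _
  have hΨ0 : ∀ n m, n ≠ m → Ψ n m t = 0 := by
    intro n m hnm
    let 𝔔 : PrimeSpectrum (K n ⊗[k] K m) := ⟨RingHom.ker (ρ n m : K n ⊗[k] K m →+* Ω),
      RingHom.ker_isPrime _⟩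
    have hmem : PrimeSpectrum.comap (φ A k K n m) 𝔔 ∈ S := by
      rw [hS]
      simp only [Set.mem_iUnion]
      exact ⟨n, m, hnm, 𝔔, rfl⟩
    have := ht _ hmem
    exact this
  -- write t as a sum of pure tensors
  obtain ⟨F, hF⟩ := TensorProduct.exists_finset t
  have hΨt : ∀ n m, Ψ n m t = ∑ i : F, j n (algebraMap A (K n) i.1.1) * j m (algebraMap A (K m) i.1.2) := by
    intro n m
    rw [hF, map_sum, ← Finset.sum_coe_sort]
    exact Finset.sum_congr rfl fun i _ => hΨ n m _ _
  have hΨ1 : ∀ n, Ψ n n t = 1 := by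
    intro n
    have hμt' : ∑ i : F, i.1.1 * i.1.2 = (1 : A) := by
      rw [← hμt, hF, map_sum, ← Finset.sum_coe_sort F (fun i => μ (i.1 ⊗ₜ[ℤ] i.2))]
      refine Finset.sum_congr rfl fun i _ => ?_
      simp [μ]
    rw [hΨt]
    simp only [← map_mul]
    rw [← map_sum, ← map_sum, hμt', map_one, map_one]
  refine no_dual_family (Ω := Ω) (ι := F)
    (fun n i => j n (algebraMap A (K n) i.1.1)) (fun m i => j m (algebraMap A (K m) i.1.2)) ?_
  intro n m
  rw [← hΨt]
  by_cases hnm : n = m
  · subst hnm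
    rw [if_pos rfl, hΨ1]
  · rw [if_neg hnm, hΨ0 n m hnm]

end

end Groth.Agent.Helper3.DiagMeet
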