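import Mathlib
import Groth.Prelude.Def_Disc
import Groth.Agent.Helper1.NoetherDiff
import Groth.Agent.S2196
import Groth.Agent.S2215

/-!
# The different and the Noether different of a finite free algebra have the same radical
-/

set_option autoImplicit false
set_option linter.style.haveILetI false
set_option linter.unusedSectionVars false
set_option linter.unusedVariables false
set_option linter.deprecated false
set_option linter.style.haveILetI false
set_option linter.unusedSectionVars false
set_option linter.unusedVariables false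

universe u v w

namespace Groth.Agent.Helper3.DiffRam

open TensorProduct Groth.Agent.Helper1.TraceEtale Groth.Agent.Helper1.NoetherDiff Disc

section
variable {A : Type u} {B : Type v} [CommRing A] [CommRing B] [Algebra A B]

/-- the swap on `B ⊗ B` -/
noncomputable abbrev sw : B ⊗[A] B ≃ₐ[A] B ⊗[A] B := Algebra.TensorProduct.comm A B B

theorem lmul_sw (ξ : B ⊗[A] B) :
    Algebra.TensorProduct.lmul' (S := B) A (sw ξ) = Algebra.TensorProduct.lmul' (S := B) A ξ := by
  induction ξ using TensorProduct.induction_on with
  | zero => simp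
  | tmul x y =>
    simp only [sw, Algebra.TensorProduct.comm_tmul, Algebra.TensorProduct.lmul'_apply_tmul]
    rw [mul_comm]
  | add x y hx hy => rw [map_add, map_add, hx, hy, map_add]

theorem sw_sw (η : B ⊗[A] B) : sw (A := A) (B := B) (sw η) = η := by
  induction η using TensorProduct.induction_on with
  | zero => simp
  | tmul x y => simp only [sw, Algebra.TensorProduct.comm_tmul]
  | add x y hx hy => rw [map_add, map_add, hx, hy]

theorem sw_mem_annihilator (ξ : B ⊗[A] B)
    (hξ : ξ ∈ Submodule.annihilator (RingHom.ker (Algebra.TensorProduct.lmul' (S := B) A))) :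
    sw ξ ∈ Submodule.annihilator (RingHom.ker (Algebra.TensorProduct.lmul' (S := B) A)) := by
  rw [Submodule.mem_annihilator] at hξ ⊢
  intro η hη
  have h1 : sw (A := A) (B := B) η ∈ RingHom.ker (Algebra.TensorProduct.lmul' (S := B) A) := by
    rw [RingHom.mem_ker, lmul_sw]
    exact hη
  have h2 := hξ _ h1
  rw [smul_eq_mul] at h2 ⊢
  have h3 := congrArg (sw (A := A) (B := B)) h2
  rw [map_mul, map_zero] at h3
  have h4 : sw (A := A) (B := B) (sw η) = η := sw_sw η
  rwa [h4] at h3

/-- `Tr (ev φ ξ) = φ (ev Tr (sw ξ))` -/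
theorem trace_ev (φ : B →ₗ[A] A) (ξ : B ⊗[A] B) :
    Algebra.trace A B (ev φ ξ) = φ (ev (Algebra.trace A B) (sw ξ)) := by
  induction ξ using TensorProduct.induction_on with
  | zero => simp
  | tmul x y =>
    simp only [sw, Algebra.TensorProduct.comm_tmul, ev_tmul, map_smul, smul_eq_mul]
    rw [mul_comm]
  | add x y hx hy => rw [map_add, map_add, hx, hy, map_add, map_add, map_add]

end

section
variable {A : Type u} {B : Type v} [CommRing A] [CommRing B] [Algebra A B]
  [IsNoetherianRing A] [Module.Finite A B] [Module.Free A B]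

/-- the Noether different is contained in the different -/
theorem noetherDifferent_subset :
    (Disc.noetherDifferent A B : Set B) ⊆ Disc.differentSet A B := by
  classical
  let b := Module.Free.chooseBasis A B
  intro y hy
  rw [Groth.Agent.S2215.result] at hy
  obtain ⟨Φ, rfl⟩ := hy
  intro ψ
  refine ⟨Φ ⟨ψ⟩, fun x => ?_⟩
  set ξ := xi b Φ with hξdef
  have hξ := xi_mem b Φ
  have hann := (mem_annihilator_iff_ev b ξ).1 hξ
  have h1 : Φ (Disc.Omega.trace A B) = Algebra.TensorProduct.lmul' (S := B) A ξ := by
    rw [← ev_trace b ξ hξ]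
    exact (ev_xi b Φ (Disc.Omega.trace A B)).symm
  have h2 : Φ ⟨ψ⟩ = ev ψ ξ := (ev_xi b Φ ⟨ψ⟩).symm
  show ψ (Φ (Disc.Omega.trace A B) * x) = Algebra.trace A B (Φ ⟨ψ⟩ * x)
  rw [h2, mul_comm (ev ψ ξ) x, hann x ψ, trace_ev, ev_trace b _ (sw_mem_annihilator ξ hξ), lmul_sw,
    shift_apply, h1, mul_comm]

/-- the square of an element of the different lies in the Noether different -/
theorem sq_mem_noetherDifferent (x : B) (hx : x ∈ Disc.differentSet A B) :
    x ^ 2 ∈ Disc.noetherDifferent A B := by
  classical
  let b := Module.Free.chooseBasis A B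
  let τ : Disc.Omega A B := Disc.Omega.trace A B
  -- reformulate membership
  have hx' : ∀ ψ : Disc.Omega A B, ∃ c : B, x • ψ = c • τ := by
    intro ψ
    obtain ⟨c, hc⟩ := hx ψ.toLinearMap
    refine ⟨c, ?_⟩
    apply Disc.Omega.ext
    apply LinearMap.ext
    intro y
    exact hc y
  choose cf hcf using hx'
  -- faithfulness
  have hfaith : ∀ z : B, (∀ ψ : Disc.Omega A B, z • ψ = 0) → z = 0 := by
    intro z hz
    apply b.ext_elem
    intro i
    have := congrArg (fun l : Disc.Omega A B => l.toLinearMap 1) (hz ⟨b.coord i⟩)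
    simp only [Disc.Omega.smul_toLinearMap_apply, mul_one] at this
    rw [map_zero]
    exact this
  -- elements killing the trace are killed by `x`
  have hkill : ∀ c : B, c • τ = 0 → x * c = 0 := by
    intro c hc
    apply hfaith
    intro ψ
    rw [mul_comm, mul_smul, hcf ψ, smul_comm, hc, smul_zero]
  let Φ : Disc.Omega A B →ₗ[B] B :=
    { toFun := fun ψ => x * cf ψ
      map_add' := fun ψ ψ' => by
        rw [← mul_add, ← sub_eq_zero, ← mul_sub]
        apply hkill
        rw [sub_smul, add_smul, ← hcf, ← hcf, ← hcf, smul_add, sub_self]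
      map_smul' := fun r ψ => by
        rw [RingHom.id_apply, smul_eq_mul, mul_left_comm, ← sub_eq_zero, ← mul_sub]
        apply hkill
        rw [sub_smul, mul_smul, ← hcf, ← hcf, smul_comm, sub_self] }
  have hΦ : Φ τ = x ^ 2 := by
    show x * cf τ = x ^ 2
    rw [pow_two, ← sub_eq_zero, ← mul_sub]
    apply hkill
    rw [sub_smul, ← hcf, sub_self]
  have : x ^ 2 ∈ (Disc.noetherDifferent A B : Set B) := by
    rw [Groth.Agent.S2215.result]
    exact ⟨Φ, hΦ⟩
  exact this

/-- **S2205** -/
theorem s2205 (q : Ideal B) [q.IsPrime] :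
    Disc.differentSet A B ⊆ q ↔ ¬Algebra.IsUnramifiedAt A q := by
  haveI : Algebra.FiniteType A B := inferInstance
  have h := Groth.Agent.S2196.result (A := A) (B := B)
  have hq : Disc.noetherDifferent A B ≤ q ↔ ¬Algebra.IsUnramifiedAt A q := by
    have := Set.ext_iff.1 h ⟨q, inferInstance⟩
    exact this
  rw [← hq]
  constructor
  · intro hsub y hy
    exact hsub (noetherDifferent_subset hy)
  · intro hle x hx
    have := hle (sq_mem_noetherDifferent x hx)
    exact Ideal.IsPrime.mem_of_pow_mem inferInstance 2 this

end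

end Groth.Agent.Helper3.DiffRam
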