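import Mathlib

set_option autoImplicit false
set_option linter.style.haveILetI false
set_option linter.unusedSectionVars false
set_option linter.unusedVariables false
set_option linter.style.haveILetI false
set_option linter.unusedSectionVars false
set_option linter.unusedVariables false

universe u
open CategoryTheory AlgebraicGeometry

namespace Groth.Agent.Helper3.DimChain

section CA

variable {A B : Type*} [CommRing A] [CommRing B] (φ : A →+* B)

/-- `Ch φ n q`: there is a chain of primes of `B` of length `n` starting at `q` whose contractions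
to `A` are strictly increasing -/
def Ch : ℕ → PrimeSpectrum B → Prop
  | 0, _ => True
  | n + 1, q => ∃ q' : PrimeSpectrum B, q < q' ∧ q.asIdeal.comap φ < q'.asIdeal.comap φ ∧ Ch n q'

theorem coheight_eq_dim_quotient (q : PrimeSpectrum B) :
    ((Order.coheight q : ℕ∞) : WithBot ℕ∞) = ringKrullDim (B ⧸ q.asIdeal) := by
  rw [ringKrullDim_quotient, Order.coheight_eq_krullDim_Ici]
  rfl

theorem exists_Ch_of_coheight [IsNoetherianRing B] [IsLocalRing B]
    (hφ : ∀ q : PrimeSpectrum B, q.asIdeal.comap φ = (IsLocalRing.maximalIdeal B).comap φ →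
      q.asIdeal = IsLocalRing.maximalIdeal B) (n : ℕ) :
    ∀ q0 : PrimeSpectrum B, (n : ℕ∞) ≤ Order.coheight q0 → Ch φ n q0 := by
  induction n with
  | zero => intro q0 _; trivial
  | succ n ih =>
    intro q0 hq0
    -- q0 is not the maximal ideal
    obtain ⟨p, hp0, hpl⟩ := Order.exists_series_of_le_coheight q0 hq0
    have hlt : q0 < p.last := by
      rw [← hp0]
      apply p.strictMono
      rw [Fin.lt_def]
      simp [hpl]
    have hne : q0.asIdeal ≠ IsLocalRing.maximalIdeal B := by
      intro h
      have h1 : p.last.asIdeal ≤ IsLocalRing.maximalIdeal B :=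
        IsLocalRing.le_maximalIdeal p.last.2.ne_top
      have h2 : q0.asIdeal < p.last.asIdeal := hlt
      exact absurd (h ▸ h2) (not_lt_of_ge h1)
    have hle : q0.asIdeal.comap φ ≤ (IsLocalRing.maximalIdeal B).comap φ :=
      Ideal.comap_mono (IsLocalRing.le_maximalIdeal q0.2.ne_top)
    have hne' : q0.asIdeal.comap φ ≠ (IsLocalRing.maximalIdeal B).comap φ :=
      fun h => hne (hφ q0 h)
    obtain ⟨x, hxm, hxq⟩ := SetLike.exists_of_lt (lt_of_le_of_ne hle hne')
    haveI := q0.2
    haveI : IsLocalRing (B ⧸ q0.asIdeal) :=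
      IsLocalRing.of_surjective' (Ideal.Quotient.mk q0.asIdeal) Ideal.Quotient.mk_surjective
    haveI : IsLocalHom (Ideal.Quotient.mk q0.asIdeal) := by
      apply isLocalHom_of_le_jacobson_bot
      rw [IsLocalRing.jacobson_eq_maximalIdeal ⊥ bot_ne_top]
      exact IsLocalRing.le_maximalIdeal q0.2.ne_top
    let y : B ⧸ q0.asIdeal := Ideal.Quotient.mk _ (φ x)
    have hy0 : y ≠ 0 := by
      intro h
      exact hxq ((Ideal.Quotient.eq_zero_iff_mem (I := q0.asIdeal)).mp h)
    have hym : y ∈ IsLocalRing.maximalIdeal (B ⧸ q0.asIdeal) := by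
      rw [IsLocalRing.mem_maximalIdeal, mem_nonunits_iff]
      intro hu
      have : IsUnit (φ x) := (isUnit_map_iff (Ideal.Quotient.mk q0.asIdeal) _).mp hu
      exact (IsLocalRing.mem_maximalIdeal _).mp hxm this
    have hdim := ringKrullDim_quotient_span_singleton_succ_eq_ringKrullDim_of_mem_nonZeroDivisors
      (mem_nonZeroDivisors_of_ne_zero hy0) hym
    have hn : (n : WithBot ℕ∞) ≤ ringKrullDim ((B ⧸ q0.asIdeal) ⧸ Ideal.span {y}) := by
      have h1 : (((n + 1 : ℕ) : ℕ∞) : WithBot ℕ∞) ≤ ringKrullDim (B ⧸ q0.asIdeal) := by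
        rw [← coheight_eq_dim_quotient]
        exact_mod_cast hq0
      rw [← hdim] at h1
      generalize ringKrullDim ((B ⧸ q0.asIdeal) ⧸ Ideal.span {y}) = a at h1 ⊢
      induction a with
      | bot => simp at h1
      | coe m =>
        induction m with
        | top => simp
        | coe m =>
          have : ((n + 1 : ℕ) : WithBot ℕ∞) ≤ ((m + 1 : ℕ) : WithBot ℕ∞) := by
            exact_mod_cast h1
          have : n + 1 ≤ m + 1 := by exact_mod_cast this
          exact_mod_cast (by omega : n ≤ m)
    obtain ⟨l, hl⟩ := Order.le_krullDim_iff.mp hn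
    let π : B →+* (B ⧸ q0.asIdeal) ⧸ Ideal.span {y} :=
      (Ideal.Quotient.mk (Ideal.span {y})).comp (Ideal.Quotient.mk q0.asIdeal)
    have hπ : Function.Surjective π :=
      Ideal.Quotient.mk_surjective.comp Ideal.Quotient.mk_surjective
    let q1 : PrimeSpectrum B := PrimeSpectrum.comap π l.head
    have hxq1 : φ x ∈ q1.asIdeal := by
      show π (φ x) ∈ l.head.asIdeal
      have : π (φ x) = 0 := by
        show Ideal.Quotient.mk (Ideal.span {y}) y = 0
        exact Ideal.Quotient.eq_zero_iff_mem.mpr (Ideal.mem_span_singleton_self y)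
      rw [this]
      exact Ideal.zero_mem _
    have hq01 : q0.asIdeal ≤ q1.asIdeal := by
      intro b hb
      show π b ∈ l.head.asIdeal
      have : π b = 0 := by
        show Ideal.Quotient.mk (Ideal.span {y}) (Ideal.Quotient.mk q0.asIdeal b) = 0
        rw [Ideal.Quotient.eq_zero_iff_mem.mpr hb, map_zero]
      rw [this]
      exact Ideal.zero_mem _
    refine ⟨q1, ?_, ?_, ih q1 ?_⟩
    · exact lt_of_le_of_ne hq01 (fun h => hxq (by
        have : q0.asIdeal = q1.asIdeal := congrArg PrimeSpectrum.asIdeal h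
        rw [Ideal.mem_comap, this]; exact hxq1))
    · refine lt_of_le_of_ne (Ideal.comap_mono hq01) (fun h => hxq ?_)
      rw [h]
      exact hxq1
    · have := Order.length_le_coheight_head
        (p := l.map (PrimeSpectrum.comap π) (RingHom.strictMono_comap_of_surjective hπ))
      rw [LTSeries.head_map, LTSeries.map_length, hl] at this
      exact this


theorem exists_Ch [IsNoetherianRing B] [IsLocalRing B]
    (hφ : ∀ q : PrimeSpectrum B, q.asIdeal.comap φ = (IsLocalRing.maximalIdeal B).comap φ →
      q.asIdeal = IsLocalRing.maximalIdeal B) (n : ℕ) (hn : (n : WithBot ℕ∞) ≤ ringKrullDim B) :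
    ∃ q : PrimeSpectrum B, Ch φ n q := by
  obtain ⟨l, hl⟩ := Order.le_krullDim_iff.mp hn
  refine ⟨l.head, exists_Ch_of_coheight φ hφ n l.head ?_⟩
  have := Order.length_le_coheight_head (p := l)
  rwa [hl] at this

end CA

section geom

variable {S X : Scheme.{u}}

/-- in a locally noetherian scheme, every point of a set `W` has a generization in `W` which is
maximal for generization within `W` -/
theorem exists_maximal_generization [IsLocallyNoetherian S] (W : Set S) (s0 : S) (hs0 : s0 ∈ W) :
    ∃ t ∈ W, ∀ s ∈ W, s ⤳ t → s = t := by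
  let P : PrimeSpectrum (S.presheaf.stalk s0) → Prop := fun q => S.fromSpecStalk s0 q ∈ W
  have hP : ∃ q, P q := ⟨IsLocalRing.closedPoint _, by
    show S.fromSpecStalk s0 (IsLocalRing.closedPoint _) ∈ W
    rw [Scheme.fromSpecStalk_closedPoint]; exact hs0⟩
  obtain ⟨q, hq, hmin⟩ := exists_minimalFor_of_wellFoundedLT P
    (fun q : PrimeSpectrum (S.presheaf.stalk s0) => q.asIdeal.height) hP
  refine ⟨S.fromSpecStalk s0 q, hq, fun s hs hst => ?_⟩
  have ht0 : S.fromSpecStalk s0 q ⤳ s0 := by
    have : S.fromSpecStalk s0 q ∈ Set.range (S.fromSpecStalk s0) := ⟨q, rfl⟩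
    rw [Scheme.range_fromSpecStalk] at this
    exact this
  have hs0' : s ∈ Set.range (S.fromSpecStalk s0) := by
    rw [Scheme.range_fromSpecStalk]
    exact hst.trans ht0
  obtain ⟨q', rfl⟩ := hs0'
  let q'p : PrimeSpectrum (S.presheaf.stalk s0) := q'
  have hle : q'p ≤ q :=
    (PrimeSpectrum.le_iff_specializes q'p q).mpr
      ((S.fromSpecStalk s0).isEmbedding.isInducing.specializes_iff.mp hst)
  by_contra hne
  have hlt : q'p.asIdeal < q.asIdeal := lt_of_le_of_ne hle (fun h => hne (by
    have : q'p = q := PrimeSpectrum.ext h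
    exact congrArg (S.fromSpecStalk s0) this))
  have h1 := Ideal.height_strict_mono_of_isPrime hlt
  exact absurd (hmin hs h1.le) (not_le_of_gt h1)


theorem f_fromSpecStalk (f : S ⟶ X) (t : S) (q : PrimeSpectrum (S.presheaf.stalk t)) :
    f (S.fromSpecStalk t q) =
      X.fromSpecStalk (f t) (PrimeSpectrum.comap (f.stalkMap t).hom q) := by
  have h := Scheme.SpecMap_stalkMap_fromSpecStalk (f := f) (x := t)
  have := congrArg (fun g : Spec (S.presheaf.stalk t) ⟶ X => g q) h
  simp only [Scheme.Hom.comp_apply] at this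
  exact this.symm

/-- the irreducible closed subset of `range f` attached to a point of `Spec O_{S,t}` -/
def irr (f : S ⟶ X) (t : S) (q : PrimeSpectrum (S.presheaf.stalk t)) :
    TopologicalSpace.IrreducibleCloseds (Set.range f) where
  carrier := closure {⟨f (S.fromSpecStalk t q), ⟨_, rfl⟩⟩}
  isIrreducible' := isIrreducible_singleton.closure
  isClosed' := isClosed_closure

theorem irr_lt (f : S ⟶ X) (t : S) (q q' : PrimeSpectrum (S.presheaf.stalk t)) (hqq : q < q')
    (hc : q.asIdeal.comap (f.stalkMap t).hom < q'.asIdeal.comap (f.stalkMap t).hom) :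
    irr f t q' < irr f t q := by
  have hsp : f (S.fromSpecStalk t q) ⤳ f (S.fromSpecStalk t q') := by
    apply Specializes.map _ f.continuous
    apply Specializes.map _ (S.fromSpecStalk t).continuous
    exact (PrimeSpectrum.le_iff_specializes q q').mp hqq.le
  have hsp' : (⟨f (S.fromSpecStalk t q), ⟨_, rfl⟩⟩ : Set.range f) ⤳
      ⟨f (S.fromSpecStalk t q'), ⟨_, rfl⟩⟩ := Topology.IsInducing.subtypeVal.specializes_iff.mp hsp
  have hle : irr f t q' ≤ irr f t q := by
    show closure _ ⊆ closure _
    apply closure_minimal _ isClosed_closure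
    rw [Set.singleton_subset_iff]
    exact specializes_iff_mem_closure.mp hsp'
  refine lt_of_le_of_ne hle (fun heq => ?_)
  have hmem : (⟨f (S.fromSpecStalk t q), ⟨_, rfl⟩⟩ : Set.range f) ∈
      (irr f t q' : Set (Set.range f)) := by
    rw [heq]
    exact subset_closure rfl
  have hsp2 : (⟨f (S.fromSpecStalk t q'), ⟨_, rfl⟩⟩ : Set.range f) ⤳
      ⟨f (S.fromSpecStalk t q), ⟨_, rfl⟩⟩ := specializes_iff_mem_closure.mpr hmem
  have heq2 : f (S.fromSpecStalk t q) = f (S.fromSpecStalk t q') :=
    (Topology.IsInducing.subtypeVal.specializes_iff.mpr hsp2).antisymm hsp |>.eq.symm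
  rw [f_fromSpecStalk, f_fromSpecStalk] at heq2
  have := (X.fromSpecStalk (f t)).isEmbedding.injective heq2
  have h2 : q.asIdeal.comap (f.stalkMap t).hom = q'.asIdeal.comap (f.stalkMap t).hom :=
    congrArg PrimeSpectrum.asIdeal this
  exact hc.ne h2

theorem height_of_Ch (f : S ⟶ X) (t : S) (n : ℕ) :
    ∀ q : PrimeSpectrum (S.presheaf.stalk t), Ch (f.stalkMap t).hom n q →
      (n : ℕ∞) ≤ Order.height (irr f t q) := by
  induction n with
  | zero => intro q _; simp
  | succ n ih =>
    rintro q ⟨q', hqq, hc, hq'⟩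
    have h1 := ih q' hq'
    have h2 := Order.height_add_one_le (irr_lt f t q q' hqq hc)
    calc ((n + 1 : ℕ) : ℕ∞) = (n : ℕ∞) + 1 := by norm_cast
      _ ≤ Order.height (irr f t q') + 1 := by gcongr
      _ ≤ _ := h2

end geom


section main

open IsLocalRing

theorem main (k : Type u) [Field k] (S X : Scheme.{u}) (pS : S ⟶ Spec (CommRingCat.of k))
    [LocallyOfFiniteType pS] (f : S ⟶ X) (Z : Set X)
    (h : ∀ s : S, f.base s ∈ Z →
      topologicalKrullDim (Set.range f.base) + 1 ≤ ringKrullDim (S.presheaf.stalk s)) :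
    f.base ⁻¹' Z = ∅ := by
  haveI : IsLocallyNoetherian S := LocallyOfFiniteType.isLocallyNoetherian pS
  by_contra hne
  obtain ⟨s0, hs0⟩ := Set.nonempty_iff_ne_empty.mpr hne
  obtain ⟨t, htW, hmax⟩ := exists_maximal_generization (f.base ⁻¹' Z) s0 hs0
  have hφ : ∀ q : PrimeSpectrum (S.presheaf.stalk t),
      q.asIdeal.comap (f.stalkMap t).hom =
        (maximalIdeal (S.presheaf.stalk t)).comap (f.stalkMap t).hom →
      q.asIdeal = maximalIdeal (S.presheaf.stalk t) := by
    intro q hq
    have h1 : f (S.fromSpecStalk t q) = f t := by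
      rw [f_fromSpecStalk]
      have : PrimeSpectrum.comap (f.stalkMap t).hom q =
          PrimeSpectrum.comap (f.stalkMap t).hom (closedPoint _) := PrimeSpectrum.ext hq
      rw [this, ← f_fromSpecStalk, Scheme.fromSpecStalk_closedPoint]
    have h2 : S.fromSpecStalk t q ⤳ t := by
      have : S.fromSpecStalk t q ∈ Set.range (S.fromSpecStalk t) := ⟨q, rfl⟩
      rw [Scheme.range_fromSpecStalk] at this
      exact this
    have h3 := hmax _ (show f (S.fromSpecStalk t q) ∈ Z by rw [h1]; exact htW) h2
    have h4 : q = closedPoint _ := (S.fromSpecStalk t).isEmbedding.injective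
      (h3.trans Scheme.fromSpecStalk_closedPoint.symm)
    rw [h4]; rfl
  obtain ⟨n, hn⟩ : ∃ n : ℕ, ringKrullDim (S.presheaf.stalk t) = n := by
    have h1 : ringKrullDim (S.presheaf.stalk t) ≠ ⊤ := ringKrullDim_ne_top
    have h2 : ringKrullDim (S.presheaf.stalk t) ≠ ⊥ := ringKrullDim_ne_bot
    generalize ringKrullDim (S.presheaf.stalk t) = a at h1 h2
    induction a with
    | bot => exact absurd rfl h2
    | coe m =>
      induction m with
      | top => exact absurd rfl h1
      | coe m => exact ⟨m, rfl⟩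
  obtain ⟨q, hq⟩ := exists_Ch _ hφ n hn.ge
  have h5 := height_of_Ch f t n q hq
  have h6 : (n : WithBot ℕ∞) ≤ topologicalKrullDim (Set.range f.base) := by
    calc (n : WithBot ℕ∞) ≤ ((Order.height (irr f t q) : ℕ∞) : WithBot ℕ∞) := by
          exact_mod_cast h5
      _ ≤ _ := Order.height_le_krullDim _
  have h7 := h t htW
  rw [hn] at h7
  generalize topologicalKrullDim (Set.range f.base) = d at h6 h7
  induction d with
  | bot => simp at h6
  | coe m =>
    induction m with
    | top =>
      have h8 : ((⊤ : ℕ∞) : WithBot ℕ∞) + 1 = ((⊤ : ℕ∞) : WithBot ℕ∞) := by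
        rw [← WithBot.coe_one, ← WithBot.coe_add, top_add]
      rw [h8] at h7
      have h9 : (⊤ : ℕ∞) ≤ (n : ℕ∞) := by exact_mod_cast h7
      simp at h9
    | coe m =>
      have h8 : n ≤ m := by exact_mod_cast h6
      have h9 : m + 1 ≤ n := by exact_mod_cast h7
      omega

end main

end Groth.Agent.Helper3.DimChain
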