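import Groth.Agent.Helper3.PseudoLoc2
import Groth.Agent.Lead.RegLocal

open AlgebraicGeometry CategoryTheory CategoryTheory.Limits TopologicalSpace Opposite

universe u

namespace Groth.Agent.Helper3.DimOneExt

/-- a regular local ring of dimension `≤ 1` is a valuation ring -/
theorem valuationRing_of_regular (R : Type u) [CommRing R] [IsRegularLocalRing R]
    (h : ringKrullDim R ≤ 1) : ∃ hdom : IsDomain R, @ValuationRing R _ hdom := by
  have hdom : IsDomain R := Groth.Agent.Lead.RegLocal.isDomain_of_isRegularLocalRing R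
  refine ⟨hdom, ?_⟩
  have h1 : Module.finrank (IsLocalRing.ResidueField R) (IsLocalRing.CotangentSpace R) ≤ 1 := by
    have h2 := (IsRegularLocalRing.iff_finrank_cotangentSpace R).mp inferInstance
    rw [← h2] at h
    exact_mod_cast h
  exact ((tfae_of_isNoetherianRing_of_isLocalRing_of_isDomain R).out 5 1).mp h1

/-- gluing a family of morphisms on opens agreeing on intersections -/
theorem glueFam {X Y : Scheme.{u}} {ι : Type u} (W : ι → X.Opens)
    (f : ∀ i, (W i : Scheme.{u}) ⟶ Y)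
    (hag : ∀ i j, X.homOfLE (inf_le_left : W i ⊓ W j ≤ W i) ≫ f i =
      X.homOfLE (inf_le_right : W i ⊓ W j ≤ W j) ≫ f j) :
    ∃ (h' : ((⨆ i, W i : X.Opens) : Scheme.{u}) ⟶ Y),
      (∀ i, X.homOfLE (le_iSup W i) ≫ h' = f i) ∧
      ∀ (Z : Scheme.{u}) (a b : ((⨆ i, W i : X.Opens) : Scheme.{u}) ⟶ Z),
        (∀ i, X.homOfLE (le_iSup W i) ≫ a = X.homOfLE (le_iSup W i) ≫ b) → a = b := by
  let 𝒰 := Scheme.Opens.iSupOpenCover W
  have hf : ∀ b b' : ι, pullback.fst (X.homOfLE (le_iSup W b)) (X.homOfLE (le_iSup W b')) ≫ f b =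
      pullback.snd _ _ ≫ f b' := by
    intro b b'
    refine (cancel_epi (isPullback_opens_inf_le (le_iSup W b) (le_iSup W b')).isoPullback.hom).mp ?_
    rw [IsPullback.isoPullback_hom_fst_assoc, IsPullback.isoPullback_hom_snd_assoc]
    exact hag b b'
  refine ⟨𝒰.glueMorphisms f hf, fun i => 𝒰.ι_glueMorphisms f hf i, ?_⟩
  intro Z a b h1
  apply Scheme.Cover.hom_ext 𝒰
  intro i
  exact h1 i

theorem isDominant_homOfLE {Y : Scheme.{u}} (V W : Y.Opens) (h : V ≤ W)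
    (hV : Dense (V : Set Y)) : IsDominant (Y.homOfLE h) := by
  refine ⟨?_⟩
  rw [DenseRange, (W.ι).isOpenEmbedding.isInducing.dense_iff]
  intro z
  have : (⇑W.ι) '' Set.range (Y.homOfLE h) = (V : Set Y) := by
    rw [← Set.range_comp]
    have : (⇑W.ι ∘ ⇑(Y.homOfLE h)) = ⇑(Y.homOfLE h ≫ W.ι) := by
      ext t; rfl
    rw [this, Y.homOfLE_ι]
    simp
  rw [this]
  exact hV _

/-- S4440 -/
theorem s4440 {S X Y : Scheme.{u}}
    (p : X ⟶ S) [IsProper p] (q : Y ⟶ S) [IsLocallyNoetherian Y] [IsReduced Y]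
    (hreg : ∀ y : Y, ringKrullDim (Y.presheaf.stalk y) ≤ 1 →
      IsRegularLocalRing (Y.presheaf.stalk y))
    (V : Y.Opens) (hV : Dense (V : Set Y)) (g : (V : Scheme.{u}) ⟶ X) (hg : g ≫ p = V.ι ≫ q) :
    ∃ (U : Y.Opens) (hVU : V ≤ U) (g' : (U : Scheme.{u}) ⟶ X), g' ≫ p = U.ι ≫ q ∧
      Y.homOfLE hVU ≫ g' = g ∧
      ∀ y : Y, ringKrullDim (Y.presheaf.stalk y) ≤ 1 → y ∈ U := by
  let J : Type u := Option {y : Y // ringKrullDim (Y.presheaf.stalk y) ≤ 1}
  have key : ∀ j : J, ∃ (U' : Y.Opens) (hUU' : V ≤ U'), (∀ y, j = some y → y.1 ∈ U') ∧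
      ∃ f' : (U' : Scheme.{u}) ⟶ X, f' ≫ p = U'.ι ≫ q ∧ Y.homOfLE hUU' ≫ f' = g := by
    intro j
    cases j with
    | none =>
      refine ⟨V, le_rfl, fun y hy => ?_, g, hg, ?_⟩
      · exact absurd hy (by simp)
      · rw [show Y.homOfLE (le_rfl : V ≤ V) = 𝟙 _ from Y.homOfLE_rfl V]; exact Category.id_comp _
    | some y =>
      obtain ⟨y, hy⟩ := y
      haveI := hreg y hy
      obtain ⟨hdom, hval⟩ := valuationRing_of_regular (Y.presheaf.stalk y) hy
      obtain ⟨U', hUU', hyU', f', h1, h2⟩ :=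
        PseudoLoc.s9701 q p y V g hg (hV y) (Or.inr inferInstance) hdom hval
      refine ⟨U', hUU', ?_, f', h1, h2⟩
      intro y' hy'
      cases hy'
      exact hyU'
  choose W hVW hyW f hfp hfg using key
  have hag : ∀ i j, Y.homOfLE (inf_le_left : W i ⊓ W j ≤ W i) ≫ f i =
      Y.homOfLE (inf_le_right : W i ⊓ W j ≤ W j) ≫ f j := by
    intro i j
    haveI : IsDominant (Y.homOfLE (le_inf (hVW i) (hVW j))) :=
      isDominant_homOfLE V (W i ⊓ W j) _ hV
    refine ext_of_isDominant_of_isSeparated p ?_ (Y.homOfLE (le_inf (hVW i) (hVW j))) ?_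
    · rw [Category.assoc, Category.assoc, hfp, hfp, Y.homOfLE_ι_assoc, Y.homOfLE_ι_assoc]
    · rw [← Category.assoc, ← Category.assoc, Y.homOfLE_homOfLE, Y.homOfLE_homOfLE, hfg, hfg]
  obtain ⟨h', hh', hext⟩ := glueFam W f hag
  refine ⟨⨆ j, W j, (hVW none).trans (le_iSup W none), h', ?_, ?_, ?_⟩
  · apply hext
    intro i
    rw [← Category.assoc, hh', hfp, Y.homOfLE_ι_assoc]
  · rw [← hfg none, ← hh' none, ← Category.assoc, Y.homOfLE_homOfLE]
  · intro y hy
    exact (le_iSup W (some ⟨y, hy⟩)) (hyW (some ⟨y, hy⟩) ⟨y, hy⟩ rfl)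

end Groth.Agent.Helper3.DimOneExt
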