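import Mathlib
set_option backward.isDefEq.respectTransparency.types false
set_option maxHeartbeats 4000000
set_option synthInstance.maxHeartbeats 400000
set_option autoImplicit false
universe u

open AlgebraicGeometry CategoryTheory TopologicalSpace Opposite

namespace Groth.Agent.Helper3.DimZero

theorem subsingleton_of_eq_bot {X : Scheme.{u}} : ∀ W : X.Opens, W = ⊥ → Subsingleton Γ(X, W) := by
  rintro _ rfl; infer_instance

theorem germ_injective (X : Scheme.{u}) :
    Function.Injective (fun s : Γ(X, ⊤) => fun x : X => X.presheaf.germ ⊤ x trivial s) := by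
  intro s t hst
  refine TopCat.Presheaf.section_ext X.sheaf ⊤ s t fun x hx => ?_
  exact congrFun hst x

theorem germ_surjective (X : Scheme.{u}) [DiscreteTopology X] :
    Function.Surjective (fun s : Γ(X, ⊤) => fun x : X => X.presheaf.germ ⊤ x trivial s) := by
  intro a
  let U : X → X.Opens := fun x => ⟨{x}, isOpen_discrete _⟩
  have hxU : ∀ x, x ∈ U x := fun x => rfl
  have hsf : ∀ x, ∃ s : Γ(X, U x), X.presheaf.germ (U x) x (hxU x) s = a x := by
    intro x
    obtain ⟨V, hxV, s, hs⟩ := X.presheaf.exists_germ_eq (a x)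
    have hUV : U x ≤ V := by
      intro y hy
      have : y = x := hy
      rw [this]; exact hxV
    refine ⟨X.presheaf.map (homOfLE hUV).op s, ?_⟩
    rw [TopCat.Presheaf.germ_res_apply]
    exact hs
  choose sf hsf using hsf
  have hcompat : TopCat.Presheaf.IsCompatible X.sheaf.1 U sf := by
    intro x y
    by_cases hxy : x = y
    · subst hxy
      rfl
    · haveI : Subsingleton Γ(X, U x ⊓ U y) := by
        apply subsingleton_of_eq_bot
        ext z
        simp only [Opens.coe_inf, Set.mem_inter_iff, SetLike.mem_coe, Opens.coe_bot,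
          Set.mem_empty_iff_false, iff_false, not_and]
        intro h1 h2
        have h1' : z = x := h1
        have h2' : z = y := h2
        exact hxy (h1'.symm.trans h2')
      exact Subsingleton.elim (α := Γ(X, U x ⊓ U y)) _ _
  obtain ⟨s, hs, -⟩ := TopCat.Sheaf.existsUnique_gluing' X.sheaf U ⊤ (fun x => homOfLE le_top)
    (fun z _ => Opens.mem_iSup.mpr ⟨z, hxU z⟩) sf hcompat
  refine ⟨s, ?_⟩
  funext x
  show X.presheaf.germ ⊤ x trivial s = a x
  rw [← hsf x, ← hs x]
  exact (TopCat.Presheaf.germ_res_apply X.presheaf (homOfLE le_top) x (hxU x) s).symm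

end Groth.Agent.Helper3.DimZero

namespace Groth.Agent.Helper3.DimZero

theorem main (k : Type u) [Field k] {X : Scheme.{u}} [Nonempty X]
    (f : X ⟶ Spec (CommRingCat.of k)) [LocallyOfFiniteType f] [QuasiCompact f] :
    [topologicalKrullDim ↥X = 0,
      IsAffine X ∧ f.appTop.hom.Finite ∧
        Function.Bijective (fun s : Γ(X, ⊤) => fun x : X => X.presheaf.germ ⊤ x trivial s),
      DiscreteTopology ↥X,
      Finite ↥X].TFAE := by
  haveI : IsLocallyNoetherian X := LocallyOfFiniteType.isLocallyNoetherian f
  haveI : CompactSpace X := QuasiCompact.compactSpace_of_compactSpace f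
  haveI : JacobsonSpace X := LocallyOfFiniteType.jacobsonSpace f
  tfae_have 1 → 3 := by
    intro h
    haveI := IsLocallyArtinian.of_topologicalKrullDim_le_zero (X := X) h.le
    infer_instance
  tfae_have 3 → 4 := by
    intro h; exact finite_of_compact_of_discrete
  tfae_have 4 → 3 := by
    intro h; infer_instance
  tfae_have 3 → 1 := by
    intro h
    apply le_antisymm (topologicalKrullDim_zero_of_discreteTopology X)
    obtain ⟨x⟩ := ‹Nonempty X›
    haveI : Nonempty (IrreducibleCloseds X) :=
      ⟨⟨closure {x}, isIrreducible_singleton.closure, isClosed_closure⟩⟩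
    exact Order.krullDim_nonneg
  tfae_have 3 → 2 := by
    intro h
    haveI : Finite X := finite_of_compact_of_discrete
    haveI : IsAffine X := inferInstance
    refine ⟨inferInstance, ?_, germ_injective X, germ_surjective X⟩
    haveI : IsLocallyArtinian X := .of_isLocallyNoetherian_of_discreteTopology
    haveI : IsArtinianRing Γ(X, ⊤) := inferInstance
    have hft : f.appTop.hom.FiniteType :=
      (HasRingHomProperty.iff_of_isAffine (P := @LocallyOfFiniteType)).mp ‹_›
    haveI : IsJacobsonRing Γ(Spec (CommRingCat.of k), ⊤) :=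
      (isJacobsonRing_iso (Scheme.ΓSpecIso (CommRingCat.of k)).commRingCatIsoToRingEquiv).mpr
        inferInstance
    algebraize [f.appTop.hom]
    exact Module.finite_of_isArtinianRing Γ(Spec (CommRingCat.of k), ⊤) Γ(X, ⊤)
  tfae_have 2 → 4 := by
    rintro ⟨h1, h2, -⟩
    haveI : IsArtinianRing Γ(Spec (CommRingCat.of k), ⊤) :=
      (Scheme.ΓSpecIso (CommRingCat.of k)).commRingCatIsoToRingEquiv.symm.isArtinianRing
    algebraize [f.appTop.hom]
    haveI : Module.Finite Γ(Spec (CommRingCat.of k), ⊤) Γ(X, ⊤) := h2
    haveI : IsArtinianRing Γ(X, ⊤) := IsArtinianRing.of_finite Γ(Spec (CommRingCat.of k), ⊤) Γ(X, ⊤)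
    haveI : Finite (Spec Γ(X, ⊤)) := inferInstanceAs (Finite (PrimeSpectrum Γ(X, ⊤)))
    exact Finite.of_injective _ X.isoSpec.hom.homeomorph.injective
  tfae_finish

end Groth.Agent.Helper3.DimZero
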