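import Mathlib

/-! Every module is a direct limit of finitely presented modules. -/

set_option autoImplicit false
universe u

namespace Groth.Agent.Helper3.DirLimFP

variable (R : Type u) [CommRing R] (M : Type u) [AddCommGroup M] [Module R M]

/-- helps unification of the `Zero R` instance inside `M →₀ R`. -/
noncomputable local instance instACG (X : Type u) : AddCommGroup (X →₀ R) :=
  Finsupp.instAddCommGroup

/-- the canonical surjection from the free module on `M`. -/
noncomputable abbrev π : (M →₀ R) →ₗ[R] M := Finsupp.linearCombination R (id : M → M)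

/-- the supported submodule -/
noncomputable abbrev FS (S : Finset M) : Submodule R (M →₀ R) := Finsupp.supported R R (S : Set M)

/-- index set: finite subsets `S` of `M` and f.g. submodules of the relations supported in `S`. -/
def Idx : Type u :=
  {p : Finset M × Submodule R (M →₀ R) // p.2.FG ∧ p.2 ≤ LinearMap.ker (π R M) ∧ p.2 ≤ FS R M p.1}

instance : Preorder (Idx R M) := inferInstanceAs (Preorder (Subtype _))

instance : Nonempty (Idx R M) := ⟨⟨(∅, ⊥), Submodule.fg_bot, bot_le, bot_le⟩⟩

lemma FS_mono {S T : Finset M} (h : S ≤ T) : FS R M S ≤ FS R M T :=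
  Finsupp.supported_mono (by exact_mod_cast h)

instance : IsDirected (Idx R M) (· ≤ ·) :=
  ⟨fun a b => by
    classical
    exact ⟨⟨(a.1.1 ∪ b.1.1, a.1.2 ⊔ b.1.2), a.2.1.sup b.2.1, sup_le a.2.2.1 b.2.2.1,
      sup_le (a.2.2.2.trans (FS_mono R M Finset.subset_union_left))
        (b.2.2.2.trans (FS_mono R M Finset.subset_union_right))⟩,
      ⟨Finset.subset_union_left, le_sup_left⟩, ⟨Finset.subset_union_right, le_sup_right⟩⟩⟩

/-- the relation submodule inside `FS S`. -/
noncomputable abbrev rel (i : Idx R M) : Submodule R (FS R M i.1.1) :=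
  Submodule.comap (FS R M i.1.1).subtype i.1.2

/-- the finitely presented pieces -/
def G (i : Idx R M) : Type u := (FS R M i.1.1) ⧸ rel R M i

noncomputable instance (i : Idx R M) : AddCommGroup (G R M i) :=
  Submodule.Quotient.addCommGroup (rel R M i)

noncomputable instance (i : Idx R M) : Module R (G R M i) :=
  Submodule.Quotient.module (rel R M i)

/-- the quotient map -/
noncomputable def mk (i : Idx R M) : FS R M i.1.1 →ₗ[R] G R M i := (rel R M i).mkQ

lemma mk_surjective (i : Idx R M) : Function.Surjective (mk R M i) :=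
  Submodule.mkQ_surjective _

lemma mk_eq_zero (i : Idx R M) (x : FS R M i.1.1) : mk R M i x = 0 ↔ x.1 ∈ i.1.2 :=
  Submodule.Quotient.mk_eq_zero _

lemma le_fst {i j : Idx R M} (h : i ≤ j) : i.1.1 ≤ j.1.1 := h.1
lemma le_snd {i j : Idx R M} (h : i ≤ j) : i.1.2 ≤ j.1.2 := h.2

/-- transition maps -/
noncomputable def f (i j : Idx R M) (h : i ≤ j) : G R M i →ₗ[R] G R M j :=
  Submodule.mapQ (rel R M i) (rel R M j) (Submodule.inclusion (FS_mono R M (le_fst R M h))) (by
    intro x hx
    exact le_snd R M h hx)

lemma f_mk {i j : Idx R M} (h : i ≤ j) (x : FS R M i.1.1) :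
    f R M i j h (mk R M i x) =
      mk R M j (Submodule.inclusion (FS_mono R M (le_fst R M h)) x) := rfl

instance : DirectedSystem (G R M) fun i j h => f R M i j h where
  map_self i x := by
    obtain ⟨y, rfl⟩ := mk_surjective R M i x
    rfl
  map_map k j i hij hjk x := by
    obtain ⟨y, rfl⟩ := mk_surjective R M i x
    rfl

instance (i : Idx R M) : Module.FinitePresentation R (G R M i) := by
  classical
  have e : (FS R M i.1.1) ≃ₗ[R] (i.1.1 →₀ R) := Finsupp.supportedEquivFinsupp _
  have : Module.FinitePresentation R (FS R M i.1.1) := Module.FinitePresentation.of_equiv e.symm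
  refine Module.finitePresentation_of_surjective (mk R M i) (mk_surjective R M i) ?_
  have hk : LinearMap.ker (mk R M i) = rel R M i := Submodule.ker_mkQ _
  rw [hk]
  have e' : rel R M i ≃ₗ[R] i.1.2 := Submodule.comapSubtypeEquivOfLe i.2.2.2
  have h1 : Module.Finite R i.1.2 := Module.Finite.iff_fg.2 i.2.1
  have h2 : Module.Finite R (rel R M i) := Module.Finite.equiv e'.symm
  exact Module.Finite.iff_fg.1 h2

/-- maps to `M` -/
noncomputable def g (i : Idx R M) : G R M i →ₗ[R] M :=
  Submodule.liftQ (rel R M i) (π R M ∘ₗ (FS R M i.1.1).subtype) (by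
    intro x hx
    exact i.2.2.1 hx)

lemma g_mk (i : Idx R M) (x : FS R M i.1.1) :
    g R M i (mk R M i x) = π R M x.1 := rfl

open Classical in
/-- the comparison map -/
noncomputable def lim : Module.DirectLimit (G R M) (f R M) →ₗ[R] M :=
  Module.DirectLimit.lift R (Idx R M) (G R M) (f R M) (g R M) (by
    intro i j hij x
    obtain ⟨y, rfl⟩ := mk_surjective R M i x
    rfl)

open Classical in
theorem lim_bijective : Function.Bijective (lim R M) := by
  constructor
  · rw [injective_iff_map_eq_zero]
    intro z hz
    obtain ⟨i, x, rfl⟩ := Module.DirectLimit.exists_of z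
    obtain ⟨y, rfl⟩ := mk_surjective R M i x
    rw [lim, Module.DirectLimit.lift_of, g_mk] at hz
    let j : Idx R M := ⟨(i.1.1, i.1.2 ⊔ Submodule.span R {y.1}),
      i.2.1.sup (Submodule.fg_span_singleton _),
      sup_le i.2.2.1 ((Submodule.span_singleton_le_iff_mem _ _).2 hz),
      sup_le i.2.2.2 ((Submodule.span_singleton_le_iff_mem _ _).2 y.2)⟩
    have hij : i ≤ j := ⟨le_refl _, le_sup_left⟩
    rw [← Module.DirectLimit.of_f (hij := hij), f_mk]
    have : mk R M j (Submodule.inclusion (FS_mono R M (le_fst R M hij)) y) = 0 := by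
      rw [mk_eq_zero]
      exact Submodule.mem_sup_right (Submodule.mem_span_singleton_self _)
    rw [this, map_zero]
  · intro m
    let i : Idx R M := ⟨({m}, ⊥), Submodule.fg_bot, bot_le, bot_le⟩
    let y : FS R M i.1.1 := ⟨Finsupp.single m 1, by
      rw [Finsupp.mem_supported]
      intro a ha
      have : a = m := by
        by_contra hne
        simp [Finsupp.single_apply, Ne.symm hne] at ha
      simp [i, this]⟩
    refine ⟨Module.DirectLimit.of R (Idx R M) (G R M) (f R M) i (mk R M i y), ?_⟩
    rw [lim, Module.DirectLimit.lift_of, g_mk]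
    simp [y, π]

end Groth.Agent.Helper3.DirLimFP
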