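import Mathlib

/-! Direct limits of (faithfully) flat algebras are (faithfully) flat. -/

set_option autoImplicit false
universe u v w

namespace Groth.Agent.Helper3.DirLim



variable {R : Type u} [CommRing R] {ι : Type v} [Preorder ι] [Nonempty ι] [IsDirected ι (· ≤ ·)]
  (G : ι → Type w) [∀ i, CommRing (G i)] [∀ i, Algebra R (G i)]
  (f : ∀ i j, i ≤ j → G i →+* G j) [DirectedSystem G fun i j h => f i j h]

/-- a finite family in the direct limit comes from a common stage -/
lemma exists_common_lift {l : Type*} [Finite l] (x : l → Ring.DirectLimit G (fun i j h => f i j h)) (i₀ : ι) :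
    ∃ (j : ι) (_ : i₀ ≤ j) (x' : l → G j), ∀ k, Ring.DirectLimit.of G (fun i j h => f i j h) j (x' k) = x k := by
  classical
  have := Fintype.ofFinite l
  choose jk xk hk using fun k => Ring.DirectLimit.exists_of (x k)
  obtain ⟨j, hj⟩ := Finset.exists_le (insert i₀ (Finset.univ.image jk))
  have hj0 : i₀ ≤ j := hj i₀ (Finset.mem_insert_self _ _)
  have hjk : ∀ k, jk k ≤ j := fun k =>
    hj _ (Finset.mem_insert_of_mem (Finset.mem_image_of_mem _ (Finset.mem_univ k)))
  refine ⟨j, hj0, fun k => f (jk k) j (hjk k) (xk k), fun k => ?_⟩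
  rw [Ring.DirectLimit.of_f, hk]

variable (hcompat : ∀ i j (h : i ≤ j), (f i j h).comp (algebraMap R (G i)) = algebraMap R (G j))

include hcompat in
lemma of_comp_algebraMap (i j : ι) :
    (Ring.DirectLimit.of G (fun i j h => f i j h) i).comp (algebraMap R (G i)) =
      (Ring.DirectLimit.of G (fun i j h => f i j h) j).comp (algebraMap R (G j)) := by
  obtain ⟨k, hik, hjk⟩ := exists_ge_ge i j
  ext r
  simp only [RingHom.comp_apply]
  rw [← Ring.DirectLimit.of_f hik, ← Ring.DirectLimit.of_f hjk]
  have h1 := RingHom.congr_fun (hcompat i k hik) r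
  have h2 := RingHom.congr_fun (hcompat j k hjk) r
  simp only [RingHom.comp_apply] at h1 h2
  rw [h1, h2]

include hcompat in
theorem flat_directLimit (hfl : ∀ i, Module.Flat R (G i)) (i : ι) :
    ((Ring.DirectLimit.of G (fun i j h => f i j h) i).comp (algebraMap R (G i))).Flat := by
  classical
  let S := Ring.DirectLimit G (fun i j h => f i j h)
  let φ : R →+* S := (Ring.DirectLimit.of G (fun i j h => f i j h) i).comp (algebraMap R (G i))
  letI : Algebra R S := φ.toAlgebra
  change Module.Flat R S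
  have hφ : ∀ (j : ι) (r : R), Ring.DirectLimit.of G (fun i j h => f i j h) j (algebraMap R (G j) r) = φ r := by
    intro j r
    exact (RingHom.congr_fun (of_comp_algebraMap G f hcompat i j) r).symm
  apply Module.Flat.of_forall_isTrivialRelation
  intro l c x hcx
  obtain ⟨j, -, x', hx'⟩ := exists_common_lift G f x i
  have h0 : Ring.DirectLimit.of G (fun i j h => f i j h) j (∑ k, c k • x' k) = 0 := by
    rw [map_sum, ← hcx]
    refine Finset.sum_congr rfl fun k _ => ?_
    rw [Algebra.smul_def, map_mul, hφ, hx', Algebra.smul_def]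
    rfl
  obtain ⟨j', hjj', hz⟩ := Ring.DirectLimit.of.zero_exact h0
  have hrel : ∑ k, c k • (f j j' hjj' (x' k)) = 0 := by
    rw [← hz, map_sum]
    refine Finset.sum_congr rfl fun k _ => ?_
    rw [Algebra.smul_def, Algebra.smul_def, map_mul]
    congr 1
    exact (RingHom.congr_fun (hcompat j j' hjj') (c k)).symm
  have := hfl j'
  obtain ⟨m, a, y, hxy, hca⟩ := Module.Flat.isTrivialRelation_of_sum_smul_eq_zero (R := R)
    (M := G j') (f := c) (x := fun k => f j j' hjj' (x' k)) hrel
  refine ⟨m, a, fun t => Ring.DirectLimit.of G (fun i j h => f i j h) j' (y t), fun k => ?_, hca⟩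
  have hxy' : f j j' hjj' (x' k) = ∑ t, a k t • y t := hxy k
  rw [← hx' k, ← Ring.DirectLimit.of_f hjj', hxy', map_sum]
  refine Finset.sum_congr rfl fun t _ => ?_
  rw [Algebra.smul_def, map_mul, hφ, Algebra.smul_def]
  rfl

include hcompat in
lemma map_f_le (I : Ideal R) (j k : ι) (hjk : j ≤ k) (z : G j)
    (hz : z ∈ I.map (algebraMap R (G j))) : f j k hjk z ∈ I.map (algebraMap R (G k)) := by
  have h1 := Ideal.mem_map_of_mem (f j k hjk) hz
  rwa [Ideal.map_map, hcompat j k hjk] at h1

include hcompat in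
theorem faithfullyFlat_directLimit (hff : ∀ i, (algebraMap R (G i)).FaithfullyFlat) (i : ι) :
    ((Ring.DirectLimit.of G (fun i j h => f i j h) i).comp (algebraMap R (G i))).FaithfullyFlat := by
  classical
  have hff' : ∀ i, Module.FaithfullyFlat R (G i) := fun i =>
    RingHom.faithfullyFlat_algebraMap_iff.mp (hff i)
  have hflat := flat_directLimit G f hcompat (fun i => inferInstance) i
  let S := Ring.DirectLimit G (fun i j h => f i j h)
  let φ : R →+* S := (Ring.DirectLimit.of G (fun i j h => f i j h) i).comp (algebraMap R (G i))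
  letI : Algebra R S := φ.toAlgebra
  change Module.FaithfullyFlat R S
  have hφ : ∀ (j : ι) (r : R), Ring.DirectLimit.of G (fun i j h => f i j h) j (algebraMap R (G j) r) = φ r := by
    intro j r
    exact (RingHom.congr_fun (of_comp_algebraMap G f hcompat i j) r).symm
  rw [Module.FaithfullyFlat.iff_flat_and_ideal_smul_eq_top]
  refine ⟨hflat, fun I htop => ?_⟩
  rw [Ideal.smul_top_eq_map] at htop
  have h1 : (1 : S) ∈ I.map (algebraMap R S) := by
    have : (1 : S) ∈ (I.map (algebraMap R S)).restrictScalars R := htop ▸ Submodule.mem_top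
    exact this
  -- every element of the extended ideal comes from a finite stage
  have key : ∀ z ∈ I.map (algebraMap R S), ∃ (j : ι) (z' : G j),
      z' ∈ I.map (algebraMap R (G j)) ∧ Ring.DirectLimit.of G (fun i j h => f i j h) j z' = z := by
    intro z hz
    induction hz using Submodule.span_induction with
    | mem y hy =>
      obtain ⟨r, hr, rfl⟩ := hy
      exact ⟨i, algebraMap R (G i) r, Ideal.mem_map_of_mem _ hr, rfl⟩
    | zero => exact ⟨i, 0, Ideal.zero_mem _, map_zero _⟩
    | add y₁ y₂ _ _ h₁ h₂ =>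
      obtain ⟨j₁, z₁, hz₁, rfl⟩ := h₁
      obtain ⟨j₂, z₂, hz₂, rfl⟩ := h₂
      obtain ⟨k, h1k, h2k⟩ := exists_ge_ge j₁ j₂
      refine ⟨k, f j₁ k h1k z₁ + f j₂ k h2k z₂, Ideal.add_mem _ (map_f_le G f hcompat I _ _ _ _ hz₁)
        (map_f_le G f hcompat I _ _ _ _ hz₂), ?_⟩
      rw [map_add, Ring.DirectLimit.of_f, Ring.DirectLimit.of_f]
    | smul s y _ h =>
      obtain ⟨j₂, z₂, hz₂, rfl⟩ := h
      obtain ⟨j₁, s₁, rfl⟩ := Ring.DirectLimit.exists_of s
      obtain ⟨k, h1k, h2k⟩ := exists_ge_ge j₁ j₂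
      refine ⟨k, f j₁ k h1k s₁ * f j₂ k h2k z₂,
        Ideal.mul_mem_left _ _ (map_f_le G f hcompat I _ _ _ _ hz₂), ?_⟩
      rw [map_mul, Ring.DirectLimit.of_f, Ring.DirectLimit.of_f, smul_eq_mul]
  obtain ⟨j, z', hz', hz1⟩ := key 1 h1
  have h0 : Ring.DirectLimit.of G (fun i j h => f i j h) j (z' - 1) = 0 := by
    rw [map_sub, hz1, map_one, sub_self]
  obtain ⟨j', hjj', hz⟩ := Ring.DirectLimit.of.zero_exact h0
  rw [map_sub, map_one, sub_eq_zero] at hz
  have h1' : (1 : G j') ∈ I.map (algebraMap R (G j')) := hz ▸ map_f_le G f hcompat I _ _ hjj' _ hz'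
  have htop' : I.map (algebraMap R (G j')) = ⊤ := (Ideal.eq_top_iff_one _).mpr h1'
  haveI := hff' j'
  have := Ideal.comap_map_eq_self_of_faithfullyFlat (B := G j') I
  rw [htop', Ideal.comap_top] at this
  exact this.symm

end Groth.Agent.Helper3.DirLim
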