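import Mathlib

set_option autoImplicit false

namespace Groth.Agent.Helper3.DisjCov

open CategoryTheory Limits Opposite

universe u

variable {C : Type u} [SmallCategory C]

/-- The presheaf `T ↦ Σ k, (T ⟶ Y k)`, the coproduct of the representables. -/
def sigmaPre {ι : Type u} (Y : ι → C) : Cᵒᵖ ⥤ Type u where
  obj T := Σ k, (T.unop ⟶ Y k)
  map f := TypeCat.ofHom fun x => ⟨x.1, f.unop ≫ x.2⟩
  map_id T := by
    refine ConcreteCategory.hom_ext _ _ (fun x => ?_)
    obtain ⟨k, a⟩ := x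
    change (⟨k, 𝟙 _ ≫ a⟩ : Σ k, (T.unop ⟶ Y k)) = ⟨k, a⟩
    rw [Category.id_comp]
  map_comp f g := by
    refine ConcreteCategory.hom_ext _ _ (fun x => ?_)
    obtain ⟨k, a⟩ := x
    change (⟨k, (g.unop ≫ f.unop) ≫ a⟩ : Σ k, (_ ⟶ Y k)) = ⟨k, g.unop ≫ f.unop ≫ a⟩
    rw [Category.assoc]

/-- injections -/
def sigmaInj {ι : Type u} (Y : ι → C) (k : ι) : yoneda.obj (Y k) ⟶ sigmaPre Y where
  app T := TypeCat.ofHom fun a => ⟨k, a⟩
  naturality T T' f := by ext a; rfl

/-- the map to `h_X`. -/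
def sigmaDesc {ι : Type u} {Y : ι → C} {X : C} (s : ∀ k, Y k ⟶ X) : sigmaPre Y ⟶ yoneda.obj X where
  app T := TypeCat.ofHom fun x => x.2 ≫ s x.1
  naturality T T' f := by
    ext ⟨k, a⟩
    change (f.unop ≫ a) ≫ s k = f.unop ≫ a ≫ s k
    rw [Category.assoc]

lemma sigmaInj_desc {ι : Type u} {Y : ι → C} {X : C} (s : ∀ k, Y k ⟶ X) (k : ι) :
    sigmaInj Y k ≫ sigmaDesc s = yoneda.map (s k) := by
  ext T a; rfl

/-- the cofan is a colimit in presheaves -/
def sigmaIsColimit {ι : Type u} (Y : ι → C) :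
    IsColimit (Cofan.mk (sigmaPre Y) (sigmaInj Y)) :=
  Cofan.IsColimit.mk _
    (fun c => { app := fun T => TypeCat.ofHom fun x => (c.inj x.1).app T x.2
                naturality := by
                  intro T T' f
                  ext ⟨k, a⟩
                  exact ConcreteCategory.congr_hom ((c.inj k).naturality f) a })
    (by intro c k; ext T a; rfl)
    (by
      intro c m hm
      ext T ⟨k, a⟩
      have := ConcreteCategory.congr_hom (NatTrans.congr_app (hm k) T) a
      exact this)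


section W

variable (J : GrothendieckTopology C) {ι : Type u} {Y : ι → C} {X : C} (s : ∀ k, Y k ⟶ X)

/-- if the sheafified cofan is a coproduct, then `sigmaDesc s` is inverted by sheafification. -/
lemma W_sigmaDesc
    (hc : IsColimit (Cofan.mk ((presheafToSheaf J (Type u)).obj (yoneda.obj X))
      (fun i => (presheafToSheaf J (Type u)).map (yoneda.map (s i))))) :
    J.W (sigmaDesc s) := by
  rw [J.W_iff]
  let a := presheafToSheaf J (Type u)
  have hc1 : IsColimit (Cofan.mk (a.obj (sigmaPre Y)) (fun k => a.map (sigmaInj Y k))) :=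
    isColimitMapCoconeCofanMkEquiv a _ _ (isColimitOfPreserves a (sigmaIsColimit Y))
  have h1 : a.map (sigmaDesc s) = (IsColimit.coconePointUniqueUpToIso hc1 hc).hom := by
    refine Cofan.IsColimit.hom_ext hc1 _ _ (fun k => ?_)
    have h2 := IsColimit.comp_coconePointUniqueUpToIso_hom hc1 hc ⟨k⟩
    simp only [Cofan.mk_pt, Cofan.mk_ι_app] at h2
    simp only [Cofan.inj, Cofan.mk_ι_app]
    rw [h2, ← Functor.map_comp, sigmaInj_desc]
  change IsIso (a.map (sigmaDesc s))
  rw [h1]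
  infer_instance

variable {J s}

lemma cov_of_W (h : J.W (sigmaDesc s)) : Sieve.ofArrows Y s ∈ J X := by
  have := h.isLocallySurjective
  have h1 := Presheaf.imageSieve_mem J (sigmaDesc s) (U := op X) (𝟙 X : (yoneda.obj X).obj (op X))
  refine J.superset_covering ?_ h1
  rintro T f ⟨⟨k, a⟩, ht⟩
  have ht' : a ≫ s k = f ≫ 𝟙 X := ht
  rw [Category.comp_id] at ht'
  rw [← ht']
  exact Sieve.downward_closed _ (Sieve.ofArrows_mk Y s k) a

lemma mono_of_W [J.Subcanonical] (h : J.W (sigmaDesc s)) (i : ι) : Mono (s i) := by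
  have := h.isLocallyInjective
  constructor
  intro T a b hab
  have h1 := Presheaf.equalizerSieve_mem J (sigmaDesc s) (X := op T)
    (⟨i, a⟩ : (sigmaPre Y).obj (op T)) (⟨i, b⟩ : (sigmaPre Y).obj (op T)) hab
  have hsh : Presieve.IsSheaf J (yoneda.obj (Y i)) :=
    GrothendieckTopology.Subcanonical.isSheaf_of_isRepresentable _
  refine (hsh _ h1).isSeparatedFor.ext (fun T' f hf => ?_)
  have hf' : (⟨i, f ≫ a⟩ : Σ k, (T' ⟶ Y k)) = ⟨i, f ≫ b⟩ := hf
  simpa using hf'

lemma bot_of_W (h : J.W (sigmaDesc s)) {i j : ι} (hij : i ≠ j) {T : C} (a : T ⟶ Y i)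
    (b : T ⟶ Y j) (hab : a ≫ s i = b ≫ s j) : (⊥ : Sieve T) ∈ J T := by
  have := h.isLocallyInjective
  have h1 := Presheaf.equalizerSieve_mem J (sigmaDesc s) (X := op T)
    (⟨i, a⟩ : (sigmaPre Y).obj (op T)) (⟨j, b⟩ : (sigmaPre Y).obj (op T)) hab
  refine J.superset_covering ?_ h1
  intro T' f hf
  have hf' : (⟨i, f ≫ a⟩ : Σ k, (T' ⟶ Y k)) = ⟨j, f ≫ b⟩ := hf
  exact (hij (congrArg Sigma.fst hf')).elim

end W


section Key

variable {J : GrothendieckTopology C} {ι : Type u} {Y : ι → C} {X : C} {s : ∀ k, Y k ⟶ X}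

/-- pullback-free form of `S6132`'s key step. -/
lemma key (hcov : Sieve.ofArrows Y s ∈ J X) (hmono : ∀ i, Mono (s i))
    (hdisj : ∀ i j, i ≠ j → ∀ (T : C) (a : T ⟶ Y i) (b : T ⟶ Y j), a ≫ s i = b ≫ s j →
      (⊥ : Sieve T) ∈ J T)
    (G : Cᵒᵖ ⥤ Type u) (hG : Presieve.IsSheaf J G) (x : ∀ i, G.obj (op (Y i))) :
    ∃! t : G.obj (op X), ∀ i, G.map (s i).op t = x i := by
  classical
  have h1 : (Presieve.ofArrows Y s).IsSheafFor G := by
    rw [Presieve.isSheafFor_iff_generate]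
    exact hG _ hcov
  rw [Presieve.isSheafFor_arrows_iff] at h1
  refine h1 x ?_
  intro i j Z gi gj hcomm
  by_cases hij : i = j
  · subst hij
    have : gi = gj := (cancel_mono (s i)).1 hcomm
    rw [this]
  · have hZ : (⊥ : Sieve Z) ∈ J Z := hdisj i j hij Z gi gj hcomm
    have hsep := (hG _ hZ).isSeparatedFor
    refine hsep (fun _ _ hf => hf.elim) _ _ ?_ ?_ <;> intro _ _ hf <;> exact hf.elim

/-- a disjoint monomorphic cover in a subcanonical topology is a coproduct cocone. -/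
lemma isColimit_of_cover [J.Subcanonical] {F : Discrete ι ⥤ C} (c : Cocone F)
    (hcov : Sieve.ofArrows (fun i => F.obj ⟨i⟩) (fun i => c.ι.app ⟨i⟩) ∈ J c.pt)
    (hmono : ∀ i, Mono (c.ι.app ⟨i⟩))
    (hdisj : ∀ i j, i ≠ j → ∀ (T : C) (a : T ⟶ F.obj ⟨i⟩) (b : T ⟶ F.obj ⟨j⟩),
      a ≫ c.ι.app ⟨i⟩ = b ≫ c.ι.app ⟨j⟩ → (⊥ : Sieve T) ∈ J T) :
    Nonempty (IsColimit c) := by
  have hk := fun (t : Cocone F) => key (s := fun i => c.ι.app ⟨i⟩) hcov hmono hdisj
    (yoneda.obj t.pt) (GrothendieckTopology.Subcanonical.isSheaf_of_isRepresentable _)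
    (fun i => t.ι.app ⟨i⟩)
  refine ⟨{ desc := fun t => (hk t).choose, fac := ?_, uniq := ?_ }⟩
  · rintro t ⟨i⟩
    exact (hk t).choose_spec.1 i
  · intro t m hm
    exact (hk t).choose_spec.2 m (fun i => hm ⟨i⟩)

lemma isInitial_of_bot [J.Subcanonical] {T : C} (h : (⊥ : Sieve T) ∈ J T) :
    Nonempty (IsInitial T) := by
  have hW : ∀ W : C, ∃! t : T ⟶ W, True := by
    intro W
    have hsh : Presieve.IsSheaf J (yoneda.obj W) :=
      GrothendieckTopology.Subcanonical.isSheaf_of_isRepresentable _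
    obtain ⟨t, -, ht⟩ := hsh _ h (fun _ _ hf => hf.elim) (by intro _ _ _ _ _ _ _ hf; exact hf.elim)
    exact ⟨t, trivial, fun t' _ => ht t' (by intro _ _ hf; exact hf.elim)⟩
  exact ⟨IsInitial.ofUniqueHom (fun W => (hW W).choose)
    (fun W m => (hW W).choose_spec.2 m trivial)⟩

end Key


section Univ

variable {ι : Type u} {Y : ι → C} {X : C} {s : ∀ k, Y k ⟶ X}
  [∀ (i : ι) (Z : C) (g : Z ⟶ X), HasPullback (s i) g]

/-- the pulled-back cofan of a universal coproduct cofan is a colimit. -/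
lemma pullback_isColimit (hU : IsUniversalColimit (Cofan.mk X s)) {Z : C} (g : Z ⟶ X) :
    Nonempty (IsColimit (Cofan.mk Z (fun i => pullback.snd (s i) g))) := by
  refine hU (Cofan.mk Z (fun i => pullback.snd (s i) g))
    (Discrete.natTrans fun i => pullback.fst (s i.as) g) g ?_ (.of_discrete _) ?_
  · ext ⟨i⟩
    simp [pullback.condition]
  · rintro ⟨i⟩
    exact (IsPullback.of_hasPullback (s i) g).flip

lemma hom_subsingleton (hU : IsUniversalColimit (Cofan.mk X s)) {i j : ι} (hij : i ≠ j)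
    {Z : C} (g1 : Z ⟶ Y i) (g2 : Z ⟶ Y j) (h : g1 ≫ s i = g2 ≫ s j) {W : C} (a b : Z ⟶ W) :
    a = b := by
  classical
  obtain ⟨hc⟩ := pullback_isColimit hU (g1 ≫ s i)
  let σi : Z ⟶ pullback (s i) (g1 ≫ s i) := pullback.lift g1 (𝟙 Z) (by simp)
  let σj : Z ⟶ pullback (s j) (g1 ≫ s i) := pullback.lift g2 (𝟙 Z) (by simp [h])
  let d : Z ⟶ W := Cofan.IsColimit.desc hc
    (fun k => if k = i then pullback.snd (s k) (g1 ≫ s i) ≫ a else pullback.snd (s k) (g1 ≫ s i) ≫ b)
  have hi : pullback.snd (s i) (g1 ≫ s i) ≫ d = pullback.snd (s i) (g1 ≫ s i) ≫ a := by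
    have := Cofan.IsColimit.fac hc
      (fun k => if k = i then pullback.snd (s k) (g1 ≫ s i) ≫ a else pullback.snd (s k) (g1 ≫ s i) ≫ b) i
    simpa using this
  have hj : pullback.snd (s j) (g1 ≫ s i) ≫ d = pullback.snd (s j) (g1 ≫ s i) ≫ b := by
    have := Cofan.IsColimit.fac hc
      (fun k => if k = i then pullback.snd (s k) (g1 ≫ s i) ≫ a else pullback.snd (s k) (g1 ≫ s i) ≫ b) j
    simpa [Ne.symm hij] using this
  have h1 : d = a := by
    have := σi ≫= hi
    rw [← Category.assoc, ← Category.assoc, pullback.lift_snd, Category.id_comp,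
      Category.id_comp] at this
    exact this
  have h2 : d = b := by
    have := σj ≫= hj
    rw [← Category.assoc, ← Category.assoc, pullback.lift_snd, Category.id_comp,
      Category.id_comp] at this
    exact this
  rw [← h1, h2]

/-- a universal coproduct cofan generates a covering sieve of the canonical topology -/
lemma cov_canonical (hU : IsUniversalColimit (Cofan.mk X s)) :
    Sieve.ofArrows Y s ∈ Sheaf.canonicalTopology C X := by
  refine Sheaf.mem_finestTopology_of_forall_isSheafFor ?_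
  rintro _ ⟨W, rfl⟩ Z g
  rw [← Sieve.ofArrows_eq_pullback_of_isPullback s
    (fun i => (IsPullback.of_hasPullback (s i) g).flip)]
  change Presieve.IsSheafFor _ (Sieve.generate (Presieve.ofArrows _ _)).arrows
  rw [← Presieve.isSheafFor_iff_generate, Presieve.isSheafFor_arrows_iff]
  intro x _
  obtain ⟨hc⟩ := pullback_isColimit hU g
  refine ⟨Cofan.IsColimit.desc hc x, fun i => Cofan.IsColimit.fac hc x i, fun t ht => ?_⟩
  refine Cofan.IsColimit.hom_ext hc _ _ (fun i => ?_)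
  rw [Cofan.IsColimit.fac]
  exact ht i

/-- if homs out of `Z` and everything mapping to it are subsingletons and exist, `⊥` covers. -/
lemma bot_canonical (hU : IsUniversalColimit (Cofan.mk X s)) {i j : ι} (hij : i ≠ j)
    {T : C} (hT : IsInitial T) (g1 : T ⟶ Y i) (g2 : T ⟶ Y j) (h : g1 ≫ s i = g2 ≫ s j) :
    (⊥ : Sieve T) ∈ Sheaf.canonicalTopology C T := by
  refine Sheaf.mem_finestTopology_of_forall_isSheafFor ?_
  rintro _ ⟨W, rfl⟩ Z g
  have hbot : (Sieve.pullback g (⊥ : Sieve T)) = ⊥ := by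
    ext W' f
    simp
  rw [hbot]
  intro x _
  refine ⟨g ≫ hT.to W, by intro _ _ hf; exact hf.elim, fun t _ => ?_⟩
  exact hom_subsingleton hU hij (g ≫ g1) (g ≫ g2) (by simp [h]) _ _

end Univ

end Groth.Agent.Helper3.DisjCov
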