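import Mathlib
import Groth.Agent.Helper3.DisjCov

set_option autoImplicit false

namespace Groth.Agent.Helper3.DisjCov

open CategoryTheory Limits Opposite

universe u

variable {C : Type u} [SmallCategory C]

section

variable (J : GrothendieckTopology C) {ι : Type u} (Y : ι → C) {X : C} (s : ∀ k, Y k ⟶ X)

/-- the final step of `S6132`: bijectivity on sections gives the coproduct. -/
lemma isColimit_of_key
    (key : ∀ (G : Sheaf J (Type u)) (x : ∀ i, G.obj.obj (op (Y i))),
      ∃! t : G.obj.obj (op X), ∀ i, G.obj.map (s i).op t = x i) :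
    Nonempty (IsColimit (Cofan.mk ((presheafToSheaf J (Type u)).obj (yoneda.obj X))
      (fun i => (presheafToSheaf J (Type u)).map (yoneda.map (s i))))) := by
  let adj := sheafificationAdjunction J (Type u)
  let e : ∀ (Z : C) (G : Sheaf J (Type u)),
      ((presheafToSheaf J (Type u)).obj (yoneda.obj Z) ⟶ G) ≃ G.obj.obj (Opposite.op Z) :=
    fun Z G => (adj.homEquiv (yoneda.obj Z) G).trans yonedaEquiv
  have he : ∀ {Z Z' : C} (g : Z' ⟶ Z) (G : Sheaf J (Type u))
      (φ : (presheafToSheaf J (Type u)).obj (yoneda.obj Z) ⟶ G),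
      e Z' G ((presheafToSheaf J (Type u)).map (yoneda.map g) ≫ φ) = G.obj.map g.op (e Z G φ) := by
    intro Z Z' g G φ
    simp only [e, Equiv.trans_apply]
    rw [adj.homEquiv_naturality_left, yonedaEquiv_naturality]
  refine ⟨Cofan.IsColimit.mk _
    (fun c => (e X c.pt).symm (key c.pt (fun i => e (Y i) c.pt (c.inj i))).choose) ?_ ?_⟩
  · intro c i
    apply (e (Y i) c.pt).injective
    have := (key c.pt (fun i => e (Y i) c.pt (c.inj i))).choose_spec.1 i
    simp only [Cofan.mk_pt, Cofan.inj, Cofan.mk_ι_app] at this ⊢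
    rw [he, Equiv.apply_symm_apply]
    exact this
  · intro c m hm
    apply (e X c.pt).injective
    rw [Equiv.apply_symm_apply]
    refine (key c.pt (fun i => e (Y i) c.pt (c.inj i))).choose_spec.2 _ (fun i => ?_)
    rw [← he, ← hm i]
    rfl

/-- converse: from the coproduct, bijectivity on sections. -/
lemma key_of_isColimit
    (hc : IsColimit (Cofan.mk ((presheafToSheaf J (Type u)).obj (yoneda.obj X))
      (fun i => (presheafToSheaf J (Type u)).map (yoneda.map (s i)))))
    (G : Sheaf J (Type u)) (x : ∀ i, G.obj.obj (op (Y i))) :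
    ∃! t : G.obj.obj (op X), ∀ i, G.obj.map (s i).op t = x i := by
  let adj := sheafificationAdjunction J (Type u)
  let e : ∀ (Z : C) (G : Sheaf J (Type u)),
      ((presheafToSheaf J (Type u)).obj (yoneda.obj Z) ⟶ G) ≃ G.obj.obj (Opposite.op Z) :=
    fun Z G => (adj.homEquiv (yoneda.obj Z) G).trans yonedaEquiv
  have he : ∀ {Z Z' : C} (g : Z' ⟶ Z) (G : Sheaf J (Type u))
      (φ : (presheafToSheaf J (Type u)).obj (yoneda.obj Z) ⟶ G),
      e Z' G ((presheafToSheaf J (Type u)).map (yoneda.map g) ≫ φ) = G.obj.map g.op (e Z G φ) := by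
    intro Z Z' g G φ
    simp only [e, Equiv.trans_apply]
    rw [adj.homEquiv_naturality_left, yonedaEquiv_naturality]
  refine ⟨e X G (Cofan.IsColimit.desc hc (fun i => (e (Y i) G).symm (x i))), fun i => ?_,
    fun t ht => ?_⟩
  · rw [← he]
    have := Cofan.IsColimit.fac hc (fun i => (e (Y i) G).symm (x i)) i
    simp only [Cofan.inj, Cofan.mk_ι_app] at this
    rw [this, Equiv.apply_symm_apply]
  · apply (e X G).symm.injective
    rw [Equiv.symm_apply_apply]
    refine Cofan.IsColimit.hom_ext hc _ _ (fun i => ?_)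
    rw [Cofan.IsColimit.fac]
    apply (e (Y i) G).injective
    simp only [Cofan.inj, Cofan.mk_ι_app]
    rw [he, Equiv.apply_symm_apply, Equiv.apply_symm_apply]
    exact ht i

end


section Pull

variable {J : GrothendieckTopology C} {ι : Type u} {Y : ι → C} {X : C} {s : ∀ k, Y k ⟶ X}

/-- the pullback presheaf `h_{Y i} ×_{h_X} h_{Y j}` -/
noncomputable abbrev PP (s : ∀ k, Y k ⟶ X) (i j : ι) : Cᵒᵖ ⥤ Type u :=
  pullback (yoneda.map (s i)) (yoneda.map (s j))

noncomputable def pfst (i j : ι) {T : C} (x : (PP s i j).obj (op T)) : T ⟶ Y i :=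
  (pullback.fst (yoneda.map (s i)) (yoneda.map (s j))).app (op T) x

noncomputable def psnd (i j : ι) {T : C} (x : (PP s i j).obj (op T)) : T ⟶ Y j :=
  (pullback.snd (yoneda.map (s i)) (yoneda.map (s j))).app (op T) x

lemma pcond (i j : ι) {T : C} (x : (PP s i j).obj (op T)) :
    pfst i j x ≫ s i = psnd i j x ≫ s j := by
  have := ConcreteCategory.congr_hom (NatTrans.congr_app
    (pullback.condition (f := yoneda.map (s i)) (g := yoneda.map (s j))) (op T)) x
  exact this

lemma pext (i j : ι) {T : C} (x y : (PP s i j).obj (op T))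
    (h1 : pfst i j x = pfst i j y) (h2 : psnd i j x = psnd i j y) : x = y := by
  apply yonedaEquiv.symm.injective
  apply pullback.hom_ext
  · rw [yonedaEquiv_symm_naturality_right, yonedaEquiv_symm_naturality_right]
    exact congrArg _ h1
  · rw [yonedaEquiv_symm_naturality_right, yonedaEquiv_symm_naturality_right]
    exact congrArg _ h2

lemma pfst_map (i j : ι) {T T' : C} (f : T' ⟶ T) (x : (PP s i j).obj (op T)) :
    pfst i j ((PP s i j).map f.op x) = f ≫ pfst i j x := by
  have := ConcreteCategory.congr_hom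
    ((pullback.fst (yoneda.map (s i)) (yoneda.map (s j))).naturality f.op) x
  exact this

lemma psnd_map (i j : ι) {T T' : C} (f : T' ⟶ T) (x : (PP s i j).obj (op T)) :
    psnd i j ((PP s i j).map f.op x) = f ≫ psnd i j x := by
  have := ConcreteCategory.congr_hom
    ((pullback.snd (yoneda.map (s i)) (yoneda.map (s j))).naturality f.op) x
  exact this

/-- element of the pullback from a commuting pair -/
noncomputable def pmk (i j : ι) {T : C} (a : T ⟶ Y i) (b : T ⟶ Y j) (h : a ≫ s i = b ≫ s j) :
    (PP s i j).obj (op T) :=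
  (pullback.lift (yoneda.map a) (yoneda.map b)
    (by rw [← Functor.map_comp, ← Functor.map_comp, h])).app (op T) (𝟙 T)

lemma pfst_pmk (i j : ι) {T : C} (a : T ⟶ Y i) (b : T ⟶ Y j) (h : a ≫ s i = b ≫ s j) :
    pfst i j (pmk i j a b h) = a := by
  have := ConcreteCategory.congr_hom (NatTrans.congr_app (pullback.lift_fst (yoneda.map a)
    (yoneda.map b) (by rw [← Functor.map_comp, ← Functor.map_comp, h])) (op T)) (𝟙 T)
  refine this.trans ?_
  exact Category.id_comp a

lemma psnd_pmk (i j : ι) {T : C} (a : T ⟶ Y i) (b : T ⟶ Y j) (h : a ≫ s i = b ≫ s j) :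
    psnd i j (pmk i j a b h) = b := by
  have := ConcreteCategory.congr_hom (NatTrans.congr_app (pullback.lift_snd (yoneda.map a)
    (yoneda.map b) (by rw [← Functor.map_comp, ← Functor.map_comp, h])) (op T)) (𝟙 T)
  refine this.trans ?_
  exact Category.id_comp b

lemma pfst_diag (i : ι) {T : C} (t : T ⟶ Y i) :
    pfst i i ((pullback.diagonal (yoneda.map (s i))).app (op T) t) = t := by
  have := ConcreteCategory.congr_hom (NatTrans.congr_app
    (pullback.diagonal_fst (yoneda.map (s i))) (op T)) t
  exact this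

lemma psnd_diag (i : ι) {T : C} (t : T ⟶ Y i) :
    psnd i i ((pullback.diagonal (yoneda.map (s i))).app (op T) t) = t := by
  have := ConcreteCategory.congr_hom (NatTrans.congr_app
    (pullback.diagonal_snd (yoneda.map (s i))) (op T)) t
  exact this

end Pull


section Main

variable {J : GrothendieckTopology C} {ι : Type u} {Y : ι → C} {X : C} {s : ∀ k, Y k ⟶ X}

lemma diag_W_of_W (hW : J.W (sigmaDesc s)) (i : ι) :
    J.W (pullback.diagonal (yoneda.map (s i))) := by
  have := hW.isLocallyInjective
  have h1 : Presheaf.IsLocallyInjective J (pullback.diagonal (yoneda.map (s i))) := by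
    refine Presheaf.isLocallyInjective_of_injective J _ (fun T a b hab => ?_)
    have := congrArg (pfst i i (T := T.unop)) hab
    rwa [pfst_diag, pfst_diag] at this
  have h2 : Presheaf.IsLocallySurjective J (pullback.diagonal (yoneda.map (s i))) := by
    constructor
    intro T x
    have h3 := Presheaf.equalizerSieve_mem J (sigmaDesc s) (X := op T)
      (⟨i, pfst i i x⟩ : (sigmaPre Y).obj (op T)) (⟨i, psnd i i x⟩ : (sigmaPre Y).obj (op T))
      (pcond i i x)
    refine J.superset_covering ?_ h3
    intro T' f hf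
    have hf' : (⟨i, f ≫ pfst i i x⟩ : Σ k, (T' ⟶ Y k)) = ⟨i, f ≫ psnd i i x⟩ := hf
    have hf'' : f ≫ pfst i i x = f ≫ psnd i i x := by simpa using hf'
    refine ⟨f ≫ pfst i i x, ?_⟩
    apply pext
    · rw [pfst_diag, pfst_map]
    · rw [psnd_diag, psnd_map, hf'']
  exact J.W_of_isLocallyBijective _

/-- a presheaf supported on objects covered by the empty sieve has initial sheafification -/
lemma isInitial_sheafify_of_bot (P : Cᵒᵖ ⥤ Type u)
    (hP : ∀ (T : C) (_ : P.obj (op T)), (⊥ : Sieve T) ∈ J T) :
    Nonempty (IsInitial ((presheafToSheaf J (Type u)).obj P)) := by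
  let adj := sheafificationAdjunction J (Type u)
  have huniq : ∀ (G : Sheaf J (Type u)) (T : C) (_ : P.obj (op T)) (a b : G.obj.obj (op T)),
      a = b := by
    intro G T x a b
    have hG : Presieve.IsSheaf J G.obj := (isSheaf_iff_isSheaf_of_type J G.obj).1 G.property
    have hsep := (hG _ (hP T x)).isSeparatedFor
    refine hsep (fun _ _ hf => hf.elim) _ _ ?_ ?_ <;> intro _ _ hf <;> exact hf.elim
  have hex : ∀ (G : Sheaf J (Type u)) (T : C) (_ : P.obj (op T)), Nonempty (G.obj.obj (op T)) := by
    intro G T x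
    have hG : Presieve.IsSheaf J G.obj := (isSheaf_iff_isSheaf_of_type J G.obj).1 G.property
    obtain ⟨t, -, -⟩ := hG _ (hP T x) (fun _ _ hf => hf.elim)
      (by intro _ _ _ _ _ _ _ hf; exact hf.elim)
    exact ⟨t⟩
  have hhom : ∀ (G : Sheaf J (Type u)), ∃! φ : P ⟶ G.obj, True := by
    intro G
    refine ⟨{ app := fun T => TypeCat.ofHom fun x => (hex G T.unop x).some
              naturality := ?_ }, trivial, ?_⟩
    · intro T T' f
      ext x
      exact huniq G T'.unop (P.map f x) _ _
    · intro φ _
      ext T x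
      exact huniq G T.unop x _ _
  refine ⟨IsInitial.ofUniqueHom (fun G => (adj.homEquiv P G).symm (hhom G).choose) ?_⟩
  intro G m
  apply (adj.homEquiv P G).injective
  rw [Equiv.apply_symm_apply]
  exact (hhom G).choose_spec.2 _ trivial

lemma isInitial_of_W (hW : J.W (sigmaDesc s)) {i j : ι} (hij : i ≠ j) :
    Nonempty (IsInitial ((presheafToSheaf J (Type u)).obj (PP s i j))) :=
  isInitial_sheafify_of_bot _ (fun _ x => bot_of_W hW hij (pfst i j x) (psnd i j x) (pcond i j x))

/-- the key bijection from the three conditions -/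
lemma key2 (hcov : Sieve.ofArrows Y s ∈ J X)
    (hdiag : ∀ i, J.W (pullback.diagonal (yoneda.map (s i))))
    (hinit : ∀ i j, i ≠ j → Nonempty (IsInitial ((presheafToSheaf J (Type u)).obj (PP s i j))))
    (G : Sheaf J (Type u)) (x : ∀ i, G.obj.obj (op (Y i))) :
    ∃! t : G.obj.obj (op X), ∀ i, G.obj.map (s i).op t = x i := by
  classical
  have hG : Presieve.IsSheaf J G.obj := (isSheaf_iff_isSheaf_of_type J G.obj).1 G.property
  have h1 : (Presieve.ofArrows Y s).IsSheafFor G.obj := by
    rw [Presieve.isSheafFor_iff_generate]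
    exact hG _ hcov
  rw [Presieve.isSheafFor_arrows_iff] at h1
  refine h1 x ?_
  intro i j Z gi gj hcomm
  by_cases hij : i = j
  · subst hij
    have := (hdiag i).isLocallySurjective
    have h2 := Presheaf.imageSieve_mem J (pullback.diagonal (yoneda.map (s i))) (U := op Z)
      (pmk i i gi gj hcomm)
    refine (hG _ h2).isSeparatedFor.ext (fun T' f hf => ?_)
    obtain ⟨t, ht⟩ := hf
    have e1 := congrArg (pfst i i) ht
    have e2 := congrArg (psnd i i) ht
    rw [pfst_diag, pfst_map, pfst_pmk] at e1
    rw [psnd_diag, psnd_map, psnd_pmk] at e2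
    have e3 : f ≫ gi = f ≫ gj := e1.symm.trans e2
    have := congrArg (fun g => G.obj.map g.op (x i)) e3
    simpa using this
  · obtain ⟨hI⟩ := hinit i j hij
    let adj := sheafificationAdjunction J (Type u)
    let φ1 : PP s i j ⟶ G.obj := pullback.fst _ _ ≫ yonedaEquiv.symm (x i)
    let φ2 : PP s i j ⟶ G.obj := pullback.snd _ _ ≫ yonedaEquiv.symm (x j)
    have h12 : φ1 = φ2 := by
      apply (adj.homEquiv _ G).symm.injective
      exact hI.hom_ext _ _
    have := ConcreteCategory.congr_hom (NatTrans.congr_app h12 (op Z)) (pmk i j gi gj hcomm)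
    have e1 : (φ1.app (op Z)) (pmk i j gi gj hcomm) = G.obj.map gi.op (x i) := by
      change (yonedaEquiv.symm (x i)).app (op Z) (pfst i j (pmk i j gi gj hcomm)) = _
      rw [pfst_pmk]
      rfl
    have e2 : (φ2.app (op Z)) (pmk i j gi gj hcomm) = G.obj.map gj.op (x j) := by
      change (yonedaEquiv.symm (x j)).app (op Z) (psnd i j (pmk i j gi gj hcomm)) = _
      rw [psnd_pmk]
      rfl
    rw [← e1, ← e2]
    exact this

end Main

end Groth.Agent.Helper3.DisjCov
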