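import Mathlib

set_option autoImplicit false
set_option linter.style.haveILetI false
set_option linter.unusedSectionVars false
set_option linter.unusedVariables false
set_option linter.style.haveILetI false
set_option linter.unusedSectionVars false
set_option linter.unusedVariables false

open AlgebraicGeometry CategoryTheory CategoryTheory.Limits TopologicalSpace

universe u

namespace Groth.Agent.Helper3.KerLocal

variable {Q P : Scheme.{u}}

/-- an ideal sheaf is contained in the kernel of a morphism iff this holds on the sections of a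
family of opens covering the source and mapping into affine opens of the target -/
theorem le_ker_iff_of_cover (h : Q ⟶ P) (𝓙 : P.IdealSheafData) {ι : Type*}
    (V : ι → P.affineOpens) (O : ι → Q.Opens) (hO : ∀ i, O i ≤ h ⁻¹ᵁ (V i).1)
    (hcov : ⨆ i, O i = ⊤) :
    𝓙 ≤ h.ker ↔ ∀ i, 𝓙.ideal (V i) ≤ RingHom.ker (h.appLE (V i).1 (O i) (hO i)).hom := by
  constructor
  · intro hle i s hs
    have h1 : s ∈ RingHom.ker (h.app (V i).1).hom := h.ideal_ker_le _ (hle _ hs)
    rw [RingHom.mem_ker] at h1 ⊢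
    rw [Scheme.Hom.appLE, CommRingCat.hom_comp, RingHom.comp_apply, h1, map_zero]
  · intro H
    refine Scheme.IdealSheafData.le_ofIdeals_iff.mpr fun W s hs => ?_
    rw [RingHom.mem_ker]
    let κ := {t : ι × P.affineOpens // t.2.1 ≤ W.1 ⊓ (V t.1).1}
    let N : κ → Q.Opens := fun t => O t.1.1 ⊓ h ⁻¹ᵁ t.1.2.1
    have hN : ∀ t : κ, N t ≤ h ⁻¹ᵁ W.1 := fun t q hq => (t.2 hq.2).1
    have hcover : h ⁻¹ᵁ W.1 ≤ iSup N := by
      intro q hq
      have hq' : q ∈ (⨆ i, O i : Q.Opens) := by rw [hcov]; trivial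
      obtain ⟨i, hi⟩ := Opens.mem_iSup.mp hq'
      have hqV : h q ∈ (V i).1 := hO i hi
      obtain ⟨_, ⟨W', hW', rfl⟩, hqW', hW'le⟩ :=
        P.isBasis_affineOpens.exists_subset_of_mem_open
          (show h q ∈ ((W.1 ⊓ (V i).1 : P.Opens) : Set P) from ⟨hq, hqV⟩) (W.1 ⊓ (V i).1).2
      exact Opens.mem_iSup.mpr ⟨⟨(i, ⟨W', hW'⟩), hW'le⟩, ⟨hi, hqW'⟩⟩
    refine Q.sheaf.eq_of_locally_eq' N (h ⁻¹ᵁ W.1) (fun t => homOfLE (hN t)) hcover _ _
      (fun t => ?_)
    obtain ⟨⟨i, W'⟩, ht⟩ := t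
    change Q.sheaf.1.map (homOfLE (hN ⟨(i, W'), ht⟩)).op ((h.app W.1).hom s) =
      (Q.sheaf.1.map (homOfLE (hN ⟨(i, W'), ht⟩)).op).hom 0
    rw [map_zero]
    have hW'W : W' ≤ W := fun x hx => (ht hx).1
    have hW'V : W' ≤ V i := fun x hx => (ht hx).2
    have hNW' : N ⟨(i, W'), ht⟩ ≤ h ⁻¹ᵁ W'.1 := fun q hq => hq.2
    have hNO : N ⟨(i, W'), ht⟩ ≤ O i := fun q hq => hq.1
    -- the restriction is `h.appLE W N s`
    have e1 : Q.sheaf.1.map (homOfLE (hN ⟨(i, W'), ht⟩)).op ((h.app W.1).hom s) =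
        (h.appLE W'.1 (N ⟨(i, W'), ht⟩) hNW').hom
          ((P.presheaf.map (homOfLE hW'W).op).hom s) := by
      have := h.map_appLE hNW' (homOfLE hW'W).op
      rw [← CommRingCat.comp_apply, this]
      rfl
    rw [e1]
    have hs' : (P.presheaf.map (homOfLE hW'W).op).hom s ∈ 𝓙.ideal W' := by
      rw [← 𝓙.map_ideal hW'W]
      exact Ideal.mem_map_of_mem _ hs
    have hle : 𝓙.ideal W' ≤ RingHom.ker (h.appLE W'.1 (N ⟨(i, W'), ht⟩) hNW').hom := by
      rw [← 𝓙.map_ideal hW'V, Ideal.map_le_iff_le_comap, RingHom.comap_ker,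
        ← CommRingCat.hom_comp, h.map_appLE hNW' (homOfLE hW'V).op]
      intro r hr
      have h0 := H i hr
      rw [RingHom.mem_ker] at h0 ⊢
      have := h.appLE_map (hO i) (homOfLE hNO).op
      rw [← this, CommRingCat.hom_comp, RingHom.comp_apply, h0, map_zero]
    exact hle hs'

/-- factorization through a closed immersion in terms of kernels -/
theorem exists_lift_iff_le_ker {E : Scheme.{u}} (e : E ⟶ P) [IsClosedImmersion e] (h : Q ⟶ P) :
    (∃ w : Q ⟶ E, w ≫ e = h) ↔ e.ker ≤ h.ker := by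
  constructor
  · rintro ⟨w, rfl⟩
    exact Scheme.Hom.le_ker_comp w e
  · intro H
    exact ⟨IsClosedImmersion.lift e h H, IsClosedImmersion.lift_fac e h H⟩

/-- factorization through a monomorphism is local on the source -/
theorem exists_lift_of_cover {E : Scheme.{u}} (e : E ⟶ P) [Mono e] (h : Q ⟶ P)
    (𝒰 : Q.OpenCover) (H : ∀ i, ∃ w : 𝒰.X i ⟶ E, w ≫ e = 𝒰.f i ≫ h) :
    ∃ w : Q ⟶ E, w ≫ e = h := by
  choose w hw using H
  refine ⟨𝒰.glueMorphisms w ?_, ?_⟩
  · intro x y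
    rw [← cancel_mono e, Category.assoc, Category.assoc, hw, hw, pullback.condition_assoc]
  · refine Scheme.Cover.hom_ext 𝒰 _ _ fun x => ?_
    rw [Scheme.Cover.ι_glueMorphisms_assoc, hw]

end Groth.Agent.Helper3.KerLocal
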