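import Mathlib
import Groth.Agent.Helper3.CoefIdeal
import Groth.Agent.Helper3.KerLocal

set_option autoImplicit false
set_option linter.style.haveILetI false
set_option linter.unusedSectionVars false
set_option linter.unusedVariables false
set_option linter.style.haveILetI false
set_option linter.unusedSectionVars false
set_option linter.unusedVariables false

open AlgebraicGeometry CategoryTheory CategoryTheory.Limits TopologicalSpace

universe u

namespace Groth.Agent.Helper3.WeilRes1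

open Groth.Agent.Helper3.CoefIdeal

variable {P Y : Scheme.{u}} (π : P ⟶ Y)

/-- sections of `P` over preimages of affine opens are projective modules -/
def ProjSections : Prop :=
  ∀ U : Y.affineOpens, letI := (π.appLE U.1 (π ⁻¹ᵁ U.1) le_rfl).hom.toAlgebra
    Module.Projective Γ(Y, U.1) Γ(P, π ⁻¹ᵁ U.1)

lemma id_appLE (X : Scheme.{u}) (U U' : X.Opens) (e : U' ≤ (𝟙 X) ⁻¹ᵁ U) :
    (𝟙 X : X ⟶ X).appLE U U' e = X.presheaf.map (homOfLE (show U' ≤ U from e)).op := by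
  simp only [Scheme.Hom.appLE, Scheme.Hom.id_app]
  exact Category.id_comp _

/-- the pushout square of sections for an affine morphism and an inclusion of affine opens -/
lemma isPushout_res [IsAffineHom π] (U U' : Y.affineOpens) (hle : U'.1 ≤ U.1) :
    IsPushout (Y.presheaf.map (homOfLE hle).op) (π.appLE U.1 (π ⁻¹ᵁ U.1) le_rfl)
      (π.appLE U'.1 (π ⁻¹ᵁ U'.1) le_rfl)
      (P.presheaf.map (homOfLE (show π ⁻¹ᵁ U'.1 ≤ π ⁻¹ᵁ U.1 from fun _ hx => hle hx)).op) := by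
  have H : IsPullback π (𝟙 P) (𝟙 Y) π := IsPullback.of_vert_isIso ⟨by simp⟩
  have hUST : π ⁻¹ᵁ U.1 ≤ π ⁻¹ᵁ U.1 := le_rfl
  have hUSX : U'.1 ≤ (𝟙 Y) ⁻¹ᵁ U.1 := hle
  have hUY : π ⁻¹ᵁ U'.1 = π ⁻¹ᵁ U'.1 ⊓ (𝟙 P) ⁻¹ᵁ (π ⁻¹ᵁ U.1) := by
    apply le_antisymm
    · exact le_inf le_rfl (fun _ hx => hle hx)
    · exact inf_le_left
  have := isIso_pushoutSection_of_isAffineOpen H hUST hUSX hUY U.2 (U.2.preimage π) U'.2
  have hp := (isIso_pushoutSection_iff H hUST hUSX hUY).mp this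
  rw [id_appLE, id_appLE] at hp
  exact hp

/-- the preimage of an affine open under an affine morphism -/
abbrev preim [IsAffineHom π] (U : Y.affineOpens) : P.affineOpens := ⟨π ⁻¹ᵁ U.1, U.2.preimage π⟩

/-- the coefficient ideal sheaf of an ideal sheaf on `P` -/
noncomputable def weilIdeal [IsAffineHom π] (hπ : ProjSections π) (𝓙 : P.IdealSheafData) :
    Y.IdealSheafData where
  ideal U := letI := (π.appLE U.1 (π ⁻¹ᵁ U.1) le_rfl).hom.toAlgebra
    coef (A := Γ(Y, U.1)) (𝓙.ideal (preim π U))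
  map_ideal_basicOpen U f := by
    have hp := isPushout_res π U (Y.affineBasicOpen f) (Y.basicOpen_le f)
    have := coef_map_of_isPushout _ _ _ _ hp (hπ U) (hπ (Y.affineBasicOpen f))
      (𝓙.ideal (preim π U))
    refine this.symm.trans ?_
    have h2 := 𝓙.map_ideal (U := preim π (Y.affineBasicOpen f)) (V := preim π U)
      (fun _ hx => Y.basicOpen_le f hx)
    exact congrArg (fun I => letI := (π.appLE (Y.affineBasicOpen f).1
      (π ⁻¹ᵁ (Y.affineBasicOpen f).1) le_rfl).hom.toAlgebra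
      coef (A := Γ(Y, (Y.affineBasicOpen f).1)) I) h2

/-- the universal property of the coefficient ideal sheaf -/
theorem weilIdeal_le_ker_iff [IsAffineHom π] (hπ : ProjSections π) (𝓙 : P.IdealSheafData)
    {Q T : Scheme.{u}} (a : Q ⟶ T) (b : Q ⟶ P) (y : T ⟶ Y) (H : IsPullback a b y π) :
    weilIdeal π hπ 𝓙 ≤ y.ker ↔ 𝓙 ≤ b.ker := by
  let κ := {t : Y.affineOpens × T.affineOpens // t.2.1 ≤ y ⁻¹ᵁ t.1.1}
  have hex : ∀ x : T, ∃ t : κ, x ∈ t.1.2.1 := by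
    intro x
    obtain ⟨_, ⟨U, hU, rfl⟩, hxU, -⟩ :=
      Y.isBasis_affineOpens.exists_subset_of_mem_open (Set.mem_univ (y x)) isOpen_univ
    obtain ⟨_, ⟨W, hW, rfl⟩, hxW, hWle⟩ :=
      T.isBasis_affineOpens.exists_subset_of_mem_open
        (show x ∈ ((y ⁻¹ᵁ U : T.Opens) : Set T) from hxU) (y ⁻¹ᵁ U).2
    exact ⟨⟨(⟨U, hU⟩, ⟨W, hW⟩), hWle⟩, hxW⟩
  have hcovT : ⨆ t : κ, t.1.2.1 = ⊤ := by
    rw [eq_top_iff]
    intro x _
    obtain ⟨t, ht⟩ := hex x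
    exact Opens.mem_iSup.mpr ⟨t, ht⟩
  have hcovQ : ⨆ t : κ, a ⁻¹ᵁ t.1.2.1 = ⊤ := by
    rw [eq_top_iff]
    intro q _
    obtain ⟨t, ht⟩ := hex (a q)
    exact Opens.mem_iSup.mpr ⟨t, ht⟩
  have hO : ∀ t : κ, a ⁻¹ᵁ t.1.2.1 ≤ b ⁻¹ᵁ (π ⁻¹ᵁ t.1.1.1) := by
    intro t q hq
    change π (b q) ∈ t.1.1.1
    rw [← Scheme.Hom.comp_apply, ← H.w, Scheme.Hom.comp_apply]
    exact t.2 hq
  rw [KerLocal.le_ker_iff_of_cover y (weilIdeal π hπ 𝓙) (fun t : κ => t.1.1)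
    (fun t => t.1.2.1) (fun t => t.2) hcovT,
    KerLocal.le_ker_iff_of_cover b 𝓙 (fun t : κ => preim π t.1.1) (fun t => a ⁻¹ᵁ t.1.2.1) hO hcovQ]
  refine forall_congr' fun t => ?_
  have hUY : a ⁻¹ᵁ t.1.2.1 = a ⁻¹ᵁ t.1.2.1 ⊓ b ⁻¹ᵁ (π ⁻¹ᵁ t.1.1.1) :=
    le_antisymm (le_inf le_rfl (hO t)) inf_le_left
  have hiso := isIso_pushoutSection_of_isAffineOpen H (US := t.1.1.1) (UT := π ⁻¹ᵁ t.1.1.1)
    (UX := t.1.2.1) le_rfl t.2 hUY t.1.1.2 (t.1.1.2.preimage π) t.1.2.2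
  have hp := (isIso_pushoutSection_iff H le_rfl t.2 hUY).mp hiso
  exact (ker_iff_of_isPushout _ _ _ _ hp (hπ t.1.1) (𝓙.ideal (preim π t.1.1))).symm

/-- the universal property in terms of factorizations -/
theorem exists_lift_iff [IsAffineHom π] (hπ : ProjSections π) {E : Scheme.{u}} (e : E ⟶ P)
    [IsClosedImmersion e] {Q T : Scheme.{u}} (a : Q ⟶ T) (b : Q ⟶ P) (y : T ⟶ Y)
    (H : IsPullback a b y π) :
    (∃ z : T ⟶ (weilIdeal π hπ e.ker).subscheme,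
        z ≫ (weilIdeal π hπ e.ker).subschemeι = y) ↔ ∃ w : Q ⟶ E, w ≫ e = b := by
  rw [KerLocal.exists_lift_iff_le_ker, KerLocal.exists_lift_iff_le_ker,
    Scheme.IdealSheafData.ker_subschemeι]
  exact weilIdeal_le_ker_iff π hπ e.ker a b y H

end Groth.Agent.Helper3.WeilRes1
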