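import Mathlib
import Groth.Agent.Helper3.WeilRes1
import Groth.Agent.Helper3.GrpImg1
import Groth.Agent.Helper5.GrpClosed1

set_option autoImplicit false
set_option linter.style.haveILetI false
set_option linter.unusedSectionVars false
set_option linter.unusedVariables false
set_option linter.style.haveILetI false
set_option linter.unusedSectionVars false
set_option linter.unusedVariables false

open AlgebraicGeometry CategoryTheory CategoryTheory.Limits TopologicalSpace
open MonoidalCategory CartesianMonoidalCategory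

universe u

namespace Groth.Agent.Helper3.WeilRes3

open Groth.Agent.Helper3.CoefIdeal Groth.Agent.Helper3.WeilRes1

/-- finite flat morphisms locally of finite presentation have projective sections -/
theorem projSections_of_finite_flat {P Y : Scheme.{u}} (π : P ⟶ Y) [IsFinite π] [Flat π]
    [LocallyOfFinitePresentation π] : ProjSections π := by
  intro U
  letI : Algebra Γ(Y, U.1) Γ(P, π ⁻¹ᵁ U.1) := (π.appLE U.1 (π ⁻¹ᵁ U.1) le_rfl).hom.toAlgebra
  haveI : Module.Finite Γ(Y, U.1) Γ(P, π ⁻¹ᵁ U.1) := by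
    have h := π.finite_app U.1 U.2
    rw [π.app_eq_appLE] at h
    exact h
  haveI : Module.Flat Γ(Y, U.1) Γ(P, π ⁻¹ᵁ U.1) := π.flat_appLE U.2 (U.2.preimage π) le_rfl
  haveI : Algebra.FinitePresentation Γ(Y, U.1) Γ(P, π ⁻¹ᵁ U.1) :=
    π.finitePresentation_appLE U.2 (U.2.preimage π) le_rfl
  haveI : Module.FinitePresentation Γ(Y, U.1) Γ(P, π ⁻¹ᵁ U.1) :=
    Module.FinitePresentation.of_finite_of_finitePresentation _ _
  exact Module.Flat.projective_of_finitePresentation

/-- Weil restriction of a closed subscheme of `Y × X` along the first projection, for `X` finite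
locally free over an arbitrary base -/
theorem exists_weilRes {S : Scheme.{u}} (Y X E : Over S) [IsFinite X.hom] [Flat X.hom]
    [LocallyOfFinitePresentation X.hom] (e : E ⟶ Y ⊗ X) [IsClosedImmersion e.left] :
    ∃ (Z : Over S) (incl : Z ⟶ Y), IsClosedImmersion incl.left ∧
      ∀ (T : Over S) (g : T ⟶ Y),
        (∃ z : T ⟶ Z, z ≫ incl = g) ↔ ∃ w : T ⊗ X ⟶ E, w ≫ e = g ▷ X := by
  have hpb : IsPullback (fst Y X).left (snd Y X).left Y.hom X.hom :=
    IsPullback.of_hasPullback _ _
  haveI : IsFinite (fst Y X).left :=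
    MorphismProperty.of_isPullback (P := @IsFinite) hpb.flip ‹_›
  haveI : Flat (fst Y X).left :=
    MorphismProperty.of_isPullback (P := @Flat) hpb.flip ‹_›
  haveI : LocallyOfFinitePresentation (fst Y X).left :=
    MorphismProperty.of_isPullback (P := @LocallyOfFinitePresentation) hpb.flip ‹_›
  let 𝓘 : Y.left.IdealSheafData :=
    weilIdeal (fst Y X).left (projSections_of_finite_flat _) e.left.ker
  refine ⟨Over.mk (𝓘.subschemeι ≫ Y.hom), Over.homMk 𝓘.subschemeι rfl,
    inferInstanceAs (IsClosedImmersion 𝓘.subschemeι), ?_⟩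
  intro T g
  have s1 : (∃ z : T ⟶ Over.mk (𝓘.subschemeι ≫ Y.hom), z ≫ Over.homMk 𝓘.subschemeι rfl = g) ↔
      𝓘 ≤ g.left.ker := by
    have h1 := KerLocal.exists_lift_iff_le_ker 𝓘.subschemeι g.left
    rw [𝓘.ker_subschemeι] at h1
    rw [← h1]
    constructor
    · rintro ⟨z, rfl⟩
      exact ⟨z.left, rfl⟩
    · rintro ⟨z', hz'⟩
      refine ⟨Over.homMk z' ?_, ?_⟩
      · change z' ≫ 𝓘.subschemeι ≫ Y.hom = T.hom
        rw [← Category.assoc, hz', Over.w]
      · apply Over.OverMorphism.ext
        exact hz'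
  rw [s1, weilIdeal_le_ker_iff (fst Y X).left (projSections_of_finite_flat _) e.left.ker
      (fst T X).left (g ▷ X).left g.left
      (Groth.Agent.Helper5.GrpDense.isPullback_whiskerRight g X).flip,
    ← KerLocal.exists_lift_iff_le_ker]
  constructor
  · rintro ⟨w, hw⟩
    refine ⟨Over.homMk w ?_, ?_⟩
    · rw [← Over.w e, ← Category.assoc, hw, Over.w]
    · apply Over.OverMorphism.ext
      exact hw
  · rintro ⟨w, hw⟩
    exact ⟨w.left, by rw [← Over.comp_left, hw]⟩

/-- the locus of points `g` of `Y` over which two morphisms `Y × X ⟶ W` agree is a closed subscheme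
of `Y`, if `X` is finite locally free and the equalizer is closed -/
theorem exists_closed_of_equalizer {S : Scheme.{u}} (Y X W : Over S) [IsFinite X.hom] [Flat X.hom]
    [LocallyOfFinitePresentation X.hom] (φ₁ φ₂ : Y ⊗ X ⟶ W)
    (hcl : IsClosedImmersion (equalizer.ι φ₁ φ₂).left) :
    ∃ (Z : Over S) (incl : Z ⟶ Y), IsClosedImmersion incl.left ∧
      ∀ (T : Over S) (g : T ⟶ Y),
        (∃ z : T ⟶ Z, z ≫ incl = g) ↔ (g ▷ X) ≫ φ₁ = (g ▷ X) ≫ φ₂ := by
  haveI := hcl
  obtain ⟨Z, incl, hincl, hZ⟩ := exists_weilRes Y X (equalizer φ₁ φ₂) (equalizer.ι φ₁ φ₂)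
  refine ⟨Z, incl, hincl, fun T g => (hZ T g).trans ?_⟩
  constructor
  · rintro ⟨w, hw⟩
    rw [← hw, Category.assoc, Category.assoc, equalizer.condition]
  · intro h
    exact ⟨equalizer.lift _ h, equalizer.lift_ι _ h⟩

end Groth.Agent.Helper3.WeilRes3
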