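import Mathlib
import Groth.Agent.Helper3.WeilRes3

set_option autoImplicit false
set_option linter.style.haveILetI false
set_option linter.unusedSectionVars false
set_option linter.unusedVariables false
set_option linter.style.haveILetI false
set_option linter.unusedSectionVars false
set_option linter.unusedVariables false

open AlgebraicGeometry CategoryTheory CategoryTheory.Limits TopologicalSpace

universe u

namespace Groth.Agent.Helper3.DivLe

open Groth.Agent.Helper3.WeilRes1 Groth.Agent.Helper3.WeilRes3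

/-- comparing two pulled back ideal sheaves, in terms of the closed subscheme of the second -/
theorem comap_le_comap_iff {X X' : Scheme.{u}} (p : X' ⟶ X) (𝓘 𝓘' : X.IdealSheafData) :
    𝓘.comap p ≤ 𝓘'.comap p ↔
      𝓘.comap 𝓘'.subschemeι ≤ (pullback.snd p 𝓘'.subschemeι).ker := by
  rw [← Scheme.IdealSheafData.le_map_iff_comap_le, ← Scheme.IdealSheafData.le_map_iff_comap_le,
    Scheme.IdealSheafData.map_ker, ← pullback.condition, Scheme.IdealSheafData.map,
    ← Scheme.IdealSheafData.comapIso_hom_fst, Category.assoc, Scheme.Hom.ker_comp_of_isIso]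

/-- the closed subscheme of the base over which `D' ≤ D`, for `D'` finite locally free -/
theorem main {X S : Scheme.{u}} (f : X ⟶ S) (𝓘 𝓘' : X.IdealSheafData)
    [IsFinite (𝓘'.subschemeι ≫ f)] [Flat (𝓘'.subschemeι ≫ f)]
    [LocallyOfFinitePresentation (𝓘'.subschemeι ≫ f)] :
    ∃ 𝓩 : S.IdealSheafData, ∀ (T : Scheme.{u}) (g : T ⟶ S),
      (∃ t : T ⟶ 𝓩.subscheme, t ≫ 𝓩.subschemeι = g) ↔
        𝓘.comap (pullback.fst f g) ≤ 𝓘'.comap (pullback.fst f g) := by
  have hπ := projSections_of_finite_flat (𝓘'.subschemeι ≫ f)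
  refine ⟨weilIdeal (𝓘'.subschemeι ≫ f) hπ (𝓘.comap 𝓘'.subschemeι), fun T g => ?_⟩
  rw [KerLocal.exists_lift_iff_le_ker, Scheme.IdealSheafData.ker_subschemeι, comap_le_comap_iff]
  have H : IsPullback (pullback.fst (pullback.fst f g) 𝓘'.subschemeι ≫ pullback.snd f g)
      (pullback.snd (pullback.fst f g) 𝓘'.subschemeι) g (𝓘'.subschemeι ≫ f) :=
    ((IsPullback.of_hasPullback (pullback.fst f g) 𝓘'.subschemeι).flip.paste_vert
      (IsPullback.of_hasPullback f g)).flip
  exact weilIdeal_le_ker_iff _ hπ _ _ _ _ H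

end Groth.Agent.Helper3.DivLe
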