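import Mathlib
import Groth.Prelude
import Groth.Agent.Helper3.DivTrC

set_option autoImplicit false
set_option linter.style.haveILetI false
set_option linter.unusedSectionVars false
set_option linter.unusedVariables false
set_option linter.deprecated false
set_option linter.style.haveILetI false
set_option linter.unusedSectionVars false
set_option linter.unusedVariables false

namespace Groth.Agent.Helper3.DivTrD

universe u

open AlgebraicGeometry CategoryTheory TopologicalSpace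

theorem main (X : Scheme.{u}) (δ : X → ℤ) (hX : Cyc.IsSetup X δ) (U : X.Opens) (k : ℤ)
    (α β : AlgebraicCycle X ℤ) (hα : α ∈ Cyc.Zk X δ k) (hβ : β ∈ Cyc.Zk X δ k)
    (αU βU : AlgebraicCycle (↑U : Scheme.{u}) ℤ) (hαU : ∀ u : ↥U, αU u = α (U.ι u))
    (hβU : ∀ u : ↥U, βU u = β (U.ι u))
    (h : Cyc.RatEquiv (fun u : ↥U => δ (U.ι u)) k αU βU) :
    ∃ γ : AlgebraicCycle X ℤ, γ ∈ Cyc.Zk X δ k ∧ (∀ x : X, x ∈ U → γ x = 0) ∧
      Cyc.RatEquiv δ k α (β + γ) := by
  classical
  obtain ⟨hN, -, hδ⟩ := hX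
  haveI := hN
  obtain ⟨I, ξ, g, hξδ, hg, hlf, hsum⟩ := h
  let j : (U : Scheme.{u}) ⟶ X := U.ι
  let ξ' : I → X := fun i => j (ξ i)
  let g' : ∀ i, X.residueField (ξ' i) := fun i => (DivTrB.ψ j (ξ i)).symm (g i)
  have hg'map : ∀ i, j.residueFieldMap (ξ i) (g' i) = g i :=
    fun i => (DivTrB.ψ j (ξ i)).apply_symm_apply (g i)
  have hg' : ∀ i, g' i ≠ 0 := by
    intro i h0
    apply hg i
    rw [← hg'map i, h0, map_zero]
  let D : X → ℤ := fun x => ∑ᶠ i, Cyc.divFun δ (ξ' i) (g' i) x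
  -- (A)
  have hA : ∀ u : ↥U, D (j u) = α (j u) - β (j u) := by
    intro u
    have h1 : ∀ i, Cyc.divFun δ (ξ' i) (g' i) (j u) =
        Cyc.divFun (fun u : ↥U => δ (U.ι u)) (ξ i) (g i) u := by
      intro i
      rw [← hg'map i]
      exact DivTrB.divFun_map j δ u (ξ i) (g' i)
    have h2 := hsum u
    show (∑ᶠ i, Cyc.divFun δ (ξ' i) (g' i) (j u)) = _
    rw [finsum_congr h1, ← h2, ← hαU u, ← hβU u]
    rfl
  -- term nonzero implies the condition
  have hcond : ∀ i x, Cyc.divFun δ (ξ' i) (g' i) x ≠ 0 → ξ' i ⤳ x ∧ δ x + 1 = δ (ξ' i) := by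
    intro i x hne
    by_contra hc
    apply hne
    unfold Cyc.divFun
    rw [dif_neg hc]
  have hDne : ∀ x, D x ≠ 0 → ∃ i, ξ' i ⤳ x ∧ δ x + 1 = δ (ξ' i) := by
    intro x hx
    by_contra hc
    push Not at hc
    apply hx
    apply finsum_eq_zero_of_forall_eq_zero
    intro i
    by_contra hne
    exact hc i (hcond i x hne).1 (hcond i x hne).2
  -- local data
  have hloc : ∀ x : X, ∃ V : X.Opens, x ∈ V ∧
      {i | (closure {ξ' i} ∩ (V : Set X)).Nonempty}.Finite ∧
      {y : X | y ∈ V ∧ y ∉ U ∧ D y ≠ 0}.Finite := by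
    intro x
    obtain ⟨V, hxV, hVn, hT, hfinV⟩ := DivTrC.locallyFinite_of_open U ξ hlf x
    refine ⟨V, hxV, hfinV, ?_⟩
    have hbad : (⋃ i ∈ {i | (ξ' i ∈ V)},
        {y : X | y ∈ V ∧ y ∉ U ∧ ξ' i ⤳ y ∧ δ y + 1 = δ (ξ' i)}).Finite :=
      hT.biUnion (fun i _ => DivTrC.finite_boundary δ hδ U V hVn (ξ' i) (ξ i).2)
    refine hbad.subset ?_
    rintro y ⟨hyV, hyU, hDy⟩
    obtain ⟨i, hsp, hδi⟩ := hDne y hDy
    refine Set.mem_iUnion₂.2 ⟨i, ?_, hyV, hyU, hsp, hδi⟩
    exact hsp.mem_open V.isOpen hyV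
  -- the cycle γ
  let γ : AlgebraicCycle X ℤ :=
    { toFun := fun x => if x ∈ U then 0 else α x - β x - D x
      supportWithinDomain' := Set.subset_univ _
      supportLocallyFiniteWithinDomain' := by
        intro z _
        obtain ⟨V, hzV, -, hfinD⟩ := hloc z
        obtain ⟨tα, htα, hfα⟩ := α.supportLocallyFiniteWithinDomain z trivial
        obtain ⟨tβ, htβ, hfβ⟩ := β.supportLocallyFiniteWithinDomain z trivial
        refine ⟨(V : Set X) ∩ tα ∩ tβ,
          Filter.inter_mem (Filter.inter_mem (V.isOpen.mem_nhds hzV) htα) htβ, ?_⟩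
        refine ((hfα.union hfβ).union hfinD).subset ?_
        rintro y ⟨⟨⟨hyV, hyα⟩, hyβ⟩, hy⟩
        rw [Function.mem_support] at hy
        by_cases hyU : y ∈ U
        · exact absurd (if_pos hyU) hy
        · rw [if_neg hyU] at hy
          by_cases h1 : α y = 0
          · by_cases h2 : β y = 0
            · right
              refine ⟨hyV, hyU, ?_⟩
              intro h3
              apply hy
              rw [h1, h2, h3]; rfl
            · left; right; exact ⟨hyβ, h2⟩
          · left; left; exact ⟨hyα, h1⟩ }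
  have hγ : ∀ x, γ x = if x ∈ U then 0 else α x - β x - D x := fun x => rfl
  refine ⟨γ, ?_, ?_, ?_⟩
  · intro x hx
    rw [hγ]
    split_ifs with hxU
    · rfl
    · have hDx : D x = 0 := by
        by_contra hne
        obtain ⟨i, -, hi⟩ := hDne x hne
        have : δ (ξ' i) = k + 1 := hξδ i
        apply hx; omega
      rw [hα x hx, hβ x hx, hDx]; rfl
  · intro x hxU
    rw [hγ, if_pos hxU]
  · refine ⟨I, ξ', g', hξδ, hg', ?_, ?_⟩
    · intro x
      obtain ⟨V, hxV, hfinV, -⟩ := hloc x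
      exact ⟨V, V.isOpen, hxV, hfinV⟩
    · intro x
      show (α - (β + γ)) x = D x
      rw [Function.locallyFinsuppWithin.coe_sub, Function.locallyFinsuppWithin.coe_add]
      simp only [Pi.sub_apply, Pi.add_apply]
      rw [hγ]
      by_cases hxU : x ∈ U
      · rw [if_pos hxU]
        have := hA ⟨x, hxU⟩
        have hjx : j ⟨x, hxU⟩ = x := rfl
        rw [hjx] at this
        rw [this]; ring
      · rw [if_neg hxU]; ring

end Groth.Agent.Helper3.DivTrD
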