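import Mathlib
import Groth.Prelude
import Groth.Agent.Helper5.VarDim
import Groth.Agent.Helper5.MaxPt1
import Groth.Agent.Helper5.FibDim7

set_option autoImplicit false
set_option linter.style.haveILetI false
set_option linter.unusedSectionVars false
set_option linter.unusedVariables false
set_option linter.style.haveILetI false
set_option linter.unusedSectionVars false
set_option linter.unusedVariables false

open AlgebraicGeometry CategoryTheory CategoryTheory.Limits TopologicalSpace

universe u

namespace Groth.Agent.Helper3.FibIrr1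

/-- the local dimension of an irreducible scheme locally of finite type over a field is its
dimension -/
theorem localDim_eq_dim (K : Type u) [Field K] {F : Scheme.{u}}
    (q : F ⟶ Spec (CommRingCat.of K)) [LocallyOfFiniteType q] [IrreducibleSpace F] (w : F) :
    FlatMor.localDim F w = topologicalKrullDim F := by
  unfold FlatMor.localDim
  have h : ∀ U : {U : TopologicalSpace.Opens F // w ∈ U},
      topologicalKrullDim (U.1 : Set F) = topologicalKrullDim F :=
    fun U => Groth.Agent.Helper5.VarDim.dim_open_eq K q U.1 ⟨w, U.2⟩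
  simp_rw [h]
  haveI : Nonempty {U : TopologicalSpace.Opens F // w ∈ U} := ⟨⟨⊤, trivial⟩⟩
  exact ciInf_const

/-- the local fibre dimension at a point of an irreducible fibre is the dimension of the fibre -/
theorem fibreDimAt_eq_of_irreducible {X Y : Scheme.{u}} (f : X ⟶ Y) [LocallyOfFiniteType f]
    (x : X) (hirr : IsIrreducible (f ⁻¹' {f x})) :
    FlatMor.fibreDimAt f x = topologicalKrullDim ↥(f ⁻¹' {f x}) := by
  unfold FlatMor.fibreDimAt
  haveI : IrreducibleSpace ↥(f ⁻¹' {f x}) := Subtype.irreducibleSpace hirr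
  haveI : IrreducibleSpace ↥(f.fiber (f x)) := by
    rw [irreducibleSpace_def]
    have h1 : IsIrreducible ((f.fiberHomeo (f x)).symm '' (Set.univ : Set ↥(f ⁻¹' {f x}))) :=
      (IrreducibleSpace.isIrreducible_univ _).image _ (f.fiberHomeo (f x)).symm.continuous.continuousOn
    rwa [Set.image_univ, (f.fiberHomeo (f x)).symm.surjective.range_eq] at h1
  haveI hft : LocallyOfFiniteType (f.fiberToSpecResidueField (f x)) :=
    inferInstanceAs (LocallyOfFiniteType (Limits.pullback.snd f (Y.fromSpecResidueField (f x))))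
  rw [localDim_eq_dim (Y.residueField (f x)) (f.fiberToSpecResidueField (f x)) (f.asFiber x)]
  exact (f.fiberHomeo (f x)).isHomeomorph.topologicalKrullDim_eq

/-- if all fibres over closed points are irreducible of dimension `d`, then the local fibre
dimension is `d` everywhere -/
theorem fibreDimAt_eq_const {X Y : Scheme.{u}} (f : X ⟶ Y) [LocallyOfFiniteType f]
    [JacobsonSpace X] [JacobsonSpace Y] (d : ℕ)
    (hirr : ∀ y : Y, IsClosed ({y} : Set Y) → IsIrreducible (f ⁻¹' {y}))
    (hdim : ∀ y : Y, IsClosed ({y} : Set Y) → topologicalKrullDim ↥(f ⁻¹' {y}) = d) (x : X) :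
    FlatMor.fibreDimAt f x = d := by
  have hclosed : ∀ x₀ : X, IsClosed ({x₀} : Set X) → FlatMor.fibreDimAt f x₀ = d := by
    intro x₀ hx₀
    have hy : IsClosed ({f x₀} : Set Y) := f.closePoints_subset_preimage_closedPoints hx₀
    rw [fibreDimAt_eq_of_irreducible f x₀ (hirr _ hy), hdim _ hy]
  apply le_antisymm
  · obtain ⟨x₀, hx₀, hx₀c⟩ := nonempty_inter_closedPoints (Z := closure ({x} : Set X))
      ⟨x, subset_closure rfl⟩ isClosed_closure.isLocallyClosed
    have hsp : x ⤳ x₀ := specializes_iff_mem_closure.mpr hx₀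
    rw [← hclosed x₀ hx₀c]
    exact Groth.Agent.Helper5.MaxPt.fibreDimAt_le_of_specializes f x x₀ hsp
  · by_contra hlt
    rw [not_le] at hlt
    have hopen := Groth.Agent.Helper5.FibDim.isOpen_fibreDimAt_le f (FlatMor.fibreDimAt f x)
    obtain ⟨x₀, hx₀, hx₀c⟩ := nonempty_inter_closedPoints
      (Z := {x' : X | FlatMor.fibreDimAt f x' ≤ FlatMor.fibreDimAt f x})
      ⟨x, le_refl (FlatMor.fibreDimAt f x)⟩ hopen.isLocallyClosed
    have h1 : FlatMor.fibreDimAt f x₀ ≤ FlatMor.fibreDimAt f x := hx₀
    rw [hclosed x₀ hx₀c] at h1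
    exact absurd (lt_of_le_of_lt h1 hlt) (lt_irrefl _)

end Groth.Agent.Helper3.FibIrr1
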