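import Mathlib
import Groth.Prelude
import Groth.Agent.Helper3.FibIrr1
import Groth.Agent.Helper5.EqAt7
import Groth.Agent.Helper5.ConnDim
import Groth.Agent.Helper5.GenDim2
import Groth.Agent.Helper5.ResTr
import Groth.Agent.Helper2.TopDim

set_option autoImplicit false
set_option linter.style.haveILetI false
set_option linter.unusedSectionVars false
set_option linter.unusedVariables false
set_option linter.style.haveILetI false
set_option linter.unusedSectionVars false
set_option linter.unusedVariables false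

open AlgebraicGeometry CategoryTheory CategoryTheory.Limits TopologicalSpace

universe u

namespace Groth.Agent.Helper3.FibIrr2

open Groth.Agent.Helper3.FibIrr1

/-- at a maximal point, the local fibre dimension is the residue transcendence degree -/
theorem resTrdeg_eq_of_maximal {X Y : Scheme.{u}} (f : X ⟶ Y) [LocallyOfFiniteType f] (η : X)
    (hmax : ∀ w : X, w ⤳ η → w = η) (d : ℕ) (hd : FlatMor.fibreDimAt f η = d) :
    Dual3.resTrdeg f η = (d : Cardinal.{u}) := by
  obtain ⟨n, hn1, hn2⟩ := Groth.Agent.Helper5.MaxPt.fibreDimAt_of_maximal f η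
    (Groth.Agent.Helper5.MaxPt.coheight_asFiber_eq_zero f η (fun w _ hw => hmax w hw))
  rw [hd] at hn2
  have : d = n := by exact_mod_cast hn2
  subst this
  exact hn1

/-- lower bound for the local dimension of the trace of an irreducible closed subset on a fibre -/
theorem le_localDim_inter_fibre {X Y : Scheme.{u}} (f : X ⟶ Y) [LocallyOfFiniteType f] (η : X)
    (d : ℕ) (hd : Dual3.resTrdeg f η = (d : Cardinal.{u})) (x : X)
    (hx : x ∈ closure ({η} : Set X)) :
    (d : WithBot ℕ∞) ≤ FlatMor.localDim ↥(closure ({η} : Set X) ∩ f.base ⁻¹' {f.base x})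
      ⟨x, ⟨hx, Set.mem_singleton (f.base x)⟩⟩ := by
  let X'c : TopologicalSpace.Closeds X := ⟨closure ({η} : Set X), isClosed_closure⟩
  obtain ⟨w, hw, hloc⟩ := Groth.Agent.Helper5.EqAt.localDim_closed_inter_fibre_eq f X'c x hx
  obtain ⟨n0, hn0, hle⟩ := Groth.Agent.Helper5.EqAt.trdeg_generic_le_fibreDimAt_sub f X'c η rfl w
  have hn : n0 = d := by
    have h1 : (n0 : Cardinal.{u}) = (d : Cardinal.{u}) := hn0.symm.trans hd
    exact_mod_cast h1
  subst hn
  exact hle.trans hloc.ge

/-- an irreducible component meeting an irreducible closed fibre of the generic dimension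
contains it -/
theorem fibre_subset_of_nonempty_inter {X Y : Scheme.{u}} (f : X ⟶ Y) [LocallyOfFiniteType f]
    (η : X) (d : ℕ) (hd : Dual3.resTrdeg f η = (d : Cardinal.{u})) (y : Y)
    (hy : IsClosed ({y} : Set Y)) (hirr : IsIrreducible (f.base ⁻¹' {y}))
    (hdim : topologicalKrullDim ↥(f.base ⁻¹' {y}) = d)
    (hne : (f.base ⁻¹' {y} ∩ closure ({η} : Set X)).Nonempty) :
    f.base ⁻¹' {y} ⊆ closure ({η} : Set X) := by
  obtain ⟨x, hxy, hxZ⟩ := hne
  have hfx : f.base x = y := hxy
  subst hfx
  have h1 := le_localDim_inter_fibre f η d hd x hxZ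
  have h2 := Groth.Agent.Helper2.TopDim.localDim_le_dim
    (X := ↥(closure ({η} : Set X) ∩ f.base ⁻¹' {f.base x}))
    ⟨x, ⟨hxZ, Set.mem_singleton (f.base x)⟩⟩
  have h3 : (d : WithBot ℕ∞) ≤
      topologicalKrullDim ↥(closure ({η} : Set X) ∩ f.base ⁻¹' {f.base x}) := h1.trans h2
  have hcl : IsClosed (closure ({η} : Set X) ∩ f.base ⁻¹' {f.base x}) :=
    isClosed_closure.inter (hy.preimage f.base.hom.continuous)
  by_contra hns
  have hne' : closure ({η} : Set X) ∩ f.base ⁻¹' {f.base x} ≠ f.base ⁻¹' {f.base x} := by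
    intro heq
    apply hns
    rw [← heq]
    exact Set.inter_subset_left
  have hfin : topologicalKrullDim ↥(f.base ⁻¹' {f.base x}) < ⊤ := by
    rw [hdim]
    have h0 : ((d : ℕ∞) : WithBot ℕ∞) < ((⊤ : ℕ∞) : WithBot ℕ∞) :=
      WithBot.coe_lt_coe.mpr (ENat.coe_lt_top d)
    exact h0
  have h4 := Groth.Agent.Helper5.ConnDim.dim_lt_of_ne hirr Set.inter_subset_right hcl hne' hfin
  rw [hdim] at h4
  exact absurd (lt_of_le_of_lt h3 h4) (lt_irrefl _)

end Groth.Agent.Helper3.FibIrr2
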