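import Mathlib

set_option autoImplicit false
set_option linter.style.haveILetI false
set_option linter.unusedSectionVars false
set_option linter.unusedVariables false
set_option linter.style.haveILetI false
set_option linter.unusedSectionVars false
set_option linter.unusedVariables false

open TopologicalSpace Topology Set Set.Notation

universe u

namespace Groth.Agent.Helper3.TopConstr

variable {X : Type*} [TopologicalSpace X]

/-- a constructible set or its complement contains a nonempty relatively open subset of any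
irreducible set -/
theorem dichotomy {E : Set X} (hE : IsConstructible E) {Y : Set X} (hY : IsIrreducible Y) :
    (∃ W, IsOpen W ∧ (W ∩ Y).Nonempty ∧ W ∩ Y ⊆ E) ∨
      (∃ W, IsOpen W ∧ (W ∩ Y).Nonempty ∧ W ∩ Y ⊆ Eᶜ) := by
  induction hE using IsConstructible.empty_union_induction with
  | open_retrocompact U hUo hUc =>
    by_cases h : (U ∩ Y).Nonempty
    · exact Or.inl ⟨U, hUo, h, inter_subset_left⟩
    · refine Or.inr ⟨univ, isOpen_univ, by simpa using hY.nonempty, ?_⟩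
      rintro x ⟨-, hxY⟩ hxU
      exact h ⟨x, hxU, hxY⟩
  | union s hs t ht ihs iht =>
    rcases ihs with ⟨W, hWo, hWne, hWs⟩ | ⟨W₁, hW₁o, hW₁ne, hW₁s⟩
    · exact Or.inl ⟨W, hWo, hWne, hWs.trans subset_union_left⟩
    rcases iht with ⟨W, hWo, hWne, hWt⟩ | ⟨W₂, hW₂o, hW₂ne, hW₂t⟩
    · exact Or.inl ⟨W, hWo, hWne, hWt.trans subset_union_right⟩
    refine Or.inr ⟨W₁ ∩ W₂, hW₁o.inter hW₂o, ?_, ?_⟩
    · have := hY.isPreirreducible W₁ W₂ hW₁o hW₂o (by rwa [inter_comm] at hW₁ne)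
        (by rwa [inter_comm] at hW₂ne)
      rwa [inter_comm] at this
    · rintro x ⟨⟨hx1, hx2⟩, hxY⟩
      rw [compl_union]
      exact ⟨hW₁s ⟨hx1, hxY⟩, hW₂t ⟨hx2, hxY⟩⟩
  | compl s hs ih =>
    rcases ih with h | h
    · right; rwa [compl_compl]
    · left; exact h

/-- in a Noetherian space a nonempty constructible set contains a nonempty open subset of its
closure -/
theorem exists_open_of_noetherian [NoetherianSpace X] {E : Set X} (hE : IsConstructible E)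
    (hne : E.Nonempty) : ∃ W, IsOpen W ∧ (E ∩ W).Nonempty ∧ closure E ∩ W ⊆ E := by
  classical
  obtain ⟨S, hSf, hScl, hSirr, hS⟩ :=
    NoetherianSpace.exists_finite_set_isClosed_irreducible (isClosed_closure (s := E))
  have hSne : S.Nonempty := by
    by_contra h
    rw [not_nonempty_iff_eq_empty] at h
    rw [h, sUnion_empty] at hS
    obtain ⟨x, hx⟩ := hne
    have : x ∈ closure E := subset_closure hx
    rw [hS] at this
    exact this
  obtain ⟨t₁, ht₁S, ht₁max⟩ := hSf.exists_maximal hSne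
  let D : Set X := ⋃₀ (S \ {t₁})
  have hDcl : IsClosed D := by
    change IsClosed (⋃₀ (S \ {t₁}))
    rw [sUnion_eq_biUnion]
    exact (hSf.subset diff_subset).isClosed_biUnion fun t ht => hScl t ht.1
  have hne0 : (t₁ ∩ Dᶜ).Nonempty := by
    by_contra h
    rw [not_nonempty_iff_eq_empty, ← disjoint_iff_inter_eq_empty, disjoint_compl_right_iff_subset]
      at h
    have hfin : (S \ {t₁}).Finite := hSf.subset diff_subset
    obtain ⟨z, hz, htz⟩ := isIrreducible_iff_sUnion_isClosed.mp (hSirr t₁ ht₁S) hfin.toFinset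
      (fun z hz => hScl z (hfin.mem_toFinset.mp hz).1) (by rwa [hfin.coe_toFinset])
    rw [hfin.mem_toFinset] at hz
    have := ht₁max hz.1 htz
    exact hz.2 (subset_antisymm this htz)
  have hcl : ∀ W : Set X, closure E ∩ (W ∩ Dᶜ) = t₁ ∩ W ∩ Dᶜ := by
    intro W
    ext x
    constructor
    · rintro ⟨hx, hxW, hxD⟩
      rw [hS] at hx
      obtain ⟨t, htS, hxt⟩ := hx
      by_cases htt : t = t₁
      · subst htt; exact ⟨⟨hxt, hxW⟩, hxD⟩
      · exact absurd ⟨t, ⟨htS, htt⟩, hxt⟩ hxD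
    · rintro ⟨⟨hx1, hxW⟩, hxD⟩
      refine ⟨?_, hxW, hxD⟩
      rw [hS]; exact ⟨t₁, ht₁S, hx1⟩
  rcases dichotomy hE (hSirr t₁ ht₁S) with ⟨W₁, hW₁o, hW₁ne, hW₁s⟩ | ⟨W₁, hW₁o, hW₁ne, hW₁s⟩
  · have hmeet : (t₁ ∩ (W₁ ∩ Dᶜ)).Nonempty :=
      (hSirr t₁ ht₁S).isPreirreducible W₁ Dᶜ hW₁o hDcl.isOpen_compl
        (by rwa [inter_comm] at hW₁ne) hne0
    refine ⟨W₁ ∩ Dᶜ, hW₁o.inter hDcl.isOpen_compl, ?_, ?_⟩
    · obtain ⟨x, hx1, hxW, hxD⟩ := hmeet
      exact ⟨x, hW₁s ⟨hxW, hx1⟩, hxW, hxD⟩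
    · rw [hcl]
      rintro x ⟨⟨hx1, hxW⟩, -⟩
      exact hW₁s ⟨hxW, hx1⟩
  · exfalso
    have hmeet : (t₁ ∩ (W₁ ∩ Dᶜ)).Nonempty :=
      (hSirr t₁ ht₁S).isPreirreducible W₁ Dᶜ hW₁o hDcl.isOpen_compl
        (by rwa [inter_comm] at hW₁ne) hne0
    obtain ⟨x, hx1, hxW, hxD⟩ := hmeet
    have hxcl : x ∈ closure E := by rw [hS]; exact ⟨t₁, ht₁S, hx1⟩
    obtain ⟨e, ⟨heW, heD⟩, heE⟩ := mem_closure_iff.mp hxcl (W₁ ∩ Dᶜ)
      (hW₁o.inter hDcl.isOpen_compl) ⟨hxW, hxD⟩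
    have he : e ∈ closure E ∩ (W₁ ∩ Dᶜ) := ⟨subset_closure heE, heW, heD⟩
    rw [hcl] at he
    exact hW₁s ⟨he.1.2, he.1.1⟩ heE

/-- transfer to an open Noetherian subspace -/
theorem exists_open_of_open_noetherian (V : Set X) (hV : IsOpen V) [NoetherianSpace V]
    (R : Set X) (hR : IsConstructible (V ↓∩ R)) (hne : (R ∩ V).Nonempty) :
    ∃ W, IsOpen W ∧ (R ∩ W).Nonempty ∧ closure R ∩ W ⊆ R := by
  have hne' : (V ↓∩ R).Nonempty := by
    obtain ⟨x, hxR, hxV⟩ := hne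
    exact ⟨⟨x, hxV⟩, hxR⟩
  obtain ⟨W', hW'o, hW'ne, hW'⟩ := exists_open_of_noetherian hR hne'
  refine ⟨Subtype.val '' W', hV.isOpenMap_subtype_val _ hW'o, ?_, ?_⟩
  · obtain ⟨v, hvR, hvW⟩ := hW'ne
    exact ⟨v.1, hvR, v, hvW, rfl⟩
  · rintro _ ⟨hxcl, v, hvW, rfl⟩
    have hvcl : v ∈ closure (V ↓∩ R) := by
      rw [closure_subtype]
      rw [mem_closure_iff] at hxcl ⊢
      intro o ho hvo
      obtain ⟨y, ⟨hyo, hyV⟩, hyR⟩ := hxcl (o ∩ V) (ho.inter hV) ⟨hvo, v.2⟩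
      exact ⟨y, hyo, ⟨y, hyV⟩, hyR, rfl⟩
    exact hW' ⟨hvcl, hvW⟩

end Groth.Agent.Helper3.TopConstr
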