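import Mathlib
import Groth.Prelude
import Groth.Agent.Helper3.FibIrr2
import Groth.Agent.Helper3.TopConstr

set_option autoImplicit false
set_option linter.style.haveILetI false
set_option linter.unusedSectionVars false
set_option linter.unusedVariables false
set_option linter.style.haveILetI false
set_option linter.unusedSectionVars false
set_option linter.unusedVariables false

open AlgebraicGeometry CategoryTheory CategoryTheory.Limits TopologicalSpace Topology

universe u

namespace Groth.Agent.Helper3.FibIrr3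

open Groth.Agent.Helper3.FibIrr1 Groth.Agent.Helper3.FibIrr2

/-- irreducible components of a quasi-sober T0 space are closures of maximal points -/
theorem exists_generic_of_component {T : Type*} [TopologicalSpace T] [QuasiSober T] [T0Space T]
    (Z : Set T) (hZ : Z ∈ irreducibleComponents T) :
    ∃ η : T, closure ({η} : Set T) = Z ∧ ∀ w : T, w ⤳ η → w = η := by
  have hcl : IsClosed Z := isClosed_of_mem_irreducibleComponents Z hZ
  obtain ⟨η, hη⟩ := QuasiSober.sober hZ.1 hcl
  refine ⟨η, hη.def, fun w hw => ?_⟩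
  have h1 : η ∈ closure ({w} : Set T) := specializes_iff_mem_closure.mp hw
  have h2 : Z ⊆ closure ({w} : Set T) := by
    rw [← hη.def]
    exact closure_minimal (Set.singleton_subset_iff.mpr h1) isClosed_closure
  have h3 : closure ({w} : Set T) ⊆ Z := hZ.2 isIrreducible_singleton.closure h2
  have h4 : w ∈ closure ({η} : Set T) := by
    rw [hη.def]
    exact h3 (subset_closure rfl)
  exact (hw.antisymm (specializes_iff_mem_closure.mpr h4)).eq

/-- dimension of the closure of a point with given relative residue transcendence degree -/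
theorem dim_closure_eq (k : Type u) [Field k] {X Y : Scheme.{u}}
    (qX : X ⟶ Spec (CommRingCat.of k)) (qY : Y ⟶ Spec (CommRingCat.of k))
    [LocallyOfFiniteType qX] [LocallyOfFiniteType qY] (f : X ⟶ Y) (hf : f ≫ qY = qX)
    (η : X) (d : ℕ) (hd : Dual3.resTrdeg f η = (d : Cardinal.{u})) :
    topologicalKrullDim ↥(closure ({η} : Set X)) =
      d + topologicalKrullDim ↥(closure (f.base '' closure ({η} : Set X))) := by
  have hsub : Subsingleton ↥(Spec (CommRingCat.of k)) :=
    inferInstanceAs (Subsingleton (PrimeSpectrum k))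
  obtain ⟨nX, hnX, hdX⟩ := Groth.Agent.Helper5.GenDim.dim_fibre_closure_point qX η
  obtain ⟨nY, hnY, hdY⟩ := Groth.Agent.Helper5.GenDim.dim_fibre_closure_point qY (f η)
  have e1 : qX ⁻¹' {qX η} ∩ closure ({η} : Set X) = closure ({η} : Set X) := by
    apply Set.inter_eq_right.mpr
    intro z _
    exact Subsingleton.elim _ _
  have e2 : qY ⁻¹' {qY (f η)} ∩ closure ({f η} : Set Y) = closure ({f η} : Set Y) := by
    apply Set.inter_eq_right.mpr
    intro z _
    exact Subsingleton.elim _ _
  rw [e1] at hdX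
  rw [e2] at hdY
  have e3 : closure (f.base '' closure ({η} : Set X)) = closure ({f η} : Set Y) := by
    rw [closure_image_closure f.base.hom.continuous, Set.image_singleton]
  rw [e3, hdX, hdY]
  have hcomp := Groth.Agent.Helper5.ResTr.resTrdeg_comp f qY η
  rw [hf, hnX, hnY, hd] at hcomp
  have : nX = nY + d := by exact_mod_cast hcomp
  rw [this]
  push_cast
  rw [add_comm]

/-- irreducible components of a scheme of finite type over a field mapping to an irreducible one
with irreducible equidimensional closed fibres -/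
theorem main (k : Type u) [Field k] {X Y : Scheme.{u}}
    (qX : X ⟶ Spec (CommRingCat.of k)) (qY : Y ⟶ Spec (CommRingCat.of k))
    [LocallyOfFiniteType qX] [QuasiCompact qX] [LocallyOfFiniteType qY] [QuasiCompact qY]
    (f : X ⟶ Y) (hf : f ≫ qY = qX) [IrreducibleSpace ↥Y] (d : ℕ)
    (hirr : ∀ y : ↥Y, IsClosed ({y} : Set ↥Y) → IsIrreducible (f.base ⁻¹' {y}))
    (hdim : ∀ y : ↥Y, IsClosed ({y} : Set ↥Y) → topologicalKrullDim ↥(f.base ⁻¹' {y}) = d) :
    (∃! Z : Set ↥X, Z ∈ irreducibleComponents ↥X ∧ Dense (f.base '' Z)) ∧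
      ∀ Z ∈ irreducibleComponents ↥X,
        (∀ y : ↥Y, IsClosed ({y} : Set ↥Y) → (f.base ⁻¹' {y} ∩ Z).Nonempty →
          f.base ⁻¹' {y} ⊆ Z) ∧
        topologicalKrullDim ↥Z = d + topologicalKrullDim ↥(closure (f.base '' Z)) := by
  haveI : LocallyOfFiniteType (f ≫ qY) := hf ▸ inferInstance
  haveI hflft : LocallyOfFiniteType f := locallyOfFiniteType_of_comp f qY
  haveI : JacobsonSpace X := LocallyOfFiniteType.jacobsonSpace qX
  haveI : JacobsonSpace Y := LocallyOfFiniteType.jacobsonSpace qY
  haveI : IsLocallyNoetherian X := LocallyOfFiniteType.isLocallyNoetherian qX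
  haveI : IsLocallyNoetherian Y := LocallyOfFiniteType.isLocallyNoetherian qY
  haveI : CompactSpace X := QuasiCompact.compactSpace_of_compactSpace qX
  haveI : CompactSpace Y := QuasiCompact.compactSpace_of_compactSpace qY
  haveI : IsNoetherian X := {}
  haveI : IsNoetherian Y := {}
  have hconst := fibreDimAt_eq_const f d hirr hdim
  have hcomp : ∀ Z ∈ irreducibleComponents X, ∃ η : X, closure ({η} : Set X) = Z ∧
      (∀ w : X, w ⤳ η → w = η) ∧ Dual3.resTrdeg f η = (d : Cardinal.{u}) := by
    intro Z hZ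
    obtain ⟨η, hη, hmax⟩ := exists_generic_of_component Z hZ
    exact ⟨η, hη, hmax, resTrdeg_eq_of_maximal f η hmax d (hconst η)⟩
  have hii : ∀ Z ∈ irreducibleComponents ↥X,
      (∀ y : ↥Y, IsClosed ({y} : Set ↥Y) → (f.base ⁻¹' {y} ∩ Z).Nonempty →
        f.base ⁻¹' {y} ⊆ Z) ∧
      topologicalKrullDim ↥Z = d + topologicalKrullDim ↥(closure (f.base '' Z)) := by
    intro Z hZ
    obtain ⟨η, rfl, hmax, htr⟩ := hcomp Z hZ
    exact ⟨fun y hy hne =>
      fibre_subset_of_nonempty_inter f η d htr y hy (hirr y hy) (hdim y hy) hne,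
      dim_closure_eq k qX qY f hf η d htr⟩
  refine ⟨?_, hii⟩
  have hfin : (irreducibleComponents X).Finite := NoetherianSpace.finite_irreducibleComponents
  -- existence
  have hex : ∃ Z : Set X, Z ∈ irreducibleComponents X ∧ Dense (f.base '' Z) := by
    haveI : Finite ↥(irreducibleComponents X) := hfin.to_subtype
    have hcov : (Set.univ : Set Y) ⊆ ⋃ i : ↥(irreducibleComponents X), closure (f.base '' i.1) := by
      have h1 : closedPoints Y ⊆ ⋃ i : ↥(irreducibleComponents X), closure (f.base '' i.1) := by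
        intro y hy
        obtain ⟨x, hx⟩ := (hirr y hy).nonempty
        have hxu : x ∈ ⋃₀ irreducibleComponents X := by
          rw [sUnion_irreducibleComponents]; trivial
        obtain ⟨Z, hZ, hxZ⟩ := hxu
        exact Set.mem_iUnion.mpr ⟨⟨Z, hZ⟩, subset_closure ⟨x, hxZ, hx⟩⟩
      have h2 : IsClosed (⋃ i : ↥(irreducibleComponents X), closure (f.base '' i.1)) :=
        isClosed_iUnion_of_finite fun i => isClosed_closure
      rw [← closure_closedPoints (X := Y)]
      exact closure_minimal h1 h2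
    obtain ⟨i, hi⟩ := Groth.Agent.Helper2.TopDim.exists_subset_of_subset_iUnion
      (Set.univ : Set Y) (IrreducibleSpace.isIrreducible_univ Y)
      (fun i : ↥(irreducibleComponents X) => closure (f.base '' i.1))
      (fun i => isClosed_closure) hcov
    exact ⟨i.1, i.2, dense_iff_closure_eq.mpr (Set.univ_subset_iff.mp hi)⟩
  obtain ⟨Z₁, hZ₁, hd₁⟩ := hex
  refine ⟨Z₁, ⟨hZ₁, hd₁⟩, ?_⟩
  rintro Z₂ ⟨hZ₂, hd₂⟩
  by_contra hne
  -- Chevalley: the image of Z₁ contains a nonempty open
  haveI : LocallyOfFinitePresentation f :=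
    LocallyOfFinitePresentation.iff_locallyOfFiniteType.mpr hflft
  haveI : QuasiCompact (f ≫ qY) := hf ▸ inferInstance
  haveI : QuasiCompact f := QuasiCompact.of_comp f qY
  have hZ₁cl : IsClosed Z₁ := isClosed_of_mem_irreducibleComponents Z₁ hZ₁
  have hZ₁c : IsConstructible Z₁ := by
    rw [← isConstructible_compl]
    exact IsCompact.isConstructible (NoetherianSpace.isCompact _) hZ₁cl.isOpen_compl
  have hE : IsConstructible (f.base '' Z₁) := f.isConstructible_image hZ₁c
  obtain ⟨W, hWo, hWne, hWsub⟩ := TopConstr.exists_open_of_noetherian hE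
    ((hZ₁.1.nonempty).image _)
  rw [hd₁.closure_eq, Set.univ_inter] at hWsub
  have hWne' : W.Nonempty := hWne.mono Set.inter_subset_right
  -- the generic point of Z₂
  obtain ⟨η₂, hη₂, hmax₂, htr₂⟩ := hcomp Z₂ hZ₂
  have hη₂W : f η₂ ∈ W := by
    have h1 : closure ({f η₂} : Set Y) = Set.univ := by
      have := hd₂.closure_eq
      rw [← hη₂, closure_image_closure f.base.hom.continuous, Set.image_singleton] at this
      exact this
    have h2 : Dense ({f η₂} : Set Y) := dense_iff_closure_eq.mpr h1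
    obtain ⟨z, hzW, hz⟩ := h2.inter_open_nonempty W hWo hWne'
    rw [Set.mem_singleton_iff] at hz
    rwa [hz] at hzW
  -- the open complement of the other components
  let D : Set X := ⋃₀ (irreducibleComponents X \ {Z₂})
  have hDcl : IsClosed D := by
    change IsClosed (⋃₀ (irreducibleComponents X \ {Z₂}))
    rw [Set.sUnion_eq_biUnion]
    exact (hfin.subset Set.diff_subset).isClosed_biUnion
      fun t ht => isClosed_of_mem_irreducibleComponents t ht.1
  have hη₂D : η₂ ∉ D := by
    rintro ⟨Z, ⟨hZ, hZne⟩, hηZ⟩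
    have hZcl : IsClosed Z := isClosed_of_mem_irreducibleComponents Z hZ
    have h1 : Z₂ ⊆ Z := by
      rw [← hη₂]
      exact closure_minimal (Set.singleton_subset_iff.mpr hηZ) hZcl
    have h2 : Z ⊆ Z₂ := hZ₂.2 hZ.1 h1
    exact hZne (subset_antisymm h2 h1)
  have hVo : IsOpen (f.base ⁻¹' W ∩ Dᶜ) :=
    (hWo.preimage f.base.hom.continuous).inter hDcl.isOpen_compl
  obtain ⟨x, ⟨hxW, hxD⟩, hxc⟩ := nonempty_inter_closedPoints (Z := f.base ⁻¹' W ∩ Dᶜ)
    ⟨η₂, hη₂W, hη₂D⟩ hVo.isLocallyClosed
  have hy : IsClosed ({f x} : Set Y) := f.closePoints_subset_preimage_closedPoints hxc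
  obtain ⟨x₁, hx₁Z, hx₁⟩ := hWsub hxW
  have hsub := (hii Z₁ hZ₁).1 (f x) hy ⟨x₁, hx₁, hx₁Z⟩
  have hxZ₁ : x ∈ Z₁ := hsub rfl
  exact hxD ⟨Z₁, ⟨hZ₁, fun h => hne h.symm⟩, hxZ₁⟩

end Groth.Agent.Helper3.FibIrr3
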