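import Mathlib
import Groth.Prelude
import Groth.Agent.Helper3.FibIrr3
import Groth.Agent.Helper5.KDim1

set_option autoImplicit false
set_option linter.style.haveILetI false
set_option linter.unusedSectionVars false
set_option linter.unusedVariables false
set_option linter.style.haveILetI false
set_option linter.unusedSectionVars false
set_option linter.unusedVariables false

open AlgebraicGeometry CategoryTheory CategoryTheory.Limits TopologicalSpace Topology

universe u

namespace Groth.Agent.Helper3.FibIrr5

open Groth.Agent.Helper3.FibIrr3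

lemma dim_le_zero_of_subsingleton (T : Type*) [TopologicalSpace T] [Subsingleton T] :
    topologicalKrullDim T ≤ 0 := by
  haveI : Subsingleton (IrreducibleCloseds T) := by
    refine ⟨fun a b => ?_⟩
    apply IrreducibleCloseds.ext
    ext t
    obtain ⟨ta, hta⟩ := a.isIrreducible.nonempty
    obtain ⟨tb, htb⟩ := b.isIrreducible.nonempty
    rw [Subsingleton.elim t ta] at *
    constructor
    · intro _; rw [Subsingleton.elim ta tb]; exact htb
    · intro _; exact hta
  exact Order.krullDim_nonpos_of_subsingleton

/-- a dominant morphism of finite type schemes over a field admits an irreducible closed subset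
of the source of the dimension of the (irreducible) target, dominating it -/
theorem main (k : Type u) [Field k] {X Y : Scheme.{u}}
    (qX : X ⟶ Spec (CommRingCat.of k)) (qY : Y ⟶ Spec (CommRingCat.of k))
    [LocallyOfFiniteType qX] [QuasiCompact qX] [LocallyOfFiniteType qY] [QuasiCompact qY]
    (f : X ⟶ Y) (hf : f ≫ qY = qX) [IrreducibleSpace ↥Y] (hdom : DenseRange f.base) :
    ∃ Z : Set X, IsClosed Z ∧ IsIrreducible Z ∧
      topologicalKrullDim ↥Z = topologicalKrullDim Y ∧ Dense (f.base '' Z) := by
  haveI : LocallyOfFiniteType (f ≫ qY) := hf ▸ inferInstance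
  haveI hflft : LocallyOfFiniteType f := locallyOfFiniteType_of_comp f qY
  haveI : IsLocallyNoetherian X := LocallyOfFiniteType.isLocallyNoetherian qX
  haveI : CompactSpace X := QuasiCompact.compactSpace_of_compactSpace qX
  haveI : IsNoetherian X := {}
  have hsub : Subsingleton ↥(Spec (CommRingCat.of k)) :=
    inferInstanceAs (Subsingleton (PrimeSpectrum k))
  have hfin : (irreducibleComponents X).Finite := NoetherianSpace.finite_irreducibleComponents
  -- a dominant component
  obtain ⟨Z₁, hZ₁, hd₁⟩ : ∃ Z : Set X, Z ∈ irreducibleComponents X ∧ Dense (f.base '' Z) := by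
    haveI : Finite ↥(irreducibleComponents X) := hfin.to_subtype
    have hcov : (Set.univ : Set Y) ⊆
        ⋃ i : ↥(irreducibleComponents X), closure (f.base '' i.1) := by
      have h1 : Set.range f.base ⊆ ⋃ i : ↥(irreducibleComponents X), closure (f.base '' i.1) := by
        rintro _ ⟨x, rfl⟩
        have hxu : x ∈ ⋃₀ irreducibleComponents X := by
          rw [sUnion_irreducibleComponents]; trivial
        obtain ⟨Z, hZ, hxZ⟩ := hxu
        exact Set.mem_iUnion.mpr ⟨⟨Z, hZ⟩, subset_closure ⟨x, hxZ, rfl⟩⟩
      have h2 : IsClosed (⋃ i : ↥(irreducibleComponents X), closure (f.base '' i.1)) :=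
        isClosed_iUnion_of_finite fun i => isClosed_closure
      rw [← hdom.closure_range]
      exact closure_minimal h1 h2
    obtain ⟨i, hi⟩ := Groth.Agent.Helper2.TopDim.exists_subset_of_subset_iUnion
      (Set.univ : Set Y) (IrreducibleSpace.isIrreducible_univ Y)
      (fun i : ↥(irreducibleComponents X) => closure (f.base '' i.1))
      (fun i => isClosed_closure) hcov
    exact ⟨i.1, i.2, dense_iff_closure_eq.mpr (Set.univ_subset_iff.mp hi)⟩
  obtain ⟨η, hη, -⟩ := exists_generic_of_component Z₁ hZ₁
  have hy₀ : closure ({f η} : Set Y) = Set.univ := by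
    have := hd₁.closure_eq
    rw [← hη, closure_image_closure f.base.hom.continuous, Set.image_singleton] at this
    exact this
  -- a closed point of the fibre through `η`
  obtain ⟨w, -, hw⟩ := nonempty_inter_closedPoints (X := ↥(f.fiber (f η)))
    (Z := Set.univ) ⟨f.asFiber η, trivial⟩ isClosed_univ.isLocallyClosed
  have hwcl : closure ({w} : Set ↥(f.fiber (f η))) = {w} := IsClosed.closure_eq hw
  let z : X := f.fiberι (f η) w
  have hfz : f z = f η := by
    have : z ∈ Set.range (f.fiberι (f η)) := ⟨w, rfl⟩
    rw [Scheme.Hom.range_fiberι] at this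
    exact this
  have hsing : f ⁻¹' {f z} ∩ closure ({z} : Set X) = {z} := by
    apply Set.eq_of_subset_of_subset
    · rintro x ⟨hx1, hx2⟩
      have hx1' : x ∈ f ⁻¹' {f η} := by rw [← hfz]; exact hx1
      rw [← Scheme.Hom.range_fiberι] at hx1'
      obtain ⟨w', rfl⟩ := hx1'
      have hemb : Topology.IsEmbedding (f.fiberι (f η)) := (f.fiberι (f η)).isEmbedding
      have h3 : w' ∈ closure ({w} : Set ↥(f.fiber (f η))) := by
        rw [hemb.toIsInducing.closure_eq_preimage_closure_image, Set.image_singleton]
        exact hx2
      rw [hwcl, Set.mem_singleton_iff] at h3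
      rw [h3]
      rfl
    · rintro x rfl
      exact ⟨rfl, subset_closure rfl⟩
  refine ⟨closure ({z} : Set X), isClosed_closure, isIrreducible_singleton.closure, ?_, ?_⟩
  · obtain ⟨nX, hnX, hdX⟩ := Groth.Agent.Helper5.GenDim.dim_fibre_closure_point qX z
    obtain ⟨nY, hnY, hdY⟩ := Groth.Agent.Helper5.GenDim.dim_fibre_closure_point qY (f z)
    obtain ⟨n, hn, hdn⟩ := Groth.Agent.Helper5.GenDim.dim_fibre_closure_point f z
    have e1 : qX ⁻¹' {qX z} ∩ closure ({z} : Set X) = closure ({z} : Set X) := by
      apply Set.inter_eq_right.mpr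
      intro t _
      exact Subsingleton.elim _ _
    have e2 : qY ⁻¹' {qY (f z)} ∩ closure ({f z} : Set Y) = Set.univ := by
      rw [hfz, hy₀, Set.inter_univ]
      apply Set.eq_univ_of_forall
      intro t
      exact Subsingleton.elim _ _
    rw [e1] at hdX
    rw [e2, Groth.Agent.Helper5.KDim.dim_univ] at hdY
    rw [hsing] at hdn
    have hn0 : n = 0 := by
      haveI : Subsingleton ↥({z} : Set X) := ⟨fun a b => Subtype.ext (a.2.trans b.2.symm)⟩
      have h0 := dim_le_zero_of_subsingleton ↥({z} : Set X)
      rw [hdn] at h0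
      have : (n : WithBot ℕ∞) ≤ ((0 : ℕ) : WithBot ℕ∞) := by simpa using h0
      exact Nat.le_zero.mp (by exact_mod_cast this)
    have hcomp := Groth.Agent.Helper5.ResTr.resTrdeg_comp f qY z
    rw [hf, hnX, hnY, hn, hn0] at hcomp
    have : nX = nY := by exact_mod_cast hcomp
    rw [hdX, hdY, this]
  · apply dense_iff_closure_eq.mpr
    rw [closure_image_closure f.base.hom.continuous, Set.image_singleton]
    change closure ({f z} : Set Y) = Set.univ
    rw [hfz, hy₀]

end Groth.Agent.Helper3.FibIrr5
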