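import Mathlib
import Groth.Prelude
import Groth.Agent.Helper3.FibIrr5

set_option autoImplicit false
set_option linter.style.haveILetI false
set_option linter.unusedSectionVars false
set_option linter.unusedVariables false
set_option linter.style.haveILetI false
set_option linter.unusedSectionVars false
set_option linter.unusedVariables false

open AlgebraicGeometry CategoryTheory CategoryTheory.Limits TopologicalSpace Topology

universe u

namespace Groth.Agent.Helper3.DomDim

open Groth.Agent.Helper3.FibIrr3

/-- a dominant continuous map from a noetherian quasi-sober space to an irreducible space sends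
some point to a generic point -/
theorem exists_generic_image {X Y : Type*} [TopologicalSpace X] [TopologicalSpace Y]
    [NoetherianSpace X] [QuasiSober X] [T0Space X] [IrreducibleSpace Y] (f : X → Y)
    (hf : Continuous f) (hdom : DenseRange f) : ∃ ξ : X, closure ({f ξ} : Set Y) = Set.univ := by
  have hfin : (irreducibleComponents X).Finite := NoetherianSpace.finite_irreducibleComponents
  obtain ⟨Z₁, hZ₁, hd₁⟩ : ∃ Z : Set X, Z ∈ irreducibleComponents X ∧ Dense (f '' Z) := by
    haveI : Finite ↥(irreducibleComponents X) := hfin.to_subtype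
    have hcov : (Set.univ : Set Y) ⊆
        ⋃ i : ↥(irreducibleComponents X), closure (f '' i.1) := by
      have h1 : Set.range f ⊆ ⋃ i : ↥(irreducibleComponents X), closure (f '' i.1) := by
        rintro _ ⟨x, rfl⟩
        have hxu : x ∈ ⋃₀ irreducibleComponents X := by
          rw [sUnion_irreducibleComponents]; trivial
        obtain ⟨Z, hZ, hxZ⟩ := hxu
        exact Set.mem_iUnion.mpr ⟨⟨Z, hZ⟩, subset_closure ⟨x, hxZ, rfl⟩⟩
      have h2 : IsClosed (⋃ i : ↥(irreducibleComponents X), closure (f '' i.1)) :=
        isClosed_iUnion_of_finite fun i => isClosed_closure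
      rw [← hdom.closure_range]
      exact closure_minimal h1 h2
    obtain ⟨i, hi⟩ := Groth.Agent.Helper2.TopDim.exists_subset_of_subset_iUnion
      (Set.univ : Set Y) (IrreducibleSpace.isIrreducible_univ Y)
      (fun i : ↥(irreducibleComponents X) => closure (f '' i.1))
      (fun i => isClosed_closure) hcov
    exact ⟨i.1, i.2, dense_iff_closure_eq.mpr (Set.univ_subset_iff.mp hi)⟩
  obtain ⟨ξ, hξ, -⟩ := exists_generic_of_component Z₁ hZ₁
  refine ⟨ξ, ?_⟩
  have := hd₁.closure_eq
  rw [← hξ, closure_image_closure hf, Set.image_singleton] at this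
  exact this

/-- if a composite into an irreducible scheme of the same dimension is dominant, so is the
first morphism -/
theorem denseRange_of_comp (k : Type u) [Field k] {X Y Z : Scheme.{u}}
    (qX : X ⟶ Spec (CommRingCat.of k)) (qY : Y ⟶ Spec (CommRingCat.of k))
    (qZ : Z ⟶ Spec (CommRingCat.of k))
    [LocallyOfFiniteType qX] [QuasiCompact qX] [LocallyOfFiniteType qY] [QuasiCompact qY]
    [LocallyOfFiniteType qZ] [QuasiCompact qZ]
    (ρ : X ⟶ Y) (η : Y ⟶ Z) (hη : η ≫ qZ = qY) [IrreducibleSpace ↥Y] [IrreducibleSpace ↥Z]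
    (hdim : topologicalKrullDim Y = topologicalKrullDim Z)
    (hdom : DenseRange (ρ ≫ η).base) : DenseRange ρ.base := by
  haveI : LocallyOfFiniteType (η ≫ qZ) := hη ▸ inferInstance
  haveI hηlft : LocallyOfFiniteType η := locallyOfFiniteType_of_comp η qZ
  haveI : IsLocallyNoetherian X := LocallyOfFiniteType.isLocallyNoetherian qX
  haveI : CompactSpace X := QuasiCompact.compactSpace_of_compactSpace qX
  haveI : IsNoetherian X := {}
  have hsub : Subsingleton ↥(Spec (CommRingCat.of k)) :=
    inferInstanceAs (Subsingleton (PrimeSpectrum k))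
  obtain ⟨ξ, hξ⟩ := exists_generic_image (ρ ≫ η).base (ρ ≫ η).base.hom.continuous hdom
  let v : Y := ρ ξ
  have hηv : closure ({η v} : Set Z) = Set.univ := hξ
  obtain ⟨nY, hnY, hdY⟩ := Groth.Agent.Helper5.GenDim.dim_fibre_closure_point qY v
  obtain ⟨nZ, hnZ, hdZ⟩ := Groth.Agent.Helper5.GenDim.dim_fibre_closure_point qZ (η v)
  obtain ⟨n, hn, -⟩ := Groth.Agent.Helper5.GenDim.dim_fibre_closure_point η v
  have e1 : qY ⁻¹' {qY v} ∩ closure ({v} : Set Y) = closure ({v} : Set Y) := by
    apply Set.inter_eq_right.mpr
    intro t _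
    exact Subsingleton.elim _ _
  have e2 : qZ ⁻¹' {qZ (η v)} ∩ closure ({η v} : Set Z) = Set.univ := by
    rw [hηv, Set.inter_univ]
    apply Set.eq_univ_of_forall
    intro t
    exact Subsingleton.elim _ _
  rw [e1] at hdY
  rw [e2, Groth.Agent.Helper5.KDim.dim_univ] at hdZ
  have hcomp := Groth.Agent.Helper5.ResTr.resTrdeg_comp η qZ v
  rw [hη, hnY, hnZ, hn] at hcomp
  have hle : nZ ≤ nY := by
    have : nY = nZ + n := by exact_mod_cast hcomp
    omega
  have hcl : closure ({v} : Set Y) = Set.univ := by
    by_contra hne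
    have hlt := Groth.Agent.Helper5.ConnDim.dim_lt_of_ne (Z := closure ({v} : Set Y))
      (W := (Set.univ : Set Y)) (IrreducibleSpace.isIrreducible_univ Y) (Set.subset_univ _)
      isClosed_closure hne (by
        rw [Groth.Agent.Helper5.KDim.dim_univ, hdim, hdZ]
        exact WithBot.coe_lt_coe.mpr (ENat.coe_lt_top nZ))
    rw [Groth.Agent.Helper5.KDim.dim_univ, hdim, hdZ, hdY] at hlt
    have : (nY : WithBot ℕ∞) < (nZ : WithBot ℕ∞) := hlt
    have : nY < nZ := by exact_mod_cast this
    omega
  rw [DenseRange, dense_iff_closure_eq]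
  apply Set.eq_univ_of_univ_subset
  rw [← hcl]
  exact closure_mono (Set.singleton_subset_iff.mpr ⟨ξ, rfl⟩)

end Groth.Agent.Helper3.DomDim
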