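import Mathlib
import Groth.Prelude.Def_CAlg
import Groth.Prelude.Def_Found
import Groth.Agent.Helper3.GorFlatD
import Groth.Agent.S0342

/-!
# Gorenstein fibres compose with regular maps
-/

set_option autoImplicit false
set_option linter.style.haveILetI false
set_option linter.unusedSectionVars false
set_option linter.unusedVariables false
set_option linter.style.haveILetI false
set_option linter.unusedSectionVars false
set_option linter.unusedVariables false

universe u

namespace Groth.Agent.Helper3.GorComp

open TensorProduct IsLocalRing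
open Groth.Agent.Helper7.SegGor Groth.Agent.Helper3.GorFlatD

/-- local composition lemma: `A → B` flat local, `A/I` Gorenstein and the closed fibre `B/m_A B`
Gorenstein imply `B/IB` Gorenstein -/
theorem gorLocal_quot_of_closedFibre (A B : Type u) [CommRing A] [IsLocalRing A]
    [IsNoetherianRing A] [CommRing B] [IsLocalRing B] [IsNoetherianRing B] [Algebra A B]
    [IsLocalHom (algebraMap A B)] [Module.Flat A B] (I : Ideal A) (hI : I ≤ maximalIdeal A)
    (h1 : LocCoh.IsGorensteinLocalRing (A ⧸ I))
    (h2 : LocCoh.IsGorensteinLocalRing (B ⧸ (maximalIdeal A).map (algebraMap A B))) :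
    LocCoh.IsGorensteinLocalRing (B ⧸ I.map (algebraMap A B)) := by
  haveI := isLocalRing_quot I hI
  haveI := isLocalRing_quot (I.map (algebraMap A B)) (map_le_maximalIdeal A B I hI)
  haveI := isLocalHom_quot A B I
  rw [GorFlatD.main (A ⧸ I) (B ⧸ I.map (algebraMap A B)) h1]
  obtain ⟨e⟩ := nonempty_fibre_equiv A B I hI
  exact gorLocal_of_ringEquiv e.symm h2

section fibre

variable {R S : Type u} [CommRing R] [CommRing S] [Algebra R S] (p : Ideal R) [p.IsPrime]

/-- the local rings of the fibre are the quotients `S_r / p S_r` -/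
theorem gorLocal_fibre_iff (Q : Ideal (p.Fiber S)) [Q.IsPrime] :
    LocCoh.IsGorensteinLocalRing (Localization.AtPrime Q) ↔
    LocCoh.IsGorensteinLocalRing (Localization.AtPrime (Q.comap
      (Algebra.TensorProduct.includeRight : S →ₐ[R] p.Fiber S)) ⧸
        (p.map (algebraMap R S)).map (algebraMap S (Localization.AtPrime (Q.comap
      (Algebra.TensorProduct.includeRight : S →ₐ[R] p.Fiber S))))) :=
  ⟨fun h => gorLocal_of_ringEquiv (Ideal.Fiber.algEquivAux₂ p Q).toRingEquiv h,
   fun h => gorLocal_of_ringEquiv (Ideal.Fiber.algEquivAux₂ p Q).toRingEquiv.symm h⟩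

/-- every prime of `S` over `p` comes from the fibre -/
theorem exists_fibre_prime (r : Ideal S) [hr : r.IsPrime] (hrp : r.comap (algebraMap R S) = p) :
    ∃ (Q : Ideal (p.Fiber S)) (_ : Q.IsPrime), Q.comap
      (Algebra.TensorProduct.includeRight : S →ₐ[R] p.Fiber S) = r := by
  let x : p.primesOver S := ⟨r, hr, ⟨hrp.symm⟩⟩
  let Q := PrimeSpectrum.primesOverOrderIsoFiber R S p x
  refine ⟨Q.asIdeal, Q.isPrime, ?_⟩
  have h := PrimeSpectrum.coe_primesOverOrderIsoFiber_symm_apply (R := R) (S := S) p Q
  rw [OrderIso.symm_apply_apply] at h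
  exact h.symm

/-- Gorenstein fibre ⇒ the local rings `S_r / p S_r` are Gorenstein for all `r` over `p` -/
theorem gorLocal_of_fibre (hS : LocCoh.IsGorensteinRing (p.Fiber S)) (r : Ideal S) [hr : r.IsPrime]
    (hrp : r.comap (algebraMap R S) = p) :
    LocCoh.IsGorensteinLocalRing (Localization.AtPrime r ⧸
      (p.map (algebraMap R S)).map (algebraMap S (Localization.AtPrime r))) := by
  obtain ⟨Q, hQ, rfl⟩ := exists_fibre_prime p r hrp
  exact (gorLocal_fibre_iff p Q).1 (hS.isGorensteinLocalRing_localization Q)

theorem gorenstein_of_isRegularRing (T : Type u) [CommRing T] [hT : IsRegularRing T] :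
    LocCoh.IsGorensteinRing T :=
  { isGorensteinLocalRing_localization := fun Q _ => Groth.Agent.S0342.result _ }

theorem isRegularRing_of_isGeometricallyRegular (k : Type u) [Field k] (T : Type u) [CommRing T]
    [Algebra k T] (h : CAlg.IsGeometricallyRegular k T) : IsRegularRing T := by
  haveI := h k inferInstance
  exact IsRegularRing.of_ringEquiv (Algebra.TensorProduct.lid k T).toRingEquiv

theorem isNoetherianRing_fiber [IsNoetherianRing S] : IsNoetherianRing (p.Fiber S) := by
  letI : Algebra S (p.Fiber S) := Algebra.TensorProduct.rightAlgebra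
  exact isNoetherianRing_of_ringEquiv _ (Ideal.Fiber.algEquivQuotient (S := S) p).toRingEquiv.symm

end fibre

section main

variable (A B C : Type u) [CommRing A] [CommRing B] [CommRing C] [IsNoetherianRing A]
  [IsNoetherianRing B] [IsNoetherianRing C] [Algebra A B] [Algebra B C] [Algebra A C]
  [IsScalarTower A B C] [Module.Flat A B] [Module.Flat B C]

theorem main_aux (hAB : ∀ (q : Ideal A) [q.IsPrime], LocCoh.IsGorensteinRing (q.Fiber B))
    (hBC : CAlg.IsRegularHom B C) (q : Ideal A) [q.IsPrime] (r : Ideal C) [hrP : r.IsPrime]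
    (hrq : r.comap (algebraMap A C) = q) :
    LocCoh.IsGorensteinLocalRing (Localization.AtPrime r ⧸
      (q.map (algebraMap A C)).map (algebraMap C (Localization.AtPrime r))) := by
  set s : Ideal B := r.comap (algebraMap B C) with hs
  have hsq : s.comap (algebraMap A B) = q := by
    rw [hs, Ideal.comap_comap, ← IsScalarTower.algebraMap_eq]; exact hrq
  have hB := gorLocal_of_fibre q (hAB q) s hsq
  obtain ⟨hN, hreg⟩ := hBC.2 s
  haveI := isRegularRing_of_isGeometricallyRegular _ _ hreg
  have hC := gorLocal_of_fibre s (gorenstein_of_isRegularRing (s.Fiber C)) r rfl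
  haveI : IsNoetherianRing (Localization.AtPrime s) :=
    IsLocalization.isNoetherianRing s.primeCompl _ inferInstance
  haveI : IsNoetherianRing (Localization.AtPrime r) :=
    IsLocalization.isNoetherianRing r.primeCompl _ inferInstance
  letI : Algebra (Localization.AtPrime s) (Localization.AtPrime r) :=
    (Localization.localRingHom s r (algebraMap B C) rfl).toAlgebra
  haveI : Module.Flat (Localization.AtPrime s) (Localization.AtPrime r) :=
    RingHom.Flat.localRingHom ((RingHom.flat_algebraMap_iff).mpr inferInstance) r s rfl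
  haveI : IsLocalHom (algebraMap (Localization.AtPrime s) (Localization.AtPrime r)) :=
    Localization.isLocalHom_localRingHom s r (algebraMap B C) rfl
  have hsq' : (maximalIdeal (Localization.AtPrime s)).map
      (algebraMap (Localization.AtPrime s) (Localization.AtPrime r)) =
      (s.map (algebraMap B C)).map (algebraMap C (Localization.AtPrime r)) := by
    rw [← IsLocalization.AtPrime.map_eq_maximalIdeal s (Localization.AtPrime s), Ideal.map_map,
      Ideal.map_map]
    congr 1
    ext x
    exact Localization.localRingHom_to_map s r (algebraMap B C) rfl x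
  have hI : (q.map (algebraMap A B)).map (algebraMap B (Localization.AtPrime s)) ≤
      maximalIdeal (Localization.AtPrime s) := by
    rw [← IsLocalization.AtPrime.map_eq_maximalIdeal s (Localization.AtPrime s)]
    apply Ideal.map_mono
    rw [Ideal.map_le_iff_le_comap, hsq]
  have hImap : ((q.map (algebraMap A B)).map (algebraMap B (Localization.AtPrime s))).map
      (algebraMap (Localization.AtPrime s) (Localization.AtPrime r)) =
      (q.map (algebraMap A C)).map (algebraMap C (Localization.AtPrime r)) := by
    rw [Ideal.map_map, Ideal.map_map, Ideal.map_map]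
    congr 1
    ext x
    simp only [RingHom.comp_apply]
    rw [IsScalarTower.algebraMap_apply A B C]
    exact Localization.localRingHom_to_map s r (algebraMap B C) rfl _
  have key := gorLocal_quot_of_closedFibre (Localization.AtPrime s) (Localization.AtPrime r)
    ((q.map (algebraMap A B)).map (algebraMap B (Localization.AtPrime s))) hI hB
    (gorLocal_of_ringEquiv (Ideal.quotEquivOfEq hsq'.symm) hC)
  exact gorLocal_of_ringEquiv (Ideal.quotEquivOfEq hImap) key

theorem main (hAB : ∀ (q : Ideal A) [q.IsPrime], LocCoh.IsGorensteinRing (q.Fiber B))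
    (hBC : CAlg.IsRegularHom B C) (q : Ideal A) [q.IsPrime] :
    LocCoh.IsGorensteinRing (q.Fiber C) := by
  haveI := isNoetherianRing_fiber (S := C) q
  refine ⟨fun Q hQ => ?_⟩
  rw [gorLocal_fibre_iff]
  refine main_aux A B C hAB hBC q _ ?_
  have h := (inferInstance : Q.LiesOver q).over
  conv_rhs => rw [h, Ideal.under_def]
  ext x
  simp only [Ideal.mem_comap]
  have : (Algebra.TensorProduct.includeRight : C →ₐ[A] q.Fiber C) (algebraMap A C x) =
      algebraMap A (q.Fiber C) x := by
    rw [AlgHom.commutes]
  rw [this]

end main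

end Groth.Agent.Helper3.GorComp
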