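import Mathlib
import Groth.Prelude.Def_CAlg
import Groth.Prelude.Def_LCI2
import Groth.Agent.Helper2.LciGlobal
import Groth.Agent.Helper7.GorQuot1
import Groth.Agent.Helper7.SegGorD
import Groth.Agent.Helper6.Rees3
import Groth.Agent.Helper3.GorFlatD

/-!
# Quotients of Gorenstein rings by Koszul-regular ideals are Gorenstein
-/

set_option autoImplicit false
set_option linter.style.haveILetI false
set_option linter.unusedSectionVars false
set_option linter.unusedVariables false
set_option linter.style.haveILetI false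
set_option linter.unusedSectionVars false
set_option linter.unusedVariables false

universe u

namespace Groth.Agent.Helper3.GorKos

open IsLocalRing Ideal RingTheory.Sequence Pointwise
open Groth.Agent.Helper7.SegGor Groth.Agent.Helper7.GorQuot Groth.Agent.Helper3.GorFlatD

theorem smul_top_eq_span {R : Type u} [CommRing R] (a : R) :
    (a • (⊤ : Submodule R R)) = Ideal.span {a} := by
  ext x
  rw [Submodule.mem_smul_pointwise_iff_exists, Ideal.mem_span_singleton']
  constructor
  · rintro ⟨y, -, rfl⟩
    exact ⟨y, by rw [smul_eq_mul, mul_comm]⟩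
  · rintro ⟨y, rfl⟩
    exact ⟨y, Submodule.mem_top, by rw [smul_eq_mul, mul_comm]⟩

/-- quotient of a Gorenstein local ring by a (weakly) regular sequence in the maximal ideal -/
theorem gorLocal_quot_of_isWeaklyRegular : ∀ (n : ℕ) (R : Type u) [CommRing R] [IsLocalRing R]
    [IsNoetherianRing R] (hR : LocCoh.IsGorensteinLocalRing R) (l : List R), l.length = n →
    IsWeaklyRegular R l → (∀ x ∈ l, x ∈ maximalIdeal R) →
    LocCoh.IsGorensteinLocalRing (R ⧸ Ideal.ofList l) := by
  intro n
  induction n with
  | zero =>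
    intro R _ _ _ hR l hl _ _
    have hl' : l = [] := List.length_eq_zero_iff.1 hl
    subst hl'
    have h0 : (⊥ : Ideal R) = Ideal.ofList [] := Ideal.ofList_nil.symm
    exact gorLocal_of_ringEquiv ((RingEquiv.quotientBot R).symm.trans (Ideal.quotEquivOfEq h0)) hR
  | succ n ih =>
    intro R _ _ _ hR l hl hreg hmem
    obtain ⟨a, l', rfl⟩ : ∃ a l', l = a :: l' := by
      cases l with
      | nil => simp at hl
      | cons a l' => exact ⟨a, l', rfl⟩
    have hlen : l'.length = n := by simpa using hl
    obtain ⟨hareg, hl'reg⟩ := (isWeaklyRegular_cons_iff R a l').1 hreg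
    have ha : a ∈ maximalIdeal R := hmem a List.mem_cons_self
    have hI : Ideal.span {a} ≤ maximalIdeal R := (Ideal.span_singleton_le_iff_mem _).mpr ha
    haveI := isLocalRing_quot (Ideal.span {a}) hI
    have hR' : LocCoh.IsGorensteinLocalRing (R ⧸ Ideal.span {a}) :=
      (Groth.Agent.Helper6.Rees.main R a ha hareg).1 hR
    let e₀ : QuotSMulTop a R ≃ₗ[R] (R ⧸ Ideal.span {a}) :=
      Submodule.quotEquivOfEq _ _ (smul_top_eq_span a)
    have h2 : IsWeaklyRegular (R ⧸ Ideal.span {a}) l' := (e₀.isWeaklyRegular_congr l').1 hl'reg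
    have h3 : IsWeaklyRegular (R ⧸ Ideal.span {a})
        (l'.map (algebraMap R (R ⧸ Ideal.span {a}))) :=
      (isWeaklyRegular_map_algebraMap_iff (R ⧸ Ideal.span {a}) (R ⧸ Ideal.span {a}) l').2 h2
    have hmem' : ∀ x ∈ l'.map (algebraMap R (R ⧸ Ideal.span {a})),
        x ∈ maximalIdeal (R ⧸ Ideal.span {a}) := by
      intro x hx
      obtain ⟨y, hy, rfl⟩ := List.mem_map.1 hx
      rw [← map_mk_maximalIdeal (Ideal.span {a})]
      exact Ideal.mem_map_of_mem _ (hmem y (List.mem_cons_of_mem _ hy))
    have hIH := ih (R ⧸ Ideal.span {a}) hR' _ (by rw [List.length_map]; exact hlen) h3 hmem'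
    have h4 : Ideal.ofList (l'.map (algebraMap R (R ⧸ Ideal.span {a}))) =
        (Ideal.ofList l').map (Ideal.Quotient.mk (Ideal.span {a})) := by
      rw [Ideal.map_ofList]
      rfl
    have h5 : Ideal.span {a} ⊔ Ideal.ofList l' = Ideal.ofList (a :: l') :=
      (Ideal.ofList_cons a l').symm
    exact gorLocal_of_ringEquiv (((Ideal.quotEquivOfEq h4).trans
      (DoubleQuot.quotQuotEquivQuotSup (Ideal.span {a}) (Ideal.ofList l'))).trans
      (Ideal.quotEquivOfEq h5)) hIH

/-- **the quotient of a Gorenstein ring by a Koszul-regular ideal is Gorenstein** -/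
theorem gorenstein_quot_of_kregIdeal (P : Type u) [CommRing P] [hP : LocCoh.IsGorensteinRing P]
    (I : Ideal P) (hI : LCI.IsKoszulRegularIdeal I) : LocCoh.IsGorensteinRing (P ⧸ I) := by
  haveI : IsNoetherianRing P := hP.toIsNoetherian
  refine { toIsNoetherian := inferInstance, isGorensteinLocalRing_localization := fun Qb hQb => ?_ }
  set Q : Ideal P := Qb.comap (Ideal.Quotient.mk I) with hQdef
  haveI hQ : Q.IsPrime := Ideal.comap_isPrime _ _
  have hIQ : I ≤ Q := by
    intro x hx
    rw [hQdef, Ideal.mem_comap, Ideal.Quotient.eq_zero_iff_mem.2 hx]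
    exact zero_mem _
  obtain ⟨g, hg, l, hl, hIl⟩ := hI ⟨Q, hQ⟩ hIQ
  haveI : IsNoetherianRing (Localization.Away g) :=
    IsLocalization.isNoetherianRing (Submonoid.powers g) _ inferInstance
  -- the prime of `P_g`
  have hdisj : Disjoint (Submonoid.powers g : Set P) (Q : Set P) := by
    rw [Set.disjoint_left]
    rintro _ ⟨n, rfl⟩ hn
    exact hg (hQ.mem_of_pow_mem n hn)
  set Qg : Ideal (Localization.Away g) := Q.map (algebraMap P (Localization.Away g)) with hQg
  haveI hQgp : Qg.IsPrime :=
    IsLocalization.isPrime_of_isPrime_disjoint (Submonoid.powers g) _ Q hQ hdisj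
  have hcomap : Qg.comap (algebraMap P (Localization.Away g)) = Q :=
    IsLocalization.under_map_of_isPrime_disjoint (Submonoid.powers g) _ hQ hdisj
  -- `(P_g)_{Q_g} ≅ P_Q`
  let ε₀ := IsLocalization.localizationLocalizationAtPrimeIsoLocalization (Submonoid.powers g) Qg
  haveI hQc : (Qg.comap (algebraMap P (Localization.Away g))).IsPrime := Ideal.comap_isPrime _ _
  have hGc : LocCoh.IsGorensteinLocalRing
      (Localization.AtPrime (Qg.comap (algebraMap P (Localization.Away g)))) :=
    hP.isGorensteinLocalRing_localization _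
  have hGg : LocCoh.IsGorensteinLocalRing (Localization.AtPrime Qg) :=
    gorLocal_of_ringEquiv ε₀.toRingEquiv hGc
  haveI : IsNoetherianRing (Localization.AtPrime Qg) := hGg.toIsNoetherian
  -- the regular sequence
  have hmemQ : ∀ x ∈ l, x ∈ Qg := by
    intro x hx
    have : x ∈ I.map (algebraMap P (Localization.Away g)) := hIl ▸ Ideal.subset_span hx
    exact Ideal.map_mono hIQ this
  have hreg := Groth.Agent.Helper2.LciGlobal.isWeaklyRegular_atPrime Qg l hl hmemQ
  have hmem' : ∀ x ∈ l.map (algebraMap (Localization.Away g) (Localization.AtPrime Qg)),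
      x ∈ maximalIdeal (Localization.AtPrime Qg) := by
    intro x hx
    obtain ⟨z, hz, rfl⟩ := List.mem_map.1 hx
    exact (IsLocalization.AtPrime.to_map_mem_maximal_iff _ Qg z).2 (hmemQ z hz)
  have hGq := gorLocal_quot_of_isWeaklyRegular _ (Localization.AtPrime Qg) hGg _ rfl hreg hmem'
  -- identify the ideal
  have hJ : Ideal.ofList (l.map (algebraMap (Localization.Away g) (Localization.AtPrime Qg))) =
      I.map (algebraMap P (Localization.AtPrime Qg)) := by
    rw [← Ideal.map_ofList, Ideal.ofList, ← hIl, Ideal.map_map, ← IsScalarTower.algebraMap_eq]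
  -- transfer to `P_Q / I P_Q` and then to `(P/I)_{Qb}`
  have hJ2 : I.map (algebraMap P (Localization.AtPrime Qg)) =
      (I.map (algebraMap P (Localization.AtPrime
        (Qg.comap (algebraMap P (Localization.Away g)))))).map (ε₀ : _ →+* _) := by
    rw [Ideal.map_map]
    congr 1
    ext x
    exact (ε₀.commutes x).symm
  have e1 : (Localization.AtPrime (Qg.comap (algebraMap P (Localization.Away g))) ⧸
      I.map (algebraMap P (Localization.AtPrime
        (Qg.comap (algebraMap P (Localization.Away g)))))) ≃+*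
      (Localization.AtPrime Qg ⧸ Ideal.ofList
        (l.map (algebraMap (Localization.Away g) (Localization.AtPrime Qg)))) :=
    Ideal.quotientEquiv _ _ ε₀.toRingEquiv (by rw [hJ, hJ2]; rfl)
  have hcomapQb : Qb.comap (Ideal.Quotient.mk I) =
      Qg.comap (algebraMap P (Localization.Away g)) := by rw [hcomap]
  obtain ⟨e2⟩ := nonempty_locQuot_equiv I (Qg.comap (algebraMap P (Localization.Away g))) Qb
    hcomapQb
  exact gorLocal_of_ringEquiv (e1.symm.trans e2) hGq

end Groth.Agent.Helper3.GorKos
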