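import Mathlib
import Groth.Prelude.Def_CAlg
import Groth.Agent.S0345
import Groth.Agent.Helper3.GorFlatC

/-!
# Finite algebras over a field: Gorenstein iff Frobenius (existence of a nondegenerate form)
-/

set_option autoImplicit false
set_option linter.style.haveILetI false
set_option linter.unusedSectionVars false
set_option linter.unusedVariables false
set_option linter.deprecated false
set_option linter.style.haveILetI false
set_option linter.unusedSectionVars false
set_option linter.unusedVariables false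

universe u

namespace Groth.Agent.Helper3.OmegaGor

open CategoryTheory IsLocalRing

section Socle

variable {C : Type u} [CommRing C] [IsArtinianRing C]

/-- an element killed by a maximal ideal `m` and by an element outside `m` vanishes -/
theorem eq_zero_of_mul_eq_zero (m : Ideal C) [hm : m.IsMaximal] (x : C)
    (hx : ∀ b ∈ m, b * x = 0) (w : C) (hw : w ∉ m) (hwx : w * x = 0) : x = 0 := by
  obtain ⟨r, a, ha, h1⟩ := hm.exists_inv hw
  have : x = (r * w + a) * x := by rw [h1, one_mul]
  rw [this, add_mul, mul_assoc, hwx, mul_zero, zero_add, hx a ha]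

/-- the socle at a maximal ideal of a Gorenstein artinian ring is at most one-dimensional -/
theorem socle_cyclic [hG : LocCoh.IsGorensteinRing C] (m : Ideal C) [hm : m.IsMaximal] (x y : C)
    (hx : ∀ b ∈ m, b * x = 0) (hy : ∀ b ∈ m, b * y = 0) (hx0 : x ≠ 0) : ∃ c : C, y = c * x := by
  haveI : m.IsPrime := hm.isPrime
  let R := Localization.AtPrime m
  haveI : LocCoh.IsGorensteinLocalRing R := hG.isGorensteinLocalRing_localization m
  haveI : IsNoetherianRing R := LocCoh.IsGorensteinLocalRing.toIsNoetherian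
  haveI : IsArtinianRing R := inferInstance
  have hdim : ringKrullDim R = (0 : ℕ) := by
    rw [Nat.cast_zero]
    exact ringKrullDimZero_iff_ringKrullDim_eq_zero.1 inferInstance
  have hnil : IsNilpotent (maximalIdeal R) := (isArtinianRing_iff_isNilpotent_maximalIdeal R).1 inferInstance
  have sub_iff : ∀ {G : Type u} [AddCommGroup G], Subsingleton G ↔ ∀ x : G, x = 0 := by
    intro G _
    exact ⟨fun h x => Subsingleton.elim _ _, fun h => ⟨fun a b => (h a).trans (h b).symm⟩⟩
  obtain ⟨-, hvan⟩ := Groth.Agent.Helper6.Bass.gorenstein_top (A := R) 0 hdim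
  obtain ⟨σ, hσ0, hσ⟩ := Groth.Agent.Helper3.GorFlatC.exists_socle R hnil
  have hsoc := Groth.Agent.Helper3.GorFlatC.socle_principal σ hσ0 hσ
    (fun N _ _ _ => sub_iff.1 (hvan N 1 (by omega)))
  -- images of socle elements of `C` are socle elements of `R`
  have hsocR : ∀ z : C, (∀ b ∈ m, b * z = 0) → ∀ b ∈ maximalIdeal R, b * algebraMap C R z = 0 := by
    intro z hz b hb
    obtain ⟨a, s, rfl⟩ := IsLocalization.exists_mk'_eq m.primeCompl b
    rw [IsLocalization.AtPrime.mk'_mem_maximal_iff R m] at hb
    rw [mul_comm, IsLocalization.mul_mk'_eq_mk'_of_mul, mul_comm, hz a hb, IsLocalization.mk'_zero]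
  have hxR : algebraMap C R x ≠ 0 := by
    intro h0
    rw [IsLocalization.map_eq_zero_iff m.primeCompl] at h0
    obtain ⟨w, hw⟩ := h0
    exact hx0 (eq_zero_of_mul_eq_zero m x hx w.1 w.2 hw)
  obtain ⟨c₁, hc₁⟩ := hsoc _ (hsocR x hx)
  obtain ⟨c₂, hc₂⟩ := hsoc _ (hsocR y hy)
  have hu : IsUnit c₁ := by
    by_contra hnu
    apply hxR
    rw [hc₁]
    exact hσ c₁ ((mem_maximalIdeal c₁).2 hnu)
  obtain ⟨v, hv⟩ := hu.exists_left_inv
  -- `y/1 = (c₂ v) (x/1)`
  have h1 : algebraMap C R y = (c₂ * v) * algebraMap C R x := by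
    rw [hc₂, hc₁, mul_assoc, ← mul_assoc v, hv, one_mul]
  obtain ⟨c, u, hcu⟩ := IsLocalization.exists_mk'_eq m.primeCompl (c₂ * v)
  rw [← hcu] at h1
  have h2 : algebraMap C R (u.1 * y) = algebraMap C R (c * x) := by
    rw [map_mul, h1, map_mul, ← mul_assoc, IsLocalization.mul_mk'_eq_mk'_of_mul,
      IsLocalization.mk'_mul_cancel_left]
  obtain ⟨u', hu'⟩ := (IsLocalization.eq_iff_exists m.primeCompl R).1 h2
  -- `(u' u) y = (u' c) x`
  have hw : (u'.1 * u.1) ∉ m := fun h => (hm.isPrime.mem_or_mem h).elim u'.2 u.2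
  obtain ⟨r, a, ha, hone⟩ := hm.exists_inv hw
  refine ⟨r * (u'.1 * c), ?_⟩
  have : y = (r * (u'.1 * u.1) + a) * y := by rw [hone, one_mul]
  rw [this, add_mul, hy a ha, add_zero, mul_assoc, mul_assoc, mul_assoc, hu', mul_assoc]

end Socle

section Exists

variable {k : Type u} [Field k] {C : Type u} [CommRing C] [Algebra k C]

/-- an element killed by a maximal ideal `m` and by an element outside `m` vanishes -/
theorem eq_zero_of_mul_eq_zero' (m : Ideal C) [hm : m.IsMaximal] (x : C)
    (hx : ∀ b ∈ m, b * x = 0) (w : C) (hw : w ∉ m) (hwx : w * x = 0) : x = 0 := by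
  obtain ⟨r, a, ha, h1⟩ := hm.exists_inv hw
  have : x = (r * w + a) * x := by rw [h1, one_mul]
  rw [this, add_mul, mul_assoc, hwx, mul_zero, zero_add, hx a ha]

/-- socle elements at distinct maximal ideals are linearly independent -/
theorem linearIndependent_socle {ι' : Type*} (m : ι' → Ideal C) (hm : ∀ i, (m i).IsMaximal)
    (hinj : Function.Injective m) (s : ι' → C) (hs0 : ∀ i, s i ≠ 0)
    (hs : ∀ i, ∀ b ∈ m i, b * s i = 0) : LinearIndependent k s := by
  classical
  rw [linearIndependent_iff']
  intro t g hsum j hj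
  -- an element of all `m i`, `i ≠ j`, outside `m j`
  have hex : ∀ i : ι', i ≠ j → ∃ a : C, a ∈ m i ∧ a ∉ m j := by
    intro i hij
    by_contra hcon
    simp only [not_exists, not_and, not_not] at hcon
    have hle : m i ≤ m j := fun a ha => hcon a ha
    exact hij (hinj ((hm i).eq_of_le (hm j).ne_top hle))
  choose! a ha1 ha2 using hex
  let u : C := ∏ i ∈ t.erase j, a i
  have hu1 : u ∉ m j := by
    intro hmem
    rw [(hm j).isPrime.prod_mem_iff] at hmem
    obtain ⟨i, hi, hai⟩ := hmem
    exact ha2 i (Finset.ne_of_mem_erase hi) hai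
  have hu2 : ∀ i ∈ t, i ≠ j → u * s i = 0 := by
    intro i hi hij
    have hmem : u ∈ m i := by
      have hdvd : a i ∣ u := Finset.dvd_prod_of_mem a (Finset.mem_erase.2 ⟨hij, hi⟩)
      exact Ideal.mem_of_dvd _ hdvd (ha1 i hij)
    exact hs i u hmem
  have h1 : u • (∑ i ∈ t, g i • s i) = g j • (u * s j) := by
    rw [Finset.smul_sum, ← Finset.add_sum_erase t _ hj]
    rw [Finset.sum_eq_zero, add_zero, smul_comm, smul_eq_mul]
    intro i hi
    rw [smul_comm, smul_eq_mul, hu2 i (Finset.mem_of_mem_erase hi) (Finset.ne_of_mem_erase hi),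
      smul_zero]
  rw [hsum, smul_zero] at h1
  rcases smul_eq_zero.1 h1.symm with h | h
  · exact h
  · exact absurd (eq_zero_of_mul_eq_zero' (m j) (s j) (hs j) u hu1 h) (hs0 j)

/-- a linear form taking the value one on each member of a linearly independent family -/
theorem exists_form_eq_one {ι' : Type*} (s : ι' → C) (hli : LinearIndependent k s) :
    ∃ l : C →ₗ[k] k, ∀ i, l (s i) = 1 := by
  let f : Submodule.span k (Set.range s) →ₗ[k] k :=
    (Finsupp.linearCombination k (fun _ : ι' => (1 : k))) ∘ₗ hli.repr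
  obtain ⟨l, hl⟩ := LinearMap.exists_extend f
  refine ⟨l, fun i => ?_⟩
  have hmem : s i ∈ Submodule.span k (Set.range s) := Submodule.subset_span ⟨i, rfl⟩
  have h1 : l (s i) = f ⟨s i, hmem⟩ := by
    rw [← hl]
    rfl
  rw [h1]
  show Finsupp.linearCombination k (fun _ : ι' => (1 : k)) (hli.repr ⟨s i, hmem⟩) = 1
  rw [hli.repr_eq_single i ⟨s i, hmem⟩ rfl, Finsupp.linearCombination_single, smul_eq_mul, mul_one]

end Exists

section Field

variable {k : Type u} [Field k] {C : Type u} [CommRing C] [Algebra k C] [Module.Finite k C]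

/-- a `k`-linear form on `C` is nondegenerate if its kernel contains no nonzero ideal -/
def Nondeg (l : C →ₗ[k] k) : Prop := ∀ c : C, (∀ c' : C, l (c * c') = 0) → c = 0

/-- the map `C → Hom_k(C, k)`, `c ↦ l(c ·)` -/
noncomputable def formMap (l : C →ₗ[k] k) : C →ₗ[k] Module.Dual k C :=
  { toFun := fun c => l ∘ₗ LinearMap.mulLeft k c
    map_add' := fun a b => by
      ext x
      simp [add_mul]
    map_smul' := fun a b => by
      ext x
      simp }

theorem formMap_apply (l : C →ₗ[k] k) (c x : C) : formMap l c x = l (c * x) := rfl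

theorem formMap_bijective (l : C →ₗ[k] k) (h : Nondeg l) : Function.Bijective (formMap l) := by
  have hinj : Function.Injective (formMap l) := by
    rw [injective_iff_map_eq_zero]
    intro c hc
    apply h
    intro c'
    rw [← formMap_apply, hc]
    rfl
  refine ⟨hinj, ?_⟩
  exact (LinearMap.injective_iff_surjective_of_finrank_eq_finrank
    (Subspace.dual_finrank_eq (K := k) (V := C)).symm).1 hinj

variable (k C) in
include k in
theorem noetherian_of_finite : IsNoetherianRing C :=
  isNoetherian_of_tower k (inferInstance : IsNoetherian k C)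

theorem baer_of_nondeg (l : C →ₗ[k] k) (h : Nondeg l) : Module.Baer C C := by
  intro I g
  -- the `k`-linear form `l ∘ g` on `I`
  let gk : (I.restrictScalars k) →ₗ[k] k :=
    { toFun := fun x => l (g ⟨x.1, x.2⟩)
      map_add' := fun a b => by
        have : (⟨(a + b).1, (a + b).2⟩ : I) = ⟨a.1, a.2⟩ + ⟨b.1, b.2⟩ := rfl
        rw [this, map_add, map_add]
      map_smul' := fun a b => by
        have : (⟨(a • b).1, (a • b).2⟩ : I) = (algebraMap k C a) • (⟨b.1, b.2⟩ : I) := by
          apply Subtype.ext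
          show a • b.1 = algebraMap k C a • b.1
          rw [algebraMap_smul]
        rw [this, map_smul, smul_eq_mul, ← Algebra.smul_def, map_smul]
        rfl }
  obtain ⟨G, hG⟩ := LinearMap.exists_extend gk
  obtain ⟨c₀, hc₀⟩ := (formMap_bijective l h).2 G
  refine ⟨LinearMap.mulLeft C c₀, ?_⟩
  intro x hx
  rw [LinearMap.mulLeft_apply]
  have hsub : c₀ * x - g ⟨x, hx⟩ = 0 := by
    apply h
    intro y
    rw [sub_mul, map_sub, sub_eq_zero]
    have h1 : l (c₀ * x * y) = G (x * y) := by
      rw [← hc₀, formMap_apply, mul_assoc]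
    have hxy : x * y ∈ I := I.mul_mem_right y hx
    have h2 : G (x * y) = gk ⟨x * y, hxy⟩ := by
      rw [← hG]
      rfl
    have h3 : gk ⟨x * y, hxy⟩ = l (g ⟨x * y, hxy⟩) := rfl
    have h4 : (⟨x * y, hxy⟩ : I) = y • (⟨x, hx⟩ : I) := by
      apply Subtype.ext
      show x * y = y * x
      rw [mul_comm]
    rw [h1, h2, h3, h4, map_smul, smul_eq_mul, mul_comm]
  exact sub_eq_zero.1 hsub

/-- **(a⇐)** a finite algebra over a field carrying a nondegenerate form is a Gorenstein ring -/
theorem gorenstein_of_nondeg (l : C →ₗ[k] k) (h : Nondeg l) : LocCoh.IsGorensteinRing C := by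
  haveI : IsNoetherianRing C := noetherian_of_finite k C
  have hinj : Module.Injective C C := (baer_of_nondeg l h).injective
  haveI : Injective (ModuleCat.of C C) := Module.injective_object_of_injective_module C C
  exact ((Groth.Agent.S0345.result C).1
    ⟨1, injective_iff_hasInjectiveDimensionLT_one.1 inferInstance⟩).1

end Field

section Main

variable {k : Type u} [Field k] {C : Type u} [CommRing C] [Algebra k C] [Module.Finite k C]

/-- **(a⇒)** a Gorenstein finite algebra over a field carries a nondegenerate form -/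
theorem exists_nondeg [hG : LocCoh.IsGorensteinRing C] : ∃ l : C →ₗ[k] k, Nondeg l := by
  classical
  haveI : IsArtinianRing C := IsArtinianRing.of_finite k C
  let ι' := {m : MaximalSpectrum C // ∃ x : C, x ≠ 0 ∧ ∀ b ∈ m.asIdeal, b * x = 0}
  choose s hs0 hs using fun i : ι' => i.2
  have hli : LinearIndependent k s :=
    linearIndependent_socle (fun i : ι' => i.1.asIdeal) (fun i => i.1.isMaximal)
      (fun i j hij => Subtype.ext (MaximalSpectrum.ext hij)) s hs0 hs
  obtain ⟨l, hl⟩ := exists_form_eq_one s hli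
  refine ⟨l, ?_⟩
  intro c hc
  by_contra hc0
  -- a minimal nonzero ideal inside `(c)`
  have hne : Ideal.span {c} ≠ ⊥ := by
    rw [Ne, Ideal.span_singleton_eq_bot]
    exact hc0
  obtain ⟨I₀, hI₀, hI₀le⟩ := (IsAtomic.eq_bot_or_exists_atom_le (Ideal.span {c})).resolve_left hne
  obtain ⟨x, hxI, hx0⟩ := Submodule.exists_mem_ne_zero_of_ne_bot hI₀.1
  -- a maximal ideal containing the annihilator of `x`
  have hann : (Ideal.span {x}).annihilator ≠ ⊤ := by
    intro h
    apply hx0
    have h1 : (1 : C) ∈ (Ideal.span {x}).annihilator := h ▸ Submodule.mem_top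
    rw [Submodule.mem_annihilator_span_singleton] at h1
    rwa [one_smul] at h1
  obtain ⟨m, hm, hle⟩ := Ideal.exists_le_maximal _ hann
  have hmx : ∀ b ∈ m, b * x = 0 := by
    have hsub : m * Ideal.span {x} ≤ I₀ :=
      Ideal.mul_le_right.trans ((Ideal.span_singleton_le_iff_mem (I := I₀)).2 hxI)
    rcases eq_or_lt_of_le hsub with heq | hlt
    · exfalso
      have hxm : x ∈ m * Ideal.span {x} := heq ▸ hxI
      rw [Ideal.mem_mul_span_singleton] at hxm
      obtain ⟨a, ha, hax⟩ := hxm
      have h1 : (1 - a) ∈ (Ideal.span {x}).annihilator := by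
        rw [Submodule.mem_annihilator_span_singleton, smul_eq_mul, sub_mul, one_mul, hax, sub_self]
      have h2 : (1 : C) ∈ m := by
        have := m.add_mem (hle h1) ha
        rwa [sub_add_cancel] at this
      exact hm.ne_top ((Ideal.eq_top_iff_one _).2 h2)
    · have hbot := hI₀.2 _ hlt
      intro b hb
      have : b * x ∈ m * Ideal.span {x} := Ideal.mul_mem_mul hb (Ideal.mem_span_singleton_self x)
      rw [hbot] at this
      exact this
  let i : ι' := ⟨⟨m, hm⟩, x, hx0, hmx⟩
  obtain ⟨c', hc'⟩ := socle_cyclic m x (s i) hmx (hs i) hx0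
  -- `s i ∈ (c)`
  have hxc : x ∈ Ideal.span {c} := hI₀le hxI
  rw [Ideal.mem_span_singleton'] at hxc
  obtain ⟨d, hd⟩ := hxc
  have h1 : l (s i) = 0 := by
    rw [hc', ← hd, ← mul_assoc, mul_comm]
    exact hc _
  rw [hl i] at h1
  exact one_ne_zero h1

end Main

end Groth.Agent.Helper3.OmegaGor
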