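import Mathlib
import Groth.Prelude.Def_CAlg
import Groth.Prelude.Def_QFDual
import Groth.Agent.Helper7.DiffBC3
import Groth.Agent.Helper3.OmegaGor1

/-!
# Base change of `ω_{B/A}` for finite free algebras: invertibility passes to base changes
-/

set_option autoImplicit false
set_option linter.style.haveILetI false
set_option linter.unusedSectionVars false
set_option linter.unusedVariables false
set_option linter.deprecated false
set_option linter.style.haveILetI false
set_option linter.unusedSectionVars false
set_option linter.unusedVariables false

universe u

namespace Groth.Agent.Helper3.OmegaGor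

open TensorProduct Groth.Agent.Helper7.DiffBC

section BC

variable {A A' B B' : Type u} [CommRing A] [CommRing A'] [CommRing B] [CommRing B']
  [Algebra A A'] [Algebra A B] [Algebra A' B'] [Algebra B B'] [Algebra A B']
  [IsScalarTower A A' B'] [IsScalarTower A B B']

/-- invertibility of `ω_{B/A}` passes to base changes (finite free case) -/
theorem invertible_omega_baseChange (hB : Algebra.IsPushout A A' B B') [Module.Finite A B]
    [Module.Free A B] [hinv : Module.Invertible B (Disc.Omega A B)] :
    Module.Invertible B' (Disc.Omega A' B') := by
  letI mB : Module B (Disc.Omega A' B') := Module.compHom _ (algebraMap B B')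
  haveI : IsScalarTower B B' (Disc.Omega A' B') := IsScalarTower.of_algebraMap_smul (fun _ _ => rfl)
  let f : Disc.Omega A B →ₗ[B] Disc.Omega A' B' :=
    { toFun := QFDual.bcFin hB
      map_add' := (QFDual.bcFin hB).map_add
      map_smul' := fun b x => (QFDual.bcFin hB).map_smulₛₗ b x }
  have hf : IsBaseChange B' f := by
    letI : Module A (Disc.Omega A B) := Module.compHom _ (algebraMap A B)
    letI : Module A (Disc.Omega A' B') := Module.compHom _ (algebraMap A B')
    letI : Module A' (Disc.Omega A' B') := Module.compHom _ (algebraMap A' B')
    haveI : IsScalarTower A B (Disc.Omega A B) := IsScalarTower.of_algebraMap_smul (fun _ _ => rfl)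
    haveI : IsScalarTower A' B' (Disc.Omega A' B') :=
      IsScalarTower.of_algebraMap_smul (fun _ _ => rfl)
    haveI : IsScalarTower A B' (Disc.Omega A' B') :=
      IsScalarTower.of_algebraMap_smul (fun _ _ => rfl)
    haveI : IsScalarTower A A' (Disc.Omega A' B') := IsScalarTower.of_algebraMap_smul (fun a x => by
      change algebraMap A' B' (algebraMap A A' a) • x = algebraMap A B' a • x
      rw [← IsScalarTower.algebraMap_apply A A' B'])
    haveI : IsScalarTower A B (Disc.Omega A' B') := IsScalarTower.of_algebraMap_smul (fun a x => by
      change algebraMap B B' (algebraMap A B a) • x = algebraMap A B' a • x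
      rw [← IsScalarTower.algebraMap_apply A B B'])
    apply isBaseChange_of_isPushout hB f
    let e : Disc.Omega A B ≃ₗ[A] Module.Dual A B :=
      { toFun := Disc.Omega.toLinearMap
        invFun := Disc.Omega.mk
        left_inv := fun _ => rfl
        right_inv := fun _ => rfl
        map_add' := fun _ _ => rfl
        map_smul' := fun a φ => by
          apply LinearMap.ext
          intro x
          change φ.toLinearMap (algebraMap A B a * x) = a • φ.toLinearMap x
          rw [← Algebra.smul_def, map_smul] }
    let e' : Disc.Omega A' B' ≃ₗ[A'] Module.Dual A' B' :=
      { toFun := Disc.Omega.toLinearMap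
        invFun := Disc.Omega.mk
        left_inv := fun _ => rfl
        right_inv := fun _ => rfl
        map_add' := fun _ _ => rfl
        map_smul' := fun a φ => by
          apply LinearMap.ext
          intro x
          change φ.toLinearMap (algebraMap A' B' a * x) = a • φ.toLinearMap x
          rw [← Algebra.smul_def, map_smul] }
    have ht : IsBaseChange A' hB.out.toDual := hB.out.dual
    have h1 := ((IsBaseChange.ofEquiv e).comp ht).comp (IsBaseChange.ofEquiv e'.symm)
    have h2 : f.restrictScalars A =
        ((e'.symm.toLinearMap.restrictScalars A).comp
          ((hB.out.toDual.restrictScalars A).comp e.toLinearMap)) := by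
      apply LinearMap.ext
      intro x
      rfl
    rw [h2]
    exact h1
  exact Module.Invertible.congr hf.equiv

end BC

end Groth.Agent.Helper3.OmegaGor
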