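import Mathlib
import Groth.Prelude.Def_CAlg
import Groth.Prelude.Def_QFDual
import Groth.Agent.Helper6.InvLoc
import Groth.Agent.Helper3.OmegaGor1
import Groth.Agent.Helper3.OmegaGor2

/-!
# Gram determinants of linear forms on a finite free algebra
-/

set_option autoImplicit false
set_option linter.style.haveILetI false
set_option linter.unusedSectionVars false
set_option linter.unusedVariables false
set_option linter.deprecated false
set_option linter.style.haveILetI false
set_option linter.unusedSectionVars false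
set_option linter.unusedVariables false

universe u

namespace Groth.Agent.Helper3.OmegaGor

open TensorProduct Module Matrix

section LocMap

variable {R : Type*} [CommRing R] (S : Submonoid R) (f : R) (hf : f ∈ S)
  {M N M' N' : Type*} [AddCommGroup M] [Module R M] [AddCommGroup N] [Module R N]
  [AddCommGroup M'] [Module R M'] [AddCommGroup N'] [Module R N']
  (f₁ : M →ₗ[R] M') [IsLocalizedModule S f₁] (f₂ : N →ₗ[R] N') [IsLocalizedModule S f₂]

include hf in
/-- a linear map whose kernel and cokernel are killed by an element of `S` becomes bijective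
after localization -/
theorem isLocalizedModule_map_bijective (g : M →ₗ[R] N) (hker : ∀ x, g x = 0 → f • x = 0)
    (hcoker : ∀ y, ∃ x, g x = f • y) :
    Function.Bijective (IsLocalizedModule.map S f₁ f₂ g) := by
  constructor
  · rw [injective_iff_map_eq_zero]
    intro x' hx'
    obtain ⟨⟨x, s⟩, rfl⟩ := IsLocalizedModule.mk'_surjective S f₁ x'
    simp only [Function.uncurry_apply_pair] at hx' ⊢
    rw [IsLocalizedModule.map_mk', IsLocalizedModule.mk'_eq_zero,
      IsLocalizedModule.eq_zero_iff S] at hx'
    obtain ⟨t, ht⟩ := hx'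
    rw [IsLocalizedModule.mk'_eq_zero, IsLocalizedModule.eq_zero_iff S]
    refine ⟨⟨f, hf⟩ * t, ?_⟩
    have h1 : g ((t : R) • x) = 0 := by rw [map_smul]; exact ht
    have h2 := hker _ h1
    rw [Submonoid.smul_def, Submonoid.coe_mul, mul_smul]
    exact h2
  · intro y'
    obtain ⟨⟨y, s⟩, rfl⟩ := IsLocalizedModule.mk'_surjective S f₂ y'
    simp only [Function.uncurry_apply_pair]
    obtain ⟨x, hx⟩ := hcoker y
    refine ⟨IsLocalizedModule.mk' f₁ x (⟨f, hf⟩ * s), ?_⟩
    rw [IsLocalizedModule.map_mk', hx]
    exact IsLocalizedModule.mk'_cancel_left (f := f₂) y ⟨f, hf⟩ s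

end LocMap

section Gram

variable {A : Type u} [CommRing A] {B : Type u} [CommRing B] [Algebra A B]
variable {ι : Type*} [Fintype ι] [DecidableEq ι] (β : Basis ι A B)

/-- the Gram matrix of the bilinear form `(x, y) ↦ φ (x y)` -/
noncomputable def gram (φ : B →ₗ[A] A) : Matrix ι ι A := Matrix.of fun i j => φ (β i * β j)

theorem apply_mul_basis (φ : B →ₗ[A] A) (b : B) (j : ι) :
    φ (b * β j) = (β.equivFun b ᵥ* gram β φ) j := by
  conv_lhs => rw [← β.sum_equivFun b]
  rw [Finset.sum_mul, map_sum]
  simp only [Matrix.vecMul, dotProduct, gram, Matrix.of_apply]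
  refine Finset.sum_congr rfl fun i _ => ?_
  rw [smul_mul_assoc, map_smul, smul_eq_mul]

/-- the `B`-linear map `B → ω`, `b ↦ b • φ` -/
noncomputable def muMap (φ : B →ₗ[A] A) : B →ₗ[B] Disc.Omega A B :=
  LinearMap.toSpanSingleton B (Disc.Omega A B) ⟨φ⟩

theorem muMap_apply (φ : B →ₗ[A] A) (b x : B) : (muMap φ b).toLinearMap x = φ (b * x) := rfl

/-- the adjugate "inverse" of `muMap` -/
noncomputable def nuMap (φ : B →ₗ[A] A) (ψ : Disc.Omega A B) : B :=
  β.equivFun.symm ((fun j => ψ.toLinearMap (β j)) ᵥ* (gram β φ).adjugate)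

theorem nuMap_zero (φ : B →ₗ[A] A) : nuMap β φ 0 = 0 := by
  unfold nuMap
  have : (fun j => (0 : Disc.Omega A B).toLinearMap (β j)) = (0 : ι → A) := by
    funext j
    rfl
  rw [this, Matrix.zero_vecMul, map_zero]

theorem nuMap_muMap (φ : B →ₗ[A] A) (b : B) :
    nuMap β φ (muMap φ b) = (gram β φ).det • b := by
  unfold nuMap
  have h1 : (fun j => (muMap φ b).toLinearMap (β j)) = β.equivFun b ᵥ* gram β φ := by
    funext j
    rw [muMap_apply, apply_mul_basis]
  rw [h1, Matrix.vecMul_vecMul, Matrix.mul_adjugate, Matrix.vecMul_smul, Matrix.vecMul_one,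
    map_smul, LinearEquiv.symm_apply_apply]

theorem muMap_nuMap (φ : B →ₗ[A] A) (ψ : Disc.Omega A B) :
    muMap φ (nuMap β φ ψ) = algebraMap A B (gram β φ).det • ψ := by
  apply Disc.Omega.ext
  apply β.ext
  intro j
  rw [muMap_apply, apply_mul_basis]
  unfold nuMap
  rw [LinearEquiv.apply_symm_apply, Matrix.vecMul_vecMul, Matrix.adjugate_mul, Matrix.vecMul_smul,
    Matrix.vecMul_one, Disc.Omega.smul_toLinearMap_apply, ← Algebra.smul_def, map_smul]
  rfl

/-- after inverting the Gram determinant of `φ`, the module `ω` is free of rank one -/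
theorem nonempty_away_equiv (φ : B →ₗ[A] A) :
    Nonempty (LocalizedModule.Away (algebraMap A B (gram β φ).det) (Disc.Omega A B)
      ≃ₗ[Localization.Away (algebraMap A B (gram β φ).det)]
        Localization.Away (algebraMap A B (gram β φ).det)) := by
  set f := algebraMap A B (gram β φ).det with hf
  let S := Submonoid.powers f
  let g := IsLocalizedModule.map S (Algebra.linearMap B (Localization.Away f))
    (LocalizedModule.mkLinearMap S (Disc.Omega A B)) (muMap φ)
  have hbij : Function.Bijective g := by
    apply isLocalizedModule_map_bijective S f (Submonoid.mem_powers f)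
    · intro x hx
      have h1 := nuMap_muMap β φ x
      rw [hx, nuMap_zero] at h1
      rw [smul_eq_mul, hf, ← Algebra.smul_def, ← h1]
    · intro y
      exact ⟨nuMap β φ y, muMap_nuMap β φ y⟩
  let g' := g.extendScalarsOfIsLocalization S (Localization.Away f)
  have hbij' : Function.Bijective g' := hbij
  exact ⟨(LinearEquiv.ofBijective g' hbij').symm⟩

/-- **(II)** if the Gram determinants generate the unit ideal locally on `Spec A`, then `ω` is
invertible -/
theorem invertible_of_gram (h : ∀ (p : Ideal A) [p.IsPrime], ∃ φ : B →ₗ[A] A, (gram β φ).det ∉ p) :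
    Module.Invertible B (Disc.Omega A B) := by
  let T : Set A := Set.range fun φ : B →ₗ[A] A => (gram β φ).det
  have hT : Ideal.span T = ⊤ := by
    by_contra hne
    obtain ⟨m, hm, hle⟩ := Ideal.exists_le_maximal _ hne
    haveI := hm.isPrime
    obtain ⟨φ, hφ⟩ := h m
    exact hφ (hle (Ideal.subset_span ⟨φ, rfl⟩))
  apply Groth.Agent.Helper6.InvLoc.main B (Disc.Omega A B) (algebraMap A B '' T)
  · rw [← Ideal.map_span, hT, Ideal.map_top]
  · rintro f ⟨d, ⟨φ, rfl⟩, rfl⟩
    exact nonempty_away_equiv β φ

end Gram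

end Groth.Agent.Helper3.OmegaGor
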