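import Mathlib
import Groth.Prelude.Def_CAlg
import Groth.Prelude.Def_QFDual
import Groth.Agent.Helper3.OmegaGor1
import Groth.Agent.Helper3.OmegaGor2
import Groth.Agent.Helper3.OmegaGor3

/-!
# Finite free algebras: Gorenstein fibres iff `ω_{B/A}` invertible
-/

set_option autoImplicit false
set_option linter.style.haveILetI false
set_option linter.unusedSectionVars false
set_option linter.unusedVariables false
set_option linter.deprecated false
set_option linter.style.haveILetI false
set_option linter.unusedSectionVars false
set_option linter.unusedVariables false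

universe u

namespace Groth.Agent.Helper3.OmegaGor

open TensorProduct Module Matrix

section FieldGram

variable {k : Type u} [Field k] {C : Type u} [CommRing C] [Algebra k C]
variable {ι : Type*} [Fintype ι] [DecidableEq ι] (β' : Basis ι k C)

theorem nondeg_iff_det (l : C →ₗ[k] k) : Nondeg l ↔ (gram β' l).det ≠ 0 := by
  constructor
  · intro hl hdet
    obtain ⟨v, hv0, hv⟩ := (Matrix.exists_vecMul_eq_zero_iff (M := gram β' l)).2 hdet
    apply hv0
    have hc : β'.equivFun.symm v = 0 := by
      apply hl
      intro c'
      have h0 : l ∘ₗ LinearMap.mulLeft k (β'.equivFun.symm v) = 0 := by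
        apply β'.ext
        intro j
        rw [LinearMap.comp_apply, LinearMap.mulLeft_apply, apply_mul_basis,
          LinearEquiv.apply_symm_apply, hv]
        rfl
      exact LinearMap.congr_fun h0 c'
    have := congrArg β'.equivFun hc
    rwa [LinearEquiv.apply_symm_apply, map_zero] at this
  · intro hdet c hc
    have hv : β'.equivFun c ᵥ* gram β' l = 0 := by
      funext j
      rw [← apply_mul_basis, hc]
      rfl
    have := Matrix.eq_zero_of_vecMul_eq_zero hdet hv
    exact β'.equivFun.map_eq_zero_iff.1 this

end FieldGram

section Fibre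

variable {A : Type u} [CommRing A] {B : Type u} [CommRing B] [Algebra A B]
variable {ι : Type*} [Fintype ι] [DecidableEq ι] (β : Basis ι A B)

/-- **(I)** if the fibre over `p` is Gorenstein there is a form whose Gram determinant is not in
`p` -/
theorem exists_gram_not_mem [Module.Finite A B] (p : Ideal A) [p.IsPrime]
    [hG : LocCoh.IsGorensteinRing (p.Fiber B)] :
    ∃ φ : B →ₗ[A] A, (gram β φ).det ∉ p := by
  let k := p.ResidueField
  let C := p.Fiber B
  let β' : Basis ι k C := Algebra.TensorProduct.basis k β
  obtain ⟨l, hl⟩ := exists_nondeg (k := k) (C := C)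
  have hdet := (nondeg_iff_det β' l).1 hl
  -- clear denominators
  have hsurj := IsLocalRing.residue_surjective (R := Localization.AtPrime p)
  choose y hy using fun i : ι => hsurj (l (β' i))
  obtain ⟨s, hs⟩ := IsLocalization.exist_integer_multiples p.primeCompl (Finset.univ : Finset ι) y
  choose a ha using fun i : ι => hs i (Finset.mem_univ i)
  let φ : B →ₗ[A] A := β.constr ℕ a
  have hφ : ∀ i, φ (β i) = a i := fun i => β.constr_basis ℕ a i
  have hs0 : algebraMap A k s.1 ≠ 0 := by
    rw [Ne, Ideal.algebraMap_residueField_eq_zero]
    exact s.2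
  have hai : ∀ i, algebraMap A k (a i) = algebraMap A k s.1 * l (β' i) := by
    intro i
    have h1 : algebraMap A k (a i) =
        IsLocalRing.residue (Localization.AtPrime p) (algebraMap A (Localization.AtPrime p) (a i)) := rfl
    rw [h1, ha i, Algebra.smul_def, map_mul, hy i]
    rfl
  -- the key identity
  have key : ∀ b : B, algebraMap A k (φ b) = algebraMap A k s.1 * l ((1 : k) ⊗ₜ[A] b) := by
    let L1 : B →ₗ[A] k := (Algebra.linearMap A k) ∘ₗ φ
    let L2 : B →ₗ[A] k := (algebraMap A k s.1) • ((l.restrictScalars A) ∘ₗ (TensorProduct.mk A k B 1))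
    have : L1 = L2 := by
      apply β.ext
      intro i
      show algebraMap A k (φ (β i)) = algebraMap A k s.1 * l ((1 : k) ⊗ₜ[A] β i)
      rw [hφ, hai i, Algebra.TensorProduct.basis_apply]
    intro b
    exact LinearMap.congr_fun this b
  refine ⟨φ, ?_⟩
  rw [← Ideal.algebraMap_residueField_eq_zero, RingHom.map_det]
  have hmap : (algebraMap A k).mapMatrix (gram β φ) = (algebraMap A k s.1) • gram β' l := by
    ext i j
    simp only [RingHom.mapMatrix_apply, Matrix.map_apply, gram, Matrix.of_apply, Matrix.smul_apply,
      smul_eq_mul]
    rw [key, Algebra.TensorProduct.basis_apply, Algebra.TensorProduct.basis_apply,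
      Algebra.TensorProduct.tmul_mul_tmul, one_mul]
  rw [hmap, Matrix.det_smul]
  exact mul_ne_zero (pow_ne_zero _ hs0) hdet

end Fibre

section Main

variable {A B : Type u} [CommRing A] [CommRing B] [Algebra A B] [Module.Finite A B] [Module.Free A B]

/-- a finite algebra over a field whose `ω` is invertible is Gorenstein -/
theorem gorenstein_of_invertible_field {k : Type u} [Field k] {C : Type u} [CommRing C]
    [Algebra k C] [Module.Finite k C] [hinv : Module.Invertible C (Disc.Omega k C)] :
    LocCoh.IsGorensteinRing C := by
  haveI : IsArtinianRing C := IsArtinianRing.of_finite k C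
  haveI : Module.Free C (Disc.Omega k C) := inferInstance
  obtain ⟨e⟩ := Module.Invertible.free_iff_linearEquiv.1 (inferInstance : Module.Free C (Disc.Omega k C))
  let l : C →ₗ[k] k := (e.symm 1).toLinearMap
  apply gorenstein_of_nondeg l
  intro c hc
  have h1 : c • e.symm 1 = 0 := by
    apply Disc.Omega.ext
    apply LinearMap.ext
    intro c'
    exact hc c'
  rw [← map_smul, smul_eq_mul, mul_one] at h1
  exact e.symm.map_eq_zero_iff.1 h1

attribute [local instance] Algebra.TensorProduct.rightAlgebra in
/-- **finite free algebras: all fibres Gorenstein iff `ω_{B/A}` is invertible** -/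
theorem main :
    (∀ (p : Ideal A) [p.IsPrime], LocCoh.IsGorensteinRing (p.Fiber B)) ↔
      Module.Invertible B (Disc.Omega A B) := by
  classical
  constructor
  · intro h
    let β := Module.Free.chooseBasis A B
    exact invertible_of_gram β (fun p _ => by
      haveI := h p
      exact exists_gram_not_mem β p)
  · intro hinv p _
    haveI : Module.Invertible (p.Fiber B) (Disc.Omega p.ResidueField (p.Fiber B)) :=
      invertible_omega_baseChange (A := A) (A' := p.ResidueField) (B := B) (B' := p.Fiber B)
        inferInstance
    exact gorenstein_of_invertible_field (k := p.ResidueField) (C := p.Fiber B)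

end Main

end Groth.Agent.Helper3.OmegaGor
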