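import Mathlib
import Groth.Agent.Helper3.OmegaGor4
import Groth.Agent.Helper3.GorComp
import Groth.Agent.Helper3.GorKos

set_option autoImplicit false
set_option linter.style.haveILetI false
set_option linter.unusedSectionVars false
set_option linter.unusedVariables false
set_option linter.deprecated false
set_option linter.style.haveILetI false
set_option linter.unusedSectionVars false
set_option linter.unusedVariables false

universe u

namespace Groth.Agent.Helper3.DualEval

open TensorProduct Module Matrix
open Groth.Agent.Helper3.OmegaGor Groth.Agent.Helper3.GorComp Groth.Agent.Helper7.SegGor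

section Compare

variable {A : Type u} [CommRing A] [IsDomain A] {B : Type u} [CommRing B] [Algebra A B]
  [Module.IsTorsionFree A B]
variable {ι : Type*} [Fintype ι] [DecidableEq ι] (β : Basis ι A B) (φ : B →ₗ[A] A)
variable {N : Type u} [AddCommGroup N] [Module B N] [Module A N] [IsScalarTower A B N]

/-- (A0) a nondegenerate-up-to-`det` form detects zero -/
theorem eq_zero_of_forall (hd : (gram β φ).det ≠ 0) (b : B) (h : ∀ s : B, φ (b * s) = 0) :
    b = 0 := by
  have h1 : muMap φ b = 0 := by
    apply Disc.Omega.ext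
    apply LinearMap.ext
    intro s
    rw [muMap_apply, h s]
    rfl
  have h2 := nuMap_muMap β φ b
  rw [h1, nuMap_zero] at h2
  have := (smul_eq_zero.1 h2.symm)
  rcases this with h | h
  · exact absurd h hd
  · exact h

/-- (A1) `f ↦ φ ∘ f` is injective on `Hom_B(N, B)` -/
theorem dual_ext (hd : (gram β φ).det ≠ 0) (f g : N →ₗ[B] B) (h : ∀ n, φ (f n) = φ (g n)) :
    f = g := by
  apply LinearMap.ext
  intro n
  rw [← sub_eq_zero]
  apply eq_zero_of_forall β φ hd
  intro s
  have := h (s • n)
  rw [LinearMap.map_smul f, LinearMap.map_smul g, smul_eq_mul, smul_eq_mul] at this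
  rw [sub_mul, map_sub, mul_comm, this, mul_comm, sub_self]

/-- the element of `ω` attached to a `Λ`-form on `N` and a point of `N` -/
noncomputable def omegaAt (ψ : N →ₗ[A] A) (n : N) : Disc.Omega A B :=
  ⟨ψ ∘ₗ (LinearMap.toSpanSingleton B N n).restrictScalars A⟩

theorem omegaAt_apply (ψ : N →ₗ[A] A) (n : N) (s : B) :
    (omegaAt (B := B) ψ n).toLinearMap s = ψ (s • n) := rfl

theorem phi_nuMap_mul (ψ : N →ₗ[A] A) (n : N) (s : B) :
    φ (nuMap β φ (omegaAt ψ n) * s) = (gram β φ).det • ψ (s • n) := by
  have h := muMap_nuMap β φ (omegaAt ψ n)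
  have h2 : (muMap φ (nuMap β φ (omegaAt ψ n))).toLinearMap s =
      (algebraMap A B (gram β φ).det • omegaAt ψ n).toLinearMap s := by rw [h]
  rw [muMap_apply, Disc.Omega.smul_toLinearMap_apply, omegaAt_apply, ← Algebra.smul_def,
    smul_assoc, map_smul] at h2
  exact h2

/-- (A2) every `Λ`-form on `N`, multiplied by `det`, comes from an `S`-linear map `N → S` -/
theorem exists_dual (hd : (gram β φ).det ≠ 0) (ψ : N →ₗ[A] A) :
    ∃ f : N →ₗ[B] B, ∀ n, φ (f n) = (gram β φ).det • ψ n := by
  refine ⟨{ toFun := fun n => nuMap β φ (omegaAt ψ n)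
            map_add' := ?_
            map_smul' := ?_ }, ?_⟩
  · intro n n'
    rw [← sub_eq_zero]
    apply eq_zero_of_forall β φ hd
    intro s
    rw [sub_mul, add_mul, map_sub, map_add, phi_nuMap_mul, phi_nuMap_mul, phi_nuMap_mul,
      smul_add, map_add, smul_add, sub_self]
  · intro b n
    rw [← sub_eq_zero]
    apply eq_zero_of_forall β φ hd
    intro s
    rw [RingHom.id_apply, sub_mul, map_sub, phi_nuMap_mul, smul_eq_mul (a := b), mul_comm b,
      mul_assoc, phi_nuMap_mul, smul_smul, mul_comm b, sub_self]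
  · intro n
    have := phi_nuMap_mul β φ ψ n 1
    rw [mul_one, one_smul] at this
    exact this

/-- a choice of preimage in (A2) -/
noncomputable def pre (hd : (gram β φ).det ≠ 0) (ψ : N →ₗ[A] A) : N →ₗ[B] B :=
  Classical.choose (exists_dual β φ hd ψ)

theorem pre_spec (hd : (gram β φ).det ≠ 0) (ψ : N →ₗ[A] A) (n : N) :
    φ (pre β φ hd ψ n) = (gram β φ).det • ψ n :=
  Classical.choose_spec (exists_dual β φ hd ψ) n

theorem pre_add (hd : (gram β φ).det ≠ 0) (ψ ψ' : N →ₗ[A] A) :
    pre β φ hd (ψ + ψ') = pre β φ hd ψ + pre β φ hd ψ' := by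
  apply dual_ext β φ hd
  intro n
  rw [pre_spec, LinearMap.add_apply, LinearMap.add_apply, map_add, pre_spec, pre_spec, smul_add]

theorem pre_smul (hd : (gram β φ).det ≠ 0) (a : A) (ψ : N →ₗ[A] A) :
    pre β φ hd (a • ψ) = algebraMap A B a • pre β φ hd ψ := by
  apply dual_ext β φ hd
  intro n
  rw [pre_spec, LinearMap.smul_apply, LinearMap.smul_apply, smul_eq_mul (a := algebraMap A B a),
    ← Algebra.smul_def, map_smul, pre_spec, smul_comm]

theorem pre_comp (hd : (gram β φ).det ≠ 0) (f : N →ₗ[B] B) (s : B) :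
    pre β φ hd (φ ∘ₗ (s • f).restrictScalars A) = algebraMap A B (gram β φ).det • s • f := by
  apply dual_ext β φ hd
  intro n
  rw [pre_spec, LinearMap.comp_apply, LinearMap.smul_apply,
    smul_eq_mul (a := algebraMap A B (gram β φ).det), ← Algebra.smul_def, map_smul]
  rfl

/-- the `Λ`-linear form on `Hom_Λ(N, Λ)` attached to an element of the `S`-bidual -/
noncomputable def bidualForm (hd : (gram β φ).det ≠ 0) (F : Dual B (Dual B N)) :
    Dual A (Dual A N) where
  toFun ψ := φ (F (pre β φ hd ψ))
  map_add' ψ ψ' := by rw [pre_add, map_add, map_add]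
  map_smul' a ψ := by
    rw [pre_smul, map_smul, smul_eq_mul (a := algebraMap A B a), ← Algebra.smul_def, map_smul,
      RingHom.id_apply]

/-- **key**: `det • F` is an evaluation, for `N` reflexive over `Λ` -/
theorem exists_eval_eq (hd : (gram β φ).det ≠ 0) [Module.IsReflexive A N]
    (F : Dual B (Dual B N)) :
    ∃ m : N, ∀ f : Dual B N, f m = (gram β φ).det • F f := by
  obtain ⟨m, hm⟩ := (Module.bijective_dual_eval A N).2 (bidualForm β φ hd F)
  refine ⟨m, fun f => ?_⟩
  rw [← sub_eq_zero]
  apply eq_zero_of_forall β φ hd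
  intro s
  have h1 := LinearMap.congr_fun hm (φ ∘ₗ (s • f).restrictScalars A)
  rw [Module.Dual.eval_apply] at h1
  have h2 : bidualForm β φ hd F (φ ∘ₗ (s • f).restrictScalars A) =
      φ (F (pre β φ hd (φ ∘ₗ (s • f).restrictScalars A))) := rfl
  rw [h2, pre_comp, LinearMap.map_smul F, LinearMap.map_smul F, algebraMap_smul,
    smul_eq_mul (a := s)] at h1
  have h3 : (φ ∘ₗ (s • f).restrictScalars A) m = φ (s * f m) := rfl
  rw [h3] at h1
  rw [sub_mul, map_sub, mul_comm, h1, smul_mul_assoc, mul_comm (F f) s, sub_self]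

end Compare

/-- a reduced Artinian ring is Gorenstein -/
theorem gorenstein_of_reduced_artinian (C : Type u) [CommRing C] [IsArtinianRing C] [IsReduced C] :
    LocCoh.IsGorensteinRing C :=
  { toIsNoetherian := inferInstance
    isGorensteinLocalRing_localization := fun Q hQ => by
      haveI : IsArtinianRing (Localization.AtPrime Q) := inferInstance
      haveI : IsReduced (Localization.AtPrime Q) := inferInstance
      have hF : IsField (Localization.AtPrime Q) :=
        IsArtinianRing.isField_of_isReduced_of_isLocalRing _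
      haveI : IsDomain (Localization.AtPrime Q) := hF.isDomain
      haveI : IsPrincipalIdealRing (Localization.AtPrime Q) := hF.isPrincipalIdealRing
      haveI : IsRegularLocalRing (Localization.AtPrime Q) := inferInstance
      exact Groth.Agent.S0342.result _ }

section Fibres

variable (Λ : Type u) [CommRing Λ] [IsDomain Λ] (S : Type u) [CommRing S] [Algebra Λ S]

/-- the generic fibre of a reduced finite algebra over a domain is Gorenstein -/
theorem gorenstein_generic_fibre [Module.Finite Λ S] [IsReduced S] :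
    haveI : (⊥ : Ideal Λ).IsPrime := Ideal.isPrime_bot
    LocCoh.IsGorensteinRing ((⊥ : Ideal Λ).Fiber S) := by
  haveI : (⊥ : Ideal Λ).IsPrime := Ideal.isPrime_bot
  haveI : IsArtinianRing ((⊥ : Ideal Λ).Fiber S) :=
    IsArtinianRing.of_finite (⊥ : Ideal Λ).ResidueField _
  haveI : IsReduced ((⊥ : Ideal Λ).Fiber S) := by
    letI : Algebra S ((⊥ : Ideal Λ).Fiber S) := Algebra.TensorProduct.rightAlgebra
    let e := Ideal.Fiber.algEquivAux₁ (R := Λ) (S := S) ⊥
    have h0 : (((⊥ : Ideal Λ).map (algebraMap Λ S)).map (algebraMap S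
        (Localization (Algebra.algebraMapSubmonoid S (⊥ : Ideal Λ).primeCompl)))) = ⊥ := by
      rw [Ideal.map_bot, Ideal.map_bot]
    haveI : IsReduced (Localization (Algebra.algebraMapSubmonoid S (⊥ : Ideal Λ).primeCompl)) :=
      inferInstance
    haveI : IsReduced (Localization (Algebra.algebraMapSubmonoid S (⊥ : Ideal Λ).primeCompl) ⧸
        (((⊥ : Ideal Λ).map (algebraMap Λ S)).map (algebraMap S
        (Localization (Algebra.algebraMapSubmonoid S (⊥ : Ideal Λ).primeCompl))))) := by
      rw [h0, ← Ideal.isRadical_iff_quotient_reduced]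
      exact Ideal.isRadical_bot
    exact isReduced_of_injective e.toRingEquiv.toRingHom e.injective
  exact gorenstein_of_reduced_artinian _

/-- fibres of a flat Gorenstein algebra over a PID at nonzero primes are Gorenstein -/
theorem gorenstein_fibre_of_ne_bot [IsPrincipalIdealRing Λ] [Module.Flat Λ S]
    [hS : LocCoh.IsGorensteinRing S] (p : Ideal Λ) [hp : p.IsPrime] (hp0 : p ≠ ⊥) :
    LocCoh.IsGorensteinRing (p.Fiber S) := by
  haveI : IsNoetherianRing S := hS.toIsNoetherian
  refine { toIsNoetherian := isNoetherianRing_fiber p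
           isGorensteinLocalRing_localization := fun Q hQ => (gorLocal_fibre_iff p Q).2 ?_ }
  set r : Ideal S := Q.comap (Algebra.TensorProduct.includeRight : S →ₐ[Λ] p.Fiber S) with hr
  haveI : r.IsPrime := Ideal.comap_isPrime _ _
  set π : Λ := Submodule.IsPrincipal.generator p with hπ
  have hpπ : p = Ideal.span {π} := (Ideal.span_singleton_generator p).symm
  have hπ0 : π ≠ 0 := by
    intro h
    apply hp0
    rw [hpπ, h, Ideal.span_singleton_eq_bot]
  have hπp : π ∈ p := Submodule.IsPrincipal.generator_mem p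
  set f : Localization.AtPrime r := algebraMap S (Localization.AtPrime r) (algebraMap Λ S π) with hf
  have hI : (p.map (algebraMap Λ S)).map (algebraMap S (Localization.AtPrime r)) =
      Ideal.span {f} := by
    conv_lhs => rw [hpπ]
    rw [Ideal.map_span, Set.image_singleton, Ideal.map_span, Set.image_singleton]
  have hfm : f ∈ IsLocalRing.maximalIdeal (Localization.AtPrime r) := by
    rw [hf, IsLocalization.AtPrime.to_map_mem_maximal_iff (Localization.AtPrime r) r]
    rw [hr, Ideal.mem_comap]
    have h0 : (Algebra.TensorProduct.includeRight : S →ₐ[Λ] p.Fiber S) (algebraMap Λ S π) = 0 := by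
      rw [AlgHom.commutes, Algebra.TensorProduct.algebraMap_apply]
      have : algebraMap Λ p.ResidueField π = 0 :=
        (Ideal.algebraMap_residueField_eq_zero).2 hπp
      rw [this, TensorProduct.zero_tmul]
    rw [h0]
    exact zero_mem _
  have hreg : IsSMulRegular (Localization.AtPrime r) f := by
    have h1 : IsSMulRegular Λ π := (isRegular_of_ne_zero hπ0).isSMulRegular
    have h2 : IsSMulRegular S (algebraMap Λ S π) := IsSMulRegular.of_flat h1
    exact IsSMulRegular.of_flat h2
  haveI : IsNoetherianRing (Localization.AtPrime r) :=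
    IsLocalization.isNoetherianRing r.primeCompl _ inferInstance
  have hG := (Groth.Agent.Helper6.Rees.main (Localization.AtPrime r) f hfm hreg).1
    (hS.isGorensteinLocalRing_localization r)
  exact gorLocal_of_ringEquiv (Ideal.quotEquivOfEq hI.symm) hG

end Fibres

section Final

variable (Λ : Type u) [CommRing Λ] [IsDomain Λ] [IsPrincipalIdealRing Λ]
  (S : Type u) [CommRing S] [Algebra Λ S] [Module.Finite Λ S] [Module.Free Λ S] [IsReduced S]
  (M : Type u) [AddCommGroup M] [Module S M] [Module Λ M] [IsScalarTower Λ S M] [Module.Finite S M]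

theorem exists_form_generic :
    ∃ φ : S →ₗ[Λ] Λ, (gram (Module.Free.chooseBasis Λ S) φ).det ≠ 0 := by
  classical
  haveI : (⊥ : Ideal Λ).IsPrime := Ideal.isPrime_bot
  haveI := gorenstein_generic_fibre Λ S
  obtain ⟨φ, hφ⟩ := exists_gram_not_mem (Module.Free.chooseBasis Λ S) (⊥ : Ideal Λ)
  exact ⟨φ, fun h => hφ (by rw [h]; exact zero_mem _)⟩

theorem exists_form_of_gorenstein [hS : LocCoh.IsGorensteinRing S] (p : Ideal Λ) [p.IsPrime] :
    ∃ φ : S →ₗ[Λ] Λ, (gram (Module.Free.chooseBasis Λ S) φ).det ∉ p := by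
  classical
  by_cases hp0 : p = ⊥
  · subst hp0
    obtain ⟨φ, hφ⟩ := exists_form_generic Λ S
    exact ⟨φ, fun h => hφ (by simpa using h)⟩
  · haveI := gorenstein_fibre_of_ne_bot Λ S p hp0
    exact exists_gram_not_mem (Module.Free.chooseBasis Λ S) p

theorem free_of_injective (h : Function.Injective (Module.Dual.eval S M)) : Module.Free Λ M := by
  haveI : Module.Finite Λ M := Module.Finite.trans S M
  haveI : Module.IsTorsionFree Λ M := by
    refine ⟨fun r hr m₁ m₂ hm => h ?_⟩
    apply LinearMap.ext
    intro f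
    rw [Module.Dual.eval_apply, Module.Dual.eval_apply]
    have h1 : r • f m₁ = r • f m₂ := by
      rw [← LinearMap.map_smul_of_tower, ← LinearMap.map_smul_of_tower]
      exact congrArg f hm
    exact (Module.IsTorsionFree.isSMulRegular hr) h1
  exact Module.free_of_finite_type_torsion_free'

theorem injective_of_free [Module.Free Λ M] : Function.Injective (Module.Dual.eval S M) := by
  classical
  haveI : Module.Finite Λ M := Module.Finite.trans S M
  obtain ⟨φ, hd⟩ := exists_form_generic Λ S
  rw [injective_iff_map_eq_zero]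
  intro m hm
  by_contra hm0
  obtain ⟨ψ, hψ⟩ : ∃ ψ : Module.Dual Λ M, ψ m ≠ 0 := by
    by_contra hcon
    push_neg at hcon
    exact hm0 ((Module.forall_dual_apply_eq_zero_iff Λ m).1 hcon)
  obtain ⟨f, hf⟩ := exists_dual (Module.Free.chooseBasis Λ S) φ hd ψ
  have h1 : f m = 0 := by
    have := LinearMap.congr_fun hm f
    rwa [Module.Dual.eval_apply] at this
  have h2 := hf m
  rw [h1, map_zero] at h2
  exact (smul_ne_zero hd hψ) h2.symm

theorem surjective_of_free [hS : LocCoh.IsGorensteinRing S] [Module.Free Λ M] :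
    Function.Surjective (Module.Dual.eval S M) := by
  classical
  haveI : Module.Finite Λ M := Module.Finite.trans S M
  intro F
  let I : Ideal Λ :=
    { carrier := {a | ∃ m : M, ∀ f : Module.Dual S M, f m = a • F f}
      add_mem' := by
        rintro a b ⟨m, hm⟩ ⟨m', hm'⟩
        exact ⟨m + m', fun f => by rw [map_add, hm, hm', add_smul]⟩
      zero_mem' := ⟨0, fun f => by rw [map_zero, zero_smul]⟩
      smul_mem' := by
        rintro c a ⟨m, hm⟩
        exact ⟨c • m, fun f => by
          rw [LinearMap.map_smul_of_tower, hm, smul_eq_mul, mul_smul]⟩ }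
  have hI : I = ⊤ := by
    by_contra hne
    obtain ⟨p, hp, hIp⟩ := Ideal.exists_le_maximal I hne
    haveI := hp.isPrime
    obtain ⟨φ, hφ⟩ := exists_form_of_gorenstein Λ S p
    have hd : (gram (Module.Free.chooseBasis Λ S) φ).det ≠ 0 :=
      fun h => hφ (by rw [h]; exact zero_mem _)
    obtain ⟨m, hm⟩ := exists_eval_eq (Module.Free.chooseBasis Λ S) φ hd F
    exact hφ (hIp ⟨m, hm⟩)
  obtain ⟨m, hm⟩ : (1 : Λ) ∈ I := by rw [hI]; exact Submodule.mem_top
  refine ⟨m, ?_⟩
  apply LinearMap.ext
  intro f
  rw [Module.Dual.eval_apply, hm, one_smul]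

/-- **S17988** -/
theorem s17988 :
    (Function.Injective (Module.Dual.eval S M) ↔ Module.Free Λ M) ∧
      (LocCoh.IsGorensteinRing S → (Module.IsReflexive S M ↔ Module.Free Λ M)) := by
  refine ⟨⟨free_of_injective Λ S M, fun h => injective_of_free Λ S M⟩, fun hS => ⟨fun h => ?_, fun h => ?_⟩⟩
  · exact free_of_injective Λ S M (Module.bijective_dual_eval S M).1
  · exact ⟨injective_of_free Λ S M, surjective_of_free Λ S M⟩

end Final

end Groth.Agent.Helper3.DualEval
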