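import Mathlib
set_option linter.style.haveILetI false
set_option linter.unusedSectionVars false

universe u
open scoped KaehlerDifferential

namespace Groth.Agent.Helper3.DualNum

/-- the algebra hom `R → k[ε]` attached to a character and a derivation-like map. -/
noncomputable def mkHom {k R : Type*} [Field k] [CommRing R] [Algebra k R]
    (χ : R →ₐ[k] k) (δ : R →+ k) (hδ : ∀ a b, δ (a * b) = χ a * δ b + χ b * δ a)
    (hδk : ∀ c : k, δ (algebraMap k R c) = 0) : R →ₐ[k] DualNumber k where
  toFun r := TrivSqZeroExt.inl (χ r) + TrivSqZeroExt.inr (δ r)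
  map_one' := by
    have : δ 1 = 0 := by simpa using hδk 1
    ext <;> simp [this]
  map_mul' a b := by
    ext
    · simp
    · simp [hδ a b, mul_comm]
  map_zero' := by ext <;> simp
  map_add' a b := by
    ext
    · simp
    · simp
  commutes' c := by
    rw [TrivSqZeroExt.algebraMap_eq_inl']
    simp [hδk c]

theorem main (k R : Type u) [Field k] [IsAlgClosed k] [CommRing R] [Algebra k R]
    [Algebra.FiniteType k R]
    (H : ∀ φ₁ φ₂ : R →ₐ[k] DualNumber k,
      (TrivSqZeroExt.fstHom k k k).comp φ₁ = (TrivSqZeroExt.fstHom k k k).comp φ₂ → φ₁ = φ₂) :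
    Algebra.FormallyUnramified k R := by
  classical
  refine ⟨?_⟩
  by_contra hns
  rw [not_subsingleton_iff_nontrivial] at hns
  -- a maximal ideal with nonzero fibre
  have hann : Module.annihilator R (Ω[R⁄k]) ≠ ⊤ := by
    intro h
    have h1 : (1 : R) ∈ Module.annihilator R (Ω[R⁄k]) := h ▸ Submodule.mem_top
    obtain ⟨x, hx⟩ := exists_ne (0 : Ω[R⁄k])
    apply hx
    have := Module.mem_annihilator.mp h1 x
    rwa [one_smul] at this
  obtain ⟨m, hm, hle⟩ := Ideal.exists_le_maximal _ hann
  have hne : m • (⊤ : Submodule R (Ω[R⁄k])) ≠ ⊤ := by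
    intro h
    obtain ⟨r, hr1, hr⟩ := Submodule.exists_sub_one_mem_and_smul_eq_zero_of_fg_of_le_smul m
      (⊤ : Submodule R (Ω[R⁄k])) Module.Finite.fg_top h.ge
    have hrann : r ∈ Module.annihilator R (Ω[R⁄k]) :=
      Module.mem_annihilator.mpr fun x => hr x Submodule.mem_top
    have hrm : r ∈ m := hle hrann
    have : (1 : R) ∈ m := by
      have := m.sub_mem hrm hr1
      simpa using this
    exact hm.ne_top (m.eq_top_of_isUnit_mem this isUnit_one)
  set Q := (Ω[R⁄k]) ⧸ (m • (⊤ : Submodule R (Ω[R⁄k]))) with hQ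
  haveI : Nontrivial Q := Submodule.Quotient.nontrivial_iff.mpr hne
  letI : Field (R ⧸ m) := Ideal.Quotient.field m
  obtain ⟨q, hq⟩ := exists_ne (0 : Q)
  obtain ⟨l, hl⟩ : ∃ l : Module.Dual (R ⧸ m) Q, l q ≠ 0 := by
    by_contra h
    push Not at h
    exact hq ((Module.forall_dual_apply_eq_zero_iff (R ⧸ m) q).mp h)
  haveI : Module.Finite k (R ⧸ m) := finite_of_finite_type_of_isJacobsonRing k (R ⧸ m)
  have hbij : Function.Bijective (algebraMap k (R ⧸ m)) :=
    IsAlgClosed.algebraMap_bijective_of_isIntegral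
  let e : (R ⧸ m) ≃ₐ[k] k := (AlgEquiv.ofBijective (Algebra.ofId k (R ⧸ m)) hbij).symm
  let χ : R →ₐ[k] k := e.toAlgHom.comp (Ideal.Quotient.mkₐ k m)
  let δ : R →+ k :=
    { toFun := fun r => e (l (Submodule.Quotient.mk (KaehlerDifferential.D k R r)))
      map_zero' := by simp
      map_add' := by intro a b; simp }
  have hδ : ∀ a b, δ (a * b) = χ a * δ b + χ b * δ a := by
    intro a b
    have hsm : ∀ (r : R) (x : Q), r • x = (Ideal.Quotient.mk m r) • x := by
      intro r x
      rw [← Ideal.Quotient.algebraMap_eq, algebraMap_smul]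
    change e (l (Submodule.Quotient.mk (KaehlerDifferential.D k R (a * b)))) =
      e (Ideal.Quotient.mk m a) * e (l (Submodule.Quotient.mk (KaehlerDifferential.D k R b))) +
      e (Ideal.Quotient.mk m b) * e (l (Submodule.Quotient.mk (KaehlerDifferential.D k R a)))
    rw [Derivation.leibniz, Submodule.Quotient.mk_add, Submodule.Quotient.mk_smul,
      Submodule.Quotient.mk_smul, hsm, hsm, map_add, map_smul, map_smul, smul_eq_mul, smul_eq_mul,
      map_add, map_mul, map_mul]
  have hδk : ∀ c : k, δ (algebraMap k R c) = 0 := by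
    intro c
    change e (l (Submodule.Quotient.mk (KaehlerDifferential.D k R (algebraMap k R c)))) = 0
    rw [Derivation.map_algebraMap]
    simp
  let φ₂ := mkHom χ δ hδ hδk
  let φ₁ := mkHom χ 0 (by intro a b; simp) (by intro c; simp)
  have h12 : φ₁ = φ₂ := by
    apply H
    ext r
    simp [φ₁, φ₂, mkHom]
  have hδ0 : ∀ r, δ r = 0 := by
    intro r
    have := congrArg (fun φ : R →ₐ[k] DualNumber k => TrivSqZeroExt.snd (φ r)) h12
    simpa [φ₁, φ₂, mkHom] using this.symm
  -- hence l vanishes
  let L : Ω[R⁄k] →ₗ[R] (R ⧸ m) := (l.restrictScalars R).comp (Submodule.mkQ _)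
  have hL : ∀ r, L (KaehlerDifferential.D k R r) = 0 := by
    intro r
    have := hδ0 r
    change e (l (Submodule.Quotient.mk (KaehlerDifferential.D k R r))) = 0 at this
    rwa [map_eq_zero_iff e e.injective] at this
  have hLtop : (⊤ : Submodule R (Ω[R⁄k])) ≤ LinearMap.ker L := by
    rw [← KaehlerDifferential.span_range_derivation, Submodule.span_le]
    rintro _ ⟨r, rfl⟩
    exact hL r
  obtain ⟨ω, rfl⟩ := Submodule.Quotient.mk_surjective _ q
  exact hl (hLtop (Submodule.mem_top (x := ω)))

end Groth.Agent.Helper3.DualNum
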