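import Mathlib

set_option linter.style.haveILetI false
set_option linter.unusedSectionVars false
set_option linter.unusedVariables false

namespace Groth.Agent.Helper3.PruferInt

universe u

open Finset

section Val

variable {L : Type*} [Field L] {Γ : Type*} [LinearOrderedCommGroupWithZero Γ] (v : Valuation L Γ)

/-- geometric sum -/
noncomputable def g (x : L) (s : ℕ) : L := ∑ k ∈ range s, x ^ k

lemma g_zero (x : L) : g x 0 = 0 := by simp [g]
lemma g_one (x : L) : g x 1 = 1 := by simp [g]
lemma g_succ (x : L) (s : ℕ) : g x (s + 1) = g x s + x ^ s := by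
  simp [g, Finset.sum_range_succ]
lemma g_add (x : L) (s t : ℕ) : g x (s + t) = g x s + x ^ s * g x t := by
  simp only [g, Finset.sum_range_add, Finset.mul_sum, pow_add]

lemma v_g_of_gt (x : L) (hx : 1 < v x) (s : ℕ) : v (g x (s + 1)) = v x ^ s := by
  induction s with
  | zero => simp [g_one]
  | succ s ih =>
    rw [g_succ]
    have : v (g x (s + 1)) < v (x ^ (s + 1)) := by
      rw [ih, map_pow]
      exact pow_lt_pow_right₀ hx (Nat.lt_succ_self s)
    rw [Valuation.map_add_eq_of_lt_right v this, map_pow]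

lemma v_g_le_one (x : L) (hx : v x ≤ 1) (s : ℕ) : v (g x s) ≤ 1 := by
  induction s with
  | zero => simp [g_zero]
  | succ s ih =>
    rw [g_succ]
    refine Valuation.map_add_le v ih ?_
    rw [map_pow]
    exact pow_le_one₀ zero_le' hx

/-- the bad set: `s` with `v (g x s) < 1` is contained in the multiples of some `d ≥ 2`. -/
lemma exists_d (x : L) (hx : v x ≤ 1) : ∃ d : ℕ, 2 ≤ d ∧ ∀ s, v (g x s) < 1 → d ∣ s := by
  classical
  by_cases hB : ∃ s, 0 < s ∧ v (g x s) < 1
  · let d := Nat.find hB
    have hd : 0 < d ∧ v (g x d) < 1 := Nat.find_spec hB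
    have hmin : ∀ s, 0 < s → v (g x s) < 1 → d ≤ s := fun s h1 h2 => Nat.find_min' hB ⟨h1, h2⟩
    have hvx : v x = 1 := by
      rcases lt_or_eq_of_le hx with h | h
      · exfalso
        -- g x d = 1 + x * g x (d-1)
        obtain ⟨e, he⟩ : ∃ e, d = 1 + e := ⟨d - 1, by omega⟩
        have h1 : g x d = 1 + x * g x e := by
          rw [he, g_add, g_one, pow_one]
        have h2 : v (x * g x e) < 1 := by
          rw [map_mul]
          calc v x * v (g x e) ≤ v x * 1 := by gcongr; exact v_g_le_one v x hx e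
            _ = v x := mul_one _
            _ < 1 := h
        have h3 := Valuation.map_one_add_of_lt v h2
        rw [← h1] at h3
        exact absurd hd.2 (by rw [h3]; exact lt_irrefl _)
      · exact h
    refine ⟨d, ?_, ?_⟩
    · by_contra hlt
      have : d = 1 := by omega
      have h2 := hd.2
      rw [this, g_one, map_one] at h2
      exact lt_irrefl _ h2
    · intro s
      induction s using Nat.strong_induction_on with
      | _ s ih =>
        intro hs
        by_cases hs0 : s = 0
        · simp [hs0]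
        · have hds : d ≤ s := hmin s (Nat.pos_of_ne_zero hs0) hs
          obtain ⟨t, rfl⟩ : ∃ t, s = d + t := ⟨s - d, by omega⟩
          have h1 : v (x ^ d * g x t) < 1 := by
            have : x ^ d * g x t = g x (d + t) - g x d := by rw [g_add]; ring
            rw [this]
            exact Valuation.map_sub_lt v hs hd.2
          rw [map_mul, map_pow, hvx, one_pow, one_mul] at h1
          have := ih t (by omega) h1
          exact Dvd.dvd.add (dvd_refl d) this
  · refine ⟨2, le_refl 2, ?_⟩
    intro s hs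
    by_cases hs0 : s = 0
    · simp [hs0]
    · exact absurd ⟨s, Nat.pos_of_ne_zero hs0, hs⟩ hB

end Val

section Key

variable {L : Type u} [Field L] {ι : Type*} [Finite ι] (V : ι → ValuationSubring L)

theorem key (x : L) : ∃ s : ℕ, 2 ≤ s ∧ (∀ i, g x s ≠ 0 ∧ (g x s)⁻¹ ∈ V i ∧ x * (g x s)⁻¹ ∈ V i) ∧
    (∀ i, x ∈ V i → g x s ∈ V i) := by
  classical
  have : ∀ i, ∃ d : ℕ, 2 ≤ d ∧ (x ∈ V i → ∀ s, (V i).valuation (g x s) < 1 → d ∣ s) := by
    intro i
    by_cases h : x ∈ V i
    · obtain ⟨d, hd, hd'⟩ := exists_d (V i).valuation x (((V i).valuation_le_one_iff x).mpr h)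
      exact ⟨d, hd, fun _ => hd'⟩
    · exact ⟨2, le_refl _, fun h' => absurd h' h⟩
  choose d hd2 hd using this
  haveI := Fintype.ofFinite ι
  have hprod : 1 ≤ ∏ i, d i := by
    have : 0 < ∏ i, d i := Finset.prod_pos (fun i _ => by have := hd2 i; omega)
    omega
  refine ⟨1 + ∏ i, d i, by omega, ?_⟩
  have hcase : ∀ i, (x ∈ V i → (V i).valuation (g x (1 + ∏ i, d i)) = 1) ∧
      (x ∉ V i → 1 < (V i).valuation x ∧
        (V i).valuation (g x (1 + ∏ i, d i)) = (V i).valuation x ^ (∏ i, d i)) := by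
    intro i
    constructor
    · intro hx
      have hle := v_g_le_one (V i).valuation x (((V i).valuation_le_one_iff x).mpr hx)
        (1 + ∏ i, d i)
      rcases lt_or_eq_of_le hle with hlt | heq
      · exfalso
        have h1 := hd i hx _ hlt
        have h2 : d i ∣ ∏ i, d i := Finset.dvd_prod_of_mem d (Finset.mem_univ i)
        have h3 : d i ∣ 1 := (Nat.dvd_add_left h2).mp h1
        have := Nat.le_of_dvd one_pos h3
        have := hd2 i
        omega
      · exact heq
    · intro hx
      have hgt : 1 < (V i).valuation x := by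
        by_contra hle
        exact hx (((V i).valuation_le_one_iff x).mp (not_lt.mp hle))
      refine ⟨hgt, ?_⟩
      rw [add_comm]
      exact v_g_of_gt (V i).valuation x hgt _
  refine ⟨fun i => ?_, fun i hx => ?_⟩
  · by_cases hx : x ∈ V i
    · have h1 := (hcase i).1 hx
      have hne : g x (1 + ∏ i, d i) ≠ 0 := by
        intro h0
        rw [h0, map_zero] at h1
        exact zero_ne_one h1
      have hinv : (g x (1 + ∏ i, d i))⁻¹ ∈ V i := by
        rw [← (V i).valuation_le_one_iff, map_inv₀, h1, inv_one]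
      exact ⟨hne, hinv, (V i).mul_mem _ _ hx hinv⟩
    · obtain ⟨hgt, h1⟩ := (hcase i).2 hx
      have hpos : (0 : (V i).ValueGroup) < (V i).valuation x := lt_trans zero_lt_one hgt
      have hne : g x (1 + ∏ i, d i) ≠ 0 := by
        intro h0
        rw [h0, map_zero] at h1
        exact (pow_ne_zero _ hpos.ne') h1.symm
      have hpowpos : (0 : (V i).ValueGroup) < (V i).valuation x ^ (∏ i, d i) := pow_pos hpos _
      refine ⟨hne, ?_, ?_⟩
      · rw [← (V i).valuation_le_one_iff, map_inv₀, h1]
        exact inv_le_one_of_one_le₀ (one_le_pow₀ hgt.le)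
      · rw [← (V i).valuation_le_one_iff, map_mul, map_inv₀, h1, ← div_eq_mul_inv,
          div_le_one₀ hpowpos]
        exact le_self_pow₀ hgt.le (by omega)
  · rw [← (V i).valuation_le_one_iff, (hcase i).1 hx]

end Key

section General

variable {L : Type u} [Field L] (K : Subfield L) {ι : Type*} [Finite ι] [Nonempty ι]
  (V : ι → ValuationSubring L) (T : Subring L) (hT : ∀ x, x ∈ T ↔ x ∈ K ∧ ∀ i, x ∈ V i)

include hT in
theorem exists_u (x : L) (hx : x ∈ K) :
    ∃ u : L, u ≠ 0 ∧ u ∈ T ∧ x * u ∈ T ∧ ∀ i, x ∈ V i → u⁻¹ ∈ V i := by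
  obtain ⟨s, -, h1, h2⟩ := key V x
  have hgK : g x s ∈ K := by
    unfold g
    exact Subfield.sum_mem K (fun k _ => pow_mem hx k)
  have hne : g x s ≠ 0 := (h1 (Classical.arbitrary ι)).1
  refine ⟨(g x s)⁻¹, inv_ne_zero hne, (hT _).mpr ⟨inv_mem hgK, fun i => (h1 i).2.1⟩,
    (hT _).mpr ⟨mul_mem hx (inv_mem hgK), fun i => (h1 i).2.2⟩, fun i hxi => ?_⟩
  rw [inv_inv]
  exact h2 i hxi

omit [Finite ι] [Nonempty ι] in
include hT in
theorem T_le (i : ι) : T ≤ (V i).toSubring := fun x hx => ((hT x).mp hx).2 i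

/-- the prime of `T` cut out by the maximal ideal of `V i`. -/
noncomputable def P (i : ι) : Ideal T :=
  Ideal.comap (Subring.inclusion (T_le K V T hT i)) (IsLocalRing.maximalIdeal (V i))

instance (i : ι) : (P K V T hT i).IsPrime := by
  unfold P
  exact Ideal.comap_isPrime _ _

omit [Finite ι] [Nonempty ι] in
theorem mem_P (i : ι) (t : T) : t ∈ P K V T hT i ↔ (V i).valuation (t : L) < 1 := by
  unfold P
  rw [Ideal.mem_comap, ValuationSubring.valuation_lt_one_iff]
  rfl

theorem isUnit_of_notMem (t : T) (ht : ∀ i, t ∉ P K V T hT i) : IsUnit t := by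
  have hv : ∀ i, (V i).valuation (t : L) = 1 := by
    intro i
    have h1 : (V i).valuation (t : L) ≤ 1 :=
      ((V i).valuation_le_one_iff _).mpr (T_le K V T hT i t.2)
    have h2 := ht i
    rw [mem_P] at h2
    exact le_antisymm h1 (not_lt.mp h2)
  have hne : (t : L) ≠ 0 := by
    intro h0
    have := hv (Classical.arbitrary ι)
    rw [h0, map_zero] at this
    exact zero_ne_one this
  have hinv : (t : L)⁻¹ ∈ T := by
    rw [hT]
    refine ⟨inv_mem ((hT _).mp t.2).1, fun i => ?_⟩
    rw [← (V i).valuation_le_one_iff, map_inv₀, hv i, inv_one]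
  rw [isUnit_iff_exists_inv]
  refine ⟨⟨(t : L)⁻¹, hinv⟩, ?_⟩
  apply Subtype.ext
  change (t : L) * (t : L)⁻¹ = 1
  exact mul_inv_cancel₀ hne

theorem exists_le_P (I : Ideal T) (hI : I ≠ ⊤) : ∃ i, I ≤ P K V T hT i := by
  classical
  haveI := Fintype.ofFinite ι
  by_contra hcon
  have h1 : ¬ ∃ i ∈ (Finset.univ : Finset ι), I ≤ P K V T hT i := by
    rintro ⟨i, -, hi⟩
    exact hcon ⟨i, hi⟩
  rw [← Ideal.subset_union_prime (Classical.arbitrary ι) (Classical.arbitrary ι)
    (fun i _ _ _ => inferInstance)] at h1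
  rw [Set.not_subset] at h1
  obtain ⟨t, htI, htU⟩ := h1
  have ht : ∀ i, t ∉ P K V T hT i := by
    intro i hi
    apply htU
    simp only [Finset.coe_univ, Set.mem_univ, Set.iUnion_true, Set.mem_iUnion, SetLike.mem_coe]
    exact ⟨i, hi⟩
  exact hI (Ideal.eq_top_of_isUnit_mem I htI (isUnit_of_notMem K V T hT t ht))

include hT in
theorem finite_maxSpec : Finite (MaximalSpectrum T) := by
  have h : ∀ M : MaximalSpectrum T, ∃ i, M.asIdeal ≤ P K V T hT i :=
    fun M => exists_le_P K V T hT M.asIdeal M.isMaximal.ne_top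
  choose f hf using h
  have hf' : ∀ M : MaximalSpectrum T, M.asIdeal = P K V T hT (f M) := fun M =>
    M.isMaximal.eq_of_le (Ideal.IsPrime.ne_top inferInstance) (hf M)
  refine Finite.of_injective f ?_
  intro M M' h
  apply MaximalSpectrum.ext
  rw [hf' M, hf' M', h]

theorem div_lemma (p : Ideal T) (i : ι) (hp : p ≤ P K V T hT i) (a' b' : T)
    (hb : (b' : L) ≠ 0) (h : (a' : L) / (b' : L) ∈ V i) :
    ∃ c d : T, d ∉ p ∧ a' * d = c * b' := by
  have hxK : (a' : L) / (b' : L) ∈ K := div_mem ((hT _).mp a'.2).1 ((hT _).mp b'.2).1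
  obtain ⟨u, hu0, huT, hxuT, hu⟩ := exists_u K V T hT _ hxK
  refine ⟨⟨_, hxuT⟩, ⟨u, huT⟩, ?_, ?_⟩
  · intro hmem
    have h1 := hp hmem
    rw [mem_P] at h1
    have h2 := ((V i).valuation_le_one_iff _).mpr (hu i h)
    rw [map_inv₀] at h2
    change (V i).valuation u < 1 at h1
    have hpos : (0 : (V i).ValueGroup) < (V i).valuation u := by
      rw [Valuation.pos_iff]; exact hu0
    rw [inv_le_one₀ hpos] at h2
    exact absurd h1 (not_lt.mpr h2)
  · apply Subtype.ext
    change (a' : L) * u = ((a' : L) / (b' : L) * u) * (b' : L)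
    field_simp

include hT in
theorem valuationRing_loc (p : Ideal T) [p.IsPrime] :
    ValuationRing (Localization.AtPrime p) := by
  obtain ⟨i, hp⟩ := exists_le_P K V T hT p (Ideal.IsPrime.ne_top inferInstance)
  refine { toPreValuationRing := ⟨fun a b => ?_⟩ }
  obtain ⟨a', s, rfl⟩ := IsLocalization.exists_mk'_eq p.primeCompl a
  obtain ⟨b', t, rfl⟩ := IsLocalization.exists_mk'_eq p.primeCompl b
  by_cases hb : b' = 0
  · exact ⟨0, Or.inl (by rw [hb, IsLocalization.mk'_zero, mul_zero])⟩
  by_cases ha : a' = 0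
  · exact ⟨0, Or.inr (by rw [ha, IsLocalization.mk'_zero, mul_zero])⟩
  have hbL : (b' : L) ≠ 0 := fun h => hb (Subtype.ext h)
  have haL : (a' : L) ≠ 0 := fun h => ha (Subtype.ext h)
  rcases (V i).mem_or_inv_mem ((a' : L) / b') with h | h
  · obtain ⟨c, d, hd, hcd⟩ := div_lemma K V T hT p i hp a' b' hbL h
    refine ⟨IsLocalization.mk' _ (c * t) (⟨d, hd⟩ * s), Or.inr ?_⟩
    rw [← IsLocalization.mk'_mul, IsLocalization.mk'_eq_iff_eq]
    congr 1
    simp only [Submonoid.coe_mul]
    linear_combination (-(t : T) * (s : T)) * hcd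
  · rw [inv_div] at h
    obtain ⟨c, d, hd, hcd⟩ := div_lemma K V T hT p i hp b' a' haL h
    refine ⟨IsLocalization.mk' _ (c * s) (⟨d, hd⟩ * t), Or.inl ?_⟩
    rw [← IsLocalization.mk'_mul, IsLocalization.mk'_eq_iff_eq]
    congr 1
    simp only [Submonoid.coe_mul]
    linear_combination (-(t : T) * (s : T)) * hcd

include hT in
theorem general :
    (∀ (p : Ideal T) [p.IsPrime], ValuationRing (Localization.AtPrime p)) ∧
      Finite (MaximalSpectrum T) ∧
      ∀ x : L, x ∈ K → ∃ a b : L, a ∈ T ∧ b ∈ T ∧ b ≠ 0 ∧ x = a / b := by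
  refine ⟨fun p _ => valuationRing_loc K V T hT p, finite_maxSpec K V T hT, fun x hx => ?_⟩
  obtain ⟨u, hu0, huT, hxuT, -⟩ := exists_u K V T hT x hx
  exact ⟨x * u, u, hxuT, huT, hu0, by field_simp⟩

end General

section Specific

variable (R L : Type u) [CommRing R] [IsDomain R] [Field L] [Algebra R L] [IsFractionRing R L]

/-- the canonical map `R_m → L` -/
noncomputable def φ (m : Ideal R) (hm : m.IsPrime) : Localization.AtPrime m →+* L :=
  IsLocalization.lift (M := m.primeCompl) (g := algebraMap R L) (fun y => by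
    apply IsUnit.mk0
    exact (map_ne_zero_iff _ (IsFractionRing.injective R L)).mpr
      (fun h => y.2 (h ▸ m.zero_mem)))

lemma φ_algebraMap (m : Ideal R) (hm : m.IsPrime) (r : R) :
    φ R L m hm (algebraMap R (Localization.AtPrime m) r) = algebraMap R L r := by
  unfold φ
  exact IsLocalization.lift_eq _ _

/-- the valuation subring of `L` attached to a prime `m` with `R_m` a valuation ring -/
noncomputable def VS (m : Ideal R) (hm : m.IsPrime) (h : ValuationRing (Localization.AtPrime m)) :
    ValuationSubring L :=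
  { (φ R L m hm).range with
    mem_or_inv_mem' := by
      intro x
      obtain ⟨a, b, hb, rfl⟩ := IsFractionRing.div_surjective (A := R) x
      have hb0 : algebraMap R L b ≠ 0 :=
        (map_ne_zero_iff _ (IsFractionRing.injective R L)).mpr (nonZeroDivisors.ne_zero hb)
      obtain ⟨c, hc | hc⟩ := ValuationRing.cond (algebraMap R (Localization.AtPrime m) a)
        (algebraMap R (Localization.AtPrime m) b)
      · right
        have h1 := congrArg (φ R L m hm) hc
        rw [map_mul, φ_algebraMap, φ_algebraMap] at h1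
        have ha0 : algebraMap R L a ≠ 0 := by
          intro h0
          rw [h0, zero_mul] at h1
          exact hb0 h1.symm
        refine ⟨c, ?_⟩
        rw [inv_div, eq_div_iff ha0, mul_comm]
        exact h1
      · left
        have h1 := congrArg (φ R L m hm) hc
        rw [map_mul, φ_algebraMap, φ_algebraMap] at h1
        refine ⟨c, ?_⟩
        rw [eq_div_iff hb0, mul_comm]
        exact h1 }

lemma mem_VS (m : Ideal R) (hm : m.IsPrime) (h : ValuationRing (Localization.AtPrime m)) (x : L) :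
    x ∈ VS R L m hm h ↔ ∃ y, φ R L m hm y = x := Iff.rfl

theorem hT_spec (hR : ∀ (p : Ideal R) [p.IsPrime], ValuationRing (Localization.AtPrime p))
    (K : Subfield L) (x : L) :
    x ∈ (algebraMap R L).range ⊓ K.toSubring ↔
      x ∈ K ∧ ∀ m : MaximalSpectrum R,
        x ∈ VS R L m.asIdeal m.isMaximal.isPrime (@hR m.asIdeal m.isMaximal.isPrime) := by
  constructor
  · rintro ⟨⟨r, rfl⟩, hK⟩
    refine ⟨hK, fun m => ?_⟩
    rw [mem_VS]
    exact ⟨_, φ_algebraMap R L _ _ r⟩
  · rintro ⟨hK, hV⟩
    refine ⟨?_, hK⟩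
    let N : Submodule R L := LinearMap.range (Algebra.linearMap R L)
    let I : Ideal R := N.colon {x}
    have hI : I = ⊤ := by
      by_contra hne
      obtain ⟨m, hm, hIm⟩ := Ideal.exists_le_maximal I hne
      have hx := hV ⟨m, hm⟩
      rw [mem_VS] at hx
      obtain ⟨y, hy⟩ := hx
      obtain ⟨r, s, rfl⟩ := IsLocalization.exists_mk'_eq m.primeCompl y
      have hsI : (s : R) ∈ I := by
        rw [Submodule.mem_colon_singleton]
        refine ⟨r, ?_⟩
        rw [Algebra.linearMap_apply, Algebra.smul_def, ← hy]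
        have h1 := IsLocalization.mk'_spec' (Localization.AtPrime m) r s
        have h2 := congrArg (φ R L m hm.isPrime) h1
        rw [map_mul, φ_algebraMap, φ_algebraMap] at h2
        exact h2.symm
      exact s.2 (hIm hsI)
    have h1 : (1 : R) ∈ I := by rw [hI]; trivial
    rw [Submodule.mem_colon_singleton, one_smul] at h1
    obtain ⟨r, hr⟩ := h1
    exact ⟨r, hr⟩

theorem main (hR : ∀ (p : Ideal R) [p.IsPrime], ValuationRing (Localization.AtPrime p))
    (hfin : Finite (MaximalSpectrum R)) (K : Subfield L) :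
    (∀ (p : Ideal ↥((algebraMap R L).range ⊓ K.toSubring)) [p.IsPrime],
        ValuationRing (Localization.AtPrime p)) ∧
      Finite (MaximalSpectrum ↥((algebraMap R L).range ⊓ K.toSubring)) ∧
      ∀ x : L, x ∈ K → ∃ a b : L, a ∈ (algebraMap R L).range ⊓ K.toSubring ∧
        b ∈ (algebraMap R L).range ⊓ K.toSubring ∧ b ≠ 0 ∧ x = a / b := by
  haveI : Nonempty (MaximalSpectrum R) := by
    obtain ⟨m, hm⟩ := Ideal.exists_maximal R
    exact ⟨⟨m, hm⟩⟩
  exact general K (fun m : MaximalSpectrum R =>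
    VS R L m.asIdeal m.isMaximal.isPrime (@hR m.asIdeal m.isMaximal.isPrime))
    ((algebraMap R L).range ⊓ K.toSubring) (hT_spec R L hR K)

end Specific

end Groth.Agent.Helper3.PruferInt
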