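import Mathlib
import Groth.Agent.Helper3.PruferInt

set_option linter.style.haveILetI false
set_option linter.unusedSectionVars false
set_option linter.unusedVariables false

namespace Groth.Agent.Helper3.DvrApprox

open Groth.Agent.Helper3.PruferInt

universe u

/-- powers of elements of the maximal ideal of a DVR are eventually divisible by `c * m`. -/
theorem exists_pow_eq {A : Type*} [CommRing A] [IsDomain A] [IsDiscreteValuationRing A]
    (a c : A) (ha : a ∈ IsLocalRing.maximalIdeal A) (hc : c ≠ 0) :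
    ∃ N : ℕ, ∃ y ∈ IsLocalRing.maximalIdeal A, a ^ N = c * y := by
  obtain ⟨ϖ, hϖ⟩ := IsDiscreteValuationRing.exists_irreducible A
  by_cases ha0 : a = 0
  · exact ⟨1, 0, Ideal.zero_mem _, by simp [ha0]⟩
  obtain ⟨d, u, hu⟩ := IsDiscreteValuationRing.eq_unit_mul_pow_irreducible ha0 hϖ
  obtain ⟨e, w, hw⟩ := IsDiscreteValuationRing.eq_unit_mul_pow_irreducible hc hϖ
  have hd : d ≠ 0 := by
    rintro rfl
    rw [pow_zero, mul_one] at hu
    rw [IsLocalRing.mem_maximalIdeal, mem_nonunits_iff] at ha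
    exact ha (hu ▸ u.isUnit)
  obtain ⟨d', rfl⟩ := Nat.exists_eq_succ_of_ne_zero hd
  have hϖm : ϖ ∈ IsLocalRing.maximalIdeal A := by
    rw [IsLocalRing.mem_maximalIdeal, mem_nonunits_iff]
    exact hϖ.not_isUnit
  refine ⟨e + 1, ((w⁻¹ : Aˣ) : A) * (u : A) ^ (e + 1) * ϖ ^ (d' * (e + 1)) * ϖ,
    Ideal.mul_mem_left _ _ hϖm, ?_⟩
  rw [hu, hw]
  have h1 : ((w : A)) * ((w⁻¹ : Aˣ) : A) = 1 := by simp
  have h2 : (ϖ ^ (d' + 1)) ^ (e + 1) = ϖ ^ e * ϖ ^ (d' * (e + 1)) * ϖ := by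
    rw [← pow_mul, ← pow_add, ← pow_succ]
    congr 1
    ring
  rw [mul_pow, h2]
  linear_combination (-(u : A) ^ (e + 1) * ϖ ^ e * ϖ ^ (d' * (e + 1)) * ϖ) * h1

variable {K : Type u} [Field K] {ι : Type} [Finite ι] [Nonempty ι] (O : ι → ValuationSubring K)

/-- intersection ring -/
def T : Subring K := ⨅ i, (O i).toSubring

omit [Finite ι] [Nonempty ι] in
theorem hT (x : K) : x ∈ T O ↔ x ∈ (⊤ : Subfield K) ∧ ∀ i, x ∈ O i := by
  simp [T, Subring.mem_iInf]

theorem le_of_P_le (i k : ι) (h : P ⊤ O (T O) (hT O) i ≤ P ⊤ O (T O) (hT O) k) : O k ≤ O i := by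
  intro x hx
  obtain ⟨u, hu0, huT, hxuT, hinv⟩ := exists_u ⊤ O (T O) (hT O) x (Subfield.mem_top x)
  have hk : u⁻¹ ∈ O k := hinv k hx
  have huk : (⟨u, huT⟩ : T O) ∉ P ⊤ O (T O) (hT O) k := by
    rw [mem_P]
    intro hlt
    have h1 : (O k).valuation u⁻¹ ≤ 1 := ((O k).valuation_le_one_iff _).mpr hk
    rw [map_inv₀] at h1
    have h0 : (O k).valuation u ≠ 0 := (Valuation.ne_zero_iff _).mpr hu0
    have : 1 ≤ (O k).valuation u := by
      rwa [inv_le_one₀ (zero_lt_iff.mpr h0)] at h1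
    exact absurd hlt (not_lt.mpr this)
  have hui : (⟨u, huT⟩ : T O) ∉ P ⊤ O (T O) (hT O) i := fun hh => huk (h hh)
  rw [mem_P, not_lt] at hui
  have h2 : u⁻¹ ∈ O i := by
    rw [← (O i).valuation_le_one_iff, map_inv₀]
    exact inv_le_one_of_one_le₀ hui
  have h3 : x * u ∈ O i := ((hT O _).mp hxuT).2 i
  have : x = (x * u) * u⁻¹ := by field_simp
  rw [this]
  exact (O i).mul_mem _ _ h3 h2

theorem ne_top_of_dvr (A : ValuationSubring K) [IsDiscreteValuationRing A] : A ≠ ⊤ := by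
  intro h
  apply IsDiscreteValuationRing.not_isField A
  refine ⟨⟨0, 1, zero_ne_one⟩, mul_comm, fun {a} ha => ?_⟩
  have hmem : (a : K)⁻¹ ∈ A := (SetLike.ext_iff.mp h _).mpr (ValuationSubring.mem_top _)
  refine ⟨⟨(a : K)⁻¹, hmem⟩, ?_⟩
  apply Subtype.ext
  change (a : K) * (a : K)⁻¹ = 1
  apply mul_inv_cancel₀
  intro h0
  apply ha
  exact Subtype.ext h0

variable (hO : ∀ i, IsDiscreteValuationRing (O i)) (hinj : Function.Injective O)

include hO hinj in
theorem eq_of_P_le (i k : ι) (h : P ⊤ O (T O) (hT O) i ≤ P ⊤ O (T O) (hT O) k) : i = k := by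
  have hle := le_of_P_le O i k h
  haveI := hO k
  haveI := hO i
  have := ValuationSubring.eq_of_le_of_ne_top (O k) hle (ne_top_of_dvr (O i))
  exact (hinj this).symm

/-- the ideal `T ∩ c • m_i`. -/
def Q (i : ι) (c : K) : Ideal (T O) where
  carrier := {t | ∃ y : O i, y ∈ IsLocalRing.maximalIdeal (O i) ∧ (t : K) = c * (y : K)}
  add_mem' := by
    rintro a b ⟨y, hy, ha⟩ ⟨z, hz, hb⟩
    refine ⟨y + z, Ideal.add_mem _ hy hz, ?_⟩
    push_cast
    rw [ha, hb, mul_add]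
  zero_mem' := ⟨0, Ideal.zero_mem _, by simp⟩
  smul_mem' := by
    rintro r a ⟨y, hy, ha⟩
    refine ⟨⟨(r : K), ((hT O _).mp r.2).2 i⟩ * y, Ideal.mul_mem_left _ _ hy, ?_⟩
    simp only [smul_eq_mul, Subring.coe_mul, MulMemClass.coe_mul]
    rw [ha]
    ring

omit [Finite ι] [Nonempty ι] in
theorem mem_Q (i : ι) (c : K) (t : T O) : t ∈ Q O i c ↔
    ∃ y : O i, y ∈ IsLocalRing.maximalIdeal (O i) ∧ (t : K) = c * (y : K) := Iff.rfl

include hO in
theorem P_le_of_Q_le (i l : ι) (c : T O) (hc : c ≠ 0)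
    (h : Q O i (c : K) ≤ P ⊤ O (T O) (hT O) l) :
    P ⊤ O (T O) (hT O) i ≤ P ⊤ O (T O) (hT O) l := by
  intro x hx
  haveI := hO i
  have hxO : (x : K) ∈ O i := ((hT O _).mp x.2).2 i
  have hcO : (c : K) ∈ O i := ((hT O _).mp c.2).2 i
  have hxm : (⟨(x : K), hxO⟩ : O i) ∈ IsLocalRing.maximalIdeal (O i) := by
    rw [ValuationSubring.valuation_lt_one_iff]
    exact (mem_P ⊤ O (T O) (hT O) i x).mp hx
  have hc0 : (⟨(c : K), hcO⟩ : O i) ≠ 0 := by
    intro h0
    apply hc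
    apply Subtype.ext
    have h1 := congrArg (fun z : O i => (z : K)) h0
    simpa using h1
  obtain ⟨N, y, hy, hN⟩ := exists_pow_eq (⟨(x : K), hxO⟩ : O i) ⟨(c : K), hcO⟩ hxm hc0
  have hxN : x ^ N ∈ Q O i (c : K) := by
    refine ⟨y, hy, ?_⟩
    have := congrArg Subtype.val hN
    simpa using this
  exact Ideal.IsPrime.mem_of_pow_mem inferInstance N (h hxN)

include hO hinj in
theorem coprime_Q (c : ι → T O) (hc : ∀ i, c i ≠ 0) :
    Pairwise (Function.onFun IsCoprime fun i => Q O i (c i : K)) := by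
  intro i k hik
  change IsCoprime (Q O i (c i : K)) (Q O k (c k : K))
  rw [Ideal.isCoprime_iff_sup_eq]
  by_contra hne
  obtain ⟨l, hl⟩ := exists_le_P ⊤ O (T O) (hT O) _ hne
  have h1 := eq_of_P_le O hO hinj i l
    (P_le_of_Q_le O hO i l (c i) (hc i) (le_sup_left.trans hl))
  have h2 := eq_of_P_le O hO hinj k l
    (P_le_of_Q_le O hO k l (c k) (hc k) (le_sup_right.trans hl))
  exact hik (h1.trans h2.symm)

/-- common denominators -/
theorem exists_denom {J : Type} [Finite J] (x : J → K) :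
    ∃ s : T O, s ≠ 0 ∧ ∀ j, (s : K) * x j ∈ T O := by
  classical
  haveI := Fintype.ofFinite J
  have h : ∀ j, ∃ u : K, u ≠ 0 ∧ u ∈ T O ∧ x j * u ∈ T O := fun j => by
    obtain ⟨u, h1, h2, h3, -⟩ := exists_u ⊤ O (T O) (hT O) (x j) (Subfield.mem_top _)
    exact ⟨u, h1, h2, h3⟩
  choose u hu0 huT hxu using h
  refine ⟨⟨∏ j, u j, Subring.prod_mem _ (fun j _ => huT j)⟩, ?_, fun j => ?_⟩
  · intro h0
    have := congrArg Subtype.val h0
    simp only [ZeroMemClass.coe_zero] at this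
    rw [Finset.prod_eq_zero_iff] at this
    obtain ⟨j, -, hj⟩ := this
    exact hu0 j hj
  · change (∏ j, u j) * x j ∈ T O
    rw [← Finset.mul_prod_erase Finset.univ u (Finset.mem_univ j)]
    have : u j * (∏ k ∈ Finset.univ.erase j, u k) * x j =
        (x j * u j) * ∏ k ∈ Finset.univ.erase j, u k := by
      ring
    rw [this]
    exact Subring.mul_mem _ (hxu j) (Subring.prod_mem _ (fun k _ => huT k))

include hO hinj in
theorem main (fs : ι → K) (n : ι → ℤ) (ϖ : ∀ i, O i) (hϖ : ∀ i, Irreducible (ϖ i)) :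
    ∃ f : K, ∀ i, ∃ w : (O i)ˣ, f - fs i = ((w : O i) : K) * ((ϖ i : K) ^ (n i)) := by
  obtain ⟨s₁, hs₁, h₁⟩ := exists_denom O fs
  obtain ⟨s₂, hs₂, h₂⟩ := exists_denom O (fun i => ((ϖ i : K) ^ (n i)))
  have hϖ0 : ∀ i, (ϖ i : K) ≠ 0 := fun i h0 => (hϖ i).ne_zero (Subtype.ext h0)
  have hs₁' : (s₁ : K) ≠ 0 := fun h => hs₁ (Subtype.ext h)
  have hs₂' : (s₂ : K) ≠ 0 := fun h => hs₂ (Subtype.ext h)
  let b : ι → T O := fun i => s₂ * ⟨_, h₁ i⟩
  let c : ι → T O := fun i => s₁ * ⟨_, h₂ i⟩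
  have hc : ∀ i, c i ≠ 0 := by
    intro i h0
    have := congrArg Subtype.val h0
    simp only [c, Subring.coe_mul, ZeroMemClass.coe_zero, mul_eq_zero] at this
    rcases this with h | h | h
    · exact hs₁' h
    · exact hs₂' h
    · exact zpow_ne_zero _ (hϖ0 i) h
  obtain ⟨r, hr⟩ := Ideal.exists_forall_sub_mem_ideal (coprime_Q O hO hinj c hc)
    (fun i => b i + c i)
  refine ⟨(r : K) / ((s₁ : K) * (s₂ : K)), fun i => ?_⟩
  obtain ⟨y, hy, hry⟩ := (mem_Q O i _ _).mp (hr i)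
  haveI := hO i
  have hunit : IsUnit (1 + y) := by
    apply IsLocalRing.isUnit_of_mem_nonunits_one_sub_self
    have : 1 - (1 + y) = -y := by ring
    rw [this]
    exact (Ideal.neg_mem_iff _).mpr hy
  refine ⟨hunit.unit, ?_⟩
  simp only [IsUnit.unit_spec]
  simp only [b, c] at hry
  push_cast at hry
  push_cast
  field_simp
  linear_combination hry

end Groth.Agent.Helper3.DvrApprox
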