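import Mathlib
set_option linter.style.haveILetI false
set_option linter.unusedSectionVars false
set_option linter.unusedVariables false
set_option linter.deprecated false

namespace Groth.Agent.Helper3.DvrEF
open IsLocalRing

universe u

variable (A B K L : Type u) [CommRing A] [IsDomain A]
    [IsDiscreteValuationRing A] [CommRing B] [IsDomain B] [IsDiscreteValuationRing B] [Algebra A B]
    [IsLocalHom (algebraMap A B)]

/-- `m_A B = m_B ^ e` with `e ≠ 0` the ramification index. -/
lemma map_eq_pow (hinj : Function.Injective (algebraMap A B)) :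
    Ideal.ramificationIdx' (maximalIdeal A) (maximalIdeal B) ≠ 0 ∧
    (maximalIdeal A).map (algebraMap A B) =
      maximalIdeal B ^ Ideal.ramificationIdx' (maximalIdeal A) (maximalIdeal B) := by
  have hA : maximalIdeal A ≠ ⊥ := IsDiscreteValuationRing.not_a_field A
  have hmap : (maximalIdeal A).map (algebraMap A B) ≠ ⊥ :=
    (Ideal.map_eq_bot_iff_of_injective hinj).not.mpr hA
  have hle : (maximalIdeal A).map (algebraMap A B) ≤ maximalIdeal B :=
    ((local_hom_TFAE (algebraMap A B)).out 0 2 rfl rfl).mp inferInstance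
  obtain ⟨ϖ, hϖ⟩ := IsDiscreteValuationRing.exists_irreducible B
  obtain ⟨k, hk⟩ := IsDiscreteValuationRing.ideal_eq_span_pow_irreducible hmap hϖ
  have hm : maximalIdeal B = Ideal.span {ϖ} := hϖ.maximalIdeal_eq
  have hk' : (maximalIdeal A).map (algebraMap A B) = maximalIdeal B ^ k := by
    rw [hk, hm, Ideal.span_singleton_pow]
  have hk0 : k ≠ 0 := by
    rintro rfl
    rw [pow_zero, Ideal.one_eq_top] at hk'
    rw [hk'] at hle
    exact (maximalIdeal.isMaximal B).ne_top (top_le_iff.mp hle)
  have hspec : Ideal.ramificationIdx' (maximalIdeal A) (maximalIdeal B) = k := by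
    apply Ideal.ramificationIdx'_spec hk'.le
    rw [hk', hm, Ideal.span_singleton_pow, Ideal.span_singleton_pow, Ideal.span_singleton_le_span_singleton]
    intro hdvd
    have : ϖ ^ (k + 1) ∣ ϖ ^ k * 1 := by simpa using hdvd
    rw [pow_succ] at this
    have h2 := (mul_dvd_mul_iff_left (pow_ne_zero k hϖ.ne_zero)).mp this
    exact hϖ.not_isUnit (isUnit_of_dvd_one h2)
  rw [hspec]
  exact ⟨hk0, hk'⟩

attribute [local instance] Ideal.Quotient.field

variable [Field K] [Field L] [Algebra A K] [IsFractionRing A K] [Algebra B L] [IsFractionRing B L]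
    [Algebra K L] [Algebra A L] [IsScalarTower A K L] [IsScalarTower A B L]

/-- rank bound: any `A/m_A`-module quotient of `B` killed by `m_A` has rank at most `[L:K]`. -/
lemma rank_le_finrank [FiniteDimensional K L] (I : Ideal B)
    [Algebra (A ⧸ maximalIdeal A) (B ⧸ I)] [IsScalarTower A (A ⧸ maximalIdeal A) (B ⧸ I)] :
    Module.rank (A ⧸ maximalIdeal A) (B ⧸ I) ≤ (Module.finrank K L : ℕ) := by
  classical
  apply rank_le
  intro s hs
  have hsurj : Function.Surjective (Ideal.Quotient.mk I) := Ideal.Quotient.mk_surjective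
  let b' : s → B := fun i => (hsurj (i : B ⧸ I)).choose
  let f' : B →ₗ[A] (B ⧸ I) := (Ideal.Quotient.mkₐ A I).toLinearMap
  have hb' : (fun i : s => (i : B ⧸ I)) = f' ∘ b' :=
    funext fun i => (hsurj (i : B ⧸ I)).choose_spec.symm
  rw [hb'] at hs
  have hRS : RingHom.ker (algebraMap A (A ⧸ maximalIdeal A)) ≠ ⊤ := by
    rw [Ideal.Quotient.algebraMap_eq, Ideal.mk_ker]
    exact (maximalIdeal.isMaximal A).ne_top
  have := Ideal.FinrankQuotientMap.linearIndependent_of_nontrivial K hRS
    ((Algebra.linearMap B L).restrictScalars A) (IsFractionRing.injective B L) f' hs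
  have h2 := this.fintype_card_le_finrank
  simpa using h2

attribute [local instance] Ideal.Quotient.algebraQuotientOfRamificationIdxNeZero

theorem main (hinj : Function.Injective (algebraMap A B)) [FiniteDimensional K L] :
    Module.Finite (IsLocalRing.ResidueField A) (IsLocalRing.ResidueField B) ∧
      Ideal.ramificationIdx' (IsLocalRing.maximalIdeal A) (IsLocalRing.maximalIdeal B) *
          Module.finrank (IsLocalRing.ResidueField A) (IsLocalRing.ResidueField B) ≤
        Module.finrank K L := by
  obtain ⟨he, hmap⟩ := map_eq_pow A B hinj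
  set e := Ideal.ramificationIdx' (maximalIdeal A) (maximalIdeal B) with he_def
  haveI : NeZero e := ⟨he⟩
  have hP0 : maximalIdeal B ≠ ⊥ := IsDiscreteValuationRing.not_a_field B
  haveI : IsScalarTower A (A ⧸ maximalIdeal A) (B ⧸ maximalIdeal B ^ e) :=
    IsScalarTower.of_algebraMap_eq fun x => rfl
  have hrank := rank_le_finrank A B K L (maximalIdeal B ^ e)
  have hdim := Ideal.rank_prime_pow_ramificationIdx (maximalIdeal A) (maximalIdeal B) hP0 he
  have hfin1 : FiniteDimensional (A ⧸ maximalIdeal A) (B ⧸ maximalIdeal B ^ e) := by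
    rw [FiniteDimensional, ← Module.rank_lt_aleph0_iff]
    exact lt_of_le_of_lt hrank (Cardinal.nat_lt_aleph0 _)
  have hfin2 : FiniteDimensional (A ⧸ maximalIdeal A) (B ⧸ maximalIdeal B) :=
    (Module.finite_iff_of_rank_eq_nsmul he hdim).mp hfin1
  have hfr := Ideal.finrank_prime_pow_ramificationIdx (p := maximalIdeal A) (P := maximalIdeal B)
    hP0 he
  refine ⟨hfin2, ?_⟩
  have h3 : Module.finrank (A ⧸ maximalIdeal A) (B ⧸ maximalIdeal B ^ e) ≤ Module.finrank K L := by
    have := Module.finrank_eq_rank (A ⧸ maximalIdeal A) (B ⧸ maximalIdeal B ^ e)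
    rw [← this] at hrank
    exact_mod_cast hrank
  rw [hfr] at h3
  exact h3

end Groth.Agent.Helper3.DvrEF
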