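import Mathlib
set_option backward.isDefEq.respectTransparency.types false
set_option maxHeartbeats 4000000
set_option synthInstance.maxHeartbeats 400000
set_option autoImplicit false
universe u

open AlgebraicGeometry CategoryTheory CategoryTheory.Limits TensorProduct

namespace Groth.Agent.Helper3.MonoRes

/-- An epimorphic field extension is trivial. -/
theorem surjective_of_isEpi_field (K L : Type*) [Field K] [Field L] [Algebra K L]
    [Algebra.IsEpi K L] : Function.Surjective (algebraMap K L) := by
  intro a
  by_contra ha
  let p : Submodule K L := LinearMap.range (Algebra.linearMap K L)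
  have hap : a ∉ p := fun ⟨r, hr⟩ => ha ⟨r, hr⟩
  obtain ⟨φ, hφa, hφp⟩ := Submodule.exists_dual_map_eq_bot_of_notMem hap inferInstance
  have hφ1 : φ 1 = 0 := by
    have : φ 1 ∈ p.map φ := ⟨1, ⟨1, by simp⟩, rfl⟩
    rw [hφp] at this
    exact this
  have h := (Algebra.isEpi_iff_forall_one_tmul_eq K L).mp inferInstance a
  have h2 := congrArg ((TensorProduct.lid K L).toLinearMap ∘ₗ (φ.rTensor L)) h
  simp only [LinearMap.coe_comp, LinearEquiv.coe_coe, Function.comp_apply,
    LinearMap.rTensor_tmul, TensorProduct.lid_tmul, hφ1, zero_smul] at h2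
  exact hφa (by simpa using h2.symm)

end Groth.Agent.Helper3.MonoRes

namespace Groth.Agent.Helper3.MonoRes

theorem residueFieldMap_bijective_of_mono {X Y : Scheme.{u}} (f : X ⟶ Y) [Mono f] (x : X) :
    Function.Bijective (f.residueFieldMap x).hom := by
  have h := Scheme.Hom.SpecMap_residueFieldMap_fromSpecResidueField f x
  haveI : Mono (Spec.map (f.residueFieldMap x)) := by
    haveI : Mono (Spec.map (f.residueFieldMap x) ≫ Y.fromSpecResidueField (f x)) := by
      rw [h]; infer_instance
    exact mono_of_mono _ (Y.fromSpecResidueField (f x))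
  haveI : Mono (f.residueFieldMap x).op := by
    haveI : Mono (Scheme.Spec.map (f.residueFieldMap x).op) := ‹Mono (Spec.map _)›
    exact Scheme.Spec.mono_of_mono_map inferInstance
  haveI : Epi (f.residueFieldMap x) := unop_epi_of_mono (f.residueFieldMap x).op
  letI : Algebra (Y.residueField (f x)) (X.residueField x) := (f.residueFieldMap x).hom.toAlgebra
  haveI : Algebra.IsEpi (Y.residueField (f x)) (X.residueField x) :=
    CommRingCat.epi_iff_epi.mp (inferInstanceAs (Epi (f.residueFieldMap x)))
  exact ⟨(f.residueFieldMap x).hom.injective,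
    surjective_of_isEpi_field (Y.residueField (f x)) (X.residueField x)⟩

end Groth.Agent.Helper3.MonoRes

namespace Groth.Agent.Helper3.MonoRes

/-- Field points lift through a monomorphism as soon as the point is in the image. -/
theorem exists_lift_field_point {X' Y' : Scheme.{u}} (p : Y' ⟶ X') [Mono p] (y : Y')
    (k : Type u) [Field k] (t : Spec (.of k) ⟶ X')
    (ht : t (IsLocalRing.closedPoint k) = p y) : ∃ l : Spec (.of k) ⟶ Y', l ≫ p = t := by
  obtain ⟨⟨x, σ⟩, rfl⟩ := (Scheme.SpecToEquivOfField k X').symm.surjective t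
  have hx : x = p y := by
    rw [← ht]
    simp
  subst hx
  have hρ := residueFieldMap_bijective_of_mono p y
  haveI : IsIso (p.residueFieldMap y) := (ConcreteCategory.isIso_iff_bijective _).mpr hρ
  refine ⟨Spec.map σ ≫ Spec.map (inv (p.residueFieldMap y)) ≫
    Y'.fromSpecResidueField y, ?_⟩
  have h1 : Spec.map (inv (p.residueFieldMap y)) ≫ Y'.fromSpecResidueField y ≫ p =
      X'.fromSpecResidueField (p y) := by
    rw [← Scheme.Hom.SpecMap_residueFieldMap_fromSpecResidueField, ← Spec.map_comp_assoc,
      IsIso.hom_inv_id, Spec.map_id, Category.id_comp]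
  simp only [Category.assoc, Scheme.SpecToEquivOfField_symm_apply]
  rw [h1]

end Groth.Agent.Helper3.MonoRes
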