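import Mathlib
set_option backward.isDefEq.respectTransparency.types false
set_option maxHeartbeats 4000000
set_option synthInstance.maxHeartbeats 400000
set_option autoImplicit false
universe u

open AlgebraicGeometry CategoryTheory CategoryTheory.Limits TensorProduct

namespace Groth.Agent.Helper3.ReflSpec

section K

variable {X Y : Scheme.{u}} (f : Y ⟶ X) {A C : Type u} [CommRing A] [CommRing C] [Algebra A C]
  (iU : Spec (.of A) ⟶ X) (iV : Spec (.of C) ⟶ Y)
  (hsq : Spec.map (CommRingCat.ofHom (algebraMap A C)) ≫ iU = iV ≫ f)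
  (B : Type u) [CommRing B] [Algebra A B]

/-- the base-change morphism `Spec B → X`. -/
noncomputable abbrev gB : Spec (.of B) ⟶ X := Spec.map (CommRingCat.ofHom (algebraMap A B)) ≫ iU

/-- the chart `Spec (C ⊗ B) → Y ×_X Spec B`. -/
noncomputable def kMap : Spec (.of (C ⊗[A] B)) ⟶ pullback f (gB iU B) :=
  (pullbackSpecIso A C B).inv ≫ pullback.map _ _ _ _ iV (𝟙 _) iU hsq (by simp)

instance [IsOpenImmersion iU] [IsOpenImmersion iV] : IsOpenImmersion (kMap f iU iV hsq B) := by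
  unfold kMap
  infer_instance

@[reassoc]
theorem kMap_fst : kMap f iU iV hsq B ≫ pullback.fst _ _ =
    Spec.map (CommRingCat.ofHom (Algebra.TensorProduct.includeLeftRingHom)) ≫ iV := by
  unfold kMap
  rw [Category.assoc, pullback.lift_fst, pullbackSpecIso_inv_fst_assoc]

@[reassoc]
theorem kMap_snd : kMap f iU iV hsq B ≫ pullback.snd _ _ =
    Spec.map (CommRingCat.ofHom (R := B) (S := C ⊗[A] B)
      (RingHomClass.toRingHom Algebra.TensorProduct.includeRight)) := by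
  unfold kMap
  rw [Category.assoc, pullback.lift_snd, pullbackSpecIso_inv_snd_assoc, Category.comp_id]

theorem range_kMap [IsOpenImmersion iU] :
    Set.range (kMap f iU iV hsq B) = (pullback.fst f (gB iU B)) ⁻¹' (Set.range iV) := by
  unfold kMap
  rw [Scheme.Hom.comp_base, TopCat.coe_comp, Set.range_comp,
    Set.range_eq_univ.mpr (show Function.Surjective (pullbackSpecIso A C B).inv from
      (pullbackSpecIso A C B).inv.homeomorph.surjective), Set.image_univ,
    Scheme.Pullback.range_map]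
  simp

variable {B} {B₀ : Type u} [CommRing B₀] [Algebra A B₀] (τ : B₀ →ₐ[A] B)

/-- `Spec B → Spec B₀`. -/
noncomputable abbrev tMap : Spec (.of B) ⟶ Spec (.of B₀) :=
  Spec.map (CommRingCat.ofHom τ.toRingHom)

theorem tMap_gB : tMap τ ≫ gB iU B₀ = gB iU B := by
  unfold tMap gB
  rw [← Spec.map_comp_assoc]
  congr 2
  ext a
  exact τ.commutes a

/-- `Y ×_X Spec B → Y ×_X Spec B₀`. -/
noncomputable def piMap : pullback f (gB iU B) ⟶ pullback f (gB iU B₀) :=
  pullback.map _ _ _ _ (𝟙 _) (tMap τ) (𝟙 _) (by simp) (by rw [Category.comp_id, tMap_gB])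

@[reassoc]
theorem piMap_fst : piMap f iU τ ≫ pullback.fst _ _ = pullback.fst _ _ := by
  unfold piMap
  rw [pullback.lift_fst, Category.comp_id]

@[reassoc]
theorem piMap_snd : piMap f iU τ ≫ pullback.snd _ _ = pullback.snd _ _ ≫ tMap τ := by
  unfold piMap
  rw [pullback.lift_snd]

/-- `Spec (C ⊗ B) → Spec (C ⊗ B₀)`. -/
noncomputable abbrev thetaMap : Spec (.of (C ⊗[A] B)) ⟶ Spec (.of (C ⊗[A] B₀)) :=
  Spec.map (CommRingCat.ofHom (Algebra.TensorProduct.map (AlgHom.id A C) τ).toRingHom)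

theorem thetaMap_kMap :
    thetaMap (C := C) τ ≫ kMap f iU iV hsq B₀ = kMap f iU iV hsq B ≫ piMap f iU τ := by
  apply pullback.hom_ext
  · rw [Category.assoc, Category.assoc, kMap_fst, piMap_fst, kMap_fst, ← Spec.map_comp_assoc]
    congr 2
    ext c
    simp
  · rw [Category.assoc, Category.assoc, kMap_snd, piMap_snd, kMap_snd_assoc, ← Spec.map_comp,
      ← Spec.map_comp]
    congr 1

end K

end Groth.Agent.Helper3.ReflSpec

namespace Groth.Agent.Helper3.ReflSpec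

section Stage

variable {A C B : Type u} [CommRing A] [CommRing C] [Algebra A C] [CommRing B] [Algebra A B]

/-- evaluation `A[s] → B` for a finite subset `s ⊆ B`. -/
noncomputable abbrev evS (s : Finset B) : MvPolynomial s A →ₐ[A] B :=
  MvPolynomial.aeval (fun x : s => (x : B))

theorem evS_comp_rename {s t : Finset B} (hst : s ⊆ t) :
    (evS (A := A) t).comp (MvPolynomial.rename (fun x : s => (⟨x.1, hst x.2⟩ : t))) = evS s := by
  apply MvPolynomial.algHom_ext
  intro x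
  simp

theorem exists_stage (h : C ⊗[A] B) : ∃ (s : Finset B) (h₀ : C ⊗[A] MvPolynomial s A),
    Algebra.TensorProduct.map (AlgHom.id A C) (evS s) h₀ = h := by
  classical
  induction h using TensorProduct.induction_on with
  | zero => exact ⟨∅, 0, map_zero _⟩
  | tmul c b =>
    refine ⟨{b}, c ⊗ₜ MvPolynomial.X ⟨b, Finset.mem_singleton_self b⟩, ?_⟩
    simp
  | add x y hx hy =>
    obtain ⟨s₁, h₁, rfl⟩ := hx
    obtain ⟨s₂, h₂, rfl⟩ := hy
    have e₁ : s₁ ⊆ s₁ ∪ s₂ := Finset.subset_union_left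
    have e₂ : s₂ ⊆ s₁ ∪ s₂ := Finset.subset_union_right
    refine ⟨s₁ ∪ s₂,
      Algebra.TensorProduct.map (AlgHom.id A C)
        (MvPolynomial.rename (fun x : s₁ => (⟨x.1, e₁ x.2⟩ : ↥(s₁ ∪ s₂)))) h₁ +
      Algebra.TensorProduct.map (AlgHom.id A C)
        (MvPolynomial.rename (fun x : s₂ => (⟨x.1, e₂ x.2⟩ : ↥(s₁ ∪ s₂)))) h₂, ?_⟩
    rw [map_add]
    congr 1
    · rw [← AlgHom.comp_apply, ← Algebra.TensorProduct.map_comp, evS_comp_rename e₁]
      rfl
    · rw [← AlgHom.comp_apply, ← Algebra.TensorProduct.map_comp, evS_comp_rename e₂]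
      rfl

end Stage

end Groth.Agent.Helper3.ReflSpec

namespace Groth.Agent.Helper3.ReflSpec

theorem thetaMap_mem_basicOpen {A C B B₀ : Type u} [CommRing A] [CommRing C] [Algebra A C]
    [CommRing B] [Algebra A B] [CommRing B₀] [Algebra A B₀] (τ : B₀ →ₐ[A] B)
    (h₀ : C ⊗[A] B₀) (z : ↥(Spec (.of (C ⊗[A] B)))) :
    (thetaMap (C := C) τ) z ∈ (PrimeSpectrum.basicOpen h₀ : Set (PrimeSpectrum (C ⊗[A] B₀))) ↔
      z ∈ (PrimeSpectrum.basicOpen (Algebra.TensorProduct.map (AlgHom.id A C) τ h₀) :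
        Set (PrimeSpectrum (C ⊗[A] B))) := by
  rfl

theorem kMap_thetaMap_apply {X Y : Scheme.{u}} (f : Y ⟶ X) {A C : Type u} [CommRing A] [CommRing C]
    [Algebra A C] (iU : Spec (.of A) ⟶ X) (iV : Spec (.of C) ⟶ Y)
    (hsq : Spec.map (CommRingCat.ofHom (algebraMap A C)) ≫ iU = iV ≫ f)
    {B B₀ : Type u} [CommRing B] [Algebra A B] [CommRing B₀] [Algebra A B₀] (τ : B₀ →ₐ[A] B)
    (z : ↥(Spec (.of (C ⊗[A] B)))) :
    (kMap f iU iV hsq B₀) (thetaMap (C := C) τ z) = piMap f iU τ (kMap f iU iV hsq B z) := by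
  rw [← Scheme.Hom.comp_apply, thetaMap_kMap, Scheme.Hom.comp_apply]

theorem fst_kMap_apply {X Y : Scheme.{u}} (f : Y ⟶ X) {A C : Type u} [CommRing A] [CommRing C]
    [Algebra A C] (iU : Spec (.of A) ⟶ X) (iV : Spec (.of C) ⟶ Y)
    (hsq : Spec.map (CommRingCat.ofHom (algebraMap A C)) ≫ iU = iV ≫ f)
    (B : Type u) [CommRing B] [Algebra A B] (z : ↥(Spec (.of (C ⊗[A] B)))) :
    pullback.fst f (gB iU B) (kMap f iU iV hsq B z) ∈ Set.range iV := by
  rw [← Scheme.Hom.comp_apply, kMap_fst, Scheme.Hom.comp_apply]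
  exact ⟨_, rfl⟩

theorem fst_piMap_apply {X Y : Scheme.{u}} (f : Y ⟶ X) {A : Type u} [CommRing A]
    (iU : Spec (.of A) ⟶ X)
    {B B₀ : Type u} [CommRing B] [Algebra A B] [CommRing B₀] [Algebra A B₀] (τ : B₀ →ₐ[A] B)
    (y : ↥(pullback f (gB iU B))) :
    pullback.fst f (gB iU B₀) (piMap f iU τ y) = pullback.fst f (gB iU B) y := by
  rw [← Scheme.Hom.comp_apply, piMap_fst]

theorem snd_piMap_apply {X Y : Scheme.{u}} (f : Y ⟶ X) {A : Type u} [CommRing A]
    (iU : Spec (.of A) ⟶ X)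
    {B B₀ : Type u} [CommRing B] [Algebra A B] [CommRing B₀] [Algebra A B₀] (τ : B₀ →ₐ[A] B)
    (y : ↥(pullback f (gB iU B))) :
    pullback.snd f (gB iU B₀) (piMap f iU τ y) = tMap τ (pullback.snd f (gB iU B) y) := by
  rw [← Scheme.Hom.comp_apply, piMap_snd, Scheme.Hom.comp_apply]

theorem exists_stage_open {X Y : Scheme.{u}} (f : Y ⟶ X) {A C : Type u} [CommRing A] [CommRing C]
    [Algebra A C] (iU : Spec (.of A) ⟶ X) [IsOpenImmersion iU] (iV : Spec (.of C) ⟶ Y)
    [IsOpenImmersion iV]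
    (hsq : Spec.map (CommRingCat.ofHom (algebraMap A C)) ≫ iU = iV ≫ f)
    (B : Type u) [CommRing B] [Algebra A B]
    (y₀ : ↥(pullback f (gB iU B))) (hy₀ : pullback.fst f (gB iU B) y₀ ∈ Set.range iV)
    (W : (pullback f (gB iU B)).Opens) (hW : y₀ ∈ W) :
    ∃ (s : Finset B) (W₀ : (pullback f (gB iU (MvPolynomial s A))).Opens),
      piMap f iU (evS s) y₀ ∈ W₀ ∧ ∀ y, piMap f iU (evS s) y ∈ W₀ → y ∈ W := by
  have hy₀' : y₀ ∈ Set.range (kMap f iU iV hsq B) := by rw [range_kMap]; exact hy₀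
  obtain ⟨z₀, rfl⟩ := hy₀'
  have hz₀ : z₀ ∈ (kMap f iU iV hsq B) ⁻¹ᵁ W := hW
  obtain ⟨_, ⟨h, rfl⟩, hz₀h, hhW⟩ :=
    TopologicalSpace.Opens.isBasis_iff_nbhd.mp PrimeSpectrum.isBasis_basic_opens hz₀
  obtain ⟨s, h₀, rfl⟩ := exists_stage h
  refine ⟨s, (kMap f iU iV hsq (MvPolynomial s A)) ''ᵁ (PrimeSpectrum.basicOpen h₀), ?_, ?_⟩
  · exact ⟨thetaMap (C := C) (evS s) z₀, (thetaMap_mem_basicOpen (evS s) h₀ z₀).mpr hz₀h,
      kMap_thetaMap_apply f iU iV hsq (evS s) z₀⟩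
  · rintro y ⟨w, hw, hwy⟩
    have hwy' : (kMap f iU iV hsq (MvPolynomial s A)) w = piMap f iU (evS s) y := hwy
    have hy : y ∈ Set.range (kMap f iU iV hsq B) := by
      rw [range_kMap]
      show pullback.fst f (gB iU B) y ∈ Set.range iV
      rw [← fst_piMap_apply f iU (evS s) y, ← hwy']
      exact fst_kMap_apply f iU iV hsq _ w
    obtain ⟨z, rfl⟩ := hy
    have h2 : thetaMap (C := C) (evS s) z = w := by
      apply (kMap f iU iV hsq (MvPolynomial s A)).isOpenEmbedding.injective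
      rw [kMap_thetaMap_apply]
      exact hwy'.symm
    have h3 : z ∈ (PrimeSpectrum.basicOpen (Algebra.TensorProduct.map (AlgHom.id A C) (evS s) h₀) :
        Set (PrimeSpectrum (C ⊗[A] B))) := by
      rw [← thetaMap_mem_basicOpen, h2]
      exact hw
    exact hhW h3

end Groth.Agent.Helper3.ReflSpec

namespace Groth.Agent.Helper3.ReflSpec

theorem special {X Y : Scheme.{u}} (f : Y ⟶ X)
    (h : ∀ (X' : Scheme.{u}) (g : X' ⟶ X) [LocallyOfFiniteType g] (y₀ y₁ : ↥(pullback f g)),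
      (pullback.snd f g).base y₁ ⤳ (pullback.snd f g).base y₀ → y₁ ⤳ y₀)
    {A : Type u} [CommRing A] (iU : Spec (.of A) ⟶ X) [IsOpenImmersion iU]
    (B : Type u) [CommRing B] [Algebra A B]
    (y₀ y₁ : ↥(pullback f (gB iU B)))
    (hy : (pullback.snd f (gB iU B)).base y₁ ⤳ (pullback.snd f (gB iU B)).base y₀) : y₁ ⤳ y₀ := by
  rw [specializes_iff_forall_open]
  intro W hWo hy₀W
  -- the affine open `U`
  have hUaff : IsAffineOpen iU.opensRange := isAffineOpen_opensRange iU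
  have hfy₀ : f (pullback.fst f (gB iU B) y₀) ∈ iU.opensRange := by
    rw [← Scheme.Hom.comp_apply, pullback.condition, Scheme.Hom.comp_apply]
    unfold gB
    rw [Scheme.Hom.comp_apply]
    exact ⟨_, rfl⟩
  obtain ⟨V, hV, hyV, hVU⟩ := exists_isAffineOpen_mem_and_subset
    (x := pullback.fst f (gB iU B) y₀) (U := f ⁻¹ᵁ iU.opensRange) hfy₀
  let iV : Spec (.of Γ(Y, V)) ⟶ Y := hV.fromSpec
  haveI : IsOpenImmersion iV := inferInstanceAs (IsOpenImmersion hV.fromSpec)
  have hrange : Set.range (iV ≫ f) ⊆ Set.range iU := by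
    rintro _ ⟨z, rfl⟩
    rw [Scheme.Hom.comp_apply]
    apply hVU
    show iV z ∈ (V : Set Y)
    rw [← hV.range_fromSpec]
    exact ⟨z, rfl⟩
  let φ : CommRingCat.of A ⟶ CommRingCat.of Γ(Y, V) :=
    Spec.preimage (IsOpenImmersion.lift iU (iV ≫ f) hrange)
  letI : Algebra A Γ(Y, V) := φ.hom.toAlgebra
  have hsq : Spec.map (CommRingCat.ofHom (algebraMap A Γ(Y, V))) ≫ iU = iV ≫ f := by
    have : Spec.map (CommRingCat.ofHom (algebraMap A Γ(Y, V))) =
        IsOpenImmersion.lift iU (iV ≫ f) hrange := Spec.map_preimage _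
    rw [this, IsOpenImmersion.lift_fac]
  have hy₀V : pullback.fst f (gB iU B) y₀ ∈ Set.range iV := by
    show _ ∈ Set.range hV.fromSpec
    rw [hV.range_fromSpec]
    exact hyV
  obtain ⟨s, W₀, hπy₀, hW₀⟩ := exists_stage_open f iU iV hsq B y₀ hy₀V ⟨W, hWo⟩ hy₀W
  apply hW₀
  haveI : LocallyOfFiniteType (gB iU (MvPolynomial s A)) := by
    unfold gB
    haveI : LocallyOfFiniteType (Spec.map (CommRingCat.ofHom (algebraMap A (MvPolynomial s A)))) := by
      rw [HasRingHomProperty.Spec_iff (P := @LocallyOfFiniteType)]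
      exact RingHom.finiteType_algebraMap.mpr inferInstance
    infer_instance
  have hsp : piMap f iU (evS s) y₁ ⤳ piMap f iU (evS s) y₀ := by
    apply h
    show pullback.snd f (gB iU (MvPolynomial s A)) (piMap f iU (evS s) y₁) ⤳
      pullback.snd f (gB iU (MvPolynomial s A)) (piMap f iU (evS s) y₀)
    rw [snd_piMap_apply, snd_piMap_apply]
    exact hy.map (tMap (evS s)).continuous
  exact hsp.mem_open W₀.2 hπy₀

end Groth.Agent.Helper3.ReflSpec

namespace Groth.Agent.Helper3.ReflSpec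

theorem main {X Y : Scheme.{u}} (f : Y ⟶ X)
    (h : ∀ (X' : Scheme.{u}) (g : X' ⟶ X) [LocallyOfFiniteType g] (y₀ y₁ : ↥(pullback f g)),
      (pullback.snd f g).base y₁ ⤳ (pullback.snd f g).base y₀ → y₁ ⤳ y₀)
    (X' : Scheme.{u}) (g : X' ⟶ X) (y₀ y₁ : ↥(pullback f g))
    (hy : (pullback.snd f g).base y₁ ⤳ (pullback.snd f g).base y₀) : y₁ ⤳ y₀ := by
  obtain ⟨U, hU, hxU, -⟩ := exists_isAffineOpen_mem_and_subset
    (x := g (pullback.snd f g y₀)) (U := ⊤) trivial
  obtain ⟨V', hV', hxV', hV'U⟩ := exists_isAffineOpen_mem_and_subset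
    (x := pullback.snd f g y₀) (U := g ⁻¹ᵁ U) hxU
  let iU : Spec (.of Γ(X, U)) ⟶ X := hU.fromSpec
  haveI : IsOpenImmersion iU := inferInstanceAs (IsOpenImmersion hU.fromSpec)
  letI : Algebra Γ(X, U) Γ(X', V') := (g.appLE U V' hV'U).hom.toAlgebra
  have e : gB iU Γ(X', V') = hV'.fromSpec ≫ g :=
    IsAffineOpen.SpecMap_appLE_fromSpec g hU hV' hV'U
  let j : pullback f (gB iU Γ(X', V')) ⟶ pullback f g :=
    pullback.map _ _ _ _ (𝟙 _) hV'.fromSpec (𝟙 _) (by simp) (by rw [Category.comp_id, e])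
  have hj : Set.range j = (pullback.snd f g) ⁻¹' (V' : Set X') := by
    rw [Scheme.Pullback.range_map, hV'.range_fromSpec]
    simp
  have hy₁V' : pullback.snd f g y₁ ∈ V' := hy.mem_open V'.2 hxV'
  obtain ⟨z₀, rfl⟩ : y₀ ∈ Set.range j := by rw [hj]; exact hxV'
  obtain ⟨z₁, rfl⟩ : y₁ ∈ Set.range j := by rw [hj]; exact hy₁V'
  have hsnd : ∀ z, pullback.snd f g (j z) = hV'.fromSpec (pullback.snd f (gB iU Γ(X', V')) z) := by
    intro z
    have hjs : j ≫ pullback.snd f g = pullback.snd f (gB iU Γ(X', V')) ≫ hV'.fromSpec :=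
      pullback.lift_snd (f := f) (g := g) _ _ _
    rw [← Scheme.Hom.comp_apply, hjs, Scheme.Hom.comp_apply]
  have hz : pullback.snd f (gB iU Γ(X', V')) z₁ ⤳ pullback.snd f (gB iU Γ(X', V')) z₀ := by
    rw [← hV'.fromSpec.isOpenEmbedding.isInducing.specializes_iff, ← hsnd, ← hsnd]
    exact hy
  exact (special f h iU Γ(X', V') z₀ z₁ hz).map j.continuous

end Groth.Agent.Helper3.ReflSpec
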