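import Mathlib
import Groth.Agent.Helper3.MonoRes
import Groth.Agent.Helper3.ReflSpec
import Groth.Agent.Helper5.DvrSpec
set_option backward.isDefEq.respectTransparency.types false
set_option maxHeartbeats 4000000
set_option synthInstance.maxHeartbeats 400000
set_option autoImplicit false
universe u

open AlgebraicGeometry CategoryTheory CategoryTheory.Limits

namespace Groth.Agent.Helper3.DvrRefl

theorem injective_of_mono {X Y : Scheme.{u}} (p : Y ⟶ X) [Mono p] : Function.Injective p := by
  have h : UniversallyInjective p := inferInstance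
  have h2 : Function.Injective p ∧ ∀ x, (p.residueFieldMap x).hom.IsPurelyInseparable :=
    ((tfae_universallyInjective p).out 0 2).mp h
  exact h2.1

theorem lft_case {X Y : Scheme.{u}} [IsLocallyNoetherian X]
    (f : Y ⟶ X) [Mono f]
    (h : ∀ S : ValuativeCommSq f, IsDiscreteValuationRing S.R →
        (∃ l₀ : Spec (CommRingCat.of (IsLocalRing.ResidueField S.R)) ⟶ Y,
            l₀ ≫ f = Spec.map (CommRingCat.ofHom (IsLocalRing.residue S.R)) ≫ S.i₂) →
          S.commSq.HasLift)
    (X' : Scheme.{u}) (g : X' ⟶ X) [LocallyOfFiniteType g] (y₀ y₁ : ↥(pullback f g))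
    (hy : (pullback.snd f g).base y₁ ⤳ (pullback.snd f g).base y₀) : y₁ ⤳ y₀ := by
  haveI : IsLocallyNoetherian X' := LocallyOfFiniteType.isLocallyNoetherian g
  have hinj : Function.Injective (pullback.snd f g) := injective_of_mono _
  by_cases hne : pullback.snd f g y₀ = pullback.snd f g y₁
  · rw [hinj hne]
  · obtain ⟨A, hA, hdvr, hcl, w⟩ := Groth.Agent.Helper5.DvrSpec.main (𝟙 X')
      (pullback.snd f g y₁) (pullback.snd f g y₀) hy hne
    rw [Category.comp_id] at w
    -- the generic field point lifts
    obtain ⟨l₁, hl₁⟩ := Groth.Agent.Helper3.MonoRes.exists_lift_field_point (pullback.snd f g) y₁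
      (X'.residueField (pullback.snd f g y₁)) (X'.fromSpecResidueField (pullback.snd f g y₁))
      (Scheme.fromSpecResidueField_apply _ _)
    -- the closed field point lifts
    have hcl' : (Spec.map (CommRingCat.ofHom (IsLocalRing.residue A)) ≫ hA)
        (IsLocalRing.closedPoint (IsLocalRing.ResidueField A)) = pullback.snd f g y₀ := by
      haveI : IsLocalHom (CommRingCat.ofHom (IsLocalRing.residue A)).hom :=
        inferInstanceAs (IsLocalHom (IsLocalRing.residue A))
      rw [Scheme.Hom.comp_apply, Spec_closedPoint]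
      exact hcl
    obtain ⟨l₀, hl₀⟩ := Groth.Agent.Helper3.MonoRes.exists_lift_field_point (pullback.snd f g) y₀
      (IsLocalRing.ResidueField A) (Spec.map (CommRingCat.ofHom (IsLocalRing.residue A)) ≫ hA) hcl'
    let S : ValuativeCommSq f :=
      { R := A
        K := X'.residueField (pullback.snd f g y₁)
        i₁ := l₁ ≫ pullback.fst f g
        i₂ := hA ≫ g
        commSq := ⟨by
          rw [Category.assoc, pullback.condition, reassoc_of% hl₁]
          rw [← reassoc_of% w]
          rfl⟩ }
    have hlift : S.commSq.HasLift := by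
      refine h S hdvr ⟨l₀ ≫ pullback.fst f g, ?_⟩
      rw [Category.assoc, pullback.condition, reassoc_of% hl₀]
    obtain ⟨⟨l, hl1, hl2⟩⟩ := hlift
    have hl2' : l ≫ f = hA ≫ g := hl2
    let l' : Spec (CommRingCat.of A) ⟶ pullback f g := pullback.lift l hA hl2'
    have hl's : l' ≫ pullback.snd f g = hA := pullback.lift_snd _ _ _
    -- closed point
    have hc : l' (IsLocalRing.closedPoint A) = y₀ := by
      apply hinj
      rw [← Scheme.Hom.comp_apply, hl's]
      exact hcl
    -- generic point
    let η : ↥(Spec (CommRingCat.of A)) := (Spec.map (CommRingCat.ofHom A.subtype))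
      (IsLocalRing.closedPoint (X'.residueField (pullback.snd f g y₁)))
    have hg : l' η = y₁ := by
      apply hinj
      rw [← Scheme.Hom.comp_apply, hl's]
      show hA ((Spec.map (CommRingCat.ofHom A.subtype))
        (IsLocalRing.closedPoint (X'.residueField (pullback.snd f g y₁)))) = _
      rw [← Scheme.Hom.comp_apply, w]
      exact Scheme.fromSpecResidueField_apply _ _
    have hsp : η ⤳ IsLocalRing.closedPoint A :=
      IsLocalRing.specializes_closedPoint (R := A) η
    have := hsp.map l'.continuous
    rw [hc, hg] at this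
    exact this

end Groth.Agent.Helper3.DvrRefl

namespace Groth.Agent.Helper3.DvrRefl

theorem main {X Y : Scheme.{u}} [IsLocallyNoetherian X]
    (f : Y ⟶ X) [Mono f]
    (h : ∀ S : ValuativeCommSq f, IsDiscreteValuationRing S.R →
        (∃ l₀ : Spec (CommRingCat.of (IsLocalRing.ResidueField S.R)) ⟶ Y,
            l₀ ≫ f = Spec.map (CommRingCat.ofHom (IsLocalRing.residue S.R)) ≫ S.i₂) →
          S.commSq.HasLift) :
    ∀ (X' : Scheme.{u}) (g : X' ⟶ X) (y₀ y₁ : ↥(pullback f g)),
        (pullback.snd f g).base y₁ ⤳ (pullback.snd f g).base y₀ → y₁ ⤳ y₀ :=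
  Groth.Agent.Helper3.ReflSpec.main f (fun X' g _ y₀ y₁ hy => lft_case f h X' g y₀ y₁ hy)

end Groth.Agent.Helper3.DvrRefl
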