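import Mathlib

set_option linter.style.haveILetI false
set_option linter.unusedSectionVars false
set_option linter.unusedVariables false
set_option linter.style.haveILetI false
set_option linter.unusedSectionVars false
set_option linter.unusedVariables false

open TensorProduct KaehlerDifferential

namespace Groth.Agent.Helper3.EtCoord

universe u

section EC

variable {R A : Type u} [CommRing R] [CommRing A] [Algebra R A]

/-- the `MvPolynomial ι R`-algebra structure on `A` given by a family `t` -/
@[reducible] noncomputable def chartAlg {ι : Type*} (t : ι → A) : Algebra (MvPolynomial ι R) A :=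
  (MvPolynomial.aeval t : MvPolynomial ι R →ₐ[R] A).toRingHom.toAlgebra

theorem chart_tower {ι : Type*} (t : ι → A) :
    letI := chartAlg (R := R) t
    IsScalarTower R (MvPolynomial ι R) A := by
  letI := chartAlg (R := R) t
  exact IsScalarTower.of_algebraMap_eq' (MvPolynomial.aeval t : MvPolynomial ι R →ₐ[R] A).comp_algebraMap.symm

/-- étale coordinates: if `d t_i` is a basis of `Ω[A⁄R]` and `A` is smooth, then `A` is étale over
`R[T_i]`. -/
theorem etale_of_basis [Algebra.Smooth R A] {ι : Type*} [Finite ι] (t : ι → A)
    (b : Module.Basis ι A Ω[A⁄R]) (hb : ∀ i, b i = D R A (t i)) :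
    letI := chartAlg (R := R) t
    Algebra.Etale (MvPolynomial ι R) A := by
  letI := chartAlg (R := R) t
  haveI := chart_tower (R := R) t
  haveI : Algebra.FinitePresentation (MvPolynomial ι R) A :=
    Algebra.FinitePresentation.of_restrict_scalars_finitePresentation R _ A
  -- the base change map is bijective
  have hbij : Function.Bijective (mapBaseChange R (MvPolynomial ι R) A) := by
    let bP : Module.Basis ι A (A ⊗[MvPolynomial ι R] Ω[MvPolynomial ι R⁄R]) :=
      (mvPolynomialBasis R ι).baseChange A
    have heq : mapBaseChange R (MvPolynomial ι R) A = (bP.equiv b (Equiv.refl ι)).toLinearMap := by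
      apply bP.ext
      intro i
      rw [LinearEquiv.coe_coe, Module.Basis.equiv_apply, Equiv.refl_apply, hb i]
      show mapBaseChange R (MvPolynomial ι R) A ((mvPolynomialBasis R ι).baseChange A i) = _
      rw [Module.Basis.baseChange_apply, mvPolynomialBasis_apply, mapBaseChange_tmul, one_smul,
        map_D]
      congr 1
      show (MvPolynomial.aeval t) (MvPolynomial.X i) = t i
      exact MvPolynomial.aeval_X t i
    rw [heq]
    exact (bP.equiv b (Equiv.refl ι)).bijective
  -- formally unramified
  haveI hunr : Algebra.FormallyUnramified (MvPolynomial ι R) A := by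
    refine ⟨⟨fun y z => ?_⟩⟩
    have key : ∀ y : Ω[A⁄MvPolynomial ι R], y = 0 := by
      intro y
      obtain ⟨x, rfl⟩ := KaehlerDifferential.map_surjective R (MvPolynomial ι R) A y
      obtain ⟨w, rfl⟩ := hbij.2 x
      exact (exact_mapBaseChange_map R (MvPolynomial ι R) A _).mpr ⟨w, rfl⟩
    rw [key y, key z]
  -- vanishing of `H¹`
  haveI hH1 : Subsingleton (Algebra.H1Cotangent (MvPolynomial ι R) A) := by
    refine ⟨fun y z => ?_⟩
    have key : ∀ y : Algebra.H1Cotangent (MvPolynomial ι R) A, y = 0 := by
      intro y
      have h1 : Algebra.H1Cotangent.δ R (MvPolynomial ι R) A y = 0 := by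
        apply hbij.1
        rw [map_zero]
        exact (Algebra.H1Cotangent.exact_δ_mapBaseChange R (MvPolynomial ι R) A _).mpr ⟨y, rfl⟩
      obtain ⟨w, rfl⟩ := (Algebra.H1Cotangent.exact_map_δ R (MvPolynomial ι R) A y).mp h1
      rw [Subsingleton.elim w 0, map_zero]
    rw [key y, key z]
  haveI : Algebra.FormallySmooth (MvPolynomial ι R) A := ⟨inferInstance, hH1⟩
  exact Algebra.Etale.iff_formallyUnramified_and_smooth.mpr ⟨hunr, ⟨inferInstance, inferInstance⟩⟩

/-- quotient of a polynomial ring by a variable is smooth -/
theorem smooth_quot_X (R : Type u) [CommRing R] (κ : Type*) [Finite κ] :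
    Algebra.Smooth R (MvPolynomial (Option κ) R ⧸
      Ideal.span {(MvPolynomial.X none : MvPolynomial (Option κ) R)}) := by
  let e₁ : (MvPolynomial (Option κ) R ⧸
      Ideal.span {(MvPolynomial.X none : MvPolynomial (Option κ) R)}) ≃ₐ[R]
      (Polynomial (MvPolynomial κ R) ⧸ Ideal.span {(Polynomial.X : Polynomial (MvPolynomial κ R))}) :=
    Ideal.quotientEquivAlg _ _ (MvPolynomial.optionEquivLeft R κ) (by
      rw [Ideal.map_span, Set.image_singleton]
      congr 2
      exact (MvPolynomial.optionEquivLeft_X_none R κ).symm)
  have hspan : Ideal.span {(Polynomial.X : Polynomial (MvPolynomial κ R))} =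
      Ideal.span {Polynomial.X - Polynomial.C (0 : MvPolynomial κ R)} := by
    rw [Polynomial.C_0, sub_zero]
  let e₂ : (Polynomial (MvPolynomial κ R) ⧸
      Ideal.span {(Polynomial.X : Polynomial (MvPolynomial κ R))}) ≃ₐ[R] MvPolynomial κ R :=
    (Ideal.quotientEquivAlgOfEq R hspan).trans
      ((Polynomial.quotientSpanXSubCAlgEquiv (0 : MvPolynomial κ R)).restrictScalars R)
  haveI : Algebra.Smooth R (MvPolynomial κ R) := ⟨inferInstance, inferInstance⟩
  exact Algebra.Smooth.of_equiv (e₁.trans e₂).symm

theorem chart_consequences [Algebra.Smooth R A] {κ : Type*} [Finite κ] (t : Option κ → A)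
    (b : Module.Basis (Option κ) A Ω[A⁄R]) (hb : ∀ i, b i = D R A (t i)) :
    t none ∈ nonZeroDivisors A ∧ Algebra.Smooth R (A ⧸ Ideal.span {t none}) := by
  letI := chartAlg (R := R) t
  haveI := chart_tower (R := R) t
  haveI het : Algebra.Etale (MvPolynomial (Option κ) R) A := etale_of_basis t b hb
  have hX : algebraMap (MvPolynomial (Option κ) R) A (MvPolynomial.X none) = t none :=
    MvPolynomial.aeval_X t none
  constructor
  · -- flatness
    haveI : Algebra.Smooth (MvPolynomial (Option κ) R) A := inferInstance
    haveI : Module.Flat (MvPolynomial (Option κ) R) A := Algebra.Smooth.flat _ _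
    have hX0 : (MvPolynomial.X none : MvPolynomial (Option κ) R) ∈
        nonZeroDivisors (MvPolynomial (Option κ) R) :=
      (MvPolynomial.isRegular_X (R := R) (σ := Option κ) (n := none)).mem_nonZeroDivisors
    have hreg : IsSMulRegular A (MvPolynomial.X none : MvPolynomial (Option κ) R) :=
      Module.Flat.isSMulRegular_of_nonZeroDivisors (M := A) hX0
    rw [mem_nonZeroDivisors_iff_right]
    intro x hx
    apply hreg
    show (MvPolynomial.X none : MvPolynomial (Option κ) R) • x =
      (MvPolynomial.X none : MvPolynomial (Option κ) R) • (0 : A)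
    rw [smul_zero, Algebra.smul_def, hX, mul_comm]
    exact hx
  · have hmap : (Ideal.span {(MvPolynomial.X none : MvPolynomial (Option κ) R)}).map
        (algebraMap (MvPolynomial (Option κ) R) A) = Ideal.span {t none} := by
      rw [Ideal.map_span, Set.image_singleton, hX]
    haveI := smooth_quot_X R κ
    let e₁ := Algebra.TensorProduct.quotIdealMapEquivQuotTensor A
      (Ideal.span {(MvPolynomial.X none : MvPolynomial (Option κ) R)})
    haveI : Algebra.Etale (MvPolynomial (Option κ) R ⧸
        Ideal.span {(MvPolynomial.X none : MvPolynomial (Option κ) R)})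
        (A ⧸ (Ideal.span {(MvPolynomial.X none : MvPolynomial (Option κ) R)}).map
          (algebraMap (MvPolynomial (Option κ) R) A)) := Algebra.Etale.of_equiv e₁.symm
    haveI : IsScalarTower R (MvPolynomial (Option κ) R ⧸
        Ideal.span {(MvPolynomial.X none : MvPolynomial (Option κ) R)})
        (A ⧸ (Ideal.span {(MvPolynomial.X none : MvPolynomial (Option κ) R)}).map
          (algebraMap (MvPolynomial (Option κ) R) A)) := by
      refine ⟨fun r x y => ?_⟩
      obtain ⟨p, rfl⟩ := Ideal.Quotient.mk_surjective x
      obtain ⟨a, rfl⟩ := Ideal.Quotient.mk_surjective y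
      show Ideal.Quotient.mk _ ((r • p) • a) = Ideal.Quotient.mk _ (r • (p • a))
      rw [smul_assoc]
    haveI : Algebra.Smooth R (A ⧸ (Ideal.span {(MvPolynomial.X none :
        MvPolynomial (Option κ) R)}).map (algebraMap (MvPolynomial (Option κ) R) A)) :=
      Algebra.Smooth.comp R (MvPolynomial (Option κ) R ⧸
        Ideal.span {(MvPolynomial.X none : MvPolynomial (Option κ) R)}) _
    exact Algebra.Smooth.of_equiv (Ideal.quotientEquivAlgOfEq R hmap)

end EC

end Groth.Agent.Helper3.EtCoord
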