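import Mathlib
import Groth.Agent.Helper3.EtCoord

set_option linter.style.haveILetI false
set_option linter.unusedSectionVars false
set_option linter.unusedVariables false
set_option linter.style.haveILetI false
set_option linter.unusedSectionVars false
set_option linter.unusedVariables false

open TensorProduct KaehlerDifferential IsLocalRing

namespace Groth.Agent.Helper3.EffCartAlg

universe u

open Groth.Agent.Helper3.EtCoord

section

variable {R A : Type u} [CommRing R] [CommRing A] [Algebra R A]

/-- the classes `1 ⊗ d(a/1)` span `k ⊗ Ω[B⁄R]` for a localization `B` of `A` -/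
theorem span_tmul_D_eq_top (M : Submonoid A) (B : Type u) [CommRing B] [IsLocalRing B]
    [Algebra A B] [IsLocalization M B] [Algebra R B] [IsScalarTower R A B] :
    Submodule.span (ResidueField B) (Set.range fun a : A =>
      (1 : ResidueField B) ⊗ₜ[B] D R B (algebraMap A B a)) = ⊤ := by
  rw [eq_top_iff]
  rintro x -
  induction x with
  | zero => exact Submodule.zero_mem _
  | add x y hx hy => exact Submodule.add_mem _ hx hy
  | tmul c m =>
    have hm : m ∈ Submodule.span B (Set.range <| map R R A B ∘ D R A) := by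
      rw [span_range_map_derivation_of_isLocalization R A B M]; trivial
    induction hm using Submodule.span_induction with
    | mem m hm =>
      obtain ⟨a, rfl⟩ := hm
      have : c ⊗ₜ[B] (map R R A B ∘ D R A) a =
          c • ((1 : ResidueField B) ⊗ₜ[B] D R B (algebraMap A B a)) := by
        rw [TensorProduct.smul_tmul', smul_eq_mul, mul_one, Function.comp_apply, map_D]
      rw [this]
      exact Submodule.smul_mem _ _ (Submodule.subset_span ⟨a, rfl⟩)
    | zero => rw [TensorProduct.tmul_zero]; exact Submodule.zero_mem _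
    | add m₁ m₂ _ _ h₁ h₂ => rw [TensorProduct.tmul_add]; exact Submodule.add_mem _ h₁ h₂
    | smul b m _ hm =>
      have : c ⊗ₜ[B] (b • m) = (residue B b) • (c ⊗ₜ[B] m) := by
        rw [TensorProduct.tmul_smul, TensorProduct.smul_tmul', TensorProduct.smul_tmul',
          smul_eq_mul, Algebra.smul_def]
        rfl
      rw [this]
      exact Submodule.smul_mem _ _ hm

/-- a basis of `Ω[B⁄R]` (with `B = A_q`) consisting of differentials of elements of `A` and
containing `d h`, provided `d h` is nonzero in the fibre at `q`. -/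
theorem exists_local_basis [Algebra.Smooth R A] (q : Ideal A) [q.IsPrime] (h : A)
    (B : Type u) [CommRing B] [IsLocalRing B] [Algebra A B] [IsLocalization.AtPrime B q]
    [Algebra R B] [IsScalarTower R A B]
    (hd : (1 : ResidueField B) ⊗ₜ[B] D R B (algebraMap A B h) ≠ 0) :
    ∃ (ι : Type u) (i₀ : ι) (t : ι → A), t i₀ = h ∧ ∃ b : Module.Basis ι B Ω[B⁄R],
      ∀ i, b i = D R B (algebraMap A B (t i)) := by
  classical
  haveI : Algebra.FormallyEtale A B := Algebra.FormallyEtale.of_isLocalization q.primeCompl
  haveI : Algebra.FormallySmooth R B := Algebra.FormallySmooth.comp R A B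
  haveI : Algebra.EssFiniteType A B := Algebra.EssFiniteType.of_isLocalization B q.primeCompl
  haveI : Algebra.EssFiniteType R B := Algebra.EssFiniteType.comp R A B
  haveI : Module.FinitePresentation B Ω[B⁄R] := inferInstance
  set S : Set (ResidueField B ⊗[B] Ω[B⁄R]) := Set.range fun a : A =>
      (1 : ResidueField B) ⊗ₜ[B] D R B (algebraMap A B a) with hS
  have hSspan : ⊤ ≤ Submodule.span (ResidueField B) S :=
    (span_tmul_D_eq_top (R := R) q.primeCompl B).ge
  set w₀ : ResidueField B ⊗[B] Ω[B⁄R] := (1 : ResidueField B) ⊗ₜ[B] D R B (algebraMap A B h)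
  have hs : LinearIndepOn (ResidueField B) id ({w₀} : Set (ResidueField B ⊗[B] Ω[B⁄R])) :=
    LinearIndepOn.singleton hd
  have hst : ({w₀} : Set (ResidueField B ⊗[B] Ω[B⁄R])) ⊆ S := by
    rintro _ rfl; exact ⟨h, rfl⟩
  let bk := Module.Basis.extendLe hs hst hSspan
  let i₀ : hs.extend hst := ⟨w₀, hs.subset_extend hst rfl⟩
  have hmem : ∀ i : hs.extend hst, ∃ a : A,
      (1 : ResidueField B) ⊗ₜ[B] D R B (algebraMap A B a) = i.1 := fun i => hs.extend_subset hst i.2
  choose a₀ ha₀ using hmem
  let t : hs.extend hst → A := fun i => if i = i₀ then h else a₀ i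
  have ht : ∀ i, (1 : ResidueField B) ⊗ₜ[B] D R B (algebraMap A B (t i)) = i.1 := by
    intro i
    by_cases hi : i = i₀
    · simp only [t, hi, if_true]; rfl
    · simp only [t, hi, if_false]; exact ha₀ i
  let v : hs.extend hst → Ω[B⁄R] := fun i => D R B (algebraMap A B (t i))
  have hv : (TensorProduct.mk B (ResidueField B) Ω[B⁄R] 1 ∘ v) = bk := by
    funext i
    rw [Function.comp_apply, Module.Basis.extendLe_apply_self]
    exact ht i
  have hli : LinearIndependent (ResidueField B) (TensorProduct.mk B (ResidueField B) Ω[B⁄R] 1 ∘ v) := by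
    rw [hv]; exact bk.linearIndependent
  have hsp : Submodule.span (ResidueField B)
      (Set.range (TensorProduct.mk B (ResidueField B) Ω[B⁄R] 1 ∘ v)) = ⊤ := by
    rw [hv]; exact bk.span_eq
  have H : Function.Injective ((maximalIdeal B).subtype.rTensor Ω[B⁄R]) :=
    Module.Flat.rTensor_preserves_injective_linearMap _ Subtype.val_injective
  obtain ⟨b, hb⟩ := Module.exists_basis_of_basis_baseChange v hli hsp H
  exact ⟨hs.extend hst, i₀, t, by simp [t], b, hb⟩

/-- the main algebraic statement: if `d h` is nonzero in the fibre of `Ω` at `q` then, on a basic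
open neighbourhood of `q`, `h` is a nonzerodivisor and the hypersurface `h = 0` is smooth. -/
theorem exists_away [Algebra.Smooth R A] (q : Ideal A) [q.IsPrime] (h : A)
    (B : Type u) [CommRing B] [IsLocalRing B] [Algebra A B] [IsLocalization.AtPrime B q]
    [Algebra R B] [IsScalarTower R A B]
    (hd : (1 : ResidueField B) ⊗ₜ[B] D R B (algebraMap A B h) ≠ 0) :
    ∃ g : A, g ∉ q ∧
      algebraMap A (Localization.Away g) h ∈ nonZeroDivisors (Localization.Away g) ∧
      Algebra.Smooth R (Localization.Away g ⧸
        Ideal.span {algebraMap A (Localization.Away g) h}) := by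
  classical
  haveI : Algebra.FormallyEtale A B := Algebra.FormallyEtale.of_isLocalization q.primeCompl
  haveI : Algebra.FormallySmooth R B := Algebra.FormallySmooth.comp R A B
  haveI : Algebra.EssFiniteType A B := Algebra.EssFiniteType.of_isLocalization B q.primeCompl
  haveI : Algebra.EssFiniteType R B := Algebra.EssFiniteType.comp R A B
  haveI : Module.FinitePresentation B Ω[B⁄R] := inferInstance
  haveI : Module.Finite B Ω[B⁄R] := inferInstance
  obtain ⟨ι, i₀, t, hti₀, b, hb⟩ := exists_local_basis q h B hd
  let e : (ι →₀ A) →ₗ[A] Ω[A⁄R] := Finsupp.linearCombination A fun i : ι ↦ D R A (t i)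
  let l₁ : (ι →₀ A) →ₗ[A] (ι →₀ B) := Finsupp.mapRange.linearMap (Algebra.linearMap A B)
  let l₂ : Ω[A⁄R] →ₗ[A] Ω[B⁄R] := map R R A B
  let eₚ : (ι →₀ B) →ₗ[B] Ω[B⁄R] := IsLocalizedModule.mapExtendScalars q.primeCompl l₁ l₂ B e
  have : eₚ = b.repr.symm := by
    ext i
    trans IsLocalizedModule.map q.primeCompl l₁ l₂ e <| l₁ <| Finsupp.single i 1
    · simp [eₚ, -IsLocalizedModule.map_apply, l₁]
    · simp [l₂, e, hb]
  have heₚ : Function.Bijective eₚ := this ▸ b.repr.symm.bijective
  have : Finite ι := Module.Finite.finite_basis b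
  obtain ⟨g, hg, hbij⟩ := Module.FinitePresentation.exists_notMem_bijective e q l₁ l₂ heₚ
  let l₁ₜ : (ι →₀ A) →ₗ[A] (ι →₀ Localization.Away g) :=
    Finsupp.mapRange.linearMap (Algebra.linearMap A _)
  let l₂ₜ : Ω[A⁄R] →ₗ[A] Ω[Localization.Away g⁄R] := map R R A (Localization.Away g)
  rw [← IsLocalizedModule.map_bijective_iff_localizedModuleMap_bijective l₁ₜ l₂ₜ] at hbij
  let eₜ' : (ι →₀ Localization.Away g) →ₗ[Localization.Away g] Ω[Localization.Away g⁄R] :=
    IsLocalizedModule.mapExtendScalars (Submonoid.powers g) l₁ₜ l₂ₜ (Localization.Away g) e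
  let b_g : Module.Basis ι (Localization.Away g) Ω[Localization.Away g⁄R] :=
    .ofRepr (LinearEquiv.ofBijective eₜ' hbij).symm
  have hb_g : ∀ i, b_g i = D R (Localization.Away g) (algebraMap A (Localization.Away g) (t i)) := by
    intro i
    simp +zetaDelta [IsLocalizedModule.map_linearCombination]
  haveI : Algebra.Smooth R (Localization.Away g) := Algebra.Smooth.comp R A _
  let ε : Option {i // i ≠ i₀} ≃ ι := Equiv.optionSubtypeNe i₀
  let t' : Option {i // i ≠ i₀} → Localization.Away g :=
    fun o => algebraMap A (Localization.Away g) (t (ε o))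
  have hcc := chart_consequences t' (b_g.reindex ε.symm) (by
    intro o
    rw [Module.Basis.reindex_apply, Equiv.symm_symm, hb_g])
  have ht'none : t' none = algebraMap A (Localization.Away g) h := by
    simp only [t', ε, Equiv.optionSubtypeNe_none, hti₀]
  rw [ht'none] at hcc
  exact ⟨g, hg, hcc.1, hcc.2⟩

end

end Groth.Agent.Helper3.EffCartAlg
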