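import Mathlib

set_option linter.style.haveILetI false
set_option linter.unusedSectionVars false
set_option linter.unusedVariables false
set_option linter.style.haveILetI false
set_option linter.unusedSectionVars false
set_option linter.unusedVariables false

open TensorProduct KaehlerDifferential IsLocalRing

namespace Groth.Agent.Helper3.EffCartAlg2

universe u

/-- if `K` is a formally smooth quotient of `P`, the conormal map is injective. -/
theorem injective_kerCotangentToTensor {k P K : Type u} [CommRing k] [CommRing P] [CommRing K]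
    [Algebra k P] [Algebra k K] [Algebra P K] [IsScalarTower k P K] [Algebra.FormallySmooth k K]
    (hf : Function.Surjective (algebraMap P K)) :
    Function.Injective (kerCotangentToTensor k P K) := by
  let g₀ := (IsScalarTower.toAlgHom k P K).kerSquareLift
  have hg₀ : Function.Surjective g₀ := fun y => by
    obtain ⟨p, rfl⟩ := hf y
    exact ⟨Ideal.Quotient.mk _ p, rfl⟩
  have hnil : IsNilpotent (RingHom.ker
      (g₀ : (P ⧸ RingHom.ker (IsScalarTower.toAlgHom k P K).toRingHom ^ 2) →+* K)) := by
    refine ⟨2, ?_⟩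
    have := AlgHom.ker_kerSquareLift (IsScalarTower.toAlgHom k P K)
    rw [show RingHom.ker
      (g₀ : (P ⧸ RingHom.ker (IsScalarTower.toAlgHom k P K).toRingHom ^ 2) →+* K) = _ from this]
    exact Ideal.cotangentIdeal_square _
  let σ := Algebra.FormallySmooth.liftOfSurjective (AlgHom.id k K) g₀ hg₀ hnil
  have hσ : g₀.comp σ = AlgHom.id k K := Algebra.FormallySmooth.comp_liftOfSurjective _ _ _ _
  obtain ⟨l, hl⟩ := (retractionKerCotangentToTensorEquivSection (R := k) hf).symm ⟨σ, hσ⟩
  exact Function.LeftInverse.injective (g := l) (fun x => LinearMap.congr_fun hl x)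

theorem exists_tmul_D_ne_zero {R A : Type u} [CommRing R] [CommRing A] [IsLocalRing R]
    [IsLocalRing A] [Algebra R A] [IsLocalHom (algebraMap R A)] [Algebra.EssFiniteType R A]
    [Algebra.FormallySmooth (ResidueField R) (ResidueField A)]
    (hne : maximalIdeal A ≠ (maximalIdeal R).map (algebraMap R A)) :
    ∃ h ∈ maximalIdeal A, (1 : ResidueField A) ⊗ₜ[A] D R A h ≠ 0 := by
  have hIm : (maximalIdeal R).map (algebraMap R A) ≤ maximalIdeal A :=
    IsLocalRing.map_maximalIdeal_le (algebraMap R A)
  letI algkA' : Algebra (ResidueField R) (A ⧸ (maximalIdeal R).map (algebraMap R A)) :=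
    inferInstanceAs (Algebra (R ⧸ maximalIdeal R) (A ⧸ (maximalIdeal R).map (algebraMap R A)))
  haveI : IsScalarTower R (ResidueField R) (A ⧸ (maximalIdeal R).map (algebraMap R A)) :=
    inferInstanceAs (IsScalarTower R (R ⧸ maximalIdeal R)
      (A ⧸ (maximalIdeal R).map (algebraMap R A)))
  letI algA'K : Algebra (A ⧸ (maximalIdeal R).map (algebraMap R A)) (ResidueField A) :=
    (Ideal.Quotient.factor hIm).toAlgebra
  haveI : IsScalarTower A (A ⧸ (maximalIdeal R).map (algebraMap R A)) (ResidueField A) :=
    IsScalarTower.of_algebraMap_eq (fun a => rfl)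
  haveI : IsScalarTower (ResidueField R) (A ⧸ (maximalIdeal R).map (algebraMap R A))
      (ResidueField A) := by
    refine IsScalarTower.of_algebraMap_eq (fun r => ?_)
    obtain ⟨r, rfl⟩ := Ideal.Quotient.mk_surjective r
    rfl
  set A' := A ⧸ (maximalIdeal R).map (algebraMap R A) with hA'
  have hsurj : Function.Surjective (algebraMap A' (ResidueField A)) :=
    Ideal.Quotient.factor_surjective hIm
  have hinj := injective_kerCotangentToTensor (k := ResidueField R) (P := A')
    (K := ResidueField A) hsurj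
  haveI : Algebra.EssFiniteType (ResidueField R) A' :=
    inferInstanceAs (Algebra.EssFiniteType (R ⧸ maximalIdeal R)
      (A ⧸ (maximalIdeal R).map (algebraMap R A)))
  haveI : IsNoetherianRing A' := Algebra.EssFiniteType.isNoetherianRing (ResidueField R) A'
  haveI : Nontrivial A' := Ideal.Quotient.nontrivial_iff.mpr
    (ne_top_of_le_ne_top (maximalIdeal.isMaximal A).ne_top hIm)
  haveI : IsLocalRing A' :=
    IsLocalRing.of_surjective' (Ideal.Quotient.mk _) Ideal.Quotient.mk_surjective
  set J := RingHom.ker (algebraMap A' (ResidueField A)) with hJ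
  have hJtop : J ≠ ⊤ := RingHom.ker_ne_top _
  have hJjac : J ≤ Ideal.jacobson ⊥ := by
    rw [IsLocalRing.jacobson_eq_maximalIdeal ⊥ bot_ne_top]
    exact IsLocalRing.le_maximalIdeal hJtop
  have hJbot : J ≠ ⊥ := by
    intro hbot
    apply hne
    refine le_antisymm ?_ hIm
    intro a ha
    have : (Ideal.Quotient.mk _ a : A') ∈ J := by
      rw [hJ, RingHom.mem_ker]
      show Ideal.Quotient.mk (maximalIdeal A) a = 0
      exact Ideal.Quotient.eq_zero_iff_mem.mpr ha
    rw [hbot, Ideal.mem_bot, Ideal.Quotient.eq_zero_iff_mem] at this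
    exact this
  have hJ2 : ¬ (J ≤ J • J) := fun hle =>
    hJbot (Submodule.eq_bot_of_le_smul_of_le_jacobson_bot J J (IsNoetherian.noetherian J) hle hJjac)
  obtain ⟨hbar, hbarJ, hbar2⟩ := SetLike.not_le_iff_exists.mp hJ2
  obtain ⟨h, rfl⟩ := Ideal.Quotient.mk_surjective hbar
  have hm : h ∈ maximalIdeal A := by
    rw [hJ, RingHom.mem_ker] at hbarJ
    exact Ideal.Quotient.eq_zero_iff_mem.mp hbarJ
  refine ⟨h, hm, fun h0 => ?_⟩
  have hcot : J.toCotangent ⟨_, hbarJ⟩ ≠ 0 := by
    rw [Ne, Ideal.toCotangent_eq_zero]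
    rwa [smul_eq_mul, ← pow_two] at hbar2
  have hω : kerCotangentToTensor (ResidueField R) A' (ResidueField A)
      (J.toCotangent ⟨_, hbarJ⟩) ≠ 0 :=
    (map_ne_zero_iff _ hinj).mpr hcot
  rw [kerCotangentToTensor_toCotangent] at hω
  apply hω
  haveI : SMulCommClass (ResidueField R) A A' := by
    refine ⟨fun c a b => ?_⟩
    rw [Algebra.smul_def, Algebra.smul_def, Algebra.smul_def, Algebra.smul_def]
    ring
  let T₁ := LinearMap.lTensor (ResidueField A) (KaehlerDifferential.map R (ResidueField R) A A')
  let T₂ := TensorProduct.mapOfCompatibleSMul A' A A (ResidueField A) Ω[A'⁄ResidueField R]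
  have := congrArg (T₂ ∘ₗ T₁) h0
  have h2 : (T₂ ∘ₗ T₁) ((1 : ResidueField A) ⊗ₜ[A] D R A h) =
      (1 : ResidueField A) ⊗ₜ[A'] D (ResidueField R) A' (algebraMap A A' h) := by
    simp [T₁, T₂, map_D]
  rw [h2, map_zero] at this
  exact this

end Groth.Agent.Helper3.EffCartAlg2
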