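import Mathlib
import Groth.Agent.Helper3.EffCartAlg

set_option linter.style.haveILetI false
set_option linter.unusedSectionVars false
set_option linter.unusedVariables false
set_option linter.style.haveILetI false
set_option linter.unusedSectionVars false
set_option linter.unusedVariables false

open AlgebraicGeometry CategoryTheory CategoryTheory.Limits TensorProduct KaehlerDifferential
open IsLocalRing

namespace Groth.Agent.Helper3.EffCartSch

universe u

open Groth.Agent.Helper3.EffCartAlg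

/-- smoothness of `f` on an open `W` gives smooth ring maps on affine opens inside `W` -/
theorem smooth_appLE_of_le {X S : Scheme.{u}} (f : X ⟶ S) (W : X.Opens) (hW : Smooth (W.ι ≫ f))
    {U₀ : S.Opens} (hU₀ : IsAffineOpen U₀) {V : X.Opens} (hV : IsAffineOpen V) (hVW : V ≤ W)
    (e : V ≤ f ⁻¹ᵁ U₀) : (f.appLE U₀ V e).hom.Smooth := by
  have hV' : IsAffineOpen (W.ι ⁻¹ᵁ V) :=
    hV.preimage_of_isOpenImmersion W.ι (by rw [Scheme.Opens.opensRange_ι]; exact hVW)
  have e' : W.ι ⁻¹ᵁ V ≤ (W.ι ≫ f) ⁻¹ᵁ U₀ := by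
    intro y hy
    exact e hy
  have h1 := (W.ι ≫ f).smooth_appLE hU₀ hV' e'
  have h2 : (W.ι ≫ f).appLE U₀ (W.ι ⁻¹ᵁ V) e' = f.appLE U₀ V e ≫ W.ι.appLE V (W.ι ⁻¹ᵁ V) le_rfl := by
    rw [Scheme.Hom.appLE_comp_appLE]
  haveI : IsIso (W.ι.appLE V (W.ι ⁻¹ᵁ V) le_rfl) := by
    rw [Scheme.Hom.appLE_eq_app]
    exact W.ι.isIso_app V (by rw [Scheme.Opens.opensRange_ι]; exact hVW)
  rw [h2, CommRingCat.hom_comp] at h1
  exact (RingHom.Smooth.respectsIso.cancel_right_isIso _ _).mp h1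

theorem main {X S : Scheme.{u}} (f : X ⟶ S) (x : X)
    (W : X.Opens) (hxW : x ∈ W) (hW : Smooth (W.ι ≫ f))
    (h : ↑(X.presheaf.stalk x))
    (hd : letI := (f.stalkMap x).hom.toAlgebra
      (1 : IsLocalRing.ResidueField ↑(X.presheaf.stalk x)) ⊗ₜ[↑(X.presheaf.stalk x)]
          (KaehlerDifferential.D ↑(S.presheaf.stalk (f x)) ↑(X.presheaf.stalk x) h) ≠ 0) :
    ∃ (U : X.Opens) (hU : IsAffineOpen U) (hx : x ∈ U) (h' : Γ(X, U)),
      X.presheaf.germ U x hx h' = h ∧ h' ∈ nonZeroDivisors Γ(X, U) ∧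
      Smooth (Spec.map (CommRingCat.ofHom (Ideal.Quotient.mk (Ideal.span {h'}))) ≫
        hU.fromSpec ≫ f) := by
  -- affine neighbourhoods
  obtain ⟨_, ⟨U₀, hU₀, rfl⟩, hfxU₀, -⟩ :=
    S.isBasis_affineOpens.exists_subset_of_mem_open (Set.mem_univ (f x)) isOpen_univ
  have hU₀' : IsAffineOpen (U₀ : S.Opens) := hU₀
  obtain ⟨V', hxV', s, hs⟩ := X.presheaf.germ_exist (x := x) h
  obtain ⟨_, ⟨V, hV, rfl⟩, hxV, hVsub⟩ :=
    X.isBasis_affineOpens.exists_subset_of_mem_open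
      (show x ∈ ((V' ⊓ W ⊓ f ⁻¹ᵁ U₀ : X.Opens) : Set X) from ⟨⟨hxV', hxW⟩, hfxU₀⟩)
      (V' ⊓ W ⊓ f ⁻¹ᵁ U₀ : X.Opens).2
  have hV0 : IsAffineOpen (V : X.Opens) := hV
  have hVV' : (V : X.Opens) ≤ V' := fun y hy => (hVsub hy).1.1
  have hVW : (V : X.Opens) ≤ W := fun y hy => (hVsub hy).1.2
  have e : (V : X.Opens) ≤ f ⁻¹ᵁ U₀ := fun y hy => (hVsub hy).2
  let h₀ : Γ(X, V) := X.presheaf.map (homOfLE hVV').op s
  have hh₀ : X.presheaf.germ V x hxV h₀ = h := by
    rw [← hs]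
    exact TopCat.Presheaf.germ_res_apply X.presheaf (homOfLE hVV') x hxV s
  -- algebra structures
  letI algRA : Algebra Γ(S, U₀) Γ(X, V) := (f.appLE U₀ V e).hom.toAlgebra
  haveI hsm : Algebra.Smooth Γ(S, U₀) Γ(X, V) := by
    have := smooth_appLE_of_le f W hW hU₀' hV0 hVW e
    exact RingHom.smooth_algebraMap.mp this
  letI algAB : Algebra Γ(X, V) (X.presheaf.stalk x) :=
    X.presheaf.algebra_section_stalk ⟨x, hxV⟩
  haveI hloc : IsLocalization.AtPrime (X.presheaf.stalk x)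
      (hV0.primeIdealOf ⟨x, hxV⟩).asIdeal := hV0.isLocalization_stalk ⟨x, hxV⟩
  letI algRR' : Algebra Γ(S, U₀) (S.presheaf.stalk (f x)) :=
    S.presheaf.algebra_section_stalk ⟨f x, hfxU₀⟩
  letI algR'B : Algebra (S.presheaf.stalk (f x)) (X.presheaf.stalk x) :=
    (f.stalkMap x).hom.toAlgebra
  letI algRB : Algebra Γ(S, U₀) (X.presheaf.stalk x) :=
    ((algebraMap Γ(X, V) (X.presheaf.stalk x)).comp (algebraMap Γ(S, U₀) Γ(X, V))).toAlgebra
  haveI : IsScalarTower Γ(S, U₀) Γ(X, V) (X.presheaf.stalk x) :=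
    IsScalarTower.of_algebraMap_eq' rfl
  haveI : IsScalarTower Γ(S, U₀) (S.presheaf.stalk (f x)) (X.presheaf.stalk x) := by
    refine IsScalarTower.of_algebraMap_eq' ?_
    ext a
    show X.presheaf.germ V x hxV (f.appLE U₀ V e a) =
      f.stalkMap x (S.presheaf.germ U₀ (f x) hfxU₀ a)
    rw [Scheme.Hom.germ_stalkMap_apply, Scheme.Hom.appLE, CommRingCat.comp_apply,
      X.presheaf.germ_res_apply]
  have hd' : (1 : ResidueField (X.presheaf.stalk x)) ⊗ₜ[X.presheaf.stalk x]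
      D Γ(S, U₀) (X.presheaf.stalk x) (algebraMap Γ(X, V) (X.presheaf.stalk x) h₀) ≠ 0 := by
    intro h0
    apply hd
    have := congrArg (LinearMap.lTensor (ResidueField (X.presheaf.stalk x))
      (KaehlerDifferential.map Γ(S, U₀) (S.presheaf.stalk (f x)) (X.presheaf.stalk x)
        (X.presheaf.stalk x))) h0
    rw [LinearMap.lTensor_tmul, map_zero, map_D] at this
    rw [← hh₀]
    exact this
  obtain ⟨g, hg, hnzd, hsmq⟩ := exists_away (hV0.primeIdealOf ⟨x, hxV⟩).asIdeal h₀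
    (X.presheaf.stalk x) hd'
  -- the open U
  have hU : IsAffineOpen (X.basicOpen g) := hV0.basicOpen g
  have hUV : X.basicOpen g ≤ V := X.basicOpen_le g
  have hxU : x ∈ X.basicOpen g := by
    have h1 : hV0.primeIdealOf ⟨x, hxV⟩ ∈ (hV0.fromSpec ⁻¹ᵁ X.basicOpen g) := by
      rw [hV0.fromSpec_preimage_basicOpen]
      exact hg
    have h2 := hV0.fromSpec_primeIdealOf ⟨x, hxV⟩
    have h3 : hV0.fromSpec (hV0.primeIdealOf ⟨x, hxV⟩) ∈ X.basicOpen g := h1
    rw [h2] at h3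
    exact h3
  have e'' : X.basicOpen g ≤ f ⁻¹ᵁ U₀ := hUV.trans e
  haveI hlocU : IsLocalization.Away g Γ(X, X.basicOpen g) := hV0.isLocalization_basicOpen g
  let ψ : Localization.Away g ≃ₐ[Γ(X, V)] Γ(X, X.basicOpen g) :=
    IsLocalization.algEquiv (Submonoid.powers g) _ _
  let h' : Γ(X, X.basicOpen g) := algebraMap Γ(X, V) Γ(X, X.basicOpen g) h₀
  have hψ : ψ (algebraMap Γ(X, V) (Localization.Away g) h₀) = h' := ψ.commutes h₀
  have hh' : X.presheaf.germ (X.basicOpen g) x hxU h' = h := by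
    rw [← hh₀]
    exact TopCat.Presheaf.germ_res_apply X.presheaf (homOfLE hUV) x hxU h₀
  refine ⟨X.basicOpen g, hU, hxU, h', hh', ?_, ?_⟩
  · rw [mem_nonZeroDivisors_iff_right]
    intro y hy
    have h1 : ψ.symm y * algebraMap Γ(X, V) (Localization.Away g) h₀ = 0 := by
      apply ψ.injective
      rw [map_mul, hψ, AlgEquiv.apply_symm_apply, hy, map_zero]
    have h2 := (mem_nonZeroDivisors_iff_right.mp hnzd) _ h1
    have := congrArg ψ h2
    rwa [AlgEquiv.apply_symm_apply, map_zero] at this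
  · letI algRU : Algebra Γ(S, U₀) Γ(X, X.basicOpen g) := (f.appLE U₀ _ e'').hom.toAlgebra
    haveI : IsScalarTower Γ(S, U₀) Γ(X, V) Γ(X, X.basicOpen g) := by
      refine IsScalarTower.of_algebraMap_eq' ?_
      show (f.appLE U₀ _ e'').hom = (X.presheaf.map (homOfLE hUV).op).hom.comp (f.appLE U₀ V e).hom
      rw [← CommRingCat.hom_comp, Scheme.Hom.appLE_map]
    let ψR : Localization.Away g ≃ₐ[Γ(S, U₀)] Γ(X, X.basicOpen g) := ψ.restrictScalars Γ(S, U₀)
    let χ : (Localization.Away g ⧸ Ideal.span {algebraMap Γ(X, V) (Localization.Away g) h₀})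
        ≃ₐ[Γ(S, U₀)] (Γ(X, X.basicOpen g) ⧸ Ideal.span {h'}) :=
      Ideal.quotientEquivAlg _ _ ψR (by
        rw [Ideal.map_span, Set.image_singleton]
        congr 2
        exact hψ.symm)
    haveI : Algebra.Smooth Γ(S, U₀) (Γ(X, X.basicOpen g) ⧸ Ideal.span {h'}) :=
      Algebra.Smooth.of_equiv χ
    rw [← hU₀'.SpecMap_appLE_fromSpec f hU e'', ← Category.assoc, ← Spec.map_comp]
    haveI : Smooth (Spec.map (f.appLE U₀ _ e'' ≫
        CommRingCat.ofHom (Ideal.Quotient.mk (Ideal.span {h'})))) := by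
      rw [HasRingHomProperty.Spec_iff (P := @Smooth)]
      have : (algebraMap Γ(S, U₀) (Γ(X, X.basicOpen g) ⧸ Ideal.span {h'})).Smooth :=
        RingHom.smooth_algebraMap.mpr inferInstance
      exact this
    infer_instance

end Groth.Agent.Helper3.EffCartSch
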