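import Mathlib
import Groth.Agent.Helper3.EffCartSch

set_option linter.style.haveILetI false
set_option linter.unusedSectionVars false
set_option linter.unusedVariables false
set_option linter.style.haveILetI false
set_option linter.unusedSectionVars false
set_option linter.unusedVariables false

open AlgebraicGeometry CategoryTheory CategoryTheory.Limits TensorProduct KaehlerDifferential
open IsLocalRing

namespace Groth.Agent.Helper3.EffCartSch2

universe u

open Groth.Agent.Helper3.EffCartSch

theorem main {X S : Scheme.{u}} (f : X ⟶ S) (x : X)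
    (W : X.Opens) (hxW : x ∈ W) (hW : Smooth (W.ι ≫ f))
    (hker : letI := (f.stalkMap x).hom.toAlgebra
      letI := ((IsLocalRing.residue ↑(X.presheaf.stalk x)).comp (f.stalkMap x).hom).toAlgebra
      haveI : IsScalarTower ↑(S.presheaf.stalk (f x)) ↑(X.presheaf.stalk x) (IsLocalRing.ResidueField ↑(X.presheaf.stalk x)) :=
        IsScalarTower.of_algebraMap_eq (fun _ => rfl)
      LinearMap.ker (KaehlerDifferential.mapBaseChange ↑(S.presheaf.stalk (f x)) ↑(X.presheaf.stalk x)
        (IsLocalRing.ResidueField ↑(X.presheaf.stalk x))) ≠ ⊥) :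
    ∃ (U : X.Opens) (hU : IsAffineOpen U) (hx : x ∈ U) (h' : Γ(X, U)), h' ∈ nonZeroDivisors Γ(X, U) ∧
      X.presheaf.germ U x hx h' ∈ IsLocalRing.maximalIdeal ↑(X.presheaf.stalk x) ∧
      Smooth (Spec.map (CommRingCat.ofHom (Ideal.Quotient.mk (Ideal.span {h'}))) ≫ hU.fromSpec ≫ f) := by
  letI alg1 := (f.stalkMap x).hom.toAlgebra
  letI alg2 := ((IsLocalRing.residue ↑(X.presheaf.stalk x)).comp (f.stalkMap x).hom).toAlgebra
  haveI tower : IsScalarTower ↑(S.presheaf.stalk (f x)) ↑(X.presheaf.stalk x)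
      (IsLocalRing.ResidueField ↑(X.presheaf.stalk x)) :=
    IsScalarTower.of_algebraMap_eq (fun _ => rfl)
  have hker' : LinearMap.ker (KaehlerDifferential.mapBaseChange ↑(S.presheaf.stalk (f x))
      ↑(X.presheaf.stalk x) (IsLocalRing.ResidueField ↑(X.presheaf.stalk x))) ≠ ⊥ := hker
  have hsurj : Function.Surjective (algebraMap (X.presheaf.stalk x)
      (IsLocalRing.ResidueField ↑(X.presheaf.stalk x))) := IsLocalRing.residue_surjective
  have hex := KaehlerDifferential.exact_kerCotangentToTensor_mapBaseChange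
    (S.presheaf.stalk (f x)) (X.presheaf.stalk x) (IsLocalRing.ResidueField ↑(X.presheaf.stalk x)) hsurj
  obtain ⟨ω, hω, hω0⟩ := Submodule.exists_mem_ne_zero_of_ne_bot hker'
  obtain ⟨c, rfl⟩ := (hex ω).mp hω
  obtain ⟨⟨h, hh⟩, rfl⟩ := Ideal.toCotangent_surjective _ c
  rw [KaehlerDifferential.kerCotangentToTensor_toCotangent] at hω0
  have hm : h ∈ maximalIdeal (X.presheaf.stalk x) := by
    have : RingHom.ker (algebraMap (X.presheaf.stalk x)
      (IsLocalRing.ResidueField ↑(X.presheaf.stalk x))) = maximalIdeal _ := IsLocalRing.ker_residue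
    rwa [this] at hh
  obtain ⟨U, hU, hx, h', hgerm, hnzd, hsm⟩ := EffCartSch.main f x W hxW hW h hω0
  exact ⟨U, hU, hx, h', hnzd, hgerm ▸ hm, hsm⟩

end Groth.Agent.Helper3.EffCartSch2
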