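import Mathlib
import Groth.Agent.Helper3.EffCartSch
import Groth.Agent.Helper3.EffCartAlg2

set_option linter.style.haveILetI false
set_option linter.unusedSectionVars false
set_option linter.unusedVariables false
set_option linter.style.haveILetI false
set_option linter.unusedSectionVars false
set_option linter.unusedVariables false

open AlgebraicGeometry CategoryTheory CategoryTheory.Limits TensorProduct KaehlerDifferential
open IsLocalRing

namespace Groth.Agent.Helper3.EffCartSch3

universe u

theorem maximalIdeal_stalk_Spec_field (K : Type u) [Field K] (t : Spec (.of K)) :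
    maximalIdeal ((Spec (.of K)).presheaf.stalk t) = ⊥ := by
  haveI : IsIntegral (Spec (.of K)) := inferInstance
  have : t = genericPoint (Spec (.of K)) := Subsingleton.elim _ _
  subst this
  exact IsLocalRing.isField_iff_maximalIdeal_eq.mp (Field.toIsField (Spec (.of K)).functionField)

theorem stalkMap_kills_aux {F S : Scheme.{u}} {K : Type u} [Field K] (p : F ⟶ Spec (.of K))
    (j : Spec (.of K) ⟶ S) (z : F) (r : S.presheaf.stalk (j (p z)))
    (hr : r ∈ maximalIdeal (S.presheaf.stalk (j (p z)))) :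
    p.stalkMap z (j.stalkMap (p z) r) = 0 := by
  have h1 : j.stalkMap (p z) r ∈ maximalIdeal ((Spec (.of K)).presheaf.stalk (p z)) := by
    rw [mem_maximalIdeal, mem_nonunits_iff] at hr ⊢
    exact fun hu => hr (isUnit_of_map_unit (j.stalkMap (p z)).hom r hu)
  rw [maximalIdeal_stalk_Spec_field] at h1
  rw [Ideal.mem_bot.mp h1, map_zero]

theorem stalkMap_comp_kills {F S : Scheme.{u}} {K : Type u} [Field K] (p : F ⟶ Spec (.of K))
    (j : Spec (.of K) ⟶ S) (q : F ⟶ S) (hq : q = p ≫ j) (z : F) (r : S.presheaf.stalk (q z))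
    (hr : r ∈ maximalIdeal (S.presheaf.stalk (q z))) : q.stalkMap z r = 0 := by
  subst hq
  have e : (p ≫ j).stalkMap z = j.stalkMap (p z) ≫ p.stalkMap z := Scheme.Hom.stalkMap_comp p j z
  have e' : (p ≫ j).stalkMap z r = p.stalkMap z (j.stalkMap (p z) r) := by rw [e]; rfl
  rw [e']
  exact stalkMap_kills_aux p j z r hr

theorem main {X S : Scheme.{u}} (f : X ⟶ S) (x : X)
    (W : X.Opens) (hxW : x ∈ W) (hW : Smooth (W.ι ≫ f))
    (hsep : letI := (f.residueFieldMap x).hom.toAlgebra
      Algebra.FormallySmooth (S.residueField (f x)) (X.residueField x))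
    (hgen : IsLocalRing.maximalIdeal ↑((f.fiber (f x)).presheaf.stalk (f.asFiber x)) ≠ ⊥) :
    ∃ (U : X.Opens) (hU : IsAffineOpen U) (hx : x ∈ U) (h' : Γ(X, U)), h' ∈ nonZeroDivisors Γ(X, U) ∧
      X.presheaf.germ U x hx h' ∈ IsLocalRing.maximalIdeal ↑(X.presheaf.stalk x) ∧
      Smooth (Spec.map (CommRingCat.ofHom (Ideal.Quotient.mk (Ideal.span {h'}))) ≫ hU.fromSpec ≫ f) := by
  letI alg := (f.stalkMap x).hom.toAlgebra
  haveI : IsLocalHom (algebraMap (S.presheaf.stalk (f x)) (X.presheaf.stalk x)) :=
    inferInstanceAs (IsLocalHom (f.stalkMap x).hom)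
  -- essentially of finite type
  haveI : Algebra.EssFiniteType (S.presheaf.stalk (f x)) (X.presheaf.stalk x) := by
    have h1 := LocallyOfFiniteType.stalkMap (W.ι ≫ f) ⟨x, hxW⟩
    rw [Scheme.Hom.stalkMap_comp] at h1
    have := (RingHom.EssFiniteType.respectsIso.cancel_right_isIso
      (f.stalkMap (W.ι ⟨x, hxW⟩)) (W.ι.stalkMap ⟨x, hxW⟩)).mp h1
    exact this
  -- separable residue field extension
  haveI : Algebra.FormallySmooth (ResidueField (S.presheaf.stalk (f x)))
      (ResidueField (X.presheaf.stalk x)) := by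
    have key : ∀ (inst : Algebra (ResidueField (S.presheaf.stalk (f x)))
        (ResidueField (X.presheaf.stalk x))), (f.residueFieldMap x).hom.toAlgebra = inst →
        @Algebra.FormallySmooth (ResidueField (S.presheaf.stalk (f x)))
          (ResidueField (X.presheaf.stalk x)) _ _ inst := by
      rintro _ rfl
      exact hsep
    refine key _ ?_
    refine Algebra.algebra_ext _ _ (fun r => ?_)
    obtain ⟨r, rfl⟩ := residue_surjective r
    rfl
  have hne : maximalIdeal (X.presheaf.stalk x) ≠
      (maximalIdeal (S.presheaf.stalk (f x))).map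
        (algebraMap (S.presheaf.stalk (f x)) (X.presheaf.stalk x)) := by
    intro hP
    apply hgen
    have hz : (f.fiberι (f x)) (f.asFiber x) = x := f.fiberι_asFiber x
    have hP' : maximalIdeal (X.presheaf.stalk ((f.fiberι (f x)) (f.asFiber x))) =
        (maximalIdeal (S.presheaf.stalk (f ((f.fiberι (f x)) (f.asFiber x))))).map
          (f.stalkMap ((f.fiberι (f x)) (f.asFiber x))).hom := by
      rw [hz]
      exact hP
    rw [eq_bot_iff]
    intro ybar hy
    obtain ⟨y, rfl⟩ := (f.fiberι (f x)).stalkMap_surjective (f.asFiber x) ybar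
    have hy' : y ∈ maximalIdeal (X.presheaf.stalk ((f.fiberι (f x)) (f.asFiber x))) := by
      rw [mem_maximalIdeal, mem_nonunits_iff] at hy ⊢
      exact fun hu => hy (hu.map _)
    rw [hP'] at hy'
    have hle : (maximalIdeal (S.presheaf.stalk (f ((f.fiberι (f x)) (f.asFiber x))))).map
          (f.stalkMap ((f.fiberι (f x)) (f.asFiber x))).hom ≤
        RingHom.ker ((f.fiberι (f x)).stalkMap (f.asFiber x)).hom := by
      rw [Ideal.map_le_iff_le_comap]
      intro r hr
      rw [Ideal.mem_comap, RingHom.mem_ker]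
      have h3 := stalkMap_comp_kills (K := ResidueField (S.presheaf.stalk (f x)))
        (f.fiberToSpecResidueField (f x)) (S.fromSpecResidueField (f x))
        (f.fiberι (f x) ≫ f) (f.fiber_fac (f x)) (f.asFiber x) r hr
      have e : (f.fiberι (f x) ≫ f).stalkMap (f.asFiber x) =
        f.stalkMap ((f.fiberι (f x)) (f.asFiber x)) ≫ (f.fiberι (f x)).stalkMap (f.asFiber x) :=
        Scheme.Hom.stalkMap_comp _ _ _
      rw [e] at h3
      exact h3
    exact hle hy'
  obtain ⟨h, hm, hd⟩ := Groth.Agent.Helper3.EffCartAlg2.exists_tmul_D_ne_zero hne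
  obtain ⟨U, hU, hx, h', hgerm, hnzd, hsm⟩ := EffCartSch.main f x W hxW hW h hd
  exact ⟨U, hU, hx, h', hnzd, hgerm ▸ hm, hsm⟩

end Groth.Agent.Helper3.EffCartSch3
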