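import Mathlib
set_option autoImplicit false
set_option linter.style.haveILetI false
set_option linter.unusedSectionVars false
set_option linter.unusedVariables false
set_option linter.style.haveILetI false
set_option linter.unusedSectionVars false
set_option linter.unusedVariables false

universe u v
open CategoryTheory CategoryTheory.Limits AlgebraicGeometry TopologicalSpace

namespace Groth.Agent.Helper3.EftBC

lemma appLE_of_eq {X W : Scheme.{u}} {g g' : W ⟶ X} (h : g = g') (U : X.Opens) (V : W.Opens) (e) :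
    g.appLE U V e = g'.appLE U V (h ▸ e) := by
  subst h; rfl

lemma appLE_comp_ι {X W : Scheme.{u}} (U : X.Opens) (g : W ⟶ U.toScheme) (e) :
    (g ≫ U.ι).appLE U ⊤ e = U.topIso.inv ≫ g.appTop := by
  rw [← Scheme.Hom.appLE_comp_appLE (f := g) (g := U.ι) (V := ⊤) (e₁ := by simp) (e₂ := by simp)]
  congr 1
  · rw [Scheme.Opens.ι_appLE]
    rfl
  · rw [Scheme.Hom.appTop, Scheme.Hom.app_eq_appLE]
    rfl

abbrev EFT : MorphismProperty CommRingCat.{u} := RingHom.toMorphismProperty RingHom.EssFiniteType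

instance : (EFT.{u}).RespectsIso :=
  RingHom.toMorphismProperty_respectsIso_iff.mp RingHom.EssFiniteType.respectsIso

instance : (EFT.{u}).IsStableUnderCobaseChange :=
  RingHom.isStableUnderCobaseChange_toMorphismProperty_iff.mpr
    RingHom.EssFiniteType.isStableUnderBaseChange

instance : (EFT.{u}).IsStableUnderComposition where
  comp_mem f g hf hg := RingHom.EssFiniteType.comp hf hg

variable {X Y Y' : Scheme.{u}} (f : X ⟶ Y) (g : Y' ⟶ Y)
  (Y₁ : Y.Opens) (V : X.Opens) (U₁ : Y'.Opens) (hV : V ≤ f ⁻¹ᵁ Y₁) (hU : U₁ ≤ g ⁻¹ᵁ Y₁)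

/-- the open immersion `V ×_{Y₁} U₁ → X ×_Y Y'`. -/
noncomputable def m : pullback (f.resLE Y₁ V hV) (g.resLE Y₁ U₁ hU) ⟶ pullback f g :=
  pullback.map _ _ f g V.ι U₁.ι Y₁.ι (Scheme.Hom.resLE_comp_ι _ _) (Scheme.Hom.resLE_comp_ι _ _)

instance : IsOpenImmersion (m f g Y₁ V U₁ hV hU) := by unfold m; infer_instance

lemma m_fst : m f g Y₁ V U₁ hV hU ≫ pullback.fst f g = pullback.fst _ _ ≫ V.ι := by
  unfold m; exact pullback.lift_fst _ _ _
lemma m_snd : m f g Y₁ V U₁ hV hU ≫ pullback.snd f g = pullback.snd _ _ ≫ U₁.ι := by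
  unfold m; exact pullback.lift_snd _ _ _

noncomputable abbrev W : (pullback f g).Opens := (m f g Y₁ V U₁ hV hU) ''ᵁ ⊤

lemma W_eq : W f g Y₁ V U₁ hV hU = pullback.fst f g ⁻¹ᵁ V ⊓ pullback.snd f g ⁻¹ᵁ U₁ := by
  apply Opens.ext
  simp [W, m, Scheme.Pullback.range_map]

lemma isAffineOpen_W (h₀ : IsAffineOpen Y₁) (h₁ : IsAffineOpen V) (h₂ : IsAffineOpen U₁) :
    IsAffineOpen (W f g Y₁ V U₁ hV hU) := by
  have : IsAffine Y₁.toScheme := h₀
  have : IsAffine V.toScheme := h₁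
  have : IsAffine U₁.toScheme := h₂
  exact (isAffineOpen_top _).image_of_isOpenImmersion (m f g Y₁ V U₁ hV hU)

lemma le_snd : W f g Y₁ V U₁ hV hU ≤ pullback.snd f g ⁻¹ᵁ U₁ := by rw [W_eq]; exact inf_le_right

lemma eft_W (h₀ : IsAffineOpen Y₁) (h₁ : IsAffineOpen V) (h₂ : IsAffineOpen U₁)
    (h : (f.appLE Y₁ V hV).hom.EssFiniteType) :
    ((pullback.snd f g).appLE U₁ (W f g Y₁ V U₁ hV hU) (le_snd f g Y₁ V U₁ hV hU)).hom.EssFiniteType := by
  have : IsAffine Y₁.toScheme := h₀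
  have : IsAffine V.toScheme := h₁
  have : IsAffine U₁.toScheme := h₂
  have H := isPushout_appTop_of_isPullback
    (IsPullback.of_hasPullback (f.resLE Y₁ V hV) (g.resLE Y₁ U₁ hU))
  have h1 : EFT (f.resLE Y₁ V hV).appTop := by
    rw [MorphismProperty.arrow_mk_iso_iff EFT (arrowResLEAppIso f Y₁ V hV)]
    exact h
  have h2 : EFT (pullback.snd (f.resLE Y₁ V hV) (g.resLE Y₁ U₁ hU)).appTop :=
    MorphismProperty.of_isPushout H.flip h1
  let φ := (m f g Y₁ V U₁ hV hU).appIso ⊤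
  have h3 : ((pullback.snd f g).appLE U₁ (W f g Y₁ V U₁ hV hU) (le_snd f g Y₁ V U₁ hV hU)) ≫ φ.hom
      = U₁.topIso.inv ≫ (pullback.snd (f.resLE Y₁ V hV) (g.resLE Y₁ U₁ hU)).appTop := by
    rw [Scheme.Hom.appIso_hom', Scheme.Hom.appLE_comp_appLE, appLE_of_eq (m_snd f g Y₁ V U₁ hV hU)]
    exact appLE_comp_ι _ _ _
  change EFT _
  rw [← MorphismProperty.cancel_right_of_respectsIso (P := EFT) _ φ.hom, h3,
    MorphismProperty.cancel_left_of_respectsIso (P := EFT)]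
  exact h2


theorem main {X Y Y' : Scheme.{u}} (f : X ⟶ Y) (g : Y' ⟶ Y)
    (hf : ∀ U : Y.affineOpens, ∃ T : Set X.affineOpens, (⋃ V ∈ T, ((V : X.Opens) : Set ↥X)) = ((f ⁻¹ᵁ (U : Y.Opens)) : Set ↥X) ∧
        ∀ V ∈ T, ∃ e : (V : X.Opens) ≤ f ⁻¹ᵁ (U : Y.Opens), (f.appLE (U : Y.Opens) (V : X.Opens) e).hom.EssFiniteType)
    (U : Y'.affineOpens) :
    ∃ T : Set (pullback f g).affineOpens, (⋃ V ∈ T, ((V : (pullback f g).Opens) : Set ↥(pullback f g))) = (((pullback.snd f g) ⁻¹ᵁ (U : Y'.Opens)) : Set ↥(pullback f g)) ∧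
        ∀ V ∈ T, ∃ e : (V : (pullback f g).Opens) ≤ (pullback.snd f g) ⁻¹ᵁ (U : Y'.Opens), ((pullback.snd f g).appLE (U : Y'.Opens) (V : (pullback f g).Opens) e).hom.EssFiniteType := by
  refine ⟨{W | ∃ e : (W : (pullback f g).Opens) ≤ (pullback.snd f g) ⁻¹ᵁ (U : Y'.Opens),
    ((pullback.snd f g).appLE (U : Y'.Opens) (W : (pullback f g).Opens) e).hom.EssFiniteType},
    ?_, fun V hV => hV⟩
  apply Set.Subset.antisymm
  · intro z hz
    simp only [Set.mem_iUnion] at hz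
    obtain ⟨W, ⟨e, _⟩, hzW⟩ := hz
    exact e hzW
  · intro z hz
    obtain ⟨Y₁, hY₁, hyY₁⟩ : ∃ Y₁ : Y.Opens, IsAffineOpen Y₁ ∧ g (pullback.snd f g z) ∈ Y₁ := by
      obtain ⟨_, ⟨Y₁, hY₁, rfl⟩, h, _⟩ := Y.isBasis_affineOpens.exists_subset_of_mem_open
        (Set.mem_univ (g (pullback.snd f g z))) isOpen_univ
      exact ⟨Y₁, hY₁, h⟩
    obtain ⟨T₁, hT₁, hT₁'⟩ := hf ⟨Y₁, hY₁⟩
    have hx : pullback.fst f g z ∈ ((f ⁻¹ᵁ Y₁ : X.Opens) : Set X) := by
      change f (pullback.fst f g z) ∈ Y₁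
      rw [← Scheme.Hom.comp_apply, pullback.condition, Scheme.Hom.comp_apply]; exact hyY₁
    rw [← hT₁] at hx
    simp only [Set.mem_iUnion] at hx
    obtain ⟨V, hVT, hxV⟩ := hx
    obtain ⟨hV, hVe⟩ := hT₁' V hVT
    obtain ⟨s, hs, hzs⟩ := U.2.exists_basicOpen_le (V := (U : Y'.Opens) ⊓ g ⁻¹ᵁ Y₁)
      ⟨pullback.snd f g z, hz, hyY₁⟩ hz
    have hU₁ : Y'.basicOpen s ≤ g ⁻¹ᵁ Y₁ := hs.trans inf_le_right
    have hU₁U : Y'.basicOpen s ≤ (U : Y'.Opens) := Y'.basicOpen_le s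
    have hWaff := isAffineOpen_W f g Y₁ V (Y'.basicOpen s) hV hU₁ hY₁ V.2 (U.2.basicOpen s)
    have hle : W f g Y₁ V (Y'.basicOpen s) hV hU₁ ≤ (pullback.snd f g) ⁻¹ᵁ (U : Y'.Opens) :=
      (le_snd f g Y₁ V (Y'.basicOpen s) hV hU₁).trans ((pullback.snd f g).preimage_mono hU₁U)
    simp only [Set.mem_iUnion]
    refine ⟨⟨_, hWaff⟩, ⟨hle, ?_⟩, ?_⟩
    · have h1 := eft_W f g Y₁ V (Y'.basicOpen s) hV hU₁ hY₁ V.2 (U.2.basicOpen s) hVe
      have h2 : (Y'.presheaf.map (homOfLE hU₁U).op).hom.EssFiniteType := by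
        have := U.2.isLocalization_basicOpen s
        exact RingHom.EssFiniteType.holdsForLocalization _ (Submonoid.powers s)
      have h3 : (pullback.snd f g).appLE (U : Y'.Opens) (W f g Y₁ V (Y'.basicOpen s) hV hU₁) hle =
          Y'.presheaf.map (homOfLE hU₁U).op ≫ (pullback.snd f g).appLE (Y'.basicOpen s)
            (W f g Y₁ V (Y'.basicOpen s) hV hU₁) (le_snd f g Y₁ V (Y'.basicOpen s) hV hU₁) := by
        rw [Scheme.Hom.map_appLE]
      rw [h3]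
      exact RingHom.EssFiniteType.comp h2 h1
    · change z ∈ W f g Y₁ V (Y'.basicOpen s) hV hU₁
      rw [W_eq]
      exact ⟨hxV, hzs⟩

end Groth.Agent.Helper3.EftBC
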