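import Mathlib
import Groth.Prelude

set_option autoImplicit false
set_option linter.style.haveILetI false
set_option linter.unusedSectionVars false
set_option linter.unusedVariables false
set_option linter.deprecated false
set_option linter.style.haveILetI false
set_option linter.unusedSectionVars false
set_option linter.unusedVariables false

universe u

open IsLocalRing
open scoped Pointwise

namespace Groth.Agent.Helper3.EgaLen

/-- `QuotSMulTop` of a nonzero finite module by an element of the maximal ideal is nonzero -/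
theorem nontrivial_quotSMulTop {B : Type u} [CommRing B] [IsLocalRing B] {N : Type u}
    [AddCommGroup N] [Module B N] [Module.Finite B N] [Nontrivial N] (π : B)
    (hπ : π ∈ maximalIdeal B) : Nontrivial (QuotSMulTop π N) := by
  by_contra hcon
  rw [not_nontrivial_iff_subsingleton] at hcon
  have h1 : π • (⊤ : Submodule B N) = ⊤ := by
    rw [eq_top_iff]
    intro x _
    have : (Submodule.Quotient.mk x : QuotSMulTop π N) = 0 := Subsingleton.elim _ _
    exact (Submodule.Quotient.mk_eq_zero _).mp this
  have h2 : (⊤ : Submodule B N) ≤ (Ideal.span {π}) • (⊤ : Submodule B N) := by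
    rw [Submodule.ideal_span_singleton_smul, h1]
  have h3 : Ideal.span {π} ≤ (⊥ : Ideal B).jacobson := by
    rw [IsLocalRing.jacobson_eq_maximalIdeal ⊥ bot_ne_top, Ideal.span_le,
      Set.singleton_subset_iff]
    exact hπ
  have h4 := Submodule.eq_bot_of_le_smul_of_le_jacobson_bot (Ideal.span {π}) ⊤
    (Module.Finite.fg_top) h2 h3
  exact top_ne_bot h4

/-- **associated primes of a flat module specialize**: if `π` is `M`-regular, `p` is an associated
prime of `M` and the maximal ideal is the only prime containing `p` and `π`, then the maximal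
ideal is an associated prime of `M/πM`. -/
theorem ass_quot {B : Type u} [CommRing B] [IsNoetherianRing B] [IsLocalRing B] {M : Type u}
    [AddCommGroup M] [Module B M] [Module.Finite B M] (π : B) (hπm : π ∈ maximalIdeal B)
    (hreg : IsSMulRegular M π) (p : Ideal B) (hp : IsAssociatedPrime p M)
    (hmin : ∀ Q : Ideal B, Q.IsPrime → p ≤ Q → π ∈ Q → Q = maximalIdeal B) :
    IsAssociatedPrime (maximalIdeal B) (QuotSMulTop π M) := by
  obtain ⟨hpp, x₀, hx₀⟩ := isAssociatedPrime_iff.mp hp
  set N : Submodule B M := Submodule.torsionBySet B M (p : Set B)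
  have hmemN : ∀ m : M, m ∈ N ↔ ∀ a ∈ p, a • m = 0 := by
    intro m
    show m ∈ Submodule.torsionBySet B M (p : Set B) ↔ _
    rw [Submodule.mem_torsionBySet_iff]
    exact ⟨fun h a ha => h ⟨a, ha⟩, fun h a => h a.1 a.2⟩
  have hx₀N : x₀ ∈ N := by
    rw [hmemN]
    intro a ha
    have : a ∈ Submodule.colon (⊥ : Submodule B M) {x₀} := hx₀ ▸ ha
    rw [Submodule.mem_colon_singleton, Submodule.mem_bot] at this
    exact this
  have hx₀ne : x₀ ≠ 0 := by
    intro h
    apply hpp.ne_top
    rw [hx₀, h, eq_top_iff]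
    intro a _
    rw [Submodule.mem_colon_singleton, smul_zero]
    exact Submodule.zero_mem _
  haveI : Nontrivial N := ⟨⟨⟨x₀, hx₀N⟩, 0, fun h => hx₀ne (congrArg Subtype.val h)⟩⟩
  haveI : Module.Finite B N := Module.Finite.of_injective N.subtype N.injective_subtype
  haveI := nontrivial_quotSMulTop (N := N) π hπm
  obtain ⟨q, hq⟩ := associatedPrimes.nonempty B (QuotSMulTop π N)
  have hq' : IsAssociatedPrime q (QuotSMulTop π N) := hq
  haveI hqp : q.IsPrime := hq'.isPrime
  obtain ⟨-, y, hy⟩ := isAssociatedPrime_iff.mp hq'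
  have hpq : p ≤ q := by
    intro a ha
    rw [hy, Submodule.mem_colon_singleton, Submodule.mem_bot]
    obtain ⟨n, rfl⟩ := Submodule.Quotient.mk_surjective _ y
    rw [← Submodule.Quotient.mk_smul]
    have : a • n = 0 := by
      apply Subtype.ext
      exact (hmemN n.1).mp n.2 a ha
    rw [this, Submodule.Quotient.mk_zero]
  have hπq : π ∈ q := by
    rw [hy, Submodule.mem_colon_singleton, Submodule.mem_bot]
    obtain ⟨n, rfl⟩ := Submodule.Quotient.mk_surjective _ y
    rw [← Submodule.Quotient.mk_smul, Submodule.Quotient.mk_eq_zero]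
    exact Submodule.smul_mem_pointwise_smul n π ⊤ Submodule.mem_top
  have hqm : q = maximalIdeal B := hmin q hqp hpq hπq
  have hinj : Function.Injective (QuotSMulTop.map π N.subtype) := by
    rw [injective_iff_map_eq_zero]
    intro y hy0
    obtain ⟨n, rfl⟩ := Submodule.Quotient.mk_surjective _ y
    rw [QuotSMulTop.map_apply_mk, Submodule.Quotient.mk_eq_zero] at hy0
    obtain ⟨m, -, hm⟩ := (Submodule.mem_smul_pointwise_iff_exists _ _ _).mp hy0
    have hmN : m ∈ N := by
      rw [hmemN]
      intro a ha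
      apply hreg
      have := (hmemN n.1).mp n.2 a ha
      simp only [smul_zero]
      show π • (a • m) = 0
      rw [smul_comm, hm]
      exact this
    rw [Submodule.Quotient.mk_eq_zero]
    refine (Submodule.mem_smul_pointwise_iff_exists _ _ _).mpr ⟨⟨m, hmN⟩, Submodule.mem_top, ?_⟩
    exact Subtype.ext hm
  rw [← hqm]
  exact hq'.map_of_injective _ hinj

/-- Krull's principal ideal theorem for a quotient domain of a local ring -/
theorem ringKrullDim_quot_le_one {B : Type u} [CommRing B] [IsNoetherianRing B] [IsLocalRing B]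
    (P : Ideal B) [P.IsPrime] (b : B) (hb : b ∈ maximalIdeal B)
    (hmin : ∀ Q : Ideal B, Q.IsPrime → P ≤ Q → b ∈ Q → Q = maximalIdeal B) :
    ringKrullDim (B ⧸ P) ≤ 1 := by
  haveI : IsLocalRing (B ⧸ P) :=
    IsLocalRing.of_surjective' (Ideal.Quotient.mk P) Ideal.Quotient.mk_surjective
  haveI : IsLocalHom (Ideal.Quotient.mk P) :=
    IsLocalHom.of_surjective _ Ideal.Quotient.mk_surjective
  rw [← IsLocalRing.maximalIdeal_height_eq_ringKrullDim]
  have hmem : maximalIdeal (B ⧸ P) ∈
      (Ideal.span {Ideal.Quotient.mk P b}).minimalPrimes := by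
    refine ⟨⟨inferInstance, ?_⟩, ?_⟩
    · rw [Ideal.span_le, Set.singleton_subset_iff]
      show _ ∈ maximalIdeal (B ⧸ P)
      rw [mem_maximalIdeal, mem_nonunits_iff] at hb ⊢
      intro hu
      exact hb (isUnit_of_map_unit (Ideal.Quotient.mk P) b hu)
    · rintro Q ⟨hQ, hbQ⟩ hle
      have h1 : Q.comap (Ideal.Quotient.mk P) = maximalIdeal B := by
        apply hmin _ (Ideal.comap_isPrime _ _)
        · intro a ha
          rw [Ideal.mem_comap, Ideal.Quotient.eq_zero_iff_mem.mpr ha]
          exact Q.zero_mem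
        · rw [Ideal.mem_comap]
          exact hbQ (Ideal.subset_span rfl)
      intro x hx
      obtain ⟨a, rfl⟩ := Ideal.Quotient.mk_surjective x
      have ha : a ∈ maximalIdeal B := by
        rw [mem_maximalIdeal, mem_nonunits_iff] at hx ⊢
        intro hu
        exact hx (hu.map _)
      rw [← h1] at ha
      exact ha
  have := Ideal.height_le_one_of_isPrincipal_of_mem_minimalPrimes _ _ hmem
  exact_mod_cast this

/-- the quotient by `P + (b)` has finite nonzero length when the maximal ideal is the only prime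
containing `P` and `b` -/
theorem length_quot_sup_span {B : Type u} [CommRing B] [IsNoetherianRing B] [IsLocalRing B]
    (P : Ideal B) (b : B) (hP : P ≤ maximalIdeal B) (hb : b ∈ maximalIdeal B)
    (hmin : ∀ Q : Ideal B, Q.IsPrime → P ≤ Q → b ∈ Q → Q = maximalIdeal B) :
    1 ≤ (Module.length B (B ⧸ (P ⊔ Ideal.span {b}))).toNat := by
  have hle : P ⊔ Ideal.span {b} ≤ maximalIdeal B := by
    refine sup_le hP ?_
    rw [Ideal.span_le, Set.singleton_subset_iff]
    exact hb
  haveI : Nontrivial (B ⧸ (P ⊔ Ideal.span {b})) :=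
    Ideal.Quotient.nontrivial_iff.mpr (fun h => (maximalIdeal.isMaximal B).ne_top
      (top_le_iff.mp (h ▸ hle)))
  haveI : IsLocalRing (B ⧸ (P ⊔ Ideal.span {b})) :=
    IsLocalRing.of_surjective' (Ideal.Quotient.mk _) Ideal.Quotient.mk_surjective
  haveI : IsLocalHom (Ideal.Quotient.mk (P ⊔ Ideal.span {b})) :=
    IsLocalHom.of_surjective _ Ideal.Quotient.mk_surjective
  haveI : Ring.KrullDimLE 0 (B ⧸ (P ⊔ Ideal.span {b})) := by
    apply Ring.KrullDimLE.mk₀
    intro Q hQ
    have h1 : Q.comap (Ideal.Quotient.mk (P ⊔ Ideal.span {b})) = maximalIdeal B := by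
      apply hmin _ (Ideal.comap_isPrime _ _)
      · intro a ha
        rw [Ideal.mem_comap, Ideal.Quotient.eq_zero_iff_mem.mpr (le_sup_left (a := P) ha)]
        exact Q.zero_mem
      · rw [Ideal.mem_comap]
        have hb0 : (Ideal.Quotient.mk (P ⊔ Ideal.span {b})) b = 0 :=
          Ideal.Quotient.eq_zero_iff_mem.mpr (le_sup_right (a := P) (Ideal.subset_span rfl))
        rw [hb0]
        exact Q.zero_mem
    have h2 : Q = maximalIdeal (B ⧸ (P ⊔ Ideal.span {b})) := by
      apply le_antisymm (IsLocalRing.le_maximalIdeal hQ.ne_top)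
      intro x hx
      obtain ⟨a, rfl⟩ := Ideal.Quotient.mk_surjective x
      have ha : a ∈ maximalIdeal B := by
        rw [mem_maximalIdeal, mem_nonunits_iff] at hx ⊢
        intro hu
        exact hx (hu.map _)
      rw [← h1] at ha
      exact ha
    rw [h2]
    infer_instance
  haveI : IsArtinianRing (B ⧸ (P ⊔ Ideal.span {b})) :=
    isArtinianRing_iff_krullDimLE_zero.mpr inferInstance
  have hfin : Module.length (B ⧸ (P ⊔ Ideal.span {b})) (B ⧸ (P ⊔ Ideal.span {b})) ≠ ⊤ := by
    rw [Module.length_ne_top_iff]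
    exact (isFiniteLength_iff_isNoetherian_isArtinian).mpr ⟨inferInstance, inferInstance⟩
  have heq : Module.length B (B ⧸ (P ⊔ Ideal.span {b})) =
      Module.length (B ⧸ (P ⊔ Ideal.span {b})) (B ⧸ (P ⊔ Ideal.span {b})) :=
    Module.length_eq_of_surjective Ideal.Quotient.mk_surjective
  rw [heq]
  have hne : Module.length (B ⧸ (P ⊔ Ideal.span {b})) (B ⧸ (P ⊔ Ideal.span {b})) ≠ 0 := by
    rw [Ne, Module.length_eq_zero_iff]
    exact not_subsingleton _
  obtain ⟨n, hn⟩ := ENat.ne_top_iff_exists.mp hfin
  rw [← hn] at hne ⊢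
  rw [ENat.toNat_coe]
  have : n ≠ 0 := by exact_mod_cast hne
  omega

end Groth.Agent.Helper3.EgaLen
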