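import Mathlib
import Groth.Prelude
import Groth.Agent.Helper3.EgaLenA
import Groth.Agent.Helper3.P1CycH
import Groth.Agent.Helper3.SpFunC

set_option autoImplicit false
set_option linter.style.haveILetI false
set_option linter.unusedSectionVars false
set_option linter.unusedVariables false
set_option linter.deprecated false
set_option linter.style.haveILetI false
set_option linter.unusedSectionVars false
set_option linter.unusedVariables false

universe u

open CategoryTheory CategoryTheory.Limits AlgebraicGeometry TopologicalSpace Opposite IsLocalRing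
open scoped Pointwise TensorProduct

namespace Groth.Agent.Helper3.EgaLen

open Groth.Agent.Helper3.ModLoc Groth.Agent.Helper5.StalkDict

section general

variable {Z : Scheme.{u}} [IsLocallyNoetherian Z] (G : Z.Modules) (hG : Coh.IsCoh G)

include hG in
/-- every point of the support of a coherent module has a generization which is an associated
point -/
theorem exists_ass_generization (w : Z) (hnt : Nontrivial (G.presheaf.stalk w)) :
    ∃ w'' : Z, w'' ⤳ w ∧
      IsAssociatedPrime (maximalIdeal (Z.presheaf.stalk w'')) (G.presheaf.stalk w'') := by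
  haveI : G.IsQuasicoherent := hG.1
  haveI := finite_stalk G hG w
  obtain ⟨q, hq⟩ := associatedPrimes.nonempty (Z.presheaf.stalk w) (G.presheaf.stalk w)
  haveI : q.IsPrime := hq.isPrime
  set Q : ↥(Spec (Z.presheaf.stalk w)) := ⟨q, inferInstance⟩ with hQ
  have h : Z.fromSpecStalk w Q ⤳ w := fromSpecStalk_specializes w Q
  have hker : RingHom.ker (Cyc.specMap w (Z.fromSpecStalk w Q) h) = q :=
    PullDivB.ker_specMap w Q h
  refine ⟨Z.fromSpecStalk w Q, h, ?_⟩
  letI := spMod G h
  letI a3 : Algebra (Z.presheaf.stalk w) (Z.presheaf.stalk (Z.fromSpecStalk w Q)) :=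
    (Z.presheaf.stalkSpecializes h).hom.toAlgebra
  haveI : (RingHom.ker (Cyc.specMap w (Z.fromSpecStalk w Q) h)).IsPrime := RingHom.ker_isPrime _
  haveI hloc : IsLocalization.AtPrime (Z.presheaf.stalk (Z.fromSpecStalk w Q))
      (RingHom.ker (Cyc.specMap w (Z.fromSpecStalk w Q) h)) :=
    PullDivH.isLocalization_stalkSpecializes w (Z.fromSpecStalk w Q) h
  haveI := isLocalizedModule_spLin G h
  haveI : IsScalarTower (Z.presheaf.stalk w) (Z.presheaf.stalk (Z.fromSpecStalk w Q))
      (G.presheaf.stalk (Z.fromSpecStalk w Q)) :=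
    IsScalarTower.of_algebraMap_smul (fun r m => rfl)
  apply Module.associatedPrimes.mem_associatedPrimes_of_comap_mem_associatedPrimes_of_isLocalizedModule
    (RingHom.ker (Cyc.specMap w (Z.fromSpecStalk w Q) h)).primeCompl (spLin G h)
  have hcomap : (maximalIdeal (Z.presheaf.stalk (Z.fromSpecStalk w Q))).comap
      (algebraMap (Z.presheaf.stalk w) (Z.presheaf.stalk (Z.fromSpecStalk w Q))) =
      RingHom.ker (Cyc.specMap w (Z.fromSpecStalk w Q) h) :=
    IsLocalization.AtPrime.comap_maximalIdeal _ _
  rw [hcomap, hker]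
  exact hq

end general

section transfer

/-- base change along a surjection with principal kernel, as a linear equivalence -/
theorem nonempty_tensor_equiv_quotSMulTop {B C : Type u} [CommRing B] [CommRing C] [Algebra B C]
    (hsurj : Function.Surjective (algebraMap B C)) (b : B)
    (hker : RingHom.ker (algebraMap B C) = Ideal.span {b})
    (M : Type u) [AddCommGroup M] [Module B M] :
    Nonempty ((C ⊗[B] M) ≃ₗ[B] QuotSMulTop b M) := by
  have hsurj' : Function.Surjective (Algebra.ofId B C) := hsurj
  let e0 : (B ⧸ RingHom.ker (Algebra.ofId B C)) ≃ₐ[B] C :=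
    Ideal.quotientKerAlgEquivOfSurjective hsurj'
  have hker' : RingHom.ker (Algebra.ofId B C) = Ideal.span {b} := hker
  let e1 : (B ⧸ Ideal.span {b}) ≃ₗ[B] C :=
    (Ideal.quotientEquivAlgOfEq B hker'.symm).toLinearEquiv ≪≫ₗ e0.toLinearEquiv
  let e2 : C ⊗[B] M ≃ₗ[B] (B ⧸ Ideal.span {b}) ⊗[B] M :=
    TensorProduct.congr e1.symm (LinearEquiv.refl B M)
  let e3 := TensorProduct.quotTensorEquivQuotSMul M (Ideal.span {b})
  have heq : (Ideal.span {b}) • (⊤ : Submodule B M) = b • (⊤ : Submodule B M) :=
    Submodule.ideal_span_singleton_smul b ⊤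
  exact ⟨e2 ≪≫ₗ e3 ≪≫ₗ Submodule.quotEquivOfEq _ _ heq⟩

variable {X W : Scheme.{u}} (i : W ⟶ X) (F : X.Modules) [F.IsQuasicoherent]

/-- associated points of a pullback along a morphism whose stalk map is surjective with
principal kernel -/
theorem isAssociatedPrime_pullback_of_ker (w : W)
    (hsurj : Function.Surjective (i.stalkMap w).hom)
    (b : X.presheaf.stalk (i w)) (hker : RingHom.ker (i.stalkMap w).hom = Ideal.span {b})
    (h : IsAssociatedPrime (maximalIdeal (X.presheaf.stalk (i w)))
      (QuotSMulTop b (F.presheaf.stalk (i w)))) :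
    IsAssociatedPrime (maximalIdeal (W.presheaf.stalk w))
      (((Scheme.Modules.pullback i).obj F).presheaf.stalk w) := by
  letI := (i.stalkMap w).hom.toAlgebra
  obtain ⟨e⟩ := Groth.Agent.Lead.StalkPull.nonempty_stalk_pullback_equiv i F w
  obtain ⟨e'⟩ := nonempty_tensor_equiv_quotSMulTop (B := X.presheaf.stalk (i w))
    (C := W.presheaf.stalk w) hsurj b hker (F.presheaf.stalk (i w))
  have h1 := (LinearEquiv.isAssociatedPrime_iff e').mpr h
  have h2 := Groth.Agent.Helper3.P1Cyc.isAssociatedPrime_of_semilinear
    (algebraMap (X.presheaf.stalk (i w)) (W.presheaf.stalk w)) hsurj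
    (AddEquiv.refl ((W.presheaf.stalk w) ⊗[X.presheaf.stalk (i w)] (F.presheaf.stalk (i w))))
    (fun a m => (algebraMap_smul (W.presheaf.stalk w) a m).symm) h1
  exact (LinearEquiv.isAssociatedPrime_iff e).mpr h2

end transfer

section finiteness

variable {P : Scheme.{u}} [IsLocallyNoetherian P] (F : P.Modules) (hF : Coh.IsCoh F)

include hF in
/-- a coherent module on a quasi-compact locally Noetherian scheme has finitely many maximal
points in its support -/
theorem finite_maxPts [CompactSpace P] :
    {ξ : P | Nontrivial (F.presheaf.stalk ξ) ∧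
      ∀ w : P, Nontrivial (F.presheaf.stalk w) → w ⤳ ξ → w = ξ}.Finite := by
  set T : Set P := {x : P | Nontrivial (F.presheaf.stalk x)} with hT
  have hcl : IsClosed T := by
    have h := Groth.Agent.S0020.result P F hF.2
    have h2 : CohB1.support F = T := by
      ext x
      simp only [CohB1.support, hT, Set.mem_setOf_eq, not_subsingleton_iff_nontrivial]
    rwa [h2] at h
  have LF := Groth.Agent.S1693.result P T hcl
  have fin := LF.finite_nonempty_inter_compact (isCompact_univ (X := P))
  let Zf : P → Set ↥T := fun ξ => Subtype.val ⁻¹' closure {ξ}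
  have himage : ∀ ξ : P, ξ ∈ T → (Subtype.val '' Zf ξ : Set P) = closure {ξ} := by
    intro ξ hξ
    rw [Subtype.image_preimage_coe, Set.inter_eq_right]
    exact hcl.closure_subset_iff.mpr (Set.singleton_subset_iff.mpr hξ)
  have hcomp : ∀ ξ : P, (∀ w : P, Nontrivial (F.presheaf.stalk w) → w ⤳ ξ → w = ξ) → ξ ∈ T →
      Zf ξ ∈ irreducibleComponents ↥T := by
    intro ξ hmax hξ
    have hZeq : Zf ξ = closure {(⟨ξ, hξ⟩ : ↥T)} := by
      rw [Topology.IsInducing.subtypeVal.closure_eq_preimage_closure_image]
      simp [Zf]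
    refine ⟨?_, ?_⟩
    · rw [hZeq]
      exact isIrreducible_singleton.closure
    · intro C hC hle
      have hC' : IsIrreducible (closure (Subtype.val '' C : Set P)) :=
        (hC.image _ continuous_subtype_val.continuousOn).closure
      have hgen := hC'.isGenericPoint_genericPoint_closure
      set η := hC'.genericPoint with hη
      rw [closure_closure] at hgen
      have hsubT : closure (Subtype.val '' C : Set P) ⊆ T := by
        refine hcl.closure_subset_iff.mpr ?_
        rintro _ ⟨z, -, rfl⟩
        exact z.2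
      have hηmem : η ∈ closure (Subtype.val '' C : Set P) := by
        rw [← hgen.def]; exact subset_closure rfl
      have hηT : η ∈ T := hsubT hηmem
      have hξC : ξ ∈ closure (Subtype.val '' C : Set P) := by
        apply subset_closure
        refine ⟨⟨ξ, hξ⟩, hle ?_, rfl⟩
        show ξ ∈ closure {ξ}
        exact subset_closure rfl
      have hsp : η ⤳ ξ := by
        rw [specializes_iff_mem_closure, hgen.def]; exact hξC
      have heq : η = ξ := hmax η hηT hsp
      intro z hz
      show z.1 ∈ closure {ξ}
      rw [← heq, hgen.def]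
      exact subset_closure ⟨z, hz, rfl⟩
  refine Set.Finite.of_finite_image (f := Zf) ?_ ?_
  · refine (fin.image Subtype.val).subset ?_
    rintro _ ⟨ξ, ⟨hnt, hmax⟩, rfl⟩
    refine ⟨⟨Zf ξ, hcomp ξ hmax hnt⟩, ?_, rfl⟩
    show ((Subtype.val '' Zf ξ : Set P) ∩ Set.univ).Nonempty
    rw [himage ξ hnt, Set.inter_univ]
    exact ⟨ξ, subset_closure rfl⟩
  · rintro ξ ⟨hnt, -⟩ ξ' ⟨hnt', -⟩ heq
    have h1 : closure ({ξ} : Set P) = closure {ξ'} := by
      rw [← himage ξ hnt, ← himage ξ' hnt']
      exact congrArg _ heq
    have hs1 : ξ ⤳ ξ' := by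
      rw [specializes_iff_mem_closure, h1]; exact subset_closure rfl
    have hs2 : ξ' ⤳ ξ := by
      rw [specializes_iff_mem_closure, ← h1]; exact subset_closure rfl
    exact (hs1.antisymm hs2).eq

end finiteness

end Groth.Agent.Helper3.EgaLen
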