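import Mathlib
import Groth.Prelude
import Groth.Agent.Helper3.EgaLenB

set_option autoImplicit false
set_option linter.style.haveILetI false
set_option linter.unusedSectionVars false
set_option linter.unusedVariables false
set_option linter.deprecated false
set_option linter.style.haveILetI false
set_option linter.unusedSectionVars false
set_option linter.unusedVariables false

universe u

open CategoryTheory CategoryTheory.Limits AlgebraicGeometry TopologicalSpace Opposite IsLocalRing
open scoped Pointwise TensorProduct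

namespace Groth.Agent.Helper3.EgaLen

open Groth.Agent.Helper3.ModLoc Groth.Agent.Helper5.StalkDict Groth.Agent.Helper3.SpFun
  Groth.Agent.Helper3.DvrBase

section closedIff

variable {X S : Scheme.{u}} (a : X ⟶ S)

/-- a generization of `x` lies over `a x` iff the corresponding prime contains the image of the
maximal ideal -/
theorem map_fromSpecStalk_eq_iff (x : X) (Q : ↥(Spec (X.presheaf.stalk x))) :
    a (X.fromSpecStalk x Q) = a x ↔
      (maximalIdeal (S.presheaf.stalk (a x))).map (a.stalkMap x).hom ≤ Q.asIdeal := by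
  rw [map_fromSpecStalk]
  have hcl : S.fromSpecStalk (a x) (IsLocalRing.closedPoint (S.presheaf.stalk (a x))) = a x :=
    Scheme.fromSpecStalk_closedPoint
  constructor
  · intro h
    have h1 : Spec.map (a.stalkMap x) Q = IsLocalRing.closedPoint (S.presheaf.stalk (a x)) := by
      apply (S.fromSpecStalk (a x)).isEmbedding.injective
      rw [h, hcl]
    have h2 := congrArg PrimeSpectrum.asIdeal h1
    change Q.asIdeal.comap (a.stalkMap x).hom = maximalIdeal _ at h2
    rw [Ideal.map_le_iff_le_comap, h2]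
  · intro h
    rw [Ideal.map_le_iff_le_comap] at h
    have h2 : Q.asIdeal.comap (a.stalkMap x).hom = maximalIdeal (S.presheaf.stalk (a x)) := by
      apply le_antisymm (IsLocalRing.le_maximalIdeal (Ideal.IsPrime.ne_top
        (Ideal.comap_isPrime _ _))) h
    have h1 : Spec.map (a.stalkMap x) Q = IsLocalRing.closedPoint (S.presheaf.stalk (a x)) := by
      apply PrimeSpectrum.ext
      exact h2
    rw [h1, hcl]

end closedIff

section main

variable {R : Type u} [CommRing R] [IsDomain R] [IsDiscreteValuationRing R] {X : Scheme.{u}}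
  (a : X ⟶ Spec (CommRingCat.of R)) [LocallyOfFiniteType a]
  (F : X.Modules) (hF : Coh.IsCoh F)

/-- the element `b` lies in the maximal ideal -/
theorem mem_maximalIdeal_of_ker {X W : Scheme.{u}} (i : W ⟶ X) (w : W) (b : X.presheaf.stalk (i w))
    (hker : RingHom.ker (i.stalkMap w).hom = Ideal.span {b}) :
    b ∈ maximalIdeal (X.presheaf.stalk (i w)) := by
  rw [mem_maximalIdeal, mem_nonunits_iff]
  intro hu
  have hb : b ∈ RingHom.ker (i.stalkMap w).hom := by
    rw [hker]; exact Ideal.subset_span rfl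
  have h0 : (i.stalkMap w).hom b = 0 := hb
  have := hu.map (i.stalkMap w).hom
  rw [h0] at this
  exact not_isUnit_zero this

include hF in
/-- the key minimality property of the primes at a point of the closed fibre which is maximal in
the support of the closed fibre -/
theorem hmin_of_maximal (x : X) (b : X.presheaf.stalk x)
    (hmap : (maximalIdeal ((Spec (CommRingCat.of R)).presheaf.stalk (a x))).map
      (a.stalkMap x).hom = Ideal.span {b})
    (T : Set X)
    (hmax : ∀ w : X, a w = a x → w ∈ T → w ⤳ x → w = x)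
    (P : Ideal (X.presheaf.stalk x))
    (hT : ∀ Q : ↥(Spec (X.presheaf.stalk x)), P ≤ Q.asIdeal → X.fromSpecStalk x Q ∈ T) :
    ∀ Q : Ideal (X.presheaf.stalk x), Q.IsPrime → P ≤ Q → b ∈ Q →
      Q = maximalIdeal (X.presheaf.stalk x) := by
  intro Q hQ hPQ hbQ
  set Q' : ↥(Spec (X.presheaf.stalk x)) := ⟨Q, hQ⟩ with hQ'
  have h1 : a (X.fromSpecStalk x Q') = a x := by
    rw [map_fromSpecStalk_eq_iff, hmap, Ideal.span_le, Set.singleton_subset_iff]
    exact hbQ
  have h2 := hmax _ h1 (hT Q' hPQ) (fromSpecStalk_specializes x Q')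
  have hcl : Q' = IsLocalRing.closedPoint (X.presheaf.stalk x) := by
    apply (X.fromSpecStalk x).isEmbedding.injective
    rw [h2, Scheme.fromSpecStalk_closedPoint]
  exact congrArg PrimeSpectrum.asIdeal hcl

end main

section main2

variable {R : Type u} [CommRing R] [IsDomain R] [IsDiscreteValuationRing R] {X : Scheme.{u}}
  (a : X ⟶ Spec (CommRingCat.of R)) [LocallyOfFiniteType a]
  (F : X.Modules) (hF : Coh.IsCoh F)

/-- the dimension of a quotient of a local ring in terms of the dimension function -/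
theorem delta_le_add_one_of_ringKrullDim (δ : X → ℤ) (hδ : Cyc.IsDimFun X δ) (x : X)
    (Pp : ↥(Spec (X.presheaf.stalk x)))
    (hdim : ringKrullDim (X.presheaf.stalk x ⧸ Pp.asIdeal) ≤ 1) :
    δ (X.fromSpecStalk x Pp) ≤ δ x + 1 := by
  have h := fromSpecStalk_specializes x Pp
  have hker : RingHom.ker (Cyc.specMap x (X.fromSpecStalk x Pp) h) = Pp.asIdeal :=
    PullDivB.ker_specMap x Pp h
  have h1 := Groth.Agent.Helper5.CycDim.ringKrullDim_locQuot δ hδ x (X.fromSpecStalk x Pp) h
  have h2 : ringKrullDim (Cyc.LocQuot x (X.fromSpecStalk x Pp) h) ≤ 1 := by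
    show ringKrullDim (X.presheaf.stalk x ⧸ RingHom.ker (Cyc.specMap x (X.fromSpecStalk x Pp) h)) ≤ 1
    rw [hker]
    exact hdim
  rw [h1] at h2
  have h3 : (δ (X.fromSpecStalk x Pp) - δ x).toNat ≤ 1 := by exact_mod_cast h2
  omega

include hF in
/-- at a point of the closed fibre which is maximal in the support of the closed fibre, the support
has dimension at most one more -/
theorem delta_le_of_maximal [IsLocallyNoetherian X] (x : X) (b : X.presheaf.stalk x)
    (hb : b ∈ maximalIdeal (X.presheaf.stalk x))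
    (hmap : (maximalIdeal ((Spec (CommRingCat.of R)).presheaf.stalk (a x))).map
      (a.stalkMap x).hom = Ideal.span {b})
    (hmax : ∀ w : X, a w = a x → Nontrivial (F.presheaf.stalk w) → w ⤳ x → w = x)
    (ξ : X) (h : ξ ⤳ x) (hnt : Nontrivial (F.presheaf.stalk ξ)) :
    δT a ξ ≤ δT a x + 1 := by
  haveI : F.IsQuasicoherent := hF.1
  haveI := finite_stalk F hF x
  obtain ⟨Pp, rfl⟩ := exists_prime_of_specializes x ξ h
  have hS : ∀ Q : ↥(Spec (X.presheaf.stalk x)),
      Nontrivial (F.presheaf.stalk (X.fromSpecStalk x Q)) ↔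
        Module.annihilator (X.presheaf.stalk x) (F.presheaf.stalk x) ≤ Q.asIdeal := by
    intro Q
    have hξx := fromSpecStalk_specializes x Q
    rw [nontrivial_stalk_iff F hξx, PullDivB.ker_specMap x Q hξx]
  have hann := (hS Pp).mp hnt
  have hmin := hmin_of_maximal a F hF x b hmap {w | Nontrivial (F.presheaf.stalk w)} hmax
    Pp.asIdeal (fun Q hQ => (hS Q).mpr (hann.trans hQ))
  haveI : Pp.asIdeal.IsPrime := Pp.isPrime
  exact delta_le_add_one_of_ringKrullDim (δT a) (isSetup_δT a).2.2 x Pp
    (ringKrullDim_quot_le_one Pp.asIdeal b hb hmin)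

include hF in
/-- **a minimal point of the support in the generic fibre specializes, in codimension one, to an
associated point of the closed fibre** -/
theorem exists_special [IsProper a] (hflat : FlatMod.IsFlatOver a F) (ξ : X)
    (hξ : a ξ = genericPoint ↥(Spec (CommRingCat.of R)))
    (hnt : Nontrivial (F.presheaf.stalk ξ))
    (hminξ : ∀ w : X, Nontrivial (F.presheaf.stalk w) → w ⤳ ξ → w = ξ) :
    ∃ x' : ↥(a.fiber (IsLocalRing.closedPoint R)),
      ξ ⤳ a.fiberι _ x' ∧ δT a ξ = δT a (a.fiberι _ x') + 1 ∧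
      ∀ b : X.presheaf.stalk (a.fiberι _ x'),
        b ∈ maximalIdeal (X.presheaf.stalk (a.fiberι _ x')) →
        (maximalIdeal ((Spec (CommRingCat.of R)).presheaf.stalk (a (a.fiberι _ x')))).map
          (a.stalkMap (a.fiberι _ x')).hom = Ideal.span {b} →
        IsSMulRegular (F.presheaf.stalk (a.fiberι _ x')) b →
        IsAssociatedPrime (maximalIdeal (X.presheaf.stalk (a.fiberι _ x')))
          (QuotSMulTop b (F.presheaf.stalk (a.fiberι _ x'))) := by
  haveI : F.IsQuasicoherent := hF.1
  haveI : IsLocallyNoetherian X := (isSetup_δT a).1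
  have hδ := (isSetup_δT a).2.2
  have hle : ∀ x : X, ξ ⤳ x → δT a x ≤ δT a ξ := by
    intro x hx
    by_cases he : ξ = x
    · rw [he]
    · exact (hδ ξ x hx he).1.le
  -- a point of the closure in the closed fibre
  have h1 : ∃ x₂ : X, ξ ⤳ x₂ ∧ a x₂ = IsLocalRing.closedPoint R := by
    have hcl : IsClosed (a '' closure {ξ}) :=
      (Scheme.Hom.isClosedMap a) _ isClosed_closure
    have hmem : a ξ ∈ a '' closure {ξ} := ⟨ξ, subset_closure rfl, rfl⟩
    have hsp : a ξ ⤳ IsLocalRing.closedPoint R := by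
      rw [hξ]
      exact genericPoint_specializes _
    obtain ⟨x₂, hx₂, hx₂'⟩ := hsp.mem_closed hcl hmem
    exact ⟨x₂, specializes_iff_mem_closure.mpr hx₂, hx₂'⟩
  obtain ⟨n, ⟨x₁, hx₁, hax₁, hn⟩, hnmax⟩ := Int.exists_greatest_of_bdd
    (P := fun n => ∃ x : X, ξ ⤳ x ∧ a x = IsLocalRing.closedPoint R ∧ δT a x = n)
    ⟨δT a ξ, by rintro z ⟨x, hx, -, rfl⟩; exact hle x hx⟩
    (by obtain ⟨x₂, h2, h3⟩ := h1; exact ⟨_, x₂, h2, h3, rfl⟩)
  have hrange : x₁ ∈ Set.range (a.fiberι (IsLocalRing.closedPoint R)) := by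
    rw [Scheme.Hom.range_fiberι]
    exact hax₁
  obtain ⟨x', rfl⟩ := hrange
  haveI := finite_stalk F hF (a.fiberι _ x')
  obtain ⟨Pp, hPp⟩ := exists_prime_of_specializes (a.fiberι _ x') ξ hx₁
  have hS : ∀ Q : ↥(Spec (X.presheaf.stalk (a.fiberι _ x'))),
      Nontrivial (F.presheaf.stalk (X.fromSpecStalk (a.fiberι _ x') Q)) ↔
        Module.annihilator (X.presheaf.stalk (a.fiberι _ x'))
          (F.presheaf.stalk (a.fiberι _ x')) ≤ Q.asIdeal := by
    intro Q
    have hξx := fromSpecStalk_specializes (a.fiberι _ x') Q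
    rw [nontrivial_stalk_iff F hξx, PullDivB.ker_specMap (a.fiberι _ x') Q hξx]
  have hmaxx : ∀ w : X, a w = a (a.fiberι _ x') → w ∈ {w : X | ξ ⤳ w} → w ⤳ a.fiberι _ x' →
      w = a.fiberι _ x' := by
    intro w haw hξw hwx
    by_contra hne
    have h1 := (hδ w _ hwx hne).1
    have h2 := hnmax (δT a w) ⟨w, hξw, haw.trans hax₁, rfl⟩
    omega
  have hT : ∀ Q : ↥(Spec (X.presheaf.stalk (a.fiberι _ x'))), Pp.asIdeal ≤ Q.asIdeal →
      X.fromSpecStalk (a.fiberι _ x') Q ∈ {w : X | ξ ⤳ w} := by
    intro Q hQ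
    show ξ ⤳ _
    rw [← hPp]
    exact (fromSpecStalk_specializes_iff _ Pp Q).mpr hQ
  haveI : Pp.asIdeal.IsPrime := Pp.isPrime
  refine ⟨x', hx₁, ?_, ?_⟩
  · -- the dimension
    obtain ⟨b, hker, hmap, -⟩ := exists_uniformizer a x'
    have hb := mem_maximalIdeal_of_ker (a.fiberι _) x' b hker
    have hmin := hmin_of_maximal a F hF _ b hmap {w : X | ξ ⤳ w} hmaxx Pp.asIdeal hT
    have h1 := delta_le_add_one_of_ringKrullDim (δT a) hδ _ Pp
      (ringKrullDim_quot_le_one Pp.asIdeal b hb hmin)
    rw [hPp] at h1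
    have hne : ξ ≠ a.fiberι _ x' := by
      intro h
      apply genericPoint_ne_closedPoint R
      rw [← hξ, h, hax₁]
    have h2 := (hδ ξ _ hx₁ hne).1
    omega
  · intro b hb hmap hreg
    have hmin := hmin_of_maximal a F hF _ b hmap {w : X | ξ ⤳ w} hmaxx Pp.asIdeal hT
    have hPmin : Pp.asIdeal ∈ (Module.annihilator (X.presheaf.stalk (a.fiberι _ x'))
        (F.presheaf.stalk (a.fiberι _ x'))).minimalPrimes := by
      refine ⟨⟨Pp.isPrime, (hS Pp).mp (hPp ▸ hnt)⟩, ?_⟩
      rintro Q ⟨hQ, hIQ⟩ hle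
      set Q' : ↥(Spec (X.presheaf.stalk (a.fiberι _ x'))) := ⟨Q, hQ⟩ with hQ'
      have hntQ := (hS Q').mpr hIQ
      have hsp : X.fromSpecStalk (a.fiberι _ x') Q' ⤳ ξ := by
        rw [← hPp]
        exact (fromSpecStalk_specializes_iff _ Q' Pp).mpr hle
      have h3 := hminξ _ hntQ hsp
      have h4 : Q' = Pp := (X.fromSpecStalk (a.fiberι _ x')).isEmbedding.injective
        (h3.trans hPp.symm)
      rw [← h4]
    have hass : IsAssociatedPrime Pp.asIdeal (F.presheaf.stalk (a.fiberι _ x')) :=
      Module.associatedPrimes.minimalPrimes_annihilator_subset_associatedPrimes _ _ hPmin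
    exact ass_quot b hb hreg Pp.asIdeal hass hmin

end main2

end Groth.Agent.Helper3.EgaLen
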