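import Mathlib
import Groth.Prelude
import Groth.Agent.Helper3.EgaLenC
import Groth.Agent.S1916

set_option autoImplicit false
set_option linter.style.haveILetI false
set_option linter.unusedSectionVars false
set_option linter.unusedVariables false
set_option linter.deprecated false
set_option linter.style.haveILetI false
set_option linter.unusedSectionVars false
set_option linter.unusedVariables false

universe u

open CategoryTheory CategoryTheory.Limits AlgebraicGeometry TopologicalSpace Opposite IsLocalRing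
open scoped Pointwise TensorProduct

namespace Groth.Agent.Helper3.EgaLen

open Groth.Agent.Helper3.ModLoc Groth.Agent.Helper5.StalkDict Groth.Agent.Helper3.SpFun
  Groth.Agent.Helper3.DvrBase

section translate

variable {R : Type u} [CommRing R] [IsDomain R] [IsDiscreteValuationRing R] {X : Scheme.{u}}
  (a : X ⟶ Spec (CommRingCat.of R)) [LocallyOfFiniteType a]
  (F : X.Modules) (hF : Coh.IsCoh F)

/-- the pullback of `F` to the closed fibre -/
noncomputable abbrev Fs : (a.fiber (IsLocalRing.closedPoint R)).Modules :=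
  (Scheme.Modules.pullback (a.fiberι (IsLocalRing.closedPoint R))).obj F

/-- the pullback of `F` to the generic fibre -/
noncomputable abbrev Fη : (a.fiber (genericPoint ↥(Spec (CommRingCat.of R)))).Modules :=
  (Scheme.Modules.pullback (a.fiberι (genericPoint ↥(Spec (CommRingCat.of R))))).obj F

include hF in
theorem nontrivial_Fη_iff (ζ : ↥(a.fiber (genericPoint ↥(Spec (CommRingCat.of R))))) :
    Nontrivial ((Fη a F).presheaf.stalk ζ) ↔ Nontrivial (F.presheaf.stalk (a.fiberι _ ζ)) := by
  haveI : F.IsQuasicoherent := hF.1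
  have hlen := length_stalk_pullback_of_bijective (a.fiberι _) F ζ
    (stalkMap_fiberι_generic_bijective a ζ)
  constructor
  · intro h
    by_contra hcon
    rw [not_nontrivial_iff_subsingleton] at hcon
    rw [Module.length_eq_zero_iff.mpr hcon] at hlen
    exact not_subsingleton _ (Module.length_eq_zero_iff.mp hlen)
  · intro h
    by_contra hcon
    rw [not_nontrivial_iff_subsingleton] at hcon
    rw [Module.length_eq_zero_iff.mpr hcon] at hlen
    exact not_subsingleton _ (Module.length_eq_zero_iff.mp hlen.symm)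

include hF in
theorem nontrivial_Fs_iff [IsLocallyNoetherian X]
    (x' : ↥(a.fiber (IsLocalRing.closedPoint R))) :
    Nontrivial ((Fs a F).presheaf.stalk x') ↔ Nontrivial (F.presheaf.stalk (a.fiberι _ x')) := by
  haveI : F.IsQuasicoherent := hF.1
  constructor
  · intro h
    by_contra hcon
    rw [not_nontrivial_iff_subsingleton] at hcon
    exact not_subsingleton _ (CycPBB.subsingleton_stalk_pullback (a.fiberι _) F x' hcon)
  · intro h
    obtain ⟨b, hker, hmap, -⟩ := exists_uniformizer a x'
    have hsurj := (Groth.Agent.Helper5.FibStalk.s9501 a _ x').1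
    have hlen := length_stalk_pullback_of_ker (a.fiberι _) F x' hsurj b hker
    haveI := finite_stalk F hF (a.fiberι _ x')
    haveI := nontrivial_quotSMulTop (N := F.presheaf.stalk (a.fiberι _ x')) b
      (mem_maximalIdeal_of_ker (a.fiberι _) x' b hker)
    by_contra hcon
    rw [not_nontrivial_iff_subsingleton] at hcon
    rw [Module.length_eq_zero_iff.mpr hcon] at hlen
    exact not_subsingleton _ (Module.length_eq_zero_iff.mp hlen.symm)

theorem specializes_fiberι_iff (y : ↥(Spec (CommRingCat.of R))) (w v : ↥(a.fiber y)) :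
    a.fiberι y w ⤳ a.fiberι y v ↔ w ⤳ v :=
  (a.fiberι y).isEmbedding.toIsInducing.specializes_iff

/-- generizations of points of the generic fibre are in the generic fibre -/
theorem map_eq_generic_of_specializes (w ξ : X)
    (hξ : a ξ = genericPoint ↥(Spec (CommRingCat.of R))) (h : w ⤳ ξ) :
    a w = genericPoint ↥(Spec (CommRingCat.of R)) := by
  rcases eq_generic_or_closed R (a w) with h1 | h1
  · exact h1
  · exfalso
    have hsp : a w ⤳ a ξ := h.map a.continuous
    rw [h1, hξ] at hsp
    have hcl : IsClosed ({IsLocalRing.closedPoint R} : Set ↥(Spec (CommRingCat.of R))) :=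
      IsLocalRing.isClosed_singleton_closedPoint R
    have := hsp.mem_closed hcl rfl
    exact genericPoint_ne_closedPoint R this

end translate

section stepI

variable {R : Type u} [CommRing R] [IsDomain R] [IsDiscreteValuationRing R] {X : Scheme.{u}}
  (a : X ⟶ Spec (CommRingCat.of R)) [IsProper a]
  (F : X.Modules) (hF : Coh.IsCoh F) (hflat : FlatMod.IsFlatOver a F)
  (hemb : AssSch.NoEmbedded (Fs a F))

include hF in
theorem isCoh_Fs : Coh.IsCoh (Fs a F) := by
  haveI : F.IsQuasicoherent := hF.1
  exact ⟨Groth.Agent.Lead.StalkPull.isQuasicoherent_pullbackObj _ F,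
    Groth.Agent.Lead.LimPres.isFT_pullback _ F hF.2⟩

include hF in
theorem isCoh_Fη : Coh.IsCoh (Fη a F) := by
  haveI : F.IsQuasicoherent := hF.1
  exact ⟨Groth.Agent.Lead.StalkPull.isQuasicoherent_pullbackObj _ F,
    Groth.Agent.Lead.LimPres.isFT_pullback _ F hF.2⟩

instance isLocallyNoetherian_fiber (y : ↥(Spec (CommRingCat.of R))) :
    IsLocallyNoetherian (a.fiber y) := by
  haveI : LocallyOfFiniteType (a.fiberToSpecResidueField y) :=
    inferInstanceAs (LocallyOfFiniteType (pullback.snd a
      ((Spec (CommRingCat.of R)).fromSpecResidueField y)))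
  exact LocallyOfFiniteType.isLocallyNoetherian (a.fiberToSpecResidueField y)

instance compactSpace_fiber (y : ↥(Spec (CommRingCat.of R))) : CompactSpace ↥(a.fiber y) :=
  inferInstanceAs (CompactSpace ↥(pullback a ((Spec (CommRingCat.of R)).fromSpecResidueField y)))

include hF hflat hemb in
/-- a maximal point of the support of the generic fibre specializes in codimension one to a
maximal point of the support of the closed fibre -/
theorem exists_closed_of_generic (v : ↥(a.fiber (genericPoint ↥(Spec (CommRingCat.of R)))))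
    (hnt : Nontrivial ((Fη a F).presheaf.stalk v))
    (hmax : ∀ w, Nontrivial ((Fη a F).presheaf.stalk w) → v ∈ closure {w} → w = v) :
    ∃ x' : ↥(a.fiber (IsLocalRing.closedPoint R)),
      (Nontrivial ((Fs a F).presheaf.stalk x') ∧
        ∀ w, Nontrivial ((Fs a F).presheaf.stalk w) → x' ∈ closure {w} → w = x') ∧
      a.fiberι _ v ⤳ a.fiberι _ x' ∧ δT a (a.fiberι _ v) = δT a (a.fiberι _ x') + 1 := by
  haveI : F.IsQuasicoherent := hF.1
  haveI : IsLocallyNoetherian X := (isSetup_δT a).1
  have hξ : a (a.fiberι _ v) = genericPoint ↥(Spec (CommRingCat.of R)) :=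
    Groth.Agent.Helper5.FibStalk.fiberι_apply a _ v
  have hntξ : Nontrivial (F.presheaf.stalk (a.fiberι _ v)) := (nontrivial_Fη_iff a F hF v).mp hnt
  have hminξ : ∀ w : X, Nontrivial (F.presheaf.stalk w) → w ⤳ a.fiberι _ v →
      w = a.fiberι _ v := by
    intro w hw hsp
    have haw := map_eq_generic_of_specializes a w _ hξ hsp
    have hrange : w ∈ Set.range (a.fiberι (genericPoint ↥(Spec (CommRingCat.of R)))) := by
      rw [Scheme.Hom.range_fiberι]
      exact haw
    obtain ⟨w', rfl⟩ := hrange
    rw [specializes_fiberι_iff] at hsp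
    rw [hmax w' ((nontrivial_Fη_iff a F hF w').mpr hw) (specializes_iff_mem_closure.mp hsp)]
  obtain ⟨x', hsp, hd, hass⟩ := exists_special a F hF hflat _ hξ hntξ hminξ
  obtain ⟨b, hker, hmap, hreg⟩ := exists_uniformizer a x'
  have hb := mem_maximalIdeal_of_ker (a.fiberι _) x' b hker
  have hsurj := (Groth.Agent.Helper5.FibStalk.s9501 a _ x').1
  have hassx : IsAssociatedPrime (maximalIdeal ((a.fiber _).presheaf.stalk x'))
      ((Fs a F).presheaf.stalk x') :=
    isAssociatedPrime_pullback_of_ker (a.fiberι _) F x' hsurj b hker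
      (hass b hb hmap (hreg F hflat))
  refine ⟨x', ⟨?_, ?_⟩, hsp, hd⟩
  · by_contra hcon
    rw [not_nontrivial_iff_subsingleton] at hcon
    have hem : associatedPrimes ((a.fiber _).presheaf.stalk x')
        ((Fs a F).presheaf.stalk x') = ∅ := associatedPrimes.eq_empty_of_subsingleton
    have hmem : maximalIdeal ((a.fiber _).presheaf.stalk x') ∈
        associatedPrimes ((a.fiber _).presheaf.stalk x') ((Fs a F).presheaf.stalk x') := hassx
    rw [hem] at hmem
    exact hmem
  · intro w hw hcl
    have hwx : w ⤳ x' := specializes_iff_mem_closure.mpr hcl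
    obtain ⟨w'', hw''w, hw''ass⟩ := exists_ass_generization (Fs a F) (isCoh_Fs a F hF) w hw
    have h1 : x' = w'' := hemb x' hassx w'' hw''ass (hw''w.trans hwx)
    rw [← h1] at hw''w
    exact (hwx.antisymm hw''w).eq

end stepI

section stepII

variable {R : Type u} [CommRing R] [IsDomain R] [IsDiscreteValuationRing R] {X : Scheme.{u}}
  (a : X ⟶ Spec (CommRingCat.of R)) [IsProper a]
  (F : X.Modules) (hF : Coh.IsCoh F) (hflat : FlatMod.IsFlatOver a F)

include hF hflat in
open Classical in
/-- the local inequality at a maximal point of the support of the closed fibre -/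
theorem sum_le_of_closed (z : ↥(a.fiber (IsLocalRing.closedPoint R)))
    (hmaxz : ∀ w, Nontrivial ((Fs a F).presheaf.stalk w) → z ∈ closure {w} → w = z)
    (V : Finset ↥(a.fiber (genericPoint ↥(Spec (CommRingCat.of R)))))
    (hV : ∀ v ∈ V, a.fiberι _ v ⤳ a.fiberι _ z ∧
      δT a (a.fiberι _ v) = δT a (a.fiberι _ z) + 1) :
    ∑ v ∈ V, ((Module.length ((a.fiber _).presheaf.stalk v)
        ((Fη a F).presheaf.stalk v)).toNat : ℤ) ≤
      ((Module.length ((a.fiber _).presheaf.stalk z) ((Fs a F).presheaf.stalk z)).toNat : ℤ) := by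
  haveI : F.IsQuasicoherent := hF.1
  haveI : IsLocallyNoetherian X := (isSetup_δT a).1
  have hδ := (isSetup_δT a).2.2
  obtain ⟨b, hker, hmap, hreg⟩ := exists_uniformizer a z
  have hb := mem_maximalIdeal_of_ker (a.fiberι _) z b hker
  have hsurj := (Groth.Agent.Helper5.FibStalk.s9501 a _ z).1
  have hax : a (a.fiberι _ z) = IsLocalRing.closedPoint R :=
    Groth.Agent.Helper5.FibStalk.fiberι_apply a _ z
  have hmaxX : ∀ w : X, a w = a (a.fiberι _ z) → Nontrivial (F.presheaf.stalk w) →
      w ⤳ a.fiberι _ z → w = a.fiberι _ z := by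
    intro w haw hw hsp
    have hrange : w ∈ Set.range (a.fiberι (IsLocalRing.closedPoint R)) := by
      rw [Scheme.Hom.range_fiberι]
      exact haw.trans hax
    obtain ⟨w', rfl⟩ := hrange
    rw [specializes_fiberι_iff] at hsp
    rw [hmaxz w' ((nontrivial_Fs_iff a F hF w').mpr hw) (specializes_iff_mem_closure.mp hsp)]
  have hdimx := delta_le_of_maximal a F hF _ b hb hmap hmaxX
  have hcore := core X (δT a) hδ (δT a (a.fiberι _ z)) F hF (a.fiberι _ z) rfl hdimx b
    (hreg F hflat)
  rw [length_stalk_pullback_of_ker (a.fiberι _) F z hsurj b hker, ← hcore]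
  set T : X → ℤ := fun ξ => if h : ξ ⤳ a.fiberι _ z ∧ δT a ξ = δT a (a.fiberι _ z) + 1 then
        ((Module.length (X.presheaf.stalk ξ) (F.presheaf.stalk ξ)).toNat : ℤ) *
          ((Module.length (X.presheaf.stalk (a.fiberι _ z)) (X.presheaf.stalk (a.fiberι _ z) ⧸
            (RingHom.ker (Cyc.specMap (a.fiberι _ z) ξ h.1) ⊔ Ideal.span {b}))).toNat : ℤ)
        else 0 with hT
  change _ ≤ ∑ᶠ ξ, T ξ
  have hTnonneg : ∀ ξ, 0 ≤ T ξ := by
    intro ξ
    rw [hT]
    simp only
    split_ifs
    · positivity
    · exact le_refl _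
  have hTfin : (Function.support T).Finite := by
    refine (Groth.Agent.Helper3.P1Cyc.finite_gen F hF (δT a) hδ (δT a (a.fiberι _ z))
      (a.fiberι _ z) hdimx).subset ?_
    intro ξ hξ
    rw [Function.mem_support] at hξ
    by_cases h : ξ ⤳ a.fiberι _ z ∧ δT a ξ = δT a (a.fiberι _ z) + 1
    · refine ⟨h.1, h.2, ?_⟩
      by_contra hcon
      rw [not_nontrivial_iff_subsingleton] at hcon
      apply hξ
      rw [hT]
      simp only
      rw [dif_pos h, Module.length_eq_zero_iff.mpr hcon]
      simp
    · exfalso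
      apply hξ
      rw [hT]
      simp only
      rw [dif_neg h]
  have hTv : ∀ v ∈ V, ((Module.length ((a.fiber _).presheaf.stalk v)
      ((Fη a F).presheaf.stalk v)).toNat : ℤ) ≤ T (a.fiberι _ v) := by
    intro v hv
    have hcond := hV v hv
    rw [hT]
    simp only
    rw [dif_pos hcond, length_stalk_pullback_of_bijective (a.fiberι _) F v
      (stalkMap_fiberι_generic_bijective a v)]
    by_cases hnt : Nontrivial (F.presheaf.stalk (a.fiberι _ v))
    · haveI := finite_stalk F hF (a.fiberι _ z)
      haveI : (RingHom.ker (Cyc.specMap (a.fiberι _ z) (a.fiberι _ v) hcond.1)).IsPrime :=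
        RingHom.ker_isPrime _
      have hann : Module.annihilator (X.presheaf.stalk (a.fiberι _ z))
          (F.presheaf.stalk (a.fiberι _ z)) ≤
          RingHom.ker (Cyc.specMap (a.fiberι _ z) (a.fiberι _ v) hcond.1) :=
        (nontrivial_stalk_iff F hcond.1).mp hnt
      have hmin := hmin_of_maximal a F hF _ b hmap {w | Nontrivial (F.presheaf.stalk w)} hmaxX
        (RingHom.ker (Cyc.specMap (a.fiberι _ z) (a.fiberι _ v) hcond.1))
        (fun Q hQ => by
          have hξx := fromSpecStalk_specializes (a.fiberι _ z) Q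
          show Nontrivial _
          rw [nontrivial_stalk_iff F hξx, PullDivB.ker_specMap _ Q hξx]
          exact hann.trans hQ)
      have hone := length_quot_sup_span
        (RingHom.ker (Cyc.specMap (a.fiberι _ z) (a.fiberι _ v) hcond.1)) b
        (IsLocalRing.le_maximalIdeal (Ideal.IsPrime.ne_top inferInstance)) hb hmin
      have hone' : (1 : ℤ) ≤ ((Module.length (X.presheaf.stalk (a.fiberι _ z))
          (X.presheaf.stalk (a.fiberι _ z) ⧸
            (RingHom.ker (Cyc.specMap (a.fiberι _ z) (a.fiberι _ v) hcond.1) ⊔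
              Ideal.span {b}))).toNat : ℤ) := by exact_mod_cast hone
      have h0 : (0 : ℤ) ≤ ((Module.length (X.presheaf.stalk (a.fiberι _ v))
          (F.presheaf.stalk (a.fiberι _ v))).toNat : ℤ) := by positivity
      nlinarith
    · rw [not_nontrivial_iff_subsingleton] at hnt
      rw [Module.length_eq_zero_iff.mpr hnt]
      simp
  have hinj : Set.InjOn (fun v : ↥(a.fiber (genericPoint ↥(Spec (CommRingCat.of R)))) =>
      a.fiberι _ v) (V : Set _) := fun v _ v' _ h => (a.fiberι _).isEmbedding.injective h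
  calc ∑ v ∈ V, ((Module.length ((a.fiber _).presheaf.stalk v)
        ((Fη a F).presheaf.stalk v)).toNat : ℤ)
      ≤ ∑ v ∈ V, T (a.fiberι _ v) := Finset.sum_le_sum hTv
    _ = ∑ ξ ∈ V.image (fun v => a.fiberι _ v), T ξ := (Finset.sum_image hinj).symm
    _ ≤ ∑ ξ ∈ hTfin.toFinset ∪ V.image (fun v => a.fiberι _ v), T ξ :=
        Finset.sum_le_sum_of_subset_of_nonneg Finset.subset_union_right
          (fun ξ _ _ => hTnonneg ξ)
    _ = ∑ᶠ ξ, T ξ := by
        rw [finsum_eq_sum_of_support_subset]
        intro ξ hξ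
        rw [Finset.coe_union]
        left
        simpa using hξ

end stepII

section stepIII

variable {R : Type u} [CommRing R] [IsDomain R] [IsDiscreteValuationRing R] {X : Scheme.{u}}
  (a : X ⟶ Spec (CommRingCat.of R)) [IsProper a]
  (F : X.Modules) (hF : Coh.IsCoh F) (hflat : FlatMod.IsFlatOver a F)
  (hemb : AssSch.NoEmbedded (Fs a F))

/-- finiteness of the set of maximal points of the support, in the form used in the statement -/
theorem finite_maxPts' {P : Scheme.{u}} [IsLocallyNoetherian P] [CompactSpace P] (G : P.Modules)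
    (hG : Coh.IsCoh G) :
    Finite {v : P // Nontrivial (G.presheaf.stalk v) ∧
      ∀ w : P, Nontrivial (G.presheaf.stalk w) → v ∈ closure {w} → w = v} := by
  apply Set.finite_coe_iff.mpr
  refine (finite_maxPts G hG).subset ?_
  rintro v ⟨h1, h2⟩
  exact ⟨h1, fun w hw hsp => h2 w hw (specializes_iff_mem_closure.mp hsp)⟩

theorem length_ne_top_of_maxPt {P : Scheme.{u}} [IsLocallyNoetherian P] (G : P.Modules)
    (hG : Coh.IsCoh G) (v : P) (hnt : Nontrivial (G.presheaf.stalk v))
    (hmax : ∀ w : P, Nontrivial (G.presheaf.stalk w) → v ∈ closure {w} → w = v) :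
    Module.length (P.presheaf.stalk v) (G.presheaf.stalk v) ≠ ⊤ := by
  have := (Groth.Agent.S1916.result P G hG).2 v hnt
    (fun x hx hsp => hmax x hx (specializes_iff_mem_closure.mp hsp))
  exact this.ne

/-- an abstract fibrewise comparison of finite sums in `ℕ∞` -/
theorem finsum_le_of_fibrewise {α β : Type u} [Finite α] [Finite β] (f : α → ℕ∞) (g : β → ℕ∞)
    (hf : ∀ x, f x ≠ ⊤) (hg : ∀ y, g y ≠ ⊤) (φ : α → β)
    (key : ∀ (y : β) (V : Finset α), (∀ v ∈ V, φ v = y) →
      ∑ v ∈ V, (f v).toNat ≤ (g y).toNat) :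
    ∑ᶠ x, f x ≤ ∑ᶠ y, g y := by
  classical
  haveI := Fintype.ofFinite α
  haveI := Fintype.ofFinite β
  rw [finsum_eq_sum_of_fintype, finsum_eq_sum_of_fintype]
  have hG : ∀ x, f x = (((f x).toNat : ℕ) : ℕ∞) := fun x => (ENat.coe_toNat (hf x)).symm
  have hS : ∀ y, g y = (((g y).toNat : ℕ) : ℕ∞) := fun y => (ENat.coe_toNat (hg y)).symm
  rw [Finset.sum_congr rfl (fun x _ => hG x), Finset.sum_congr rfl (fun y _ => hS y),
    ← Nat.cast_sum, ← Nat.cast_sum, Nat.cast_le]
  calc ∑ x, (f x).toNat
      = ∑ y, ∑ x ∈ Finset.univ.filter (fun x => φ x = y), (f x).toNat :=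
        (Finset.sum_fiberwise _ _ _).symm
    _ ≤ ∑ y, (g y).toNat := Finset.sum_le_sum (fun y _ => key y _ (fun v hv => by
        rw [Finset.mem_filter] at hv
        exact hv.2))

include hF hflat hemb in
/-- **S4980** -/
theorem sum_length_generic_le_closed :
    ∑ᶠ z' : {v : ↥(a.fiber (genericPoint ↥(Spec (CommRingCat.of R)))) //
        Nontrivial ((Fη a F).presheaf.stalk v) ∧
        ∀ w : ↥(a.fiber (genericPoint ↥(Spec (CommRingCat.of R)))),
          Nontrivial ((Fη a F).presheaf.stalk w) → v ∈ closure {w} → w = v},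
        Module.length ((a.fiber _).presheaf.stalk z'.1) ((Fη a F).presheaf.stalk z'.1) ≤
      ∑ᶠ z : {v : ↥(a.fiber (IsLocalRing.closedPoint R)) //
        Nontrivial ((Fs a F).presheaf.stalk v) ∧
        ∀ w : ↥(a.fiber (IsLocalRing.closedPoint R)),
          Nontrivial ((Fs a F).presheaf.stalk w) → v ∈ closure {w} → w = v},
        Module.length ((a.fiber _).presheaf.stalk z.1) ((Fs a F).presheaf.stalk z.1) := by
  classical
  haveI finG := finite_maxPts' (Fη a F) (isCoh_Fη a F hF)
  haveI finS := finite_maxPts' (Fs a F) (isCoh_Fs a F hF)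
  choose φx hφ using fun v : {v : ↥(a.fiber (genericPoint ↥(Spec (CommRingCat.of R)))) //
        Nontrivial ((Fη a F).presheaf.stalk v) ∧
        ∀ w : ↥(a.fiber (genericPoint ↥(Spec (CommRingCat.of R)))),
          Nontrivial ((Fη a F).presheaf.stalk w) → v ∈ closure {w} → w = v} =>
    exists_closed_of_generic a F hF hflat hemb v.1 v.2.1 v.2.2
  refine finsum_le_of_fibrewise _ _
    (fun v => length_ne_top_of_maxPt (Fη a F) (isCoh_Fη a F hF) v.1 v.2.1 v.2.2)
    (fun z => length_ne_top_of_maxPt (Fs a F) (isCoh_Fs a F hF) z.1 z.2.1 z.2.2)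
    (fun v => ⟨φx v, (hφ v).1⟩) ?_
  intro z V hV
  have h1 := sum_le_of_closed a F hF hflat z.1 z.2.2
    (V.map ⟨Subtype.val, Subtype.val_injective⟩)
    (by
      intro v hv
      rw [Finset.mem_map] at hv
      obtain ⟨v', hv', rfl⟩ := hv
      have h2 := (hφ v').2
      have h3 : φx v' = z.1 := congrArg Subtype.val (hV v' hv')
      rw [h3] at h2
      exact h2)
  rw [Finset.sum_map] at h1
  exact_mod_cast h1

end stepIII

end Groth.Agent.Helper3.EgaLen
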