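import Mathlib

set_option autoImplicit false
set_option linter.style.haveILetI false
set_option linter.unusedSectionVars false
set_option linter.unusedVariables false
set_option linter.deprecated false
set_option linter.style.haveILetI false
set_option linter.unusedSectionVars false
set_option linter.unusedVariables false

universe u

namespace Groth.Agent.Helper3.EndRank1

open Module

section Fwd

variable {S : Type u} [CommRing S] {M : Type u} [AddCommGroup M] [Module S M]

/-- an endomorphism of a module which is free of rank one at `P` is a scalar at `P` -/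
theorem exists_scalar_at (P : Ideal S) [P.IsPrime]
    (e : LocalizedModule P.primeCompl M ≃ₗ[Localization.AtPrime P] Localization.AtPrime P)
    (h : Module.End S M) :
    ∃ c : Localization.AtPrime P, ∀ z : LocalizedModule P.primeCompl M,
      LocalizedModule.map P.primeCompl h z = c • z := by
  let T : LocalizedModule P.primeCompl M →ₗ[Localization.AtPrime P] LocalizedModule P.primeCompl M :=
    (LocalizedModule.map P.primeCompl h).extendScalarsOfIsLocalization P.primeCompl
      (Localization.AtPrime P)
  set g := e.symm 1 with hg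
  have hz : ∀ z, z = (e z) • g := by
    intro z
    rw [hg, ← map_smul, smul_eq_mul, mul_one, LinearEquiv.symm_apply_apply]
  refine ⟨e (T g), fun z => ?_⟩
  show T z = _
  conv_lhs => rw [hz z, map_smul, hz (T g)]
  rw [smul_smul, mul_comm, ← smul_smul, ← hz z]

theorem exists_scalar_pt (P : Ideal S) [P.IsPrime]
    (e : LocalizedModule P.primeCompl M ≃ₗ[Localization.AtPrime P] Localization.AtPrime P)
    (h : Module.End S M) :
    ∃ u ∈ P.primeCompl, ∃ a : S, ∀ x : M, ∃ w ∈ P.primeCompl, w • u • h x = w • a • x := by
  obtain ⟨c, hc⟩ := exists_scalar_at P e h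
  obtain ⟨a, u, rfl⟩ := IsLocalization.exists_mk'_eq P.primeCompl c
  refine ⟨u, u.2, a, fun x => ?_⟩
  have h1 := hc (LocalizedModule.mk x 1)
  rw [LocalizedModule.map_mk] at h1
  have h2 : (u : S) • LocalizedModule.mk (h x) (1 : P.primeCompl) =
      (a : S) • LocalizedModule.mk x (1 : P.primeCompl) := by
    rw [h1, ← algebraMap_smul (Localization.AtPrime P) (u : S), smul_smul,
      IsLocalization.mk'_spec' , algebraMap_smul]
  rw [LocalizedModule.smul'_mk, LocalizedModule.smul'_mk, LocalizedModule.mk_eq] at h2
  obtain ⟨w, hw⟩ := h2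
  refine ⟨w, w.2, ?_⟩
  simpa [Submonoid.smul_def] using hw

theorem exists_scalar_finset (P : Ideal S) [P.IsPrime]
    (e : LocalizedModule P.primeCompl M ≃ₗ[Localization.AtPrime P] Localization.AtPrime P)
    (h : Module.End S M) :
    ∃ u ∈ P.primeCompl, ∃ a : S, ∀ s : Finset M, ∃ w ∈ P.primeCompl,
      ∀ x ∈ s, w • u • h x = w • a • x := by
  classical
  obtain ⟨u, hu, a, hx⟩ := exists_scalar_pt P e h
  refine ⟨u, hu, a, fun s => ?_⟩
  induction s using Finset.induction_on with
  | empty => exact ⟨1, P.primeCompl.one_mem, fun x hx => absurd hx (Finset.notMem_empty x)⟩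
  | insert y s hy ih =>
    obtain ⟨w, hw, hws⟩ := ih
    obtain ⟨w', hw', hwy⟩ := hx y
    refine ⟨w' * w, P.primeCompl.mul_mem hw' hw, fun x hxs => ?_⟩
    rcases Finset.mem_insert.1 hxs with rfl | hxs
    · rw [mul_comm, mul_smul, mul_smul, hwy]
    · rw [mul_smul, mul_smul, hws x hxs]

variable [Module.Finite S M]

theorem exists_scalar_global (P : Ideal S) [P.IsPrime]
    (e : LocalizedModule P.primeCompl M ≃ₗ[Localization.AtPrime P] Localization.AtPrime P)
    (h : Module.End S M) :
    ∃ v ∈ P.primeCompl, ∃ a : S, ∀ x : M, v • h x = a • x := by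
  obtain ⟨u, hu, a, hs⟩ := exists_scalar_finset P e h
  obtain ⟨s, hs'⟩ := (Module.Finite.fg_top : (⊤ : Submodule S M).FG)
  obtain ⟨w, hw, hws⟩ := hs s
  refine ⟨w * u, P.primeCompl.mul_mem hw hu, w * a, fun x => ?_⟩
  have hmem : x ∈ Submodule.span S (s : Set M) := by rw [hs']; exact Submodule.mem_top
  induction hmem using Submodule.span_induction with
  | mem x hx => rw [mul_smul, mul_smul]; exact hws x hx
  | zero => rw [map_zero, smul_zero, smul_zero]
  | add x y _ _ hx hy => rw [map_add, smul_add, smul_add, hx, hy]
  | smul c x _ hx => rw [map_smul, smul_comm, hx, smul_comm]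

/-- locally free of rank one ⇒ every endomorphism is a scalar -/
theorem surjective_of_locally_free
    (hloc : ∀ (P : Ideal S) (_ : P.IsPrime),
        Nonempty (LocalizedModule P.primeCompl M ≃ₗ[Localization.AtPrime P] Localization.AtPrime P)) :
    Function.Surjective (algebraMap S (Module.End S M)) := by
  intro h
  let J : Ideal S :=
    { carrier := {v | ∃ a : S, ∀ x : M, v • h x = a • x}
      add_mem' := by
        rintro v v' ⟨a, ha⟩ ⟨a', ha'⟩
        exact ⟨a + a', fun x => by rw [add_smul, add_smul, ha, ha']⟩
      zero_mem' := ⟨0, fun x => by rw [zero_smul, zero_smul]⟩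
      smul_mem' := by
        rintro c v ⟨a, ha⟩
        exact ⟨c * a, fun x => by rw [smul_eq_mul, mul_smul, mul_smul, ha]⟩ }
  have hJ : J = ⊤ := by
    by_contra hne
    obtain ⟨P, hP, hJP⟩ := Ideal.exists_le_maximal J hne
    haveI := hP.isPrime
    obtain ⟨e⟩ := hloc P hP.isPrime
    obtain ⟨v, hv, a, ha⟩ := exists_scalar_global P e h
    exact hv (hJP ⟨a, ha⟩)
  obtain ⟨a, ha⟩ : (1 : S) ∈ J := by rw [hJ]; exact Submodule.mem_top
  refine ⟨a, ?_⟩
  apply LinearMap.ext
  intro x
  show a • x = h x
  rw [← ha x, one_smul]

theorem injective_of_locally_free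
    (hloc : ∀ (P : Ideal S) (_ : P.IsPrime),
        Nonempty (LocalizedModule P.primeCompl M ≃ₗ[Localization.AtPrime P] Localization.AtPrime P)) :
    Function.Injective (algebraMap S (Module.End S M)) := by
  rw [injective_iff_map_eq_zero]
  intro s hs
  have hsM : ∀ x : M, s • x = 0 := by
    intro x
    show algebraMap S (Module.End S M) s x = 0
    rw [hs]
    rfl
  let J : Ideal S :=
    { carrier := {w | w * s = 0}
      add_mem' := by
        intro v v' hv hv'
        show (v + v') * s = 0
        rw [add_mul, hv, hv', add_zero]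
      zero_mem' := zero_mul s
      smul_mem' := by
        intro c v hv
        show c • v * s = 0
        rw [smul_eq_mul, mul_assoc, hv, mul_zero] }
  have hJ : J = ⊤ := by
    by_contra hne
    obtain ⟨P, hP, hJP⟩ := Ideal.exists_le_maximal J hne
    haveI := hP.isPrime
    obtain ⟨e⟩ := hloc P hP.isPrime
    have h0 : ∀ z : LocalizedModule P.primeCompl M, s • z = 0 := by
      intro z
      induction z using LocalizedModule.induction_on with
      | h m t => rw [LocalizedModule.smul'_mk, hsM, LocalizedModule.zero_mk]
    have h1 : algebraMap S (Localization.AtPrime P) s = 0 := by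
      have h2 := h0 (e.symm 1)
      rw [← algebraMap_smul (Localization.AtPrime P) s, ← map_smul, smul_eq_mul, mul_one] at h2
      exact e.symm.map_eq_zero_iff.1 h2
    obtain ⟨w, hw⟩ := (IsLocalization.map_eq_zero_iff P.primeCompl (Localization.AtPrime P) s).1 h1
    exact w.2 (hJP hw)
  have h1 : (1 : S) ∈ J := by rw [hJ]; exact Submodule.mem_top
  have h2 : (1 : S) * s = 0 := h1
  rwa [one_mul] at h2

end Fwd

section Bwd

variable {S : Type u} [CommRing S] {M : Type u} [AddCommGroup M] [Module S M]

/-- torsionless + faithful ⇒ the trace ideal has zero annihilator -/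
theorem ann_trace (hinj : Function.Injective (Module.Dual.eval S M))
    (hEnd : Function.Injective (algebraMap S (Module.End S M))) (a : S)
    (h : ∀ (f : Module.Dual S M) (m : M), a * f m = 0) : a = 0 := by
  apply hEnd
  rw [map_zero]
  apply LinearMap.ext
  intro m
  show a • m = 0
  apply hinj
  rw [map_zero]
  apply LinearMap.ext
  intro f
  rw [Module.Dual.eval_apply, map_smul, smul_eq_mul, h]
  rfl

/-- a functional with a value outside `P` trivialises `M` at `P` (when `End M = S`) -/
theorem nonempty_equiv_of_notMem (hEnd : Function.Surjective (algebraMap S (Module.End S M)))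
    (P : Ideal S) [P.IsPrime] (f : Module.Dual S M) (n : M) (hs : f n ∉ P) :
    Nonempty (LocalizedModule P.primeCompl M ≃ₗ[Localization.AtPrime P] Localization.AtPrime P) := by
  set s : S := f n with hsdef
  obtain ⟨r, hr⟩ := hEnd ((LinearMap.toSpanSingleton S M n) ∘ₗ f)
  have hr' : ∀ x : M, r • x = f x • n := fun x => LinearMap.congr_fun hr x
  have hsr : s * r = s * s := by
    have := congrArg f (hr' n)
    rw [map_smul, map_smul, smul_eq_mul, smul_eq_mul] at this
    rw [mul_comm, this]
  let s' : P.primeCompl := ⟨s, hs⟩
  let L : Localization.AtPrime P →ₗ[Localization.AtPrime P] LocalizedModule P.primeCompl M :=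
    LinearMap.toSpanSingleton _ _ (LocalizedModule.mk n 1)
  have hLc : ∀ c : Localization.AtPrime P, L c = c • LocalizedModule.mk n 1 := fun c =>
    LinearMap.toSpanSingleton_apply _ _ _ _
  have hL : Function.Bijective L := by
    constructor
    · rw [injective_iff_map_eq_zero]
      intro c hc
      obtain ⟨a, v, rfl⟩ := IsLocalization.exists_mk'_eq P.primeCompl c
      have h1 : LocalizedModule.mk (a • n) (v * 1) = (0 : LocalizedModule P.primeCompl M) := by
        rw [← LocalizedModule.mk_smul_mk, Localization.mk_eq_mk', ← hLc]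
        exact hc
      rw [← LocalizedModule.zero_mk (v * 1), LocalizedModule.mk_eq] at h1
      obtain ⟨u, hu⟩ := h1
      rw [smul_zero, smul_zero] at hu
      have h2 := congrArg f hu
      rw [map_zero, Submonoid.smul_def, Submonoid.smul_def, map_smul, map_smul, map_smul,
        smul_eq_mul, smul_eq_mul, smul_eq_mul] at h2
      rw [IsLocalization.mk'_eq_zero_iff]
      refine ⟨u * (v * 1) * s', ?_⟩
      rw [Submonoid.coe_mul, Submonoid.coe_mul]
      show (u : S) * ((v * 1 : P.primeCompl) : S) * s * a = 0
      rw [← h2]
      ring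
    · intro z
      induction z using LocalizedModule.induction_on with
      | h x v =>
        refine ⟨IsLocalization.mk' _ (f x) (s' * v), ?_⟩
        rw [hLc, ← Localization.mk_eq_mk', LocalizedModule.mk_smul_mk, ← hr' x, LocalizedModule.mk_eq]
        refine ⟨s', ?_⟩
        simp only [Submonoid.smul_def, Submonoid.coe_mul, Submonoid.coe_one, mul_one]
        rw [smul_smul, smul_smul, smul_smul]
        congr 1
        show s * v * r = s * (s * v)
        calc s * v * r = (s * r) * v := by ring
          _ = s * s * v := by rw [hsr]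
          _ = s * (s * v) := by ring
  exact ⟨(LinearEquiv.ofBijective L hL).symm⟩

variable [IsNoetherianRing S] [Module.Finite S M]

/-- the divided functional: given `t` regular and `y` with `f m * y ∈ (t)` for all `f, m` -/
theorem exists_divided (t y : S) (ht : t ∈ nonZeroDivisors S)
    (hy : ∀ (f : Module.Dual S M) (m : M), ∃ c : S, c * t = f m * y) :
    ∃ Φ : Module.Dual S M →ₗ[S] Module.Dual S M, ∀ f m, Φ f m * t = f m * y := by
  choose c hc using hy
  have huniq : ∀ {a b : S}, a * t = b * t → a = b := fun {a b} h =>
    (mul_cancel_right_mem_nonZeroDivisors ht).1 h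
  let Φf : Module.Dual S M → Module.Dual S M := fun f =>
    { toFun := c f
      map_add' := fun m m' => huniq (by rw [hc, map_add, add_mul, add_mul, hc, hc])
      map_smul' := fun a m => huniq (by
        rw [hc, map_smul, RingHom.id_apply, smul_eq_mul, smul_eq_mul, mul_assoc, mul_assoc, hc]) }
  have hΦf : ∀ f m, Φf f m * t = f m * y := fun f m => hc f m
  refine ⟨{ toFun := Φf
            map_add' := fun f f' => LinearMap.ext fun m => huniq (by
              rw [LinearMap.add_apply, add_mul, hΦf, hΦf, hΦf, LinearMap.add_apply, add_mul])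
            map_smul' := fun a f => LinearMap.ext fun m => huniq (by
              rw [RingHom.id_apply, LinearMap.smul_apply, hΦf, LinearMap.smul_apply, smul_eq_mul,
                smul_eq_mul, mul_assoc, mul_assoc, hΦf]) }, hΦf⟩

theorem false_of_trace_le [Module.IsReflexive S M]
    (hEnd : Function.Bijective (algebraMap S (Module.End S M))) (hdim : ringKrullDim S ≤ 1)
    (P : Ideal S) [hP : P.IsPrime] (hτ : ∀ (f : Module.Dual S M) (m : M), f m ∈ P) : False := by
  have hann := ann_trace (Module.bijective_dual_eval S M).1 hEnd.1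
  by_cases hPmin : P ∈ minimalPrimes S
  · have h0 : Module.annihilator S S = ⊥ := Module.annihilator_eq_bot.mpr inferInstance
    have h1 : P ∈ associatedPrimes S S := by
      apply Module.associatedPrimes.minimalPrimes_annihilator_subset_associatedPrimes S S
      rw [h0]
      exact hPmin
    rw [AssociatedPrimes.mem_iff, isAssociatedPrime_iff] at h1
    obtain ⟨_, x, hx⟩ := h1
    have hx0 : x = 0 := by
      apply hann
      intro f m
      have := hτ f m
      rw [hx, Submodule.mem_colon_singleton, Submodule.mem_bot, smul_eq_mul] at this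
      rw [mul_comm, this]
    apply hP.ne_top
    rw [hx, hx0, Ideal.eq_top_iff_one, Submodule.mem_colon_singleton, smul_zero]
    exact Submodule.zero_mem _
  · set τ : Ideal S := Ideal.span (Set.range fun p : Module.Dual S M × M => p.1 p.2) with hτdef
    have hτP : τ ≤ P := Ideal.span_le.2 (by rintro _ ⟨p, rfl⟩; exact hτ p.1 p.2)
    have hτmem : ∀ (f : Module.Dual S M) (m : M), f m ∈ τ := fun f m =>
      Ideal.subset_span ⟨(f, m), rfl⟩
    obtain ⟨t, htτ, htreg⟩ : ∃ t ∈ τ, t ∈ nonZeroDivisors S := by
      by_contra hcon
      push_neg at hcon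
      have hdisj : Disjoint (τ : Set S) (nonZeroDivisors S) :=
        Set.disjoint_left.2 fun a ha => hcon a ha
      have hlt := Ideal.bot_lt_annihilator_of_disjoint_nonZeroDivisors hdisj
      obtain ⟨x, hx, hx0⟩ := SetLike.exists_of_lt hlt
      apply hx0
      rw [Submodule.mem_bot]
      apply hann
      intro f m
      have := Module.mem_annihilator.1 hx (⟨f m, hτmem f m⟩ : τ)
      exact congrArg Subtype.val this
    have hPt : P ∈ (Ideal.span {t}).minimalPrimes := by
      refine ⟨⟨hP, (Ideal.span_singleton_le_iff_mem _).2 (hτP htτ)⟩, fun Q hQ hQP => ?_⟩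
      obtain ⟨hQp, htQ⟩ := hQ
      rcases Ring.krullDimLE_one_iff.1 (Ring.krullDimLE_iff.2 hdim) Q hQp with hQmin | hQmax
      · exfalso
        exact Set.disjoint_left.1 (Ideal.disjoint_nonZeroDivisors_of_mem_minimalPrimes hQmin)
          ((Ideal.span_singleton_le_iff_mem _).1 htQ) htreg
      · exact (hQmax.eq_of_le hP.ne_top hQP).ge
    have h1 : P ∈ associatedPrimes S (S ⧸ Ideal.span {t}) := by
      apply Module.associatedPrimes.minimalPrimes_annihilator_subset_associatedPrimes S
      rw [Ideal.annihilator_quotient]
      exact hPt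
    rw [AssociatedPrimes.mem_iff, isAssociatedPrime_iff] at h1
    obtain ⟨_, ybar, hybar⟩ := h1
    obtain ⟨y, rfl⟩ := Ideal.Quotient.mk_surjective ybar
    have hy : ∀ (f : Module.Dual S M) (m : M), ∃ c : S, c * t = f m * y := by
      intro f m
      have := hτ f m
      rw [hybar, Submodule.mem_colon_singleton, Submodule.mem_bot] at this
      have h2 : Ideal.Quotient.mk (Ideal.span {t}) (f m * y) = 0 := this
      rw [Ideal.Quotient.eq_zero_iff_mem, Ideal.mem_span_singleton'] at h2
      exact h2
    obtain ⟨Φ, hΦ⟩ := exists_divided t y htreg hy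
    let h : M →ₗ[S] M :=
      (Module.evalEquiv S M).symm.toLinearMap ∘ₗ Φ.dualMap ∘ₗ (Module.evalEquiv S M).toLinearMap
    have hh : ∀ (f : Module.Dual S M) (m : M), f (h m) = Φ f m := by
      intro f m
      have h3 : Module.evalEquiv S M (h m) = Φ.dualMap (Module.evalEquiv S M m) :=
        LinearEquiv.apply_symm_apply _ _
      have h4 := LinearMap.congr_fun h3 f
      rw [Module.evalEquiv_apply, Module.Dual.eval_apply, LinearMap.dualMap_apply,
        Module.evalEquiv_apply, Module.Dual.eval_apply] at h4
      exact h4
    obtain ⟨r, hr⟩ := hEnd.2 h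
    have hr' : ∀ m, r • m = h m := fun m => LinearMap.congr_fun hr m
    have hyr : y - r * t = 0 := by
      apply hann
      intro f m
      have h5 := hΦ f m
      rw [← hh, ← hr', map_smul, smul_eq_mul] at h5
      rw [sub_mul, mul_comm y, ← h5]
      ring
    apply hP.ne_top
    rw [hybar, Ideal.eq_top_iff_one, Submodule.mem_colon_singleton, Submodule.mem_bot, one_smul,
      Ideal.Quotient.eq_zero_iff_mem, Ideal.mem_span_singleton']
    exact ⟨r, (sub_eq_zero.1 hyr).symm⟩

end Bwd

section Final

variable (S : Type u) [CommRing S] [IsNoetherianRing S] (hdim : ringKrullDim S ≤ 1)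
  (M : Type u) [AddCommGroup M] [Module S M] [Module.Finite S M] [Module.IsReflexive S M]

include hdim in
/-- **S17990** (neither reducedness nor the Gorenstein property is needed beyond Noetherianity) -/
theorem main :
    (∀ (P : Ideal S) (_ : P.IsPrime),
        Nonempty (LocalizedModule P.primeCompl M ≃ₗ[Localization.AtPrime P] Localization.AtPrime P)) ↔
      Function.Bijective (algebraMap S (Module.End S M)) := by
  constructor
  · intro hloc
    exact ⟨injective_of_locally_free hloc, surjective_of_locally_free hloc⟩
  · intro hEnd P hP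
    haveI := hP
    by_cases hτ : ∀ (f : Module.Dual S M) (m : M), f m ∈ P
    · exact (false_of_trace_le hEnd hdim P hτ).elim
    · push_neg at hτ
      obtain ⟨f, n, hfn⟩ := hτ
      exact nonempty_equiv_of_notMem hEnd.2 P f n hfn

end Final

end Groth.Agent.Helper3.EndRank1
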