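import Mathlib
import Groth.Agent.Helper3.Rig1

set_option autoImplicit false
set_option linter.style.haveILetI false
set_option linter.unusedSectionVars false
set_option linter.unusedVariables false
set_option linter.style.haveILetI false
set_option linter.unusedSectionVars false
set_option linter.unusedVariables false

open AlgebraicGeometry CategoryTheory CategoryTheory.Limits TopologicalSpace

universe u

namespace Groth.Agent.Helper3.EqClosed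

/-- if `f` maps `g ⁻¹ U` into `U` for every open `U`, the equalizer of `f` and `g` is a closed
subscheme (no separatedness needed) -/
theorem isClosedImmersion_of_stable {P X E : Scheme.{u}} (f g : P ⟶ X)
    (hstab : ∀ U : X.Opens, g ⁻¹ᵁ U ≤ f ⁻¹ᵁ U) (e : E ⟶ P) [Mono e] (he : e ≫ f = e ≫ g)
    (hlift : ∀ {W : Scheme.{u}} (w : W ⟶ P), w ≫ f = w ≫ g → ∃ l : W ⟶ E, l ≫ e = w) :
    IsClosedImmersion e := by
  have hcov : ⨆ U : X.affineOpens, g ⁻¹ᵁ U.1 = ⊤ := by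
    rw [eq_top_iff]
    intro p _
    obtain ⟨_, ⟨U, hU, rfl⟩, hpU, -⟩ :=
      X.isBasis_affineOpens.exists_subset_of_mem_open (Set.mem_univ (g p)) isOpen_univ
    exact Opens.mem_iSup.mpr ⟨⟨U, hU⟩, hpU⟩
  refine IsZariskiLocalAtTarget.of_iSup_eq_top (P := @IsClosedImmersion)
    (fun U : X.affineOpens => g ⁻¹ᵁ U.1) hcov fun U => ?_
  -- restricted maps into the affine open `U`
  have hrf : Set.range ((g ⁻¹ᵁ U.1).ι ≫ f) ⊆ Set.range U.1.ι := by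
    rintro _ ⟨p, rfl⟩
    rw [Scheme.Opens.range_ι]
    exact hstab U.1 p.2
  have hrg : Set.range ((g ⁻¹ᵁ U.1).ι ≫ g) ⊆ Set.range U.1.ι := by
    rintro _ ⟨p, rfl⟩
    rw [Scheme.Opens.range_ι]
    exact p.2
  let f' : ((g ⁻¹ᵁ U.1 : P.Opens) : Scheme.{u}) ⟶ (U.1 : Scheme.{u}) :=
    IsOpenImmersion.lift U.1.ι ((g ⁻¹ᵁ U.1).ι ≫ f) hrf
  let g' : ((g ⁻¹ᵁ U.1 : P.Opens) : Scheme.{u}) ⟶ (U.1 : Scheme.{u}) :=
    IsOpenImmersion.lift U.1.ι ((g ⁻¹ᵁ U.1).ι ≫ g) hrg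
  have hf' : f' ≫ U.1.ι = (g ⁻¹ᵁ U.1).ι ≫ f := IsOpenImmersion.lift_fac _ _ _
  have hg' : g' ≫ U.1.ι = (g ⁻¹ᵁ U.1).ι ≫ g := IsOpenImmersion.lift_fac _ _ _
  haveI : IsAffine (U.1 : Scheme.{u}) := U.2
  obtain ⟨E', ι', hι', hc, hl⟩ := Rig1.exists_equalizer f' g' (terminal.from _)
    (terminal.hom_ext _ _)
  have hpb := isPullback_morphismRestrict e (g ⁻¹ᵁ U.1)
  -- `ι'` factors through the restriction of `e`
  have h1 : (ι' ≫ (g ⁻¹ᵁ U.1).ι) ≫ f = (ι' ≫ (g ⁻¹ᵁ U.1).ι) ≫ g := by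
    rw [Category.assoc, Category.assoc, ← hf', ← hg', ← Category.assoc, ← Category.assoc, hc]
  obtain ⟨l, hl'⟩ := hlift _ h1
  let b : E' ⟶ ((e ⁻¹ᵁ (g ⁻¹ᵁ U.1) : E.Opens) : Scheme.{u}) := hpb.lift ι' l hl'.symm
  have hb : b ≫ (e ∣_ (g ⁻¹ᵁ U.1)) = ι' := hpb.lift_fst _ _ _
  -- the restriction of `e` factors through `ι'`
  have h2 : (e ∣_ (g ⁻¹ᵁ U.1)) ≫ f' = (e ∣_ (g ⁻¹ᵁ U.1)) ≫ g' := by
    rw [← cancel_mono U.1.ι, Category.assoc, Category.assoc, hf', hg', ← Category.assoc,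
      ← Category.assoc, hpb.w, Category.assoc, Category.assoc, he]
  obtain ⟨a, ha⟩ := hl _ h2
  haveI : Mono (e ∣_ (g ⁻¹ᵁ U.1)) := by
    refine ⟨fun u v huv => ?_⟩
    apply hpb.hom_ext huv
    rw [← cancel_mono e, Category.assoc, Category.assoc, ← hpb.w, ← Category.assoc,
      ← Category.assoc, huv]
  haveI : Mono ι' := inferInstance
  have hab : a ≫ b = 𝟙 _ := by
    rw [← cancel_mono (e ∣_ (g ⁻¹ᵁ U.1)), Category.assoc, hb, ha, Category.id_comp]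
  have hba : b ≫ a = 𝟙 _ := by
    rw [← cancel_mono ι', Category.assoc, ha, hb, Category.id_comp]
  haveI : IsIso a := ⟨b, hab, hba⟩
  rw [← ha]
  infer_instance

end Groth.Agent.Helper3.EqClosed
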