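import Mathlib
import Groth.Prelude.Def_CAlg
import Groth.Prelude.Def_LCI2
import Groth.Agent.Helper3.KzRelC
import Groth.Agent.Helper3.KzLoc
import Groth.Agent.Helper3.GorFlatD
import Groth.Agent.Helper3.GorKos
import Groth.Agent.Helper3.GorPoly

/-!
# Base change of a flat Koszul-regular ideal; Gorenstein fibres of flat lci maps
-/

set_option autoImplicit false
set_option linter.style.haveILetI false
set_option linter.unusedSectionVars false
set_option linter.unusedVariables false
set_option linter.style.haveILetI false
set_option linter.unusedSectionVars false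
set_option linter.unusedVariables false

universe u

namespace Groth.Agent.Helper3.GorFib

open CategoryTheory Limits TensorProduct CohIII
open Groth.Agent.Lead.KoszulFunB Groth.Agent.Lead.KoszulFunC Groth.Agent.Helper1.Koszul
open Groth.Agent.Helper3.KzRelC Groth.Agent.Helper3.KzLoc

section seq

variable (A S A' : Type u) [CommRing A] [CommRing S] [CommRing A'] [Algebra A S] [Algebra A A']
  [Module.Flat A S]

/-- a Koszul-regular sequence in a flat algebra with flat quotient stays Koszul-regular after
any base change -/
theorem kreg_tensor (l : List S) (hl : LCI.IsKoszulRegularSeq S l)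
    (hflat : Module.Flat A (S ⧸ Ideal.ofList l)) :
    LCI.IsKoszulRegularSeq (S ⊗[A] A')
      (l.map (Algebra.TensorProduct.includeLeft : S →ₐ[A] S ⊗[A] A').toRingHom) := by
  rw [isKoszulRegularSeq_iff] at hl ⊢
  intro i hi
  rcases lt_or_gt_of_ne hi with hlt | hgt
  · have z1 := isZero_koszul_tensor A S l hl hflat A' i hlt
    let φ : S →+* S ⊗[A] A' := (Algebra.TensorProduct.includeLeft : S →ₐ[A] S ⊗[A] A').toRingHom
    obtain ⟨e2⟩ := nonempty_map_koszulCx_iso _ _ (Groth.Agent.Lead.KoszulFunE.forall₂_map φ l)
      (ModuleCat.of (S ⊗[A] A') (S ⊗[A] A'))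
    let e0 : ((ModuleCat.restrictScalars φ).obj (ModuleCat.of (S ⊗[A] A') (S ⊗[A] A'))) ≃ₗ[S]
        (S ⊗[A] A') :=
      { toFun := fun x => x
        invFun := fun x => x
        left_inv := fun _ => rfl
        right_inv := fun _ => rfl
        map_add' := fun _ _ => rfl
        map_smul' := fun s x => by
          have h : ∀ y : S ⊗[A] A', φ s * y = s • y := fun y => by
            rw [Algebra.smul_def]
            rfl
          exact h x }
    let eM : (ModuleCat.restrictScalars φ).obj (ModuleCat.of (S ⊗[A] A') (S ⊗[A] A')) ≅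
        ModuleCat.of S (S ⊗[A] A') := e0.toModuleIso
    have z2 : IsZero ((koszulCx ((ModuleCat.restrictScalars φ).obj
        (ModuleCat.of (S ⊗[A] A') (S ⊗[A] A'))) l).homology i) :=
      z1.of_iso ((HomologicalComplex.homologyFunctor _ _ i).mapIso (kIso eM l))
    have z3 := z2.of_iso ((HomologicalComplex.homologyFunctor _ _ i).mapIso e2)
    exact isZero_homology_of_map (ModuleCat.restrictScalars φ) _ i z3
  · exact isZero_homology_of_isZero_X i (isZero_X_of_pos _ _ i hgt)

end seq

section ideal

variable (A P A' : Type u) [CommRing A] [CommRing P] [CommRing A'] [Algebra A P] [Algebra A A']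
  [Module.Flat A P]

/-- flatness of the localised quotient -/
theorem flat_away_quot (I : Ideal P) (hflat : Module.Flat A (P ⧸ I)) (g : P) :
    Module.Flat A (Localization.Away g ⧸ I.map (algebraMap P (Localization.Away g))) := by
  haveI : Module.Flat (P ⧸ I) (Localization.Away g ⧸ I.map (algebraMap P (Localization.Away g))) :=
    Groth.Agent.Helper3.GorFlatD.flat_quot P (Localization.Away g) I
  haveI : IsScalarTower A (P ⧸ I)
      (Localization.Away g ⧸ I.map (algebraMap P (Localization.Away g))) := by
    refine IsScalarTower.of_algebraMap_eq' ?_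
    ext a
    show _ = algebraMap (P ⧸ I)
      (Localization.Away g ⧸ I.map (algebraMap P (Localization.Away g)))
      (Ideal.Quotient.mk I (algebraMap A P a))
    rw [Ideal.Quotient.algebraMap_quotient_map_quotient,
      ← IsScalarTower.algebraMap_apply A P (Localization.Away g)]
    rfl
  exact Module.Flat.trans A (P ⧸ I) _

/-- **base change of a Koszul-regular ideal with flat quotient** -/
theorem kregIdeal_tensor (I : Ideal P) (hI : LCI.IsKoszulRegularIdeal I)
    (hflat : Module.Flat A (P ⧸ I)) :
    LCI.IsKoszulRegularIdeal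
      (I.map (Algebra.TensorProduct.includeLeft : P →ₐ[A] P ⊗[A] A').toRingHom) := by
  intro q' hJ
  let φP : P →+* P ⊗[A] A' := (Algebra.TensorProduct.includeLeft : P →ₐ[A] P ⊗[A] A').toRingHom
  have hIq : I ≤ q'.asIdeal.comap φP := Ideal.map_le_iff_le_comap.1 hJ
  obtain ⟨g, hg, l, hl, hIl⟩ := hI ⟨q'.asIdeal.comap φP, Ideal.comap_isPrime _ _⟩ hIq
  let φS : Localization.Away g →+* Localization.Away g ⊗[A] A' :=
    (Algebra.TensorProduct.includeLeft :
      Localization.Away g →ₐ[A] Localization.Away g ⊗[A] A').toRingHom
  letI : Algebra (P ⊗[A] A') (Localization.Away g ⊗[A] A') :=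
    (Algebra.TensorProduct.map (IsScalarTower.toAlgHom A P (Localization.Away g))
      (AlgHom.id A A')).toRingHom.toAlgebra
  have hcomp : (algebraMap (P ⊗[A] A') (Localization.Away g ⊗[A] A')).comp φP =
      φS.comp (algebraMap P (Localization.Away g)) := by
    ext p
    simp [RingHom.algebraMap_toAlgebra, φP, φS]
  haveI : IsScalarTower P (P ⊗[A] A') (Localization.Away g ⊗[A] A') := by
    refine IsScalarTower.of_algebraMap_eq ?_
    intro p
    have := RingHom.congr_fun hcomp p
    simpa [φP, φS, RingHom.algebraMap_toAlgebra] using this.symm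
  have hloc := IsLocalization.tensorProduct_tensorProduct A A' (Submonoid.powers g)
    (Localization.Away g) (by
      ext a
      simp [RingHom.algebraMap_toAlgebra])
  have hsub : Algebra.algebraMapSubmonoid (P ⊗[A] A') (Submonoid.powers g) =
      Submonoid.powers (φP g) := by
    show (Submonoid.powers g).map (algebraMap P (P ⊗[A] A')) = _
    rw [Submonoid.map_powers]
    rfl
  rw [hsub] at hloc
  haveI : IsLocalization.Away (φP g) (Localization.Away g ⊗[A] A') := hloc
  have hg' : φP g ∉ q'.asIdeal := hg
  -- the list
  have hflatS : Module.Flat A (Localization.Away g ⧸ Ideal.ofList l) := by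
    have h1 := flat_away_quot A P I hflat g
    have h2 : I.map (algebraMap P (Localization.Away g)) = Ideal.ofList l := hIl
    exact Module.Flat.of_linearEquiv
      ((Submodule.quotEquivOfEq _ _ h2.symm).restrictScalars A)
  have hl' := kreg_tensor A (Localization.Away g) A' l hl hflatS
  refine locKReg_of_isLocalization _ _ (φP g) hg' (Localization.Away g ⊗[A] A') (l.map φS) hl' ?_
  rw [Ideal.map_map, hcomp, ← Ideal.map_map, hIl, span_map_list]

end ideal

section main

open Groth.Agent.Helper7.SegGor

/-- **base change of a flat lci algebra to a Gorenstein ring is Gorenstein** -/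
theorem gorenstein_tensor_of_flat_isLCI (A B A' : Type u) [CommRing A] [CommRing B] [CommRing A']
    [Algebra A B] [Module.Flat A B] [Algebra A A'] [hA' : LocCoh.IsGorensteinRing A']
    (hl : LCI.IsLCI A B) : LocCoh.IsGorensteinRing (B ⊗[A] A') := by
  obtain ⟨-, n, f, hf, hK⟩ := hl
  -- the polynomial ring over `A'`
  haveI : LocCoh.IsGorensteinRing (MvPolynomial (ULift.{u} (Fin n)) A') :=
    Groth.Agent.Helper3.GorPoly.gorenstein_mvPolynomial A' (ULift.{u} (Fin n))
  haveI : LocCoh.IsGorensteinRing (MvPolynomial (Fin n) A') :=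
    gorenstein_of_ringEquiv
      (MvPolynomial.renameEquiv A' (Equiv.ulift : ULift.{u} (Fin n) ≃ Fin n)).toRingEquiv
  haveI : LocCoh.IsGorensteinRing (MvPolynomial (Fin n) A ⊗[A] A') :=
    gorenstein_of_ringEquiv
      ((Algebra.TensorProduct.comm A (MvPolynomial (Fin n) A) A').toRingEquiv.trans
        (MvPolynomial.algebraTensorAlgEquiv A A').toRingEquiv).symm
  -- flatness of the quotient
  have hflat : Module.Flat A (MvPolynomial (Fin n) A ⧸ RingHom.ker f.toRingHom) :=
    Module.Flat.of_linearEquiv (Ideal.quotientKerAlgEquivOfSurjective hf).toLinearEquiv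
  have hJ := kregIdeal_tensor A (MvPolynomial (Fin n) A) A' (RingHom.ker f.toRingHom) hK hflat
  haveI := Groth.Agent.Helper3.GorKos.gorenstein_quot_of_kregIdeal
    (MvPolynomial (Fin n) A ⊗[A] A') _ hJ
  -- the surjection
  let F : MvPolynomial (Fin n) A ⊗[A] A' →ₐ[A] B ⊗[A] A' :=
    Algebra.TensorProduct.map f (AlgHom.id A A')
  have hF : Function.Surjective F :=
    Algebra.TensorProduct.map_surjective f (AlgHom.id A A') hf Function.surjective_id
  have hker : RingHom.ker F.toRingHom =
      (RingHom.ker f.toRingHom).map
        (Algebra.TensorProduct.includeLeft :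
          MvPolynomial (Fin n) A →ₐ[A] MvPolynomial (Fin n) A ⊗[A] A').toRingHom :=
    Algebra.TensorProduct.rTensor_ker f hf
  exact gorenstein_of_ringEquiv
    (S := MvPolynomial (Fin n) A ⊗[A] A' ⧸ (RingHom.ker f.toRingHom).map
        (Algebra.TensorProduct.includeLeft :
          MvPolynomial (Fin n) A →ₐ[A] MvPolynomial (Fin n) A ⊗[A] A').toRingHom)
    ((Ideal.quotEquivOfEq hker.symm).trans
      (RingHom.quotientKerEquivOfSurjective (f := F.toRingHom) hF))

/-- a field is a Gorenstein ring -/
theorem gorenstein_of_field (K : Type u) [Field K] : LocCoh.IsGorensteinRing K :=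
  { toIsNoetherian := inferInstance
    isGorensteinLocalRing_localization := fun q _ => by
      haveI : IsRegularLocalRing (Localization.AtPrime q) := inferInstance
      exact Groth.Agent.S0342.result _ }

end main

end Groth.Agent.Helper3.GorFib
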