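import Mathlib
import Groth.Prelude.Def_CAlg
import Groth.Agent.Helper3.GorField2
import Groth.Agent.Helper3.GorFib

/-!
# Gorenstein localisations under arbitrary extensions of the base field (finite type algebras)
-/

set_option autoImplicit false
set_option linter.style.haveILetI false
set_option linter.unusedSectionVars false
set_option linter.unusedVariables false
set_option linter.style.haveILetI false
set_option linter.unusedSectionVars false
set_option linter.unusedVariables false

universe u

namespace Groth.Agent.Helper3.GorField3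

open TensorProduct IsLocalRing
open Groth.Agent.Helper7.SegGor Groth.Agent.Helper7.GorQuot Groth.Agent.Helper3.GorField

/-- if a localisation `M⁻¹R` is a Gorenstein ring then `R_Q` is Gorenstein for every prime `Q`
disjoint from `M` -/
theorem gorLocal_of_isLocalization_disjoint (R : Type u) [CommRing R] (M : Submonoid R)
    (S : Type u) [CommRing S] [Algebra R S] [IsLocalization M S] [hS : LocCoh.IsGorensteinRing S]
    (Q : Ideal R) [hQ : Q.IsPrime] (hdisj : Disjoint (M : Set R) (Q : Set R)) :
    LocCoh.IsGorensteinLocalRing (Localization.AtPrime Q) := by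
  haveI hQS : (Q.map (algebraMap R S)).IsPrime :=
    IsLocalization.isPrime_of_isPrime_disjoint M S Q hQ hdisj
  have hcomap : (Q.map (algebraMap R S)).comap (algebraMap R S) = Q :=
    IsLocalization.under_map_of_isPrime_disjoint M S hQ hdisj
  haveI : IsLocalization.AtPrime (Localization.AtPrime (Q.map (algebraMap R S))) Q := by
    convert IsLocalization.isLocalization_isLocalization_atPrime_isLocalization M
      (Localization.AtPrime (Q.map (algebraMap R S))) (Q.map (algebraMap R S))
    exact hcomap.symm
  have h := hS.isGorensteinLocalRing_localization (Q.map (algebraMap R S))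
  exact gorLocal_of_ringEquiv (IsLocalization.algEquiv Q.primeCompl
    (Localization.AtPrime (Q.map (algebraMap R S))) (Localization.AtPrime Q)).toRingEquiv h

/-- **fibre criterion**: for a flat map `C → T` of Noetherian rings and a prime `q` of `T` over `p`,
if `C_p` and the local ring of the fibre `T/pT` at `q` are Gorenstein then so is `T_q` -/
theorem gorLocal_atPrime_of_fibre (C T : Type u) [CommRing C] [CommRing T] [IsNoetherianRing C]
    [IsNoetherianRing T] [Algebra C T] [Module.Flat C T] (q : Ideal T) [hq : q.IsPrime]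
    (hC : LocCoh.IsGorensteinLocalRing (Localization.AtPrime (q.comap (algebraMap C T))))
    (hF : ∀ (Qb : Ideal (T ⧸ (q.comap (algebraMap C T)).map (algebraMap C T))) [Qb.IsPrime],
      Qb.comap (Ideal.Quotient.mk _) = q →
      LocCoh.IsGorensteinLocalRing (Localization.AtPrime Qb)) :
    LocCoh.IsGorensteinLocalRing (Localization.AtPrime q) := by
  set p := q.comap (algebraMap C T) with hp
  haveI : IsNoetherianRing (Localization.AtPrime p) :=
    IsLocalization.isNoetherianRing p.primeCompl _ inferInstance
  haveI : IsNoetherianRing (Localization.AtPrime q) :=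
    IsLocalization.isNoetherianRing q.primeCompl _ inferInstance
  letI : Algebra (Localization.AtPrime p) (Localization.AtPrime q) :=
    (Localization.localRingHom p q (algebraMap C T) rfl).toAlgebra
  haveI : Module.Flat (Localization.AtPrime p) (Localization.AtPrime q) :=
    RingHom.Flat.localRingHom ((RingHom.flat_algebraMap_iff).mpr inferInstance) q p rfl
  haveI : IsLocalHom (algebraMap (Localization.AtPrime p) (Localization.AtPrime q)) :=
    Localization.isLocalHom_localRingHom p q (algebraMap C T) rfl
  rw [Groth.Agent.Helper3.GorFlatD.main (Localization.AtPrime p) (Localization.AtPrime q) hC]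
  set I : Ideal T := p.map (algebraMap C T) with hI
  have hIq : I ≤ q := Ideal.map_le_iff_le_comap.2 le_rfl
  have hmap : (maximalIdeal (Localization.AtPrime p)).map
      (algebraMap (Localization.AtPrime p) (Localization.AtPrime q)) =
      I.map (algebraMap T (Localization.AtPrime q)) := by
    rw [← IsLocalization.AtPrime.map_eq_maximalIdeal p (Localization.AtPrime p), hI, Ideal.map_map, Ideal.map_map]
    congr 1
    ext x
    exact Localization.localRingHom_to_map p q (algebraMap C T) rfl x
  have hker : RingHom.ker (Ideal.Quotient.mk I) ≤ q := by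
    rw [Ideal.mk_ker]; exact hIq
  set Qb : Ideal (T ⧸ I) := q.map (Ideal.Quotient.mk I) with hQdef
  haveI hQp : Qb.IsPrime := Ideal.map_isPrime_of_surjective Ideal.Quotient.mk_surjective hker
  have hcomap : Qb.comap (Ideal.Quotient.mk I) = q := by
    rw [hQdef, Ideal.comap_map_of_surjective _ Ideal.Quotient.mk_surjective,
      ← RingHom.ker_eq_comap_bot]
    exact sup_eq_left.2 hker
  obtain ⟨e⟩ := nonempty_locQuot_equiv I q Qb hcomap
  exact gorLocal_of_ringEquiv ((Ideal.quotEquivOfEq hmap).trans e).symm (hF Qb hcomap)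

/-- descent of the Gorenstein property from `T_q` to `C_p` along a flat map -/
theorem gorLocal_descend_atPrime (C T : Type u) [CommRing C] [CommRing T] [IsNoetherianRing C]
    [IsNoetherianRing T] [Algebra C T] [Module.Flat C T] (q : Ideal T) [hq : q.IsPrime]
    (h : LocCoh.IsGorensteinLocalRing (Localization.AtPrime q)) :
    LocCoh.IsGorensteinLocalRing (Localization.AtPrime (q.comap (algebraMap C T))) := by
  set p := q.comap (algebraMap C T) with hp
  haveI : IsNoetherianRing (Localization.AtPrime p) :=
    IsLocalization.isNoetherianRing p.primeCompl _ inferInstance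
  haveI : IsNoetherianRing (Localization.AtPrime q) :=
    IsLocalization.isNoetherianRing q.primeCompl _ inferInstance
  letI : Algebra (Localization.AtPrime p) (Localization.AtPrime q) :=
    (Localization.localRingHom p q (algebraMap C T) rfl).toAlgebra
  haveI : Module.Flat (Localization.AtPrime p) (Localization.AtPrime q) :=
    RingHom.Flat.localRingHom ((RingHom.flat_algebraMap_iff).mpr inferInstance) q p rfl
  haveI : IsLocalHom (algebraMap (Localization.AtPrime p) (Localization.AtPrime q)) :=
    Localization.isLocalHom_localRingHom p q (algebraMap C T) rfl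
  exact Groth.Agent.Helper3.GorFlatE.gorLocal_descend (Localization.AtPrime p)
    (Localization.AtPrime q) h

section s1803

variable (k k' : Type u) [Field k] [Field k'] [Algebra k k'] (C : Type u) [CommRing C]
  [Algebra k C] [Algebra.FiniteType k C]

theorem isNoetherianRing_tensor : IsNoetherianRing (C ⊗[k] k') := by
  haveI : IsNoetherianRing (k' ⊗[k] C) := Algebra.FiniteType.isNoetherianRing k' (k' ⊗[k] C)
  exact isNoetherianRing_of_ringEquiv (k' ⊗[k] C) (Algebra.TensorProduct.comm k k' C).toRingEquiv

/-- the fibre rings of `C → C ⊗ k'` have Gorenstein localisations -/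
theorem gorLocal_fibre (p : Ideal C) [hp : p.IsPrime]
    (Q' : Ideal ((C ⧸ p) ⊗[k] k')) [hQ' : Q'.IsPrime]
    (hQ'0 : ∀ d : C ⧸ p, d ⊗ₜ[k] (1 : k') ∈ Q' → d = 0) :
    LocCoh.IsGorensteinLocalRing (Localization.AtPrime Q') := by
  haveI : IsDomain (C ⧸ p) := Ideal.Quotient.isDomain p
  haveI : Algebra.EssFiniteType (C ⧸ p) (FractionRing (C ⧸ p)) :=
    .of_isLocalization _ (nonZeroDivisors _)
  haveI : Algebra.EssFiniteType k (FractionRing (C ⧸ p)) := .comp _ (C ⧸ p) _
  have hfg : ∃ s : Finset (FractionRing (C ⧸ p)),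
      IntermediateField.adjoin k (s : Set (FractionRing (C ⧸ p))) = ⊤ :=
    IntermediateField.fg_top_iff.2 inferInstance
  haveI := Groth.Agent.Helper3.GorFib.gorenstein_of_field k'
  haveI hS : LocCoh.IsGorensteinRing (FractionRing (C ⧸ p) ⊗[k] k') :=
    pg_of_fg k (FractionRing (C ⧸ p)) hfg k'
  letI : Algebra ((C ⧸ p) ⊗[k] k') (FractionRing (C ⧸ p) ⊗[k] k') :=
    (Algebra.TensorProduct.map (IsScalarTower.toAlgHom k (C ⧸ p) (FractionRing (C ⧸ p)))
      (AlgHom.id k k')).toRingHom.toAlgebra
  haveI : IsScalarTower (C ⧸ p) ((C ⧸ p) ⊗[k] k') (FractionRing (C ⧸ p) ⊗[k] k') := by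
    refine IsScalarTower.of_algebraMap_eq (R := C ⧸ p) (S := (C ⧸ p) ⊗[k] k')
      (A := FractionRing (C ⧸ p) ⊗[k] k') ?_
    intro d
    simp [RingHom.algebraMap_toAlgebra]
  haveI hloc := IsLocalization.tensorProduct_tensorProduct k k' (nonZeroDivisors (C ⧸ p))
    (FractionRing (C ⧸ p)) (by
      ext a
      simp [RingHom.algebraMap_toAlgebra])
  refine gorLocal_of_isLocalization_disjoint ((C ⧸ p) ⊗[k] k')
    (Algebra.algebraMapSubmonoid ((C ⧸ p) ⊗[k] k') (nonZeroDivisors (C ⧸ p)))
    (FractionRing (C ⧸ p) ⊗[k] k') Q' ?_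
  rw [Set.disjoint_left]
  rintro _ ⟨d, hd, rfl⟩ hmem
  have h0 : d = 0 := hQ'0 d hmem
  rw [h0] at hd
  exact zero_notMem_nonZeroDivisors hd

theorem s1803 (q : PrimeSpectrum (C ⊗[k] k')) :
    LocCoh.IsGorensteinLocalRing
      (Localization.AtPrime (q.asIdeal.comap (algebraMap C (C ⊗[k] k')))) ↔
      LocCoh.IsGorensteinLocalRing (Localization.AtPrime q.asIdeal) := by
  haveI : IsNoetherianRing C := Algebra.FiniteType.isNoetherianRing k C
  haveI := isNoetherianRing_tensor k k' C
  constructor
  · intro hC
    refine gorLocal_atPrime_of_fibre C (C ⊗[k] k') q.asIdeal hC ?_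
    generalize hp : q.asIdeal.comap (algebraMap C (C ⊗[k] k')) = p
    haveI hpp : p.IsPrime := hp ▸ Ideal.comap_isPrime _ _
    intro Qb hQb hcomap
    haveI := hQb
    -- the fibre ring
    let F₀ : C ⊗[k] k' →ₐ[k] (C ⧸ p) ⊗[k] k' :=
      Algebra.TensorProduct.map (Ideal.Quotient.mkₐ k p) (AlgHom.id k k')
    have hF₀ : Function.Surjective F₀ :=
      Algebra.TensorProduct.map_surjective _ _ (Ideal.Quotient.mkₐ_surjective k p)
        Function.surjective_id
    have hker : RingHom.ker F₀.toRingHom = p.map (algebraMap C (C ⊗[k] k')) := by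
      have h1 := Algebra.TensorProduct.rTensor_ker (R := k) (S := k) (C := k') (Ideal.Quotient.mkₐ k p)
        (Ideal.Quotient.mkₐ_surjective k p)
      have h2 : RingHom.ker (Ideal.Quotient.mkₐ k p) = p := Ideal.Quotient.mkₐ_ker k p
      rw [h2] at h1
      exact h1
    let e : ((C ⊗[k] k') ⧸ p.map (algebraMap C (C ⊗[k] k'))) ≃+* (C ⧸ p) ⊗[k] k' :=
      (Ideal.quotEquivOfEq hker.symm).trans
        (RingHom.quotientKerEquivOfSurjective (f := F₀.toRingHom) hF₀)
    have he : ∀ t : C ⊗[k] k', e (Ideal.Quotient.mk _ t) = F₀ t := fun t => rfl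
    refine gorLocal_comap e.symm Qb ?_
    haveI : (Qb.comap (e.symm : (C ⧸ p) ⊗[k] k' →+*
      ((C ⊗[k] k') ⧸ p.map (algebraMap C (C ⊗[k] k'))))).IsPrime := Ideal.comap_isPrime _ _
    refine gorLocal_fibre k k' C p _ ?_
    intro d hd
    obtain ⟨c, rfl⟩ := Ideal.Quotient.mk_surjective d
    rw [Ideal.mem_comap] at hd
    have h1 : (e.symm : (C ⧸ p) ⊗[k] k' →+*
        ((C ⊗[k] k') ⧸ p.map (algebraMap C (C ⊗[k] k'))))
        ((Ideal.Quotient.mk p c) ⊗ₜ[k] (1 : k')) =
        Ideal.Quotient.mk _ (c ⊗ₜ[k] (1 : k')) := by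
      show e.symm _ = _
      rw [RingEquiv.symm_apply_eq, he]
      simp [F₀]
    rw [h1] at hd
    have h2 : c ⊗ₜ[k] (1 : k') ∈ Qb.comap (Ideal.Quotient.mk _) := hd
    rw [hcomap] at h2
    have h3 : c ∈ p := by rw [← hp]; exact h2
    exact Ideal.Quotient.eq_zero_iff_mem.2 h3
  · intro h
    exact gorLocal_descend_atPrime C (C ⊗[k] k') q.asIdeal h

end s1803

end Groth.Agent.Helper3.GorField3
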