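import Mathlib
import Groth.Prelude.Def_CAlg
import Groth.Prelude.Def_Dual3
import Groth.Agent.Helper5.CMBC5
import Groth.Agent.Helper5.CMBC7
import Groth.Agent.Helper7.SegGorD
import Groth.Agent.S1760
import Groth.Agent.S1803

/-!
# Gorenstein local rings of fibres under base change (scheme level)
-/

set_option autoImplicit false
set_option linter.style.haveILetI false
set_option linter.unusedSectionVars false
set_option linter.unusedVariables false
set_option linter.deprecated false
set_option linter.style.haveILetI false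
set_option linter.unusedSectionVars false
set_option linter.unusedVariables false

universe u

namespace Groth.Agent.Helper3.GorBC1

open CategoryTheory CategoryTheory.Limits AlgebraicGeometry TopologicalSpace Topology TensorProduct
open IsLocalRing
open Groth.Agent.Helper7.SegGor
open Groth.Agent.Helper5.CMFib Groth.Agent.Helper5.CMAff Groth.Agent.Helper5.CMSrc
open Groth.Agent.Helper5.CMBC Groth.Agent.Helper2.StalkDict

attribute [local instance] Curv2.stalkAlgebra

/-- the Gorenstein property of the local ring of a fibre at a point, in the two descriptions -/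
theorem gor_fibre_stalk_iff {X S : Scheme.{u}} (f : X ⟶ S) (s : S) (z : ↥(f.fiber s)) (x : X)
    (hx : f.fiberι s z = x) :
    LocCoh.IsGorensteinLocalRing ((f.fiber s).presheaf.stalk z) ↔
      LocCoh.IsGorensteinLocalRing ((f.fiber (f x)).presheaf.stalk (f.asFiber x)) := by
  subst hx
  obtain ⟨e⟩ := fibre_stalk_equiv_asFiber f s z
  exact ⟨fun h => gorLocal_of_ringEquiv e h, fun h => gorLocal_of_ringEquiv e.symm h⟩

/-- Gorenstein local rings under a finitely generated extension of the base field -/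
theorem gor_bc_iff (k : Type u) [Field k] (F : Scheme.{u}) [F.Over (Spec (CommRingCat.of k))]
    [IsLocallyNoetherian F] (K : Type u) [Field K] [Algebra k K] [Algebra.EssFiniteType k K]
    (x' : ↥(Curv2.bc k F K)) :
    LocCoh.IsGorensteinLocalRing ((Curv2.bc k F K).presheaf.stalk x') ↔
      LocCoh.IsGorensteinLocalRing (F.presheaf.stalk (Curv2.bcFst k F K x')) := by
  obtain ⟨q, hq, hcomap, ⟨e⟩⟩ := Groth.Agent.Helper2.StalkDict2.exists_prime_of_point k F
    (Curv2.bcFst k F K x') K x' rfl
  haveI := hq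
  have hfg : ∃ s : Finset K, IntermediateField.adjoin k (s : Set K) = ⊤ :=
    IntermediateField.fg_top_iff.2 inferInstance
  rw [Groth.Agent.S1760.result k K hfg (F.presheaf.stalk (Curv2.bcFst k F K x')) ⟨q, hq⟩ hcomap]
  exact ⟨fun h => gorLocal_of_ringEquiv e h, fun h => gorLocal_of_ringEquiv e.symm h⟩

/-- Gorenstein local rings along a base change of fields, finitely generated -/
theorem gor_of_isPullback_fields (k K : Type u) [Field k] [Field K] [Algebra k K]
    [Algebra.EssFiniteType k K] {F F' : Scheme.{u}} (φ : F ⟶ Spec (CommRingCat.of k))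
    (φ' : F' ⟶ Spec (CommRingCat.of K)) (ψ : F' ⟶ F)
    (H : IsPullback ψ φ' φ (Spec.map (CommRingCat.ofHom (algebraMap k K))))
    [IsLocallyNoetherian F] (z' : F') :
    LocCoh.IsGorensteinLocalRing (F'.presheaf.stalk z') ↔
      LocCoh.IsGorensteinLocalRing (F.presheaf.stalk (ψ z')) := by
  letI : F.Over (Spec (CommRingCat.of k)) := ⟨φ⟩
  have H'' : IsPullback ψ φ' (F ↘ Spec (CommRingCat.of k))
      (Spec.map (CommRingCat.ofHom (algebraMap k K))) := H
  let w : ↥(Curv2.bc k F K) := H''.isoPullback.hom z'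
  have hw : Curv2.bcFst k F K w = ψ z' := by
    show (Curv2.bcFst k F K) (H''.isoPullback.hom z') = ψ z'
    rw [← Scheme.Hom.comp_apply]
    show (H''.isoPullback.hom ≫ pullback.fst _ _) z' = ψ z'
    rw [H''.isoPullback_hom_fst]
  have h1 := gor_bc_iff k F K w
  rw [hw] at h1
  rw [← h1]
  obtain ⟨e⟩ := Groth.Agent.Helper2.StalkDict.nonempty_stalkEquiv H''.isoPullback.hom z'
  exact ⟨fun h => gorLocal_of_ringEquiv e.symm h, fun h => gorLocal_of_ringEquiv e h⟩

/-- the Gorenstein property of the local ring of the fibre is invariant under base change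
locally of finite type, for locally Noetherian fibres -/
theorem gor_fibre_baseChange_iff' {X S X' S' : Scheme.{u}} (f : X ⟶ S)
    (f' : X' ⟶ S') (g' : X' ⟶ X) (g : S' ⟶ S) [LocallyOfFiniteType g]
    (hc : IsPullback g' f' f g) (x' : X')
    (hN : IsLocallyNoetherian (f.fiber (g (f' x')))) :
    LocCoh.IsGorensteinLocalRing ((f'.fiber (f' x')).presheaf.stalk (f'.asFiber x')) ↔
      LocCoh.IsGorensteinLocalRing
        ((f.fiber (f (g' x'))).presheaf.stalk (f.asFiber (g' x'))) := by
  let s' : S' := f' x'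
  let s : S := g s'
  let ρ := g.residueFieldMap s'
  have H := isPullback_fiberToSpecResidueField_of_isPullback hc s'
  obtain ⟨ψ, hψfst, H'⟩ : ∃ ψ : f'.fiber s' ⟶ f.fiber s,
      ψ ≫ f.fiberι s = f'.fiberι s' ≫ g' ∧
      IsPullback ψ (f'.fiberToSpecResidueField s') (f.fiberToSpecResidueField s) (Spec.map ρ) :=
    ⟨_, pullback.lift_fst _ _ _, H⟩
  let z' : ↥(f'.fiber s') := f'.asFiber x'
  let z : ↥(f.fiber s) := ψ z'
  have hz : f.fiberι s z = g' x' := by
    have h1 : ψ ≫ f.fiberι s = f'.fiberι s' ≫ g' := hψfst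
    have h2 := congrArg (fun φ : f'.fiber s' ⟶ X => φ z') h1
    simp only [Scheme.Hom.comp_apply] at h2
    rw [f'.fiberι_asFiber] at h2
    exact h2
  rw [← gor_fibre_stalk_iff f s z (g' x') hz]
  letI alg : Algebra (S.residueField s) (S'.residueField s') := ρ.hom.toAlgebra
  haveI : Algebra.EssFiniteType (S.residueField s) (S'.residueField s') :=
    RingHom.EssFiniteType.residueFieldMap (LocallyOfFiniteType.stalkMap g s')
  haveI : IsLocallyNoetherian (f.fiber s) := hN
  exact gor_of_isPullback_fields (S.residueField s) (S'.residueField s')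
    (f.fiberToSpecResidueField s) (f'.fiberToSpecResidueField s') ψ H' z'

theorem s3625 (X Y X' Y' : Scheme.{u}) (f : X ⟶ Y) (g : Y' ⟶ Y) (f' : X' ⟶ Y') (g' : X' ⟶ X)
    (hsq : IsPullback g' f' f g) (hfibf : ∀ y, IsLocallyNoetherian (f.fiber y))
    [LocallyOfFiniteType g] (x' : X') :
    (Dual3.IsGorensteinAt f (g' x') → Dual3.IsGorensteinAt f' x') ∧
    ((f.stalkMap (g' x')).hom.Flat → Dual3.IsGorensteinAt f' x' →
      Dual3.IsGorensteinAt f (g' x')) ∧
    ((g.stalkMap (f' x')).hom.Flat → Dual3.IsGorensteinAt f' x' →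
      Dual3.IsGorensteinAt f (g' x')) := by
  have hiff := gor_fibre_baseChange_iff' f f' g' g hsq x' (hfibf _)
  refine ⟨?_, ?_, ?_⟩
  · rintro ⟨h1, h2⟩
    exact ⟨flat_stalkMap_baseChange f f' g' g hsq x' h1, hiff.2 h2⟩
  · rintro hflat ⟨h1, h2⟩
    exact ⟨hflat, hiff.1 h2⟩
  · rintro hg ⟨h1, h2⟩
    exact ⟨flat_stalkMap_of_baseChange f f' g' g hsq x' hg h1, hiff.1 h2⟩

end Groth.Agent.Helper3.GorBC1
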