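import Mathlib
import Groth.Prelude
import Groth.Agent.Helper5.SecNbL
import Groth.Agent.Helper5.SecNbG
import Groth.Agent.Helper5.SecNbK
import Groth.Agent.Helper5.GeomRed

set_option autoImplicit false
set_option linter.style.haveILetI false
set_option linter.unusedSectionVars false
set_option linter.unusedVariables false
set_option linter.deprecated false
set_option linter.style.haveILetI false
set_option linter.unusedSectionVars false
set_option linter.unusedVariables false

universe u

namespace Groth.Agent.Helper3.GRO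

open AlgebraicGeometry CategoryTheory CategoryTheory.Limits TopologicalSpace Topology
open Groth.Agent.Helper5.SecNb

/-- the locus of points at which the fibre is geometrically reduced -/
abbrev E {X Y : Scheme.{u}} (f : X ⟶ Y) : Set X :=
  {x | FBase.IsGeomReducedAt (f.fiberToSpecResidueField (f.base x)) (f.asFiber x)}


/-- `URed` implies geometric reducedness of the fibre at the point -/
theorem mem_E_of_uRed {X Y : Scheme.{u}} (f : X ⟶ Y) (x : X) (h : URed f x) : x ∈ E f := by
  intro K _ _ x₁ hx₁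
  let c : Spec (CommRingCat.of K) ⟶ Spec (Y.residueField (f.base x)) :=
    Spec.map (CommRingCat.ofHom (algebraMap (IsLocalRing.ResidueField (Y.presheaf.stalk (f.base x))) K))
  let t : Spec (CommRingCat.of K) ⟶ Y := c ≫ Y.fromSpecResidueField (f.base x)
  let e : pullback (pullback.snd f (Y.fromSpecResidueField (f.base x))) c ≅ pullback f t :=
    pullbackLeftPullbackSndIso f (Y.fromSpecResidueField (f.base x)) c
  change ↥(pullback (pullback.snd f (Y.fromSpecResidueField (f.base x))) c) at x₁
  change (pullback.fst (pullback.snd f (Y.fromSpecResidueField (f.base x))) c) x₁ = f.asFiber x at hx₁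
  show _root_.IsReduced ((pullback (pullback.snd f (Y.fromSpecResidueField (f.base x))) c).presheaf.stalk x₁)
  let z : ↥(pullback f t) := e.hom x₁
  have hz : pullback.fst f t z = x := by
    show (e.hom ≫ pullback.fst f t) x₁ = x
    rw [pullbackLeftPullbackSndIso_hom_fst, Scheme.Hom.comp_apply, hx₁]
    exact f.fiberι_asFiber x
  have h1 := h _ t z hz
  let p := pullback.snd f t
  haveI : Flat ((Spec (CommRingCat.of K)).fromSpecResidueField (p z)) := inferInstance
  haveI : Flat (p.fiberι (p z)) := MorphismProperty.pullback_fst _ _ inferInstance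
  have h2 : _root_.IsReduced ((pullback f t).presheaf.stalk ((p.fiberι (p z)) (p.asFiber z))) :=
    (Groth.Agent.Helper4.GeomRedPt.isReduced_stalk_iff (p.fiberι (p z)) (p.asFiber z)).1 h1
  rw [Scheme.Hom.fiberι_asFiber] at h2
  exact (Groth.Agent.Helper4.GeomRedPt.isReduced_stalk_iff e.hom x₁).2 h2

theorem uRed_iff {X Y : Scheme.{u}} (f : X ⟶ Y) (x : X) : URed f x ↔ x ∈ E f :=
  ⟨mem_E_of_uRed f x, URed.of_geomReducedAt f x⟩


/-- ascent of `URed` along an arbitrary base change -/
theorem uRed_of_isPullback {X Y X' Y' : Scheme.{u}} {f : X ⟶ Y} {g : Y' ⟶ Y} {f' : X' ⟶ Y'}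
    {g' : X' ⟶ X} (hc : IsPullback g' f' f g) (x' : X') (h : URed f (g' x')) : URed f' x' := by
  intro T t z' hz'
  have hpaste : IsPullback (pullback.fst f' t ≫ g') (pullback.snd f' t) f (t ≫ g) :=
    (IsPullback.of_hasPullback f' t).paste_horiz hc
  let μ : pullback f' t ⟶ pullback f (t ≫ g) := hpaste.isoPullback.hom
  have hμ1 : μ ≫ pullback.fst f (t ≫ g) = pullback.fst f' t ≫ g' := hpaste.isoPullback_hom_fst
  have hμ2 : μ ≫ pullback.snd f (t ≫ g) = pullback.snd f' t := hpaste.isoPullback_hom_snd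
  have h1 : (pullback.fst f (t ≫ g)) (μ z') = g' x' := by
    rw [← Scheme.Hom.comp_apply, hμ1, Scheme.Hom.comp_apply, hz']
  have hred := h T (t ≫ g) (μ z') h1
  have key := isReduced_fiber_stalk_of_isOpenImmersion μ (pullback.snd f (t ≫ g)) z' hred
  let P : (pullback f' t ⟶ T) → Prop := fun q =>
    _root_.IsReduced ((q.fiber (q z')).presheaf.stalk (q.asFiber z'))
  have h2 : P (μ ≫ pullback.snd f (t ≫ g)) := key
  have h3 : P (pullback.snd f' t) := hμ2 ▸ h2
  exact h3

/-- base change invariance of the locus -/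
theorem mem_E_iff_of_isPullback {X Y X' Y' : Scheme.{u}} {f : X ⟶ Y} {g : Y' ⟶ Y} {f' : X' ⟶ Y'}
    {g' : X' ⟶ X} (hc : IsPullback g' f' f g) (x' : X') : x' ∈ E f' ↔ g' x' ∈ E f := by
  rw [← uRed_iff, ← uRed_iff]
  exact ⟨fun h => URed.of_isPullback hc x' h, fun h => uRed_of_isPullback hc x' h⟩

/-- invariance of the locus under restriction of the source to an open subscheme -/
theorem mem_E_comp_iff {U X Y : Scheme.{u}} (μ : U ⟶ X) [IsOpenImmersion μ] (f : X ⟶ Y) (x' : U) :
    x' ∈ E (μ ≫ f) ↔ μ x' ∈ E f := by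
  let s : Y := (μ ≫ f) x'
  let ν : (μ ≫ f).fiber s ⟶ f.fiber s :=
    pullback.map (μ ≫ f) (Y.fromSpecResidueField s) f (Y.fromSpecResidueField s) μ (𝟙 _) (𝟙 Y)
      (by simp) (by simp)
  have hν : ν ≫ f.fiberι s = (μ ≫ f).fiberι s ≫ μ := pullback.lift_fst _ _ _
  have hν2 : ν ≫ f.fiberToSpecResidueField s = (μ ≫ f).fiberToSpecResidueField s :=
    (pullback.lift_snd _ _ _).trans (Category.comp_id _)
  have hpt : ν ((μ ≫ f).asFiber x') = f.asFiber (μ x') := by
    apply (f.fiberι s).isEmbedding.injective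
    show (ν ≫ f.fiberι s) ((μ ≫ f).asFiber x') = (f.fiberι (f (μ x'))) (f.asFiber (μ x'))
    rw [hν, Scheme.Hom.comp_apply, Scheme.Hom.fiberι_asFiber, Scheme.Hom.fiberι_asFiber]
  haveI : IsOpenImmersion ν :=
    Scheme.pullback_map_isOpenImmersion (μ ≫ f) (Y.fromSpecResidueField s) f
      (Y.fromSpecResidueField s) μ (𝟙 _) (𝟙 Y) (by simp) (by simp)
  show FBase.IsGeomReducedAt ((μ ≫ f).fiberToSpecResidueField s) ((μ ≫ f).asFiber x') ↔
    FBase.IsGeomReducedAt (f.fiberToSpecResidueField s) (f.asFiber (μ x'))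
  rw [← hpt, ← hν2]
  exact ⟨fun h => Groth.Agent.Helper5.GeomRed.geomReducedAt_of_comp_etale
      (f.fiberToSpecResidueField s) ν _ h,
    fun h => Groth.Agent.Helper5.GeomRed.geomReducedAt_comp_of_etale
      (f.fiberToSpecResidueField s) ν _ h⟩


/-- pointwise geometric reducedness everywhere gives geometric reducedness -/
theorem geometricallyReduced_of_forall {k : Type u} [Field k] {Z : Scheme.{u}}
    (g : Z ⟶ Spec (CommRingCat.of k)) (h : ∀ z, FBase.IsGeomReducedAt g z) :
    GeometricallyReduced g := by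
  rw [geometricallyReduced_iff, geometrically_iff_of_commRing_of_isClosedUnderIsomorphisms]
  intro K _ _
  haveI : ∀ x', _root_.IsReduced
      ((pullback g (Spec.map (CommRingCat.ofHom (algebraMap k K)))).presheaf.stalk x') :=
    fun x' => h _ K x' rfl
  exact isReduced_of_isReduced_stalk _

/-- membership in the locus in terms of a point of a fibre -/
theorem mem_E_iff_fiber {X Y : Scheme.{u}} (f : X ⟶ Y) (y : Y) (x₀ : ↥(f.fiber y)) :
    (f.fiberι y) x₀ ∈ E f ↔ FBase.IsGeomReducedAt (f.fiberToSpecResidueField y) x₀ := by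
  refine ⟨geomReducedAt_transport f y x₀, ?_⟩
  have key : ∀ (y' : Y) (hy : y' = y) (x₁ : ↥(f.fiber y')),
      (f.fiberι y') x₁ = (f.fiberι y) x₀ →
      FBase.IsGeomReducedAt (f.fiberToSpecResidueField y) x₀ →
      FBase.IsGeomReducedAt (f.fiberToSpecResidueField y') x₁ := by
    intro y' hy
    subst hy
    intro x₁ h1 h2
    have : x₁ = x₀ := (f.fiberι y').isEmbedding.injective h1
    rwa [this]
  intro h
  exact key _ (Groth.Agent.Helper5.FibStalk.fiberι_apply f y x₀) _ (f.fiberι_asFiber _) h

end Groth.Agent.Helper3.GRO
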