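import Mathlib
import Groth.Prelude

set_option autoImplicit false
set_option linter.style.haveILetI false
set_option linter.unusedSectionVars false
set_option linter.unusedVariables false
set_option linter.deprecated false
set_option linter.style.haveILetI false
set_option linter.unusedSectionVars false
set_option linter.unusedVariables false

open CategoryTheory CategoryTheory.Limits AlgebraicGeometry Opposite

universe u

namespace Groth.Agent.Helper3.Lsc

open EGA43

/-- `g : Z ⟶ Y` has `m` pairwise distinct field-valued points over one field-valued point of `Y`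
lying over `y`. -/
def HasDistinctLifts {Z Y : Scheme.{u}} (g : Z ⟶ Y) (m : ℕ) (y : Y) : Prop :=
  ∃ (K : Type u) (_ : Field K) (ζ : Spec (CommRingCat.of K) ⟶ Y)
    (w : Fin m → (Spec (CommRingCat.of K) ⟶ Z)),
    (∀ i, w i ≫ g = ζ) ∧ Function.Injective w ∧ ζ (IsLocalRing.closedPoint K) = y

section UnivOpen

variable {Z Y : Scheme.{u}} (g : Z ⟶ Y)

/-- openness at a point along any pullback square -/
theorem isOpenAt_of_isPullback {x : Z} (hx : IsUnivOpenAt g x) {P Y' : Scheme.{u}}
    {a : P ⟶ Z} {b : P ⟶ Y'} {h : Y' ⟶ Y} (sq : IsPullback a b g h) (p : P) (hp : a p = x) :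
    IsOpenAt b.base p := by
  let e : P ≅ pullback g h := sq.isoPullback
  have ha : e.hom ≫ pullback.fst g h = a := sq.isoPullback_hom_fst
  have hb : e.hom ≫ pullback.snd g h = b := sq.isoPullback_hom_snd
  have h1 : IsOpenAt (pullback.snd g h).base (e.hom p) := by
    apply hx Y' h (e.hom p)
    rw [← Scheme.Hom.comp_apply, ha, hp]
  intro U hU
  have hU' : e.hom.base '' U ∈ nhds (e.hom p) :=
    (e.hom.homeomorph.isOpenMap.image_mem_nhds hU)
  have h2 := h1 _ hU'
  have h3 : (pullback.snd g h).base '' (e.hom.base '' U) = b.base '' U := by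
    rw [← Set.image_comp]
    congr 1
    ext q
    show (e.hom ≫ pullback.snd g h) q = b q
    rw [hb]
  have h4 : (pullback.snd g h) (e.hom p) = b p := by
    rw [← Scheme.Hom.comp_apply, hb]
  rw [h3] at h2
  rw [← h4]
  exact h2

theorem isOpenAt_of_isUnivOpenAt {x : Z} (hx : IsUnivOpenAt g x) : IsOpenAt g.base x :=
  isOpenAt_of_isPullback g hx (IsPullback.of_id_fst (f := g)) x rfl

/-- universal openness at a point is stable under base change -/
theorem isUnivOpenAt_of_isPullback {x : Z} (hx : IsUnivOpenAt g x) {P Y' : Scheme.{u}}
    {a : P ⟶ Z} {b : P ⟶ Y'} {h : Y' ⟶ Y} (sq : IsPullback a b g h) (p : P) (hp : a p = x) :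
    IsUnivOpenAt b p := by
  intro Y'' k p' hp'
  have sq' : IsPullback (pullback.fst b k ≫ a) (pullback.snd b k) g (k ≫ h) :=
    (IsPullback.of_hasPullback b k).paste_horiz sq
  apply isOpenAt_of_isPullback g hx sq' p'
  rw [Scheme.Hom.comp_apply, hp', hp]

/-- universal openness at a point is inherited by open subschemes of the source -/
theorem isUnivOpenAt_comp_of_isOpenImmersion {U : Scheme.{u}} (j : U ⟶ Z) [IsOpenImmersion j]
    (u : U) (hx : IsUnivOpenAt g (j u)) : IsUnivOpenAt (j ≫ g) u := by
  intro Y' h p' hp'
  -- the comparison open immersion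
  let o : pullback (j ≫ g) h ⟶ pullback g h :=
    pullback.lift (pullback.fst (j ≫ g) h ≫ j) (pullback.snd (j ≫ g) h)
      (by rw [Category.assoc, pullback.condition])
  have ho1 : o ≫ pullback.fst g h = pullback.fst (j ≫ g) h ≫ j := pullback.lift_fst _ _ _
  have ho2 : o ≫ pullback.snd g h = pullback.snd (j ≫ g) h := pullback.lift_snd _ _ _
  have hsq : IsPullback o (pullback.fst (j ≫ g) h) (pullback.fst g h) j := by
    have outer : IsPullback (o ≫ pullback.snd g h) (pullback.fst (j ≫ g) h) h (j ≫ g) := by
      rw [ho2]; exact (IsPullback.of_hasPullback (j ≫ g) h).flip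
    exact IsPullback.of_right outer ho1 (IsPullback.of_hasPullback g h).flip
  haveI : IsOpenImmersion o := MorphismProperty.of_isPullback (P := @IsOpenImmersion) hsq.flip
    inferInstance
  have h1 : IsOpenAt (pullback.snd g h).base (o p') := by
    apply hx Y' h (o p')
    rw [← Scheme.Hom.comp_apply, ho1, Scheme.Hom.comp_apply, hp']
  intro V hV
  have hV' : o.base '' V ∈ nhds (o p') := o.isOpenEmbedding.isOpenMap.image_mem_nhds hV
  have h2 := h1 _ hV'
  have h3 : (pullback.snd g h).base '' (o.base '' V) = (pullback.snd (j ≫ g) h).base '' V := by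
    rw [← Set.image_comp]
    congr 1
    ext q
    show (o ≫ pullback.snd g h) q = _
    rw [ho2]
  have h4 : (pullback.snd g h) (o p') = (pullback.snd (j ≫ g) h) p' := by
    rw [← Scheme.Hom.comp_apply, ho2]
  rw [h3] at h2
  rw [← h4]
  exact h2

end UnivOpen

section Diagonal

variable {Z Y : Scheme.{u}} (g : Z ⟶ Y)

/-- A field-valued point of `Z ×_Y Z` whose image lies on the diagonal has equal components. -/
theorem fst_eq_snd_of_mem_range_diagonal [IsSeparated g] {K : Type u} [Field K]
    (t : Spec (CommRingCat.of K) ⟶ pullback g g)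
    (ht : t (IsLocalRing.closedPoint K) ∈ Set.range (pullback.diagonal g)) :
    t ≫ pullback.fst g g = t ≫ pullback.snd g g := by
  haveI : Surjective (pullback.snd (pullback.diagonal g) t) := by
    constructor
    intro x
    have hx : x = IsLocalRing.closedPoint K := Subsingleton.elim _ _
    have : x ∈ Set.range (pullback.snd (pullback.diagonal g) t) := by
      rw [Scheme.Pullback.range_snd, hx]
      exact ht
    exact this
  haveI : IsIso (pullback.snd (pullback.diagonal g) t) :=
    isIso_of_isClosedImmersion_of_surjective _
  have ht' : t = inv (pullback.snd (pullback.diagonal g) t) ≫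
      pullback.fst (pullback.diagonal g) t ≫ pullback.diagonal g := by
    rw [pullback.condition, IsIso.inv_hom_id_assoc]
  rw [ht']
  simp only [Category.assoc, pullback.diagonal_fst, pullback.diagonal_snd]

/-- A field-valued point of `Z ×_Y Z` with equal components lies on the diagonal. -/
theorem mem_range_diagonal_of_fst_eq_snd {K : Type u} [Field K]
    (t : Spec (CommRingCat.of K) ⟶ pullback g g)
    (ht : t ≫ pullback.fst g g = t ≫ pullback.snd g g) :
    t (IsLocalRing.closedPoint K) ∈ Set.range (pullback.diagonal g) := by
  have : t = (t ≫ pullback.fst g g) ≫ pullback.diagonal g := by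
    apply pullback.hom_ext
    · simp
    · simp [ht]
  rw [this]
  exact ⟨_, rfl⟩

end Diagonal

/-- every point has zero distinct lifts -/
theorem hasDistinctLifts_zero {Z Y : Scheme.{u}} (g : Z ⟶ Y) (y : Y) : HasDistinctLifts g 0 y := by
  refine ⟨Y.residueField y, inferInstance, Y.fromSpecResidueField y, Fin.elim0, fun i => i.elim0,
    fun i => i.elim0, ?_⟩
  exact Scheme.fromSpecResidueField_apply _ _

/-- **Openness of the locus with at least `m` geometric points in the fibre**, pointwise form:
if `g` is separated and universally open at all points over `y`, and the fibre over `y` has `m`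
distinct field-valued points, then so do all nearby fibres. -/
theorem eventually_hasDistinctLifts (m : ℕ) : ∀ {Z Y : Scheme.{u}} (g : Z ⟶ Y) [IsSeparated g]
    (y : Y) (hopen : ∀ x : Z, g x = y → IsUnivOpenAt g x) (h : HasDistinctLifts g m y),
    ∀ᶠ z in nhds y, HasDistinctLifts g m z := by
  induction m with
  | zero =>
    intro Z Y g _ y hopen h
    exact Filter.Eventually.of_forall (fun z => hasDistinctLifts_zero g z)
  | succ m ih =>
    intro Z Y g _ y hopen h
    obtain ⟨K, _, ζ, w, hw, hinj, hζ⟩ := h
    -- the base point in `Z`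
    have hy' : g (w 0 (IsLocalRing.closedPoint K)) = y := by
      rw [← Scheme.Hom.comp_apply, hw 0, hζ]
    -- the complement of the diagonal
    let U : (pullback g g).Opens :=
      ⟨(Set.range (pullback.diagonal g))ᶜ,
        (pullback.diagonal g).isClosedEmbedding.isClosed_range.isOpen_compl⟩
    let g'' : (U : Scheme.{u}) ⟶ Z := U.ι ≫ pullback.snd g g
    haveI : IsSeparated g'' := inferInstance
    have hopen'' : ∀ u : (U : Scheme.{u}), g'' u = w 0 (IsLocalRing.closedPoint K) →
        IsUnivOpenAt g'' u := by
      intro u hu
      apply isUnivOpenAt_comp_of_isOpenImmersion (pullback.snd g g) U.ι u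
      apply isUnivOpenAt_of_isPullback g (x := pullback.fst g g (U.ι u)) ?_
        (IsPullback.of_hasPullback g g) (U.ι u) rfl
      apply hopen
      rw [← Scheme.Hom.comp_apply, pullback.condition, Scheme.Hom.comp_apply]
      have : pullback.snd g g (U.ι u) = g'' u := rfl
      rw [this, hu, hy']
    -- lifts
    have hlifts : HasDistinctLifts g'' m (w 0 (IsLocalRing.closedPoint K)) := by
      have hcond : ∀ i : Fin m, w i.succ ≫ g = w 0 ≫ g := fun i => by rw [hw, hw]
      let t : Fin m → (Spec (CommRingCat.of K) ⟶ pullback g g) := fun i =>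
        pullback.lift (w i.succ) (w 0) (hcond i)
      have htU : ∀ i, Set.range (t i) ⊆ Set.range U.ι := by
        intro i
        rintro _ ⟨x, rfl⟩
        have hx : x = IsLocalRing.closedPoint K := Subsingleton.elim _ _
        rw [Scheme.Opens.range_ι]
        show t i x ∈ (Set.range (pullback.diagonal g))ᶜ
        intro hmem
        rw [hx] at hmem
        have := fst_eq_snd_of_mem_range_diagonal g (t i) hmem
        rw [pullback.lift_fst, pullback.lift_snd] at this
        exact Fin.succ_ne_zero i (hinj this)
      refine ⟨K, inferInstance, w 0, fun i => IsOpenImmersion.lift U.ι (t i) (htU i), ?_, ?_, rfl⟩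
      · intro i
        show IsOpenImmersion.lift U.ι (t i) (htU i) ≫ U.ι ≫ pullback.snd g g = w 0
        rw [IsOpenImmersion.lift_fac_assoc, pullback.lift_snd]
      · intro i j hij
        have h1 : t i = t j := by
          rw [← IsOpenImmersion.lift_fac U.ι (t i) (htU i),
            ← IsOpenImmersion.lift_fac U.ι (t j) (htU j)]
          exact congrArg (· ≫ U.ι) hij
        have h2 := congrArg (· ≫ pullback.fst g g) h1
        simp only [t, pullback.lift_fst] at h2
        exact Fin.succ_injective _ (hinj h2)
    have hev := ih g'' (w 0 (IsLocalRing.closedPoint K)) hopen'' hlifts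
    have hgo : IsOpenAt g.base (w 0 (IsLocalRing.closedPoint K)) :=
      isOpenAt_of_isUnivOpenAt g (hopen _ hy')
    have himg := hgo _ hev
    rw [hy'] at himg
    refine Filter.mem_of_superset himg ?_
    rintro z ⟨z', hz', rfl⟩
    obtain ⟨K₁, _, ζ₁, u, hu, huinj, hζ₁⟩ := hz'
    refine ⟨K₁, inferInstance, ζ₁ ≫ g,
      Fin.cases ζ₁ (fun i => u i ≫ U.ι ≫ pullback.fst g g), ?_, ?_, ?_⟩
    · intro i
      refine Fin.cases rfl (fun i => ?_) i
      show (u i ≫ U.ι ≫ pullback.fst g g) ≫ g = ζ₁ ≫ g
      rw [Category.assoc, Category.assoc, pullback.condition, ← hu i]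
      simp only [g'', Category.assoc]
    · have hne : ∀ i : Fin m, u i ≫ U.ι ≫ pullback.fst g g ≠ ζ₁ := by
        intro i heq
        have hsnd : (u i ≫ U.ι) ≫ pullback.snd g g = ζ₁ := by
          rw [Category.assoc]; exact hu i
        have hfs : (u i ≫ U.ι) ≫ pullback.fst g g = (u i ≫ U.ι) ≫ pullback.snd g g := by
          rw [hsnd, Category.assoc]; exact heq
        have hmem := mem_range_diagonal_of_fst_eq_snd g (u i ≫ U.ι) hfs
        have hU : (u i ≫ U.ι) (IsLocalRing.closedPoint K₁) ∈ U := by
          rw [Scheme.Hom.comp_apply]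
          exact (u i (IsLocalRing.closedPoint K₁)).2
        exact hU hmem
      intro i j hij
      induction i using Fin.cases with
      | zero =>
        induction j using Fin.cases with
        | zero => rfl
        | succ j =>
          exfalso
          simp only [Fin.cases_zero, Fin.cases_succ] at hij
          exact hne j hij.symm
      | succ i =>
        induction j using Fin.cases with
        | zero =>
          exfalso
          simp only [Fin.cases_zero, Fin.cases_succ] at hij
          exact hne i hij
        | succ j =>
          simp only [Fin.cases_succ] at hij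
          congr 1
          apply huinj
          rw [← cancel_mono U.ι]
          apply pullback.hom_ext
          · simpa only [Category.assoc] using hij
          · have h1 := hu i
            have h2 := hu j
            simp only [g'', ← Category.assoc] at h1 h2 ⊢
            rw [h1, h2]
    · rw [Scheme.Hom.comp_apply, hζ₁]

end Groth.Agent.Helper3.Lsc
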