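import Mathlib
import Groth.Prelude

set_option autoImplicit false
set_option linter.style.haveILetI false
set_option linter.unusedSectionVars false
set_option linter.unusedVariables false
set_option linter.deprecated false
set_option linter.style.haveILetI false
set_option linter.unusedSectionVars false
set_option linter.unusedVariables false

open CategoryTheory CategoryTheory.Limits AlgebraicGeometry Opposite

universe u

namespace Groth.Agent.Helper3.SteinI

section idem

variable {Y : Scheme.{u}}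

theorem mem_basicOpen_or (e : Γ(Y, ⊤)) (x : Y) :
    x ∈ Y.basicOpen e ∨ x ∈ Y.basicOpen (1 - e) := by
  rw [Scheme.mem_basicOpen_top, Scheme.mem_basicOpen_top]
  have h1 : Y.presheaf.germ ⊤ x trivial e + Y.presheaf.germ ⊤ x trivial (1 - e) = 1 := by
    rw [← map_add, add_sub_cancel, map_one]
  exact IsLocalRing.isUnit_or_isUnit_of_add_one h1

theorem basicOpen_inf_one_sub (e : Γ(Y, ⊤)) (he : IsIdempotentElem e) :
    Y.basicOpen e ⊓ Y.basicOpen (1 - e) = ⊥ := by
  have hmul : e * (1 - e) = 0 := by rw [mul_sub, mul_one, he.eq, sub_self]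
  rw [← Scheme.basicOpen_mul, hmul, Scheme.basicOpen_zero]

/-- An idempotent global section with empty basic open is zero. -/
theorem idem_eq_zero_of_basicOpen_eq_bot (u : Γ(Y, ⊤)) (hu : IsIdempotentElem u)
    (h : Y.basicOpen u = ⊥) : u = 0 := by
  have hmul : u * (1 - u) = 0 := by rw [mul_sub, mul_one, hu.eq, sub_self]
  have hall : ∀ x : Y, x ∈ Y.basicOpen (1 - u) := by
    intro x
    refine (mem_basicOpen_or u x).resolve_left ?_
    rw [h]
    exact fun hx => hx
  have hunit : IsUnit (1 - u) := by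
    apply AlgebraicGeometry.RingedSpace.isUnit_of_isUnit_germ Y.toRingedSpace ⊤ (1 - u)
    intro x hx
    exact (Scheme.mem_basicOpen_top (X := Y) (1 - u) x).mp (hall x)
  exact (hunit.mul_left_eq_zero).mp hmul

/-- Idempotent global sections are determined by their basic opens. -/
theorem idem_eq_of_basicOpen_eq (e e' : Γ(Y, ⊤)) (he : IsIdempotentElem e)
    (he' : IsIdempotentElem e') (h : Y.basicOpen e = Y.basicOpen e') : e = e' := by
  have h1 : e * (1 - e') = 0 := by
    refine idem_eq_zero_of_basicOpen_eq_bot _ (he.mul he'.one_sub) ?_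
    rw [Scheme.basicOpen_mul, h, basicOpen_inf_one_sub e' he']
  have h2 : e' * (1 - e) = 0 := by
    refine idem_eq_zero_of_basicOpen_eq_bot _ (he'.mul he.one_sub) ?_
    rw [Scheme.basicOpen_mul, ← h, basicOpen_inf_one_sub e he]
  have h3 : e = e * e' := by
    have := h1; rw [mul_sub, mul_one, sub_eq_zero] at this; exact this
  have h4 : e' = e' * e := by
    have := h2; rw [mul_sub, mul_one, sub_eq_zero] at this; exact this
  rw [h3, mul_comm, ← h4]

/-- On an affine scheme every clopen subset is the basic open of an idempotent. -/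
theorem exists_idem_of_isClopen [IsAffine Y] (C : Set Y) (hC : IsClopen C) :
    ∃ ε : Γ(Y, ⊤), IsIdempotentElem ε ∧ ((Y.basicOpen ε : Y.Opens) : Set Y) = C := by
  let hh : ↥Y ≃ₜ PrimeSpectrum Γ(Y, ⊤) := Y.isoSpec.hom.homeomorph
  have hC' : IsClopen (hh.symm ⁻¹' C) := hC.preimage hh.symm.continuous
  obtain ⟨ε, hε, hεC⟩ := PrimeSpectrum.isClopen_iff.mp hC'
  refine ⟨ε, hε, ?_⟩
  have h1 : Y.toSpecΓ ⁻¹ᵁ (PrimeSpectrum.basicOpen ε) = Y.basicOpen ε :=
    Y.toSpecΓ_preimage_basicOpen ε
  rw [← h1]
  show hh ⁻¹' ((PrimeSpectrum.basicOpen ε : TopologicalSpace.Opens _) : Set _) = C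
  rw [← hεC, ← Set.preimage_comp]
  simp

/-- Idempotents descend along closed surjective morphisms with geometrically connected fibres
to an affine scheme. -/
theorem exists_idem_descend {P Z : Scheme.{u}} [IsAffine Z] (q : P ⟶ Z)
    [GeometricallyConnected q] (hq : IsClosedMap q.base) (e : Γ(P, ⊤))
    (he : IsIdempotentElem e) :
    ∃ ε : Γ(Z, ⊤), IsIdempotentElem ε ∧ q.appTop.hom ε = e := by
  have hsurj : Function.Surjective q.base := q.surjective
  let D : Set P := ((P.basicOpen e : P.Opens) : Set P)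
  let D' : Set P := ((P.basicOpen (1 - e) : P.Opens) : Set P)
  have hDD' : ∀ x, x ∈ D → x ∈ D' → False := by
    intro x hx hx'
    have : x ∈ P.basicOpen e ⊓ P.basicOpen (1 - e) := ⟨hx, hx'⟩
    rw [basicOpen_inf_one_sub e he] at this
    exact this
  have hcov : ∀ x, x ∈ D ∨ x ∈ D' := mem_basicOpen_or e
  have hDeq : D = D'ᶜ := by
    ext x
    constructor
    · intro hx hx'
      exact hDD' x hx hx'
    · intro hx
      exact (hcov x).resolve_right hx
  have hD'eq : D' = Dᶜ := by rw [hDeq, compl_compl]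
  have hDcl : IsClosed D := by rw [hDeq]; exact (P.basicOpen (1 - e)).2.isClosed_compl
  have hD'cl : IsClosed D' := by rw [hD'eq]; exact (P.basicOpen e).2.isClosed_compl
  let C : Set Z := q.base '' D
  let C' : Set Z := q.base '' D'
  have hCcl : IsClosed C := hq _ hDcl
  have hC'cl : IsClosed C' := hq _ hD'cl
  have hCC' : ∀ z, z ∈ C → z ∈ C' → False := by
    rintro z ⟨x, hx, rfl⟩ ⟨x', hx', hxx'⟩
    have hconn := q.isConnected_preimage_singleton (q.base x)
    have hsub : q.base ⁻¹' {q.base x} ⊆ D ∪ D' := fun y _ => hcov y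
    have hdisj : Disjoint D D' := by
      rw [Set.disjoint_left]
      exact fun y hy hy' => hDD' y hy hy'
    have h1 := hconn.isPreconnected.subset_left_of_subset_union (P.basicOpen e).2
      (P.basicOpen (1 - e)).2 hdisj hsub ⟨x, rfl, hx⟩
    exact hDD' x' (h1 hxx') hx'
  have hC'eq : C' = Cᶜ := by
    ext z
    constructor
    · intro hz' hz
      exact hCC' z hz hz'
    · intro hz
      obtain ⟨x, rfl⟩ := hsurj z
      rcases hcov x with h | h
      · exact absurd ⟨x, h, rfl⟩ hz
      · exact ⟨x, h, rfl⟩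
  have hCclopen : IsClopen C := by
    refine ⟨hCcl, ?_⟩
    rw [← isClosed_compl_iff, ← hC'eq]
    exact hC'cl
  obtain ⟨ε, hε, hεC⟩ := exists_idem_of_isClopen C hCclopen
  refine ⟨ε, hε, ?_⟩
  apply idem_eq_of_basicOpen_eq _ _ (hε.map q.appTop.hom) he
  rw [← Scheme.preimage_basicOpen_top]
  ext x
  show q.base x ∈ ((Z.basicOpen ε : Z.Opens) : Set Z) ↔ x ∈ D
  rw [hεC]
  constructor
  · rintro ⟨x₀, hx₀, hxx₀⟩
    by_contra hxD
    have hxD' : x ∈ D' := (hcov x).resolve_left hxD
    exact hCC' (q.base x) ⟨x₀, hx₀, hxx₀⟩ ⟨x, hxD', rfl⟩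
  · intro hx
    exact ⟨x, hx, rfl⟩

end idem

end Groth.Agent.Helper3.SteinI
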