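import Mathlib
import Groth.Prelude
import Groth.Agent.Helper3.SteinI1

set_option autoImplicit false
set_option linter.style.haveILetI false
set_option linter.unusedSectionVars false
set_option linter.unusedVariables false
set_option linter.deprecated false
set_option linter.style.haveILetI false
set_option linter.unusedSectionVars false
set_option linter.unusedVariables false

open CategoryTheory CategoryTheory.Limits AlgebraicGeometry Opposite Polynomial

universe u

namespace Groth.Agent.Helper3.Lsc

theorem natCast_le_card_iff {α : Type*} (m : ℕ) :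
    (m : ℕ∞) ≤ ENat.card α ↔ ∃ f : Fin m → α, Function.Injective f := by
  constructor
  · intro h
    rcases finite_or_infinite α with hfin | hinf
    · haveI := Fintype.ofFinite α
      rw [ENat.card_eq_coe_fintype_card, Nat.cast_le] at h
      let e := Fintype.equivFin α
      exact ⟨fun i => e.symm (Fin.castLE h i),
        e.symm.injective.comp (Fin.castLE_injective h)⟩
    · exact ⟨fun i => Infinite.natEmbedding α i.val,
        (Infinite.natEmbedding α).injective.comp Fin.val_injective⟩
  · rintro ⟨f, hf⟩
    have := ENat.card_le_card_of_injective hf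
    rwa [ENat.card_eq_coe_fintype_card, Fintype.card_fin] at this

/-- Ring homs from an integral algebra over a separably closed field to a field are
determined by their kernel and their restriction to the base field. -/
theorem hom_eq_of_ker_eq {L T K' : Type u} [Field L] [IsSepClosed L] [CommRing T] [Algebra L T]
    [Algebra.IsIntegral L T] [Field K'] (θ₁ θ₂ : T →+* K')
    (h : θ₁.comp (algebraMap L T) = θ₂.comp (algebraMap L T))
    (hker : RingHom.ker θ₁ = RingHom.ker θ₂) : θ₁ = θ₂ := by
  haveI hp : (RingHom.ker θ₁).IsPrime := RingHom.ker_isPrime θ₁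
  haveI : IsDomain (T ⧸ RingHom.ker θ₁) := Ideal.Quotient.isDomain _
  haveI : Algebra.IsIntegral L (T ⧸ RingHom.ker θ₁) :=
    Algebra.IsIntegral.of_surjective (Ideal.Quotient.mkₐ L (RingHom.ker θ₁))
      Ideal.Quotient.mk_surjective
  haveI : Algebra.IsAlgebraic L (T ⧸ RingHom.ker θ₁) := Algebra.IsIntegral.isAlgebraic
  haveI : IsPurelyInseparable L (T ⧸ RingHom.ker θ₁) := inferInstance
  haveI : ExpChar K' (ringExpChar L) :=
    expChar_of_injective_ringHom (θ₁.comp (algebraMap L T)).injective (ringExpChar L)
  ext a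
  obtain ⟨n, y, hy⟩ := IsPurelyInseparable.pow_mem L (ringExpChar L)
    (Ideal.Quotient.mk (RingHom.ker θ₁) a)
  have hmem : a ^ (ringExpChar L) ^ n - algebraMap L T y ∈ RingHom.ker θ₁ := by
    rw [← Ideal.Quotient.eq, map_pow]
    exact hy.symm
  have hmem2 : a ^ (ringExpChar L) ^ n - algebraMap L T y ∈ RingHom.ker θ₂ := hker ▸ hmem
  rw [RingHom.mem_ker, map_sub, map_pow, sub_eq_zero] at hmem hmem2
  have hy12 : θ₁ (algebraMap L T y) = θ₂ (algebraMap L T y) :=
    congrArg (fun χ : L →+* K' => χ y) h
  apply iterateFrobenius_inj K' (ringExpChar L) n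
  rw [iterateFrobenius_def, iterateFrobenius_def, hmem, hmem2, hy12]

/-- For an element `a` integral over a field there is an idempotent `e` which is a multiple of
`a` and such that `a * (1 - e)` is nilpotent. -/
theorem exists_idem_of_isIntegral {A T : Type*} [Field A] [CommRing T] [Algebra A T] (a : T)
    (ha : IsIntegral A a) :
    ∃ e s : T, IsIdempotentElem e ∧ e = a * s ∧ IsNilpotent (a * (1 - e)) := by
  obtain ⟨P₀, hP₀, hP₀a⟩ := ha
  -- a polynomial killing `a`, divisible by `X`
  let P : A[X] := X * P₀
  have hP0 : P ≠ 0 := mul_ne_zero X_ne_zero hP₀.ne_zero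
  have hPa : aeval a P = 0 := by
    simp only [P, map_mul, aeval_X]
    rw [show aeval a P₀ = eval₂ (algebraMap A T) a P₀ from rfl, hP₀a, mul_zero]
  obtain ⟨k, g, hg1, hg2, hk1⟩ : ∃ (k : ℕ) (g : A[X]), P = X ^ k * g ∧ ¬ X ∣ g ∧ 1 ≤ k := by
    obtain ⟨g, hg1, hg2⟩ := exists_eq_pow_rootMultiplicity_mul_and_not_dvd P hP0 0
    rw [C_0, sub_zero] at hg1 hg2
    refine ⟨_, g, hg1, hg2, ?_⟩
    have : 0 < rootMultiplicity 0 P := (rootMultiplicity_pos hP0).mpr (by simp [P])
    exact this
  have hcop : IsCoprime (X ^ k : A[X]) g := by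
    apply IsCoprime.pow_left
    exact (irreducible_X.coprime_iff_not_dvd).mpr hg2
  obtain ⟨u, v, huv⟩ := hcop
  refine ⟨aeval a (u * X ^ k), aeval a u * a ^ (k - 1), ?_, ?_, ?_⟩
  · -- idempotent
    have h1 : (u * X ^ k) * (u * X ^ k) = u * X ^ k - (u * v) * P := by
      have : v * g = 1 - u * X ^ k := by rw [← huv]; ring
      calc (u * X ^ k) * (u * X ^ k) = u * X ^ k * (1 - v * g) := by rw [this]; ring
        _ = u * X ^ k - (u * v) * (X ^ k * g) := by ring
        _ = u * X ^ k - (u * v) * P := by rw [← hg1]
    show aeval a (u * X ^ k) * aeval a (u * X ^ k) = aeval a (u * X ^ k)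
    rw [← map_mul, h1, map_sub, map_mul _ (u * v), hPa, mul_zero, sub_zero]
  · simp only [map_mul, map_pow, aeval_X]
    have : a ^ k = a * a ^ (k - 1) := by
      rw [← pow_succ', Nat.sub_add_cancel hk1]
    rw [this]; ring
  · refine ⟨k, ?_⟩
    have h1 : (1 : T) - aeval a (u * X ^ k) = aeval a (v * g) := by
      have := congrArg (aeval a) huv
      rw [map_add, map_one] at this
      rw [← this]; ring
    rw [h1, mul_pow]
    have hidem : IsIdempotentElem (aeval a (v * g)) := by
      have : (v * g) * (v * g) = v * g - (u * v) * P := by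
        have h2 : u * X ^ k = 1 - v * g := by rw [← huv]; ring
        calc (v * g) * (v * g) = v * g * (1 - u * X ^ k) := by rw [h2]; ring
          _ = v * g - (u * v) * (X ^ k * g) := by ring
          _ = v * g - (u * v) * P := by rw [← hg1]
      show aeval a (v * g) * aeval a (v * g) = aeval a (v * g)
      rw [← map_mul, this, map_sub, map_mul _ (u * v), hPa, mul_zero, sub_zero]
    obtain ⟨k', rfl⟩ : ∃ k', k = k' + 1 := ⟨k - 1, (Nat.sub_add_cancel hk1).symm⟩
    rw [hidem.pow_succ_eq]
    have : a ^ (k' + 1) * aeval a (v * g) = aeval a (v * P) := by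
      rw [hg1]; simp only [map_mul, map_pow, aeval_X]; ring
    rw [this, map_mul, hPa, mul_zero]

/-- Basic opens of sections integral over a field are clopen. -/
theorem isClopen_basicOpen_of_isIntegral {V : Scheme.{u}} {A : Type*} [Field A]
    [Algebra A Γ(V, ⊤)] (a : Γ(V, ⊤)) (ha : IsIntegral A a) :
    IsClopen ((V.basicOpen a : V.Opens) : Set V) := by
  obtain ⟨e, s, he, hes, hnil⟩ := exists_idem_of_isIntegral a ha
  have h1 : V.basicOpen a = V.basicOpen e := by
    apply le_antisymm
    · intro x hx
      rcases Groth.Agent.Helper3.SteinI.mem_basicOpen_or e x with h | h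
      · exact h
      · exfalso
        have hmem : x ∈ V.basicOpen (a * (1 - e)) := by
          rw [Scheme.basicOpen_mul]; exact ⟨hx, h⟩
        obtain ⟨n, hn⟩ := hnil
        have h2 : V.basicOpen (a * (1 - e)) = ⊥ := by
          rw [← Scheme.basicOpen_pow V (a * (1 - e)) (Nat.succ_pos n), pow_succ, hn, zero_mul,
            Scheme.basicOpen_zero]
        rw [h2] at hmem
        exact hmem
    · rw [hes, Scheme.basicOpen_mul]
      exact inf_le_left
  rw [h1]
  refine ⟨?_, (V.basicOpen e).2⟩
  have hcompl : ((V.basicOpen e : V.Opens) : Set V) = ((V.basicOpen (1 - e) : V.Opens) : Set V)ᶜ := by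
    ext x
    constructor
    · intro hx hx'
      have : x ∈ V.basicOpen e ⊓ V.basicOpen (1 - e) := ⟨hx, hx'⟩
      rw [Groth.Agent.Helper3.SteinI.basicOpen_inf_one_sub e he] at this
      exact this
    · intro hx
      exact (Groth.Agent.Helper3.SteinI.mem_basicOpen_or e x).resolve_right hx
  rw [hcompl]
  exact (V.basicOpen (1 - e)).2.isClosed_compl

/-- In an affine scheme whose global sections are integral over a field, distinct points lie in
distinct connected components. -/
theorem connectedComponents_mk_injective {V : Scheme.{u}} [IsAffine V] {A : Type*} [Field A]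
    [Algebra A Γ(V, ⊤)] [Algebra.IsIntegral A Γ(V, ⊤)] :
    Function.Injective (ConnectedComponents.mk : V → _root_.ConnectedComponents V) := by
  have key : ∀ x x' : V, ∀ W : V.Opens, x ∈ W → x' ∉ W →
      (ConnectedComponents.mk x : _root_.ConnectedComponents V) ≠ ConnectedComponents.mk x' := by
    intro x x' W hx hx' heq
    obtain ⟨a, haW, hxa⟩ := (isAffineOpen_top V).exists_basicOpen_le (V := W) ⟨x, hx⟩ trivial
    have hcl := isClopen_basicOpen_of_isIntegral (A := A) a (Algebra.IsIntegral.isIntegral a)
    have hsub := hcl.connectedComponent_subset hxa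
    have heq' := heq.symm
    rw [ConnectedComponents.coe_eq_coe'] at heq'
    exact hx' (haW (hsub heq'))
  intro x x' heq
  by_contra hne
  obtain ⟨W, hW, hxor⟩ := exists_isOpen_xor'_mem hne
  rcases hxor with ⟨h1, h2⟩ | ⟨h1, h2⟩
  · exact key x x' ⟨W, hW⟩ h1 h2 heq
  · exact key x' x ⟨W, hW⟩ h1 h2 heq.symm

end Groth.Agent.Helper3.Lsc
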