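import Mathlib
import Groth.Prelude
import Groth.Agent.Helper3.LscB2

set_option autoImplicit false
set_option linter.style.haveILetI false
set_option linter.unusedSectionVars false
set_option linter.unusedVariables false
set_option linter.deprecated false
set_option linter.style.haveILetI false
set_option linter.unusedSectionVars false
set_option linter.unusedVariables false

open CategoryTheory CategoryTheory.Limits AlgebraicGeometry Opposite

universe u

namespace Groth.Agent.Helper3.LscQ

open Groth.Agent.Helper3.Lsc (HasDistinctLifts appTop_eq_zero_iff epi_SpecMap_of_field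
  natCast_le_card_iff hom_eq_of_ker_eq connectedComponents_mk_injective)

section GeomFibre

variable {N Y : Scheme.{u}} (ν : N ⟶ Y) (z : Y)

/-- the base field extension of the geometric fibre -/
noncomputable abbrev gfBase : Spec (CommRingCat.of (SeparableClosure (Y.residueField z))) ⟶
    Spec (Y.residueField z) :=
  Spec.map (CommRingCat.ofHom
    (algebraMap (Y.residueField z) (SeparableClosure (Y.residueField z))))

/-- the structure morphism of the geometric fibre -/
noncomputable abbrev gfStr : MoreMor.geomFiber ν z ⟶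
    Spec (CommRingCat.of (SeparableClosure (Y.residueField z))) :=
  pullback.snd (ν.fiberToSpecResidueField z)
    (Spec.map (CommRingCat.ofHom
      (algebraMap (Y.residueField z) (SeparableClosure (Y.residueField z)))))

/-- the projection of the geometric fibre to the fibre -/
noncomputable abbrev gfFst : MoreMor.geomFiber ν z ⟶ ν.fiber z :=
  pullback.fst (ν.fiberToSpecResidueField z) (gfBase z)

theorem gf_condition : gfFst ν z ≫ ν.fiberToSpecResidueField z = gfStr ν z ≫ gfBase z :=
  pullback.condition

theorem gf_hom_ext {W : Scheme.{u}} {a b : W ⟶ MoreMor.geomFiber ν z}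
    (h1 : a ≫ gfFst ν z ≫ ν.fiberι z = b ≫ gfFst ν z ≫ ν.fiberι z)
    (h2 : a ≫ gfStr ν z = b ≫ gfStr ν z) : a = b := by
  apply pullback.hom_ext _ h2
  show a ≫ gfFst ν z = b ≫ gfFst ν z
  apply pullback.hom_ext
  · exact (Category.assoc _ _ _).trans (h1.trans (Category.assoc _ _ _).symm)
  · show (a ≫ gfFst ν z) ≫ ν.fiberToSpecResidueField z =
      (b ≫ gfFst ν z) ≫ ν.fiberToSpecResidueField z
    rw [Category.assoc, Category.assoc, gf_condition, ← Category.assoc, ← Category.assoc, h2]

variable [IsIntegralHom (ν.fiberToSpecResidueField z)]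

instance : IsIntegralHom (gfStr ν z) :=
  MorphismProperty.pullback_snd (P := @IsIntegralHom) _ _ inferInstance

instance : IsAffine (MoreMor.geomFiber ν z) := isAffine_of_isAffineHom (gfStr ν z)

/-- the algebra structure of the coordinate ring of the geometric fibre -/
noncomputable def gfAlg : CommRingCat.of (SeparableClosure (Y.residueField z)) ⟶
    Γ(MoreMor.geomFiber ν z, ⊤) :=
  (Scheme.ΓSpecIso (CommRingCat.of (SeparableClosure (Y.residueField z)))).inv ≫
    (gfStr ν z).appTop

theorem gfAlg_isIntegral : (gfAlg ν z).hom.IsIntegral := by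
  have h1 : ((gfStr ν z).appTop).hom.IsIntegral :=
    (gfStr ν z).isIntegral_app ⊤ (isAffineOpen_top _)
  have h2 : ((Scheme.ΓSpecIso
      (CommRingCat.of (SeparableClosure (Y.residueField z)))).inv).hom.IsIntegral :=
    RingHom.isIntegral_of_surjective _
      ((ConcreteCategory.isIso_iff_bijective _).mp inferInstance).2
  exact RingHom.IsIntegral.trans _ _ h2 h1

/-- distinct geometric points over `z` force at least as many geometric components -/
theorem le_nGeomConnComp_of_hasDistinctLifts (m : ℕ) (h : HasDistinctLifts ν m z) :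
    (m : ℕ∞) ≤ MoreMor.nGeomConnComp ν z := by
  obtain ⟨K, _, ζ, w, hw, hinj, hζ⟩ := h
  subst hζ
  -- factor `ζ` through the residue field
  let φ : Y.residueField (ζ (IsLocalRing.closedPoint K)) ⟶ CommRingCat.of K :=
    Scheme.descResidueField (Scheme.stalkClosedPointTo ζ)
  have hφ : Spec.map φ ≫ Y.fromSpecResidueField (ζ (IsLocalRing.closedPoint K)) = ζ :=
    Scheme.descResidueField_stalkClosedPointTo_fromSpecResidueField K Y ζ
  let incl : K →+* AlgebraicClosure K := algebraMap K (AlgebraicClosure K)
  letI : Algebra (Y.residueField (ζ (IsLocalRing.closedPoint K))) (AlgebraicClosure K) :=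
    (incl.comp φ.hom).toAlgebra
  let σ : SeparableClosure (Y.residueField (ζ (IsLocalRing.closedPoint K))) →ₐ[
      Y.residueField (ζ (IsLocalRing.closedPoint K))] AlgebraicClosure K := IsAlgClosed.lift
  have hσ : CommRingCat.ofHom (algebraMap (Y.residueField (ζ (IsLocalRing.closedPoint K)))
      (SeparableClosure (Y.residueField (ζ (IsLocalRing.closedPoint K))))) ≫
      CommRingCat.ofHom σ.toRingHom = φ ≫ CommRingCat.ofHom incl := by
    ext x
    exact σ.commutes x
  -- the points of the geometric fibre
  have c1 : ∀ i, (Spec.map (CommRingCat.ofHom incl) ≫ w i) ≫ ν =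
      Spec.map (φ ≫ CommRingCat.ofHom incl) ≫
        Y.fromSpecResidueField (ζ (IsLocalRing.closedPoint K)) := by
    intro i
    rw [Category.assoc, hw i, Spec.map_comp, Category.assoc, hφ]
  let t₀ : Fin m → (Spec (CommRingCat.of (AlgebraicClosure K)) ⟶
      ν.fiber (ζ (IsLocalRing.closedPoint K))) := fun i =>
    pullback.lift (Spec.map (CommRingCat.ofHom incl) ≫ w i)
      (Spec.map (φ ≫ CommRingCat.ofHom incl)) (c1 i)
  have c2 : ∀ i, t₀ i ≫ ν.fiberToSpecResidueField (ζ (IsLocalRing.closedPoint K)) =
      Spec.map (CommRingCat.ofHom σ.toRingHom) ≫ Spec.map (CommRingCat.ofHom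
        (algebraMap (Y.residueField (ζ (IsLocalRing.closedPoint K)))
          (SeparableClosure (Y.residueField (ζ (IsLocalRing.closedPoint K)))))) := by
    intro i
    rw [← Spec.map_comp, hσ]
    exact pullback.lift_snd _ _ _
  let t : Fin m → (Spec (CommRingCat.of (AlgebraicClosure K)) ⟶
      MoreMor.geomFiber ν (ζ (IsLocalRing.closedPoint K))) := fun i =>
    pullback.lift (t₀ i) (Spec.map (CommRingCat.ofHom σ.toRingHom)) (c2 i)
  have ht_snd : ∀ i, t i ≫ gfStr ν (ζ (IsLocalRing.closedPoint K)) =
      Spec.map (CommRingCat.ofHom σ.toRingHom) := fun i => pullback.lift_snd _ _ _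
  have ht_fst : ∀ i, t i ≫ pullback.fst _ _ ≫ pullback.fst _ _ =
      Spec.map (CommRingCat.ofHom incl) ≫ w i := by
    intro i
    rw [← Category.assoc]
    have : t i ≫ pullback.fst _ _ = t₀ i := pullback.lift_fst _ _ _
    rw [this]
    exact pullback.lift_fst _ _ _
  -- the induced maps on global sections
  let θ : Fin m → (Γ(MoreMor.geomFiber ν (ζ (IsLocalRing.closedPoint K)), ⊤) ⟶
      CommRingCat.of (AlgebraicClosure K)) := fun i =>
    (t i).appTop ≫ (Scheme.ΓSpecIso (CommRingCat.of (AlgebraicClosure K))).hom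
  have hA : ∀ i, gfAlg ν (ζ (IsLocalRing.closedPoint K)) ≫ θ i =
      CommRingCat.ofHom σ.toRingHom := by
    intro i
    simp only [gfAlg, θ, Category.assoc]
    rw [← Category.assoc (gfStr ν (ζ (IsLocalRing.closedPoint K))).appTop,
      ← Scheme.Hom.comp_appTop, ht_snd i, Scheme.ΓSpecIso_naturality, Iso.inv_hom_id_assoc]
  have hB : ∀ i j, t i (IsLocalRing.closedPoint (AlgebraicClosure K)) =
      t j (IsLocalRing.closedPoint (AlgebraicClosure K)) →
      RingHom.ker (θ i).hom = RingHom.ker (θ j).hom := by
    intro i j hij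
    ext a
    have hinj : Function.Injective
        (Scheme.ΓSpecIso (CommRingCat.of (AlgebraicClosure K))).hom.hom :=
      ((ConcreteCategory.isIso_iff_bijective _).mp inferInstance).1
    have hk : ∀ l, a ∈ RingHom.ker (θ l).hom ↔ (t l).appTop.hom a = 0 := by
      intro l
      rw [RingHom.mem_ker]
      show (Scheme.ΓSpecIso (CommRingCat.of (AlgebraicClosure K))).hom.hom
        ((t l).appTop.hom a) = 0 ↔ _
      constructor
      · intro h0; exact hinj (h0.trans (map_zero _).symm)
      · intro h0; rw [h0, map_zero]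
    rw [hk i, hk j, appTop_eq_zero_iff, appTop_eq_zero_iff, hij]
  -- distinct points
  have hpts : Function.Injective
      (fun i => t i (IsLocalRing.closedPoint (AlgebraicClosure K))) := by
    intro i j hij
    letI : Algebra (SeparableClosure (Y.residueField (ζ (IsLocalRing.closedPoint K))))
        Γ(MoreMor.geomFiber ν (ζ (IsLocalRing.closedPoint K)), ⊤) :=
      (gfAlg ν (ζ (IsLocalRing.closedPoint K))).hom.toAlgebra
    haveI : Algebra.IsIntegral (SeparableClosure (Y.residueField (ζ (IsLocalRing.closedPoint K))))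
        Γ(MoreMor.geomFiber ν (ζ (IsLocalRing.closedPoint K)), ⊤) :=
      ⟨gfAlg_isIntegral ν (ζ (IsLocalRing.closedPoint K))⟩
    have hθ : (θ i).hom = (θ j).hom := by
      apply hom_eq_of_ker_eq (L := SeparableClosure (Y.residueField (ζ (IsLocalRing.closedPoint K))))
      · have e1 := congrArg CommRingCat.Hom.hom (hA i)
        have e2 := congrArg CommRingCat.Hom.hom (hA j)
        exact e1.trans e2.symm
      · exact hB i j hij
    have happ : (t i).appTop = (t j).appTop := by
      have h1 : θ i = θ j := CommRingCat.hom_ext hθ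
      have h2 := congrArg (· ≫ (Scheme.ΓSpecIso (CommRingCat.of (AlgebraicClosure K))).inv) h1
      simpa only [θ, Category.assoc, Iso.hom_inv_id, Category.comp_id] using h2
    have htt : t i = t j := ext_of_isAffine happ
    have h3 : Spec.map (CommRingCat.ofHom incl) ≫ w i = Spec.map (CommRingCat.ofHom incl) ≫ w j := by
      rw [← ht_fst i, ← ht_fst j, htt]
    haveI := epi_SpecMap_of_field incl
    exact hinj ((cancel_epi _).mp h3)
  letI : Algebra (SeparableClosure (Y.residueField (ζ (IsLocalRing.closedPoint K))))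
      Γ(MoreMor.geomFiber ν (ζ (IsLocalRing.closedPoint K)), ⊤) :=
    (gfAlg ν (ζ (IsLocalRing.closedPoint K))).hom.toAlgebra
  haveI : Algebra.IsIntegral (SeparableClosure (Y.residueField (ζ (IsLocalRing.closedPoint K))))
      Γ(MoreMor.geomFiber ν (ζ (IsLocalRing.closedPoint K)), ⊤) :=
    ⟨gfAlg_isIntegral ν (ζ (IsLocalRing.closedPoint K))⟩
  show (m : ℕ∞) ≤ ENat.card (_root_.ConnectedComponents
    ↥(MoreMor.geomFiber ν (ζ (IsLocalRing.closedPoint K))))
  rw [natCast_le_card_iff]
  exact ⟨fun i => ConnectedComponents.mk (t i (IsLocalRing.closedPoint (AlgebraicClosure K))),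
    (connectedComponents_mk_injective
      (A := SeparableClosure (Y.residueField (ζ (IsLocalRing.closedPoint K))))).comp hpts⟩

/-- many geometric components give many distinct geometric points -/
theorem hasDistinctLifts_of_le (m : ℕ) (h : (m : ℕ∞) ≤ MoreMor.nGeomConnComp ν z) :
    HasDistinctLifts ν m z := by
  obtain ⟨c, hc⟩ := (natCast_le_card_iff m).mp h
  let x : Fin m → ↥(MoreMor.geomFiber ν z) := fun i =>
    (ConnectedComponents.surjective_coe (c i)).choose
  have hx : ∀ i, (ConnectedComponents.mk (x i) : _root_.ConnectedComponents _) = c i := fun i =>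
    (ConnectedComponents.surjective_coe (c i)).choose_spec
  have hxinj : Function.Injective x := fun i j hij => hc (by rw [← hx i, ← hx j, hij])
  letI : Algebra (SeparableClosure (Y.residueField z)) Γ(MoreMor.geomFiber ν z, ⊤) :=
    (gfAlg ν z).hom.toAlgebra
  haveI : Algebra.IsIntegral (SeparableClosure (Y.residueField z))
      Γ(MoreMor.geomFiber ν z, ⊤) := ⟨gfAlg_isIntegral ν z⟩
  -- the primes
  let 𝔭 : Fin m → PrimeSpectrum Γ(MoreMor.geomFiber ν z, ⊤) := fun i =>
    (MoreMor.geomFiber ν z).isoSpec.hom (x i)
  have h𝔭inj : Function.Injective 𝔭 := fun i j hij =>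
    hxinj ((MoreMor.geomFiber ν z).isoSpec.hom.homeomorph.injective hij)
  haveI : (⊥ : Ideal (SeparableClosure (Y.residueField z))).IsPrime := Ideal.isPrime_bot
  have hcomap : ∀ i, (𝔭 i).asIdeal.comap
      (algebraMap (SeparableClosure (Y.residueField z)) Γ(MoreMor.geomFiber ν z, ⊤)) = ⊥ := by
    intro i
    rcases Ideal.eq_bot_or_top ((𝔭 i).asIdeal.comap
      (algebraMap (SeparableClosure (Y.residueField z)) Γ(MoreMor.geomFiber ν z, ⊤))) with h0 | h1
    · exact h0
    · exact absurd h1 (Ideal.IsPrime.ne_top inferInstance)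
  choose γ hγker hγc using fun i => Groth.Agent.Helper5.BrAlg.exists_hom_ker
    (A := SeparableClosure (Y.residueField z)) (B := Γ(MoreMor.geomFiber ν z, ⊤))
    (⊥ : Ideal (SeparableClosure (Y.residueField z))) (𝔭 i).asIdeal (hcomap i)
  -- the common restriction to the base field
  let cc : SeparableClosure (Y.residueField z) →+* AlgebraicClosure (FractionRing
      (SeparableClosure (Y.residueField z) ⧸ (⊥ : Ideal (SeparableClosure (Y.residueField z))))) :=
    (algebraMap (SeparableClosure (Y.residueField z) ⧸
      (⊥ : Ideal (SeparableClosure (Y.residueField z)))) _).comp (Ideal.Quotient.mk ⊥)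
  have hγc' : ∀ i, gfAlg ν z ≫ CommRingCat.ofHom (γ i) = CommRingCat.ofHom cc := by
    intro i
    ext a
    exact congrArg (fun χ : SeparableClosure (Y.residueField z) →+* _ => χ a) (hγc i)
  let t : Fin m → (Spec (CommRingCat.of (AlgebraicClosure (FractionRing
      (SeparableClosure (Y.residueField z) ⧸
        (⊥ : Ideal (SeparableClosure (Y.residueField z))))))) ⟶ MoreMor.geomFiber ν z) :=
    fun i => Spec.map (CommRingCat.ofHom (γ i)) ≫ (MoreMor.geomFiber ν z).isoSpec.inv
  have ht_snd : ∀ i, t i ≫ gfStr ν z = Spec.map (CommRingCat.ofHom cc) := by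
    intro i
    simp only [t, Category.assoc]
    rw [← Scheme.isoSpec_inv_naturality, Scheme.isoSpec_Spec_inv, ← Spec.map_comp,
      ← Spec.map_comp, ← hγc' i]
    rfl
  have htinj : Function.Injective t := by
    intro i j hij
    have h1 : Spec.map (CommRingCat.ofHom (γ i)) = Spec.map (CommRingCat.ofHom (γ j)) := by
      have := congrArg (· ≫ (MoreMor.geomFiber ν z).isoSpec.hom) hij
      simpa only [t, Category.assoc, Iso.inv_hom_id, Category.comp_id] using this
    have h2 : γ i = γ j := by
      have := Spec.map_injective h1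
      exact congrArg CommRingCat.Hom.hom this
    apply h𝔭inj
    apply PrimeSpectrum.ext
    rw [← hγker i, ← hγker j, h2]
  refine ⟨_, inferInstance,
    Spec.map (CommRingCat.ofHom cc) ≫ gfBase z ≫ Y.fromSpecResidueField z,
    fun i => t i ≫ gfFst ν z ≫ ν.fiberι z, ?_, ?_, ?_⟩
  · intro i
    have h1 : ν.fiberι z ≫ ν = ν.fiberToSpecResidueField z ≫ Y.fromSpecResidueField z :=
      ν.fiber_fac z
    calc (t i ≫ gfFst ν z ≫ ν.fiberι z) ≫ ν
        = t i ≫ gfFst ν z ≫ (ν.fiberι z ≫ ν) := by simp only [Category.assoc]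
      _ = t i ≫ gfFst ν z ≫ (ν.fiberToSpecResidueField z ≫ Y.fromSpecResidueField z) := by
          rw [h1]
      _ = t i ≫ (gfFst ν z ≫ ν.fiberToSpecResidueField z) ≫ Y.fromSpecResidueField z := by
          simp only [Category.assoc]
      _ = t i ≫ (gfStr ν z ≫ gfBase z) ≫ Y.fromSpecResidueField z := by rw [gf_condition]
      _ = (t i ≫ gfStr ν z) ≫ gfBase z ≫ Y.fromSpecResidueField z := by
          simp only [Category.assoc]
      _ = _ := by rw [ht_snd i]
  · intro i j hij
    have hij' : t i ≫ gfFst ν z ≫ ν.fiberι z = t j ≫ gfFst ν z ≫ ν.fiberι z := hij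
    apply htinj
    have hsnd : t i ≫ gfStr ν z = t j ≫ gfStr ν z := by
      rw [ht_snd i, ht_snd j]
    exact gf_hom_ext ν z hij' hsnd
  · rw [Scheme.Hom.comp_apply, Scheme.Hom.comp_apply, Scheme.fromSpecResidueField_apply]

end GeomFibre

section QF

variable {X Y : Scheme.{u}} (f : X ⟶ Y) [LocallyQuasiFinite f] [QuasiCompact f] (y : Y)

instance : IsFinite (gfStr f y) :=
  MorphismProperty.pullback_snd (P := @IsFinite) _ _ inferInstance

theorem finite_geomFiber : Finite ↥(MoreMor.geomFiber f y) := by
  have h := (gfStr f y).finite_preimage_singleton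
    (IsLocalRing.closedPoint (SeparableClosure (Y.residueField y)))
  have h2 : (gfStr f y) ⁻¹' {IsLocalRing.closedPoint (SeparableClosure (Y.residueField y))} =
      Set.univ := by
    ext p
    simp only [Set.mem_preimage, Set.mem_singleton_iff, Set.mem_univ, iff_true]
    exact Subsingleton.elim _ _
  exact Set.finite_univ_iff.mp (h2 ▸ h)

theorem nGeomConnComp_ne_top : MoreMor.nGeomConnComp f y ≠ ⊤ := by
  haveI := finite_geomFiber f y
  haveI : Finite (_root_.ConnectedComponents ↥(MoreMor.geomFiber f y)) :=
    Finite.of_surjective _ ConnectedComponents.surjective_coe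
  exact (ENat.card_lt_top.mpr inferInstance).ne

theorem surjective_gfFst : Function.Surjective (gfFst f y) := by
  haveI : Surjective (gfBase y) :=
    ⟨fun x => ⟨IsLocalRing.closedPoint _, Subsingleton.elim _ _⟩⟩
  haveI : Surjective (gfFst f y) :=
    MorphismProperty.pullback_fst (P := @Surjective) _ _ inferInstance
  exact (gfFst f y).surjective

theorem card_fiber_le : ENat.card ↥(f.fiber y) ≤ MoreMor.nGeomConnComp f y := by
  letI : Algebra (SeparableClosure (Y.residueField y)) Γ(MoreMor.geomFiber f y, ⊤) :=
    (gfAlg f y).hom.toAlgebra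
  haveI : Algebra.IsIntegral (SeparableClosure (Y.residueField y))
      Γ(MoreMor.geomFiber f y, ⊤) := ⟨gfAlg_isIntegral f y⟩
  have h1 : Function.Injective (ConnectedComponents.mk :
      ↥(MoreMor.geomFiber f y) → _root_.ConnectedComponents ↥(MoreMor.geomFiber f y)) :=
    connectedComponents_mk_injective (A := SeparableClosure (Y.residueField y))
  have h2 := surjective_gfFst f y
  calc ENat.card ↥(f.fiber y) ≤ ENat.card ↥(MoreMor.geomFiber f y) :=
        ENat.card_le_card_of_injective (Function.injective_surjInv h2)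
    _ ≤ ENat.card (_root_.ConnectedComponents ↥(MoreMor.geomFiber f y)) :=
        ENat.card_le_card_of_injective h1

end QF

end Groth.Agent.Helper3.LscQ
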