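import Mathlib
import Groth.Prelude
import Groth.Agent.Helper3.LscQ1

set_option autoImplicit false
set_option linter.style.haveILetI false
set_option linter.unusedSectionVars false
set_option linter.unusedVariables false
set_option linter.deprecated false
set_option linter.style.haveILetI false
set_option linter.unusedSectionVars false
set_option linter.unusedVariables false

open CategoryTheory CategoryTheory.Limits AlgebraicGeometry Opposite

universe u

namespace Groth.Agent.Helper3.LscQ

open Groth.Agent.Helper3.Lsc (HasDistinctLifts epi_SpecMap_of_field)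

/-- a field-valued point of an affine scheme is determined by its map on global sections -/
theorem eq_SpecMap_isoSpec_inv {F : Scheme.{u}} [IsAffine F] {K : Type u} [Field K]
    (t : Spec (CommRingCat.of K) ⟶ F) :
    t = Spec.map (t.appTop ≫ (Scheme.ΓSpecIso (CommRingCat.of K)).hom) ≫ F.isoSpec.inv := by
  rw [Spec.map_comp, Category.assoc, Scheme.isoSpec_inv_naturality, Scheme.isoSpec_Spec_inv,
    ← Category.assoc, ← Spec.map_comp, Iso.inv_hom_id, Spec.map_id, Category.id_comp]

/-- the images of finitely many homs from a finite algebra into a field lie in a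
finite-dimensional intermediate field -/
theorem exists_finite_intermediateField {κ R K : Type u} [Field κ] [CommRing R] [Field K]
    [Algebra κ R] [Module.Finite κ R] [Algebra κ K] {m : ℕ} (θ : Fin m → (R →ₐ[κ] K)) :
    ∃ E : IntermediateField κ K, FiniteDimensional κ E ∧ ∀ i r, θ i r ∈ E := by
  let t : Fin m → IntermediateField κ K := fun i =>
    IntermediateField.adjoin κ ((θ i).range : Set K)
  have halg : ∀ i, ∀ x ∈ ((θ i).range : Set K), IsAlgebraic κ x := by
    intro i x hx
    obtain ⟨r, rfl⟩ := hx
    exact ((Algebra.IsIntegral.isIntegral (R := κ) r).isAlgebraic).algHom (θ i)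
  have hsub : ∀ i, (t i).toSubalgebra = (θ i).range := by
    intro i
    rw [IntermediateField.adjoin_toSubalgebra_of_isAlgebraic (halg i), Algebra.adjoin_eq]
  haveI : ∀ i, FiniteDimensional κ (t i) := by
    intro i
    have h1 : FiniteDimensional κ (θ i).range := by
      have : Module.Finite κ (LinearMap.range (θ i).toLinearMap) :=
        Module.Finite.range (θ i).toLinearMap
      exact this
    have h2 : FiniteDimensional κ (t i).toSubalgebra := by rw [hsub i]; exact h1
    exact h2
  refine ⟨⨆ i, t i, IntermediateField.finiteDimensional_iSup_of_finite, fun i r => ?_⟩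
  have h1 : θ i r ∈ t i := IntermediateField.subset_adjoin κ _ ⟨r, rfl⟩
  exact (le_iSup t i) h1

/-- distinct lifts over a point of a quasi-finite morphism can be realised over a finite
extension of the residue field -/
theorem exists_finite_lifts {X Y : Scheme.{u}} (f : X ⟶ Y) [LocallyQuasiFinite f] [QuasiCompact f]
    (y : Y) (m : ℕ) (h : HasDistinctLifts f m y) :
    ∃ (E : Type u) (_ : Field E) (ε : Y.residueField y ⟶ CommRingCat.of E)
      (w : Fin m → (Spec (CommRingCat.of E) ⟶ X)),
      ε.hom.Finite ∧ (∀ i, w i ≫ f = Spec.map ε ≫ Y.fromSpecResidueField y) ∧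
      Function.Injective w := by
  obtain ⟨K, _, ζ, w, hw, hinj, hζ⟩ := h
  subst hζ
  obtain ⟨φ, hφ⟩ : ∃ φ : Y.residueField (ζ (IsLocalRing.closedPoint K)) ⟶ CommRingCat.of K,
      Spec.map φ ≫ Y.fromSpecResidueField (ζ (IsLocalRing.closedPoint K)) = ζ :=
    ⟨Scheme.descResidueField (Scheme.stalkClosedPointTo ζ),
      Scheme.descResidueField_stalkClosedPointTo_fromSpecResidueField K Y ζ⟩
  generalize ζ (IsLocalRing.closedPoint K) = y at φ hφ ⊢
  -- the fibre
  haveI : IsAffine (f.fiber y) := isAffine_of_isAffineHom (f.fiberToSpecResidueField y)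
  let c : Y.residueField y ⟶ Γ(f.fiber y, ⊤) :=
    (Scheme.ΓSpecIso (Y.residueField y)).inv ≫ (f.fiberToSpecResidueField y).appTop
  have hcfin : c.hom.Finite := by
    have h1 : ((f.fiberToSpecResidueField y).appTop).hom.Finite :=
      (f.fiberToSpecResidueField y).finite_appTop
    have h2 : ((Scheme.ΓSpecIso (Y.residueField y)).inv).hom.Finite :=
      RingHom.Finite.of_surjective _
        ((ConcreteCategory.isIso_iff_bijective _).mp inferInstance).2
    exact RingHom.Finite.comp h1 h2
  let t : Fin m → (Spec (CommRingCat.of K) ⟶ f.fiber y) := fun i =>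
    pullback.lift (w i) (Spec.map φ) (by rw [hw i, hφ])
  have ht1 : ∀ i, t i ≫ f.fiberι y = w i := fun i => pullback.lift_fst _ _ _
  have ht2 : ∀ i, t i ≫ f.fiberToSpecResidueField y = Spec.map φ := fun i =>
    pullback.lift_snd _ _ _
  let θ : Fin m → (Γ(f.fiber y, ⊤) ⟶ CommRingCat.of K) := fun i =>
    (t i).appTop ≫ (Scheme.ΓSpecIso (CommRingCat.of K)).hom
  have hcθ : ∀ i, c ≫ θ i = φ := by
    intro i
    simp only [c, θ, Category.assoc]
    rw [← Category.assoc (f.fiberToSpecResidueField y).appTop, ← Scheme.Hom.comp_appTop, ht2 i,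
      Scheme.ΓSpecIso_naturality, Iso.inv_hom_id_assoc]
  letI : Algebra (Y.residueField y) Γ(f.fiber y, ⊤) := c.hom.toAlgebra
  letI : Algebra (Y.residueField y) K := φ.hom.toAlgebra
  haveI : Module.Finite (Y.residueField y) Γ(f.fiber y, ⊤) := hcfin
  let θa : Fin m → (Γ(f.fiber y, ⊤) →ₐ[Y.residueField y] K) := fun i =>
    { (θ i).hom with
      commutes' := fun r =>
        congrArg (fun χ : Y.residueField y ⟶ CommRingCat.of K => χ.hom r) (hcθ i) }
  obtain ⟨E, hEfin, hE⟩ := exists_finite_intermediateField θa
  let θ' : Fin m → (Γ(f.fiber y, ⊤) →+* E) := fun i =>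
    (θ i).hom.codRestrict E.toSubring (fun r => hE i r)
  let incl : E →+* K := E.toSubring.subtype
  have hθ' : ∀ i, CommRingCat.ofHom (θ' i) ≫ CommRingCat.ofHom incl = θ i := by
    intro i
    ext r
    rfl
  let ε : Y.residueField y ⟶ CommRingCat.of E := CommRingCat.ofHom (algebraMap (Y.residueField y) E)
  have hεincl : ε ≫ CommRingCat.ofHom incl = φ := by
    ext r
    rfl
  have hcθ' : ∀ i, c ≫ CommRingCat.ofHom (θ' i) = ε := by
    intro i
    ext r
    exact congrArg (fun χ : Y.residueField y ⟶ CommRingCat.of K => χ.hom r) (hcθ i)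
  let t' : Fin m → (Spec (CommRingCat.of E) ⟶ f.fiber y) := fun i =>
    Spec.map (CommRingCat.ofHom (θ' i)) ≫ (f.fiber y).isoSpec.inv
  have ht' : ∀ i, Spec.map (CommRingCat.ofHom incl) ≫ t' i = t i := by
    intro i
    rw [eq_SpecMap_isoSpec_inv (t i)]
    simp only [t', ← Category.assoc, ← Spec.map_comp]
    rw [hθ' i]
  have ht'2 : ∀ i, t' i ≫ f.fiberToSpecResidueField y = Spec.map ε := by
    intro i
    simp only [t', Category.assoc]
    rw [← Scheme.isoSpec_inv_naturality, Scheme.isoSpec_Spec_inv, ← Spec.map_comp,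
      ← Spec.map_comp, ← hcθ' i]
  refine ⟨E, inferInstance, ε, fun i => t' i ≫ f.fiberι y, ?_, ?_, ?_⟩
  · exact hEfin
  · intro i
    rw [Category.assoc, f.fiber_fac, ← Category.assoc, ht'2 i]
  · intro i j hij
    apply hinj
    have hij' : t' i ≫ f.fiberι y = t' j ≫ f.fiberι y := hij
    have h3 : ∀ i, Spec.map (CommRingCat.ofHom incl) ≫ (t' i ≫ f.fiberι y) = w i := by
      intro i
      rw [← Category.assoc, ht' i, ht1 i]
    rw [← h3 i, ← h3 j, hij']

end Groth.Agent.Helper3.LscQ
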