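import Mathlib
import Groth.Prelude
import Groth.Agent.Helper3.LscQ2

set_option autoImplicit false
set_option linter.style.haveILetI false
set_option linter.unusedSectionVars false
set_option linter.unusedVariables false
set_option linter.deprecated false
set_option linter.style.haveILetI false
set_option linter.unusedSectionVars false
set_option linter.unusedVariables false

open CategoryTheory CategoryTheory.Limits AlgebraicGeometry Opposite

universe u

namespace Groth.Agent.Helper3.LscQ

open Groth.Agent.Helper3.Lsc (HasDistinctLifts epi_SpecMap_of_field natCast_le_card_iff)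

/-- a field-valued point factors through the residue field of its image point -/
theorem exists_factor_residueField {W : Scheme.{u}} {K : Type u} [Field K]
    (w : Spec (CommRingCat.of K) ⟶ W) (x : W) (hx : w (IsLocalRing.closedPoint K) = x) :
    ∃ φ : W.residueField x ⟶ CommRingCat.of K, Spec.map φ ≫ W.fromSpecResidueField x = w := by
  subst hx
  exact ⟨Scheme.descResidueField (Scheme.stalkClosedPointTo w),
    Scheme.descResidueField_stalkClosedPointTo_fromSpecResidueField K W w⟩

theorem section_ext_aux {F : Scheme.{u}} {K : Type u} [Field K]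
    (p : F ⟶ Spec (CommRingCat.of K)) (x : F) (φ φ' : F.residueField x ⟶ CommRingCat.of K)
    (hσ : (Spec.map φ ≫ F.fromSpecResidueField x) ≫ p = 𝟙 _)
    (hσ' : (Spec.map φ' ≫ F.fromSpecResidueField x) ≫ p = 𝟙 _) : φ = φ' := by
  let q : Spec (F.residueField x) ⟶ Spec (CommRingCat.of K) := F.fromSpecResidueField x ≫ p
  let px : CommRingCat.of K ⟶ F.residueField x := Spec.preimage q
  have hq : Spec.map px = q := Spec.map_preimage q
  have h1 : px ≫ φ = 𝟙 _ := by
    apply Spec.map_injective
    rw [Spec.map_comp, hq, Spec.map_id]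
    show Spec.map φ ≫ F.fromSpecResidueField x ≫ p = _
    rw [← Category.assoc, hσ]
  have h2 : px ≫ φ' = 𝟙 _ := by
    apply Spec.map_injective
    rw [Spec.map_comp, hq, Spec.map_id]
    show Spec.map φ' ≫ F.fromSpecResidueField x ≫ p = _
    rw [← Category.assoc, hσ']
  haveI : Mono φ' := ConcreteCategory.mono_of_injective _ (φ'.hom.injective)
  have h3 : φ' ≫ px = 𝟙 _ := by
    rw [← cancel_mono φ', Category.assoc, h2, Category.comp_id, Category.id_comp]
  calc φ = (φ' ≫ px) ≫ φ := by rw [h3, Category.id_comp]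
    _ = φ' ≫ (px ≫ φ) := Category.assoc _ _ _
    _ = φ' := by rw [h1, Category.comp_id]

/-- two sections of a scheme over a field with the same image point agree -/
theorem section_ext {F : Scheme.{u}} {K : Type u} [Field K] (p : F ⟶ Spec (CommRingCat.of K))
    (σ σ' : Spec (CommRingCat.of K) ⟶ F) (hσ : σ ≫ p = 𝟙 _) (hσ' : σ' ≫ p = 𝟙 _)
    (hpt : σ (IsLocalRing.closedPoint K) = σ' (IsLocalRing.closedPoint K)) : σ = σ' := by
  obtain ⟨φ, hφ⟩ := exists_factor_residueField σ _ hpt
  obtain ⟨φ', hφ'⟩ := exists_factor_residueField σ' _ rfl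
  have h4 : φ = φ' := section_ext_aux p _ φ φ' (by rw [hφ]; exact hσ) (by rw [hφ']; exact hσ')
  calc σ = _ := hφ.symm
    _ = _ := by rw [h4]
    _ = σ' := hφ'

/-- `m` distinct field-valued points over a monomorphism `Spec K ⟶ S` give `m` distinct points of
the fibre. -/
theorem le_card_fiber_of_lifts {W S : Scheme.{u}} (h : W ⟶ S) {K : Type u} [Field K]
    (j₀ : Spec (CommRingCat.of K) ⟶ S) [Mono j₀] (s : S)
    (hs : j₀ (IsLocalRing.closedPoint K) = s) {m : ℕ}
    (w : Fin m → (Spec (CommRingCat.of K) ⟶ W)) (hw : ∀ i, w i ≫ h = j₀)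
    (hinj : Function.Injective w) :
    (m : ℕ∞) ≤ ENat.card ↥(h.fiber s) := by
  let u : Fin m → (Spec (CommRingCat.of K) ⟶ pullback h j₀) := fun i =>
    pullback.lift (w i) (𝟙 _) (by rw [hw i, Category.id_comp])
  have hu1 : ∀ i, u i ≫ pullback.fst h j₀ = w i := fun i => pullback.lift_fst _ _ _
  have hu2 : ∀ i, u i ≫ pullback.snd h j₀ = 𝟙 _ := fun i => pullback.lift_snd _ _ _
  have hfst : Function.Injective (pullback.fst h j₀) := (pullback.fst h j₀).injective
  have hmem : ∀ i, w i (IsLocalRing.closedPoint K) ∈ h ⁻¹' {s} := by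
    intro i
    show h (w i (IsLocalRing.closedPoint K)) = s
    rw [← Scheme.Hom.comp_apply, hw i, hs]
  rw [natCast_le_card_iff]
  refine ⟨fun i => (h.fiberHomeo s).symm ⟨w i (IsLocalRing.closedPoint K), hmem i⟩, ?_⟩
  intro i j hij
  have h1 := (h.fiberHomeo s).symm.injective hij
  have h2 : w i (IsLocalRing.closedPoint K) = w j (IsLocalRing.closedPoint K) :=
    congrArg Subtype.val h1
  have h3 : u i (IsLocalRing.closedPoint K) = u j (IsLocalRing.closedPoint K) := by
    apply hfst
    rw [← Scheme.Hom.comp_apply, ← Scheme.Hom.comp_apply, hu1 i, hu1 j, h2]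
  have h4 : u i = u j := section_ext (pullback.snd h j₀) (u i) (u j) (hu2 i) (hu2 j) h3
  apply hinj
  rw [← hu1 i, ← hu1 j, h4]

end Groth.Agent.Helper3.LscQ
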