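import Mathlib
import Groth.Prelude
import Groth.Agent.Helper3.LscQ2
import Groth.Agent.Helper3.LscQ4
import Groth.Agent.Helper3.MonoRes

set_option autoImplicit false
set_option linter.style.haveILetI false
set_option linter.unusedSectionVars false
set_option linter.unusedVariables false
set_option linter.deprecated false
set_option linter.style.haveILetI false
set_option linter.unusedSectionVars false
set_option linter.unusedVariables false

open CategoryTheory CategoryTheory.Limits AlgebraicGeometry Opposite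

universe u

namespace Groth.Agent.Helper3.LscR

open Groth.Agent.Helper3.Lsc (HasDistinctLifts epi_SpecMap_of_field natCast_le_card_iff)
open Groth.Agent.Helper3.LscQ

/-- the set of `Ω`-points of `W` over a given `Ω`-point of `Y` -/
abbrev Pts {W Y : Scheme.{u}} (g : W ⟶ Y) {Ω : Type u} [Field Ω]
    (ζ : Spec (CommRingCat.of Ω) ⟶ Y) : Type u :=
  {w : Spec (CommRingCat.of Ω) ⟶ W // w ≫ g = ζ}

/-- over an algebraically closed field, the number of points over `ζ` is the geometric number of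
points of the fibre -/
theorem card_pts_eq {W Y : Scheme.{u}} (g : W ⟶ Y) [LocallyQuasiFinite g] [QuasiCompact g]
    {Ω : Type u} [Field Ω] [IsAlgClosed Ω] (ζ : Spec (CommRingCat.of Ω) ⟶ Y) (z : Y)
    (hz : ζ (IsLocalRing.closedPoint Ω) = z) :
    ENat.card (Pts g ζ) = MoreMor.nGeomConnComp g z := by
  apply le_antisymm
  · rw [← ENat.forall_natCast_le_iff_le]
    intro m hm
    rw [natCast_le_card_iff] at hm
    obtain ⟨p, hp⟩ := hm
    apply le_nGeomConnComp_of_hasDistinctLifts g z m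
    refine ⟨Ω, inferInstance, ζ, fun i => (p i).1, fun i => (p i).2, ?_, hz⟩
    intro i j hij
    exact hp (Subtype.ext hij)
  · obtain ⟨m, hm⟩ := ENat.ne_top_iff_exists.mp (nGeomConnComp_ne_top g z)
    rw [← hm, natCast_le_card_iff]
    obtain ⟨E, _, ε₀, w, hεfin, hw, hwinj⟩ := exists_finite_lifts g z m
      (hasDistinctLifts_of_le g z m (le_of_eq hm))
    obtain ⟨φ, hφ⟩ := exists_factor_residueField ζ z hz
    letI : Algebra (Y.residueField z) Ω := φ.hom.toAlgebra
    letI : Algebra (Y.residueField z) E := ε₀.hom.toAlgebra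
    haveI : Module.Finite (Y.residueField z) E := hεfin
    haveI : Algebra.IsAlgebraic (Y.residueField z) E := Algebra.IsAlgebraic.of_finite _ _
    let σ : E →ₐ[Y.residueField z] Ω := IsAlgClosed.lift
    have hσ : ε₀ ≫ CommRingCat.ofHom σ.toRingHom = φ := by
      ext r
      exact σ.commutes r
    refine ⟨fun i => ⟨Spec.map (CommRingCat.ofHom σ.toRingHom) ≫ w i, ?_⟩, ?_⟩
    · rw [Category.assoc, hw i, ← Category.assoc, ← Spec.map_comp, hσ, hφ]
    · intro i j hij
      have h1 : Spec.map (CommRingCat.ofHom σ.toRingHom) ≫ w i =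
          Spec.map (CommRingCat.ofHom σ.toRingHom) ≫ w j := congrArg Subtype.val hij
      haveI := epi_SpecMap_of_field σ.toRingHom
      exact hwinj ((cancel_epi _).mp h1)

/-- points of a subobject over `ζ` are the points of the ambient scheme lying in its range -/
theorem card_pts_comp {W X Y : Scheme.{u}} (i : W ⟶ X) [Mono i] (f : X ⟶ Y)
    {Ω : Type u} [Field Ω] (ζ : Spec (CommRingCat.of Ω) ⟶ Y) :
    ENat.card (Pts (i ≫ f) ζ) =
      {w : Pts f ζ | w.1 (IsLocalRing.closedPoint Ω) ∈ Set.range i}.encard := by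
  let S : Set (Pts f ζ) := {w : Pts f ζ | w.1 (IsLocalRing.closedPoint Ω) ∈ Set.range i}
  let F : Pts (i ≫ f) ζ → ↥S := fun w' =>
    ⟨⟨w'.1 ≫ i, by rw [Category.assoc]; exact w'.2⟩,
      ⟨w'.1 (IsLocalRing.closedPoint Ω), (Scheme.Hom.comp_apply _ _ _).symm⟩⟩
  have hF : Function.Bijective F := by
    constructor
    · intro a b hab
      have h1 : a.1 ≫ i = b.1 ≫ i := congrArg (fun t : ↥S => t.1.1) hab
      exact Subtype.ext ((cancel_mono i).mp h1)
    · rintro ⟨⟨w, hw⟩, ⟨t, ht⟩⟩
      obtain ⟨l, hl⟩ := Groth.Agent.Helper3.MonoRes.exists_lift_field_point i t Ω w ht.symm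
      refine ⟨⟨l, by rw [← Category.assoc, hl]; exact hw⟩, ?_⟩
      apply Subtype.ext
      apply Subtype.ext
      exact hl
  exact ENat.card_congr (Equiv.ofBijective F hF)

/-- two closed subschemes covering the fibre over `f x` and both containing `x`: the geometric
number of points of the fibre is strictly smaller than the sum for the two pieces -/
theorem n_add_one_le {X Y W₁ W₂ : Scheme.{u}} (f : X ⟶ Y) [LocallyQuasiFinite f] [QuasiCompact f]
    (i₁ : W₁ ⟶ X) (i₂ : W₂ ⟶ X) [IsClosedImmersion i₁] [IsClosedImmersion i₂] (x : X)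
    (hx₁ : x ∈ Set.range i₁) (hx₂ : x ∈ Set.range i₂)
    (hcov : ∀ t : X, f t = f x → t ∈ Set.range i₁ ∨ t ∈ Set.range i₂) :
    MoreMor.nGeomConnComp f (f x) + 1 ≤
      MoreMor.nGeomConnComp (i₁ ≫ f) (f x) + MoreMor.nGeomConnComp (i₂ ≫ f) (f x) := by
  let Ω := AlgebraicClosure (X.residueField x)
  let wx : Spec (CommRingCat.of Ω) ⟶ X :=
    Spec.map (CommRingCat.ofHom (algebraMap (X.residueField x) Ω)) ≫ X.fromSpecResidueField x
  let ζ : Spec (CommRingCat.of Ω) ⟶ Y := wx ≫ f
  have hwx : wx (IsLocalRing.closedPoint Ω) = x := by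
    show (Spec.map (CommRingCat.ofHom (algebraMap (X.residueField x) Ω)) ≫
      X.fromSpecResidueField x) (IsLocalRing.closedPoint Ω) = x
    rw [Scheme.Hom.comp_apply, Scheme.fromSpecResidueField_apply]
  have hz : ζ (IsLocalRing.closedPoint Ω) = f x := by
    simp only [ζ, Scheme.Hom.comp_apply, hwx]
  rw [← card_pts_eq f ζ (f x) hz, ← card_pts_eq (i₁ ≫ f) ζ (f x) hz,
    ← card_pts_eq (i₂ ≫ f) ζ (f x) hz, card_pts_comp i₁ f ζ, card_pts_comp i₂ f ζ]
  set S₁ : Set (Pts f ζ) := {w : Pts f ζ | w.1 (IsLocalRing.closedPoint Ω) ∈ Set.range i₁}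
  set S₂ : Set (Pts f ζ) := {w : Pts f ζ | w.1 (IsLocalRing.closedPoint Ω) ∈ Set.range i₂}
  have hpt : ∀ w : Pts f ζ, f (w.1 (IsLocalRing.closedPoint Ω)) = f x := by
    intro w
    rw [← Scheme.Hom.comp_apply, w.2, hz]
  have hU : S₁ ∪ S₂ = Set.univ := by
    apply Set.eq_univ_of_forall
    intro w
    exact hcov _ (hpt w)
  have h1 := Set.encard_union_add_encard_inter S₁ S₂
  rw [hU, Set.encard_univ] at h1
  have h2 : 1 ≤ (S₁ ∩ S₂).encard := by
    rw [Set.one_le_encard_iff_nonempty]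
    refine ⟨⟨wx, rfl⟩, ?_, ?_⟩
    · show wx (IsLocalRing.closedPoint Ω) ∈ Set.range i₁
      rw [hwx]; exact hx₁
    · show wx (IsLocalRing.closedPoint Ω) ∈ Set.range i₂
      rw [hwx]; exact hx₂
  rw [← h1]
  exact add_le_add_right h2 _

/-- two closed subschemes with no common point over `η`: the sum of the geometric numbers of
points is at most that of the ambient scheme -/
theorem n_add_le {X Y W₁ W₂ : Scheme.{u}} (f : X ⟶ Y) [LocallyQuasiFinite f] [QuasiCompact f]
    (i₁ : W₁ ⟶ X) (i₂ : W₂ ⟶ X) [IsClosedImmersion i₁] [IsClosedImmersion i₂] (η : Y)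
    (hdis : ∀ t : X, f t = η → t ∈ Set.range i₁ → t ∈ Set.range i₂ → False) :
    MoreMor.nGeomConnComp (i₁ ≫ f) η + MoreMor.nGeomConnComp (i₂ ≫ f) η ≤
      MoreMor.nGeomConnComp f η := by
  let Ω := AlgebraicClosure (Y.residueField η)
  let ζ : Spec (CommRingCat.of Ω) ⟶ Y :=
    Spec.map (CommRingCat.ofHom (algebraMap (Y.residueField η) Ω)) ≫ Y.fromSpecResidueField η
  have hz : ζ (IsLocalRing.closedPoint Ω) = η := by
    show (Spec.map (CommRingCat.ofHom (algebraMap (Y.residueField η) Ω)) ≫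
      Y.fromSpecResidueField η) (IsLocalRing.closedPoint Ω) = η
    rw [Scheme.Hom.comp_apply, Scheme.fromSpecResidueField_apply]
  rw [← card_pts_eq f ζ η hz, ← card_pts_eq (i₁ ≫ f) ζ η hz,
    ← card_pts_eq (i₂ ≫ f) ζ η hz, card_pts_comp i₁ f ζ, card_pts_comp i₂ f ζ]
  set S₁ : Set (Pts f ζ) := {w : Pts f ζ | w.1 (IsLocalRing.closedPoint Ω) ∈ Set.range i₁}
  set S₂ : Set (Pts f ζ) := {w : Pts f ζ | w.1 (IsLocalRing.closedPoint Ω) ∈ Set.range i₂}
  have hpt : ∀ w : Pts f ζ, f (w.1 (IsLocalRing.closedPoint Ω)) = η := by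
    intro w
    rw [← Scheme.Hom.comp_apply, w.2, hz]
  have hD : Disjoint S₁ S₂ := by
    rw [Set.disjoint_left]
    intro w h1 h2
    exact hdis _ (hpt w) h1 h2
  rw [← Set.encard_union_eq hD, ← Set.encard_univ]
  exact Set.encard_mono (Set.subset_univ _)

end Groth.Agent.Helper3.LscR
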