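import Mathlib
import Groth.Prelude
import Groth.Agent.Helper3.SteinG5

set_option autoImplicit false
set_option linter.style.haveILetI false
set_option linter.unusedSectionVars false
set_option linter.unusedVariables false
set_option linter.deprecated false
set_option linter.style.haveILetI false
set_option linter.unusedSectionVars false
set_option linter.unusedVariables false

open CategoryTheory CategoryTheory.Limits AlgebraicGeometry Opposite

universe u

namespace Groth.Agent.Helper3.SteinK

/-- The base change of the first factor of a factorization `f = p ≫ ν`. -/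
noncomputable def bcLift {X N S Z : Scheme.{u}} (f : X ⟶ S) (p : X ⟶ N) (ν : N ⟶ S)
    (hw : p ≫ ν = f) (y : Z ⟶ S) : pullback f y ⟶ pullback ν y :=
  pullback.lift (pullback.fst f y ≫ p) (pullback.snd f y)
    (by rw [Category.assoc, hw, pullback.condition])

theorem bcLift_fst {X N S Z : Scheme.{u}} (f : X ⟶ S) (p : X ⟶ N) (ν : N ⟶ S)
    (hw : p ≫ ν = f) (y : Z ⟶ S) :
    bcLift f p ν hw y ≫ pullback.fst ν y = pullback.fst f y ≫ p := pullback.lift_fst _ _ _

theorem bcLift_snd {X N S Z : Scheme.{u}} (f : X ⟶ S) (p : X ⟶ N) (ν : N ⟶ S)
    (hw : p ≫ ν = f) (y : Z ⟶ S) :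
    bcLift f p ν hw y ≫ pullback.snd ν y = pullback.snd f y := pullback.lift_snd _ _ _

theorem isPullback_bcLift {X N S Z : Scheme.{u}} (f : X ⟶ S) (p : X ⟶ N) (ν : N ⟶ S)
    (hw : p ≫ ν = f) (y : Z ⟶ S) :
    IsPullback (bcLift f p ν hw y) (pullback.fst f y) (pullback.fst ν y) p := by
  have outer : IsPullback (bcLift f p ν hw y ≫ pullback.snd ν y) (pullback.fst f y) y
      (p ≫ ν) := by
    rw [bcLift_snd, hw]; exact (IsPullback.of_hasPullback f y).flip
  exact IsPullback.of_right outer (bcLift_fst f p ν hw y) (IsPullback.of_hasPullback ν y).flip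

/-- A Noetherian space has finitely many connected components. -/
theorem finite_connectedComponents_of_noetherianSpace (α : Type*) [TopologicalSpace α]
    [TopologicalSpace.NoetherianSpace α] : Finite (_root_.ConnectedComponents α) := by
  have hfin : (irreducibleComponents α).Finite :=
    TopologicalSpace.NoetherianSpace.finite_irreducibleComponents
  haveI : Finite (irreducibleComponents α) := hfin
  have hne : ∀ Z : irreducibleComponents α, (Z : Set α).Nonempty := fun Z => Z.2.1.1
  let g : irreducibleComponents α → _root_.ConnectedComponents α :=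
    fun Z => ConnectedComponents.mk (hne Z).some
  refine Finite.of_surjective g ?_
  intro c
  obtain ⟨x, rfl⟩ := ConnectedComponents.surjective_coe c
  refine ⟨⟨irreducibleComponent x, irreducibleComponent_mem_irreducibleComponents x⟩, ?_⟩
  show ConnectedComponents.mk _ = ConnectedComponents.mk x
  rw [ConnectedComponents.coe_eq_coe']
  have hpre : _root_.IsPreconnected (irreducibleComponent x) :=
    isIrreducible_irreducibleComponent.isConnected.isPreconnected
  have h1 := hpre.subset_connectedComponent (mem_irreducibleComponent (x := x))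
  exact h1 (hne ⟨irreducibleComponent x, irreducibleComponent_mem_irreducibleComponents x⟩).some_mem

theorem main {X S : Scheme.{u}} (f : X ⟶ S) [IsProper f] (s : S) :
    MoreMor.nGeomConnComp f s < ⊤ ∧
      MoreMor.nGeomConnComp f s = MoreMor.nGeomConnComp f.fromNormalization s := by
  let p := f.toNormalization
  let ν := f.fromNormalization
  have hw : p ≫ ν = f := f.toNormalization_fromNormalization
  haveI : IsProper (p ≫ ν) := by rw [hw]; infer_instance
  haveI : IsProper p := IsProper.of_comp p ν
  haveI : Surjective p := inferInstance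
  haveI hgc : GeometricallyConnected p :=
    Groth.Agent.Helper3.SteinG.geometricallyConnected_of_isIso_app p
      (fun U => Groth.Agent.S1340.result f U)
  let y₀ := S.fromSpecResidueField s
  let k₀ := Spec.map (CommRingCat.ofHom
      (algebraMap (S.residueField s) (SeparableClosure (S.residueField s))))
  -- first base change
  let p₁ : pullback f y₀ ⟶ pullback ν y₀ := bcLift f p ν hw y₀
  have hp₁ : IsPullback p₁ (pullback.fst f y₀) (pullback.fst ν y₀) p := isPullback_bcLift f p ν hw y₀
  have hw₁ : p₁ ≫ pullback.snd ν y₀ = pullback.snd f y₀ := bcLift_snd f p ν hw y₀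
  -- second base change
  let p₂ : pullback (pullback.snd f y₀) k₀ ⟶ pullback (pullback.snd ν y₀) k₀ :=
    bcLift (pullback.snd f y₀) p₁ (pullback.snd ν y₀) hw₁ k₀
  have hp₂ : IsPullback p₂ (pullback.fst (pullback.snd f y₀) k₀)
      (pullback.fst (pullback.snd ν y₀) k₀) p₁ :=
    isPullback_bcLift (pullback.snd f y₀) p₁ (pullback.snd ν y₀) hw₁ k₀
  haveI : GeometricallyConnected p₁ :=
    MorphismProperty.of_isPullback (P := @GeometricallyConnected) hp₁.flip hgc
  haveI : IsProper p₁ := MorphismProperty.of_isPullback (P := @IsProper) hp₁.flip inferInstance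
  haveI : GeometricallyConnected p₂ :=
    MorphismProperty.of_isPullback (P := @GeometricallyConnected) hp₂.flip inferInstance
  haveI : IsProper p₂ := MorphismProperty.of_isPullback (P := @IsProper) hp₂.flip inferInstance
  have hco : Topology.IsCoinducing p₂.base :=
    (p₂.isClosedMap.isQuotientMap p₂.continuous p₂.surjective).isCoinducing
  let e : _root_.ConnectedComponents ↥(pullback (pullback.snd f y₀) k₀) ≃ₜ
      _root_.ConnectedComponents ↥(pullback (pullback.snd ν y₀) k₀) :=
    hco.connectedComponentsHomeomorph (fun x => p₂.isConnected_preimage_singleton x)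
  -- finiteness
  have hfin : Finite (_root_.ConnectedComponents ↥(pullback (pullback.snd f y₀) k₀)) := by
    haveI : IsProper (pullback.snd f y₀) := inferInstance
    haveI : IsProper (pullback.snd (pullback.snd f y₀) k₀) := inferInstance
    haveI : IsLocallyNoetherian (pullback (pullback.snd f y₀) k₀) :=
      LocallyOfFiniteType.isLocallyNoetherian (pullback.snd (pullback.snd f y₀) k₀)
    haveI : CompactSpace ↥(pullback (pullback.snd f y₀) k₀) :=
      QuasiCompact.compactSpace_of_compactSpace (pullback.snd (pullback.snd f y₀) k₀)
    haveI : IsNoetherian (pullback (pullback.snd f y₀) k₀) := {}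
    exact finite_connectedComponents_of_noetherianSpace _
  constructor
  · show ENat.card (_root_.ConnectedComponents ↥(pullback (pullback.snd f y₀) k₀)) < ⊤
    rw [ENat.card_lt_top]
    exact hfin
  · show ENat.card (_root_.ConnectedComponents ↥(pullback (pullback.snd f y₀) k₀)) =
      ENat.card (_root_.ConnectedComponents ↥(pullback (pullback.snd ν y₀) k₀))
    exact ENat.card_congr e.toEquiv

end Groth.Agent.Helper3.SteinK
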