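import Mathlib
import Groth.Prelude
import Groth.Agent.Helper3.LscB2
import Groth.Agent.Helper3.SteinK1

set_option autoImplicit false
set_option linter.style.haveILetI false
set_option linter.unusedSectionVars false
set_option linter.unusedVariables false
set_option linter.deprecated false
set_option linter.style.haveILetI false
set_option linter.unusedSectionVars false
set_option linter.unusedVariables false

open CategoryTheory CategoryTheory.Limits AlgebraicGeometry Opposite EGA43

universe u

namespace Groth.Agent.Helper3.Lsc

/-- Universal openness at the points of a fibre descends along a surjective first factor. -/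
theorem isUnivOpenAt_of_surjective_factor {X N Y : Scheme.{u}} (f : X ⟶ Y) (p : X ⟶ N)
    (ν : N ⟶ Y) (hw : p ≫ ν = f) [Surjective p] (n : N)
    (h : ∀ x : X, p x = n → IsUnivOpenAt f x) : IsUnivOpenAt ν n := by
  intro Y' g n' hn'
  let p' : pullback f g ⟶ pullback ν g := SteinK.bcLift f p ν hw g
  have hsq : IsPullback p' (pullback.fst f g) (pullback.fst ν g) p :=
    SteinK.isPullback_bcLift f p ν hw g
  have hp'2 : p' ≫ pullback.snd ν g = pullback.snd f g := SteinK.bcLift_snd f p ν hw g
  have hp'1 : p' ≫ pullback.fst ν g = pullback.fst f g ≫ p := SteinK.bcLift_fst f p ν hw g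
  haveI : Surjective p' := MorphismProperty.of_isPullback (P := @Surjective) hsq.flip inferInstance
  obtain ⟨x', hx'⟩ := p'.surjective n'
  have hx : p ((pullback.fst f g) x') = n := by
    rw [← Scheme.Hom.comp_apply, ← hp'1, Scheme.Hom.comp_apply, hx', hn']
  have hopen : IsOpenAt (pullback.snd f g).base x' := h _ hx Y' g x' rfl
  intro W hW
  have hW' : p'.base ⁻¹' W ∈ nhds x' := by
    apply p'.continuous.continuousAt
    rw [hx']; exact hW
  have h1 := hopen _ hW'
  have h2 : (pullback.snd f g) x' = (pullback.snd ν g) n' := by
    rw [← hp'2, Scheme.Hom.comp_apply, hx']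
  have h3 : (pullback.snd f g).base '' (p'.base ⁻¹' W) ⊆ (pullback.snd ν g).base '' W := by
    rintro _ ⟨q, hq, rfl⟩
    refine ⟨p' q, hq, ?_⟩
    rw [← Scheme.Hom.comp_apply, hp'2]
  rw [h2] at h1
  exact Filter.mem_of_superset h1 h3

/-- Lower semicontinuity at a point of the geometric number of connected components of the fibres
of a proper morphism that is universally open along the fibre. -/
theorem exists_nhds_le {X Y : Scheme.{u}} (f : X ⟶ Y) [IsProper f] (y : Y)
    (h : ∀ x : X, f x = y → IsUnivOpenAt f x) :
    ∃ V ∈ nhds y, ∀ z ∈ V, MoreMor.nGeomConnComp f y ≤ MoreMor.nGeomConnComp f z := by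
  let p := f.toNormalization
  let ν := f.fromNormalization
  have hw : p ≫ ν = f := f.toNormalization_fromNormalization
  haveI : IsProper (p ≫ ν) := by rw [hw]; infer_instance
  haveI : IsProper p := IsProper.of_comp p ν
  haveI : Surjective p := inferInstance
  haveI : IsIntegralHom ν := inferInstance
  haveI : IsSeparated ν := inferInstance
  obtain ⟨hfin, heq⟩ := SteinK.main f y
  obtain ⟨m, hm⟩ := ENat.ne_top_iff_exists.mp hfin.ne
  have hopen : ∀ n : f.normalization, ν n = y → IsUnivOpenAt ν n := by
    intro n hn
    apply isUnivOpenAt_of_surjective_factor f p ν hw n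
    intro x hx
    apply h
    rw [← hw, Scheme.Hom.comp_apply, hx, hn]
  have hdl : HasDistinctLifts ν m y := by
    apply hasDistinctLifts_of_le
    rw [hm, ← heq]
  have hev := eventually_hasDistinctLifts m ν y hopen hdl
  refine ⟨_, hev, ?_⟩
  intro z hz
  have h1 := le_nGeomConnComp_of_hasDistinctLifts ν z m hz
  rw [← hm, (SteinK.main f z).2]
  exact h1

/-- A flat morphism locally of finite presentation is universally open at every point. -/
theorem isUnivOpenAt_of_universallyOpen {X Y : Scheme.{u}} (f : X ⟶ Y) [UniversallyOpen f]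
    (x : X) : IsUnivOpenAt f x := by
  intro Y' g x' _ U hU
  exact (pullback.snd f g).isOpenMap.image_mem_nhds hU

theorem lowerSemicontinuous_of_universallyOpen {X Y : Scheme.{u}} (f : X ⟶ Y) [IsProper f]
    [UniversallyOpen f] :
    LowerSemicontinuous (fun s : ↑Y => MoreMor.nGeomConnComp f s) := by
  intro y a ha
  obtain ⟨V, hV, hle⟩ := exists_nhds_le f y (fun x _ => isUnivOpenAt_of_universallyOpen f x)
  exact Filter.mem_of_superset hV (fun z hz => lt_of_lt_of_le ha (hle z hz))

end Groth.Agent.Helper3.Lsc
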