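import Mathlib
import Groth.Agent.S1662
import Groth.Agent.S1686
import Groth.Agent.Helper2.TopDim

set_option autoImplicit false
set_option linter.style.haveILetI false
set_option linter.unusedSectionVars false
set_option linter.unusedVariables false
set_option linter.style.haveILetI false
set_option linter.unusedSectionVars false
set_option linter.unusedVariables false

open AlgebraicGeometry CategoryTheory CategoryTheory.Limits TopologicalSpace

universe u

namespace Groth.Agent.Helper3.RelDivFin

/-- the closed subscheme of an effective Cartier divisor is locally of finite presentation -/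
theorem lofp_subschemeι {X : Scheme.{u}} (𝓘 : X.IdealSheafData)
    (h : BlowUp.IsEffCartierIdeal 𝓘) : LocallyOfFinitePresentation 𝓘.subschemeι := by
  rw [HasRingHomProperty.iff_exists_appLE (P := @LocallyOfFinitePresentation)
    (RingHom.finitePresentation_stableUnderComposition.stableUnderCompositionWithLocalizationAway
      RingHom.finitePresentation_holdsForLocalizationAway).left]
  intro x
  obtain ⟨U, hxU, f, hf, hI⟩ := h (𝓘.subschemeι x)
  refine ⟨U, ⟨𝓘.subschemeι ⁻¹ᵁ U.1, U.2.preimage _⟩, hxU, le_rfl, ?_⟩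
  rw [← Scheme.Hom.app_eq_appLE]
  refine RingHom.FinitePresentation.of_surjective _ (𝓘.subschemeι_app_surjective U) ?_
  rw [𝓘.ker_subschemeι_app U, hI]
  exact ⟨{f}, by simp⟩

/-- an effective Cartier divisor in a noetherian scheme of dimension `≤ 1` is finite -/
theorem finite_of_dim_le_one {F : Scheme.{u}} [IsNoetherian F]
    (hdim : topologicalKrullDim F ≤ 1) (𝓘 : F.IdealSheafData)
    (h : BlowUp.IsEffCartierIdeal 𝓘) : Finite ↥𝓘.subscheme := by
  haveI : IsLocallyNoetherian 𝓘.subscheme :=
    LocallyOfFiniteType.isLocallyNoetherian 𝓘.subschemeι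
  haveI : CompactSpace 𝓘.subscheme := QuasiCompact.compactSpace_of_compactSpace 𝓘.subschemeι
  haveI : IsNoetherian 𝓘.subscheme := {}
  have hle : topologicalKrullDim ↥𝓘.subscheme ≤ 0 := by
    rw [Groth.Agent.Helper2.TopDim.dim_eq_iSup_localDim]
    apply iSup_le
    intro d
    have h1 : FlatMor.localDim ↥F (𝓘.subschemeι d) ≤ 1 :=
      (Groth.Agent.Helper2.TopDim.localDim_le_dim _).trans hdim
    have h2 : FlatMor.localDim ↥F (𝓘.subschemeι d) ≠ ⊤ := by
      intro htop
      rw [htop] at h1
      exact absurd h1 (by decide)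
    have h3 := Groth.Agent.S1686.result F 𝓘 h d h2
    exact Groth.Agent.Helper2.TopDim.withBotENat_lt_one (h3.trans_le h1)
  exact (Groth.Agent.Helper2.TopDim.finite_discrete_of_dim_le_zero _ hle).1

/-- a relative effective Cartier divisor on a proper relative curve is finite over the base -/
theorem isFinite_of_relCurve {X S : Scheme.{u}} (φ : X ⟶ S) [IsProper φ]
    (hdim : ∀ s : S, topologicalKrullDim ↥(φ.fiber s) ≤ 1) (𝓓 : X.IdealSheafData)
    (hD : BlowUp.IsEffCartierIdeal 𝓓) [Flat (𝓓.subschemeι ≫ φ)] :
    IsFinite (𝓓.subschemeι ≫ φ) := by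
  haveI : LocallyQuasiFinite (𝓓.subschemeι ≫ φ) := by
    apply LocallyQuasiFinite.of_finite_preimage_singleton
    intro s
    have hC : BlowUp.IsEffCartierIdeal (𝓓.comap (φ.fiberι s)) :=
      Groth.Agent.S1662.result φ 𝓓 hD (S.fromSpecResidueField s)
    haveI : LocallyOfFiniteType (φ.fiberToSpecResidueField s) :=
      inferInstanceAs (LocallyOfFiniteType (pullback.snd φ (S.fromSpecResidueField s)))
    haveI : IsLocallyNoetherian (φ.fiber s) :=
      LocallyOfFiniteType.isLocallyNoetherian (φ.fiberToSpecResidueField s)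
    haveI : IsNoetherian (φ.fiber s) := {}
    haveI hfin : Finite ↥(𝓓.comap (φ.fiberι s)).subscheme :=
      finite_of_dim_le_one (hdim s) _ hC
    haveI : Finite ↥(pullback (φ.fiberι s) 𝓓.subschemeι) :=
      Finite.of_equiv _ (Scheme.homeoOfIso (𝓓.comapIso (φ.fiberι s))).toEquiv
    refine (Set.finite_range (pullback.snd (φ.fiberι s) 𝓓.subschemeι)).subset ?_
    intro d hd
    have hd' : φ (𝓓.subschemeι d) = s := hd
    have hmem : 𝓓.subschemeι d ∈ Set.range (φ.fiberι s) := by
      rw [Scheme.Hom.range_fiberι]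
      exact hd'
    obtain ⟨e, he⟩ := hmem
    obtain ⟨z, -, hz⟩ := Scheme.Pullback.exists_preimage_pullback e d he
    exact ⟨z, hz⟩
  exact IsFinite.of_isProper_of_locallyQuasiFinite _

end Groth.Agent.Helper3.RelDivFin
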