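import Mathlib
import Groth.Agent.Helper3.RelDivFin
import Groth.Agent.Helper3.FibIrr5
import Groth.Agent.S8847
import Groth.Agent.S1570
import Groth.Agent.Helper5.SmRelDim1
import Groth.Agent.Helper2.SmoothRegSch
import Groth.Agent.Helper5.ProdDim
import Groth.Agent.Helper5.DimIneq2
import Groth.Agent.Lead.RegLocal

set_option autoImplicit false
set_option linter.style.haveILetI false
set_option linter.unusedSectionVars false
set_option linter.unusedVariables false
set_option linter.style.haveILetI false
set_option linter.unusedSectionVars false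
set_option linter.unusedVariables false

open AlgebraicGeometry CategoryTheory CategoryTheory.Limits TopologicalSpace

universe u

namespace Groth.Agent.Helper3.RelDivCurve

/-- a regular local ring of dimension at most one is a principal ideal ring -/
theorem pid_of_regular_dim_le_one (R : Type u) [CommRing R] [IsRegularLocalRing R]
    (h : ringKrullDim R ≤ 1) : IsPrincipalIdealRing R := by
  haveI : IsDomain R := Groth.Agent.Lead.RegLocal.isDomain_of_isRegularLocalRing R
  have h1 := (IsRegularLocalRing.iff_finrank_cotangentSpace R).mp inferInstance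
  rw [← h1] at h
  have h2 : Module.finrank (IsLocalRing.ResidueField R) (IsLocalRing.CotangentSpace R) ≤ 1 := by
    exact_mod_cast h
  exact ((tfae_of_isNoetherianRing_of_isLocalRing_of_isDomain (R := R)).out 0 5).mpr h2

/-- if an ideal sheaf of finite type vanishes in a stalk, the closed subscheme contains a
neighbourhood of the point -/
theorem exists_open_subset_support {X : Scheme.{u}} (𝓘 : X.IdealSheafData) (x : X)
    (U : X.affineOpens) (hxU : x ∈ U.1) (hfg : (𝓘.ideal U).FG)
    (h : (𝓘.ideal U).map (X.presheaf.germ U.1 x hxU).hom = ⊥) :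
    ∃ O : X.Opens, x ∈ O ∧ (O : Set X) ⊆ 𝓘.support := by
  classical
  obtain ⟨s, hs⟩ := hfg
  have hV : ∀ a ∈ s, ∃ V : X.Opens, x ∈ V ∧ V ≤ U.1 ∧ ∀ y ∈ V, y ∉ X.basicOpen a := by
    intro a ha
    have h0 : X.presheaf.germ U.1 x hxU a = X.presheaf.germ U.1 x hxU 0 := by
      rw [map_zero]
      have : (X.presheaf.germ U.1 x hxU).hom a ∈
          (𝓘.ideal U).map (X.presheaf.germ U.1 x hxU).hom :=
        Ideal.mem_map_of_mem _ (hs ▸ Ideal.subset_span ha)
      rw [h] at this
      exact this
    obtain ⟨W, hxW, iU, iV, hW⟩ := X.presheaf.germ_eq x hxU hxU a 0 h0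
    refine ⟨W, hxW, iU.le, fun y hy hya => ?_⟩
    have h1 : y ∈ X.basicOpen (X.presheaf.map iU.op a) := by
      rw [Scheme.basicOpen_res]
      exact ⟨hy, hya⟩
    rw [hW, map_zero, Scheme.basicOpen_zero] at h1
    exact h1
  choose! V hxV hVU hV using hV
  refine ⟨⟨(U.1 : Set X) ∩ ⋂ a ∈ s, (V a : Set X),
    U.1.2.inter (isOpen_biInter_finset fun a _ => (V a).2)⟩, ⟨hxU, ?_⟩, ?_⟩
  · exact Set.mem_iInter₂.mpr fun a ha => hxV a ha
  · rintro y ⟨hyU, hyV⟩
    change y ∈ 𝓘.support
    rw [Scheme.IdealSheafData.mem_support_iff_of_mem hyU, ← hs, Scheme.zeroLocus_span,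
      Scheme.mem_zeroLocus_iff]
    intro a ha
    exact hV a ha y (Set.mem_iInter₂.mp hyV a ha)

/-- a point with a neighbourhood inside a discrete closed subscheme is open -/
theorem isOpen_singleton_of_subset_support {X : Scheme.{u}} (𝓘 : X.IdealSheafData)
    [DiscreteTopology ↥𝓘.subscheme] (O : X.Opens) (hO : (O : Set X) ⊆ 𝓘.support) (x : X)
    (hx : x ∈ O) : IsOpen ({x} : Set X) := by
  have hxr : x ∈ Set.range 𝓘.subschemeι := by
    rw [Scheme.IdealSheafData.range_subschemeι]; exact hO hx
  obtain ⟨w, rfl⟩ := hxr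
  have hcl : IsClosed (𝓘.subschemeι '' ({w}ᶜ : Set ↥𝓘.subscheme)) :=
    𝓘.subschemeι.isClosedEmbedding.isClosedMap _ (isClosed_discrete _)
  have heq : ({𝓘.subschemeι w} : Set X) = (O : Set X) ∩ (𝓘.subschemeι '' ({w}ᶜ : Set ↥𝓘.subscheme))ᶜ := by
    ext y
    constructor
    · rintro rfl
      refine ⟨hx, ?_⟩
      rintro ⟨w', hw', hww'⟩
      exact hw' (𝓘.subschemeι.isClosedEmbedding.injective hww')
    · rintro ⟨hyO, hy⟩
      have hyr : y ∈ Set.range 𝓘.subschemeι := by
        rw [Scheme.IdealSheafData.range_subschemeι]; exact hO hyO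
      obtain ⟨w', rfl⟩ := hyr
      by_contra hne
      refine hy ⟨w', ?_, rfl⟩
      intro h
      exact hne (by rw [Set.mem_singleton_iff.mp h]; rfl)
  rw [heq]
  exact O.2.inter hcl.isOpen_compl

/-- an open point has local dimension at most zero -/
theorem localDim_le_zero_of_isOpen_singleton {T : Type*} [TopologicalSpace T] (x : T)
    (h : IsOpen ({x} : Set T)) : FlatMor.localDim T x ≤ 0 := by
  unfold FlatMor.localDim
  refine (iInf_le _ ⟨⟨{x}, h⟩, rfl⟩).trans ?_
  haveI : Subsingleton ↥({x} : Set T) := ⟨fun a b => Subtype.ext (a.2.trans b.2.symm)⟩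
  exact Groth.Agent.Helper3.FibIrr5.dim_le_zero_of_subsingleton _

/-- a discrete closed subscheme of a smooth curve is an effective Cartier divisor -/
theorem effCartier_of_discrete (K : Type u) [Field K] (F : Scheme.{u})
    (q : F ⟶ Spec (CommRingCat.of K)) [Smooth q]
    (hloc : ∀ x : F, FlatMor.localDim ↥F x = 1) (𝓙 : F.IdealSheafData)
    [DiscreteTopology ↥𝓙.subscheme] : BlowUp.IsEffCartierIdeal 𝓙 := by
  haveI : IsLocallyNoetherian F := LocallyOfFiniteType.isLocallyNoetherian q
  apply Groth.Agent.S1570.result F 𝓙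
  intro x hx U hxU
  haveI : IsRegularLocalRing (F.presheaf.stalk x) :=
    Groth.Agent.Helper2.SmoothRegSch.stalk_regular_of_smooth K F q x
  haveI : IsDomain (F.presheaf.stalk x) :=
    Groth.Agent.Lead.RegLocal.isDomain_of_isRegularLocalRing _
  have hdim : ringKrullDim (F.presheaf.stalk x) ≤ 1 := by
    rw [AlgebraicGeometry.ringKrullDim_stalk_eq_coheight]
    exact (Groth.Agent.Helper5.OverField.coheight_le_localDim F x).trans (hloc x).le
  haveI : IsPrincipalIdealRing (F.presheaf.stalk x) := pid_of_regular_dim_le_one _ hdim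
  have hp := IsPrincipalIdealRing.principal
    ((𝓙.ideal U).map (F.presheaf.germ U x hxU).hom)
  obtain ⟨g, hg⟩ := hp
  have hg' : (𝓙.ideal U).map (F.presheaf.germ U x hxU).hom = Ideal.span {g} := hg
  refine ⟨g, mem_nonZeroDivisors_of_ne_zero ?_, hg'⟩
  rintro rfl
  have hbot : (𝓙.ideal U).map (F.presheaf.germ U x hxU).hom = ⊥ := by
    rw [hg']; simp
  haveI : IsNoetherianRing Γ(F, U.1) := IsLocallyNoetherian.component_noetherian U
  obtain ⟨O, hxO, hO⟩ := exists_open_subset_support 𝓙 x U hxU
    (IsNoetherian.noetherian _) hbot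
  have hopen := isOpen_singleton_of_subset_support 𝓙 O hO x hxO
  have := localDim_le_zero_of_isOpen_singleton x hopen
  rw [hloc x] at this
  exact absurd this (by decide)

/-- the pullback square computing the fibre of a closed subscheme -/
theorem isPullback_fibre {X S : Scheme.{u}} (f : X ⟶ S) (I : X.IdealSheafData) (s : S) :
    IsPullback (pullback.snd (f.fiberι s) I.subschemeι)
      (pullback.fst (f.fiberι s) I.subschemeι ≫ f.fiberToSpecResidueField s)
      (I.subschemeι ≫ f) (S.fromSpecResidueField s) :=
  (IsPullback.of_hasPullback (f.fiberι s) I.subschemeι).flip.paste_vert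
    (IsPullback.of_hasPullback f (S.fromSpecResidueField s))

/-- local dimension of the fibres of a smooth morphism of relative dimension one -/
theorem localDim_fibre {X S : Scheme.{u}} (f : X ⟶ S) [SmoothOfRelativeDimension 1 f] (s : S)
    (y : ↥(f.fiber s)) : FlatMor.localDim ↥(f.fiber s) y = 1 := by
  have key : ∀ (x : X) (s : S) (h : f x = s) (y : ↥(f.fiber s)), f.fiberι s y = x →
      FlatMor.localDim ↥(f.fiber s) y = 1 := by
    intro x s h
    subst h
    intro y hy
    have : y = f.asFiber x :=
      (f.fiberι (f x)).isEmbedding.injective (hy.trans (f.fiberι_asFiber x).symm)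
    subst this
    have := Groth.Agent.Helper5.SmRelDim.s2768 1 f x
    rw [FlatMor.fibreDimAt] at this
    simpa using this
  refine key (f.fiberι s y) s ?_ y rfl
  have : f.fiberι s y ∈ Set.range (f.fiberι s) := ⟨y, rfl⟩
  rw [Scheme.Hom.range_fiberι] at this
  exact this

/-- the fibre of a locally quasi-finite closed subscheme is discrete -/
theorem discrete_of_lqf {X S : Scheme.{u}} (f : X ⟶ S) (I : X.IdealSheafData)
    [LocallyQuasiFinite (I.subschemeι ≫ f)] (s : S) :
    DiscreteTopology ↥(I.comap (f.fiberι s)).subscheme := by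
  have hsq := isPullback_fibre f I s
  haveI : LocallyQuasiFinite
      (pullback.fst (f.fiberι s) I.subschemeι ≫ f.fiberToSpecResidueField s) :=
    MorphismProperty.of_isPullback (P := @LocallyQuasiFinite) hsq inferInstance
  have hsub : Subsingleton ↥(Spec (S.residueField s)) :=
    inferInstanceAs (Subsingleton (PrimeSpectrum (S.residueField s)))
  haveI : DiscreteTopology ↥(pullback (f.fiberι s) I.subschemeι) := by
    rw [← isDiscrete_univ_iff]
    have h1 := (pullback.fst (f.fiberι s) I.subschemeι ≫
      f.fiberToSpecResidueField s).isDiscrete_preimage_singleton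
      (IsLocalRing.closedPoint (S.residueField s))
    convert h1 using 1
    ext z
    simp only [Set.mem_univ, Set.mem_preimage, Set.mem_singleton_iff, true_iff]
    exact Subsingleton.elim _ _
  exact (Scheme.homeoOfIso ((I.comapIso (f.fiberι s)))).isEmbedding.discreteTopology

/-- backward direction: a flat, locally quasi-finite, finitely presented closed subscheme of a
smooth relative curve is a relative effective Cartier divisor -/
theorem effCartier_of_lqf {X S : Scheme.{u}} (f : X ⟶ S) [SmoothOfRelativeDimension 1 f]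
    (I : X.IdealSheafData) [LocallyQuasiFinite (I.subschemeι ≫ f)] [Flat (I.subschemeι ≫ f)]
    [LocallyOfFinitePresentation (I.subschemeι ≫ f)] : BlowUp.IsEffCartierIdeal I := by
  haveI : Smooth f := SmoothOfRelativeDimension.smooth 1 f
  apply Groth.Agent.S8847.result f I
  intro s
  haveI := discrete_of_lqf f I s
  haveI : Smooth (f.fiberToSpecResidueField s) :=
    inferInstanceAs (Smooth (pullback.snd f (S.fromSpecResidueField s)))
  exact effCartier_of_discrete (S.residueField s) (f.fiber s) (f.fiberToSpecResidueField s)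
    (localDim_fibre f s) _

lemma withBot_one_le_of_pos {a : WithBot ℕ∞} (h : 0 < a) : 1 ≤ a := by
  induction a using WithBot.recBotCoe with
  | bot => exact absurd h (by simp)
  | coe n =>
    have h' : (0 : ℕ∞) < n := by exact_mod_cast h
    have : (1 : ℕ∞) ≤ n := Order.one_le_iff_pos.mpr h'
    exact_mod_cast this

/-- a point of local dimension at most zero in a locally noetherian scheme is open -/
theorem isOpen_singleton_of_localDim_le_zero {W : Scheme.{u}} [IsLocallyNoetherian W] (d : W)
    (h : FlatMor.localDim ↥W d ≤ 0) : IsOpen ({d} : Set W) := by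
  obtain ⟨O, hdO, hO⟩ : ∃ O : W.Opens, d ∈ O ∧ topologicalKrullDim ↥(O : Set W) ≤ 0 := by
    by_contra hne
    push Not at hne
    have h1 : (1 : WithBot ℕ∞) ≤ FlatMor.localDim ↥W d := by
      unfold FlatMor.localDim
      refine le_iInf fun ⟨O, hdO⟩ => ?_
      have := hne O hdO
      exact withBot_one_le_of_pos this
    exact absurd (h1.trans h) (by decide)
  obtain ⟨_, ⟨O', hO'aff, rfl⟩, hdO', hO'O⟩ :=
    W.isBasis_affineOpens.exists_subset_of_mem_open hdO O.2
  haveI : IsNoetherianRing Γ(W, O') := IsLocallyNoetherian.component_noetherian ⟨O', hO'aff⟩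
  haveI : NoetherianSpace ↥O' := noetherianSpace_of_isAffineOpen O' hO'aff
  have hle : topologicalKrullDim ↥(O' : Set W) ≤ 0 :=
    (Topology.IsEmbedding.inclusion hO'O).toIsInducing.topologicalKrullDim_le.trans hO
  haveI : DiscreteTopology ↥(O' : Set W) :=
    (Groth.Agent.Helper2.TopDim.finite_discrete_of_dim_le_zero _ hle).2
  have h1 : IsOpen ({⟨d, hdO'⟩} : Set ↥(O' : Set W)) := isOpen_discrete _
  have h2 := O'.2.isOpenMap_subtype_val _ h1
  rw [Set.image_singleton] at h2
  exact h2

/-- forward direction: a relative effective Cartier divisor on a smooth relative curve is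
locally quasi-finite over the base -/
theorem lqf_of_effCartier {X S : Scheme.{u}} (f : X ⟶ S) [SmoothOfRelativeDimension 1 f]
    (I : X.IdealSheafData) (hD : BlowUp.IsEffCartierIdeal I) [Flat (I.subschemeι ≫ f)] :
    LocallyQuasiFinite (I.subschemeι ≫ f) := by
  haveI : Smooth f := SmoothOfRelativeDimension.smooth 1 f
  rw [locallyQuasiFinite_iff_isDiscrete_preimage_singleton]
  intro s
  have hC : BlowUp.IsEffCartierIdeal (I.comap (f.fiberι s)) :=
    Groth.Agent.S1662.result f I hD (S.fromSpecResidueField s)
  haveI : LocallyOfFiniteType (f.fiberToSpecResidueField s) :=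
    inferInstanceAs (LocallyOfFiniteType (pullback.snd f (S.fromSpecResidueField s)))
  haveI : IsLocallyNoetherian (f.fiber s) :=
    LocallyOfFiniteType.isLocallyNoetherian (f.fiberToSpecResidueField s)
  haveI : IsLocallyNoetherian (I.comap (f.fiberι s)).subscheme :=
    LocallyOfFiniteType.isLocallyNoetherian (I.comap (f.fiberι s)).subschemeι
  haveI : DiscreteTopology ↥(I.comap (f.fiberι s)).subscheme := by
    rw [discreteTopology_iff_isOpen_singleton]
    intro d
    apply isOpen_singleton_of_localDim_le_zero
    have h1 := localDim_fibre f s ((I.comap (f.fiberι s)).subschemeι d)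
    have h2 : FlatMor.localDim ↥(f.fiber s) ((I.comap (f.fiberι s)).subschemeι d) ≠ ⊤ := by
      rw [h1]; decide
    have h3 := Groth.Agent.S1686.result (f.fiber s) _ hC d h2
    rw [h1] at h3
    exact Groth.Agent.Helper2.TopDim.withBotENat_lt_one h3
  haveI : DiscreteTopology ↥(pullback (f.fiberι s) I.subschemeι) :=
    (Scheme.homeoOfIso ((I.comapIso (f.fiberι s)))).symm.isEmbedding.discreteTopology
  have hsq := isPullback_fibre f I s
  haveI : DiscreteTopology ↥((I.subschemeι ≫ f).fiber s) :=
    (Scheme.homeoOfIso hsq.isoPullback).symm.isEmbedding.discreteTopology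
  rw [isDiscrete_iff_discreteTopology]
  exact ((I.subschemeι ≫ f).fiberHomeo s).symm.isEmbedding.discreteTopology

end Groth.Agent.Helper3.RelDivCurve
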