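import Mathlib
import Groth.Prelude
import Groth.Agent.Helper3.LscC
import Groth.Agent.Lead.ProperFinB
import Groth.Agent.Helper5.ChevJ
import Groth.Agent.Helper5.FieldPtCond1

set_option autoImplicit false
set_option linter.style.haveILetI false
set_option linter.unusedSectionVars false
set_option linter.unusedVariables false
set_option linter.deprecated false
set_option linter.style.haveILetI false
set_option linter.unusedSectionVars false
set_option linter.unusedVariables false

open CategoryTheory CategoryTheory.Limits AlgebraicGeometry Opposite EGA43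

universe u

namespace Groth.Agent.Helper3.Lsc

/-- variant of `exists_nhds_le` with the universal openness assumed for the Stein factor -/
theorem exists_nhds_le_of_fromNormalization {X Y : Scheme.{u}} (f : X ⟶ Y) [IsProper f] (y : Y)
    (hopen : ∀ n : f.normalization, f.fromNormalization n = y →
      IsUnivOpenAt f.fromNormalization n) :
    ∃ V ∈ nhds y, ∀ z ∈ V, MoreMor.nGeomConnComp f y ≤ MoreMor.nGeomConnComp f z := by
  let ν := f.fromNormalization
  haveI : IsIntegralHom ν := inferInstance
  haveI : IsSeparated ν := inferInstance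
  obtain ⟨hfin, heq⟩ := SteinK.main f y
  obtain ⟨m, hm⟩ := ENat.ne_top_iff_exists.mp hfin.ne
  have hdl : HasDistinctLifts ν m y := by
    apply hasDistinctLifts_of_le
    rw [hm, ← heq]
  have hev := eventually_hasDistinctLifts m ν y hopen hdl
  refine ⟨_, hev, ?_⟩
  intro z hz
  have h1 := le_nGeomConnComp_of_hasDistinctLifts ν z m hz
  rw [← hm, (SteinK.main f z).2]
  exact h1

/-- discrete spaces have local dimension zero -/
theorem localDim_eq_zero_of_discrete {T : Type*} [TopologicalSpace T] [DiscreteTopology T]
    (t : T) : FlatMor.localDim T t = 0 := by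
  apply le_antisymm _ (Groth.Agent.Helper5.FieldPtCond.localDim_nonneg t)
  unfold FlatMor.localDim
  refine iInf_le_of_le ⟨⊤, trivial⟩ ?_
  exact topologicalKrullDim_zero_of_discreteTopology _

theorem topologicalKrullDim_eq_zero_of_discrete {T : Type*} [TopologicalSpace T]
    [DiscreteTopology T] [Nonempty T] : topologicalKrullDim T = 0 :=
  le_antisymm (topologicalKrullDim_zero_of_discreteTopology T)
    (Groth.Agent.Helper2.TopDim.dim_nonneg_of_nonempty _)

/-- the generic point of an irreducible component of the target of a surjective map is the image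
of the generic point of an irreducible component of the source -/
theorem exists_generic_lift {X N : Scheme.{u}} (p : X ⟶ N) [Surjective p] (Z : Set N)
    (hZ : Z ∈ irreducibleComponents N) :
    ∃ ξ : X, closure ({ξ} : Set X) ∈ irreducibleComponents X ∧ closure ({p ξ} : Set N) = Z := by
  have hZcl : IsClosed Z := isClosed_of_mem_irreducibleComponents Z hZ
  obtain ⟨ζ, hζ⟩ := QuasiSober.sober hZ.1 hZcl
  obtain ⟨x, hx⟩ := p.surjective ζ
  have hWcl : IsClosed (irreducibleComponent x) := isClosed_irreducibleComponent
  obtain ⟨ξ, hξ⟩ := QuasiSober.sober (isIrreducible_irreducibleComponent (x := x)) hWcl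
  refine ⟨ξ, ?_, ?_⟩
  · rw [hξ.def]; exact irreducibleComponent_mem_irreducibleComponents x
  · have h1 : ξ ⤳ x := by
      rw [specializes_iff_mem_closure, hξ.def]; exact mem_irreducibleComponent
    have h2 : p ξ ⤳ ζ := hx ▸ h1.map p.continuous
    have h3 : Z ⊆ closure ({p ξ} : Set N) := by
      rw [← hζ.def]
      exact closure_minimal (Set.singleton_subset_iff.mpr (specializes_iff_mem_closure.mp h2))
        isClosed_closure
    have h4 : IsIrreducible (closure ({p ξ} : Set N)) := isIrreducible_singleton.closure
    exact (hZ.2 h4 h3).antisymm h3 |>.symm ▸ rfl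

/-- lower semicontinuity at a geometrically unibranch point when all components dominate -/
theorem exists_nhds_le_of_geomUnibranch {X Y : Scheme.{u}} [IrreducibleSpace Y]
    [IsLocallyNoetherian Y] (f : X ⟶ Y) [IsProper f]
    (hdom : ∀ Z ∈ irreducibleComponents (X : Type u), closure (f.base '' Z) = Set.univ) (y₀ : Y)
    (hy : CAlg2.IsGeomUnibranch (Y.presheaf.stalk y₀)) :
    ∃ V ∈ nhds y₀, ∀ z ∈ V, MoreMor.nGeomConnComp f y₀ ≤ MoreMor.nGeomConnComp f z := by
  apply exists_nhds_le_of_fromNormalization f y₀
  intro n hn
  let p := f.toNormalization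
  let ν := f.fromNormalization
  have hw : p ≫ ν = f := f.toNormalization_fromNormalization
  haveI : IsProper (p ≫ ν) := by rw [hw]; infer_instance
  haveI : IsProper p := IsProper.of_comp p ν
  haveI : Surjective p := inferInstance
  haveI : IsFinite ν := Groth.Agent.Lead.ProperFinB.main f
  haveI : LocallyQuasiFinite ν := inferInstance
  have hy' : CAlg2.IsGeomUnibranch (Y.presheaf.stalk (ν.base n)) := by
    have : ν.base n = y₀ := hn
    rw [this]; exact hy
  apply Groth.Agent.Helper5.Chev.isUnivOpenAt_of_components ν n hy'
  intro Y₀ hY₀ _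
  have hY₀u : Y₀ = Set.univ := by
    have := irreducibleComponents_eq_singleton (X := Y)
    rw [this] at hY₀
    exact hY₀
  -- the component of `n`
  have hZ : irreducibleComponent n ∈ irreducibleComponents f.normalization :=
    irreducibleComponent_mem_irreducibleComponents n
  obtain ⟨ξ, hξ, hpξ⟩ := exists_generic_lift p (irreducibleComponent n) hZ
  have hfξ : closure ({f ξ} : Set Y) = Set.univ := by
    have h1 := hdom _ hξ
    apply Set.eq_univ_of_univ_subset
    rw [← h1]
    apply closure_minimal _ isClosed_closure
    rw [Set.image_subset_iff]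
    exact closure_minimal (Set.singleton_subset_iff.mpr (subset_closure rfl))
      (isClosed_closure.preimage f.continuous)
  have hνp : ν (p ξ) = f ξ := by rw [← Scheme.Hom.comp_apply, hw]
  have hpξmem : p ξ ∈ irreducibleComponent n := by
    rw [← hpξ]; exact subset_closure rfl
  refine ⟨irreducibleComponent n, hZ, mem_irreducibleComponent, ?_, ?_⟩
  · rw [hY₀u]
    apply Set.eq_univ_of_univ_subset
    rw [← hfξ]
    apply closure_mono
    rw [Set.singleton_subset_iff]
    exact ⟨p ξ, hpξmem, hνp⟩
  · intro η hη
    -- `η` is the generic point of `Y`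
    have hηξ : f ξ = η := by
      have h1 : IsGenericPoint (f ξ) (Set.univ : Set Y) := hfξ
      have h2 : IsGenericPoint η (Set.univ : Set Y) := by rw [← hY₀u]; exact hη
      exact h1.eq h2
    haveI hd1 : DiscreteTopology ↥(irreducibleComponent n ∩ ν.base ⁻¹' {ν.base n}) :=
      ((ν.isDiscrete_preimage_singleton (ν.base n)).mono Set.inter_subset_right).to_subtype
    haveI hd2 : DiscreteTopology ↥(irreducibleComponent n ∩ ν.base ⁻¹' {η}) :=
      ((ν.isDiscrete_preimage_singleton η).mono Set.inter_subset_right).to_subtype
    haveI : Nonempty ↥(irreducibleComponent n ∩ ν.base ⁻¹' {η}) :=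
      ⟨⟨p ξ, hpξmem, by show ν (p ξ) = η; rw [hνp, hηξ]⟩⟩
    rw [localDim_eq_zero_of_discrete, topologicalKrullDim_eq_zero_of_discrete]

end Groth.Agent.Helper3.Lsc
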