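import Mathlib
import Groth.Prelude
import Groth.Agent.Helper3.LscQ1
import Groth.Agent.Helper3.LscK
import Groth.Agent.Helper5.ChevJ
import Groth.Agent.Helper5.GenLift1

set_option autoImplicit false
set_option linter.style.haveILetI false
set_option linter.unusedSectionVars false
set_option linter.unusedVariables false
set_option linter.deprecated false
set_option linter.style.haveILetI false
set_option linter.unusedSectionVars false
set_option linter.unusedVariables false

open CategoryTheory CategoryTheory.Limits AlgebraicGeometry Opposite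

universe u

namespace Groth.Agent.Helper3.LscR

open Groth.Agent.Helper3.Lsc (HasDistinctLifts eventually_hasDistinctLifts
  localDim_eq_zero_of_discrete topologicalKrullDim_eq_zero_of_discrete)
open Groth.Agent.Helper3.LscQ

/-- a point is maximal if it has no proper generization -/
def IsMaxPt {T : Type*} [TopologicalSpace T] (ξ : T) : Prop := ∀ ξ' : T, ξ' ⤳ ξ → ξ' = ξ

/-- the closure of a maximal point of a sober space is an irreducible component -/
theorem closure_mem_irreducibleComponents {T : Type*} [TopologicalSpace T] [QuasiSober T]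
    (ξ : T) (hξ : IsMaxPt ξ) : closure ({ξ} : Set T) ∈ irreducibleComponents T := by
  refine ⟨isIrreducible_singleton.closure, ?_⟩
  intro D hD hsub
  obtain ⟨d, hd⟩ := QuasiSober.sober hD.closure isClosed_closure
  have hdef : closure ({d} : Set T) = closure D := hd.def
  have h1 : d ⤳ ξ := by
    rw [specializes_iff_mem_closure, hdef]
    exact subset_closure (hsub (subset_closure rfl))
  have h2 : d = ξ := hξ d h1
  rw [← h2, hdef]
  exact subset_closure

/-- an irreducible component of a sober T0 space is the closure of a maximal point -/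
theorem exists_maxPt_of_mem_irreducibleComponents {T : Type*} [TopologicalSpace T] [QuasiSober T]
    [T0Space T] (Z : Set T) (hZ : Z ∈ irreducibleComponents T) :
    ∃ ξ : T, IsMaxPt ξ ∧ closure ({ξ} : Set T) = Z := by
  have hZcl : IsClosed Z := isClosed_of_mem_irreducibleComponents Z hZ
  obtain ⟨ξ, hξ⟩ := QuasiSober.sober hZ.1 hZcl
  have hdef : closure ({ξ} : Set T) = Z := hξ.def
  refine ⟨ξ, ?_, hdef⟩
  intro ξ' h
  have h1 : Z ⊆ closure ({ξ'} : Set T) := by
    rw [← hdef]
    exact closure_minimal (Set.singleton_subset_iff.mpr (specializes_iff_mem_closure.mp h))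
      isClosed_closure
  have h2 : closure ({ξ'} : Set T) ⊆ Z := hZ.2 isIrreducible_singleton.closure h1
  have h3 : ξ ⤳ ξ' := by
    rw [specializes_iff_mem_closure, hdef]
    exact h2 (subset_closure rfl)
  exact (h.antisymm h3).eq

/-- over a point whose local ring is (geometrically) unibranch there is exactly one maximal
generization -/
theorem exists_unique_maxPt (Y : Scheme.{u}) [IsLocallyNoetherian Y] (y : Y)
    (hy : CAlg2.IsGeomUnibranch (Y.presheaf.stalk y)) :
    ∃ η : Y, η ⤳ y ∧ IsMaxPt η ∧ ∀ η₁ : Y, η₁ ⤳ y → IsMaxPt η₁ → η₁ = η := by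
  haveI hdom : IsDomain (CAlg2.red (Y.presheaf.stalk y)) := hy.1.1
  have hN : (nilradical (Y.presheaf.stalk y)).IsPrime :=
    (Ideal.Quotient.isDomain_iff_prime _).mp hdom
  obtain ⟨V, hyV, hVirr⟩ := Groth.Agent.Helper5.Chev.exists_irreducible_nhd Y y hN
  haveI : IrreducibleSpace ↥V := hVirr
  haveI : QuasiSober ↥V := V.isOpenEmbedding'.quasiSober
  let v₀ : ↥V := genericPoint ↥V
  have hgen : ∀ v : ↥V, (v₀ : Y) ⤳ (v : Y) := fun v =>
    (genericPoint_specializes v).map continuous_subtype_val
  refine ⟨(v₀ : Y), hgen ⟨y, hyV⟩, ?_, ?_⟩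
  · intro η' h
    have h1 : η' ∈ V := h.mem_open V.2 v₀.2
    have h2 := hgen ⟨η', h1⟩
    exact (h.antisymm h2).eq
  · intro η₁ h hmax
    have h1 : η₁ ∈ V := h.mem_open V.2 hyV
    have h2 := hgen ⟨η₁, h1⟩
    exact (hmax _ h2).symm

section Morphism

variable {X Y : Scheme.{u}} (f : X ⟶ Y)

/-- in a quasi-finite fibre there are no proper specializations -/
theorem eq_of_specializes_of_fiber [LocallyQuasiFinite f] (ξ t : X) (h : ξ ⤳ t)
    (hf : f ξ = f t) : ξ = t := by
  haveI hd : DiscreteTopology ↥(f ⁻¹' {f t}) :=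
    (f.isDiscrete_preimage_singleton (f t)).to_subtype
  have h1 : (⟨ξ, hf⟩ : ↥(f ⁻¹' {f t})) ⤳ ⟨t, rfl⟩ := (subtype_specializes_iff _ _).mpr h
  exact congrArg Subtype.val h1.eq

/-- points over a maximal point are maximal -/
theorem isMaxPt_of_fiber [LocallyQuasiFinite f] (η : Y) (hη : IsMaxPt η) (ξ : X) (hξ : f ξ = η) :
    IsMaxPt ξ := by
  intro ξ' h
  have h1 : f ξ' ⤳ f ξ := h.map f.continuous
  rw [hξ] at h1
  have h2 : f ξ' = f ξ := (hη _ h1).trans hξ.symm
  exact eq_of_specializes_of_fiber f ξ' ξ h h2

/-- an open morphism maps maximal points to maximal points -/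
theorem isMaxPt_map (hf : IsOpenMap f) (ξ : X) (hξ : IsMaxPt ξ) : IsMaxPt (f ξ) := by
  intro η' h
  obtain ⟨ξ', h1, h2⟩ := Groth.Agent.Helper5.GenLift.generalizingMap_of_isOpenMap f hf h
  rw [← h2, hξ ξ' h1]

end Morphism

/-- lower semicontinuity of the geometric number of points along a generization, for a separated
quasi-finite morphism universally open along the fibre -/
theorem n_le_of_isUnivOpenAt {W Y : Scheme.{u}} (g : W ⟶ Y) [IsSeparated g] [LocallyQuasiFinite g]
    [QuasiCompact g] (y η : Y) (hη : η ⤳ y)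
    (hopen : ∀ t : W, g t = y → EGA43.IsUnivOpenAt g t) :
    MoreMor.nGeomConnComp g y ≤ MoreMor.nGeomConnComp g η := by
  obtain ⟨m, hm⟩ := ENat.ne_top_iff_exists.mp (nGeomConnComp_ne_top g y)
  have h1 : HasDistinctLifts g m y := hasDistinctLifts_of_le g y m (le_of_eq hm)
  have h2 := eventually_hasDistinctLifts m g y hopen h1
  have h3 : ∀ᶠ z in nhds η, HasDistinctLifts g m z := hη h2
  have h4 : HasDistinctLifts g m η := h3.self_of_nhds
  rw [← hm]
  exact le_nGeomConnComp_of_hasDistinctLifts g η m h4

/-- Chevalley's criterion applied to a closed subscheme through a maximal point: over a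
geometrically unibranch point, the restriction of a quasi-finite morphism to a closed subscheme is
universally open at a point lying in the closure of a maximal point (of the ambient scheme)
dominating the unique maximal generization. -/
theorem isUnivOpenAt_comp_closedImmersion {X Y W : Scheme.{u}} [IsLocallyNoetherian Y]
    (f : X ⟶ Y) [LocallyOfFiniteType f] [LocallyQuasiFinite f]
    (i : W ⟶ X) [IsClosedImmersion i] (y η : Y)
    (hy : CAlg2.IsGeomUnibranch (Y.presheaf.stalk y))
    (hηuniq : ∀ η₁ : Y, η₁ ⤳ y → IsMaxPt η₁ → η₁ = η)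
    (t : W) (ht : f (i t) = y)
    (ω : W) (hωmax : IsMaxPt (i ω)) (hωη : f (i ω) = η) (hωt : ω ⤳ t) :
    EGA43.IsUnivOpenAt (i ≫ f) t := by
  let g := i ≫ f
  haveI : LocallyOfFiniteType g := inferInstance
  haveI : LocallyQuasiFinite g := inferInstance
  have hgt : g.base t = y := ht
  have hgω : g.base ω = η := hωη
  have hy' : CAlg2.IsGeomUnibranch (Y.presheaf.stalk (g.base t)) := by
    rw [hgt]; exact hy
  apply Groth.Agent.Helper5.Chev.isUnivOpenAt_of_components g t hy'
  intro Y₁ hY₁ hmem
  have hωW : IsMaxPt ω := by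
    intro ω' h
    have := hωmax (i ω') (h.map i.continuous)
    exact i.isEmbedding.injective this
  have hD := closure_mem_irreducibleComponents ω hωW
  obtain ⟨η₁, hη₁max, hη₁⟩ := exists_maxPt_of_mem_irreducibleComponents Y₁ hY₁
  have hη₁y : η₁ ⤳ y := by
    rw [specializes_iff_mem_closure, hη₁, ← hgt]
    exact hmem
  have hη₁η : η₁ = η := hηuniq η₁ hη₁y hη₁max
  refine ⟨closure {ω}, hD, specializes_iff_mem_closure.mp hωt, ?_, ?_⟩
  · rw [← hη₁, hη₁η, ← hgω]
    apply Set.Subset.antisymm
    · apply closure_minimal _ isClosed_closure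
      have := image_closure_subset_closure_image (s := ({ω} : Set W)) g.continuous
      rw [Set.image_singleton] at this
      exact this
    · apply closure_mono
      rw [Set.singleton_subset_iff]
      exact ⟨ω, subset_closure rfl, rfl⟩
  · intro η' hη'
    have hη'η : η' = η := by
      have h1 : IsGenericPoint η' Y₁ := hη'
      have h2 : IsGenericPoint η Y₁ := by rw [← hη₁η]; exact hη₁
      exact h1.eq h2
    haveI hd1 : DiscreteTopology ↥(closure ({ω} : Set W) ∩ g.base ⁻¹' {g.base t}) :=
      ((g.isDiscrete_preimage_singleton (g.base t)).mono Set.inter_subset_right).to_subtype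
    haveI hd2 : DiscreteTopology ↥(closure ({ω} : Set W) ∩ g.base ⁻¹' {η'}) :=
      ((g.isDiscrete_preimage_singleton η').mono Set.inter_subset_right).to_subtype
    haveI : Nonempty ↥(closure ({ω} : Set W) ∩ g.base ⁻¹' {η'}) :=
      ⟨⟨ω, subset_closure rfl, by show g.base ω = η'; rw [hη'η]; exact hgω⟩⟩
    rw [localDim_eq_zero_of_discrete, topologicalKrullDim_eq_zero_of_discrete]

end Groth.Agent.Helper3.LscR
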