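import Mathlib
import Groth.Prelude
import Groth.Agent.Helper3.LscR1
import Groth.Agent.Helper3.LscR2

set_option autoImplicit false
set_option linter.style.haveILetI false
set_option linter.unusedSectionVars false
set_option linter.unusedVariables false
set_option linter.deprecated false
set_option linter.style.haveILetI false
set_option linter.unusedSectionVars false
set_option linter.unusedVariables false

open CategoryTheory CategoryTheory.Limits AlgebraicGeometry Opposite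

universe u

namespace Groth.Agent.Helper3.LscR

open Groth.Agent.Helper3.LscQ

/-- every closed subset is the range of a closed immersion -/
theorem exists_closedImmersion_range (X : Scheme.{u}) (C : Set X) (hC : IsClosed C) :
    ∃ (W : Scheme.{u}) (i : W ⟶ X), IsClosedImmersion i ∧ Set.range i = C := by
  let Cc : TopologicalSpace.Closeds X := ⟨C, hC⟩
  let I := Scheme.IdealSheafData.vanishingIdeal Cc
  refine ⟨I.subscheme, I.subschemeι, inferInstance, ?_⟩
  rw [Scheme.IdealSheafData.range_subschemeι, Scheme.IdealSheafData.coe_support_vanishingIdeal]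
  rfl

/-- EGA IV 15.5.9 (ii): if the geometric number of points of the fibres of a separated
quasi-finite universally open morphism to a geometrically unibranch locally Noetherian scheme is
locally constant, the irreducible components of the source are pairwise disjoint. -/
theorem main {X Y : Scheme.{u}} [IsLocallyNoetherian Y]
    (hY : ∀ y : Y, CAlg2.IsGeomUnibranch (Y.presheaf.stalk y)) (f : X ⟶ Y)
    [IsSeparated f] [LocallyQuasiFinite f] [LocallyOfFiniteType f] [QuasiCompact f]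
    [UniversallyOpen f]
    (hn : IsLocallyConstant (fun z : Y => MoreMor.nGeomConnComp f z)) :
    ∀ Z ∈ irreducibleComponents (X : Type u), ∀ Z' ∈ irreducibleComponents (X : Type u),
      Z ≠ Z' → Disjoint Z Z' := by
  intro Z hZ Z' hZ' hne
  rw [Set.disjoint_left]
  intro x hxZ hxZ'
  obtain ⟨η, hηy, hηmax, hηuniq⟩ := exists_unique_maxPt Y (f x) (hY (f x))
  obtain ⟨ξ, hξmax, hξZ⟩ := exists_maxPt_of_mem_irreducibleComponents Z hZ
  obtain ⟨ξ', hξ'max, hξZ'⟩ := exists_maxPt_of_mem_irreducibleComponents Z' hZ'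
  have hξne : ξ' ≠ ξ := by
    intro h
    apply hne
    rw [← hξZ, ← hξZ', h]
  have hξx : ξ ⤳ x := by rw [specializes_iff_mem_closure, hξZ]; exact hxZ
  have hξ'x : ξ' ⤳ x := by rw [specializes_iff_mem_closure, hξZ']; exact hxZ'
  have hfξ : f ξ = η :=
    hηuniq (f ξ) (hξx.map f.continuous) (isMaxPt_map f f.isOpenMap ξ hξmax)
  have hfξ' : f ξ' = η :=
    hηuniq (f ξ') (hξ'x.map f.continuous) (isMaxPt_map f f.isOpenMap ξ' hξ'max)
  -- the two closed sets
  let F : Set X := f ⁻¹' {η} \ {ξ}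
  have hFfin : F.Finite := (f.finite_preimage_singleton η).subset Set.diff_subset
  let C₂ : Set X := ⋃ ξ₂ ∈ F, closure ({ξ₂} : Set X)
  have hC₂ : IsClosed C₂ := hFfin.isClosed_biUnion (fun _ _ => isClosed_closure)
  obtain ⟨W₁, i₁, hi₁, hr₁⟩ := exists_closedImmersion_range X (closure ({ξ} : Set X))
    isClosed_closure
  obtain ⟨W₂, i₂, hi₂, hr₂⟩ := exists_closedImmersion_range X C₂ hC₂
  have hmemC₂ : ∀ t : X, t ∈ C₂ ↔ ∃ ξ₂ : X, f ξ₂ = η ∧ ξ₂ ≠ ξ ∧ ξ₂ ⤳ t := by
    intro t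
    simp only [C₂, F, Set.mem_iUnion, Set.mem_diff, Set.mem_preimage, Set.mem_singleton_iff,
      exists_prop, specializes_iff_mem_closure]
    constructor
    · rintro ⟨ξ₂, ⟨h1, h2⟩, h3⟩; exact ⟨ξ₂, h1, h2, h3⟩
    · rintro ⟨ξ₂, h1, h2, h3⟩; exact ⟨ξ₂, ⟨h1, h2⟩, h3⟩
  -- covering of the fibre over `f x`
  have hcov : ∀ t : X, f t = f x → t ∈ Set.range i₁ ∨ t ∈ Set.range i₂ := by
    intro t ht
    have h1 : η ⤳ f t := by rw [ht]; exact hηy
    obtain ⟨ξ₂, h2, h3⟩ :=
      Groth.Agent.Helper5.GenLift.generalizingMap_of_isOpenMap f f.isOpenMap h1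
    by_cases h4 : ξ₂ = ξ
    · left
      rw [hr₁, ← specializes_iff_mem_closure, ← h4]
      exact h2
    · right
      rw [hr₂, hmemC₂]
      exact ⟨ξ₂, h3, h4, h2⟩
  have hx₁ : x ∈ Set.range i₁ := by
    rw [hr₁, ← specializes_iff_mem_closure]; exact hξx
  have hx₂ : x ∈ Set.range i₂ := by
    rw [hr₂, hmemC₂]; exact ⟨ξ', hfξ', hξne, hξ'x⟩
  have hdis : ∀ t : X, f t = η → t ∈ Set.range i₁ → t ∈ Set.range i₂ → False := by
    intro t ht h1 h2
    rw [hr₁, ← specializes_iff_mem_closure] at h1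
    rw [hr₂, hmemC₂] at h2
    obtain ⟨ξ₂, h3, h4, h5⟩ := h2
    have h6 : ξ = t := eq_of_specializes_of_fiber f ξ t h1 (hfξ.trans ht.symm)
    have h7 : ξ₂ = t := eq_of_specializes_of_fiber f ξ₂ t h5 (h3.trans ht.symm)
    exact h4 (h7.trans h6.symm)
  -- universal openness along the fibres of the two pieces
  have hopen₁ : ∀ t : W₁, (i₁ ≫ f) t = f x → EGA43.IsUnivOpenAt (i₁ ≫ f) t := by
    intro t ht
    have h1 : ξ ∈ Set.range i₁ := by rw [hr₁]; exact subset_closure rfl
    obtain ⟨ω, hω⟩ := h1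
    have h2 : i₁ t ∈ closure ({ξ} : Set X) := by rw [← hr₁]; exact ⟨t, rfl⟩
    have h3 : ω ⤳ t := by
      rw [← i₁.isEmbedding.isInducing.specializes_iff, hω, specializes_iff_mem_closure]
      exact h2
    exact isUnivOpenAt_comp_closedImmersion f i₁ (f x) η (hY (f x)) hηuniq t ht ω
      (by rw [hω]; exact hξmax) (by rw [hω]; exact hfξ) h3
  have hopen₂ : ∀ t : W₂, (i₂ ≫ f) t = f x → EGA43.IsUnivOpenAt (i₂ ≫ f) t := by
    intro t ht
    have h2 : i₂ t ∈ C₂ := by rw [← hr₂]; exact ⟨t, rfl⟩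
    rw [hmemC₂] at h2
    obtain ⟨ξ₂, h3, h4, h5⟩ := h2
    have h1 : ξ₂ ∈ Set.range i₂ := by
      rw [hr₂, hmemC₂]; exact ⟨ξ₂, h3, h4, specializes_rfl⟩
    obtain ⟨ω, hω⟩ := h1
    have h6 : ω ⤳ t := by
      rw [← i₂.isEmbedding.isInducing.specializes_iff, hω]
      exact h5
    exact isUnivOpenAt_comp_closedImmersion f i₂ (f x) η (hY (f x)) hηuniq t ht ω
      (by rw [hω]; exact isMaxPt_of_fiber f η hηmax ξ₂ h3) (by rw [hω]; exact h3) h6
  -- the inequalities
  have e1 := n_add_one_le f i₁ i₂ x hx₁ hx₂ hcov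
  have e2 := n_le_of_isUnivOpenAt (i₁ ≫ f) (f x) η hηy hopen₁
  have e3 := n_le_of_isUnivOpenAt (i₂ ≫ f) (f x) η hηy hopen₂
  have e4 := n_add_le f i₁ i₂ η hdis
  have e5 : MoreMor.nGeomConnComp f η = MoreMor.nGeomConnComp f (f x) := by
    have hopen : IsOpen ((fun z : Y => MoreMor.nGeomConnComp f z) ⁻¹'
        {MoreMor.nGeomConnComp f (f x)}) := hn.isOpen_fiber _
    exact hηy.mem_open hopen rfl
  have e6 : MoreMor.nGeomConnComp f (f x) + 1 ≤ MoreMor.nGeomConnComp f (f x) :=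
    calc MoreMor.nGeomConnComp f (f x) + 1
        ≤ MoreMor.nGeomConnComp (i₁ ≫ f) (f x) + MoreMor.nGeomConnComp (i₂ ≫ f) (f x) := e1
      _ ≤ MoreMor.nGeomConnComp (i₁ ≫ f) η + MoreMor.nGeomConnComp (i₂ ≫ f) η :=
          add_le_add e2 e3
      _ ≤ MoreMor.nGeomConnComp f η := e4
      _ = MoreMor.nGeomConnComp f (f x) := e5
  have e7 := (ENat.add_one_le_iff (nGeomConnComp_ne_top f (f x))).mp e6
  exact lt_irrefl _ e7

end Groth.Agent.Helper3.LscR
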