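import Mathlib
import Groth.Prelude
import Groth.Agent.Helper3.GRO1
import Groth.Agent.Helper3.LscR3
import Groth.Agent.Helper4.GeomRedOpen
import Groth.Agent.Helper5.GRed7

set_option autoImplicit false
set_option linter.style.haveILetI false
set_option linter.unusedSectionVars false
set_option linter.unusedVariables false
set_option linter.deprecated false
set_option linter.style.haveILetI false
set_option linter.unusedSectionVars false
set_option linter.unusedVariables false

universe u

namespace Groth.Agent.Helper3.GRO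

open AlgebraicGeometry CategoryTheory CategoryTheory.Limits TopologicalSpace Topology
open Groth.Agent.Helper5.SecNb

/-- (B): near a point `t` of the locus, the locus contains a neighbourhood of `t` in the inverse
image of the closure of `f t`. -/
theorem exists_nhd_over_closure {X Y : Scheme.{u}} [IsAffine X] [IsAffine Y] (f : X ⟶ Y)
    [LocallyOfFiniteType f] (t : X) (ht : t ∈ E f) :
    ∃ W : Set X, IsOpen W ∧ t ∈ W ∧ ∀ x ∈ W, f.base x ∈ closure {f.base t} → x ∈ E f := by
  obtain ⟨Z, i, hi, hri⟩ := Groth.Agent.Helper3.LscR.exists_closedImmersion_range Y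
    (closure {f.base t}) isClosed_closure
  haveI : IsAffine Z := isAffine_of_isAffineHom i
  -- `Z` is irreducible with generic point over `f t`
  obtain ⟨η, hη⟩ : ∃ η : Z, i.base η = f.base t := by
    have : f.base t ∈ Set.range i.base := by rw [hri]; exact subset_closure rfl
    exact this
  have hηgen : IsGenericPoint η (Set.univ : Set Z) := by
    show closure {η} = Set.univ
    rw [Set.eq_univ_iff_forall]
    intro z
    have hz : i.base z ∈ closure {i.base η} := by
      rw [hη, ← hri]; exact ⟨z, rfl⟩
    have : i.base η ⤳ i.base z := specializes_iff_mem_closure.2 hz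
    exact specializes_iff_mem_closure.1 (i.isEmbedding.isInducing.specializes_iff.1 this)
  haveI : IrreducibleSpace Z := by
    have h1 : IsIrreducible (Set.univ : Set Z) := by
      rw [← hηgen.def]
      exact isIrreducible_singleton.closure
    exact (irreducibleSpace_def Z).2 h1
  have hηeq : η = genericPoint Z := (hηgen.eq (genericPoint_spec Z))
  -- base change to `Z`
  let XZ := pullback f i
  let fZ : XZ ⟶ Z := pullback.snd f i
  let pr : XZ ⟶ X := pullback.fst f i
  have hc : IsPullback pr fZ f i := IsPullback.of_hasPullback f i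
  haveI : IsAffine XZ := isAffine_of_isAffineHom pr
  have hrpr : Set.range pr.base = f.base ⁻¹' closure {f.base t} := by
    rw [← hri]; exact Scheme.Pullback.range_fst f i
  obtain ⟨tZ, htZ⟩ : ∃ tZ : XZ, pr.base tZ = t := by
    have : t ∈ Set.range pr.base := by rw [hrpr]; exact subset_closure rfl
    exact this
  have htZE : tZ ∈ E fZ := (mem_E_iff_of_isPullback hc tZ).2 (by rw [htZ]; exact ht)
  have hfZt : fZ.base tZ = η := by
    apply i.isEmbedding.injective
    rw [hη, ← htZ]
    show (fZ ≫ i).base tZ = (pr ≫ f).base tZ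
    rw [hc.w]
  -- the geometrically reduced locus of the generic fibre
  haveI : IsLocallyNoetherian (fZ.fiber η) := by
    haveI : LocallyOfFiniteType (fZ.fiberToSpecResidueField η) :=
      MorphismProperty.pullback_snd _ _ inferInstance
    exact LocallyOfFiniteType.isLocallyNoetherian (fZ.fiberToSpecResidueField η)
  have hG := Groth.Agent.Helper4.GeomRedOpen.isOpen_geomReducedLocus (fZ.fiberToSpecResidueField η)
  obtain ⟨W₀, hW₀, hW₀G⟩ := (fZ.fiberι η).isEmbedding.isInducing.isOpen_iff.1 hG
  obtain ⟨t₀, ht₀⟩ : ∃ t₀ : ↥(fZ.fiber η), (fZ.fiberι η).base t₀ = tZ := by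
    have : tZ ∈ Set.range (fZ.fiberι η).base := by
      rw [Scheme.Hom.range_fiberι]; exact hfZt
    exact this
  have htW₀ : tZ ∈ W₀ := by
    have : t₀ ∈ (fZ.fiberι η).base ⁻¹' W₀ := by
      rw [hW₀G]
      exact (mem_E_iff_fiber fZ η t₀).1 (by rw [ht₀]; exact htZE)
    rw [← ht₀]; exact this
  obtain ⟨_, ⟨U, hU, rfl⟩, htU, hUW₀⟩ :=
    XZ.isBasis_affineOpens.exists_subset_of_mem_open htW₀ hW₀
  let Uo : XZ.Opens := U
  haveI : IsAffine (Uo : Scheme.{u}) := hU
  let u : (Uo : Scheme.{u}) ⟶ Z := Uo.ι ≫ fZ
  haveI : QuasiCompact u := by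
    haveI : IsAffineHom u := isAffineHom_of_isAffine u
    infer_instance
  -- the generic fibre of `u` is geometrically reduced
  have hgen : GeometricallyReduced (u.fiberToSpecResidueField (genericPoint Z)) := by
    rw [← hηeq]
    apply geometricallyReduced_of_forall
    intro w
    rw [← mem_E_iff_fiber u η w, mem_E_comp_iff Uo.ι fZ]
    set xw := (u.fiberι η).base w with hxw
    have h1 : fZ.base (Uo.ι.base xw) = η := by
      show u.base ((u.fiberι η).base w) = η
      have : (u.fiberι η).base w ∈ Set.range (u.fiberι η).base := ⟨w, rfl⟩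
      rw [Scheme.Hom.range_fiberι] at this
      exact this
    obtain ⟨w', hw'⟩ : ∃ w' : ↥(fZ.fiber η), (fZ.fiberι η).base w' = Uo.ι.base xw := by
      have : Uo.ι.base xw ∈ Set.range (fZ.fiberι η).base := by
        rw [Scheme.Hom.range_fiberι]; exact h1
      exact this
    have h2 : w' ∈ (fZ.fiberι η).base ⁻¹' W₀ := by
      show (fZ.fiberι η).base w' ∈ W₀
      rw [hw']
      apply hUW₀
      have := xw.2
      simp
    rw [hW₀G] at h2
    rw [← hw']
    exact (mem_E_iff_fiber fZ η w').2 h2
  obtain ⟨V, hVne, hV⟩ := Groth.Agent.Helper5.GRed.s0434_pointwise u hgen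
  have hηV : η ∈ V := by
    rw [hηeq]
    exact ((genericPoint_spec Z).mem_open_set_iff V.isOpen).2 (by simpa [Set.univ_inter] using hVne)
  -- the open set
  let W' : Set XZ := Uo.ι.base '' (u.base ⁻¹' (V : Set Z))
  have hW'open : IsOpen W' :=
    Uo.ι.isOpenEmbedding.isOpenMap _ (V.isOpen.preimage u.continuous)
  haveI : IsClosedImmersion pr := MorphismProperty.pullback_fst _ _ hi
  obtain ⟨W, hW, hWW'⟩ := pr.isEmbedding.isInducing.isOpen_iff.1 hW'open
  refine ⟨W, hW, ?_, ?_⟩
  · have : tZ ∈ pr.base ⁻¹' W := by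
      rw [hWW']
      refine ⟨⟨tZ, htU⟩, ?_, rfl⟩
      show fZ.base tZ ∈ V
      rw [hfZt]; exact hηV
    rw [← htZ]; exact this
  · intro x hxW hx
    obtain ⟨xZ, rfl⟩ : x ∈ Set.range pr.base := by rw [hrpr]; exact hx
    have h1 : xZ ∈ W' := by rw [← hWW']; exact hxW
    obtain ⟨xU, hxU, rfl⟩ := h1
    rw [← mem_E_iff_of_isPullback hc, ← mem_E_comp_iff Uo.ι fZ]
    haveI hh : GeometricallyReduced
        ((Uo.ι ≫ fZ).fiberToSpecResidueField ((Uo.ι ≫ fZ).base xU)) := hV (u.base xU) hxU
    exact @geomReducedAt_of_geometricallyReduced _ _ _ _ hh _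

end Groth.Agent.Helper3.GRO
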