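import Mathlib

set_option autoImplicit false
set_option linter.style.haveILetI false
set_option linter.unusedSectionVars false
set_option linter.unusedVariables false
set_option linter.deprecated false

universe u

namespace Groth.Agent.Helper3.GRO

open TopologicalSpace Topology

/-- openness criterion in a Noetherian quasi-sober space -/
theorem isOpen_of_generizing_of_nhd {X : Type*} [TopologicalSpace X] [NoetherianSpace X]
    [QuasiSober X] (E : Set X) (hA : ∀ x ∈ E, ∀ z, z ⤳ x → z ∈ E)
    (hB : ∀ t ∈ E, ∃ W, IsOpen W ∧ t ∈ W ∧ W ∩ closure {t} ⊆ E) : IsOpen E := by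
  have key : ∀ F : Closeds X, IsClosed ((F : Set X) \ E) := by
    intro F
    induction F using WellFoundedLT.induction with
    | _ F ih =>
    by_cases hne : ((F : Set X) ∩ E).Nonempty
    swap
    · have : (F : Set X) \ E = F := by
        ext x
        constructor
        · exact fun h => h.1
        · intro hx; exact ⟨hx, fun hE => hne ⟨x, hx, hE⟩⟩
      rw [this]; exact F.isClosed
    by_cases hirr : IsPreirreducible (F : Set X)
    · obtain ⟨e, heF, heE⟩ := hne
      have hirr' : IsIrreducible (F : Set X) := ⟨⟨e, heF⟩, hirr⟩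
      obtain ⟨ξ, hξ⟩ := QuasiSober.sober hirr' F.isClosed
      have hξe : ξ ⤳ e := hξ.specializes heF
      have hξE : ξ ∈ E := hA e heE ξ hξe
      obtain ⟨W, hW, hξW, hWE⟩ := hB ξ hξE
      have hξF : ξ ∈ (F : Set X) := hξ.mem
      let F' : Closeds X := ⟨(F : Set X) \ W, F.isClosed.sdiff hW⟩
      have hle : F' ≤ F := fun x hx => hx.1
      have hlt : F' < F := by
        refine lt_of_le_of_ne hle ?_
        intro h
        have : ξ ∈ (F' : Set X) := by rw [h]; exact hξF
        exact this.2 hξW
      have h1 := ih F' hlt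
      have heq : (F : Set X) \ E = (F' : Set X) \ E := by
        ext x
        constructor
        · rintro ⟨hxF, hxE⟩
          refine ⟨⟨hxF, fun hxW => hxE (hWE ⟨hxW, ?_⟩)⟩, hxE⟩
          rw [hξ.def]; exact hxF
        · rintro ⟨⟨hxF, _⟩, hxE⟩; exact ⟨hxF, hxE⟩
      rw [heq]; exact h1
    · rw [isPreirreducible_iff_isClosed_union_isClosed] at hirr
      push_neg at hirr
      obtain ⟨Z1, Z2, hZ1, hZ2, hsub, hn1, hn2⟩ := hirr
      let F1 : Closeds X := ⟨(F : Set X) ∩ Z1, F.isClosed.inter hZ1⟩
      let F2 : Closeds X := ⟨(F : Set X) ∩ Z2, F.isClosed.inter hZ2⟩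
      have hlt1 : F1 < F := by
        refine lt_of_le_of_ne (fun x hx => hx.1) ?_
        intro h
        apply hn1
        intro x hx
        have : x ∈ (F1 : Set X) := by rw [h]; exact hx
        exact this.2
      have hlt2 : F2 < F := by
        refine lt_of_le_of_ne (fun x hx => hx.1) ?_
        intro h
        apply hn2
        intro x hx
        have : x ∈ (F2 : Set X) := by rw [h]; exact hx
        exact this.2
      have heq : (F : Set X) \ E = ((F1 : Set X) \ E) ∪ ((F2 : Set X) \ E) := by
        ext x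
        constructor
        · rintro ⟨hxF, hxE⟩
          rcases hsub hxF with h | h
          · exact Or.inl ⟨⟨hxF, h⟩, hxE⟩
          · exact Or.inr ⟨⟨hxF, h⟩, hxE⟩
        · rintro (⟨⟨hxF, _⟩, hxE⟩ | ⟨⟨hxF, _⟩, hxE⟩) <;> exact ⟨hxF, hxE⟩
      rw [heq]
      exact (ih F1 hlt1).union (ih F2 hlt2)
  have := key ⊤
  have h2 : ((⊤ : Closeds X) : Set X) \ E = Eᶜ := by
    ext x; simp
  rw [h2] at this
  exact isClosed_compl_iff.1 this

end Groth.Agent.Helper3.GRO
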