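import Mathlib
import Groth.Prelude
import Groth.Agent.Helper3.GRO1
import Groth.Agent.Helper1.NodalRed1
import Groth.Agent.Helper5.UOFlat17
import Groth.Agent.Helper5.DvrSpec
import Groth.Agent.Helper5.SecNbI

set_option autoImplicit false
set_option linter.style.haveILetI false
set_option linter.unusedSectionVars false
set_option linter.unusedVariables false
set_option linter.deprecated false
set_option linter.style.haveILetI false
set_option linter.unusedSectionVars false
set_option linter.unusedVariables false

universe u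

namespace Groth.Agent.Helper3.GRO

open AlgebraicGeometry CategoryTheory CategoryTheory.Limits TopologicalSpace Topology
open Groth.Agent.Helper5.SecNb

/-- reducedness of local rings passes to generizations -/
theorem isReduced_stalk_of_specializes {X : Scheme.{u}} {x x' : X} (hs : x' ⤳ x)
    (h : _root_.IsReduced (X.presheaf.stalk x)) : _root_.IsReduced (X.presheaf.stalk x') := by
  haveI : Flat (X.fromSpecStalk x) := Groth.Agent.Helper5.RedFib.flat_fromSpecStalk X x
  obtain ⟨r, hr⟩ : x' ∈ Set.range (X.fromSpecStalk x) := by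
    rw [Scheme.range_fromSpecStalk]; exact hs
  haveI : IsReduced (Spec (X.presheaf.stalk x)) := inferInstance
  have h1 : _root_.IsReduced ((Spec (X.presheaf.stalk x)).presheaf.stalk r) := inferInstance
  have := (Groth.Agent.Helper4.GeomRedPt.isReduced_stalk_iff (X.fromSpecStalk x) r).1 h1
  rwa [hr] at this

/-- the key local statement over a discrete valuation ring: given a point `z'` of a base change
`P` of `f` to a field whose image `π z'` specializes to a point `x` of the locus, some point of `P`
above `π z'` has a reduced local ring. -/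
theorem exists_reduced_of_specializes {X Y : Scheme.{u}} [IsLocallyNoetherian Y] (f : X ⟶ Y)
    [Flat f] [LocallyOfFiniteType f] {K : Type u} [Field K] (s : Spec (CommRingCat.of K) ⟶ Y)
    (z' : ↥(pullback f s))
    (hfin : ∀ (x : X) (hsp : (pullback.fst f s).base z' ⤳ x),
      (X.presheaf.stalkSpecializes hsp ≫ (pullback.fst f s).stalkMap z' ≫
        (pullback f s).residue z').hom.EssFiniteType)
    (x : X) (hsp : (pullback.fst f s).base z' ⤳ x) (hne : x ≠ (pullback.fst f s).base z')
    (hx : x ∈ E f) :
    ∃ x' : ↥(pullback f s), (pullback.fst f s).base x' = (pullback.fst f s).base z' ∧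
      _root_.IsReduced ((pullback f s).presheaf.stalk x') := by
  classical
  let P := pullback f s
  let π : P ⟶ X := pullback.fst f s
  haveI : IsLocallyNoetherian X := LocallyOfFiniteType.isLocallyNoetherian f
  haveI : LocallyOfFinitePresentation f :=
    LocallyOfFinitePresentation.iff_locallyOfFiniteType.2 inferInstance
  -- the discrete valuation ring
  obtain ⟨A, hA, hdvr, hloc⟩ := Groth.Agent.Helper5.DvrSpec.exists_factor_dvr
    (X.presheaf.stalkSpecializes hsp ≫ π.stalkMap z' ≫ P.residue z').hom (hfin x hsp)
    (Groth.Agent.Helper5.DvrSpec.not_isLocalHom π z' x hsp hne)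
  obtain ⟨h, hcl, hw⟩ := Groth.Agent.Helper5.DvrSpec.exists_hom_of_factor π z' x hsp A hA hloc
  haveI := hdvr
  let T := Spec (CommRingCat.of A)
  let Q := pullback f (h ≫ f)
  let fT : Q ⟶ T := pullback.snd f (h ≫ f)
  let σ : T ⟶ Q := pullback.lift h (𝟙 T) (by simp)
  have hσ1 : σ ≫ pullback.fst f (h ≫ f) = h := pullback.lift_fst _ _ _
  have hσ2 : σ ≫ fT = 𝟙 T := pullback.lift_snd _ _ _
  let x'' : Q := σ.base (IsLocalRing.closedPoint A)
  have hfst : (pullback.fst f (h ≫ f)).base x'' = x := by
    show (σ ≫ pullback.fst f (h ≫ f)).base _ = x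
    rw [hσ1]; exact hcl
  have hx'' : x'' ∈ E fT :=
    (mem_E_iff_of_isPullback (IsPullback.of_hasPullback f (h ≫ f)) x'').2 (by rw [hfst]; exact hx)
  haveI : IsLocallyNoetherian T := inferInstance
  haveI : UniversallyOpen fT := inferInstance
  have hredQ : _root_.IsReduced (Q.presheaf.stalk x'') := by
    apply Groth.Agent.Helper5.UOFlat.isReduced_stalk_of_s2561 fT x''
    · intro z₁ _ _
      exact Groth.Agent.Helper5.SecNb.isUnivOpenAt_of_universallyOpen fT _
    · exact hx''
    · infer_instance
  -- the generic point of the trait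
  let j : Spec (P.residueField z') ⟶ T := Spec.map (CommRingCat.ofHom A.subtype)
  have hw' : j ≫ h = P.fromSpecResidueField z' ≫ π := hw
  haveI hjflat : Flat j := by
    rw [Flat.SpecMap_iff]
    show (algebraMap A (P.residueField z')).Flat
    rw [RingHom.flat_algebraMap_iff]
    exact IsLocalization.flat (P.residueField z') (nonZeroDivisors A)
  haveI hjsurj : SurjectiveOnStalks j := by
    rw [SurjectiveOnStalks.Spec_iff]
    exact RingHom.surjectiveOnStalks_of_isLocalization (M := nonZeroDivisors A)
      (P.residueField z')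
  let s₁ : Spec (P.residueField z') ⟶ Y := j ≫ h ≫ f
  let QL := pullback f s₁
  let τ : Spec (P.residueField z') ⟶ QL := pullback.lift (j ≫ h) (𝟙 _) (by simp [s₁])
  have hτ1 : τ ≫ pullback.fst f s₁ = j ≫ h := pullback.lift_fst _ _ _
  have hτ2 : τ ≫ pullback.snd f s₁ = 𝟙 _ := pullback.lift_snd _ _ _
  let pt : ↥(Spec (P.residueField z')) := IsLocalRing.closedPoint _
  let ζ' : QL := τ.base pt
  let m : QL ⟶ Q := Groth.Agent.Helper1.NodalRed.pbMap₂ f (h ≫ f) j
  have hm1 : m ≫ pullback.fst f (h ≫ f) = pullback.fst f s₁ :=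
    Groth.Agent.Helper1.NodalRed.pbMap₂_fst f (h ≫ f) j
  have hm2 : m ≫ fT = pullback.snd f s₁ ≫ j := by
    show ((pullbackLeftPullbackSndIso f (h ≫ f) j).inv ≫ pullback.fst _ _) ≫ pullback.snd f (h ≫ f)
      = _
    rw [Category.assoc, pullbackLeftPullbackSndIso_inv_fst_snd]
  haveI : Flat m := inferInstance
  haveI : SurjectiveOnStalks m := by
    show SurjectiveOnStalks ((pullbackLeftPullbackSndIso f (h ≫ f) j).inv ≫ pullback.fst _ _)
    haveI : SurjectiveOnStalks (pullback.fst (pullback.snd f (h ≫ f)) j) :=
      MorphismProperty.pullback_fst _ _ hjsurj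
    infer_instance
  have hτm : τ ≫ m = j ≫ σ := by
    apply pullback.hom_ext
    · rw [Category.assoc, hm1, hτ1, Category.assoc, hσ1]
    · show (τ ≫ m) ≫ fT = (j ≫ σ) ≫ fT
      rw [Category.assoc, hm2, ← Category.assoc, hτ2, Category.id_comp, Category.assoc, hσ2,
        Category.comp_id]
  have hmζ : m.base ζ' = σ.base (j.base pt) := by
    show (τ ≫ m).base pt = (j ≫ σ).base pt
    rw [hτm]
  have hspec : m.base ζ' ⤳ x'' := by
    rw [hmζ]
    exact (IsLocalRing.specializes_closedPoint (j.base pt)).map σ.continuous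
  have hredζ : _root_.IsReduced (Q.presheaf.stalk (m.base ζ')) :=
    isReduced_stalk_of_specializes hspec hredQ
  have hredζ' : _root_.IsReduced (QL.presheaf.stalk ζ') :=
    (Groth.Agent.Helper4.GeomRedPt.isReduced_stalk_iff m ζ').2 hredζ
  -- descend to `P`
  let ρ : Spec (P.residueField z') ⟶ Spec (CommRingCat.of K) :=
    P.fromSpecResidueField z' ≫ pullback.snd f s
  have hs : s₁ = ρ ≫ s := by
    show j ≫ h ≫ f = (P.fromSpecResidueField z' ≫ pullback.snd f s) ≫ s
    rw [← Category.assoc, hw', Category.assoc, Category.assoc, pullback.condition]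
  obtain ⟨x', hx'1, hx'2⟩ := Groth.Agent.Helper1.NodalRed.exists_reduced_of_factor f s ρ s₁ hs ζ'
    hredζ'
  refine ⟨x', ?_, hx'2⟩
  rw [hx'1]
  show (τ ≫ pullback.fst f s₁).base pt = π.base z'
  rw [hτ1, hw', Scheme.Hom.comp_base, TopCat.comp_app]
  congr 1
  exact Scheme.fromSpecResidueField_apply z' pt


/-- essential finiteness of the residue map for a morphism factoring as a morphism locally of
finite type followed by one surjective on stalks -/
theorem essFiniteType_of_factor {P X W : Scheme.{u}} (π : P ⟶ X) (a : P ⟶ W) (b : W ⟶ X)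
    (hπ : π = a ≫ b) [LocallyOfFiniteType a] [SurjectiveOnStalks b] (z' : P) (x : X)
    (hsp : π.base z' ⤳ x) :
    (X.presheaf.stalkSpecializes hsp ≫ π.stalkMap z' ≫ P.residue z').hom.EssFiniteType := by
  subst hπ
  rw [Scheme.Hom.stalkMap_comp, CommRingCat.hom_comp, CommRingCat.hom_comp]
  refine RingHom.EssFiniteType.comp (Groth.Agent.Helper5.DvrSpec.essFiniteType_stalkSpecializes hsp) ?_
  refine RingHom.EssFiniteType.comp ?_ ?_
  · show ((a.stalkMap z').hom.comp (b.stalkMap (a.base z')).hom).EssFiniteType
    refine RingHom.EssFiniteType.comp ?_ (LocallyOfFiniteType.stalkMap a z')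
    apply RingHom.FiniteType.essFiniteType
    apply RingHom.FiniteType.of_surjective
    exact b.stalkMap_surjective (a.base z')
  · apply RingHom.FiniteType.essFiniteType
    apply RingHom.FiniteType.of_surjective
    exact Ideal.Quotient.mk_surjective

/-- (A): the locus is stable under generization, for a flat morphism locally of finite type to
a locally Noetherian scheme. -/
theorem mem_E_of_specializes {X Y : Scheme.{u}} [IsLocallyNoetherian Y] (f : X ⟶ Y) [Flat f]
    [LocallyOfFiniteType f] (x z : X) (hzx : z ⤳ x) (hx : x ∈ E f) : z ∈ E f := by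
  by_cases hne : x = z
  · subst hne; exact hx
  apply Groth.Agent.Helper1.NodalRed.geomReducedAt_of_exRedOver
  intro K _ _ _ _
  let c : Spec (CommRingCat.of K) ⟶ Spec (Y.residueField (f.base z)) :=
    Spec.map (CommRingCat.ofHom
      (algebraMap (IsLocalRing.ResidueField (Y.presheaf.stalk (f.base z))) K))
  let s : Spec (CommRingCat.of K) ⟶ Y := c ≫ Y.fromSpecResidueField (f.base z)
  let e : pullback (pullback.snd f (Y.fromSpecResidueField (f.base z))) c ≅ pullback f s :=
    pullbackLeftPullbackSndIso f (Y.fromSpecResidueField (f.base z)) c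
  haveI : LocallyOfFiniteType c := by
    rw [HasRingHomProperty.Spec_iff (P := @LocallyOfFiniteType)]
    show (algebraMap (IsLocalRing.ResidueField (Y.presheaf.stalk (f.base z))) K).FiniteType
    exact RingHom.finiteType_algebraMap.2 inferInstance
  obtain ⟨z₀, hz₀1, -⟩ := Scheme.Pullback.exists_preimage_pullback
    (f := pullback.snd f (Y.fromSpecResidueField (f.base z))) (g := c) (f.asFiber z)
    (IsLocalRing.closedPoint K) (Subsingleton.elim _ _)
  let z' : ↥(pullback f s) := e.hom.base z₀
  have hπz' : (pullback.fst f s).base z' = z := by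
    show (e.hom ≫ pullback.fst f s).base z₀ = z
    rw [pullbackLeftPullbackSndIso_hom_fst, Scheme.Hom.comp_base, TopCat.comp_app, hz₀1]
    exact f.fiberι_asFiber z
  have hfac : pullback.fst f s =
      (e.inv ≫ pullback.fst (pullback.snd f (Y.fromSpecResidueField (f.base z))) c) ≫
        f.fiberι (f.base z) := by
    rw [Category.assoc]
    exact (pullbackLeftPullbackSndIso_inv_fst f (Y.fromSpecResidueField (f.base z)) c).symm
  have hsurj : SurjectiveOnStalks (f.fiberι (f.base z)) :=
    (inferInstance : IsPreimmersion (f.fiberι (f.base z))).toSurjectiveOnStalks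
  have hfin : ∀ (x : X) (hsp : (pullback.fst f s).base z' ⤳ x),
      (X.presheaf.stalkSpecializes hsp ≫ (pullback.fst f s).stalkMap z' ≫
        (pullback f s).residue z').hom.EssFiniteType := fun x hsp =>
    @essFiniteType_of_factor _ _ _ (pullback.fst f s) _ _ hfac inferInstance hsurj z' x hsp
  obtain ⟨x', hx'1, hx'2⟩ := exists_reduced_of_specializes f s z' hfin x (by rw [hπz']; exact hzx)
    (by rw [hπz']; exact hne) hx
  refine ⟨e.inv.base x', ?_, ?_⟩
  · apply (f.fiberι (f.base z)).isEmbedding.injective
    show (e.inv ≫ pullback.fst (pullback.snd f (Y.fromSpecResidueField (f.base z))) c ≫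
      pullback.fst f (Y.fromSpecResidueField (f.base z))).base x' = _
    rw [pullbackLeftPullbackSndIso_inv_fst, hx'1, hπz']
    exact (f.fiberι_asFiber z).symm
  · have h1 : e.hom.base (e.inv.base x') = x' := by
      show (e.inv ≫ e.hom).base x' = x'
      rw [Iso.inv_hom_id]; rfl
    refine (Groth.Agent.Helper4.GeomRedPt.isReduced_stalk_iff e.hom (e.inv.base x')).2 ?_
    rw [h1]; exact hx'2

end Groth.Agent.Helper3.GRO
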