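import Mathlib
import Groth.Prelude
import Groth.Agent.Helper3.GRO2
import Groth.Agent.Helper3.GRO3
import Groth.Agent.Helper3.GRO4
import Groth.Agent.Lead.FD15

set_option autoImplicit false
set_option linter.style.haveILetI false
set_option linter.unusedSectionVars false
set_option linter.unusedVariables false
set_option linter.deprecated false
set_option linter.style.haveILetI false
set_option linter.unusedSectionVars false
set_option linter.unusedVariables false

universe u

namespace Groth.Agent.Helper3.GRO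

open AlgebraicGeometry CategoryTheory CategoryTheory.Limits TopologicalSpace Topology

/-- the Noetherian affine case -/
theorem isOpen_E_of_noetherian {X Y : Scheme.{u}} [IsAffine X] [IsAffine Y] [IsLocallyNoetherian Y]
    (f : X ⟶ Y) [Flat f] [LocallyOfFiniteType f] : IsOpen (E f) := by
  haveI : IsLocallyNoetherian X := LocallyOfFiniteType.isLocallyNoetherian f
  haveI : IsNoetherian X := {}
  haveI : NoetherianSpace X := inferInstance
  apply isOpen_of_generizing_of_nhd
  · intro x hx z hz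
    exact mem_E_of_specializes f x z hz hx
  · intro t ht
    obtain ⟨W, hW, htW, hWE⟩ := exists_nhd_over_closure f t ht
    refine ⟨W, hW, htW, ?_⟩
    rintro x ⟨hxW, hxt⟩
    apply hWE x hxW
    have := image_closure_subset_closure_image f.continuous (s := {t}) ⟨x, hxt, rfl⟩
    simpa using this

/-- EGA IV 12.1.1 (vii) / 12.1.6 for geometric reducedness: the locus where the fibres of a flat
morphism locally of finite presentation are geometrically reduced is open. -/
theorem isOpen_E {X Y : Scheme.{u}} (f : X ⟶ Y) [Flat f] [LocallyOfFinitePresentation f] :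
    IsOpen (E f) := by
  rw [isOpen_iff_forall_mem_open]
  intro x hx
  obtain ⟨_, ⟨V, hV, rfl⟩, hxV, -⟩ :=
    Y.isBasis_affineOpens.exists_subset_of_mem_open (Set.mem_univ (f.base x)) isOpen_univ
  let Vo : Y.Opens := V
  obtain ⟨_, ⟨U, hU, rfl⟩, hxU, hUV⟩ :=
    X.isBasis_affineOpens.exists_subset_of_mem_open (show x ∈ (f ⁻¹ᵁ Vo : Set X) from hxV)
      (f ⁻¹ᵁ Vo).isOpen
  let Uo : X.Opens := U
  have e : Uo ≤ f ⁻¹ᵁ Vo := hUV
  haveI : IsAffine (Uo : Scheme.{u}) := hU
  haveI : IsAffine (Vo : Scheme.{u}) := hV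
  let fU : (Uo : Scheme.{u}) ⟶ (Vo : Scheme.{u}) := f.resLE Vo Uo e
  have hfU : fU ≫ Vo.ι = Uo.ι ≫ f := Scheme.Hom.resLE_comp_ι f e
  haveI : Flat fU := inferInstance
  haveI : LocallyOfFinitePresentation fU := inferInstance
  obtain ⟨X₀, S₀, f₀, g, g', hX₀, hS₀, hpb, hft, hf₀ft, hf₀fl⟩ :=
    Groth.Agent.Lead.FD15.noetherian_approximation_flat fU
  haveI := hX₀
  haveI := hS₀
  haveI := hf₀ft
  haveI := hf₀fl
  haveI : IsNoetherianRing Γ(S₀, ⊤) := Algebra.FiniteType.isNoetherianRing ℤ _
  haveI : IsLocallyNoetherian S₀ := isLocallyNoetherian_of_isOpenImmersion S₀.isoSpec.hom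
  have h0 : IsOpen (E f₀) := isOpen_E_of_noetherian f₀
  have h1 : E fU = g'.base ⁻¹' E f₀ := by
    ext x'
    exact mem_E_iff_of_isPullback hpb x'
  have h2 : IsOpen (E fU) := by rw [h1]; exact h0.preimage g'.continuous
  have hsq : IsPullback (𝟙 (Uo : Scheme.{u})) fU (fU ≫ Vo.ι) Vo.ι := by
    have := (IsPullback.id_horiz fU).paste_vert (IsKernelPair.id_of_mono Vo.ι)
    simpa using this
  have h3 : ∀ x' : ↥(Uo : Scheme.{u}), x' ∈ E fU ↔ Uo.ι.base x' ∈ E f := by
    intro x'
    have h4 := mem_E_iff_of_isPullback hsq x'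
    have h5 := mem_E_comp_iff Uo.ι f x'
    rw [← hfU] at h5
    rw [h4]
    exact h5
  refine ⟨Uo.ι.base '' E fU, ?_, Uo.ι.isOpenEmbedding.isOpenMap _ h2, ⟨⟨x, hxU⟩, ?_, rfl⟩⟩
  · rintro _ ⟨x', hx', rfl⟩
    exact (h3 x').1 hx'
  · exact (h3 ⟨x, hxU⟩).2 hx

end Groth.Agent.Helper3.GRO
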