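import Mathlib
import Groth.Prelude
import Groth.Agent.Helper3.GRO5
import Groth.Agent.Helper2.FlatLocusSch

set_option autoImplicit false
set_option linter.style.haveILetI false
set_option linter.unusedSectionVars false
set_option linter.unusedVariables false
set_option linter.deprecated false
set_option linter.style.haveILetI false
set_option linter.unusedSectionVars false
set_option linter.unusedVariables false

universe u

namespace Groth.Agent.Helper3.GRO

open AlgebraicGeometry CategoryTheory CategoryTheory.Limits TopologicalSpace Topology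

/-- flatness of the stalk map is insensitive to restricting the source to an open subscheme -/
theorem flat_stalkMap_comp_iff {U X Y : Scheme.{u}} (μ : U ⟶ X) [IsOpenImmersion μ] (f : X ⟶ Y)
    (x' : U) : ((μ ≫ f).stalkMap x').hom.Flat ↔ (f.stalkMap (μ.base x')).hom.Flat := by
  rw [Scheme.Hom.stalkMap_comp]
  haveI : IsIso (μ.stalkMap x') := inferInstance
  let φ := (asIso (μ.stalkMap x')).commRingCatIsoToRingEquiv
  show ((φ.toRingHom).comp (f.stalkMap (μ.base x')).hom).Flat ↔ _
  constructor
  · intro h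
    have := RingHom.Flat.comp h (RingHom.Flat.of_bijective φ.symm.bijective)
    have h2 : (φ.symm.toRingHom).comp ((φ.toRingHom).comp (f.stalkMap (μ.base x')).hom) =
        (f.stalkMap (μ.base x')).hom := by
      ext a; simp
    rw [← h2]; exact this
  · intro h
    exact RingHom.Flat.comp h (RingHom.Flat.of_bijective φ.bijective)

/-- S4963 -/
theorem isOpen_flat_inter_E {X Y : Scheme.{u}} (f : X ⟶ Y) [LocallyOfFinitePresentation f] :
    IsOpen {x : X | (f.stalkMap x).hom.Flat ∧ x ∈ E f} := by
  have hfl := Groth.Agent.Helper2.FlatLocusSch.isOpen_flat_locus f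
  let Uo : X.Opens := ⟨_, hfl⟩
  haveI : Flat (Uo.ι ≫ f) := by
    rw [Flat.iff_flat_stalkMap]
    intro x'
    rw [flat_stalkMap_comp_iff]
    exact x'.2
  haveI : LocallyOfFinitePresentation (Uo.ι ≫ f) := inferInstance
  have h1 : IsOpen (E (Uo.ι ≫ f)) := isOpen_E (Uo.ι ≫ f)
  have h2 : {x : X | (f.stalkMap x).hom.Flat ∧ x ∈ E f} = Uo.ι.base '' E (Uo.ι ≫ f) := by
    ext x
    constructor
    · rintro ⟨hx1, hx2⟩
      exact ⟨⟨x, hx1⟩, (mem_E_comp_iff Uo.ι f ⟨x, hx1⟩).2 hx2, rfl⟩
    · rintro ⟨x', hx', rfl⟩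
      exact ⟨x'.2, (mem_E_comp_iff Uo.ι f x').1 hx'⟩
  rw [h2]
  exact Uo.ι.isOpenEmbedding.isOpenMap _ h1

end Groth.Agent.Helper3.GRO
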