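import Mathlib
import Groth.Prelude
import Groth.Agent.Helper5.CompDmD
import Groth.Agent.Helper5.KLem10

set_option autoImplicit false
set_option linter.style.haveILetI false
set_option linter.unusedSectionVars false
set_option linter.unusedVariables false
set_option linter.deprecated false
set_option linter.style.haveILetI false
set_option linter.unusedSectionVars false
set_option linter.unusedVariables false

/-!
# Topological lemmas on maximal points of closed subsets (for S7799)
-/

namespace Groth.Agent.Helper3.EqFibA

open CategoryTheory Limits AlgebraicGeometry TopologicalSpace Topology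
open Groth.Agent.Helper5.FibDm Groth.Agent.Helper5.FibMod Groth.Agent.Helper5.KLem
open Groth.Agent.Helper5.CompDm

universe u

/-- the dimensions of the components of the scheme-theoretic fibre are those of the preimage -/
theorem compDims_eq {X Y : Scheme.{u}} (f : X ⟶ Y) (y : Y) :
    compDims f y = compDimsOf (f.base ⁻¹' {y}) :=
  compDims_eq_of_homeomorph (f.fiberHomeo y)

/-- around a maximal point `ζ` of a closed subset `A` of a Noetherian scheme there is an open
set on which `ζ` is the only maximal point of `A` specializing to the given point -/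
theorem pick {P : Scheme.{u}} [NoetherianSpace P] (A : Set P) (hA : IsClosed A) (ζ : P)
    (hζ : ζ ∈ A) (hmax : ∀ w ∈ A, w ⤳ ζ → w = ζ) :
    ∃ U : Set P, IsOpen U ∧ ζ ∈ U ∧ ∀ x ∈ U, ∀ m ∈ A, (∀ w ∈ A, w ⤳ m → w = m) → m ⤳ x →
      m = ζ := by
  classical
  haveI : NoetherianSpace ↥A := hA.isClosedEmbedding_subtypeVal.isInducing.noetherianSpace
  have hfin : (irreducibleComponents ↥A).Finite := NoetherianSpace.finite_irreducibleComponents
  let 𝓔 : Set (Set ↥A) := {C | C ∈ irreducibleComponents ↥A ∧ ζ ∉ Subtype.val '' C}
  have h𝓔fin : 𝓔.Finite := hfin.subset (fun C hC => hC.1)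
  let B : Set P := ⋃ C ∈ 𝓔, Subtype.val '' C
  have hBcl : IsClosed B := by
    apply h𝓔fin.isClosed_biUnion
    intro C hC
    exact hA.isClosedEmbedding_subtypeVal.isClosedMap _
      (isClosed_of_mem_irreducibleComponents C hC.1)
  refine ⟨Bᶜ, hBcl.isOpen_compl, ?_, ?_⟩
  · intro hζB
    simp only [B, Set.mem_iUnion] at hζB
    obtain ⟨C, hC, hζC⟩ := hζB
    exact hC.2 hζC
  · intro x hx m hm hmmax hmx
    obtain ⟨C, hC, hsub⟩ := exists_mem_irreducibleComponents_subset_of_isIrreducible
      ({⟨m, hm⟩} : Set ↥A) isIrreducible_singleton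
    obtain ⟨ζ'', hζ''A, -, hcl, -⟩ := component_generic A hA C hC
    have h1 : m ∈ closure ({ζ''} : Set P) := by
      rw [hcl]
      exact ⟨⟨m, hm⟩, hsub rfl, rfl⟩
    have h2 : ζ'' = m := hmmax ζ'' hζ''A (specializes_iff_mem_closure.mpr h1)
    rw [h2] at hcl
    -- `x ∈ closure {m} = val '' C`
    have hxC : x ∈ Subtype.val '' C := by
      rw [← hcl]
      exact specializes_iff_mem_closure.mp hmx
    by_contra hne
    have hCE : C ∈ 𝓔 := by
      refine ⟨hC, fun hζC => hne ?_⟩
      rw [← hcl] at hζC
      exact (hmax m hm (specializes_iff_mem_closure.mpr hζC))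
    apply hx
    simp only [B, Set.mem_iUnion]
    exact ⟨C, hCE, hxC⟩

/-- monotonicity of the dimension of closures of points -/
theorem dim_closure_le {P : Type*} [TopologicalSpace P] {a b : P} (h : b ⤳ a) :
    topologicalKrullDim ↥(closure ({a} : Set P)) ≤ topologicalKrullDim ↥(closure ({b} : Set P)) := by
  have hsub : closure ({a} : Set P) ⊆ closure ({b} : Set P) :=
    (isClosed_closure.closure_subset_iff).mpr
      (Set.singleton_subset_iff.mpr (specializes_iff_mem_closure.mp h))
  exact (Topology.IsInducing.topologicalKrullDim_le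
    (Topology.IsEmbedding.inclusion hsub).isInducing)

/-- homeomorphisms preserve the dimension of closures of points -/
theorem dim_closure_homeo {P Q : Type*} [TopologicalSpace P] [TopologicalSpace Q] (e : P ≃ₜ Q)
    (a : P) :
    topologicalKrullDim ↥(closure ({e a} : Set Q)) =
      topologicalKrullDim ↥(closure ({a} : Set P)) := by
  have h1 : closure ({e a} : Set Q) = e '' closure ({a} : Set P) := by
    rw [e.image_closure, Set.image_singleton]
  rw [h1]
  exact dim_image_homeomorph e _

end Groth.Agent.Helper3.EqFibA
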