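import Mathlib
import Groth.Agent.Helper3.Fib2
import Groth.Agent.Helper3.IdemConn
import Groth.Agent.Helper3.GammaConn

set_option autoImplicit false
set_option linter.style.haveILetI false
set_option linter.unusedSectionVars false
set_option linter.unusedVariables false
set_option linter.style.haveILetI false
set_option linter.unusedSectionVars false
set_option linter.unusedVariables false

open AlgebraicGeometry CategoryTheory CategoryTheory.Limits TopologicalSpace Opposite

universe u

namespace Groth.Agent.Helper3.Fib

/-- A closed surjective fibration onto a connected scheme has connected source. -/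
theorem IsFib.connected {X Y : Scheme.{u}} (f : X ⟶ Y) (hf : IsFib f)
    (hc : IsClosedMap f.base) [ConnectedSpace Y] : ConnectedSpace X := by
  have hs := hf.surjective_of_isClosedMap hc
  have hne : Nonempty X := by
    obtain ⟨y⟩ := (inferInstance : Nonempty Y)
    obtain ⟨x, -⟩ := hs y
    exact ⟨x⟩
  have hpre : PreconnectedSpace X := by
    apply Groth.Agent.Helper3.IdemConn.preconnected_of_idem
    intro e he
    have hb : Function.Bijective (f.app ⊤).hom := hf ⊤
    obtain ⟨e', rfl⟩ := hb.2 e
    have he' : IsIdempotentElem e' := by
      apply hb.1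
      have : (f.app ⊤).hom (e' * e') = (f.app ⊤).hom e' * (f.app ⊤).hom e' := map_mul _ _ _
      rw [this]; exact he
    rcases Groth.Agent.Helper3.GammaConn.idem_trivial e' he' with h | h
    · left; rw [h]; exact map_zero _
    · right; rw [h]; exact map_one _
  exact { toPreconnectedSpace := hpre, toNonempty := hne }

theorem s5670 {X Y Y' : Scheme.{u}} (f : X ⟶ Y) [IsProper f] [IsNoetherian X] [IsNoetherian Y]
    (hf : ∀ U : Y.Opens, Function.Bijective (f.app U)) (g : Y' ⟶ Y) [IsFinite g] [Etale g]
    [ConnectedSpace Y'] : ConnectedSpace ↥(pullback f g) := by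
  have h1 : IsFib f := fun U => hf U
  have h2 : IsFib (pullback.snd f g) := h1.baseChange_flat g
  exact IsFib.connected (pullback.snd f g) h2 (pullback.snd f g).isClosedMap

/-- A surjective fibration out of an integral scheme has integral target. -/
theorem IsFib.isIntegral {X Y : Scheme.{u}} (f : X ⟶ Y) (hf : IsFib f)
    (hs : Function.Surjective f.base) [IsIntegral X] : IsIntegral Y := by
  rw [isIntegral_iff_irreducibleSpace_and_isReduced]
  refine ⟨Function.Surjective.irreducibleSpace f.continuous hs, ⟨fun U => ?_⟩⟩
  exact isReduced_of_injective (f.app U).hom (hf U).1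

theorem s19514 (k : Type u) [Field k] (X Y : Scheme.{u})
    [X.Over (Spec (CommRingCat.of k))] [Y.Over (Spec (CommRingCat.of k))]
    [IsProper (X ↘ Spec (CommRingCat.of k))] [IsProper (Y ↘ Spec (CommRingCat.of k))]
    (f : X ⟶ Y) (hf : f ≫ (Y ↘ Spec (CommRingCat.of k)) = X ↘ Spec (CommRingCat.of k))
    (hfib : ∀ V : Y.Opens, IsIso (f.app V))
    [GeometricallyIntegral (X ↘ Spec (CommRingCat.of k))] :
    GeometricallyIntegral (Y ↘ Spec (CommRingCat.of k)) := by
  have h1 : IsFib f := fun V => by
    have := hfib V
    exact ConcreteCategory.bijective_of_isIso (f.app V)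
  have hfp : IsProper f := by
    have : IsProper (f ≫ (Y ↘ Spec (CommRingCat.of k))) := by rw [hf]; infer_instance
    exact IsProper.of_comp f (Y ↘ Spec (CommRingCat.of k))
  refine ⟨fun K _ y Z fst snd hpb => ?_⟩
  have hflat : Flat fst := by
    have : Flat y := inferInstance
    exact MorphismProperty.of_isPullback hpb.flip this
  have h2 : IsFib (pullback.snd f fst) := h1.baseChange_flat fst
  have hs := h2.surjective_of_isClosedMap (pullback.snd f fst).isClosedMap
  have hpb2 : IsPullback (pullback.fst f fst) (pullback.snd f fst ≫ snd)
      (X ↘ Spec (CommRingCat.of k)) y := by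
    rw [← hf]
    exact (IsPullback.of_hasPullback f fst).paste_vert hpb
  have hW : IsIntegral (pullback f fst) :=
    GeometricallyIntegral.geometrically_isIntegral
      (f := X ↘ Spec (CommRingCat.of k)) y _ _ hpb2
  exact IsFib.isIntegral _ h2 hs

end Groth.Agent.Helper3.Fib
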