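import Mathlib
import Groth.Agent.Helper3.Fib3
import Groth.Agent.Helper3.AntiAffApps
import Groth.Agent.Helper3.GammaConn
import Groth.Agent.Helper5.ProdDom
import Groth.Agent.Helper5.ArtUO
import Groth.Agent.Helper5.GammaBC

set_option autoImplicit false
set_option linter.style.haveILetI false
set_option linter.unusedSectionVars false
set_option linter.unusedVariables false
set_option linter.style.haveILetI false
set_option linter.unusedSectionVars false
set_option linter.unusedVariables false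

open AlgebraicGeometry CategoryTheory CategoryTheory.Limits TopologicalSpace Opposite MonoidalCategory CartesianMonoidalCategory MonObj

universe u

namespace Groth.Agent.Helper3.Fib

/-- Rigidity for a closed fibration `ξ : P ⟶ S` whose self fibre product is integral:
if `f' : P ⟶ Z'` (over `S`, `Z'` separated over `S`) contracts one fibre, it factors through `ξ`. -/
theorem fib_rigid {P S Z' : Scheme.{u}} (ξ : P ⟶ S) [QuasiCompact ξ] [QuasiSeparated ξ]
    (hξ : IsFib ξ) (hc : IsClosedMap ξ.base) [IsIntegral (pullback ξ ξ)]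
    (v : Z' ⟶ S) [IsSeparated v] (f' : P ⟶ Z') (hf' : f' ≫ v = ξ)
    (s₀ : S) (z₀ : Z') (h₀ : ∀ x : P, ξ.base x = s₀ → f'.base x = z₀) :
    ∃ r : S ⟶ Z', ξ ≫ r = f' := by
  have hsurj : Function.Surjective ξ.base := hξ.surjective_of_isClosedMap hc
  obtain ⟨W, rW, hsW, hrW⟩ := local_factor hξ hc f' s₀ z₀ h₀
  let p₁ := pullback.fst ξ ξ
  let p₂ := pullback.snd ξ ξ
  have hp : p₁ ≫ ξ = p₂ ≫ ξ := pullback.condition
  let O : (pullback ξ ξ).Opens := (p₁ ≫ ξ) ⁻¹ᵁ W
  have hr1 : Set.range (O.ι ≫ p₁) ⊆ Set.range (ξ ⁻¹ᵁ W).ι := by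
    rw [Scheme.Opens.range_ι]
    rintro _ ⟨z, rfl⟩
    change ξ.base ((O.ι ≫ p₁).base z) ∈ W
    rw [← Scheme.Hom.comp_apply, Category.assoc, Scheme.Hom.comp_apply]
    exact z.2
  have hr2 : Set.range (O.ι ≫ p₂) ⊆ Set.range (ξ ⁻¹ᵁ W).ι := by
    rw [Scheme.Opens.range_ι]
    rintro _ ⟨z, rfl⟩
    change ξ.base ((O.ι ≫ p₂).base z) ∈ W
    rw [← Scheme.Hom.comp_apply, Category.assoc, ← hp, Scheme.Hom.comp_apply]
    exact z.2
  let c₁ := IsOpenImmersion.lift (ξ ⁻¹ᵁ W).ι (O.ι ≫ p₁) hr1
  let c₂ := IsOpenImmersion.lift (ξ ⁻¹ᵁ W).ι (O.ι ≫ p₂) hr2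
  have hc₁ : c₁ ≫ (ξ ⁻¹ᵁ W).ι = O.ι ≫ p₁ := IsOpenImmersion.lift_fac _ _ _
  have hc₂ : c₂ ≫ (ξ ⁻¹ᵁ W).ι = O.ι ≫ p₂ := IsOpenImmersion.lift_fac _ _ _
  have hcc : c₁ ≫ (ξ ∣_ W) = c₂ ≫ (ξ ∣_ W) := by
    rw [← cancel_mono W.ι, Category.assoc, Category.assoc, morphismRestrict_ι,
      ← Category.assoc, ← Category.assoc, hc₁, hc₂, Category.assoc, Category.assoc, hp]
  have hagree : O.ι ≫ (p₁ ≫ f') = O.ι ≫ (p₂ ≫ f') := by
    rw [← Category.assoc, ← Category.assoc, ← hc₁, ← hc₂, Category.assoc, Category.assoc, ← hrW,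
      ← Category.assoc, ← Category.assoc, hcc]
  -- `O` is dense
  obtain ⟨x₀, hx₀⟩ := hsurj s₀
  obtain ⟨q₀, hq1, hq2⟩ := Scheme.Pullback.exists_preimage_pullback (f := ξ) (g := ξ) x₀ x₀ rfl
  have hq₀ : q₀ ∈ O := by
    change (p₁ ≫ ξ).base q₀ ∈ W
    rw [Scheme.Hom.comp_apply]
    change ξ.base ((pullback.fst ξ ξ).base q₀) ∈ W
    rw [hq1, hx₀]; exact hsW
  haveI : IsDominant O.ι := by
    constructor
    unfold DenseRange
    rw [Scheme.Opens.range_ι]
    exact O.isOpen.dense ⟨q₀, hq₀⟩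
  have heq : p₁ ≫ f' = p₂ ≫ f' := by
    refine ext_of_isDominant_of_isSeparated v ?_ O.ι hagree
    rw [Category.assoc, Category.assoc, hf', hp]
  refine global_factor hξ hc f' fun s => ?_
  obtain ⟨x₁, hx₁⟩ := hsurj s
  refine ⟨f'.base x₁, fun x hx => ?_⟩
  obtain ⟨q, hq1, hq2⟩ := Scheme.Pullback.exists_preimage_pullback (f := ξ) (g := ξ) x x₁
    (hx.trans hx₁.symm)
  have := congr($(heq).base q)
  rw [Scheme.Hom.comp_apply, Scheme.Hom.comp_apply] at this
  change f'.base ((pullback.fst ξ ξ).base q) = f'.base ((pullback.snd ξ ξ).base q) at this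
  rwa [hq1, hq2] at this

open Groth.Agent.Helper5.GrpDense in
/-- `X → Spec k` with `Γ(X) = k` is a fibration. -/
lemma isFib_of_hΓ {k : Type u} [Field k] {X : Scheme.{u}} (p : X ⟶ Spec (CommRingCat.of k))
    (hΓ : Function.Bijective p.appTop.hom) : IsFib p := by
  refine bijective_app_of_basis p {⊤} ?_ ?_
  · intro U y hy
    refine ⟨⊤, rfl, trivial, ?_⟩
    intro z _
    have : z = y := Subsingleton.elim _ _
    rw [this]; exact hy
  · rintro V rfl
    exact hΓ

open Groth.Agent.Helper5.GrpDense Groth.Agent.Helper3.AntiAffApps in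
/-- global functions of a proper geometrically integral scheme over a field are constants -/
lemma hΓ_of_geomIntegral (k : Type u) [Field k] (X : Over (Spec (CommRingCat.of k)))
    [IsProper X.hom] [GeometricallyIntegral X.hom]
    (K : Type u) [Field K] [Algebra k K] [IsAlgClosed K] :
    Function.Bijective X.hom.appTop.hom := by
  let q : Spec (CommRingCat.of K) ⟶ Spec (CommRingCat.of k) :=
    Spec.map (CommRingCat.ofHom (algebraMap k K))
  haveI hint : IsIntegral (pullback X.hom q) :=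
    GeometricallyIntegral.geometrically_isIntegral (f := X.hom) q _ _
      (IsPullback.of_hasPullback X.hom q)
  let XK : Over (Spec (CommRingCat.of K)) := Over.mk (pullback.snd X.hom q)
  haveI : IsProper XK.hom := by change IsProper (pullback.snd X.hom q); infer_instance
  haveI : LocallyOfFiniteType XK.hom := inferInstance
  haveI : Nonempty XK.left := by change Nonempty ↥(pullback X.hom q); infer_instance
  obtain ⟨v₀⟩ := exists_ratPt (k := K) (X := XK)
  have hK : Function.Bijective (pullback.snd X.hom q).appTop.hom :=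
    Groth.Agent.Helper3.GammaConn.bijective_appTop_of_connected K (pullback.snd X.hom q) v₀.left
      (Over.w v₀)
  haveI : Surjective q := by
    constructor
    intro y
    obtain ⟨x⟩ : Nonempty (Spec (CommRingCat.of K)) := inferInstance
    exact ⟨x, Subsingleton.elim _ _⟩
  haveI : CompactSpace X.left := by
    have : QuasiCompact X.hom := inferInstance
    exact (quasiCompact_iff_compactSpace X.hom).mp this
  haveI : QuasiSeparatedSpace X.left := by
    have : QuasiSeparated X.hom := inferInstance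
    exact (quasiSeparated_iff_quasiSeparatedSpace X.hom).mp this
  exact Groth.Agent.Helper5.GammaBC.bijective_appTop_of_bijective_of_surjective
    (IsPullback.of_hasPullback X.hom q) hK

open Groth.Agent.Helper5.GrpDense in
theorem s18368 (k : Type u) [Field k]
    (X Y Z : Over (Spec (CommRingCat.of k)))
    [IsProper X.hom] [GeometricallyIntegral X.hom]
    [LocallyOfFiniteType Y.hom] [QuasiCompact Y.hom] [GeometricallyIntegral Y.hom]
    [IsSeparated Z.hom] (f : X ⊗ Y ⟶ Z)
    (K : Type u) [Field K] [Algebra k K] [IsAlgClosed K]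
    (y₀ : (Over.mk (Spec.map (CommRingCat.ofHom (algebraMap k K))) : Over (Spec (CommRingCat.of k))) ⟶ Y)
    (z₀ : (Over.mk (Spec.map (CommRingCat.ofHom (algebraMap k K))) : Over (Spec (CommRingCat.of k))) ⟶ Z)
    (h : (X ◁ y₀) ≫ f = snd X _ ≫ z₀) :
    ∃! g : Y ⟶ Z, f = snd X Y ≫ g := by
  have hΓ := hΓ_of_geomIntegral k X K
  have hfibX : IsFib X.hom := isFib_of_hΓ X.hom hΓ
  let ξ : pullback X.hom Y.hom ⟶ Y.left := pullback.snd X.hom Y.hom
  have hξ_eq : (snd X Y).left = ξ := rfl
  have hfib : IsFib ξ := hfibX.baseChange_flat Y.hom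
  have hc : IsClosedMap ξ.base := ξ.isClosedMap
  have hsurj : Function.Surjective ξ.base := hfib.surjective_of_isClosedMap hc
  haveI : UniversallyOpen X.hom := universallyOpen_of_artinian k X.hom
  haveI : IsIntegral Y.left := GeometricallyIntegral.isIntegral_of_subsingleton Y.hom
  haveI : IsLocallyNoetherian Y.left := LocallyOfFiniteType.isLocallyNoetherian Y.hom
  haveI : IsIntegral (pullback X.hom Y.hom) := inferInstance
  haveI : IsLocallyNoetherian (pullback X.hom Y.hom) := LocallyOfFiniteType.isLocallyNoetherian ξ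
  haveI : IsIntegral (pullback ξ ξ) := inferInstance
  let v : (Z ⊗ Y).left ⟶ Y.left := pullback.snd Z.hom Y.hom
  let F : X ⊗ Y ⟶ Z ⊗ Y := lift f (snd X Y)
  have hFv : F.left ≫ v = ξ := by
    change (F ≫ snd Z Y).left = _
    rw [lift_snd]
    rfl
  -- the contracted fibre
  let pt : (Spec (CommRingCat.of K) : Scheme.{u}) := IsLocalRing.closedPoint K
  have hcontr : ∀ x : (X ⊗ Y).left, ξ.base x = y₀.left.base pt →
      F.left.base x = (lift z₀ y₀).left.base pt := by
    intro x hx
    have hmem : x ∈ Set.range (X ◁ y₀).left := by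
      rw [range_whiskerLeft, Set.mem_preimage]
      exact ⟨pt, hx.symm⟩
    obtain ⟨w, rfl⟩ := hmem
    have e1 : (X ◁ y₀) ≫ F = snd X _ ≫ lift z₀ y₀ := by
      apply CartesianMonoidalCategory.hom_ext
      · simp only [F, Category.assoc, lift_fst]; exact h
      · simp only [F, Category.assoc, lift_snd, whiskerLeft_snd]
    rw [← Scheme.Hom.comp_apply, ← Over.comp_left, e1, Over.comp_left, Scheme.Hom.comp_apply]
    congr 1
    exact Subsingleton.elim (α := PrimeSpectrum K) _ _
  obtain ⟨r, hr⟩ := fib_rigid ξ hfib hc v F.left hFv _ _ hcontr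
  let gl : Y.left ⟶ Z.left := r ≫ (fst Z Y).left
  have hgl : ξ ≫ gl = f.left := by
    change ξ ≫ r ≫ _ = _
    rw [← Category.assoc, hr, ← Over.comp_left, lift_fst]
  have hgw : gl ≫ Z.hom = Y.hom := by
    apply hfib.cancel hsurj
    rw [← Category.assoc, hgl, Over.w f]
    exact (Over.w (snd X Y)).symm
  refine ⟨Over.homMk gl hgw, ?_, ?_⟩
  · apply Over.OverMorphism.ext
    change f.left = ξ ≫ gl
    rw [hgl]
  · intro g' hg'
    apply Over.OverMorphism.ext
    change g'.left = gl
    apply hfib.cancel hsurj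
    rw [hgl, hg']
    rfl

end Groth.Agent.Helper3.Fib
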