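import Mathlib

set_option autoImplicit false
set_option linter.style.haveILetI false
set_option linter.unusedSectionVars false
set_option linter.unusedVariables false
set_option linter.style.haveILetI false
set_option linter.unusedSectionVars false
set_option linter.unusedVariables false

universe u
open CategoryTheory CategoryTheory.Limits AlgebraicGeometry

namespace Groth.Agent.Helper3.GalOrb

variable (k K : Type u) [Field k] [Field K] [Algebra k K]
  {X : Scheme.{u}} (f : X ⟶ Spec (CommRingCat.of k))

/-- structure map of the residue field -/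
noncomputable def ψ (x : X) : CommRingCat.of k ⟶ X.residueField x :=
  Spec.preimage (X.fromSpecResidueField x ≫ f)

theorem map_ψ (x : X) : Spec.map (ψ k f x) = X.fromSpecResidueField x ≫ f := Spec.map_preimage _

theorem comp_f_iff (x : X) (φ : X.residueField x ⟶ CommRingCat.of K) :
    (Spec.map φ ≫ X.fromSpecResidueField x) ≫ f =
        Spec.map (CommRingCat.ofHom (algebraMap k K)) ↔
      ψ k f x ≫ φ = CommRingCat.ofHom (algebraMap k K) := by
  rw [Category.assoc, ← map_ψ, ← Spec.map_comp]
  exact Spec.map_inj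

theorem pt_eq (a : Spec (CommRingCat.of K)) : a = IsLocalRing.closedPoint K :=
  Subsingleton.elim (α := PrimeSpectrum K) _ _

/-- every `K`-point factors through the residue field of its image -/
theorem exists_factor (p : Spec (CommRingCat.of K) ⟶ X) (x : X)
    (hx : p (IsLocalRing.closedPoint K) = x) :
    ∃ φ : X.residueField x ⟶ CommRingCat.of K, p = Spec.map φ ≫ X.fromSpecResidueField x := by
  subst hx
  exact ⟨_, (Scheme.descResidueField_stalkClosedPointTo_fromSpecResidueField K X p).symm⟩


variable [IsAlgClosure k K]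

theorem exists_point_of_isClosed [LocallyOfFiniteType f] (x : X) (hx : IsClosed ({x} : Set X)) :
    ∃ p : Spec (CommRingCat.of K) ⟶ X,
      p ≫ f = Spec.map (CommRingCat.ofHom (algebraMap k K)) ∧
        p (IsLocalRing.closedPoint K) = x := by
  haveI : IsClosedImmersion (X.fromSpecResidueField x) :=
    isClosed_singleton_iff_isClosedImmersion.mp hx
  haveI : LocallyOfFiniteType (X.fromSpecResidueField x ≫ f) := inferInstance
  haveI : IsFinite (X.fromSpecResidueField x ≫ f) :=
    isFinite_iff_locallyOfFiniteType_of_jacobsonSpace.mpr inferInstance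
  have hfin : (ψ k f x).hom.Finite := by
    rw [← IsFinite.SpecMap_iff, map_ψ]; infer_instance
  letI : Algebra k (X.residueField x) := (ψ k f x).hom.toAlgebra
  haveI : Module.Finite k (X.residueField x) := hfin
  haveI : IsAlgClosed K := IsAlgClosure.isAlgClosed k
  let φ : X.residueField x →ₐ[k] K := IsAlgClosed.lift
  refine ⟨Spec.map (CommRingCat.ofHom φ.toRingHom) ≫ X.fromSpecResidueField x, ?_, ?_⟩
  · rw [comp_f_iff]
    ext a
    exact φ.commutes a
  · rw [Scheme.Hom.comp_apply]
    exact Scheme.fromSpecResidueField_apply _ _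

theorem isClosed_of_point [LocallyOfFiniteType f] (p : Spec (CommRingCat.of K) ⟶ X)
    (hp : p ≫ f = Spec.map (CommRingCat.ofHom (algebraMap k K))) :
    IsClosed ({p (IsLocalRing.closedPoint K)} : Set X) := by
  set x := p (IsLocalRing.closedPoint K) with hxdef
  haveI : JacobsonSpace X := LocallyOfFiniteType.jacobsonSpace f
  obtain ⟨U, hU, hxU, -⟩ := exists_isAffineOpen_mem_and_subset (x := x) (U := ⊤) trivial
  haveI : IsAffine U.toScheme := hU
  have hrange : Set.range p ⊆ Set.range U.ι := by
    rintro _ ⟨a, rfl⟩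
    rw [Scheme.Opens.range_ι, pt_eq K a]
    exact hxU
  let p' : Spec (CommRingCat.of K) ⟶ U.toScheme := IsOpenImmersion.lift U.ι p hrange
  have hp' : p' ≫ U.ι = p := IsOpenImmersion.lift_fac _ _ _
  haveI : Algebra.IsIntegral k K :=
    (IsAlgClosure.isAlgebraic (R := k) (K := K)).isIntegral
  haveI : IsIntegralHom (Spec.map (CommRingCat.ofHom (algebraMap k K))) := by
    rw [IsIntegralHom.SpecMap_iff]
    exact algebraMap_isIntegral_iff.mpr inferInstance
  haveI : UniversallyClosed (p' ≫ (U.ι ≫ f)) := by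
    rw [← Category.assoc, hp', hp]; infer_instance
  haveI : IsSeparated (U.ι ≫ f) := inferInstance
  haveI : UniversallyClosed p' := UniversallyClosed.of_comp_of_isSeparated p' (U.ι ≫ f)
  have hcl : IsClosed (Set.range p') := p'.isClosedMap.isClosed_range
  have hr : Set.range p' = {p' (IsLocalRing.closedPoint K)} := by
    ext y
    constructor
    · rintro ⟨a, rfl⟩
      rw [pt_eq K a]; rfl
    · rintro rfl
      exact ⟨_, rfl⟩
  rw [hr] at hcl
  apply isClosed_singleton_of_isLocallyClosed_singleton
  have hx' : ({x} : Set X) = U.ι '' {p' (IsLocalRing.closedPoint K)} := by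
    rw [Set.image_singleton, ← Scheme.Hom.comp_apply, hp']
  rw [hx']
  exact hcl.isLocallyClosed.image U.ι.isOpenEmbedding.isInducing
    U.ι.isOpenEmbedding.isOpen_range.isLocallyClosed


theorem orbit_aux (x : X) (φ φ' : X.residueField x ⟶ CommRingCat.of K)
    (hp : (Spec.map φ ≫ X.fromSpecResidueField x) ≫ f =
      Spec.map (CommRingCat.ofHom (algebraMap k K)))
    (hq : (Spec.map φ' ≫ X.fromSpecResidueField x) ≫ f =
      Spec.map (CommRingCat.ofHom (algebraMap k K))) :
    ∃ σ : K ≃ₐ[k] K, Spec.map φ' ≫ X.fromSpecResidueField x =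
      Spec.map (CommRingCat.ofHom σ.toRingHom) ≫ Spec.map φ ≫ X.fromSpecResidueField x := by
  have hψφ : ψ k f x ≫ φ = CommRingCat.ofHom (algebraMap k K) := (comp_f_iff k K f x φ).mp hp
  have hψφ' : ψ k f x ≫ φ' = CommRingCat.ofHom (algebraMap k K) := (comp_f_iff k K f x φ').mp hq
  letI : Algebra k (X.residueField x) := (ψ k f x).hom.toAlgebra
  letI : Algebra (X.residueField x) K := φ.hom.toAlgebra
  haveI : IsScalarTower k (X.residueField x) K := IsScalarTower.of_algebraMap_eq fun a =>
    (congrArg (fun t => t.hom a) hψφ).symm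
  haveI : Algebra.IsAlgebraic k K := IsAlgClosure.isAlgebraic
  haveI : Algebra.IsAlgebraic (X.residueField x) K :=
    Algebra.IsAlgebraic.tower_top (K := k) (X.residueField x)
  haveI : IsAlgClosed K := IsAlgClosure.isAlgClosed k
  let φ'ₐ : X.residueField x →ₐ[k] K :=
    { φ'.hom with commutes' := fun a => congrArg (fun t => t.hom a) hψφ' }
  obtain ⟨σ', hσ'⟩ := IsAlgClosed.surjective_domRestrict_of_isAlgebraic (K := k)
    (L := X.residueField x) (M := K) (E := K) φ'ₐ
  let σ : K ≃ₐ[k] K := AlgEquiv.ofBijective σ' (Algebra.IsAlgebraic.algHom_bijective σ')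
  refine ⟨σ, ?_⟩
  have h1 : φ' = φ ≫ CommRingCat.ofHom σ.toRingHom := by
    ext a
    have := congrArg (fun t => t a) hσ'
    exact this.symm
  rw [h1, Spec.map_comp, Category.assoc]

theorem orbit_iff (p q : Spec (CommRingCat.of K) ⟶ X)
    (hp : p ≫ f = Spec.map (CommRingCat.ofHom (algebraMap k K)))
    (hq : q ≫ f = Spec.map (CommRingCat.ofHom (algebraMap k K))) :
    p (IsLocalRing.closedPoint K) = q (IsLocalRing.closedPoint K) ↔
      ∃ σ : K ≃ₐ[k] K, q = Spec.map (CommRingCat.ofHom σ.toRingHom) ≫ p := by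
  constructor
  · intro h
    obtain ⟨φ, hφ⟩ := exists_factor K p (p (IsLocalRing.closedPoint K)) rfl
    obtain ⟨φ', hφ'⟩ := exists_factor K q (p (IsLocalRing.closedPoint K)) h.symm
    obtain ⟨σ, hσ⟩ := orbit_aux k K f _ φ φ' (hφ ▸ hp) (hφ' ▸ hq)
    exact ⟨σ, by rw [hφ', hσ, ← hφ]⟩
  · rintro ⟨σ, rfl⟩
    rw [Scheme.Hom.comp_apply]
    congr 1
    exact (pt_eq K _).symm

theorem main [LocallyOfFiniteType f] :
    (∀ x : X, IsClosed ({x} : Set X) ↔
        ∃ p : Spec (CommRingCat.of K) ⟶ X,
          p ≫ f = Spec.map (CommRingCat.ofHom (algebraMap k K)) ∧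
          p.base (IsLocalRing.closedPoint K) = x) ∧
      ∀ p q : Spec (CommRingCat.of K) ⟶ X,
        p ≫ f = Spec.map (CommRingCat.ofHom (algebraMap k K)) →
        q ≫ f = Spec.map (CommRingCat.ofHom (algebraMap k K)) →
          (p.base (IsLocalRing.closedPoint K) = q.base (IsLocalRing.closedPoint K) ↔
            ∃ σ : K ≃ₐ[k] K, q = Spec.map (CommRingCat.ofHom σ.toRingHom) ≫ p) := by
  refine ⟨fun x => ⟨fun hx => exists_point_of_isClosed k K f x hx, ?_⟩, fun p q hp hq =>
    orbit_iff k K f p q hp hq⟩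
  rintro ⟨p, hp, rfl⟩
  exact isClosed_of_point k K f p hp

end Groth.Agent.Helper3.GalOrb
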