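import Mathlib
import Groth.Prelude
import Groth.Agent.Helper3.EqFibA
import Groth.Agent.Helper3.Fib5
import Groth.Agent.Helper3.RatPtsMulInv
import Groth.Agent.Helper3.SepPts
import Groth.Agent.Helper5.OrbP3
import Groth.Agent.Helper5.EqDimA
import Groth.Agent.Helper4.GeomIrrSch
import Groth.Agent.Helper8.Blanchard2

set_option autoImplicit false
set_option linter.style.haveILetI false
set_option linter.unusedSectionVars false
set_option linter.unusedVariables false
set_option linter.deprecated false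
set_option linter.style.haveILetI false
set_option linter.unusedSectionVars false
set_option linter.unusedVariables false

/-!
# Fibres of a morphism from an abelian variety over an algebraically closed field: comparison of
the dimensions of the components of two rational fibres
-/

namespace Groth.Agent.Helper3.EqFibB

open CategoryTheory Limits AlgebraicGeometry TopologicalSpace Topology
open MonoidalCategory CartesianMonoidalCategory MonObj
open Groth.Agent.Helper5.FibDm Groth.Agent.Helper5.FibMod Groth.Agent.Helper5.KLem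
open Groth.Agent.Helper5.CompDm Groth.Agent.Helper3.EqFibA
open Groth.Agent.Helper3.RatPtsMulInv

universe u

variable (K : Type u) [Field K]

/-- a morphism from a reduced scheme landing in a rational point of a separated `K`-scheme is
constant -/
theorem const_of_range {W Y : Scheme.{u}} [IsReduced W] (q : Y ⟶ Spec (CommRingCat.of K))
    [IsSeparated q] (b : Spec (CommRingCat.of K) ⟶ Y) (hb : b ≫ q = 𝟙 _) (g : W ⟶ Y)
    (hg : Set.range g.base ⊆ Set.range b.base) : g = (g ≫ q) ≫ b := by
  haveI : IsClosedImmersion (b ≫ q) := by rw [hb]; infer_instance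
  haveI : IsClosedImmersion b := IsClosedImmersion.of_comp b q
  obtain ⟨ψ, hψ⟩ := Groth.Agent.Helper3.SepPts.lift_of_reduced b g hg
  rw [← hψ, Category.assoc, Category.assoc, reassoc_of% hb]

theorem range_pt {Y : Scheme.{u}} (b : Spec (CommRingCat.of K) ⟶ Y) :
    Set.range b.base = {b.base (IsLocalRing.closedPoint K)} := by
  ext y
  constructor
  · rintro ⟨t, rfl⟩
    have : t = IsLocalRing.closedPoint K := Subsingleton.elim (α := PrimeSpectrum K) _ _
    rw [this]
    rfl
  · intro hy
    rw [Set.mem_singleton_iff] at hy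
    exact ⟨_, hy.symm⟩

theorem toUnit_left {S : Scheme.{u}} (T : Over S) : (toUnit T).left = T.hom := by
  have h := Over.w (toUnit T)
  have h2 : (𝟙_ (Over S)).hom = 𝟙 _ := rfl
  rw [h2, Category.comp_id] at h
  exact h

variable [IsAlgClosed K]

set_option maxHeartbeats 16000000 in
/-- comparison of the dimensions of components of two rational fibres -/
theorem core (X : Over (Spec (CommRingCat.of K))) [GrpObj X] [IsProper X.hom]
    [GeometricallyIntegral X.hom]
    {Y : Scheme.{u}} (q : Y ⟶ Spec (CommRingCat.of K)) [IsSeparated q] (f : X.left ⟶ Y)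
    (hf : f ≫ q = X.hom)
    (b b' : Spec (CommRingCat.of K) ⟶ Y) (hb : b ≫ q = 𝟙 _) (hb' : b' ≫ q = 𝟙 _)
    (d d' : WithBot ℕ∞)
    (hd : d ∈ compDimsOf (f.base ⁻¹' {b.base (IsLocalRing.closedPoint K)}))
    (hd' : d' ∈ compDimsOf (f.base ⁻¹' {b'.base (IsLocalRing.closedPoint K)})) : d ≤ d' := by
  let B₀ : Scheme.{u} := Spec (CommRingCat.of K)
  let pt : B₀ := IsLocalRing.closedPoint K
  let P : Scheme.{u} := X.left
  let y : Y := b.base pt
  let y' : Y := b'.base pt
  -- basic properties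
  haveI : LocallyOfFiniteType f := by
    haveI : LocallyOfFiniteType (f ≫ q) := by rw [hf]; infer_instance
    exact locallyOfFiniteType_of_comp f q
  haveI : IsLocallyNoetherian P := LocallyOfFiniteType.isLocallyNoetherian X.hom
  haveI : CompactSpace P := by
    have : QuasiCompact X.hom := inferInstance
    exact (quasiCompact_iff_compactSpace X.hom).mp this
  haveI : IsNoetherian P := ⟨⟩
  haveI : NoetherianSpace P := inferInstance
  -- closedness of the fibres
  have hcl : ∀ (c : B₀ ⟶ Y), c ≫ q = 𝟙 _ → IsClosed (f.base ⁻¹' {c.base pt}) := by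
    intro c hc
    haveI : IsClosedImmersion (c ≫ q) := by rw [hc]; infer_instance
    haveI : IsClosedImmersion c := IsClosedImmersion.of_comp c q
    have h1 : IsClosed (Set.range c.base) := c.isClosedEmbedding.isClosed_range
    rw [range_pt] at h1
    exact h1.preimage f.continuous
  have hA : IsClosed (f.base ⁻¹' {y}) := hcl b hb
  have hA' : IsClosed (f.base ⁻¹' {y'}) := hcl b' hb'
  obtain ⟨ζ, hζA, hζmax, hζd⟩ := (mem_compDimsOf_iff _ hA d).mp hd
  obtain ⟨ζ', hζ'A, hζ'max, hζ'd⟩ := (mem_compDimsOf_iff _ hA' d').mp hd'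
  -- the reduced subschemes
  have key : ∀ (z : P), ∃ (W : Scheme.{u}) (i : W ⟶ P), IsClosedImmersion i ∧ IsIntegral W ∧
      Set.range i.base = closure ({z} : Set P) := by
    intro z
    obtain ⟨W, i, hi, hred, hrange⟩ :=
      Groth.Agent.Helper5.OrbP.exists_reduced_closedImmersion P (closure ({z} : Set P))
        isClosed_closure
    refine ⟨W, i, hi, ?_, hrange⟩
    haveI := hred
    haveI := hi
    have hirr : IsIrreducible (Set.range i.base) := by
      rw [hrange]; exact isIrreducible_singleton.closure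
    haveI : IrreducibleSpace W := by
      have hemb : IsEmbedding i.base := i.isEmbedding
      haveI hS : IrreducibleSpace ↥(Set.range i.base) := Subtype.irreducibleSpace hirr
      let e : W ≃ₜ ↥(Set.range i.base) := hemb.toHomeomorph
      have h1 : IsIrreducible (Set.univ : Set W) := by
        have h2 := (IrreducibleSpace.isIrreducible_univ ↥(Set.range i.base)).image e.symm
          e.symm.continuous.continuousOn
        rwa [Set.image_univ_of_surjective e.symm.surjective] at h2
      exact (irreducibleSpace_def W).mpr h1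
    exact isIntegral_of_irreducibleSpace_of_isReduced W
  obtain ⟨W, i, hi, hWint, hWrange⟩ := key ζ
  obtain ⟨W', i', hi', hW'int, hW'range⟩ := key ζ'
  haveI := hi; haveI := hWint; haveI := hi'; haveI := hW'int
  let WO : Over B₀ := Over.mk (i ≫ X.hom)
  let iO : WO ⟶ X := Over.homMk i rfl
  let WO' : Over B₀ := Over.mk (i' ≫ X.hom)
  let iO' : WO' ⟶ X := Over.homMk i' rfl
  haveI : IsProper WO.hom := inferInstanceAs (IsProper (i ≫ X.hom))
  haveI : GeometricallyReduced WO.hom :=
    Groth.Agent.Helper8.Blanchard2.geometricallyReduced_of_isAlgClosed (i ≫ X.hom)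
  haveI : GeometricallyIrreducible WO.hom :=
    Groth.Agent.Helper4.GeomIrrSch.geometricallyIrreducible_of_isIntegral (i ≫ X.hom)
  haveI : GeometricallyIntegral WO.hom := .of_geometricallyReduced_of_geometricallyIrreducible _
  haveI : IsProper WO'.hom := inferInstanceAs (IsProper (i' ≫ X.hom))
  haveI : GeometricallyReduced WO'.hom :=
    Groth.Agent.Helper8.Blanchard2.geometricallyReduced_of_isAlgClosed (i' ≫ X.hom)
  let YO : Over B₀ := Over.mk q
  let fO : X ⟶ YO := Over.homMk f hf
  have hb2 : b ≫ q = (𝟙_ (Over B₀)).hom := hb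
  let bO : 𝟙_ (Over B₀) ⟶ YO := Over.homMk b hb2
  haveI : IsSeparated YO.hom := inferInstanceAs (IsSeparated q)
  -- `W` lies in the fibre
  have hZA : closure ({ζ} : Set P) ⊆ f.base ⁻¹' {y} :=
    (hA.closure_subset_iff).mpr (Set.singleton_subset_iff.mpr hζA)
  have hsub : Set.range (i ≫ f).base ⊆ Set.range b.base := by
    rintro _ ⟨u, rfl⟩
    rw [range_pt]
    have h1 : i.base u ∈ closure ({ζ} : Set P) := by rw [← hWrange]; exact ⟨u, rfl⟩
    have h2 := hZA h1
    rw [Scheme.Hom.comp_base, TopCat.coe_comp, Function.comp_apply]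
    exact h2
  have hconst : i ≫ f = ((i ≫ f) ≫ q) ≫ b := const_of_range K q b hb (i ≫ f) hsub
  have hconstO : iO ≫ fO = toUnit WO ≫ bO := by
    apply Over.OverMorphism.ext
    rw [Over.comp_left, Over.comp_left, toUnit_left]
    show i ≫ f = (i ≫ X.hom) ≫ b
    rw [hconst, Category.assoc, Category.assoc, reassoc_of% hf, Category.assoc]
  let φ : WO ⊗ X ⟶ YO := (lift (snd WO X) (fst WO X ≫ iO) ≫ μ[X]) ≫ fO
  let pt0 : Over B₀ := Over.mk (Spec.map (CommRingCat.ofHom (algebraMap K K)))
  have he0 : 𝟙 B₀ ≫ (𝟙_ (Over B₀)).hom = pt0.hom := by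
    show 𝟙 _ ≫ 𝟙 _ = Spec.map _
    rw [Category.id_comp, Algebra.algebraMap_self]
    exact (Spec.map_id _).symm
  let e0 : pt0 ⟶ 𝟙_ (Over B₀) := Over.homMk (𝟙 B₀) he0
  let y₀ : pt0 ⟶ X := e0 ≫ η[X]
  let z₀ : pt0 ⟶ YO := e0 ≫ bO
  have h : (WO ◁ y₀) ≫ φ = snd WO pt0 ≫ z₀ := by
    have h1 : (WO ◁ y₀) ≫ lift (snd WO X) (fst WO X ≫ iO) =
        lift (snd WO pt0 ≫ y₀) (fst WO pt0 ≫ iO) := by
      apply CartesianMonoidalCategory.hom_ext
      · rw [Category.assoc, lift_fst, lift_fst, whiskerLeft_snd]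
      · rw [Category.assoc, lift_snd, lift_snd, ← Category.assoc, whiskerLeft_fst]
    have h2 : lift (snd WO pt0 ≫ y₀) (fst WO pt0 ≫ iO) ≫ μ[X] = fst WO pt0 ≫ iO := by
      have h3 : snd WO pt0 ≫ y₀ = (1 : WO ⊗ pt0 ⟶ X) := by
        show snd WO pt0 ≫ e0 ≫ η[X] = _
        rw [← Category.assoc, toUnit_unique (snd WO pt0 ≫ e0) (toUnit _), Hom.one_def]
      rw [← Hom.mul_def, h3, _root_.one_mul]
    show (WO ◁ y₀) ≫ (lift _ _ ≫ μ[X]) ≫ fO = _
    rw [← Category.assoc, ← Category.assoc, h1, h2, Category.assoc, hconstO, ← Category.assoc]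
    show _ = snd WO pt0 ≫ e0 ≫ bO
    rw [← Category.assoc (snd WO pt0)]
    congr 1
    exact toUnit_unique _ _
  obtain ⟨g, hg, -⟩ := Groth.Agent.Helper3.Fib.s18368 K WO X YO φ K y₀ z₀ h
  -- rational points
  have hpoint : ∀ (T : Over B₀) [LocallyOfFiniteType T.hom] [GeometricallyReduced T.hom]
      (O : T.left.Opens), (O : Set T.left).Nonempty →
      ∃ a : 𝟙_ (Over B₀) ⟶ T, a.left.base pt ∈ O := by
    intro T _ _ O hO
    obtain ⟨yv, hyv, hyO⟩ := Groth.Agent.Helper3.SepClosedEq.exists_point_mem K K T.hom O hO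
    have hy' : yv ≫ T.hom = (𝟙_ (Over B₀)).hom := by
      rw [hyv, Algebra.algebraMap_self]; exact Spec.map_id _
    exact ⟨Over.homMk yv hy', hyO⟩
  haveI : Nonempty W := inferInstance
  obtain ⟨aW, -⟩ := hpoint WO ⊤ ⟨Classical.arbitrary W, trivial⟩
  -- the special point of `W'`
  obtain ⟨U', hU'open, hζ'U', hU'⟩ := pick (f.base ⁻¹' {y'}) hA' ζ' hζ'A hζ'max
  let O' : W'.Opens := ⟨i'.base ⁻¹' U', hU'open.preimage i'.continuous⟩
  have hO' : (O' : Set W').Nonempty := by
    have h1 : ζ' ∈ Set.range i'.base := by rw [hW'range]; exact subset_closure rfl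
    obtain ⟨u', hu'⟩ := h1
    exact ⟨u', by show i'.base u' ∈ U'; rw [hu']; exact hζ'U'⟩
  obtain ⟨aW', haW'⟩ := hpoint WO' O' hO'
  let x : P := i.base (aW.left.base pt)
  let x' : P := i'.base (aW'.left.base pt)
  have hx'U' : x' ∈ U' := haW'
  have hxZ : x ∈ closure ({ζ} : Set P) := by rw [← hWrange]; exact ⟨_, rfl⟩
  have hx'Z : x' ∈ closure ({ζ'} : Set P) := by rw [← hW'range]; exact ⟨_, rfl⟩
  have hZ'A' : closure ({ζ'} : Set P) ⊆ f.base ⁻¹' {y'} :=
    (hA'.closure_subset_iff).mpr (Set.singleton_subset_iff.mpr hζ'A)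
  have hfx' : f.base x' = y' := hZ'A' hx'Z
  -- the translation
  let a : 𝟙_ (Over B₀) ⟶ X := aW ≫ iO
  let a' : 𝟙_ (Over B₀) ⟶ X := aW' ≫ iO'
  let c : 𝟙_ (Over B₀) ⟶ X := a' * a⁻¹
  let τ : X ⟶ X := tr c
  have haτ : a ≫ τ = a' := by
    rw [pt_comp_tr]
    exact inv_mul_cancel_right a' a
  have e1 : τ.left ≫ (tr c⁻¹).left = 𝟙 _ := by
    rw [← Over.comp_left, tr_comp_tr_inv]; rfl
  have e2 : (tr c⁻¹).left ≫ τ.left = 𝟙 _ := by
    rw [← Over.comp_left, tr_inv_comp_tr]; rfl
  haveI : IsIso τ.left := ⟨⟨_, e1, e2⟩⟩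
  let τh : P ≃ₜ P := τ.left.homeomorph
  have hτx : τ.left.base x = x' := by
    have h1 := congrArg (fun t => t.left.base pt) haτ
    simp only [Over.comp_left, Scheme.Hom.comp_base, TopCat.coe_comp, Function.comp_apply] at h1
    exact h1
  -- the translate of `W` lies in one fibre
  let ιc : WO ⟶ WO ⊗ X := lift (𝟙 WO) (toUnit WO ≫ c)
  have hF : iO ≫ τ ≫ fO = toUnit WO ≫ c ≫ g := by
    have h1 : ιc ≫ φ = (toUnit WO ≫ c) ≫ g := by
      rw [hg, ← Category.assoc, lift_snd]
    have h2 : ιc ≫ lift (snd WO X) (fst WO X ≫ iO) = lift (toUnit WO ≫ c) iO := by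
      apply CartesianMonoidalCategory.hom_ext
      · rw [Category.assoc, lift_fst, lift_fst, lift_snd]
      · rw [Category.assoc, lift_snd, lift_snd, ← Category.assoc, lift_fst, Category.id_comp]
    have h3 : iO ≫ τ = (toUnit WO ≫ c) * iO := by
      show iO ≫ ((toUnit X ≫ c) * 𝟙 X) = _
      rw [MonObj.comp_mul, Category.comp_id, ← Category.assoc,
        toUnit_unique (iO ≫ toUnit X) (toUnit WO)]
    have h4 : ιc ≫ φ = (iO ≫ τ) ≫ fO := by
      show ιc ≫ (lift _ _ ≫ μ[X]) ≫ fO = _
      rw [← Category.assoc, ← Category.assoc, h2, ← Hom.mul_def, h3]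
    rw [← Category.assoc, ← h4, h1, Category.assoc]
  have hFpt : ∀ u : W, f.base (τ.left.base (i.base u)) = (c ≫ g).left.base pt := by
    intro u
    have h1 := congrArg (fun t => t.left.base u) hF
    simp only [Over.comp_left, Scheme.Hom.comp_base, TopCat.coe_comp, Function.comp_apply] at h1
    have h2 : (toUnit WO).left.base u = pt := Subsingleton.elim (α := PrimeSpectrum K) _ _
    rw [h2] at h1
    exact h1
  have hval : (c ≫ g).left.base pt = y' := by
    rw [← hFpt (aW.left.base pt)]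
    show f.base (τ.left.base x) = y'
    rw [hτx, hfx']
  have hτζA' : τ.left.base ζ ∈ f.base ⁻¹' {y'} := by
    have h1 : ζ ∈ Set.range i.base := by rw [hWrange]; exact subset_closure rfl
    obtain ⟨uζ, huζ⟩ := h1
    show f.base (τ.left.base ζ) = y'
    rw [← huζ, hFpt, hval]
  -- the maximal generization
  obtain ⟨m, hm1, hm2, hm3⟩ := Groth.Agent.Helper5.EqDim.exists_isMG f (τ.left.base ζ)
  have hmA' : m ∈ f.base ⁻¹' {y'} := by
    show f.base m = y'
    rw [hm2]; exact hτζA'
  have hmmax : ∀ w ∈ f.base ⁻¹' {y'}, w ⤳ m → w = m := by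
    intro w hw hwm
    exact hm3 w (by rw [hw, hmA']) hwm
  have hζx : ζ ⤳ x := specializes_iff_mem_closure.mpr hxZ
  have hτζx' : τ.left.base ζ ⤳ x' := by
    rw [← hτx]
    exact hζx.map τ.left.continuous
  have hmζ' : m = ζ' := hU' x' hx'U' m hmA' hmmax (hm1.trans hτζx')
  have hsp : ζ' ⤳ τ.left.base ζ := hmζ' ▸ hm1
  calc d = topologicalKrullDim ↥(closure ({ζ} : Set P)) := hζd.symm
    _ = topologicalKrullDim ↥(closure ({τh ζ} : Set P)) := (dim_closure_homeo τh ζ).symm
    _ ≤ topologicalKrullDim ↥(closure ({ζ'} : Set P)) := dim_closure_le hsp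
    _ = d' := hζ'd

end Groth.Agent.Helper3.EqFibB
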