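import Mathlib
import Groth.Prelude
import Groth.Agent.Helper3.EqFibB
import Groth.Agent.Helper5.CompDmC

set_option autoImplicit false
set_option linter.style.haveILetI false
set_option linter.unusedSectionVars false
set_option linter.unusedVariables false
set_option linter.deprecated false
set_option linter.style.haveILetI false
set_option linter.unusedSectionVars false
set_option linter.unusedVariables false

/-!
# Fibres of a morphism from an abelian variety are equidimensional of one common dimension (S7799)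
-/

namespace Groth.Agent.Helper3.EqFibC

open CategoryTheory Limits AlgebraicGeometry TopologicalSpace Topology
open MonoidalCategory CartesianMonoidalCategory MonObj
open Groth.Agent.Helper5.FibDm Groth.Agent.Helper5.FibMod Groth.Agent.Helper5.KLem
open Groth.Agent.Helper5.CompDm Groth.Agent.Helper3.EqFibA Groth.Agent.Helper3.EqFibB

universe u

/-- base change invariance of the dimensions of the components of the fibres -/
theorem compDims_bc' {X' X S' S : Scheme.{u}} {q : X' ⟶ X} {f' : X' ⟶ S'} {f : X ⟶ S}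
    {h : S' ⟶ S} [LocallyOfFiniteType f] (sq : IsPullback q f' f h) (s' : S') :
    compDims f' s' = compDims f (h.base s') := by
  haveI : LocallyOfFiniteType f' := MorphismProperty.of_isPullback sq inferInstance
  have key := compDims_bc sq Set.univ s'
  ext d
  rw [mem_compDims_iff, mem_compDims_iff]
  have hL : d ∈ {d : WithBot ℕ∞ | ∃ ζ', IsMaxIn (q.base ⁻¹' Set.univ ∩ f'.base ⁻¹' {s'}) ζ' ∧
      ∃ n : ℕ, Dual3.resTrdeg f' ζ' = (n : Cardinal.{u}) ∧ d = (n : WithBot ℕ∞)} ↔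
      ∃ x : X', f' x = s' ∧ (∀ w : X', f' w = s' → w ⤳ x → w = x) ∧
        ∃ n : ℕ, Dual3.resTrdeg f' x = (n : Cardinal.{u}) ∧ d = (n : WithBot ℕ∞) := by
    constructor
    · rintro ⟨ζ', ⟨⟨-, h1⟩, h2⟩, h3⟩
      exact ⟨ζ', h1, fun w hw hwx => h2 w ⟨trivial, hw⟩ hwx, h3⟩
    · rintro ⟨x, h1, h2, h3⟩
      exact ⟨x, ⟨⟨trivial, h1⟩, fun w hw hwx => h2 w hw.2 hwx⟩, h3⟩
  have hR : d ∈ {d : WithBot ℕ∞ | ∃ ζ, IsMaxIn (Set.univ ∩ f.base ⁻¹' {h.base s'}) ζ ∧
      ∃ n : ℕ, Dual3.resTrdeg f ζ = (n : Cardinal.{u}) ∧ d = (n : WithBot ℕ∞)} ↔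
      ∃ x : X, f x = h.base s' ∧ (∀ w : X, f w = h.base s' → w ⤳ x → w = x) ∧
        ∃ n : ℕ, Dual3.resTrdeg f x = (n : Cardinal.{u}) ∧ d = (n : WithBot ℕ∞) := by
    constructor
    · rintro ⟨ζ', ⟨⟨-, h1⟩, h2⟩, h3⟩
      exact ⟨ζ', h1, fun w hw hwx => h2 w ⟨trivial, hw⟩ hwx, h3⟩
    · rintro ⟨x, h1, h2, h3⟩
      exact ⟨x, ⟨⟨trivial, h1⟩, fun w hw hwx => h2 w hw.2 hwx⟩, h3⟩
  rw [← hL, ← hR, key]

set_option maxHeartbeats 16000000 in
theorem s7799 (k : Type u) [Field k] (X : Over (Spec (CommRingCat.of k)))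
    [GrpObj X] [IsProper X.hom] [GeometricallyIntegral X.hom]
    {Y : Scheme.{u}} (q : Y ⟶ Spec (CommRingCat.of k)) [IsSeparated q] (f : X.left ⟶ Y)
    (hf : f ≫ q = X.hom) :
    ∃ d : ℕ, ∀ (y : Y) (Z : Set ↥(f.fiber y)), Z ∈ irreducibleComponents ↥(f.fiber y) →
      topologicalKrullDim ↥Z = d := by
  classical
  haveI : LocallyOfFiniteType f := by
    haveI : LocallyOfFiniteType (f ≫ q) := by rw [hf]; infer_instance
    exact locallyOfFiniteType_of_comp f q
  let ptk : Spec (CommRingCat.of k) := IsLocalRing.closedPoint k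
  let o : X.left := η[X].left.base ptk
  let y₀ : Y := f.base o
  have key : ∀ (y : Y) (d : WithBot ℕ∞), d ∈ compDims f y → ∀ d₀ ∈ compDims f y₀, d = d₀ := by
    intro y d hd d₀ hd₀
    let κ : Type u := Y.residueField y
    let Ω : Type u := AlgebraicClosure κ
    let yΩ : Spec (CommRingCat.of Ω) ⟶ Y :=
      Spec.map (CommRingCat.ofHom (algebraMap κ Ω)) ≫ Y.fromSpecResidueField y
    let φ : CommRingCat.of k ⟶ CommRingCat.of Ω := Spec.preimage (yΩ ≫ q)
    letI : Algebra k Ω := φ.hom.toAlgebra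
    let ext : Spec (CommRingCat.of Ω) ⟶ Spec (CommRingCat.of k) :=
      Spec.map (CommRingCat.ofHom (algebraMap k Ω))
    have hext : yΩ ≫ q = ext := (Spec.map_preimage (yΩ ≫ q)).symm
    let ptΩ : Spec (CommRingCat.of Ω) := IsLocalRing.closedPoint Ω
    -- the base change
    let XΩ : Over (Spec (CommRingCat.of Ω)) := Red.bc ext X
    haveI : IsProper XΩ.hom := inferInstanceAs (IsProper (pullback.snd X.hom ext))
    haveI : GeometricallyIntegral XΩ.hom :=
      inferInstanceAs (GeometricallyIntegral (pullback.snd X.hom ext))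
    let YΩ : Scheme.{u} := pullback q ext
    let qΩ : YΩ ⟶ Spec (CommRingCat.of Ω) := pullback.snd q ext
    haveI : IsSeparated qΩ := inferInstanceAs (IsSeparated (pullback.snd q ext))
    have hcond : (pullback.fst X.hom ext ≫ f) ≫ q = pullback.snd X.hom ext ≫ ext := by
      rw [Category.assoc, hf, pullback.condition]
    let fΩ : XΩ.left ⟶ YΩ := pullback.lift (pullback.fst X.hom ext ≫ f) (pullback.snd X.hom ext) hcond
    have hfΩ : fΩ ≫ qΩ = XΩ.hom := pullback.lift_snd _ _ _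
    have hfΩ1 : fΩ ≫ pullback.fst q ext = pullback.fst X.hom ext ≫ f := pullback.lift_fst _ _ _
    have sq : IsPullback (pullback.fst X.hom ext) fΩ f (pullback.fst q ext) := by
      refine IsPullback.of_bot ?_ hfΩ1.symm (IsPullback.of_hasPullback q ext)
      have h1 : fΩ ≫ pullback.snd q ext = pullback.snd X.hom ext := hfΩ
      rw [h1, hf]
      exact IsPullback.of_hasPullback X.hom ext
    -- the two rational points
    have hbc : yΩ ≫ q = 𝟙 _ ≫ ext := by rw [hext, Category.id_comp]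
    let b : Spec (CommRingCat.of Ω) ⟶ YΩ := pullback.lift yΩ (𝟙 _) hbc
    have hb : b ≫ qΩ = 𝟙 _ := pullback.lift_snd _ _ _
    have hb1 : b ≫ pullback.fst q ext = yΩ := pullback.lift_fst _ _ _
    have hηw : η[X].left ≫ X.hom = 𝟙 (Spec (CommRingCat.of k)) := Over.w η[X]
    have hb₀c : (ext ≫ η[X].left ≫ f) ≫ q = 𝟙 _ ≫ ext := by
      rw [Category.assoc, Category.assoc, hf, hηw]
      show ext ≫ 𝟙 _ = 𝟙 _ ≫ ext
      rw [Category.comp_id, Category.id_comp]
    let b₀ : Spec (CommRingCat.of Ω) ⟶ YΩ := pullback.lift (ext ≫ η[X].left ≫ f) (𝟙 _) hb₀c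
    have hb₀ : b₀ ≫ qΩ = 𝟙 _ := pullback.lift_snd _ _ _
    have hb₀1 : b₀ ≫ pullback.fst q ext = ext ≫ η[X].left ≫ f := pullback.lift_fst _ _ _
    have hy : (pullback.fst q ext).base (b.base ptΩ) = y := by
      rw [← Scheme.Hom.comp_apply, hb1]
      show (Y.fromSpecResidueField y).base _ = y
      exact Scheme.fromSpecResidueField_apply y _
    have hy₀ : (pullback.fst q ext).base (b₀.base ptΩ) = y₀ := by
      rw [← Scheme.Hom.comp_apply, hb₀1]
      show f.base (η[X].left.base (ext.base ptΩ)) = f.base (η[X].left.base ptk)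
      have : ext.base ptΩ = ptk := Subsingleton.elim (α := PrimeSpectrum k) _ _
      rw [this]
    have h1 : compDims fΩ (b.base ptΩ) = compDims f y := by
      rw [compDims_bc' sq, hy]
    have h2 : compDims fΩ (b₀.base ptΩ) = compDims f y₀ := by
      rw [compDims_bc' sq, hy₀]
    have hdΩ : d ∈ compDimsOf (fΩ.base ⁻¹' {b.base ptΩ}) := by
      rw [← compDims_eq, h1]; exact hd
    have hd₀Ω : d₀ ∈ compDimsOf (fΩ.base ⁻¹' {b₀.base ptΩ}) := by
      rw [← compDims_eq, h2]; exact hd₀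
    exact le_antisymm (core Ω XΩ qΩ fΩ hfΩ b b₀ hb hb₀ d d₀ hdΩ hd₀Ω)
      (core Ω XΩ qΩ fΩ hfΩ b₀ b hb₀ hb d₀ d hd₀Ω hdΩ)
  -- the fibre through the origin has a component
  have hne : (compDims f y₀).Nonempty := by
    let z : ↥(f.fiber y₀) := f.asFiber o
    exact ⟨_, irreducibleComponent z, irreducibleComponent_mem_irreducibleComponents z, rfl⟩
  obtain ⟨d₀, hd₀⟩ := hne
  obtain ⟨n, hn⟩ : ∃ n : ℕ, d₀ = (n : WithBot ℕ∞) := by
    obtain ⟨x, -, -, n, -, hdn⟩ := (mem_compDims_iff f y₀ d₀).mp hd₀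
    exact ⟨n, hdn⟩
  refine ⟨n, fun y Z hZ => ?_⟩
  have hmem : topologicalKrullDim ↥Z ∈ compDims f y := ⟨Z, hZ, rfl⟩
  rw [key y _ hmem d₀ hd₀, hn]

end Groth.Agent.Helper3.EqFibC
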