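import Mathlib

open AlgebraicGeometry CategoryTheory TopologicalSpace Opposite

namespace Groth.Agent.Helper3.EssFT

universe u
variable {X Y : Scheme.{u}} (f : X ⟶ Y)

/-- the affine-local property -/
def P (U : Y.affineOpens) : Prop :=
  ∃ T : Set X.affineOpens, (⋃ V ∈ T, ((V : X.Opens) : Set ↥X)) = ((f ⁻¹ᵁ (U : Y.Opens)) : Set ↥X) ∧
    ∀ V ∈ T, ∃ e : (V : X.Opens) ≤ f ⁻¹ᵁ (U : Y.Opens),
      (f.appLE (U : Y.Opens) (V : X.Opens) e).hom.EssFiniteType

theorem res_essFiniteType {Z : Scheme.{u}} {U : Z.Opens} (hU : IsAffineOpen U) (s : Γ(Z, U)) :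
    (Z.presheaf.map (homOfLE (Z.basicOpen_le s)).op).hom.EssFiniteType := by
  haveI : IsLocalization.Away s Γ(Z, Z.basicOpen s) := hU.isLocalization_basicOpen s
  have : (algebraMap Γ(Z, U) Γ(Z, Z.basicOpen s)).EssFiniteType :=
    RingHom.essFiniteType_algebraMap.mpr
      (Algebra.EssFiniteType.of_isLocalization _ (Submonoid.powers s))
  exact this

theorem P_basicOpen (U : Y.affineOpens) (s : Γ(Y, U)) (h : P f U) : P f (Y.affineBasicOpen s) := by
  obtain ⟨T, hT, hT'⟩ := h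
  refine ⟨{W | ∃ V ∈ T, ∃ e : (V : X.Opens) ≤ f ⁻¹ᵁ (U : Y.Opens),
    W = X.affineBasicOpen (f.appLE (U : Y.Opens) (V : X.Opens) e s)}, ?_, ?_⟩
  · ext a
    simp only [Set.mem_iUnion, exists_prop, SetLike.mem_coe, Set.mem_ofPred_eq]
    constructor
    · rintro ⟨W, ⟨V, hV, e, rfl⟩, haW⟩
      have : a ∈ X.basicOpen (f.appLE (U : Y.Opens) (V : X.Opens) e s) := haW
      rw [Scheme.basicOpen_appLE] at this
      exact this.2
    · intro ha
      have haU : a ∈ ((f ⁻¹ᵁ (U : Y.Opens)) : Set ↥X) := Y.basicOpen_le s ha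
      rw [← hT] at haU
      simp only [Set.mem_iUnion, exists_prop, SetLike.mem_coe] at haU
      obtain ⟨V, hV, haV⟩ := haU
      obtain ⟨e, -⟩ := hT' V hV
      refine ⟨_, ⟨V, hV, e, rfl⟩, ?_⟩
      change a ∈ X.basicOpen (f.appLE (U : Y.Opens) (V : X.Opens) e s)
      rw [Scheme.basicOpen_appLE]
      exact ⟨haV, ha⟩
  · rintro W ⟨V, hV, e, rfl⟩
    obtain ⟨e₀, hV'⟩ := hT' V hV
    have e' : X.basicOpen (f.appLE (U : Y.Opens) (V : X.Opens) e s) ≤ f ⁻¹ᵁ Y.basicOpen s := by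
      rw [Scheme.basicOpen_appLE]; exact inf_le_right
    refine ⟨e', ?_⟩
    have h1 : Y.presheaf.map (homOfLE (Y.basicOpen_le s)).op ≫
        f.appLE (Y.basicOpen s) (X.basicOpen (f.appLE (U : Y.Opens) (V : X.Opens) e s)) e' =
        f.appLE (U : Y.Opens) (V : X.Opens) e ≫
          X.presheaf.map (homOfLE (X.basicOpen_le (f.appLE (U : Y.Opens) (V : X.Opens) e s))).op := by
      rw [Scheme.Hom.map_appLE, Scheme.Hom.appLE_map]
    have h2 : ((f.appLE (Y.basicOpen s)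
        (X.basicOpen (f.appLE (U : Y.Opens) (V : X.Opens) e s)) e').hom.comp
        (Y.presheaf.map (homOfLE (Y.basicOpen_le s)).op).hom).EssFiniteType := by
      rw [← CommRingCat.hom_comp, h1, CommRingCat.hom_comp]
      exact hV'.comp (res_essFiniteType V.2 _)
    exact RingHom.EssFiniteType.of_comp _ h2

theorem P_openCover (U : Y.affineOpens) (s : Finset (Γ(Y, U)))
    (hs : Ideal.span (s : Set (Γ(Y, U))) = ⊤)
    (h : ∀ t : s, P f (Y.affineBasicOpen t.1)) : P f U := by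
  choose T hT hT' using h
  refine ⟨⋃ t : s, T t, ?_, ?_⟩
  · ext a
    simp only [Set.mem_iUnion, exists_prop, SetLike.mem_coe]
    constructor
    · rintro ⟨W, ⟨t, hW⟩, haW⟩
      have : a ∈ ((f ⁻¹ᵁ ((Y.affineBasicOpen t.1 : Y.affineOpens) : Y.Opens)) : Set ↥X) := by
        rw [← hT t]
        simp only [Set.mem_iUnion, exists_prop, SetLike.mem_coe]
        exact ⟨W, hW, haW⟩
      exact Y.basicOpen_le t.1 this
    · intro ha
      have h1 : f.base a ∈ (⨆ t : (s : Set (Γ(Y, U))), Y.basicOpen t.1) :=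
        (U.2.self_le_iSup_basicOpen_iff.mpr hs) ha
      rw [Opens.mem_iSup] at h1
      obtain ⟨t, ht⟩ := h1
      have : a ∈ ((f ⁻¹ᵁ ((Y.affineBasicOpen t.1 : Y.affineOpens) : Y.Opens)) : Set ↥X) := ht
      rw [← hT ⟨t.1, t.2⟩] at this
      simp only [Set.mem_iUnion, exists_prop, SetLike.mem_coe] at this
      obtain ⟨W, hW, haW⟩ := this
      exact ⟨W, ⟨⟨t.1, t.2⟩, hW⟩, haW⟩
  · intro W hW
    simp only [Set.mem_iUnion] at hW
    obtain ⟨t, hW⟩ := hW
    obtain ⟨e, he⟩ := hT' t W hW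
    have hle : ((Y.affineBasicOpen t.1 : Y.affineOpens) : Y.Opens) ≤ (U : Y.Opens) :=
      Y.basicOpen_le t.1
    have e' : (W : X.Opens) ≤ f ⁻¹ᵁ (U : Y.Opens) :=
      e.trans ((Opens.map f.base).map (homOfLE hle)).le
    refine ⟨e', ?_⟩
    have h1 : Y.presheaf.map (homOfLE hle).op ≫
        f.appLE ((Y.affineBasicOpen t.1 : Y.affineOpens) : Y.Opens) (W : X.Opens) e =
        f.appLE (U : Y.Opens) (W : X.Opens) e' :=
      Scheme.Hom.map_appLE f e (homOfLE hle).op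
    rw [← h1, CommRingCat.hom_comp]
    exact (res_essFiniteType U.2 _).comp he

theorem main (S : Set Y.affineOpens)
    (hS : (⋃ U ∈ S, ((U : Y.Opens) : Set ↥Y)) = Set.univ) (h : ∀ U ∈ S, P f U)
    (U : Y.affineOpens) : P f U := by
  refine of_affine_open_cover (P := P f) (fun i : S => i.1) ?_ U (P_basicOpen f) (P_openCover f)
    (fun i => h i.1 i.2)
  rw [eq_top_iff]
  intro y _
  have : y ∈ (⋃ U ∈ S, ((U : Y.Opens) : Set ↥Y)) := hS ▸ Set.mem_univ y
  simp only [Set.mem_iUnion, exists_prop, SetLike.mem_coe] at this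
  obtain ⟨V, hV, hyV⟩ := this
  exact Opens.mem_iSup.mpr ⟨⟨V, hV⟩, hyV⟩

end Groth.Agent.Helper3.EssFT
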