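import Mathlib
set_option linter.style.haveILetI false
set_option linter.unusedSectionVars false
set_option linter.unusedVariables false
open TensorProduct
universe u
namespace Groth.Agent.Helper3.EssLocal

theorem main {R S : Type u} [CommRing R] [CommRing S] [Algebra R S] [IsLocalRing R] [IsLocalRing S] [Algebra.EssFiniteType R S] :
    ∃ (n : ℕ) (m : Ideal (MvPolynomial (Fin n) R)) (_ : m.IsMaximal), m.under R = IsLocalRing.maximalIdeal R ∧
      ∃ (φ : Localization.AtPrime m →ₐ[R] S) (T : Submonoid φ.range), IsLocalization T S := by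
  classical
  obtain ⟨σ, hσ⟩ := (Algebra.essFiniteType_iff (R := R) (S := S)).mp inferInstance
  let K := IsLocalRing.ResidueField S
  let res : S →+* K := IsLocalRing.residue S
  obtain ⟨V, hV, hVloc⟩ := IsLocalRing.exists_factor_valuationRing (res.comp (algebraMap R S))
  have hres0 : ∀ x : S, ¬ IsUnit x → res x = 0 := fun x hx =>
    (IsLocalRing.residue_eq_zero_iff x).mpr hx
  have hresu : ∀ x : S, res x ≠ 0 → IsUnit x := fun x hx => by
    by_contra h; exact hx (hres0 x h)
  let n := σ.card
  let e : σ ≃ Fin n := σ.equivFin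
  let t : Fin n → S := fun i =>
    if res (e.symm i : S) ∈ V then (e.symm i : S) else Ring.inverse (e.symm i : S)
  have hunit : ∀ x : S, res x ∉ V → IsUnit x := fun x hx => by
    apply hresu; intro h0; exact hx (h0 ▸ V.zero_mem)
  have hinv : ∀ x : S, res x ∉ V → res (Ring.inverse x) ∈ V := by
    intro x hx
    obtain ⟨u, rfl⟩ := hunit x hx
    rw [Ring.inverse_unit]
    rcases V.mem_or_inv_mem (res (u : S)) with h1 | h1
    · exact absurd h1 hx
    · have : res ((u⁻¹ : Sˣ) : S) = (res (u : S))⁻¹ := by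
        rw [eq_comm, inv_eq_iff_eq_inv, ← mul_eq_one_iff_eq_inv₀]
        · rw [← map_mul]; simp
        · intro h0
          have : (1 : K) = 0 := by
            calc (1 : K) = res ((u : S) * ((u⁻¹ : Sˣ) : S)) := by simp
              _ = 0 := by rw [map_mul, h0, mul_zero]
          exact one_ne_zero this
      rw [this]; exact h1
  have ht : ∀ i, res (t i) ∈ V := by
    intro i
    by_cases h : res (e.symm i : S) ∈ V
    · simp only [t, if_pos h]; exact h
    · simp only [t, if_neg h]; exact hinv _ h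
  let ψ : MvPolynomial (Fin n) R →ₐ[R] S := MvPolynomial.aeval t
  have hψV : ∀ p, res (ψ p) ∈ V := by
    intro p
    induction p using MvPolynomial.induction_on with
    | C r => simpa [ψ] using hV r
    | add p q hp hq => rw [map_add, map_add]; exact V.add_mem _ _ hp hq
    | mul_X p i hp =>
      rw [map_mul, map_mul]
      refine V.mul_mem _ _ hp ?_
      simpa [ψ] using ht i
  let ψV : MvPolynomial (Fin n) R →+* V := (res.comp ψ.toRingHom).codRestrict V.toSubring hψV
  let Q : Ideal (MvPolynomial (Fin n) R) := (IsLocalRing.maximalIdeal V).comap ψV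
  have hQ : Q ≠ ⊤ := (Ideal.IsPrime.comap (K := IsLocalRing.maximalIdeal V) ψV).ne_top
  obtain ⟨m, hm, hQm⟩ := Ideal.exists_le_maximal Q hQ
  have hunder : m.under R = IsLocalRing.maximalIdeal R := by
    apply le_antisymm
    · haveI := hm
      exact IsLocalRing.le_maximalIdeal (Ideal.IsPrime.under R m).ne_top
    · intro r hr
      rw [Ideal.under, Ideal.mem_comap]
      apply hQm
      show ψV (algebraMap R _ r) ∈ IsLocalRing.maximalIdeal V
      rw [IsLocalRing.mem_maximalIdeal, mem_nonunits_iff]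
      intro hu
      have : ψV (algebraMap R _ r) = (res.comp (algebraMap R S)).codRestrict V.toSubring hV r := by
        apply Subtype.ext
        simp [ψV, ψ]
      rw [this] at hu
      exact hr (hVloc.map_nonunit r hu)
  have hunits : ∀ y : m.primeCompl, IsUnit (ψ y) := by
    rintro ⟨y, hy⟩
    apply hresu
    intro h0
    apply hy
    apply hQm
    show ψV y ∈ IsLocalRing.maximalIdeal V
    have : ψV y = 0 := Subtype.ext h0
    rw [this]; exact Ideal.zero_mem _
  refine ⟨n, m, hm, hunder, ?_⟩
  haveI := hm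
  let φ : Localization.AtPrime m →ₐ[R] S := IsLocalization.liftAlgHom (M := m.primeCompl) (f := ψ) hunits
  have hφψ : ∀ p, ψ p ∈ φ.range := fun p => ⟨algebraMap _ _ p, by simp [φ]⟩
  refine ⟨φ, (IsUnit.submonoid S).comap (algebraMap φ.range S), ?_⟩
  have key : ∀ a ∈ Algebra.adjoin R (σ : Set S),
      ∃ a' u : MvPolynomial (Fin n) R, IsUnit (ψ u) ∧ a * ψ u = ψ a' := by
    intro a ha
    induction ha using Algebra.adjoin_induction with
    | mem x hx =>
      let i := e ⟨x, hx⟩
      have hi : (e.symm i : S) = x := by simp [i]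
      by_cases h : res x ∈ V
      · refine ⟨MvPolynomial.X i, 1, by simp, ?_⟩
        simp only [map_one, mul_one, ψ, MvPolynomial.aeval_X, t, hi, if_pos h]
      · refine ⟨1, MvPolynomial.X i, ?_, ?_⟩
        · simp only [ψ, MvPolynomial.aeval_X, t, hi, if_neg h]
          obtain ⟨u, rfl⟩ := hunit x h
          rw [Ring.inverse_unit]; exact Units.isUnit _
        · simp only [map_one, ψ, MvPolynomial.aeval_X, t, hi, if_neg h]
          exact Ring.mul_inverse_cancel _ (hunit x h)
    | algebraMap r =>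
      exact ⟨MvPolynomial.C r, 1, by simp, by simp [ψ, MvPolynomial.algebraMap_eq]⟩
    | add x y hx hy ihx ihy =>
      obtain ⟨a1, u1, hu1, h1⟩ := ihx
      obtain ⟨a2, u2, hu2, h2⟩ := ihy
      refine ⟨a1 * u2 + a2 * u1, u1 * u2, by rw [map_mul]; exact hu1.mul hu2, ?_⟩
      simp only [map_mul, map_add, ← h1, ← h2]; ring
    | mul x y hx hy ihx ihy =>
      obtain ⟨a1, u1, hu1, h1⟩ := ihx
      obtain ⟨a2, u2, hu2, h2⟩ := ihy
      refine ⟨a1 * a2, u1 * u2, by rw [map_mul]; exact hu1.mul hu2, ?_⟩
      simp only [map_mul, ← h1, ← h2]; ring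
  constructor; constructor
  · exact fun y ↦ y.prop
  · intro s
    obtain ⟨b, hb, hbu, hsb⟩ := hσ s
    obtain ⟨b', u2, hu2, h2⟩ := key b hb
    obtain ⟨a', u1, hu1, h1⟩ := key (s * b) hsb
    have hbu' : IsUnit (ψ (b' * u1)) := by
      rw [map_mul, ← h2]; exact (hbu.mul hu2).mul hu1
    refine ⟨⟨⟨ψ (a' * u2), hφψ _⟩, ⟨⟨ψ (b' * u1), hφψ _⟩, hbu'⟩⟩, ?_⟩
    show s * ψ (b' * u1) = ψ (a' * u2)
    rw [map_mul, map_mul, ← h2, ← h1]; ring
  · intro x y e
    exact ⟨1, by simpa using Subtype.ext e⟩

end Groth.Agent.Helper3.EssLocal
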