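import Mathlib
import Groth.Agent.Helper1.TraceEtale
import Groth.Agent.Helper3.UnramBC

set_option linter.style.haveILetI false
set_option linter.unusedSectionVars false
set_option linter.unusedVariables false
set_option linter.style.haveILetI false
set_option linter.unusedSectionVars false
set_option linter.unusedVariables false

namespace Groth.Agent.Helper3.EtCodim2
open IsLocalRing Groth.Agent.Helper1.TraceEtale

universe u v

/-- Local version: finite flat over a Noetherian local ring, unramified over all primes of
height `≤ 1` of the base, is unramified. -/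
theorem unramified_local (A : Type u) (B : Type v) [CommRing A] [CommRing B]
    [Algebra A B] [IsNoetherianRing A] [IsLocalRing A]
    [Module.Finite A B] [Module.Flat A B]
    (h : ∀ q : PrimeSpectrum B, (q.asIdeal.comap (algebraMap A B)).height ≤ 1 →
      Algebra.IsUnramifiedAt A q.asIdeal) :
    Algebra.FormallyUnramified A B := by
  classical
  haveI : Module.Free A B := Module.free_of_flat_of_isLocalRing
  let b := Module.Free.chooseBasis A B
  suffices hu : IsUnit (Algebra.discr A b) by
    obtain ⟨c, hc⟩ := (exists_dualFamily_iff_isUnit_discr b).mpr hu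
    exact hc.formallyUnramified
  by_contra hd
  set d := Algebra.discr A b with hd_def
  have hdm : d ∈ maximalIdeal A := hd
  have hle : Ideal.span {d} ≤ maximalIdeal A := (Ideal.span_singleton_le_iff_mem _).mpr hdm
  obtain ⟨p, hpmin, hple⟩ := Ideal.exists_minimalPrimes_le hle
  haveI hp : p.IsPrime := hpmin.1.1
  have hht : p.height ≤ 1 := Ideal.height_le_one_of_isPrincipal_of_mem_minimalPrimes _ p hpmin
  have hdp : d ∈ p := hpmin.1.2 (Ideal.mem_span_singleton_self d)
  -- localize at `p`
  let M := Algebra.algebraMapSubmonoid B p.primeCompl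
  let bp := b.localizationLocalization (Localization.AtPrime p) p.primeCompl (Localization M)
  have hdisc : Algebra.discr (Localization.AtPrime p) bp = algebraMap A (Localization.AtPrime p) d :=
    Algebra.discr_localizationLocalization A p.primeCompl (Localization M) b
  haveI hun : Algebra.FormallyUnramified (Localization.AtPrime p) (Localization M) := by
    rw [Algebra.formallyUnramified_iff_forall]
    intro Q
    set q : Ideal B := Q.asIdeal.comap (algebraMap B (Localization M)) with hq
    have hqp : q.comap (algebraMap A B) ≤ p := by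
      intro a ha
      by_contra hap
      have hu : IsUnit (algebraMap B (Localization M) (algebraMap A B a)) :=
        IsLocalization.map_units (Localization M) (⟨algebraMap A B a, a, hap, rfl⟩ : M)
      exact Q.2.ne_top (Ideal.eq_top_of_isUnit_mem _ ha hu)
    have hqht : (q.comap (algebraMap A B)).height ≤ 1 := (Ideal.height_mono hqp).trans hht
    have het : Algebra.IsUnramifiedAt A q := h ⟨q, inferInstance⟩ hqht
    haveI : Algebra.FormallyUnramified A (Localization.AtPrime q) := het
    let E : Localization.AtPrime q ≃ₐ[B] Localization.AtPrime Q.asIdeal :=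
      IsLocalization.localizationLocalizationAtPrimeIsoLocalization M Q.asIdeal
    haveI : Algebra.FormallyUnramified A (Localization.AtPrime Q.asIdeal) :=
      Algebra.FormallyUnramified.of_equiv (E.restrictScalars A)
    exact Algebra.FormallyUnramified.of_restrictScalars A (Localization.AtPrime p) _
  obtain ⟨c, hc⟩ := exists_dualFamily_of_unramified bp
  have hunit : IsUnit (Algebra.discr (Localization.AtPrime p) bp) :=
    (exists_dualFamily_iff_isUnit_discr bp).mp ⟨c, hc⟩
  rw [hdisc] at hunit
  exact (IsLocalization.AtPrime.isUnit_to_map_iff (Localization.AtPrime p) p d).mp hunit hdp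

/-- Global version over a Noetherian ring. -/
theorem unramified_of_codim_two (A : Type u) (B : Type v) [CommRing A] [CommRing B]
    [Algebra A B] [IsNoetherianRing A]
    [Module.Finite A B] [Module.Flat A B]
    (h : ∀ q : PrimeSpectrum B, (q.asIdeal.comap (algebraMap A B)).height ≤ 1 →
      Algebra.IsUnramifiedAt A q.asIdeal) :
    Algebra.FormallyUnramified A B := by
  classical
  rw [Algebra.formallyUnramified_iff_forall]
  intro Q0
  set P : Ideal A := Q0.asIdeal.comap (algebraMap A B) with hP
  haveI : P.IsPrime := Ideal.IsPrime.comap _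
  let M := Algebra.algebraMapSubmonoid B P.primeCompl
  haveI : Module.Finite (Localization.AtPrime P) (Localization M) :=
    Module.Finite.of_isLocalizedModule (Rₚ := Localization.AtPrime P) P.primeCompl
      (IsScalarTower.toAlgHom A B (Localization M)).toLinearMap
  haveI : Module.Flat (Localization.AtPrime P) (Localization M) := inferInstance
  haveI : IsNoetherianRing (Localization.AtPrime P) := inferInstance
  haveI hun : Algebra.FormallyUnramified (Localization.AtPrime P) (Localization M) := by
    apply unramified_local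
    intro Q hQ
    set q : Ideal B := Q.asIdeal.comap (algebraMap B (Localization M)) with hq
    have hcomm : q.comap (algebraMap A B) =
        (Q.asIdeal.comap (algebraMap (Localization.AtPrime P) (Localization M))).comap
          (algebraMap A (Localization.AtPrime P)) := by
      rw [hq, Ideal.comap_comap, Ideal.comap_comap, ← IsScalarTower.algebraMap_eq,
        ← IsScalarTower.algebraMap_eq]
    have hqht : (q.comap (algebraMap A B)).height ≤ 1 := by
      rw [hcomm]
      have := IsLocalization.height_under P.primeCompl (A := Localization.AtPrime P)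
        (Q.asIdeal.comap (algebraMap (Localization.AtPrime P) (Localization M)))
      rw [Ideal.under] at this
      rw [this]
      exact hQ
    have het : Algebra.IsUnramifiedAt A q := h ⟨q, inferInstance⟩ hqht
    haveI : Algebra.FormallyUnramified A (Localization.AtPrime q) := het
    let E : Localization.AtPrime q ≃ₐ[B] Localization.AtPrime Q.asIdeal :=
      IsLocalization.localizationLocalizationAtPrimeIsoLocalization M Q.asIdeal
    haveI : Algebra.FormallyUnramified A (Localization.AtPrime Q.asIdeal) :=
      Algebra.FormallyUnramified.of_equiv (E.restrictScalars A)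
    exact Algebra.FormallyUnramified.of_restrictScalars A (Localization.AtPrime P) _
  -- now pass to the localization at `Q0`
  have hdisj : Disjoint (M : Set B) (Q0.asIdeal : Set B) := by
    rw [Set.disjoint_left]
    rintro _ ⟨a, ha, rfl⟩ hmem
    exact ha hmem
  set Q' : Ideal (Localization M) := Q0.asIdeal.map (algebraMap B (Localization M)) with hQ'
  haveI hQ'p : Q'.IsPrime := IsLocalization.isPrime_of_isPrime_disjoint M _ _ Q0.2 hdisj
  have hcm : Q'.comap (algebraMap B (Localization M)) = Q0.asIdeal :=
    IsLocalization.comap_map_of_isPrime_disjoint M _ Q0.2 hdisj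
  haveI : Algebra.FormallyUnramified (Localization.AtPrime P) (Localization.AtPrime Q') :=
    Algebra.FormallyUnramified.comp (Localization.AtPrime P) (Localization M) _
  haveI : Algebra.FormallyUnramified A (Localization.AtPrime Q') :=
    Algebra.FormallyUnramified.comp A (Localization.AtPrime P) _
  let E : Localization.AtPrime (Q'.comap (algebraMap B (Localization M))) ≃ₐ[B]
      Localization.AtPrime Q' :=
    IsLocalization.localizationLocalizationAtPrimeIsoLocalization M Q'
  haveI : Algebra.FormallyUnramified A
      (Localization.AtPrime (Q'.comap (algebraMap B (Localization M)))) :=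
    Algebra.FormallyUnramified.of_equiv (E.symm.restrictScalars A)
  have key : ∀ (I : Ideal B) [I.IsPrime], I = Q0.asIdeal →
      Algebra.FormallyUnramified A (Localization.AtPrime I) →
      Algebra.IsUnramifiedAt A Q0.asIdeal := by
    rintro _ _ rfl h
    exact h
  exact key _ hcm inferInstance

open AlgebraicGeometry CategoryTheory Groth.Agent.Helper3.StalkNbhd Groth.Agent.Helper3.UnramBC

theorem lfp_of_lft_noeth {X Y : Scheme.{u}} (f : X ⟶ Y) [LocallyOfFiniteType f]
    [IsLocallyNoetherian Y] : LocallyOfFinitePresentation f := by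
  constructor
  intro U hU V hV e
  haveI : IsNoetherianRing Γ(Y, U) := IsLocallyNoetherian.component_noetherian ⟨U, hU⟩
  exact RingHom.FinitePresentation.of_finiteType.mp (f.finiteType_appLE hU hV e)

theorem main {X Y : Scheme.{u}} [IsLocallyNoetherian Y]
    (f : X ⟶ Y) [IsFinite f] [Flat f] (U : Y.Opens)
    (hU : ∀ y : Y, y ∉ U → (2 : WithBot ℕ∞) ≤ ringKrullDim (Y.presheaf.stalk y))
    [Etale (f ∣_ U)] : Etale f := by
  have hst : ∀ x : X, f x ∈ U → (f.stalkMap x).hom.FormallyUnramified := by
    intro x hx
    have h1 : FormallyUnramified ((f ⁻¹ᵁ U).ι ≫ f) := by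
      have : (f ⁻¹ᵁ U).ι ≫ f = (f ∣_ U) ≫ U.ι := (morphismRestrict_ι f U).symm
      rw [this]
      infer_instance
    exact (formallyUnramified_nbhd_iff f x).mp ⟨f ⁻¹ᵁ U, hx, h1⟩
  haveI : LocallyOfFinitePresentation f := lfp_of_lft_noeth f
  haveI : FormallyUnramified f := by
    rw [HasRingHomProperty.iff_exists_appLE (P := @FormallyUnramified)
      (RingHom.FormallyUnramified.stableUnderComposition.stableUnderCompositionWithLocalizationAway
        RingHom.FormallyUnramified.holdsForLocalizationAway).1]
    intro x
    obtain ⟨V, hV, hfx, _⟩ := TopologicalSpace.Opens.isBasis_iff_nbhd.mp Y.isBasis_affineOpens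
      (TopologicalSpace.Opens.mem_top <| f x)
    have hV : IsAffineOpen V := hV
    have hW : IsAffineOpen (f ⁻¹ᵁ V) := hV.preimage f
    refine ⟨⟨V, hV⟩, ⟨f ⁻¹ᵁ V, hW⟩, hfx, le_rfl, ?_⟩
    haveI : IsNoetherianRing Γ(Y, V) := IsLocallyNoetherian.component_noetherian ⟨V, hV⟩
    have hfin : (f.appLE V (f ⁻¹ᵁ V) le_rfl).hom.Finite := by
      rw [Scheme.Hom.appLE_eq_app]
      exact IsFinite.finite_app f V hV
    have hflat : (f.appLE V (f ⁻¹ᵁ V) le_rfl).hom.Flat := Flat.flat_appLE f hV hW le_rfl
    algebraize [(f.appLE V (f ⁻¹ᵁ V) le_rfl).hom]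
    apply unramified_of_codim_two
    intro Q hQ
    let xU : ↥(f ⁻¹ᵁ V) := hW.isoSpec.inv Q
    have hqQ : hW.primeIdealOf ⟨xU.1, xU.2⟩ = Q := by
      change hW.isoSpec.hom (hW.isoSpec.inv Q) = Q
      rw [← Scheme.Hom.comp_apply, Iso.inv_hom_id]
      rfl
    set x' : X := xU.1 with hx'def
    have hx' : x' ∈ f ⁻¹ᵁ V := xU.2
    have hcomap := IsAffineOpen.comap_primeIdealOf_appLE V hV (f ⁻¹ᵁ V) hW le_rfl hx'
    have hfU : f x' ∈ U := by
      by_contra hn
      have h2 := hU (f x') hn
      letI := Y.presheaf.algebra_section_stalk ⟨f x', hx'⟩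
      haveI := hV.isLocalization_stalk ⟨f x', hx'⟩
      rw [IsLocalization.AtPrime.ringKrullDim_eq_height
        (hV.primeIdealOf ⟨f x', hx'⟩).asIdeal] at h2
      have h3 : (hV.primeIdealOf ⟨f x', hx'⟩).asIdeal =
          Q.asIdeal.comap (algebraMap Γ(Y, V) Γ(X, f ⁻¹ᵁ V)) := by
        rw [← hcomap, hqQ]
        rfl
      rw [h3] at h2
      have h4 : (2 : WithBot ℕ∞) ≤ (1 : ℕ∞) := h2.trans (by exact_mod_cast hQ)
      exact absurd h4 (by norm_num)
    have hs := hst x' hfU
    have e := IsAffineOpen.arrowStalkMapIso f V hV (f ⁻¹ᵁ V) hW le_rfl hx'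
    rw [RingHom.FormallyUnramified.respectsIso.arrow_mk_iso_iff e] at hs
    have key : ∀ (I : Ideal Γ(Y, V)) [I.IsPrime] (q : Ideal Γ(X, f ⁻¹ᵁ V)) [q.IsPrime]
        (h : I = q.comap (algebraMap Γ(Y, V) Γ(X, f ⁻¹ᵁ V))),
        (Localization.localRingHom I q (algebraMap Γ(Y, V) Γ(X, f ⁻¹ᵁ V)) h).FormallyUnramified →
          Algebra.IsUnramifiedAt Γ(Y, V) q := by
      rintro _ _ q _ rfl h
      exact (localRingHom_formallyUnramified_iff q).mp h
    have hI : (hV.primeIdealOf ⟨f x', hx'⟩).asIdeal =
        Ideal.comap (algebraMap Γ(Y, V) Γ(X, f ⁻¹ᵁ V)) (hW.primeIdealOf ⟨x', hx'⟩).asIdeal :=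
      congr($(hcomap).1).symm
    have h5 := key _ _ hI hs
    have key2 : ∀ Q' : PrimeSpectrum Γ(X, f ⁻¹ᵁ V), Q' = Q →
        Algebra.IsUnramifiedAt Γ(Y, V) Q'.asIdeal → Algebra.IsUnramifiedAt Γ(Y, V) Q.asIdeal := by
      rintro _ rfl h
      exact h
    exact key2 _ hqQ h5
  exact Etale.of_formallyUnramified_of_flat f

end Groth.Agent.Helper3.EtCodim2
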