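import Groth.Agent.Helper3.StdEtCover

/-!
An étale algebra surjective on spectra is dominated Zariski-locally by a finite flat cover. (S9454)
-/

namespace Groth.Agent.Helper3.EtCover

open Polynomial TensorProduct

universe u

theorem cover_finset (R S : Type u) [CommRing R] [CommRing S] [Algebra R S] (F : Finset S)
    (hF : ∀ f ∈ F, Algebra.IsStandardEtale R (Localization.Away f)) :
    ∃ (S' : Type u) (_ : CommRing S') (_ : Algebra R S'),
      Module.Finite R S' ∧ Algebra.FinitePresentation R S' ∧ Module.FaithfullyFlat R S' ∧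
      ∀ (q : Ideal S) [q.IsPrime] (q' : Ideal S') [q'.IsPrime], q'.under R = q.under R →
        (∃ f ∈ F, f ∉ q) → ∃ (g' : S') (_ : g' ∉ q'), Nonempty (S →ₐ[R] Localization.Away g') := by
  classical
  induction F using Finset.induction_on with
  | empty =>
    refine ⟨R, inferInstance, inferInstance, inferInstance, inferInstance, inferInstance, ?_⟩
    rintro q _ q' _ - ⟨f, hf, -⟩
    simp at hf
  | insert a s ha ih =>
    obtain ⟨S₁, _, _, hfin₁, hfp₁, hff₁, H₁⟩ := ih fun f hf => hF f (Finset.mem_insert_of_mem hf)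
    have : Algebra.IsStandardEtale R (Localization.Away a) := hF a (Finset.mem_insert_self _ _)
    obtain ⟨S₂, _, _, hfin₂, hfp₂, hfl₂, hsurj₂, H₂⟩ :=
      Groth.Agent.Helper3.StdEtCover.main R (Localization.Away a)
    have hff₂ : Module.FaithfullyFlat R S₂ := Module.FaithfullyFlat.of_comap_surjective hsurj₂
    have hfpT : Algebra.FinitePresentation R (S₁ ⊗[R] S₂) :=
      Algebra.FinitePresentation.trans R S₁ (S₁ ⊗[R] S₂)
    have hffT : Module.FaithfullyFlat R (S₁ ⊗[R] S₂) :=
      Module.FaithfullyFlat.trans R S₁ (S₁ ⊗[R] S₂)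
    refine ⟨S₁ ⊗[R] S₂, inferInstance, inferInstance, inferInstance, hfpT, hffT, ?_⟩
    intro q _ q' _ hqq' hex
    by_cases hs : ∃ f ∈ s, f ∉ q
    · -- use the `S₁` factor
      let iL : S₁ →ₐ[R] S₁ ⊗[R] S₂ := Algebra.TensorProduct.includeLeft
      have hunder : (q'.comap iL.toRingHom).under R = q.under R := by
        rw [← hqq']
        ext r
        simp only [Ideal.under, Ideal.mem_comap]
        rw [show iL.toRingHom (algebraMap R S₁ r) = algebraMap R (S₁ ⊗[R] S₂) r from
          iL.commutes r]
      obtain ⟨g₁, hg₁, ⟨φ⟩⟩ := H₁ q (q'.comap iL.toRingHom) hunder hs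
      refine ⟨iL g₁, hg₁, ⟨(Localization.awayMapₐ iL g₁).comp φ⟩⟩
    · -- `a ∉ q`; use the `S₂` factor
      obtain ⟨f, hf, hfq⟩ := hex
      have haq : a ∉ q := by
        rcases Finset.mem_insert.1 hf with rfl | hfs
        · exact hfq
        · exact absurd ⟨f, hfs, hfq⟩ hs
      let iR : S₂ →ₐ[R] S₁ ⊗[R] S₂ := Algebra.TensorProduct.includeRight
      have hdisj : Disjoint (Submonoid.powers a : Set S) (q : Set S) := by
        rw [Set.disjoint_left]
        rintro _ ⟨n, rfl⟩ hn
        exact haq (Ideal.IsPrime.mem_of_pow_mem ‹_› n hn)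
      have hq₁ : (q.map (algebraMap S (Localization.Away a))).IsPrime :=
        IsLocalization.isPrime_of_isPrime_disjoint (Submonoid.powers a) _ _ ‹_› hdisj
      have hq₁u : (q.map (algebraMap S (Localization.Away a))).under S = q :=
        IsLocalization.under_map_of_isPrime_disjoint (Submonoid.powers a) _ ‹_› hdisj
      have hunder : (q'.comap iR.toRingHom).under R =
          (q.map (algebraMap S (Localization.Away a))).under R := by
        have h1 : (q.map (algebraMap S (Localization.Away a))).under R = q.under R := by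
          conv_rhs => rw [← hq₁u]
          rw [Ideal.under_under]
        rw [h1, ← hqq']
        ext r
        simp only [Ideal.under, Ideal.mem_comap]
        rw [show iR.toRingHom (algebraMap R S₂ r) = algebraMap R (S₁ ⊗[R] S₂) r from
          iR.commutes r]
      obtain ⟨g₂, hg₂, φ, -⟩ := H₂ (q.map (algebraMap S (Localization.Away a)))
        (q'.comap iR.toRingHom) hunder
      refine ⟨iR g₂, hg₂, ⟨((Localization.awayMapₐ iR g₂).comp φ).comp
        (IsScalarTower.toAlgHom R S (Localization.Away a))⟩⟩

/-- S9454. -/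
theorem main (R : Type u) [CommRing R]
    (S : Type u) [CommRing S] [Algebra R S] [Algebra.Etale R S]
    (hs : Function.Surjective (PrimeSpectrum.comap (algebraMap R S))) :
    ∃ (S' : Type u) (_ : CommRing S') (_ : Algebra R S'),
      Module.Finite R S' ∧ Algebra.FinitePresentation R S' ∧ Module.Flat R S' ∧
        Function.Surjective (PrimeSpectrum.comap (algebraMap R S')) ∧
        ∀ (q' : Ideal S') [q'.IsPrime], ∃ (g' : S') (_ : g' ∉ q'),
          Nonempty (S →ₐ[R] Localization.Away g') := by
  classical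
  have htop : Ideal.span {f : S | Algebra.IsStandardEtale R (Localization.Away f)} = ⊤ := by
    by_contra hne
    obtain ⟨Q, hQ, hle⟩ := Ideal.exists_le_maximal _ hne
    have : Q.IsPrime := hQ.isPrime
    obtain ⟨f, hfQ, hf⟩ := Algebra.IsEtaleAt.exists_isStandardEtale (R := R) Q
    exact hfQ (hle (Ideal.subset_span hf))
  obtain ⟨F, hFsub, hFtop⟩ := (Ideal.span_eq_top_iff_finite _).1 htop
  obtain ⟨S', _, _, hfin, hfp, hff, H⟩ := cover_finset R S F fun f hf => hFsub hf
  refine ⟨S', inferInstance, inferInstance, hfin, hfp, inferInstance,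
    PrimeSpectrum.comap_surjective_of_faithfullyFlat, ?_⟩
  intro q' _
  obtain ⟨⟨q, hq⟩, hqp⟩ := hs ⟨q'.under R, inferInstance⟩
  have hqp' : q.under R = q'.under R := congrArg PrimeSpectrum.asIdeal hqp
  have hex : ∃ f ∈ F, f ∉ q := by
    by_contra hno
    push Not at hno
    have : Ideal.span (F : Set S) ≤ q := Ideal.span_le.2 fun f hf => hno f hf
    rw [hFtop] at this
    exact hq.ne_top (top_le_iff.1 this)
  exact H q q' hqp'.symm hex

end Groth.Agent.Helper3.EtCover
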