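import Groth.Agent.Helper3.NearClosed

/-!
Cutting out a section of an étale algebra: given an étale `A`-algebra `C` and an `A`-algebra map
`σ : C → A/I`, there is a principal localization `A'' = C_c` with `A/I ≃ A''/IA''` compatible
with `σ`.
-/

namespace Groth.Agent.Helper3.EtCut

open scoped TensorProduct

universe u

/-- For an unramified algebra `C` with a map `σ : C → A/I` there is `c` with `σ c = 1` killing
`ker σ` modulo `IC`. -/
theorem exists_cut {A : Type*} [CommRing A] (I : Ideal A) {C : Type*} [CommRing C] [Algebra A C]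
    [Algebra.FormallyUnramified A C] [Algebra.EssFiniteType A C] (σ : C →ₐ[A] A ⧸ I) :
    ∃ c : C, σ c = 1 ∧ ∀ s : C, σ s = 0 → s * c ∈ I.map (algebraMap A C) := by
  set J : Ideal C := I.map (algebraMap A C) with hJ
  set t := Algebra.FormallyUnramified.elem A C with ht
  let σ' : C →ₐ[A] C ⧸ J := (IsScalarTower.toAlgHom A (A ⧸ I) (C ⧸ J)).comp σ
  let Φ : C ⊗[A] C →ₐ[A] C ⧸ J :=
    Algebra.TensorProduct.productMap σ' (Ideal.Quotient.mkₐ A J)
  -- `σ` kills `J`
  have hσJ : ∀ x ∈ J, σ x = 0 := by
    intro x hx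
    have hle : J ≤ RingHom.ker σ.toRingHom := by
      rw [hJ, Ideal.map_le_iff_le_comap]
      intro i hi
      rw [Ideal.mem_comap, RingHom.mem_ker]
      change σ (algebraMap A C i) = 0
      rw [σ.commutes]
      exact Ideal.Quotient.eq_zero_iff_mem.2 hi
    exact hle hx
  let σbar : C ⧸ J →ₐ[A] A ⧸ I := Ideal.Quotient.liftₐ J σ hσJ
  have hσbar : ∀ x, σbar (Ideal.Quotient.mk J x) = σ x := fun x => rfl
  have hσbarσ' : ∀ x, σbar (σ' x) = σ x := by
    intro x
    obtain ⟨a, ha⟩ := Ideal.Quotient.mk_surjective (σ x)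
    have h1 : σ' x = Ideal.Quotient.mk J (algebraMap A C a) := by
      change algebraMap (A ⧸ I) (C ⧸ J) (σ x) = _
      rw [← ha]
      rfl
    rw [h1, hσbar, σ.commutes, ← ha]
    rfl
  have hcomp : σbar.comp Φ = σ.comp (Algebra.TensorProduct.lmul' A) := by
    apply Algebra.TensorProduct.ext'
    intro a b
    simp only [AlgHom.comp_apply, Φ, Algebra.TensorProduct.productMap_apply_tmul,
      Algebra.TensorProduct.lmul'_apply_tmul, map_mul, hσbarσ']
    congr 1
  obtain ⟨c, hc⟩ := Ideal.Quotient.mk_surjective (Φ t)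
  refine ⟨c, ?_, ?_⟩
  · rw [← hσbar, hc]
    have := congr($hcomp t)
    rw [AlgHom.comp_apply, AlgHom.comp_apply, ht, Algebra.FormallyUnramified.lmul_elem,
      map_one] at this
    exact this
  · intro s hs
    have h0 := Algebra.FormallyUnramified.one_tmul_sub_tmul_one_mul_elem (R := A) (S := C) s
    have h1 := congrArg Φ h0
    rw [map_mul, map_sub, map_zero] at h1
    have h2 : Φ (1 ⊗ₜ[A] s) = Ideal.Quotient.mk J s := by
      simp [Φ]
    have h3 : Φ (s ⊗ₜ[A] 1) = 0 := by
      have : σ' s = 0 := by
        change algebraMap (A ⧸ I) (C ⧸ J) (σ s) = 0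
        rw [hs, map_zero]
      simp [Φ, this]
    rw [h2, h3, sub_zero, ← ht, ← hc, ← map_mul] at h1
    exact Ideal.Quotient.eq_zero_iff_mem.1 h1

/-- Cutting out a section of an étale algebra by a principal localization. -/
theorem exists_etale_cut {A : Type u} [CommRing A] (I : Ideal A) {C : Type u} [CommRing C]
    [Algebra A C] [Algebra.Etale A C] (σ : C →ₐ[A] A ⧸ I) :
    ∃ (A' : Type u) (_ : CommRing A') (_ : Algebra A A') (_ : Algebra.Etale A A')
      (ι : C →ₐ[A] A'),
      Function.Bijective (algebraMap (A ⧸ I) (A' ⧸ I.map (algebraMap A A'))) ∧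
      ∀ s : C, Ideal.Quotient.mk (I.map (algebraMap A A')) (ι s) =
        algebraMap (A ⧸ I) (A' ⧸ I.map (algebraMap A A')) (σ s) := by
  obtain ⟨c, hc1, hc⟩ := exists_cut I σ
  have : Algebra.Etale A (Localization.Away c) := Algebra.Etale.comp A C (Localization.Away c)
  let ι : C →ₐ[A] Localization.Away c := IsScalarTower.toAlgHom A C (Localization.Away c)
  set J' : Ideal (Localization.Away c) := I.map (algebraMap A (Localization.Away c)) with hJ'
  have hJ'map : (I.map (algebraMap A C)).map (algebraMap C (Localization.Away c)) = J' := by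
    rw [Ideal.map_map, ← IsScalarTower.algebraMap_eq]
  have hcu : IsUnit (algebraMap C (Localization.Away c) c) :=
    IsLocalization.Away.algebraMap_isUnit c
  -- elements of `ker σ` die in the quotient
  have hker : ∀ s : C, σ s = 0 → algebraMap C (Localization.Away c) s ∈ J' := by
    intro s hs
    have h1 : algebraMap C (Localization.Away c) (s * c) ∈ J' := by
      rw [← hJ'map]; exact Ideal.mem_map_of_mem _ (hc s hs)
    rw [map_mul] at h1
    obtain ⟨u, hu⟩ := hcu
    have : algebraMap C (Localization.Away c) s =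
        algebraMap C (Localization.Away c) s * algebraMap C (Localization.Away c) c * ↑u⁻¹ := by
      rw [← hu, mul_assoc, Units.mul_inv, mul_one]
    rw [this]
    exact Ideal.mul_mem_right _ _ h1
  have hcompat : ∀ s : C, Ideal.Quotient.mk J' (ι s) =
      algebraMap (A ⧸ I) (Localization.Away c ⧸ J') (σ s) := by
    intro s
    obtain ⟨a, ha⟩ := Ideal.Quotient.mk_surjective (σ s)
    have h0 : σ (s - algebraMap A C a) = 0 := by
      rw [map_sub, σ.commutes, ← ha]
      exact sub_self _
    have h1 := hker _ h0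
    rw [map_sub] at h1
    rw [← ha]
    change _ = Ideal.Quotient.mk J' (algebraMap A (Localization.Away c) a)
    rw [Ideal.Quotient.eq, IsScalarTower.algebraMap_apply A C (Localization.Away c) a]
    exact h1
  refine ⟨Localization.Away c, inferInstance, inferInstance, inferInstance, ι, ⟨?_, ?_⟩, hcompat⟩
  · -- injective: `σ` induces a retraction
    have hσu : IsUnit (σ c) := by rw [hc1]; exact isUnit_one
    let τ : Localization.Away c →ₐ[A] A ⧸ I := IsLocalization.Away.liftAlgHom c (f := σ) hσu
    have hτJ : ∀ x ∈ J', τ x = 0 := by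
      intro x hx
      have hle : J' ≤ RingHom.ker τ.toRingHom := by
        rw [hJ', Ideal.map_le_iff_le_comap]
        intro i hi
        rw [Ideal.mem_comap, RingHom.mem_ker]
        change τ (algebraMap A _ i) = 0
        rw [τ.commutes]
        exact Ideal.Quotient.eq_zero_iff_mem.2 hi
      exact hle hx
    let τbar : Localization.Away c ⧸ J' →ₐ[A] A ⧸ I := Ideal.Quotient.liftₐ J' τ hτJ
    intro x y hxy
    obtain ⟨a, rfl⟩ := Ideal.Quotient.mk_surjective x
    obtain ⟨b, rfl⟩ := Ideal.Quotient.mk_surjective y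
    have h1 := congrArg τbar hxy
    have h2 : ∀ a : A, τbar (algebraMap (A ⧸ I) (Localization.Away c ⧸ J')
        (Ideal.Quotient.mk I a)) = Ideal.Quotient.mk I a := by
      intro a
      change τ (algebraMap A (Localization.Away c) a) = _
      rw [τ.commutes]
      rfl
    rw [h2, h2] at h1
    exact h1
  · intro y
    obtain ⟨y, rfl⟩ := Ideal.Quotient.mk_surjective y
    obtain ⟨s, ⟨_, n, rfl⟩, rfl⟩ := IsLocalization.exists_mk'_eq (Submonoid.powers c) y
    -- `c ≡ 1`
    have hc1' : Ideal.Quotient.mk J' (algebraMap C (Localization.Away c) c) = 1 := by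
      have := hcompat c
      rw [hc1, map_one] at this
      exact this
    set d : Submonoid.powers c := ⟨c ^ n, n, rfl⟩ with hd
    have hspec := IsLocalization.mk'_spec (Localization.Away c) s d
    have h1 : Ideal.Quotient.mk J' (IsLocalization.mk' (Localization.Away c) s d) =
        Ideal.Quotient.mk J' (algebraMap C (Localization.Away c) s) := by
      rw [← hspec, map_mul, hd]
      simp only [map_pow, hc1', one_pow, mul_one]
    refine ⟨σ s, ?_⟩
    rw [h1]
    exact (hcompat s).symm

end Groth.Agent.Helper3.EtCut
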