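import Mathlib
import Groth.Prelude
import Groth.Agent.S2141
import Groth.Agent.S7771
import Groth.Agent.Helper7.EtPoly2
import Groth.Agent.Helper5.DimBC

set_option autoImplicit false
set_option linter.style.haveILetI false
set_option linter.unusedSectionVars false
set_option linter.unusedVariables false
set_option linter.deprecated false
set_option linter.style.haveILetI false
set_option linter.unusedSectionVars false
set_option linter.unusedVariables false

open IsLocalRing TensorProduct Algebra

universe u

namespace Groth.Agent.Helper3.EtDiff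

section dims

variable (k A : Type u) [Field k] [CommRing A] [Algebra k A] [Algebra.FiniteType k A] (n : ℕ)
  [Algebra (MvPolynomial (Fin n) k) A] [IsScalarTower k (MvPolynomial (Fin n) k) A]
  (p : Ideal A) [p.IsPrime]

/-- `dim R_P + trdeg κ(P) = n` in the polynomial ring. -/
theorem dim_poly (P : Ideal (MvPolynomial (Fin n) k)) [P.IsPrime] :
    ∃ r : ℕ, Algebra.trdeg k P.ResidueField = r ∧
      ringKrullDim (Localization.AtPrime P) + (r : WithBot ℕ∞) = n := by
  obtain ⟨r, hr1, hr2⟩ := Groth.Agent.Helper5.FtDim.dim_eq_trdeg k (MvPolynomial (Fin n) k ⧸ P)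
    P.ResidueField
  refine ⟨r, hr2, ?_⟩
  rw [IsLocalization.AtPrime.ringKrullDim_eq_height P (Localization.AtPrime P), ← hr1,
    Groth.Agent.Helper5.FtDim.height_add_dim_quotient k (MvPolynomial (Fin n) k) P,
    Groth.Agent.Helper5.DimBC.dim_mvPolynomial]

theorem add_nat_cancel {x y : WithBot ℕ∞} (r : ℕ) (h : x + (r : WithBot ℕ∞) = y + (r : WithBot ℕ∞)) :
    x = y := by
  induction x using WithBot.recBotCoe with
  | bot =>
    induction y using WithBot.recBotCoe with
    | bot => rfl
    | coe b =>
      exfalso
      rw [WithBot.bot_add] at h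
      have h2 : ((b : WithBot ℕ∞) + (r : WithBot ℕ∞)) = ((b + (r : ℕ∞) : ℕ∞) : WithBot ℕ∞) := by
        push_cast; rfl
      rw [h2] at h
      exact WithBot.bot_ne_coe h
  | coe a =>
    induction y using WithBot.recBotCoe with
    | bot =>
      exfalso
      rw [WithBot.bot_add] at h
      have h2 : ((a : WithBot ℕ∞) + (r : WithBot ℕ∞)) = ((a + (r : ℕ∞) : ℕ∞) : WithBot ℕ∞) := by
        push_cast; rfl
      rw [h2] at h
      exact WithBot.coe_ne_bot h
    | coe b =>
      have h2 : ((a + (r : ℕ∞) : ℕ∞) : WithBot ℕ∞) = ((b + (r : ℕ∞) : ℕ∞) : WithBot ℕ∞) := by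
        push_cast; exact h
      have h3 : a + (r : ℕ∞) = b + (r : ℕ∞) := WithBot.coe_injective h2
      have h4 : a = b := ENat.add_left_injective_of_ne_top (ENat.coe_ne_top r) h3
      rw [h4]

theorem dim_eq (hn : FlatMor.localDim (PrimeSpectrum A) ⟨p, inferInstance⟩ = (n : WithBot ℕ∞))
    [Algebra.IsUnramifiedAt (MvPolynomial (Fin n) k) p] :
    ringKrullDim (Localization.AtPrime (p.under (MvPolynomial (Fin n) k))) =
      ringKrullDim (Localization.AtPrime p) := by
  haveI : Algebra.FiniteType (MvPolynomial (Fin n) k) A :=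
    Algebra.FiniteType.of_restrictScalars_finiteType k (MvPolynomial (Fin n) k) A
  haveI : p.LiesOver (p.under (MvPolynomial (Fin n) k)) := ⟨rfl⟩
  letI := Localization.AtPrime.algebraOfLiesOver (p.under (MvPolynomial (Fin n) k)) p
  obtain ⟨r', hr', hP⟩ := dim_poly k n (p.under (MvPolynomial (Fin n) k))
  obtain ⟨r, hr1, hr2⟩ := Groth.Agent.Helper5.FtDim.dim_eq_trdeg k (A ⧸ p) p.ResidueField
  have h1 := Groth.Agent.S2141.result (k := k) p r hr2
  rw [hn] at h1
  haveI : Algebra.IsAlgebraic (p.under (MvPolynomial (Fin n) k)).ResidueField p.ResidueField :=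
    Algebra.IsAlgebraic.of_finite _ _
  haveI : IsScalarTower k (p.under (MvPolynomial (Fin n) k)).ResidueField p.ResidueField :=
    inferInstance
  have htr := trdeg_add_eq k (p.under (MvPolynomial (Fin n) k)).ResidueField
    (A := p.ResidueField)
  rw [_root_.trdeg_eq_zero (R := (p.under (MvPolynomial (Fin n) k)).ResidueField), add_zero, hr', hr2] at htr
  have hrr : r' = r := by exact_mod_cast htr
  subst hrr
  exact add_nat_cancel r' (hP.trans h1)

theorem etale_of_unramified
    (hn : FlatMor.localDim (PrimeSpectrum A) ⟨p, inferInstance⟩ = (n : WithBot ℕ∞))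
    [Algebra.IsUnramifiedAt (MvPolynomial (Fin n) k) p] :
    IsRegularLocalRing (Localization.AtPrime p) ∧ Algebra.IsEtaleAt (MvPolynomial (Fin n) k) p := by
  haveI : Algebra.FiniteType (MvPolynomial (Fin n) k) A :=
    Algebra.FiniteType.of_restrictScalars_finiteType k (MvPolynomial (Fin n) k) A
  haveI : IsNoetherianRing A := Algebra.FiniteType.isNoetherianRing k A
  haveI : p.LiesOver (p.under (MvPolynomial (Fin n) k)) := ⟨rfl⟩
  letI := Localization.AtPrime.algebraOfLiesOver (p.under (MvPolynomial (Fin n) k)) p
  haveI : IsRegularRing (MvPolynomial (Fin n) k) := inferInstance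
  haveI hregR : IsRegularLocalRing (Localization.AtPrime (p.under (MvPolynomial (Fin n) k))) :=
    IsRegularRing.isRegularLocalRing_localization _
  have hdim := dim_eq k A n p hn
  have hmap := ((Algebra.isUnramifiedAt_iff_map_eq (MvPolynomial (Fin n) k)
    (p.under (MvPolynomial (Fin n) k)) p).1 inferInstance).2
  haveI : IsNoetherianRing (Localization.AtPrime p) :=
    IsLocalization.isNoetherianRing p.primeCompl _ inferInstance
  have hreg : IsRegularLocalRing (Localization.AtPrime p) := by
    apply IsRegularLocalRing.of_spanFinrank_maximalIdeal_le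
    have h1 : (p.under (MvPolynomial (Fin n) k)).map
        (algebraMap (MvPolynomial (Fin n) k) (Localization.AtPrime p)) =
        (maximalIdeal (Localization.AtPrime (p.under (MvPolynomial (Fin n) k)))).map
          (algebraMap (Localization.AtPrime (p.under (MvPolynomial (Fin n) k)))
            (Localization.AtPrime p)) := by
      rw [← Localization.AtPrime.map_eq_maximalIdeal, Ideal.map_map,
        ← IsScalarTower.algebraMap_eq]
    rw [← hmap, ← hdim, h1,
      ← IsRegularLocalRing.spanFinrank_maximalIdeal
        (R := Localization.AtPrime (p.under (MvPolynomial (Fin n) k)))]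
    exact_mod_cast Ideal.spanFinrank_map_le_of_fg _ (IsNoetherian.noetherian _)
  haveI : LocCoh.IsCohenMacaulayLocalRing (Localization.AtPrime p) :=
    ⟨Groth.Agent.Helper2.RegCM.cm_of_isRegularLocalRing _⟩
  exact ⟨hreg, Groth.Agent.S7771.result (MvPolynomial (Fin n) k) A p hdim⟩

theorem span_eq_N :
    Submodule.span (Localization.AtPrime p)
        (Set.range fun i : Fin n => KaehlerDifferential.D k (Localization.AtPrime p)
          (algebraMap A (Localization.AtPrime p)
            (algebraMap (MvPolynomial (Fin n) k) A (MvPolynomial.X i)))) =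
      Groth.Agent.Helper7.EtPoly.N k n (Localization.AtPrime p) := by
  unfold Groth.Agent.Helper7.EtPoly.N
  congr 2

theorem s2790
    (hn : FlatMor.localDim (PrimeSpectrum A) ⟨p, inferInstance⟩ = (n : WithBot ℕ∞)) :
    Algebra.IsEtaleAt (MvPolynomial (Fin n) k) p ↔
      Submodule.span (Localization.AtPrime p)
        (Set.range fun i : Fin n => KaehlerDifferential.D k (Localization.AtPrime p)
          (algebraMap A (Localization.AtPrime p)
            (algebraMap (MvPolynomial (Fin n) k) A (MvPolynomial.X i)))) = ⊤ := by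
  rw [span_eq_N, Groth.Agent.Helper7.EtPoly.span_eq_top_iff]
  constructor
  · intro h
    exact (FormallyEtale.iff_formallyUnramified_and_formallySmooth.1 h).1
  · intro h
    haveI : Algebra.IsUnramifiedAt (MvPolynomial (Fin n) k) p := h
    exact (etale_of_unramified k A n p hn).2

end dims

end Groth.Agent.Helper3.EtDiff
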