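import Mathlib
import Groth.Prelude

set_option autoImplicit false
set_option linter.style.haveILetI false
set_option linter.unusedSectionVars false
set_option linter.unusedVariables false
set_option linter.deprecated false
set_option linter.style.haveILetI false
set_option linter.unusedSectionVars false
set_option linter.unusedVariables false

open IsLocalRing TensorProduct KaehlerDifferential

universe u

namespace Groth.Agent.Helper3.EtDiff

section nak

variable (k B : Type u) [CommRing k] [CommRing B] [Algebra k B] [IsLocalRing B]
  [Module.Finite B Ω[B⁄k]]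

/-- if the `g_i`, `i ∈ s`, generate the maximal ideal and the differentials of the residues of the
`g_i`, `i ∉ s`, span the differentials of the residue field, then the `d g_i` span `Ω_{B/k}`. -/
theorem span_D_eq_top {ι : Type*} (g : ι → B) (s : Set ι)
    (h1 : Ideal.span (g '' s) = maximalIdeal B)
    (h2 : Submodule.span (ResidueField B)
      ((fun i => D k (ResidueField B) (residue B (g i))) '' sᶜ) = ⊤) :
    Submodule.span B (Set.range fun i => D k B (g i)) = ⊤ := by
  rw [← IsLocalRing.map_tensorProduct_mk_eq_top, Submodule.map_span, ← Set.range_comp]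
  -- the `κ`-span
  set W : Submodule (ResidueField B) (ResidueField B ⊗[B] Ω[B⁄k]) :=
    Submodule.span (ResidueField B) (Set.range fun i => (1 : ResidueField B) ⊗ₜ[B] D k B (g i))
    with hW
  have hWB : Submodule.span B (Set.range (⇑(TensorProduct.mk B (ResidueField B) Ω[B⁄k] 1) ∘
      fun i => D k B (g i))) = W.restrictScalars B := by
    rw [hW, Submodule.restrictScalars_span B (ResidueField B) Ideal.Quotient.mk_surjective]
    rfl
  rw [hWB, Submodule.restrictScalars_eq_top_iff]
  -- elements of the maximal ideal
  have hF3 : ∀ x ∈ maximalIdeal B, (1 : ResidueField B) ⊗ₜ[B] D k B x ∈ W := by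
    intro x hx
    rw [← h1] at hx
    induction hx using Submodule.span_induction with
    | mem x hx =>
      obtain ⟨i, -, rfl⟩ := hx
      exact Submodule.subset_span ⟨i, rfl⟩
    | zero => simp
    | add x y _ _ hx hy => rw [map_add, TensorProduct.tmul_add]; exact W.add_mem hx hy
    | smul a x hx ih =>
      have hxm : x ∈ maximalIdeal B := by rw [← h1]; exact hx
      rw [smul_eq_mul, Derivation.leibniz, TensorProduct.tmul_add, TensorProduct.tmul_smul,
        TensorProduct.tmul_smul]
      have e1 : a • ((1 : ResidueField B) ⊗ₜ[B] D k B x) =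
          (residue B a) • ((1 : ResidueField B) ⊗ₜ[B] D k B x) := by
        rw [TensorProduct.smul_tmul', TensorProduct.smul_tmul', Algebra.smul_def, mul_one,
          smul_eq_mul, mul_one]
        rfl
      have e2 : x • ((1 : ResidueField B) ⊗ₜ[B] D k B a) = 0 := by
        rw [TensorProduct.smul_tmul', Algebra.smul_def, mul_one]
        have : algebraMap B (ResidueField B) x = 0 := (residue_eq_zero_iff x).2 hxm
        rw [this, TensorProduct.zero_tmul]
      rw [e1, e2, add_zero]
      exact W.smul_mem _ ih
  -- surjectivity onto differentials of the residue field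
  have hsurj : Function.Surjective (algebraMap B (ResidueField B)) := Ideal.Quotient.mk_surjective
  have hmap : Submodule.map (mapBaseChange k B (ResidueField B)) W = ⊤ := by
    rw [hW, Submodule.map_span, ← Set.range_comp, eq_top_iff, ← h2]
    apply Submodule.span_mono
    rintro _ ⟨i, -, rfl⟩
    refine ⟨i, ?_⟩
    simp only [Function.comp_apply, mapBaseChange_tmul, map_D, one_smul]
    rfl
  rw [eq_top_iff]
  intro v _
  have hv : mapBaseChange k B (ResidueField B) v ∈
      Submodule.map (mapBaseChange k B (ResidueField B)) W := by rw [hmap]; trivial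
  obtain ⟨w, hw, hwv⟩ := hv
  have hker : mapBaseChange k B (ResidueField B) (v - w) = 0 := by rw [map_sub, hwv, sub_self]
  obtain ⟨c, hc⟩ := (exact_kerCotangentToTensor_mapBaseChange k B (ResidueField B) hsurj _).1 hker
  obtain ⟨x, rfl⟩ := Ideal.toCotangent_surjective _ c
  rw [kerCotangentToTensor_toCotangent] at hc
  have hxm : (x : B) ∈ maximalIdeal B := by
    have := x.2
    rw [RingHom.mem_ker] at this
    exact (residue_eq_zero_iff _).1 this
  have := W.add_mem (hF3 _ hxm) hw
  rw [hc, sub_add_cancel] at this
  exact this

/-- converse, residue field part. -/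
theorem span_D_residue_eq_top {ι : Type*} (g : ι → B) (s : Set ι)
    (hs : ∀ i ∈ s, g i ∈ maximalIdeal B)
    (h : Submodule.span B (Set.range fun i => D k B (g i)) = ⊤) :
    Submodule.span (ResidueField B)
      ((fun i => D k (ResidueField B) (residue B (g i))) '' sᶜ) = ⊤ := by
  rw [eq_top_iff]
  intro ω' _
  have hsurj : Function.Surjective (algebraMap B (ResidueField B)) := Ideal.Quotient.mk_surjective
  obtain ⟨ω, rfl⟩ := KaehlerDifferential.map_surjective_of_surjective k k B (ResidueField B) hsurj ω'
  have hω : ω ∈ Submodule.span B (Set.range fun i => D k B (g i)) := by rw [h]; trivial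
  induction hω using Submodule.span_induction with
  | mem x hx =>
    obtain ⟨i, rfl⟩ := hx
    rw [map_D]
    by_cases hi : i ∈ s
    · have : algebraMap B (ResidueField B) (g i) = 0 := (residue_eq_zero_iff _).2 (hs i hi)
      rw [this, map_zero]
      exact Submodule.zero_mem _
    · exact Submodule.subset_span ⟨i, hi, rfl⟩
  | zero => rw [map_zero]; exact Submodule.zero_mem _
  | add x y _ _ hx hy => rw [map_add]; exact Submodule.add_mem _ (hx trivial) (hy trivial)
  | smul a x _ hx =>
    rw [map_smul, ← algebraMap_smul (ResidueField B) a]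
    exact Submodule.smul_mem _ _ (hx trivial)

theorem one_tmul_D_eq_zero (y : B) (hy : y ∈ maximalIdeal B ^ 2) :
    (1 : ResidueField B) ⊗ₜ[B] D k B y = 0 := by
  rw [pow_two] at hy
  refine Submodule.mul_induction_on hy ?_ ?_
  · intro u hu v hv
    have hu0 : algebraMap B (ResidueField B) u = 0 := (residue_eq_zero_iff _).2 hu
    have hv0 : algebraMap B (ResidueField B) v = 0 := (residue_eq_zero_iff _).2 hv
    rw [Derivation.leibniz, TensorProduct.tmul_add, TensorProduct.tmul_smul,
      TensorProduct.tmul_smul, TensorProduct.smul_tmul', TensorProduct.smul_tmul',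
      Algebra.smul_def, Algebra.smul_def, mul_one, hu0, hv0, TensorProduct.zero_tmul, zero_mul,
      TensorProduct.zero_tmul, add_zero]
  · intro x y hx hy
    rw [map_add, TensorProduct.tmul_add, hx, hy, add_zero]

/-- converse, maximal ideal part. -/
theorem span_eq_maximalIdeal [IsNoetherianRing B] {ι : Type*} [Fintype ι] (g : ι → B)
    (hg : ∀ i, g i ∈ maximalIdeal B)
    (hcard : Fintype.card ι = Module.finrank (ResidueField B) (CotangentSpace B))
    (hli : LinearIndependent (ResidueField B)
      (fun i => (1 : ResidueField B) ⊗ₜ[B] D k B (g i))) :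
    Ideal.span (Set.range g) = maximalIdeal B := by
  classical
  let c : ι → CotangentSpace B := fun i => (maximalIdeal B).toCotangent ⟨g i, hg i⟩
  have hc : LinearIndependent (ResidueField B) c := by
    rw [Fintype.linearIndependent_iff]
    intro a ha
    choose a' ha' using fun i => Ideal.Quotient.mk_surjective (a i)
    have h1 : (maximalIdeal B).toCotangent (∑ i, a' i • (⟨g i, hg i⟩ : maximalIdeal B)) = 0 := by
      rw [map_sum, ← ha]
      refine Finset.sum_congr rfl (fun i _ => ?_)
      rw [map_smul, ← ha' i]
      rfl
    rw [Ideal.toCotangent_eq_zero] at h1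
    have h2 := one_tmul_D_eq_zero k B _ h1
    have h3 : ((∑ i, a' i • (⟨g i, hg i⟩ : maximalIdeal B) : maximalIdeal B) : B) =
        ∑ i, a' i * g i := by
      simp
    rw [h3, map_sum, TensorProduct.tmul_sum] at h2
    have h4 : ∀ i, (1 : ResidueField B) ⊗ₜ[B] D k B (a' i * g i) =
        a i • ((1 : ResidueField B) ⊗ₜ[B] D k B (g i)) := by
      intro i
      have hg0 : algebraMap B (ResidueField B) (g i) = 0 := (residue_eq_zero_iff _).2 (hg i)
      rw [Derivation.leibniz, TensorProduct.tmul_add, TensorProduct.tmul_smul,
        TensorProduct.tmul_smul, TensorProduct.smul_tmul', TensorProduct.smul_tmul',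
        Algebra.smul_def, Algebra.smul_def, mul_one, hg0, zero_mul, TensorProduct.zero_tmul,
        add_zero, ← ha' i, TensorProduct.smul_tmul', smul_eq_mul, mul_one]
      rfl
    simp only [h4] at h2
    exact Fintype.linearIndependent_iff.1 hli a h2
  have hspan := hc.span_eq_top_of_card_eq_finrank' hcard
  have himg : Set.range c = (maximalIdeal B).toCotangent ''
      (Set.range fun i => (⟨g i, hg i⟩ : maximalIdeal B)) := by
    rw [← Set.range_comp]
    rfl
  rw [himg, IsLocalRing.CotangentSpace.span_image_eq_top_iff] at hspan
  have := congrArg (Submodule.map (maximalIdeal B).subtype) hspan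
  rw [Submodule.map_span, Submodule.map_subtype_top, ← Set.range_comp] at this
  exact this

end nak

end Groth.Agent.Helper3.EtDiff
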