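import Mathlib
import Groth.Prelude
import Groth.Agent.Helper3.EtDiff1
import Groth.Agent.Helper3.EtDiff2

set_option autoImplicit false
set_option linter.style.haveILetI false
set_option linter.unusedSectionVars false
set_option linter.unusedVariables false
set_option linter.deprecated false
set_option linter.style.haveILetI false
set_option linter.unusedSectionVars false
set_option linter.unusedVariables false

open IsLocalRing TensorProduct KaehlerDifferential Algebra

universe u

namespace Groth.Agent.Helper3.EtDiff

section main

variable (k A : Type u) [Field k] [CommRing A] [Algebra k A] [Algebra.FiniteType k A] (n r : ℕ)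
  [Algebra (MvPolynomial (Fin n) k) A] [IsScalarTower k (MvPolynomial (Fin n) k) A]
  (p : Ideal A) [p.IsPrime]

/-- the differentials `1 ⊗ d g_i` form a basis of `κ ⊗ Ω` when `A` is étale at `p`. -/
theorem linearIndependent_of_etale [Algebra.IsEtaleAt (MvPolynomial (Fin n) k) p] :
    LinearIndependent p.ResidueField
      (fun i : Fin n => (1 : p.ResidueField) ⊗ₜ[Localization.AtPrime p]
        D k (Localization.AtPrime p) (algebraMap A (Localization.AtPrime p)
          (algebraMap (MvPolynomial (Fin n) k) A (MvPolynomial.X i)))) := by
  haveI : Algebra.FormallyEtale (MvPolynomial (Fin n) k) (Localization.AtPrime p) := ‹_›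
  let b0 := KaehlerDifferential.mvPolynomialBasis k (Fin n)
  let b1 := (b0.baseChange (Localization.AtPrime p)).map
    (tensorKaehlerEquivOfFormallyEtale k (MvPolynomial (Fin n) k) (Localization.AtPrime p))
  let b2 := b1.baseChange p.ResidueField
  have h : ∀ i, b2 i = (1 : p.ResidueField) ⊗ₜ[Localization.AtPrime p]
        D k (Localization.AtPrime p) (algebraMap A (Localization.AtPrime p)
          (algebraMap (MvPolynomial (Fin n) k) A (MvPolynomial.X i))) := by
    intro i
    simp only [b2, b1, b0, Module.Basis.baseChange_apply, Module.Basis.map_apply,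
      tensorKaehlerEquivOfFormallyEtale_apply, mapBaseChange_tmul, one_smul,
      KaehlerDifferential.mvPolynomialBasis_apply, map_D]
    rw [← IsScalarTower.algebraMap_apply]
  have := b2.linearIndependent
  convert this using 1
  funext i
  exact (h i).symm

include k in
theorem le_of_dims
    (hn : FlatMor.localDim (PrimeSpectrum A) ⟨p, inferInstance⟩ = (n : WithBot ℕ∞))
    (hr : ringKrullDim (Localization.AtPrime p) = (r : WithBot ℕ∞)) : r ≤ n := by
  obtain ⟨t, ht1, ht2⟩ := Groth.Agent.Helper5.FtDim.dim_eq_trdeg k (A ⧸ p) p.ResidueField
  have h1 := Groth.Agent.S2141.result (k := k) p t ht2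
  rw [hn, hr] at h1
  have h2 : (n : WithBot ℕ∞) = ((r + t : ℕ) : WithBot ℕ∞) := by
    rw [h1]; push_cast; rfl
  have h3 : n = r + t := by exact_mod_cast h2
  omega

theorem s5026
    (hn : FlatMor.localDim (PrimeSpectrum A) ⟨p, inferInstance⟩ = (n : WithBot ℕ∞))
    (hr : ringKrullDim (Localization.AtPrime p) = (r : WithBot ℕ∞))
    (hg : ∀ i : Fin n, (i : ℕ) < r →
      algebraMap (MvPolynomial (Fin n) k) A (MvPolynomial.X i) ∈ p) :
    Algebra.IsEtaleAt (MvPolynomial (Fin n) k) p ↔
      Ideal.span ((fun i : Fin n =>
          algebraMap A (Localization.AtPrime p)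
            (algebraMap (MvPolynomial (Fin n) k) A (MvPolynomial.X i))) ''
            {i : Fin n | (i : ℕ) < r}) = IsLocalRing.maximalIdeal (Localization.AtPrime p) ∧
        Submodule.span p.ResidueField ((fun i : Fin n =>
          KaehlerDifferential.D k p.ResidueField
            (IsLocalRing.residue (Localization.AtPrime p)
              (algebraMap A (Localization.AtPrime p)
                (algebraMap (MvPolynomial (Fin n) k) A (MvPolynomial.X i))))) ''
            {i : Fin n | r ≤ (i : ℕ)}) = ⊤ := by
  haveI : IsNoetherianRing A := Algebra.FiniteType.isNoetherianRing k A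
  haveI : IsNoetherianRing (Localization.AtPrime p) :=
    IsLocalization.isNoetherianRing p.primeCompl _ inferInstance
  haveI : Algebra.EssFiniteType k (Localization.AtPrime p) :=
    Algebra.EssFiniteType.comp k A (Localization.AtPrime p)
  have hcompl : ({i : Fin n | (i : ℕ) < r} : Set (Fin n))ᶜ = {i : Fin n | r ≤ (i : ℕ)} := by
    ext i
    simp
  set g : Fin n → Localization.AtPrime p := fun i =>
    algebraMap A (Localization.AtPrime p)
      (algebraMap (MvPolynomial (Fin n) k) A (MvPolynomial.X i)) with hgdef
  have hgm : ∀ i : Fin n, (i : ℕ) < r → g i ∈ maximalIdeal (Localization.AtPrime p) := by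
    intro i hi
    rw [← Localization.AtPrime.map_eq_maximalIdeal]
    exact Ideal.mem_map_of_mem _ (hg i hi)
  constructor
  · intro h
    haveI : Algebra.IsEtaleAt (MvPolynomial (Fin n) k) p := h
    haveI : Algebra.IsUnramifiedAt (MvPolynomial (Fin n) k) p :=
      (FormallyEtale.iff_formallyUnramified_and_formallySmooth.1 h).1
    have hreg := (etale_of_unramified k A n p hn).1
    have hspan := (s2790 k A n p hn).1 h
    refine ⟨?_, ?_⟩
    · -- maximal ideal
      have hrn := le_of_dims k A n r p hn hr
      have hfin : Module.finrank (ResidueField (Localization.AtPrime p))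
          (CotangentSpace (Localization.AtPrime p)) = r := by
        have := (IsRegularLocalRing.iff_finrank_cotangentSpace (Localization.AtPrime p)).1 hreg
        rw [hr] at this
        exact_mod_cast this
      have hcard : Fintype.card {i : Fin n // (i : ℕ) < r} = r := by
        rw [Fintype.card_subtype]
        have : (Finset.univ.filter fun i : Fin n => (i : ℕ) < r) =
            (Finset.univ : Finset (Fin r)).map (Fin.castLEEmb hrn) := by
          ext i
          simp only [Finset.mem_filter, Finset.mem_univ, true_and, Finset.mem_map,
            Fin.castLEEmb_apply]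
          constructor
          · intro hi
            exact ⟨⟨i, hi⟩, by ext; rfl⟩
          · rintro ⟨j, rfl⟩
            exact j.2
        rw [this, Finset.card_map, Finset.card_univ, Fintype.card_fin]
      have hli := (linearIndependent_of_etale k A n p).comp
        (Subtype.val : {i : Fin n // (i : ℕ) < r} → Fin n) Subtype.val_injective
      have := span_eq_maximalIdeal k (Localization.AtPrime p)
        (fun i : {i : Fin n // (i : ℕ) < r} => g i.1) (fun i => hgm i.1 i.2)
        (hcard.trans hfin.symm) hli
      rw [← this]
      congr 1
      ext x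
      constructor
      · rintro ⟨i, hi, rfl⟩
        exact ⟨⟨i, hi⟩, rfl⟩
      · rintro ⟨⟨i, hi⟩, rfl⟩
        exact ⟨i, hi, rfl⟩
    · have := span_D_residue_eq_top k (Localization.AtPrime p) g {i : Fin n | (i : ℕ) < r}
        hgm hspan
      rw [hcompl] at this
      exact this
  · rintro ⟨h1, h2⟩
    apply (s2790 k A n p hn).2
    refine span_D_eq_top k (Localization.AtPrime p) g {i : Fin n | (i : ℕ) < r} h1 ?_
    rw [hcompl]
    exact h2

end main

end Groth.Agent.Helper3.EtDiff
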