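import Mathlib
import Groth.Prelude
import Groth.Agent.Helper3.EtDiff3
import Groth.Agent.Helper8.Idx13
import Groth.Agent.Helper1.FieldSmooth7

set_option autoImplicit false
set_option linter.style.haveILetI false
set_option linter.unusedSectionVars false
set_option linter.unusedVariables false
set_option linter.deprecated false
set_option linter.style.haveILetI false
set_option linter.unusedSectionVars false
set_option linter.unusedVariables false

open IsLocalRing TensorProduct KaehlerDifferential Algebra

universe u

namespace Groth.Agent.Helper3.EtDiff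

section fields

variable (k K : Type u) [Field k] [Field K] [Algebra k K] [Algebra.EssFiniteType k K]

/-- separable: a separating family of `trdeg` elements. -/
theorem exists_sep_family (t : ℕ) (ht : Algebra.trdeg k K = t)
    (h : Algebra.IsGeometricallyReduced k K) :
    ∃ y : Fin t → K, Submodule.span K (Set.range fun i => D k K (y i)) = ⊤ := by
  obtain ⟨hfin, hfin1, hc⟩ := Groth.Agent.Helper8.Idx.cartier_h1 (K := k) (L := K)
  haveI : Algebra.FormallySmooth k K :=
    Groth.Agent.Helper1.FieldSmooth.formallySmooth_iff_isGeometricallyReduced.2 h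
  have h0 : Module.finrank K (Algebra.H1Cotangent k K) = 0 :=
    Module.finrank_zero_of_subsingleton
  rw [ht, h0] at hc
  simp only [Cardinal.toNat_natCast, Nat.cast_zero, sub_zero] at hc
  have hΩ : Module.finrank K (Ω[K⁄k]) = t := by exact_mod_cast hc
  obtain ⟨f, hf1, hf2, -⟩ := Submodule.exists_fun_fin_finrank_span_eq K
    (Set.range (D k K))
  have hf2' : Submodule.span K (Set.range f) = ⊤ :=
    hf2.trans (KaehlerDifferential.span_range_derivation k K)
  have hcard : Module.finrank K (Submodule.span K (Set.range (D k K))) = t := by
    rw [KaehlerDifferential.span_range_derivation, finrank_top, hΩ]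
  choose y hy using hf1
  refine ⟨fun i => y (Fin.cast hcard.symm i), ?_⟩
  rw [← hf2']
  congr 1
  ext ω
  constructor
  · rintro ⟨i, rfl⟩
    exact ⟨Fin.cast hcard.symm i, (hy _).symm⟩
  · rintro ⟨i, rfl⟩
    refine ⟨Fin.cast hcard i, ?_⟩
    simp only [Fin.cast_cast, Fin.cast_eq_self]
    exact hy i

/-- conversely. -/
theorem geomReduced_of_span (t : ℕ) (ht : Algebra.trdeg k K = t) {ι : Type*} [Fintype ι]
    (hι : Fintype.card ι ≤ t) (b : ι → Ω[K⁄k]) (hb : Submodule.span K (Set.range b) = ⊤) :
    Algebra.IsGeometricallyReduced k K := by
  obtain ⟨hfin, hfin1, hc⟩ := Groth.Agent.Helper8.Idx.cartier_h1 (K := k) (L := K)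
  have h1 : Module.finrank K (Ω[K⁄k]) ≤ t := by
    have := finrank_range_le_card (R := K) b
    unfold Set.finrank at this
    rw [hb, finrank_top] at this
    exact this.trans hι
  rw [ht] at hc
  simp only [Cardinal.toNat_natCast] at hc
  have h0 : Module.finrank K (Algebra.H1Cotangent k K) = 0 := by omega
  haveI : Subsingleton (Algebra.H1Cotangent k K) := (Module.finrank_eq_zero_iff_of_free K _).1 h0
  apply Groth.Agent.Helper1.FieldSmooth.formallySmooth_iff_isGeometricallyReduced.1
  exact ⟨Module.Projective.of_free, inferInstance⟩

end fields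

section main

variable (k A : Type u) [Field k] [CommRing A] [Algebra k A] [Algebra.FiniteType k A] (n r : ℕ)
  (p : Ideal A) [p.IsPrime]

theorem s5027
    (hn : FlatMor.localDim (PrimeSpectrum A) ⟨p, inferInstance⟩ = (n : WithBot ℕ∞))
    (hr : ringKrullDim (Localization.AtPrime p) = (r : WithBot ℕ∞)) :
    (IsRegularLocalRing (Localization.AtPrime p) ∧
        Algebra.IsGeometricallyReduced k p.ResidueField) ↔
      ∃ g : Fin n → Localization.AtPrime p,
        Ideal.span (g '' {i : Fin n | (i : ℕ) < r}) =
            IsLocalRing.maximalIdeal (Localization.AtPrime p) ∧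
          Submodule.span p.ResidueField ((fun i : Fin n =>
            KaehlerDifferential.D k p.ResidueField
              (IsLocalRing.residue (Localization.AtPrime p) (g i))) ''
              {i : Fin n | r ≤ (i : ℕ)}) = ⊤ := by
  classical
  haveI : IsNoetherianRing A := Algebra.FiniteType.isNoetherianRing k A
  haveI : IsNoetherianRing (Localization.AtPrime p) :=
    IsLocalization.isNoetherianRing p.primeCompl _ inferInstance
  haveI : Algebra.EssFiniteType k p.ResidueField := by
    haveI : Algebra.EssFiniteType A p.ResidueField := inferInstance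
    exact Algebra.EssFiniteType.comp k A p.ResidueField
  obtain ⟨t, ht1, ht2⟩ := Groth.Agent.Helper5.FtDim.dim_eq_trdeg k (A ⧸ p) p.ResidueField
  have hnrt : n = r + t := by
    have h1 := Groth.Agent.S2141.result (k := k) p t ht2
    rw [hn, hr] at h1
    have h2 : (n : WithBot ℕ∞) = ((r + t : ℕ) : WithBot ℕ∞) := by
      rw [h1]; push_cast; rfl
    exact_mod_cast h2
  constructor
  · rintro ⟨hreg, hgr⟩
    have hsf : (maximalIdeal (Localization.AtPrime p)).spanFinrank = r := by
      have := IsRegularLocalRing.spanFinrank_maximalIdeal (R := Localization.AtPrime p)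
      rw [hr] at this
      exact_mod_cast this
    obtain ⟨s, hs1, hs2⟩ := Submodule.FG.exists_span_finset_card_eq_spanFinrank
      (IsNoetherian.noetherian (maximalIdeal (Localization.AtPrime p)))
    let e := s.equivFinOfCardEq (hs1.trans hsf)
    let x : Fin r → Localization.AtPrime p := fun i => (e.symm i).1
    have hx : Set.range x = (s : Set (Localization.AtPrime p)) := by
      ext a
      constructor
      · rintro ⟨i, rfl⟩
        exact (e.symm i).2
      · intro ha
        exact ⟨e ⟨a, ha⟩, by simp [x]⟩
    obtain ⟨y, hy⟩ := exists_sep_family k p.ResidueField t ht2 hgr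
    choose z hz using fun j => IsLocalRing.residue_surjective (R := Localization.AtPrime p) (y j)
    let g : Fin n → Localization.AtPrime p := fun i =>
      if h : (i : ℕ) < r then x ⟨i, h⟩ else z ⟨(i : ℕ) - r, by have := i.2; omega⟩
    refine ⟨g, ?_, ?_⟩
    · have : g '' {i : Fin n | (i : ℕ) < r} = Set.range x := by
        ext a
        constructor
        · rintro ⟨i, hi, rfl⟩
          exact ⟨⟨i, hi⟩, by simp only [g, dif_pos (show (i : ℕ) < r from hi)]⟩
        · rintro ⟨j, rfl⟩
          refine ⟨⟨j, by have := j.2; omega⟩, j.2, ?_⟩
          simp only [g, dif_pos j.2]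
      rw [this, hx]
      exact hs2
    · have : (fun i : Fin n => KaehlerDifferential.D k p.ResidueField
          (IsLocalRing.residue (Localization.AtPrime p) (g i))) '' {i : Fin n | r ≤ (i : ℕ)} =
          Set.range fun j => D k p.ResidueField (y j) := by
        ext a
        constructor
        · rintro ⟨i, hi, rfl⟩
          have hi' : ¬ (i : ℕ) < r := not_lt.2 hi
          refine ⟨⟨(i : ℕ) - r, by have := i.2; omega⟩, ?_⟩
          simp only [g, dif_neg hi', hz]
        · rintro ⟨j, rfl⟩
          refine ⟨⟨r + j, by have := j.2; omega⟩, by simp, ?_⟩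
          have hi' : ¬ (r + (j : ℕ)) < r := by omega
          simp only [g, dif_neg hi', hz]
          congr 2
          ext
          simp
      rw [this]
      exact hy
  · rintro ⟨g, h1, h2⟩
    refine ⟨?_, ?_⟩
    · apply IsRegularLocalRing.of_spanFinrank_maximalIdeal_le
      rw [hr, ← h1]
      have hfin : (g '' {i : Fin n | (i : ℕ) < r}).Finite := Set.toFinite _
      have h3 := Submodule.spanFinrank_span_le_ncard_of_finite (R := Localization.AtPrime p) hfin
      have h4 : (g '' {i : Fin n | (i : ℕ) < r}).ncard ≤ r := by
        refine (Set.ncard_image_le (Set.toFinite _)).trans ?_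
        have : ({i : Fin n | (i : ℕ) < r} : Set (Fin n)).ncard ≤ r := by
          rw [← Set.ncard_image_of_injective _ Fin.val_injective]
          have hsub : Fin.val '' {i : Fin n | (i : ℕ) < r} ⊆ (↑(Finset.range r) : Set ℕ) := by
            rintro _ ⟨i, hi, rfl⟩
            simpa using hi
          refine (Set.ncard_le_ncard hsub (Finset.finite_toSet _)).trans ?_
          rw [Set.ncard_coe_finset, Finset.card_range]
        exact this
      exact_mod_cast h3.trans h4
    · have hcard : Fintype.card {i : Fin n // r ≤ (i : ℕ)} ≤ t := by
        have := Fintype.card_le_of_injective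
          (fun i : {i : Fin n // r ≤ (i : ℕ)} => (⟨(i.1 : ℕ) - r, by
            have := i.1.2; have := i.2; omega⟩ : Fin t)) (by
          intro i j hij
          have h5 : (i.1 : ℕ) - r = (j.1 : ℕ) - r := congrArg Fin.val hij
          have := i.2
          have := j.2
          apply Subtype.ext
          apply Fin.ext
          omega)
        simpa using this
      refine geomReduced_of_span k p.ResidueField t ht2 hcard
        (fun i : {i : Fin n // r ≤ (i : ℕ)} => KaehlerDifferential.D k p.ResidueField
          (IsLocalRing.residue (Localization.AtPrime p) (g i.1))) ?_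
      rw [← h2]
      congr 1
      ext a
      constructor
      · rintro ⟨⟨i, hi⟩, rfl⟩
        exact ⟨i, hi, rfl⟩
      · rintro ⟨i, hi, rfl⟩
        exact ⟨⟨i, hi⟩, rfl⟩

end main

end Groth.Agent.Helper3.EtDiff
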