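import Groth.Agent.Helper3.EtFactor

/-!
S1957: lifting a coprime factorization whose first factor has unit leading coefficient.
-/

namespace Groth.Agent.Helper3.EtFactor

open Polynomial
open scoped TensorProduct

universe u

/-- Transitivity of `A/I ≃ A'/IA'`. -/
theorem bijective_trans {A A'' A' : Type*} [CommRing A] [CommRing A''] [CommRing A']
    [Algebra A A''] [Algebra A'' A'] [Algebra A A'] [IsScalarTower A A'' A'] (I : Ideal A)
    (h1 : Function.Bijective (Ideal.quotientMap (I.map (algebraMap A A'')) (algebraMap A A'')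
      Ideal.le_comap_map))
    (h2 : Function.Bijective (Ideal.quotientMap ((I.map (algebraMap A A'')).map
      (algebraMap A'' A')) (algebraMap A'' A') Ideal.le_comap_map)) :
    Function.Bijective (Ideal.quotientMap (I.map (algebraMap A A')) (algebraMap A A')
      Ideal.le_comap_map) := by
  have hI : (I.map (algebraMap A A'')).map (algebraMap A'' A') = I.map (algebraMap A A') := by
    rw [Ideal.map_map, ← IsScalarTower.algebraMap_eq]
  let e := Ideal.quotEquivOfEq hI
  have : (Ideal.quotientMap (I.map (algebraMap A A')) (algebraMap A A') Ideal.le_comap_map :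
      A ⧸ I → A' ⧸ I.map (algebraMap A A')) =
      e ∘ (Ideal.quotientMap ((I.map (algebraMap A A'')).map
        (algebraMap A'' A')) (algebraMap A'' A') Ideal.le_comap_map) ∘
        (Ideal.quotientMap (I.map (algebraMap A A'')) (algebraMap A A'') Ideal.le_comap_map) := by
    funext x
    obtain ⟨a, rfl⟩ := Ideal.Quotient.mk_surjective x
    simp only [Function.comp_apply, Ideal.quotientMap_mk, e, Ideal.quotEquivOfEq_mk]
    rw [← IsScalarTower.algebraMap_apply]
  rw [this]
  exact e.bijective.comp (h2.comp h1)

/-- S1957. -/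
theorem main (A : Type u) [CommRing A] (I : Ideal A) (f : A[X]) (hf : f.Monic)
    (g h : (A ⧸ I)[X]) (hgh : f.map (Ideal.Quotient.mk I) = g * h) (hlead : IsUnit g.leadingCoeff)
    (hcop : IsCoprime g h) :
    ∃ (A' : Type u) (_ : CommRing A') (_ : Algebra A A') (_ : Algebra.Etale A A'),
      Function.Bijective (Ideal.quotientMap (I.map (algebraMap A A')) (algebraMap A A')
        Ideal.le_comap_map) ∧
      ∃ g' h' : A'[X], f.map (algebraMap A A') = g' * h' ∧
        g'.map (Ideal.Quotient.mk (I.map (algebraMap A A'))) =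
          g.map (Ideal.quotientMap (I.map (algebraMap A A')) (algebraMap A A')
            Ideal.le_comap_map) ∧
        h'.map (Ideal.Quotient.mk (I.map (algebraMap A A'))) =
          h.map (Ideal.quotientMap (I.map (algebraMap A A')) (algebraMap A A')
            Ideal.le_comap_map) := by
  rcases subsingleton_or_nontrivial (A ⧸ I) with hI | hI
  · have hsub : Subsingleton (Localization.Away (0 : A)) :=
      IsLocalization.subsingleton (M := Submonoid.powers (0 : A)) ⟨1, by simp⟩
    refine ⟨Localization.Away (0 : A), inferInstance, inferInstance, inferInstance,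
      ⟨Function.injective_of_subsingleton _, fun y => ⟨0, Subsingleton.elim _ _⟩⟩,
      1, 1, Subsingleton.elim _ _, Subsingleton.elim _ _, Subsingleton.elim _ _⟩
  obtain ⟨u, hu⟩ := hlead
  set v : A ⧸ I := ↑u⁻¹ with hv
  have huv : (u : A ⧸ I) * v = 1 := Units.mul_inv u
  have hvu : v * (u : A ⧸ I) = 1 := Units.inv_mul u
  have hg₀ : (C v * g).Monic := monic_C_mul_of_mul_leadingCoeff_eq_one (by rw [← hu]; exact hvu)
  have hprod : (C v * g) * (C (u : A ⧸ I) * h) = g * h := by
    have : C v * C (u : A ⧸ I) = 1 := by rw [← C_mul, hvu, C_1]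
    calc (C v * g) * (C (u : A ⧸ I) * h) = (C v * C (u : A ⧸ I)) * (g * h) := by ring
      _ = g * h := by rw [this, one_mul]
  have hh₀ : (C (u : A ⧸ I) * h).Monic := by
    refine hg₀.of_mul_monic_left ?_
    rw [hprod, ← hgh]
    exact hf.map _
  have hcop₀ : IsCoprime (C v * g) (C (u : A ⧸ I) * h) := by
    have h1 : IsUnit (C v : (A ⧸ I)[X]) := (IsUnit.map C ⟨u⁻¹, rfl⟩)
    have h2 : IsUnit (C (u : A ⧸ I) : (A ⧸ I)[X]) := (IsUnit.map C u.isUnit)
    rw [isCoprime_mul_unit_left_left h1, isCoprime_mul_unit_left_right h2]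
    exact hcop
  obtain ⟨A'', _, _, hA'', hbij, g₀', h₀', -, -, -, hf', hgg, hhh⟩ :=
    exists_etale_factor I f hf _ _ hg₀ hh₀ hcop₀ (hgh.trans hprod.symm)
  obtain ⟨a, ha⟩ := Ideal.Quotient.mk_surjective (u : A ⧸ I)
  obtain ⟨b, hb⟩ := Ideal.Quotient.mk_surjective v
  have hab : a * b - 1 ∈ I := by
    rw [← Ideal.Quotient.eq, map_mul, ha, hb, huv, map_one]
  set K : Ideal A'' := I.map (algebraMap A A'') with hK
  set j : A'' := algebraMap A A'' (a * b) with hj
  have hjK : j - 1 ∈ K := by
    have := Ideal.mem_map_of_mem (algebraMap A A'') hab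
    rwa [map_sub, map_one] at this
  let A' := Localization.Away j
  have hEt : Algebra.Etale A A' := Algebra.Etale.comp A A'' A'
  have hbij2 := NearClosed.quotientMap_away_bijective K j hjK A'
  have hbij' := bijective_trans (A' := A') I hbij hbij2
  -- the inverse of `a` in `A'`
  obtain ⟨w₀, hw₀⟩ := (IsLocalization.Away.algebraMap_isUnit (S := A') j)
  set a' : A' := algebraMap A A' a with ha'
  set w : A' := algebraMap A A' b * ↑w₀⁻¹ with hw
  have haw : a' * w = 1 := by
    have : a' * algebraMap A A' b = ↑w₀ := by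
      rw [hw₀]
      change _ = algebraMap A'' A' (algebraMap A A'' (a * b))
      rw [← IsScalarTower.algebraMap_apply, map_mul]
    calc a' * w = (a' * algebraMap A A' b) * ↑w₀⁻¹ := by rw [hw]; ring
      _ = 1 := by rw [this, Units.mul_inv]
  set q := Ideal.quotientMap (I.map (algebraMap A A')) (algebraMap A A') Ideal.le_comap_map
    with hq
  -- compatibility of the two reductions
  have hcomp : (Ideal.Quotient.mk (I.map (algebraMap A A'))).comp (algebraMap A'' A') =
      (Ideal.quotientMap (I.map (algebraMap A A')) (algebraMap A'' A')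
        (by rw [hK, Ideal.map_le_iff_le_comap.symm, Ideal.map_map,
          ← IsScalarTower.algebraMap_eq])).comp (Ideal.Quotient.mk K) := by
    ext x
    simp
  set q2 := Ideal.quotientMap (I.map (algebraMap A A')) (algebraMap A'' A')
        (show K ≤ (I.map (algebraMap A A')).comap (algebraMap A'' A') by
          rw [hK, Ideal.map_le_iff_le_comap.symm, Ideal.map_map,
            ← IsScalarTower.algebraMap_eq]) with hq2
  have hq2q1 : q2.comp (algebraMap (A ⧸ I) (A'' ⧸ K)) = q := by
    ext x
    simp only [RingHom.comp_apply, hq2, hq]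
    change Ideal.quotientMap _ _ _ (Ideal.Quotient.mk K (algebraMap A A'' x)) = _
    rw [Ideal.quotientMap_mk, Ideal.quotientMap_mk, ← IsScalarTower.algebraMap_apply]
  have hqu : q (u : A ⧸ I) = Ideal.Quotient.mk _ a' := by
    rw [← ha, hq, Ideal.quotientMap_mk]
  refine ⟨A', inferInstance, inferInstance, hEt, hbij', C a' * g₀'.map (algebraMap A'' A'),
    C w * h₀'.map (algebraMap A'' A'), ?_, ?_, ?_⟩
  · have h1 : f.map (algebraMap A A') = (f.map (algebraMap A A'')).map (algebraMap A'' A') := by
      rw [Polynomial.map_map, ← IsScalarTower.algebraMap_eq]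
    rw [h1, hf', Polynomial.map_mul]
    have : C a' * C w = (1 : A'[X]) := by rw [← C_mul, haw, C_1]
    calc _ = (C a' * C w) * (g₀'.map (algebraMap A'' A') * h₀'.map (algebraMap A'' A')) := by
          rw [this, one_mul]
      _ = _ := by ring
  · rw [Polynomial.map_mul, Polynomial.map_C, Polynomial.map_map, hcomp, ← Polynomial.map_map,
      hgg, Polynomial.map_map, hq2q1, Polynomial.map_mul, Polynomial.map_C, ← mul_assoc,
      ← hqu, ← C_mul, ← map_mul, huv, map_one, C_1, one_mul]
  · rw [Polynomial.map_mul, Polynomial.map_C, Polynomial.map_map, hcomp, ← Polynomial.map_map,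
      hhh, Polynomial.map_map, hq2q1, Polynomial.map_mul, Polynomial.map_C, ← mul_assoc,
      hqu, ← C_mul, ← map_mul, mul_comm w a', haw, map_one, C_1, one_mul]

end Groth.Agent.Helper3.EtFactor
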