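import Mathlib
import Groth.Agent.Helper3.EtCut
import Groth.Agent.Helper3.EtFactor2
import Groth.Agent.Helper3.NearClosed

universe u
open scoped TensorProduct

namespace Groth.Agent.Helper3.EtDir

/-- If `A/I → A₁/IA₁` is bijective there is an `A`-algebra map `A₁ → A/I`. -/
theorem exists_section {A : Type u} [CommRing A] (I : Ideal A) (A₁ : Type u) [CommRing A₁]
    [Algebra A A₁]
    (h : Function.Bijective (Ideal.quotientMap (I.map (algebraMap A A₁)) (algebraMap A A₁)
      Ideal.le_comap_map)) :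
    ∃ σ : A₁ →ₐ[A] A ⧸ I, ∀ s : A₁, Ideal.quotientMap (I.map (algebraMap A A₁)) (algebraMap A A₁)
      Ideal.le_comap_map (σ s) = Ideal.Quotient.mk _ s := by
  let e : (A ⧸ I) ≃+* (A₁ ⧸ I.map (algebraMap A A₁)) := RingEquiv.ofBijective _ h
  let σr : A₁ →+* A ⧸ I := e.symm.toRingHom.comp (Ideal.Quotient.mk _)
  refine ⟨⟨σr, ?_⟩, ?_⟩
  · intro a
    change e.symm (Ideal.Quotient.mk _ (algebraMap A A₁ a)) = _
    rw [RingEquiv.symm_apply_eq]
    change _ = Ideal.quotientMap (I.map (algebraMap A A₁)) (algebraMap A A₁)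
      Ideal.le_comap_map (Ideal.Quotient.mk I a)
    rw [Ideal.quotientMap_mk]
  · intro s
    change e (e.symm _) = _
    rw [RingEquiv.apply_symm_apply]

theorem part1 {A : Type u} [CommRing A] (I : Ideal A) (A₁ A₂ : Type u) [CommRing A₁] [Algebra A A₁]
    [Algebra.Etale A A₁] [CommRing A₂] [Algebra A A₂] [Algebra.Etale A A₂]
    (h1 : Function.Bijective (Ideal.quotientMap (I.map (algebraMap A A₁)) (algebraMap A A₁)
      Ideal.le_comap_map))
    (h2 : Function.Bijective (Ideal.quotientMap (I.map (algebraMap A A₂)) (algebraMap A A₂)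
      Ideal.le_comap_map)) :
    ∃ (A₃ : Type u) (_ : CommRing A₃) (_ : Algebra A A₃) (_ : Algebra.Etale A A₃),
      Function.Bijective (Ideal.quotientMap (I.map (algebraMap A A₃)) (algebraMap A A₃)
        Ideal.le_comap_map) ∧ Nonempty (A₁ →ₐ[A] A₃) ∧ Nonempty (A₂ →ₐ[A] A₃) := by
  obtain ⟨σ₁, -⟩ := exists_section I A₁ h1
  obtain ⟨σ₂, -⟩ := exists_section I A₂ h2
  let σ : A₁ ⊗[A] A₂ →ₐ[A] A ⧸ I := Algebra.TensorProduct.productMap σ₁ σ₂
  have : Algebra.Etale A (A₁ ⊗[A] A₂) := Algebra.Etale.comp A A₁ (A₁ ⊗[A] A₂)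
  obtain ⟨A', _, _, _, ι, hbij, -⟩ := EtCut.exists_etale_cut I σ
  exact ⟨A', inferInstance, inferInstance, inferInstance, hbij,
    ⟨ι.comp Algebra.TensorProduct.includeLeft⟩, ⟨ι.comp Algebra.TensorProduct.includeRight⟩⟩

theorem part2 {A : Type u} [CommRing A] (I : Ideal A) (A₁ A₂ : Type u) [CommRing A₁] [Algebra A A₁]
    [Algebra.Etale A A₁] [CommRing A₂] [Algebra A A₂] [Algebra.Etale A A₂]
    (h1 : Function.Bijective (Ideal.quotientMap (I.map (algebraMap A A₁)) (algebraMap A A₁)
      Ideal.le_comap_map))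
    (h2 : Function.Bijective (Ideal.quotientMap (I.map (algebraMap A A₂)) (algebraMap A A₂)
      Ideal.le_comap_map)) (f g : A₁ →ₐ[A] A₂) :
    ∃ (A₃ : Type u) (_ : CommRing A₃) (_ : Algebra A A₃) (_ : Algebra.Etale A A₃),
      Function.Bijective (Ideal.quotientMap (I.map (algebraMap A A₃)) (algebraMap A A₃)
        Ideal.le_comap_map) ∧ ∃ h : A₂ →ₐ[A] A₃, h.comp f = h.comp g := by
  set J : Ideal A₂ := I.map (algebraMap A A₂) with hJ
  let μ : A₁ ⊗[A] A₁ →ₐ[A] A₂ := Algebra.TensorProduct.productMap f g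
  let t := Algebra.FormallyUnramified.elem A A₁
  let c : A₂ := μ t
  -- f ≡ g mod J
  have hfg : ∀ s : A₁, f s - g s ∈ J := by
    intro s
    obtain ⟨abar, ha⟩ := h1.2 (Ideal.Quotient.mk _ s)
    obtain ⟨a, rfl⟩ := Ideal.Quotient.mk_surjective abar
    rw [Ideal.quotientMap_mk, Ideal.Quotient.eq] at ha
    -- algebraMap a - s ∈ I A₁
    have hmap : ∀ (φ : A₁ →ₐ[A] A₂), φ (algebraMap A A₁ a - s) ∈ J := by
      intro φ
      have : (I.map (algebraMap A A₁)).map φ.toRingHom ≤ J := by
        rw [hJ, Ideal.map_map]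
        have : φ.toRingHom.comp (algebraMap A A₁) = algebraMap A A₂ := φ.comp_algebraMap
        rw [this]
      exact this (Ideal.mem_map_of_mem _ ha)
    have h3 := hmap f
    have h4 := hmap g
    rw [map_sub, AlgHom.commutes] at h3 h4
    have : f s - g s = (algebraMap A A₂ a - g s) - (algebraMap A A₂ a - f s) := by ring
    rw [this]
    exact J.sub_mem h4 h3
  -- μ x ≡ f (lmul' x) mod J
  have hμ : ∀ x : A₁ ⊗[A] A₁, μ x - f (Algebra.TensorProduct.lmul' A x) ∈ J := by
    intro x
    induction x using TensorProduct.induction_on with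
    | zero => simp
    | tmul s s' =>
      simp only [μ, Algebra.TensorProduct.productMap_apply_tmul, Algebra.TensorProduct.lmul'_apply_tmul,
        map_mul]
      have : f s * g s' - f s * f s' = - (f s * (f s' - g s')) := by ring
      rw [this]
      exact J.neg_mem (J.mul_mem_left _ (hfg s'))
    | add x y hx hy =>
      simp only [map_add]
      have : μ x + μ y - (f (Algebra.TensorProduct.lmul' A x) + f (Algebra.TensorProduct.lmul' A y)) =
          (μ x - f (Algebra.TensorProduct.lmul' A x)) + (μ y - f (Algebra.TensorProduct.lmul' A y)) := by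
        ring
      rw [this]
      exact J.add_mem hx hy
  have hc1 : c - 1 ∈ J := by
    have := hμ t
    rwa [Algebra.FormallyUnramified.lmul_elem, map_one] at this
  have hc0 : ∀ s : A₁, (f s - g s) * c = 0 := by
    intro s
    have h5 : μ ((s ⊗ₜ[A] (1 : A₁) - (1 : A₁) ⊗ₜ[A] s) * t) = 0 := by
      have := Algebra.FormallyUnramified.one_tmul_sub_tmul_one_mul_elem (R := A) (S := A₁) s
      have h6 : (s ⊗ₜ[A] (1 : A₁) - (1 : A₁) ⊗ₜ[A] s) * t = - ((1 ⊗ₜ s - s ⊗ₜ 1) * t) := by ring
      rw [h6, this, neg_zero, map_zero]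
    rw [map_mul, map_sub] at h5
    simpa [μ, Algebra.TensorProduct.productMap_apply_tmul] using h5
  have : Algebra.Etale A (Localization.Away c) := Algebra.Etale.comp A A₂ (Localization.Away c)
  refine ⟨Localization.Away c, inferInstance, inferInstance, inferInstance, ?_,
    IsScalarTower.toAlgHom A A₂ (Localization.Away c), ?_⟩
  · refine EtFactor.bijective_trans (A'' := A₂) I h2 ?_
    exact NearClosed.quotientMap_away_bijective J c hc1 (Localization.Away c)
  · ext s
    simp only [AlgHom.coe_comp, IsScalarTower.coe_toAlgHom', Function.comp_apply]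
    have hu : IsUnit (algebraMap A₂ (Localization.Away c) c) :=
      IsLocalization.Away.algebraMap_isUnit c
    have h7 := congrArg (algebraMap A₂ (Localization.Away c)) (hc0 s)
    rw [map_mul, map_zero, hu.mul_left_eq_zero, map_sub, sub_eq_zero] at h7
    exact h7

end Groth.Agent.Helper3.EtDir
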