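import Groth.Agent.Helper3.EtCut

/-!
Lifting coprime monic factorizations to an étale neighbourhood of `V(I)` (S2042, S1957).
-/

namespace Groth.Agent.Helper3.EtFactor

open Polynomial
open scoped TensorProduct

universe u

open Polynomial.UniversalCoprimeFactorizationRing in
theorem homEquiv_factors {R S : Type*} [CommRing R] [CommRing S] [Algebra R S] (n m k : ℕ)
    (hn : n = m + k) (p : MonicDegreeEq R n)
    (f : UniversalCoprimeFactorizationRing m k hn p →ₐ[R] S) :
    ((homEquiv S m k hn p) f).1.1.1 = (factor₁ m k hn p).1.map f.toRingHom ∧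
    ((homEquiv S m k hn p) f).1.2.1 = (factor₂ m k hn p).1.map f.toRingHom := by
  constructor
  · simp [homEquiv, UniversalFactorizationRing.homEquiv, factor₁,
        MonicDegreeEq.map, Polynomial.map_map]
    rfl
  · simp [homEquiv, UniversalFactorizationRing.homEquiv, factor₂,
        MonicDegreeEq.map, Polynomial.map_map]
    rfl

/-- Lifting a coprime monic factorization modulo `I` to an étale `A`-algebra `A'` with
`A/I ≃ A'/IA'`. -/
theorem exists_etale_factor {A : Type u} [CommRing A] (I : Ideal A) (f : A[X])
    (hf : f.Monic) (g h : (A ⧸ I)[X]) (hg : g.Monic) (hh : h.Monic) (hcop : IsCoprime g h)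
    (hfgh : f.map (Ideal.Quotient.mk I) = g * h) :
    ∃ (A' : Type u) (_ : CommRing A') (_ : Algebra A A'), Algebra.Etale A A' ∧
      Function.Bijective (algebraMap (A ⧸ I) (A' ⧸ I.map (algebraMap A A'))) ∧
      ∃ g' h' : A'[X], g'.Monic ∧ h'.Monic ∧ IsCoprime g' h' ∧
        f.map (algebraMap A A') = g' * h' ∧
        g'.map (Ideal.Quotient.mk (I.map (algebraMap A A'))) =
          g.map (algebraMap (A ⧸ I) (A' ⧸ I.map (algebraMap A A'))) ∧
        h'.map (Ideal.Quotient.mk (I.map (algebraMap A A'))) =
          h.map (algebraMap (A ⧸ I) (A' ⧸ I.map (algebraMap A A'))) := by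
  rcases subsingleton_or_nontrivial (A ⧸ I) with hI | hI
  · -- degenerate case: take the zero ring
    have hsub : Subsingleton (Localization.Away (0 : A)) :=
      IsLocalization.subsingleton (M := Submonoid.powers (0 : A)) ⟨1, by simp⟩
    refine ⟨Localization.Away (0 : A), inferInstance, inferInstance, inferInstance,
      ⟨Function.injective_of_subsingleton _, fun y => ⟨0, Subsingleton.elim _ _⟩⟩,
      1, 1, monic_one, monic_one, isCoprime_one_left, Subsingleton.elim _ _,
      Subsingleton.elim _ _, Subsingleton.elim _ _⟩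
  · set n := f.natDegree with hn'
    set m := g.natDegree with hm'
    set k := h.natDegree with hk'
    have hn : n = m + k := by
      have := congrArg natDegree hfgh
      rw [hf.natDegree_map, hg.natDegree_mul hh] at this
      exact this
    let p : MonicDegreeEq A n := MonicDegreeEq.mk f hf rfl
    let g₀ : MonicDegreeEq (A ⧸ I) m := MonicDegreeEq.mk g hg rfl
    let h₀ : MonicDegreeEq (A ⧸ I) k := MonicDegreeEq.mk h hh rfl
    let C := UniversalCoprimeFactorizationRing m k hn p
    have hH : g₀.1 * h₀.1 = p.1.map (algebraMap A (A ⧸ I)) := hfgh.symm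
    let σ : C →ₐ[A] A ⧸ I :=
      (UniversalCoprimeFactorizationRing.homEquiv (A ⧸ I) m k hn p).symm
        ⟨(g₀, h₀), hH, hcop⟩
    have hσ := (UniversalCoprimeFactorizationRing.homEquiv (A ⧸ I) m k hn p).apply_symm_apply
      ⟨(g₀, h₀), hH, hcop⟩
    have hσ1 : (UniversalCoprimeFactorizationRing.factor₁ m k hn p).1.map σ.toRingHom = g := by
      rw [← (homEquiv_factors n m k hn p σ).1]
      exact congrArg (fun q => q.1.1.1) hσ
    have hσ2 : (UniversalCoprimeFactorizationRing.factor₂ m k hn p).1.map σ.toRingHom = h := by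
      rw [← (homEquiv_factors n m k hn p σ).2]
      exact congrArg (fun q => q.1.2.1) hσ
    obtain ⟨A', _, _, hA', ι, hbij, hcompat⟩ := EtCut.exists_etale_cut I σ
    have hcomp : (Ideal.Quotient.mk (I.map (algebraMap A A'))).comp ι.toRingHom =
        (algebraMap (A ⧸ I) (A' ⧸ I.map (algebraMap A A'))).comp σ.toRingHom := by
      ext s
      exact hcompat s
    refine ⟨A', inferInstance, inferInstance, hA', hbij,
      (UniversalCoprimeFactorizationRing.factor₁ m k hn p).1.map ι.toRingHom,
      (UniversalCoprimeFactorizationRing.factor₂ m k hn p).1.map ι.toRingHom,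
      (UniversalCoprimeFactorizationRing.factor₁ m k hn p).monic.map _,
      (UniversalCoprimeFactorizationRing.factor₂ m k hn p).monic.map _, ?_, ?_, ?_, ?_⟩
    · exact (UniversalCoprimeFactorizationRing.isCoprime_factor₁_factor₂ m k hn p).map
        (Polynomial.mapRingHom ι.toRingHom)
    · rw [← Polynomial.map_mul, UniversalCoprimeFactorizationRing.factor₁_mul_factor₂]
      change _ = (f.map (algebraMap A C)).map ι.toRingHom
      rw [Polynomial.map_map]
      congr 1
      ext a
      exact (ι.commutes a).symm
    · rw [Polynomial.map_map, hcomp, ← Polynomial.map_map, hσ1]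
    · rw [Polynomial.map_map, hcomp, ← Polynomial.map_map, hσ2]

end Groth.Agent.Helper3.EtFactor
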