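import Mathlib

set_option linter.style.haveILetI false
set_option linter.unusedSectionVars false
set_option linter.unusedVariables false
set_option linter.style.haveILetI false
set_option linter.unusedSectionVars false
set_option linter.unusedVariables false

namespace Groth.Agent.Helper3.EtFibMap

open AlgebraicGeometry CategoryTheory Limits

universe u

/-- the residue field extension of an étale morphism is étale -/
theorem etale_specMap_residueFieldMap {X Y : Scheme.{u}} (f : X ⟶ Y) [Etale f] (x : X) :
    Etale (Spec.map (f.residueFieldMap x)) := by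
  rw [HasRingHomProperty.Spec_iff (P := @Etale)]
  letI := (f.residueFieldMap x).hom.toAlgebra
  haveI : Algebra.IsSeparable (Y.residueField (f x)) (X.residueField x) := inferInstance
  haveI : Algebra.EssFiniteType (Y.residueField (f x)) (X.residueField x) := by
    rw [← RingHom.essFiniteType_algebraMap, RingHom.algebraMap_toAlgebra]
    exact RingHom.EssFiniteType.residueFieldMap (LocallyOfFiniteType.stalkMap f x)
  haveI : Algebra.FormallyEtale (Y.residueField (f x)) (X.residueField x) :=
    Algebra.FormallyEtale.of_isSeparable _ _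
  haveI : Module.Finite (Y.residueField (f x)) (X.residueField x) :=
    Algebra.FormallyUnramified.finite_of_free _ _
  haveI : Algebra.FinitePresentation (Y.residueField (f x)) (X.residueField x) :=
    Algebra.FinitePresentation.of_finiteType.mp inferInstance
  show (algebraMap (Y.residueField (f x)) (X.residueField x)).Etale
  rw [RingHom.etale_algebraMap]
  exact ⟨inferInstance, inferInstance⟩

theorem main {U U' V V' : Scheme.{u}} (h : U ⟶ V) (h' : U' ⟶ V') (a : U' ⟶ U)
    (b : V' ⟶ V) [Etale a] [Etale b] (comm : h' ≫ b = a ≫ h) (v' : V')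
    (φ : h'.fiber v' ⟶ h.fiber (b v')) (hφ1 : φ ≫ h.fiberι (b v') = h'.fiberι v' ≫ a)
    (hφ2 : φ ≫ h.fiberToSpecResidueField (b v') =
      h'.fiberToSpecResidueField v' ≫ Spec.map (b.residueFieldMap v')) :
    Etale φ := by
  let v := b v'
  let ιv := V.fromSpecResidueField v
  let ιv' := V'.fromSpecResidueField v'
  let ρ := Spec.map (b.residueFieldMap v')
  have hρ : ρ ≫ ιv = ιv' ≫ b := Scheme.Hom.SpecMap_residueFieldMap_fromSpecResidueField b v'
  haveI : Etale ρ := etale_specMap_residueFieldMap b v'
  let p1 := pullback.fst h b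
  let p2 := pullback.snd h b
  let c : U' ⟶ pullback h b := pullback.lift a h' comm.symm
  have hc1 : c ≫ p1 = a := pullback.lift_fst _ _ _
  have hc2 : c ≫ p2 = h' := pullback.lift_snd _ _ _
  haveI : Etale (c ≫ p1) := hc1 ▸ inferInstance
  haveI : Etale c := Etale.of_comp c p1
  let w1 := pullback.fst (h.fiberToSpecResidueField v) ρ
  let w2 := pullback.snd (h.fiberToSpecResidueField v) ρ
  let ψ : h'.fiber v' ⟶ pullback (h.fiberToSpecResidueField v) ρ :=
    pullback.lift φ (h'.fiberToSpecResidueField v') hφ2
  have hψ1 : ψ ≫ w1 = φ := pullback.lift_fst _ _ _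
  have hψ2 : ψ ≫ w2 = h'.fiberToSpecResidueField v' := pullback.lift_snd _ _ _
  have hF : IsPullback (h.fiberι v) (h.fiberToSpecResidueField v) h ιv :=
    IsPullback.of_hasPullback h ιv
  have hF' : IsPullback (h'.fiberι v') (h'.fiberToSpecResidueField v') h' ιv' :=
    IsPullback.of_hasPullback h' ιv'
  have hW : IsPullback w1 w2 (h.fiberToSpecResidueField v) ρ := IsPullback.of_hasPullback _ _
  have hP : IsPullback p1 p2 h b := IsPullback.of_hasPullback h b
  have hwcomm : (w1 ≫ h.fiberι v) ≫ h = (w2 ≫ ιv') ≫ b := by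
    rw [Category.assoc, hF.w, ← Category.assoc, hW.w, Category.assoc, hρ, Category.assoc]
  let w : pullback (h.fiberToSpecResidueField v) ρ ⟶ pullback h b :=
    pullback.lift (w1 ≫ h.fiberι v) (w2 ≫ ιv') hwcomm
  have hw1 : w ≫ p1 = w1 ≫ h.fiberι v := pullback.lift_fst _ _ _
  have hw2 : w ≫ p2 = w2 ≫ ιv' := pullback.lift_snd _ _ _
  -- Claim 1
  have hout : IsPullback (w ≫ p1) w2 h (ιv' ≫ b) := by
    rw [hw1, ← hρ]
    exact hW.paste_horiz hF
  have hcl1 : IsPullback w w2 p2 ιv' := IsPullback.of_right hout hw2 hP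
  -- Claim 2
  have hout2 : IsPullback (h'.fiberι v') (ψ ≫ w2) (c ≫ p2) ιv' := by
    rw [hψ2, hc2]
    exact hF'
  have hcomm2 : h'.fiberι v' ≫ c = ψ ≫ w := by
    apply pullback.hom_ext
    · rw [Category.assoc, Category.assoc, hc1, hw1, ← Category.assoc, hψ1, hφ1]
    · rw [Category.assoc, Category.assoc, hc2, hw2, ← Category.assoc, hψ2]
      exact hF'.w
  have hcl2 : IsPullback (h'.fiberι v') ψ c w := IsPullback.of_bot hout2 hcomm2 hcl1
  haveI : Etale ψ := MorphismProperty.of_isPullback hcl2 ‹Etale c›
  haveI : Etale w1 := inferInstance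
  rw [← hψ1]
  infer_instance

end Groth.Agent.Helper3.EtFibMap
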