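import Mathlib
import Groth.Agent.Helper3.UnramDecomp

namespace Groth.Agent.Helper3.UnramFinite

open TensorProduct

universe u

/-- dropping a trivial factor -/
def prodTrivAlgEquiv (R X T : Type*) [CommSemiring R] [Semiring X] [Semiring T]
    [Algebra R X] [Algebra R T] [Subsingleton T] : (X × T) ≃ₐ[R] X where
  toFun := Prod.fst
  invFun := fun x => (x, 0)
  left_inv := fun _ => Prod.ext rfl (Subsingleton.elim _ _)
  right_inv := fun _ => rfl
  map_mul' := fun _ _ => rfl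
  map_add' := fun _ _ => rfl
  commutes' := fun _ => rfl

theorem finite_decomp (R : Type u) [CommRing R] (S : Type u) [CommRing S] [Algebra R S]
    [Algebra.Unramified R S] [Module.Finite R S] (p : Ideal R) [p.IsPrime] :
    ∃ (R' : Type u) (_ : CommRing R') (_ : Algebra R R') (_ : Algebra.Etale R R') (p' : Ideal R')
      (_ : p'.IsPrime) (_ : p'.LiesOver p) (n : ℕ) (J : Fin n → Ideal R'),
      Nonempty ((R' ⊗[R] S) ≃ₐ[R'] (∀ i, R' ⧸ J i)) := by
  obtain ⟨R₁, _, _, _, p₁, _, _, n, I, B, _, _, -, ⟨e⟩, hB⟩ := UnramDecomp.concl_all _ R S p rfl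
  -- B is finite over R₁
  haveI : Module.Finite R₁ ((∀ i, R₁ ⧸ I i) × B) := Module.Finite.equiv e.toLinearEquiv
  haveI : Module.Finite R₁ B :=
    Module.Finite.of_surjective (LinearMap.snd R₁ (∀ i, R₁ ⧸ I i) B) LinearMap.snd_surjective
  -- find g
  obtain ⟨g, hgker, hgp⟩ : ∃ g, g ∈ RingHom.ker (algebraMap R₁ B) ∧ g ∉ p₁ := by
    by_contra hcon
    push Not at hcon
    obtain ⟨Q, -, hQ, hQ'⟩ := Ideal.exists_ideal_over_prime_of_isIntegral p₁ (⊥ : Ideal B)
      (by rw [← RingHom.ker_eq_comap_bot]; exact hcon)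
    exact hB Q hQ'
  let R₂ := Localization.Away g
  haveI : Algebra.Etale R₁ R₂ := Algebra.Etale.of_isLocalizationAway g
  haveI : Algebra.Etale R R₂ := Algebra.Etale.comp R R₁ R₂
  have hdisj : Disjoint (Submonoid.powers g : Set R₁) (p₁ : Set R₁) := by
    rw [Set.disjoint_left]
    rintro _ ⟨k, rfl⟩ hk
    exact hgp (Ideal.IsPrime.mem_of_pow_mem inferInstance k hk)
  let p₂ : Ideal R₂ := p₁.map (algebraMap R₁ R₂)
  haveI hp₂ : p₂.IsPrime := IsLocalization.isPrime_of_isPrime_disjoint (Submonoid.powers g) R₂ p₁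
    inferInstance hdisj
  haveI : p₂.LiesOver p₁ :=
    ⟨(IsLocalization.comap_map_of_isPrime_disjoint (Submonoid.powers g) R₂ inferInstance hdisj).symm⟩
  haveI : p₂.LiesOver p := Ideal.LiesOver.trans p₂ p₁ p
  -- R₂ ⊗ B is trivial
  haveI : Subsingleton (R₂ ⊗[R₁] B) := by
    rw [← subsingleton_iff_zero_eq_one (M₀ := R₂ ⊗[R₁] B)]
    have h1 : (algebraMap R₁ R₂ g) * IsLocalization.Away.invSelf g = 1 :=
      IsLocalization.Away.mul_invSelf g
    have h2 : ((IsLocalization.Away.invSelf g : R₂) ⊗ₜ[R₁] (g • (1 : B))) = 1 := by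
      rw [← smul_tmul, Algebra.smul_def, h1]; rfl
    rw [← h2, Algebra.smul_def, mul_one, RingHom.mem_ker.mp hgker, tmul_zero]
  classical
  let E : R₂ ⊗[R] S ≃ₐ[R₂] (∀ i, R₂ ⧸ (I i).map (algebraMap R₁ R₂)) :=
    (((((Algebra.TensorProduct.cancelBaseChange R R₁ R₂ R₂ S).symm.trans
      (Algebra.TensorProduct.congr (AlgEquiv.refl (R := R₂) (A₁ := R₂)) e)).trans
      (Algebra.TensorProduct.prodRight R₁ R₂ R₂ (∀ i, R₁ ⧸ I i) B)).trans
      (prodTrivAlgEquiv R₂ _ _)).trans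
      (Algebra.TensorProduct.piRight R₁ R₂ R₂ (fun i => R₁ ⧸ I i))).trans
      (AlgEquiv.piCongrRight fun i =>
        (Algebra.TensorProduct.quotIdealMapEquivTensorQuot R₂ (I i)).symm)
  exact ⟨R₂, inferInstance, inferInstance, inferInstance, p₂, inferInstance, inferInstance, n,
    fun i => (I i).map (algebraMap R₁ R₂), ⟨E⟩⟩

end Groth.Agent.Helper3.UnramFinite
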