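import Mathlib
import Groth.Agent.Helper3.UnramFinite

namespace Groth.Agent.Helper3.EtFinite

open TensorProduct

universe u

/-- `finite_decomp` keeping track of `J i ≤ p'`. -/
theorem finite_decomp' (R : Type u) [CommRing R] (S : Type u) [CommRing S] [Algebra R S]
    [Algebra.Unramified R S] [Module.Finite R S] (p : Ideal R) [p.IsPrime] :
    ∃ (R' : Type u) (_ : CommRing R') (_ : Algebra R R') (_ : Algebra.Etale R R') (p' : Ideal R')
      (_ : p'.IsPrime) (_ : p'.LiesOver p) (n : ℕ) (J : Fin n → Ideal R'),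
      (∀ i, J i ≤ p') ∧ Nonempty ((R' ⊗[R] S) ≃ₐ[R'] (∀ i, R' ⧸ J i)) := by
  obtain ⟨R₁, _, _, _, p₁, _, _, n, I, B, _, _, hI, ⟨e⟩, hB⟩ := UnramDecomp.concl_all _ R S p rfl
  -- B is finite over R₁
  haveI : Module.Finite R₁ ((∀ i, R₁ ⧸ I i) × B) := Module.Finite.equiv e.toLinearEquiv
  haveI : Module.Finite R₁ B :=
    Module.Finite.of_surjective (LinearMap.snd R₁ (∀ i, R₁ ⧸ I i) B) LinearMap.snd_surjective
  -- find g
  obtain ⟨g, hgker, hgp⟩ : ∃ g, g ∈ RingHom.ker (algebraMap R₁ B) ∧ g ∉ p₁ := by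
    by_contra hcon
    push Not at hcon
    obtain ⟨Q, -, hQ, hQ'⟩ := Ideal.exists_ideal_over_prime_of_isIntegral p₁ (⊥ : Ideal B)
      (by rw [← RingHom.ker_eq_comap_bot]; exact hcon)
    exact hB Q hQ'
  let R₂ := Localization.Away g
  haveI : Algebra.Etale R₁ R₂ := Algebra.Etale.of_isLocalizationAway g
  haveI : Algebra.Etale R R₂ := Algebra.Etale.comp R R₁ R₂
  have hdisj : Disjoint (Submonoid.powers g : Set R₁) (p₁ : Set R₁) := by
    rw [Set.disjoint_left]
    rintro _ ⟨k, rfl⟩ hk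
    exact hgp (Ideal.IsPrime.mem_of_pow_mem inferInstance k hk)
  let p₂ : Ideal R₂ := p₁.map (algebraMap R₁ R₂)
  haveI hp₂ : p₂.IsPrime := IsLocalization.isPrime_of_isPrime_disjoint (Submonoid.powers g) R₂ p₁
    inferInstance hdisj
  haveI : p₂.LiesOver p₁ :=
    ⟨(IsLocalization.comap_map_of_isPrime_disjoint (Submonoid.powers g) R₂ inferInstance hdisj).symm⟩
  haveI : p₂.LiesOver p := Ideal.LiesOver.trans p₂ p₁ p
  -- R₂ ⊗ B is trivial
  haveI : Subsingleton (R₂ ⊗[R₁] B) := by
    rw [← subsingleton_iff_zero_eq_one (M₀ := R₂ ⊗[R₁] B)]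
    have h1 : (algebraMap R₁ R₂ g) * IsLocalization.Away.invSelf g = 1 :=
      IsLocalization.Away.mul_invSelf g
    have h2 : ((IsLocalization.Away.invSelf g : R₂) ⊗ₜ[R₁] (g • (1 : B))) = 1 := by
      rw [← smul_tmul, Algebra.smul_def, h1]; rfl
    rw [← h2, Algebra.smul_def, mul_one, RingHom.mem_ker.mp hgker, tmul_zero]
  classical
  let E : R₂ ⊗[R] S ≃ₐ[R₂] (∀ i, R₂ ⧸ (I i).map (algebraMap R₁ R₂)) :=
    (((((Algebra.TensorProduct.cancelBaseChange R R₁ R₂ R₂ S).symm.trans
      (Algebra.TensorProduct.congr (AlgEquiv.refl (R := R₂) (A₁ := R₂)) e)).trans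
      (Algebra.TensorProduct.prodRight R₁ R₂ R₂ (∀ i, R₁ ⧸ I i) B)).trans
      (UnramFinite.prodTrivAlgEquiv R₂ _ _)).trans
      (Algebra.TensorProduct.piRight R₁ R₂ R₂ (fun i => R₁ ⧸ I i))).trans
      (AlgEquiv.piCongrRight fun i =>
        (Algebra.TensorProduct.quotIdealMapEquivTensorQuot R₂ (I i)).symm)
  exact ⟨R₂, inferInstance, inferInstance, inferInstance, p₂, inferInstance, inferInstance, n,
    fun i => (I i).map (algebraMap R₁ R₂), fun i => Ideal.map_mono (hI i), ⟨E⟩⟩

/-- a quotient `R ⧸ J` that is a formally étale, finitely presented module is cut out by an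
idempotent. -/
theorem exists_idem_of_etale_quot {R : Type u} [CommRing R] (J : Ideal R)
    [Algebra.FormallyEtale R (R ⧸ J)] [Module.FinitePresentation R (R ⧸ J)] :
    ∃ e : R, IsIdempotentElem e ∧ J = Ideal.span {e} := by
  have h1 : IsIdempotentElem (RingHom.ker (algebraMap R (R ⧸ J))) :=
    (Algebra.FormallyEtale.iff_of_surjective Ideal.Quotient.mk_surjective).mp inferInstance
  rw [Ideal.Quotient.algebraMap_eq, Ideal.mk_ker] at h1
  have h2 : J.FG := by
    have := Module.FinitePresentation.fg_ker (Submodule.mkQ J) (Submodule.mkQ_surjective J)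
    rwa [Submodule.ker_mkQ] at this
  exact (Ideal.isIdempotentElem_iff_of_fg J h2).mp h1

theorem finite_etale_decomp (R : Type u) [CommRing R] (S : Type u) [CommRing S] [Algebra R S]
    [Algebra.Etale R S] [Module.Finite R S] (p : Ideal R) [p.IsPrime] :
    ∃ (R' : Type u) (_ : CommRing R') (_ : Algebra R R') (_ : Algebra.Etale R R') (p' : Ideal R')
      (_ : p'.IsPrime) (_ : p'.LiesOver p) (n : ℕ),
      Nonempty ((R' ⊗[R] S) ≃ₐ[R'] (Fin n → R')) := by
  haveI : Algebra.Unramified R S :=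
    { formallyUnramified := inferInstance, finiteType := inferInstance }
  obtain ⟨R₁, _, _, _, p₁, _, _, n, J, hJ, ⟨E⟩⟩ := finite_decomp' R S p
  -- each factor is formally étale and finitely presented
  haveI : Module.FinitePresentation R S :=
    Module.FinitePresentation.of_finite_of_finitePresentation R S
  haveI : Algebra.FormallyEtale R₁ (∀ i, R₁ ⧸ J i) := Algebra.FormallyEtale.of_equiv E
  haveI : Module.FinitePresentation R₁ (∀ i, R₁ ⧸ J i) :=
    Module.FinitePresentation.of_equiv E.toLinearEquiv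
  have hfe : ∀ i, Algebra.FormallyEtale R₁ (R₁ ⧸ J i) :=
    (Algebra.FormallyEtale.pi_iff _).mp inferInstance
  have hfp : ∀ i, Module.FinitePresentation R₁ (R₁ ⧸ J i) := by
    intro i
    classical
    refine Module.finitePresentation_of_surjective (LinearMap.proj i : (∀ i, R₁ ⧸ J i) →ₗ[R₁] _)
      (LinearMap.proj_surjective i) ?_
    have : LinearMap.ker (LinearMap.proj i : (∀ i, R₁ ⧸ J i) →ₗ[R₁] _) =
        LinearMap.range (LinearMap.id - (LinearMap.single R₁ (fun i => R₁ ⧸ J i) i).comp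
          (LinearMap.proj i)) := by
      ext x
      simp only [LinearMap.mem_ker, LinearMap.mem_range]
      constructor
      · intro hx
        refine ⟨x, ?_⟩
        simp only [LinearMap.sub_apply, LinearMap.id_apply, LinearMap.comp_apply, hx, map_zero,
          sub_zero]
      · rintro ⟨y, rfl⟩
        simp
    rw [this]
    exact Submodule.fg_range _
  choose e he hJe using fun i => @exists_idem_of_etale_quot R₁ _ (J i) (hfe i) (hfp i)
  classical
  let f : R₁ := ∏ i, (1 - e i)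
  have hfp' : f ∉ p₁ := by
    intro hf
    obtain ⟨i, -, hi⟩ := (Ideal.IsPrime.prod_mem_iff).mp hf
    have h1 : e i ∈ p₁ := hJ i (by rw [hJe i]; exact Ideal.mem_span_singleton_self _)
    have : (1 : R₁) ∈ p₁ := by simpa using Ideal.add_mem _ hi h1
    exact (Ideal.IsPrime.ne_top inferInstance) ((Ideal.eq_top_iff_one _).mpr this)
  let R₂ := Localization.Away f
  haveI : Algebra.Etale R₁ R₂ := Algebra.Etale.of_isLocalizationAway f
  haveI : Algebra.Etale R R₂ := Algebra.Etale.comp R R₁ R₂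
  have hdisj : Disjoint (Submonoid.powers f : Set R₁) (p₁ : Set R₁) := by
    rw [Set.disjoint_left]
    rintro _ ⟨k, rfl⟩ hk
    exact hfp' (Ideal.IsPrime.mem_of_pow_mem inferInstance k hk)
  let p₂ : Ideal R₂ := p₁.map (algebraMap R₁ R₂)
  haveI hp₂ : p₂.IsPrime := IsLocalization.isPrime_of_isPrime_disjoint (Submonoid.powers f) R₂ p₁
    inferInstance hdisj
  haveI : p₂.LiesOver p₁ :=
    ⟨(IsLocalization.comap_map_of_isPrime_disjoint (Submonoid.powers f) R₂ inferInstance hdisj).symm⟩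
  haveI : p₂.LiesOver p := Ideal.LiesOver.trans p₂ p₁ p
  have hJ0 : ∀ i, (J i).map (algebraMap R₁ R₂) = ⊥ := by
    intro i
    rw [hJe i, Ideal.map_span, Set.image_singleton, Ideal.span_singleton_eq_bot]
    have h1 : e i * f = 0 := by
      show e i * ∏ j, (1 - e j) = 0
      rw [← Finset.mul_prod_erase _ _ (Finset.mem_univ i), ← mul_assoc, mul_sub, mul_one,
        (he i).eq, sub_self, zero_mul]
    have h2 : algebraMap R₁ R₂ (e i) * algebraMap R₁ R₂ f = 0 := by
      rw [← map_mul, h1, map_zero]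
    exact (IsUnit.mul_left_eq_zero (IsLocalization.Away.algebraMap_isUnit f)).mp h2
  let E₂ : R₂ ⊗[R] S ≃ₐ[R₂] (Fin n → R₂) :=
    ((((Algebra.TensorProduct.cancelBaseChange R R₁ R₂ R₂ S).symm.trans
      (Algebra.TensorProduct.congr (AlgEquiv.refl (R := R₂) (A₁ := R₂)) E)).trans
      (Algebra.TensorProduct.piRight R₁ R₂ R₂ (fun i => R₁ ⧸ J i))).trans
      (AlgEquiv.piCongrRight fun i =>
        (Algebra.TensorProduct.quotIdealMapEquivTensorQuot R₂ (J i)).symm)).trans
      (AlgEquiv.piCongrRight fun i =>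
        (Ideal.quotientEquivAlgOfEq R₂ (hJ0 i)).trans (AlgEquiv.quotientBot R₂ R₂))
  exact ⟨R₂, inferInstance, inferInstance, inferInstance, p₂, inferInstance, inferInstance, n, ⟨E₂⟩⟩

end Groth.Agent.Helper3.EtFinite
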