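import Mathlib
import Groth.Agent.Helper3.EtFinite

open AlgebraicGeometry CategoryTheory CategoryTheory.Limits TopologicalSpace Opposite TensorProduct

namespace Groth.Agent.Helper3.EtFiniteSch

universe u

theorem main {X S : Scheme.{u}} (f : X ⟶ S) [IsFinite f] [Etale f] (s : S) :
    ∃ (U : Scheme.{u}) (g : U ⟶ S) (_ : AlgebraicGeometry.Etale g) (u : U) (_ : g.base u = s)
      (n : ℕ) (V : Fin n → Scheme.{u}) (c : ∀ j, V j ⟶ U) (_ : ∀ j, IsIso (c j))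
      (e : (∐ V) ≅ pullback f g), ∀ j, Sigma.ι V j ≫ e.hom ≫ pullback.snd f g = c j := by
  obtain ⟨_, ⟨W, hW, rfl⟩, hsW, -⟩ := S.isBasis_affineOpens.exists_subset_of_mem_open
    (Set.mem_univ s) isOpen_univ
  have hV : IsAffineOpen (f ⁻¹ᵁ W) := hW.preimage f
  haveI : IsOpenImmersion hW.fromSpec := hW.isOpenImmersion_fromSpec
  haveI : IsOpenImmersion hV.fromSpec := hV.isOpenImmersion_fromSpec
  let φ : Γ(S, W) ⟶ Γ(X, f ⁻¹ᵁ W) := f.app W
  have hφfin : φ.hom.Finite := IsFinite.finite_app f W hW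
  have hφet : φ.hom.Etale := by
    have := HasRingHomProperty.appLE (P := @Etale) f inferInstance ⟨W, hW⟩ ⟨f ⁻¹ᵁ W, hV⟩ le_rfl
    rwa [← Scheme.Hom.app_eq_appLE] at this
  algebraize [φ.hom]
  let p : PrimeSpectrum Γ(S, W) := hW.primeIdealOf ⟨s, hsW⟩
  obtain ⟨R', _, _, _, p', _, hp'p, n, ⟨E⟩⟩ :=
    EtFinite.finite_etale_decomp Γ(S, W) Γ(X, f ⁻¹ᵁ W) p.asIdeal
  let ψ : Γ(S, W) ⟶ CommRingCat.of R' := CommRingCat.ofHom (algebraMap Γ(S, W) R')
  have hψ : ψ.hom.Etale := RingHom.etale_algebraMap.mpr inferInstance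
  haveI : Etale (Spec.map ψ) := HasRingHomProperty.Spec_iff.mpr hψ
  let g : Spec (CommRingCat.of R') ⟶ S := Spec.map ψ ≫ hW.fromSpec
  haveI : Etale g := inferInstance
  let u : Spec (CommRingCat.of R') := ⟨p', inferInstance⟩
  have hu : g.base u = s := by
    have h1 : (Spec.map ψ) u = p := by
      apply PrimeSpectrum.ext
      exact (Ideal.over_def p' p.asIdeal).symm
    change hW.fromSpec ((Spec.map ψ) u) = s
    rw [h1]
    exact hW.fromSpec_primeIdealOf ⟨s, hsW⟩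
  -- the big pullback square
  let T := R' ⊗[Γ(S, W)] Γ(X, f ⁻¹ᵁ W)
  let inl : CommRingCat.of R' ⟶ CommRingCat.of T :=
    CommRingCat.ofHom Algebra.TensorProduct.includeLeftRingHom
  let inr : Γ(X, f ⁻¹ᵁ W) ⟶ CommRingCat.of T :=
    CommRingCat.ofHom (Algebra.TensorProduct.includeRight :
      Γ(X, f ⁻¹ᵁ W) →ₐ[Γ(S, W)] T).toRingHom
  have sq1 : IsPullback (Spec.map inl) (Spec.map inr) (Spec.map ψ) (Spec.map φ) :=
    isPullback_SpecMap_of_isPushout _ _ _ _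
      (CommRingCat.isPushout_tensorProduct Γ(S, W) R' Γ(X, f ⁻¹ᵁ W))
  have sq2 : IsPullback (Spec.map φ) hV.fromSpec hW.fromSpec f := by
    refine IsOpenImmersion.isPullback _ _ _ _ ?_ ?_
    · have h0 : φ = f.appLE W (f ⁻¹ᵁ W) le_rfl := Scheme.Hom.app_eq_appLE f
      rw [h0, IsAffineOpen.SpecMap_appLE_fromSpec f hW hV le_rfl]
    · rw [hW.opensRange_fromSpec, hV.opensRange_fromSpec]
  have big : IsPullback (Spec.map inr ≫ hV.fromSpec) (Spec.map inl) f g :=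
    sq1.flip.paste_horiz sq2.flip
  -- the coproduct
  let ι := ULift.{u} (Fin n)
  let Rk : ι → CommRingCat.{u} := fun _ => CommRingCat.of R'
  let E' : T ≃ₐ[R'] (∀ _ : ι, R') :=
    E.trans (AlgEquiv.piCongrLeft' R' (fun _ => R') Equiv.ulift.symm)
  let V : Fin n → Scheme.{u} := fun _ => Spec (CommRingCat.of R')
  let c : ∀ j, V j ⟶ Spec (CommRingCat.of R') := fun _ => 𝟙 _
  have hc : ∀ j, IsIso (c j) := fun j => inferInstanceAs (IsIso (𝟙 _))
  let e0 : (∐ V) ≅ ∐ (fun k => Spec (Rk k)) :=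
    Sigma.reindex (Equiv.ulift.symm : Fin n ≃ ι) (fun k => Spec (Rk k))
  let e1 : (∐ (fun k => Spec (Rk k))) ≅ Spec (CommRingCat.of (∀ k, Rk k)) := asIso (sigmaSpec Rk)
  let e2 : Spec (CommRingCat.of (∀ k, Rk k)) ≅ Spec (CommRingCat.of T) :=
    Scheme.Spec.mapIso (E'.toRingEquiv.toCommRingCatIso).op
  let e : (∐ V) ≅ pullback f g := e0 ≪≫ e1 ≪≫ e2 ≪≫ big.isoPullback
  refine ⟨Spec (CommRingCat.of R'), g, inferInstance, u, hu, n, V, c, hc, e, fun j => ?_⟩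
  have h1 : Sigma.ι V j ≫ e0.hom = Sigma.ι (fun k => Spec (Rk k)) (Equiv.ulift.symm j) :=
    Sigma.ι_reindex_hom (Equiv.ulift.symm : Fin n ≃ ι) (fun k => Spec (Rk k)) j
  have h2 : Sigma.ι (fun k => Spec (Rk k)) (Equiv.ulift.symm j) ≫ e1.hom =
      Spec.map (CommRingCat.ofHom (Pi.evalRingHom _ (Equiv.ulift.symm j))) := ι_sigmaSpec Rk _
  have h3 : e2.hom = Spec.map (CommRingCat.ofHom (E' : T →+* (∀ _ : ι, R'))) := rfl
  have h4 : big.isoPullback.hom ≫ pullback.snd f g = Spec.map inl := big.isoPullback_hom_snd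
  have h5 : e.hom = e0.hom ≫ e1.hom ≫ e2.hom ≫ big.isoPullback.hom := rfl
  rw [h5]
  have key : Sigma.ι V j ≫ (e0.hom ≫ e1.hom ≫ e2.hom ≫ big.isoPullback.hom) ≫ pullback.snd f g
      = ((Sigma.ι V j ≫ e0.hom) ≫ e1.hom) ≫ e2.hom ≫ (big.isoPullback.hom ≫ pullback.snd f g) := by
    simp only [Category.assoc]
  have step1 : (Sigma.ι V j ≫ e0.hom) ≫ e1.hom =
      Spec.map (CommRingCat.ofHom (Pi.evalRingHom _ (Equiv.ulift.symm j))) := by
    rw [h1]; exact h2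
  rw [key, step1, h3, h4, ← Spec.map_comp, ← Spec.map_comp]
  have hid : c j = Spec.map (𝟙 (CommRingCat.of R')) := (Spec.map_id _).symm
  rw [hid]
  congr 1
  ext r
  change (E' (r ⊗ₜ[Γ(S, W)] (1 : Γ(X, f ⁻¹ᵁ W)))) (Equiv.ulift.symm j) = r
  have : (r ⊗ₜ[Γ(S, W)] (1 : Γ(X, f ⁻¹ᵁ W)) : T) = algebraMap R' T r := rfl
  rw [this, E'.commutes]
  rfl

end Groth.Agent.Helper3.EtFiniteSch
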