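import Groth.Agent.Helper3.EtFactor
import Groth.Agent.Helper3.HensTFAE

/-!
S2041: lifting idempotents of `B/IB`, `B` integral over `A`, after an étale extension `A'` of `A`
with `A/I ≃ A'/IA'`.
-/

namespace Groth.Agent.Helper3.EtIdem

open Polynomial TensorProduct
open Groth.Agent.Helper3.HensTFAE

universe u

theorem main {A B : Type u} [CommRing A] [CommRing B] [Algebra A B]
    [Algebra.IsIntegral A B] (I : Ideal A) (e : B ⧸ I.map (algebraMap A B))
    (he : IsIdempotentElem e) :
    ∃ (A' : Type u) (_ : CommRing A') (_ : Algebra A A'), Algebra.Etale A A' ∧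
      Function.Bijective (algebraMap (A ⧸ I) (A' ⧸ I.map (algebraMap A A'))) ∧
      ∃ e' : A' ⊗[A] B, IsIdempotentElem e' ∧
        ∀ b : B, Ideal.Quotient.mk (I.map (algebraMap A B)) b = e →
          e' - 1 ⊗ₜ b ∈ I.map (algebraMap A (A' ⊗[A] B)) := by
  obtain ⟨b, rfl⟩ := Ideal.Quotient.mk_surjective e
  have hb : b * b - b ∈ I.map (algebraMap A B) := by
    rw [← Ideal.Quotient.eq, map_mul]
    exact he
  obtain ⟨m, F, hF, hFmap, hFb⟩ := exists_F I b hb
  set q := Ideal.Quotient.mk I with hq
  have hfact : F.map q = (X - 1) ^ (m + 1) * X ^ (m + 1) := by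
    rw [hFmap, ← mul_pow]; congr 1; ring
  have hmon1 : ((X - 1 : (A ⧸ I)[X]) ^ (m + 1)).Monic := by
    have := (monic_X_sub_C (1 : A ⧸ I)).pow (m + 1)
    simpa using this
  obtain ⟨A', _, _, hA', hbij, G, H, hG, hH, hcop, hFGH, hGm, hHm⟩ :=
    EtFactor.exists_etale_factor I F hF ((X - 1) ^ (m + 1)) (X ^ (m + 1))
      hmon1 (monic_X_pow _) (isCoprime_X_sub_one_pow _ _ _) hfact
  obtain ⟨u, v, huv⟩ := hcop
  set I' : Ideal A' := I.map (algebraMap A A') with hI'
  set T := A' ⊗[A] B with hT
  set J : Ideal T := I.map (algebraMap A T) with hJ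
  have hJ' : I'.map (algebraMap A' T) = J := by
    rw [hI', Ideal.map_map, ← IsScalarTower.algebraMap_eq]
  let iR : B →ₐ[A] T := Algebra.TensorProduct.includeRight
  have hiR : ∀ x ∈ I.map (algebraMap A B), iR x ∈ J := by
    intro x hx
    have hle : I.map (algebraMap A B) ≤ J.comap iR.toRingHom := by
      rw [Ideal.map_le_iff_le_comap]
      intro i hi
      rw [Ideal.mem_comap, Ideal.mem_comap]
      change iR (algebraMap A B i) ∈ J
      rw [iR.commutes]
      exact Ideal.mem_map_of_mem _ hi
    exact hle hx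
  set bT : T := 1 ⊗ₜ b with hbT
  have hbT' : bT = iR b := rfl
  have hbTJ : bT * bT - bT ∈ J := by
    rw [hbT', ← map_mul, ← map_sub]
    exact hiR _ hb
  have hFbT : aeval bT (F.map (algebraMap A A')) = 0 := by
    rw [aeval_def, eval₂_map, ← IsScalarTower.algebraMap_eq, hbT', ← aeval_def,
      aeval_algHom_apply, hFb, map_zero]
  refine ⟨A', inferInstance, inferInstance, hA', hbij, aeval bT (v * H), ?_, ?_⟩
  · change aeval bT (v * H) * aeval bT (v * H) = aeval bT (v * H)
    rw [← sub_eq_zero, ← map_mul, ← map_sub]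
    have : v * H * (v * H) - v * H = -(u * v) * F.map (algebraMap A A') := by
      rw [hFGH]; linear_combination (v * H) * huv
    rw [this, map_mul, hFbT, mul_zero]
  · intro b' hb'
    have h0 : aeval bT (v * H) - bT ∈ J := by
      refine idem_close J bT _ (aeval bT v) (aeval bT u) m hbTJ ?_ ?_
      · have : aeval bT (v * H) - aeval bT v * bT ^ (m + 1) =
            aeval bT v * aeval bT (H - X ^ (m + 1)) := by
          simp only [map_mul, map_sub, map_pow, aeval_X]; ring
        rw [this, ← hJ']
        refine Ideal.mul_mem_left _ _ (aeval_mem_map_of_map_eq_zero I' _ ?_ bT)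
        rw [Polynomial.map_sub, hHm, Polynomial.map_pow, Polynomial.map_pow, map_X, map_X,
          sub_self]
      · have : 1 - aeval bT (v * H) - aeval bT u * (bT - 1) ^ (m + 1) =
            aeval bT u * aeval bT (G - (X - 1) ^ (m + 1)) := by
          have h1 : (1 : T) - aeval bT (v * H) = aeval bT (u * G) := by
            rw [← map_one (aeval (R := A') bT), ← map_sub]; congr 1; linear_combination -huv
          rw [h1]
          simp only [map_mul, map_sub, map_pow, aeval_X, map_one]; ring
        rw [this, ← hJ']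
        refine Ideal.mul_mem_left _ _ (aeval_mem_map_of_map_eq_zero I' _ ?_ bT)
        rw [Polynomial.map_sub, hGm, Polynomial.map_pow, Polynomial.map_pow, Polynomial.map_sub,
          Polynomial.map_sub, map_X, map_X, Polynomial.map_one, Polynomial.map_one, sub_self]
    have h1 : b - b' ∈ I.map (algebraMap A B) := by
      rw [← Ideal.Quotient.eq]; exact hb'.symm
    have h2 : bT - 1 ⊗ₜ b' ∈ J := by
      have : bT - 1 ⊗ₜ b' = iR (b - b') := by
        rw [map_sub]; rfl
      rw [this]
      exact hiR _ h1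
    have : aeval bT (v * H) - 1 ⊗ₜ b' = (aeval bT (v * H) - bT) + (bT - 1 ⊗ₜ b') := by ring
    rw [this]
    exact J.add_mem h0 h2

end Groth.Agent.Helper3.EtIdem
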