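import Groth.Agent.Helper3.StdEtCover

/-!
Local rings of étale algebras are dominated by finite faithfully flat covers (S9434).
-/

namespace Groth.Agent.Helper3.EtLocalCover

open Polynomial TensorProduct

universe u

/-- S9434. -/
theorem main (R : Type u) [CommRing R] [IsLocalRing R] (T : Type u) [CommRing T] [Algebra R T]
    [Algebra.Etale R T] (q : Ideal T) [q.IsPrime] (S : Type u) [CommRing S] [IsLocalRing S]
    [Algebra T S] [IsLocalization.AtPrime S q] [Algebra R S] [IsScalarTower R T S]
    [IsLocalHom (algebraMap R S)] :
    ∃ (S' : Type u) (_ : CommRing S') (_ : Algebra R S'),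
      Module.Finite R S' ∧ Algebra.FinitePresentation R S' ∧ Module.FaithfullyFlat R S' ∧
        ∀ (m' : Ideal S') [m'.IsMaximal], Nonempty (S →ₐ[R] Localization.AtPrime m') := by
  classical
  -- `q` lies over the maximal ideal of `R`
  have hqR : q.under R = IsLocalRing.maximalIdeal R := by
    ext r
    rw [Ideal.under, Ideal.mem_comap, ← IsLocalization.AtPrime.to_map_mem_maximal_iff S q,
      ← IsScalarTower.algebraMap_apply, IsLocalRing.mem_maximalIdeal,
      IsLocalRing.mem_maximalIdeal, mem_nonunits_iff, mem_nonunits_iff,
      isUnit_map_iff (algebraMap R S)]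
  obtain ⟨f, hfq, hf⟩ := Algebra.IsEtaleAt.exists_isStandardEtale (R := R) q
  obtain ⟨S', _, _, hfin, hfp, hfl, hsurj, H⟩ :=
    Groth.Agent.Helper3.StdEtCover.main R (Localization.Away f)
  have hff : Module.FaithfullyFlat R S' := Module.FaithfullyFlat.of_comap_surjective hsurj
  refine ⟨S', inferInstance, inferInstance, hfin, hfp, hff, ?_⟩
  intro m' hm'
  have hdisj : Disjoint (Submonoid.powers f : Set T) (q : Set T) := by
    rw [Set.disjoint_left]
    rintro _ ⟨n, rfl⟩ hn
    exact hfq (Ideal.IsPrime.mem_of_pow_mem ‹_› n hn)
  have hq₁ : (q.map (algebraMap T (Localization.Away f))).IsPrime :=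
    IsLocalization.isPrime_of_isPrime_disjoint (Submonoid.powers f) _ _ ‹_› hdisj
  have hq₁u : (q.map (algebraMap T (Localization.Away f))).under T = q :=
    IsLocalization.under_map_of_isPrime_disjoint (Submonoid.powers f) _ ‹_› hdisj
  have hm'R : m'.under R = IsLocalRing.maximalIdeal R := by
    have : (m'.under R).IsMaximal :=
      Ideal.isMaximal_comap_of_isIntegral_of_isMaximal (R := R) m'
    exact IsLocalRing.eq_maximalIdeal this
  have hunder : m'.under R = (q.map (algebraMap T (Localization.Away f))).under R := by
    have h1 : (q.map (algebraMap T (Localization.Away f))).under R = q.under R := by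
      conv_rhs => rw [← hq₁u]
      rw [Ideal.under_under]
    rw [h1, hqR, hm'R]
  obtain ⟨g', hg', φ, hφ⟩ := H (q.map (algebraMap T (Localization.Away f))) m' hunder
  -- the map `S'_{g'} → S'_{m'}`
  have hgu : IsUnit (Algebra.ofId S' (Localization.AtPrime m') g') :=
    IsLocalization.map_units (M := m'.primeCompl) (Localization.AtPrime m') ⟨g', hg'⟩
  let j : Localization.Away g' →ₐ[S'] Localization.AtPrime m' :=
    IsLocalization.Away.liftAlgHom g' (f := Algebra.ofId S' (Localization.AtPrime m')) hgu
  have hjcomap : (IsLocalRing.maximalIdeal (Localization.AtPrime m')).comap j.toRingHom =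
      m'.map (algebraMap S' (Localization.Away g')) := by
    have hprime : ((IsLocalRing.maximalIdeal (Localization.AtPrime m')).comap j.toRingHom).IsPrime :=
      Ideal.comap_isPrime _ _
    rw [← IsLocalization.map_under (Submonoid.powers g') (Localization.Away g')
      ((IsLocalRing.maximalIdeal (Localization.AtPrime m')).comap j.toRingHom)]
    congr 1
    rw [Ideal.under, Ideal.comap_comap]
    have : j.toRingHom.comp (algebraMap S' (Localization.Away g')) =
        algebraMap S' (Localization.AtPrime m') := by
      ext x
      exact j.commutes x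
    rw [this]
    exact IsLocalization.AtPrime.under_maximalIdeal (Localization.AtPrime m') m'
  let ψ : T →ₐ[R] Localization.AtPrime m' :=
    ((j.restrictScalars R).comp φ).comp (IsScalarTower.toAlgHom R T (Localization.Away f))
  have hψ : (IsLocalRing.maximalIdeal (Localization.AtPrime m')).comap ψ.toRingHom = q := by
    have : ψ.toRingHom = (j.toRingHom.comp φ.toRingHom).comp
        (algebraMap T (Localization.Away f)) := rfl
    rw [this, ← Ideal.comap_comap, ← Ideal.comap_comap, hjcomap]
    change ((m'.map (algebraMap S' (Localization.Away g'))).comap φ).comap _ = q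
    rw [hφ]
    exact hq₁u
  have hunit : ∀ y : q.primeCompl, IsUnit (ψ y) := by
    intro y
    by_contra hy
    have : (y : T) ∈ (IsLocalRing.maximalIdeal (Localization.AtPrime m')).comap ψ.toRingHom := hy
    rw [hψ] at this
    exact y.2 this
  exact ⟨IsLocalization.liftAlgHom (M := q.primeCompl) (S := S) (f := ψ) hunit⟩

end Groth.Agent.Helper3.EtLocalCover
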