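import Mathlib

/-!
Étale local rings with trivial residue extension: `R/t^n → S/t^n S` is bijective for a suitable
`t` in the maximal ideal (S9433).
-/

namespace Groth.Agent.Helper3.EtLocalQuot

open Polynomial TensorProduct

universe u

/-- If `R → S/J` is surjective with `J = tS`, then `R → S/t^n S` is surjective. -/
theorem surj_pow {R S : Type*} [CommRing R] [CommRing S] [Algebra R S] (t : R)
    (h : ∀ s : S, ∃ r : R, s - algebraMap R S r ∈ Ideal.span {algebraMap R S t}) (n : ℕ) :
    ∀ s : S, ∃ r : R, s - algebraMap R S r ∈ Ideal.span {algebraMap R S (t ^ n)} := by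
  induction n with
  | zero =>
    intro s
    refine ⟨0, ?_⟩
    rw [pow_zero, map_one, Ideal.span_singleton_one]
    trivial
  | succ n ih =>
    intro s
    obtain ⟨r, hr⟩ := ih s
    obtain ⟨s', hs'⟩ := Ideal.mem_span_singleton'.1 hr
    obtain ⟨r', hr'⟩ := h s'
    obtain ⟨s'', hs''⟩ := Ideal.mem_span_singleton'.1 hr'
    refine ⟨r + t ^ n * r', Ideal.mem_span_singleton'.2 ⟨s'', ?_⟩⟩
    have e1 : s = s' * algebraMap R S (t ^ n) + algebraMap R S r := by rw [hs']; ring
    have e2 : s' = s'' * algebraMap R S t + algebraMap R S r' := by rw [hs'']; ring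
    rw [e1, e2]
    simp only [map_add, map_mul, map_pow]
    ring

/-- S9433. -/
theorem main (R : Type u) [CommRing R] [IsLocalRing R] (T : Type u) [CommRing T] [Algebra R T]
    [Algebra.Etale R T] (q : Ideal T) [q.IsPrime] (S : Type u) [CommRing S] [IsLocalRing S]
    [Algebra T S] [IsLocalization.AtPrime S q] [Algebra R S] [IsScalarTower R T S]
    [IsLocalHom (algebraMap R S)]
    (hres : Function.Bijective (IsLocalRing.ResidueField.map (algebraMap R S))) :
    ∃ t ∈ IsLocalRing.maximalIdeal R, ∀ n : ℕ, 1 ≤ n →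
      Function.Bijective (Ideal.quotientMap ((Ideal.span {t ^ n}).map (algebraMap R S))
        (algebraMap R S) Ideal.le_comap_map) := by
  classical
  -- faithful flatness
  have : Module.Flat T S := IsLocalization.flat S q.primeCompl
  have : Module.Flat R S := Module.Flat.trans R T S
  have hff : Module.FaithfullyFlat R S := Module.FaithfullyFlat.of_flat_of_isLocalHom
  -- standard étale chart
  obtain ⟨f, hfq, hf⟩ := Algebra.IsEtaleAt.exists_isStandardEtale (R := R) q
  obtain ⟨P⟩ := Algebra.IsStandardEtale.nonempty_standardEtalePresentation (R := R)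
    (S := Localization.Away f)
  have hfu : IsUnit (IsScalarTower.toAlgHom R T S f) :=
    IsLocalization.map_units (M := q.primeCompl) S ⟨f, hfq⟩
  let ι : Localization.Away f →ₐ[R] S :=
    IsLocalization.Away.liftAlgHom f (f := IsScalarTower.toAlgHom R T S) hfu
  have hι : ∀ t' : T, ι (algebraMap T (Localization.Away f) t') = algebraMap T S t' := by
    intro t'
    exact IsLocalization.Away.lift_eq f hfu t'
  set x : S := ι P.x with hx
  have hmapx : P.HasMap x := P.hasMap.map ι
  -- choose `a`
  obtain ⟨a, ha⟩ : ∃ a : R, x - algebraMap R S a ∈ IsLocalRing.maximalIdeal S := by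
    obtain ⟨abar, habar⟩ := hres.2 (IsLocalRing.residue S x)
    obtain ⟨a, rfl⟩ := IsLocalRing.residue_surjective abar
    refine ⟨a, ?_⟩
    rw [IsLocalRing.ResidueField.map_residue] at habar
    rw [← Ideal.Quotient.eq]
    exact habar.symm
  -- `F'(a)` is a unit in `S`
  have hder : IsUnit (aeval x (derivative P.f)) := hmapx.isUnit_derivative_f
  have hder' : IsUnit (algebraMap R S (eval a (derivative P.f))) := by
    have hdvd : x - algebraMap R S a ∣ aeval x (derivative P.f) -
        aeval (algebraMap R S a) (derivative P.f) := by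
      rw [aeval_def, aeval_def, ← eval_map, ← eval_map]
      exact sub_dvd_eval_sub _ _ _
    rw [aeval_algebraMap_apply, coe_aeval_eq_eval] at hdvd
    obtain ⟨c, hc⟩ := hdvd
    have hmem : aeval x (derivative P.f) - algebraMap R S (eval a (derivative P.f)) ∈
        IsLocalRing.maximalIdeal S := by
      rw [hc]; exact Ideal.mul_mem_right _ _ ha
    by_contra hnu
    have h1 : algebraMap R S (eval a (derivative P.f)) ∈ IsLocalRing.maximalIdeal S := hnu
    have h2 := Ideal.add_mem _ hmem h1
    rw [sub_add_cancel] at h2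
    exact h2 hder
  -- Taylor expansion
  set t : R := eval a P.f with ht
  obtain ⟨k, hk⟩ := binomExpansion (P.f.map (algebraMap R S)) (algebraMap R S a)
    (x - algebraMap R S a)
  have hxa : algebraMap R S a + (x - algebraMap R S a) = x := by ring
  rw [hxa, eval_map, ← aeval_def, hmapx.1, eval_map, eval₂_at_apply, derivative_map, eval_map,
    eval₂_at_apply] at hk
  -- `0 = t + F'(a) (x - a) + k (x-a)^2`
  have hunit : IsUnit (algebraMap R S (eval a (derivative P.f)) + k * (x - algebraMap R S a)) := by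
    by_contra hnu
    have h1 : algebraMap R S (eval a (derivative P.f)) + k * (x - algebraMap R S a) ∈
        IsLocalRing.maximalIdeal S := hnu
    have h2 : k * (x - algebraMap R S a) ∈ IsLocalRing.maximalIdeal S :=
      Ideal.mul_mem_left _ _ ha
    have h3 := Ideal.sub_mem _ h1 h2
    rw [add_sub_cancel_right] at h3
    exact h3 hder'
  obtain ⟨u, hu⟩ := hunit
  have hxat : x - algebraMap R S a = - algebraMap R S t * ↑u⁻¹ := by
    have h0 : algebraMap R S t + (x - algebraMap R S a) * ↑u = 0 := by
      rw [hu]; rw [ht]; linear_combination -hk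
    have h1 : (x - algebraMap R S a) * ↑u = - algebraMap R S t := by
      linear_combination h0
    rw [← h1, mul_assoc, Units.mul_inv, mul_one]
  have hxaJ : x - algebraMap R S a ∈ Ideal.span {algebraMap R S t} := by
    rw [hxat]
    exact Ideal.mul_mem_right _ _ (neg_mem (Ideal.subset_span rfl))
  have htS : algebraMap R S t ∈ IsLocalRing.maximalIdeal S := by
    have h1 : algebraMap R S t = -((x - algebraMap R S a) * ↑u) := by
      rw [hxat]; rw [mul_assoc, Units.inv_mul, mul_one, neg_neg]
    rw [h1]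
    exact neg_mem (Ideal.mul_mem_right _ _ ha)
  have htm : t ∈ IsLocalRing.maximalIdeal R := by
    by_contra hnu
    have : IsUnit t := by
      by_contra h; exact hnu h
    exact htS (this.map (algebraMap R S))
  set J : Ideal S := Ideal.span {algebraMap R S t} with hJ
  have hJm : J ≤ IsLocalRing.maximalIdeal S := by
    rw [hJ, Ideal.span_le, Set.singleton_subset_iff]; exact htS
  -- the subalgebra `R + J`
  let A : Subalgebra R S := (⊥ : Subalgebra R (S ⧸ J)).comap (Ideal.Quotient.mkₐ R J)
  have hA : ∀ s : S, s ∈ A ↔ ∃ r : R, s - algebraMap R S r ∈ J := by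
    intro s
    change Ideal.Quotient.mkₐ R J s ∈ (⊥ : Subalgebra R (S ⧸ J)) ↔ _
    rw [Algebra.mem_bot]
    constructor
    · rintro ⟨r, hr⟩
      refine ⟨r, ?_⟩
      rw [← Ideal.Quotient.eq]
      exact hr.symm
    · rintro ⟨r, hr⟩
      refine ⟨r, ?_⟩
      rw [← Ideal.Quotient.eq] at hr
      exact hr.symm
  have hxA : x ∈ A := (hA x).2 ⟨a, hxaJ⟩
  have haevalA : ∀ p : R[X], aeval x p ∈ A := by
    intro p
    have : Algebra.adjoin R {x} ≤ A := Algebra.adjoin_le (Set.singleton_subset_iff.2 hxA)
    exact this (aeval_mem_adjoin_singleton R x)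
  have hinvA : ∀ s ∈ A, IsUnit s → ∀ s' : S, s * s' = 1 → s' ∈ A := by
    intro s hs hsu s' hss'
    obtain ⟨r, hr⟩ := (hA s).1 hs
    have hru : IsUnit r := by
      have : IsUnit (algebraMap R S r) := by
        by_contra hnu
        have h1 : algebraMap R S r ∈ IsLocalRing.maximalIdeal S := hnu
        have h2 := Ideal.add_mem _ (hJm hr) h1
        rw [sub_add_cancel] at h2
        exact h2 hsu
      exact (isUnit_map_iff (algebraMap R S) r).1 this
    obtain ⟨v, rfl⟩ := hru
    refine (hA s').2 ⟨↑v⁻¹, ?_⟩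
    have : s' - algebraMap R S ↑v⁻¹ = - (s' * algebraMap R S ↑v⁻¹) * (s - algebraMap R S ↑v) := by
      have h1 : algebraMap R S ↑v⁻¹ * algebraMap R S ↑v = 1 := by
        rw [← map_mul, Units.inv_mul, map_one]
      linear_combination (algebraMap R S ↑v⁻¹) * hss' - (s') * h1
    rw [this]
    exact Ideal.mul_mem_left _ _ hr
  have hTA : ∀ t' : T, algebraMap T S t' ∈ A := by
    intro t'
    obtain ⟨p, n, hpn⟩ := P.exists_mul_aeval_x_g_pow_eq_aeval_x (algebraMap T _ t')
    have h1 := congrArg ι hpn
    rw [map_mul, map_pow, hι, ← aeval_algHom_apply, ← aeval_algHom_apply] at h1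
    obtain ⟨w, hw⟩ := hmapx.2
    have hwA : (↑w⁻¹ : S) ∈ A :=
      hinvA (↑w) (by rw [hw]; exact haevalA P.g) w.isUnit _ (Units.mul_inv w)
    have h2 : algebraMap T S t' = aeval x p * (↑w⁻¹ : S) ^ n := by
      rw [← h1, ← hw, mul_assoc, ← mul_pow, Units.mul_inv, one_pow, mul_one]
    rw [h2]
    exact A.mul_mem (haevalA p) (A.pow_mem hwA n)
  have hallA : ∀ s : S, s ∈ A := by
    intro s
    obtain ⟨t₁, t₂, rfl⟩ := IsLocalization.exists_mk'_eq q.primeCompl s
    have hu2 : IsUnit (algebraMap T S t₂) := IsLocalization.map_units S t₂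
    have hspec := IsLocalization.mk'_spec S t₁ t₂
    have hmk : IsLocalization.mk' S t₁ t₂ ∈ A := by
      obtain ⟨w, hw⟩ := hu2
      have hwA : (↑w⁻¹ : S) ∈ A :=
        hinvA (↑w) (by rw [hw]; exact hTA t₂) w.isUnit _ (Units.mul_inv w)
      have : IsLocalization.mk' S t₁ t₂ = algebraMap T S t₁ * ↑w⁻¹ := by
        rw [← hspec, ← hw, mul_assoc, Units.mul_inv, mul_one]
      rw [this]
      exact A.mul_mem (hTA t₁) hwA
    exact hmk
  have hsurj1 : ∀ s : S, ∃ r : R, s - algebraMap R S r ∈ Ideal.span {algebraMap R S t} :=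
    fun s => (hA s).1 (hallA s)
  refine ⟨t, htm, fun n _ => ⟨?_, ?_⟩⟩
  · rw [injective_iff_map_eq_zero]
    intro y hy
    obtain ⟨y, rfl⟩ := Ideal.Quotient.mk_surjective y
    rw [Ideal.quotientMap_mk, Ideal.Quotient.eq_zero_iff_mem] at hy
    rw [Ideal.Quotient.eq_zero_iff_mem]
    have := Ideal.comap_map_eq_self_of_faithfullyFlat (B := S) (Ideal.span {t ^ n})
    rw [← this]
    exact hy
  · intro y
    obtain ⟨s, rfl⟩ := Ideal.Quotient.mk_surjective y
    obtain ⟨r, hr⟩ := surj_pow t hsurj1 n s
    refine ⟨Ideal.Quotient.mk _ r, ?_⟩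
    rw [Ideal.quotientMap_mk, Ideal.Quotient.eq, Ideal.map_span, Set.image_singleton]
    rw [← Ideal.neg_mem_iff, neg_sub]
    exact hr

end Groth.Agent.Helper3.EtLocalQuot
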