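import Mathlib
import Groth.Agent.Helper3.EtLocalSch

open AlgebraicGeometry CategoryTheory CategoryTheory.Limits TopologicalSpace Opposite TensorProduct

namespace Groth.Agent.Helper3.EtLocalShrink

universe u

/-- restriction of the neighbourhood `U` to an open `U₀` -/
theorem restrict {X S U : Scheme.{u}} (f : X ⟶ S) (g : U ⟶ S) (U₀ : U.Opens) :
    ∃ κ : pullback f (U₀.ι ≫ g) ⟶ pullback f g, IsOpenImmersion κ ∧
      κ ≫ pullback.fst f g = pullback.fst f (U₀.ι ≫ g) ∧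
      κ ≫ pullback.snd f g = pullback.snd f (U₀.ι ≫ g) ≫ U₀.ι ∧
      Set.range κ = (pullback.snd f g) ⁻¹' U₀ ∧
      ∀ V : (pullback f g).Opens,
        IsPullback (κ ∣_ V) ((κ ⁻¹ᵁ V).ι ≫ pullback.snd f (U₀.ι ≫ g))
          (V.ι ≫ pullback.snd f g) U₀.ι := by
  let κ : pullback f (U₀.ι ≫ g) ⟶ pullback f g :=
    pullback.map f (U₀.ι ≫ g) f g (𝟙 X) U₀.ι (𝟙 S) (by simp) (by simp)
  have h1 : κ ≫ pullback.fst f g = pullback.fst f (U₀.ι ≫ g) := by
    have := pullback.lift_fst (f := f) (g := g) (pullback.fst f (U₀.ι ≫ g) ≫ 𝟙 X)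
      (pullback.snd f (U₀.ι ≫ g) ≫ U₀.ι) (by simp [pullback.condition])
    simpa [κ, pullback.map] using this
  have h2 : κ ≫ pullback.snd f g = pullback.snd f (U₀.ι ≫ g) ≫ U₀.ι := by
    have := pullback.lift_snd (f := f) (g := g) (pullback.fst f (U₀.ι ≫ g) ≫ 𝟙 X)
      (pullback.snd f (U₀.ι ≫ g) ≫ U₀.ι) (by simp [pullback.condition])
    simpa [κ, pullback.map] using this
  have hb : IsPullback κ (pullback.snd f (U₀.ι ≫ g)) (pullback.snd f g) U₀.ι := by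
    refine IsPullback.of_right ?_ h2 (IsPullback.of_hasPullback f g)
    rw [h1]
    exact IsPullback.of_hasPullback f (U₀.ι ≫ g)
  refine ⟨κ, inferInstance, h1, h2, ?_, fun V => ?_⟩
  · rw [Scheme.Pullback.range_map]
    simp
  · exact (isPullback_morphismRestrict κ V).paste_vert hb

theorem shrink {X S : Scheme.{u}} (f : X ⟶ S) [IsSeparated f] (s : S) {ι : Type} (x : ι → ↑X)
    (P : MorphismProperty Scheme.{u}) [P.IsStableUnderBaseChange] (hP : P ≤ @IsClosedImmersion)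
    (h : ∃ (U : Scheme.{u}) (g : U ⟶ S) (u : U), Etale g ∧ g u = s ∧
      ∃ (K : Type) (_ : Finite K) (lab : K → ι) (V : K → (pullback f g).Opens),
        (∀ k, P ((V k).ι ≫ pullback.snd f g) ∧
          ∃ w : ↑(pullback f g), w ∈ V k ∧ pullback.snd f g w = u) ∧
        (∀ (k k' : K) (w : ↑(pullback f g)), w ∈ V k → w ∈ V k' →
          pullback.snd f g w = u → k = k') ∧
        (∀ (w : ↑(pullback f g)) (i : ι), pullback.snd f g w = u → pullback.fst f g w = x i →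
          ∃ k, lab k = i ∧ w ∈ V k)) :
    ∃ (U : Scheme.{u}) (g : U ⟶ S) (u : U), Etale g ∧ g u = s ∧
      ∃ (K : Type) (_ : Finite K) (W : (pullback f g).Opens) (V : K → (pullback f g).Opens),
        W ⊔ (⨆ k, V k) = ⊤ ∧ (∀ k, Disjoint W (V k)) ∧
        (∀ k k', k ≠ k' → Disjoint (V k) (V k')) ∧
        (∀ k, P ((V k).ι ≫ pullback.snd f g) ∧
          ∃ w : ↑(pullback f g), w ∈ V k ∧ pullback.snd f g w = u) ∧
        (∀ (w : ↑(pullback f g)) (i : ι), w ∈ W → pullback.snd f g w = u →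
          pullback.fst f g w ≠ x i) := by
  obtain ⟨U, g, u, hg, hu, K, hK, lab, V, h1, h2, h3⟩ := h
  -- each `V k` is closed
  have hcl : ∀ k, IsClosedImmersion ((V k).ι ≫ pullback.snd f g) := fun k => hP _ (h1 k).1
  have hVcl : ∀ k, IsClosed ((V k : (pullback f g).Opens) : Set ↑(pullback f g)) := by
    intro k
    haveI := hcl k
    haveI : IsClosedImmersion (V k).ι := IsClosedImmersion.of_comp (V k).ι (pullback.snd f g)
    have := (V k).ι.isClosedEmbedding.isClosed_range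
    rwa [Scheme.Opens.range_ι] at this
  -- the bad locus
  let Z : Set ↑U := ⋃ (kk : {kk : K × K // kk.1 ≠ kk.2}),
    pullback.snd f g '' ((V kk.1.1 : Set ↑(pullback f g)) ∩ (V kk.1.2 : Set ↑(pullback f g)))
  have hZcl : IsClosed Z := by
    refine isClosed_iUnion_of_finite fun kk => ?_
    have hmap : IsClosedMap ((V kk.1.1).ι ≫ pullback.snd f g) := by
      haveI := hcl kk.1.1
      exact ((V kk.1.1).ι ≫ pullback.snd f g).isClosedEmbedding.isClosedMap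
    have himg : pullback.snd f g ''
        ((V kk.1.1 : Set ↑(pullback f g)) ∩ (V kk.1.2 : Set ↑(pullback f g))) =
        ((V kk.1.1).ι ≫ pullback.snd f g) ''
          ((V kk.1.1).ι ⁻¹' (V kk.1.2 : Set ↑(pullback f g))) := by
      ext z
      constructor
      · rintro ⟨w, ⟨hw1, hw2⟩, rfl⟩
        exact ⟨⟨w, hw1⟩, hw2, rfl⟩
      · rintro ⟨a, ha, rfl⟩
        exact ⟨(V kk.1.1).ι a, ⟨a.2, ha⟩, rfl⟩
    rw [himg]
    exact hmap _ ((hVcl kk.1.2).preimage (V kk.1.1).ι.continuous)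
  have huZ : u ∉ Z := by
    intro hu'
    obtain ⟨kk, w, ⟨hw1, hw2⟩, hwu⟩ := Set.mem_iUnion.mp hu'
    exact kk.2 (h2 _ _ w hw1 hw2 hwu)
  let U₀ : U.Opens := ⟨Zᶜ, hZcl.isOpen_compl⟩
  have huU₀ : u ∈ U₀ := huZ
  let u₀ : ↑U₀ := ⟨u, huU₀⟩
  obtain ⟨κ, hκo, hκ1, hκ2, hκr, hκpb⟩ := restrict f g U₀
  have hκ1' : ∀ w, pullback.fst f g (κ w) = pullback.fst f (U₀.ι ≫ g) w := fun w => by
    rw [← hκ1]; rfl
  have hκ2' : ∀ w, pullback.snd f g (κ w) = U₀.ι (pullback.snd f (U₀.ι ≫ g) w) := fun w => by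
    show (κ ≫ pullback.snd f g) w = _
    rw [hκ2]; rfl
  have hι : ∀ a b : ↑U₀, U₀.ι a = U₀.ι b → a = b := fun a b hab =>
    U₀.ι.isOpenEmbedding.injective hab
  let V₀ : K → (pullback f (U₀.ι ≫ g)).Opens := fun k => κ ⁻¹ᵁ V k
  have hV₀cl : IsClosed (⋃ k, (V₀ k : Set ↑(pullback f (U₀.ι ≫ g)))) :=
    isClosed_iUnion_of_finite fun k => (hVcl k).preimage κ.continuous
  let W₀ : (pullback f (U₀.ι ≫ g)).Opens := ⟨(⋃ k, (V₀ k : Set ↑(pullback f (U₀.ι ≫ g))))ᶜ, hV₀cl.isOpen_compl⟩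
  haveI : Etale g := hg
  refine ⟨U₀, U₀.ι ≫ g, u₀, inferInstance, ?_, K, hK, W₀, V₀, ?_, ?_, ?_, ?_, ?_⟩
  · show g (U₀.ι u₀) = s
    exact hu
  · apply SetLike.coe_injective
    rw [Opens.coe_sup, Opens.coe_iSup]
    show (⋃ k, (V₀ k : Set ↑(pullback f (U₀.ι ≫ g))))ᶜ ∪ (⋃ k, (V₀ k : Set ↑(pullback f (U₀.ι ≫ g)))) = Set.univ
    exact Set.compl_union_self _
  · intro k
    rw [disjoint_iff]
    apply SetLike.coe_injective
    rw [Opens.coe_inf]
    show (⋃ k, (V₀ k : Set ↑(pullback f (U₀.ι ≫ g))))ᶜ ∩ (V₀ k : Set ↑(pullback f (U₀.ι ≫ g))) = ∅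
    ext w
    simp only [Set.mem_inter_iff, Set.mem_compl_iff, Set.mem_iUnion, Set.mem_empty_iff_false,
      iff_false, not_and]
    intro hw hwk
    exact hw ⟨k, hwk⟩
  · intro k k' hkk'
    rw [disjoint_iff]
    apply SetLike.coe_injective
    rw [Opens.coe_inf]
    ext w
    simp only [Set.mem_inter_iff, Opens.coe_bot, Set.mem_empty_iff_false, iff_false, not_and]
    intro hw hw'
    have hz : pullback.snd f g (κ w) ∈ Z :=
      Set.mem_iUnion.mpr ⟨⟨(k, k'), hkk'⟩, κ w, ⟨hw, hw'⟩, rfl⟩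
    rw [hκ2'] at hz
    exact (pullback.snd f (U₀.ι ≫ g) w).2 hz
  · intro k
    refine ⟨P.of_isPullback (hκpb (V k)) (h1 k).1, ?_⟩
    obtain ⟨w, hwV, hwu⟩ := (h1 k).2
    have hwr : w ∈ Set.range κ := by
      rw [hκr]
      show pullback.snd f g w ∈ U₀
      rw [hwu]; exact huU₀
    obtain ⟨w₀, rfl⟩ := hwr
    refine ⟨w₀, hwV, hι _ _ ?_⟩
    rw [← hκ2', hwu]
    rfl
  · intro w i hwW hwu hwx
    have h4 : pullback.snd f g (κ w) = u := by
      rw [hκ2', hwu]; rfl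
    have h5 : pullback.fst f g (κ w) = x i := by
      rw [hκ1', hwx]
    obtain ⟨k, -, hk⟩ := h3 (κ w) i h4 h5
    exact hwW (Set.mem_iUnion.mpr ⟨k, hk⟩)

theorem main_unram_sep {X S : Scheme.{u}} (f : X ⟶ S) [IsSeparated f] (s : S)
    {ι : Type} [Finite ι] (x : ι → ↑X) (hinj : Function.Injective x) (hs : ∀ i, f (x i) = s)
    (hx : ∀ i, ∃ W : X.Opens, x i ∈ W ∧ LocallyOfFiniteType (W.ι ≫ f) ∧
      FormallyUnramified (W.ι ≫ f)) :
    ∃ (U : Scheme.{u}) (g : U ⟶ S) (u : U), Etale g ∧ g u = s ∧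
      ∃ (K : Type) (_ : Finite K) (W : (pullback f g).Opens) (V : K → (pullback f g).Opens),
        W ⊔ (⨆ k, V k) = ⊤ ∧ (∀ k, Disjoint W (V k)) ∧
        (∀ k k', k ≠ k' → Disjoint (V k) (V k')) ∧
        (∀ k, IsClosedImmersion ((V k).ι ≫ pullback.snd f g) ∧
          ∃ w : ↑(pullback f g), w ∈ V k ∧ pullback.snd f g w = u) ∧
        (∀ (w : ↑(pullback f g)) (i : ι), w ∈ W → pullback.snd f g w = u →
          pullback.fst f g w ≠ x i) :=
  shrink f s x @IsClosedImmersion le_rfl (EtLocalSch.main_unram f s x hinj hs hx)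

theorem main_etale_sep {X S : Scheme.{u}} (f : X ⟶ S) [IsSeparated f] (s : S)
    {ι : Type} [Finite ι] (x : ι → ↑X) (hinj : Function.Injective x) (hs : ∀ i, f (x i) = s)
    (hx : ∀ i, ∃ W : X.Opens, x i ∈ W ∧ Etale (W.ι ≫ f)) :
    ∃ (U : Scheme.{u}) (g : U ⟶ S) (u : U), Etale g ∧ g u = s ∧
      ∃ (K : Type) (_ : Finite K) (W : (pullback f g).Opens) (V : K → (pullback f g).Opens),
        W ⊔ (⨆ k, V k) = ⊤ ∧ (∀ k, Disjoint W (V k)) ∧
        (∀ k k', k ≠ k' → Disjoint (V k) (V k')) ∧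
        (∀ k, IsIso ((V k).ι ≫ pullback.snd f g)) ∧
        (∀ (w : ↑(pullback f g)) (i : ι), w ∈ W → pullback.snd f g w = u →
          pullback.fst f g w ≠ x i) := by
  have h0 : ∃ (U : Scheme.{u}) (g : U ⟶ S) (u : U), Etale g ∧ g u = s ∧
      ∃ (K : Type) (_ : Finite K) (lab : K → ι) (V : K → (pullback f g).Opens),
        (∀ k, MorphismProperty.isomorphisms Scheme.{u} ((V k).ι ≫ pullback.snd f g) ∧
          ∃ w : ↑(pullback f g), w ∈ V k ∧ pullback.snd f g w = u) ∧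
        (∀ (k k' : K) (w : ↑(pullback f g)), w ∈ V k → w ∈ V k' →
          pullback.snd f g w = u → k = k') ∧
        (∀ (w : ↑(pullback f g)) (i : ι), pullback.snd f g w = u → pullback.fst f g w = x i →
          ∃ k, lab k = i ∧ w ∈ V k) := by
    obtain ⟨n, ⟨e⟩⟩ := Finite.exists_equiv_fin ι
    obtain ⟨U, g, u, hg, hu, K, hK, lab, V, h1, h2, h3⟩ :=
      EtLocalSch.main_etale_fin f s (x ∘ e.symm) (hinj.comp e.symm.injective) (fun j => hs _)
        (fun j => hx _)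
    refine ⟨U, g, u, hg, hu, K, hK, e.symm ∘ lab, V,
      fun k => ⟨(MorphismProperty.isomorphisms.iff _).mpr ((h1 k).2.1 trivial), (h1 k).2.2⟩, h2,
      fun w i hwu hwx => ?_⟩
    obtain ⟨k, hk, hkV⟩ := h3 w (e i) hwu (by simpa using hwx)
    exact ⟨k, by simp [hk], hkV⟩
  have hle : MorphismProperty.isomorphisms Scheme.{u} ≤ @IsClosedImmersion := by
    intro A B φ hφ
    haveI : IsIso φ := (MorphismProperty.isomorphisms.iff _).mp hφ
    infer_instance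
  obtain ⟨U, g, u, hg, hu, K, hK, W, V, h1, h2, h3, h4, h5⟩ :=
    shrink f s x (MorphismProperty.isomorphisms Scheme.{u}) hle h0
  exact ⟨U, g, u, hg, hu, K, hK, W, V, h1, h2, h3,
    fun k => (MorphismProperty.isomorphisms.iff _).mp (h4 k).1, h5⟩

end Groth.Agent.Helper3.EtLocalShrink
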