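import Mathlib
import Groth.Agent.Helper3.ZMTNear
import Groth.Agent.Helper3.EtIdem
import Groth.Agent.Helper3.NearClosed

open TensorProduct

universe u

namespace Groth.Agent.Helper3.EtNbhdFinite

theorem away_surj {R : Type*} [CommRing R] (K : Ideal R) (j : R)
    (hj : j - 1 ∈ K) (T : Type*) [CommRing T] [Algebra R T] [IsLocalization.Away j T] (y : T) :
    ∃ x : R, y - algebraMap R T x ∈ K.map (algebraMap R T) := by
  obtain ⟨xb, hx⟩ := (NearClosed.quotientMap_away_bijective K j hj T).2 (Ideal.Quotient.mk _ y)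
  obtain ⟨x, rfl⟩ := Ideal.Quotient.mk_surjective xb
  rw [Ideal.quotientMap_mk, Ideal.Quotient.eq] at hx
  refine ⟨x, ?_⟩
  have : y - algebraMap R T x = -(algebraMap R T x - y) := by ring
  rw [this]
  exact (Ideal.neg_mem_iff _).mpr hx

theorem away_ker {R : Type*} [CommRing R] (K : Ideal R) (j : R)
    (hj : j - 1 ∈ K) (T : Type*) [CommRing T] [Algebra R T] [IsLocalization.Away j T] (x : R)
    (hx : algebraMap R T x ∈ K.map (algebraMap R T)) : x ∈ K := by
  have h1 : Ideal.quotientMap (K.map (algebraMap R T)) (algebraMap R T) Ideal.le_comap_map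
      (Ideal.Quotient.mk K x) = 0 := by
    rw [Ideal.quotientMap_mk, Ideal.Quotient.eq_zero_iff_mem]
    exact hx
  have h2 := (NearClosed.quotientMap_away_bijective K j hj T).1 (h1.trans (map_zero _).symm)
  exact Ideal.Quotient.eq_zero_iff_mem.mp h2

/-- If `D` is integral over `A'` and `K + I D = D` for an ideal `K` of `D` and an ideal `I` of `A'`,
then `K` contains (the image of) an element of `1 + I`. -/
theorem exists_near_one {A' D : Type*} [CommRing A'] [CommRing D] [Algebra A' D]
    [Algebra.IsIntegral A' D] (I : Ideal A') (K : Ideal D)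
    (h : (1 : D) ∈ K ⊔ I.map (algebraMap A' D)) :
    ∃ a : A', a - 1 ∈ I ∧ algebraMap A' D a ∈ K := by
  classical
  obtain ⟨k, hk, x, hx, hkx⟩ := Submodule.mem_sup.1 h
  have hx' : x ∈ I • (Submodule.span A' (Set.range (id : D → D))) := by
    rw [Set.range_id, Submodule.span_univ]
    have := Ideal.smul_top_eq_map (R := A') (S := D) I
    rw [this]
    exact hx
  rw [Submodule.mem_ideal_smul_span_iff_exists_sum] at hx'
  obtain ⟨c, hc, hcx⟩ := hx'
  let S : Subalgebra A' D := Algebra.adjoin A' (c.support : Set D)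
  have hSfg : (Subalgebra.toSubmodule S).FG :=
    fg_adjoin_of_finite c.support.finite_toSet (fun d _ => Algebra.IsIntegral.isIntegral d)
  let Km : Submodule A' D := K.restrictScalars A'
  let N' : Submodule A' (D ⧸ Km) := (Subalgebra.toSubmodule S).map Km.mkQ
  have hN'fg : N'.FG := hSfg.map _
  have hle : N' ≤ I • N' := by
    rintro _ ⟨n, hn, rfl⟩
    have hn' : n ∈ S := hn
    have h1 : n = k * n + c.sum (fun d r => r • (d * n)) := by
      have : c.sum (fun d r => r • (d * n)) = (c.sum fun d r => r • id d) * n := by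
        rw [Finsupp.sum, Finsupp.sum, Finset.sum_mul]
        apply Finset.sum_congr rfl
        intro d _
        rw [id, smul_mul_assoc]
      rw [this, hcx, ← add_mul, hkx, one_mul]
    rw [h1, map_add]
    have h2 : Km.mkQ (k * n) = 0 := by
      rw [Submodule.mkQ_apply, Submodule.Quotient.mk_eq_zero]
      exact K.mul_mem_right _ hk
    rw [h2, zero_add, Finsupp.sum, map_sum]
    apply Submodule.sum_mem
    intro d hd
    rw [map_smul]
    apply Submodule.smul_mem_smul (hc d)
    refine ⟨d * n, ?_, rfl⟩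
    exact S.mul_mem (Algebra.subset_adjoin hd) hn'
  obtain ⟨r, hr1, hr2⟩ :=
    Submodule.exists_sub_one_mem_and_smul_eq_zero_of_fg_of_le_smul I N' hN'fg hle
  refine ⟨r, hr1, ?_⟩
  have h3 := hr2 (Km.mkQ 1) ⟨1, S.one_mem, rfl⟩
  rw [← map_smul, Submodule.mkQ_apply, Submodule.Quotient.mk_eq_zero] at h3
  have h4 : r • (1 : D) ∈ K := h3
  rw [Algebra.smul_def, mul_one] at h4
  exact h4

set_option maxHeartbeats 3200000 in
theorem main (A : Type u) [CommRing A] (I : Ideal A) (B : Type u) [CommRing B] [Algebra A B]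
    [Algebra.FiniteType A B]
    (hfin : Module.Finite A (B ⧸ Ideal.map (algebraMap A B) I)) :
    ∃ (A' : Type u) (_ : CommRing A') (_ : Algebra A A') (_ : Algebra.Etale A A')
      (C : Type u) (_ : CommRing C) (_ : Algebra A C) (_ : Algebra A' C) (_ : Algebra B C)
      (_ : IsScalarTower A A' C) (_ : IsScalarTower A B C),
      Function.Surjective ((Ideal.Quotient.mk (Ideal.map (algebraMap A A') I)).comp (algebraMap A A')) ∧
      RingHom.ker ((Ideal.Quotient.mk (Ideal.map (algebraMap A A') I)).comp (algebraMap A A')) = I ∧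
      Algebra.Etale B C ∧ Module.Finite A' C ∧
      Function.Surjective ((Ideal.Quotient.mk (Ideal.map (algebraMap A C) I)).comp (algebraMap B C)) ∧
      RingHom.ker ((Ideal.Quotient.mk (Ideal.map (algebraMap A C) I)).comp (algebraMap B C)) =
        Ideal.map (algebraMap A B) I := by
  -- Step 1: Zariski's main theorem near `V(IB)`
  have hfin' : Module.Finite (A ⧸ I) ((B ⧸ Ideal.map (algebraMap A B) I) ⧸
      Ideal.span {1 - (1 : B ⧸ Ideal.map (algebraMap A B) I)}) := by
    haveI : Module.Finite A ((B ⧸ Ideal.map (algebraMap A B) I) ⧸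
        Ideal.span {1 - (1 : B ⧸ Ideal.map (algebraMap A B) I)}) :=
      Module.Finite.of_surjective (Ideal.Quotient.mkₐ A _).toLinearMap Ideal.Quotient.mk_surjective
    exact Module.Finite.of_restrictScalars_finite A (A ⧸ I) _
  obtain ⟨g, hgood, hgidem, hg1⟩ := ZMTNear.main A B I 1 (IsIdempotentElem.one) hfin'
  -- Step 2: lift the idempotent after an etale extension
  obtain ⟨A', _, _, hA'et, hbij, e', he', hcong⟩ :=
    EtIdem.main (A := A) (B := integralClosure A B) I _ hgidem
  have he'g := hcong g rfl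
  -- Step 3: find `a`
  have hK : (1 : A' ⊗[A] integralClosure A B) ∈
      Ideal.span {(1 : A') ⊗ₜ[A] g, 1 - e'} ⊔
        (I.map (algebraMap A A')).map (algebraMap A' (A' ⊗[A] integralClosure A B)) := by
    have h1 : (1 : A' ⊗[A] integralClosure A B) = ((1 - e') + (1 ⊗ₜ g)) + (e' - 1 ⊗ₜ g) := by ring
    rw [h1]
    refine Submodule.add_mem_sup (Ideal.add_mem _ (Ideal.subset_span (by simp))
      (Ideal.subset_span (by simp))) ?_
    rw [Ideal.map_map, ← IsScalarTower.algebraMap_eq]
    exact he'g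
  obtain ⟨a, ha1, haK⟩ := exists_near_one (I.map (algebraMap A A')) _ hK
  rw [Ideal.mem_span_pair] at haK
  obtain ⟨c₁, c₂, hc⟩ := haK
  -- Step 4: the rings `D' = A' ⊗ B` and `C = D'[1/δ]`
  let μ : (A' ⊗[A] integralClosure A B) →ₐ[A'] A' ⊗[A] B :=
    Algebra.TensorProduct.map (AlgHom.id A' A') (integralClosure A B).val
  have hμint : ∀ d, IsIntegral A' (μ d) := fun d => (Algebra.IsIntegral.isIntegral d).map μ
  have hμG : μ ((1 : A') ⊗ₜ[A] g) = (1 : A') ⊗ₜ[A] (g : B) := by
    simp [μ]
  have heB : IsIdempotentElem (μ e') := he'.map μ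
  letI algBD : Algebra B (A' ⊗[A] B) := Algebra.TensorProduct.rightAlgebra
  haveI towerABD : IsScalarTower A B (A' ⊗[A] B) := Algebra.TensorProduct.right_isScalarTower
  haveI hDet : Algebra.Etale B (A' ⊗[A] B) :=
    Algebra.Etale.of_equiv (Algebra.TensorProduct.commRight A B A')
  -- congruences modulo `I D'`
  have hI1 : (1 : A') ⊗ₜ[A] (g : B) - 1 ∈ I.map (algebraMap A (A' ⊗[A] B)) := by
    have h1 : (g : B) - 1 ∈ I.map (algebraMap A B) := by
      rw [← Ideal.Quotient.eq, hg1, map_one]
    have h2 : (1 : A') ⊗ₜ[A] (g : B) - 1 = algebraMap B (A' ⊗[A] B) ((g : B) - 1) := by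
      rw [Algebra.TensorProduct.right_algebraMap_apply, TensorProduct.tmul_sub]
      rfl
    rw [h2, IsScalarTower.algebraMap_eq A B (A' ⊗[A] B), ← Ideal.map_map]
    exact Ideal.mem_map_of_mem _ h1
  have hI2 : μ e' - (1 : A') ⊗ₜ[A] (g : B) ∈ I.map (algebraMap A (A' ⊗[A] B)) := by
    rw [← hμG, ← map_sub]
    have h1 : (I.map (algebraMap A (A' ⊗[A] integralClosure A B))).map μ.toRingHom ≤
        I.map (algebraMap A (A' ⊗[A] B)) := by
      rw [Ideal.map_map]
      apply le_of_eq
      congr 1
    exact h1 (Ideal.mem_map_of_mem _ he'g)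
  have hI3 : algebraMap A' (A' ⊗[A] B) a - 1 ∈ I.map (algebraMap A (A' ⊗[A] B)) := by
    rw [← map_one (algebraMap A' (A' ⊗[A] B)), ← map_sub,
      IsScalarTower.algebraMap_eq A A' (A' ⊗[A] B), ← Ideal.map_map]
    exact Ideal.mem_map_of_mem _ ha1
  let δ : A' ⊗[A] B := μ e' * ((1 : A') ⊗ₜ[A] (g : B)) * algebraMap A' (A' ⊗[A] B) a
  have hδ1 : δ - 1 ∈ I.map (algebraMap A (A' ⊗[A] B)) := by
    have hx : μ e' - 1 ∈ I.map (algebraMap A (A' ⊗[A] B)) := by
      have := Ideal.add_mem _ hI2 hI1
      have h2 : μ e' - 1 = (μ e' - (1 : A') ⊗ₜ[A] (g : B)) + ((1 : A') ⊗ₜ[A] (g : B) - 1) := by ring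
      rw [h2]; exact this
    have h3 : δ - 1 = (μ e' - 1) * (((1 : A') ⊗ₜ[A] (g : B)) * algebraMap A' (A' ⊗[A] B) a) +
        (((1 : A') ⊗ₜ[A] (g : B)) - 1) * algebraMap A' (A' ⊗[A] B) a +
        (algebraMap A' (A' ⊗[A] B) a - 1) := by
      simp only [δ]; ring
    rw [h3]
    exact Ideal.add_mem _ (Ideal.add_mem _ (Ideal.mul_mem_right _ _ hx)
      (Ideal.mul_mem_right _ _ hI1)) hI3
  have hδu : IsUnit (algebraMap (A' ⊗[A] B) (Localization.Away δ) δ) :=
    IsLocalization.Away.algebraMap_isUnit δ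
  have hδeq : algebraMap (A' ⊗[A] B) (Localization.Away δ) δ =
      algebraMap (A' ⊗[A] B) (Localization.Away δ) (μ e') *
        (algebraMap (A' ⊗[A] B) (Localization.Away δ) ((1 : A') ⊗ₜ[A] (g : B)) *
          algebraMap (A' ⊗[A] B) (Localization.Away δ) (algebraMap A' (A' ⊗[A] B) a)) := by
    simp only [δ, map_mul, mul_assoc]
  have hu1 : IsUnit (algebraMap (A' ⊗[A] B) (Localization.Away δ) (μ e')) := by
    rw [hδeq] at hδu; exact isUnit_of_mul_isUnit_left hδu
  have hu23 : IsUnit (algebraMap (A' ⊗[A] B) (Localization.Away δ) ((1 : A') ⊗ₜ[A] (g : B)) *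
      algebraMap (A' ⊗[A] B) (Localization.Away δ) (algebraMap A' (A' ⊗[A] B) a)) := by
    rw [hδeq] at hδu; exact isUnit_of_mul_isUnit_right hδu
  have hu2 : IsUnit (algebraMap (A' ⊗[A] B) (Localization.Away δ) ((1 : A') ⊗ₜ[A] (g : B))) :=
    isUnit_of_mul_isUnit_left hu23
  have hu3 : IsUnit (algebraMap (A' ⊗[A] B) (Localization.Away δ)
      (algebraMap A' (A' ⊗[A] B) a)) := isUnit_of_mul_isUnit_right hu23
  have he1 : algebraMap (A' ⊗[A] B) (Localization.Away δ) (μ e') = 1 :=
    (IsIdempotentElem.iff_eq_one_of_isUnit hu1).mp (heB.map _)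
  haveI : Algebra.Etale A' (Localization.Away a) := Algebra.Etale.of_isLocalizationAway a
  haveI hA''et : Algebra.Etale A (Localization.Away a) :=
    Algebra.Etale.comp A A' (Localization.Away a)
  let φ : Localization.Away a →+* Localization.Away δ :=
    IsLocalization.Away.lift a (g := (algebraMap (A' ⊗[A] B) (Localization.Away δ)).comp
      (algebraMap A' (A' ⊗[A] B))) hu3
  have hφ : ∀ x : A', φ (algebraMap A' (Localization.Away a) x) =
      algebraMap (A' ⊗[A] B) (Localization.Away δ) (algebraMap A' (A' ⊗[A] B) x) :=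
    fun x => IsLocalization.Away.lift_eq a (g := (algebraMap (A' ⊗[A] B) (Localization.Away δ)).comp
      (algebraMap A' (A' ⊗[A] B))) hu3 x
  letI algA''C : Algebra (Localization.Away a) (Localization.Away δ) := φ.toAlgebra
  haveI towerA'A''C : IsScalarTower A' (Localization.Away a) (Localization.Away δ) :=
    .of_algebraMap_eq' (RingHom.ext fun x =>
      ((hφ x).trans (IsScalarTower.algebraMap_apply A' (A' ⊗[A] B) (Localization.Away δ) x).symm).symm)
  haveI towerAA''C : IsScalarTower A (Localization.Away a) (Localization.Away δ) := by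
    apply IsScalarTower.of_algebraMap_eq'
    rw [IsScalarTower.algebraMap_eq A A' (Localization.Away a), ← RingHom.comp_assoc,
      ← IsScalarTower.algebraMap_eq A' (Localization.Away a) (Localization.Away δ),
      ← IsScalarTower.algebraMap_eq]
  haveI towerABC : IsScalarTower A B (Localization.Away δ) := by
    apply IsScalarTower.of_algebraMap_eq'
    rw [IsScalarTower.algebraMap_eq A (A' ⊗[A] B) (Localization.Away δ),
      IsScalarTower.algebraMap_eq B (A' ⊗[A] B) (Localization.Away δ), RingHom.comp_assoc,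
      ← IsScalarTower.algebraMap_eq A B (A' ⊗[A] B)]
  haveI hCet : Algebra.Etale B (Localization.Away δ) := by
    haveI : Algebra.Etale (A' ⊗[A] B) (Localization.Away δ) := Algebra.Etale.of_isLocalizationAway δ
    exact Algebra.Etale.comp B (A' ⊗[A] B) (Localization.Away δ)
  -- elementwise forms of `A/I ≅ A'/IA'`
  have hS1 : ∀ x' : A', ∃ r : A, x' - algebraMap A A' r ∈ I.map (algebraMap A A') := by
    intro x'
    obtain ⟨rb, hr⟩ := hbij.2 (Ideal.Quotient.mk _ x')
    obtain ⟨r, rfl⟩ := Ideal.Quotient.mk_surjective rb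
    refine ⟨r, ?_⟩
    have h1 : algebraMap (A ⧸ I) (A' ⧸ I.map (algebraMap A A')) (Ideal.Quotient.mk I r) =
        Ideal.Quotient.mk _ (algebraMap A A' r) := rfl
    rw [h1, Ideal.Quotient.eq] at hr
    have : x' - algebraMap A A' r = -(algebraMap A A' r - x') := by ring
    rw [this]
    exact (Ideal.neg_mem_iff _).mpr hr
  have hK1 : ∀ r : A, algebraMap A A' r ∈ I.map (algebraMap A A') → r ∈ I := by
    intro r hr
    have h1 : algebraMap (A ⧸ I) (A' ⧸ I.map (algebraMap A A')) (Ideal.Quotient.mk I r) = 0 := by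
      show Ideal.Quotient.mk _ (algebraMap A A' r) = 0
      exact Ideal.Quotient.eq_zero_iff_mem.mpr hr
    have h2 := hbij.1 (h1.trans (map_zero _).symm)
    exact Ideal.Quotient.eq_zero_iff_mem.mp h2
  have hIA'' : I.map (algebraMap A (Localization.Away a)) =
      (I.map (algebraMap A A')).map (algebraMap A' (Localization.Away a)) := by
    rw [Ideal.map_map, ← IsScalarTower.algebraMap_eq]
  have hc1 : Function.Surjective ((Ideal.Quotient.mk (Ideal.map (algebraMap A (Localization.Away a)) I)).comp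
      (algebraMap A (Localization.Away a))) := by
    intro y
    obtain ⟨y, rfl⟩ := Ideal.Quotient.mk_surjective y
    obtain ⟨x', hx'⟩ := away_surj (I.map (algebraMap A A')) a ha1 (Localization.Away a) y
    obtain ⟨r, hr⟩ := hS1 x'
    refine ⟨r, ?_⟩
    show Ideal.Quotient.mk _ (algebraMap A (Localization.Away a) r) = Ideal.Quotient.mk _ y
    rw [Ideal.Quotient.eq, hIA'']
    have h1 : algebraMap A (Localization.Away a) r - y =
        -((y - algebraMap A' (Localization.Away a) x') +
          algebraMap A' (Localization.Away a) (x' - algebraMap A A' r)) := by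
      rw [map_sub, ← IsScalarTower.algebraMap_apply A A' (Localization.Away a)]
      ring
    rw [h1]
    exact (Ideal.neg_mem_iff _).mpr (Ideal.add_mem _ hx' (Ideal.mem_map_of_mem _ hr))
  have hc2 : RingHom.ker ((Ideal.Quotient.mk (Ideal.map (algebraMap A (Localization.Away a)) I)).comp
      (algebraMap A (Localization.Away a))) = I := by
    ext r
    rw [RingHom.mem_ker, RingHom.comp_apply, Ideal.Quotient.eq_zero_iff_mem]
    constructor
    · intro hr
      rw [hIA'', IsScalarTower.algebraMap_apply A A' (Localization.Away a)] at hr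
      exact hK1 r (away_ker (I.map (algebraMap A A')) a ha1 (Localization.Away a) _ hr)
    · intro hr
      exact Ideal.mem_map_of_mem _ hr
  -- the retraction `D' → B/IB`
  let eq0 : (A ⧸ I) ≃ₐ[A ⧸ I] (A' ⧸ I.map (algebraMap A A')) :=
    AlgEquiv.ofBijective (Algebra.ofId (A ⧸ I) (A' ⧸ I.map (algebraMap A A'))) hbij
  let θ : A' →ₐ[A] B ⧸ I.map (algebraMap A B) :=
    ((Ideal.quotientMapₐ (I.map (algebraMap A B)) (Algebra.ofId A B) Ideal.le_comap_map).comp
      ((eq0.symm.restrictScalars A : (A' ⧸ I.map (algebraMap A A')) ≃ₐ[A] (A ⧸ I)) :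
        (A' ⧸ I.map (algebraMap A A')) →ₐ[A] (A ⧸ I))).comp
      (Ideal.Quotient.mkₐ A (I.map (algebraMap A A')))
  let ρ : A' ⊗[A] B →ₐ[A] B ⧸ I.map (algebraMap A B) :=
    Algebra.TensorProduct.lift θ (Ideal.Quotient.mkₐ A (I.map (algebraMap A B)))
      (fun _ _ => Commute.all _ _)
  have hρ1 : ∀ b : B, ρ ((1 : A') ⊗ₜ[A] b) = Ideal.Quotient.mk _ b := by
    intro b
    simp only [ρ, Algebra.TensorProduct.lift_tmul, map_one, one_mul, Ideal.Quotient.mkₐ_eq_mk]
  have hρ0 : ∀ x ∈ I.map (algebraMap A (A' ⊗[A] B)), ρ x = 0 := by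
    intro x hx
    have h1 : I.map (algebraMap A (A' ⊗[A] B)) ≤ RingHom.ker ρ.toRingHom := by
      rw [Ideal.map_le_iff_le_comap]
      intro i hi
      rw [Ideal.mem_comap, RingHom.mem_ker]
      show ρ (algebraMap A (A' ⊗[A] B) i) = 0
      rw [ρ.commutes, IsScalarTower.algebraMap_apply A B (B ⧸ I.map (algebraMap A B)),
        Ideal.Quotient.algebraMap_eq, Ideal.Quotient.eq_zero_iff_mem]
      exact Ideal.mem_map_of_mem _ hi
    exact h1 hx
  have hIC : I.map (algebraMap A (Localization.Away δ)) =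
      (I.map (algebraMap A (A' ⊗[A] B))).map (algebraMap (A' ⊗[A] B) (Localization.Away δ)) := by
    rw [Ideal.map_map, ← IsScalarTower.algebraMap_eq]
  have hIAD : (I.map (algebraMap A A')).map (algebraMap A' (A' ⊗[A] B)) =
      I.map (algebraMap A (A' ⊗[A] B)) := by
    rw [Ideal.map_map, ← IsScalarTower.algebraMap_eq]
  have hD'surj : ∀ x : A' ⊗[A] B, ∃ b : B,
      x - algebraMap B (A' ⊗[A] B) b ∈ I.map (algebraMap A (A' ⊗[A] B)) := by
    intro x
    induction x using TensorProduct.induction_on with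
    | zero => exact ⟨0, by simp⟩
    | tmul a' b =>
      obtain ⟨r, hr⟩ := hS1 a'
      refine ⟨r • b, ?_⟩
      have h1 : a' ⊗ₜ[A] b - algebraMap B (A' ⊗[A] B) (r • b) =
          algebraMap A' (A' ⊗[A] B) (a' - algebraMap A A' r) * ((1 : A') ⊗ₜ[A] b) := by
        rw [Algebra.TensorProduct.right_algebraMap_apply, Algebra.TensorProduct.algebraMap_apply,
          Algebra.TensorProduct.tmul_mul_tmul, mul_one, one_mul]
        show a' ⊗ₜ[A] b - 1 ⊗ₜ[A] (r • b) = (a' - algebraMap A A' r) ⊗ₜ[A] b
        rw [TensorProduct.sub_tmul, ← TensorProduct.smul_tmul, Algebra.algebraMap_eq_smul_one]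
      rw [h1, ← hIAD]
      exact Ideal.mul_mem_right _ _ (Ideal.mem_map_of_mem _ hr)
    | add x y hx hy =>
      obtain ⟨bx, hbx⟩ := hx
      obtain ⟨by', hby⟩ := hy
      refine ⟨bx + by', ?_⟩
      have h1 : x + y - algebraMap B (A' ⊗[A] B) (bx + by') =
          (x - algebraMap B (A' ⊗[A] B) bx) + (y - algebraMap B (A' ⊗[A] B) by') := by
        rw [map_add]; ring
      rw [h1]
      exact Ideal.add_mem _ hbx hby
  have hc5 : Function.Surjective ((Ideal.Quotient.mk (Ideal.map (algebraMap A (Localization.Away δ)) I)).comp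
      (algebraMap B (Localization.Away δ))) := by
    intro y
    obtain ⟨y, rfl⟩ := Ideal.Quotient.mk_surjective y
    obtain ⟨x, hx⟩ := away_surj (I.map (algebraMap A (A' ⊗[A] B))) δ hδ1 (Localization.Away δ) y
    obtain ⟨b, hb⟩ := hD'surj x
    refine ⟨b, ?_⟩
    show Ideal.Quotient.mk _ (algebraMap B (Localization.Away δ) b) = Ideal.Quotient.mk _ y
    rw [Ideal.Quotient.eq, hIC]
    have h1 : algebraMap B (Localization.Away δ) b - y =
        -((y - algebraMap (A' ⊗[A] B) (Localization.Away δ) x) +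
          algebraMap (A' ⊗[A] B) (Localization.Away δ) (x - algebraMap B (A' ⊗[A] B) b)) := by
      rw [map_sub, ← IsScalarTower.algebraMap_apply B (A' ⊗[A] B) (Localization.Away δ)]
      ring
    rw [h1]
    exact (Ideal.neg_mem_iff _).mpr (Ideal.add_mem _ hx (Ideal.mem_map_of_mem _ hb))
  have hc6 : RingHom.ker ((Ideal.Quotient.mk (Ideal.map (algebraMap A (Localization.Away δ)) I)).comp
      (algebraMap B (Localization.Away δ))) = Ideal.map (algebraMap A B) I := by
    ext b
    rw [RingHom.mem_ker, RingHom.comp_apply, Ideal.Quotient.eq_zero_iff_mem]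
    constructor
    · intro hb
      rw [hIC, IsScalarTower.algebraMap_apply B (A' ⊗[A] B) (Localization.Away δ)] at hb
      have h1 := away_ker (I.map (algebraMap A (A' ⊗[A] B))) δ hδ1 (Localization.Away δ) _ hb
      have h2 := hρ0 _ h1
      rw [Algebra.TensorProduct.right_algebraMap_apply, hρ1, Ideal.Quotient.eq_zero_iff_mem] at h2
      exact h2
    · intro hb
      have h1 : (I.map (algebraMap A B)).map (algebraMap B (Localization.Away δ)) =
          I.map (algebraMap A (Localization.Away δ)) := by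
        rw [Ideal.map_map, ← IsScalarTower.algebraMap_eq]
      rw [← h1]
      exact Ideal.mem_map_of_mem _ hb
  -- finiteness of `C` over `A''`
  have hft1 : Algebra.FiniteType A' (A' ⊗[A] B) := inferInstance
  have hft2 : Algebra.FiniteType (A' ⊗[A] B) (Localization.Away δ) := inferInstance
  haveI : Algebra.FiniteType A' (Localization.Away δ) :=
    Algebra.FiniteType.trans hft1 hft2
  haveI hft : Algebra.FiniteType (Localization.Away a) (Localization.Away δ) :=
    Algebra.FiniteType.of_restrictScalars_finiteType A' _ _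
  -- integrality of `C` over `A''`
  have hint1 : ∀ x : A' ⊗[A] B, IsIntegral A' x →
      IsIntegral (Localization.Away a) (algebraMap (A' ⊗[A] B) (Localization.Away δ) x) := by
    intro x hx
    have h1 : IsIntegral A' (algebraMap (A' ⊗[A] B) (Localization.Away δ) x) :=
      hx.map (IsScalarTower.toAlgHom A' (A' ⊗[A] B) (Localization.Away δ))
    exact h1.tower_top
  have hGint : IsIntegral A' ((1 : A') ⊗ₜ[A] (g : B)) := IsIntegral.tmul 1 hgood.isIntegral
  -- an inverse of `1 ⊗ g` in `C`
  have hrel : algebraMap (A' ⊗[A] B) (Localization.Away δ) (μ c₁) *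
      algebraMap (A' ⊗[A] B) (Localization.Away δ) ((1 : A') ⊗ₜ[A] (g : B)) =
      algebraMap (A' ⊗[A] B) (Localization.Away δ) (algebraMap A' (A' ⊗[A] B) a) := by
    have h1 := congrArg (fun d => algebraMap (A' ⊗[A] B) (Localization.Away δ) (μ d)) hc
    simp only [map_add, map_mul, map_sub, map_one, hμG, he1, sub_self, mul_zero, add_zero] at h1
    rw [h1, AlgHom.commutes]
  have hainv : algebraMap (A' ⊗[A] B) (Localization.Away δ) (algebraMap A' (A' ⊗[A] B) a) *
      algebraMap (Localization.Away a) (Localization.Away δ) (IsLocalization.Away.invSelf a) = 1 := by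
    rw [← hφ a]
    show φ _ * φ _ = 1
    rw [← map_mul, IsLocalization.Away.mul_invSelf, map_one]
  let w : Localization.Away δ := algebraMap (A' ⊗[A] B) (Localization.Away δ) (μ c₁) *
    algebraMap (Localization.Away a) (Localization.Away δ) (IsLocalization.Away.invSelf a)
  have hw : algebraMap (A' ⊗[A] B) (Localization.Away δ) ((1 : A') ⊗ₜ[A] (g : B)) * w = 1 := by
    simp only [w]
    rw [← mul_assoc, mul_comm (algebraMap (A' ⊗[A] B) (Localization.Away δ) ((1 : A') ⊗ₜ[A] (g : B))),
      hrel, hainv]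
  have hwint : IsIntegral (Localization.Away a) w :=
    (hint1 _ (hμint c₁)).mul isIntegral_algebraMap
  have hgoodD : ∀ x : A' ⊗[A] B, ∃ m : ℕ, IsIntegral A' (((1 : A') ⊗ₜ[A] (g : B)) ^ m * x) := by
    intro x
    induction x using TensorProduct.induction_on with
    | zero => exact ⟨0, by simpa using isIntegral_zero⟩
    | tmul a' b =>
      obtain ⟨m, hm⟩ := hgood b
      refine ⟨m, ?_⟩
      rw [Algebra.TensorProduct.tmul_pow, one_pow, Algebra.TensorProduct.tmul_mul_tmul, one_mul]
      exact IsIntegral.tmul a' hm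
    | add x y hx hy =>
      obtain ⟨mx, hmx⟩ := hx
      obtain ⟨my, hmy⟩ := hy
      refine ⟨mx + my, ?_⟩
      have h1 : ((1 : A') ⊗ₜ[A] (g : B)) ^ (mx + my) * (x + y) =
          ((1 : A') ⊗ₜ[A] (g : B)) ^ my * (((1 : A') ⊗ₜ[A] (g : B)) ^ mx * x) +
          ((1 : A') ⊗ₜ[A] (g : B)) ^ mx * (((1 : A') ⊗ₜ[A] (g : B)) ^ my * y) := by
        rw [pow_add]; ring
      rw [h1]
      exact ((hGint.pow my).mul hmx).add ((hGint.pow mx).mul hmy)
  have hint2 : ∀ x : A' ⊗[A] B,
      IsIntegral (Localization.Away a) (algebraMap (A' ⊗[A] B) (Localization.Away δ) x) := by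
    intro x
    obtain ⟨m, hm⟩ := hgoodD x
    have h1 : algebraMap (A' ⊗[A] B) (Localization.Away δ) x =
        algebraMap (A' ⊗[A] B) (Localization.Away δ) (((1 : A') ⊗ₜ[A] (g : B)) ^ m * x) * w ^ m := by
      rw [map_mul, map_pow, mul_comm _ (algebraMap (A' ⊗[A] B) (Localization.Away δ) x), mul_assoc,
        ← mul_pow, hw, one_pow, mul_one]
    rw [h1]
    exact (hint1 _ hm).mul (hwint.pow m)
  let δinv : Localization.Away δ :=
    w * algebraMap (Localization.Away a) (Localization.Away δ) (IsLocalization.Away.invSelf a)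
  have hδinv : algebraMap (A' ⊗[A] B) (Localization.Away δ) δ * δinv = 1 := by
    rw [hδeq, he1, one_mul]
    simp only [δinv]
    calc _ = (algebraMap (A' ⊗[A] B) (Localization.Away δ) ((1 : A') ⊗ₜ[A] (g : B)) * w) *
          (algebraMap (A' ⊗[A] B) (Localization.Away δ) (algebraMap A' (A' ⊗[A] B) a) *
            algebraMap (Localization.Away a) (Localization.Away δ)
              (IsLocalization.Away.invSelf a)) := by ring
      _ = 1 := by rw [hw, hainv, one_mul]
  have hδinvint : IsIntegral (Localization.Away a) δinv := hwint.mul isIntegral_algebraMap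
  haveI hCint : Algebra.IsIntegral (Localization.Away a) (Localization.Away δ) := by
    constructor
    intro y
    obtain ⟨x, ⟨_, k, rfl⟩, rfl⟩ := IsLocalization.exists_mk'_eq (Submonoid.powers δ) y
    have h1 : IsLocalization.mk' (Localization.Away δ) x (⟨δ ^ k, k, rfl⟩ : Submonoid.powers δ) =
        algebraMap (A' ⊗[A] B) (Localization.Away δ) x * δinv ^ k := by
      rw [IsLocalization.mk'_eq_iff_eq_mul]
      simp only
      rw [mul_assoc, map_pow, ← mul_pow, mul_comm δinv, hδinv, one_pow, mul_one]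
    rw [h1]
    exact (hint2 x).mul (hδinvint.pow k)
  haveI hCfin : Module.Finite (Localization.Away a) (Localization.Away δ) :=
    Algebra.IsIntegral.finite
  exact ⟨Localization.Away a, inferInstance, inferInstance, hA''et, Localization.Away δ, inferInstance,
    inferInstance, algA''C, inferInstance, towerAA''C, towerABC, hc1, hc2, hCet, hCfin, hc5, hc6⟩

end Groth.Agent.Helper3.EtNbhdFinite
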