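import Mathlib

universe u
open scoped TensorProduct
open Polynomial

namespace Groth.Agent.Helper3.StdEtLift

/-- Two standard étale pairs with the same `HasMap` predicate on their own generators have
isomorphic rings. -/
noncomputable def ringEquivOfHasMap {R : Type*} [CommRing R] (P₁ P₂ : StandardEtalePair R)
    (h12 : P₁.HasMap P₂.X) (h21 : P₂.HasMap P₁.X) : P₁.Ring ≃ₐ[R] P₂.Ring :=
  AlgEquiv.ofAlgHom (P₁.lift P₂.X h12) (P₂.lift P₁.X h21)
    (by apply P₂.hom_ext; simp)
    (by apply P₁.hom_ext; simp)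

/-- Lifting a standard étale pair along a surjective ring homomorphism. -/
theorem exists_lift_pair {R Rb : Type u} [CommRing R] [CommRing Rb] [Algebra R Rb]
    (hsurj : Function.Surjective (algebraMap R Rb)) (Pb : StandardEtalePair Rb) :
    ∃ P : StandardEtalePair R, Nonempty ((Rb ⊗[R] P.Ring) ≃ₐ[Rb] Pb.Ring) := by
  obtain ⟨p₁b, p₂b, n, hcond⟩ := Pb.cond
  have hmapsurj := Polynomial.map_surjective (algebraMap R Rb) hsurj
  obtain ⟨f, hf, -, hfm⟩ := Polynomial.lifts_and_natDegree_eq_and_monic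
    (f := algebraMap R Rb) (p := Pb.f)
    (by rw [Polynomial.lifts_iff_coeff_lifts]; intro k; exact hsurj _) Pb.monic_f
  obtain ⟨g, hg⟩ := hmapsurj Pb.g
  obtain ⟨p₁, hp₁⟩ := hmapsurj p₁b
  obtain ⟨p₂, hp₂⟩ := hmapsurj p₂b
  let P : StandardEtalePair R :=
    { f := f
      monic_f := hfm
      g := g * (derivative f * p₁ + f * p₂)
      cond := ⟨g * p₁, g * p₂, 1, by ring⟩ }
  have hPg : (P.map (algebraMap R Rb)).g = Pb.g ^ (n + 1) := by
    simp only [StandardEtalePair.map_g, P, Polynomial.map_mul, Polynomial.map_add,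
      hf, hg, hp₁, hp₂]
    rw [← Polynomial.derivative_map, hf, hcond]
    ring
  have hPf : (P.map (algebraMap R Rb)).f = Pb.f := by
    simp only [StandardEtalePair.map_f, P, hf]
  -- base change
  let Q : StandardEtalePresentation R P.Ring :=
    ⟨P, P.X, P.hasMap_X, by simpa [StandardEtalePair.lift_X_left] using Function.bijective_id⟩
  let e₁ : (Rb ⊗[R] P.Ring) ≃ₐ[Rb] (P.map (algebraMap R Rb)).Ring := Q.baseChange.equivRing
  have h12 : (P.map (algebraMap R Rb)).HasMap Pb.X := by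
    refine ⟨?_, ?_⟩
    · rw [hPf]; exact Pb.hasMap_X.1
    · rw [hPg, map_pow]; exact Pb.hasMap_X.2.pow _
  have h21 : Pb.HasMap (P.map (algebraMap R Rb)).X := by
    refine ⟨?_, ?_⟩
    · rw [← hPf]; exact (P.map (algebraMap R Rb)).hasMap_X.1
    · have := (P.map (algebraMap R Rb)).hasMap_X.2
      rw [hPg, map_pow] at this
      exact (isUnit_pow_iff (Nat.succ_ne_zero n)).mp this
  exact ⟨P, ⟨e₁.trans (ringEquivOfHasMap _ _ h12 h21)⟩⟩

end Groth.Agent.Helper3.StdEtLift
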