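import Mathlib
import Groth.Agent.Helper3.StdEtLift

open AlgebraicGeometry CategoryTheory CategoryTheory.Limits TopologicalSpace Opposite TensorProduct

namespace Groth.Agent.Helper3.EtOverClosed

universe u

/-- lifting an étale algebra along a surjection, locally -/
theorem ring_lift (A A₀ : Type u) [CommRing A] [CommRing A₀] [Algebra A A₀]
    (hsurj : Function.Surjective (algebraMap A A₀))
    (C₀ : Type u) [CommRing C₀] [Algebra A₀ C₀] [Algebra.Etale A₀ C₀]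
    (q : Ideal C₀) [q.IsPrime] :
    ∃ (g : C₀) (_ : g ∉ q) (C : Type u) (_ : CommRing C) (_ : Algebra A C),
      Algebra.Etale A C ∧ Nonempty ((A₀ ⊗[A] C) ≃ₐ[A₀] Localization.Away g) := by
  obtain ⟨g, hgq, hstd⟩ := Algebra.IsEtaleAt.exists_isStandardEtale (R := A₀) q
  let Pres := hstd.nonempty_standardEtalePresentation.some
  obtain ⟨P, ⟨e⟩⟩ := Groth.Agent.Helper3.StdEtLift.exists_lift_pair (R := A) (Rb := A₀)
    hsurj Pres.P
  exact ⟨g, hgq, P.Ring, inferInstance, inferInstance, inferInstance,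
    ⟨e.trans Pres.equivRing.symm⟩⟩

theorem local_lift {X Y U : Scheme.{u}} (f : X ⟶ Y) [IsClosedImmersion f] (q : U ⟶ X) [Etale q]
    (x : U) :
    ∃ (V : Scheme.{u}) (v : V ⟶ Y) (_ : Etale v) (h : pullback v f ⟶ U),
      h ≫ q = pullback.snd v f ∧ IsOpenImmersion h ∧ ∃ y : ↥(pullback v f), h y = x := by
  obtain ⟨_, ⟨Y₀, hY₀, rfl⟩, hyY₀, -⟩ := Y.isBasis_affineOpens.exists_subset_of_mem_open
    (Set.mem_univ (f (q x))) isOpen_univ
  replace hY₀ : IsAffineOpen Y₀ := hY₀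
  have hX₀ : IsAffineOpen (f ⁻¹ᵁ Y₀) := hY₀.preimage f
  obtain ⟨_, ⟨U₀, hU₀, rfl⟩, hxU₀, hsub⟩ := U.isBasis_affineOpens.exists_subset_of_mem_open
    (show x ∈ ((q ⁻¹ᵁ (f ⁻¹ᵁ Y₀) : U.Opens) : Set U) from hyY₀) (q ⁻¹ᵁ (f ⁻¹ᵁ Y₀)).2
  replace hU₀ : IsAffineOpen U₀ := hU₀
  have hU₀X₀ : U₀ ≤ q ⁻¹ᵁ (f ⁻¹ᵁ Y₀) := hsub
  haveI := hY₀.isOpenImmersion_fromSpec
  haveI := hX₀.isOpenImmersion_fromSpec
  haveI := hU₀.isOpenImmersion_fromSpec
  let φ : Γ(Y, Y₀) ⟶ Γ(X, f ⁻¹ᵁ Y₀) := f.app Y₀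
  let χ : Γ(X, f ⁻¹ᵁ Y₀) ⟶ Γ(U, U₀) := q.appLE (f ⁻¹ᵁ Y₀) U₀ hU₀X₀
  have hφ : Function.Surjective φ.hom := f.app_surjective Y₀ hY₀
  have hχ : χ.hom.Etale :=
    HasRingHomProperty.appLE (P := @Etale) q inferInstance ⟨_, hX₀⟩ ⟨_, hU₀⟩ hU₀X₀
  algebraize [φ.hom, χ.hom]
  obtain ⟨g, hgq, C, _, _, hC, ⟨E⟩⟩ := ring_lift Γ(Y, Y₀) Γ(X, f ⁻¹ᵁ Y₀) hφ Γ(U, U₀)
    (hU₀.primeIdealOf ⟨x, hxU₀⟩).asIdeal
  let A := Γ(Y, Y₀)
  let A₀ := Γ(X, f ⁻¹ᵁ Y₀)
  let C₀ := Γ(U, U₀)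
  let L := Localization.Away g
  let T := A₀ ⊗[A] C
  let ψ : Γ(Y, Y₀) ⟶ CommRingCat.of C := CommRingCat.ofHom (algebraMap A C)
  have hψ : ψ.hom.Etale := RingHom.etale_algebraMap.mpr hC
  haveI : Etale (Spec.map ψ) := HasRingHomProperty.Spec_iff.mpr hψ
  let v : Spec (CommRingCat.of C) ⟶ Y := Spec.map ψ ≫ hY₀.fromSpec
  haveI : Etale v := inferInstance
  let inl : Γ(X, f ⁻¹ᵁ Y₀) ⟶ CommRingCat.of T :=
    CommRingCat.ofHom Algebra.TensorProduct.includeLeftRingHom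
  let inr : CommRingCat.of C ⟶ CommRingCat.of T :=
    CommRingCat.ofHom (Algebra.TensorProduct.includeRight : C →ₐ[A] T).toRingHom
  have sq1 : IsPullback (Spec.map inl) (Spec.map inr) (Spec.map φ) (Spec.map ψ) :=
    isPullback_SpecMap_of_isPushout _ _ _ _ (CommRingCat.isPushout_tensorProduct A A₀ C)
  have sq2 : IsPullback (Spec.map φ) hX₀.fromSpec hY₀.fromSpec f := by
    refine IsOpenImmersion.isPullback _ _ _ _ ?_ ?_
    · have h0 : φ = f.appLE Y₀ (f ⁻¹ᵁ Y₀) le_rfl := Scheme.Hom.app_eq_appLE f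
      rw [h0, IsAffineOpen.SpecMap_appLE_fromSpec f hY₀ hX₀ le_rfl]
    · rw [hY₀.opensRange_fromSpec, hX₀.opensRange_fromSpec]
  have big : IsPullback (Spec.map inr) (Spec.map inl ≫ hX₀.fromSpec) v f :=
    (sq1.paste_horiz sq2.flip).flip
  -- the map `C₀ → T`
  let lam : CommRingCat.of C₀ ⟶ CommRingCat.of T :=
    CommRingCat.ofHom (algebraMap C₀ L) ≫ CommRingCat.ofHom (E.symm : L →+* T)
  haveI h1 : IsOpenImmersion (Spec.map (CommRingCat.ofHom (algebraMap C₀ L))) :=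
    IsOpenImmersion.of_isLocalization g
  haveI h2 : IsIso (CommRingCat.ofHom (E.symm : L →+* T)) :=
    (ConcreteCategory.isIso_iff_bijective _).mpr E.symm.bijective
  haveI h3 : IsOpenImmersion (Spec.map lam) := by
    rw [Spec.map_comp]; infer_instance
  let h : pullback v f ⟶ U := big.isoPullback.inv ≫ Spec.map lam ≫ hU₀.fromSpec
  refine ⟨Spec (CommRingCat.of C), v, inferInstance, h, ?_, inferInstance, ?_⟩
  · have e1 : hU₀.fromSpec ≫ q = Spec.map χ ≫ hX₀.fromSpec :=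
      (IsAffineOpen.SpecMap_appLE_fromSpec q hX₀ hU₀ hU₀X₀).symm
    have e2 : χ ≫ lam = inl := by
      ext a
      show (E.symm (algebraMap C₀ L (algebraMap A₀ C₀ a)) : T) = a ⊗ₜ 1
      rw [← IsScalarTower.algebraMap_apply A₀ C₀ L, E.symm.commutes]
      rfl
    have e3 : big.isoPullback.hom ≫ pullback.snd v f = Spec.map inl ≫ hX₀.fromSpec :=
      big.isoPullback_hom_snd
    show (big.isoPullback.inv ≫ Spec.map lam ≫ hU₀.fromSpec) ≫ q = _
    rw [Category.assoc, Category.assoc, e1, ← Category.assoc (Spec.map lam), ← Spec.map_comp,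
      e2, Iso.inv_comp_eq]
    exact e3.symm
  · let qx : Spec (CommRingCat.of C₀) := hU₀.primeIdealOf ⟨x, hxU₀⟩
    have hqx : hU₀.fromSpec qx = x := hU₀.fromSpec_primeIdealOf ⟨x, hxU₀⟩
    have hmem : qx ∈ Set.range (Spec.map (CommRingCat.ofHom (algebraMap C₀ L))) := by
      have h4 : Set.range (PrimeSpectrum.comap (algebraMap C₀ L)) =
          PrimeSpectrum.basicOpen g := PrimeSpectrum.localization_away_comap_range L g
      have h5 : Set.range (Spec.map (CommRingCat.ofHom (algebraMap C₀ L))) =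
          Set.range (PrimeSpectrum.comap (algebraMap C₀ L)) := rfl
      rw [h5, h4]
      exact hgq
    obtain ⟨t', ht'⟩ := hmem
    let θ := Spec.map (CommRingCat.ofHom (E.symm : L →+* T))
    let t : Spec (CommRingCat.of T) := (inv θ) t'
    have ht0 : θ t = t' := by
      show (inv θ ≫ θ) t' = t'
      rw [IsIso.inv_hom_id]; rfl
    have ht : Spec.map lam t = qx := by
      have : Spec.map lam = θ ≫ Spec.map (CommRingCat.ofHom (algebraMap C₀ L)) :=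
        Spec.map_comp _ _
      rw [this]
      show Spec.map (CommRingCat.ofHom (algebraMap C₀ L)) (θ t) = qx
      rw [ht0, ht']
    refine ⟨big.isoPullback.hom t, ?_⟩
    show (big.isoPullback.hom ≫ big.isoPullback.inv ≫ Spec.map lam ≫ hU₀.fromSpec) t = x
    rw [Iso.hom_inv_id_assoc]
    show hU₀.fromSpec (Spec.map lam t) = x
    rw [ht, hqx]

theorem main {X Y : Scheme.{u}} (f : X ⟶ Y) [IsClosedImmersion f] (U : X.Etale) :
    ∃ (κ : Type u) (V : κ → Y.Etale) (h : ∀ j, pullback (V j).hom f ⟶ U.left),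
      (∀ j, h j ≫ U.hom = pullback.snd (V j).hom f) ∧ (∀ j, IsOpenImmersion (h j)) ∧
      ∀ x : U.left, ∃ (j : κ) (y : ↥(pullback (V j).hom f)), (h j).base y = x := by
  have H := fun x : U.left => local_lift f U.hom x
  choose V v hv h h1 h2 h3 using H
  exact ⟨U.left, fun x => @Scheme.Etale.mk Y (V x) (v x) (hv x), h, h1, h2,
    fun x => ⟨x, h3 x⟩⟩

end Groth.Agent.Helper3.EtOverClosed
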