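import Mathlib
import Groth.Agent.Helper3.EtSmQF

set_option linter.style.haveILetI false
set_option linter.unusedSectionVars false
set_option linter.unusedVariables false
set_option linter.style.haveILetI false
set_option linter.unusedSectionVars false
set_option linter.unusedVariables false

namespace Groth.Agent.Helper3.EtPtsAlg

open AlgebraicGeometry CategoryTheory Limits

universe u

/-- residue fields of points of an étale scheme over a field are integral over the field -/
theorem residueField_integral (k : Type u) [Field k] (Z : Scheme.{u})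
    (f : Z ⟶ Spec (CommRingCat.of k)) [Etale f] (z : Z) (χ : CommRingCat.of k ⟶ Z.residueField z)
    (hχ : Spec.map χ = Z.fromSpecResidueField z ≫ f) : χ.hom.IsIntegral := by
  haveI : LocallyQuasiFinite f := ((Groth.Agent.Helper3.EtSmQF.main f).mp inferInstance).2
  have hdisc : _root_.IsDiscrete (f ⁻¹' {f z}) := f.isDiscrete_preimage_singleton (f z)
  have huniv : f ⁻¹' {f z} = Set.univ := by
    ext w
    simp only [Set.mem_preimage, Set.mem_singleton_iff, Set.mem_univ, iff_true]
    exact Subsingleton.elim (α := PrimeSpectrum k) _ _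
  rw [huniv] at hdisc
  haveI : DiscreteTopology Z := isDiscrete_univ_iff.mp hdisc
  have hx : IsClosed ({z} : Set Z) := isClosed_discrete _
  haveI : IsClosedImmersion (Z.fromSpecResidueField z) :=
    isClosed_singleton_iff_isClosedImmersion.mp hx
  have hft : χ.hom.FiniteType := by
    have : LocallyOfFiniteType (Spec.map χ) := hχ ▸ inferInstance
    exact HasRingHomProperty.Spec_iff.mp this
  algebraize [χ.hom]
  haveI : Module.Finite k (Z.residueField z) := finite_of_finite_type_of_isJacobsonRing k _
  have : Algebra.IsIntegral k (Z.residueField z) := inferInstance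
  exact algebraMap_isIntegral_iff.mpr this

theorem main
    (k K Ω : Type u) [Field k] [Field K] [Field Ω] [Algebra k K] [IsAlgClosed K]
    [Algebra.IsAlgebraic k K]
    [Algebra K Ω] [Algebra k Ω] [IsScalarTower k K Ω]
    (Z : Scheme.{u}) (f : Z ⟶ Spec (CommRingCat.of k)) [AlgebraicGeometry.Etale f] :
    (∀ g₁ g₂ : Spec (CommRingCat.of K) ⟶ Z,
        g₁ ≫ f = Spec.map (CommRingCat.ofHom (algebraMap k K)) →
        g₂ ≫ f = Spec.map (CommRingCat.ofHom (algebraMap k K)) →
        Spec.map (CommRingCat.ofHom (algebraMap K Ω)) ≫ g₁ =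
          Spec.map (CommRingCat.ofHom (algebraMap K Ω)) ≫ g₂ →
        g₁ = g₂) ∧
    (∀ h : Spec (CommRingCat.of Ω) ⟶ Z, h ≫ f = Spec.map (CommRingCat.ofHom (algebraMap k Ω)) →
        ∃ g : Spec (CommRingCat.of K) ⟶ Z, g ≫ f = Spec.map (CommRingCat.ofHom (algebraMap k K)) ∧
          Spec.map (CommRingCat.ofHom (algebraMap K Ω)) ≫ g = h) := by
  set j : K →+* Ω := algebraMap K Ω with hj
  have hjinj : Function.Injective j := (algebraMap K Ω).injective
  constructor
  · intro g₁ g₂ _ _ h
    obtain ⟨⟨z₁, φ₁⟩, rfl⟩ := (Z.SpecToEquivOfField K).symm.surjective g₁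
    obtain ⟨⟨z₂, φ₂⟩, rfl⟩ := (Z.SpecToEquivOfField K).symm.surjective g₂
    simp only [Scheme.SpecToEquivOfField_symm_apply] at h ⊢
    rw [← Category.assoc, ← Category.assoc, ← Spec.map_comp, ← Spec.map_comp] at h
    have h' : (Z.SpecToEquivOfField Ω).symm ⟨z₁, φ₁ ≫ CommRingCat.ofHom j⟩ =
        (Z.SpecToEquivOfField Ω).symm ⟨z₂, φ₂ ≫ CommRingCat.ofHom j⟩ := h
    have h'' := (Z.SpecToEquivOfField Ω).symm.injective h'
    rw [Scheme.SpecToEquivOfField_eq_iff] at h''
    obtain ⟨e, he⟩ := h''
    dsimp only at e he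
    subst e
    have : φ₁ = φ₂ := by
      ext a
      apply hjinj
      have := congrArg (fun t => t.hom a) he
      simpa using this
    rw [this]
  · intro h hh
    obtain ⟨⟨z, ψ⟩, rfl⟩ := (Z.SpecToEquivOfField Ω).symm.surjective h
    simp only [Scheme.SpecToEquivOfField_symm_apply] at hh ⊢
    obtain ⟨χ, hχ⟩ := Spec.map_surjective (Z.fromSpecResidueField z ≫ f)
    have hχψ : χ ≫ ψ = CommRingCat.ofHom (algebraMap k Ω) := by
      apply Spec.map_injective
      rw [Spec.map_comp, hχ, ← Category.assoc, hh]
    have hint := residueField_integral k Z f z χ hχ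
    -- image of ψ lies in the range of j
    have hmem : ∀ a : Z.residueField z, ψ.hom a ∈ j.range := by
      intro a
      obtain ⟨p, hpm, hp⟩ := hint a
      have hint' : IsIntegral k (ψ.hom a) := by
        refine ⟨p, hpm, ?_⟩
        have h1 : Polynomial.eval₂ (ψ.hom.comp χ.hom) (ψ.hom a) p = 0 := by
          rw [← Polynomial.hom_eval₂, hp, map_zero]
        have h2 : ψ.hom.comp χ.hom = algebraMap k Ω := by
          have := congrArg CommRingCat.Hom.hom hχψ
          simpa using this
        rw [h2] at h1
        exact h1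
      have hintK : IsIntegral K (ψ.hom a) := hint'.tower_top
      have hdeg : (minpoly K (ψ.hom a)).degree = 1 :=
        IsAlgClosed.degree_eq_one_of_irreducible K (minpoly.irreducible hintK)
      exact minpoly.mem_range_of_degree_eq_one K (ψ.hom a) hdeg
    let e : K ≃+* j.range := RingEquiv.ofBijective j.rangeRestrict
      ⟨fun a b hab => hjinj (congrArg Subtype.val hab), j.rangeRestrict_surjective⟩
    let ψ' : Z.residueField z →+* j.range := ψ.hom.codRestrict j.range hmem
    let φ : Z.residueField z →+* K := e.symm.toRingHom.comp ψ'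
    have hjφ : ∀ a, j (φ a) = ψ.hom a := by
      intro a
      have : (e (φ a) : Ω) = j (φ a) := rfl
      rw [← this]
      show ((e (e.symm (ψ' a)) : j.range) : Ω) = ψ.hom a
      rw [e.apply_symm_apply]
      rfl
    have hφψ : CommRingCat.ofHom φ ≫ CommRingCat.ofHom j = ψ := by
      ext a
      exact hjφ a
    refine ⟨Spec.map (CommRingCat.ofHom φ) ≫ Z.fromSpecResidueField z, ?_, ?_⟩
    · rw [Category.assoc, ← hχ, ← Spec.map_comp]
      congr 1
      ext a
      apply hjinj
      show j (φ (χ.hom a)) = j (algebraMap k K a)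
      rw [hjφ, ← IsScalarTower.algebraMap_apply]
      have := congrArg (fun t => t.hom a) hχψ
      simpa using this
    · rw [← Category.assoc, ← Spec.map_comp, hφψ]

end Groth.Agent.Helper3.EtPtsAlg
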