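import Mathlib
import Groth.Agent.Helper1.TraceEtale

set_option linter.style.haveILetI false
set_option linter.unusedSectionVars false
set_option linter.unusedVariables false

namespace Groth.Agent.Helper3.EtPunct
open IsLocalRing Groth.Agent.Helper1.TraceEtale

universe u v

theorem main (A : Type u) (B : Type v) [CommRing A] [CommRing B]
    [Algebra A B] [IsNoetherianRing A] [IsLocalRing A] (hdim : (2 : WithBot ℕ∞) ≤ ringKrullDim A)
    [Module.Finite A B] [Module.Flat A B]
    (h : ∀ q : PrimeSpectrum B, q.asIdeal.comap (algebraMap A B) ≠ IsLocalRing.maximalIdeal A →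
      Algebra.IsEtaleAt A q.asIdeal) :
    Algebra.Etale A B := by
  classical
  haveI : Module.Free A B := Module.free_of_flat_of_isLocalRing
  let b := Module.Free.chooseBasis A B
  rw [etale_iff_exists_dualFamily b, exists_dualFamily_iff_isUnit_discr b]
  by_contra hd
  set d := Algebra.discr A b with hd_def
  have hdm : d ∈ maximalIdeal A := hd
  have hle : Ideal.span {d} ≤ maximalIdeal A := (Ideal.span_singleton_le_iff_mem _).mpr hdm
  obtain ⟨p, hpmin, hple⟩ := Ideal.exists_minimalPrimes_le hle
  haveI hp : p.IsPrime := hpmin.1.1
  have hht : p.height ≤ 1 := Ideal.height_le_one_of_isPrincipal_of_mem_minimalPrimes _ p hpmin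
  have hpne : p ≠ maximalIdeal A := by
    intro hpe
    have h1 := IsLocalRing.maximalIdeal_height_eq_ringKrullDim (R := A)
    rw [← hpe] at h1
    rw [← h1] at hdim
    have h2 : (2 : WithBot ℕ∞) ≤ (1 : ℕ∞) := hdim.trans (by exact_mod_cast hht)
    exact absurd h2 (by norm_num)
  have hdp : d ∈ p := hpmin.1.2 (Ideal.mem_span_singleton_self d)
  -- localize at `p`
  let M := Algebra.algebraMapSubmonoid B p.primeCompl
  let bp := b.localizationLocalization (Localization.AtPrime p) p.primeCompl (Localization M)
  have hdisc : Algebra.discr (Localization.AtPrime p) bp = algebraMap A (Localization.AtPrime p) d :=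
    Algebra.discr_localizationLocalization A p.primeCompl (Localization M) b
  haveI hun : Algebra.FormallyUnramified (Localization.AtPrime p) (Localization M) := by
    rw [Algebra.formallyUnramified_iff_forall]
    intro Q
    set q : Ideal B := Q.asIdeal.comap (algebraMap B (Localization M)) with hq
    have hqp : q.comap (algebraMap A B) ≤ p := by
      intro a ha
      by_contra hap
      have hu : IsUnit (algebraMap B (Localization M) (algebraMap A B a)) :=
        IsLocalization.map_units (Localization M) (⟨algebraMap A B a, a, hap, rfl⟩ : M)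
      exact Q.2.ne_top (Ideal.eq_top_of_isUnit_mem _ ha hu)
    have hqne : q.comap (algebraMap A B) ≠ maximalIdeal A := by
      intro he
      rw [he] at hqp
      exact hpne ((IsLocalRing.eq_maximalIdeal
        (Ideal.IsMaximal.eq_of_le (maximalIdeal.isMaximal A) hp.ne_top hqp ▸
          maximalIdeal.isMaximal A)))
    have het : Algebra.IsEtaleAt A q := h ⟨q, inferInstance⟩ hqne
    haveI : Algebra.FormallyEtale A (Localization.AtPrime q) := het
    haveI : Algebra.FormallyUnramified A (Localization.AtPrime q) := inferInstance
    let E : Localization.AtPrime q ≃ₐ[B] Localization.AtPrime Q.asIdeal :=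
      IsLocalization.localizationLocalizationAtPrimeIsoLocalization M Q.asIdeal
    haveI : Algebra.FormallyUnramified A (Localization.AtPrime Q.asIdeal) :=
      Algebra.FormallyUnramified.of_equiv (E.restrictScalars A)
    exact Algebra.FormallyUnramified.of_restrictScalars A (Localization.AtPrime p) _
  obtain ⟨c, hc⟩ := exists_dualFamily_of_unramified bp
  have hunit : IsUnit (Algebra.discr (Localization.AtPrime p) bp) :=
    (exists_dualFamily_iff_isUnit_discr bp).mp ⟨c, hc⟩
  rw [hdisc] at hunit
  exact (IsLocalization.AtPrime.isUnit_to_map_iff (Localization.AtPrime p) p d).mp hunit hdp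

end Groth.Agent.Helper3.EtPunct
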