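import Mathlib

set_option autoImplicit false
set_option linter.style.haveILetI false
set_option linter.unusedSectionVars false
set_option linter.unusedVariables false
set_option linter.deprecated false
set_option linter.style.haveILetI false
set_option linter.unusedSectionVars false
set_option linter.unusedVariables false

/-!
# Invariants of a subgroup are standard étale over the invariants of the group, away from a
discriminant-like element

`G` finite acting on `R`, `B = R^G`, `H ≤ G`, `θ ∈ R^H` with conjugates `τθ` (`τ ∈ G/H`),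
`F = ∏ (X - τθ) ∈ B[X]`, `u = ∏_{τ ≠ 1} (θ - τθ) = F'(θ) ∈ R^H`.  Then `(R^H)[1/u] ≅ (B[X]/F)[1/F']`.
This file: the polynomial identities (Lagrange interpolation).
-/

namespace Groth.Agent.Helper3.StdInv

open Polynomial

universe u v w

section Conj

variable {R : Type v} [CommRing R] {G : Type w} [Group G] [MulSemiringAction G R] (H : Subgroup G)

/-- The conjugates of an `H`-invariant element, indexed by `G ⧸ H`. -/
def conj (θ : R) (hθ : ∀ h ∈ H, h • θ = θ) : G ⧸ H → R :=
  Quotient.lift (fun g : G => g • θ) (fun a b hab => by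
    have h1 : a⁻¹ * b ∈ H := QuotientGroup.leftRel_apply.mp hab
    have h2 := hθ _ h1
    calc a • θ = a • ((a⁻¹ * b) • θ) := by rw [h2]
      _ = b • θ := by rw [smul_smul, mul_inv_cancel_left])

variable {H} {θ : R} (hθ : ∀ h ∈ H, h • θ = θ)

@[simp] lemma conj_mk (g : G) : conj H θ hθ (g : G ⧸ H) = g • θ := rfl

lemma conj_smul (g : G) (x : G ⧸ H) : conj H θ hθ (g • x) = g • conj H θ hθ x := by
  induction x using QuotientGroup.induction_on with
  | H a =>
    rw [MulAction.Quotient.smul_mk, conj_mk, conj_mk, smul_eq_mul, mul_smul]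

lemma conj_one : conj H θ hθ ((1 : G) : G ⧸ H) = θ := by simp

end Conj

section Poly

variable {R : Type v} [CommRing R] {ι : Type*} [Fintype ι] [DecidableEq ι]

/-- `∏ (X - c x)`. -/
noncomputable def F (c : ι → R) : R[X] := ∏ x, (X - C (c x))

/-- `∏_{y ≠ x} (X - c y)`. -/
noncomputable def Fx (c : ι → R) (x : ι) : R[X] := ∏ y ∈ Finset.univ.erase x, (X - C (c y))

/-- The Lagrange interpolation numerator `∑ d x ∏_{y ≠ x} (X - c y)`. -/
noncomputable def L (c d : ι → R) : R[X] := ∑ x, C (d x) * Fx c x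

lemma F_monic (c : ι → R) : (F c).Monic := monic_prod_of_monic _ _ fun _ _ => monic_X_sub_C _

lemma mul_Fx (c : ι → R) (x : ι) : (X - C (c x)) * Fx c x = F c :=
  Finset.mul_prod_erase _ _ (Finset.mem_univ x)

lemma derivative_F (c : ι → R) : derivative (F c) = ∑ x, Fx c x := by
  rw [F, derivative_prod_finset]
  refine Finset.sum_congr rfl fun x _ => ?_
  simp [Fx]

lemma eval_Fx_of_ne (c : ι → R) {x x₀ : ι} (h : x ≠ x₀) : (Fx c x).eval (c x₀) = 0 := by
  rw [Fx, eval_prod]
  exact Finset.prod_eq_zero (Finset.mem_erase.mpr ⟨h.symm, Finset.mem_univ _⟩) (by simp)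

lemma eval_Fx_self (c : ι → R) (x₀ : ι) :
    (Fx c x₀).eval (c x₀) = ∏ y ∈ Finset.univ.erase x₀, (c x₀ - c y) := by
  rw [Fx, eval_prod]
  simp

lemma eval_F (c : ι → R) (x₀ : ι) : (F c).eval (c x₀) = 0 := by
  rw [← mul_Fx c x₀]; simp

lemma eval_derivative_F (c : ι → R) (x₀ : ι) :
    (derivative (F c)).eval (c x₀) = ∏ y ∈ Finset.univ.erase x₀, (c x₀ - c y) := by
  rw [derivative_F, eval_finsetSum, Finset.sum_eq_single x₀, eval_Fx_self]
  · intro x _ hx; exact eval_Fx_of_ne c hx
  · intro h; exact absurd (Finset.mem_univ _) h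

lemma eval_L (c d : ι → R) (x₀ : ι) :
    (L c d).eval (c x₀) = d x₀ * ∏ y ∈ Finset.univ.erase x₀, (c x₀ - c y) := by
  rw [L, eval_finsetSum, Finset.sum_eq_single x₀]
  · rw [eval_mul, eval_C, eval_Fx_self]
  · intro x _ hx; rw [eval_mul, eval_Fx_of_ne c hx, mul_zero]
  · intro h; exact absurd (Finset.mem_univ _) h

/-- a polynomial vanishing at all the `c x` has `F ∣ F' * g`. -/
lemma F_dvd_derivative_mul (c : ι → R) (g : R[X]) (hg : ∀ x, g.eval (c x) = 0) :
    F c ∣ derivative (F c) * g := by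
  rw [derivative_F, Finset.sum_mul]
  refine Finset.dvd_sum fun x _ => ?_
  obtain ⟨q, hq⟩ := dvd_iff_isRoot.mpr (hg x)
  rw [hq, ← mul_Fx c x]
  exact ⟨q, by ring⟩

/-- reindexing -/
lemma map_F {S : Type*} [CommRing S] (f : R →+* S) (c : ι → R) :
    (F c).map f = F (fun x => f (c x)) := by
  simp [F, Polynomial.map_prod]

lemma map_Fx {S : Type*} [CommRing S] (f : R →+* S) (c : ι → R) (x : ι) :
    (Fx c x).map f = Fx (fun x => f (c x)) x := by
  simp [Fx, Polynomial.map_prod]

lemma map_L {S : Type*} [CommRing S] (f : R →+* S) (c d : ι → R) :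
    (L c d).map f = L (fun x => f (c x)) (fun x => f (d x)) := by
  simp [L, Polynomial.map_sum, map_Fx]

lemma F_comp_equiv (c : ι → R) (e : ι ≃ ι) : F (fun x => c (e x)) = F c := by
  simp only [F]
  exact Fintype.prod_equiv e _ _ (fun x => rfl)

lemma Fx_comp_equiv (c : ι → R) (e : ι ≃ ι) (x : ι) : Fx (fun x => c (e x)) x = Fx c (e x) := by
  simp only [Fx]
  refine Finset.prod_bij (fun y _ => e y) ?_ ?_ ?_ ?_
  · intro y hy
    rw [Finset.mem_erase] at hy ⊢
    exact ⟨fun h => hy.1 (e.injective h), Finset.mem_univ _⟩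
  · intro a _ b _ hab; exact e.injective hab
  · intro b hb
    rw [Finset.mem_erase] at hb
    refine ⟨e.symm b, ?_, by simp⟩
    rw [Finset.mem_erase]
    exact ⟨fun h => hb.1 (by rw [← h]; simp), Finset.mem_univ _⟩
  · intro a _; rfl

lemma L_comp_equiv (c d : ι → R) (e : ι ≃ ι) :
    L (fun x => c (e x)) (fun x => d (e x)) = L c d := by
  simp only [L, Fx_comp_equiv]
  exact Fintype.sum_equiv e _ _ (fun x => rfl)

end Poly

end Groth.Agent.Helper3.StdInv
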