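import Mathlib
import Groth.Agent.Helper3.StdInv1

set_option autoImplicit false
set_option linter.style.haveILetI false
set_option linter.unusedSectionVars false
set_option linter.unusedVariables false
set_option linter.deprecated false
set_option linter.style.haveILetI false
set_option linter.unusedSectionVars false
set_option linter.unusedVariables false

namespace Groth.Agent.Helper3.StdInv

open Polynomial

universe u v w

/-- A ring map which is injective up to `v` and surjective up to `u = ε v` becomes an isomorphism
after inverting `v`, `u`. -/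
theorem isLocalization_away_of_hom {E S : Type*} [CommRing E] [CommRing S] (ε : E →+* S) (v : E)
    (u : S) (hv : ε v = u) (hinj : ∀ w, ε w = 0 → v * w = 0) (hsurj : ∀ s, ∃ w, ε w = u * s)
    (T : Type*) [CommRing T] [Algebra S T] [IsLocalization.Away u T] [Algebra E T]
    (hET : algebraMap E T = (algebraMap S T).comp ε) :
    IsLocalization.Away v T := by
  have hET' : ∀ w, algebraMap E T w = algebraMap S T (ε w) := fun w => by rw [hET]; rfl
  refine ⟨?_, ?_, ?_⟩
  · rintro ⟨_, n, rfl⟩
    simp only [hET', map_pow, hv]
    exact (IsLocalization.Away.algebraMap_isUnit (S := T) u).pow n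
  · intro z
    obtain ⟨⟨s, ⟨_, n, rfl⟩⟩, hs⟩ := IsLocalization.surj (Submonoid.powers u) z
    obtain ⟨w, hw⟩ := hsurj s
    refine ⟨⟨w, ⟨v ^ (n + 1), n + 1, rfl⟩⟩, ?_⟩
    simp only at hs ⊢
    rw [hET', hET', hw, map_pow, hv, map_mul, ← hs, map_pow, map_pow, pow_succ]
    ring
  · intro x y hxy
    rw [hET', hET'] at hxy
    obtain ⟨⟨_, k, rfl⟩, hk⟩ := (IsLocalization.eq_iff_exists (Submonoid.powers u) T).mp hxy
    simp only at hk
    have h1 : ε (v ^ k * (x - y)) = 0 := by
      rw [map_mul, map_pow, hv, map_sub, mul_sub, hk, sub_self]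
    have h2 := hinj _ h1
    refine ⟨⟨v ^ (k + 1), k + 1, rfl⟩, ?_⟩
    simp only
    rw [← sub_eq_zero, ← mul_sub, pow_succ', mul_assoc]
    exact h2

section Main

variable (B : Type u) (R : Type v) (G : Type w) [CommRing B] [CommRing R] [Algebra B R]
  [Group G] [Finite G] [MulSemiringAction G R] [SMulCommClass G B R] [Algebra.IsInvariant B R G]
  (H : Subgroup G)
  (S : Type v) [CommRing S] [Algebra B S] [Algebra S R] [IsScalarTower B S R]

/-- a polynomial over `R` whose image under every `σ` is itself lifts to `B`. -/
lemma mem_lifts_of_invariant (p : R[X])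
    (hp : ∀ σ : G, p.map (MulSemiringAction.toRingHom G R σ) = p) :
    p ∈ Polynomial.lifts (algebraMap B R) := by
  refine p.lifts_iff_coeff_lifts.mpr fun n => ?_
  refine Algebra.IsInvariant.isInvariant (A := B) (G := G) _ fun σ => ?_
  have := congrArg (fun r => r.coeff n) (hp σ)
  simpa [coeff_map] using this

/-- **Standard étale structure of invariants of a subgroup.** -/
theorem etale_away (hinj : Function.Injective (algebraMap B R))
    (hSinj : Function.Injective (algebraMap S R))
    (hS : ∀ r : R, (∀ h ∈ H, h • r = r) ↔ r ∈ Set.range (algebraMap S R)) (θ : S) :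
    ∃ u : S, (∀ q : Ideal R, q.IsPrime →
        (∀ τ : G, τ ∉ H → algebraMap S R θ - τ • algebraMap S R θ ∉ q) → algebraMap S R u ∉ q) ∧
      Algebra.Etale B (Localization.Away u) := by
  classical
  letI : Fintype (G ⧸ H) := Fintype.ofFinite _
  set θR := algebraMap S R θ with hθR
  have hfix : ∀ s : S, ∀ h ∈ H, h • algebraMap S R s = algebraMap S R s :=
    fun s => (hS _).mpr ⟨s, rfl⟩
  set c := conj H θR (hfix θ) with hc
  set x₀ : G ⧸ H := ((1 : G) : G ⧸ H) with hx₀
  have hcx₀ : c x₀ = θR := conj_one (hfix θ)
  -- invariance of `F c`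
  have hFinv : ∀ σ : G, (F c).map (MulSemiringAction.toRingHom G R σ) = F c := by
    intro σ
    rw [map_F]
    have : (fun x => (MulSemiringAction.toRingHom G R σ) (c x)) =
        fun x => c (MulAction.toPerm σ x) := by
      funext x
      simp only [MulSemiringAction.toRingHom_apply, MulAction.toPerm_apply, hc, conj_smul]
    rw [this, F_comp_equiv]
  obtain ⟨FB, hFB, -, hFBm⟩ := Polynomial.lifts_and_natDegree_eq_and_monic
    (mem_lifts_of_invariant B R G (F c) hFinv) (F_monic c)
  -- evaluation helper
  have hev : ∀ g : B[X], algebraMap S R (aeval θ g) = (g.map (algebraMap B R)).eval θR := by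
    intro g
    rw [← Polynomial.aeval_algebraMap_apply, eval_map, ← aeval_def]
  have hroot : aeval θ FB = 0 := by
    apply hSinj
    rw [hev, hFB, map_zero, ← hcx₀, eval_F]
  set u : S := aeval θ (derivative FB) with hu
  have huR : algebraMap S R u = ∏ y ∈ Finset.univ.erase x₀, (θR - c y) := by
    rw [hu, hev, ← derivative_map, hFB, ← hcx₀, eval_derivative_F]
  refine ⟨u, ?_, ?_⟩
  · intro q hq hτ
    rw [huR, hq.prod_mem_iff]
    rintro ⟨y, hy, hmem⟩
    induction y using QuotientGroup.induction_on with
    | H τ =>
      refine hτ τ (fun hτH => ?_) (by simpa [hc] using hmem)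
      rw [Finset.mem_erase] at hy
      apply hy.1
      rw [hx₀, QuotientGroup.eq]
      simpa using H.inv_mem hτH
  · -- the étale structure
    set E := AdjoinRoot FB
    let ε : E →ₐ[B] S := AdjoinRoot.liftAlgHom FB (Algebra.ofId B S) θ (by
      rw [← hroot, aeval_def]; rfl)
    have hε : ∀ g : B[X], ε (AdjoinRoot.mk FB g) = aeval θ g := by
      intro g
      simp only [ε, AdjoinRoot.liftAlgHom_mk, aeval_def]
      rfl
    set v : E := AdjoinRoot.mk FB (derivative FB)
    have hεv : ε v = u := hε _
    have hinjε : ∀ w : E, ε w = 0 → v * w = 0 := by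
      intro w hw
      obtain ⟨g, rfl⟩ := AdjoinRoot.mk_surjective w
      rw [hε] at hw
      have h1 : (g.map (algebraMap B R)).eval θR = 0 := by rw [← hev, hw, map_zero]
      have h2 : ∀ x, (g.map (algebraMap B R)).eval (c x) = 0 := by
        intro x
        induction x using QuotientGroup.induction_on with
        | H τ =>
          rw [hc, conj_mk, eval_map, ← aeval_def]
          have := Polynomial.aeval_algHom_apply (MulSemiringAction.toAlgHom B R τ) θR g
          rw [MulSemiringAction.toAlgHom_apply] at this
          rw [this, aeval_def, ← eval_map, h1, MulSemiringAction.toAlgHom_apply, smul_zero]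
      have h3 := F_dvd_derivative_mul c _ h2
      rw [← hFB, derivative_map, ← Polynomial.map_mul,
        Polynomial.map_dvd_map _ hinj hFBm] at h3
      rw [← map_mul, AdjoinRoot.mk_eq_zero]
      exact h3
    have hsurjε : ∀ s : S, ∃ w : E, ε w = u * s := by
      intro s
      set d := conj H (algebraMap S R s) (hfix s) with hd
      have hLinv : ∀ σ : G, (L c d).map (MulSemiringAction.toRingHom G R σ) = L c d := by
        intro σ
        rw [map_L]
        have h1 : (fun x => (MulSemiringAction.toRingHom G R σ) (c x)) =
            fun x => c (MulAction.toPerm σ x) := by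
          funext x
          simp only [MulSemiringAction.toRingHom_apply, MulAction.toPerm_apply, hc, conj_smul]
        have h2 : (fun x => (MulSemiringAction.toRingHom G R σ) (d x)) =
            fun x => d (MulAction.toPerm σ x) := by
          funext x
          simp only [MulSemiringAction.toRingHom_apply, MulAction.toPerm_apply, hd, conj_smul]
        rw [h1, h2, L_comp_equiv]
      obtain ⟨LB, hLB⟩ := (Polynomial.mem_lifts _).mp
        (mem_lifts_of_invariant B R G (L c d) hLinv)
      refine ⟨AdjoinRoot.mk FB LB, ?_⟩
      rw [hε]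
      apply hSinj
      rw [hev, map_mul, huR, ← hcx₀]
      have : Polynomial.map (algebraMap B R) LB = L c d := hLB
      rw [this, eval_L, hd, hx₀, conj_one, mul_comm]
    letI : Algebra E (Localization.Away u) :=
      ((algebraMap S (Localization.Away u)).comp ε.toRingHom).toAlgebra
    haveI hloc : IsLocalization.Away v (Localization.Away u) :=
      isLocalization_away_of_hom ε.toRingHom v u hεv hinjε hsurjε (Localization.Away u) rfl
    haveI : IsScalarTower B E (Localization.Away u) := IsScalarTower.of_algebraMap_eq (fun b => by
      change algebraMap B (Localization.Away u) b =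
        algebraMap S (Localization.Away u) (ε (algebraMap B E b))
      rw [ε.commutes, ← IsScalarTower.algebraMap_apply])
    let P : StandardEtalePair B := ⟨FB, hFBm, derivative FB, ⟨1, 0, 1, by simp⟩⟩
    let e1 : P.Ring ≃ₐ[B] Localization.Away v := P.equivAwayAdjoinRoot
    let e2 : Localization.Away v ≃ₐ[B] Localization.Away u :=
      (IsLocalization.algEquiv (Submonoid.powers v) (Localization.Away v)
        (Localization.Away u)).restrictScalars B
    exact Algebra.Etale.of_equiv (e1.trans e2)

end Main

end Groth.Agent.Helper3.StdInv
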