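import Mathlib
import Groth.Agent.Helper8.UnramInertia

set_option autoImplicit false
set_option linter.style.haveILetI false
set_option linter.unusedSectionVars false
set_option linter.unusedVariables false
set_option linter.deprecated false
set_option linter.style.haveILetI false
set_option linter.unusedSectionVars false
set_option linter.unusedVariables false

/-!
# Elements with prescribed behaviour modulo a prime under a finite group action
-/

namespace Groth.Agent.Helper3.StdInv

open Polynomial
open scoped Pointwise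

universe u v w

/-- A finite group acting on a domain: some element is fixed only by the elements acting
trivially. -/
theorem exists_free_of_domain (Q : Type v) [CommRing Q] [IsDomain Q] (Γ : Type w) [Group Γ]
    [Finite Γ] [MulSemiringAction Γ Q] :
    ∃ y : Q, ∀ γ : Γ, γ • y = y → ∀ x : Q, γ • x = x := by
  classical
  cases nonempty_fintype Γ
  let L := FractionRing Q
  letI : MulSemiringAction Γ L := IsFractionRing.mulSemiringAction Γ Q L
  haveI : SMulDistribClass Γ Q L := IsFractionRing.smulDistribClass Γ Q L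
  have hsm : ∀ (γ : Γ) (b : Q), γ • algebraMap Q L b = algebraMap Q L (γ • b) := fun γ b =>
    (algebraMap.coe_smul' γ b L).symm
  obtain ⟨θ, hθ⟩ := Groth.Agent.Helper8.Unram.exists_free_element (FixedPoints.subfield Γ L) L
  obtain ⟨a, b, hb, rfl⟩ := IsFractionRing.div_surjective Q θ
  have hb0 : b ≠ 0 := nonZeroDivisors.ne_zero hb
  set b' : Q := ∏ γ : Γ, γ • b with hb'
  have hb'0 : b' ≠ 0 := by
    rw [hb', Finset.prod_ne_zero_iff]
    intro γ _ h
    apply hb0
    have := congrArg (fun z => γ⁻¹ • z) h
    simpa using this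
  have hb'inv : ∀ γ : Γ, γ • b' = b' := fun γ => Finset.smul_prod_perm b γ
  have hb'b : b ∣ b' := by
    rw [hb']
    have := Finset.dvd_prod_of_mem (fun γ : Γ => γ • b) (Finset.mem_univ (1 : Γ))
    simpa using this
  obtain ⟨t, ht⟩ := hb'b
  refine ⟨a * t, fun γ hγ x => ?_⟩
  have hLb : algebraMap Q L b ≠ 0 := by
    rwa [Ne, IsFractionRing.to_map_eq_zero_iff]
  have hLb' : algebraMap Q L b' ≠ 0 := by
    rwa [Ne, IsFractionRing.to_map_eq_zero_iff]
  have hkey : algebraMap Q L (a * t) = (algebraMap Q L a / algebraMap Q L b) * algebraMap Q L b' := by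
    rw [ht, map_mul, map_mul, eq_comm, div_mul_eq_mul_div, div_eq_iff hLb]
    ring
  have h1 : γ • (algebraMap Q L a / algebraMap Q L b) = algebraMap Q L a / algebraMap Q L b := by
    have h2 : γ • algebraMap Q L (a * t) = algebraMap Q L (a * t) := by rw [hsm, hγ]
    rw [hkey, smul_mul', hsm, hb'inv] at h2
    exact mul_right_cancel₀ hLb' h2
  have h3 := hθ (MulSemiringAction.toAlgAut Γ (FixedPoints.subfield Γ L) L γ) h1
  have h4 : γ • algebraMap Q L x = algebraMap Q L x := by
    have := congrArg (fun σ : L ≃ₐ[FixedPoints.subfield Γ L] L => σ (algebraMap Q L x)) h3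
    simpa using this
  rw [hsm] at h4
  exact IsFractionRing.injective Q L h4

section QuotAct

variable {R : Type v} [CommRing R] {G : Type w} [Group G] [MulSemiringAction G R] (q : Ideal R)

lemma le_comap_of_mem_stabilizer (δ : MulAction.stabilizer G q) :
    q ≤ q.comap (MulSemiringAction.toRingHom G R δ.1) := by
  intro x hx
  rw [Ideal.mem_comap]
  have h1 := Ideal.smul_mem_pointwise_smul δ.1 x q hx
  rw [MulAction.mem_stabilizer_iff.mp δ.2] at h1
  exact h1

/-- The stabilizer acts on the quotient. -/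
noncomputable def quotHom : MulAction.stabilizer G q →* ((R ⧸ q) →+* (R ⧸ q)) where
  toFun δ := Ideal.quotientMap q (MulSemiringAction.toRingHom G R δ.1)
    (le_comap_of_mem_stabilizer q δ)
  map_one' := by
    apply Ideal.Quotient.ringHom_ext
    ext x
    simp
  map_mul' δ δ' := by
    apply Ideal.Quotient.ringHom_ext
    ext x
    simp [mul_smul]

/-- The stabilizer acts on the quotient. -/
noncomputable def quotAction : MulSemiringAction (MulAction.stabilizer G q) (R ⧸ q) :=
  MulSemiringAction.compHom (R ⧸ q) (quotHom q)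

lemma quotAction_mk (δ : MulAction.stabilizer G q) (x : R) :
    letI := quotAction (G := G) q
    δ • (Ideal.Quotient.mk q x) = Ideal.Quotient.mk q (δ.1 • x) := by
  letI := quotAction (G := G) q
  change quotHom q δ (Ideal.Quotient.mk q x) = _
  simp [quotHom]

end QuotAct

section Moved

variable {R : Type v} [CommRing R] {G : Type w} [Group G] [Finite G] [MulSemiringAction G R]
  (q : Ideal R) [q.IsPrime]

/-- An element moved modulo `q` by every element of the decomposition group outside the inertia
group. -/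
theorem exists_moved : ∃ y : R, ∀ δ : G, δ ∈ MulAction.stabilizer G q → δ ∉ q.inertia G →
    δ • y - y ∉ q := by
  letI := quotAction (G := G) q
  obtain ⟨ybar, hy⟩ := exists_free_of_domain (R ⧸ q) (MulAction.stabilizer G q)
  obtain ⟨y, rfl⟩ := Ideal.Quotient.mk_surjective ybar
  refine ⟨y, fun δ hδ hδI hmem => hδI ?_⟩
  have h1 : (⟨δ, hδ⟩ : MulAction.stabilizer G q) • Ideal.Quotient.mk q y = Ideal.Quotient.mk q y := by
    rw [quotAction_mk]
    exact Ideal.Quotient.eq.mpr hmem
  have h2 := hy _ h1
  intro x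
  have h3 := h2 (Ideal.Quotient.mk q x)
  rw [quotAction_mk] at h3
  exact Ideal.Quotient.eq.mp h3

/-- An element invariant under the decomposition group, outside `q`, all of whose conjugates by
elements outside the decomposition group lie in `q`. -/
theorem exists_decomp_elt : ∃ e : R, (∀ δ ∈ MulAction.stabilizer G q, δ • e = e) ∧ e ∉ q ∧
    ∀ ρ : G, ρ ∉ MulAction.stabilizer G q → ρ • e ∈ q := by
  classical
  cases nonempty_fintype G
  have h1 : ∀ ρ : G, ρ ∉ MulAction.stabilizer G q → ∃ e : R, e ∉ q ∧ ρ • e ∈ q := by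
    intro ρ hρ
    have h2 : ¬ (ρ⁻¹ • q ≤ q) := by
      intro hle
      apply hρ
      have := smul_eq_of_smul_le hle
      rw [MulAction.mem_stabilizer_iff]
      rw [inv_smul_eq_iff] at this
      exact this.symm
    obtain ⟨e, he, heq⟩ := SetLike.not_le_iff_exists.mp h2
    refine ⟨e, heq, ?_⟩
    rw [Ideal.mem_pointwise_smul_iff_inv_smul_mem, inv_inv] at he
    exact he
  choose! f hf1 hf2 using h1
  set e₀ : R := ∏ ρ ∈ Finset.univ.filter (fun ρ : G => ρ ∉ MulAction.stabilizer G q), f ρ with he₀
  have he₀q : e₀ ∉ q := by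
    rw [he₀, Ideal.IsPrime.prod_mem_iff]
    rintro ⟨ρ, hρ, hmem⟩
    exact hf1 ρ (Finset.mem_filter.mp hρ).2 hmem
  have he₀ρ : ∀ ρ : G, ρ ∉ MulAction.stabilizer G q → ρ • e₀ ∈ q := by
    intro ρ hρ
    rw [he₀, Finset.smul_prod']
    exact Ideal.prod_mem (s := Finset.univ.filter (fun ρ : G => ρ ∉ MulAction.stabilizer G q))
      q (Finset.mem_filter.mpr ⟨Finset.mem_univ ρ, hρ⟩) (hf2 ρ hρ)
  refine ⟨∏ δ : MulAction.stabilizer G q, δ • e₀, ?_, ?_, ?_⟩
  · intro δ hδ
    exact Finset.smul_prod_perm e₀ (⟨δ, hδ⟩ : MulAction.stabilizer G q)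
  · rw [Ideal.IsPrime.prod_mem_iff]
    rintro ⟨δ, -, hmem⟩
    apply he₀q
    have h2 := Ideal.smul_mem_pointwise_smul (δ⁻¹ : MulAction.stabilizer G q).1 _ q hmem
    rw [MulAction.mem_stabilizer_iff.mp (δ⁻¹).2] at h2
    have h3 : (δ⁻¹ : MulAction.stabilizer G q).1 • (δ • e₀) = e₀ := by
      change (δ⁻¹ : MulAction.stabilizer G q) • (δ • e₀) = e₀
      rw [inv_smul_smul]
    rwa [h3] at h2
  · intro ρ hρ
    rw [Finset.smul_prod']
    apply Ideal.prod_mem (s := Finset.univ) q (Finset.mem_univ (1 : MulAction.stabilizer G q))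
    rw [one_smul]
    exact he₀ρ ρ hρ

end Moved

end Groth.Agent.Helper3.StdInv
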