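import Mathlib
import Groth.Agent.Helper3.StdInv3

set_option autoImplicit false
set_option linter.style.haveILetI false
set_option linter.unusedSectionVars false
set_option linter.unusedVariables false
set_option linter.deprecated false
set_option linter.style.haveILetI false
set_option linter.unusedSectionVars false
set_option linter.unusedVariables false

namespace Groth.Agent.Helper3.StdInv

open Polynomial
open scoped Pointwise

universe u v w

section PPow

variable {R : Type v} [CommRing R] {G : Type w} [Group G] [Finite G] [MulSemiringAction G R]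
  (q : Ideal R) [q.IsPrime]

/-- Every residue is, up to an injective "twisted power" map, the residue of an element invariant
under the inertia group. -/
theorem exists_inertia_invariant :
    ∃ (k m : ℕ), (m : R ⧸ q) ≠ 0 ∧ (∀ a b : R ⧸ q, a ^ k = b ^ k → a = b) ∧
      ∀ y : R, ∃ c : R, (∀ ι ∈ q.inertia G, ι • c = c) ∧
        Ideal.Quotient.mk q c = -((m : R ⧸ q) * (Ideal.Quotient.mk q y) ^ k) := by
  classical
  set Q := R ⧸ q
  set I := q.inertia G with hI
  letI : Fintype I := Fintype.ofFinite _
  set N := Fintype.card I with hN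
  have hN0 : N ≠ 0 := Fintype.card_ne_zero
  -- exponential characteristic
  obtain ⟨p, hp⟩ : ∃ p, ExpChar Q p := ⟨ringExpChar Q, inferInstance⟩
  obtain ⟨a, m, hm, hNam⟩ : ∃ a m : ℕ, (m : Q) ≠ 0 ∧ N = p ^ a * m := by
    cases hp with
    | zero => exact ⟨0, N, Nat.cast_ne_zero.mpr hN0, by simp⟩
    | prime hprime =>
      obtain ⟨e, n', hn', hNe⟩ := Nat.exists_eq_pow_mul_and_not_dvd hN0 p hprime.ne_one
      refine ⟨e, n', ?_, hNe⟩
      rwa [Ne, CharP.cast_eq_zero_iff Q p]
  have hm0 : m ≠ 0 := by rintro rfl; simp at hm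
  obtain ⟨m', rfl⟩ := Nat.exists_eq_succ_of_ne_zero hm0
  refine ⟨p ^ a, m' + 1, hm, ?_, ?_⟩
  · intro x y hxy
    have h1 : (x - y) ^ p ^ a = 0 := by rw [sub_pow_expChar_pow, hxy, sub_self]
    exact sub_eq_zero.mp (pow_eq_zero_iff (pow_ne_zero a (expChar_ne_zero Q p)) |>.mp h1)
  · intro y
    set P := MulSemiringAction.charpoly I y with hP
    refine ⟨P.coeff (m' * p ^ a), ?_, ?_⟩
    · intro ι hι
      exact MulSemiringAction.smul_coeff_charpoly y (m' * p ^ a) (⟨ι, hι⟩ : I)
    · set ybar := Ideal.Quotient.mk q y
      have h1 : P.map (Ideal.Quotient.mk q) = (X - C ybar) ^ N := by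
        rw [hP, MulSemiringAction.charpoly_eq, Polynomial.map_prod]
        have : ∀ g : I, ((X - C (g • y)) : R[X]).map (Ideal.Quotient.mk q) = X - C ybar := by
          intro g
          rw [Polynomial.map_sub, Polynomial.map_X, Polynomial.map_C]
          congr 2
          exact Ideal.Quotient.eq.mpr (g.2 y)
        simp_rw [this]
        rw [Finset.prod_const, Finset.card_univ]
      have h2 : (X - C ybar) ^ N = expand Q (p ^ a) ((X + C (-(ybar ^ p ^ a))) ^ (m' + 1)) := by
        rw [hNam, pow_mul, sub_pow_expChar_pow, map_pow, map_add, expand_X, expand_C, ← C_pow,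
          C_neg, sub_eq_add_neg]
      rw [← Polynomial.coeff_map, h1, h2,
        Polynomial.coeff_expand_mul (pow_pos (expChar_pos Q p) a), coeff_X_add_C_pow]
      simp
      ring

end PPow

end Groth.Agent.Helper3.StdInv
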