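import Mathlib
import Groth.Agent.Helper3.StdInv2
import Groth.Agent.Helper3.StdInv4

set_option autoImplicit false
set_option linter.style.haveILetI false
set_option linter.unusedSectionVars false
set_option linter.unusedVariables false
set_option linter.deprecated false
set_option linter.style.haveILetI false
set_option linter.unusedSectionVars false
set_option linter.unusedVariables false

/-!
# The inertia invariants are étale over the invariants at the given prime
-/

namespace Groth.Agent.Helper3.StdInv

open Polynomial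
open scoped Pointwise

universe u v w

section Theta

variable {R : Type v} [CommRing R] {G : Type w} [Group G] [Finite G] [MulSemiringAction G R]
  (q : Ideal R) [q.IsPrime]

/-- An inertia-invariant element all of whose conjugates by elements outside the inertia group
differ from it modulo `q`. -/
theorem exists_theta : ∃ θ : R, (∀ ι ∈ q.inertia G, ι • θ = θ) ∧
    ∀ τ : G, τ ∉ q.inertia G → θ - τ • θ ∉ q := by
  obtain ⟨k, m, hm, hk, hc⟩ := exists_inertia_invariant (G := G) q
  obtain ⟨e, heD, heq, heρ⟩ := exists_decomp_elt (G := G) q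
  obtain ⟨y₀, hy₀⟩ := exists_moved (G := G) q
  have hstab : ∀ δ ∈ MulAction.stabilizer G q, ∀ x ∈ q, δ • x ∈ q := by
    intro δ hδ x hx
    have h1 := Ideal.smul_mem_pointwise_smul δ x q hx
    rwa [MulAction.mem_stabilizer_iff.mp hδ] at h1
  obtain ⟨y, hyq, hy⟩ : ∃ y : R, y ∉ q ∧ ∀ δ : G, δ ∈ MulAction.stabilizer G q →
      δ ∉ q.inertia G → δ • y - y ∉ q := by
    by_cases h : y₀ ∈ q
    · refine ⟨1, (Ideal.ne_top_iff_one q).mp (Ideal.IsPrime.ne_top ‹_›), fun δ hδ hδI => ?_⟩
      exact absurd (sub_mem (hstab δ hδ y₀ h) h) (hy₀ δ hδ hδI)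
    · exact ⟨y₀, h, hy₀⟩
  obtain ⟨c, hcI, hcmk⟩ := hc y
  have hcq : c ∉ q := by
    intro hcq
    rw [← Ideal.Quotient.eq_zero_iff_mem, hcmk, neg_eq_zero, mul_eq_zero] at hcq
    rcases hcq with h | h
    · exact hm h
    · exact hyq (Ideal.Quotient.eq_zero_iff_mem.mp (eq_zero_of_pow_eq_zero h))
  have hcD : ∀ δ : G, δ ∈ MulAction.stabilizer G q → δ ∉ q.inertia G → c - δ • c ∉ q := by
    intro δ hδ hδI hmem
    apply hy δ hδ hδI
    have h1 : Ideal.Quotient.mk q (δ • c) =
        -((m : R ⧸ q) * (Ideal.Quotient.mk q (δ • y)) ^ k) := by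
      have h2 := congrArg (quotHom q (⟨δ, hδ⟩ : MulAction.stabilizer G q)) hcmk
      simpa [quotHom] using h2
    have h3 : Ideal.Quotient.mk q c = Ideal.Quotient.mk q (δ • c) := Ideal.Quotient.eq.mpr hmem
    rw [hcmk, h1, neg_inj] at h3
    have h4 := hk _ _ (mul_left_cancel₀ hm h3)
    exact Ideal.Quotient.eq.mp h4.symm
  refine ⟨c * e, fun ι hι => ?_, fun τ hτ => ?_⟩
  · rw [smul_mul', hcI ι hι, heD ι (Ideal.inertia_le_stabilizer q hι)]
  · by_cases hτD : τ ∈ MulAction.stabilizer G q
    · have h1 : c * e - τ • (c * e) = (c - τ • c) * e := by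
        rw [smul_mul', heD τ hτD]; ring
      rw [h1]
      intro hmem
      rcases (Ideal.IsPrime.mem_or_mem ‹_› hmem) with h | h
      · exact hcD τ hτD hτ h
      · exact heq h
    · intro hmem
      have h1 : τ • (c * e) ∈ q := by
        rw [smul_mul']
        exact Ideal.mul_mem_left _ _ (heρ τ hτD)
      have h2 : c * e ∈ q := by
        have := add_mem hmem h1
        simpa using this
      rcases (Ideal.IsPrime.mem_or_mem ‹_› h2) with h | h
      · exact hcq h
      · exact heq h

end Theta

/-- **The inertia invariants are étale over the invariants at the prime below `q`.** -/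
theorem etale_inertia (G R : Type u) [Group G] [Finite G] [CommRing R] [MulSemiringAction G R]
    (q : Ideal R) [q.IsPrime]
    [Algebra (FixedPoints.subring R G) (FixedPoints.subring R (q.inertia G))]
    (halg : ∀ x : FixedPoints.subring R G,
      ((algebraMap (FixedPoints.subring R G) (FixedPoints.subring R (q.inertia G)) x : R)) = x) :
    ∃ g : FixedPoints.subring R (q.inertia G),
      g ∉ q.comap (FixedPoints.subring R (q.inertia G)).subtype ∧
      Algebra.Etale (FixedPoints.subring R G) (Localization.Away g) := by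
  haveI : Algebra.IsInvariant (FixedPoints.subring R G) R G := ⟨fun b hb => ⟨⟨b, hb⟩, rfl⟩⟩
  haveI : IsScalarTower (FixedPoints.subring R G) (FixedPoints.subring R (q.inertia G)) R :=
    IsScalarTower.of_algebraMap_eq (fun x => (halg x).symm)
  obtain ⟨θ, hθI, hθ⟩ := exists_theta (G := G) q
  have hS : ∀ r : R, (∀ h ∈ q.inertia G, h • r = r) ↔
      r ∈ Set.range (algebraMap (FixedPoints.subring R (q.inertia G)) R) := by
    intro r
    constructor
    · intro h
      exact ⟨⟨r, fun g => h g.1 g.2⟩, rfl⟩
    · rintro ⟨s, rfl⟩ h hh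
      exact s.2 ⟨h, hh⟩
  obtain ⟨u, hu, het⟩ := etale_away (FixedPoints.subring R G) R G (q.inertia G)
    (FixedPoints.subring R (q.inertia G)) Subtype.val_injective Subtype.val_injective hS
    ⟨θ, fun g => hθI g.1 g.2⟩
  refine ⟨u, ?_, het⟩
  rw [Ideal.mem_comap]
  exact hu q inferInstance hθ

end Groth.Agent.Helper3.StdInv
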