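import Mathlib
import Groth.Agent.Helper3.StdInv5

set_option autoImplicit false
set_option linter.style.haveILetI false
set_option linter.unusedSectionVars false
set_option linter.unusedVariables false
set_option linter.deprecated false
set_option linter.style.haveILetI false
set_option linter.unusedSectionVars false
set_option linter.unusedVariables false

/-!
# Quotients with locally trivial inertia are étale near the point (ring level)
-/

namespace Groth.Agent.Helper3.EtQuot

open scoped Pointwise

universe u v w

/-- If `S ⊆ R` is a subring, `v ∈ S` and every element of `R` is multiplied into `S` by some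
power of `v`, then any localization of `R` away from `v` is a localization of `S` away from `v`. -/
theorem isLocalization_away_subring {R : Type u} [CommRing R] (S : Subring R) (v : S)
    (hsurj : ∀ r : R, ∃ n : ℕ, (v : R) ^ n * r ∈ S)
    (T : Type v) [CommRing T] [Algebra R T] [IsLocalization.Away (v : R) T] [Algebra S T]
    (hST : ∀ x : S, algebraMap S T x = algebraMap R T (x : R)) :
    IsLocalization.Away v T := by
  refine IsLocalization.Away.mk v ?_ ?_ ?_
  · rw [hST]
    exact IsLocalization.Away.algebraMap_isUnit (S := T) (v : R)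
  · intro z
    obtain ⟨n, a, hna⟩ := IsLocalization.Away.surj (v : R) z
    obtain ⟨m, hm⟩ := hsurj a
    refine ⟨n + m, ⟨(v : R) ^ m * a, hm⟩, ?_⟩
    rw [hST, hST]
    simp only [map_mul, map_pow]
    rw [← hna, pow_add]
    ring
  · intro a b hab
    rw [hST, hST] at hab
    obtain ⟨n, hn⟩ := IsLocalization.Away.exists_of_eq (v : R) hab
    refine ⟨n, ?_⟩
    apply Subtype.val_injective
    simpa using hn

section Ring

variable (B R : Type u) (G : Type w) [CommRing B] [CommRing R] [Algebra B R]
  [Group G] [Finite G] [MulSemiringAction G R] [SMulCommClass G B R] [Algebra.IsInvariant B R G]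

/-- **Locally trivial inertia ⇒ étale near the prime.** -/
theorem etale_of_locally_trivial_inertia (hinj : Function.Injective (algebraMap B R))
    (q : Ideal R) [q.IsPrime] (s : R) (hs : s ∉ q)
    (htriv : ∀ σ ∈ q.inertia G, ∀ r : R, ∃ n : ℕ, s ^ n * (σ • r - r) = 0) :
    ∃ t : R, t ∉ q ∧ ∀ (T : Type u) [CommRing T] [Algebra R T] [IsLocalization.Away t T],
      ((algebraMap R T).comp (algebraMap B R)).Etale := by
  classical
  set H : Subgroup G := q.inertia G with hH
  let S : Subring R := FixedPoints.subring R H
  have hBS : ∀ b : B, algebraMap B R b ∈ S := fun b h => smul_algebraMap (h : G) b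
  letI algBS : Algebra B S := ((algebraMap B R).codRestrict S hBS).toAlgebra
  haveI : IsScalarTower B S R := IsScalarTower.of_algebraMap_eq (fun x => rfl)
  obtain ⟨θ, hθI, hθ⟩ := StdInv.exists_theta (G := G) q
  have hS : ∀ r : R, (∀ h ∈ H, h • r = r) ↔ r ∈ Set.range (algebraMap S R) := by
    intro r
    constructor
    · intro h
      exact ⟨⟨r, fun g => h g.1 g.2⟩, rfl⟩
    · rintro ⟨s, rfl⟩ h hh
      exact s.2 ⟨h, hh⟩
  obtain ⟨u, hu, het⟩ := StdInv.etale_away B R G H S hinj Subtype.val_injective hS
    ⟨θ, fun g => hθI g.1 g.2⟩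
  have huq : (u : R) ∉ q := hu q inferInstance hθ
  letI : Fintype H := Fintype.ofFinite H
  let t₀R : R := ∏ τ : H, (τ : G) • s
  have ht₀S : t₀R ∈ S := by
    intro h
    change (h : G) • (∏ τ : H, (τ : G) • s) = ∏ τ : H, (τ : G) • s
    rw [Finset.smul_prod']
    refine Fintype.prod_equiv (Equiv.mulLeft h) _ _ (fun τ => ?_)
    simp [mul_smul]
  have hmem : ∀ τ : H, (τ : G) • s ∉ q := by
    intro τ hτ
    apply hs
    have h1 : (τ : G) • s - s ∈ q := τ.2 s
    have := sub_mem hτ h1
    simpa using this
  have ht₀q : t₀R ∉ q := by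
    intro h
    rw [Ideal.IsPrime.prod_mem_iff] at h
    obtain ⟨τ, -, hτ⟩ := h
    exact hmem τ hτ
  have hdvd : s ∣ t₀R := by
    have := Finset.dvd_prod_of_mem (fun τ : H => (τ : G) • s) (Finset.mem_univ (1 : H))
    simpa using this
  let t₀ : S := ⟨t₀R, ht₀S⟩
  let v : S := u * t₀
  have hvq : (v : R) ∉ q := by
    change (u : R) * t₀R ∉ q
    intro h
    rcases Ideal.IsPrime.mem_or_mem ‹_› h with h | h
    · exact huq h
    · exact ht₀q h
  have hsv : s ∣ (v : R) := Dvd.dvd.mul_left hdvd _
  refine ⟨(v : R), hvq, ?_⟩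
  intro T _ _ _
  letI algST : Algebra S T := ((algebraMap R T).comp (algebraMap S R)).toAlgebra
  haveI : IsScalarTower S R T := IsScalarTower.of_algebraMap_eq (fun x => rfl)
  -- every element of `R` is multiplied into `S` by a power of `v`
  have hsurj : ∀ r : R, ∃ n : ℕ, (v : R) ^ n * r ∈ S := by
    intro r
    have : ∀ σ : H, ∃ n : ℕ, s ^ n * ((σ : G) • r - r) = 0 := fun σ => htriv σ σ.2 r
    choose n hn using this
    refine ⟨Finset.univ.sup n, fun σ => ?_⟩
    obtain ⟨c, hc⟩ := hsv
    have hσv : (σ : G) • (v : R) = v := v.2 σ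
    change (σ : G) • ((v : R) ^ (Finset.univ.sup n) * r) = (v : R) ^ (Finset.univ.sup n) * r
    rw [smul_mul', smul_pow', hσv, ← sub_eq_zero, ← mul_sub]
    have hle : n σ ≤ Finset.univ.sup n := Finset.le_sup (Finset.mem_univ σ)
    obtain ⟨k, hk⟩ := Nat.exists_eq_add_of_le hle
    rw [hk, pow_add, hc, mul_pow]
    calc s ^ n σ * c ^ n σ * (s * c) ^ k * ((σ : G) • r - r)
        = c ^ n σ * (s * c) ^ k * (s ^ n σ * ((σ : G) • r - r)) := by ring
      _ = 0 := by rw [hn σ, mul_zero]
  haveI hloc : IsLocalization.Away v T :=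
    isLocalization_away_subring S v hsurj T (fun x => rfl)
  -- the model localization, étale over `B`
  let Su := Localization.Away u
  let T' := Localization.Away (algebraMap S Su t₀)
  haveI : IsLocalization.Away (u * t₀) T' := inferInstance
  haveI : Algebra.Etale Su T' := Algebra.Etale.of_isLocalizationAway (algebraMap S Su t₀)
  haveI : Algebra.Etale B Su := het
  haveI : Algebra.Etale B T' := Algebra.Etale.comp B Su T'
  let e : T' ≃ₐ[S] T := IsLocalization.algEquiv (Submonoid.powers v) T' T
  have hcomp : (algebraMap R T).comp (algebraMap B R) =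
      (e : T' →+* T).comp (algebraMap B T') := by
    ext b
    have h1 : algebraMap B T' b = algebraMap S T' (algebraMap B S b) :=
      IsScalarTower.algebraMap_apply B S T' b
    simp only [RingHom.comp_apply]
    rw [h1]
    change _ = e (algebraMap S T' (algebraMap B S b))
    rw [e.commutes]
    rfl
  rw [hcomp]
  exact RingHom.Etale.respectsIso.1 _ e.toRingEquiv (RingHom.etale_algebraMap.mpr inferInstance)

end Ring

end Groth.Agent.Helper3.EtQuot
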