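import Mathlib
import Groth.Prelude
import Groth.Agent.Helper3.EtQuot1
import Groth.Agent.Helper6.QuotAct

set_option autoImplicit false
set_option linter.style.haveILetI false
set_option linter.unusedSectionVars false
set_option linter.unusedVariables false
set_option linter.deprecated false
set_option linter.style.haveILetI false
set_option linter.unusedSectionVars false
set_option linter.unusedVariables false

/-!
# Local rigidity for unramified morphisms and local triviality of inertia
-/

namespace Groth.Agent.Helper3.EtQuot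

open CategoryTheory Limits AlgebraicGeometry

universe u

/-- **Local rigidity**: two `Y`-morphisms to an unramified `Y`-scheme which agree on a field-valued
point agree on an open neighbourhood of that point. -/
theorem exists_open_eq {X X' Y : Scheme.{u}} (s : X' ⟶ Y) [FormallyUnramified s]
    [LocallyOfFiniteType s] (a b : X ⟶ X') (hab : a ≫ s = b ≫ s)
    (K : Type u) [Field K] (ξ : Spec (CommRingCat.of K) ⟶ X) (hξ : ξ ≫ a = ξ ≫ b) :
    ∃ E : X.Opens, ξ.base (IsLocalRing.closedPoint K) ∈ E ∧ E.ι ≫ a = E.ι ≫ b := by
  let c : X ⟶ pullback s s := pullback.lift a b hab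
  have c_fst : c ≫ pullback.fst s s = a := pullback.lift_fst _ _ _
  have c_snd : c ≫ pullback.snd s s = b := pullback.lift_snd _ _ _
  let i : pullback c (pullback.diagonal s) ⟶ X := pullback.fst c (pullback.diagonal s)
  haveI : IsOpenImmersion i := by
    change IsOpenImmersion (pullback.fst c (pullback.diagonal s))
    infer_instance
  have hia : i ≫ a = pullback.snd c (pullback.diagonal s) := by
    rw [← c_fst, ← Category.assoc, pullback.condition, Category.assoc, pullback.diagonal_fst,
      Category.comp_id]
  have hib : i ≫ b = pullback.snd c (pullback.diagonal s) := by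
    rw [← c_snd, ← Category.assoc, pullback.condition, Category.assoc, pullback.diagonal_snd,
      Category.comp_id]
  let l : Spec (CommRingCat.of K) ⟶ pullback c (pullback.diagonal s) :=
    pullback.lift ξ (ξ ≫ a) (by
      apply pullback.hom_ext
      · rw [Category.assoc, c_fst, Category.assoc, pullback.diagonal_fst, Category.comp_id]
      · rw [Category.assoc, c_snd, Category.assoc, pullback.diagonal_snd, Category.comp_id, hξ])
  have hl : l ≫ i = ξ := pullback.lift_fst _ _ _
  refine ⟨i.opensRange, ?_, ?_⟩
  · rw [← hl]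
    exact ⟨l.base (IsLocalRing.closedPoint K), rfl⟩
  · rw [← Scheme.Hom.isoOpensRange_inv_comp i, Category.assoc, Category.assoc, hia, hib]

/-- If `g : X ⟶ X` restricts to the identity on an open `E`, then on an affine open `W` stable
under `g` the pullback of functions along `g` agrees with the identity after inverting a
function not vanishing at a given point of `E ∩ W`. -/
theorem exists_basicOpen_trivial {X : Scheme.{u}} (g : X ⟶ X) (E : X.Opens) (hE : E.ι ≫ g = E.ι)
    (W : X.Opens) (hW : IsAffineOpen W) (he : W ≤ g ⁻¹ᵁ W) (x : X) (hxE : x ∈ E) (hxW : x ∈ W) :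
    ∃ s : Γ(X, W), x ∈ X.basicOpen s ∧
      ∀ r : Γ(X, W), ∃ n : ℕ, s ^ n * ((g.appLE W W he).hom r - r) = 0 := by
  obtain ⟨s, hsE, hxs⟩ := hW.exists_basicOpen_le (V := E) ⟨x, hxE⟩ hxW
  refine ⟨s, hxs, ?_⟩
  have hV : IsAffineOpen (X.basicOpen s) := hW.basicOpen s
  have hVW : X.basicOpen s ≤ W := X.basicOpen_le s
  have e' : X.basicOpen s ≤ g ⁻¹ᵁ W := hVW.trans he
  have hVι : (X.basicOpen s).ι ≫ g = (X.basicOpen s).ι := by
    rw [← Scheme.homOfLE_ι X hsE, Category.assoc, hE]
  have key : g.appLE W (X.basicOpen s) e' = X.presheaf.map (homOfLE hVW).op := by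
    apply Spec.map_injective
    rw [← cancel_mono hW.fromSpec, IsAffineOpen.SpecMap_appLE_fromSpec g hW hV e',
      IsAffineOpen.map_fromSpec hW hV]
    unfold IsAffineOpen.fromSpec
    rw [Category.assoc, hVι]
  intro r
  have h1 : (X.presheaf.map (homOfLE hVW).op).hom ((g.appLE W W he).hom r) =
      (X.presheaf.map (homOfLE hVW).op).hom r := by
    have h2 : g.appLE W W he ≫ X.presheaf.map (homOfLE hVW).op = g.appLE W (X.basicOpen s) e' :=
      Scheme.Hom.appLE_map g he (homOfLE hVW).op
    calc (X.presheaf.map (homOfLE hVW).op).hom ((g.appLE W W he).hom r)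
        = (g.appLE W W he ≫ X.presheaf.map (homOfLE hVW).op).hom r := rfl
      _ = (g.appLE W (X.basicOpen s) e').hom r := by rw [h2]
      _ = (X.presheaf.map (homOfLE hVW).op).hom r := by rw [key]
  haveI : IsLocalization.Away s Γ(X, X.basicOpen s) := hW.isLocalization_basicOpen s
  have h3 : algebraMap Γ(X, W) Γ(X, X.basicOpen s) ((g.appLE W W he).hom r - r) =
      algebraMap Γ(X, W) Γ(X, X.basicOpen s) 0 := by
    rw [map_sub, map_zero, sub_eq_zero]
    exact h1
  obtain ⟨n, hn⟩ := IsLocalization.Away.exists_of_eq s h3
  exact ⟨n, by simpa using hn⟩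

end Groth.Agent.Helper3.EtQuot
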