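import Mathlib
import Groth.Prelude
import Groth.Agent.Helper3.EtQuot2

set_option autoImplicit false
set_option linter.style.haveILetI false
set_option linter.unusedSectionVars false
set_option linter.unusedVariables false
set_option linter.deprecated false
set_option linter.style.haveILetI false
set_option linter.unusedSectionVars false
set_option linter.unusedVariables false

/-!
# The quotient of an unramified scheme by a finite group of automorphisms is étale
-/

namespace Groth.Agent.Helper3.EtQuot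

open CategoryTheory Limits AlgebraicGeometry

universe u w

section Ring

variable (B R : Type u) (G : Type w) [CommRing B] [CommRing R] [Algebra B R]
  [Group G] [Finite G] [MulSemiringAction G R] [SMulCommClass G B R] [Algebra.IsInvariant B R G]

/-- Variant of `etale_of_locally_trivial_inertia` with one denominator for each inertia element. -/
theorem etale_of_locally_trivial_inertia' (hinj : Function.Injective (algebraMap B R))
    (q : Ideal R) [q.IsPrime]
    (htriv : ∀ σ ∈ q.inertia G, ∃ s : R, s ∉ q ∧ ∀ r : R, ∃ n : ℕ, s ^ n * (σ • r - r) = 0) :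
    ∃ t : R, t ∉ q ∧ ∀ (T : Type u) [CommRing T] [Algebra R T] [IsLocalization.Away t T],
      ((algebraMap R T).comp (algebraMap B R)).Etale := by
  classical
  letI : Fintype (q.inertia G) := Fintype.ofFinite _
  have h := fun σ : q.inertia G => htriv σ.1 σ.2
  choose s hs hs' using h
  refine etale_of_locally_trivial_inertia B R G hinj q (∏ σ : q.inertia G, s σ) ?_ ?_
  · intro hmem
    rw [Ideal.IsPrime.prod_mem_iff] at hmem
    obtain ⟨σ, -, hσ⟩ := hmem
    exact hs σ hσ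
  · intro σ hσ r
    obtain ⟨n, hn⟩ := hs' ⟨σ, hσ⟩ r
    refine ⟨n, ?_⟩
    obtain ⟨c, hc⟩ := Finset.dvd_prod_of_mem s (Finset.mem_univ (⟨σ, hσ⟩ : q.inertia G))
    rw [hc, mul_pow, mul_comm (s ⟨σ, hσ⟩ ^ n), mul_assoc, hn, mul_zero]

end Ring

lemma etale_stableUnderCompositionWithLocalizationAwaySource :
    RingHom.StableUnderCompositionWithLocalizationAwaySource RingHom.Etale := by
  intro R S T _ _ _ _ r _ f hf
  exact RingHom.Etale.stableUnderComposition _ _
    (RingHom.etale_algebraMap.mpr (Algebra.Etale.of_isLocalizationAway r)) hf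

open Groth.Agent.Helper6.QuotAct in
/-- **SGA 1 V 2.3, first half.** If `X` is unramified (and locally of finite type) over `Y` and
a finite group acts on `X` by `Y`-automorphisms, then the quotient map is étale. -/
theorem etale_quotient {X X' Y : Scheme.{u}} {G : Type u} [Group G] [Finite G] (ρ : G →* Aut X)
    (f : X ⟶ Y) [FormallyUnramified f] [LocallyOfFiniteType f]
    (hρ : ∀ g : G, (ρ g).hom ≫ f = f) (p : X ⟶ X') (hp : SGA1.IsQuot ρ p) : Etale p := by
  haveI := hp.affine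
  rw [HasRingHomProperty.iff_exists_appLE (P := @Etale)
    etale_stableUnderCompositionWithLocalizationAwaySource]
  intro x
  obtain ⟨U, hU, hxU, -⟩ := TopologicalSpace.Opens.isBasis_iff_nbhd.mp X'.isBasis_affineOpens
    (TopologicalSpace.Opens.mem_top (p x))
  have hW : IsAffineOpen (p ⁻¹ᵁ U) := hU.preimage p
  have hxW : x ∈ p ⁻¹ᵁ U := hxU
  letI := act ρ p hp.inv U
  letI : Algebra Γ(X', U) Γ(X, p ⁻¹ᵁ U) := (p.app U).hom.toAlgebra
  haveI := Groth.Agent.Helper6.QuotAct.isInvariant ρ p hp U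
  haveI := Groth.Agent.Helper6.QuotAct.smulComm ρ p hp U
  have hinj : Function.Injective (algebraMap Γ(X', U) Γ(X, p ⁻¹ᵁ U)) := hp.injective U
  let y := hW.primeIdealOf ⟨x, hxW⟩
  have hy : hW.fromSpec y = x := hW.fromSpec_primeIdealOf ⟨x, hxW⟩
  have hmem : ∀ s : Γ(X, p ⁻¹ᵁ U), x ∈ X.basicOpen s ↔ s ∉ y.asIdeal := by
    intro s
    rw [← hy]
    change y ∈ hW.fromSpec ⁻¹ᵁ X.basicOpen s ↔ _
    rw [hW.fromSpec_preimage_basicOpen s]
    rfl
  have hσ : ∀ σ ∈ y.asIdeal.inertia G, ∃ s : Γ(X, p ⁻¹ᵁ U), s ∉ y.asIdeal ∧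
      ∀ r : Γ(X, p ⁻¹ᵁ U), ∃ n : ℕ, s ^ n * (σ • r - r) = 0 := by
    intro σ hσ
    let q := y.asIdeal
    let K := FractionRing (Γ(X, p ⁻¹ᵁ U) ⧸ q)
    let φ : Γ(X, p ⁻¹ᵁ U) →+* K :=
      (algebraMap (Γ(X, p ⁻¹ᵁ U) ⧸ q) K).comp (Ideal.Quotient.mk q)
    have hφ : ∀ a b : Γ(X, p ⁻¹ᵁ U), a - b ∈ q → φ a = φ b := by
      intro a b hab
      change algebraMap _ K (Ideal.Quotient.mk q a) = algebraMap _ K (Ideal.Quotient.mk q b)
      rw [(Ideal.Quotient.eq).mpr hab]
    have hφ0 : ∀ a : Γ(X, p ⁻¹ᵁ U), φ a = 0 ↔ a ∈ q := by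
      intro a
      change algebraMap _ K (Ideal.Quotient.mk q a) = 0 ↔ _
      rw [map_eq_zero_iff _ (IsFractionRing.injective (Γ(X, p ⁻¹ᵁ U) ⧸ q) K),
        Ideal.Quotient.eq_zero_iff_mem]
    let ξ : Spec (CommRingCat.of K) ⟶ X := Spec.map (CommRingCat.ofHom φ) ≫ hW.fromSpec
    have h1 : ξ ≫ (ρ σ⁻¹).hom = ξ := by
      change (Spec.map (CommRingCat.ofHom φ) ≫ hW.fromSpec) ≫ (ρ σ⁻¹).hom = _
      rw [Category.assoc, ← IsAffineOpen.SpecMap_appLE_fromSpec (ρ σ⁻¹).hom hW hW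
        (SGA1.preimage_le_of_inv ρ p hp.inv σ⁻¹ U), ← Category.assoc, ← Spec.map_comp]
      congr 2
      ext a
      change φ ((pb ρ p hp.inv σ⁻¹ U).hom a) = φ a
      apply hφ
      exact hσ a
    have hξx : ξ.base (IsLocalRing.closedPoint K) = x := by
      rw [← hy]
      change hW.fromSpec.base ((Spec.map (CommRingCat.ofHom φ)).base (IsLocalRing.closedPoint K)) = _
      congr 1
      apply PrimeSpectrum.ext
      ext a
      change φ a ∈ IsLocalRing.maximalIdeal K ↔ a ∈ q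
      rw [IsLocalRing.maximalIdeal_eq_bot, Ideal.mem_bot, hφ0]
    obtain ⟨E, hxE, hE⟩ := exists_open_eq f (ρ σ⁻¹).hom (𝟙 X)
      (by rw [hρ, Category.id_comp]) K ξ (by rw [h1, Category.comp_id])
    rw [Category.comp_id] at hE
    rw [hξx] at hxE
    obtain ⟨s, hxs, hs⟩ := exists_basicOpen_trivial (ρ σ⁻¹).hom E hE (p ⁻¹ᵁ U) hW
      (SGA1.preimage_le_of_inv ρ p hp.inv σ⁻¹ U) x hxE hxW
    exact ⟨s, (hmem s).mp hxs, hs⟩
  obtain ⟨t, htq, ht⟩ := etale_of_locally_trivial_inertia' Γ(X', U) Γ(X, p ⁻¹ᵁ U) G hinj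
    y.asIdeal hσ
  refine ⟨⟨U, hU⟩, ⟨X.basicOpen t, hW.basicOpen t⟩, (hmem t).mpr htq, X.basicOpen_le t, ?_⟩
  haveI : IsLocalization.Away t Γ(X, X.basicOpen t) := hW.isLocalization_basicOpen t
  exact ht Γ(X, X.basicOpen t)

end Groth.Agent.Helper3.EtQuot
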