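import Mathlib
import Groth.Prelude
import Groth.Agent.Helper3.EtQuot3
import Groth.Agent.Helper9.QuotAff
import Groth.Agent.Helper9.FinQuot
import Groth.Agent.Helper4.SchemeSD2

set_option autoImplicit false
set_option linter.style.haveILetI false
set_option linter.unusedSectionVars false
set_option linter.unusedVariables false
set_option linter.deprecated false
set_option linter.style.haveILetI false
set_option linter.unusedSectionVars false
set_option linter.unusedVariables false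

/-!
# SGA 1 V 2.3: quotients of étale separated schemes by finite groups
-/

namespace Groth.Agent.Helper3.EtQuot

open CategoryTheory Limits AlgebraicGeometry

universe u

/-- If `p ≫ q` is finite, `p` is injective on sections and the base is locally Noetherian, and
`q` is affine, then `q` is finite. -/
theorem isFinite_of_comp_of_injective {X X' Y : Scheme.{u}} [IsLocallyNoetherian Y]
    (p : X ⟶ X') (q : X' ⟶ Y) [IsFinite (p ≫ q)] [IsAffineHom q]
    (hinj : ∀ U : X'.Opens, Function.Injective (p.app U).hom) : IsFinite q := by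
  rw [isFinite_iff]
  refine ⟨inferInstance, fun V hV => ?_⟩
  have hfin : ((p ≫ q).app V).hom.Finite := IsFinite.finite_app (p ≫ q) V hV
  haveI : IsNoetherianRing Γ(Y, V) := IsLocallyNoetherian.component_noetherian ⟨V, hV⟩
  have hcomp : ((p ≫ q).app V).hom = ((p.app (q ⁻¹ᵁ V)).hom).comp (q.app V).hom := rfl
  rw [hcomp] at hfin
  letI : Algebra Γ(Y, V) Γ(X', q ⁻¹ᵁ V) := (q.app V).hom.toAlgebra
  letI : Algebra Γ(X', q ⁻¹ᵁ V) Γ(X, p ⁻¹ᵁ (q ⁻¹ᵁ V)) := (p.app (q ⁻¹ᵁ V)).hom.toAlgebra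
  letI : Algebra Γ(Y, V) Γ(X, p ⁻¹ᵁ (q ⁻¹ᵁ V)) :=
    (((p.app (q ⁻¹ᵁ V)).hom).comp (q.app V).hom).toAlgebra
  haveI : IsScalarTower Γ(Y, V) Γ(X', q ⁻¹ᵁ V) Γ(X, p ⁻¹ᵁ (q ⁻¹ᵁ V)) :=
    IsScalarTower.of_algebraMap_eq (fun _ => rfl)
  haveI : Module.Finite Γ(Y, V) Γ(X, p ⁻¹ᵁ (q ⁻¹ᵁ V)) := hfin
  haveI : IsNoetherian Γ(Y, V) Γ(X, p ⁻¹ᵁ (q ⁻¹ᵁ V)) := isNoetherian_of_isNoetherianRing_of_finite _ _
  change Module.Finite Γ(Y, V) Γ(X', q ⁻¹ᵁ V)
  exact Module.Finite.of_injective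
    (IsScalarTower.toAlgHom Γ(Y, V) Γ(X', q ⁻¹ᵁ V) Γ(X, p ⁻¹ᵁ (q ⁻¹ᵁ V))).toLinearMap
    (hinj (q ⁻¹ᵁ V))

/-- **SGA 1 V 2.3.** -/
theorem s2911 {X X' Y : Scheme.{u}} {G : Type u} [Group G] [Finite G] (ρ : G →* Aut X)
    [IsLocallyNoetherian Y] (f : X ⟶ Y) [Etale f] [IsSeparated f] [QuasiCompact f]
    (hρ : ∀ g : G, (ρ g).hom ≫ f = f)
    (p : X ⟶ X') (hp : SGA1.IsQuot ρ p) (q : X' ⟶ Y) (hq : p ≫ q = f) :
    Etale p ∧ Etale q ∧ (IsFinite f → IsFinite q) := by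
  haveI hpe : Etale p := etale_quotient ρ f hρ p hp
  haveI : Surjective p := ⟨Groth.Agent.Helper9.FinQuot.surjective hp⟩
  haveI : Etale (p ≫ q) := hq ▸ inferInstance
  refine ⟨hpe, Groth.Agent.Helper4.SchemeSD.etale_of_comp_etale_surjective p q, ?_⟩
  intro hfin
  haveI : IsAffineHom q := (Groth.Agent.Helper9.QuotAff.isAffineHom_iff hp f q hq).mp inferInstance
  haveI : IsFinite (p ≫ q) := hq ▸ hfin
  exact isFinite_of_comp_of_injective p q hp.injective

end Groth.Agent.Helper3.EtQuot
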