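import Mathlib
import Groth.Agent.Helper5.HenselFin
set_option backward.isDefEq.respectTransparency.types false
set_option maxHeartbeats 4000000
set_option synthInstance.maxHeartbeats 400000

universe u
open Polynomial

namespace Groth.Agent.Helper3.RigClosed

theorem dim_eq_one_iff (D : Type*) [CommRing D] [IsDomain D] :
    ringKrullDim D = 1 ↔ (¬ IsField D) ∧ ∀ P : Ideal D, P ≠ ⊥ → P.IsPrime → P.IsMaximal := by
  constructor
  · intro h
    refine ⟨fun h' => zero_ne_one ((ringKrullDim_eq_zero_of_isField h') ▸ h), ?_⟩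
    exact Ring.krullDimLE_one_iff_of_noZeroDivisors.mp (Ring.krullDimLE_iff.mpr (by simp [h]))
  · rintro ⟨hn, h⟩
    have h0 : ¬ ringKrullDim D ≤ 0 := fun h ↦ by
      have : Ring.KrullDimLE 0 D := Ring.krullDimLE_iff.mpr h
      exact hn Ring.KrullDimLE.isField_of_isDomain
    have h1 : Ring.KrullDimLE 1 D := Ring.krullDimLE_one_iff_of_noZeroDivisors.mpr h
    rw [Ring.krullDimLE_iff] at h1
    exact le_antisymm h1 (Order.succ_le_of_lt (lt_of_not_ge h0))

/-- (a) ⇒ every nonzero prime is maximal. -/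
theorem isMaximal_of_a {D : Type*} [CommRing D] [IsDomain D] [IsNoetherianRing D] (J : Ideal D)
    (hJ : J ≠ ⊥) (ha : ∀ P : Ideal D, P.IsPrime → ¬ J ≤ P → P = ⊥)
    (P : Ideal D) (hP0 : P ≠ ⊥) (hP : P.IsPrime) : P.IsMaximal := by
  classical
  by_contra hnm
  obtain ⟨M, hM, hPM⟩ := Ideal.exists_le_maximal P hP.ne_top
  have hPltM : P < M := lt_of_le_of_ne hPM (fun h => hnm (h ▸ hM))
  have hJP : J ≤ P := by
    by_contra h
    exact hP0 (ha P hP h)
  have hJM : J ≤ M := hJP.trans hPM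
  have hfin : (J.minimalPrimes).Finite := Ideal.finite_minimalPrimes_of_isNoetherianRing D J
  -- M is contained in no minimal prime of J
  have hnot : ∀ Q ∈ J.minimalPrimes, ¬ M ≤ Q := by
    intro Q hQ hMQ
    have hQprime : Q.IsPrime := hQ.1.1
    have hMQ' : M = Q := hM.eq_of_le hQprime.ne_top hMQ
    have := hQ.2 ⟨hP, hJP⟩ (hMQ' ▸ hPM)
    exact absurd (hMQ'.symm ▸ this) (not_le_of_gt hPltM)
  -- prime avoidance
  have havoid : ¬ ((M : Set D) ⊆ ⋃ Q ∈ (↑hfin.toFinset : Set (Ideal D)), (Q : Set D)) := by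
    intro hsub
    obtain ⟨Q, hQ, hMQ⟩ := (Ideal.subset_union_prime (f := fun Q : Ideal D => Q) ⊥ ⊥
      (fun Q hQ _ _ => ((hfin.mem_toFinset).mp hQ).1.1)).mp hsub
    exact hnot Q ((hfin.mem_toFinset).mp hQ) hMQ
  obtain ⟨y, hyM, hy⟩ := Set.not_subset.mp havoid
  have hy' : ∀ Q ∈ J.minimalPrimes, y ∉ Q := by
    intro Q hQ hyQ
    apply hy
    simp only [Set.mem_iUnion]
    exact ⟨Q, by simpa using hQ, hyQ⟩
  obtain ⟨Q₀, hQ₀, -⟩ := Ideal.exists_minimalPrimes_le hJM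
  have hy0 : y ≠ 0 := fun h => hy' Q₀ hQ₀ (h ▸ Q₀.zero_mem)
  -- minimal prime over (y) below M
  have hyM' : Ideal.span {y} ≤ M := (Ideal.span_singleton_le_iff_mem _).mpr hyM
  obtain ⟨Q, hQ, hQM⟩ := Ideal.exists_minimalPrimes_le hyM'
  have hQprime : Q.IsPrime := hQ.1.1
  have hht : Q.height ≤ 1 := Ideal.height_le_one_of_isPrincipal_of_mem_minimalPrimes _ Q hQ
  have hyQ : y ∈ Q := hQ.1.2 (Ideal.mem_span_singleton_self y)
  have hQ0 : Q ≠ ⊥ := fun h => hy0 (by simpa [h] using hyQ)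
  have hJQ : J ≤ Q := by
    by_contra h
    exact hQ0 (ha Q hQprime h)
  obtain ⟨Q₁, hQ₁, hQ₁Q⟩ := Ideal.exists_minimalPrimes_le hJQ
  have hQ₁prime : Q₁.IsPrime := hQ₁.1.1
  have hQ₁0 : Q₁ ≠ ⊥ := fun h => hJ (le_bot_iff.mp (h ▸ hQ₁.1.2))
  rcases hQ₁Q.lt_or_eq with hlt | heq
  · have hbot : (⊥ : Ideal D) < Q₁ := bot_lt_iff_ne_bot.mpr hQ₁0
    have h1 := Ideal.height_strict_mono_of_isPrime_of_isPrime hbot
    have h2 := Ideal.height_strict_mono_of_isPrime_of_isPrime hlt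
    have h3 : Q₁.height < 1 := lt_of_lt_of_le h2 hht
    have h4 : Q₁.height = 0 := Order.lt_one_iff.mp h3
    rw [h4] at h1
    exact absurd h1 (not_lt_bot)
  · exact hy' Q₁ hQ₁ (heq ▸ hyQ)


/-- a domain complete w.r.t. an ideal `N` which is the intersection of its finitely many maximal
ideals is local. -/
theorem maximal_unique {D : Type*} [CommRing D] [IsDomain D] (N : Ideal D) [IsAdicComplete N D]
    (S : Set (Ideal D)) (hS : S.Finite) (hSmax : ∀ M, M ∈ S ↔ M.IsMaximal)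
    (hN : ∀ x, (∀ M ∈ S, x ∈ M) → x ∈ N) (hNle : ∀ M ∈ S, N ≤ M)
    (M₁ M₂ : Ideal D) (h1 : M₁.IsMaximal) (h2 : M₂.IsMaximal) : M₁ = M₂ := by
  classical
  by_contra hne
  haveI : Finite ↥S := hS.to_subtype
  have hI : Pairwise (Function.onFun IsCoprime (fun i : ↥S => (i.1 : Ideal D))) := by
    intro i j hij
    show IsCoprime i.1 j.1
    rw [Ideal.isCoprime_iff_sup_eq]
    exact Ideal.IsMaximal.coprime_of_ne ((hSmax _).mp i.2) ((hSmax _).mp j.2)
      (fun h => hij (Subtype.ext h))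
  obtain ⟨a₀, ha₀⟩ := Ideal.exists_forall_sub_mem_ideal hI
    (fun i : ↥S => if i.1 = M₁ then (0 : D) else 1)
  have ha₀1 : a₀ ∈ M₁ := by
    have := ha₀ ⟨M₁, (hSmax _).mpr h1⟩
    simpa using this
  have ha₀2 : ∀ M ∈ S, M ≠ M₁ → a₀ - 1 ∈ M := by
    intro M hM hMne
    have := ha₀ ⟨M, hM⟩
    simpa [hMne] using this
  have hmem : a₀ ^ 2 - a₀ ∈ N := by
    apply hN
    intro M hM
    have : a₀ ^ 2 - a₀ = a₀ * (a₀ - 1) := by ring
    rw [this]
    by_cases hMM : M = M₁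
    · exact hMM ▸ Ideal.mul_mem_right _ _ ha₀1
    · exact Ideal.mul_mem_left _ _ (ha₀2 M hM hMM)
  have hmonic : (X ^ 2 - X : D[X]).Monic := by
    apply Polynomial.monic_X_pow_sub
    rw [degree_X]; norm_num
  have heval : (X ^ 2 - X : D[X]).eval a₀ ∈ N := by simpa using hmem
  have hder : IsUnit (Ideal.Quotient.mk N ((X ^ 2 - X : D[X]).derivative.eval a₀)) := by
    have hd : (X ^ 2 - X : D[X]).derivative.eval a₀ = 2 * a₀ - 1 := by
      simp
      left; norm_num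
    rw [hd]
    have h0 : Ideal.Quotient.mk N (a₀ ^ 2 - a₀) = 0 := Ideal.Quotient.eq_zero_iff_mem.mpr hmem
    apply IsUnit.of_mul_eq_one (Ideal.Quotient.mk N (2 * a₀ - 1))
    rw [← map_mul]
    have : (2 * a₀ - 1) * (2 * a₀ - 1) = 4 * (a₀ ^ 2 - a₀) + 1 := by ring
    rw [this, map_add, map_mul, h0, mul_zero, zero_add, map_one]
  obtain ⟨e, he, hea⟩ := HenselianRing.is_henselian (I := N) _ hmonic a₀ heval hder
  have he' : e * (e - 1) = 0 := by
    have : e ^ 2 - e = 0 := by simpa [IsRoot] using he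
    rw [← this]; ring
  rcases mul_eq_zero.mp he' with h0 | h1'
  · -- e = 0
    have ha₀N : a₀ ∈ N := by
      have := N.neg_mem hea
      simpa [h0] using this
    have hM₂S : M₂ ∈ S := (hSmax _).mpr h2
    have h3 : a₀ ∈ M₂ := hNle M₂ hM₂S ha₀N
    have h4 : a₀ - 1 ∈ M₂ := ha₀2 M₂ hM₂S (fun h => hne h.symm)
    have h5 : (1 : D) ∈ M₂ := by
      have := M₂.sub_mem h3 h4
      simpa using this
    exact h2.ne_top ((Ideal.eq_top_iff_one _).mpr h5)
  · -- e = 1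
    have he1 : e = 1 := sub_eq_zero.mp h1'
    have hM₁S : M₁ ∈ S := (hSmax _).mpr h1
    have h3 : e - a₀ ∈ M₁ := hNle M₁ hM₁S hea
    have h5 : (1 : D) ∈ M₁ := by
      have := M₁.add_mem h3 ha₀1
      simpa [he1] using this
    exact h1.ne_top ((Ideal.eq_top_iff_one _).mpr h5)


theorem jacobson_bot_le_of_isMaximal {D : Type*} [CommRing D] (M : Ideal D) (hM : M.IsMaximal) :
    Ideal.jacobson (⊥ : Ideal D) ≤ M := sInf_le ⟨bot_le, hM⟩

theorem dom_a_to_b {D : Type*} [CommRing D] [IsDomain D] [IsNoetherianRing D] (J : Ideal D)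
    (hJac : J ≤ Ideal.jacobson ⊥)
    (hJ : J ≠ ⊥) (ha : ∀ P : Ideal D, P.IsPrime → ¬ J ≤ P → P = ⊥) : ringKrullDim D = 1 := by
  rw [dim_eq_one_iff]
  refine ⟨?_, isMaximal_of_a J hJ ha⟩
  intro hF
  obtain ⟨x, hxJ, hx0⟩ : ∃ x ∈ J, x ≠ 0 := by
    by_contra h
    apply hJ
    rw [eq_bot_iff]
    intro x hx
    by_contra hx0
    exact h ⟨x, hx, hx0⟩
  obtain ⟨y, hy⟩ := hF.mul_inv_cancel hx0
  have h1 : (1 : D) ∈ Ideal.jacobson (⊥ : Ideal D) := hy ▸ Ideal.mul_mem_right _ _ (hJac hxJ)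
  have h2 : Ideal.jacobson (⊥ : Ideal D) = ⊤ := (Ideal.eq_top_iff_one _).mpr h1
  rw [Ideal.jacobson_eq_top_iff] at h2
  exact bot_ne_top h2

theorem dom_b_to_a {D : Type*} [CommRing D] [IsDomain D] (J : Ideal D)
    (hJac : J ≤ Ideal.jacobson ⊥) (hdim : ringKrullDim D = 1) :
    ∀ P : Ideal D, P.IsPrime → ¬ J ≤ P → P = ⊥ := by
  intro P hP hJP
  by_contra hP0
  have hmax := ((dim_eq_one_iff D).mp hdim).2 P hP0 hP
  exact hJP (hJac.trans (jacobson_bot_le_of_isMaximal P hmax))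

theorem dom_b_to_c {D : Type*} [CommRing D] [IsDomain D] [IsNoetherianRing D] (J : Ideal D)
    [IsAdicComplete J D] (hJ : J ≠ ⊥) (hdim : ringKrullDim D = 1) :
    (∀ m : Ideal D, m.IsMaximal → m = J.radical) ∧ IsAdicComplete J.radical D := by
  have hJac : J ≤ Ideal.jacobson ⊥ := IsAdicComplete.le_jacobson_bot J
  obtain ⟨hnf, hmax⟩ := (dim_eq_one_iff D).mp hdim
  obtain ⟨e, he⟩ := Ideal.exists_radical_pow_le_of_fg J (IsNoetherian.noetherian _)
  haveI hc : IsAdicComplete J.radical D :=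
    Groth.Agent.Helper5.HenselFin.isAdicComplete_of_pow_le J J.radical e he Ideal.le_radical
  have hS : ∀ M, M ∈ J.minimalPrimes ↔ M.IsMaximal := by
    intro M
    constructor
    · intro hM
      have hprime : M.IsPrime := hM.1.1
      refine hmax M ?_ hprime
      intro h
      exact hJ (le_bot_iff.mp (h ▸ hM.1.2))
    · intro hM
      refine ⟨⟨hM.isPrime, hJac.trans (jacobson_bot_le_of_isMaximal M hM)⟩, ?_⟩
      rintro Q ⟨hQ, hJQ⟩ hQM
      have hQ0 : Q ≠ ⊥ := fun h => hJ (le_bot_iff.mp (h ▸ hJQ))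
      have hQmax := hmax Q hQ0 hQ
      exact (hQmax.eq_of_le hM.ne_top hQM).ge
  have hrad : J.radical = sInf J.minimalPrimes := (Ideal.sInf_minimalPrimes).symm
  have hN : ∀ x, (∀ M ∈ J.minimalPrimes, x ∈ M) → x ∈ J.radical := by
    rw [hrad]
    intro x hx
    exact Submodule.mem_sInf.mpr hx
  have hNle : ∀ M ∈ J.minimalPrimes, J.radical ≤ M := fun M hM => hrad ▸ sInf_le hM
  have huniq := maximal_unique J.radical J.minimalPrimes
    (Ideal.finite_minimalPrimes_of_isNoetherianRing D J) hS hN hNle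
  refine ⟨?_, hc⟩
  intro m hm
  apply le_antisymm
  · intro x hx
    apply hN
    intro M hM
    rw [huniq M m ((hS M).mp hM) hm]
    exact hx
  · exact hNle m ((hS m).mpr hm)

theorem dom_c_to_b {D : Type*} [CommRing D] [IsDomain D] (J : Ideal D)
    (hdim : ringKrullDim D = 1) (hc : ∀ m : Ideal D, m.IsMaximal → m = J.radical) : J ≠ ⊥ := by
  intro hJ
  obtain ⟨hnf, -⟩ := (dim_eq_one_iff D).mp hdim
  obtain ⟨m, hm⟩ := Ideal.exists_maximal D
  have h1 := hc m hm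
  rw [hJ, Ideal.radical_bot_of_isReduced] at h1
  exact hnf (Ring.isField_iff_maximal_bot.mpr (h1 ▸ hm))


theorem main (A : Type u) [CommRing A] [IsNoetherianRing A] (I : Ideal A) [IsAdicComplete I A]
    (q : PrimeSpectrum A) :
    List.TFAE [¬ I ≤ q.asIdeal ∧ ∀ q' : PrimeSpectrum A, q ≤ q' → ¬ I ≤ q'.asIdeal → q' = q,
      ringKrullDim (A ⧸ q.asIdeal) = 1 ∧ ¬ I ≤ q.asIdeal,
      ringKrullDim (A ⧸ q.asIdeal) = 1 ∧
        (∀ m : Ideal (A ⧸ q.asIdeal), m.IsMaximal →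
          m = (I.map (Ideal.Quotient.mk q.asIdeal)).radical) ∧
        IsAdicComplete (I.map (Ideal.Quotient.mk q.asIdeal)).radical (A ⧸ q.asIdeal)] := by
  obtain ⟨J, hJdef⟩ : ∃ J : Ideal (A ⧸ q.asIdeal), J = I.map (Ideal.Quotient.mk q.asIdeal) :=
    ⟨_, rfl⟩
  rw [← hJdef]
  haveI : IsDomain (A ⧸ q.asIdeal) := Ideal.Quotient.isDomain q.asIdeal
  haveI hJc : IsAdicComplete J (A ⧸ q.asIdeal) := by
    have h1 : IsPrecomplete I (A ⧸ q.asIdeal) :=
      Groth.Agent.Helper5.ComplDVR.isPrecomplete_of_finite I _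
    have h2 : IsHausdorff I (A ⧸ q.asIdeal) :=
      IsHausdorff.of_le_jacobson I _ (IsAdicComplete.le_jacobson_bot I)
    have h3 : IsAdicComplete I (A ⧸ q.asIdeal) := { }
    rw [hJdef]
    exact (IsAdicComplete.map_algebraMap_iff (R := A) (S := A ⧸ q.asIdeal) (I := I)
      (M := A ⧸ q.asIdeal)).mpr h3
  have hJac : J ≤ Ideal.jacobson ⊥ := IsAdicComplete.le_jacobson_bot J
  have hJ0 : J ≠ ⊥ ↔ ¬ I ≤ q.asIdeal := by
    rw [Ne, hJdef, Ideal.map_eq_bot_iff_le_ker, Ideal.mk_ker]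
  have hsurj : Function.Surjective (Ideal.Quotient.mk q.asIdeal) := Ideal.Quotient.mk_surjective
  have htrans : (∀ q' : PrimeSpectrum A, q ≤ q' → ¬ I ≤ q'.asIdeal → q' = q) ↔
      (∀ P : Ideal (A ⧸ q.asIdeal), P.IsPrime → ¬ J ≤ P → P = ⊥) := by
    constructor
    · intro h P hP hJP
      have hq' : q ≤ ⟨P.comap (Ideal.Quotient.mk q.asIdeal), hP.comap _⟩ := by
        show q.asIdeal ≤ P.comap (Ideal.Quotient.mk q.asIdeal)
        conv_lhs => rw [← Ideal.mk_ker (I := q.asIdeal)]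
        exact Ideal.comap_mono bot_le
      have h1 := h ⟨P.comap (Ideal.Quotient.mk q.asIdeal), hP.comap _⟩ hq'
        (fun hle => hJP (hJdef ▸ Ideal.map_le_iff_le_comap.mpr hle))
      have h2 : P.comap (Ideal.Quotient.mk q.asIdeal) =
          (⊥ : Ideal (A ⧸ q.asIdeal)).comap (Ideal.Quotient.mk q.asIdeal) := by
        have := congrArg PrimeSpectrum.asIdeal h1
        rw [show (⊥ : Ideal (A ⧸ q.asIdeal)).comap (Ideal.Quotient.mk q.asIdeal) = q.asIdeal from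
          Ideal.mk_ker]
        exact this
      exact Ideal.comap_injective_of_surjective _ hsurj h2
    · intro h q' hqq' hIq'
      have hker : RingHom.ker (Ideal.Quotient.mk q.asIdeal) ≤ q'.asIdeal := by
        rw [Ideal.mk_ker]; exact hqq'
      have hP : (q'.asIdeal.map (Ideal.Quotient.mk q.asIdeal)).IsPrime :=
        Ideal.map_isPrime_of_surjective hsurj hker
      have hcm : (q'.asIdeal.map (Ideal.Quotient.mk q.asIdeal)).comap
          (Ideal.Quotient.mk q.asIdeal) = q'.asIdeal := by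
        rw [Ideal.comap_map_of_surjective _ hsurj]
        rw [show (⊥ : Ideal (A ⧸ q.asIdeal)).comap (Ideal.Quotient.mk q.asIdeal) = q.asIdeal from
          Ideal.mk_ker]
        exact sup_eq_left.mpr hqq'
      have h1 := h _ hP (fun hle => hIq' (by
        rw [hJdef, Ideal.map_le_iff_le_comap, hcm] at hle
        exact hle))
      apply PrimeSpectrum.ext
      rw [← hcm, h1]
      exact Ideal.mk_ker
  tfae_have 1 ↔ 2 := by
    rw [htrans, ← hJ0]
    constructor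
    · rintro ⟨h1, h2⟩
      exact ⟨dom_a_to_b J hJac h1 h2, h1⟩
    · rintro ⟨h1, h2⟩
      exact ⟨h2, dom_b_to_a J hJac h1⟩
  tfae_have 2 ↔ 3 := by
    rw [← hJ0]
    constructor
    · rintro ⟨h1, h2⟩
      exact ⟨h1, dom_b_to_c J h2 h1⟩
    · rintro ⟨h1, h2, -⟩
      exact ⟨h1, dom_c_to_b J h1 h2⟩
  tfae_finish

end Groth.Agent.Helper3.RigClosed
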