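import Mathlib
import Groth.Agent.Helper3.RigClosed
import Groth.Agent.Helper3.ComplUnram
set_option backward.isDefEq.respectTransparency.types false
set_option maxHeartbeats 4000000
set_option synthInstance.maxHeartbeats 400000

universe u
open Polynomial

namespace Groth.Agent.Helper3.RigClosed2

theorem isIntegral_of_radical {A D : Type*} [CommRing A] [CommRing D] [Algebra A D]
    (J n : Ideal D) (hn : n ≤ J.radical) (hres : Algebra.IsIntegral A (D ⧸ n)) :
    Algebra.IsIntegral A (D ⧸ J) := by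
  constructor
  intro x
  obtain ⟨d, rfl⟩ := Ideal.Quotient.mk_surjective x
  obtain ⟨P, hmonic, hP⟩ := hres.isIntegral (Ideal.Quotient.mk n d)
  have h1 : aeval d P ∈ n := by
    rw [← Ideal.Quotient.eq_zero_iff_mem]
    have : Ideal.Quotient.mk n (aeval d P) = aeval (Ideal.Quotient.mk n d) P :=
      (Polynomial.aeval_algHom_apply (Ideal.Quotient.mkₐ A n) d P).symm
    rw [this]
    exact hP
  obtain ⟨k, hk⟩ := hn h1
  refine ⟨P ^ k, hmonic.pow k, ?_⟩
  have h2 : aeval (Ideal.Quotient.mk J d) (P ^ k) = Ideal.Quotient.mk J (aeval d (P ^ k)) :=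
    Polynomial.aeval_algHom_apply (Ideal.Quotient.mkₐ A J) d (P ^ k)
  show aeval (Ideal.Quotient.mk J d) (P ^ k) = 0
  rw [h2, map_pow, Ideal.Quotient.eq_zero_iff_mem]
  exact hk


theorem finite_quotient (A : Type u) [CommRing A] [IsNoetherianRing A] (I : Ideal A)
    [IsAdicComplete I A] (B : Type u) [CommRing B] [Algebra A B] [IsNoetherianRing B]
    [IsAdicComplete (I.map (algebraMap A B)) B]
    (hft : Algebra.FiniteType A (B ⧸ (I.map (algebraMap A B)))) (q : PrimeSpectrum B)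
    (hq : ¬ (I.map (algebraMap A B)) ≤ q.asIdeal ∧ ∀ y : PrimeSpectrum B, q ≤ y →
      ¬ (I.map (algebraMap A B)) ≤ y.asIdeal → y = q)
    (hres : ∀ m : Ideal B, m.IsMaximal → q.asIdeal ≤ m → Module.Finite A (B ⧸ m)) :
    Module.Finite A (B ⧸ q.asIdeal) := by
  obtain ⟨hdim, hmax, hcomp⟩ :=
    ((Groth.Agent.Helper3.RigClosed.main B (I.map (algebraMap A B)) q).out 0 2).mp hq
  obtain ⟨J, hJdef⟩ : ∃ J : Ideal (B ⧸ q.asIdeal),
      J = (I.map (algebraMap A B)).map (Ideal.Quotient.mk q.asIdeal) := ⟨_, rfl⟩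
  rw [← hJdef] at hmax hcomp
  haveI : IsDomain (B ⧸ q.asIdeal) := Ideal.Quotient.isDomain q.asIdeal
  -- n = rad J is maximal
  obtain ⟨M, hM⟩ := Ideal.exists_maximal (B ⧸ q.asIdeal)
  have hnmax : J.radical.IsMaximal := (hmax M hM) ▸ hM
  -- the maximal ideal m of B
  have hmmax : (J.radical.comap (Ideal.Quotient.mk q.asIdeal)).IsMaximal :=
    Ideal.comap_isMaximal_of_surjective _ Ideal.Quotient.mk_surjective
  have hqm : q.asIdeal ≤ J.radical.comap (Ideal.Quotient.mk q.asIdeal) := by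
    conv_lhs => rw [← Ideal.mk_ker (I := q.asIdeal)]
    exact Ideal.comap_mono bot_le
  haveI hfm := hres _ hmmax hqm
  -- D/n integral over A
  have hintn : Algebra.IsIntegral A ((B ⧸ q.asIdeal) ⧸ J.radical) := by
    let f : (B ⧸ J.radical.comap (Ideal.Quotient.mk q.asIdeal)) →ₐ[A]
        ((B ⧸ q.asIdeal) ⧸ J.radical) :=
      Ideal.quotientMapₐ J.radical (Ideal.Quotient.mkₐ A q.asIdeal) le_rfl
    have hf : Function.Surjective f := by
      intro x
      obtain ⟨d, rfl⟩ := Ideal.Quotient.mk_surjective x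
      obtain ⟨b, rfl⟩ := Ideal.Quotient.mk_surjective d
      exact ⟨Ideal.Quotient.mk _ b, rfl⟩
    haveI : Algebra.IsIntegral A (B ⧸ J.radical.comap (Ideal.Quotient.mk q.asIdeal)) :=
      Algebra.IsIntegral.of_finite A _
    exact Algebra.IsIntegral.of_surjective f hf
  haveI hintJ : Algebra.IsIntegral A ((B ⧸ q.asIdeal) ⧸ J) :=
    isIntegral_of_radical J J.radical le_rfl hintn
  -- finite type
  haveI hftJ : Algebra.FiniteType A ((B ⧸ q.asIdeal) ⧸ J) := by
    let f : (B ⧸ (I.map (algebraMap A B))) →ₐ[A] ((B ⧸ q.asIdeal) ⧸ J) :=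
      Ideal.quotientMapₐ J (Ideal.Quotient.mkₐ A q.asIdeal)
        (by rw [hJdef]; exact Ideal.le_comap_map)
    have hf : Function.Surjective f := by
      intro x
      obtain ⟨d, rfl⟩ := Ideal.Quotient.mk_surjective x
      obtain ⟨b, rfl⟩ := Ideal.Quotient.mk_surjective d
      exact ⟨Ideal.Quotient.mk _ b, rfl⟩
    exact Algebra.FiniteType.of_surjective f hf
  haveI hfinJ : Module.Finite A ((B ⧸ q.asIdeal) ⧸ J) := Algebra.IsIntegral.finite
  -- Hausdorff
  haveI hH : IsHausdorff I (B ⧸ q.asIdeal) := by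
    have h2 : IsHausdorff (I.map (algebraMap A B)) (B ⧸ q.asIdeal) :=
      IsHausdorff.of_le_jacobson _ _ (IsAdicComplete.le_jacobson_bot _)
    exact (IsHausdorff.map_algebraMap_iff (R := A) (S := B) (I := I)
      (M := B ⧸ q.asIdeal)).mp h2
  -- the quotient by I • ⊤
  have hIJ : (I • ⊤ : Submodule A (B ⧸ q.asIdeal)) = J.restrictScalars A := by
    rw [Ideal.smul_top_eq_map, hJdef, Ideal.map_map]
    rfl
  haveI : Module.Finite A ((B ⧸ q.asIdeal) ⧸ (I • ⊤ : Submodule A (B ⧸ q.asIdeal))) := by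
    let e1 := Submodule.quotEquivOfEq _ _ hIJ
    let e2 := Submodule.Quotient.restrictScalarsEquiv A J
    exact Module.Finite.equiv (e1.trans e2).symm
  exact Groth.Agent.Helper3.ComplUnram.finite_of_finite_quotient I


theorem rigClosed_comap_of_finite (A : Type u) [CommRing A] (I : Ideal A)
    (B : Type u) [CommRing B] [Algebra A B] (q : PrimeSpectrum B)
    (hq : ¬ (I.map (algebraMap A B)) ≤ q.asIdeal ∧ ∀ y : PrimeSpectrum B, q ≤ y →
      ¬ (I.map (algebraMap A B)) ≤ y.asIdeal → y = q)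
    (hfin : Module.Finite A (B ⧸ q.asIdeal)) :
    ¬ I ≤ (PrimeSpectrum.comap (algebraMap A B) q).asIdeal ∧
      ∀ y : PrimeSpectrum A, (PrimeSpectrum.comap (algebraMap A B) q) ≤ y → ¬ I ≤ y.asIdeal →
        y = PrimeSpectrum.comap (algebraMap A B) q := by
  refine ⟨fun h => hq.1 (Ideal.map_le_iff_le_comap.mpr h), ?_⟩
  intro y hpy hIy
  haveI : Algebra.IsIntegral A (B ⧸ q.asIdeal) := Algebra.IsIntegral.of_finite A _
  haveI : IsDomain (B ⧸ q.asIdeal) := Ideal.Quotient.isDomain q.asIdeal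
  have hcomap : ∀ Q : Ideal (B ⧸ q.asIdeal), Q.comap (algebraMap A (B ⧸ q.asIdeal)) =
      (Q.comap (Ideal.Quotient.mk q.asIdeal)).comap (algebraMap A B) := by
    intro Q
    rw [Ideal.comap_comap]
    rfl
  have hbot : (⊥ : Ideal (B ⧸ q.asIdeal)).comap (algebraMap A (B ⧸ q.asIdeal)) ≤ y.asIdeal := by
    rw [hcomap, show (⊥ : Ideal (B ⧸ q.asIdeal)).comap (Ideal.Quotient.mk q.asIdeal) = q.asIdeal
      from Ideal.mk_ker]
    exact hpy
  obtain ⟨Q, -, hQ, hQy⟩ := Ideal.exists_ideal_over_prime_of_isIntegral_of_isPrime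
    y.asIdeal (⊥ : Ideal (B ⧸ q.asIdeal)) hbot
  have hqq' : q ≤ ⟨Q.comap (Ideal.Quotient.mk q.asIdeal), hQ.comap _⟩ := by
    show q.asIdeal ≤ Q.comap (Ideal.Quotient.mk q.asIdeal)
    conv_lhs => rw [← Ideal.mk_ker (I := q.asIdeal)]
    exact Ideal.comap_mono bot_le
  have hnot : ¬ (I.map (algebraMap A B)) ≤ Q.comap (Ideal.Quotient.mk q.asIdeal) := by
    intro h
    apply hIy
    rw [← hQy, hcomap]
    exact Ideal.map_le_iff_le_comap.mp h
  have h1 := hq.2 ⟨Q.comap (Ideal.Quotient.mk q.asIdeal), hQ.comap _⟩ hqq' hnot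
  apply PrimeSpectrum.ext
  rw [← hQy, hcomap]
  have h2 : Q.comap (Ideal.Quotient.mk q.asIdeal) = q.asIdeal := congrArg PrimeSpectrum.asIdeal h1
  rw [h2]
  rfl


theorem residue_finite (A : Type u) [CommRing A] (I : Ideal A)
    (B : Type u) [CommRing B] [Algebra A B]
    (hft : Algebra.FiniteType A (B ⧸ (I.map (algebraMap A B))))
    (a : Ideal A) (ha : IsJacobsonRing (A ⧸ a)) (m : Ideal B) (hm : m.IsMaximal)
    (hIm : I.map (algebraMap A B) ≤ m) (ham : a ≤ m.comap (algebraMap A B)) :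
    Module.Finite A (B ⧸ m) := by
  letI : Algebra (A ⧸ a) (B ⧸ m) := Ideal.Quotient.algebraQuotientOfLEComap ham
  haveI : IsScalarTower A (A ⧸ a) (B ⧸ m) := IsScalarTower.of_algebraMap_eq (fun x => rfl)
  letI : Field (B ⧸ m) := Ideal.Quotient.field m
  haveI : Algebra.FiniteType A (B ⧸ m) := by
    let f : (B ⧸ I.map (algebraMap A B)) →ₐ[A] (B ⧸ m) :=
      Ideal.quotientMapₐ m (AlgHom.id A B) hIm
    have hf : Function.Surjective f := by
      intro x
      obtain ⟨b, rfl⟩ := Ideal.Quotient.mk_surjective x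
      exact ⟨Ideal.Quotient.mk _ b, rfl⟩
    exact Algebra.FiniteType.of_surjective f hf
  haveI : Algebra.FiniteType (A ⧸ a) (B ⧸ m) :=
    Algebra.FiniteType.of_restrictScalars_finiteType A (A ⧸ a) (B ⧸ m)
  haveI : Module.Finite (A ⧸ a) (B ⧸ m) := finite_of_finite_type_of_isJacobsonRing (A ⧸ a) (B ⧸ m)
  exact Module.Finite.trans (A ⧸ a) (B ⧸ m)


theorem isMaximal_of_dim_one {R : Type*} [CommRing R] (p : Ideal R) [hp : p.IsPrime]
    (hdim : ringKrullDim (R ⧸ p) = 1) (Q : Ideal R) (hQ : Q.IsPrime) (hpQ : p ≤ Q) (hne : Q ≠ p) :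
    Q.IsMaximal := by
  have hmap0 : Q.map (Ideal.Quotient.mk p) ≠ ⊥ := by
    rw [Ne, Ideal.map_eq_bot_iff_le_ker, Ideal.mk_ker]
    intro h
    exact hne (le_antisymm h hpQ)
  have hker : RingHom.ker (Ideal.Quotient.mk p) ≤ Q := by rw [Ideal.mk_ker]; exact hpQ
  have hmapP : (Q.map (Ideal.Quotient.mk p)).IsPrime :=
    Ideal.map_isPrime_of_surjective Ideal.Quotient.mk_surjective hker
  haveI : IsDomain (R ⧸ p) := Ideal.Quotient.isDomain p
  have hmax := ((Groth.Agent.Helper3.RigClosed.dim_eq_one_iff (R ⧸ p)).mp hdim).2 _ hmap0 hmapP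
  have h1 : (Q.map (Ideal.Quotient.mk p)).comap (Ideal.Quotient.mk p) = Q := by
    rw [Ideal.comap_map_of_surjective _ Ideal.Quotient.mk_surjective]
    rw [show (⊥ : Ideal (R ⧸ p)).comap (Ideal.Quotient.mk p) = p from Ideal.mk_ker]
    exact sup_eq_left.mpr hpQ
  rw [← h1]
  exact Ideal.comap_isMaximal_of_surjective _ Ideal.Quotient.mk_surjective

theorem main_jacobson (A : Type u) [CommRing A] [IsNoetherianRing A] (I : Ideal A)
    [IsAdicComplete I A] (B : Type u) [CommRing B] [Algebra A B] [IsNoetherianRing B]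
    [IsAdicComplete (I.map (algebraMap A B)) B]
    (hft : Algebra.FiniteType A (B ⧸ (I.map (algebraMap A B)))) (q : PrimeSpectrum B)
    (hq : ¬ (I.map (algebraMap A B)) ≤ q.asIdeal ∧ ∀ y : PrimeSpectrum B, q ≤ y →
      ¬ (I.map (algebraMap A B)) ≤ y.asIdeal → y = q)
    (hJ : IsJacobsonRing (A ⧸ I)) :
    ¬ I ≤ (PrimeSpectrum.comap (algebraMap A B) q).asIdeal ∧
      ∀ y : PrimeSpectrum A, (PrimeSpectrum.comap (algebraMap A B) q) ≤ y → ¬ I ≤ y.asIdeal →
        y = PrimeSpectrum.comap (algebraMap A B) q := by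
  have hIB : ∀ m : Ideal B, m.IsMaximal → I.map (algebraMap A B) ≤ m := fun m hm =>
    (IsAdicComplete.le_jacobson_bot _).trans
      (Groth.Agent.Helper3.RigClosed.jacobson_bot_le_of_isMaximal m hm)
  have hres : ∀ m : Ideal B, m.IsMaximal → q.asIdeal ≤ m → Module.Finite A (B ⧸ m) :=
    fun m hm _ => residue_finite A I B hft I hJ m hm (hIB m hm)
      (Ideal.map_le_iff_le_comap.mp (hIB m hm))
  exact rigClosed_comap_of_finite A I B q hq (finite_quotient A I B hft q hq hres)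

theorem main_tfae (A : Type u) [CommRing A] [IsNoetherianRing A] (I : Ideal A)
    [IsAdicComplete I A] (B : Type u) [CommRing B] [Algebra A B] [IsNoetherianRing B]
    [IsAdicComplete (I.map (algebraMap A B)) B]
    (hft : Algebra.FiniteType A (B ⧸ (I.map (algebraMap A B)))) (q : PrimeSpectrum B)
    (hq : ¬ (I.map (algebraMap A B)) ≤ q.asIdeal ∧ ∀ y : PrimeSpectrum B, q ≤ y →
      ¬ (I.map (algebraMap A B)) ≤ y.asIdeal → y = q) :
    List.TFAE [∀ m : Ideal B, m.IsMaximal → q.asIdeal ≤ m → Module.Finite A (B ⧸ m),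
      (¬ I ≤ (PrimeSpectrum.comap (algebraMap A B) q).asIdeal ∧
        ∀ y : PrimeSpectrum A, (PrimeSpectrum.comap (algebraMap A B) q) ≤ y → ¬ I ≤ y.asIdeal →
          y = (PrimeSpectrum.comap (algebraMap A B) q)),
      Module.Finite A (B ⧸ q.asIdeal)] := by
  have hIB : ∀ m : Ideal B, m.IsMaximal → I.map (algebraMap A B) ≤ m := fun m hm =>
    (IsAdicComplete.le_jacobson_bot _).trans
      (Groth.Agent.Helper3.RigClosed.jacobson_bot_le_of_isMaximal m hm)
  tfae_have 1 → 3 := fun hres => finite_quotient A I B hft q hq hres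
  tfae_have 3 → 2 := fun hfin => rigClosed_comap_of_finite A I B q hq hfin
  tfae_have 2 → 1 := by
    intro hp m hm hqm
    obtain ⟨hdim, hIp⟩ := ((Groth.Agent.Helper3.RigClosed.main A I
      (PrimeSpectrum.comap (algebraMap A B) q)).out 0 1).mp hp
    have hm₀prime : (m.comap (algebraMap A B)).IsPrime := hm.isPrime.comap _
    have hpm₀ : (PrimeSpectrum.comap (algebraMap A B) q).asIdeal ≤ m.comap (algebraMap A B) :=
      Ideal.comap_mono hqm
    have hIm₀ : I ≤ m.comap (algebraMap A B) := Ideal.map_le_iff_le_comap.mp (hIB m hm)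
    have hne : m.comap (algebraMap A B) ≠ (PrimeSpectrum.comap (algebraMap A B) q).asIdeal :=
      fun h => hIp (h ▸ hIm₀)
    have hm₀max : (m.comap (algebraMap A B)).IsMaximal :=
      isMaximal_of_dim_one _ hdim _ hm₀prime hpm₀ hne
    letI : Field (A ⧸ m.comap (algebraMap A B)) := Ideal.Quotient.field _
    exact residue_finite A I B hft (m.comap (algebraMap A B)) inferInstance m hm (hIB m hm) le_rfl
  tfae_finish

end Groth.Agent.Helper3.RigClosed2
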