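import Mathlib
import Groth.Agent.Helper3.RigClosed2
import Groth.Agent.Helper3.ComplUnram
import Groth.Agent.Helper3.RigClosed

set_option autoImplicit false
set_option linter.style.haveILetI false

namespace Groth.Agent.Helper3.EtRed

open TensorProduct IsLocalRing

universe u

/-- Nakayama for Kähler differentials: if `B` is essentially of finite type over `A`,
`IB` lies in the Jacobson radical and `B/IB` is formally unramified over `A`, then so is `B`. -/
theorem formallyUnramified_of_quotient {A B : Type*} [CommRing A] [CommRing B] [Algebra A B]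
    [Algebra.EssFiniteType A B] (I : Ideal A)
    (hJ : I.map (algebraMap A B) ≤ Ideal.jacobson ⊥)
    [Algebra.FormallyUnramified A (B ⧸ I.map (algebraMap A B))] :
    Algebra.FormallyUnramified A B := by
  constructor
  have h1 : Subsingleton ((B ⧸ I.map (algebraMap A B)) ⊗[B] Ω[B⁄A]) := by
    refine subsingleton_of_forall_eq 0 fun x ↦ ?_
    obtain ⟨x, rfl⟩ := (KaehlerDifferential.exact_kerCotangentToTensor_mapBaseChange A B
      (B ⧸ I.map (algebraMap A B)) Ideal.Quotient.mk_surjective x).mp (Subsingleton.elim _ _)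
    obtain ⟨⟨x, hx⟩, rfl⟩ := Ideal.toCotangent_surjective _ x
    simp only [KaehlerDifferential.kerCotangentToTensor_toCotangent]
    replace hx : x ∈ Ideal.map (algebraMap A B) I := by simpa using hx
    induction hx using Submodule.span_induction with
    | zero => simp
    | mem x h => obtain ⟨x, hx, rfl⟩ := h; simp
    | add x y hx hy _ _ => simp [*, TensorProduct.tmul_add]
    | smul a x hx _ =>
      have : Ideal.Quotient.mk (I.map (algebraMap A B)) x = 0 := by
        rw [Ideal.Quotient.eq_zero_iff_mem]; exact hx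
      simp [*, TensorProduct.tmul_add, TensorProduct.smul_tmul', ← Algebra.algebraMap_eq_smul_one]
  have h2 : Subsingleton (Ω[B⁄A] ⧸ (I.map (algebraMap A B)) • (⊤ : Submodule B Ω[B⁄A])) :=
    (TensorProduct.quotTensorEquivQuotSMul Ω[B⁄A] (I.map (algebraMap A B))).symm.subsingleton
  have h3 : (I.map (algebraMap A B)) • (⊤ : Submodule B Ω[B⁄A]) = ⊤ :=
    Submodule.Quotient.subsingleton_iff.mp h2
  have h4 : (⊤ : Submodule B Ω[B⁄A]) = ⊥ :=
    Submodule.eq_bot_of_le_smul_of_le_jacobson_bot _ _ (Module.Finite.fg_top) h3.ge hJ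
  exact (Submodule.subsingleton_iff B).mp (subsingleton_of_bot_eq_top h4.symm)
  

theorem isArtinianRing_quotient_sup {A : Type*} [CommRing A] [IsNoetherianRing A] (I p : Ideal A)
    [p.IsPrime] (hdim : ringKrullDim (A ⧸ p) = 1) (hI : ¬ I ≤ p) :
    IsArtinianRing (A ⧸ (I ⊔ p)) := by
  rw [isArtinianRing_iff_krullDimLE_zero, Ring.krullDimLE_zero_iff]
  intro Q' hQ'
  have hQ : (Q'.comap (Ideal.Quotient.mk (I ⊔ p))).IsPrime := Ideal.comap_isPrime _ _
  have hle : I ⊔ p ≤ Q'.comap (Ideal.Quotient.mk (I ⊔ p)) := by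
    conv_lhs => rw [← Ideal.mk_ker (I := I ⊔ p)]
    exact Ideal.comap_mono bot_le
  have hmax := Groth.Agent.Helper3.RigClosed2.isMaximal_of_dim_one p hdim _ hQ
    (le_sup_right.trans hle) (fun h => hI (h ▸ le_sup_left.trans hle))
  have h1 := Ideal.map_eq_top_or_isMaximal_of_surjective (Ideal.Quotient.mk (I ⊔ p))
    Ideal.Quotient.mk_surjective hmax
  rw [Ideal.map_comap_of_surjective _ Ideal.Quotient.mk_surjective Q'] at h1
  exact h1.resolve_left hQ'.ne_top

theorem finite_of_quasiFinite {A E : Type*} [CommRing A] [CommRing E] [Algebra A E]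
    [Algebra.QuasiFinite A E] (K : Ideal A) (hK : K ≤ RingHom.ker (algebraMap A E))
    [IsArtinianRing (A ⧸ K)] : Module.Finite A E := by
  letI : Algebra (A ⧸ K) E := (Ideal.Quotient.lift K (algebraMap A E) hK).toAlgebra
  haveI : IsScalarTower A (A ⧸ K) E := IsScalarTower.of_algebraMap_eq (fun x => rfl)
  haveI : Algebra.QuasiFinite (A ⧸ K) E := Algebra.QuasiFinite.of_restrictScalars A (A ⧸ K) E
  haveI : Module.Finite (A ⧸ K) E := Module.Finite.of_quasiFinite
  exact Module.Finite.trans (A ⧸ K) E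

theorem unram_quotient (A : Type u) [CommRing A] [IsNoetherianRing A] (I : Ideal A)
    [IsAdicComplete I A] (B : Type u) [CommRing B] [Algebra A B] [IsNoetherianRing B]
    [IsAdicComplete (I.map (algebraMap A B)) B]
    (hft : Algebra.FiniteType A (B ⧸ (I.map (algebraMap A B))))
    [Algebra.Etale (A ⧸ I) (B ⧸ (I.map (algebraMap A B)))]
    (p : Ideal A) [p.IsPrime] (hdim : ringKrullDim (A ⧸ p) = 1) (hI : ¬ I ≤ p) :
    Module.Finite A (B ⧸ p.map (algebraMap A B)) ∧
      Algebra.FormallyUnramified A (B ⧸ p.map (algebraMap A B)) := by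
  obtain ⟨P, hP⟩ : ∃ P : Ideal B, P = p.map (algebraMap A B) := ⟨_, rfl⟩
  rw [← hP]
  obtain ⟨J, hJdef⟩ : ∃ J : Ideal (B ⧸ P), J = I.map (algebraMap A (B ⧸ P)) := ⟨_, rfl⟩
  have hJ : J = (I.map (algebraMap A B)).map (Ideal.Quotient.mk P) := by
    rw [hJdef, Ideal.map_map]; rfl
  -- the surjection B/IB → B'/J
  let f : (B ⧸ (I.map (algebraMap A B))) →ₐ[A] ((B ⧸ P) ⧸ J) :=
    Ideal.quotientMapₐ J (Ideal.Quotient.mkₐ A P)
      (by rw [hJ]; exact Ideal.le_comap_map)
  have hf : Function.Surjective f := by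
    intro x
    obtain ⟨d, rfl⟩ := Ideal.Quotient.mk_surjective x
    obtain ⟨b, rfl⟩ := Ideal.Quotient.mk_surjective d
    exact ⟨Ideal.Quotient.mk _ b, rfl⟩
  haveI : Algebra.FormallyUnramified A (B ⧸ (I.map (algebraMap A B))) :=
    Algebra.FormallyUnramified.comp A (A ⧸ I) _
  haveI hunr : Algebra.FormallyUnramified A ((B ⧸ P) ⧸ J) :=
    Algebra.FormallyUnramified.of_surjective f hf
  haveI hftJ : Algebra.FiniteType A ((B ⧸ P) ⧸ J) := Algebra.FiniteType.of_surjective f hf
  haveI : Algebra.QuasiFinite A ((B ⧸ P) ⧸ J) := inferInstance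
  haveI := isArtinianRing_quotient_sup I p hdim hI
  have hK : I ⊔ p ≤ RingHom.ker (algebraMap A ((B ⧸ P) ⧸ J)) := by
    refine sup_le ?_ ?_
    · intro x hx
      rw [RingHom.mem_ker]
      show Ideal.Quotient.mk J (algebraMap A (B ⧸ P) x) = 0
      rw [Ideal.Quotient.eq_zero_iff_mem, hJdef]
      exact Ideal.mem_map_of_mem _ hx
    · intro x hx
      rw [RingHom.mem_ker]
      show Ideal.Quotient.mk J (Ideal.Quotient.mk P (algebraMap A B x)) = 0
      have : Ideal.Quotient.mk P (algebraMap A B x) = 0 := by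
        rw [Ideal.Quotient.eq_zero_iff_mem, hP]
        exact Ideal.mem_map_of_mem _ hx
      rw [this, map_zero]
  haveI hfinJ : Module.Finite A ((B ⧸ P) ⧸ J) := finite_of_quasiFinite (I ⊔ p) hK
  -- Hausdorff
  haveI hH : IsHausdorff I (B ⧸ P) := by
    have h2 : IsHausdorff (I.map (algebraMap A B)) (B ⧸ P) :=
      IsHausdorff.of_le_jacobson _ _ (IsAdicComplete.le_jacobson_bot _)
    exact (IsHausdorff.map_algebraMap_iff (R := A) (S := B) (I := I)
      (M := B ⧸ P)).mp h2
  have hIJ : (I • ⊤ : Submodule A (B ⧸ P)) = J.restrictScalars A := by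
    rw [Ideal.smul_top_eq_map, hJdef]
  haveI : Module.Finite A ((B ⧸ P) ⧸ (I • ⊤ : Submodule A (B ⧸ P))) := by
    let e1 := Submodule.quotEquivOfEq _ _ hIJ
    let e2 := Submodule.Quotient.restrictScalarsEquiv A J
    exact Module.Finite.equiv (e1.trans e2).symm
  haveI hfin : Module.Finite A (B ⧸ P) :=
    Groth.Agent.Helper3.ComplUnram.finite_of_finite_quotient I
  refine ⟨hfin, ?_⟩
  -- J in the Jacobson radical
  have hJjac : I.map (algebraMap A (B ⧸ P)) ≤ Ideal.jacobson ⊥ := by
    rw [← hJdef, hJ]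
    refine le_sInf ?_
    rintro M ⟨-, hM⟩
    rw [Ideal.map_le_iff_le_comap]
    have hM' : (M.comap (Ideal.Quotient.mk P)).IsMaximal :=
      Ideal.comap_isMaximal_of_surjective _ Ideal.Quotient.mk_surjective
    refine le_trans (IsAdicComplete.le_jacobson_bot (I.map (algebraMap A B))) ?_
    exact sInf_le ⟨bot_le, hM'⟩
  haveI : Algebra.FormallyUnramified A ((B ⧸ P) ⧸ I.map (algebraMap A (B ⧸ P))) := by
    rw [← hJdef]; exact hunr
  exact formallyUnramified_of_quotient I hJjac

theorem main (A : Type u) [CommRing A] [IsNoetherianRing A] (I : Ideal A) [IsAdicComplete I A]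
    (B : Type u) [CommRing B] [Algebra A B] [IsNoetherianRing B]
    [IsAdicComplete (I.map (algebraMap A B)) B]
    (hft : Algebra.FiniteType A (B ⧸ (I.map (algebraMap A B))))
    [Algebra.Etale (A ⧸ I) (B ⧸ (I.map (algebraMap A B)))] (q : PrimeSpectrum B)
    (hp : (¬ I ≤ (PrimeSpectrum.comap (algebraMap A B) q).asIdeal ∧
      ∀ y : PrimeSpectrum A, (PrimeSpectrum.comap (algebraMap A B) q) ≤ y → ¬ I ≤ y.asIdeal →
        y = (PrimeSpectrum.comap (algebraMap A B) q))) :
    ((PrimeSpectrum.comap (algebraMap A B) q).asIdeal.map (algebraMap A B)).map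
        (algebraMap B (Localization.AtPrime q.asIdeal)) =
      IsLocalRing.maximalIdeal (Localization.AtPrime q.asIdeal) := by
  obtain ⟨hdim, -⟩ :=
    ((Groth.Agent.Helper3.RigClosed.main A I (PrimeSpectrum.comap (algebraMap A B) q)).out 0 1).mp hp
  obtain ⟨p, hpdef⟩ : ∃ p : Ideal A, p = (PrimeSpectrum.comap (algebraMap A B) q).asIdeal :=
    ⟨_, rfl⟩
  haveI hpprime : p.IsPrime := hpdef ▸ (PrimeSpectrum.comap (algebraMap A B) q).isPrime
  rw [← hpdef] at hdim ⊢
  have hIp : ¬ I ≤ p := hpdef ▸ hp.1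
  have hpq : p = q.asIdeal.comap (algebraMap A B) := hpdef
  obtain ⟨hfin, hunr⟩ := unram_quotient A I B hft p hdim hIp
  obtain ⟨P, hP⟩ : ∃ P : Ideal B, P = p.map (algebraMap A B) := ⟨_, rfl⟩
  rw [← hP] at hfin hunr ⊢
  have hPq : P ≤ q.asIdeal := by
    rw [hP, Ideal.map_le_iff_le_comap, hpq]
  -- the prime q' of B/P
  have hker : RingHom.ker (Ideal.Quotient.mk P) ≤ q.asIdeal := by rw [Ideal.mk_ker]; exact hPq
  haveI hq' : (q.asIdeal.map (Ideal.Quotient.mk P)).IsPrime :=
    Ideal.map_isPrime_of_surjective Ideal.Quotient.mk_surjective hker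
  have hcomap : (q.asIdeal.map (Ideal.Quotient.mk P)).comap (Ideal.Quotient.mk P) = q.asIdeal := by
    rw [Ideal.comap_map_of_surjective _ Ideal.Quotient.mk_surjective]
    rw [show (⊥ : Ideal (B ⧸ P)).comap (Ideal.Quotient.mk P) = P from Ideal.mk_ker]
    exact sup_eq_left.mpr hPq
  haveI hlies : (q.asIdeal.map (Ideal.Quotient.mk P)).LiesOver p := by
    constructor
    show p = (q.asIdeal.map (Ideal.Quotient.mk P)).comap (algebraMap A (B ⧸ P))
    rw [show algebraMap A (B ⧸ P) = (Ideal.Quotient.mk P).comp (algebraMap A B) from rfl,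
      ← Ideal.comap_comap, hcomap, hpq]
  letI := Localization.AtPrime.algebraOfLiesOver p (q.asIdeal.map (Ideal.Quotient.mk P))
  haveI : Algebra.IsUnramifiedAt A (q.asIdeal.map (Ideal.Quotient.mk P)) :=
    Algebra.FormallyUnramified.comp A (B ⧸ P) _
  have hmax := ((Algebra.isUnramifiedAt_iff_map_eq A p
    (q.asIdeal.map (Ideal.Quotient.mk P))).mp inferInstance).2
  have hbot : IsLocalRing.maximalIdeal
      (Localization.AtPrime (q.asIdeal.map (Ideal.Quotient.mk P))) = ⊥ := by
    rw [← hmax, Ideal.map_eq_bot_iff_le_ker]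
    intro x hx
    rw [RingHom.mem_ker, IsScalarTower.algebraMap_apply A (B ⧸ P)
      (Localization.AtPrime (q.asIdeal.map (Ideal.Quotient.mk P)))]
    have : algebraMap A (B ⧸ P) x = 0 := by
      show Ideal.Quotient.mk P (algebraMap A B x) = 0
      rw [Ideal.Quotient.eq_zero_iff_mem, hP]
      exact Ideal.mem_map_of_mem _ hx
    rw [this, map_zero]
  rw [← Localization.AtPrime.map_eq_maximalIdeal]
  apply le_antisymm (Ideal.map_mono hPq)
  rw [Ideal.map_le_iff_le_comap]
  intro x hx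
  have h1 : algebraMap (B ⧸ P) (Localization.AtPrime (q.asIdeal.map (Ideal.Quotient.mk P)))
      (Ideal.Quotient.mk P x) ∈ IsLocalRing.maximalIdeal _ := by
    rw [IsLocalization.AtPrime.to_map_mem_maximal_iff _ (q.asIdeal.map (Ideal.Quotient.mk P))]
    exact Ideal.mem_map_of_mem _ hx
  rw [hbot, Ideal.mem_bot] at h1
  obtain ⟨⟨s', hs'⟩, hs⟩ := (IsLocalization.map_eq_zero_iff
    (q.asIdeal.map (Ideal.Quotient.mk P)).primeCompl _ _).mp h1
  obtain ⟨s, rfl⟩ := Ideal.Quotient.mk_surjective s'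
  have hsq : s ∉ q.asIdeal := fun h => hs' (Ideal.mem_map_of_mem _ h)
  have hsx : s * x ∈ P := by
    rw [← Ideal.Quotient.eq_zero_iff_mem, map_mul]; exact hs
  rw [Ideal.mem_comap]
  have hunit : IsUnit (algebraMap B (Localization.AtPrime q.asIdeal) s) :=
    IsLocalization.map_units _ (⟨s, hsq⟩ : q.asIdeal.primeCompl)
  have : algebraMap B (Localization.AtPrime q.asIdeal) x =
      ↑hunit.unit⁻¹ * algebraMap B (Localization.AtPrime q.asIdeal) (s * x) := by
    rw [map_mul, ← mul_assoc, IsUnit.val_inv_mul, one_mul]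
  rw [this]
  exact Ideal.mul_mem_left _ _ (Ideal.mem_map_of_mem _ hsx)

end Groth.Agent.Helper3.EtRed
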