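import Mathlib
import Groth.Prelude
import Groth.Agent.Helper3.NerPowA

set_option autoImplicit false
set_option linter.style.haveILetI false
set_option linter.unusedSectionVars false
set_option linter.unusedVariables false
set_option linter.deprecated false
set_option linter.style.haveILetI false
set_option linter.unusedSectionVars false
set_option linter.unusedVariables false

open CategoryTheory CategoryTheory.Limits AlgebraicGeometry MonObj MonoidalCategory
  CartesianMonoidalCategory

namespace Groth.Agent.Helper3.ExtNerA

universe u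

variable {S S₀ : Scheme.{u}} (j : S₀ ⟶ S)

/-- the `j`-fibre of an `S`-scheme, viewed as an `S`-scheme -/
noncomputable abbrev TT (Y : Over S) : Over S := (Over.map j).obj ((Over.pullback j).obj Y)

/-- the projection of the `j`-fibre to `Y` -/
noncomputable abbrev ε (Y : Over S) : TT j Y ⟶ Y := (Over.mapPullbackAdj j).counit.app Y

theorem map_eq {Y G : Over S} (g : Y ⟶ G) :
    (Over.pullback j).map g = (Over.mapPullbackAdj j).homEquiv _ _ (ε j Y ≫ g) := by
  have h1 : (Over.mapPullbackAdj j).homEquiv _ _ (ε j Y) = 𝟙 _ := by
    have := (Over.mapPullbackAdj j).homEquiv_symm_id Y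
    rw [Equiv.symm_apply_eq] at this
    exact this.symm
  rw [Adjunction.homEquiv_naturality_right, h1, Category.id_comp]

theorem bijective_iff (Y G : Over S) :
    Function.Bijective (fun g : Y ⟶ G => (Over.pullback j).map g) ↔
      Function.Bijective (fun g : Y ⟶ G => ε j Y ≫ g) := by
  have h : (fun g : Y ⟶ G => (Over.pullback j).map g) =
      (Over.mapPullbackAdj j).homEquiv _ _ ∘ (fun g : Y ⟶ G => ε j Y ≫ g) := by
    funext g
    exact map_eq j g
  rw [h]
  exact Equiv.comp_bijective _ _

/-- functoriality of the `j`-fibre -/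
noncomputable abbrev τ {Y Y' : Over S} (f : Y ⟶ Y') : TT j Y ⟶ TT j Y' :=
  (Over.map j).map ((Over.pullback j).map f)

theorem τ_ε {Y Y' : Over S} (f : Y ⟶ Y') : τ j f ≫ ε j Y' = ε j Y ≫ f :=
  (Over.mapPullbackAdj j).counit.naturality f

theorem τ_comp {Y Y' Y'' : Over S} (f : Y ⟶ Y') (g : Y' ⟶ Y'') :
    τ j (f ≫ g) = τ j f ≫ τ j g := by
  unfold τ
  rw [Functor.map_comp, Functor.map_comp]

theorem epi_τ {Y Y' : Over S} (f : Y ⟶ Y') [Flat f.left] [Surjective f.left] : Epi (τ j f) := by
  have sq := NerPowA.isPullback_map_left j f
  haveI : Flat ((Over.pullback j).map f).left :=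
    MorphismProperty.of_isPullback (P := @Flat) sq.flip inferInstance
  haveI : Surjective ((Over.pullback j).map f).left :=
    MorphismProperty.of_isPullback (P := @Surjective) sq.flip inferInstance
  haveI : Epi (τ j f).left := by
    show Epi ((Over.pullback j).map f).left
    exact Flat.epi_of_flat_of_surjective _
  exact Over.epi_of_epi_left _

end Groth.Agent.Helper3.ExtNerA
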