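import Mathlib
import Groth.Prelude
import Groth.Agent.Helper3.ExtNerA

set_option autoImplicit false
set_option linter.style.haveILetI false
set_option linter.unusedSectionVars false
set_option linter.unusedVariables false
set_option linter.deprecated false
set_option linter.style.haveILetI false
set_option linter.unusedSectionVars false
set_option linter.unusedVariables false

open CategoryTheory CategoryTheory.Limits AlgebraicGeometry MonObj MonoidalCategory
  CartesianMonoidalCategory

namespace Groth.Agent.Helper3.ExtNerB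

universe u

variable {S : Scheme.{u}} {G' G G'' : Over S} [GrpObj G'] [GrpObj G] [GrpObj G'']
  (i : G' ⟶ G) (q : G ⟶ G'') [IsMonHom i] [IsMonHom q] (hker : AlgGrp.IsKernel i q)

include hker

theorem i_q : i ≫ q = 1 := by
  have := hker.w
  rw [this, Hom.one_def]

/-- points of `G` killed by `q` come from `G'` -/
theorem exists_lift {T : Over S} (a : T ⟶ G) (ha : a ≫ q = 1) : ∃ b : T ⟶ G', b ≫ i = a := by
  have hw : a ≫ q = toUnit T ≫ η[G''] := by rw [ha, Hom.one_def]
  exact ⟨hker.lift a (toUnit T) hw, hker.lift_fst _ _ _⟩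

theorem i_cancel {T : Over S} (b₁ b₂ : T ⟶ G') (h : b₁ ≫ i = b₂ ≫ i) : b₁ = b₂ :=
  hker.hom_ext h (toUnit_unique _ _)

/-- the translation square: `G' × G ≅ G ×_{G''} G` -/
theorem isPullback_mul :
    IsPullback (snd G' G) ((fst G' G ≫ i) * snd G' G) q q := by
  have hw : snd G' G ≫ q = ((fst G' G ≫ i) * snd G' G) ≫ q := by
    rw [MonObj.mul_comp, Category.assoc, i_q i q hker, MonObj.comp_one, _root_.one_mul]
  refine ⟨⟨hw⟩, ⟨PullbackCone.IsLimit.mk hw ?_ ?_ ?_ ?_⟩⟩
  · intro s
    have h1 : (s.snd * s.fst⁻¹) ≫ q = 1 := by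
      rw [MonObj.mul_comp, GrpObj.inv_comp, s.condition, mul_inv_cancel]
    exact lift (exists_lift i q hker _ h1).choose s.fst
  · intro s
    exact lift_snd _ _
  · intro s
    have h1 : (s.snd * s.fst⁻¹) ≫ q = 1 := by
      rw [MonObj.mul_comp, GrpObj.inv_comp, s.condition, mul_inv_cancel]
    rw [MonObj.comp_mul, ← Category.assoc, lift_fst, lift_snd,
      (exists_lift i q hker _ h1).choose_spec, inv_mul_cancel_right]
  · intro s m hm1 hm2
    have h1 : (s.snd * s.fst⁻¹) ≫ q = 1 := by
      rw [MonObj.mul_comp, GrpObj.inv_comp, s.condition, mul_inv_cancel]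
    apply CartesianMonoidalCategory.hom_ext
    · rw [lift_fst]
      apply i_cancel i q hker
      rw [(exists_lift i q hker _ h1).choose_spec, ← hm2, ← hm1, MonObj.comp_mul, Category.assoc,
        mul_inv_cancel_right]
    · rw [lift_snd, hm1]

/-- a flat surjective homomorphism locally of finite presentation with smooth kernel is smooth -/
theorem smooth_q [Smooth G'.hom] [Flat q.left] [Surjective q.left]
    [LocallyOfFinitePresentation q.left] : Smooth q.left := by
  have sq := (isPullback_mul i q hker).map (Over.forget S)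
  have hq1 : Surjective q.left := inferInstance
  have hq2 : Flat q.left := inferInstance
  have hq3 : LocallyOfFinitePresentation q.left := inferInstance
  have hs : Smooth ((Over.forget S).map (snd G' G)) := by
    show Smooth (snd G' G).left
    rw [Over.snd_left]
    infer_instance
  exact MorphismProperty.of_isPullback_of_descendsAlong (P := @Smooth)
    (Q := @Surjective ⊓ @Flat ⊓ @LocallyOfFinitePresentation) sq
    ⟨⟨hq1, hq2⟩, hq3⟩ hs

end Groth.Agent.Helper3.ExtNerB
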