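import Mathlib
import Groth.Prelude
import Groth.Agent.Helper3.ExtNerB

set_option autoImplicit false
set_option linter.style.haveILetI false
set_option linter.unusedSectionVars false
set_option linter.unusedVariables false
set_option linter.deprecated false
set_option linter.style.haveILetI false
set_option linter.unusedSectionVars false
set_option linter.unusedVariables false

open CategoryTheory CategoryTheory.Limits AlgebraicGeometry MonObj MonoidalCategory
  CartesianMonoidalCategory

namespace Groth.Agent.Helper3.ExtNerC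

open Groth.Agent.Helper3.ExtNerA Groth.Agent.Helper3.ExtNerB

universe u

variable {S S₀ : Scheme.{u}} (j : S₀ ⟶ S)

/-- the Néron mapping property relative to `j`, in terms of restriction along the `j`-fibre -/
def NMP (G : Over S) : Prop :=
  ∀ Y : Over S, Smooth Y.hom → Function.Bijective (fun g : Y ⟶ G => ε j Y ≫ g)

theorem nmp_iff (G : Over S) :
    NMP j G ↔ ∀ Y : Over S, Smooth Y.hom →
      Function.Bijective (fun g : Y ⟶ G => (Over.pullback j).map g) := by
  unfold NMP
  exact forall_congr' fun Y => forall_congr' fun _ => (bijective_iff j Y G).symm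

variable {G' G G'' : Over S} [GrpObj G'] [GrpObj G] [GrpObj G'']
  (i : G' ⟶ G) (q : G ⟶ G'') [IsMonHom i] [IsMonHom q] (hker : AlgGrp.IsKernel i q)

include hker

theorem injective_mid (hG' : NMP j G') (hG'' : NMP j G'') (Y : Over S) (hY : Smooth Y.hom) :
    Function.Injective (fun g : Y ⟶ G => ε j Y ≫ g) := by
  intro g1 g2 h
  have h : ε j Y ≫ g1 = ε j Y ≫ g2 := h
  have hq : g1 ≫ q = g2 ≫ q := by
    apply (hG'' Y hY).1
    show ε j Y ≫ g1 ≫ q = ε j Y ≫ g2 ≫ q
    rw [← Category.assoc, h, Category.assoc]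
  have hd : (g1 * g2⁻¹) ≫ q = 1 := by
    rw [MonObj.mul_comp, GrpObj.inv_comp, hq, mul_inv_cancel]
  obtain ⟨b, hb⟩ := exists_lift i q hker _ hd
  have hb1 : b = 1 := by
    apply (hG' Y hY).1
    show ε j Y ≫ b = ε j Y ≫ 1
    apply i_cancel i q hker
    rw [Category.assoc, hb, MonObj.comp_mul, GrpObj.comp_inv, h, mul_inv_cancel, MonObj.comp_one,
      MonObj.one_comp]
  rw [hb1, MonObj.one_comp] at hb
  exact mul_inv_eq_one.mp hb.symm


theorem surjective_mid [Smooth G'.hom] [Flat q.left] [Surjective q.left]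
    [LocallyOfFinitePresentation q.left] (hG' : NMP j G') (hG'' : NMP j G'')
    (Y : Over S) (hY : Smooth Y.hom) :
    Function.Surjective (fun g : Y ⟶ G => ε j Y ≫ g) := by
  intro u
  obtain ⟨w, hw⟩ := (hG'' Y hY).2 (u ≫ q)
  have hw : ε j Y ≫ w = u ≫ q := hw
  haveI hqs : Smooth q.left := smooth_q i q hker
  -- the pulled-back torsor
  let P : Over S := Over.mk (pullback.fst w.left q.left ≫ Y.hom)
  let p1 : P ⟶ Y := Over.homMk (pullback.fst w.left q.left) rfl
  have hp2 : pullback.snd w.left q.left ≫ G.hom = P.hom := by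
    show _ = pullback.fst w.left q.left ≫ Y.hom
    rw [← Over.w q, ← Category.assoc, ← pullback.condition, Category.assoc, Over.w w]
  let p2 : P ⟶ G := Over.homMk (pullback.snd w.left q.left) hp2
  have hp : p1 ≫ w = p2 ≫ q := Over.OverMorphism.ext pullback.condition
  haveI : Smooth p1.left := by
    show Smooth (pullback.fst w.left q.left)
    infer_instance
  haveI : Surjective p1.left := by
    show Surjective (pullback.fst w.left q.left)
    infer_instance
  have hP : Smooth P.hom := by
    show Smooth (pullback.fst w.left q.left ≫ Y.hom)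
    infer_instance
  -- the difference lands in the kernel
  have ha : ((τ j p1 ≫ u) * (ε j P ≫ p2)⁻¹) ≫ q = 1 := by
    rw [MonObj.mul_comp, GrpObj.inv_comp, Category.assoc, ← hw, ← Category.assoc (τ j p1),
      τ_ε, Category.assoc, hp, Category.assoc, mul_inv_cancel]
  obtain ⟨b, hb⟩ := exists_lift i q hker _ ha
  obtain ⟨h, hh⟩ := (hG' P hP).2 b
  have hh : ε j P ≫ h = b := hh
  have hg' : ε j P ≫ ((h ≫ i) * p2) = τ j p1 ≫ u := by
    rw [MonObj.comp_mul, ← Category.assoc, hh, hb, inv_mul_cancel_right]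
  -- the kernel pair
  let R : Over S := Over.mk (pullback.fst p1.left p1.left ≫ P.hom)
  let r1 : R ⟶ P := Over.homMk (pullback.fst p1.left p1.left) rfl
  have hr2 : pullback.snd p1.left p1.left ≫ P.hom = R.hom := by
    show _ = pullback.fst p1.left p1.left ≫ P.hom
    rw [← Over.w p1, ← Category.assoc, ← pullback.condition, Category.assoc]
  let r2 : R ⟶ P := Over.homMk (pullback.snd p1.left p1.left) hr2
  have hr : r1 ≫ p1 = r2 ≫ p1 := Over.OverMorphism.ext pullback.condition
  have hR : Smooth R.hom := by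
    show Smooth (pullback.fst p1.left p1.left ≫ P.hom)
    infer_instance
  have hdesc : r1 ≫ ((h ≫ i) * p2) = r2 ≫ ((h ≫ i) * p2) := by
    apply injective_mid j i q hker hG' hG'' R hR
    show ε j R ≫ r1 ≫ ((h ≫ i) * p2) = ε j R ≫ r2 ≫ ((h ≫ i) * p2)
    rw [← Category.assoc, ← τ_ε, Category.assoc, hg', ← Category.assoc, ← τ_comp,
      ← Category.assoc (ε j R), ← τ_ε j r2, Category.assoc, hg', ← Category.assoc, ← τ_comp, hr]
  -- descent along the fppf cover p1
  let gl : Y.left ⟶ G.left := EffectiveEpi.desc p1.left ((h ≫ i) * p2).left (by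
    intro Z g₁ g₂ hg
    obtain ⟨t, e1, e2⟩ : ∃ t : Z ⟶ R.left, g₁ = t ≫ r1.left ∧ g₂ = t ≫ r2.left :=
      ⟨pullback.lift g₁ g₂ hg, (pullback.lift_fst _ _ _).symm, (pullback.lift_snd _ _ _).symm⟩
    rw [e1, e2, Category.assoc, Category.assoc, ← Over.comp_left, ← Over.comp_left, hdesc])
  have hfac : p1.left ≫ gl = ((h ≫ i) * p2).left := EffectiveEpi.fac _ _ _
  have hgl : gl ≫ G.hom = Y.hom := by
    rw [← cancel_epi p1.left, ← Category.assoc, hfac, Over.w, Over.w]
  let g : Y ⟶ G := Over.homMk gl hgl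
  have hpg : p1 ≫ g = (h ≫ i) * p2 := Over.OverMorphism.ext hfac
  refine ⟨g, ?_⟩
  show ε j Y ≫ g = u
  haveI : Flat p1.left := inferInstance
  haveI := epi_τ j p1
  rw [← cancel_epi (τ j p1), ← Category.assoc, τ_ε, Category.assoc, hpg, hg']

theorem nmp_mid [Smooth G'.hom] [Flat q.left] [Surjective q.left]
    [LocallyOfFinitePresentation q.left] (hG' : NMP j G') (hG'' : NMP j G'') : NMP j G :=
  fun Y hY => ⟨injective_mid j i q hker hG' hG'' Y hY, surjective_mid j i q hker hG' hG'' Y hY⟩

end Groth.Agent.Helper3.ExtNerC
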