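import Mathlib
import Groth.Prelude
import Groth.Agent.Helper3.FBaseA

set_option autoImplicit false
set_option linter.style.haveILetI false
set_option linter.unusedSectionVars false
set_option linter.unusedVariables false
set_option linter.deprecated false
set_option linter.style.haveILetI false
set_option linter.unusedSectionVars false
set_option linter.unusedVariables false

namespace Groth.Agent.Helper3.FBaseB

universe u

open AlgebraicGeometry CategoryTheory TopologicalSpace Limits TensorProduct

variable {X' S T : Scheme.{u}} (g : X' ⟶ S) (t : T ⟶ S)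

/-- the base change of the reduction to the base change -/
noncomputable abbrev jj : pullback (X'.nilradical.subschemeι ≫ g) t ⟶ pullback g t :=
  pullback.map (X'.nilradical.subschemeι ≫ g) t g t X'.nilradical.subschemeι (𝟙 _) (𝟙 _)
    (Category.comp_id _) ((Category.comp_id _).trans (Category.id_comp _).symm)

theorem jj_fst : jj g t ≫ pullback.fst g t =
    pullback.fst (X'.nilradical.subschemeι ≫ g) t ≫ X'.nilradical.subschemeι := by
  unfold jj pullback.map
  rw [pullback.lift_fst]

theorem jj_snd : jj g t ≫ pullback.snd g t = pullback.snd (X'.nilradical.subschemeι ≫ g) t := by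
  unfold jj pullback.map
  rw [pullback.lift_snd, Category.comp_id]

theorem isPullback_jj :
    IsPullback (jj g t) (pullback.fst (X'.nilradical.subschemeι ≫ g) t) (pullback.fst g t)
      X'.nilradical.subschemeι := by
  have hR : IsPullback (pullback.snd g t) (pullback.fst g t) t g :=
    (IsPullback.of_hasPullback g t).flip
  have hB : IsPullback (jj g t ≫ pullback.snd g t)
      (pullback.fst (X'.nilradical.subschemeι ≫ g) t) t (X'.nilradical.subschemeι ≫ g) := by
    rw [jj_snd]
    exact (IsPullback.of_hasPullback (X'.nilradical.subschemeι ≫ g) t).flip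
  exact IsPullback.of_right hB (jj_fst g t) hR

instance : IsClosedImmersion (jj g t) :=
  MorphismProperty.of_isPullback (P := @IsClosedImmersion) (isPullback_jj g t).flip inferInstance

theorem ker_jj : (jj g t).ker = X'.nilradical.comap (pullback.fst g t) := by
  have := RedA.ker_of_isPullback _ _ _ _ (isPullback_jj g t)
  rw [this, Scheme.IdealSheafData.ker_subschemeι]

theorem ker_stalkMap_jj (z : ↥(pullback (X'.nilradical.subschemeι ≫ g) t)) :
    RingHom.ker ((jj g t).stalkMap z).hom =
      (nilradical (X'.presheaf.stalk (pullback.fst g t (jj g t z)))).map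
        ((pullback.fst g t).stalkMap (jj g t z)).hom := by
  set π := pullback.fst g t with hπ
  set x'' := jj g t z with hx''
  obtain ⟨_, ⟨U, hU, rfl⟩, hxU, -⟩ :=
    (X'.isBasis_affineOpens).exists_subset_of_mem_open (show π x'' ∈ (⊤ : X'.Opens) from trivial)
      (⊤ : X'.Opens).2
  obtain ⟨_, ⟨V, hV, rfl⟩, hxV, hVU⟩ :=
    ((pullback g t).isBasis_affineOpens).exists_subset_of_mem_open (show x'' ∈ π ⁻¹ᵁ U from hxU)
      (π ⁻¹ᵁ U).2
  rw [CnIsoB.ker_stalkMap_germ (jj g t) z ⟨V, hV⟩ hxV, ker_jj,
    Groth.Agent.Helper9.IdealComap.ideal_comap π X'.nilradical ⟨U, hU⟩ ⟨V, hV⟩ hVU,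
    ← FBaseA.nilradical_map_germ ⟨U, hU⟩ (π x'') hxU, Ideal.map_map, Ideal.map_map]
  congr 1
  have h1 : X'.presheaf.germ U (π x'') hxU ≫ π.stalkMap x'' =
      π.appLE U V hVU ≫ (pullback g t).presheaf.germ V x'' hxV := by
    rw [Scheme.Hom.germ_stalkMap, Scheme.Hom.appLE, Category.assoc,
      (pullback g t).presheaf.germ_res]
  have h2 := congrArg CommRingCat.Hom.hom h1
  rw [CommRingCat.hom_comp, CommRingCat.hom_comp] at h2
  exact h2.symm

theorem core [Flat t] (z'' : ↥(pullback (X'.nilradical.subschemeι ≫ g) t))
    (hmax : ∀ y : ↥(pullback g t), y ⤳ jj g t z'' → y = jj g t z'') :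
    Module.length ((pullback g t).presheaf.stalk (jj g t z''))
        ((pullback g t).presheaf.stalk (jj g t z'')) =
      Module.length (X'.presheaf.stalk (pullback.fst g t (jj g t z'')))
          (X'.presheaf.stalk (pullback.fst g t (jj g t z''))) *
        Module.length ((pullback (X'.nilradical.subschemeι ≫ g) t).presheaf.stalk z'')
          ((pullback (X'.nilradical.subschemeι ≫ g) t).presheaf.stalk z'') := by
  set π := pullback.fst g t with hπ
  set x'' := jj g t z'' with hx''
  -- x' is a maximal point
  have hmax' : ∀ y : X', y ⤳ π x'' → y = π x'' := by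
    intro y hy
    obtain ⟨y'', hy''1, hy''2⟩ := (Flat.generalizingMap π) hy
    rw [hmax y'' hy''1] at hy''2
    exact hy''2.symm
  letI algAB : Algebra (X'.presheaf.stalk (π x'')) ((pullback g t).presheaf.stalk x'') :=
    (π.stalkMap x'').hom.toAlgebra
  letI algBC : Algebra ((pullback g t).presheaf.stalk x'')
      ((pullback (X'.nilradical.subschemeι ≫ g) t).presheaf.stalk z'') :=
    ((jj g t).stalkMap z'').hom.toAlgebra
  haveI : Module.Flat (X'.presheaf.stalk (π x'')) ((pullback g t).presheaf.stalk x'') :=
    Flat.stalkMap π x''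
  haveI : IsLocalHom (algebraMap (X'.presheaf.stalk (π x''))
      ((pullback g t).presheaf.stalk x'')) :=
    inferInstanceAs (IsLocalHom (π.stalkMap x'').hom)
  refine FBaseA.length_flat_local ((jj g t).stalkMap_surjective z'') ?_
  have h1 := ker_stalkMap_jj g t z''
  rw [FBaseA.nilradical_eq_maximalIdeal (FBaseA.prime_eq_maximalIdeal (π x'') hmax')] at h1
  exact h1

end Groth.Agent.Helper3.FBaseB
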