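import Mathlib
import Groth.Prelude
import Groth.Agent.Helper3.FBaseB
import Groth.Agent.S4370

set_option autoImplicit false
set_option linter.style.haveILetI false
set_option linter.unusedSectionVars false
set_option linter.unusedVariables false
set_option linter.deprecated false
set_option linter.style.haveILetI false
set_option linter.unusedSectionVars false
set_option linter.unusedVariables false

namespace Groth.Agent.Helper3.FBaseC

universe u

open AlgebraicGeometry CategoryTheory TopologicalSpace Limits TensorProduct

/-- a reduced local ring with a single prime has length one -/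
theorem length_eq_one {A : Type u} [CommRing A] [IsLocalRing A] [IsReduced A]
    (h : ∀ p : Ideal A, p.IsPrime → p = IsLocalRing.maximalIdeal A) :
    Module.length A A = 1 := by
  have h1 := FBaseA.nilradical_eq_maximalIdeal h
  rw [nilradical_eq_zero] at h1
  have hF : IsField A := IsLocalRing.isField_iff_maximalIdeal_eq.2 h1.symm
  letI := hF.toField
  exact Module.length_eq_one_iff.2 inferInstance

variable {X' S T : Scheme.{u}} (g : X' ⟶ S) (t : T ⟶ S)

theorem surjective_jj : Function.Surjective (FBaseB.jj g t) := by
  haveI : Surjective X'.nilradical.subschemeι := Groth.Agent.S4370.surjective_nilradical_subschemeι X'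
  have : Surjective (FBaseB.jj g t) :=
    MorphismProperty.of_isPullback (P := @Surjective) (FBaseB.isPullback_jj g t).flip inferInstance
  exact this.surj

theorem core2 [Flat t] [GeometricallyReduced t] [IsLocallyNoetherian X']
    (x'' : ↥(pullback g t)) (hmax : ∀ y : ↥(pullback g t), y ⤳ x'' → y = x'') :
    Module.length ((pullback g t).presheaf.stalk x'') ((pullback g t).presheaf.stalk x'') =
      Module.length (X'.presheaf.stalk (pullback.fst g t x''))
        (X'.presheaf.stalk (pullback.fst g t x'')) := by
  obtain ⟨z'', rfl⟩ := surjective_jj g t x''
  rw [FBaseB.core g t z'' hmax]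
  haveI : IsReduced X'.nilradical.subscheme := Groth.Agent.S4370.isReduced_nilradical_subscheme X'
  haveI : IsLocallyNoetherian X'.nilradical.subscheme :=
    LocallyOfFiniteType.isLocallyNoetherian X'.nilradical.subschemeι
  haveI : IsReduced (pullback (X'.nilradical.subschemeι ≫ g) t) := inferInstance
  have hmaxz : ∀ y : ↥(pullback (X'.nilradical.subschemeι ≫ g) t), y ⤳ z'' → y = z'' := by
    intro y hy
    have := hmax _ (hy.map (FBaseB.jj g t).continuous)
    exact (FBaseB.jj g t).isEmbedding.injective this
  rw [length_eq_one (FBaseA.prime_eq_maximalIdeal z'' hmaxz), mul_one]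

end Groth.Agent.Helper3.FBaseC
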