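import Mathlib
import Groth.Agent.Helper7.RkTower

set_option autoImplicit false
set_option linter.style.haveILetI false
set_option linter.unusedSectionVars false
set_option linter.unusedVariables false
set_option linter.deprecated false
set_option linter.style.haveILetI false
set_option linter.unusedSectionVars false
set_option linter.unusedVariables false

/-!
# Multiplicativity of the rank of finite flat morphisms in towers (constant upper rank)
-/

namespace Groth.Agent.Helper3.FRank
open CategoryTheory Limits AlgebraicGeometry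

universe u

theorem ringHom_finrank_comp {R B C : Type u} [CommRing R] [CommRing B] [CommRing C]
    (ρ : R →+* B) (σ : B →+* C) (hρf : ρ.Finite) (hρfl : ρ.Flat) (hσf : σ.Finite)
    (hσfl : σ.Flat) (a : ℕ) (ha : ∀ P, σ.finrank P = a) (p : PrimeSpectrum R) :
    (σ.comp ρ).finrank p = a * ρ.finrank p := by
  algebraize [ρ, σ, σ.comp ρ]
  have : Module.Finite R C := Module.Finite.trans B C
  have : Module.Flat R C := Module.Flat.trans R B C
  exact Groth.Agent.Helper7.RkTower.rankAtStalk_tower C p a (fun P _ => ha P)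

theorem finrank_comp_affine {Z X : Scheme.{u}} {R : CommRingCat.{u}} (g : Z ⟶ X) (f : X ⟶ Spec R)
    [IsFinite g] [Flat g] [IsFinite f] [Flat f] (a : ℕ) (ha : ∀ x, g.finrank x = a)
    (y : Spec R) : (g ≫ f).finrank y = a * f.finrank y := by
  have hX : IsAffine X := isAffine_of_isAffineHom f
  have hZ : IsAffine Z := isAffine_of_isAffineHom g
  obtain ⟨ρ, hρ⟩ := Spec.map_surjective (X.isoSpec.inv ≫ f)
  obtain ⟨σ, hσ⟩ := Spec.map_surjective (Z.isoSpec.inv ≫ g ≫ X.isoSpec.hom)
  have hρf : ρ.hom.Finite := by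
    rw [← IsFinite.SpecMap_iff, hρ]; infer_instance
  have hρfl : ρ.hom.Flat := by
    rw [← Flat.SpecMap_iff, hρ]; infer_instance
  have hσf : σ.hom.Finite := by
    rw [← IsFinite.SpecMap_iff, hσ]; infer_instance
  have hσfl : σ.hom.Flat := by
    rw [← Flat.SpecMap_iff, hσ]; infer_instance
  have e0 : f.finrank = ρ.hom.finrank := by
    rw [← Scheme.Hom.finrank_comp_left_of_isIso X.isoSpec.inv f, ← hρ,
      Scheme.Hom.finrank_SpecMap_eq_finrank hρf hρfl]
  have hcf : (ρ ≫ σ).hom.Finite := by
    rw [CommRingCat.hom_comp]; exact hσf.comp hρf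
  have hcfl : (ρ ≫ σ).hom.Flat := by
    rw [CommRingCat.hom_comp]; exact hρfl.comp hσfl
  have e1 : (g ≫ f).finrank = (ρ ≫ σ).hom.finrank := by
    rw [← Scheme.Hom.finrank_comp_left_of_isIso Z.isoSpec.inv (g ≫ f),
      ← Scheme.Hom.finrank_SpecMap_eq_finrank hcf hcfl]
    congr 1
    rw [Spec.map_comp, hσ, hρ]
    simp only [Category.assoc, Iso.hom_inv_id_assoc]
  have e2 : ∀ P, σ.hom.finrank P = a := by
    intro P
    have sq : IsPullback Z.isoSpec.inv (Spec.map σ) g X.isoSpec.inv := by
      refine IsPullback.of_horiz_isIso ⟨?_⟩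
      rw [hσ]
      simp only [Category.assoc, Iso.hom_inv_id, Category.comp_id]
    have h := Scheme.Hom.finrank_of_isPullback _ _ _ _ sq P
    rw [Scheme.Hom.finrank_SpecMap_eq_finrank hσf hσfl] at h
    rw [h, ha]
  rw [e0, e1, CommRingCat.hom_comp]
  exact ringHom_finrank_comp ρ.hom σ.hom hρf hρfl hσf hσfl a e2 y

theorem finrank_comp {Z X Y : Scheme.{u}} (g : Z ⟶ X) (f : X ⟶ Y)
    [IsFinite g] [Flat g] [IsFinite f] [Flat f] (a : ℕ) (ha : ∀ x, g.finrank x = a)
    (y : Y) : (g ≫ f).finrank y = a * f.finrank y := by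
  obtain ⟨R, i, hi, y', rfl⟩ := Y.exists_Spec_apply_eq y
  let X' := pullback f i
  let f' : X' ⟶ Spec R := pullback.snd f i
  let p : X' ⟶ X := pullback.fst f i
  let Z' := pullback g p
  let g' : Z' ⟶ X' := pullback.snd g p
  let q : Z' ⟶ Z := pullback.fst g p
  have sq1 : IsPullback p f' f i := IsPullback.of_hasPullback f i
  have sq2 : IsPullback q g' g p := IsPullback.of_hasPullback g p
  have sq3 : IsPullback q (g' ≫ f') (g ≫ f) i := sq2.paste_vert sq1
  have hg' : ∀ x, g'.finrank x = a := by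
    intro x
    rw [Scheme.Hom.finrank_of_isPullback _ _ _ _ sq2 x, ha]
  have h1 := Scheme.Hom.finrank_of_isPullback _ _ _ _ sq3 y'
  have h2 := Scheme.Hom.finrank_of_isPullback _ _ _ _ sq1 y'
  rw [← h1, ← h2]
  exact finrank_comp_affine g' f' a hg' y'

end Groth.Agent.Helper3.FRank
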