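import Mathlib

set_option autoImplicit false
set_option linter.style.haveILetI false
set_option linter.unusedSectionVars false
set_option linter.unusedVariables false
set_option linter.deprecated false
set_option linter.style.haveILetI false
set_option linter.unusedSectionVars false
set_option linter.unusedVariables false

/-!
# Additivity of the rank of a finite flat morphism over a clopen decomposition
-/

namespace Groth.Agent.Helper3.FSplit
open CategoryTheory Limits AlgebraicGeometry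

universe u

theorem ringHom_finrank_add {R B B₁ B₂ : Type u} [CommRing R] [CommRing B] [CommRing B₁]
    [CommRing B₂] (ρ : R →+* B) (π₁ : B →+* B₁) (π₂ : B →+* B₂)
    (hbij : Function.Bijective (π₁.prod π₂))
    (hfin : ρ.Finite) (hflat : ρ.Flat) (p : PrimeSpectrum R) :
    ρ.finrank p = (π₁.comp ρ).finrank p + (π₂.comp ρ).finrank p := by
  algebraize [ρ, π₁.comp ρ, π₂.comp ρ]
  let e : B ≃ₗ[R] B₁ × B₂ := LinearEquiv.ofBijective
    { toFun := π₁.prod π₂
      map_add' := fun x y => map_add _ x y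
      map_smul' := fun r x => by
        ext
        · show π₁ (ρ r * x) = (π₁.comp ρ) r * π₁ x
          simp
        · show π₂ (ρ r * x) = (π₂.comp ρ) r * π₂ x
          simp } hbij
  have hf1 : Module.Finite R (B₁ × B₂) := Module.Finite.equiv e
  have hfl1 : Module.Flat R (B₁ × B₂) := Module.Flat.of_linearEquiv e.symm
  have : Module.Finite R B₁ := Module.Finite.of_surjective (LinearMap.fst R B₁ B₂)
    LinearMap.fst_surjective
  have : Module.Finite R B₂ := Module.Finite.of_surjective (LinearMap.snd R B₁ B₂)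
    LinearMap.snd_surjective
  have : Module.Flat R B₁ := Module.Flat.of_retract (LinearMap.inl R B₁ B₂) (LinearMap.fst R B₁ B₂)
    (by ext; simp)
  have : Module.Flat R B₂ := Module.Flat.of_retract (LinearMap.inr R B₁ B₂) (LinearMap.snd R B₁ B₂)
    (by ext; simp)
  show Module.rankAtStalk B p = Module.rankAtStalk B₁ p + Module.rankAtStalk B₂ p
  rw [Module.rankAtStalk_eq_of_equiv e, Module.rankAtStalk_prod]
  rfl

theorem finrank_add_Spec {R B B₁ B₂ : CommRingCat.{u}} (ρ : R ⟶ B) (π₁ : B ⟶ B₁) (π₂ : B ⟶ B₂)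
    (hiso : IsIso (coprod.desc (Spec.map π₁) (Spec.map π₂)))
    (hfin : ρ.hom.Finite) (hflat : ρ.hom.Flat) (p : PrimeSpectrum R) :
    ρ.hom.finrank p = (ρ ≫ π₁).hom.finrank p + (ρ ≫ π₂).hom.finrank p := by
  refine ringHom_finrank_add ρ.hom π₁.hom π₂.hom ?_ hfin hflat p
  let θ : B ⟶ CommRingCat.of (B₁ × B₂) := CommRingCat.ofHom (π₁.hom.prod π₂.hom)
  have h : coprodSpec B₁ B₂ ≫ Spec.map θ = coprod.desc (Spec.map π₁) (Spec.map π₂) := by
    apply coprod.hom_ext
    · rw [coprodSpec_inl_assoc, ← Spec.map_comp, coprod.inl_desc]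
      congr 1
    · rw [coprodSpec_inr_assoc, ← Spec.map_comp, coprod.inr_desc]
      congr 1
  have h2 : IsIso (Spec.map θ) := by
    have : Spec.map θ = inv (coprodSpec B₁ B₂) ≫ coprod.desc (Spec.map π₁) (Spec.map π₂) :=
      (IsIso.eq_inv_comp _).2 h
    rw [this]
    exact IsIso.comp_isIso
  have h3 : IsIso θ := by
    have : IsIso (Scheme.Spec.map θ.op) := h2
    have := isIso_of_reflects_iso θ.op Scheme.Spec
    exact isIso_of_op θ
  exact ConcreteCategory.bijective_of_isIso θ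

/-- additivity of the rank over a clopen decomposition, affine base -/
theorem finrank_add_affine {X₁ X₂ X : Scheme.{u}} {R : CommRingCat.{u}} (ι₁ : X₁ ⟶ X) (ι₂ : X₂ ⟶ X)
    [IsOpenImmersion ι₁] [IsOpenImmersion ι₂]
    (hcompl : IsCompl ι₁.opensRange ι₂.opensRange)
    (f : X ⟶ Spec R) [IsFinite f] [Flat f] [IsFinite (ι₁ ≫ f)] [IsFinite (ι₂ ≫ f)] (y : Spec R) :
    f.finrank y = (ι₁ ≫ f).finrank y + (ι₂ ≫ f).finrank y := by
  have hX : IsAffine X := isAffine_of_isAffineHom f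
  have hX₁ : IsAffine X₁ := isAffine_of_isAffineHom (ι₁ ≫ f)
  have hX₂ : IsAffine X₂ := isAffine_of_isAffineHom (ι₂ ≫ f)
  obtain ⟨hc⟩ := nonempty_isColimit_binaryCofanMk_of_isCompl ι₁ ι₂ hcompl
  have hdesc : IsIso (coprod.desc ι₁ ι₂) := by
    have : coprod.desc ι₁ ι₂ = ((colimit.isColimit _).coconePointUniqueUpToIso hc).hom := by
      apply coprod.hom_ext
      · rw [coprod.inl_desc]
        exact ((colimit.isColimit _).comp_coconePointUniqueUpToIso_hom hc ⟨WalkingPair.left⟩).symm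
      · rw [coprod.inr_desc]
        exact ((colimit.isColimit _).comp_coconePointUniqueUpToIso_hom hc ⟨WalkingPair.right⟩).symm
    rw [this]
    infer_instance
  obtain ⟨ρ, hρ⟩ := Spec.map_surjective (X.isoSpec.inv ≫ f)
  obtain ⟨π₁, hπ₁⟩ := Spec.map_surjective (X₁.isoSpec.inv ≫ ι₁ ≫ X.isoSpec.hom)
  obtain ⟨π₂, hπ₂⟩ := Spec.map_surjective (X₂.isoSpec.inv ≫ ι₂ ≫ X.isoSpec.hom)
  have hfin : ρ.hom.Finite := by
    rw [← IsFinite.SpecMap_iff, hρ]; infer_instance
  have hflat : ρ.hom.Flat := by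
    rw [← Flat.SpecMap_iff, hρ]; infer_instance
  have hiso : IsIso (coprod.desc (Spec.map π₁) (Spec.map π₂)) := by
    have : coprod.desc (Spec.map π₁) (Spec.map π₂) =
        coprod.map X₁.isoSpec.inv X₂.isoSpec.inv ≫ coprod.desc ι₁ ι₂ ≫ X.isoSpec.hom := by
      apply coprod.hom_ext
      · rw [coprod.inl_desc, coprod.inl_map_assoc, coprod.inl_desc_assoc, hπ₁]
      · rw [coprod.inr_desc, coprod.inr_map_assoc, coprod.inr_desc_assoc, hπ₂]
    rw [this]
    infer_instance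
  have key := finrank_add_Spec ρ π₁ π₂ hiso hfin hflat y
  have e0 : f.finrank = ρ.hom.finrank := by
    rw [← Scheme.Hom.finrank_comp_left_of_isIso X.isoSpec.inv f, ← hρ,
      Scheme.Hom.finrank_SpecMap_eq_finrank hfin hflat]
  have hfin1 : (ρ ≫ π₁).hom.Finite := by
    rw [← IsFinite.SpecMap_iff, Spec.map_comp, hπ₁, hρ]
    simp only [Category.assoc, Iso.hom_inv_id_assoc]
    infer_instance
  have hfin2 : (ρ ≫ π₂).hom.Finite := by
    rw [← IsFinite.SpecMap_iff, Spec.map_comp, hπ₂, hρ]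
    simp only [Category.assoc, Iso.hom_inv_id_assoc]
    infer_instance
  have hflat1 : (ρ ≫ π₁).hom.Flat := by
    rw [← Flat.SpecMap_iff, Spec.map_comp, hπ₁, hρ]
    simp only [Category.assoc, Iso.hom_inv_id_assoc]
    infer_instance
  have hflat2 : (ρ ≫ π₂).hom.Flat := by
    rw [← Flat.SpecMap_iff, Spec.map_comp, hπ₂, hρ]
    simp only [Category.assoc, Iso.hom_inv_id_assoc]
    infer_instance
  have e1 : (ι₁ ≫ f).finrank = (ρ ≫ π₁).hom.finrank := by
    have : Flat (ι₁ ≫ f) := inferInstance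
    rw [← Scheme.Hom.finrank_comp_left_of_isIso X₁.isoSpec.inv (ι₁ ≫ f),
      ← Scheme.Hom.finrank_SpecMap_eq_finrank hfin1 hflat1]
    congr 1
    rw [Spec.map_comp, hπ₁, hρ]
    simp only [Category.assoc, Iso.hom_inv_id_assoc]
  have e2 : (ι₂ ≫ f).finrank = (ρ ≫ π₂).hom.finrank := by
    have : Flat (ι₂ ≫ f) := inferInstance
    rw [← Scheme.Hom.finrank_comp_left_of_isIso X₂.isoSpec.inv (ι₂ ≫ f),
      ← Scheme.Hom.finrank_SpecMap_eq_finrank hfin2 hflat2]
    congr 1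
    rw [Spec.map_comp, hπ₂, hρ]
    simp only [Category.assoc, Iso.hom_inv_id_assoc]
  rw [e0, e1, e2]
  exact key

lemma range_fst_of_isPullback {A X Y Z : Scheme.{u}} {fst : A ⟶ X} {snd : A ⟶ Y} {f : X ⟶ Z}
    {g : Y ⟶ Z} (h : IsPullback fst snd f g) : Set.range fst = f ⁻¹' Set.range g := by
  rw [← Scheme.Pullback.range_fst, ← h.isoPullback_hom_fst]
  simp only [Scheme.Hom.comp_base, TopCat.hom_comp, ContinuousMap.coe_comp]
  rw [Set.range_comp, Set.range_eq_univ.mpr h.isoPullback.hom.surjective, Set.image_univ]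

lemma isCompl_opensRange_of_isPullback {X₁ X₂ X P₁ P₂ P : Scheme.{u}} {ι₁ : X₁ ⟶ X} {ι₂ : X₂ ⟶ X}
    [IsOpenImmersion ι₁] [IsOpenImmersion ι₂]
    (hcompl : IsCompl ι₁.opensRange ι₂.opensRange)
    {κ₁ : P₁ ⟶ P} {κ₂ : P₂ ⟶ P} {a₁ : P₁ ⟶ X₁} {a₂ : P₂ ⟶ X₂} {a : P ⟶ X}
    [IsOpenImmersion κ₁] [IsOpenImmersion κ₂]
    (sq₁ : IsPullback κ₁ a₁ a ι₁) (sq₂ : IsPullback κ₂ a₂ a ι₂) :
    IsCompl κ₁.opensRange κ₂.opensRange := by
  have h1 := range_fst_of_isPullback sq₁
  have h2 := range_fst_of_isPullback sq₂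
  have hd : Disjoint (Set.range ι₁) (Set.range ι₂) := by
    have := hcompl.disjoint
    rw [disjoint_iff] at this
    rw [Set.disjoint_iff_inter_eq_empty]
    exact congrArg (fun U : X.Opens => (U : Set X)) this
  have hc : Set.range ι₁ ∪ Set.range ι₂ = Set.univ := by
    have := hcompl.codisjoint
    rw [codisjoint_iff] at this
    exact congrArg (fun U : X.Opens => (U : Set X)) this
  refine ⟨?_, ?_⟩
  · rw [disjoint_iff]
    apply SetLike.coe_injective
    show Set.range κ₁ ∩ Set.range κ₂ = ∅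
    rw [h1, h2, ← Set.preimage_inter, Set.disjoint_iff_inter_eq_empty.mp hd, Set.preimage_empty]
  · rw [codisjoint_iff]
    apply SetLike.coe_injective
    show Set.range κ₁ ∪ Set.range κ₂ = Set.univ
    rw [h1, h2, ← Set.preimage_union, hc, Set.preimage_univ]

/-- additivity of the rank over a clopen decomposition -/
theorem finrank_add {X₁ X₂ X Y : Scheme.{u}} (ι₁ : X₁ ⟶ X) (ι₂ : X₂ ⟶ X)
    [IsOpenImmersion ι₁] [IsOpenImmersion ι₂]
    (hcompl : IsCompl ι₁.opensRange ι₂.opensRange)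
    (f : X ⟶ Y) [IsFinite f] [Flat f] [IsFinite (ι₁ ≫ f)] [IsFinite (ι₂ ≫ f)] (y : Y) :
    f.finrank y = (ι₁ ≫ f).finrank y + (ι₂ ≫ f).finrank y := by
  obtain ⟨R, g, hg, y', rfl⟩ := Y.exists_Spec_apply_eq y
  let κ₁ : pullback (ι₁ ≫ f) g ⟶ pullback f g :=
    pullback.lift (pullback.fst (ι₁ ≫ f) g ≫ ι₁) (pullback.snd (ι₁ ≫ f) g)
      (by rw [Category.assoc]; exact pullback.condition)
  let κ₂ : pullback (ι₂ ≫ f) g ⟶ pullback f g :=
    pullback.lift (pullback.fst (ι₂ ≫ f) g ≫ ι₂) (pullback.snd (ι₂ ≫ f) g)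
      (by rw [Category.assoc]; exact pullback.condition)
  have hκ₁ : κ₁ ≫ pullback.snd f g = pullback.snd (ι₁ ≫ f) g := pullback.lift_snd _ _ _
  have hκ₂ : κ₂ ≫ pullback.snd f g = pullback.snd (ι₂ ≫ f) g := pullback.lift_snd _ _ _
  have hκ₁' : κ₁ ≫ pullback.fst f g = pullback.fst (ι₁ ≫ f) g ≫ ι₁ := pullback.lift_fst _ _ _
  have hκ₂' : κ₂ ≫ pullback.fst f g = pullback.fst (ι₂ ≫ f) g ≫ ι₂ := pullback.lift_fst _ _ _
  have sq₁ : IsPullback (pullback.fst (ι₁ ≫ f) g) κ₁ ι₁ (pullback.fst f g) := by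
    refine IsPullback.of_bot ?_ hκ₁'.symm (IsPullback.of_hasPullback f g)
    rw [hκ₁]
    exact IsPullback.of_hasPullback (ι₁ ≫ f) g
  have sq₂ : IsPullback (pullback.fst (ι₂ ≫ f) g) κ₂ ι₂ (pullback.fst f g) := by
    refine IsPullback.of_bot ?_ hκ₂'.symm (IsPullback.of_hasPullback f g)
    rw [hκ₂]
    exact IsPullback.of_hasPullback (ι₂ ≫ f) g
  have : IsOpenImmersion κ₁ := MorphismProperty.of_isPullback (P := @IsOpenImmersion) sq₁ ‹_›
  have : IsOpenImmersion κ₂ := MorphismProperty.of_isPullback (P := @IsOpenImmersion) sq₂ ‹_›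
  have hc' : IsCompl κ₁.opensRange κ₂.opensRange :=
    isCompl_opensRange_of_isPullback hcompl sq₁.flip sq₂.flip
  have : IsFinite (κ₁ ≫ pullback.snd f g) := by rw [hκ₁]; infer_instance
  have : IsFinite (κ₂ ≫ pullback.snd f g) := by rw [hκ₂]; infer_instance
  have key := finrank_add_affine κ₁ κ₂ hc' (pullback.snd f g) y'
  rw [Scheme.Hom.finrank_pullback_snd] at key
  rw [key]
  congr 1
  · rw [← Scheme.Hom.finrank_pullback_snd (ι₁ ≫ f) g]
    congr 1
  · rw [← Scheme.Hom.finrank_pullback_snd (ι₂ ≫ f) g]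
    congr 1

end Groth.Agent.Helper3.FSplit
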