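import Mathlib
import Groth.Agent.Helper3.FRank2
import Groth.Agent.Helper1.FC8
import Groth.Prelude.Def_Pi1
import Groth.Prelude.Def_FEt

set_option autoImplicit false
set_option linter.style.haveILetI false
set_option linter.unusedSectionVars false
set_option linter.unusedVariables false
set_option linter.deprecated false
set_option linter.style.haveILetI false
set_option linter.unusedSectionVars false
set_option linter.unusedVariables false

namespace Groth.Agent.Helper3.FSplit
open CategoryTheory Limits AlgebraicGeometry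

universe u

theorem s7762 {S : Scheme.{u}} (Y : FEt.Cat S) (n : ℕ) (hn : 1 ≤ n)
    (hdeg : FlatMod.IsFinLocFreeOfRank n ((Coh.push Y.hom).obj (Coh.structureModule Y.left))) :
    ∃ T : FEt.Cat S, Surjective T.hom ∧
      FlatMod.IsFinLocFreeOfRank n.factorial ((Coh.push T.hom).obj (Coh.structureModule T.left)) ∧
      Pi1.IsSplit ((FEt.restrict T.hom).obj Y) := by
  have hfin : IsFinite Y.hom := Y.prop.1
  have het : Etale Y.hom := Y.prop.2
  have hcov := Groth.Agent.Helper1.FC.isCover_of_push Y.hom n hdeg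
  obtain ⟨T, ψ, hf, he, hs, hdegT, inj, hinj, ⟨hc⟩⟩ := splitDeg n Y.hom hcov.2
  have hflat : Flat ψ := inferInstance
  have hlfp : LocallyOfFinitePresentation ψ := inferInstance
  refine ⟨MorphismProperty.Over.mk ⊤ ψ ⟨hf, he⟩, hs, ?_, ?_⟩
  · exact (Groth.Agent.Helper1.FC.push_of_isCover ψ n.factorial ⟨⟨hf, hflat, hlfp⟩, hdegT⟩).2
  · let f : Fin n → Scheme.{u} := fun _ => T
    let e₁ : pullback Y.hom ψ ≅ ∐ f :=
      hc.coconePointUniqueUpToIso (colimit.isColimit (Discrete.functor f))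
    let ε : ULift.{u} (Fin n) ≃ Fin n := Equiv.ulift
    let e₂ : (∐ fun _ : ULift.{u} (Fin n) => T) ≅ ∐ f := Sigma.reindex ε f
    refine ⟨ULift.{u} (Fin n), inferInstance, e₁ ≪≫ e₂.symm, fun i => ?_⟩
    have h1 : Sigma.ι (fun _ : ULift.{u} (Fin n) => T) i ≫ e₂.hom = Sigma.ι f (ε i) :=
      Sigma.ι_reindex_hom ε f i
    have h2 : Sigma.ι f (ε i) ≫ e₁.inv = inj (ε i) :=
      hc.comp_coconePointUniqueUpToIso_inv (colimit.isColimit (Discrete.functor f)) ⟨ε i⟩
    show Sigma.ι (fun _ : ULift.{u} (Fin n) => T) i ≫ (e₂.hom ≫ e₁.inv) ≫ pullback.snd Y.hom ψ = 𝟙 T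
    rw [Category.assoc, reassoc_of% h1, reassoc_of% h2]
    exact hinj (ε i)

end Groth.Agent.Helper3.FSplit
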