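import Mathlib
import Groth.Agent.Helper3.FSplit1

set_option autoImplicit false
set_option linter.style.haveILetI false
set_option linter.unusedSectionVars false
set_option linter.unusedVariables false
set_option linter.deprecated false
set_option linter.style.haveILetI false
set_option linter.unusedSectionVars false
set_option linter.unusedVariables false

/-!
# Sections of a finite étale cover of a connected scheme
-/

namespace Groth.Agent.Helper3.FSec
open CategoryTheory Limits AlgebraicGeometry Groth.Agent.Helper3.FSplit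

universe u

variable {P X' : Scheme.{u}}

/-- sections of `π` -/
abbrev Sec (π : P ⟶ X') : Type u := {σ : X' ⟶ P // σ ≫ π = 𝟙 X'}

theorem sec_closedImm (π : P ⟶ X') [IsFinite π] [Etale π] (σ : Sec π) :
    IsClosedImmersion σ.1 := by
  have : IsClosedImmersion (σ.1 ≫ π) := by rw [σ.2]; infer_instance
  exact IsClosedImmersion.of_comp σ.1 π

theorem sec_openImm (π : P ⟶ X') [IsFinite π] [Etale π] (σ : Sec π) :
    IsOpenImmersion σ.1 := by
  have : Etale (σ.1 ≫ π) := by rw [σ.2]; infer_instance
  have : Etale σ.1 := Etale.of_comp σ.1 π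
  have : Mono σ.1 := mono_of_mono_fac σ.2
  exact IsOpenImmersion.of_flat_of_mono σ.1

instance sec_inst (π : P ⟶ X') [IsFinite π] [Etale π] (σ : Sec π) : IsOpenImmersion σ.1 :=
  sec_openImm π σ

theorem sec_dichotomy (π : P ⟶ X') [IsFinite π] [Etale π] [ConnectedSpace X'] (σ τ : Sec π) :
    σ = τ ∨ Disjoint (Set.range σ.1) (Set.range τ.1) := by
  have hσo := sec_openImm π σ
  have hσc := sec_closedImm π σ
  let W : Set X' := τ.1 ⁻¹' Set.range σ.1
  have hW : IsClopen W :=
    ⟨σ.1.isClosedEmbedding.isClosed_range.preimage τ.1.continuous,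
      σ.1.isOpenEmbedding.isOpen_range.preimage τ.1.continuous⟩
  rcases isClopen_iff.mp hW with h | h
  · right
    rw [Set.disjoint_iff_inter_eq_empty]
    ext p
    simp only [Set.mem_inter_iff, Set.mem_empty_iff_false, iff_false, not_and]
    rintro hp ⟨x, rfl⟩
    have : x ∈ W := hp
    rw [h] at this
    exact this
  · left
    have hsub : Set.range τ.1 ⊆ Set.range σ.1 := by
      rintro _ ⟨x, rfl⟩
      have : x ∈ W := by rw [h]; trivial
      exact this
    let g : X' ⟶ X' := IsOpenImmersion.lift σ.1 τ.1 hsub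
    have hg : g ≫ σ.1 = τ.1 := IsOpenImmersion.lift_fac _ _ _
    have hg1 : g = 𝟙 X' := by
      have := congrArg (· ≫ π) hg
      simp only [Category.assoc, σ.2, τ.2, Category.comp_id] at this
      exact this
    apply Subtype.ext
    rw [← hg, hg1, Category.id_comp]

theorem step (π : P ⟶ X') [IsFinite π] [Etale π] [Nonempty X'] [ConnectedSpace X'] (σ : Sec π) :
    ∃ (P₁ : Scheme.{u}) (j : P₁ ⟶ P) (_ : IsOpenImmersion j) (_ : IsClosedImmersion j),
      IsCompl σ.1.opensRange j.opensRange ∧
      (∀ x, π.finrank x = 1 + (j ≫ π).finrank x) ∧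
      ∃ e : Option (Sec (j ≫ π)) ≃ Sec π, e none = σ ∧ ∀ τ₁, (e (some τ₁)).1 = τ₁.1 ≫ j := by
  have hσo := sec_openImm π σ
  have hσc := sec_closedImm π σ
  let U' : P.Opens := ⟨(Set.range σ.1)ᶜ, σ.1.isClosedEmbedding.isClosed_range.isOpen_compl⟩
  let j : (U' : Scheme.{u}) ⟶ P := U'.ι
  have hrj : Set.range j = (Set.range σ.1)ᶜ := Scheme.Opens.range_ι U'
  have hcompl : IsCompl σ.1.opensRange j.opensRange := by
    refine ⟨?_, ?_⟩
    · rw [disjoint_iff]
      apply SetLike.coe_injective
      show Set.range σ.1 ∩ Set.range j = ∅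
      rw [hrj]; exact Set.inter_compl_self _
    · rw [codisjoint_iff]
      apply SetLike.coe_injective
      show Set.range σ.1 ∪ Set.range j = Set.univ
      rw [hrj]; exact Set.union_compl_self _
  have hjcl : IsClosedImmersion j := by
    refine IsClosedImmersion.of_isPreimmersion _ ?_
    rw [hrj]
    exact σ.1.isOpenEmbedding.isOpen_range.isClosed_compl
  have hqf : IsFinite (j ≫ π) := inferInstance
  have hqe : Etale (j ≫ π) := inferInstance
  have hflat : Flat π := inferInstance
  refine ⟨U', j, inferInstance, hjcl, hcompl, ?_, ?_⟩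
  · intro x
    have : IsFinite (σ.1 ≫ π) := by rw [σ.2]; infer_instance
    have h1 := finrank_add σ.1 j hcompl π x
    have h2 : (σ.1 ≫ π).finrank x = 1 := by
      rw [σ.2]
      exact congrFun (Scheme.Hom.finrank_eq_one_of_isIso (𝟙 X')) x
    rw [h1, h2]
  · classical
    let F : Option (Sec (j ≫ π)) → Sec π := fun o =>
      match o with
      | none => σ
      | some τ₁ => ⟨τ₁.1 ≫ j, by rw [Category.assoc]; exact τ₁.2⟩
    have hF : Function.Bijective F := by
      constructor
      · intro a b hab
        match a, b with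
        | none, none => rfl
        | none, some τ₁ =>
          exfalso
          have h : σ.1 = τ₁.1 ≫ j := congrArg Subtype.val hab
          obtain ⟨x⟩ := ‹Nonempty X'›
          have hx : σ.1 x ∈ Set.range j := by
            rw [h]; exact ⟨τ₁.1 x, rfl⟩
          rw [hrj] at hx
          exact hx ⟨x, rfl⟩
        | some τ₁, none =>
          exfalso
          have h : τ₁.1 ≫ j = σ.1 := congrArg Subtype.val hab
          obtain ⟨x⟩ := ‹Nonempty X'›
          have hx : σ.1 x ∈ Set.range j := by
            rw [← h]; exact ⟨τ₁.1 x, rfl⟩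
          rw [hrj] at hx
          exact hx ⟨x, rfl⟩
        | some τ₁, some τ₂ =>
          have h : τ₁.1 ≫ j = τ₂.1 ≫ j := congrArg Subtype.val hab
          have : τ₁.1 = τ₂.1 := (cancel_mono j).mp h
          exact congrArg some (Subtype.ext this)
      · intro τ
        rcases sec_dichotomy π σ τ with h | h
        · exact ⟨none, h⟩
        · have hsub : Set.range τ.1 ⊆ Set.range j := by
            rw [hrj]
            intro p hp hp'
            exact Set.disjoint_iff.mp h ⟨hp', hp⟩
          let g : X' ⟶ (U' : Scheme.{u}) := IsOpenImmersion.lift j τ.1 hsub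
          have hg : g ≫ j = τ.1 := IsOpenImmersion.lift_fac _ _ _
          refine ⟨some ⟨g, by rw [← Category.assoc, hg]; exact τ.2⟩, Subtype.ext hg⟩
    exact ⟨Equiv.ofBijective F hF, rfl, fun τ₁ => rfl⟩

theorem main (n : ℕ) : ∀ {P X' : Scheme.{u}} (π : P ⟶ X') [IsFinite π] [Etale π] [Nonempty X']
    [ConnectedSpace X'], (∀ x, π.finrank x = n) →
    Finite (Sec π) ∧ Nat.card (Sec π) ≤ n ∧ (Nat.card (Sec π) = n →
      ∃ inj : Fin n → (X' ⟶ P), (∀ i, inj i ≫ π = 𝟙 X') ∧
        Nonempty (IsColimit (Cofan.mk P inj))) := by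
  induction n with
  | zero =>
    intro P X' π _ _ _ _ hrank
    have hflat : Flat π := inferInstance
    have hP : IsEmpty P := ⟨fun x => by
      have := Scheme.Hom.one_le_finrank_map π x
      rw [hrank] at this
      omega⟩
    have hS : IsEmpty (Sec π) := ⟨fun σ => by
      obtain ⟨x⟩ := ‹Nonempty X'›
      exact hP.false (σ.1 x)⟩
    refine ⟨inferInstance, by simp, fun _ => ⟨fun i => i.elim0, fun i => i.elim0, ?_⟩⟩
    have hinit : IsInitial P := isInitialOfIsEmpty
    exact ⟨mkCofanColimit _ (fun s => hinit.to s.pt) (fun s i => i.elim0)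
      (fun s m h => hinit.hom_ext _ _)⟩
  | succ n ih =>
    intro P X' π _ _ _ _ hrank
    by_cases hne : Nonempty (Sec π)
    · obtain ⟨σ⟩ := hne
      obtain ⟨P₁, j, hjo, hjc, hcompl, hfr, e, he0, he1⟩ := step π σ
      have hqf : IsFinite (j ≫ π) := inferInstance
      have hqe : Etale (j ≫ π) := inferInstance
      have hr1 : ∀ x, (j ≫ π).finrank x = n := by
        intro x
        have := hfr x
        rw [hrank] at this
        omega
      obtain ⟨hfin, hle, hcol⟩ := ih (j ≫ π) hr1
      have hfin' : Finite (Sec π) := Finite.of_equiv _ e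
      have hcard : Nat.card (Sec π) = Nat.card (Sec (j ≫ π)) + 1 := by
        rw [← Nat.card_congr e, Finite.card_option]
      refine ⟨hfin', by omega, fun hc => ?_⟩
      have hc1 : Nat.card (Sec (j ≫ π)) = n := by omega
      obtain ⟨inj', hinj', ⟨hc'⟩⟩ := hcol hc1
      have hσo := sec_openImm π σ
      obtain ⟨hbin⟩ := nonempty_isColimit_binaryCofanMk_of_isCompl σ.1 j hcompl
      refine ⟨Fin.cases σ.1 (fun i => inj' i ≫ j), ?_, ?_⟩
      · intro i
        refine Fin.cases ?_ (fun i => ?_) i
        · simpa using σ.2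
        · simp only [Fin.cases_succ, Category.assoc]
          exact hinj' i
      · have hext := extendCofanIsColimit (fun _ : Fin (n + 1) => X')
          (c₁ := Cofan.mk P₁ inj') (c₂ := BinaryCofan.mk σ.1 j) hc' hbin
        refine ⟨IsColimit.ofIsoColimit hext (Cofan.ext (Iso.refl _) (fun i => ?_))⟩
        refine Fin.cases ?_ (fun i => ?_) i
        · simp [extendCofan]
          exact Category.comp_id σ.1
        · simp [extendCofan]
          first
            | done
            | exact Category.comp_id (inj' i ≫ j)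
    · have hS : IsEmpty (Sec π) := not_nonempty_iff.mp hne
      refine ⟨inferInstance, by simp, fun h => ?_⟩
      simp at h

end Groth.Agent.Helper3.FSec
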