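import Mathlib
import Groth.Agent.Helper3.FSec1
import Groth.Agent.Helper1.FC8

set_option autoImplicit false
set_option linter.style.haveILetI false
set_option linter.unusedSectionVars false
set_option linter.unusedVariables false
set_option linter.deprecated false
set_option linter.style.haveILetI false
set_option linter.unusedSectionVars false
set_option linter.unusedVariables false

namespace Groth.Agent.Helper3.FSec
open CategoryTheory Limits AlgebraicGeometry Groth.Agent.Helper3.FSplit

universe u

/-- `Y`-morphisms `X' ⟶ X` are the sections of `X ×_Y X' ⟶ X'` -/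
noncomputable def overEquiv {X Y X' : Scheme.{u}} (f : X ⟶ Y) (φ : X' ⟶ Y) :
    (Over.mk φ ⟶ Over.mk f) ≃ Sec (pullback.snd f φ) where
  toFun g := ⟨pullback.lift g.left (𝟙 X') (by simpa using Over.w g), pullback.lift_snd _ _ _⟩
  invFun σ := Over.homMk (σ.1 ≫ pullback.fst f φ) (by
    simp only [Over.mk_left, Over.mk_hom, Category.assoc]
    rw [pullback.condition, reassoc_of% σ.2])
  left_inv g := by
    ext
    simp only [Over.homMk_left]
    exact pullback.lift_fst _ _ _
  right_inv σ := by
    apply Subtype.ext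
    apply pullback.hom_ext
    · simp only [Over.homMk_left]
      exact pullback.lift_fst _ _ _
    · simp only [pullback.lift_snd]
      exact σ.2.symm

theorem s18918
    {X Y X' : Scheme.{u}} (f : X ⟶ Y) [IsFinite f] [Etale f] (n : ℕ)
    (hdeg : FlatMod.IsFinLocFreeOfRank n ((Scheme.Modules.pushforward f).obj (Coh.structureModule X)))
    (φ : X' ⟶ Y) [Nonempty X'] [ConnectedSpace X'] :
    Finite (Over.mk φ ⟶ Over.mk f) ∧ Nat.card (Over.mk φ ⟶ Over.mk f) ≤ n ∧
      (Nat.card (Over.mk φ ⟶ Over.mk f) = n ↔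
        ∃ e : pullback f φ ≅ ∐ fun _ : Fin n => X',
          e.hom ≫ Sigma.desc (fun _ : Fin n => 𝟙 X') = pullback.snd f φ) := by
  have hcov := Groth.Agent.Helper1.FC.isCover_of_push f n hdeg
  have hflat : Flat f := inferInstance
  let π := pullback.snd f φ
  have hr : ∀ x, π.finrank x = n := by
    intro x
    rw [Scheme.Hom.finrank_pullback_snd, hcov.2]
  obtain ⟨hfin, hle, hcol⟩ := main n π hr
  let E := overEquiv f φ
  have hcard : Nat.card (Over.mk φ ⟶ Over.mk f) = Nat.card (Sec π) := Nat.card_congr E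
  refine ⟨Finite.of_equiv _ E.symm, by rw [hcard]; exact hle, ?_⟩
  rw [hcard]
  constructor
  · intro h
    obtain ⟨inj, hinj, ⟨hc⟩⟩ := hcol h
    let F : Fin n → Scheme.{u} := fun _ => X'
    let e : pullback f φ ≅ ∐ F :=
      hc.coconePointUniqueUpToIso (colimit.isColimit (Discrete.functor F))
    refine ⟨e, ?_⟩
    refine Cofan.IsColimit.hom_ext hc _ _ (fun i => ?_)
    have h1 : inj i ≫ e.hom = Sigma.ι F i :=
      hc.comp_coconePointUniqueUpToIso_hom (colimit.isColimit (Discrete.functor F)) ⟨i⟩
    show inj i ≫ e.hom ≫ Sigma.desc (fun _ : Fin n => 𝟙 X') = inj i ≫ π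
    rw [reassoc_of% h1, hinj i]
    exact Sigma.ι_desc _ _
  · rintro ⟨e, he⟩
    let F : Fin n → Scheme.{u} := fun _ => X'
    let s : Fin n → Sec π := fun i => ⟨Sigma.ι F i ≫ e.inv, by
      have : e.inv ≫ π = Sigma.desc (fun _ : Fin n => 𝟙 X') := by
        show e.inv ≫ pullback.snd f φ = _
        rw [← he, Iso.inv_hom_id_assoc]
      rw [Category.assoc, this]
      exact Sigma.ι_desc _ _⟩
    have hs : Function.Injective s := by
      intro i j hij
      by_contra hne
      have h1 : Sigma.ι F i ≫ e.inv = Sigma.ι F j ≫ e.inv := congrArg Subtype.val hij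
      have h2 : Sigma.ι F i = Sigma.ι F j := (cancel_mono e.inv).mp h1
      obtain ⟨x⟩ := ‹Nonempty X'›
      have hd := disjoint_opensRange_sigmaι F i j hne
      rw [disjoint_iff] at hd
      have hx : (Sigma.ι F i) x ∈ (Sigma.ι F i).opensRange ⊓ (Sigma.ι F j).opensRange := by
        refine ⟨⟨x, rfl⟩, ?_⟩
        rw [h2]
        exact ⟨x, rfl⟩
      rw [hd] at hx
      exact hx
    have := Nat.card_le_card_of_injective s hs
    rw [Nat.card_fin] at this
    omega

end Groth.Agent.Helper3.FSec
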