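import Mathlib
import Groth.Agent.Helper3.FSplit1

set_option autoImplicit false
set_option linter.style.haveILetI false
set_option linter.unusedSectionVars false
set_option linter.unusedVariables false
set_option linter.deprecated false
set_option linter.style.haveILetI false
set_option linter.unusedSectionVars false
set_option linter.unusedVariables false

/-!
# A finite étale morphism of constant rank is split by a finite étale surjective cover
(scheme version of Lenstra, Galois theory for schemes, 5.10)
-/

namespace Groth.Agent.Helper3.FSplit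
open CategoryTheory Limits AlgebraicGeometry

universe u

theorem split (n : ℕ) : ∀ {S X : Scheme.{u}} (φ : X ⟶ S) [IsFinite φ] [Etale φ],
    (∀ s, φ.finrank s = n) →
    ∃ (Y : Scheme.{u}) (ψ : Y ⟶ S), IsFinite ψ ∧ Etale ψ ∧ Surjective ψ ∧
      ∃ inj : Fin n → (Y ⟶ pullback φ ψ), (∀ i, inj i ≫ pullback.snd φ ψ = 𝟙 Y) ∧
        Nonempty (IsColimit (Cofan.mk (pullback φ ψ) inj)) := by
  induction n with
  | zero =>
    intro S X φ _ _ hrank
    have hflat : Flat φ := inferInstance
    have hX : IsEmpty X := ⟨fun x => by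
      have := Scheme.Hom.one_le_finrank_map φ x
      rw [hrank] at this
      omega⟩
    refine ⟨S, 𝟙 S, inferInstance, inferInstance, inferInstance, fun i => i.elim0,
      fun i => i.elim0, ?_⟩
    have hP : IsEmpty ↥(pullback φ (𝟙 S)) := Function.isEmpty (pullback.fst φ (𝟙 S))
    have hinit : IsInitial (pullback φ (𝟙 S)) := isInitialOfIsEmpty
    exact ⟨mkCofanColimit _ (fun s => hinit.to s.pt) (fun s i => i.elim0)
      (fun s m h => hinit.hom_ext _ _)⟩
  | succ n ih =>
    intro S X φ _ _ hrank
    have hflat : Flat φ := inferInstance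
    have hsurj : Surjective φ := (Scheme.Hom.one_le_finrank_iff_surjective φ).1 (fun s => by
      rw [hrank s]; exact Nat.succ_le_succ (Nat.zero_le n))
    have hΔo : IsOpenImmersion (pullback.diagonal φ) := inferInstance
    have hΔc : IsClosedImmersion (pullback.diagonal φ) := inferInstance
    let U' : (pullback φ φ).Opens := ⟨(Set.range (pullback.diagonal φ))ᶜ,
      (pullback.diagonal φ).isClosedEmbedding.isClosed_range.isOpen_compl⟩
    let j : (U' : Scheme.{u}) ⟶ pullback φ φ := U'.ι
    have hrj : Set.range j = (Set.range (pullback.diagonal φ))ᶜ := Scheme.Opens.range_ι U'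
    have hcompl : IsCompl (pullback.diagonal φ).opensRange j.opensRange := by
      refine ⟨?_, ?_⟩
      · rw [disjoint_iff]
        apply SetLike.coe_injective
        show Set.range (pullback.diagonal φ) ∩ Set.range j = ∅
        rw [hrj]; exact Set.inter_compl_self _
      · rw [codisjoint_iff]
        apply SetLike.coe_injective
        show Set.range (pullback.diagonal φ) ∪ Set.range j = Set.univ
        rw [hrj]; exact Set.union_compl_self _
    have hjcl : IsClosedImmersion j := by
      refine IsClosedImmersion.of_isPreimmersion _ ?_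
      rw [hrj]
      exact (pullback.diagonal φ).isOpenEmbedding.isOpen_range.isClosed_compl
    let q : (U' : Scheme.{u}) ⟶ X := j ≫ pullback.snd φ φ
    have hqf : IsFinite q := inferInstance
    have hqe : Etale q := inferInstance
    have hrq : ∀ x, q.finrank x = n := by
      intro x
      have : IsFinite (pullback.diagonal φ ≫ pullback.snd φ φ) := inferInstance
      have h1 := finrank_add (pullback.diagonal φ) j hcompl (pullback.snd φ φ) x
      rw [Scheme.Hom.finrank_pullback_snd, hrank] at h1
      have h2 : (pullback.diagonal φ ≫ pullback.snd φ φ).finrank x = 1 := by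
        have : pullback.diagonal φ ≫ pullback.snd φ φ = 𝟙 X := pullback.diagonal_snd φ
        rw [this]
        exact congrFun (Scheme.Hom.finrank_eq_one_of_isIso (𝟙 X)) x
      show (j ≫ pullback.snd φ φ).finrank x = n
      omega
    obtain ⟨Y, ψ', hf', he', hs', inj', hinj', ⟨hc'⟩⟩ := ih q hrq
    refine ⟨Y, ψ' ≫ φ, inferInstance, inferInstance, inferInstance, ?_⟩
    let θ : pullback φ (ψ' ≫ φ) ⟶ pullback φ φ :=
      pullback.lift (pullback.fst _ _) (pullback.snd _ _ ≫ ψ')
        (by rw [Category.assoc]; exact pullback.condition)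
    have hθ1 : θ ≫ pullback.fst φ φ = pullback.fst φ (ψ' ≫ φ) := pullback.lift_fst _ _ _
    have hθ2 : θ ≫ pullback.snd φ φ = pullback.snd φ (ψ' ≫ φ) ≫ ψ' := pullback.lift_snd _ _ _
    have sqR : IsPullback (pullback.snd φ (ψ' ≫ φ)) θ ψ' (pullback.snd φ φ) := by
      refine IsPullback.of_bot ?_ hθ2.symm (IsPullback.of_hasPullback φ φ).flip
      rw [hθ1]
      exact (IsPullback.of_hasPullback φ (ψ' ≫ φ)).flip
    let s₀ : Y ⟶ pullback φ (ψ' ≫ φ) := pullback.lift ψ' (𝟙 Y) (by simp)
    have hs₀1 : s₀ ≫ pullback.fst φ (ψ' ≫ φ) = ψ' := pullback.lift_fst _ _ _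
    have hs₀2 : s₀ ≫ pullback.snd φ (ψ' ≫ φ) = 𝟙 Y := pullback.lift_snd _ _ _
    have hcond : pullback.snd q ψ' ≫ ψ' = (pullback.fst q ψ' ≫ j) ≫ pullback.snd φ φ := by
      rw [Category.assoc]; exact pullback.condition.symm
    let t₁ : pullback q ψ' ⟶ pullback φ (ψ' ≫ φ) :=
      sqR.lift (pullback.snd q ψ') (pullback.fst q ψ' ≫ j) hcond
    have ht₁1 : t₁ ≫ pullback.snd φ (ψ' ≫ φ) = pullback.snd q ψ' := sqR.lift_fst _ _ _
    have ht₁2 : t₁ ≫ θ = pullback.fst q ψ' ≫ j := sqR.lift_snd _ _ _
    have hs₀θ : s₀ ≫ θ = ψ' ≫ pullback.diagonal φ := by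
      apply pullback.hom_ext
      · rw [Category.assoc, hθ1, hs₀1, Category.assoc, pullback.diagonal_fst, Category.comp_id]
      · rw [Category.assoc, hθ2, reassoc_of% hs₀2, Category.assoc, pullback.diagonal_snd,
          Category.comp_id]
    -- the two pullback squares
    have sq1 : IsPullback s₀ ψ' θ (pullback.diagonal φ) := by
      refine IsPullback.of_right ?_ hs₀θ sqR
      rw [hs₀2, pullback.diagonal_snd]
      exact IsPullback.of_horiz_isIso ⟨by simp⟩
    have sq2 : IsPullback t₁ (pullback.fst q ψ') θ j := by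
      refine IsPullback.of_right ?_ ht₁2 sqR
      rw [ht₁1]
      exact (IsPullback.of_hasPullback q ψ').flip
    have hs₀o : IsOpenImmersion s₀ :=
      MorphismProperty.of_isPullback (P := @IsOpenImmersion) sq1.flip hΔo
    have ht₁o : IsOpenImmersion t₁ :=
      MorphismProperty.of_isPullback (P := @IsOpenImmersion) sq2.flip inferInstance
    have hc2 : IsCompl s₀.opensRange t₁.opensRange :=
      isCompl_opensRange_of_isPullback hcompl sq1 sq2
    obtain ⟨hbin⟩ := nonempty_isColimit_binaryCofanMk_of_isCompl s₀ t₁ hc2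
    refine ⟨Fin.cases s₀ (fun i => inj' i ≫ t₁), ?_, ?_⟩
    · intro i
      refine Fin.cases ?_ (fun i => ?_) i
      · simpa using hs₀2
      · simp only [Fin.cases_succ, Category.assoc]
        rw [ht₁1, hinj']
    · have hext := extendCofanIsColimit (fun _ : Fin (n + 1) => Y)
        (c₁ := Cofan.mk (pullback q ψ') inj') (c₂ := BinaryCofan.mk s₀ t₁) hc' hbin
      refine ⟨IsColimit.ofIsoColimit hext (Cofan.ext (Iso.refl _) (fun i => ?_))⟩
      refine Fin.cases ?_ (fun i => ?_) i
      · simp [extendCofan]
        exact Category.comp_id s₀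
      · simp [extendCofan]
        first
          | done
          | exact Category.comp_id (inj' i ≫ t₁)

end Groth.Agent.Helper3.FSplit
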