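import Mathlib
import Groth.Agent.Helper3.FSplit2
import Groth.Agent.Lead.SchDescent2

set_option autoImplicit false
set_option linter.style.haveILetI false
set_option linter.unusedSectionVars false
set_option linter.unusedVariables false
set_option linter.deprecated false
set_option linter.style.haveILetI false
set_option linter.unusedSectionVars false
set_option linter.unusedVariables false

/-!
# finite étale iff split by a finite locally free cover
-/

namespace Groth.Agent.Helper3.FSplit
open CategoryTheory Limits AlgebraicGeometry MorphismProperty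

universe u

theorem isFinite_sigmaDesc_fin : ∀ (n : ℕ) {Y : Scheme.{u}} (X : Fin n → Scheme.{u})
    (f : ∀ i, X i ⟶ Y) [∀ i, IsFinite (f i)], IsFinite (Sigma.desc f) := by
  intro n
  induction n with
  | zero =>
    intro Y X f _
    have : IsEmpty ↥(∐ X) := ⟨fun x => ((sigmaOpenCover X).idx x).elim0⟩
    infer_instance
  | succ n ih =>
    intro Y X f _
    let c₁ : Cofan (fun i : Fin n => X i.succ) := Cofan.mk (∐ fun i : Fin n => X i.succ)
      (Sigma.ι (fun i : Fin n => X i.succ))
    have t₁ : IsColimit c₁ := coproductIsCoproduct _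
    let c₂ : BinaryCofan (X 0) c₁.pt := BinaryCofan.mk coprod.inl coprod.inr
    have t₂ : IsColimit c₂ := coprodIsCoprod _ _
    have ext := extendCofanIsColimit X t₁ t₂
    let e : ∐ X ≅ (X 0) ⨿ (∐ fun i : Fin n => X i.succ) :=
      (coproductIsCoproduct X).coconePointUniqueUpToIso ext
    have he : ∀ i, Sigma.ι X i ≫ e.hom = (extendCofan c₁ c₂).inj i := fun i =>
      (coproductIsCoproduct X).comp_coconePointUniqueUpToIso_hom ext ⟨i⟩
    have hih : IsFinite (Sigma.desc (fun i : Fin n => f i.succ)) := ih _ _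
    have key : Sigma.desc f = e.hom ≫ coprod.desc (f 0) (Sigma.desc (fun i : Fin n => f i.succ)) := by
      apply Sigma.hom_ext
      intro i
      rw [Sigma.ι_desc, reassoc_of% he]
      refine Fin.cases ?_ (fun i => ?_) i
      · simp [extendCofan, c₂, Cofan.inj]
        exact (coprod.inl_desc _ _).symm
      · simp [extendCofan, c₂, c₁, Cofan.inj]
        show f i.succ = (Sigma.ι (fun i : Fin n => X i.succ) i ≫
          (coprod.inr : _ ⟶ X 0 ⨿ ∐ fun i : Fin n => X i.succ)) ≫ _
        rw [Category.assoc, coprod.inr_desc, Sigma.ι_desc]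
    rw [key]
    infer_instance

theorem s8192 {X S : Scheme.{u}} (φ : X ⟶ S) [IsAffineHom φ]
    [Surjective φ] [ConnectedSpace ↥S] :
    (IsFinite φ ∧ Etale φ) ↔
      ∃ (Y : Scheme.{u}) (ψ : Y ⟶ S), IsFinite ψ ∧ Flat ψ ∧ LocallyOfFinitePresentation ψ ∧ Surjective ψ ∧
        ∃ (n : ℕ) (e : Limits.pullback φ ψ ≅ ∐ fun _ : Fin n => Y),
          ∀ i : Fin n, Limits.Sigma.ι (fun _ : Fin n => Y) i ≫ e.inv ≫ Limits.pullback.snd φ ψ = 𝟙 Y := by
  constructor
  · rintro ⟨hf, he⟩
    have hflat : Flat φ := inferInstance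
    have hlc := Scheme.Hom.isLocallyConstant_finrank φ
    obtain ⟨s₀⟩ : Nonempty S := inferInstance
    have hrank : ∀ s, φ.finrank s = φ.finrank s₀ := fun s =>
      hlc.apply_eq_of_preconnectedSpace s s₀
    obtain ⟨Y, ψ, h1, h2, h3, inj, hinj, ⟨hc⟩⟩ := split (φ.finrank s₀) φ hrank
    refine ⟨Y, ψ, h1, inferInstance, inferInstance, h3, φ.finrank s₀,
      hc.coconePointUniqueUpToIso (coproductIsCoproduct _), fun i => ?_⟩
    have := hc.comp_coconePointUniqueUpToIso_inv (coproductIsCoproduct (fun _ : Fin (φ.finrank s₀) => Y)) ⟨i⟩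
    rw [← Category.assoc]
    erw [this]
    exact hinj i
  · rintro ⟨Y, ψ, h1, h2, h3, h4, n, e, he⟩
    have hsnd : pullback.snd φ ψ = e.hom ≫ Sigma.desc (fun _ : Fin n => 𝟙 Y) := by
      rw [← cancel_epi e.inv, Iso.inv_hom_id_assoc]
      apply Sigma.hom_ext
      intro i
      rw [Sigma.ι_desc]
      exact he i
    have hfin : IsFinite (Sigma.desc (fun _ : Fin n => 𝟙 Y)) := isFinite_sigmaDesc_fin n _ _
    have het : Etale (Sigma.desc (fun _ : Fin n => 𝟙 Y)) :=
      IsZariskiLocalAtSource.sigmaDesc (fun _ => inferInstance)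
    have hfin' : IsFinite (pullback.snd φ ψ) := by rw [hsnd]; infer_instance
    have het' : Etale (pullback.snd φ ψ) := by rw [hsnd]; infer_instance
    have hQ : (@Surjective ⊓ @Flat ⊓ @QuasiCompact : MorphismProperty Scheme.{u}) ψ :=
      ⟨⟨h4, h2⟩, inferInstance⟩
    have sq : IsPullback (pullback.snd φ ψ) (pullback.fst φ ψ) ψ φ :=
      (IsPullback.of_hasPullback φ ψ).flip
    exact ⟨of_isPullback_of_descendsAlong (P := @IsFinite)
        (Q := (@Surjective ⊓ @Flat ⊓ @QuasiCompact : MorphismProperty Scheme.{u})) sq hQ hfin',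
      of_isPullback_of_descendsAlong (P := @Etale)
        (Q := (@Surjective ⊓ @Flat ⊓ @QuasiCompact : MorphismProperty Scheme.{u})) sq hQ het'⟩

end Groth.Agent.Helper3.FSplit
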