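import Mathlib
import Groth.Agent.Helper3.ProjSmooth

set_option autoImplicit false
set_option linter.style.haveILetI false
set_option linter.unusedSectionVars false
set_option linter.unusedVariables false
set_option linter.deprecated false
set_option linter.style.haveILetI false
set_option linter.unusedSectionVars false
set_option linter.unusedVariables false

universe u

open CategoryTheory CategoryTheory.Limits AlgebraicGeometry HomogeneousLocalization

namespace Groth.Agent.Helper3.FactorSP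

noncomputable section

open Groth.Agent.Helper3.ProjSmooth

/-- the chart map: given `b : Fin n → B`, the ring hom `(R[x_0..x_n]_{x_0})_0 → B`,
`x_{j+1}/x_0 ↦ b j` -/
def chartHom (n : ℕ) (R : Type u) [CommRing R] {B : Type u} [CommRing B] (ρ : R →+* B)
    (b : Fin n → B) :
    Away (CohB1.polyGrading n R) (MvPolynomial.X 0 : MvPolynomial (Fin (n + 1)) R) →+* B :=
  (IsLocalization.Away.lift (S := Localization.Away
      (MvPolynomial.X 0 : MvPolynomial (Fin (n + 1)) R))
      (MvPolynomial.X 0 : MvPolynomial (Fin (n + 1)) R)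
      (g := MvPolynomial.eval₂Hom ρ (Fin.cases 1 b))
      (by simp)).comp
    (algebraMap _ _)

theorem chartHom_mk (n : ℕ) (R : Type u) [CommRing R] {B : Type u} [CommRing B] (ρ : R →+* B)
    (b : Fin n → B) (j : Fin n) :
    chartHom n R ρ b (Groth.Agent.Helper1.LA.mk1 (X_mem n R 0) 1 (MvPolynomial.X j.succ)
      (X_mem n R j.succ)) = b j := by
  unfold chartHom
  rw [RingHom.comp_apply]
  set L := IsLocalization.Away.lift (S := Localization.Away
      (MvPolynomial.X 0 : MvPolynomial (Fin (n + 1)) R))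
      (MvPolynomial.X 0 : MvPolynomial (Fin (n + 1)) R)
      (g := MvPolynomial.eval₂Hom ρ (Fin.cases 1 b)) (by simp) with hL
  rw [HomogeneousLocalization.algebraMap_apply, Groth.Agent.Helper1.LA.val_mk1]
  have h1 : Localization.mk (MvPolynomial.X j.succ : MvPolynomial (Fin (n + 1)) R)
      (⟨MvPolynomial.X 0 ^ 1, 1, rfl⟩ : Submonoid.powers
        (MvPolynomial.X 0 : MvPolynomial (Fin (n + 1)) R)) *
      algebraMap _ _ (MvPolynomial.X 0 ^ 1 : MvPolynomial (Fin (n + 1)) R) =
      algebraMap _ _ (MvPolynomial.X j.succ : MvPolynomial (Fin (n + 1)) R) := by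
    rw [Localization.mk_eq_mk']
    exact IsLocalization.mk'_spec _ _ _
  have h2 := congrArg L h1
  rw [map_mul, hL, IsLocalization.Away.lift_eq, IsLocalization.Away.lift_eq] at h2
  simpa using h2

/-- a subring of `B` containing the image of `A` and the images of the variables contains the
image of every polynomial -/
theorem mem_of_gens {A B : Type u} [CommRing A] [CommRing B] [Algebra A B] {n : ℕ}
    (F : MvPolynomial (Fin n) A →ₐ[A] B) (S : Subring B)
    (hA : ∀ a : A, algebraMap A B a ∈ S) (hX : ∀ j, F (MvPolynomial.X j) ∈ S)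
    (p : MvPolynomial (Fin n) A) : F p ∈ S := by
  induction p using MvPolynomial.induction_on with
  | C a =>
    have : F (MvPolynomial.C a) = algebraMap A B a := by
      rw [← MvPolynomial.algebraMap_eq, AlgHom.commutes]
    rw [this]; exact hA a
  | add p q hp hq => rw [map_add]; exact S.add_mem hp hq
  | mul_X p j hp => rw [map_mul]; exact S.mul_mem hp (hX j)

theorem main {X Y : Scheme.{u}}
    [IsNoetherian X] [IsNoetherian Y] (f : X ⟶ Y) [LocallyOfFiniteType f]
    (U : X.Opens) (hU : IsAffineOpen U) (V : Y.Opens) (hV : IsAffineOpen V) (hUV : U ≤ f ⁻¹ᵁ V) :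
    ∃ (W P : Scheme.{u}) (g : (U : Scheme.{u}) ⟶ W) (h : W ⟶ P) (k : P ⟶ Y),
      IsOpenImmersion g ∧ IsClosedImmersion h ∧ Smooth k ∧ IsProper k ∧ g ≫ h ≫ k = U.ι ≫ f := by
  have hft : RingHom.FiniteType (f.appLE V U hUV).hom :=
    HasRingHomProperty.appLE (P := @LocallyOfFiniteType) (f := f) inferInstance ⟨V, hV⟩ ⟨U, hU⟩ hUV
  letI : Algebra Γ(Y, V) Γ(X, U) := (f.appLE V U hUV).hom.toAlgebra
  have hft' : Algebra.FiniteType Γ(Y, V) Γ(X, U) := hft
  obtain ⟨n, F, hF⟩ := Algebra.FiniteType.iff_quotient_mvPolynomial''.mp hft'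
  let b : Fin n → Γ(X, U) := fun j => F (MvPolynomial.X j)
  let ρ : ULift.{u} ℤ →+* Γ(X, U) := (Int.castRingHom Γ(X, U)).comp (ULift.ringEquiv : ULift.{u} ℤ ≃+* ℤ).toRingHom
  let ψ0 := chartHom n (ULift.{u} ℤ) ρ b
  let D : Scheme.{u} := Spec (CommRingCat.of (Away (CohB1.polyGrading n (ULift.{u} ℤ))
    (MvPolynomial.X 0 : MvPolynomial (Fin (n + 1)) (ULift.{u} ℤ))))
  let ιD : D ⟶ CohB1.ProjSpace n (ULift.{u} ℤ) :=
    Proj.awayι (CohB1.polyGrading n (ULift.{u} ℤ)) (MvPolynomial.X 0) (X_mem n (ULift.{u} ℤ) 0) one_pos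
  let ιV : Spec Γ(Y, V) ⟶ Y := hV.fromSpec
  let pD : D ⟶ Spec (CommRingCat.of (ULift.{u} ℤ)) := ιD ≫ CohB1.ProjSpace.toSpec n (ULift.{u} ℤ)
  let pV : Spec Γ(Y, V) ⟶ Spec (CommRingCat.of (ULift.{u} ℤ)) := ιV ≫ specULiftZIsTerminal.from Y
  let α : Spec Γ(X, U) ⟶ D := Spec.map (CommRingCat.ofHom ψ0)
  let β : Spec Γ(X, U) ⟶ Spec Γ(Y, V) := Spec.map (f.appLE V U hUV)
  let γ : Spec Γ(X, U) ⟶ pullback pD pV :=
    pullback.lift α β (specULiftZIsTerminal.hom_ext _ _)
  let ιW : pullback pD pV ⟶ CohB1.ProjSpaceOver n Y :=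
    pullback.map pD pV (CohB1.ProjSpace.toSpec n (ULift.{u} ℤ)) (specULiftZIsTerminal.from Y) ιD ιV (𝟙 _)
      (Category.comp_id _) (Category.comp_id _)
  haveI : IsOpenImmersion ιD :=
    (inferInstance : IsOpenImmersion (Proj.awayι (CohB1.polyGrading n (ULift.{u} ℤ))
      (MvPolynomial.X 0) (X_mem n (ULift.{u} ℤ) 0) one_pos))
  haveI : IsOpenImmersion ιV := by dsimp only [ιV]; infer_instance
  haveI : IsOpenImmersion ιW :=
    Scheme.pullback_map_isOpenImmersion pD pV
      (CohB1.ProjSpace.toSpec n (ULift.{u} ℤ))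
      (specULiftZIsTerminal.from Y) ιD ιV (𝟙 _) (Category.comp_id _) (Category.comp_id _)
  -- γ is a closed immersion
  have hsurj : Function.Surjective γ.appTop := by
    let eB := Scheme.ΓSpecIso Γ(X, U)
    let S : Subring Γ(X, U) := (RingHom.range γ.appTop.hom).comap eB.inv.hom
    have hA : ∀ a : Γ(Y, V), algebraMap Γ(Y, V) Γ(X, U) a ∈ S := by
      intro a
      show eB.inv.hom ((f.appLE V U hUV).hom a) ∈ RingHom.range γ.appTop.hom
      have h1 : f.appLE V U hUV ≫ eB.inv = (Scheme.ΓSpecIso Γ(Y, V)).inv ≫ β.appTop :=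
        Scheme.ΓSpecIso_inv_naturality _
      have h2 : β = γ ≫ pullback.snd pD pV := (pullback.lift_snd _ _ _).symm
      have h3 : eB.inv.hom ((f.appLE V U hUV).hom a) =
          γ.appTop.hom ((pullback.snd pD pV).appTop.hom ((Scheme.ΓSpecIso Γ(Y, V)).inv.hom a)) := by
        have := congrArg (fun t => t.hom a) h1
        simp only [CommRingCat.hom_comp, RingHom.comp_apply] at this
        rw [this, h2, Scheme.Hom.comp_appTop]
        rfl
      rw [h3]
      exact ⟨_, rfl⟩
    have hQ : ∀ q, ψ0 q ∈ S := by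
      intro q
      show eB.inv.hom (ψ0 q) ∈ RingHom.range γ.appTop.hom
      have h1 : CommRingCat.ofHom ψ0 ≫ eB.inv = (Scheme.ΓSpecIso _).inv ≫ α.appTop :=
        Scheme.ΓSpecIso_inv_naturality _
      have h2 : α = γ ≫ pullback.fst pD pV := (pullback.lift_fst _ _ _).symm
      have h3 : eB.inv.hom (ψ0 q) =
          γ.appTop.hom ((pullback.fst pD pV).appTop.hom ((Scheme.ΓSpecIso _).inv.hom q)) := by
        have := congrArg (fun t => t.hom q) h1
        simp only [CommRingCat.hom_comp, RingHom.comp_apply] at this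
        show eB.inv.hom ((CommRingCat.ofHom ψ0).hom q) = _
        rw [this, h2, Scheme.Hom.comp_appTop]
        rfl
      rw [h3]
      exact ⟨_, rfl⟩
    have hX : ∀ j, F (MvPolynomial.X j) ∈ S := by
      intro j
      have := hQ (Groth.Agent.Helper1.LA.mk1 (X_mem n (ULift.{u} ℤ) 0) 1 (MvPolynomial.X j.succ)
        (X_mem n (ULift.{u} ℤ) j.succ))
      rwa [chartHom_mk] at this
    intro y
    obtain ⟨p, hp⟩ := hF (eB.hom.hom y)
    have hy : eB.hom.hom y ∈ S := hp ▸ mem_of_gens F S hA hX p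
    obtain ⟨z, hz⟩ := hy
    refine ⟨z, ?_⟩
    have : eB.inv.hom (eB.hom.hom y) = y := by
      rw [← RingHom.comp_apply, ← CommRingCat.hom_comp, Iso.hom_inv_id]; rfl
    rw [← this]
    exact hz
  haveI : IsClosedImmersion γ := IsClosedImmersion.of_surjective_of_isAffine γ hsurj
  let g0 : (U : Scheme.{u}) ⟶ CohB1.ProjSpaceOver n Y := hU.isoSpec.hom ≫ γ ≫ ιW
  haveI : IsImmersion g0 := by dsimp only [g0]; infer_instance
  haveI : IsNoetherianRing Γ(X, U) := IsLocallyNoetherian.component_noetherian ⟨U, hU⟩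
  haveI : TopologicalSpace.NoetherianSpace U := noetherianSpace_of_isAffineOpen U hU
  haveI : QuasiCompact g0 := inferInstance
  obtain ⟨W, g, h, hg, hh, hgh⟩ :=
    (IsImmersion.isImmersion_iff_exists_of_quasiCompact (f := g0)).mp inferInstance
  refine ⟨W, CohB1.ProjSpaceOver n Y, g, h, CohB1.ProjSpaceOver.toBase n Y, hg, hh,
    smooth_toBase n Y, Groth.Agent.Helper6.HProj.isProper_toBase n Y, ?_⟩
  rw [← Category.assoc, hgh]
  show (hU.isoSpec.hom ≫ γ ≫ ιW) ≫ pullback.snd _ _ = _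
  simp only [Category.assoc, ιW, γ]
  erw [pullback.lift_snd]
  rw [pullback.lift_snd_assoc]
  show hU.isoSpec.hom ≫ Spec.map (f.appLE V U hUV) ≫ hV.fromSpec = _
  rw [IsAffineOpen.SpecMap_appLE_fromSpec f hV hU hUV, ← Category.assoc,
    IsAffineOpen.isoSpec_hom_fromSpec]

end

end Groth.Agent.Helper3.FactorSP
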