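import Mathlib
import Groth.Agent.Helper3.FamNormal2
import Groth.Agent.Helper4.GrpConnA
import Groth.Agent.Lead.PropNormA

set_option autoImplicit false
set_option linter.style.haveILetI false
set_option linter.unusedSectionVars false
set_option linter.unusedVariables false
set_option linter.deprecated false
set_option linter.style.haveILetI false
set_option linter.unusedSectionVars false
set_option linter.unusedVariables false

universe u

open AlgebraicGeometry CategoryTheory IsLocalRing

namespace Groth.Agent.Helper3.FamNormal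

/-- the total space of a family as in S18352 is integral -/
theorem isIntegral_total (S C : Scheme.{u}) [IsIntegral S] [IsNoetherian S]
    (hS : Pi1.IsNormalScheme S) (f : C ⟶ S) [Flat f] [QuasiCompact f]
    [LocallyOfFinitePresentation f]
    [GeometricallyReduced f] [GeometricallyConnected f]
    (hdim : ∀ s : ↥S, topologicalKrullDim ↥(f.fiber s) ≤ 1)
    (hsm : Smooth (f.fiberToSpecResidueField (genericPoint ↥S))) :
    IsIntegral C ∧ IsNoetherian C := by
  have hN := main S C hS f hdim hsm
  haveI : IsLocallyNoetherian C := LocallyOfFiniteType.isLocallyNoetherian f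
  haveI : CompactSpace C := QuasiCompact.compactSpace_of_compactSpace f
  haveI : IsNoetherian C := {}
  haveI : ConnectedSpace C := GeometricallyConnected.connectedSpace f f.isOpenMap
  haveI : IrreducibleSpace C :=
    Groth.Agent.Helper4.GrpConnA.irreducibleSpace_of_domain_stalks (fun x => (hN x).1)
  haveI : ∀ x : C, _root_.IsReduced (C.presheaf.stalk x) := fun x => by
    haveI := (hN x).1; infer_instance
  haveI : IsReduced C := isReduced_of_isReduced_stalk C
  exact ⟨isIntegral_of_irreducibleSpace_of_isReduced C, inferInstance⟩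

/-- a proper birational morphism of integral locally Noetherian schemes onto a normal scheme
induces an isomorphism on all rings of sections -/
theorem isIso_app_of_birational {X Y : Scheme.{u}} [IsIntegral X] [IsIntegral Y]
    [IsLocallyNoetherian X] [IsLocallyNoetherian Y] (hY : Pi1.IsNormalScheme Y) (φ : X ⟶ Y)
    [IsProper φ] (hbir : ∃ U : Y.Opens, Dense (U : Set Y) ∧ IsIso (φ ∣_ U)) :
    ∀ V : Y.Opens, IsIso (φ.app V) := by
  obtain ⟨U, hUd, hiso⟩ := hbir
  have hηU : genericPoint Y ∈ U := Groth.Agent.Lead.PropNormA.genericPoint_mem U hUd.nonempty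
  -- a point over the generic point
  have hsurj : Function.Surjective (φ ∣_ U) :=
    (ConcreteCategory.bijective_of_isIso (φ ∣_ U).base).2
  obtain ⟨x, hx⟩ := hsurj ⟨genericPoint Y, hηU⟩
  have hx' : φ x.1 = genericPoint Y := by
    have := congrArg Subtype.val hx
    rwa [morphismRestrict_base_coe] at this
  have hdom : φ.base (genericPoint X) ⤳ genericPoint Y := by
    have h1 : genericPoint X ⤳ x.1 := genericPoint_specializes x.1
    have h2 := h1.map φ.continuous
    rwa [hx'] at h2
  have heq : φ (genericPoint X) = genericPoint Y :=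
    ((genericPoint_specializes (φ (genericPoint X))).antisymm hdom).symm.eq
  have hηX : genericPoint X ∈ φ ⁻¹ᵁ U := by
    show φ (genericPoint X) ∈ U
    rw [heq]; exact hηU
  -- the stalk map at the generic point is an isomorphism
  have hst : IsIso (φ.stalkMap (genericPoint X)) := by
    have h1 : IsIso ((φ ∣_ U).stalkMap ⟨genericPoint X, hηX⟩) := inferInstance
    exact ((MorphismProperty.isomorphisms CommRingCat).arrow_mk_iso_iff
      (morphismRestrictStalkMap φ U ⟨genericPoint X, hηX⟩)).mp h1
  have hsp : IsIso (Y.presheaf.stalkSpecializes hdom) := by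
    have hback : genericPoint Y ⤳ φ.base (genericPoint X) := genericPoint_specializes _
    refine ⟨Y.presheaf.stalkSpecializes hback, ?_, ?_⟩
    · rw [TopCat.Presheaf.stalkSpecializes_comp, TopCat.Presheaf.stalkSpecializes_refl]
    · rw [TopCat.Presheaf.stalkSpecializes_comp, TopCat.Presheaf.stalkSpecializes_refl]
  have hsurj2 : Function.Surjective (CohIII.stalkToFunctionField φ (genericPoint Y) hdom) := by
    unfold CohIII.stalkToFunctionField
    rw [RingHom.coe_comp]
    exact (ConcreteCategory.bijective_of_isIso (φ.stalkMap (genericPoint X))).2.comp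
      (ConcreteCategory.bijective_of_isIso (Y.presheaf.stalkSpecializes hdom)).2
  exact Groth.Agent.Lead.PropNormA.s2422 hY φ hdom (fun x _ => hsurj2 x)

theorem main2 (S C₁ C₂ : Scheme.{u}) [IsIntegral S]
    [IsNoetherian S] (hS : Pi1.IsNormalScheme S) (f₁ : C₁ ⟶ S) (f₂ : C₂ ⟶ S)
    [Flat f₁] [IsProper f₁] [LocallyOfFinitePresentation f₁] [GeometricallyReduced f₁]
    [GeometricallyConnected f₁]
    [Flat f₂] [IsProper f₂] [LocallyOfFinitePresentation f₂] [GeometricallyReduced f₂]
    [GeometricallyConnected f₂]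
    (hdim₁ : ∀ s : ↥S, topologicalKrullDim ↥(f₁.fiber s) ≤ 1)
    (hdim₂ : ∀ s : ↥S, topologicalKrullDim ↥(f₂.fiber s) ≤ 1)
    (hsm₁ : Smooth (f₁.fiberToSpecResidueField (genericPoint ↥S)))
    (hsm₂ : Smooth (f₂.fiberToSpecResidueField (genericPoint ↥S)))
    (φ : C₁ ⟶ C₂) (hφ : φ ≫ f₂ = f₁)
    (hbir : ∃ U : C₂.Opens, Dense (U : Set ↥C₂) ∧ IsIso (φ ∣_ U)) :
    ∀ V : C₂.Opens, IsIso (φ.app V) := by
  obtain ⟨hI1, hN1⟩ := isIntegral_total S C₁ hS f₁ hdim₁ hsm₁
  obtain ⟨hI2, hN2⟩ := isIntegral_total S C₂ hS f₂ hdim₂ hsm₂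
  haveI : IsProper (φ ≫ f₂) := by rw [hφ]; infer_instance
  haveI : IsProper φ := IsProper.of_comp φ f₂
  exact isIso_app_of_birational (main S C₂ hS f₂ hdim₂ hsm₂) φ hbir

end Groth.Agent.Helper3.FamNormal
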