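import Mathlib
import Groth.Agent.Helper3.Fib3

set_option autoImplicit false
set_option linter.style.haveILetI false
set_option linter.unusedSectionVars false
set_option linter.unusedVariables false
set_option linter.style.haveILetI false
set_option linter.unusedSectionVars false
set_option linter.unusedVariables false

open AlgebraicGeometry CategoryTheory CategoryTheory.Limits TopologicalSpace Opposite MonoidalCategory CartesianMonoidalCategory MonObj

universe u

namespace Groth.Agent.Helper3.Fib

theorem s14834 (k : Type u) [Field k] (X Y : Over (Spec (CommRingCat.of k)))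
    [IsProper X.hom] [IsProper Y.hom] (h0 : Function.Bijective (X.hom.appTop).hom)
    (x₀ : 𝟙_ (Over (Spec (CommRingCat.of k))) ⟶ X)
    (A : Over (Spec (CommRingCat.of k))) [GrpObj A] [IsProper A.hom] [GeometricallyIntegral A.hom]
    (alb : X ⟶ A) (halb : x₀ ≫ alb = η[A])
    (huniv : ∀ (B : Over (Spec (CommRingCat.of k))) [GrpObj B] [IsProper B.hom] [GeometricallyReduced B.hom] [ConnectedSpace ↥B.left]
      (g : X ⟶ B), x₀ ≫ g = η[B] → ∃! h : A ⟶ B, IsMonHom h ∧ alb ≫ h = g)
    (r : X ⟶ Y) (hr : ∀ U : Y.left.Opens, IsIso (r.left.app U)) (s : Y ⟶ A) [IsFinite s.left]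
    (hrs : r ≫ s = alb)
    (B : Over (Spec (CommRingCat.of k))) [GrpObj B] [IsProper B.hom] [GeometricallyReduced B.hom] [ConnectedSpace ↥B.left]
    (g : Y ⟶ B) (hg : x₀ ≫ r ≫ g = η[B]) :
    ∃! h : A ⟶ B, IsMonHom h ∧ s ≫ h = g := by
  have h1 : IsFib r.left := fun V => by
    have := hr V
    exact ConcreteCategory.bijective_of_isIso (r.left.app V)
  have hrp : IsProper r.left := by
    have : IsProper (r.left ≫ Y.hom) := by rw [Over.w r]; infer_instance
    exact IsProper.of_comp r.left Y.hom
  have hs : Function.Surjective r.left.base := h1.surjective_of_isClosedMap r.left.isClosedMap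
  have hepi : ∀ (a b : Y ⟶ B), r ≫ a = r ≫ b → a = b := by
    intro a b hab
    apply Over.OverMorphism.ext
    apply h1.cancel hs
    have := congr($(hab).left)
    simpa using this
  obtain ⟨h, ⟨hh1, hh2⟩, huniq⟩ := huniv B (r ≫ g) (by simpa using hg)
  refine ⟨h, ⟨hh1, ?_⟩, ?_⟩
  · apply hepi
    rw [← Category.assoc, hrs, hh2]
  · rintro h' ⟨hm, hh'⟩
    apply huniq
    refine ⟨hm, ?_⟩
    rw [← hrs, Category.assoc, hh']

end Groth.Agent.Helper3.Fib
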