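import Mathlib
import Groth.Agent.Helper7.FinCMFlat
import Groth.Agent.Helper2.RegCM
import Groth.Agent.Lead.CMCl

set_option autoImplicit false
set_option linter.style.haveILetI false
set_option linter.unusedSectionVars false
set_option linter.unusedVariables false
set_option linter.deprecated false
set_option linter.style.haveILetI false
set_option linter.unusedSectionVars false
set_option linter.unusedVariables false

/-!
# Fibre cardinality of a finite unramified extension of a regular domain by a regular domain
-/

namespace Groth.Agent.Helper3.FibCnt
open TensorProduct

universe u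

/-- a finite injective extension `A ⊆ B` of domains with `A` regular at maximal ideals and `B`
Cohen–Macaulay at all primes is flat -/
theorem flat_of_regular_cm {A B : Type u} [CommRing A] [CommRing B] [IsDomain A] [IsDomain B]
    [Algebra A B] [Module.Finite A B]
    (hinj : Function.Injective (algebraMap A B))
    (hreg : ∀ (m : Ideal A) [m.IsMaximal], IsRegularLocalRing (Localization.AtPrime m))
    (hcm : ∀ (q : Ideal B) [q.IsPrime], LocCoh.IsCohenMacaulayLocalRing (Localization.AtPrime q)) :
    Module.Flat A B := by
  refine Module.flat_of_isLocalized_maximal A B
    (fun P _ => Localization (Algebra.algebraMapSubmonoid B P.primeCompl))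
    (fun P _ => (IsScalarTower.toAlgHom A B _).toLinearMap) (fun P hP => ?_)
  let R := Localization.AtPrime P
  let S := Localization (Algebra.algebraMapSubmonoid B P.primeCompl)
  haveI : IsRegularLocalRing R := hreg P
  haveI : FaithfulSMul A B := (faithfulSMul_iff_algebraMap_injective A B).2 hinj
  have hle : Algebra.algebraMapSubmonoid B P.primeCompl ≤ nonZeroDivisors B :=
    algebraMapSubmonoid_le_nonZeroDivisors_of_faithfulSMul _ P.primeCompl_le_nonZeroDivisors
  haveI : IsDomain S := IsLocalization.isDomain_localization hle
  haveI : Module.Finite R S := Module.Finite.of_isLocalization A B P.primeCompl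
  have hinj' : Function.Injective (algebraMap R S) :=
    localizationAlgebra_injective R S hinj
  have hCM' : ∀ (q : Ideal S) [q.IsMaximal],
      LocCoh.IsCohenMacaulayLocalRing (Localization.AtPrime q) := by
    intro q hq
    let e := IsLocalization.localizationLocalizationAtPrimeIsoLocalization
      (Algebra.algebraMapSubmonoid B P.primeCompl) q
    haveI := hcm (q.comap (algebraMap B S))
    exact Groth.Agent.Lead.CMCl.cm_of_ringEquiv e.toRingEquiv
  haveI : Module.Flat R S := Groth.Agent.Helper7.FinCMFlat.main R S hinj' hCM'
  exact Module.Flat.trans A R S

/-- the number of primes of `B` over a prime `m` of `A` with separably closed residue field, for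
`B` finite flat unramified over the domain `A`, is the degree of the fraction field extension -/
theorem card_fibre_eq {A B : Type u} [CommRing A] [CommRing B] [IsDomain A] [IsDomain B]
    [Algebra A B] [Module.Finite A B] [Module.Flat A B] [Algebra.FormallyUnramified A B]
    (m : PrimeSpectrum A) [IsSepClosed m.asIdeal.ResidueField]
    (K L : Type u) [Field K] [Field L] [Algebra A K] [IsFractionRing A K] [Algebra B L]
    [IsFractionRing B L] [Algebra K L] [Algebra A L] [IsScalarTower A K L] [IsScalarTower A B L] :
    Nat.card (PrimeSpectrum.comap (algebraMap A B) ⁻¹' {m}) = Module.finrank K L := by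
  let κ := m.asIdeal.ResidueField
  let C := m.asIdeal.Fiber B
  rw [Nat.card_congr (PrimeSpectrum.preimageEquivFiber A B m)]
  haveI : Module.Finite κ C := inferInstance
  haveI : Algebra.EssFiniteType κ C := inferInstance
  haveI : Algebra.FormallyUnramified κ C := inferInstance
  haveI : Algebra.FormallyEtale κ C := Algebra.FormallyEtale.of_formallyUnramified_of_field κ C
  let e := Algebra.FormallyEtale.equivPiOfIsSepClosed κ C
  haveI : IsArtinianRing C := isArtinian_of_tower κ inferInstance
  haveI : Finite (PrimeSpectrum C) := inferInstance
  haveI : Fintype (PrimeSpectrum C) := Fintype.ofFinite _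
  have h1 : Module.finrank κ C = Nat.card (PrimeSpectrum C) := by
    rw [e.toLinearEquiv.finrank_eq, Module.finrank_fintype_fun_eq_card, Nat.card_eq_fintype_card]
  rw [← h1, Ideal.finrank_fiber_eq_finrank, ← IsFractionRing.finrank_eq A K B L]

end Groth.Agent.Helper3.FibCnt
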