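import Mathlib
import Groth.Agent.Helper3.FibCnt1

set_option autoImplicit false
set_option linter.style.haveILetI false
set_option linter.unusedSectionVars false
set_option linter.unusedVariables false
set_option linter.deprecated false
set_option linter.style.haveILetI false
set_option linter.unusedSectionVars false
set_option linter.unusedVariables false

namespace Groth.Agent.Helper3.FibCnt
open CategoryTheory Limits AlgebraicGeometry TensorProduct

universe u

/-- localizations of sections over an affine open at primes are regular if all stalks are -/
theorem regular_localization {X : Scheme.{u}} {U : X.Opens} (hU : IsAffineOpen U)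
    (hreg : ∀ x : X, IsRegularLocalRing (X.presheaf.stalk x)) (y : PrimeSpectrum Γ(X, U)) :
    IsRegularLocalRing (Localization.AtPrime y.asIdeal) := by
  have hy : hU.fromSpec y ∈ U := by
    rw [← SetLike.mem_coe, ← hU.range_fromSpec]; exact ⟨y, rfl⟩
  letI alg : Algebra Γ(X, U) (X.presheaf.stalk (hU.fromSpec y)) :=
    TopCat.Presheaf.algebra_section_stalk X.presheaf ⟨hU.fromSpec y, hy⟩
  haveI hloc : IsLocalization y.asIdeal.primeCompl (X.presheaf.stalk (hU.fromSpec y)) :=
    hU.isLocalization_stalk' y hy
  haveI := hreg (hU.fromSpec y)
  exact IsRegularLocalRing.of_ringEquiv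
    (IsLocalization.algEquiv y.asIdeal.primeCompl (X.presheaf.stalk (hU.fromSpec y))
      (Localization.AtPrime y.asIdeal)).toRingEquiv

/-- residue fields at maximal ideals of finite type algebras over an algebraically closed field
are algebraically closed -/
theorem isAlgClosed_residueField {k A : Type u} [Field k] [IsAlgClosed k] [CommRing A]
    [Algebra k A] [Algebra.FiniteType k A] (m : Ideal A) [hm : m.IsMaximal] :
    IsAlgClosed m.ResidueField := by
  letI : Field (A ⧸ m) := Ideal.Quotient.field m
  haveI : Algebra.FiniteType k (A ⧸ m) :=
    Algebra.FiniteType.of_surjective (Ideal.Quotient.mkₐ k m) (Ideal.Quotient.mkₐ_surjective k m)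
  haveI : Module.Finite k (A ⧸ m) := finite_of_finite_type_of_isJacobsonRing k (A ⧸ m)
  have h1 : Function.Bijective (algebraMap k (A ⧸ m)) :=
    IsAlgClosed.algebraMap_bijective_of_isIntegral
  have h2 : Function.Bijective (algebraMap (A ⧸ m) m.ResidueField) :=
    Ideal.bijective_algebraMap_quotient_residueField m
  let e : k ≃+* m.ResidueField :=
    (RingEquiv.ofBijective _ h1).trans (RingEquiv.ofBijective _ h2)
  exact IsAlgClosed.of_ringEquiv k m.ResidueField e

end Groth.Agent.Helper3.FibCnt
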