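import Mathlib
import Groth.Agent.Helper3.FibCnt2
import Groth.Prelude.Def_ModelsG

set_option autoImplicit false
set_option linter.style.haveILetI false
set_option linter.unusedSectionVars false
set_option linter.unusedVariables false
set_option linter.deprecated false
set_option linter.style.haveILetI false
set_option linter.unusedSectionVars false
set_option linter.unusedVariables false

namespace Groth.Agent.Helper3.FibCnt
open CategoryTheory Limits AlgebraicGeometry TensorProduct

universe u

/-- the fibre of `π` over a point of an affine open `U` corresponds to the fibre of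
`Spec Γ(Y, π⁻¹U) → Spec Γ(X, U)` -/
theorem card_fibre_affine {X Y : Scheme.{u}} (π : Y ⟶ X) {U : X.Opens} (hU : IsAffineOpen U)
    (hV : IsAffineOpen (π ⁻¹ᵁ U)) (p : X) (hpU : p ∈ U) :
    Nat.card {q : Y // π.base q = p} =
      Nat.card (PrimeSpectrum.comap (π.app U).hom ⁻¹' {hU.primeIdealOf ⟨p, hpU⟩}) := by
  symm
  have hcomm : Spec.map (π.app U) ≫ hU.fromSpec = hV.fromSpec ≫ π := by
    have := IsAffineOpen.SpecMap_appLE_fromSpec π hU hV le_rfl
    rwa [Scheme.Hom.appLE_eq_app] at this
  have hpt : ∀ q' : PrimeSpectrum Γ(Y, π ⁻¹ᵁ U),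
      π.base (hV.fromSpec q') = hU.fromSpec (PrimeSpectrum.comap (π.app U).hom q') := by
    intro q'
    have := congrArg (fun f => f.base q') hcomm
    simp only [Scheme.Hom.comp_base, TopCat.hom_comp, ContinuousMap.comp_apply] at this
    exact this.symm
  have hinjU : Function.Injective hU.fromSpec := hU.fromSpec.isOpenEmbedding.injective
  have hinjV : Function.Injective hV.fromSpec := hV.fromSpec.isOpenEmbedding.injective
  have hm : hU.fromSpec (hU.primeIdealOf ⟨p, hpU⟩) = p := hU.fromSpec_primeIdealOf ⟨p, hpU⟩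
  refine Nat.card_congr (Equiv.ofBijective
    (fun q' => ⟨hV.fromSpec q'.1, by
      rw [hpt, show PrimeSpectrum.comap (π.app U).hom q'.1 = _ from q'.2, hm]⟩) ⟨?_, ?_⟩)
  · intro a b hab
    have h1 : hV.fromSpec a.1 = hV.fromSpec b.1 := congrArg (fun z : {q : Y // π.base q = p} => z.1) hab
    exact Subtype.ext (hinjV h1)
  · rintro ⟨q, hq⟩
    have hqV : q ∈ (π ⁻¹ᵁ U : Set Y) := by
      show π.base q ∈ U
      rw [hq]; exact hpU
    rw [← hV.range_fromSpec] at hqV
    obtain ⟨q₀, rfl⟩ := hqV
    refine ⟨⟨q₀, ?_⟩, rfl⟩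
    show PrimeSpectrum.comap (π.app U).hom q₀ = _
    apply hinjU
    rw [← hpt, hq, hm]

theorem s15003 (k : Type u) [Field k] [IsAlgClosed k]
    (X Y : Scheme.{u}) [X.Over (Spec (CommRingCat.of k))] [Y.Over (Spec (CommRingCat.of k))]
    [IsIntegral X] [IsIntegral Y]
    [IsSeparated (X ↘ (Spec (CommRingCat.of k)))] [LocallyOfFiniteType (X ↘ (Spec (CommRingCat.of k)))]
    [QuasiCompact (X ↘ (Spec (CommRingCat.of k)))]
    [IsSeparated (Y ↘ (Spec (CommRingCat.of k)))] [LocallyOfFiniteType (Y ↘ (Spec (CommRingCat.of k)))]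
    [QuasiCompact (Y ↘ (Spec (CommRingCat.of k)))]
    (hregX : ∀ x : X, IsRegularLocalRing (X.presheaf.stalk x))
    (hregY : ∀ y : Y, IsRegularLocalRing (Y.presheaf.stalk y))
    (π : Y ⟶ X) (hπ : π ≫ (X ↘ (Spec (CommRingCat.of k))) = (Y ↘ (Spec (CommRingCat.of k))))
    [AlgebraicGeometry.IsFinite π] [AlgebraicGeometry.Surjective π] [AlgebraicGeometry.FormallyUnramified π]
    (e : π.base (genericPoint Y) = genericPoint X) (p : X) (hp : IsClosed ({p} : Set X)) :
    Nat.card {q : Y // π.base q = p} =
      Models.homDegree (X.presheaf.stalkSpecializes (specializes_of_eq e) ≫ π.stalkMap (genericPoint Y)).hom := by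
  obtain ⟨_, ⟨U, hU : IsAffineOpen U, rfl⟩, hpU, -⟩ :=
    X.isBasis_affineOpens.exists_subset_of_mem_open (Set.mem_univ p) isOpen_univ
  have hV : IsAffineOpen (π ⁻¹ᵁ U) := hU.preimage π
  haveI : Nonempty U := ⟨⟨p, hpU⟩⟩
  haveI : Nonempty (π ⁻¹ᵁ U : Y.Opens) := by
    obtain ⟨q, hq⟩ := π.surjective p
    exact ⟨⟨q, by show π.base q ∈ U; rw [hq]; exact hpU⟩⟩
  rw [card_fibre_affine π hU hV p hpU]
  let A := Γ(X, U)
  let B := Γ(Y, π ⁻¹ᵁ U)
  haveI : IsDomain A := inferInstance
  haveI : IsDomain B := inferInstance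
  letI : Algebra A B := (π.app U).hom.toAlgebra
  haveI : Module.Finite A B := π.finite_app U hU
  haveI : IsSchemeTheoreticallyDominant π := IsSchemeTheoreticallyDominant.of_isDominant π
  have hinj : Function.Injective (algebraMap A B) := π.app_injective U
  haveI : Algebra.FormallyUnramified A B := by
    have := π.formallyUnramified_appLE hU hV le_rfl
    rwa [Scheme.Hom.appLE_eq_app] at this
  have hreg : ∀ (m : Ideal A) [m.IsMaximal], IsRegularLocalRing (Localization.AtPrime m) :=
    fun m hm => regular_localization hU hregX ⟨m, hm.isPrime⟩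
  have hcm : ∀ (q : Ideal B) [q.IsPrime],
      LocCoh.IsCohenMacaulayLocalRing (Localization.AtPrime q) := by
    intro q hq
    haveI := regular_localization hV hregY ⟨q, hq⟩
    exact ⟨Groth.Agent.Helper2.RegCM.cm_of_isRegularLocalRing _⟩
  haveI : Module.Flat A B := flat_of_regular_cm hinj hreg hcm
  let m : PrimeSpectrum A := hU.primeIdealOf ⟨p, hpU⟩
  haveI hmax : m.asIdeal.IsMaximal := hU.primeIdealOf_isMaximal_of_isClosed ⟨p, hpU⟩ hp
  -- the residue field at `m` is algebraically closed
  have hle : U ≤ (X ↘ (Spec (CommRingCat.of k))) ⁻¹ᵁ ⊤ := fun _ _ => trivial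
  let ρ : k →+* A := ((Scheme.ΓSpecIso (CommRingCat.of k)).inv ≫
    (X ↘ (Spec (CommRingCat.of k))).appLE ⊤ U hle).hom
  have hρ : ρ.FiniteType := by
    have h1 := (X ↘ (Spec (CommRingCat.of k))).finiteType_appLE (isAffineOpen_top _) hU hle
    have h2 : ((Scheme.ΓSpecIso (CommRingCat.of k)).inv).hom.FiniteType :=
      RingHom.FiniteType.of_surjective _
        (ConcreteCategory.bijective_of_isIso (Scheme.ΓSpecIso (CommRingCat.of k)).inv).surjective
    exact h1.comp h2
  letI : Algebra k A := ρ.toAlgebra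
  haveI : Algebra.FiniteType k A := hρ
  haveI : IsAlgClosed m.asIdeal.ResidueField := isAlgClosed_residueField (k := k) m.asIdeal
  haveI : IsSepClosed m.asIdeal.ResidueField := inferInstance
  -- fraction fields
  let K := X.functionField
  let L := Y.functionField
  haveI : IsFractionRing A K := functionField_isFractionRing_of_isAffineOpen X U hU
  haveI : IsFractionRing B L := functionField_isFractionRing_of_isAffineOpen Y (π ⁻¹ᵁ U) hV
  let φ : K →+* L :=
    (X.presheaf.stalkSpecializes (specializes_of_eq e) ≫ π.stalkMap (genericPoint Y)).hom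
  letI : Algebra K L := φ.toAlgebra
  letI : Algebra A L := ((algebraMap B L).comp (algebraMap A B)).toAlgebra
  haveI : IsScalarTower A B L := IsScalarTower.of_algebraMap_eq' rfl
  haveI : IsScalarTower A K L := by
    refine IsScalarTower.of_algebraMap_eq' ?_
    have hgX : genericPoint X ∈ U :=
      ((genericPoint_spec X).mem_open_set_iff U.isOpen).mpr (by simpa using ‹Nonempty U›)
    have hgY : π.base (genericPoint Y) ∈ U := by rw [e]; exact hgX
    have h1 : X.presheaf.germ U (genericPoint X) hgX ≫
        X.presheaf.stalkSpecializes (specializes_of_eq e) =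
        X.presheaf.germ U (π.base (genericPoint Y)) hgY :=
      TopCat.Presheaf.germ_stalkSpecializes X.presheaf hgX (specializes_of_eq e)
    have h2 := Scheme.Hom.germ_stalkMap π U (genericPoint Y) hgY
    have h3 : π.app U ≫ Y.presheaf.germ (π ⁻¹ᵁ U) (genericPoint Y) hgY =
        X.presheaf.germ U (genericPoint X) hgX ≫
          (X.presheaf.stalkSpecializes (specializes_of_eq e) ≫ π.stalkMap (genericPoint Y)) := by
      rw [← Category.assoc, h1, h2]
    exact congrArg (fun f => f.hom) h3
  have key := card_fibre_eq (A := A) (B := B) m K L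
  exact key

end Groth.Agent.Helper3.FibCnt
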