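import Mathlib
import Groth.Agent.Helper3.DetCodim1

set_option autoImplicit false
set_option linter.style.haveILetI false
set_option linter.unusedSectionVars false
set_option linter.unusedVariables false
set_option linter.deprecated false
set_option linter.style.haveILetI false
set_option linter.unusedSectionVars false
set_option linter.unusedVariables false

universe u

namespace Groth.Agent.Helper3.FibCodim1

open AlgebraicGeometry CategoryTheory CategoryTheory.Limits TopologicalSpace Opposite TensorProduct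

theorem isIso_of_isIso_SpecMap {R T : CommRingCat.{u}} (f : R ⟶ T) (h : IsIso (Spec.map f)) :
    IsIso f := by
  have : IsIso (Scheme.Spec.map f.op) := h
  have := isIso_of_reflects_iso f.op Scheme.Spec
  exact isIso_of_op f

/-- the fibre of `p : P ⟶ S` over `s ∈ W` (affine open, `p⁻¹W` affine) is the spectrum of the
tensor product -/
theorem isPullback_fibre {P S : Scheme.{u}} (p : P ⟶ S) (W : S.Opens) (hW : IsAffineOpen W)
    (hV : IsAffineOpen (p ⁻¹ᵁ W)) (s : S) (hs : s ∈ W) :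
    letI : Algebra Γ(S, W) Γ(P, p ⁻¹ᵁ W) := (p.app W).hom.toAlgebra
    letI : Algebra Γ(S, W) (S.residueField s) := (S.evaluation W s hs).hom.toAlgebra
    IsPullback
      (Spec.map (CommRingCat.ofHom (S := (S.residueField s) ⊗[Γ(S, W)] Γ(P, p ⁻¹ᵁ W))
        Algebra.TensorProduct.includeRight.toRingHom) ≫ hV.fromSpec)
      (Spec.map (CommRingCat.ofHom (S := (S.residueField s) ⊗[Γ(S, W)] Γ(P, p ⁻¹ᵁ W))
        Algebra.TensorProduct.includeLeftRingHom))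
      p (S.fromSpecResidueField s) := by
  letI : Algebra Γ(S, W) Γ(P, p ⁻¹ᵁ W) := (p.app W).hom.toAlgebra
  letI : Algebra Γ(S, W) (S.residueField s) := (S.evaluation W s hs).hom.toAlgebra
  have hg : S.fromSpecResidueField s = Spec.map (S.evaluation W s hs) ≫ hW.fromSpec := by
    rw [Scheme.fromSpecResidueField, ← hW.fromSpecStalk_eq_fromSpecStalk hs,
      IsAffineOpen.fromSpecStalk, ← Spec.map_comp_assoc]
    rfl
  rw [hg]
  have hpo := CommRingCat.isPushout_tensorProduct Γ(S, W) (S.residueField s) Γ(P, p ⁻¹ᵁ W)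
  have htop := isPullback_SpecMap_of_isPushout _ _ _ _ hpo
  have hbot : IsPullback (Spec.map (p.appLE W (p ⁻¹ᵁ W) le_rfl)) hV.fromSpec hW.fromSpec p := by
    apply IsOpenImmersion.isPullback
    · exact (hW.SpecMap_appLE_fromSpec p hV le_rfl).symm
    · rw [hW.opensRange_fromSpec, hV.opensRange_fromSpec]
  have hbot' : IsPullback hV.fromSpec (Spec.map (CommRingCat.ofHom (algebraMap Γ(S, W) Γ(P, p ⁻¹ᵁ W))))
      p hW.fromSpec := by
    have : CommRingCat.ofHom (algebraMap Γ(S, W) Γ(P, p ⁻¹ᵁ W)) = p.appLE W (p ⁻¹ᵁ W) le_rfl := by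
      rw [← Scheme.Hom.app_eq_appLE]; rfl
    rw [this]
    exact hbot.flip
  exact htop.flip.paste_horiz hbot'

theorem baseChange_bijective {P Q S : Scheme.{u}} (Ψ : P ⟶ Q) (q : Q ⟶ S) (W : S.Opens)
    (hW : IsAffineOpen W) (hVQ : IsAffineOpen (q ⁻¹ᵁ W))
    (hVP : IsAffineOpen (Ψ ⁻¹ᵁ (q ⁻¹ᵁ W)))
    (s : S) (hs : s ∈ W) (e₁ e₂)
    (hiso : IsIso (pullback.map (Ψ ≫ q) (S.fromSpecResidueField s) q (S.fromSpecResidueField s)
      Ψ (𝟙 _) (𝟙 S) e₁ e₂)) :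
    letI : Algebra Γ(S, W) Γ(Q, q ⁻¹ᵁ W) := (q.app W).hom.toAlgebra
    letI : Algebra Γ(S, W) Γ(P, Ψ ⁻¹ᵁ (q ⁻¹ᵁ W)) := ((Ψ ≫ q).app W).hom.toAlgebra
    letI : Algebra Γ(S, W) (S.residueField s) := (S.evaluation W s hs).hom.toAlgebra
    ∀ (ψ : Γ(Q, q ⁻¹ᵁ W) →ₐ[Γ(S, W)] Γ(P, Ψ ⁻¹ᵁ (q ⁻¹ᵁ W))),
      (∀ x, ψ x = (Ψ.app (q ⁻¹ᵁ W)).hom x) →
      Function.Bijective (ψ.toLinearMap.baseChange (S.residueField s)) := by
  letI algC : Algebra Γ(S, W) Γ(Q, q ⁻¹ᵁ W) := (q.app W).hom.toAlgebra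
  letI algB : Algebra Γ(S, W) Γ(P, Ψ ⁻¹ᵁ (q ⁻¹ᵁ W)) := ((Ψ ≫ q).app W).hom.toAlgebra
  letI algκ : Algebra Γ(S, W) (S.residueField s) := (S.evaluation W s hs).hom.toAlgebra
  intro ψ hψ
  have sqP : IsPullback
      (Spec.map (CommRingCat.ofHom
        (S := (S.residueField s) ⊗[Γ(S, W)] Γ(P, Ψ ⁻¹ᵁ (q ⁻¹ᵁ W)))
        Algebra.TensorProduct.includeRight.toRingHom) ≫ hVP.fromSpec)
      (Spec.map (CommRingCat.ofHom
        (S := (S.residueField s) ⊗[Γ(S, W)] Γ(P, Ψ ⁻¹ᵁ (q ⁻¹ᵁ W)))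
        Algebra.TensorProduct.includeLeftRingHom))
      (Ψ ≫ q) (S.fromSpecResidueField s) := isPullback_fibre (Ψ ≫ q) W hW hVP s hs
  have sqQ := isPullback_fibre q W hW hVQ s hs
  let τ : (S.residueField s) ⊗[Γ(S, W)] Γ(Q, q ⁻¹ᵁ W) →ₐ[Γ(S, W)]
      (S.residueField s) ⊗[Γ(S, W)] Γ(P, Ψ ⁻¹ᵁ (q ⁻¹ᵁ W)) :=
    Algebra.TensorProduct.map (AlgHom.id Γ(S, W) (S.residueField s)) ψ
  let σ := Spec.map (CommRingCat.ofHom τ.toRingHom)
  have h1 : σ ≫ (Spec.map (CommRingCat.ofHom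
        (S := (S.residueField s) ⊗[Γ(S, W)] Γ(Q, q ⁻¹ᵁ W))
        Algebra.TensorProduct.includeRight.toRingHom) ≫ hVQ.fromSpec) =
      (Spec.map (CommRingCat.ofHom
        (S := (S.residueField s) ⊗[Γ(S, W)] Γ(P, Ψ ⁻¹ᵁ (q ⁻¹ᵁ W)))
        Algebra.TensorProduct.includeRight.toRingHom) ≫ hVP.fromSpec) ≫ Ψ := by
    rw [← Spec.map_comp_assoc]
    have : CommRingCat.ofHom (S := (S.residueField s) ⊗[Γ(S, W)] Γ(Q, q ⁻¹ᵁ W))
        Algebra.TensorProduct.includeRight.toRingHom ≫ CommRingCat.ofHom τ.toRingHom =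
        Ψ.app (q ⁻¹ᵁ W) ≫ CommRingCat.ofHom
          (S := (S.residueField s) ⊗[Γ(S, W)] Γ(P, Ψ ⁻¹ᵁ (q ⁻¹ᵁ W)))
          Algebra.TensorProduct.includeRight.toRingHom := by
      ext x
      simp [τ, hψ]
    rw [this, Spec.map_comp_assoc, Category.assoc]
    congr 1
    have := hVQ.SpecMap_appLE_fromSpec Ψ hVP le_rfl
    rw [← Scheme.Hom.app_eq_appLE] at this
    exact this
  have h2 : σ ≫ Spec.map (CommRingCat.ofHom
        (S := (S.residueField s) ⊗[Γ(S, W)] Γ(Q, q ⁻¹ᵁ W))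
        Algebra.TensorProduct.includeLeftRingHom) =
      Spec.map (CommRingCat.ofHom
        (S := (S.residueField s) ⊗[Γ(S, W)] Γ(P, Ψ ⁻¹ᵁ (q ⁻¹ᵁ W)))
        Algebra.TensorProduct.includeLeftRingHom) := by
    rw [← Spec.map_comp]
    congr 1
    ext x
    simp [τ]
  have hcomp : sqP.isoPullback.hom ≫ pullback.map (Ψ ≫ q) (S.fromSpecResidueField s) q
      (S.fromSpecResidueField s) Ψ (𝟙 _) (𝟙 S) e₁ e₂ = σ ≫ sqQ.isoPullback.hom := by
    apply pullback.hom_ext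
    · rw [Category.assoc, Category.assoc, IsPullback.isoPullback_hom_fst, pullback.map,
        pullback.lift_fst, IsPullback.isoPullback_hom_fst_assoc]
      exact h1.symm
    · rw [Category.assoc, Category.assoc, IsPullback.isoPullback_hom_snd, pullback.map,
        pullback.lift_snd, IsPullback.isoPullback_hom_snd_assoc]
      exact (Category.comp_id _).trans h2.symm
  have hσ : IsIso σ := by
    have : σ = (sqP.isoPullback.hom ≫ pullback.map (Ψ ≫ q) (S.fromSpecResidueField s) q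
      (S.fromSpecResidueField s) Ψ (𝟙 _) (𝟙 S) e₁ e₂) ≫ sqQ.isoPullback.inv := by
      rw [hcomp, Category.assoc, Iso.hom_inv_id, Category.comp_id]
    rw [this]
    infer_instance
  have hτ : IsIso (CommRingCat.ofHom τ.toRingHom) := isIso_of_isIso_SpecMap _ hσ
  have hbij : Function.Bijective τ := ConcreteCategory.bijective_of_isIso (CommRingCat.ofHom τ.toRingHom)
  have hfun : (ψ.toLinearMap.baseChange (S.residueField s) : _ → _) = τ := by
    ext x
    induction x using TensorProduct.induction_on with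
    | zero => simp
    | add x y hx hy => simp only [map_add, hx, hy]
    | tmul c y => simp [τ]
  rw [hfun]
  exact hbij

/-- facts about the point of an affine open attached to a prime -/
theorem point_facts {S : Scheme.{u}} (W : S.Opens) (hW : IsAffineOpen W)
    (p : Ideal Γ(S, W)) [hp : p.IsPrime] :
    ∃ (s : S) (hs : s ∈ W), ringKrullDim (S.presheaf.stalk s) = p.height ∧
      RingHom.ker (S.evaluation W s hs).hom = p ∧
      s = hW.fromSpec (⟨p, hp⟩ : PrimeSpectrum Γ(S, W)) := by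
  let s : S := hW.fromSpec (⟨p, hp⟩ : PrimeSpectrum Γ(S, W))
  have hsW : s ∈ W := by
    have : s ∈ Set.range hW.fromSpec := Set.mem_range_self _
    rw [hW.range_fromSpec] at this
    exact this
  have hprime : hW.primeIdealOf ⟨s, hsW⟩ = ⟨p, hp⟩ := by
    apply hW.fromSpec.isOpenEmbedding.injective
    exact hW.fromSpec_primeIdealOf ⟨s, hsW⟩
  refine ⟨s, hsW, ?_, ?_, rfl⟩
  · letI : Algebra Γ(S, W) (S.presheaf.stalk s) := S.presheaf.algebra_section_stalk ⟨s, hsW⟩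
    haveI h1 := hW.isLocalization_stalk ⟨s, hsW⟩
    rw [hprime] at h1
    exact IsLocalization.AtPrime.ringKrullDim_eq_height p (S.presheaf.stalk s)
  · letI : Algebra Γ(S, W) (S.presheaf.stalk s) := S.presheaf.algebra_section_stalk ⟨s, hsW⟩
    haveI h1 := hW.isLocalization_stalk ⟨s, hsW⟩
    rw [hprime] at h1
    have h2 : (IsLocalRing.maximalIdeal (S.presheaf.stalk s)).comap
        (algebraMap Γ(S, W) (S.presheaf.stalk s)) = p :=
      IsLocalization.AtPrime.comap_maximalIdeal (S.presheaf.stalk s) p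
    rw [← h2]
    ext x
    rw [RingHom.mem_ker, Ideal.mem_comap, ← IsLocalRing.residue_eq_zero_iff]
    rfl

theorem app_bijective {P Q S : Scheme.{u}} [IsLocallyNoetherian S] (Ψ : P ⟶ Q) (q : Q ⟶ S)
    [IsFinite q] [Flat q] [IsFinite (Ψ ≫ q)] [Flat (Ψ ≫ q)]
    (W : S.Opens) (hW : IsAffineOpen W)
    (hfib : ∀ s : S, s ∈ W → ringKrullDim (S.presheaf.stalk s) ≤ 1 →
      ∀ e₁ e₂, IsIso (pullback.map (Ψ ≫ q) (S.fromSpecResidueField s) q
        (S.fromSpecResidueField s) Ψ (𝟙 _) (𝟙 S) e₁ e₂)) :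
    Function.Bijective (Ψ.app (q ⁻¹ᵁ W)).hom := by
  have hVQ : IsAffineOpen (q ⁻¹ᵁ W) := hW.preimage q
  have hVP : IsAffineOpen (Ψ ⁻¹ᵁ (q ⁻¹ᵁ W)) := hW.preimage (Ψ ≫ q)
  letI algC : Algebra Γ(S, W) Γ(Q, q ⁻¹ᵁ W) := (q.app W).hom.toAlgebra
  letI algB : Algebra Γ(S, W) Γ(P, Ψ ⁻¹ᵁ (q ⁻¹ᵁ W)) := ((Ψ ≫ q).app W).hom.toAlgebra
  haveI : IsNoetherianRing Γ(S, W) := IsLocallyNoetherian.component_noetherian ⟨W, hW⟩
  haveI : Module.Finite Γ(S, W) Γ(Q, q ⁻¹ᵁ W) := IsFinite.finite_app q W hW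
  haveI : Module.Finite Γ(S, W) Γ(P, Ψ ⁻¹ᵁ (q ⁻¹ᵁ W)) := IsFinite.finite_app (Ψ ≫ q) W hW
  haveI : Module.Flat Γ(S, W) Γ(Q, q ⁻¹ᵁ W) := by
    have := Flat.flat_appLE q hW hVQ le_rfl
    rw [← Scheme.Hom.app_eq_appLE] at this
    exact this
  haveI : Module.Flat Γ(S, W) Γ(P, Ψ ⁻¹ᵁ (q ⁻¹ᵁ W)) := by
    have hVP' : IsAffineOpen ((Ψ ≫ q) ⁻¹ᵁ W) := hVP
    have := Flat.flat_appLE (Ψ ≫ q) hW hVP' le_rfl
    rw [← Scheme.Hom.app_eq_appLE] at this
    exact this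
  let ψ : Γ(Q, q ⁻¹ᵁ W) →ₐ[Γ(S, W)] Γ(P, Ψ ⁻¹ᵁ (q ⁻¹ᵁ W)) :=
    { (Ψ.app (q ⁻¹ᵁ W)).hom with
      commutes' := fun a => by
        show (Ψ.app (q ⁻¹ᵁ W)).hom ((q.app W).hom a) = ((Ψ ≫ q).app W).hom a
        rw [Scheme.Hom.comp_app]
        rfl }
  show Function.Bijective ψ.toLinearMap
  apply DetCodim1.bijective_global
  intro p hp hph
  obtain ⟨s, hsW, hdim, hker, -⟩ := point_facts W hW p
  letI algκ : Algebra Γ(S, W) (S.residueField s) := (S.evaluation W s hsW).hom.toAlgebra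
  refine ⟨S.residueField s, inferInstance, algκ, hker, ?_⟩
  have hdim' : ringKrullDim (S.presheaf.stalk s) ≤ 1 := by
    rw [hdim]
    exact_mod_cast hph
  exact baseChange_bijective Ψ q W hW hVQ hVP s hsW (by simp) (by simp)
    (hfib s hsW hdim' _ _) ψ (fun x => rfl)

theorem isIso_appTop_restrict {X Y : Scheme.{u}} (f : X ⟶ Y) (V : Y.Opens)
    (h : Function.Bijective (f.app V).hom) : IsIso (f ∣_ V).appTop := by
  rw [Scheme.Hom.appTop, Scheme.Hom.app_eq_appLE, morphismRestrict_appLE]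
  have e₂ : (f ⁻¹ᵁ V).ι ''ᵁ ((f ∣_ V) ⁻¹ᵁ ⊤) = f ⁻¹ᵁ V := by
    rw [Scheme.Hom.preimage_top]; exact Scheme.Opens.ι_image_top _
  refine (Scheme.Hom.appLE_congr f _ (Scheme.Opens.ι_image_top V) e₂
      (fun φ => IsIso φ)).mpr ?_
  rw [← Scheme.Hom.app_eq_appLE]
  exact (ConcreteCategory.isIso_iff_bijective _).mpr h

/-- A morphism of finite flat schemes over a locally noetherian base which is an isomorphism on
the fibres over all points of codimension `≤ 1` is an isomorphism. -/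
theorem isIso_of_codim_one {P Q S : Scheme.{u}} [IsLocallyNoetherian S] (Ψ : P ⟶ Q) (q : Q ⟶ S)
    [IsFinite q] [Flat q] [IsFinite (Ψ ≫ q)] [Flat (Ψ ≫ q)]
    (hfib : ∀ s : S, ringKrullDim (S.presheaf.stalk s) ≤ 1 →
      ∀ e₁ e₂, IsIso (pullback.map (Ψ ≫ q) (S.fromSpecResidueField s) q
        (S.fromSpecResidueField s) Ψ (𝟙 _) (𝟙 S) e₁ e₂)) :
    IsIso Ψ := by
  show MorphismProperty.isomorphisms Scheme Ψ
  let U : S.affineOpens → Q.affineOpens := fun W => ⟨q ⁻¹ᵁ W.1, W.2.preimage q⟩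
  have hU : ⨆ W, (U W : Q.Opens) = ⊤ := by
    rw [eq_top_iff]
    intro x _
    obtain ⟨_, ⟨W, hW, rfl⟩, hxW, -⟩ := S.isBasis_affineOpens.exists_subset_of_mem_open
      (Set.mem_univ (q x)) isOpen_univ
    exact Opens.mem_iSup.mpr ⟨⟨W, hW⟩, hxW⟩
  rw [HasAffineProperty.iff_of_iSup_eq_top (P := MorphismProperty.isomorphisms Scheme) U hU]
  intro W
  refine ⟨?_, ?_⟩
  · exact W.2.preimage (Ψ ≫ q)
  · apply isIso_appTop_restrict
    exact app_bijective Ψ q W.1 W.2 (fun s _ hs => hfib s hs)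

end Groth.Agent.Helper3.FibCodim1
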