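import Mathlib
import Groth.Agent.Helper5.GenFlat1

set_option backward.isDefEq.respectTransparency.types false
set_option maxHeartbeats 4000000
set_option synthInstance.maxHeartbeats 400000
set_option autoImplicit false
universe u
open TensorProduct

namespace Groth.Agent.Helper3.GenDown

/-- Domain case: `A` domain, `B` f.t. over `A`. Generic going-down to the zero ideal. -/
theorem domain_case {A B : Type u} [CommRing A] [IsDomain A] [CommRing B] [Algebra A B]
    [Algebra.FiniteType A B] :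
    ∃ s : A, s ≠ 0 ∧ ∀ q : Ideal B, q.IsPrime → algebraMap A B s ∉ q →
      ∃ q₀ : Ideal B, q₀.IsPrime ∧ q₀ ≤ q ∧ q₀.comap (algebraMap A B) = ⊥ := by
  obtain ⟨s, hs, H⟩ := Helper5.GenFlat.exists_flat_localizations (R := A) (A := B) (M := B)
  refine ⟨s, hs, fun q hq hsq => ?_⟩
  have hflat : Module.Flat A (Localization.AtPrime q) :=
    H q.primeCompl hsq (Localization.AtPrime q)
      (Algebra.linearMap B (Localization.AtPrime q))
  let Q : Ideal (Localization.AtPrime q) := IsLocalRing.maximalIdeal _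
  haveI : Q.IsPrime := inferInstance
  haveI : Q.LiesOver (Q.under A) := ⟨rfl⟩
  haveI : (⊥ : Ideal A).IsPrime := Ideal.isPrime_bot
  obtain ⟨P, hPQ, hP, hPo⟩ := Ideal.exists_ideal_le_liesOver_of_le (p := (⊥ : Ideal A))
    (q := Q.under A) Q bot_le
  refine ⟨P.comap (algebraMap B (Localization.AtPrime q)), inferInstance, ?_, ?_⟩
  · have := Ideal.comap_mono (f := algebraMap B (Localization.AtPrime q)) hPQ
    have h2 : Q.comap (algebraMap B (Localization.AtPrime q)) = q :=
      IsLocalization.AtPrime.under_maximalIdeal (Localization.AtPrime q) q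
    rwa [h2] at this
  · rw [Ideal.comap_comap, ← IsScalarTower.algebraMap_eq]
    exact hPo.over.symm

/-- General case: `Spec A` has a generic point `p₀`. -/
theorem main {A B : Type u} [CommRing A] [CommRing B] [Algebra A B]
    [Algebra.FiniteType A B] (p₀ : PrimeSpectrum A) (h : ∀ p : PrimeSpectrum A, p₀ ⤳ p) :
    ∃ s : A, s ∉ p₀.asIdeal ∧ ∀ q : PrimeSpectrum B, algebraMap A B s ∉ q.asIdeal →
      ∃ q₀ : PrimeSpectrum B, q₀ ⤳ q ∧ PrimeSpectrum.comap (algebraMap A B) q₀ = p₀ := by
  set I : Ideal A := p₀.asIdeal with hI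
  set J : Ideal B := I.map (algebraMap A B) with hJ
  haveI : I.IsPrime := p₀.2
  haveI : Algebra.FiniteType A (B ⧸ J) :=
    Algebra.FiniteType.of_surjective (Ideal.Quotient.mkₐ A J) Ideal.Quotient.mk_surjective
  haveI : Algebra.FiniteType (A ⧸ I) (B ⧸ J) :=
    Algebra.FiniteType.of_restrictScalars_finiteType A (A ⧸ I) (B ⧸ J)
  obtain ⟨s', hs', H⟩ := domain_case (A := A ⧸ I) (B := B ⧸ J)
  obtain ⟨s, rfl⟩ := Ideal.Quotient.mk_surjective s'
  refine ⟨s, fun hs => hs' (Ideal.Quotient.eq_zero_iff_mem.mpr hs), fun q hsq => ?_⟩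
  have hIq : J ≤ q.asIdeal := by
    rw [hJ, Ideal.map_le_iff_le_comap]
    exact (PrimeSpectrum.le_iff_specializes p₀ (PrimeSpectrum.comap (algebraMap A B) q)).mpr (h _)
  have hker : RingHom.ker (Ideal.Quotient.mk J) ≤ q.asIdeal := by rwa [Ideal.mk_ker]
  have hq' : (q.asIdeal.map (Ideal.Quotient.mk J)).IsPrime :=
    Ideal.map_isPrime_of_surjective Ideal.Quotient.mk_surjective hker
  have hcm : (q.asIdeal.map (Ideal.Quotient.mk J)).comap (Ideal.Quotient.mk J) = q.asIdeal :=
    (Ideal.comap_map_of_surjective' _ Ideal.Quotient.mk_surjective _).trans (by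
      rw [Ideal.mk_ker]; exact sup_eq_left.mpr hIq)
  obtain ⟨q₀', hq₀', hle, hc⟩ := H (q.asIdeal.map (Ideal.Quotient.mk J)) hq' (by
    intro hmem
    rw [Ideal.Quotient.algebraMap_quotient_map_quotient] at hmem
    have : algebraMap A B s ∈ (q.asIdeal.map (Ideal.Quotient.mk J)).comap (Ideal.Quotient.mk J) :=
      hmem
    rw [hcm] at this
    exact hsq this)
  refine ⟨⟨q₀'.comap (Ideal.Quotient.mk J), inferInstance⟩, ?_, ?_⟩
  · rw [← PrimeSpectrum.le_iff_specializes]
    show q₀'.comap (Ideal.Quotient.mk J) ≤ q.asIdeal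
    rw [← hcm]
    exact Ideal.comap_mono hle
  · ext1
    show (q₀'.comap (Ideal.Quotient.mk J)).comap (algebraMap A B) = I
    rw [Ideal.comap_comap]
    have : (Ideal.Quotient.mk J).comp (algebraMap A B) =
        (algebraMap (A ⧸ I) (B ⧸ J)).comp (Ideal.Quotient.mk I) := by
      ext x
      exact (Ideal.Quotient.algebraMap_quotient_map_quotient (p := I) (S := B) x).symm
    rw [this, ← Ideal.comap_comap, hc, ← RingHom.ker_eq_comap_bot, Ideal.mk_ker]

end Groth.Agent.Helper3.GenDown
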