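import Mathlib
import Groth.Agent.Helper3.GenDown

set_option backward.isDefEq.respectTransparency.types false
set_option maxHeartbeats 4000000
set_option synthInstance.maxHeartbeats 400000
set_option autoImplicit false
universe u
open CategoryTheory CategoryTheory.Limits AlgebraicGeometry TopologicalSpace Opposite

namespace Groth.Agent.Helper3.FibCov

theorem basicOpen_le_of_dvd {Y : Scheme.{u}} {V : Y.Opens} {a b : Γ(Y, V)} (h : a ∣ b) :
    Y.basicOpen b ≤ Y.basicOpen a := by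
  obtain ⟨c, rfl⟩ := h
  rw [Scheme.basicOpen_mul]; exact inf_le_left

/-- One affine chart. -/
theorem chart {X Y : Scheme.{u}} (f : X ⟶ Y) [LocallyOfFiniteType f]
    {V₀ : Y.Opens} (hV₀ : IsAffineOpen V₀) {W : X.Opens} (hW : IsAffineOpen W)
    (hle : W ≤ f ⁻¹ᵁ V₀) (η : Y) (hη : η ∈ V₀) (hgen : ∀ y : Y, η ⤳ y) :
    ∃ s : Γ(Y, V₀), η ∈ Y.basicOpen s ∧ ∀ x : X, x ∈ W → f x ∈ Y.basicOpen s →
      ∃ x₀ : X, x₀ ⤳ x ∧ f x₀ = η := by
  set φ := f.appLE V₀ W hle with hφ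
  letI : Algebra Γ(Y, V₀) Γ(X, W) := φ.hom.toAlgebra
  haveI : Algebra.FiniteType Γ(Y, V₀) Γ(X, W) := f.finiteType_appLE hV₀ hW hle
  set p₀ : PrimeSpectrum Γ(Y, V₀) := hV₀.primeIdealOf ⟨η, hη⟩ with hp₀
  have hp₀η : hV₀.fromSpec p₀ = η := hV₀.fromSpec_primeIdealOf ⟨η, hη⟩
  have hsp : ∀ p : PrimeSpectrum Γ(Y, V₀), p₀ ⤳ p := by
    intro p
    have h1 : hV₀.fromSpec p₀ ⤳ hV₀.fromSpec p := by rw [hp₀η]; exact hgen _
    exact (hV₀.fromSpec.isOpenEmbedding.isInducing.specializes_iff).mp h1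
  obtain ⟨s, hs, H⟩ := GenDown.main (A := Γ(Y, V₀)) (B := Γ(X, W)) p₀ hsp
  have hsq : Spec.map φ ≫ hV₀.fromSpec = hW.fromSpec ≫ f :=
    IsAffineOpen.SpecMap_appLE_fromSpec f hV₀ hW hle
  refine ⟨s, ?_, fun x hxW hfx => ?_⟩
  · rw [← hp₀η]
    show p₀ ∈ hV₀.fromSpec ⁻¹ᵁ Y.basicOpen s
    rw [hV₀.fromSpec_preimage_basicOpen]
    exact hs
  · set q : PrimeSpectrum Γ(X, W) := hW.primeIdealOf ⟨x, hxW⟩ with hq
    have hqx : hW.fromSpec q = x := hW.fromSpec_primeIdealOf ⟨x, hxW⟩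
    have h1 : (hW.fromSpec ≫ f) q = f x := by
      rw [Scheme.Hom.comp_apply, hqx]
    have h2 : hV₀.fromSpec (Spec.map φ q) = f x := by
      rw [← Scheme.Hom.comp_apply, hsq, h1]
    have h3 : Spec.map φ q ∈ hV₀.fromSpec ⁻¹ᵁ Y.basicOpen s := by
      show hV₀.fromSpec (Spec.map φ q) ∈ Y.basicOpen s
      rw [h2]; exact hfx
    rw [hV₀.fromSpec_preimage_basicOpen] at h3
    obtain ⟨q₀, hq₀, hc⟩ := H q h3
    refine ⟨hW.fromSpec q₀, ?_, ?_⟩
    · rw [← hqx]; exact hq₀.map hW.fromSpec.continuous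
    · have : (hW.fromSpec ≫ f) q₀ = η := by
        rw [← hsq, Scheme.Hom.comp_apply, ← hp₀η]
        congr 1
      rwa [Scheme.Hom.comp_apply] at this

/-- Near the generic point every point has a generization in the generic fibre. -/
theorem key {X Y : Scheme.{u}} (f : X ⟶ Y) [IrreducibleSpace ↑Y] [LocallyOfFiniteType f]
    [QuasiCompact f] :
    ∃ V : Y.Opens, genericPoint ↑Y ∈ V ∧ ∀ x : X, f x ∈ V →
      ∃ x₀ : X, x₀ ⤳ x ∧ f x₀ = genericPoint ↑Y := by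
  classical
  set η := genericPoint ↑Y with hη
  have hgen : ∀ y : Y, η ⤳ y := fun y => genericPoint_specializes y
  obtain ⟨_, ⟨V₀, hV₀ : IsAffineOpen V₀, rfl⟩, hηV, -⟩ :=
    Y.isBasis_affineOpens.exists_subset_of_mem_open (Set.mem_univ η) isOpen_univ
  have hc : IsCompact (f ⁻¹ᵁ V₀ : Set X) := f.isCompact_preimage hV₀.isCompact
  obtain ⟨S, hS, hSU⟩ := isCompact_iff_finite_and_eq_biUnion_affineOpens.mp hc
  have hle : ∀ W ∈ S, (W : X.Opens) ≤ f ⁻¹ᵁ V₀ := fun W hW =>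
    hSU ▸ le_iSup₂ (f := fun (i : X.affineOpens) (_ : i ∈ S) => (i : X.Opens)) W hW
  choose! s hs1 hs2 using fun (W : X.affineOpens) (hW : W ∈ S) =>
    chart f hV₀ W.2 (hle W hW) η hηV hgen
  let g : Γ(Y, V₀) := ∏ W ∈ hS.toFinset, s W
  refine ⟨Y.basicOpen g, ?_, fun x hx => ?_⟩
  · -- η ∈ basicOpen of a product
    have : ∀ T : Finset X.affineOpens, (∀ W ∈ T, W ∈ S) → η ∈ Y.basicOpen (∏ W ∈ T, s W) := by
      intro T
      induction T using Finset.induction_on with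
      | empty =>
        intro _
        simp only [Finset.prod_empty]
        rw [Scheme.basicOpen_of_isUnit _ isUnit_one]
        exact hηV
      | insert a T ha ih =>
        intro hT
        rw [Finset.prod_insert ha, Scheme.basicOpen_mul]
        exact ⟨hs1 a (hT a (Finset.mem_insert_self _ _)),
          ih fun W hW => hT W (Finset.mem_insert_of_mem hW)⟩
    exact this _ fun W hW => hS.mem_toFinset.mp hW
  · have hxV : x ∈ f ⁻¹ᵁ V₀ := Y.basicOpen_le g hx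
    rw [hSU] at hxV
    obtain ⟨W, hW, hxW⟩ : ∃ W ∈ S, x ∈ (W : X.Opens) := by
      simpa [Opens.mem_iSup] using hxV
    exact hs2 W hW x hxW
      (basicOpen_le_of_dvd (Finset.dvd_prod_of_mem s (hS.mem_toFinset.mpr hW)) hx)

theorem main {X Y : Scheme.{u}} (f : X ⟶ Y) [IrreducibleSpace ↑Y] [LocallyOfFiniteType f]
    [QuasiCompact f] {ι : Type} [Finite ι] (Z : ι → Set ↑(f.fiber (genericPoint ↑Y)))
    (hZ : ∀ i, IsClosed (Z i)) (hcov : ⋃ i, Z i = Set.univ) :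
    ∃ V : Y.Opens, (V : Set ↑Y).Nonempty ∧ ∀ y ∈ V,
      ⋃ i, (f.fiberι y) ⁻¹' closure ((f.fiberι (genericPoint ↑Y)) '' Z i) = Set.univ := by
  obtain ⟨V, hηV, H⟩ := key f
  refine ⟨V, ⟨_, hηV⟩, fun y hy => ?_⟩
  rw [Set.eq_univ_iff_forall]
  intro z
  have hz : f (f.fiberι y z) = y := by
    have : f.fiberι y z ∈ Set.range (f.fiberι y) := ⟨z, rfl⟩
    rw [f.range_fiberι y] at this
    exact this
  obtain ⟨x₀, hx₀, hfx₀⟩ := H (f.fiberι y z) (by rw [hz]; exact hy)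
  have hx₀r : x₀ ∈ Set.range (f.fiberι (genericPoint ↑Y)) := by
    rw [f.range_fiberι]; exact hfx₀
  obtain ⟨w, hw⟩ := hx₀r
  have hwZ : w ∈ ⋃ i, Z i := by rw [hcov]; trivial
  obtain ⟨i, hi⟩ := Set.mem_iUnion.mp hwZ
  refine Set.mem_iUnion.mpr ⟨i, ?_⟩
  show f.fiberι y z ∈ closure ((f.fiberι (genericPoint ↑Y)) '' Z i)
  exact hx₀.mem_closed isClosed_closure (subset_closure ⟨w, hi, hw⟩)

end Groth.Agent.Helper3.FibCov
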