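import Mathlib
import Groth.Prelude
import Groth.Agent.Helper3.FibIrr3
import Groth.Agent.Helper5.KDim1

set_option autoImplicit false
set_option linter.style.haveILetI false
set_option linter.unusedSectionVars false
set_option linter.unusedVariables false
set_option linter.style.haveILetI false
set_option linter.unusedSectionVars false
set_option linter.unusedVariables false

open AlgebraicGeometry CategoryTheory CategoryTheory.Limits TopologicalSpace Topology

universe u

namespace Groth.Agent.Helper3.FibIrr4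

open Groth.Agent.Helper3.FibIrr3

lemma add_lt_add_nat (d : ℕ) {a b : WithBot ℕ∞} (hab : a < b) (hb : b < ⊤) :
    (d : WithBot ℕ∞) + a < d + b := by
  induction b using WithBot.recBotCoe with
  | bot => exact absurd hab (not_lt_bot)
  | coe b =>
    induction a using WithBot.recBotCoe with
    | bot =>
      rw [WithBot.add_bot]
      exact WithBot.bot_lt_coe _
    | coe a =>
      have hab' : a < b := WithBot.coe_lt_coe.mp hab
      have hb' : b ≠ ⊤ := by
        rintro rfl
        exact lt_irrefl _ hb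
      have h1 : (d : ℕ∞) + a < (d : ℕ∞) + b := by
        obtain ⟨n, rfl⟩ := ENat.ne_top_iff_exists.mp hb'
        have ha' : a ≠ ⊤ := ne_top_of_lt hab'
        obtain ⟨m, rfl⟩ := ENat.ne_top_iff_exists.mp ha'
        have : m < n := by exact_mod_cast hab'
        exact_mod_cast Nat.add_lt_add_left this d
      exact_mod_cast WithBot.coe_lt_coe.mpr h1

/-- if the dominant component is everything, the source is irreducible of the expected
dimension -/
theorem of_univ_subset {X Y : Scheme.{u}} (f : X ⟶ Y) (d : ℕ) (Z₀ : Set X)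
    (hZ₀ : Z₀ ∈ irreducibleComponents X) (hd : Dense (f.base '' Z₀))
    (hdim : topologicalKrullDim ↥Z₀ = d + topologicalKrullDim ↥(closure (f.base '' Z₀)))
    (huniv : Set.univ ⊆ Z₀) :
    IrreducibleSpace ↥X ∧ topologicalKrullDim ↥X = d + topologicalKrullDim ↥Y := by
  have hZ : Z₀ = Set.univ := Set.univ_subset_iff.mp huniv
  subst hZ
  refine ⟨(irreducibleSpace_def _).mpr hZ₀.1, ?_⟩
  rw [hd.closure_eq, Groth.Agent.Helper5.KDim.dim_univ, Groth.Agent.Helper5.KDim.dim_univ] at hdim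
  exact hdim

/-- closed map case -/
theorem of_isClosedMap (k : Type u) [Field k] {X Y : Scheme.{u}}
    (qX : X ⟶ Spec (CommRingCat.of k)) (qY : Y ⟶ Spec (CommRingCat.of k))
    [LocallyOfFiniteType qX] [QuasiCompact qX] [LocallyOfFiniteType qY] [QuasiCompact qY]
    (f : X ⟶ Y) (hf : f ≫ qY = qX) [IrreducibleSpace ↥Y] (hcl : IsClosedMap f.base) (d : ℕ)
    (hirr : ∀ y : ↥Y, IsClosed ({y} : Set ↥Y) → IsIrreducible (f.base ⁻¹' {y}))
    (hdim : ∀ y : ↥Y, IsClosed ({y} : Set ↥Y) → topologicalKrullDim ↥(f.base ⁻¹' {y}) = d) :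
    IrreducibleSpace ↥X ∧ topologicalKrullDim ↥X = d + topologicalKrullDim ↥Y := by
  obtain ⟨⟨Z₀, ⟨hZ₀, hd₀⟩, -⟩, hii⟩ := main k qX qY f hf d hirr hdim
  haveI : LocallyOfFiniteType (f ≫ qY) := hf ▸ inferInstance
  haveI hflft : LocallyOfFiniteType f := locallyOfFiniteType_of_comp f qY
  haveI : JacobsonSpace X := LocallyOfFiniteType.jacobsonSpace qX
  haveI : JacobsonSpace Y := LocallyOfFiniteType.jacobsonSpace qY
  refine of_univ_subset f d Z₀ hZ₀ hd₀ (hii Z₀ hZ₀).2 ?_
  have hZ₀cl : IsClosed Z₀ := isClosed_of_mem_irreducibleComponents Z₀ hZ₀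
  have himg : f.base '' Z₀ = Set.univ := by
    have h1 : IsClosed (f.base '' Z₀) := hcl _ hZ₀cl
    rw [← h1.closure_eq]
    exact hd₀.closure_eq
  have hcp : closedPoints X ⊆ Z₀ := by
    intro x hx
    have hy : IsClosed ({f x} : Set Y) := f.closePoints_subset_preimage_closedPoints hx
    have hmem : f x ∈ f.base '' Z₀ := by rw [himg]; trivial
    obtain ⟨x₀, hx₀Z, hx₀⟩ := hmem
    exact (hii Z₀ hZ₀).1 (f x) hy ⟨x₀, hx₀, hx₀Z⟩ rfl
  rw [← closure_closedPoints (X := X)]
  exact closure_minimal hcp hZ₀cl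

/-- pure-dimensional case -/
theorem of_pure (k : Type u) [Field k] {X Y : Scheme.{u}}
    (qX : X ⟶ Spec (CommRingCat.of k)) (qY : Y ⟶ Spec (CommRingCat.of k))
    [LocallyOfFiniteType qX] [QuasiCompact qX] [LocallyOfFiniteType qY] [QuasiCompact qY]
    (f : X ⟶ Y) (hf : f ≫ qY = qX) [IrreducibleSpace ↥Y]
    (hpure : ∀ Z ∈ irreducibleComponents (↥X), topologicalKrullDim ↥Z = topologicalKrullDim ↥X)
    (d : ℕ)
    (hirr : ∀ y : ↥Y, IsClosed ({y} : Set ↥Y) → IsIrreducible (f.base ⁻¹' {y}))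
    (hdim : ∀ y : ↥Y, IsClosed ({y} : Set ↥Y) → topologicalKrullDim ↥(f.base ⁻¹' {y}) = d) :
    IrreducibleSpace ↥X ∧ topologicalKrullDim ↥X = d + topologicalKrullDim ↥Y := by
  obtain ⟨⟨Z₀, ⟨hZ₀, hd₀⟩, huniq⟩, hii⟩ := main k qX qY f hf d hirr hdim
  refine of_univ_subset f d Z₀ hZ₀ hd₀ (hii Z₀ hZ₀).2 ?_
  -- finiteness of the dimension of `Y`
  have hsub : Subsingleton ↥(Spec (CommRingCat.of k)) :=
    inferInstanceAs (Subsingleton (PrimeSpectrum k))
  have hfinY : topologicalKrullDim ↥(Set.univ : Set Y) < ⊤ := by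
    obtain ⟨n, -, hn⟩ := Groth.Agent.Helper5.GenDim.dim_fibre_closure_point qY (genericPoint Y)
    have e : qY ⁻¹' {qY (genericPoint Y)} ∩ closure ({genericPoint Y} : Set Y) = Set.univ := by
      rw [genericPoint_closure, Set.inter_univ]
      apply Set.eq_univ_of_forall
      intro z
      exact Subsingleton.elim _ _
    rw [e] at hn
    rw [hn]
    have h0 : ((n : ℕ∞) : WithBot ℕ∞) < ((⊤ : ℕ∞) : WithBot ℕ∞) :=
      WithBot.coe_lt_coe.mpr (ENat.coe_lt_top n)
    exact h0
  -- every component is dominant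
  have hall : ∀ Z ∈ irreducibleComponents X, Z = Z₀ := by
    intro Z hZ
    apply huniq Z
    refine ⟨hZ, ?_⟩
    by_contra hnd
    have hne : closure (f.base '' Z) ≠ Set.univ := fun h => hnd (dense_iff_closure_eq.mpr h)
    have hlt := Groth.Agent.Helper5.ConnDim.dim_lt_of_ne
      (IrreducibleSpace.isIrreducible_univ Y) (Set.subset_univ _) isClosed_closure hne hfinY
    have h1 := (hii Z hZ).2
    have h2 := (hii Z₀ hZ₀).2
    rw [hd₀.closure_eq] at h2
    rw [hpure Z hZ] at h1
    rw [hpure Z₀ hZ₀, h1] at h2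
    exact absurd (add_lt_add_nat d hlt hfinY) (by rw [h2]; exact lt_irrefl _)
  intro x _
  have hxu : x ∈ ⋃₀ irreducibleComponents X := by
    rw [sUnion_irreducibleComponents]; trivial
  obtain ⟨Z, hZ, hxZ⟩ := hxu
  rw [hall Z hZ] at hxZ
  exact hxZ

end Groth.Agent.Helper3.FibIrr4
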