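import Mathlib
import Groth.Agent.Helper3.UnramBC
import Groth.Agent.Helper3.StalkNbhd2
import Groth.Agent.Lead.EtThick

set_option linter.style.haveILetI false
set_option linter.unusedSectionVars false
set_option linter.unusedVariables false
set_option linter.style.haveILetI false
set_option linter.unusedSectionVars false
set_option linter.unusedVariables false

namespace Groth.Agent.Helper3.FibIso

open AlgebraicGeometry CategoryTheory Limits MonoidalCategory MonObj

universe u

/-- If the fibre of `π` through `z` is `Spec κ` and `π` is locally of finite type near `z`,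
then `π` is unramified at `z`. -/
theorem stalkMap_formallyUnramified_of_fibre_iso {X S : Scheme.{u}} (π : X ⟶ S) (z : X)
    (W : X.Opens) (hzW : z ∈ W) [LocallyOfFiniteType (W.ι ≫ π)] (s : S) (hzs : π z = s)
    (hs : IsIso (π.fiberToSpecResidueField s)) :
    (π.stalkMap z).hom.FormallyUnramified := by
  subst hzs
  set s := π z with hsdef
  set g := S.fromSpecResidueField s with hg
  set f := W.ι ≫ π with hf
  rw [← Groth.Agent.Helper3.StalkNbhd.stalkMap_ι_comp_iff
    RingHom.FormallyUnramified.respectsIso π W z hzW]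
  have hfz : f ⟨z, hzW⟩ = s := rfl
  obtain ⟨x', hx'⟩ : ∃ x' : ↑(pullback f g), pullback.fst f g x' = ⟨z, hzW⟩ := by
    have hmem : (⟨z, hzW⟩ : W) ∈ f ⁻¹' {s} := hfz
    rw [← Scheme.Hom.range_fiberι] at hmem
    exact hmem
  rw [← hx', ← Groth.Agent.Helper3.UnramBC.stalkMap_snd_formallyUnramified_iff f g x']
  let j := pullback.map f g π g W.ι (𝟙 _) (𝟙 _) (by simp [hf]) (by simp)
  have hj : pullback.snd f g = j ≫ pullback.snd π g := by
    rw [pullback.lift_snd, Category.comp_id]
  haveI : IsIso (pullback.snd π g) := hs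
  haveI : IsOpenImmersion (pullback.snd f g) := by rw [hj]; infer_instance
  exact FormallyUnramified.stalkMap (pullback.snd f g) x'

/-- fibres which are one point: uniqueness -/
theorem eq_of_fibre_iso {X S : Scheme.{u}} (π : X ⟶ S) (z z' : X) (s : S) (hz : π z = s)
    (hz' : π z' = s)
    (hs : IsIso (π.fiberToSpecResidueField s)) : z = z' := by
  have key : ∀ s : S, IsIso (π.fiberToSpecResidueField s) → ∀ z z' : X, π z = s → π z' = s →
      z = z' := by
    intro s hs z z' hz hz'
    have h1 : z ∈ π ⁻¹' {s} := hz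
    have h2 : z' ∈ π ⁻¹' {s} := hz'
    rw [← Scheme.Hom.range_fiberι] at h1 h2
    obtain ⟨a, rfl⟩ := h1
    obtain ⟨b, rfl⟩ := h2
    haveI : Subsingleton ↑(π.fiber s) := by
      have e := (asIso (π.fiberToSpecResidueField s)).hom.homeomorph
      haveI : Subsingleton ↑(Spec (S.residueField s)) :=
        inferInstanceAs (Subsingleton (PrimeSpectrum (S.residueField s)))
      exact e.injective.subsingleton
    rw [Subsingleton.elim a b]
  exact key _ hs z z' hz hz'

theorem s19465 (S : Scheme.{u}) (G : Over S)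
    [GrpObj G] [LocallyOfFiniteType G.hom] :
    IsIso G.hom ↔ ∀ s : S, IsIso (G.hom.fiberToSpecResidueField s) := by
  constructor
  · intro h s
    exact inferInstanceAs (IsIso (pullback.snd G.hom (S.fromSpecResidueField s)))
  · intro h
    let ε : S ⟶ G.left := η[G].left
    have hε : ε ≫ G.hom = 𝟙 S := Over.w η[G]
    haveI : FormallyUnramified G.hom := by
      have hst : ∀ z : G.left, (G.hom.stalkMap z).hom.FormallyUnramified := by
        intro z
        haveI : LocallyOfFiniteType ((⊤ : G.left.Opens).ι ≫ G.hom) := inferInstance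
        exact stalkMap_formallyUnramified_of_fibre_iso G.hom z ⊤ trivial _ rfl (h _)
      choose U hzU hU using fun z : G.left =>
        (Groth.Agent.Helper3.StalkNbhd.formallyUnramified_nbhd_iff G.hom z).mpr (hst z)
      refine IsZariskiLocalAtSource.of_iSup_eq_top (P := @FormallyUnramified) U ?_ hU
      rw [eq_top_iff]
      intro z _
      exact TopologicalSpace.Opens.mem_iSup.mpr ⟨z, hzU z⟩
    haveI : IsOpenImmersion ε := Groth.Agent.Lead.EtThick.isOpenImmersion_of_section ε G.hom hε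
    have hsurj : Function.Surjective ε.base := by
      intro z
      refine ⟨G.hom z, ?_⟩
      have h1 : G.hom (ε (G.hom z)) = G.hom z := by
        rw [← Scheme.Hom.comp_apply, hε]; rfl
      exact eq_of_fibre_iso G.hom _ _ _ h1 rfl (h _)
    haveI : IsIso ε := by
      haveI : Surjective ε := ⟨hsurj⟩
      exact (isIso_iff_isOpenImmersion_and_surjective ε).mpr ⟨inferInstance, inferInstance⟩
    have hπ : G.hom = inv ε := by
      rw [← cancel_epi ε, hε, IsIso.hom_inv_id]
    rw [hπ]
    infer_instance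

theorem s5321 (X S : Scheme.{u}) (π : X ⟶ S) (ε : S ⟶ X) (hε : ε ≫ π = 𝟙 S)
    (hcl : IsClosedMap π.base) (s : S)
    (hfp : ∃ W : X.Opens, ε.base s ∈ W ∧ LocallyOfFinitePresentation (W.ι ≫ π))
    (hs : IsIso (π.fiberToSpecResidueField s)) :
    ∃ U : S.Opens, s ∈ U ∧ IsIso (π ∣_ U) := by
  obtain ⟨W, hW, hWfp⟩ := hfp
  set z := ε.base s with hz
  have hπz : π z = s := by
    rw [hz, ← Scheme.Hom.comp_apply, hε]; rfl
  haveI : LocallyOfFiniteType (W.ι ≫ π) := inferInstance
  have hst := stalkMap_formallyUnramified_of_fibre_iso π z W hW s hπz hs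
  rw [← Groth.Agent.Helper3.StalkNbhd.stalkMap_ι_comp_iff
    RingHom.FormallyUnramified.respectsIso π W z hW] at hst
  obtain ⟨U', hzU', hU'⟩ :=
    (Groth.Agent.Helper3.StalkNbhd.formallyUnramified_nbhd_iff (W.ι ≫ π) ⟨z, hW⟩).mpr hst
  -- the open `W'` of `X`
  set W' : X.Opens := W.ι ''ᵁ U' with hW'
  have hzW' : z ∈ W' := ⟨⟨z, hW⟩, hzU', rfl⟩
  have hq : W'.ι ≫ π = (W.ι.isoImage U').inv ≫ U'.ι ≫ W.ι ≫ π := by
    rw [← Scheme.Hom.isoImage_inv_ι_assoc]
  haveI : FormallyUnramified (W'.ι ≫ π) := by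
    rw [hq]
    exact (MorphismProperty.cancel_left_of_respectsIso @FormallyUnramified _ _).mpr hU'
  haveI : LocallyOfFiniteType (W'.ι ≫ π) := by
    rw [hq]
    infer_instance
  -- the section over `V`
  set V : S.Opens := ε ⁻¹ᵁ W' with hV
  have hsV : s ∈ V := hzW'
  let σ : (V : Scheme.{u}) ⟶ W' := ε ∣_ W'
  have hσ : σ ≫ W'.ι ≫ π = V.ι := by
    rw [← Category.assoc, morphismRestrict_ι, Category.assoc, hε, Category.comp_id]
  haveI : IsOpenImmersion σ := by
    haveI : MorphismProperty.HasOfPostcompProperty @IsOpenImmersion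
        (@LocallyOfFiniteType ⊓ @FormallyUnramified) := by
      rw [MorphismProperty.hasOfPostcompProperty_iff_le_diagonal]
      intro X Y f ⟨hft, hfu⟩
      exact inferInstanceAs <| IsOpenImmersion (pullback.diagonal f)
    refine MorphismProperty.of_postcomp (W := @IsOpenImmersion)
      (W' := @LocallyOfFiniteType ⊓ @FormallyUnramified) σ (W'.ι ≫ π) ⟨‹_›, ‹_›⟩ ?_
    rw [hσ]
    infer_instance
  let j : (V : Scheme.{u}) ⟶ X := σ ≫ W'.ι
  set O : X.Opens := j.opensRange with hO
  have hzO : z ∈ O := by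
    refine ⟨⟨s, hsV⟩, ?_⟩
    show (σ ≫ W'.ι) ⟨s, hsV⟩ = z
    rw [morphismRestrict_ι]
    rfl
  haveI hOπ : IsOpenImmersion (O.ι ≫ π) := by
    have h1 : O.ι ≫ π = j.isoOpensRange.inv ≫ V.ι := by
      rw [← hσ, ← Category.assoc σ, ← Scheme.Hom.isoOpensRange_inv_comp_assoc j]
    rw [h1]
    infer_instance
  -- the tube
  have hTopen : IsOpen (π '' (O : Set X)ᶜ)ᶜ := (hcl _ O.2.isClosed_compl).isOpen_compl
  let T : S.Opens := ⟨(π '' (O : Set X)ᶜ)ᶜ, hTopen⟩
  have hsT : s ∈ T := by
    rintro ⟨y, hyO, hys⟩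
    have : y = z := eq_of_fibre_iso π y z s hys hπz hs
    exact hyO (this ▸ hzO)
  refine ⟨T ⊓ V, ⟨hsT, hsV⟩, ?_⟩
  set U : S.Opens := T ⊓ V with hU
  have hle : π ⁻¹ᵁ U ≤ O := by
    intro y hy
    by_contra hyO
    exact hy.1 ⟨y, hyO, rfl⟩
  haveI : IsOpenImmersion ((π ⁻¹ᵁ U).ι ≫ π) := by
    have : (π ⁻¹ᵁ U).ι ≫ π = X.homOfLE hle ≫ O.ι ≫ π := by
      rw [← Category.assoc, Scheme.homOfLE_ι]
    rw [this]
    infer_instance
  haveI : IsOpenImmersion (π ∣_ U ≫ U.ι) := by
    rw [morphismRestrict_ι]; infer_instance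
  haveI : IsOpenImmersion (π ∣_ U) := IsOpenImmersion.of_comp (π ∣_ U) U.ι
  haveI : Surjective (π ∣_ U) := by
    constructor
    rintro ⟨u, hu⟩
    have hεu : ε u ∈ π ⁻¹ᵁ U := by
      show π (ε u) ∈ U
      rw [← Scheme.Hom.comp_apply, hε]; exact hu
    refine ⟨⟨ε u, hεu⟩, ?_⟩
    apply Subtype.ext
    show ((π ∣_ U) ≫ U.ι) ⟨ε u, hεu⟩ = u
    rw [morphismRestrict_ι]
    show π (ε u) = u
    rw [← Scheme.Hom.comp_apply, hε]; rfl
  exact (isIso_iff_isOpenImmersion_and_surjective _).mpr ⟨inferInstance, inferInstance⟩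

end Groth.Agent.Helper3.FibIso
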