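import Mathlib
import Groth.Agent.Helper5.LocInt2

set_option autoImplicit false
set_option linter.style.haveILetI false
set_option linter.unusedSectionVars false
set_option linter.unusedVariables false
set_option linter.deprecated false
set_option linter.style.haveILetI false
set_option linter.unusedSectionVars false
set_option linter.unusedVariables false

universe u

open CategoryTheory CategoryTheory.Limits AlgebraicGeometry TopologicalSpace Polynomial

namespace Groth.Agent.Helper3.FibNorm1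

/-- "Integral fractions are integral": whenever `a / b` formally satisfies a monic polynomial,
`b` divides `a`. -/
def PropD (A : Type*) [CommRing A] : Prop :=
  ∀ (a b : A) (p : A[X]), p.Monic → (p.scaleRoots b).eval a = 0 → ∃ d : A, a = b * d

section Algebra

variable {A B : Type*} [CommRing A] [CommRing B]

theorem scaleRoots_map_eval (g : A →+* B) [Nontrivial B] (a b : A) (p : A[X]) (hp : p.Monic)
    (h : (p.scaleRoots b).eval a = 0) : ((p.map g).scaleRoots (g b)).eval (g a) = 0 := by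
  rw [← Polynomial.map_scaleRoots p b g (by rw [hp.leadingCoeff, map_one]; exact one_ne_zero),
    Polynomial.eval_map, Polynomial.eval₂_at_apply, h, map_zero]

theorem eq_zero_of_scaleRoots_zero [IsReduced A] (a : A) (p : A[X]) (hp : p.Monic)
    (h : (p.scaleRoots 0).eval a = 0) : a = 0 := by
  rw [Polynomial.scaleRoots_zero, hp.leadingCoeff, one_smul, Polynomial.eval_pow,
    Polynomial.eval_X] at h
  exact IsReduced.eq_zero _ ⟨_, h⟩

/-- an integrally closed domain has property D -/
theorem propD_of_isIntegrallyClosed [IsDomain A] [IsIntegrallyClosed A] : PropD A := by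
  intro a b p hp h
  by_cases hb : b = 0
  · subst hb
    exact ⟨0, by rw [eq_zero_of_scaleRoots_zero a p hp h, mul_zero]⟩
  · let K := FractionRing A
    have hinj : Function.Injective (algebraMap A K) := IsFractionRing.injective A K
    have hbK : algebraMap A K b ≠ 0 := fun h0 => hb (hinj (by rw [h0, map_zero]))
    have h1 : Polynomial.eval₂ (algebraMap A K) (algebraMap A K b *
        (algebraMap A K a / algebraMap A K b)) (p.scaleRoots b) = 0 := by
      rw [mul_div_cancel₀ _ hbK, Polynomial.eval₂_at_apply, h, map_zero]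
    rw [Polynomial.scaleRoots_eval₂_mul] at h1
    have h2 : Polynomial.eval₂ (algebraMap A K) (algebraMap A K a / algebraMap A K b) p = 0 := by
      rcases mul_eq_zero.1 h1 with h3 | h3
      · exact absurd (pow_eq_zero_iff (by
          intro hn
          exact hbK (by simpa [hn] using h3)) |>.1 h3) hbK
      · exact h3
    have hint : IsIntegral A (algebraMap A K a / algebraMap A K b) := ⟨p, hp, h2⟩
    obtain ⟨d, hd⟩ := (isIntegrallyClosed_iff K).1 inferInstance hint
    refine ⟨d, hinj ?_⟩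
    rw [map_mul, hd, mul_div_cancel₀ _ hbK]

/-- a domain with property D is integrally closed -/
theorem isIntegrallyClosed_of_propD [IsDomain A] (h : PropD A) : IsIntegrallyClosed A := by
  let K := FractionRing A
  rw [isIntegrallyClosed_iff K]
  intro x hx
  obtain ⟨a, b, hb, rfl⟩ := IsFractionRing.div_surjective (A := A) x
  obtain ⟨p, hp, hpx⟩ := hx
  have h1 : Polynomial.eval₂ (algebraMap A K) (algebraMap A K a) (p.scaleRoots b) = 0 :=
    Polynomial.scaleRoots_eval₂_eq_zero_of_eval₂_div_eq_zero (IsFractionRing.injective A K) hpx hb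
  rw [Polynomial.eval₂_at_apply] at h1
  have h2 : (p.scaleRoots b).eval a = 0 := IsFractionRing.injective A K (by rw [h1, map_zero])
  obtain ⟨d, hd⟩ := h a b p hp h2
  refine ⟨d, ?_⟩
  have hbK : algebraMap A K b ≠ 0 := by
    intro h0
    exact (nonZeroDivisors.ne_zero hb) (IsFractionRing.injective A K (by rw [h0, map_zero]))
  rw [hd, map_mul, mul_div_cancel_left₀ _ hbK]

/-- property D descends along a bijective ring homomorphism -/
theorem propD_of_bijective (φ : A →+* B) (hφ : Function.Bijective φ) (h : PropD B) : PropD A := by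
  intro a b p hp hrel
  rcases subsingleton_or_nontrivial B with hB | hB
  · exact ⟨0, hφ.1 (Subsingleton.elim _ _)⟩
  obtain ⟨d', hd'⟩ := h (φ a) (φ b) (p.map φ) (hp.map φ) (scaleRoots_map_eval φ a b p hp hrel)
  obtain ⟨d, rfl⟩ := hφ.2 d'
  exact ⟨d, hφ.1 (by rw [hd', map_mul])⟩

/-- the special case of property D used to detect zero divisors -/
theorem exists_of_mul_eq_zero (h : PropD A) (a b : A) (hab : a * b = 0) :
    ∃ d : A, a = (a + b) * d := by
  rcases subsingleton_or_nontrivial A with hA | hA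
  · exact ⟨0, Subsingleton.elim _ _⟩
  have hdeg : ((X : A[X]) ^ 2 - X).natDegree = 2 := by
    rw [Polynomial.natDegree_sub_eq_left_of_natDegree_lt] <;> simp
  have hmon : ((X : A[X]) ^ 2 - X).Monic := by
    apply Polynomial.Monic.sub_of_left (Polynomial.monic_X_pow 2)
    rw [Polynomial.degree_X_pow, Polynomial.degree_X]
    norm_num
  refine h a (a + b) (X ^ 2 - X) hmon ?_
  rw [Polynomial.eval_eq_sum_range, Polynomial.natDegree_scaleRoots, hdeg]
  simp only [Finset.sum_range_succ, Finset.sum_range_zero, Polynomial.coeff_scaleRoots, hdeg,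
    Polynomial.coeff_sub, Polynomial.coeff_X_pow, Polynomial.coeff_X]
  norm_num
  linear_combination (-1 : A) * hab

/-- a reduced local ring with the zero-divisor special case of property D is a domain -/
theorem isDomain_of_local [IsLocalRing A] [IsReduced A]
    (h : ∀ a b : A, a * b = 0 → ∃ d : A, a = (a + b) * d) : IsDomain A := by
  haveI : NoZeroDivisors A := ⟨by
    intro a b hab
    obtain ⟨d, hd⟩ := h a b hab
    have h1 : a ^ 2 * (1 - d) = 0 := by linear_combination a * hd + d * hab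
    have h2 : b ^ 2 * d = 0 := by linear_combination (-b) * hd + (1 - d) * hab
    rcases IsLocalRing.isUnit_or_isUnit_one_sub_self d with hu | hu
    · right
      exact IsReduced.eq_zero _ ⟨2, (hu.mul_left_eq_zero).1 h2⟩
    · left
      exact IsReduced.eq_zero _ ⟨2, (hu.mul_left_eq_zero).1 h1⟩⟩
  exact NoZeroDivisors.to_isDomain A

end Algebra

section Geometry

/-- In a locally Noetherian scheme whose local rings are domains, the vanishing of the germ of a
section is a locally constant condition. -/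
theorem germ_zero_locally_const {X : Scheme.{u}} [IsLocallyNoetherian X]
    (hdom : ∀ x : X, IsDomain (X.presheaf.stalk x)) (U : X.Opens) (β : Γ(X, U)) (x : X)
    (hx : x ∈ U) :
    ∃ W : X.Opens, x ∈ W ∧ ∃ hWU : W ≤ U, ∀ (z : X) (hz : z ∈ W) (z₂ : X) (hz₂ : z₂ ∈ W),
      X.presheaf.germ U z (hWU hz) β = 0 → X.presheaf.germ U z₂ (hWU hz₂) β = 0 := by
  obtain ⟨W₀, hxW₀, hint⟩ := Groth.Agent.Helper5.LocInt.exists_isIntegral_nhd X hdom x
  have key : ∀ (z' : W₀.toScheme) (h : W₀.ι z' ∈ U),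
      X.presheaf.germ U (W₀.ι z') h β = 0 ↔ (W₀.ι.app U).hom β = 0 := by
    intro z' h
    have h1 : (W₀.ι.stalkMap z').hom (X.presheaf.germ U (W₀.ι z') h β) =
        W₀.toScheme.presheaf.germ (W₀.ι ⁻¹ᵁ U) z' h ((W₀.ι.app U).hom β) :=
      Scheme.Hom.germ_stalkMap_apply W₀.ι U z' h β
    constructor
    · intro h0
      rw [h0, map_zero] at h1
      exact germ_injective_of_isIntegral W₀.toScheme z' h (by rw [← h1, map_zero])
    · intro h0
      rw [h0, map_zero] at h1
      have hinj : Function.Injective (W₀.ι.stalkMap z').hom :=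
        (ConcreteCategory.bijective_of_isIso (W₀.ι.stalkMap z')).1
      exact hinj (by rw [h1, map_zero])
  refine ⟨W₀ ⊓ U, ⟨hxW₀, hx⟩, inf_le_right, ?_⟩
  intro z hz z₂ hz₂ h0
  exact (key ⟨z₂, hz₂.1⟩ hz₂.2).2 ((key ⟨z, hz.1⟩ hz.2).1 h0)

/-- Sections of the structure sheaf of a locally Noetherian normal scheme over any open subset
have property D. -/
theorem propD_sections {X : Scheme.{u}} [IsLocallyNoetherian X]
    (hX : ∀ x : X, IsDomain (X.presheaf.stalk x) ∧ IsIntegrallyClosed (X.presheaf.stalk x))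
    (U : X.Opens) : PropD Γ(X, U) := by
  intro α β p hp hrel
  have hdom : ∀ x : X, IsDomain (X.presheaf.stalk x) := fun x => (hX x).1
  have hst : ∀ (z : X) (hz : z ∈ U),
      ((p.map (X.presheaf.germ U z hz).hom).scaleRoots (X.presheaf.germ U z hz β)).eval
        (X.presheaf.germ U z hz α) = 0 := by
    intro z hz
    haveI := hdom z
    exact scaleRoots_map_eval (X.presheaf.germ U z hz).hom α β p hp hrel
  have hloc : ∀ x : U, ∃ (W : X.Opens) (hWU : W ≤ U) (δ : Γ(X, W)), x.1 ∈ W ∧
      (X.presheaf.map (homOfLE hWU).op).hom α = (X.presheaf.map (homOfLE hWU).op).hom β * δ ∧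
      ∀ (z : X) (hz : z ∈ W), X.presheaf.germ U z (hWU hz) β = 0 →
        X.presheaf.germ W z hz δ = 0 := by
    rintro ⟨x, hx⟩
    obtain ⟨W₁, hxW₁, hW₁U, hconst⟩ := germ_zero_locally_const hdom U β x hx
    by_cases h0 : X.presheaf.germ U x hx β = 0
    · refine ⟨W₁, hW₁U, 0, hxW₁, ?_, fun _ _ _ => map_zero _⟩
      rw [mul_zero]
      apply TopCat.Presheaf.section_ext X.sheaf W₁
      intro z hz
      have hg : X.presheaf.germ W₁ z hz ((X.presheaf.map (homOfLE hW₁U).op).hom α) =
          X.presheaf.germ U z (hW₁U hz) α :=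
        TopCat.Presheaf.germ_res_apply X.presheaf (homOfLE hW₁U) z hz α
      have hβ : X.presheaf.germ U z (hW₁U hz) β = 0 := hconst x hxW₁ z hz h0
      have h3 := hst z (hW₁U hz)
      rw [hβ] at h3
      haveI := hdom z
      have h4 : X.presheaf.germ U z (hW₁U hz) α = 0 :=
        eq_zero_of_scaleRoots_zero _ _ (hp.map _) h3
      show X.presheaf.germ W₁ z hz ((X.presheaf.map (homOfLE hW₁U).op).hom α) =
        X.presheaf.germ W₁ z hz 0
      rw [hg, h4, map_zero]
    · haveI := hdom x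
      haveI := (hX x).2
      obtain ⟨dx, hdx⟩ := propD_of_isIntegrallyClosed (A := X.presheaf.stalk x) _ _ _
        (hp.map _) (hst x hx)
      obtain ⟨W₂, hxW₂, δ₂, hδ₂⟩ := TopCat.Presheaf.germ_exist X.presheaf (x := x) dx
      have hW₃U : W₁ ⊓ W₂ ≤ U := inf_le_left.trans hW₁U
      have hxW₃ : x ∈ W₁ ⊓ W₂ := ⟨hxW₁, hxW₂⟩
      have hgerm : X.presheaf.germ (W₁ ⊓ W₂) x hxW₃ ((X.presheaf.map (homOfLE hW₃U).op).hom α) =
          X.presheaf.germ (W₁ ⊓ W₂) x hxW₃ ((X.presheaf.map (homOfLE hW₃U).op).hom β *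
            (X.presheaf.map (homOfLE (inf_le_right : W₁ ⊓ W₂ ≤ W₂)).op).hom δ₂) := by
        rw [map_mul, TopCat.Presheaf.germ_res_apply, TopCat.Presheaf.germ_res_apply,
          TopCat.Presheaf.germ_res_apply, hδ₂]
        exact hdx
      obtain ⟨W, hxW, iU, iV, hWeq⟩ := TopCat.Presheaf.germ_eq X.presheaf x _ _ _ _ hgerm
      have hWW₃ : W ≤ W₁ ⊓ W₂ := iU.le
      have hWU : W ≤ U := hWW₃.trans hW₃U
      refine ⟨W, hWU, (X.presheaf.map (homOfLE (hWW₃.trans inf_le_right)).op).hom δ₂, hxW, ?_, ?_⟩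
      · have e1 : (X.presheaf.map iU.op).hom ((X.presheaf.map (homOfLE hW₃U).op).hom α) =
            (X.presheaf.map (homOfLE hWU).op).hom α := by
          rw [← CommRingCat.comp_apply, ← Functor.map_comp]
          rfl
        have e2 : (X.presheaf.map iV.op).hom ((X.presheaf.map (homOfLE hW₃U).op).hom β *
            (X.presheaf.map (homOfLE (inf_le_right : W₁ ⊓ W₂ ≤ W₂)).op).hom δ₂) =
            (X.presheaf.map (homOfLE hWU).op).hom β *
              (X.presheaf.map (homOfLE (hWW₃.trans inf_le_right)).op).hom δ₂ := by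
          rw [map_mul, ← CommRingCat.comp_apply, ← CommRingCat.comp_apply, ← Functor.map_comp,
            ← Functor.map_comp]
          rfl
        rw [← e1, ← e2]
        exact hWeq
      · intro z hz hβz
        exact absurd (hconst z (hWW₃ hz).1 x hxW₁ hβz) h0
  choose W hWU δ hxW hsol hzero using hloc
  have hcover : U ≤ iSup W := fun x hx => Opens.mem_iSup.2 ⟨⟨x, hx⟩, hxW ⟨x, hx⟩⟩
  have hgsol : ∀ (i : U) (z : X) (hz : z ∈ W i), X.presheaf.germ U z (hWU i hz) α =
      X.presheaf.germ U z (hWU i hz) β * X.presheaf.germ (W i) z hz (δ i) := by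
    intro i z hz
    have h1 := congrArg (X.presheaf.germ (W i) z hz) (hsol i)
    rw [map_mul, TopCat.Presheaf.germ_res_apply, TopCat.Presheaf.germ_res_apply] at h1
    exact h1
  have ic : TopCat.Presheaf.IsCompatible X.sheaf.obj W δ := by
    intro i j
    apply TopCat.Presheaf.section_ext X.sheaf (W i ⊓ W j)
    intro z hz
    have hi : X.presheaf.germ (W i ⊓ W j) z hz
        ((X.presheaf.map (Opens.infLELeft (W i) (W j)).op).hom (δ i)) =
        X.presheaf.germ (W i) z hz.1 (δ i) :=
      TopCat.Presheaf.germ_res_apply X.presheaf (Opens.infLELeft (W i) (W j)) z hz (δ i)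
    have hj : X.presheaf.germ (W i ⊓ W j) z hz
        ((X.presheaf.map (Opens.infLERight (W i) (W j)).op).hom (δ j)) =
        X.presheaf.germ (W j) z hz.2 (δ j) :=
      TopCat.Presheaf.germ_res_apply X.presheaf (Opens.infLERight (W i) (W j)) z hz (δ j)
    show X.presheaf.germ (W i ⊓ W j) z hz
        ((X.presheaf.map (Opens.infLELeft (W i) (W j)).op).hom (δ i)) =
      X.presheaf.germ (W i ⊓ W j) z hz
        ((X.presheaf.map (Opens.infLERight (W i) (W j)).op).hom (δ j))
    rw [hi, hj]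
    by_cases hβz : X.presheaf.germ U z (hWU i hz.1) β = 0
    · rw [hzero i z hz.1 hβz, hzero j z hz.2 hβz]
    · haveI := hdom z
      exact mul_left_cancel₀ hβz ((hgsol i z hz.1).symm.trans (hgsol j z hz.2))
  obtain ⟨d, hd, -⟩ :
      ∃ d : Γ(X, U), (∀ i, (X.sheaf.obj.map (homOfLE (hWU i)).op) d = δ i) ∧ _ :=
    X.sheaf.existsUnique_gluing' W U (fun i => homOfLE (hWU i)) hcover δ ic
  refine ⟨d, ?_⟩
  refine X.sheaf.eq_of_locally_eq' W U (fun i => homOfLE (hWU i)) hcover _ _ fun i => ?_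
  show (X.presheaf.map (homOfLE (hWU i)).op).hom α =
    (X.presheaf.map (homOfLE (hWU i)).op).hom (β * d)
  rw [map_mul, hsol i]
  congr 1
  exact (hd i).symm

/-- If `O_Y → f_* O_X` is an isomorphism and `X` is a locally Noetherian normal scheme, then the
locally Noetherian scheme `Y` is normal. -/
theorem main {X Y : Scheme.{u}} (f : X ⟶ Y) [IsLocallyNoetherian X] [IsLocallyNoetherian Y]
    (hfib : ∀ V : Y.Opens, Function.Bijective (f.app V).hom)
    (hX : ∀ x : X, IsDomain (X.presheaf.stalk x) ∧ IsIntegrallyClosed (X.presheaf.stalk x)) :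
    ∀ y : Y, IsDomain (Y.presheaf.stalk y) ∧ IsIntegrallyClosed (Y.presheaf.stalk y) := by
  have hD : ∀ V : Y.Opens, PropD Γ(Y, V) := fun V =>
    propD_of_bijective (f.app V).hom (hfib V) (propD_sections hX (f ⁻¹ᵁ V))
  haveI : IsReduced X := by
    haveI : ∀ x : X, _root_.IsReduced (X.presheaf.stalk x) := fun x => by
      haveI := (hX x).1
      infer_instance
    exact isReduced_of_isReduced_stalk X
  haveI : IsReduced Y := ⟨fun V => isReduced_of_injective (f.app V).hom (hfib V).1⟩
  have hdomY : ∀ y : Y, IsDomain (Y.presheaf.stalk y) := by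
    intro y
    apply isDomain_of_local
    intro a b hab
    obtain ⟨V₁, hy₁, a₁, ha₁⟩ := TopCat.Presheaf.germ_exist Y.presheaf (x := y) a
    obtain ⟨V₂, hy₂, b₁, hb₁⟩ := TopCat.Presheaf.germ_exist Y.presheaf (x := y) b
    have hy₃ : y ∈ V₁ ⊓ V₂ := ⟨hy₁, hy₂⟩
    have ha₂ : Y.presheaf.germ (V₁ ⊓ V₂) y hy₃
        ((Y.presheaf.map (homOfLE (inf_le_left : V₁ ⊓ V₂ ≤ V₁)).op).hom a₁) = a := by
      rw [TopCat.Presheaf.germ_res_apply]
      exact ha₁
    have hb₂ : Y.presheaf.germ (V₁ ⊓ V₂) y hy₃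
        ((Y.presheaf.map (homOfLE (inf_le_right : V₁ ⊓ V₂ ≤ V₂)).op).hom b₁) = b := by
      rw [TopCat.Presheaf.germ_res_apply]
      exact hb₁
    have h0 : Y.presheaf.germ (V₁ ⊓ V₂) y hy₃
        ((Y.presheaf.map (homOfLE (inf_le_left : V₁ ⊓ V₂ ≤ V₁)).op).hom a₁ *
          (Y.presheaf.map (homOfLE (inf_le_right : V₁ ⊓ V₂ ≤ V₂)).op).hom b₁) =
        Y.presheaf.germ (V₁ ⊓ V₂) y hy₃ 0 := by
      rw [map_mul, ha₂, hb₂, hab, map_zero]
    obtain ⟨V, hyV, iU, iV, hV⟩ := TopCat.Presheaf.germ_eq Y.presheaf y hy₃ hy₃ _ _ h0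
    have h3 : (Y.presheaf.map iU.op).hom
        ((Y.presheaf.map (homOfLE (inf_le_left : V₁ ⊓ V₂ ≤ V₁)).op).hom a₁) *
        (Y.presheaf.map iU.op).hom
          ((Y.presheaf.map (homOfLE (inf_le_right : V₁ ⊓ V₂ ≤ V₂)).op).hom b₁) = 0 := by
      have h4 : (Y.presheaf.map iU.op).hom
          ((Y.presheaf.map (homOfLE (inf_le_left : V₁ ⊓ V₂ ≤ V₁)).op).hom a₁ *
            (Y.presheaf.map (homOfLE (inf_le_right : V₁ ⊓ V₂ ≤ V₂)).op).hom b₁) =
          (Y.presheaf.map iV.op).hom 0 := hV
      rw [map_mul, map_zero] at h4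
      exact h4
    obtain ⟨d, hd⟩ := exists_of_mul_eq_zero (hD V) _ _ h3
    refine ⟨Y.presheaf.germ V y hyV d, ?_⟩
    have ga : Y.presheaf.germ V y hyV ((Y.presheaf.map iU.op).hom
        ((Y.presheaf.map (homOfLE (inf_le_left : V₁ ⊓ V₂ ≤ V₁)).op).hom a₁)) = a := by
      rw [TopCat.Presheaf.germ_res_apply]
      exact ha₂
    have gb : Y.presheaf.germ V y hyV ((Y.presheaf.map iU.op).hom
        ((Y.presheaf.map (homOfLE (inf_le_right : V₁ ⊓ V₂ ≤ V₂)).op).hom b₁)) = b := by
      rw [TopCat.Presheaf.germ_res_apply]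
      exact hb₂
    have h5 := congrArg (Y.presheaf.germ V y hyV) hd
    rw [map_mul, map_add, ga, gb] at h5
    exact h5
  intro y
  refine ⟨hdomY y, ?_⟩
  obtain ⟨V₀, hyV₀, hint⟩ := Groth.Agent.Helper5.LocInt.exists_isIntegral_nhd Y hdomY y
  obtain ⟨_, ⟨V, hV, rfl⟩, hyV, hVV₀⟩ :=
    Y.isBasis_affineOpens.exists_subset_of_mem_open hyV₀ V₀.isOpen
  haveI : Nonempty (V : Scheme.{u}) := ⟨⟨y, hyV⟩⟩
  haveI : IsIntegral (V : Scheme.{u}) := isIntegral_of_isOpenImmersion (Y.homOfLE hVV₀)
  haveI : IsDomain Γ(Y, V) :=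
    MulEquiv.isDomain Γ((V : Scheme.{u}), ⊤)
      ((Scheme.Opens.topIso (X := Y) V).commRingCatIsoToRingEquiv.symm.toMulEquiv)
  haveI : IsIntegrallyClosed Γ(Y, V) := isIntegrallyClosed_of_propD (hD V)
  letI := Y.presheaf.algebra_section_stalk ⟨y, hyV⟩
  haveI := hV.isLocalization_stalk ⟨y, hyV⟩
  exact isIntegrallyClosed_of_isLocalization (Y.presheaf.stalk y)
    (hV.primeIdealOf ⟨y, hyV⟩).asIdeal.primeCompl (Ideal.primeCompl_le_nonZeroDivisors _)

end Geometry

section Statements

theorem app_bijective_of_isIso_unitToPush {X Y : Scheme.{u}} (f : X ⟶ Y)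
    (h : IsIso (ClSub.unitToPush f)) (V : Y.Opens) : Function.Bijective (f.app V).hom := by
  have h1 := ConcreteCategory.bijective_of_isIso ((ClSub.unitToPush f).app V)
  exact h1

theorem s19513 (k : Type u) [Field k] (X Y : Scheme.{u})
    [X.Over (Spec (CommRingCat.of k))] [Y.Over (Spec (CommRingCat.of k))]
    [IsProper (X ↘ Spec (CommRingCat.of k))] [IsProper (Y ↘ Spec (CommRingCat.of k))]
    (f : X ⟶ Y) (hfib : ∀ V : Y.Opens, IsIso (f.app V))
    (hX : Pi1.IsNormalScheme X) : Pi1.IsNormalScheme Y := by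
  haveI : IsLocallyNoetherian X :=
    LocallyOfFiniteType.isLocallyNoetherian (X ↘ Spec (CommRingCat.of k))
  haveI : IsLocallyNoetherian Y :=
    LocallyOfFiniteType.isLocallyNoetherian (Y ↘ Spec (CommRingCat.of k))
  exact main f (fun V => ConcreteCategory.bijective_of_isIso (f.app V)) hX

theorem s20014 (k : Type u) [Field k]
    (X Xt : Scheme.{u}) [X.Over (Spec (CommRingCat.of k))]
    [LocallyOfFiniteType (X ↘ Spec (CommRingCat.of k))]
    (f : Xt ⟶ X) [IsProper f]
    (hfib : ∀ V : X.Opens, IsIso (f.app V))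
    (hXt : Pi1.IsNormalScheme Xt) : Pi1.IsNormalScheme X := by
  haveI : IsLocallyNoetherian X :=
    LocallyOfFiniteType.isLocallyNoetherian (X ↘ Spec (CommRingCat.of k))
  haveI : IsLocallyNoetherian Xt := LocallyOfFiniteType.isLocallyNoetherian f
  exact main f (fun V => ConcreteCategory.bijective_of_isIso (f.app V)) hXt

theorem s17584 (X : Scheme.{0}) [X.Over (Spec (CommRingCat.of ℂ))]
    [IsProper (X ↘ Spec (CommRingCat.of ℂ))]
    (Y : Scheme.{0}) [Y.Over (Spec (CommRingCat.of ℂ))]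
    [IsProper (Y ↘ Spec (CommRingCat.of ℂ))]
    (f : X ⟶ Y) (hfs : IsIso (ClSub.unitToPush f))
    (hX : Pi1.IsNormalScheme X) : Pi1.IsNormalScheme Y := by
  haveI : IsLocallyNoetherian X :=
    LocallyOfFiniteType.isLocallyNoetherian (X ↘ Spec (CommRingCat.of ℂ))
  haveI : IsLocallyNoetherian Y :=
    LocallyOfFiniteType.isLocallyNoetherian (Y ↘ Spec (CommRingCat.of ℂ))
  exact main f (app_bijective_of_isIso_unitToPush f hfs) hX

end Statements

end Groth.Agent.Helper3.FibNorm1
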