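import Mathlib
import Groth.Agent.Helper3.FibNorm1

set_option autoImplicit false
set_option linter.style.haveILetI false
set_option linter.unusedSectionVars false
set_option linter.unusedVariables false
set_option linter.deprecated false
set_option linter.style.haveILetI false
set_option linter.unusedSectionVars false
set_option linter.unusedVariables false

universe u

open CategoryTheory CategoryTheory.Limits AlgebraicGeometry TopologicalSpace Polynomial

namespace Groth.Agent.Helper3.FibNorm2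

open Groth.Agent.Helper3.FibNorm1

/-- flat base change of the property `O_Y(V) ≅ O_X(f⁻¹V)` -/
theorem app_bijective_of_flat_baseChange {X Y X' Y' : Scheme.{u}} (f : X ⟶ Y) (g : Y' ⟶ Y)
    (p : X' ⟶ X) (f' : X' ⟶ Y') (H : IsPullback p f' f g) [Flat g] [QuasiCompact f]
    [QuasiSeparated f] (V : Y.Opens) (hV : IsAffineOpen V) (hiso : IsIso (f.app V))
    (V' : Y'.Opens) (hV' : IsAffineOpen V') (hVV' : V' ≤ g ⁻¹ᵁ V) :
    Function.Bijective (f'.app V').hom := by
  have hUY : f' ⁻¹ᵁ V' = p ⁻¹ᵁ (f ⁻¹ᵁ V) ⊓ f' ⁻¹ᵁ V' := by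
    rw [eq_comm, inf_eq_right, ← Scheme.Hom.comp_preimage, H.w, Scheme.Hom.comp_preimage]
    exact Scheme.Hom.preimage_mono f' hVV'
  have hiso2 := isIso_pushoutSection_of_isQuasiSeparated_of_flat_right H hVV' le_rfl hUY hV hV'
    (f.isCompact_preimage hV.isCompact) (f.isQuasiSeparated_preimage hV.isQuasiSeparated)
  haveI : IsIso (f.appLE V (f ⁻¹ᵁ V) le_rfl) := by
    rw [← Scheme.Hom.app_eq_appLE]
    exact hiso
  haveI : IsIso (pushout.inr (f.appLE V (f ⁻¹ᵁ V) le_rfl) (g.appLE V V' hVV')) := inferInstance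
  have h1 : pushout.inr _ _ ≫ pushoutSection H hVV' le_rfl hUY = f'.app V' := by
    rw [pushout.inr_desc, ← Scheme.Hom.app_eq_appLE]
  haveI : IsIso (f'.app V') := by
    rw [← h1]
    infer_instance
  exact ConcreteCategory.bijective_of_isIso _

/-- Basis version of `FibNorm1.main`: it suffices that `O_Y(V) → O_X(f⁻¹V)` be bijective for `V` in
a basis of affine opens. -/
theorem main_basis {X Y : Scheme.{u}} (f : X ⟶ Y) [IsLocallyNoetherian X] [IsLocallyNoetherian Y]
    (B : Set Y.Opens) (hBaff : ∀ V ∈ B, IsAffineOpen V)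
    (hBbasis : ∀ (y : Y) (W : Y.Opens), y ∈ W → ∃ V ∈ B, y ∈ V ∧ V ≤ W)
    (hfib : ∀ V ∈ B, Function.Bijective (f.app V).hom)
    (hX : ∀ x : X, IsDomain (X.presheaf.stalk x) ∧ IsIntegrallyClosed (X.presheaf.stalk x)) :
    ∀ y : Y, IsDomain (Y.presheaf.stalk y) ∧ IsIntegrallyClosed (Y.presheaf.stalk y) := by
  have hD : ∀ V ∈ B, PropD Γ(Y, V) := fun V hVB =>
    propD_of_bijective (f.app V).hom (hfib V hVB) (propD_sections hX (f ⁻¹ᵁ V))
  haveI : IsReduced X := by
    haveI : ∀ x : X, _root_.IsReduced (X.presheaf.stalk x) := fun x => by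
      haveI := (hX x).1
      infer_instance
    exact isReduced_of_isReduced_stalk X
  have hredY : ∀ y : Y, _root_.IsReduced (Y.presheaf.stalk y) := by
    intro y
    obtain ⟨V, hVB, hyV, -⟩ := hBbasis y ⊤ trivial
    have hV := hBaff V hVB
    haveI : _root_.IsReduced Γ(Y, V) := isReduced_of_injective (f.app V).hom (hfib V hVB).1
    letI := Y.presheaf.algebra_section_stalk ⟨y, hyV⟩
    haveI := hV.isLocalization_stalk ⟨y, hyV⟩
    exact isReduced_localizationPreserves (hV.primeIdealOf ⟨y, hyV⟩).asIdeal.primeCompl _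
      inferInstance
  have hdomY : ∀ y : Y, IsDomain (Y.presheaf.stalk y) := by
    intro y
    haveI := hredY y
    apply isDomain_of_local
    intro a b hab
    obtain ⟨V₁, hy₁, a₁, ha₁⟩ := TopCat.Presheaf.germ_exist Y.presheaf (x := y) a
    obtain ⟨V₂, hy₂, b₁, hb₁⟩ := TopCat.Presheaf.germ_exist Y.presheaf (x := y) b
    have hy₃ : y ∈ V₁ ⊓ V₂ := ⟨hy₁, hy₂⟩
    have ha₂ : Y.presheaf.germ (V₁ ⊓ V₂) y hy₃
        ((Y.presheaf.map (homOfLE (inf_le_left : V₁ ⊓ V₂ ≤ V₁)).op).hom a₁) = a := by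
      rw [TopCat.Presheaf.germ_res_apply]
      exact ha₁
    have hb₂ : Y.presheaf.germ (V₁ ⊓ V₂) y hy₃
        ((Y.presheaf.map (homOfLE (inf_le_right : V₁ ⊓ V₂ ≤ V₂)).op).hom b₁) = b := by
      rw [TopCat.Presheaf.germ_res_apply]
      exact hb₁
    have h0 : Y.presheaf.germ (V₁ ⊓ V₂) y hy₃
        ((Y.presheaf.map (homOfLE (inf_le_left : V₁ ⊓ V₂ ≤ V₁)).op).hom a₁ *
          (Y.presheaf.map (homOfLE (inf_le_right : V₁ ⊓ V₂ ≤ V₂)).op).hom b₁) =
        Y.presheaf.germ (V₁ ⊓ V₂) y hy₃ 0 := by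
      rw [map_mul, ha₂, hb₂, hab, map_zero]
    obtain ⟨V₃, hyV₃, iU, iV, hV₃⟩ := TopCat.Presheaf.germ_eq Y.presheaf y hy₃ hy₃ _ _ h0
    obtain ⟨V, hVB, hyV, hVV₃⟩ := hBbasis y V₃ hyV₃
    let iW : V ⟶ V₁ ⊓ V₂ := homOfLE hVV₃ ≫ iU
    have h3 : (Y.presheaf.map iW.op).hom
        ((Y.presheaf.map (homOfLE (inf_le_left : V₁ ⊓ V₂ ≤ V₁)).op).hom a₁) *
        (Y.presheaf.map iW.op).hom
          ((Y.presheaf.map (homOfLE (inf_le_right : V₁ ⊓ V₂ ≤ V₂)).op).hom b₁) = 0 := by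
      have h4 : (Y.presheaf.map iU.op).hom
          ((Y.presheaf.map (homOfLE (inf_le_left : V₁ ⊓ V₂ ≤ V₁)).op).hom a₁ *
            (Y.presheaf.map (homOfLE (inf_le_right : V₁ ⊓ V₂ ≤ V₂)).op).hom b₁) =
          (Y.presheaf.map iV.op).hom 0 := hV₃
      have h5 := congrArg (Y.presheaf.map (homOfLE hVV₃).op).hom h4
      rw [map_zero, map_zero, ← CommRingCat.comp_apply, ← Functor.map_comp, ← op_comp] at h5
      rw [← map_mul]
      exact h5
    obtain ⟨d, hd⟩ := exists_of_mul_eq_zero (hD V hVB) _ _ h3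
    refine ⟨Y.presheaf.germ V y hyV d, ?_⟩
    have ga : Y.presheaf.germ V y hyV ((Y.presheaf.map iW.op).hom
        ((Y.presheaf.map (homOfLE (inf_le_left : V₁ ⊓ V₂ ≤ V₁)).op).hom a₁)) = a := by
      rw [TopCat.Presheaf.germ_res_apply]
      exact ha₂
    have gb : Y.presheaf.germ V y hyV ((Y.presheaf.map iW.op).hom
        ((Y.presheaf.map (homOfLE (inf_le_right : V₁ ⊓ V₂ ≤ V₂)).op).hom b₁)) = b := by
      rw [TopCat.Presheaf.germ_res_apply]
      exact hb₂
    have h5 := congrArg (Y.presheaf.germ V y hyV) hd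
    rw [map_mul, map_add, ga, gb] at h5
    exact h5
  intro y
  refine ⟨hdomY y, ?_⟩
  obtain ⟨V₀, hyV₀, hint⟩ := Groth.Agent.Helper5.LocInt.exists_isIntegral_nhd Y hdomY y
  obtain ⟨V, hVB, hyV, hVV₀⟩ := hBbasis y V₀ hyV₀
  have hV := hBaff V hVB
  haveI : Nonempty (V : Scheme.{u}) := ⟨⟨y, hyV⟩⟩
  haveI : IsIntegral (V : Scheme.{u}) := isIntegral_of_isOpenImmersion (Y.homOfLE hVV₀)
  haveI : IsDomain Γ(Y, V) :=
    MulEquiv.isDomain Γ((V : Scheme.{u}), ⊤)
      ((Scheme.Opens.topIso (X := Y) V).commRingCatIsoToRingEquiv.symm.toMulEquiv)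
  haveI : IsIntegrallyClosed Γ(Y, V) := isIntegrallyClosed_of_propD (hD V hVB)
  letI := Y.presheaf.algebra_section_stalk ⟨y, hyV⟩
  haveI := hV.isLocalization_stalk ⟨y, hyV⟩
  exact isIntegrallyClosed_of_isLocalization (Y.presheaf.stalk y)
    (hV.primeIdealOf ⟨y, hyV⟩).asIdeal.primeCompl (Ideal.primeCompl_le_nonZeroDivisors _)

theorem s19515 (k : Type u) [Field k] (X Y : Scheme.{u})
    [X.Over (Spec (CommRingCat.of k))] [Y.Over (Spec (CommRingCat.of k))]
    [IsProper (X ↘ Spec (CommRingCat.of k))] [IsProper (Y ↘ Spec (CommRingCat.of k))]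
    (f : X ⟶ Y) (hf : f ≫ (Y ↘ Spec (CommRingCat.of k)) = X ↘ Spec (CommRingCat.of k))
    (hfib : ∀ V : Y.Opens, IsIso (f.app V))
    (K : Type u) [Field K] [Algebra k K]
    (hX : Pi1.IsNormalScheme (pullback (X ↘ Spec (CommRingCat.of k))
      (Spec.map (CommRingCat.ofHom (algebraMap k K))))) :
    Pi1.IsNormalScheme (pullback (Y ↘ Spec (CommRingCat.of k))
      (Spec.map (CommRingCat.ofHom (algebraMap k K)))) := by
  set c := Spec.map (CommRingCat.ofHom (algebraMap k K)) with hc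
  set sX := X ↘ Spec (CommRingCat.of k) with hsX
  set sY := Y ↘ Spec (CommRingCat.of k) with hsY
  haveI : IsProper (f ≫ sY) := by rw [hf]; infer_instance
  haveI : IsProper f := IsProper.of_comp f sY
  haveI : Flat c := by
    rw [hc, Flat.SpecMap_iff]
    show (algebraMap k K).Flat
    rw [RingHom.flat_algebraMap_iff]
    infer_instance
  let fK : pullback sX c ⟶ pullback sY c :=
    pullback.map sX c sY c f (𝟙 _) (𝟙 _) (by rw [Category.comp_id, hf]) (by simp)
  have hfK1 : fK ≫ pullback.fst sY c = pullback.fst sX c ≫ f := pullback.lift_fst _ _ _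
  have hfK2 : fK ≫ pullback.snd sY c = pullback.snd sX c :=
    (pullback.lift_snd _ _ _).trans (Category.comp_id _)
  have H : IsPullback (pullback.fst sX c) fK f (pullback.fst sY c) := by
    have t : IsPullback (pullback.snd sY c) (pullback.fst sY c) c sY :=
      (IsPullback.of_hasPullback sY c).flip
    have s : IsPullback (fK ≫ pullback.snd sY c) (pullback.fst sX c) c (f ≫ sY) := by
      rw [hfK2, hf]
      exact (IsPullback.of_hasPullback sX c).flip
    exact (IsPullback.of_right s hfK1 t).flip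
  haveI : IsLocallyNoetherian (pullback sX c) :=
    LocallyOfFiniteType.isLocallyNoetherian (pullback.snd sX c)
  haveI : IsLocallyNoetherian (pullback sY c) :=
    LocallyOfFiniteType.isLocallyNoetherian (pullback.snd sY c)
  set g := pullback.fst sY c with hg
  let B : Set (pullback sY c).Opens :=
    {V' | IsAffineOpen V' ∧ ∃ V : Y.Opens, IsAffineOpen V ∧ V' ≤ g ⁻¹ᵁ V}
  refine main_basis fK B (fun V h => h.1) ?_ ?_ hX
  · intro y' W hy'
    obtain ⟨_, ⟨V, hV, rfl⟩, hyV, -⟩ := Y.isBasis_affineOpens.exists_subset_of_mem_open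
      (Set.mem_univ (g y')) isOpen_univ
    have hy'2 : y' ∈ W ⊓ g ⁻¹ᵁ V := ⟨hy', hyV⟩
    obtain ⟨_, ⟨V', hV', rfl⟩, hyV', hV'W⟩ :=
      (pullback sY c).isBasis_affineOpens.exists_subset_of_mem_open hy'2 (W ⊓ g ⁻¹ᵁ V).isOpen
    exact ⟨V', ⟨hV', V, hV, fun z hz => (hV'W hz).2⟩, hyV', fun z hz => (hV'W hz).1⟩
  · rintro V' ⟨hV', V, hV, hVV'⟩
    exact app_bijective_of_flat_baseChange f g (pullback.fst sX c) fK H V hV (hfib V) V' hV' hVV'

end Groth.Agent.Helper3.FibNorm2
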