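import Mathlib
set_option backward.isDefEq.respectTransparency.types false
set_option maxHeartbeats 4000000
set_option synthInstance.maxHeartbeats 400000

namespace Groth.Agent.Helper3.FibProdFT

universe u

open Classical in
theorem main (R : Type u) [CommRing R] [IsNoetherianRing R] {ι : Type u} [Fintype ι]
    (Q : Type u) [CommRing Q] [Algebra R Q] [Algebra.FiniteType R Q] (A B : ι → Type u) [∀ i, CommRing (A i)]
    [∀ i, CommRing (B i)] [∀ i, Algebra R (A i)] [∀ i, Algebra R (B i)] (hA : ∀ i, Algebra.FiniteType R (A i))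
    (φ : ∀ i, A i →ₐ[R] B i) (ψ : ∀ i, Q →ₐ[R] B i)
    (hφ : ∀ i, Function.Surjective (φ i)) (hψ : ∀ i, Function.Surjective (ψ i)) :
    Algebra.FiniteType R ↥(AlgHom.equalizer ((AlgHom.pi ψ).comp (AlgHom.fst R Q (∀ i, A i)))
      ((AlgHom.pi fun i => (φ i).comp (Pi.evalAlgHom R A i)).comp (AlgHom.snd R Q (∀ i, A i)))) := by
  set E := AlgHom.equalizer ((AlgHom.pi ψ).comp (AlgHom.fst R Q (∀ i, A i)))
      ((AlgHom.pi fun i => (φ i).comp (Pi.evalAlgHom R A i)).comp (AlgHom.snd R Q (∀ i, A i))) with hE
  have memE : ∀ x : Q × (∀ i, A i), x ∈ E ↔ ∀ i, ψ i x.1 = φ i (x.2 i) := by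
    intro x
    rw [hE, AlgHom.mem_equalizer]
    constructor
    · intro h i
      exact congrFun h i
    · intro h
      funext i
      exact h i
  rw [← Subalgebra.fg_iff_finiteType]
  -- generators
  obtain ⟨GQ, hGQ⟩ := (Algebra.FiniteType.out : (⊤ : Subalgebra R Q).FG)
  have hGA : ∀ i, ∃ G : Finset (A i), Algebra.adjoin R (G : Set (A i)) = ⊤ :=
    fun i => (hA i).out
  choose GA hGA using hGA
  have hnoeth : ∀ i, IsNoetherianRing (A i) := fun i =>
    Algebra.FiniteType.isNoetherianRing R (A i)
  have hK : ∀ i, ∃ K : Finset (A i), Ideal.span (K : Set (A i)) = RingHom.ker (φ i) :=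
    fun i => (IsNoetherian.noetherian (RingHom.ker (φ i)) : (RingHom.ker (φ i)).FG)
  choose K hK using hK
  let liftQ : Q → Q × (∀ i, A i) := fun q => (q, fun i => (hφ i (ψ i q)).choose)
  have hliftQ : ∀ q, liftQ q ∈ E := fun q => (memE _).2 fun i => (hφ i (ψ i q)).choose_spec.symm
  let liftA : ∀ i, A i → Q × (∀ i, A i) := fun i h =>
    ((hψ i (φ i h)).choose,
      Function.update (fun j => (hφ j (ψ j (hψ i (φ i h)).choose)).choose) i h)
  have hliftA : ∀ i h, liftA i h ∈ E := by
    intro i h
    refine (memE _).2 fun j => ?_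
    by_cases hji : j = i
    · subst hji
      simp only [liftA, Function.update_self]
      exact (hψ j (φ j h)).choose_spec
    · simp only [liftA, Function.update_of_ne hji]
      exact (hφ j (ψ j (hψ i (φ i h)).choose)).choose_spec.symm
  have hliftA2 : ∀ i h, (liftA i h).2 i = h := by
    intro i h
    simp only [liftA, Function.update_self]
  let e : ∀ i, A i → Q × (∀ i, A i) := fun i k => (0, Pi.single i k)
  have he : ∀ i k, k ∈ RingHom.ker (φ i) → e i k ∈ E := by
    intro i k hk
    refine (memE _).2 fun j => ?_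
    by_cases hji : j = i
    · subst hji
      simp only [e, Pi.single_eq_same, map_zero]
      exact ((RingHom.mem_ker).1 hk).symm
    · simp only [e, Pi.single_eq_of_ne hji, map_zero]
  let T : Finset (Q × (∀ i, A i)) :=
    GQ.image liftQ ∪ (Finset.univ.biUnion fun i => (GA i).image (liftA i)) ∪
      (Finset.univ.biUnion fun i => (K i).image (e i))
  refine ⟨T, le_antisymm ?_ ?_⟩
  · refine Algebra.adjoin_le ?_
    intro x hx
    simp only [T, Finset.coe_union, Finset.coe_image, Finset.coe_biUnion, Finset.coe_univ,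
      Set.mem_univ, Set.iUnion_true, Set.mem_union, Set.mem_image, Set.mem_iUnion] at hx
    rcases hx with (⟨g, -, rfl⟩ | ⟨i, h, -, rfl⟩) | ⟨i, k, hk, rfl⟩
    · exact hliftQ g
    · exact hliftA i h
    · refine he i k ?_
      rw [← hK i]
      exact Ideal.subset_span hk
  · set P' := Algebra.adjoin R (T : Set (Q × (∀ i, A i))) with hP'
    have hTQ : ∀ g ∈ GQ, liftQ g ∈ P' := fun g hg => Algebra.subset_adjoin (by
      simp only [T, Finset.coe_union, Finset.coe_image, Set.mem_union, Set.mem_image]
      exact Or.inl (Or.inl ⟨g, hg, rfl⟩))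
    have hTA : ∀ i, ∀ h ∈ GA i, liftA i h ∈ P' := fun i h hh => Algebra.subset_adjoin (by
      simp only [T, Finset.coe_union, Finset.coe_image, Finset.coe_biUnion, Finset.coe_univ,
        Set.mem_univ, Set.iUnion_true, Set.mem_union, Set.mem_image, Set.mem_iUnion]
      exact Or.inl (Or.inr ⟨i, h, hh, rfl⟩))
    have hTK : ∀ i, ∀ k ∈ K i, e i k ∈ P' := fun i k hk => Algebra.subset_adjoin (by
      simp only [T, Finset.coe_union, Finset.coe_image, Finset.coe_biUnion, Finset.coe_univ,
        Set.mem_univ, Set.iUnion_true, Set.mem_union, Set.mem_image, Set.mem_iUnion]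
      exact Or.inr ⟨i, k, hk, rfl⟩)
    -- Step 1
    have step1 : ∀ q : Q, ∃ y ∈ P', y.1 = q := by
      intro q
      have hq : q ∈ Algebra.adjoin R (GQ : Set Q) := by rw [hGQ]; trivial
      induction hq using Algebra.adjoin_induction with
      | mem g hg => exact ⟨liftQ g, hTQ g hg, rfl⟩
      | algebraMap r => exact ⟨algebraMap R _ r, Subalgebra.algebraMap_mem _ r, rfl⟩
      | add x y _ _ hx hy =>
        obtain ⟨x', hx', rfl⟩ := hx
        obtain ⟨y', hy', rfl⟩ := hy
        exact ⟨x' + y', add_mem hx' hy', rfl⟩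
      | mul x y _ _ hx hy =>
        obtain ⟨x', hx', rfl⟩ := hx
        obtain ⟨y', hy', rfl⟩ := hy
        exact ⟨x' * y', mul_mem hx' hy', rfl⟩
    -- Step 2
    have step2 : ∀ i, ∀ c : A i, ∃ z ∈ P', z.2 i = c := by
      intro i c
      have hc : c ∈ Algebra.adjoin R (GA i : Set (A i)) := by rw [hGA i]; trivial
      induction hc using Algebra.adjoin_induction with
      | mem g hg => exact ⟨liftA i g, hTA i g hg, hliftA2 i g⟩
      | algebraMap r => exact ⟨algebraMap R _ r, Subalgebra.algebraMap_mem _ r, rfl⟩
      | add x y _ _ hx hy =>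
        obtain ⟨x', hx', rfl⟩ := hx
        obtain ⟨y', hy', rfl⟩ := hy
        exact ⟨x' + y', add_mem hx' hy', rfl⟩
      | mul x y _ _ hx hy =>
        obtain ⟨x', hx', rfl⟩ := hx
        obtain ⟨y', hy', rfl⟩ := hy
        exact ⟨x' * y', mul_mem hx' hy', rfl⟩
    -- Step 3
    have step3 : ∀ i, ∀ k ∈ RingHom.ker (φ i), e i k ∈ P' := by
      intro i k hk
      rw [← hK i] at hk
      induction hk using Submodule.span_induction with
      | mem k hk => exact hTK i k hk
      | zero =>
        have : e i 0 = 0 := by simp [e]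
        rw [this]; exact zero_mem _
      | add x y _ _ hx hy =>
        have : e i (x + y) = e i x + e i y := by
          simp only [e, Pi.single_add, Prod.mk_add_mk, add_zero]
        rw [this]; exact add_mem hx hy
      | smul c x _ hx =>
        obtain ⟨z, hz, hzc⟩ := step2 i c
        have : e i (c • x) = z * e i x := by
          simp only [e, smul_eq_mul]
          refine Prod.ext ?_ ?_
          · simp
          · funext j
            by_cases hji : j = i
            · subst hji
              simp [hzc]
            · simp [Pi.single_eq_of_ne hji]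
        rw [this]; exact mul_mem hz hx
    -- Step 4
    intro x hx
    obtain ⟨y, hy, hyx⟩ := step1 x.1
    have hyE : y ∈ E := by
      have : P' ≤ E := by
        refine Algebra.adjoin_le ?_
        intro x hx
        simp only [T, Finset.coe_union, Finset.coe_image, Finset.coe_biUnion, Finset.coe_univ,
          Set.mem_univ, Set.iUnion_true, Set.mem_union, Set.mem_image, Set.mem_iUnion] at hx
        rcases hx with (⟨g, -, rfl⟩ | ⟨i, h, -, rfl⟩) | ⟨i, k, hk, rfl⟩
        · exact hliftQ g
        · exact hliftA i h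
        · refine he i k ?_
          rw [← hK i]
          exact Ideal.subset_span hk
      exact this hy
    have hker : ∀ i, x.2 i - y.2 i ∈ RingHom.ker (φ i) := by
      intro i
      rw [RingHom.mem_ker, map_sub, sub_eq_zero]
      have h1 := (memE x).1 hx i
      have h2 := (memE y).1 hyE i
      rw [← h1, ← h2, hyx]
    have hdecomp : x = y + ∑ i, e i (x.2 i - y.2 i) := by
      refine Prod.ext ?_ ?_
      · simp only [e, Prod.fst_add, Prod.fst_sum, Finset.sum_const_zero, add_zero, hyx]
      · simp only [e, Prod.snd_add, Prod.snd_sum]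
        rw [Finset.univ_sum_single (fun i => x.2 i - y.2 i)]
        funext i
        simp
    rw [hdecomp]
    exact add_mem hy (sum_mem fun i _ => step3 i _ (hker i))

end Groth.Agent.Helper3.FibProdFT
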