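import Mathlib
import Groth.Agent.Helper3.EquivOver

set_option autoImplicit false
set_option linter.style.haveILetI false
set_option linter.unusedVariables false
universe v₂ u₂ v u

namespace Groth.Agent.Helper3.FibSetoid
open CategoryTheory Functor FibCat

variable {C : Type u} [Category.{v} C]
variable (𝒳 : BasedCategory.{v₂, u₂} C) (h𝒳 : IsFibSetoid 𝒳.p)

/-- the relation "isomorphic in the fibre" -/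
def fibSetoid (h𝒳 : IsFibSetoid 𝒳.p) (U : C) : Setoid (𝒳.p.Fiber U) where
  r a b := Nonempty (a ⟶ b)
  iseqv :=
    { refl := fun a => ⟨𝟙 a⟩
      symm := by
        rintro a b ⟨φ⟩
        haveI := (FibGrpd.isGroupoid_fiber h𝒳.1 U).all_isIso φ
        exact ⟨inv φ⟩
      trans := by
        rintro a b c ⟨φ⟩ ⟨ψ⟩
        exact ⟨φ ≫ ψ⟩ }

/-- objects of the set-fibred replacement -/
structure Obj where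
  /-- base object -/
  base : C
  /-- class in the fibre -/
  cls : Quotient (fibSetoid 𝒳 h𝒳 base)

/-- the lifting predicate on representatives -/
def liftRel {U V : C} (f : U ⟶ V) (a : 𝒳.p.Fiber U) (b : 𝒳.p.Fiber V) : Prop :=
  ∃ φ : a.1 ⟶ b.1, 𝒳.p.IsHomLift f φ

theorem liftRel_congr {U V : C} (f : U ⟶ V) (a a' : 𝒳.p.Fiber U) (b b' : 𝒳.p.Fiber V)
    (ha : (fibSetoid 𝒳 h𝒳 U).r a a') (hb : (fibSetoid 𝒳 h𝒳 V).r b b') :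
    liftRel 𝒳 f a b = liftRel 𝒳 f a' b' := by
  obtain ⟨α⟩ := ha
  obtain ⟨β⟩ := hb
  obtain ⟨α'⟩ := (fibSetoid 𝒳 h𝒳 U).symm ⟨α⟩
  obtain ⟨β'⟩ := (fibSetoid 𝒳 h𝒳 V).symm ⟨β⟩
  haveI := α.2; haveI := β.2; haveI := α'.2; haveI := β'.2
  apply propext
  constructor
  · rintro ⟨φ, hφ⟩
    refine ⟨α'.1 ≫ φ ≫ β.1, ?_⟩
    infer_instance
  · rintro ⟨φ, hφ⟩
    refine ⟨α.1 ≫ φ ≫ β'.1, ?_⟩
    infer_instance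

/-- the lifting predicate on classes -/
def P {U V : C} (f : U ⟶ V) (ξ : Quotient (fibSetoid 𝒳 h𝒳 U)) (η : Quotient (fibSetoid 𝒳 h𝒳 V)) :
    Prop :=
  Quotient.liftOn₂ ξ η (liftRel 𝒳 f) (fun a b a' b' ha hb => liftRel_congr 𝒳 h𝒳 f a a' b b' ha hb)

theorem P_mk {U V : C} (f : U ⟶ V) (a : 𝒳.p.Fiber U) (b : 𝒳.p.Fiber V) :
    P 𝒳 h𝒳 f (Quotient.mk _ a) (Quotient.mk _ b) ↔ ∃ φ : a.1 ⟶ b.1, 𝒳.p.IsHomLift f φ :=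
  Iff.rfl

theorem P_id {U : C} (ξ : Quotient (fibSetoid 𝒳 h𝒳 U)) : P 𝒳 h𝒳 (𝟙 U) ξ ξ := by
  induction ξ using Quotient.ind with
  | _ a => exact ⟨𝟙 a.1, IsHomLift.id a.2⟩

theorem P_comp {U V W : C} (f : U ⟶ V) (g : V ⟶ W) (ξ : Quotient (fibSetoid 𝒳 h𝒳 U))
    (η : Quotient (fibSetoid 𝒳 h𝒳 V)) (ζ : Quotient (fibSetoid 𝒳 h𝒳 W))
    (h1 : P 𝒳 h𝒳 f ξ η) (h2 : P 𝒳 h𝒳 g η ζ) : P 𝒳 h𝒳 (f ≫ g) ξ ζ := by
  induction ξ using Quotient.ind with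
  | _ a =>
  induction η using Quotient.ind with
  | _ b =>
  induction ζ using Quotient.ind with
  | _ c =>
  obtain ⟨φ, hφ⟩ := h1
  obtain ⟨ψ, hψ⟩ := h2
  exact ⟨φ ≫ ψ, inferInstance⟩

instance : Category (Obj 𝒳 h𝒳) where
  Hom X Y := {f : X.base ⟶ Y.base // P 𝒳 h𝒳 f X.cls Y.cls}
  id X := ⟨𝟙 X.base, P_id 𝒳 h𝒳 X.cls⟩
  comp f g := ⟨f.1 ≫ g.1, P_comp 𝒳 h𝒳 f.1 g.1 _ _ _ f.2 g.2⟩
  id_comp f := Subtype.ext (Category.id_comp _)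
  comp_id f := Subtype.ext (Category.comp_id _)
  assoc f g h := Subtype.ext (Category.assoc _ _ _)

/-- the projection -/
def proj : Obj 𝒳 h𝒳 ⥤ C where
  obj X := X.base
  map f := f.1

/-- the set-fibred replacement -/
abbrev repl : BasedCategory.{v, max u u₂} C where
  obj := Obj 𝒳 h𝒳
  p := proj 𝒳 h𝒳

/-- the comparison functor -/
def toRepl : 𝒳 ⥤ᵇ repl 𝒳 h𝒳 where
  toFunctor :=
    { obj := fun x => ⟨𝒳.p.obj x, Quotient.mk _ ⟨x, rfl⟩⟩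
      map := fun {x y} φ => ⟨𝒳.p.map φ, ⟨φ, inferInstance⟩⟩
      map_id := fun x => Subtype.ext (𝒳.p.map_id x)
      map_comp := fun φ ψ => Subtype.ext (𝒳.p.map_comp φ ψ) }
  w := rfl

theorem repl_isHomLift_iff {U V : C} (f : U ⟶ V) {X Y : Obj 𝒳 h𝒳} (Φ : X ⟶ Y) (hX : X.base = U)
    (hY : Y.base = V) : (proj 𝒳 h𝒳).IsHomLift f Φ ↔ Φ.1 = eqToHom hX ≫ f ≫ eqToHom hY.symm := by
  constructor
  · intro h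
    exact IsHomLift.fac' (proj 𝒳 h𝒳) f Φ
  · intro h
    exact IsHomLift.of_fac' (proj 𝒳 h𝒳) f Φ hX hY h

theorem repl_isHomLift_iff' {X Y : Obj 𝒳 h𝒳} (f : X.base ⟶ Y.base) (Φ : X ⟶ Y) :
    (proj 𝒳 h𝒳).IsHomLift f Φ ↔ Φ.1 = f := by
  rw [repl_isHomLift_iff 𝒳 h𝒳 f Φ rfl rfl]
  simp

theorem P_of_comp {U V W : C} (f : U ⟶ V) (g : W ⟶ U) (ξ : Quotient (fibSetoid 𝒳 h𝒳 U))
    (η : Quotient (fibSetoid 𝒳 h𝒳 V)) (ζ : Quotient (fibSetoid 𝒳 h𝒳 W))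
    (hf : P 𝒳 h𝒳 f ξ η) (hk : P 𝒳 h𝒳 (g ≫ f) ζ η) : P 𝒳 h𝒳 g ζ ξ := by
  induction ξ using Quotient.ind with
  | _ a =>
  induction η using Quotient.ind with
  | _ b =>
  induction ζ using Quotient.ind with
  | _ c =>
  obtain ⟨φ, hφ⟩ := hf
  obtain ⟨ψ, hψ⟩ := hk
  haveI := FibGrpd.isStronglyCartesian h𝒳.1 f φ
  exact ⟨IsStronglyCartesian.map 𝒳.p f φ rfl ψ, IsStronglyCartesian.map_isHomLift 𝒳.p f φ rfl ψ⟩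

theorem exists_P {U V : C} (f : U ⟶ V) (η : Quotient (fibSetoid 𝒳 h𝒳 V)) :
    ∃ ξ : Quotient (fibSetoid 𝒳 h𝒳 U), P 𝒳 h𝒳 f ξ η := by
  induction η using Quotient.ind with
  | _ b =>
  obtain ⟨a, φ, hφ⟩ := FibGrpd.exists_lift' h𝒳.1 b.2 f
  have ha : 𝒳.p.obj a = U := IsHomLift.domain_eq 𝒳.p f φ
  exact ⟨Quotient.mk _ ⟨a, ha⟩, ⟨φ, hφ⟩⟩

theorem eq_of_P_id {U : C} (ξ η : Quotient (fibSetoid 𝒳 h𝒳 U)) (h : P 𝒳 h𝒳 (𝟙 U) ξ η) : ξ = η := by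
  induction ξ using Quotient.ind with
  | _ a =>
  induction η using Quotient.ind with
  | _ b =>
  obtain ⟨φ, hφ⟩ := h
  exact Quotient.sound ⟨⟨φ, hφ⟩⟩

theorem isFibGrpd_repl : IsFibGrpd (repl 𝒳 h𝒳).p := by
  refine ⟨?_, ?_⟩
  · intro X U f
    change U ⟶ X.base at f
    obtain ⟨ξ, hξ⟩ := exists_P 𝒳 h𝒳 f X.cls
    refine ⟨⟨U, ξ⟩, ⟨f, hξ⟩, ?_⟩
    exact (repl_isHomLift_iff' 𝒳 h𝒳 (X := ⟨U, ξ⟩) (Y := X) f ⟨f, hξ⟩).2 rfl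
  · intro Y X Φ
    refine { toIsHomLift := inferInstance, universal_property' := ?_ }
    intro Z g Ψ hΨ
    change Z.base ⟶ Y.base at g
    have hk' : Ψ.1 = g ≫ Φ.1 := (repl_isHomLift_iff' 𝒳 h𝒳 (g ≫ Φ.1) Ψ).1 hΨ
    have hg : P 𝒳 h𝒳 g Z.cls Y.cls := by
      apply P_of_comp 𝒳 h𝒳 Φ.1 g Y.cls X.cls Z.cls Φ.2
      rw [← hk']; exact Ψ.2
    refine ⟨⟨g, hg⟩, ⟨(repl_isHomLift_iff' 𝒳 h𝒳 g ⟨g, hg⟩).2 rfl, Subtype.ext hk'.symm⟩, ?_⟩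
    rintro χ' ⟨h1, -⟩
    exact Subtype.ext ((repl_isHomLift_iff' 𝒳 h𝒳 g χ').1 h1)

theorem fiber_eq {U : C} (X Y : (repl 𝒳 h𝒳).p.Fiber U) (Φ : X ⟶ Y) : X = Y := by
  obtain ⟨⟨U', ξ⟩, hX⟩ := X
  obtain ⟨⟨U'', η⟩, hY⟩ := Y
  change U' = U at hX
  change U'' = U at hY
  subst hY hX
  obtain ⟨Φ, hΦ⟩ := Φ
  have hf1 : Φ.1 = 𝟙 U' := (repl_isHomLift_iff' 𝒳 h𝒳 (X := ⟨U', ξ⟩) (Y := ⟨U', η⟩) (𝟙 U') Φ).1 hΦ
  have : ξ = η := by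
    apply eq_of_P_id 𝒳 h𝒳
    have := Φ.2
    rwa [hf1] at this
  subst this
  rfl

theorem isFibSet_repl : IsFibSet (repl 𝒳 h𝒳).p := by
  refine ⟨isFibGrpd_repl 𝒳 h𝒳, fun U => ?_⟩
  refine { subsingleton := fun X Y => ⟨fun Φ Ψ => ?_⟩, eq_of_hom := fun {X Y} Φ => fiber_eq 𝒳 h𝒳 X Y Φ }
  apply Functor.Fiber.hom_ext
  apply Subtype.ext
  have h1 := @IsHomLift.fac' _ _ _ _ (proj 𝒳 h𝒳) _ _ _ _ (𝟙 U) Φ.1 Φ.2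
  have h2 := @IsHomLift.fac' _ _ _ _ (proj 𝒳 h𝒳) _ _ _ _ (𝟙 U) Ψ.1 Ψ.2
  exact h1.trans h2.symm

theorem isEquivOver_toRepl : IsEquivOver (toRepl 𝒳 h𝒳) := by
  haveI : (toRepl 𝒳 h𝒳).toFunctor.Faithful := by
    refine ⟨fun {x y} φ ψ h => ?_⟩
    have h' : 𝒳.p.map φ = 𝒳.p.map ψ := congrArg Subtype.val h
    haveI : 𝒳.p.IsHomLift (𝒳.p.map φ) ψ := by rw [h']; infer_instance
    exact FibGrpd.hom_ext_of_isFibSetoid h𝒳 (𝒳.p.map φ) φ ψ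
  haveI : (toRepl 𝒳 h𝒳).toFunctor.Full := by
    refine ⟨fun {x y} Φ => ?_⟩
    obtain ⟨f, φ, hφ⟩ := Φ
    refine ⟨φ, ?_⟩
    apply Subtype.ext
    exact (@IsHomLift.eq_of_isHomLift _ _ _ _ 𝒳.p _ _ f φ hφ).symm
  apply EquivOver.isEquivOver_of
  rintro ⟨U, ξ⟩
  induction ξ using Quotient.ind with
  | _ a =>
  obtain ⟨a, rfl⟩ := a
  exact ⟨a, Iso.refl _, by
    change (proj 𝒳 h𝒳).IsHomLift (𝟙 (𝒳.p.obj a)) (𝟙 _)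
    exact IsHomLift.id rfl⟩

end Groth.Agent.Helper3.FibSetoid
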