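import Mathlib
import Groth.Prelude
import Groth.Agent.Helper6.HProj

set_option autoImplicit false
set_option linter.style.haveILetI false
set_option linter.unusedSectionVars false
set_option linter.unusedVariables false
set_option linter.deprecated false
set_option linter.unusedSectionVars false
set_option linter.unusedVariables false

open CategoryTheory Limits AlgebraicGeometry TopologicalSpace Opposite
universe u

namespace Groth.Agent.Helper3.FibSurfA

section Top

variable {T : Type*} [TopologicalSpace T]

/-- the irreducible closed subset `closure {x}` -/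
def cl (x : T) : IrreducibleCloseds T :=
  ⟨closure {x}, isIrreducible_singleton.closure, isClosed_closure⟩

theorem cl_lt [T0Space T] {x y : T} (h : x ⤳ y) (hne : x ≠ y) : cl y < cl x := by
  rw [lt_iff_le_and_ne]
  refine ⟨?_, ?_⟩
  · show closure {y} ⊆ closure {x}
    exact closure_minimal (Set.singleton_subset_iff.mpr (specializes_iff_mem_closure.mp h))
      isClosed_closure
  · intro e
    apply hne
    have e' : closure ({y} : Set T) = closure {x} := congrArg (fun Z : IrreducibleCloseds T => (Z : Set T)) e
    have h2 : y ⤳ x := by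
      rw [specializes_iff_mem_closure, e']
      exact subset_closure rfl
    exact (h.antisymm h2).eq

/-- three strict specializations give dimension at least three -/
theorem three_le_dim [T0Space T] (x₀ x₁ x₂ x₃ : T) (h₀ : x₀ ⤳ x₁) (h₁ : x₁ ⤳ x₂) (h₂ : x₂ ⤳ x₃)
    (n₀ : x₀ ≠ x₁) (n₁ : x₁ ≠ x₂) (n₂ : x₂ ≠ x₃) : (3 : WithBot ℕ∞) ≤ topologicalKrullDim T := by
  unfold topologicalKrullDim
  let s : LTSeries (IrreducibleCloseds T) :=
    LTSeries.mk 3 (fun i => ![cl x₃, cl x₂, cl x₁, cl x₀] i) (by
      apply Fin.strictMono_iff_lt_succ.mpr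
      intro i
      fin_cases i
      · exact cl_lt h₂ n₂
      · exact cl_lt h₁ n₁
      · exact cl_lt h₀ n₀)
  have := Order.LTSeries.length_le_krullDim s
  exact this

/-- two strict specializations give dimension at least two -/
theorem two_le_dim [T0Space T] (x₀ x₁ x₂ : T) (h₀ : x₀ ⤳ x₁) (h₁ : x₁ ⤳ x₂)
    (n₀ : x₀ ≠ x₁) (n₁ : x₁ ≠ x₂) : (2 : WithBot ℕ∞) ≤ topologicalKrullDim T := by
  unfold topologicalKrullDim
  let s : LTSeries (IrreducibleCloseds T) :=
    LTSeries.mk 2 (fun i => ![cl x₂, cl x₁, cl x₀] i) (by
      apply Fin.strictMono_iff_lt_succ.mpr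
      intro i
      fin_cases i
      · exact cl_lt h₁ n₁
      · exact cl_lt h₀ n₀)
  have := Order.LTSeries.length_le_krullDim s
  exact this

theorem dim_le_zero_of_subsingleton [Subsingleton T] : topologicalKrullDim T ≤ 0 := by
  unfold topologicalKrullDim
  haveI : Subsingleton (IrreducibleCloseds T) := by
    constructor
    intro a b
    apply IrreducibleCloseds.ext
    obtain ⟨x, hx⟩ := a.isIrreducible.nonempty
    obtain ⟨y, hy⟩ := b.isIrreducible.nonempty
    ext z
    constructor
    · intro _
      rw [Subsingleton.elim z y]; exact hy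
    · intro _
      rw [Subsingleton.elim z x]; exact hx
  exact Order.krullDim_nonpos_of_subsingleton

end Top

theorem main {R : Type u} [CommRing R] [IsDedekindDomain R]
    (hR : ¬ IsField R) (X : Over (Spec (CommRingCat.of R))) [IsIntegral X.left]
    (hdim : topologicalKrullDim X.left = 2) [Flat X.hom] (hproj : Neron.IsProjectiveOver R X)
    (D : Set X.left) (hD : IsClosed D) (hirr : IsIrreducible D) (hD1 : topologicalKrullDim D = 1) :
    (∃ s : (Spec (CommRingCat.of R) : Scheme.{u}), s.asIdeal.IsMaximal ∧ D ⊆ X.hom.base ⁻¹' {s} ∧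
        ∀ D' : Set X.left, IsIrreducible D' → D' ⊆ X.hom.base ⁻¹' {s} → D ⊆ D' → D' = D) ∨
      (∃ x : X.left, (X.hom.base x).asIdeal = ⊥ ∧
        (∀ z : X.left, (X.hom.base z).asIdeal = ⊥ → x ⤳ z → z = x) ∧ D = closure {x}) := by
  -- properness
  haveI : IsProper X.hom := by
    obtain ⟨n, i, hi, hcomp⟩ := hproj
    haveI := hi
    haveI := Groth.Agent.Helper6.HProj.isProper_toBase n (Spec (CommRingCat.of R))
    rw [← hcomp]
    infer_instance
  have hclosed : IsClosedMap X.hom.base := X.hom.isClosedMap
  -- generic point of D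
  let ξ : X.left := hirr.genericPoint
  have hξ : IsGenericPoint ξ D := by
    have := hirr.isGenericPoint_genericPoint_closure
    rwa [hD.closure_eq] at this
  have hξD : ξ ∈ D := hξ.mem
  have hDcl : D = closure {ξ} := hξ.def.symm
  have hspec : ∀ z ∈ D, ξ ⤳ z := fun z hz => hξ.specializes hz
  -- D is not a singleton
  obtain ⟨z₀, hz₀D, hz₀⟩ : ∃ z₀ ∈ D, z₀ ≠ ξ := by
    by_contra hcon
    push Not at hcon
    haveI : Subsingleton D := ⟨fun a b => Subtype.ext ((hcon a a.2).trans (hcon b b.2).symm)⟩
    have := dim_le_zero_of_subsingleton (T := D)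
    rw [hD1] at this
    exact absurd this (by decide)
  -- a nonzero maximal ideal of R
  have hprime : ∀ s : (Spec (CommRingCat.of R) : Scheme.{u}), s.asIdeal ≠ ⊥ → s.asIdeal.IsMaximal :=
    fun s hs => Ring.DimensionLEOne.maximalOfPrime hs s.isPrime
  have hbotmax : ∀ s : (Spec (CommRingCat.of R) : Scheme.{u}), s.asIdeal.IsMaximal →
      s.asIdeal ≠ ⊥ := by
    intro s hs hb
    exact Ring.ne_bot_of_isMaximal_of_not_isField hs hR hb
  by_cases hcase : (X.hom.base ξ).asIdeal = ⊥
  · -- horizontal
    right
    refine ⟨ξ, hcase, ?_, hDcl⟩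
    intro z hz hξz
    by_contra hne
    -- the image of the closure of z is everything
    have himg : IsClosed (X.hom.base '' closure {z}) := hclosed _ isClosed_closure
    obtain ⟨m, hm⟩ := Ideal.exists_maximal R
    let s : (Spec (CommRingCat.of R) : Scheme.{u}) := ⟨m, hm.isPrime⟩
    have hs : s ∈ X.hom.base '' closure {z} := by
      have h1 : X.hom.base z ∈ X.hom.base '' closure {z} := ⟨z, subset_closure rfl, rfl⟩
      have h2 : X.hom.base z ⤳ s := by
        apply (PrimeSpectrum.le_iff_specializes _ _).mp
        show (X.hom.base z).asIdeal ≤ s.asIdeal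
        rw [hz]; exact bot_le
      exact h2.mem_closed himg h1
    obtain ⟨z', hz', hfz'⟩ := hs
    have hzz' : z ⤳ z' := specializes_iff_mem_closure.mpr hz'
    have hne' : z ≠ z' := by
      intro e
      have : (X.hom.base z').asIdeal = ⊥ := by rw [← e]; exact hz
      rw [hfz'] at this
      exact hbotmax s hm this
    have hzD : z ∈ D := by rw [hDcl]; exact specializes_iff_mem_closure.mp hξz
    have hz'D : z' ∈ D := by rw [hDcl]; exact specializes_iff_mem_closure.mp (hξz.trans hzz')
    have h2 := two_le_dim (T := D) ⟨ξ, hξD⟩ ⟨z, hzD⟩ ⟨z', hz'D⟩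
      ((subtype_specializes_iff _ _).mpr hξz) ((subtype_specializes_iff _ _).mpr hzz')
      (fun e => hne (congrArg Subtype.val e).symm) (fun e => hne' (congrArg Subtype.val e))
    rw [hD1] at h2
    exact absurd h2 (by decide)
  · -- vertical
    left
    let s := X.hom.base ξ
    have hsmax : s.asIdeal.IsMaximal := hprime s hcase
    have hsclosed : IsClosed ({s} : Set (Spec (CommRingCat.of R) : Scheme.{u})) :=
      (PrimeSpectrum.isClosed_singleton_iff_isMaximal s).mpr hsmax
    have hfib : IsClosed (X.hom.base ⁻¹' {s}) := hsclosed.preimage X.hom.continuous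
    refine ⟨s, hsmax, ?_, ?_⟩
    · rw [hDcl]
      exact closure_minimal (Set.singleton_subset_iff.mpr rfl) hfib
    · intro D' hD' hD's hDD'
      by_contra hne
      have : ¬ D' ⊆ D := fun h => hne (Set.Subset.antisymm h hDD')
      obtain ⟨y, hyD', hyD⟩ := Set.not_subset.mp this
      have hirr' : IsIrreducible (closure D') := hD'.closure
      let ξ' : X.left := hirr'.genericPoint
      have hξ' : IsGenericPoint ξ' (closure D') := by
        have := hirr'.isGenericPoint_genericPoint_closure
        rwa [closure_closure] at this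
      have h1 : ξ' ⤳ ξ := hξ'.specializes (subset_closure (hDD' hξD))
      have hy : ξ' ⤳ y := hξ'.specializes (subset_closure hyD')
      have n1 : ξ' ≠ ξ := by
        intro e
        apply hyD
        rw [hDcl]
        rw [e] at hy
        exact specializes_iff_mem_closure.mp hy
      have hfξ' : X.hom.base ξ' = s := by
        have : closure D' ⊆ X.hom.base ⁻¹' {s} := closure_minimal hD's hfib
        exact this hξ'.mem
      -- the generic point of X
      let η : X.left := genericPoint X.left
      have hη : η ⤳ ξ' := (genericPoint_spec X.left).specializes trivial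
      have hfη : (X.hom.base η).asIdeal = ⊥ := by
        have hgen : GeneralizingMap X.hom.base := Flat.generalizingMap X.hom
        let b : (Spec (CommRingCat.of R) : Scheme.{u}) := ⟨⊥, Ideal.bot_prime⟩
        have hb : b ⤳ X.hom.base η := by
          apply (PrimeSpectrum.le_iff_specializes _ _).mp
          show b.asIdeal ≤ _
          exact bot_le
        obtain ⟨η', hη', hfη'⟩ := hgen hb
        have : η' = η := by
          have h3 : η ⤳ η' := (genericPoint_spec X.left).specializes trivial
          exact (hη'.antisymm h3).eq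
        rw [← this, hfη']
      have n0 : η ≠ ξ' := by
        intro e
        rw [e, hfξ'] at hfη
        exact hcase hfη
      have h3 := three_le_dim η ξ' ξ z₀ hη h1 (hspec z₀ hz₀D) n0 n1 (Ne.symm hz₀)
      rw [hdim] at h3
      exact absurd h3 (by decide)

end Groth.Agent.Helper3.FibSurfA
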