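import Mathlib
import Groth.Prelude
import Groth.Agent.Helper3.ComplCurve
import Groth.Agent.Helper4.SN399
import Groth.Agent.Helper5.DvrDom
import Groth.Agent.Helper5.VcCenter
import Groth.Agent.Helper6.HProj

set_option autoImplicit false
set_option linter.style.haveILetI false
set_option linter.unusedSectionVars false
set_option linter.unusedVariables false
set_option linter.deprecated false
set_option linter.style.haveILetI false
set_option linter.unusedSectionVars false
set_option linter.unusedVariables false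

universe u

open CategoryTheory CategoryTheory.Limits AlgebraicGeometry TopologicalSpace Opposite IsLocalRing

namespace Groth.Agent.Helper3.LocPropA

/-- every point of a quasi-sober space is a specialization of a generic point of an irreducible
component -/
theorem exists_genericPoints_specializes {α : Type*} [TopologicalSpace α] [QuasiSober α] (b : α) :
    ∃ ζ ∈ genericPoints α, ζ ⤳ b := by
  have hZ : irreducibleComponent b ∈ irreducibleComponents α := irreducibleComponent_mem_irreducibleComponents b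
  let ζ := genericPoints.ofComponent ⟨irreducibleComponent b, hZ⟩
  refine ⟨ζ.1, ζ.2, ?_⟩
  have h : IsGenericPoint ζ.1 (irreducibleComponent b) := by
    have := genericPoints.isGenericPoint ζ
    rwa [genericPoints.component_ofComponent] at this
  rw [specializes_iff_mem_closure, h.def]
  exact mem_irreducibleComponent

/-- a generic point of an irreducible component is a maximal point -/
theorem eq_of_specializes_genericPoints {α : Type*} [TopologicalSpace α] [T0Space α] {ζ z : α}
    (hζ : ζ ∈ genericPoints α) (h : z ⤳ ζ) : z = ζ := by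
  have h1 : closure {ζ} ⊆ closure {z} := by
    rw [specializes_iff_closure_subset] at h
    exact h
  have h2 : closure {z} = closure {ζ} := by
    have hirr : IsIrreducible (closure {z}) := isIrreducible_singleton.closure
    exact (hζ.2 hirr h1).antisymm h1 |>.symm ▸ rfl
  have : IsGenericPoint z (closure {ζ}) := h2
  exact this.eq (rfl : IsGenericPoint ζ (closure {ζ}))

open Groth.Agent.Helper5.VcCenter in
/-- a specialization `ζ ⤳ b`, `ζ ≠ b`, on a locally Noetherian scheme is realized by a discrete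
valuation ring (with fraction field the residue field of `ζ`) -/
theorem exists_dvr_through {P : Scheme.{u}} [IsLocallyNoetherian P] {ζ b : P} (hsp : ζ ⤳ b)
    (hne : ζ ≠ b) :
    ∃ (K : Type u) (_ : Field K) (R : ValuationSubring K) (_ : IsDiscreteValuationRing R)
      (φ₀ : Spec (.of K) ⟶ P) (g₀ : Spec (.of R) ⟶ P),
      IsPreimmersion φ₀ ∧ φ₀ (closedPoint K) = ζ ∧ g₀ (closedPoint R) = b ∧
      Spec.map (CommRingCat.ofHom (algebraMap R K)) ≫ g₀ = φ₀ := by
  obtain ⟨𝔭, h𝔭⟩ : ζ ∈ Set.range (P.fromSpecStalk b) := by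
    rw [Scheme.range_fromSpecStalk]; exact hsp
  let O := P.presheaf.stalk b
  have h𝔭ne : 𝔭.asIdeal ≠ maximalIdeal O := by
    intro h
    apply hne
    rw [← h𝔭]
    have : 𝔭 = closedPoint O := PrimeSpectrum.ext h
    rw [this, Scheme.fromSpecStalk_closedPoint]
  let D := O ⧸ 𝔭.asIdeal
  let K := 𝔭.asIdeal.ResidueField
  haveI : IsLocalRing D := IsLocalRing.of_surjective' (Ideal.Quotient.mk 𝔭.asIdeal)
    Ideal.Quotient.mk_surjective
  haveI : IsLocalHom (Ideal.Quotient.mk 𝔭.asIdeal) :=
    IsLocalHom.of_surjective _ Ideal.Quotient.mk_surjective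
  have hD : ¬ IsField D := by
    intro hf
    have := (Ideal.Quotient.maximal_of_isField _ hf)
    exact h𝔭ne (IsLocalRing.eq_maximalIdeal this)
  obtain ⟨R, hR, hle, hlt⟩ := Groth.Agent.Helper5.Dvr.exists_dvr_dominating D hD K K
    (IntermediateField.fg_of_noetherian _)
  let α : P.presheaf.stalk b →+* K := algebraMap O K
  have hα : ∀ a, α a = algebraMap D K (Ideal.Quotient.mk _ a) := fun a => rfl
  have hdom : Dom R b α := by
    refine ⟨fun a => by rw [hα]; exact hle _, fun a ha => ?_⟩
    rw [hα]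
    refine hlt _ ?_
    rw [mem_maximalIdeal] at ha ⊢
    intro hu
    apply ha
    exact (isUnit_map_iff (Ideal.Quotient.mk 𝔭.asIdeal) a).1 hu
  refine ⟨K, inferInstance, R, hR, Spec.map (CommRingCat.ofHom α) ≫ P.fromSpecStalk b, hdom.hom,
    ?_, ?_, hdom.hom_closedPoint, hdom.generic_hom⟩
  · haveI : IsPreimmersion (Spec.map (CommRingCat.ofHom α)) :=
      IsPreimmersion.mk_SpecMap (Topology.IsEmbedding.of_subsingleton _)
        (Ideal.surjectiveOnStalks_residueField 𝔭.asIdeal)
    infer_instance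
  · rw [Scheme.Hom.comp_apply, ← h𝔭]
    congr 1
    apply PrimeSpectrum.ext
    change Ideal.comap α (maximalIdeal K) = 𝔭.asIdeal
    rw [IsLocalRing.maximalIdeal_eq_bot, ← RingHom.ker_eq_comap_bot]
    exact Ideal.ker_algebraMap_residueField _

/-- the local lifting hypothesis at `y` -/
def Hyp {X Y : Scheme.{u}} (f : X ⟶ Y) (y : Y) : Prop :=
  ∀ (K : Type u) [Field K] (R : ValuationSubring K), IsDiscreteValuationRing R →
    ∀ (φ : Spec (.of K) ⟶ X) (g : Spec (.of R) ⟶ Y), IsPreimmersion φ →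
      (∀ x' : X, x' ⤳ φ (closedPoint K) → x' = φ (closedPoint K)) → g (closedPoint R) = y →
      Spec.map (CommRingCat.ofHom (algebraMap R K)) ≫ g = φ ≫ f →
      ∃ l : Spec (.of R) ⟶ X, l ≫ f = g ∧ Spec.map (CommRingCat.ofHom (algebraMap R K)) ≫ l = φ

theorem boundary_false {X Y X' P : Scheme.{u}} [IsNoetherian P]
    (f : X ⟶ Y) (π : X' ⟶ X) [IsProper π] (j : X' ⟶ P) [IsOpenImmersion j] (p : P ⟶ Y)
    [IsSeparated p] (hjp : j ≫ p = π ≫ f) (U : X.Opens) (u : U.toScheme ⟶ X') [IsOpenImmersion u]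
    (hu : u ≫ π = U.ι) (hdense : Dense (Set.range (u ≫ j))) (y : Y) (h : Hyp f y) (b : P)
    (hb : b ∉ Set.range j) (hpb : p b = y) : False := by
  obtain ⟨ζ, hζ, hζb⟩ := exists_genericPoints_specializes b
  have hζw : ζ ∈ Set.range (u ≫ j) :=
    Groth.Agent.Helper3.ComplCurve.genericPoints_subset_of_dense _
      (u ≫ j).isOpenEmbedding.isOpen_range hdense hζ
  have hne : ζ ≠ b := by
    rintro rfl
    obtain ⟨z, hz⟩ := hζw
    exact hb ⟨u z, by rw [← hz, Scheme.Hom.comp_apply]⟩
  obtain ⟨K, _, R, hR, φ₀, g₀, hφ₀, hφ₀ζ, hg₀b, hgen⟩ := exists_dvr_through hζb hne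
  have hpt : ∀ x : Spec (.of K), x = closedPoint K := fun x => Subsingleton.elim _ _
  have hrange : Set.range φ₀ ⊆ Set.range (u ≫ j) := by
    rintro _ ⟨x, rfl⟩
    rw [hpt x, hφ₀ζ]
    exact hζw
  let φ₁ : Spec (.of K) ⟶ U.toScheme := IsOpenImmersion.lift (u ≫ j) φ₀ hrange
  have hφ₁ : φ₁ ≫ u ≫ j = φ₀ := IsOpenImmersion.lift_fac _ _ _
  haveI : IsPreimmersion (φ₁ ≫ (u ≫ j)) := by rw [hφ₁]; exact hφ₀
  haveI : IsPreimmersion φ₁ := IsPreimmersion.of_comp φ₁ (u ≫ j)
  let φ : Spec (.of K) ⟶ X := φ₁ ≫ U.ι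
  let η : U.toScheme := φ₁ (closedPoint K)
  have hηζ : (u ≫ j) η = ζ := by
    rw [← hφ₀ζ, ← hφ₁]
    rfl
  have hmax : ∀ x' : X, x' ⤳ φ (closedPoint K) → x' = φ (closedPoint K) := by
    intro x' hx'
    have hφη : φ (closedPoint K) = η.1 := rfl
    rw [hφη] at hx' ⊢
    have hx'U : x' ∈ U := hx'.mem_open U.isOpen η.2
    let x'' : U.toScheme := ⟨x', hx'U⟩
    have hsp : x'' ⤳ η :=
      (Topology.IsInducing.subtypeVal.specializes_iff (x := x'') (y := η)).1 hx'
    have hsp2 : (u ≫ j) x'' ⤳ (u ≫ j) η := hsp.map (u ≫ j).continuous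
    rw [hηζ] at hsp2
    have := eq_of_specializes_genericPoints hζ hsp2
    rw [← hηζ] at this
    have h3 := (u ≫ j).isOpenEmbedding.injective this
    exact congrArg Subtype.val h3
  let g : Spec (.of R) ⟶ Y := g₀ ≫ p
  have hgy : g (closedPoint R) = y := by
    rw [Scheme.Hom.comp_apply, hg₀b, hpb]
  have hsq : Spec.map (CommRingCat.ofHom (algebraMap R K)) ≫ g = φ ≫ f := by
    rw [← Category.assoc, hgen, ← hφ₁]
    simp only [Category.assoc, φ]
    rw [hjp, ← hu]
    simp only [Category.assoc]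
  obtain ⟨l, hl1, hl2⟩ := h K R hR φ g inferInstance hmax hgy hsq
  -- lift to `X'`
  have hv : ValuativeCriterion π := by
    have : IsProper π := inferInstance
    rw [IsProper.eq_valuativeCriterion] at this
    exact this.1.1.1
  let S : ValuativeCommSq π :=
    { R := R, K := K, i₁ := φ₁ ≫ u, i₂ := l, commSq := ⟨by
        rw [Category.assoc, hu, hl2]⟩ }
  obtain ⟨⟨l', hl'1, hl'2⟩⟩ := (hv.existence S).exists_lift
  -- uniqueness in `P`
  have hun := IsSeparated.valuativeCriterion p
  let S' : ValuativeCommSq p :=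
    { R := R, K := K, i₁ := φ₀, i₂ := g, commSq := ⟨hgen.symm ▸ rfl⟩ }
  have := hun S'
  let l₁ : S'.commSq.LiftStruct := ⟨g₀, hgen, rfl⟩
  let l₂ : S'.commSq.LiftStruct := ⟨l' ≫ j, by
    rw [← Category.assoc]
    erw [hl'1]
    rw [Category.assoc, hφ₁], by
    rw [Category.assoc, hjp, ← Category.assoc]
    erw [hl'2]
    exact hl1⟩
  have heq : g₀ = l' ≫ j := congrArg CommSq.LiftStruct.l (Subsingleton.elim l₁ l₂)
  apply hb
  refine ⟨l' (closedPoint R), ?_⟩
  rw [← hg₀b, heq, Scheme.Hom.comp_apply]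

end Groth.Agent.Helper3.LocPropA
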