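import Mathlib
import Groth.Prelude
import Groth.Agent.Helper3.LocPropA

set_option autoImplicit false
set_option linter.style.haveILetI false
set_option linter.unusedSectionVars false
set_option linter.unusedVariables false
set_option linter.deprecated false
set_option linter.style.haveILetI false
set_option linter.unusedSectionVars false
set_option linter.unusedVariables false

universe u

open CategoryTheory CategoryTheory.Limits AlgebraicGeometry TopologicalSpace Opposite IsLocalRing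

namespace Groth.Agent.Helper3.LocPropB

open Groth.Agent.Helper3.LocPropA

/-- a section of `π` over an open `U` over which `π` is an isomorphism is an open immersion -/
theorem isOpenImmersion_section {X X' : Scheme.{u}} (π : X' ⟶ X) (U : X.Opens) [IsIso (π ∣_ U)]
    (u : U.toScheme ⟶ X') (hu : u ≫ π = U.ι) : IsOpenImmersion u := by
  have hrange : Set.range u ⊆ Set.range (π ⁻¹ᵁ U).ι := by
    rintro _ ⟨x, rfl⟩
    rw [Scheme.Opens.range_ι]
    show π (u x) ∈ U
    rw [← Scheme.Hom.comp_apply, hu]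
    exact x.2
  let u' : U.toScheme ⟶ (π ⁻¹ᵁ U).toScheme := IsOpenImmersion.lift (π ⁻¹ᵁ U).ι u hrange
  have hu' : u' ≫ (π ⁻¹ᵁ U).ι = u := IsOpenImmersion.lift_fac _ _ _
  have h1 : u' ≫ (π ∣_ U) = 𝟙 _ := by
    rw [← cancel_mono U.ι, Category.assoc, morphismRestrict_ι, ← Category.assoc, hu', hu,
      Category.id_comp]
  have h2 : u' = inv (π ∣_ U) := by
    rw [← Category.comp_id u', ← IsIso.hom_inv_id (π ∣_ U), ← Category.assoc, h1, Category.id_comp]
  haveI : IsIso u' := by rw [h2]; infer_instance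
  rw [← hu']
  infer_instance

theorem isProper_restrict_of_cover {X Y X' P : Scheme.{u}} (f : X ⟶ Y) [IsSeparated f]
    [LocallyOfFiniteType f] (π : X' ⟶ X) [Surjective π] (j : X' ⟶ P) [IsOpenImmersion j]
    (p : P ⟶ Y) [IsProper p] (hjp : j ≫ p = π ≫ f) (Uo : Y.Opens)
    (hUo : ∀ b : P, p b ∈ Uo → b ∈ Set.range j) : IsProper (f ∣_ Uo) := by
  haveI : IsIso (j ∣_ (p ⁻¹ᵁ Uo)) := by
    rw [isIso_iff_isOpenImmersion_and_surjective]
    refine ⟨inferInstance, ⟨fun z => ?_⟩⟩
    obtain ⟨x', hx'⟩ := hUo z.1 z.2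
    refine ⟨⟨x', ?_⟩, ?_⟩
    · show j x' ∈ p ⁻¹ᵁ Uo
      rw [hx']; exact z.2
    · apply Subtype.ext
      rw [morphismRestrict_base_coe]
      exact hx'
  haveI : UniversallyClosed (p ∣_ Uo) :=
    MorphismProperty.of_isPullback (isPullback_morphismRestrict p Uo).flip
      (inferInstance : UniversallyClosed p)
  haveI hci : IsClosedImmersion (j ∣_ (p ⁻¹ᵁ Uo)) := IsClosedImmersion.instOfIsIsoScheme _
  haveI : UniversallyClosed (j ∣_ (p ⁻¹ᵁ Uo)) := instUniversallyClosedOfIsClosedImmersion _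
  have h1 : UniversallyClosed (j ∣_ (p ⁻¹ᵁ Uo) ≫ p ∣_ Uo) := universallyClosedTypeComp _ _
  have h2 : UniversallyClosed ((j ≫ p) ∣_ Uo) := by rw [morphismRestrict_comp]; exact h1
  have h3 : UniversallyClosed ((π ≫ f) ∣_ Uo) := by rw [← hjp]; exact h2
  have h4 : UniversallyClosed (π ∣_ (f ⁻¹ᵁ Uo) ≫ f ∣_ Uo) := by
    rw [← morphismRestrict_comp]; exact h3
  haveI : Surjective (π ∣_ (f ⁻¹ᵁ Uo)) :=
    MorphismProperty.of_isPullback (isPullback_morphismRestrict π (f ⁻¹ᵁ Uo)).flip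
      (inferInstance : Surjective π)
  haveI := h4
  haveI : UniversallyClosed (f ∣_ Uo) :=
    UniversallyClosed.of_comp_surjective (π ∣_ (f ⁻¹ᵁ Uo)) (f ∣_ Uo)
  exact { }

/-- **Local valuative criterion of properness, Noetherian base.** -/
theorem core_noeth {X Y : Scheme.{u}} [IsNoetherian Y] (f : X ⟶ Y) [IsSeparated f]
    [LocallyOfFiniteType f] [QuasiCompact f] (y : Y) (h : Hyp f y) :
    ∃ U : Y.Opens, y ∈ U ∧ IsProper (f ∣_ U) := by
  haveI : IsNoetherian X :=
    { toIsLocallyNoetherian := LocallyOfFiniteType.isLocallyNoetherian f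
      toCompactSpace := QuasiCompact.compactSpace_of_compactSpace f }
  have hirr : (irreducibleComponents X).Finite := NoetherianSpace.finite_irreducibleComponents
  obtain ⟨M, X', π, q, hq, hcomm, hπ, hsurj, U, hUd, hiso, u, hu, hudense, husd, huqc⟩ :=
    Groth.Agent.Helper4.SN399.chow_strong f hirr
  haveI : IsNoetherian X' :=
    { toIsLocallyNoetherian := LocallyOfFiniteType.isLocallyNoetherian π
      toCompactSpace := QuasiCompact.compactSpace_of_compactSpace π }
  haveI : QuasiCompact q := inferInstance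
  let P : Scheme.{u} := q.image
  let j : X' ⟶ P := q.toImage
  let c : P ⟶ CohB1.ProjSpaceOver M Y := q.imageι
  let p : P ⟶ Y := c ≫ CohB1.ProjSpaceOver.toBase M Y
  haveI := Groth.Agent.Helper6.HProj.isProper_toBase M Y
  haveI : IsProper p := inferInstance
  haveI : IsNoetherian P :=
    { toIsLocallyNoetherian := LocallyOfFiniteType.isLocallyNoetherian p
      toCompactSpace := QuasiCompact.compactSpace_of_compactSpace p }
  have hjp : j ≫ p = π ≫ f := by
    rw [← Category.assoc, q.toImage_imageι, hcomm]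
  haveI : IsOpenImmersion u := isOpenImmersion_section π U u hu
  have hdense : Dense (Set.range (u ≫ j)) := by
    have h1 : DenseRange j := q.toImage.denseRange
    have h2 := h1.comp hudense j.continuous
    exact h2
  let T : Set Y := p '' (Set.range j)ᶜ
  have hT : IsClosed T := p.isClosedMap _ (j.isOpenEmbedding.isOpen_range.isClosed_compl)
  refine ⟨⟨Tᶜ, hT.isOpen_compl⟩, ?_, ?_⟩
  · rintro ⟨b, hb, hpb⟩
    exact boundary_false f π j p hjp U u hu hdense y h b hb hpb
  · haveI : Surjective π := ⟨hsurj⟩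
    apply isProper_restrict_of_cover f π j p hjp
    intro b hb
    by_contra hbr
    exact hb ⟨b, hbr, rfl⟩

/-- the hypothesis restricts to open subschemes of the base -/
theorem hyp_restrict {X Y : Scheme.{u}} (f : X ⟶ Y) (V : Y.Opens) (y : Y) (hy : y ∈ V)
    (h : Hyp f y) : Hyp (f ∣_ V) ⟨y, hy⟩ := by
  intro K _ R hR φ' g' hφ' hmax hg' hsq
  let φ : Spec (.of K) ⟶ X := φ' ≫ (f ⁻¹ᵁ V).ι
  let g : Spec (.of R) ⟶ Y := g' ≫ V.ι
  have hφpt : φ (closedPoint K) = (φ' (closedPoint K)).1 := rfl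
  have hmax' : ∀ x' : X, x' ⤳ φ (closedPoint K) → x' = φ (closedPoint K) := by
    intro x' hx'
    rw [hφpt] at hx' ⊢
    have hx'V : x' ∈ f ⁻¹ᵁ V := hx'.mem_open (f ⁻¹ᵁ V).isOpen (φ' (closedPoint K)).2
    let x'' : (f ⁻¹ᵁ V).toScheme := ⟨x', hx'V⟩
    have hsp : x'' ⤳ φ' (closedPoint K) :=
      (Topology.IsInducing.subtypeVal.specializes_iff (x := x'') (y := φ' (closedPoint K))).1 hx'
    exact congrArg Subtype.val (hmax x'' hsp)
  have hgy : g (closedPoint R) = y := by
    show (g' (closedPoint R)).1 = y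
    rw [hg']
  have hsq' : Spec.map (CommRingCat.ofHom (algebraMap R K)) ≫ g = φ ≫ f := by
    simp only [φ, g, Category.assoc]
    rw [← morphismRestrict_ι, ← Category.assoc, hsq, Category.assoc]
  obtain ⟨l, hl1, hl2⟩ := h K R hR φ g inferInstance hmax' hgy hsq'
  have hrange : Set.range l ⊆ Set.range (f ⁻¹ᵁ V).ι := by
    rintro _ ⟨z, rfl⟩
    rw [Scheme.Opens.range_ι]
    show f (l z) ∈ V
    rw [← Scheme.Hom.comp_apply, hl1]
    exact (g' z).2
  let l' : Spec (.of R) ⟶ (f ⁻¹ᵁ V).toScheme := IsOpenImmersion.lift (f ⁻¹ᵁ V).ι l hrange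
  have hl' : l' ≫ (f ⁻¹ᵁ V).ι = l := IsOpenImmersion.lift_fac _ _ _
  refine ⟨l', ?_, ?_⟩
  · rw [← cancel_mono V.ι, Category.assoc, morphismRestrict_ι, ← Category.assoc, hl', hl1]
  · rw [← cancel_mono (f ⁻¹ᵁ V).ι, Category.assoc, hl', hl2]

/-- **Local valuative criterion of properness.** -/
theorem core {X Y : Scheme.{u}} [IsLocallyNoetherian Y] (f : X ⟶ Y) [IsSeparated f]
    [LocallyOfFiniteType f] [QuasiCompact f] (y : Y) (h : Hyp f y) :
    ∃ U : Y.Opens, y ∈ U ∧ IsProper (f ∣_ U) := by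
  obtain ⟨V, hV, hyV⟩ : ∃ V : Y.Opens, IsAffineOpen V ∧ y ∈ V := by
    obtain ⟨_, ⟨V, hV, rfl⟩, hyV, -⟩ :=
      Y.isBasis_affineOpens.exists_subset_of_mem_open (Set.mem_univ y) isOpen_univ
    exact ⟨V, hV, hyV⟩
  haveI : IsAffine V.toScheme := hV
  haveI : IsLocallyNoetherian V.toScheme := isLocallyNoetherian_of_isOpenImmersion V.ι
  haveI : IsNoetherian V.toScheme := { }
  obtain ⟨U', hyU', hprop⟩ := core_noeth (f ∣_ V) ⟨y, hyV⟩ (hyp_restrict f V y hyV h)
  refine ⟨V.ι ''ᵁ U', ⟨⟨y, hyV⟩, hyU', rfl⟩, ?_⟩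
  exact (MorphismProperty.arrow_mk_iso_iff @IsProper (morphismRestrictRestrict f V U')).1 hprop

end Groth.Agent.Helper3.LocPropB
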