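import Mathlib
import Groth.Prelude
import Groth.Agent.Helper3.IdemOpen

set_option autoImplicit false
set_option linter.style.haveILetI false
set_option linter.unusedSectionVars false
set_option linter.unusedVariables false
set_option linter.deprecated false
set_option linter.style.haveILetI false
set_option linter.unusedSectionVars false
set_option linter.unusedVariables false

open CategoryTheory CategoryTheory.Limits AlgebraicGeometry Opposite PrimeSpectrum

universe u

namespace Groth.Agent.Helper3.SteinH

/-- An idempotent whose basic open misses `V(J)` for `J` in the Jacobson radical is zero. -/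
theorem idem_eq_zero_of_disjoint {B : Type u} [CommRing B] (J : Ideal B)
    (hJ : J ≤ Ideal.jacobson ⊥) (e : B) (he : IsIdempotentElem e)
    (h : (basicOpen e : Set (PrimeSpectrum B)) ∩ zeroLocus (J : Set B) = ∅) : e = 0 := by
  have hmem : e ∈ Ideal.jacobson (⊥ : Ideal B) := by
    rw [Ideal.jacobson, Ideal.mem_sInf]
    rintro M ⟨-, hM⟩
    by_contra heM
    have hMJ : J ≤ M := by
      refine hJ.trans ?_
      exact sInf_le ⟨bot_le, hM⟩
    have : (⟨M, hM.isPrime⟩ : PrimeSpectrum B) ∈
        (basicOpen e : Set (PrimeSpectrum B)) ∩ zeroLocus (J : Set B) :=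
      ⟨heM, fun x hx => hMJ hx⟩
    rw [h] at this
    exact this
  have hu : IsUnit (1 - e) := by
    have := (Ideal.mem_jacobson_bot.mp hmem) (-1)
    have e1 : e * -1 + 1 = 1 - e := by ring
    rwa [e1] at this
  have h0 : e * (1 - e) = 0 := by rw [mul_sub, mul_one, he.eq, sub_self]
  exact (hu.mul_left_eq_zero).mp h0

theorem connectedSpace_iff_isConnected_zeroLocus (A : Type u) [CommRing A] (I : Ideal A)
    [hA : HenselianRing A I] (B : Type u) [CommRing B] [Algebra A B] [Algebra.IsIntegral A B] :
    ConnectedSpace (PrimeSpectrum B) ↔
      _root_.IsConnected (zeroLocus ((I.map (algebraMap A B) : Ideal B) : Set B)) := by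
  set J := I.map (algebraMap A B) with hJdef
  have hJ : J ≤ Ideal.jacobson ⊥ :=
    Groth.Agent.Helper3.HensTFAE.map_le_jacobson_of_isIntegral I hA.jac
  constructor
  · intro hconn
    have hne : (zeroLocus (J : Set B)).Nonempty := by
      obtain ⟨P⟩ := hconn.toNonempty
      haveI : Nontrivial B := P.nontrivial
      have hJne : J ≠ ⊤ := by
        intro htop
        have h1 : (1 : B) ∈ Ideal.jacobson (⊥ : Ideal B) := hJ (htop ▸ Submodule.mem_top)
        have h2 := (Ideal.mem_jacobson_bot.mp h1) (-1)
        have e1 : (1 : B) * -1 + 1 = 0 := by ring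
        rw [e1] at h2
        exact not_isUnit_zero h2
      obtain ⟨M, hM, hJM⟩ := Ideal.exists_le_maximal J hJne
      exact ⟨⟨M, hM.isPrime⟩, fun x hx => hJM hx⟩
    refine ⟨hne, ?_⟩
    rw [isPreconnected_iff_subset_of_fully_disjoint_closed (isClosed_zeroLocus _)]
    intro u v hu hv huv hdis
    have hcl : IsClosed (vᶜ ∩ zeroLocus (J : Set B)) := by
      have : vᶜ ∩ zeroLocus (J : Set B) = u ∩ zeroLocus (J : Set B) := by
        ext P
        constructor
        · rintro ⟨hPv, hPJ⟩
          rcases huv hPJ with h | h
          · exact ⟨h, hPJ⟩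
          · exact absurd h hPv
        · rintro ⟨hPu, hPJ⟩
          exact ⟨fun hPv => Set.disjoint_left.mp hdis hPu hPv, hPJ⟩
      rw [this]
      exact hu.inter (isClosed_zeroLocus _)
    obtain ⟨e, he, heU, hUe⟩ := Groth.Agent.Helper3.IdemOpen.exists_idem A I B vᶜ
      hv.isOpen_compl hcl
    have hclopen : IsClopen (basicOpen e : Set (PrimeSpectrum B)) :=
      PrimeSpectrum.isClopen_iff.mpr ⟨e, he, rfl⟩
    rcases _root_.isClopen_iff.mp hclopen with h0 | h1
    · right
      intro P hP
      rcases huv hP with h | h
      · exfalso
        have : P ∈ vᶜ ∩ zeroLocus (J : Set B) :=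
          ⟨fun hPv => Set.disjoint_left.mp hdis h hPv, hP⟩
        have := hUe this
        rw [h0] at this
        exact this
      · exact h
    · left
      intro P hP
      rcases huv hP with h | h
      · exact h
      · exfalso
        have : P ∈ (basicOpen e : Set (PrimeSpectrum B)) := by rw [h1]; trivial
        exact heU this h
  · rintro ⟨hne, hpre⟩
    obtain ⟨P₀, hP₀⟩ := hne
    haveI : Nonempty (PrimeSpectrum B) := ⟨P₀⟩
    haveI : PreconnectedSpace (PrimeSpectrum B) := by
      rw [preconnectedSpace_iff_clopen]
      intro s hs
      obtain ⟨e, he, rfl⟩ := PrimeSpectrum.isClopen_iff.mp hs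
      by_cases hint : (zeroLocus (J : Set B) ∩ (basicOpen e : Set (PrimeSpectrum B))).Nonempty
      · right
        have hsub := hpre.subset_isClopen hs hint
        have h1e : IsIdempotentElem (1 - e) := he.one_sub
        have hz : (1 - e) = 0 := by
          refine idem_eq_zero_of_disjoint J hJ (1 - e) h1e ?_
          rw [Set.eq_empty_iff_forall_notMem]
          rintro P ⟨hP1, hP2⟩
          have hPe : P ∈ (basicOpen e : Set (PrimeSpectrum B)) := hsub hP2
          apply hP1
          have : e * (1 - e) = 0 := by rw [mul_sub, mul_one, he.eq, sub_self]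
          have hmem : e * (1 - e) ∈ P.asIdeal := by rw [this]; exact P.asIdeal.zero_mem
          rcases P.isPrime.mem_or_mem hmem with h | h
          · exact absurd h hPe
          · exact h
        have : e = 1 := by
          have := sub_eq_zero.mp hz
          exact this.symm
        rw [this]
        simp
      · left
        have hz : e = 0 := by
          refine idem_eq_zero_of_disjoint J hJ e he ?_
          rw [Set.not_nonempty_iff_eq_empty] at hint
          rw [Set.inter_comm]
          exact hint
        rw [hz]
        simp
    exact ConnectedSpace.mk inferInstance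

end Groth.Agent.Helper3.SteinH
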