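import Mathlib
import Groth.Prelude
import Groth.Agent.Helper3.SteinH1
import Groth.Agent.Helper3.SteinG5

set_option autoImplicit false
set_option linter.style.haveILetI false
set_option linter.unusedSectionVars false
set_option linter.unusedVariables false
set_option linter.deprecated false
set_option linter.style.haveILetI false
set_option linter.unusedSectionVars false
set_option linter.unusedVariables false

open CategoryTheory CategoryTheory.Limits AlgebraicGeometry Opposite PrimeSpectrum

universe u

namespace Groth.Agent.Helper3.SteinH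

/-- A closed surjective morphism with geometrically connected fibres: source connected iff
target connected. -/
theorem connectedSpace_iff_of_geometricallyConnected {P Q : Scheme.{u}} (g : P ⟶ Q)
    [GeometricallyConnected g] (hg : IsClosedMap g.base) :
    ConnectedSpace ↥P ↔ ConnectedSpace ↥Q := by
  have hsurj : Function.Surjective g.base := g.surjective
  constructor
  · intro h
    exact hsurj.connectedSpace g.continuous
  · intro h
    have hco : Topology.IsCoinducing g.base :=
      (hg.isQuotientMap g.continuous hsurj).isCoinducing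
    have := Topology.IsCoinducing.isConnected_preimage_of_isClosed
      (f := g.base) (fun x => g.isConnected_preimage_singleton x) hco isClosed_univ isConnected_univ
    rw [Set.preimage_univ] at this
    exact connectedSpace_iff_univ.mpr this

/-- Scheme-level version of `connectedSpace_iff_isConnected_zeroLocus`. -/
theorem connectedSpace_iff_isConnected_preimage (A : Type u) [CommRing A] (I : Ideal A)
    [hA : HenselianRing A I] {N : Scheme.{u}} (ν : N ⟶ Spec (CommRingCat.of A))
    [IsIntegralHom ν] :
    ConnectedSpace ↥N ↔
      _root_.IsConnected (ν.base ⁻¹' PrimeSpectrum.zeroLocus (I : Set A)) := by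
  haveI : IsAffine N := isAffine_of_isAffineHom ν
  let φ : CommRingCat.of A ⟶ Γ(N, ⊤) := (Scheme.ΓSpecIso (CommRingCat.of A)).inv ≫ ν.appTop
  have hν : ν = N.isoSpec.hom ≫ Spec.map φ := by
    have h1 : ν ≫ (Spec (CommRingCat.of A)).isoSpec.hom = N.isoSpec.hom ≫ Spec.map ν.appTop :=
      Scheme.toSpecΓ_naturality ν
    rw [Spec.map_comp, ← Category.assoc, ← h1, Category.assoc, ← Scheme.isoSpec_Spec_inv,
      Iso.hom_inv_id, Category.comp_id]
  haveI : IsIntegralHom (Spec.map φ) := by
    have : IsIntegralHom (N.isoSpec.hom ≫ Spec.map φ) := by rw [← hν]; infer_instance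
    exact (MorphismProperty.cancel_left_of_respectsIso @IsIntegralHom N.isoSpec.hom _).mp this
  have hφint : φ.hom.IsIntegral := (IsIntegralHom.SpecMap_iff).mp inferInstance
  algebraize [φ.hom]
  haveI : Algebra.IsIntegral A Γ(N, ⊤) := algebraMap_isIntegral_iff.mp hφint
  let hh : ↥N ≃ₜ PrimeSpectrum Γ(N, ⊤) := N.isoSpec.hom.homeomorph
  have hpre : ν.base ⁻¹' PrimeSpectrum.zeroLocus (I : Set A) =
      hh ⁻¹' PrimeSpectrum.zeroLocus ((I.map (algebraMap A Γ(N, ⊤)) : Ideal _) : Set _) := by
    have : PrimeSpectrum.zeroLocus ((I.map (algebraMap A Γ(N, ⊤)) : Ideal _) : Set _) =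
        PrimeSpectrum.comap (algebraMap A Γ(N, ⊤)) ⁻¹' PrimeSpectrum.zeroLocus (I : Set A) := by
      rw [PrimeSpectrum.preimage_comap_zeroLocus, Ideal.map, PrimeSpectrum.zeroLocus_span]
    rw [this, ← Set.preimage_comp]
    congr 1
    ext x : 1
    rw [hν]
    rfl
  rw [hpre, Homeomorph.isConnected_preimage]
  rw [← connectedSpace_iff_isConnected_zeroLocus A I Γ(N, ⊤)]
  constructor
  · intro h
    exact hh.surjective.connectedSpace hh.continuous
  · intro h
    exact hh.symm.surjective.connectedSpace hh.symm.continuous

theorem main (A : Type u) [CommRing A] (I : Ideal A) [HenselianRing A I] {X : Scheme.{u}}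
    (f : X ⟶ Spec (CommRingCat.of A)) [IsProper f] :
    ConnectedSpace ↥X ↔
      ConnectedSpace ↥(pullback f (Spec.map (CommRingCat.ofHom (Ideal.Quotient.mk I)))) := by
  set i₀ := Spec.map (CommRingCat.ofHom (Ideal.Quotient.mk I)) with hi₀
  let p := f.toNormalization
  let ν := f.fromNormalization
  have hw : p ≫ ν = f := f.toNormalization_fromNormalization
  haveI : IsProper (p ≫ ν) := by rw [hw]; infer_instance
  haveI : IsProper p := IsProper.of_comp p ν
  haveI : Surjective p := inferInstance
  haveI hgc : GeometricallyConnected p :=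
    Groth.Agent.Helper3.SteinG.geometricallyConnected_of_isIso_app p
      (fun U => Groth.Agent.S1340.result f U)
  -- the base change of `p`
  let q : pullback f i₀ ⟶ pullback ν i₀ :=
    pullback.lift (pullback.fst f i₀ ≫ p) (pullback.snd f i₀)
      (by rw [Category.assoc, hw, pullback.condition])
  have e1 : q ≫ pullback.snd ν i₀ = pullback.snd f i₀ := pullback.lift_snd _ _ _
  have e3 : q ≫ pullback.fst ν i₀ = pullback.fst f i₀ ≫ p := pullback.lift_fst _ _ _
  have outer : IsPullback (q ≫ pullback.snd ν i₀) (pullback.fst f i₀) i₀ (p ≫ ν) := by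
    rw [e1, hw]; exact (IsPullback.of_hasPullback f i₀).flip
  have left : IsPullback q (pullback.fst f i₀) (pullback.fst ν i₀) p :=
    IsPullback.of_right outer e3 (IsPullback.of_hasPullback ν i₀).flip
  haveI : GeometricallyConnected q :=
    MorphismProperty.of_isPullback (P := @GeometricallyConnected) left.flip hgc
  haveI : IsProper q := MorphismProperty.of_isPullback (P := @IsProper) left.flip inferInstance
  rw [connectedSpace_iff_of_geometricallyConnected p p.isClosedMap,
    connectedSpace_iff_of_geometricallyConnected q q.isClosedMap,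
    connectedSpace_iff_isConnected_preimage A I ν]
  -- `pullback ν i₀ → N` is a closed embedding onto `ν⁻¹ V(I)`
  have hrange : Set.range (pullback.fst ν i₀).base =
      ν.base ⁻¹' PrimeSpectrum.zeroLocus (I : Set A) := by
    have h1 := Scheme.Pullback.range_fst ν i₀
    have h2 : Set.range i₀.base = PrimeSpectrum.zeroLocus (I : Set A) := by
      have := range_comap_of_surjective (A ⧸ I) (Ideal.Quotient.mk I)
        Ideal.Quotient.mk_surjective
      rw [Ideal.mk_ker] at this
      exact this
    rw [← h2]
    exact h1
  haveI : IsClosedImmersion i₀ :=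
    IsClosedImmersion.spec_of_surjective _ Ideal.Quotient.mk_surjective
  have hemb : Topology.IsEmbedding (pullback.fst ν i₀).base :=
    (pullback.fst ν i₀).isClosedEmbedding.isEmbedding
  rw [connectedSpace_iff_univ, ← hrange, ← Set.image_univ]
  constructor
  · rintro ⟨hne, hp⟩
    exact ⟨Set.image_nonempty.mp hne, hemb.isInducing.isPreconnected_image.mp hp⟩
  · rintro ⟨hne, hp⟩
    exact ⟨hne.image _, hemb.isInducing.isPreconnected_image.mpr hp⟩

end Groth.Agent.Helper3.SteinH
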