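import Mathlib
import Groth.Prelude
import Groth.Agent.Helper3.LocPropB
import Groth.Agent.Helper4.SN405

set_option autoImplicit false
set_option linter.style.haveILetI false
set_option linter.unusedSectionVars false
set_option linter.unusedVariables false
set_option linter.deprecated false
set_option linter.style.haveILetI false
set_option linter.unusedSectionVars false
set_option linter.unusedVariables false

universe u

open CategoryTheory CategoryTheory.Limits AlgebraicGeometry TopologicalSpace Opposite IsLocalRing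

namespace Groth.Agent.Helper3.LocPropE

open Groth.Agent.Helper3.LocPropA Groth.Agent.Helper3.LocPropB

/-- In a quasi-sober `T₀` space with finitely many irreducible components, a set stable under
specialization and generization is closed. -/
theorem isClosed_of_stable {α : Type*} [TopologicalSpace α] [QuasiSober α] [T0Space α]
    (hfin : (irreducibleComponents α).Finite) (G : Set α)
    (hsp : ∀ x y, x ⤳ y → x ∈ G → y ∈ G) (hgen : ∀ x y, x ⤳ y → y ∈ G → x ∈ G) :
    IsClosed G := by
  have hG : G = ⋃ ξ ∈ (genericPoints α ∩ G), closure {ξ} := by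
    ext x
    simp only [Set.mem_iUnion, exists_prop]
    constructor
    · intro hx
      obtain ⟨ζ, hζ, hζx⟩ := exists_genericPoints_specializes x
      exact ⟨ζ, ⟨hζ, hgen ζ x hζx hx⟩, specializes_iff_mem_closure.1 hζx⟩
    · rintro ⟨ξ, ⟨-, hξG⟩, hx⟩
      exact hsp ξ x (specializes_iff_mem_closure.2 hx) hξG
  rw [hG]
  exact ((genericPoints.finite hfin).subset Set.inter_subset_left).isClosed_biUnion
    (fun _ _ => isClosed_closure)

theorem isClopen_of_stable {α : Type*} [TopologicalSpace α] [QuasiSober α] [T0Space α]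
    (hfin : (irreducibleComponents α).Finite) (G : Set α)
    (hsp : ∀ x y, x ⤳ y → x ∈ G → y ∈ G) (hgen : ∀ x y, x ⤳ y → y ∈ G → x ∈ G) :
    IsClopen G := by
  refine ⟨isClosed_of_stable hfin G hsp hgen, ?_⟩
  rw [← isClosed_compl_iff]
  exact isClosed_of_stable hfin Gᶜ (fun x y hxy hx hy => hx (hgen x y hxy hy))
    (fun x y hxy hy hx => hy (hsp x y hxy hx))

/-- **Properness over a Noetherian henselian local ring from properness of the closed fibre.** -/
theorem proper_of_henselian (R : Type u) [CommRing R] [IsNoetherianRing R] [HenselianLocalRing R]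
    {X : Scheme.{u}} (f : X ⟶ Spec (CommRingCat.of R)) [IsSeparated f] [LocallyOfFiniteType f]
    [QuasiCompact f] (hgen : GeneralizingMap f)
    (F : Scheme.{u}) (i : F ⟶ X) (hi : Set.range i = f ⁻¹' {closedPoint R}) [IsProper (i ≫ f)]
    (hne : ∃ x, f x = closedPoint R)
    (hconn : ∀ t : Spec (CommRingCat.of R), t ≠ closedPoint R → _root_.IsPreconnected (f ⁻¹' {t})) :
    IsProper f := by
  set s : Spec (CommRingCat.of R) := closedPoint R with hs
  haveI : IsNoetherian (Spec (CommRingCat.of R)) := inferInstance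
  haveI : IsNoetherian X :=
    { toIsLocallyNoetherian := LocallyOfFiniteType.isLocallyNoetherian f
      toCompactSpace := QuasiCompact.compactSpace_of_compactSpace f }
  have hirr : (irreducibleComponents X).Finite := NoetherianSpace.finite_irreducibleComponents
  obtain ⟨M, X', π, q, hq, hcomm, hπ, hsurj, U, hUd, hiso, u, hu, hudense, husd, huqc⟩ :=
    Groth.Agent.Helper4.SN399.chow_strong f hirr
  haveI : IsNoetherian X' :=
    { toIsLocallyNoetherian := LocallyOfFiniteType.isLocallyNoetherian π
      toCompactSpace := QuasiCompact.compactSpace_of_compactSpace π }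
  haveI : QuasiCompact q := inferInstance
  let P : Scheme.{u} := q.image
  let j : X' ⟶ P := q.toImage
  let c : P ⟶ CohB1.ProjSpaceOver M (Spec (CommRingCat.of R)) := q.imageι
  let p : P ⟶ Spec (CommRingCat.of R) := c ≫ CohB1.ProjSpaceOver.toBase M _
  haveI := Groth.Agent.Helper6.HProj.isProper_toBase M (Spec (CommRingCat.of R))
  haveI : IsProper p := inferInstance
  haveI : IsNoetherian P :=
    { toIsLocallyNoetherian := LocallyOfFiniteType.isLocallyNoetherian p
      toCompactSpace := QuasiCompact.compactSpace_of_compactSpace p }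
  have hjp : j ≫ p = π ≫ f := by
    rw [← Category.assoc, q.toImage_imageι, hcomm]
  have hjdense : Dense (Set.range j) := q.toImage.denseRange
  have hjopen : IsOpen (Set.range j) := j.isOpenEmbedding.isOpen_range
  -- the closed set `T`
  let T : Set P := j '' ((π ≫ f) ⁻¹' {s})
  have hT : IsClosed T := by
    let a : pullback π i ⟶ X' := pullback.fst π i
    have hra : Set.range a = (π ≫ f) ⁻¹' {s} := by
      rw [Scheme.Pullback.range_fst, hi]
      rfl
    have hcomp : (a ≫ j) ≫ p = pullback.snd π i ≫ (i ≫ f) := by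
      rw [Category.assoc, hjp, ← Category.assoc, pullback.condition, Category.assoc]
    haveI : IsProper ((a ≫ j) ≫ p) := by rw [hcomp]; infer_instance
    haveI : IsProper (a ≫ j) := IsProper.of_comp (a ≫ j) p
    have := (a ≫ j).isClosedMap.isClosed_range
    have hr : Set.range (a ≫ j) = T := by
      show Set.range (a ≫ j) = j '' ((π ≫ f) ⁻¹' {s})
      rw [← hra, ← Set.range_comp]
      rfl
    rwa [hr] at this
  have hTj : T ⊆ Set.range j := Set.image_subset_range _ _
  have hTs : T ⊆ p ⁻¹' {s} := by
    rintro _ ⟨x', hx', rfl⟩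
    show p (j x') = s
    rw [← Scheme.Hom.comp_apply, hjp]
    exact hx'
  have hsclosed : IsClosed (p ⁻¹' {s}) :=
    (IsLocalRing.isClosed_singleton_closedPoint R).preimage p.continuous
  -- connectedness of closed fibres of closed connected subsets
  have hconnP : ∀ Z : Set P, IsClosed Z → _root_.IsConnected Z →
      _root_.IsConnected (Z ∩ p ⁻¹' {s}) := by
    intro Z hZ hZc
    have := Groth.Agent.Helper4.SN405.isConnected_inter_preimage R (maximalIdeal R) p Z hZ hZc
    rwa [Groth.Agent.Helper4.SN405.zeroLocus_maximalIdeal] at this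
  -- dichotomy
  have hdich : ∀ z : P, (closure {z} ∩ p ⁻¹' {s} ∩ T).Nonempty → closure {z} ∩ p ⁻¹' {s} ⊆ T := by
    intro z hne'
    have hW := (hconnP (closure {z}) isClosed_closure
      (isConnected_singleton.closure)).isPreconnected
    rw [isPreconnected_closed_iff] at hW
    let T' : Set P := p ⁻¹' {s} ∩ (Set.range j)ᶜ
    have hT' : IsClosed T' := hsclosed.inter hjopen.isClosed_compl
    have hcov : closure {z} ∩ p ⁻¹' {s} ⊆ T ∪ T' := by
      rintro w ⟨-, hw⟩
      by_cases hwj : w ∈ Set.range j
      · left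
        obtain ⟨x', rfl⟩ := hwj
        refine ⟨x', ?_, rfl⟩
        show (π ≫ f) x' = s
        rw [← hjp, Scheme.Hom.comp_apply]
        exact hw
      · right
        exact ⟨hw, hwj⟩
    intro w hw
    by_contra hwT
    have hwT' : w ∈ T' := (hcov hw).resolve_left hwT
    obtain ⟨v, -, hvT, hvT'⟩ := hW T T' hT hT' hcov hne' ⟨w, hw, hwT'⟩
    exact hvT'.2 (hTj hvT)
  -- good points
  let Good : X → Prop := fun x => ∃ w, x ⤳ w ∧ f w = s
  have hπsp : SpecializingMap π := π.isClosedMap.specializingMap
  have hkey : ∀ x' : X', Good (π x') → ∀ z : P, j x' ⤳ z → ∃ t ∈ T, z ⤳ t := by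
    rintro x' ⟨w, hxw, hw⟩ z hz
    obtain ⟨w', hx'w', hw'⟩ := hπsp hxw
    have hjw' : j w' ∈ closure {j x'} ∩ p ⁻¹' {s} ∩ T := by
      have hw's : (π ≫ f) w' = s := by rw [Scheme.Hom.comp_apply, hw', hw]
      refine ⟨⟨specializes_iff_mem_closure.1 (hx'w'.map j.continuous), ?_⟩, w', hw's, rfl⟩
      show p (j w') = s
      rw [← Scheme.Hom.comp_apply, hjp]
      exact hw's
    have hsub := hdich (j x') ⟨j w', hjw'⟩
    obtain ⟨t, ht⟩ :=
      (hconnP (closure {z}) isClosed_closure isConnected_singleton.closure).nonempty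
    exact ⟨t, hsub ⟨(specializes_iff_closure_subset.1 hz) ht.1, ht.2⟩,
      specializes_iff_mem_closure.2 ht.1⟩
  have hGoodsp : ∀ x y : X, x ⤳ y → Good x → Good y := by
    intro x y hxy hx
    obtain ⟨x', rfl⟩ := hsurj x
    obtain ⟨y', hx'y', rfl⟩ := hπsp hxy
    obtain ⟨t, ⟨t', ht', rfl⟩, hyt⟩ := hkey x' hx (j y') (hx'y'.map j.continuous)
    have h1 : y' ⤳ t' := j.isOpenEmbedding.isInducing.specializes_iff.1 hyt
    exact ⟨π t', h1.map π.continuous, ht'⟩
  have hGoodgen : ∀ x y : X, x ⤳ y → Good y → Good x := by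
    rintro x y hxy ⟨w, hyw, hw⟩
    exact ⟨w, hxy.trans hyw, hw⟩
  have hclopen : IsClopen {x | Good x} := isClopen_of_stable hirr _ hGoodsp hGoodgen
  have hall : ∀ x : X, Good x := by
    intro x
    by_cases hx : f x = s
    · exact ⟨x, specializes_rfl, hx⟩
    · obtain ⟨x₀, hx₀⟩ := hne
      have hts : f x ⤳ f x₀ := by
        rw [hx₀]
        exact IsLocalRing.specializes_closedPoint (f x)
      obtain ⟨xt, hxt, hfxt⟩ := hgen hts
      have hgood : Good xt := ⟨x₀, hxt, hx₀⟩
      have hsub := (hconn (f x) hx).subset_isClopen hclopen ⟨xt, hfxt, hgood⟩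
      exact hsub (rfl : f x = f x)
  -- `j` is surjective
  have hjsurj : Function.Surjective j := by
    intro b
    by_contra hb
    have hb' : b ∉ Set.range j := hb
    obtain ⟨ζ, hζ, hζb⟩ := exists_genericPoints_specializes b
    have hζj : ζ ∈ Set.range j :=
      Groth.Agent.Helper3.ComplCurve.genericPoints_subset_of_dense _ hjopen hjdense hζ
    obtain ⟨x', rfl⟩ := hζj
    obtain ⟨t, ht, hbt⟩ := hkey x' (hall (π x')) b hζb
    exact hb' (hbt.mem_open hjopen (hTj ht))
  haveI : IsIso j := (isIso_iff_isOpenImmersion_and_surjective j).2 ⟨inferInstance, ⟨hjsurj⟩⟩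
  haveI : Surjective π := ⟨hsurj⟩
  haveI : UniversallyClosed (π ≫ f) := by
    rw [← hjp]
    infer_instance
  haveI : UniversallyClosed f := UniversallyClosed.of_comp_surjective π f
  exact { }

end Groth.Agent.Helper3.LocPropE
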