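import Mathlib
import Groth.Prelude
import Groth.Agent.Helper3.LocPropB
import Groth.Agent.S0549

set_option autoImplicit false
set_option linter.style.haveILetI false
set_option linter.unusedSectionVars false
set_option linter.unusedVariables false
set_option linter.deprecated false
set_option linter.style.haveILetI false
set_option linter.unusedSectionVars false
set_option linter.unusedVariables false

universe u

open CategoryTheory CategoryTheory.Limits AlgebraicGeometry TopologicalSpace Opposite IsLocalRing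

namespace Groth.Agent.Helper3.LocPropF

open Groth.Agent.Helper3.LocPropA Groth.Agent.Helper3.LocPropB

/-- lifting hypothesis restricted to complete discrete valuation rings -/
def HypC {X Y : Scheme.{u}} (f : X ⟶ Y) (y : Y) : Prop :=
  ∀ (A : Type u) [CommRing A] [IsDomain A] [IsDiscreteValuationRing A]
    [IsAdicComplete (maximalIdeal A) A] (K : Type u) [Field K] [Algebra A K] [IsFractionRing A K]
    (φ : Spec (.of K) ⟶ X) (g : Spec (.of A) ⟶ Y),
    (∀ x' : X, x' ⤳ φ (closedPoint K) → x' = φ (closedPoint K)) → g (closedPoint A) = y →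
    Spec.map (CommRingCat.ofHom (algebraMap A K)) ≫ g = φ ≫ f →
    ∃ l : Spec (.of A) ⟶ X, l ≫ f = g ∧ Spec.map (CommRingCat.ofHom (algebraMap A K)) ≫ l = φ

/-- the boundary argument for an abstract valuation ring -/
theorem boundary_false_gen {X Y X' P : Scheme.{u}} [IsNoetherian P]
    (f : X ⟶ Y) (π : X' ⟶ X) [IsProper π] (j : X' ⟶ P) [IsOpenImmersion j] (p : P ⟶ Y)
    [IsSeparated p] (hjp : j ≫ p = π ≫ f) (U : X.Opens) (u : U.toScheme ⟶ X') [IsOpenImmersion u]
    (hu : u ≫ π = U.ι)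
    (A K : Type u) [CommRing A] [IsDomain A] [ValuationRing A] [Field K] [Algebra A K]
    [IsFractionRing A K] (φ₀ : Spec (.of K) ⟶ P) (g₀ : Spec (.of A) ⟶ P)
    (hgen : Spec.map (CommRingCat.ofHom (algebraMap A K)) ≫ g₀ = φ₀)
    (hζ : φ₀ (closedPoint K) ∈ genericPoints P) (hζw : φ₀ (closedPoint K) ∈ Set.range (u ≫ j))
    (hb : g₀ (closedPoint A) ∉ Set.range j)
    (h : ∀ (φ : Spec (.of K) ⟶ X),
      (∀ x' : X, x' ⤳ φ (closedPoint K) → x' = φ (closedPoint K)) →
      Spec.map (CommRingCat.ofHom (algebraMap A K)) ≫ (g₀ ≫ p) = φ ≫ f →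
      ∃ l : Spec (.of A) ⟶ X, l ≫ f = g₀ ≫ p ∧
        Spec.map (CommRingCat.ofHom (algebraMap A K)) ≫ l = φ) : False := by
  set ζ := φ₀ (closedPoint K) with hζdef
  have hpt : ∀ x : Spec (.of K), x = closedPoint K := fun x => Subsingleton.elim _ _
  have hrange : Set.range φ₀ ⊆ Set.range (u ≫ j) := by
    rintro _ ⟨x, rfl⟩
    rw [hpt x]
    exact hζw
  let φ₁ : Spec (.of K) ⟶ U.toScheme := IsOpenImmersion.lift (u ≫ j) φ₀ hrange
  have hφ₁ : φ₁ ≫ u ≫ j = φ₀ := IsOpenImmersion.lift_fac _ _ _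
  let φ : Spec (.of K) ⟶ X := φ₁ ≫ U.ι
  let η : U.toScheme := φ₁ (closedPoint K)
  have hηζ : (u ≫ j) η = ζ := by
    rw [hζdef, ← hφ₁]
    rfl
  have hmax : ∀ x' : X, x' ⤳ φ (closedPoint K) → x' = φ (closedPoint K) := by
    intro x' hx'
    have hφη : φ (closedPoint K) = η.1 := rfl
    rw [hφη] at hx' ⊢
    have hx'U : x' ∈ U := hx'.mem_open U.isOpen η.2
    let x'' : U.toScheme := ⟨x', hx'U⟩
    have hsp : x'' ⤳ η :=
      (Topology.IsInducing.subtypeVal.specializes_iff (x := x'') (y := η)).1 hx'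
    have hsp2 : (u ≫ j) x'' ⤳ (u ≫ j) η := hsp.map (u ≫ j).continuous
    rw [hηζ] at hsp2
    have := eq_of_specializes_genericPoints hζ hsp2
    rw [← hηζ] at this
    have h3 := (u ≫ j).isOpenEmbedding.injective this
    exact congrArg Subtype.val h3
  have hsq : Spec.map (CommRingCat.ofHom (algebraMap A K)) ≫ (g₀ ≫ p) = φ ≫ f := by
    rw [← Category.assoc, hgen, ← hφ₁]
    simp only [Category.assoc, φ]
    rw [hjp, ← hu]
    simp only [Category.assoc]
  obtain ⟨l, hl1, hl2⟩ := h φ hmax hsq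
  have hv : ValuativeCriterion π := by
    have : IsProper π := inferInstance
    rw [IsProper.eq_valuativeCriterion] at this
    exact this.1.1.1
  let S : ValuativeCommSq π :=
    { R := A, K := K, i₁ := φ₁ ≫ u, i₂ := l, commSq := ⟨by
        rw [Category.assoc, hu, hl2]⟩ }
  obtain ⟨⟨l', hl'1, hl'2⟩⟩ := (hv.existence S).exists_lift
  have hun := IsSeparated.valuativeCriterion p
  let S' : ValuativeCommSq p :=
    { R := A, K := K, i₁ := φ₀, i₂ := g₀ ≫ p, commSq := ⟨by rw [← Category.assoc, hgen]⟩ }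
  have := hun S'
  let l₁ : S'.commSq.LiftStruct := ⟨g₀, hgen, rfl⟩
  let l₂ : S'.commSq.LiftStruct := ⟨l' ≫ j, by
    rw [← Category.assoc]
    erw [hl'1]
    rw [Category.assoc, hφ₁], by
    rw [Category.assoc, hjp, ← Category.assoc]
    erw [hl'2]
    exact hl1⟩
  have heq : g₀ = l' ≫ j := congrArg CommSq.LiftStruct.l (Subsingleton.elim l₁ l₂)
  apply hb
  refine ⟨l' (closedPoint A), ?_⟩
  rw [heq, Scheme.Hom.comp_apply]

theorem lift_comp {R K K' : Type*} [CommRing R] [Field K] [Algebra R K] [IsFractionRing R K]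
    [Field K'] (g : R →+* K') (hg : Function.Injective g) :
    (IsFractionRing.lift hg : K →+* K').comp (algebraMap R K) = g := by
  ext r
  exact IsFractionRing.lift_algebraMap hg r

/-- the boundary argument after a local extension of the valuation ring -/
theorem boundary_false_ext {X Y X' P : Scheme.{u}} [IsNoetherian P]
    (f : X ⟶ Y) (π : X' ⟶ X) [IsProper π] (j : X' ⟶ P) [IsOpenImmersion j] (p : P ⟶ Y)
    [IsSeparated p] (hjp : j ≫ p = π ≫ f) (U : X.Opens) (u : U.toScheme ⟶ X') [IsOpenImmersion u]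
    (hu : u ≫ π = U.ι)
    (K : Type u) [Field K] (R : ValuationSubring K) (φ₀ : Spec (.of K) ⟶ P)
    (g₀ : Spec (.of R) ⟶ P)
    (hgen : Spec.map (CommRingCat.ofHom (algebraMap R K)) ≫ g₀ = φ₀)
    (hζ : φ₀ (closedPoint K) ∈ genericPoints P) (hζw : φ₀ (closedPoint K) ∈ Set.range (u ≫ j))
    (hb : g₀ (closedPoint R) ∉ Set.range j)
    (A' K' : Type u) [CommRing A'] [IsDomain A'] [ValuationRing A'] [Field K'] [Algebra A' K']
    [IsFractionRing A' K'] (c : R →+* A') [IsLocalHom c] (κ : K →+* K')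
    (hκ : κ.comp (algebraMap R K) = (algebraMap A' K').comp c)
    (h : ∀ (φ : Spec (.of K') ⟶ X),
      (∀ x' : X, x' ⤳ φ (closedPoint K') → x' = φ (closedPoint K')) →
      Spec.map (CommRingCat.ofHom (algebraMap A' K')) ≫
        ((Spec.map (CommRingCat.ofHom c) ≫ g₀) ≫ p) = φ ≫ f →
      ∃ l : Spec (.of A') ⟶ X, l ≫ f = (Spec.map (CommRingCat.ofHom c) ≫ g₀) ≫ p ∧
        Spec.map (CommRingCat.ofHom (algebraMap A' K')) ≫ l = φ) : False := by
  let g₀' : Spec (.of A') ⟶ P := Spec.map (CommRingCat.ofHom c) ≫ g₀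
  let φ₀' : Spec (.of K') ⟶ P := Spec.map (CommRingCat.ofHom κ) ≫ φ₀
  have hgen' : Spec.map (CommRingCat.ofHom (algebraMap A' K')) ≫ g₀' = φ₀' := by
    simp only [g₀', φ₀']
    rw [← hgen, ← Category.assoc, ← Category.assoc, ← Spec.map_comp, ← Spec.map_comp,
      ← CommRingCat.ofHom_comp, ← CommRingCat.ofHom_comp, hκ]
  have hφ₀'pt : φ₀' (closedPoint K') = φ₀ (closedPoint K) := by
    show φ₀ (Spec.map (CommRingCat.ofHom κ) (closedPoint K')) = _
    congr 1
    exact Subsingleton.elim _ _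
  have hg₀'pt : g₀' (closedPoint A') = g₀ (closedPoint R) := by
    show g₀ (Spec.map (CommRingCat.ofHom c) (closedPoint A')) = _
    congr 1
    exact comap_closedPoint c
  exact boundary_false_gen f π j p hjp U u hu A' K' φ₀' g₀' hgen' (hφ₀'pt ▸ hζ)
    (hφ₀'pt ▸ hζw) (hg₀'pt ▸ hb) h

theorem boundary_false_C {X Y X' P : Scheme.{u}} [IsNoetherian P]
    (f : X ⟶ Y) (π : X' ⟶ X) [IsProper π] (j : X' ⟶ P) [IsOpenImmersion j] (p : P ⟶ Y)
    [IsSeparated p] (hjp : j ≫ p = π ≫ f) (U : X.Opens) (u : U.toScheme ⟶ X') [IsOpenImmersion u]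
    (hu : u ≫ π = U.ι) (hdense : Dense (Set.range (u ≫ j))) (y : Y) (h : HypC f y) (b : P)
    (hb : b ∉ Set.range j) (hpb : p b = y) : False := by
  obtain ⟨ζ, hζ, hζb⟩ := exists_genericPoints_specializes b
  have hζw : ζ ∈ Set.range (u ≫ j) :=
    Groth.Agent.Helper3.ComplCurve.genericPoints_subset_of_dense _
      (u ≫ j).isOpenEmbedding.isOpen_range hdense hζ
  have hne : ζ ≠ b := by
    rintro rfl
    obtain ⟨z, hz⟩ := hζw
    exact hb ⟨u z, by rw [← hz, Scheme.Hom.comp_apply]⟩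
  obtain ⟨K, _, R, hR, φ₀, g₀, hφ₀, hφ₀ζ, hg₀b, hgen⟩ := exists_dvr_through hζb hne
  haveI := hR
  haveI : IsNoetherianRing R := inferInstance
  obtain ⟨hdom, hdvr⟩ := (Groth.Agent.S0549.result R).1 ⟨inferInstance, hR⟩
  haveI := hdom
  haveI := hdvr
  have hcinj : Function.Injective (algebraMap R (AdicCompletion (maximalIdeal R) R)) := by
    haveI : IsHausdorff (maximalIdeal R) R := inferInstance
    exact AdicCompletion.of_injective (maximalIdeal R) R
  have hinj : Function.Injective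
      ((algebraMap (AdicCompletion (maximalIdeal R) R)
        (FractionRing (AdicCompletion (maximalIdeal R) R))).comp
          (algebraMap R (AdicCompletion (maximalIdeal R) R))) :=
    (IsFractionRing.injective (AdicCompletion (maximalIdeal R) R)
      (FractionRing (AdicCompletion (maximalIdeal R) R))).comp hcinj
  refine boundary_false_ext f π j p hjp U u hu K R φ₀ g₀ hgen (hφ₀ζ ▸ hζ) (hφ₀ζ ▸ hζw)
    (hg₀b ▸ hb) (AdicCompletion (maximalIdeal R) R)
    (FractionRing (AdicCompletion (maximalIdeal R) R))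
    (algebraMap R (AdicCompletion (maximalIdeal R) R)) (IsFractionRing.lift hinj) ?_ ?_
  · exact lift_comp _ hinj
  · intro φ hmax hsq
    refine h (AdicCompletion (maximalIdeal R) R) (FractionRing (AdicCompletion (maximalIdeal R) R))
      φ _ hmax ?_ hsq
    rw [Scheme.Hom.comp_apply, Scheme.Hom.comp_apply]
    have : Spec.map (CommRingCat.ofHom (algebraMap R (AdicCompletion (maximalIdeal R) R)))
        (closedPoint _) = closedPoint R :=
      comap_closedPoint (algebraMap R (AdicCompletion (maximalIdeal R) R))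
    rw [this, hg₀b, hpb]

/-- **Local valuative criterion of properness with complete DVRs, Noetherian base.** -/
theorem core_noeth_C {X Y : Scheme.{u}} [IsNoetherian Y] (f : X ⟶ Y) [IsSeparated f]
    [LocallyOfFiniteType f] [QuasiCompact f] (y : Y) (h : HypC f y) :
    ∃ U : Y.Opens, y ∈ U ∧ IsProper (f ∣_ U) := by
  haveI : IsNoetherian X :=
    { toIsLocallyNoetherian := LocallyOfFiniteType.isLocallyNoetherian f
      toCompactSpace := QuasiCompact.compactSpace_of_compactSpace f }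
  have hirr : (irreducibleComponents X).Finite := NoetherianSpace.finite_irreducibleComponents
  obtain ⟨M, X', π, q, hq, hcomm, hπ, hsurj, U, hUd, hiso, u, hu, hudense, husd, huqc⟩ :=
    Groth.Agent.Helper4.SN399.chow_strong f hirr
  haveI : IsNoetherian X' :=
    { toIsLocallyNoetherian := LocallyOfFiniteType.isLocallyNoetherian π
      toCompactSpace := QuasiCompact.compactSpace_of_compactSpace π }
  haveI : QuasiCompact q := inferInstance
  let P : Scheme.{u} := q.image
  let j : X' ⟶ P := q.toImage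
  let c : P ⟶ CohB1.ProjSpaceOver M Y := q.imageι
  let p : P ⟶ Y := c ≫ CohB1.ProjSpaceOver.toBase M Y
  haveI := Groth.Agent.Helper6.HProj.isProper_toBase M Y
  haveI : IsProper p := inferInstance
  haveI : IsNoetherian P :=
    { toIsLocallyNoetherian := LocallyOfFiniteType.isLocallyNoetherian p
      toCompactSpace := QuasiCompact.compactSpace_of_compactSpace p }
  have hjp : j ≫ p = π ≫ f := by
    rw [← Category.assoc, q.toImage_imageι, hcomm]
  haveI : IsOpenImmersion u := isOpenImmersion_section π U u hu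
  have hdense : Dense (Set.range (u ≫ j)) := by
    have h1 : DenseRange j := q.toImage.denseRange
    have h2 := h1.comp hudense j.continuous
    exact h2
  let T : Set Y := p '' (Set.range j)ᶜ
  have hT : IsClosed T := p.isClosedMap _ (j.isOpenEmbedding.isOpen_range.isClosed_compl)
  refine ⟨⟨Tᶜ, hT.isOpen_compl⟩, ?_, ?_⟩
  · rintro ⟨b, hb, hpb⟩
    exact boundary_false_C f π j p hjp U u hu hdense y h b hb hpb
  · haveI : Surjective π := ⟨hsurj⟩
    apply isProper_restrict_of_cover f π j p hjp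
    intro b hb
    by_contra hbr
    exact hb ⟨b, hbr, rfl⟩

/-- the hypothesis restricts to open subschemes of the base -/
theorem hypC_restrict {X Y : Scheme.{u}} (f : X ⟶ Y) (V : Y.Opens) (y : Y) (hy : y ∈ V)
    (h : HypC f y) : HypC (f ∣_ V) ⟨y, hy⟩ := by
  intro A _ _ _ _ K _ _ _ φ' g' hmax hg' hsq
  let φ : Spec (.of K) ⟶ X := φ' ≫ (f ⁻¹ᵁ V).ι
  let g : Spec (.of A) ⟶ Y := g' ≫ V.ι
  have hφpt : φ (closedPoint K) = (φ' (closedPoint K)).1 := rfl
  have hmax' : ∀ x' : X, x' ⤳ φ (closedPoint K) → x' = φ (closedPoint K) := by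
    intro x' hx'
    rw [hφpt] at hx' ⊢
    have hx'V : x' ∈ f ⁻¹ᵁ V := hx'.mem_open (f ⁻¹ᵁ V).isOpen (φ' (closedPoint K)).2
    let x'' : (f ⁻¹ᵁ V).toScheme := ⟨x', hx'V⟩
    have hsp : x'' ⤳ φ' (closedPoint K) :=
      (Topology.IsInducing.subtypeVal.specializes_iff (x := x'') (y := φ' (closedPoint K))).1 hx'
    exact congrArg Subtype.val (hmax x'' hsp)
  have hgy : g (closedPoint A) = y := by
    show (g' (closedPoint A)).1 = y
    rw [hg']
  have hsq' : Spec.map (CommRingCat.ofHom (algebraMap A K)) ≫ g = φ ≫ f := by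
    simp only [φ, g, Category.assoc]
    rw [← morphismRestrict_ι, ← Category.assoc, hsq, Category.assoc]
  obtain ⟨l, hl1, hl2⟩ := h A K φ g hmax' hgy hsq'
  have hrange : Set.range l ⊆ Set.range (f ⁻¹ᵁ V).ι := by
    rintro _ ⟨z, rfl⟩
    rw [Scheme.Opens.range_ι]
    show f (l z) ∈ V
    rw [← Scheme.Hom.comp_apply, hl1]
    exact (g' z).2
  let l' : Spec (.of A) ⟶ (f ⁻¹ᵁ V).toScheme := IsOpenImmersion.lift (f ⁻¹ᵁ V).ι l hrange
  have hl' : l' ≫ (f ⁻¹ᵁ V).ι = l := IsOpenImmersion.lift_fac _ _ _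
  refine ⟨l', ?_, ?_⟩
  · rw [← cancel_mono V.ι, Category.assoc, morphismRestrict_ι, ← Category.assoc, hl', hl1]
  · rw [← cancel_mono (f ⁻¹ᵁ V).ι, Category.assoc, hl', hl2]

/-- **Local valuative criterion of properness with complete DVRs.** -/
theorem core_C {X Y : Scheme.{u}} [IsLocallyNoetherian Y] (f : X ⟶ Y) [IsSeparated f]
    [LocallyOfFiniteType f] [QuasiCompact f] (y : Y) (h : HypC f y) :
    ∃ U : Y.Opens, y ∈ U ∧ IsProper (f ∣_ U) := by
  obtain ⟨V, hV, hyV⟩ : ∃ V : Y.Opens, IsAffineOpen V ∧ y ∈ V := by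
    obtain ⟨_, ⟨V, hV, rfl⟩, hyV, -⟩ :=
      Y.isBasis_affineOpens.exists_subset_of_mem_open (Set.mem_univ y) isOpen_univ
    exact ⟨V, hV, hyV⟩
  haveI : IsAffine V.toScheme := hV
  haveI : IsLocallyNoetherian V.toScheme := isLocallyNoetherian_of_isOpenImmersion V.ι
  haveI : IsNoetherian V.toScheme := { }
  obtain ⟨U', hyU', hprop⟩ := core_noeth_C (f ∣_ V) ⟨y, hyV⟩ (hypC_restrict f V y hyV h)
  refine ⟨V.ι ''ᵁ U', ⟨⟨y, hyV⟩, hyU', rfl⟩, ?_⟩
  exact (MorphismProperty.arrow_mk_iso_iff @IsProper (morphismRestrictRestrict f V U')).1 hprop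

end Groth.Agent.Helper3.LocPropF
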