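import Mathlib
import Groth.Prelude
import Groth.Agent.Helper3.LocPropE
import Groth.Agent.Helper3.LocPropF
import Groth.Agent.Helper3.HensLocal

set_option autoImplicit false
set_option linter.style.haveILetI false
set_option linter.unusedSectionVars false
set_option linter.unusedVariables false
set_option linter.deprecated false
set_option linter.style.haveILetI false
set_option linter.unusedSectionVars false
set_option linter.unusedVariables false

universe u

open CategoryTheory CategoryTheory.Limits AlgebraicGeometry TopologicalSpace Opposite IsLocalRing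

namespace Groth.Agent.Helper3.LocPropG

open Groth.Agent.Helper3.LocPropA Groth.Agent.Helper3.LocPropB Groth.Agent.Helper3.LocPropE
  Groth.Agent.Helper3.LocPropF

/-- the points of the spectrum of a discrete valuation ring -/
theorem eq_bot_of_ne_closedPoint (A : Type u) [CommRing A] [IsDomain A] [IsDiscreteValuationRing A]
    (t : PrimeSpectrum A) (ht : t ≠ closedPoint A) : t.asIdeal = ⊥ := by
  by_contra h0
  apply ht
  apply PrimeSpectrum.ext
  have hmax : t.asIdeal.IsMaximal := t.2.isMaximal h0
  exact IsLocalRing.eq_maximalIdeal hmax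

/-- **Properness over a complete DVR.** -/
theorem proper_of_complete_dvr (A : Type u) [CommRing A] [IsDomain A] [IsDiscreteValuationRing A]
    [IsAdicComplete (maximalIdeal A) A]
    {X : Scheme.{u}} (f : X ⟶ Spec (CommRingCat.of A)) [IsSeparated f] [LocallyOfFiniteType f]
    [QuasiCompact f] (hgen : GeneralizingMap f)
    (F : Scheme.{u}) (i : F ⟶ X) (hi : Set.range i = f ⁻¹' {closedPoint A}) [IsProper (i ≫ f)]
    (hne : ∃ x, f x = closedPoint A)
    (t₀ : Spec (CommRingCat.of A)) (ht₀ : PrimeSpectrum.asIdeal t₀ = ⊥)
    (hconn : _root_.IsPreconnected (f ⁻¹' {t₀})) :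
    IsProper f := by
  haveI : HenselianRing A (maximalIdeal A) := inferInstance
  haveI : HenselianLocalRing A :=
    Groth.Agent.Helper3.HensLocal.henselianLocalRing_of_henselianRing A
  refine proper_of_henselian A f hgen F i hi hne ?_
  intro t ht
  have : t = t₀ := PrimeSpectrum.ext ((eq_bot_of_ne_closedPoint A t ht).trans ht₀.symm)
  rw [this]
  exact hconn

/-- valuative lifting when the base change to the valuation ring is proper -/
theorem exists_lift_of_proper_pullback {X S : Scheme.{u}} (f : X ⟶ S)
    (A K : Type u) [CommRing A] [IsDomain A] [ValuationRing A] [Field K] [Algebra A K]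
    [IsFractionRing A K] (φ : Spec (.of K) ⟶ X) (g : Spec (.of A) ⟶ S)
    (hsq : Spec.map (CommRingCat.ofHom (algebraMap A K)) ≫ g = φ ≫ f)
    [IsProper (pullback.snd f g)] :
    ∃ l : Spec (.of A) ⟶ X, l ≫ f = g ∧
      Spec.map (CommRingCat.ofHom (algebraMap A K)) ≫ l = φ := by
  have hv : ValuativeCriterion (pullback.snd f g) := by
    have : IsProper (pullback.snd f g) := inferInstance
    rw [IsProper.eq_valuativeCriterion] at this
    exact this.1.1.1
  let S' : ValuativeCommSq (pullback.snd f g) :=
    { R := A, K := K, i₁ := pullback.lift φ (Spec.map (CommRingCat.ofHom (algebraMap A K))) hsq.symm,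
      i₂ := 𝟙 _, commSq := ⟨by rw [pullback.lift_snd, Category.comp_id]⟩ }
  obtain ⟨⟨l, hl1, hl2⟩⟩ := (hv.existence S').exists_lift
  refine ⟨l ≫ pullback.fst f g, ?_, ?_⟩
  · rw [Category.assoc, pullback.condition, ← Category.assoc]
    erw [hl2]
    exact Category.id_comp _
  · rw [← Category.assoc]
    erw [hl1]
    exact pullback.lift_fst _ _ _

theorem isClosedImmersion_fromSpecResidueField_closedPoint (A : Type u) [CommRing A]
    [IsLocalRing A] :
    IsClosedImmersion ((Spec (CommRingCat.of A)).fromSpecResidueField (closedPoint A)) := by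
  apply IsClosedImmersion.of_isPreimmersion
  rw [Scheme.range_fromSpecResidueField]
  exact IsLocalRing.isClosed_singleton_closedPoint A

/-- lifting over a complete DVR for flat morphisms with proper closed fibre and geometrically
connected generic fibre -/
theorem dvr_lift_flat {X S : Scheme.{u}} (f : X ⟶ S) [Flat f] [IsSeparated f]
    [LocallyOfFiniteType f] [QuasiCompact f]
    (A : Type u) [CommRing A] [IsDomain A] [IsDiscreteValuationRing A]
    [IsAdicComplete (maximalIdeal A) A]
    (K : Type u) [Field K] [Algebra A K] [IsFractionRing A K]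
    (φ : Spec (.of K) ⟶ X) (g : Spec (.of A) ⟶ S)
    (hsq : Spec.map (CommRingCat.ofHom (algebraMap A K)) ≫ g = φ ≫ f)
    (s : S) (hgs : g (closedPoint A) = s) (hs : IsProper (f.fiberToSpecResidueField s))
    (hne : ∃ x, f x = s)
    (t₀ : Spec (CommRingCat.of A)) (ht₀ : PrimeSpectrum.asIdeal t₀ = ⊥)
    (t : S) (hgt : g t₀ = t)
    (hc : GeometricallyConnected (f.fiberToSpecResidueField t)) :
    ∃ l : Spec (.of A) ⟶ X, l ≫ f = g ∧
      Spec.map (CommRingCat.ofHom (algebraMap A K)) ≫ l = φ := by
  subst hgs
  subst hgt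
  let fA : pullback f g ⟶ Spec (.of A) := pullback.snd f g
  have hsqP := IsPullback.of_hasPullback f g
  haveI : IsProper fA := by
    set a : Spec (.of A) := closedPoint A with ha
    haveI : IsProper (fA.fiberToSpecResidueField a) :=
      MorphismProperty.of_isPullback
        (isPullback_fiberToSpecResidueField_of_isPullback hsqP a) hs
    haveI := isClosedImmersion_fromSpecResidueField_closedPoint A
    haveI : IsProper (fA.fiberι a ≫ fA) := by
      rw [Scheme.Hom.fiber_fac]
      infer_instance
    refine proper_of_complete_dvr A fA (Flat.generalizingMap fA) (fA.fiber a) (fA.fiberι a)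
      (fA.range_fiberι a) ?_ t₀ ht₀ ?_
    · obtain ⟨x, hx⟩ := hne
      obtain ⟨z, -, hz2⟩ := Scheme.Pullback.exists_preimage_pullback (f := f) (g := g) x a hx
      exact ⟨z, hz2⟩
    · haveI : GeometricallyConnected (fA.fiberToSpecResidueField t₀) :=
        MorphismProperty.of_isPullback
          (isPullback_fiberToSpecResidueField_of_isPullback hsqP t₀) hc
      haveI : ConnectedSpace (fA.fiber t₀) :=
        GeometricallyConnected.connectedSpace_of_subsingleton
          (f := fA.fiberToSpecResidueField t₀)
      rw [← fA.range_fiberι t₀]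
      exact isPreconnected_range (fA.fiberι t₀).continuous
  exact exists_lift_of_proper_pullback f A K φ g hsq

/-- the generic point of the spectrum of a domain, as the image of the point of its fraction
field -/
theorem asIdeal_generic (A K : Type u) [CommRing A] [IsDomain A] [Field K] [Algebra A K]
    [IsFractionRing A K] :
    PrimeSpectrum.asIdeal
      (Spec.map (CommRingCat.ofHom (algebraMap A K)) (closedPoint K)) = ⊥ := by
  change Ideal.comap (algebraMap A K) (maximalIdeal K) = ⊥
  rw [IsLocalRing.maximalIdeal_eq_bot, ← RingHom.ker_eq_comap_bot]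
  exact (RingHom.injective_iff_ker_eq_bot _).1 (IsFractionRing.injective A K)

theorem exists_mem_of_nonempty_fiber {X S : Scheme.{u}} (f : X ⟶ S) (s : S)
    [h : Nonempty ↥(f.fiber s)] : ∃ x, f x = s := by
  obtain ⟨z⟩ := h
  have : f.fiberι s z ∈ Set.range (f.fiberι s) := ⟨z, rfl⟩
  rw [f.range_fiberι s] at this
  exact ⟨_, this⟩

/-- S19656 -/
theorem proper_nhd_of_flat {X S : Scheme.{u}} [IsLocallyNoetherian S] (f : X ⟶ S)
    [Flat f] [IsSeparated f] [LocallyOfFiniteType f] [QuasiCompact f]
    (hgen : ∀ η : S, (∀ η' : S, η' ⤳ η → η' = η) → Nonempty ↥(f.fiber η) →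
      GeometricallyConnected (f.fiberToSpecResidueField η))
    (s : S) [Nonempty ↥(f.fiber s)] (hs : IsProper (f.fiberToSpecResidueField s)) :
    ∃ U : S.Opens, s ∈ U ∧ IsProper (f ∣_ U) := by
  apply core_C f s
  intro A _ _ _ _ K _ _ _ φ g hmax hgs hsq
  have hgt : g (Spec.map (CommRingCat.ofHom (algebraMap A K)) (closedPoint K)) =
      f (φ (closedPoint K)) := by
    rw [← Scheme.Hom.comp_apply, hsq, Scheme.Hom.comp_apply]
  have hmaxS : ∀ η' : S, η' ⤳ f (φ (closedPoint K)) → η' = f (φ (closedPoint K)) := by
    intro η' h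
    obtain ⟨x', hx', hfx'⟩ := Flat.generalizingMap f h
    rw [← hfx', hmax x' hx']
  have hne : Nonempty ↥(f.fiber (f (φ (closedPoint K)))) := ⟨f.asFiber (φ (closedPoint K))⟩
  exact dvr_lift_flat f A K φ g hsq s hgs hs (exists_mem_of_nonempty_fiber f s) _
    (asIdeal_generic A K) _ hgt (hgen _ hmaxS hne)

end Groth.Agent.Helper3.LocPropG
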