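import Mathlib
import Groth.Prelude
import Groth.Agent.Helper3.LocPropG

set_option autoImplicit false
set_option linter.style.haveILetI false
set_option linter.unusedSectionVars false
set_option linter.unusedVariables false
set_option linter.deprecated false
set_option linter.style.haveILetI false
set_option linter.unusedSectionVars false
set_option linter.unusedVariables false

universe u

open CategoryTheory CategoryTheory.Limits AlgebraicGeometry IsLocalRing

namespace Groth.Agent.Helper3.FibTr

/-- base change of `pullback.snd f g` along `g'` -/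
theorem snd_comp_of_snd (P : MorphismProperty Scheme.{u}) [P.IsStableUnderBaseChange]
    {X S T T' : Scheme.{u}} (f : X ⟶ S) (g : T ⟶ S) (g' : T' ⟶ T)
    (h : P (pullback.snd f g)) : P (pullback.snd f (g' ≫ g)) := by
  have h1 : P (pullback.snd (pullback.snd f g) g') := MorphismProperty.pullback_snd _ _ h
  have h2 : (pullbackLeftPullbackSndIso f g g').hom ≫ pullback.snd f (g' ≫ g) =
      pullback.snd (pullback.snd f g) g' := pullbackLeftPullbackSndIso_hom_snd f g g'
  have h3 : pullback.snd f (g' ≫ g) =
      (pullbackLeftPullbackSndIso f g g').inv ≫ pullback.snd (pullback.snd f g) g' := by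
    rw [← h2, Iso.inv_hom_id_assoc]
  rw [h3]
  exact (P.cancel_left_of_respectsIso _ _).mpr h1

/-- the residue field at the image point of `Spec L → Spec R` maps isomorphically to `L` when `L`
is generated as a field by the image of `R`. -/
theorem bijective_desc {R L : Type u} [CommRing R] [Field L] (ψ : R →+* L)
    (hψ : ∀ z : L, ∃ a b : R, ψ b ≠ 0 ∧ z = ψ a / ψ b) :
    Function.Bijective
      (Scheme.descResidueField (Scheme.stalkClosedPointTo
        (Spec.map (CommRingCat.ofHom ψ)))).hom := by
  set j := Spec.map (CommRingCat.ofHom ψ) with hj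
  set φ := Scheme.descResidueField (Scheme.stalkClosedPointTo j) with hφ
  refine ⟨φ.hom.injective, ?_⟩
  have key : ∀ a : R, ∃ w, φ.hom w = ψ a := by
    intro a
    have h1 := Scheme.germ_stalkClosedPointTo_Spec (CommRingCat.ofHom ψ)
    have h2 := Scheme.residue_descResidueField (Scheme.stalkClosedPointTo j)
    refine ⟨((Spec (CommRingCat.of R)).residue _).hom
      (((Spec (CommRingCat.of R)).presheaf.germ ⊤ _ trivial).hom
        ((Scheme.ΓSpecIso (CommRingCat.of R)).inv.hom a)), ?_⟩
    have h3 : φ.hom (((Spec (CommRingCat.of R)).residue _).hom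
      (((Spec (CommRingCat.of R)).presheaf.germ ⊤ _ trivial).hom
        ((Scheme.ΓSpecIso (CommRingCat.of R)).inv.hom a))) =
        ((Scheme.stalkClosedPointTo j)).hom
          (((Spec (CommRingCat.of R)).presheaf.germ ⊤ _ trivial).hom
        ((Scheme.ΓSpecIso (CommRingCat.of R)).inv.hom a)) := by
      rw [← h2]; rfl
    rw [h3]
    have h4 := congrArg (fun t => t.hom ((Scheme.ΓSpecIso (CommRingCat.of R)).inv.hom a)) h1
    simp only [CommRingCat.hom_comp, RingHom.coe_comp, Function.comp_apply] at h4
    rw [h4]
    have : (Scheme.ΓSpecIso (CommRingCat.of R)).hom.hom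
        ((Scheme.ΓSpecIso (CommRingCat.of R)).inv.hom a) = a := by
      change ((Scheme.ΓSpecIso (CommRingCat.of R)).inv ≫
        (Scheme.ΓSpecIso (CommRingCat.of R)).hom).hom a = a
      rw [Iso.inv_hom_id]; rfl
    rw [this]; rfl
  intro z
  obtain ⟨a, b, hb, rfl⟩ := hψ z
  obtain ⟨wa, hwa⟩ := key a
  obtain ⟨wb, hwb⟩ := key b
  refine ⟨wa / wb, ?_⟩
  rw [map_div₀, hwa, hwb]

/-- transport of a base-change-stable property from the pullback along `Spec L → Spec R` to the
scheme-theoretic fibre. -/
theorem fiber_of_pullback (P : MorphismProperty Scheme.{u}) [P.IsStableUnderBaseChange]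
    {R L : Type u} [CommRing R] [Field L] (ψ : R →+* L)
    (hψ : ∀ z : L, ∃ a b : R, ψ b ≠ 0 ∧ z = ψ a / ψ b)
    {X : Scheme.{u}} (f : X ⟶ Spec (CommRingCat.of R))
    (h : P (pullback.snd f (Spec.map (CommRingCat.ofHom ψ)))) :
    P (f.fiberToSpecResidueField ((Spec.map (CommRingCat.ofHom ψ)) (closedPoint L))) := by
  set j := Spec.map (CommRingCat.ofHom ψ) with hj
  set φ := Scheme.descResidueField (Scheme.stalkClosedPointTo j) with hφ
  have hbij := bijective_desc ψ hψ
  haveI : IsIso φ := by
    rw [ConcreteCategory.isIso_iff_bijective]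
    exact hbij
  have hfac : Spec.map φ ≫ (Spec (CommRingCat.of R)).fromSpecResidueField (j (closedPoint L)) = j :=
    Scheme.descResidueField_stalkClosedPointTo_fromSpecResidueField L _ j
  have hι : (Spec (CommRingCat.of R)).fromSpecResidueField (j (closedPoint L)) =
      inv (Spec.map φ) ≫ j := by
    rw [IsIso.eq_inv_comp]; exact hfac
  change P (pullback.snd f ((Spec (CommRingCat.of R)).fromSpecResidueField (j (closedPoint L))))
  have := snd_comp_of_snd P f j (inv (Spec.map φ)) h
  rw [← hι] at this
  exact this
  
/-- over a DVR: flat separated finite type, generic fibre geometrically connected, closed fibre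
proper and nonempty => proper. (pullback forms) -/
theorem proper_over_dvr (R K : Type u) [CommRing R] [IsDomain R] [IsDiscreteValuationRing R]
    [Field K] [Algebra R K] [IsFractionRing R K]
    {X : Scheme.{u}} (f : X ⟶ Spec (CommRingCat.of R))
    [Flat f] [IsSeparated f] [LocallyOfFiniteType f] [QuasiCompact f]
    (hgen : GeometricallyConnected
      (pullback.snd f (Spec.map (CommRingCat.ofHom (algebraMap R K)))))
    (hne : ∃ x : X, f x = closedPoint R)
    (hs : IsProper (pullback.snd f (Spec.map (CommRingCat.ofHom (IsLocalRing.residue R))))) :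
    IsProper f := by
  set jK := Spec.map (CommRingCat.ofHom (algebraMap R K)) with hjK
  set jk := Spec.map (CommRingCat.ofHom (IsLocalRing.residue R)) with hjk
  have hψK : ∀ z : K, ∃ a b : R, (algebraMap R K) b ≠ 0 ∧ z = (algebraMap R K) a / (algebraMap R K) b := by
    intro z
    obtain ⟨a, b, hb, rfl⟩ := IsFractionRing.div_surjective (A := R) z
    exact ⟨a, b, by
      simpa using nonZeroDivisors.ne_zero hb, rfl⟩
  have hψk : ∀ z : IsLocalRing.ResidueField R, ∃ a b : R, (IsLocalRing.residue R) b ≠ 0 ∧
      z = (IsLocalRing.residue R) a / (IsLocalRing.residue R) b := by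
    intro z
    obtain ⟨a, rfl⟩ := IsLocalRing.residue_surjective z
    exact ⟨a, 1, by simp, by simp⟩
  have hgenF := fiber_of_pullback @GeometricallyConnected (algebraMap R K) hψK f hgen
  have hsF := fiber_of_pullback @IsProper (IsLocalRing.residue R) hψk f hs
  -- the two points
  have hpk : jk (closedPoint (IsLocalRing.ResidueField R)) = closedPoint R := by
    apply PrimeSpectrum.ext
    change Ideal.comap (IsLocalRing.residue R) (closedPoint (IsLocalRing.ResidueField R)).asIdeal = _
    rw [IsLocalRing.closedPoint]
    simp only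
    rw [IsLocalRing.maximalIdeal_eq_bot, ← RingHom.ker_eq_comap_bot, IsLocalRing.ker_residue]
    rfl
  have hpK : (jK (closedPoint K)).asIdeal = ⊥ := by
    change Ideal.comap (algebraMap R K) (closedPoint K).asIdeal = _
    rw [IsLocalRing.closedPoint]
    simp only
    rw [IsLocalRing.maximalIdeal_eq_bot, ← RingHom.ker_eq_comap_bot]
    exact (RingHom.injective_iff_ker_eq_bot _).mp (IsFractionRing.injective R K)
  set s : Spec (CommRingCat.of R) := jk (closedPoint (IsLocalRing.ResidueField R)) with hs_def
  haveI : Nonempty ↥(f.fiber s) := by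
    obtain ⟨x, hx⟩ := hne
    have hx' : f x = s := hx.trans hpk.symm
    rw [← hx']
    exact ⟨f.asFiber x⟩
  obtain ⟨U, hsU, hU⟩ := LocPropG.proper_nhd_of_flat f (fun η hη hne' => by
    have hη' : η = jK (closedPoint K) := by
      have h1 : jK (closedPoint K) ⤳ η := by
        refine (PrimeSpectrum.le_iff_specializes (jK (closedPoint K)) η).mp ?_
        change (jK (closedPoint K)).asIdeal ≤ η.asIdeal
        rw [hpK]; exact bot_le
      exact (hη _ h1).symm
    subst hη'
    exact hgenF) s hsF
  have hUtop : U = ⊤ := by
    rw [eq_top_iff]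
    intro x _
    have hx : x ⤳ s := by
      have := IsLocalRing.specializes_closedPoint (R := R) x
      rw [← hpk] at this
      exact this
    exact hx.mem_open U.isOpen hsU
  subst hUtop
  exact (IsZariskiLocalAtTarget.iff_of_iSup_eq_top (P := @IsProper)
    (fun _ : Unit => (⊤ : (Spec (CommRingCat.of R)).Opens)) (by simp)).mpr (fun _ => hU)

end Groth.Agent.Helper3.FibTr
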