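import Mathlib
import Groth.Prelude
import Groth.Agent.Helper3.RigidGen
import Groth.Agent.Helper3.GammaConn
import Groth.Agent.Helper3.RatPtsMulInv
import Groth.Agent.Helper3.GeomRedProd
import Groth.Agent.S4372

set_option autoImplicit false
set_option linter.style.haveILetI false
set_option linter.unusedSectionVars false
set_option linter.unusedVariables false
set_option linter.style.haveILetI false
set_option linter.unusedSectionVars false
set_option linter.unusedVariables false
universe u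
open scoped TensorProduct
open AlgebraicGeometry CategoryTheory CategoryTheory.Limits MorphismProperty
open MonoidalCategory CartesianMonoidalCategory MonObj GrpObj

namespace Groth.Agent.Helper3.FibreTransl

open Groth.Agent.Helper3.SepPts Groth.Agent.Helper3.RatPtsMulInv Groth.Agent.Helper3.RigidGen
  Groth.Agent.Helper3.GammaConn Groth.Agent.Helper5.Rigid Groth.Agent.Helper3.GeomRedPt3

/-- the product of a reduced scheme and a geometrically reduced scheme over a field is reduced -/
theorem isReduced_pullback_of_geomReduced (k : Type u) [Field k] {Z₁ Z₂ : Scheme.{u}}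
    (g₁ : Z₁ ⟶ Spec (CommRingCat.of k)) (g₂ : Z₂ ⟶ Spec (CommRingCat.of k))
    [IsReduced Z₁] [GeometricallyReduced g₂] : IsReduced (pullback g₁ g₂) := by
  let 𝒱₁ := Z₁.affineOpenCover
  let 𝒱₂ := Z₂.affineOpenCover
  let 𝒲 := Scheme.Pullback.openCoverOfLeftRight 𝒱₁.openCover 𝒱₂.openCover g₁ g₂
  refine (IsReduced.iff_of_openCover _ 𝒲).mpr (fun (ij : 𝒱₁.I₀ × 𝒱₂.I₀) => ?_)
  show IsReduced (pullback (𝒱₁.f ij.1 ≫ g₁) (𝒱₂.f ij.2 ≫ g₂))
  haveI : IsOpenImmersion (𝒱₁.f ij.1) := 𝒱₁.map_prop ij.1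
  haveI : IsOpenImmersion (𝒱₂.f ij.2) := 𝒱₂.map_prop ij.2
  haveI : GeometricallyReduced (𝒱₂.f ij.2 ≫ g₂) := geomRed_comp_openImmersion _ g₂
  haveI : IsReduced (Spec (𝒱₁.X ij.1)) := isReduced_of_isOpenImmersion (𝒱₁.f ij.1)
  obtain ⟨φ₁, hφ₁⟩ := Spec.map_surjective (𝒱₁.f ij.1 ≫ g₁)
  obtain ⟨φ₂, hφ₂⟩ := Spec.map_surjective (𝒱₂.f ij.2 ≫ g₂)
  rw [← hφ₁, ← hφ₂]
  haveI : GeometricallyReduced (Spec.map φ₂) := by rw [hφ₂]; infer_instance
  letI := φ₁.hom.toAlgebra
  letI := φ₂.hom.toAlgebra
  have h1 : φ₁ = CommRingCat.ofHom (algebraMap k (𝒱₁.X ij.1)) := rfl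
  have h2 : φ₂ = CommRingCat.ofHom (algebraMap k (𝒱₂.X ij.2)) := rfl
  haveI : GeometricallyReduced (Spec.map (CommRingCat.ofHom (algebraMap k (𝒱₂.X ij.2)))) := by
    rw [← h2]; infer_instance
  haveI : Algebra.IsGeometricallyReduced k (𝒱₂.X ij.2) := isGeometricallyReduced_of_Spec k _
  haveI : _root_.IsReduced (𝒱₁.X ij.1) := (affine_isReduced_iff _).mp inferInstance
  haveI : _root_.IsReduced ((𝒱₁.X ij.1) ⊗[k] (𝒱₂.X ij.2)) :=
    Groth.Agent.Helper3.GeomRedProd.isReduced_tensor _ _
  rw [h1, h2]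
  haveI : IsReduced (Spec (CommRingCat.of ((𝒱₁.X ij.1) ⊗[k] (𝒱₂.X ij.2)))) :=
    (affine_isReduced_iff _).mpr inferInstance
  exact isReduced_of_isOpenImmersion (pullbackSpecIso k (𝒱₁.X ij.1) (𝒱₂.X ij.2)).hom

variable {k : Type u} [Field k]

/-- translation by `x'` carries the connected component of `y` in its fibre into the connected
component of `x' y` in its fibre -/
theorem claim (X : Over (Spec (CommRingCat.of k))) [GrpObj X] [IsProper X.hom]
    [IrreducibleSpace X.left] [GeometricallyReduced X.hom]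
    {Y : Scheme.{u}} (q : Y ⟶ Spec (CommRingCat.of k)) [IsSeparated q] (f : X.left ⟶ Y)
    (hf : f ≫ q = X.hom) (y x' : 𝟙_ (Over (Spec (CommRingCat.of k))) ⟶ X) :
    (tr x').left.base '' connectedComponentIn
        (f.base ⁻¹' {f.base (y.left.base (IsLocalRing.closedPoint k))})
        (y.left.base (IsLocalRing.closedPoint k)) ⊆
      connectedComponentIn
        (f.base ⁻¹' {f.base ((x' * y).left.base (IsLocalRing.closedPoint k))})
        ((x' * y).left.base (IsLocalRing.closedPoint k)) := by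
  set pt : ↥(𝟙_ (Over (Spec (CommRingCat.of k)))).left := IsLocalRing.closedPoint k with hpt
  have hsub : ∀ a : ↥(𝟙_ (Over (Spec (CommRingCat.of k)))).left, a = pt :=
    fun a => Subsingleton.elim (α := PrimeSpectrum k) _ _
  set c := f.base (y.left.base pt) with hc
  -- the section `σ`
  let σ : Spec (CommRingCat.of k) ⟶ Y := y.left ≫ f
  have hσ : σ ≫ q = 𝟙 _ := by
    show (y.left ≫ f) ≫ q = 𝟙 _
    rw [Category.assoc, hf]; exact Over.w y
  haveI : Subsingleton ↥(Spec (CommRingCat.of k)) :=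
    inferInstanceAs (Subsingleton (PrimeSpectrum k))
  haveI : IsClosedImmersion σ := isClosedImmersion_of_comp_eq_id q σ hσ
  have hrangeσ : Set.range σ.base = {c} := by
    ext z
    constructor
    · rintro ⟨a, rfl⟩
      rw [hsub a]; rfl
    · rintro rfl
      exact ⟨pt, rfl⟩
  have hcl_c : IsClosed ({c} : Set Y) := by
    rw [← hrangeσ]; exact σ.isClosedEmbedding.isClosed_range
  set Fib : Set X.left := f.base ⁻¹' {c} with hFib
  have hFibcl : IsClosed Fib := hcl_c.preimage f.continuous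
  set F := connectedComponentIn Fib (y.left.base pt) with hF
  have hyFib : y.left.base pt ∈ Fib := rfl
  have hFcl : IsClosed F := by
    rw [hF, connectedComponentIn_eq_image hyFib]
    exact hFibcl.isClosedEmbedding_subtypeVal.isClosedMap _ isClosed_connectedComponent
  have hFpre : _root_.IsPreconnected F := isPreconnected_connectedComponentIn
  have hyF : y.left.base pt ∈ F := mem_connectedComponentIn hyFib
  have hFFib : F ⊆ Fib := connectedComponentIn_subset _ _
  -- the reduced subscheme on `F`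
  let C : TopologicalSpace.Closeds X.left := ⟨F, hFcl⟩
  let I := Scheme.IdealSheafData.vanishingIdeal C
  let ι₀ : I.subscheme ⟶ X.left := I.subschemeι
  haveI : IsReduced I.subscheme := Groth.Agent.S4372.isReduced_vanishingIdeal_subscheme C
  have hrange : Set.range ι₀.base = F := by
    rw [Scheme.IdealSheafData.range_subschemeι, Scheme.IdealSheafData.coe_support_vanishingIdeal]
    rfl
  let V : Over (Spec (CommRingCat.of k)) := Over.mk (ι₀ ≫ X.hom)
  let ιV : V ⟶ X := Over.homMk ι₀ rfl
  haveI : IsClosedImmersion ι₀ := by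
    show IsClosedImmersion I.subschemeι
    infer_instance
  haveI : IsProper V.hom := by
    show IsProper (ι₀ ≫ X.hom)
    infer_instance
  haveI : IsReduced V.left := ‹IsReduced I.subscheme›
  haveI : ConnectedSpace V.left := by
    haveI : Nonempty V.left := by
      have : y.left.base pt ∈ Set.range ι₀.base := by rw [hrange]; exact hyF
      obtain ⟨v, -⟩ := this
      exact ⟨v⟩
    haveI : PreconnectedSpace V.left := by
      refine ⟨?_⟩
      rw [← ι₀.isEmbedding.isInducing.isPreconnected_image, Set.image_univ, hrange]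
      exact hFpre
    exact { toNonempty := inferInstance }
  -- the rational point of `V`
  haveI : IsReduced (𝟙_ (Over (Spec (CommRingCat.of k)))).left := by
    show IsReduced (Spec (CommRingCat.of k))
    infer_instance
  obtain ⟨v₀', hv₀'⟩ := lift_of_reduced ι₀ y.left (by
    rintro _ ⟨a, rfl⟩
    rw [hrange, hsub a]
    exact hyF)
  let v₀ : 𝟙_ (Over (Spec (CommRingCat.of k))) ⟶ V :=
    Over.homMk v₀' (by
      show v₀' ≫ ι₀ ≫ X.hom = _
      rw [← Category.assoc, hv₀', Over.w y])
  have hv₀ : v₀ ≫ ιV = y := by ext; exact hv₀'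
  have hΓ : Function.Bijective V.hom.appTop.hom :=
    bijective_appTop_of_connected k V.hom v₀.left (Over.w v₀)
  haveI : IsReduced (V ⊗ X).left :=
    isReduced_pullback_of_geomReduced k V.hom X.hom
  -- the target
  let U : Over (Spec (CommRingCat.of k)) := Over.mk q
  let fU : X ⟶ U := Over.homMk f hf
  haveI : IsSeparated U.hom := ‹IsSeparated q›
  let Φ : V ⊗ X ⟶ U := ((snd V X) * (fst V X ≫ ιV)) ≫ fU
  -- `f` is constant on `V`
  have hconst : ιV ≫ fU = toUnit V ≫ (y ≫ fU) := by
    ext1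
    show ι₀ ≫ f = V.hom ≫ y.left ≫ f
    obtain ⟨ψ, hψ⟩ := lift_of_reduced σ (ι₀ ≫ f) (by
      rintro _ ⟨v, rfl⟩
      rw [hrangeσ]
      have : ι₀.base v ∈ F := by rw [← hrange]; exact ⟨v, rfl⟩
      exact hFFib this)
    have hψ' : ψ = V.hom := by
      have h1 : ψ = ψ ≫ σ ≫ q := by rw [hσ, Category.comp_id]
      rw [h1, ← Category.assoc, hψ, Category.assoc, hf]
      rfl
    rw [← hψ, hψ']
  have hV : lift (𝟙 V) (toUnit V ≫ η[X]) ≫ Φ = toUnit V ≫ (y ≫ fU) := by
    show lift (𝟙 V) (toUnit V ≫ η[X]) ≫ ((snd V X) * (fst V X ≫ ιV)) ≫ fU = _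
    rw [← Category.assoc, MonObj.comp_mul, lift_snd, ← Category.assoc, lift_fst, Category.id_comp,
      ← Hom.one_def, _root_.one_mul, hconst]
  have hw : ∀ z : (V ⊗ X).left, (snd V X).left z = η[X].left pt → Φ.left z = (y ≫ fU).left pt :=
    fun z hz => apply_of_snd_eq Φ η[X] (y ≫ fU) hV pt z hz
  have hrig := rigidity_factor' hΓ Φ v₀ (η[X].left pt) ((y ≫ fU).left pt) hw
  -- evaluate at `x'`
  have key : ιV ≫ tr x' ≫ fU = toUnit V ≫ (x' * y) ≫ fU := by
    have h1 : lift (𝟙 V) (toUnit V ≫ x') ≫ Φ = ιV ≫ tr x' ≫ fU := by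
      show lift (𝟙 V) (toUnit V ≫ x') ≫ ((snd V X) * (fst V X ≫ ιV)) ≫ fU = _
      rw [← Category.assoc, MonObj.comp_mul, lift_snd, ← Category.assoc, lift_fst,
        Category.id_comp, ← Category.assoc ιV]
      congr 1
      unfold tr
      rw [MonObj.comp_mul, Category.comp_id, ← Category.assoc,
        toUnit_unique (ιV ≫ toUnit X) (toUnit V)]
    have h2 : lift (toUnit X ≫ v₀) (𝟙 X) ≫ Φ = ((𝟙 X) * (toUnit X ≫ y)) ≫ fU := by
      show lift (toUnit X ≫ v₀) (𝟙 X) ≫ ((snd V X) * (fst V X ≫ ιV)) ≫ fU = _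
      rw [← Category.assoc, MonObj.comp_mul, lift_snd, ← Category.assoc, lift_fst,
        Category.assoc, hv₀]
    have h3 : x' ≫ ((𝟙 X) * (toUnit X ≫ y)) = x' * y := by
      rw [MonObj.comp_mul, Category.comp_id, ← Category.assoc,
        toUnit_unique (x' ≫ toUnit X) (𝟙 _), Category.id_comp]
    rw [← h1, hrig, ← Category.assoc, lift_snd, h2, Category.assoc, ← Category.assoc x', h3]
  -- conclusion
  have hsubFib : (tr x').left.base '' F ⊆
      f.base ⁻¹' {f.base ((x' * y).left.base pt)} := by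
    rintro _ ⟨p, hp, rfl⟩
    rw [← hrange] at hp
    obtain ⟨v, rfl⟩ := hp
    have h1 := congrArg (fun t => t.left.base v) key
    simp only [Over.comp_left, Scheme.Hom.comp_apply] at h1
    show f.base ((tr x').left.base (ι₀.base v)) = f.base ((x' * y).left.base pt)
    have h2 : (toUnit V).left.base v = pt := hsub _
    rw [h2] at h1
    exact h1
  have hmem : (x' * y).left.base pt ∈ (tr x').left.base '' F := by
    refine ⟨y.left.base pt, hyF, ?_⟩
    rw [← pt_comp_tr]
    rfl
  exact (hFpre.image _ (tr x').left.continuous.continuousOn).subset_connectedComponentIn hmem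
    hsubFib

end Groth.Agent.Helper3.FibreTransl
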