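import Mathlib
import Groth.Prelude
import Groth.Agent.Helper3.FibreTransl
import Groth.Agent.Helper2.HS6
import Groth.Agent.Helper2.SmoothRegSch

set_option autoImplicit false
set_option linter.style.haveILetI false
set_option linter.unusedSectionVars false
set_option linter.unusedVariables false
set_option linter.style.haveILetI false
set_option linter.unusedSectionVars false
set_option linter.unusedVariables false
universe u
open AlgebraicGeometry CategoryTheory CategoryTheory.Limits MorphismProperty
open MonoidalCategory CartesianMonoidalCategory MonObj GrpObj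

namespace Groth.Agent.Helper3.FibreTranslMain

open Groth.Agent.Helper3.RatPtsMulInv Groth.Agent.Helper3.FibreTransl

variable {k : Type u} [Field k]

lemma eta_eq_one (X : Over (Spec (CommRingCat.of k))) [GrpObj X] :
    (η[X] : 𝟙_ (Over (Spec (CommRingCat.of k))) ⟶ X) = 1 := by
  rw [Hom.one_def, toUnit_unique (toUnit (𝟙_ (Over (Spec (CommRingCat.of k))))) (𝟙 _),
    Category.id_comp]

lemma lift_mul_eq_tr (X : Over (Spec (CommRingCat.of k))) [GrpObj X]
    (x : 𝟙_ (Over (Spec (CommRingCat.of k))) ⟶ X) :
    lift (toUnit X ≫ x) (𝟙 X) ≫ μ[X] = tr x := by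
  unfold tr
  rw [Hom.mul_def]

/-- general form: translation by `x` carries the component of `e` onto the component of `x`. -/
theorem transl_eq (X : Over (Spec (CommRingCat.of k))) [GrpObj X] [IsProper X.hom]
    [IrreducibleSpace X.left] [GeometricallyReduced X.hom]
    {Y : Scheme.{u}} (q : Y ⟶ Spec (CommRingCat.of k)) [IsSeparated q] (f : X.left ⟶ Y)
    (hf : f ≫ q = X.hom) (x : 𝟙_ (Over (Spec (CommRingCat.of k))) ⟶ X) :
    (tr x).left.base '' connectedComponentIn
        (f.base ⁻¹' {f.base (η[X].left.base (IsLocalRing.closedPoint k))})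
        (η[X].left.base (IsLocalRing.closedPoint k)) =
      connectedComponentIn
        (f.base ⁻¹' {f.base (x.left.base (IsLocalRing.closedPoint k))})
        (x.left.base (IsLocalRing.closedPoint k)) := by
  apply subset_antisymm
  · have h := claim X q f hf η[X] x
    have e1 : x * η[X] = x := by rw [eta_eq_one, _root_.mul_one]
    rw [e1] at h
    exact h
  · intro p hp
    have h := claim X q f hf x x⁻¹
    have e1 : x⁻¹ * x = η[X] := by rw [inv_mul_cancel, eta_eq_one]
    rw [e1] at h
    refine ⟨(tr x⁻¹).left.base p, h ⟨p, hp, rfl⟩, ?_⟩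
    rw [← Scheme.Hom.comp_apply, ← Over.comp_left, tr_inv_comp_tr]
    rfl

theorem s7806 (k : Type u) [Field k] (X : Over (Spec (CommRingCat.of k)))
    [GrpObj X] [IsProper X.hom] [GeometricallyIntegral X.hom]
    {Y : Scheme.{u}} (q : Y ⟶ Spec (CommRingCat.of k)) [IsSeparated q] (f : X.left ⟶ Y) (hf : f ≫ q = X.hom)
    (x : 𝟙_ (Over (Spec (CommRingCat.of k))) ⟶ X) :
    (lift (toUnit X ≫ x) (𝟙 X) ≫ μ[X]).left '' connectedComponentIn (f ⁻¹' {f (η[X].left (IsLocalRing.closedPoint k))}) (η[X].left (IsLocalRing.closedPoint k)) =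
      connectedComponentIn (f ⁻¹' {f (x.left (IsLocalRing.closedPoint k))}) (x.left (IsLocalRing.closedPoint k)) := by
  haveI : Subsingleton ↥(Spec (CommRingCat.of k)) :=
    inferInstanceAs (Subsingleton (PrimeSpectrum k))
  haveI : IsIntegral X.left := GeometricallyIntegral.isIntegral_of_subsingleton X.hom
  haveI : IrreducibleSpace X.left := inferInstance
  rw [lift_mul_eq_tr]
  exact transl_eq X q f hf x

theorem s19533 (k : Type u) [Field k] [IsAlgClosed k]
    (A : Over (Spec (CommRingCat.of k))) [GrpObj A] [IsProper A.hom] [Smooth A.hom] [GeometricallyConnected A.hom]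
    {Y : Scheme.{u}} (q : Y ⟶ Spec (CommRingCat.of k)) [IsSeparated q] (f : A.left ⟶ Y) (hf : f ≫ q = A.hom)
    (x y : 𝟙_ (Over (Spec (CommRingCat.of k))) ⟶ A)
    (hx : x.left (IsLocalRing.closedPoint k) ∈
      connectedComponentIn (f ⁻¹' {f (η[A].left (IsLocalRing.closedPoint k))}) (η[A].left (IsLocalRing.closedPoint k)))
    (hy : y.left (IsLocalRing.closedPoint k) ∈
      connectedComponentIn (f ⁻¹' {f (η[A].left (IsLocalRing.closedPoint k))}) (η[A].left (IsLocalRing.closedPoint k))) :
    (lift x y ≫ μ[A]).left (IsLocalRing.closedPoint k) ∈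
        connectedComponentIn (f ⁻¹' {f (η[A].left (IsLocalRing.closedPoint k))}) (η[A].left (IsLocalRing.closedPoint k)) ∧
      (x ≫ ι[A]).left (IsLocalRing.closedPoint k) ∈
        connectedComponentIn (f ⁻¹' {f (η[A].left (IsLocalRing.closedPoint k))}) (η[A].left (IsLocalRing.closedPoint k)) := by
  haveI : Subsingleton ↥(Spec (CommRingCat.of k)) :=
    inferInstanceAs (Subsingleton (PrimeSpectrum k))
  haveI : Nonempty ↥(Spec (CommRingCat.of k)) := ⟨IsLocalRing.closedPoint k⟩
  haveI : ConnectedSpace A.left := GeometricallyConnected.connectedSpace_of_subsingleton A.hom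
  haveI : IrreducibleSpace A.left :=
    Groth.Agent.Helper2.HS6.irreducibleSpace_of_connectedSpace A (IsLocalRing.closedPoint k)
  haveI : GeometricallyReduced A.hom :=
    Groth.Agent.Helper2.SmoothRegSch.geometricallyReduced_of_smooth k _ _
  set pt := IsLocalRing.closedPoint k with hpt
  set e := η[A].left.base pt with he
  -- the component of `x` equals the component of `e`
  have hFib : f.base (x.left.base pt) = f.base e := by
    have := connectedComponentIn_subset _ _ hx
    exact this
  have hFx : connectedComponentIn (f.base ⁻¹' {f.base (x.left.base pt)}) (x.left.base pt) =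
      connectedComponentIn (f.base ⁻¹' {f.base e}) e := by
    rw [hFib]
    exact (connectedComponentIn_eq hx).symm
  have hT := transl_eq A q f hf x
  rw [hFx] at hT
  refine ⟨?_, ?_⟩
  · have h1 : lift x y ≫ μ[A] = y ≫ tr x := by
      rw [pt_comp_tr, Hom.mul_def]
    rw [h1]
    show (tr x).left.base (y.left.base pt) ∈ _
    rw [← hT]
    exact ⟨_, hy, rfl⟩
  · have h1 : x ≫ ι[A] = η[A] ≫ tr x⁻¹ := by
      rw [pt_comp_tr, eta_eq_one, _root_.mul_one, Hom.inv_def]
    rw [h1]
    show (tr x⁻¹).left.base e ∈ _
    have h2 := claim A q f hf x x⁻¹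
    have e1 : x⁻¹ * x = η[A] := by rw [inv_mul_cancel, eta_eq_one]
    rw [e1, hFx] at h2
    apply h2
    refine ⟨e, ?_, rfl⟩
    exact mem_connectedComponentIn rfl

end Groth.Agent.Helper3.FibreTranslMain
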