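import Mathlib
import Groth.Agent.Helper3.FinComp1

set_option autoImplicit false
set_option linter.style.haveILetI false
set_option linter.unusedSectionVars false
set_option linter.unusedVariables false
set_option linter.style.haveILetI false
set_option linter.unusedSectionVars false
set_option linter.unusedVariables false

universe u

open AlgebraicGeometry CategoryTheory IsLocalRing

namespace Groth.Agent.Helper3.FinComp2

open Groth.Agent.Helper3.FinComp1

section RingOf

/-- the ring map attached to a morphism from an affine scheme `Spec R` to a scheme `Z` -/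
noncomputable def ringOf {R : CommRingCat.{u}} {Z : Scheme.{u}} (g : Spec R ⟶ Z) : Γ(Z, ⊤) ⟶ R :=
  g.appTop ≫ (Scheme.ΓSpecIso R).hom

theorem ringOf_comp {R S : CommRingCat.{u}} {Z : Scheme.{u}} (φ : R ⟶ S) (g : Spec R ⟶ Z) :
    ringOf (Spec.map φ ≫ g) = ringOf g ≫ φ := by
  unfold ringOf
  rw [Scheme.Hom.comp_appTop, Category.assoc, Scheme.ΓSpecIso_naturality, Category.assoc]

theorem spec_ringOf {R : CommRingCat.{u}} {Z : Scheme.{u}} [IsAffine Z] (g : Spec R ⟶ Z) :
    Spec.map (ringOf g) ≫ Z.isoSpec.inv = g := by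
  unfold ringOf
  rw [Spec.map_comp, SpecMap_ΓSpecIso_hom, ← Scheme.toSpecΓ_naturality, Category.assoc]
  change g ≫ Z.isoSpec.hom ≫ Z.isoSpec.inv = g
  rw [Iso.hom_inv_id, Category.comp_id]

theorem ringOf_spec {R : CommRingCat.{u}} {Z : Scheme.{u}} [IsAffine Z] (γ : Γ(Z, ⊤) ⟶ R) :
    ringOf (Spec.map γ ≫ Z.isoSpec.inv) = γ := by
  apply Spec.map_injective
  rw [← cancel_mono Z.isoSpec.inv, spec_ringOf]

end RingOf

section
variable (A : Type u) [CommRing A] [IsLocalRing A] [IsNoetherianRing A]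
  [IsAdicComplete (maximalIdeal A) A]
  (B : Type u) [CommRing B] [Algebra A B] [Module.Finite A B]

/-- the ideals `𝔪ⁿ B` -/
abbrev I (n : ℕ) : Ideal B := ((maximalIdeal A) ^ n).map (algebraMap A B)

/-- the closed immersions `Spec (B / 𝔪ⁿ B) ⟶ Spec B` -/
noncomputable abbrev q (n : ℕ) : Spec (CommRingCat.of (B ⧸ I A B n)) ⟶ Spec (CommRingCat.of B) :=
  Spec.map (CommRingCat.ofHom (Ideal.Quotient.mk (I A B n)))

/-- the transition maps -/
noncomputable abbrev t (n : ℕ) :
    Spec (CommRingCat.of (B ⧸ I A B n)) ⟶ Spec (CommRingCat.of (B ⧸ I A B (n + 1))) :=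
  Spec.map (CommRingCat.ofHom (Ideal.Quotient.factor
    (Ideal.map_mono (Ideal.pow_le_pow_right (I := maximalIdeal A) (Nat.le_succ n)))))

theorem t_q (n : ℕ) : t A B n ≫ q A B (n + 1) = q A B n := by
  rw [← Spec.map_comp]
  congr 1

/-- uniqueness for affine targets -/
theorem unique_affine {Z : Scheme.{u}} [IsAffine Z] (f g : Spec (CommRingCat.of B) ⟶ Z)
    (H : ∀ n, q A B n ≫ f = q A B n ≫ g) : f = g := by
  rw [← spec_ringOf f, ← spec_ringOf g]
  congr 2
  ext c
  have h0 : (ringOf f).hom c - (ringOf g).hom c = 0 := by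
    apply hausdorff A B
    intro n
    rw [← Ideal.Quotient.eq]
    have h1 := congrArg (fun k => (ringOf k).hom c) (H n)
    simp only [ringOf_comp] at h1
    exact h1
  exact sub_eq_zero.mp h0

section Local
variable [IsLocalRing B]

theorem I_le_maximalIdeal (k : ℕ) : I A B (k + 1) ≤ maximalIdeal B := by
  refine le_trans (Ideal.map_mono ?_) (map_le_of_isMaximal A B (maximalIdeal B))
  exact Ideal.pow_le_self (Nat.succ_ne_zero k)

theorem isLocalRing_quot' (k : ℕ) : IsLocalRing (B ⧸ I A B (k + 1)) := by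
  haveI : Nontrivial (B ⧸ I A B (k + 1)) := Ideal.Quotient.nontrivial_iff.mpr
    (ne_top_of_le_ne_top (maximalIdeal.isMaximal B).ne_top (I_le_maximalIdeal A B k))
  exact IsLocalRing.of_surjective' (Ideal.Quotient.mk _) Ideal.Quotient.mk_surjective

theorem closedPoint_mem_range_q (k : ℕ) :
    ∃ z : Spec (CommRingCat.of (B ⧸ I A B (k + 1))), q A B (k + 1) z = closedPoint B := by
  have h : (closedPoint B) ∈ Set.range (PrimeSpectrum.comap (Ideal.Quotient.mk (I A B (k + 1)))) := by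
    rw [_root_.range_comap_of_surjective _ _ Ideal.Quotient.mk_surjective, Ideal.mk_ker]
    exact I_le_maximalIdeal A B k
  obtain ⟨z, hz⟩ := h
  exact ⟨z, hz⟩

/-- uniqueness, local case -/
theorem unique_local {Y : Scheme.{u}} (f g : Spec (CommRingCat.of B) ⟶ Y)
    (H : ∀ n, q A B n ≫ f = q A B n ≫ g) : f = g := by
  obtain ⟨z, hz⟩ := closedPoint_mem_range_q A B 0
  have hfg : f (closedPoint B) = g (closedPoint B) := by
    rw [← hz, ← Scheme.Hom.comp_apply, ← Scheme.Hom.comp_apply, H 1]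
  obtain ⟨_, ⟨V, hV, rfl⟩, hyV, -⟩ := Y.isBasis_affineOpens.exists_subset_of_mem_open
    (Set.mem_univ (f (closedPoint B))) isOpen_univ
  have hfT : f ⁻¹ᵁ V = ⊤ := (closedPoint_mem_iff _).mp hyV
  have hgT : g ⁻¹ᵁ V = ⊤ := (closedPoint_mem_iff _).mp (by
    change g (closedPoint B) ∈ V
    rw [← hfg]; exact hyV)
  have hrf : Set.range f ⊆ Set.range (Scheme.Opens.ι V) := by
    rw [Scheme.Opens.range_ι]
    rintro _ ⟨s, rfl⟩
    have : s ∈ f ⁻¹ᵁ V := by rw [hfT]; trivial
    exact this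
  have hrg : Set.range g ⊆ Set.range (Scheme.Opens.ι V) := by
    rw [Scheme.Opens.range_ι]
    rintro _ ⟨s, rfl⟩
    have : s ∈ g ⁻¹ᵁ V := by rw [hgT]; trivial
    exact this
  haveI : IsAffine (Scheme.Opens.toScheme V) := hV
  have key := unique_affine A B (IsOpenImmersion.lift (Scheme.Opens.ι V) f hrf)
    (IsOpenImmersion.lift (Scheme.Opens.ι V) g hrg) (fun n => by
      rw [← cancel_mono (Scheme.Opens.ι V), Category.assoc, Category.assoc,
        IsOpenImmersion.lift_fac, IsOpenImmersion.lift_fac]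
      exact H n)
  rw [← IsOpenImmersion.lift_fac (Scheme.Opens.ι V) f hrf, key, IsOpenImmersion.lift_fac]

/-- existence, local case -/
theorem exists_local {Y : Scheme.{u}}
    (u : (n : ℕ) → (Spec (CommRingCat.of (B ⧸ I A B n)) ⟶ Y))
    (hu : ∀ n, t A B n ≫ u (n + 1) = u n) :
    ∃ f : Spec (CommRingCat.of B) ⟶ Y, ∀ n, q A B n ≫ f = u n := by
  haveI hloc : ∀ k, IsLocalRing (B ⧸ I A B (k + 1)) := isLocalRing_quot' A B
  -- closed points
  have hfs : ∀ k, Function.Surjective (Ideal.Quotient.factor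
      (Ideal.map_mono (f := algebraMap A B)
        (Ideal.pow_le_pow_right (I := maximalIdeal A) (Nat.le_succ (k + 1))))) :=
    fun k => Ideal.Quotient.factor_surjective _
  have hcl : ∀ k, t A B (k + 1) (closedPoint (B ⧸ I A B (k + 1))) =
      closedPoint (B ⧸ I A B (k + 1 + 1)) := by
    intro k
    haveI : IsLocalHom (Ideal.Quotient.factor
      (Ideal.map_mono (f := algebraMap A B)
        (Ideal.pow_le_pow_right (I := maximalIdeal A) (Nat.le_succ (k + 1))))) :=
      Function.Surjective.isLocalHom _ (hfs k)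
    exact IsLocalRing.comap_closedPoint _
  set y : Y := u 1 (closedPoint (B ⧸ I A B (0 + 1))) with hy
  have hyk : ∀ k, u (k + 1) (closedPoint (B ⧸ I A B (k + 1))) = y := by
    intro k
    induction k with
    | zero => rfl
    | succ k ih =>
      rw [← hcl k, ← Scheme.Hom.comp_apply, hu (k + 1), ih]
  obtain ⟨_, ⟨V, hV, rfl⟩, hyV, -⟩ := Y.isBasis_affineOpens.exists_subset_of_mem_open
    (Set.mem_univ y) isOpen_univ
  haveI : IsAffine (Scheme.Opens.toScheme V) := hV
  have hru : ∀ k, Set.range (u (k + 1)) ⊆ Set.range (Scheme.Opens.ι V) := by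
    intro k
    have hT : (u (k + 1)) ⁻¹ᵁ V = ⊤ := (closedPoint_mem_iff _).mp (by
      change u (k + 1) (closedPoint (B ⧸ I A B (k + 1))) ∈ V
      rw [hyk k]; exact hyV)
    rw [Scheme.Opens.range_ι]
    rintro _ ⟨s, rfl⟩
    have : s ∈ (u (k + 1)) ⁻¹ᵁ V := by rw [hT]; trivial
    exact this
  let u' : ∀ k, Spec (CommRingCat.of (B ⧸ I A B (k + 1))) ⟶ Scheme.Opens.toScheme V :=
    fun k => IsOpenImmersion.lift (Scheme.Opens.ι V) (u (k + 1)) (hru k)
  have hu' : ∀ k, u' k ≫ Scheme.Opens.ι V = u (k + 1) := fun k => IsOpenImmersion.lift_fac _ _ _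
  have hu'c : ∀ k, t A B (k + 1) ≫ u' (k + 1) = u' k := by
    intro k
    rw [← cancel_mono (Scheme.Opens.ι V), Category.assoc, hu', hu', hu (k + 1)]
  let γ : ∀ k, Γ(Scheme.Opens.toScheme V, ⊤) ⟶ CommRingCat.of (B ⧸ I A B (k + 1)) :=
    fun k => ringOf (u' k)
  have hγ : ∀ k, γ k = γ (k + 1) ≫ CommRingCat.ofHom (Ideal.Quotient.factor
      (Ideal.map_mono (f := algebraMap A B)
        (Ideal.pow_le_pow_right (I := maximalIdeal A) (Nat.le_succ (k + 1))))) := by
    intro k
    change ringOf (u' k) = ringOf (u' (k + 1)) ≫ _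
    rw [← ringOf_comp, ← hu'c k]
  -- lift to `B`
  set 𝔟 : Ideal B := (maximalIdeal A).map (algebraMap A B) with h𝔟
  haveI : IsAdicComplete 𝔟 B := isAdicComplete_map A B
  have hI : ∀ k, I A B (k + 1) = 𝔟 ^ (k + 1) := fun k => Ideal.map_pow _ _ _
  have ha : StrictMono (fun n : ℕ => n + 1) := fun a b h => Nat.succ_lt_succ h
  let F : ∀ n : ℕ, Γ(Scheme.Opens.toScheme V, ⊤) →+* B ⧸ 𝔟 ^ (n + 1) :=
    fun n => ((Ideal.quotEquivOfEq (hI n)) : _ →+* _).comp (γ n).hom
  have hF : ∀ {m : ℕ}, (Ideal.Quotient.factorPow 𝔟 (ha.monotone m.le_succ)).comp (F (m + 1)) = F m := by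
    intro m
    ext c
    obtain ⟨b, hb⟩ := Ideal.Quotient.mk_surjective ((γ (m + 1)).hom c)
    have h1 : (γ m).hom c = Ideal.Quotient.mk _ b := by
      rw [hγ m]
      change Ideal.Quotient.factor (Ideal.map_mono (f := algebraMap A B)
        (Ideal.pow_le_pow_right (I := maximalIdeal A) (Nat.le_succ (m + 1)))) ((γ (m + 1)).hom c) = _
      rw [← hb, Ideal.Quotient.factor_mk]
    change Ideal.Quotient.factorPow 𝔟 (Nat.le_succ (m + 1)) (Ideal.quotEquivOfEq (hI (m + 1)) ((γ (m + 1)).hom c)) =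
      Ideal.quotEquivOfEq (hI m) ((γ m).hom c)
    rw [h1, ← hb, Ideal.quotEquivOfEq_mk, Ideal.quotEquivOfEq_mk]
    rfl
  let γinf : Γ(Scheme.Opens.toScheme V, ⊤) →+* B := IsAdicComplete.StrictMono.liftRingHom 𝔟 ha F hF
  have hγinf : ∀ k, CommRingCat.ofHom γinf ≫ CommRingCat.ofHom (Ideal.Quotient.mk (I A B (k + 1))) = γ k := by
    intro k
    ext c
    apply (Ideal.quotEquivOfEq (hI k)).injective
    change Ideal.quotEquivOfEq (hI k) (Ideal.Quotient.mk _ (γinf c)) = F k c
    rw [Ideal.quotEquivOfEq_mk]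
    exact IsAdicComplete.StrictMono.mk_liftRingHom 𝔟 ha F hF c
  let f : Spec (CommRingCat.of B) ⟶ Y :=
    Spec.map (CommRingCat.ofHom γinf) ≫ (Scheme.Opens.toScheme V).isoSpec.inv ≫ Scheme.Opens.ι V
  have hf : ∀ k, q A B (k + 1) ≫ f = u (k + 1) := by
    intro k
    change Spec.map _ ≫ Spec.map _ ≫ _ ≫ _ = _
    rw [← Category.assoc, ← Spec.map_comp, hγinf k]
    change Spec.map (ringOf (u' k)) ≫ _ ≫ _ = _
    rw [← Category.assoc, spec_ringOf, hu']
  refine ⟨f, fun n => ?_⟩
  cases n with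
  | zero => rw [← t_q A B 0, Category.assoc, hf 0, hu 0]
  | succ k => exact hf k

end Local

end

end Groth.Agent.Helper3.FinComp2
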