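import Mathlib
import Groth.Agent.Helper3.FinComp2

set_option autoImplicit false
set_option linter.style.haveILetI false
set_option linter.unusedSectionVars false
set_option linter.unusedVariables false
set_option linter.style.haveILetI false
set_option linter.unusedSectionVars false
set_option linter.unusedVariables false

universe u

open AlgebraicGeometry CategoryTheory CategoryTheory.Limits IsLocalRing

namespace Groth.Agent.Helper3.FinComp3

open Groth.Agent.Helper3.FinComp1 Groth.Agent.Helper3.FinComp2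

section Cov
variable {R : Type u} [CommRing R] {ι : Type u} (Q : ι → Type u) [∀ i, CommRing (Q i)]
  (φ : ∀ i, R →+* Q i) (hφ : ∀ i, Function.Surjective (φ i))
  (e : ι → R) (he : ∀ i, IsIdempotentElem (e i)) (hker : ∀ i, RingHom.ker (φ i) = Ideal.span {e i})
  (hcov : ∀ 𝔭 : Ideal R, 𝔭.IsPrime → ∃ i, e i ∈ 𝔭)

include hφ he hker in
theorem isOpenImmersion_φ (i : ι) : IsOpenImmersion (Spec.map (CommRingCat.ofHom (φ i))) :=
  (isOpenImmersion_SpecMap_iff_of_surjective (CommRingCat.ofHom (φ i)) (hφ i)).mpr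
    ⟨e i, he i, hker i⟩

include hφ hker hcov in
theorem covers_φ (x : Spec (CommRingCat.of R)) :
    ∃ (i : ι) (y : Spec (CommRingCat.of (Q i))), Spec.map (CommRingCat.ofHom (φ i)) y = x := by
  obtain ⟨i, hi⟩ := hcov (x : PrimeSpectrum R).asIdeal (x : PrimeSpectrum R).isPrime
  have hx : (x : PrimeSpectrum R) ∈ Set.range (PrimeSpectrum.comap (φ i)) := by
    rw [_root_.range_comap_of_surjective _ _ (hφ i), hker i]
    change ((Ideal.span {e i} : Ideal R) : Set R) ⊆ (x : PrimeSpectrum R).asIdeal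
    intro b hb
    exact (Ideal.span_singleton_le_iff_mem (I := (x : PrimeSpectrum R).asIdeal)).mpr hi hb
  obtain ⟨y, hy⟩ := hx
  exact ⟨i, y, hy⟩

/-- the open cover of `Spec R` by the `Spec (Q i)` -/
noncomputable def cov : (Spec (CommRingCat.of R)).OpenCover :=
  Scheme.Cover.mkOfCovers ι (fun i => Spec (CommRingCat.of (Q i)))
    (fun i => Spec.map (CommRingCat.ofHom (φ i)))
    (fun x => covers_φ Q φ hφ e hker hcov x)
    (fun i => isOpenImmersion_φ Q φ hφ e he hker i)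

end Cov

section
variable (A : Type u) [CommRing A] [IsLocalRing A] [IsNoetherianRing A]
  [IsAdicComplete (maximalIdeal A) A]
  (B : Type u) [CommRing B] [Algebra A B] [Module.Finite A B]

/-- the chosen idempotent for a maximal ideal -/
noncomputable def idem (𝔫 : MaximalSpectrum B) : B :=
  Classical.choose (exists_idempotent A B 𝔫.asIdeal (h𝔫 := 𝔫.isMaximal))

theorem idem_isIdempotent (𝔫 : MaximalSpectrum B) : IsIdempotentElem (idem A B 𝔫) :=
  (Classical.choose_spec (exists_idempotent A B 𝔫.asIdeal (h𝔫 := 𝔫.isMaximal))).1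

theorem idem_notMem (𝔫 : MaximalSpectrum B) : idem A B 𝔫 ∉ 𝔫.asIdeal :=
  (Classical.choose_spec (exists_idempotent A B 𝔫.asIdeal (h𝔫 := 𝔫.isMaximal))).2.1

theorem idem_mem (𝔫 : MaximalSpectrum B) (𝔫' : Ideal B) (h' : 𝔫'.IsMaximal) (hne : 𝔫' ≠ 𝔫.asIdeal) :
    idem A B 𝔫 ∈ 𝔫' :=
  (Classical.choose_spec (exists_idempotent A B 𝔫.asIdeal (h𝔫 := 𝔫.isMaximal))).2.2 𝔫' h' hne

/-- the local factor -/
abbrev Bq (𝔫 : MaximalSpectrum B) : Type u := B ⧸ Ideal.span {1 - idem A B 𝔫}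

instance (𝔫 : MaximalSpectrum B) : IsLocalRing (Bq A B 𝔫) :=
  haveI := 𝔫.isMaximal
  isLocalRing_quot (idem A B 𝔫) (idem_isIdempotent A B 𝔫) 𝔫.asIdeal (idem_notMem A B 𝔫)
    (idem_mem A B 𝔫)

/-- the projection to the local factor -/
abbrev π (𝔫 : MaximalSpectrum B) : B →+* Bq A B 𝔫 := Ideal.Quotient.mk _

theorem one_sub_idem_isIdempotent (𝔫 : MaximalSpectrum B) : IsIdempotentElem (1 - idem A B 𝔫) :=
  (idem_isIdempotent A B 𝔫).one_sub

/-- every prime contains some `1 - e_𝔫` -/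
theorem exists_one_sub_idem_mem (𝔭 : Ideal B) (h𝔭 : 𝔭.IsPrime) :
    ∃ 𝔫 : MaximalSpectrum B, 1 - idem A B 𝔫 ∈ 𝔭 := by
  obtain ⟨M, hM, hle⟩ := Ideal.exists_le_maximal 𝔭 h𝔭.ne_top
  refine ⟨⟨M, hM⟩, ?_⟩
  have h1 : idem A B ⟨M, hM⟩ ∉ 𝔭 := fun h => idem_notMem A B ⟨M, hM⟩ (hle h)
  have h0 : idem A B ⟨M, hM⟩ * (1 - idem A B ⟨M, hM⟩) ∈ 𝔭 := by
    have : idem A B ⟨M, hM⟩ * (1 - idem A B ⟨M, hM⟩) = 0 := by
      rw [mul_sub, mul_one, (idem_isIdempotent A B ⟨M, hM⟩).eq, sub_self]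
    rw [this]; exact 𝔭.zero_mem
  exact (h𝔭.mem_or_mem h0).resolve_left h1

/-- a prime containing both `1 - e_𝔫` and `1 - e_𝔫'` forces `𝔫 = 𝔫'` -/
theorem eq_of_mem_mem (𝔭 : Ideal B) (h𝔭 : 𝔭.IsPrime) (𝔫 𝔫' : MaximalSpectrum B)
    (h1 : 1 - idem A B 𝔫 ∈ 𝔭) (h2 : 1 - idem A B 𝔫' ∈ 𝔭) : 𝔫 = 𝔫' := by
  obtain ⟨M, hM, hle⟩ := Ideal.exists_le_maximal 𝔭 h𝔭.ne_top
  have key : ∀ 𝔪 : MaximalSpectrum B, 1 - idem A B 𝔪 ∈ 𝔭 → M = 𝔪.asIdeal := by
    intro 𝔪 hm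
    by_contra hne
    have h3 := idem_mem A B 𝔪 M hM hne
    have h4 : (1 : B) ∈ M := by
      have := M.add_mem h3 (hle hm)
      simpa using this
    exact hM.ne_top ((Ideal.eq_top_iff_one _).mpr h4)
  have e1 := key 𝔫 h1
  have e2 := key 𝔫' h2
  exact MaximalSpectrum.ext (e1.symm.trans e2)

/-- the open cover of `Spec B` by its local factors -/
noncomputable def covB : (Spec (CommRingCat.of B)).OpenCover :=
  cov (fun 𝔫 => Bq A B 𝔫) (fun 𝔫 => π A B 𝔫) (fun 𝔫 => Ideal.Quotient.mk_surjective)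
    (fun 𝔫 => 1 - idem A B 𝔫) (one_sub_idem_isIdempotent A B) (fun 𝔫 => Ideal.mk_ker)
    (exists_one_sub_idem_mem A B)

theorem I_map (𝔫 : MaximalSpectrum B) (n : ℕ) : (I A B n).map (π A B 𝔫) = I A (Bq A B 𝔫) n := by
  rw [I, Ideal.map_map]
  rfl

/-- the induced maps on the truncations -/
noncomputable def ρ (𝔫 : MaximalSpectrum B) (n : ℕ) : B ⧸ I A B n →+* Bq A B 𝔫 ⧸ I A (Bq A B 𝔫) n :=
  Ideal.quotientMap (I A (Bq A B 𝔫) n) (π A B 𝔫) (by
    rw [← Ideal.map_le_iff_le_comap, I_map])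

theorem ρ_mk (𝔫 : MaximalSpectrum B) (n : ℕ) (b : B) :
    ρ A B 𝔫 n (Ideal.Quotient.mk _ b) = Ideal.Quotient.mk _ (π A B 𝔫 b) := rfl

theorem ρ_surjective (𝔫 : MaximalSpectrum B) (n : ℕ) : Function.Surjective (ρ A B 𝔫 n) := by
  intro x
  obtain ⟨y, rfl⟩ := Ideal.Quotient.mk_surjective x
  obtain ⟨b, rfl⟩ := Ideal.Quotient.mk_surjective y
  exact ⟨Ideal.Quotient.mk _ b, rfl⟩

theorem ker_ρ (𝔫 : MaximalSpectrum B) (n : ℕ) :
    RingHom.ker (ρ A B 𝔫 n) = Ideal.span {Ideal.Quotient.mk (I A B n) (1 - idem A B 𝔫)} := by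
  apply le_antisymm
  · intro x hx
    obtain ⟨b, rfl⟩ := Ideal.Quotient.mk_surjective x
    rw [RingHom.mem_ker, ρ_mk, Ideal.Quotient.eq_zero_iff_mem, ← I_map,
      Ideal.mem_map_iff_of_surjective _ Ideal.Quotient.mk_surjective] at hx
    obtain ⟨a, ha, hab⟩ := hx
    have h1 : b - a ∈ Ideal.span {1 - idem A B 𝔫} := by
      rw [← Ideal.Quotient.eq_zero_iff_mem, map_sub, sub_eq_zero]; exact hab.symm
    obtain ⟨c, hc⟩ := Ideal.mem_span_singleton'.mp h1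
    rw [Ideal.mem_span_singleton']
    refine ⟨Ideal.Quotient.mk _ c, ?_⟩
    rw [← map_mul, hc, map_sub, Ideal.Quotient.eq_zero_iff_mem.mpr ha, sub_zero]
  · rw [Ideal.span_le, Set.singleton_subset_iff]
    change ρ A B 𝔫 n _ = 0
    have h0 : (π A B 𝔫) (1 - idem A B 𝔫) = 0 :=
      Ideal.Quotient.eq_zero_iff_mem.mpr (Ideal.subset_span rfl)
    rw [ρ_mk, h0, map_zero]

/-- the open cover of `Spec (B / 𝔪ⁿ B)` -/
noncomputable def covBn (n : ℕ) : (Spec (CommRingCat.of (B ⧸ I A B n))).OpenCover :=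
  cov (fun 𝔫 => Bq A B 𝔫 ⧸ I A (Bq A B 𝔫) n) (fun 𝔫 => ρ A B 𝔫 n) (ρ_surjective A B · n)
    (fun 𝔫 => Ideal.Quotient.mk (I A B n) (1 - idem A B 𝔫))
    (fun 𝔫 => (one_sub_idem_isIdempotent A B 𝔫).map _) (ker_ρ A B · n)
    (fun 𝔭 h𝔭 => by
      obtain ⟨𝔫, h𝔫⟩ := exists_one_sub_idem_mem A B (𝔭.comap (Ideal.Quotient.mk (I A B n)))
        (Ideal.comap_isPrime _ _)
      exact ⟨𝔫, h𝔫⟩)

/-- compatibility squares -/
theorem q_π (𝔫 : MaximalSpectrum B) (n : ℕ) :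
    q A (Bq A B 𝔫) n ≫ Spec.map (CommRingCat.ofHom (π A B 𝔫)) =
      Spec.map (CommRingCat.ofHom (ρ A B 𝔫 n)) ≫ q A B n := by
  rw [← Spec.map_comp, ← Spec.map_comp]
  congr 1

theorem t_ρ (𝔫 : MaximalSpectrum B) (n : ℕ) :
    t A (Bq A B 𝔫) n ≫ Spec.map (CommRingCat.ofHom (ρ A B 𝔫 (n + 1))) =
      Spec.map (CommRingCat.ofHom (ρ A B 𝔫 n)) ≫ t A B n := by
  rw [← Spec.map_comp, ← Spec.map_comp]
  congr 1
  ext x
  rfl


theorem one_sub_idem_mem_of_range (𝔫 : MaximalSpectrum B) (y : Spec (CommRingCat.of (Bq A B 𝔫))) :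
    1 - idem A B 𝔫 ∈
      ((Spec.map (CommRingCat.ofHom (π A B 𝔫)) y : Spec (CommRingCat.of B)) : PrimeSpectrum B).asIdeal := by
  change (π A B 𝔫) (1 - idem A B 𝔫) ∈ (y : PrimeSpectrum _).asIdeal
  have h0 : (π A B 𝔫) (1 - idem A B 𝔫) = 0 :=
      Ideal.Quotient.eq_zero_iff_mem.mpr (Ideal.subset_span rfl)
  rw [h0]; exact Ideal.zero_mem _

/-- uniqueness, general finite case -/
theorem unique_general {Y : Scheme.{u}} (f g : Spec (CommRingCat.of B) ⟶ Y)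
    (H : ∀ n, q A B n ≫ f = q A B n ≫ g) : f = g := by
  apply (covB A B).hom_ext
  intro 𝔫
  change Spec.map (CommRingCat.ofHom (π A B 𝔫)) ≫ f = Spec.map (CommRingCat.ofHom (π A B 𝔫)) ≫ g
  apply unique_local A (Bq A B 𝔫)
  intro n
  rw [← Category.assoc, ← Category.assoc, q_π, Category.assoc, Category.assoc, H n]

/-- existence, general finite case -/
theorem exists_general {Y : Scheme.{u}}
    (u : (n : ℕ) → (Spec (CommRingCat.of (B ⧸ I A B n)) ⟶ Y))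
    (hu : ∀ n, t A B n ≫ u (n + 1) = u n) :
    ∃ f : Spec (CommRingCat.of B) ⟶ Y, ∀ n, q A B n ≫ f = u n := by
  have hloc : ∀ 𝔫 : MaximalSpectrum B, ∃ f : Spec (CommRingCat.of (Bq A B 𝔫)) ⟶ Y,
      ∀ n, q A (Bq A B 𝔫) n ≫ f = Spec.map (CommRingCat.ofHom (ρ A B 𝔫 n)) ≫ u n := by
    intro 𝔫
    apply exists_local A (Bq A B 𝔫) (fun n => Spec.map (CommRingCat.ofHom (ρ A B 𝔫 n)) ≫ u n)
    intro n
    rw [← Category.assoc, t_ρ, Category.assoc, hu]
  choose fl hfl using hloc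
  have hglue : ∀ 𝔫 𝔫' : MaximalSpectrum B,
      pullback.fst ((covB A B).f 𝔫) ((covB A B).f 𝔫') ≫ fl 𝔫 = pullback.snd _ _ ≫ fl 𝔫' := by
    intro 𝔫 𝔫'
    by_cases h : 𝔫 = 𝔫'
    · subst h
      exact congrArg (· ≫ fl 𝔫) (fst_eq_snd_of_mono_eq ((covB A B).f 𝔫))
    · haveI : IsEmpty ↥(pullback ((covB A B).f 𝔫) ((covB A B).f 𝔫')) := by
        constructor
        intro z
        apply h
        have h1 := one_sub_idem_mem_of_range A B 𝔫 (pullback.fst ((covB A B).f 𝔫) ((covB A B).f 𝔫') z)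
        have h2 := one_sub_idem_mem_of_range A B 𝔫' (pullback.snd ((covB A B).f 𝔫) ((covB A B).f 𝔫') z)
        have hc : Spec.map (CommRingCat.ofHom (π A B 𝔫)) (pullback.fst ((covB A B).f 𝔫) ((covB A B).f 𝔫') z) =
            Spec.map (CommRingCat.ofHom (π A B 𝔫')) (pullback.snd ((covB A B).f 𝔫) ((covB A B).f 𝔫') z) := by
          have hcond := congrArg (fun k : _ ⟶ Spec (CommRingCat.of B) => k z)
            (pullback.condition (f := (covB A B).f 𝔫) (g := (covB A B).f 𝔫'))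
          simp only [Scheme.Hom.comp_apply] at hcond
          exact hcond
        rw [hc] at h1
        exact eq_of_mem_mem A B _ (PrimeSpectrum.isPrime _) 𝔫 𝔫' h1 h2
      exact (isInitialOfIsEmpty).hom_ext _ _
  refine ⟨(covB A B).glueMorphisms fl hglue, fun n => ?_⟩
  apply (covBn A B n).hom_ext
  intro 𝔫
  change Spec.map (CommRingCat.ofHom (ρ A B 𝔫 n)) ≫ q A B n ≫ _ =
    Spec.map (CommRingCat.ofHom (ρ A B 𝔫 n)) ≫ u n
  rw [← Category.assoc, ← q_π, Category.assoc]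
  have h3 := (covB A B).ι_glueMorphisms fl hglue 𝔫
  change Spec.map (CommRingCat.ofHom (π A B 𝔫)) ≫ _ = _ at h3
  rw [h3, hfl]

/-- S8385 -/
theorem main (Y : Over (Spec (CommRingCat.of A))) :
    (∀ f g : Spec (CommRingCat.of B) ⟶ Y.left, f ≫ Y.hom = Spec.map (CommRingCat.ofHom (algebraMap A B)) →
      g ≫ Y.hom = Spec.map (CommRingCat.ofHom (algebraMap A B)) →
      (∀ n : ℕ, Spec.map (CommRingCat.ofHom (Ideal.Quotient.mk (Ideal.map (algebraMap A B) ((IsLocalRing.maximalIdeal A) ^ n)))) ≫ f =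
        Spec.map (CommRingCat.ofHom (Ideal.Quotient.mk (Ideal.map (algebraMap A B) ((IsLocalRing.maximalIdeal A) ^ n)))) ≫ g) → f = g) ∧
    (∀ u : (n : ℕ) → (Spec (CommRingCat.of (B ⧸ (Ideal.map (algebraMap A B) ((IsLocalRing.maximalIdeal A) ^ n)))) ⟶ Y.left),
      (∀ n : ℕ, u n ≫ Y.hom =
        Spec.map (CommRingCat.ofHom ((Ideal.Quotient.mk (Ideal.map (algebraMap A B) ((IsLocalRing.maximalIdeal A) ^ n))).comp (algebraMap A B)))) →
      (∀ n : ℕ, Spec.map (CommRingCat.ofHom (Ideal.Quotient.factor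
          (Ideal.map_mono (Ideal.pow_le_pow_right (I := (IsLocalRing.maximalIdeal A)) (Nat.le_succ n))))) ≫ u (n + 1) = u n) →
      ∃ f : Spec (CommRingCat.of B) ⟶ Y.left, f ≫ Y.hom = Spec.map (CommRingCat.ofHom (algebraMap A B)) ∧
        ∀ n : ℕ, Spec.map (CommRingCat.ofHom (Ideal.Quotient.mk (Ideal.map (algebraMap A B) ((IsLocalRing.maximalIdeal A) ^ n)))) ≫ f = u n) := by
  refine ⟨fun f g _ _ H => unique_general A B f g H, fun u hu1 hu2 => ?_⟩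
  obtain ⟨f, hf⟩ := exists_general A B u hu2
  refine ⟨f, ?_, hf⟩
  apply unique_general A B
  intro n
  rw [← Category.assoc, hf n, hu1 n, ← Spec.map_comp]
  rfl

end

end Groth.Agent.Helper3.FinComp3
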