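import Mathlib

set_option autoImplicit false

namespace Groth.Agent.Helper3.FinGenCat

open CategoryTheory

universe u v

variable {I : Type u} [Category.{v} I] (gen : Finset (Σ x y : I, x ⟶ y))

/-- objects of the incidence category -/
inductive JObj : Type (max u v)
  | y (x : I) : JObj
  | z (g : {a : (Σ x y : I, x ⟶ y) // a ∈ gen}) : JObj

/-- morphisms of the incidence category -/
inductive JHom : JObj gen → JObj gen → Type (max u v)
  | id (a : JObj gen) : JHom a a
  | s (g : {a : (Σ x y : I, x ⟶ y) // a ∈ gen}) : JHom (JObj.z g) (JObj.y g.1.1)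
  | t (g : {a : (Σ x y : I, x ⟶ y) // a ∈ gen}) : JHom (JObj.z g) (JObj.y g.1.2.1)

variable {gen}

def JHom.comp : {a b c : JObj gen} → JHom gen a b → JHom gen b c → JHom gen a c
  | _, _, _, JHom.id _, g => g
  | _, _, _, JHom.s g, JHom.id _ => JHom.s g
  | _, _, _, JHom.t g, JHom.id _ => JHom.t g

instance : SmallCategory (JObj gen) where
  Hom a b := JHom gen a b
  id a := JHom.id a
  comp f g := JHom.comp f g
  id_comp f := by cases f <;> rfl
  comp_id f := by cases f <;> rfl
  assoc f g h := by
    cases f <;> cases g <;> cases h <;> rfl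


variable (gen)

/-- object part -/
def Fobj : JObj gen → I
  | JObj.y x => x
  | JObj.z g => g.1.1

/-- morphism part -/
def Fmap : {a b : JObj gen} → JHom gen a b → (Fobj gen a ⟶ Fobj gen b)
  | _, _, JHom.id c => 𝟙 (Fobj gen c)
  | _, _, JHom.s g => 𝟙 g.1.1
  | _, _, JHom.t g => g.1.2.2

lemma Fmap_comp {a b c : JObj gen} (f : JHom gen a b) (g : JHom gen b c) :
    Fmap gen (f.comp g) = Fmap gen f ≫ Fmap gen g := by
  cases f <;> cases g
  all_goals first | exact (Category.id_comp _).symm | exact (Category.comp_id _).symm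

/-- the functor to `I` -/
def FF : JObj gen ⥤ I where
  obj := Fobj gen
  map f := Fmap gen f
  map_id _ := rfl
  map_comp f g := Fmap_comp gen f g

/-- the `s` arrows -/
def sHom (g : {a : (Σ x y : I, x ⟶ y) // a ∈ gen}) : (JObj.z g : JObj gen) ⟶ JObj.y g.1.1 :=
  JHom.s g

/-- the `t` arrows -/
def tHom (g : {a : (Σ x y : I, x ⟶ y) // a ∈ gen}) : (JObj.z g : JObj gen) ⟶ JObj.y g.1.2.1 :=
  JHom.t g

@[simp] lemma FF_obj_y (x : I) : (FF gen).obj (JObj.y x) = x := rfl
@[simp] lemma FF_obj_z (g : {a : (Σ x y : I, x ⟶ y) // a ∈ gen}) :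
    (FF gen).obj (JObj.z g) = g.1.1 := rfl
@[simp] lemma FF_map_s (g : {a : (Σ x y : I, x ⟶ y) // a ∈ gen}) :
    (FF gen).map (sHom gen g) = 𝟙 g.1.1 := rfl
@[simp] lemma FF_map_t (g : {a : (Σ x y : I, x ⟶ y) // a ∈ gen}) :
    (FF gen).map (tHom gen g) = g.1.2.2 := rfl


section Finite

instance [Finite I] : Finite (JObj gen) := by
  let f : JObj gen → I ⊕ {a : (Σ x y : I, x ⟶ y) // a ∈ gen} := fun a =>
    match a with
    | JObj.y x => Sum.inl x
    | JObj.z g => Sum.inr g
  refine Finite.of_injective f ?_
  intro a b h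
  cases a <;> cases b <;> simp_all [f]

/-- code of a morphism -/
def code {a b : JObj gen} : JHom gen a b → Option (Bool × {a : (Σ x y : I, x ⟶ y) // a ∈ gen})
  | JHom.id _ => none
  | JHom.s g => some (false, g)
  | JHom.t g => some (true, g)

lemma code_heq {a b a' b' : JObj gen} (f : JHom gen a b) (f' : JHom gen a' b')
    (ha : a = a') (hb : b = b') (h : code gen f = code gen f') : HEq f f' := by
  cases f <;> cases f'
  · subst ha; rfl
  · simp [code] at h
  · simp [code] at h
  · simp [code] at h
  · simp only [code, Option.some.injEq, Prod.mk.injEq, true_and] at h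
    subst h; rfl
  · simp [code] at h
  · simp [code] at h
  · simp [code] at h
  · simp only [code, Option.some.injEq, Prod.mk.injEq, true_and] at h
    subst h; rfl

lemma code_injective {a b : JObj gen} : Function.Injective (code gen (a := a) (b := b)) := by
  intro f g h
  exact eq_of_heq (code_heq gen f g rfl rfl h)

instance (a b : JObj gen) : Finite (a ⟶ b) :=
  Finite.of_injective (code gen (a := a) (b := b)) (code_injective gen)

/-- the finite category structure -/
@[instance_reducible]
noncomputable def finCat [Finite I] : FinCategory (JObj gen) := by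
  classical
  exact { fintypeObj := Fintype.ofFinite _, fintypeHom := fun _ _ => Fintype.ofFinite _ }

end Finite


section Final

variable (hgen : ∀ P : MorphismProperty I, P.IsMultiplicative → (∀ a ∈ gen, P a.2.2) → P = ⊤)

/-- structured arrow with target a `y` object -/
abbrev smk {c a : I} (ψ : c ⟶ a) : StructuredArrow c (FF gen) :=
  StructuredArrow.mk (Y := JObj.y a) (T := FF gen) ψ

/-- the property used for finality -/
def QS : MorphismProperty I := fun a _ φ => ∀ (c : I) (ψ : c ⟶ a),
  Zigzag (smk gen ψ) (smk gen (ψ ≫ φ))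

instance : (QS gen).IsMultiplicative where
  id_mem a := by
    intro c ψ
    rw [Category.comp_id]
  comp_mem f g hf hg := by
    intro c ψ
    have h1 := hf c ψ
    have h2 := hg c (ψ ≫ f)
    rw [Category.assoc] at h2
    exact h1.trans h2

lemma QS_gen (a : Σ x y : I, x ⟶ y) (ha : a ∈ gen) : QS gen a.2.2 := by
  intro c ψ
  let g : {a : (Σ x y : I, x ⟶ y) // a ∈ gen} := ⟨a, ha⟩
  let m : StructuredArrow c (FF gen) := StructuredArrow.mk (Y := JObj.z g) (T := FF gen) ψ
  have h1 : Zigzag m (smk gen ψ) :=
    Zigzag.of_hom (StructuredArrow.homMk (sHom gen g) (Category.comp_id _))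
  have h2 : Zigzag m (smk gen (ψ ≫ a.2.2)) :=
    Zigzag.of_hom (StructuredArrow.homMk (tHom gen g) rfl)
  exact h1.symm.trans h2

include hgen in
lemma QS_top : QS gen = ⊤ := hgen _ inferInstance (QS_gen gen)

include hgen in
lemma final : (FF gen).Final := by
  constructor
  intro i
  have hbase : ∀ (m : StructuredArrow i (FF gen)), Zigzag (smk gen (𝟙 i)) m := by
    intro m
    obtain ⟨⟨⟩, b, φ⟩ := m
    cases b with
    | y x =>
      have : QS gen (φ : i ⟶ x) := by rw [QS_top gen hgen]; trivial
      have h := this i (𝟙 i)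
      rw [Category.id_comp] at h
      exact h
    | z g =>
      have : QS gen (φ : i ⟶ g.1.1) := by rw [QS_top gen hgen]; trivial
      have h := this i (𝟙 i)
      rw [Category.id_comp] at h
      refine h.trans ?_
      exact Zigzag.of_inv (StructuredArrow.homMk (sHom gen g) (Category.comp_id _))
  have : Nonempty (StructuredArrow i (FF gen)) := ⟨smk gen (𝟙 i)⟩
  exact zigzag_isConnected (fun j₁ j₂ => (hbase j₁).symm.trans (hbase j₂))

end Final


section Initial

variable (hgen : ∀ P : MorphismProperty I, P.IsMultiplicative → (∀ a ∈ gen, P a.2.2) → P = ⊤)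

/-- costructured arrow with source a `y` object -/
abbrev cmk {a c : I} (ψ : a ⟶ c) : CostructuredArrow (FF gen) c :=
  CostructuredArrow.mk (Y := JObj.y a) (S := FF gen) ψ

/-- the property used for initiality -/
def QC : MorphismProperty I := fun _ b φ => ∀ (c : I) (ψ : b ⟶ c),
  Zigzag (cmk gen (φ ≫ ψ)) (cmk gen ψ)

instance : (QC gen).IsMultiplicative where
  id_mem a := by
    intro c ψ
    rw [Category.id_comp]
  comp_mem f g hf hg := by
    intro c ψ
    have h1 := hf c (g ≫ ψ)
    have h2 := hg c ψ
    rw [← Category.assoc] at h1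
    exact h1.trans h2

lemma QC_gen (a : Σ x y : I, x ⟶ y) (ha : a ∈ gen) : QC gen a.2.2 := by
  intro c ψ
  let g : {a : (Σ x y : I, x ⟶ y) // a ∈ gen} := ⟨a, ha⟩
  let m : CostructuredArrow (FF gen) c :=
    CostructuredArrow.mk (Y := JObj.z g) (S := FF gen) (a.2.2 ≫ ψ)
  have h1 : Zigzag m (cmk gen (a.2.2 ≫ ψ)) :=
    Zigzag.of_hom (CostructuredArrow.homMk (sHom gen g) (Category.id_comp _))
  have h2 : Zigzag m (cmk gen ψ) :=
    Zigzag.of_hom (CostructuredArrow.homMk (tHom gen g) rfl)
  exact h1.symm.trans h2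

include hgen in
lemma QC_top : QC gen = ⊤ := hgen _ inferInstance (QC_gen gen)

include hgen in
lemma initial : (FF gen).Initial := by
  constructor
  intro i
  have hbase : ∀ (m : CostructuredArrow (FF gen) i), Zigzag m (cmk gen (𝟙 i)) := by
    intro m
    obtain ⟨b, ⟨⟩, φ⟩ := m
    cases b with
    | y x =>
      let φ' : x ⟶ i := φ
      have : QC gen φ' := by rw [QC_top gen hgen]; trivial
      have h := this i (𝟙 i)
      have e : φ' ≫ 𝟙 i = φ' := Category.comp_id φ'
      rw [e] at h
      exact h
    | z g =>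
      let φ' : g.1.1 ⟶ i := φ
      have : QC gen φ' := by rw [QC_top gen hgen]; trivial
      have h := this i (𝟙 i)
      have e : φ' ≫ 𝟙 i = φ' := Category.comp_id φ'
      rw [e] at h
      refine Zigzag.trans ?_ h
      exact Zigzag.of_hom (CostructuredArrow.homMk (sHom gen g) (Category.id_comp _))
  have : Nonempty (CostructuredArrow (FF gen) i) := ⟨cmk gen (𝟙 i)⟩
  exact zigzag_isConnected (fun j₁ j₂ => (hbase j₁).trans (hbase j₂).symm)

end Initial


theorem main [Finite I]
    (hgen : ∀ P : MorphismProperty I, P.IsMultiplicative → (∀ a ∈ gen, P a.2.2) → P = ⊤) :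
    ∃ (J : Type) (_ : SmallCategory J) (_ : FinCategory J) (F : J ⥤ I),
      F.Final ∧ F.Initial ∧ (IsConnected J ↔ IsConnected I) ∧ (Nonempty J ↔ Nonempty I) := by
  classical
  let _ : FinCategory (JObj gen) := finCat gen
  let e := FinCategory.equivAsType (JObj gen)
  have hf := final gen hgen
  have hi := initial gen hgen
  refine ⟨FinCategory.AsType (JObj gen), inferInstance, inferInstance, e.functor ⋙ FF gen,
    inferInstance, inferInstance, ?_, ?_⟩
  · rw [isConnected_iff_of_equivalence e, Functor.isConnected_iff_of_final (FF gen)]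
  · constructor
    · rintro ⟨j⟩
      exact ⟨(e.functor ⋙ FF gen).obj j⟩
    · rintro ⟨i⟩
      exact ⟨e.inverse.obj (JObj.y i)⟩

end Groth.Agent.Helper3.FinGenCat
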