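import Mathlib

set_option autoImplicit false
set_option linter.style.haveILetI false
set_option linter.unusedSectionVars false
set_option linter.unusedVariables false
set_option linter.style.haveILetI false
set_option linter.unusedSectionVars false
set_option linter.unusedVariables false

universe u
open TensorProduct Coalgebra HopfAlgebra

namespace Groth.Agent.Helper3.HopfTrace

variable (k : Type u) [Field k] (A : Type u) [CommRing A] [HopfAlgebra k A]

/-- the shearing map `x ⊗ y ↦ (x ⊗ 1) Δ(y)` -/
noncomputable def shear : A ⊗[k] A →ₐ[A] A ⊗[k] A :=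
  Algebra.TensorProduct.lift (Algebra.ofId A (A ⊗[k] A)) (Bialgebra.comulAlgHom k A)
    (fun _ _ => Commute.all _ _)

lemma shear_tmul (x y : A) : shear k A (x ⊗ₜ y) = (x ⊗ₜ[k] (1 : A)) * comul y := by
  simp [shear, Algebra.ofId_apply, Algebra.TensorProduct.algebraMap_apply]

/-- the auxiliary map `a ⊗ w ↦ (S a ⊗ 1) w` -/
noncomputable def aux : A ⊗[k] (A ⊗[k] A) →ₗ[k] A ⊗[k] A :=
  TensorProduct.lift ((LinearMap.mul k (A ⊗[k] A)) ∘ₗ
    ((Algebra.TensorProduct.includeLeft (R := k) (S := k) (A := A) (B := A)).toLinearMap ∘ₗ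
      antipode k))

lemma aux_tmul (a : A) (w : A ⊗[k] A) : aux k A (a ⊗ₜ w) = (antipode k a ⊗ₜ[k] (1 : A)) * w := by
  simp [aux]

lemma shear_rTensor_antipode_comul (y : A) :
    shear k A ((antipode k).rTensor A (comul y)) = (1 : A) ⊗ₜ[k] y := by
  have h1 : ((shear k A).toLinearMap.restrictScalars k) ∘ₗ (antipode k).rTensor A =
      aux k A ∘ₗ (comul (R := k) (A := A)).lTensor A := by
    apply TensorProduct.ext'
    intro a b
    simp [shear_tmul, aux_tmul]
  have h2 : aux k A ∘ₗ (TensorProduct.assoc k A A A).toLinearMap =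
      ((LinearMap.mul' k A) ∘ₗ (antipode k).rTensor A).rTensor A := by
    apply TensorProduct.ext_threefold
    intro a b c
    simp [aux_tmul]
  have h3 := LinearMap.congr_fun h1 (comul y)
  simp only [LinearMap.coe_comp, Function.comp_apply, LinearMap.coe_restrictScalars,
    AlgHom.toLinearMap_apply] at h3
  rw [h3, ← coassoc_apply]
  have h4 := LinearMap.congr_fun h2 ((comul (R := k) (A := A)).rTensor A (comul y))
  simp only [LinearMap.coe_comp, Function.comp_apply, LinearEquiv.coe_coe] at h4
  rw [h4, ← LinearMap.rTensor_comp_apply]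
  have h5 : (LinearMap.mul' k A ∘ₗ (antipode k).rTensor A) ∘ₗ comul =
      Algebra.linearMap k A ∘ₗ counit := by
    rw [LinearMap.comp_assoc]
    exact HopfAlgebra.mul_antipode_rTensor_comul
  rw [h5, LinearMap.rTensor_comp_apply, rTensor_counit_comul]
  simp


lemma shear_surjective : Function.Surjective (shear k A) := by
  intro w
  induction w using TensorProduct.induction_on with
  | zero => exact ⟨0, map_zero _⟩
  | tmul x y =>
    refine ⟨x • ((antipode k).rTensor A (comul y)), ?_⟩
    rw [map_smul, shear_rTensor_antipode_comul, TensorProduct.smul_tmul', smul_eq_mul, mul_one]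
  | add w₁ w₂ h₁ h₂ =>
    obtain ⟨v₁, rfl⟩ := h₁
    obtain ⟨v₂, rfl⟩ := h₂
    exact ⟨v₁ + v₂, map_add _ _ _⟩

variable [Module.Finite k A]

lemma shear_bijective : Function.Bijective (shear k A) := by
  refine ⟨?_, shear_surjective k A⟩
  exact OrzechProperty.injective_of_surjective_endomorphism (shear k A).toLinearMap
    (shear_surjective k A)

/-- the shearing automorphism -/
noncomputable def shearEquiv : A ⊗[k] A ≃ₐ[A] A ⊗[k] A :=
  AlgEquiv.ofBijective (shear k A) (shear_bijective k A)

/-- the relative trace of a pure tensor -/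
lemma trace_tmul (x y : A) :
    Algebra.trace A (A ⊗[k] A) (x ⊗ₜ[k] y) = algebraMap k A (Algebra.trace k A y) * x := by
  have h1 : x ⊗ₜ[k] y = x • ((1 : A) ⊗ₜ[k] y) := by
    rw [TensorProduct.smul_tmul', smul_eq_mul, mul_one]
  rw [h1, map_smul, Algebra.trace_apply, ← Algebra.baseChange_lmul, LinearMap.trace_baseChange,
    smul_eq_mul, mul_comm]
  rfl

/-- the trace is a (left) integral -/
lemma trace_comul (y : A) :
    Algebra.trace A (A ⊗[k] A) (comul y) = algebraMap k A (Algebra.trace k A y) := by
  have h1 : comul y = shearEquiv k A ((1 : A) ⊗ₜ[k] y) := by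
    have : shearEquiv k A ((1 : A) ⊗ₜ[k] y) = shear k A ((1 : A) ⊗ₜ[k] y) := rfl
    rw [this, shear_tmul, ← Algebra.TensorProduct.one_def, one_mul]
  rw [h1, Algebra.trace_eq_of_algEquiv, trace_tmul, mul_one]


/-- the radical of the trace form -/
def rad : Ideal A where
  carrier := {x | ∀ a, Algebra.trace k A (x * a) = 0}
  add_mem' := by
    intro x y hx hy a
    rw [add_mul, map_add, hx a, hy a, add_zero]
  zero_mem' := by
    intro a
    rw [zero_mul, map_zero]
  smul_mem' := by
    intro c x hx a
    rw [smul_eq_mul, mul_comm c x, mul_assoc]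
    exact hx (c * a)

lemma mem_rad (x : A) : x ∈ rad k A ↔ ∀ a, Algebra.trace k A (x * a) = 0 := Iff.rfl

lemma trace_comul_mul (x : A) (hx : x ∈ rad k A) (w : A ⊗[k] A) :
    Algebra.trace A (A ⊗[k] A) (comul x * w) = 0 := by
  obtain ⟨v, rfl⟩ := shear_surjective k A w
  induction v using TensorProduct.induction_on with
  | zero => simp
  | tmul c a =>
    rw [shear_tmul]
    have h1 : comul x * (c ⊗ₜ[k] (1 : A) * comul a) = c • comul (R := k) (x * a) := by
      rw [Bialgebra.comul_mul, Algebra.smul_def, Algebra.TensorProduct.algebraMap_apply]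
      simp only [Algebra.algebraMap_self, RingHom.id_apply]
      ring
    rw [h1, map_smul, trace_comul, hx a, map_zero, smul_zero]
  | add v₁ v₂ h₁ h₂ =>
    rw [map_add, mul_add, map_add, h₁, h₂, add_zero]

/-- the inclusion of the radical -/
noncomputable def radι : ↥(rad k A) →ₗ[k] A := (rad k A).subtype.restrictScalars k

lemma radι_apply (r : ↥(rad k A)) : radι k A r = (r : A) := rfl

/-- `Δ` maps the radical into `A ⊗ rad` -/
lemma exists_comul_eq (x : A) (hx : x ∈ rad k A) :
    ∃ v : A ⊗[k] ↥(rad k A), (radι k A).lTensor A v = comul x := by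
  classical
  let b := Module.finBasis k A
  obtain ⟨c, hc⟩ := TensorProduct.eq_repr_basis_left b (comul (R := k) x)
  rw [Finsupp.sum_fintype _ _ (fun i => by simp)] at hc
  have hmem : ∀ i, c i ∈ rad k A := by
    intro i a
    have h0 := trace_comul_mul k A x hx ((1 : A) ⊗ₜ[k] a)
    rw [← hc, Finset.sum_mul, map_sum] at h0
    have h1 : ∀ j, Algebra.trace A (A ⊗[k] A) (b j ⊗ₜ[k] c j * (1 : A) ⊗ₜ[k] a) =
        Algebra.trace k A (c j * a) • b j := by
      intro j
      rw [Algebra.TensorProduct.tmul_mul_tmul, mul_one, trace_tmul, Algebra.smul_def]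
    simp only [h1] at h0
    exact Fintype.linearIndependent_iff.mp b.linearIndependent _ h0 i
  refine ⟨∑ i, b i ⊗ₜ[k] (⟨c i, hmem i⟩ : ↥(rad k A)), ?_⟩
  rw [map_sum, ← hc]
  rfl

lemma mul'_lTensor_mem (v : A ⊗[k] ↥(rad k A)) :
    LinearMap.mul' k A ((radι k A).lTensor A v) ∈ rad k A := by
  induction v using TensorProduct.induction_on with
  | zero => simp
  | tmul a r =>
    rw [LinearMap.lTensor_tmul, LinearMap.mul'_apply, radι_apply]
    exact (rad k A).mul_mem_left a r.2
  | add v₁ v₂ h₁ h₂ =>
    rw [map_add, map_add]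
    exact (rad k A).add_mem h₁ h₂

lemma counit_eq_zero_of_mem_rad (h : (Module.finrank k A : k) ≠ 0) (r : A) (hr : r ∈ rad k A) :
    counit (R := k) r = 0 := by
  obtain ⟨v, hv⟩ := exists_comul_eq k A r hr
  have h1 : algebraMap k A (counit r) ∈ rad k A := by
    rw [← mul_antipode_rTensor_comul_apply, ← hv]
    have h3 : (antipode k).rTensor A ((radι k A).lTensor A v) =
        (radι k A).lTensor A ((antipode k).rTensor ↥(rad k A) v) := by
      rw [← LinearMap.comp_apply, LinearMap.rTensor_comp_lTensor, ← LinearMap.lTensor_comp_rTensor,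
        LinearMap.comp_apply]
    rw [h3]
    exact mul'_lTensor_mem k A _
  have h2 := h1 1
  rw [mul_one, Algebra.trace_algebraMap, nsmul_eq_mul] at h2
  exact (mul_eq_zero.mp h2).resolve_left h

theorem rad_eq_bot (h : (Module.finrank k A : k) ≠ 0) : rad k A = ⊥ := by
  rw [eq_bot_iff]
  intro x hx
  obtain ⟨v, hv⟩ := exists_comul_eq k A x hx
  have h1 : (counit (R := k) (A := A)).lTensor A (comul x) = 0 := by
    rw [← hv, ← LinearMap.comp_apply, ← LinearMap.lTensor_comp]
    have : counit (R := k) (A := A) ∘ₗ radι k A = 0 := by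
      ext r
      exact counit_eq_zero_of_mem_rad k A h _ r.2
    rw [this, LinearMap.lTensor_zero, LinearMap.zero_apply]
  rw [lTensor_counit_comul] at h1
  have h2 := congrArg (TensorProduct.rid k A) h1
  rw [TensorProduct.rid_tmul, one_smul, map_zero] at h2
  exact h2


section TraceEtale

variable (K : Type u) [Field K] (B : Type u) [CommRing B] [Algebra K B] [Module.Finite K B]

/-- a finite-dimensional algebra with non-degenerate trace form is étale -/
theorem etale_of_trace_separating
    (H : ∀ x : B, (∀ a, Algebra.trace K B (x * a) = 0) → x = 0) : Algebra.Etale K B := by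
  classical
  have hsym : (Algebra.traceForm K B).IsSymm := Algebra.traceForm_isSymm K
  have hnd : (Algebra.traceForm K B).Nondegenerate := by
    refine ⟨fun x hx => H x fun a => ?_, fun x hx => H x fun a => ?_⟩
    · exact hx a
    · have := hx a
      rw [Algebra.traceForm_apply, mul_comm] at this
      exact this
  let b := Module.finBasis K B
  let b' := (Algebra.traceForm K B).dualBasis hnd b
  have hb' : ∀ x : B, x = ∑ i, Algebra.trace K B (x * b i) • b' i := by
    intro x
    conv_lhs => rw [← b'.sum_repr x]
    refine Finset.sum_congr rfl fun i _ => ?_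
    rw [LinearMap.BilinForm.dualBasis_repr_apply, Algebra.traceForm_apply]
  have hrepr : ∀ (x : B) i, b.repr x i = Algebra.trace K B (x * b' i) := by
    intro x i
    have h1 : (Algebra.traceForm K B).dualBasis hnd b' = b :=
      LinearMap.BilinForm.dualBasis_dualBasis hnd hsym b
    have h2 := LinearMap.BilinForm.dualBasis_repr_apply (B := Algebra.traceForm K B) hnd b' x i
    rw [h1] at h2
    rw [h2, Algebra.traceForm_apply]
  have hb : ∀ x : B, x = ∑ i, Algebra.trace K B (x * b' i) • b i := by
    intro x
    conv_lhs => rw [← b.sum_repr x]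
    refine Finset.sum_congr rfl fun i _ => ?_
    rw [hrepr]
  haveI : Algebra.FormallyUnramified K B := by
    rw [Algebra.FormallyUnramified.iff_exists_tensorProduct]
    refine ⟨∑ i, b i ⊗ₜ[K] b' i, fun s => ?_, ?_⟩
    · rw [sub_mul, sub_eq_zero, Finset.mul_sum, Finset.mul_sum]
      simp only [Algebra.TensorProduct.tmul_mul_tmul, one_mul]
      calc ∑ i, b i ⊗ₜ[K] (s * b' i)
          = ∑ i, ∑ j, Algebra.trace K B (s * b' i * b j) • (b i ⊗ₜ[K] b' j) := by
            refine Finset.sum_congr rfl fun i _ => ?_
            conv_lhs => rw [hb' (s * b' i)]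
            rw [TensorProduct.tmul_sum]
            refine Finset.sum_congr rfl fun j _ => ?_
            rw [TensorProduct.tmul_smul]
        _ = ∑ j, ∑ i, Algebra.trace K B (s * b' i * b j) • (b i ⊗ₜ[K] b' j) := Finset.sum_comm
        _ = ∑ j, (s * b j) ⊗ₜ[K] b' j := by
            refine Finset.sum_congr rfl fun j _ => ?_
            conv_rhs => rw [hb (s * b j)]
            rw [TensorProduct.sum_tmul]
            refine Finset.sum_congr rfl fun i _ => ?_
            rw [← TensorProduct.smul_tmul']
            congr 2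
            ring
    · rw [map_sum]
      simp only [Algebra.TensorProduct.lmul'_apply_tmul]
      have h0 : (∑ i, b i * b' i) - 1 = 0 := by
        apply H
        intro a
        rw [sub_mul, one_mul, map_sub, sub_eq_zero, Finset.sum_mul, map_sum,
          Algebra.trace_eq_matrix_trace b a, Matrix.trace]
        refine Finset.sum_congr rfl fun i _ => ?_
        rw [Matrix.diag_apply, Algebra.leftMulMatrix_eq_repr_mul, hrepr]
        congr 1
        ring
      exact sub_eq_zero.mp h0
  haveI : Algebra.FormallyEtale K B := Algebra.FormallyEtale.of_formallyUnramified_of_field K B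
  haveI : Algebra.FinitePresentation K B := Algebra.FinitePresentation.of_finiteType.mp inferInstance
  exact {}

end TraceEtale

theorem main (k : Type u) [Field k] (A : Type u) [CommRing A] [HopfAlgebra k A]
    [Module.Finite k A] (h : (Module.finrank k A : k) ≠ 0) : Algebra.Etale k A := by
  apply etale_of_trace_separating
  intro x hx
  have : x ∈ rad k A := hx
  rw [rad_eq_bot k A h] at this
  exact this

end Groth.Agent.Helper3.HopfTrace
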