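import Mathlib
import Groth.Agent.Helper3.HopfTrace
import Groth.Agent.Helper5.UnrFib2

set_option autoImplicit false
set_option linter.style.haveILetI false
set_option linter.unusedSectionVars false
set_option linter.unusedVariables false
set_option linter.style.haveILetI false
set_option linter.unusedSectionVars false
set_option linter.unusedVariables false

universe u
open CategoryTheory CategoryTheory.Limits MonoidalCategory CartesianMonoidalCategory MonObj GrpObj
  AlgebraicGeometry

namespace Groth.Agent.Helper3.FinGrpEt

/-- a finite group scheme over a field whose order is invertible in the field is étale -/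
theorem etale_of_field (k : Type u) [Field k] (H : Over (Spec (CommRingCat.of k))) [GrpObj H]
    [IsFinite H.hom]
    (h : ∀ x : ↥(Spec (CommRingCat.of k)), ((H.hom.finrank x : ℕ) : k) ≠ 0) : Etale H.hom := by
  haveI : IsAffine H.left := isAffine_of_isAffineHom H.hom
  letI : H.left.Over (Spec (CommRingCat.of k)) := ⟨H.hom⟩
  letI : GrpObj (H.left.asOver (Spec (CommRingCat.of k))) := ‹GrpObj H›
  letI hopf : HopfAlgebra k Γ(H.left, ⊤) :=
    AlgebraicGeometry.instHopfAlgebraCarrierObjOppositeOpensCarrierCarrierCommRingCatPresheafOpOpensTopOfGrpObjOverSchemeSpecAsOverOfIsAffine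
      (R := CommRingCat.of k) (G := H.left)
  have halg : algebraMap k Γ(H.left, ⊤) =
      (Spec.fullyFaithful.preimage (H.left.isoSpec.inv ≫ H.hom)).unop.hom := rfl
  have hfac : H.hom = H.left.isoSpec.hom ≫
      Spec.map (CommRingCat.ofHom (algebraMap k Γ(H.left, ⊤))) := by
    rw [halg]
    have : CommRingCat.ofHom (Spec.fullyFaithful.preimage (H.left.isoSpec.inv ≫ H.hom)).unop.hom =
        (Spec.fullyFaithful.preimage (H.left.isoSpec.inv ≫ H.hom)).unop := rfl
    rw [this]
    have h2 : Spec.map (Spec.fullyFaithful.preimage (H.left.isoSpec.inv ≫ H.hom)).unop =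
        H.left.isoSpec.inv ≫ H.hom := Spec.fullyFaithful.map_preimage _
    rw [h2, Iso.hom_inv_id_assoc]
  set φ := CommRingCat.ofHom (algebraMap k Γ(H.left, ⊤)) with hφ
  have hfinS : IsFinite (Spec.map φ) := by
    have : Spec.map φ = H.left.isoSpec.inv ≫ H.hom := by rw [hfac, Iso.inv_hom_id_assoc]
    rw [this]; infer_instance
  have hfin : Module.Finite k Γ(H.left, ⊤) := by
    have := (IsFinite.SpecMap_iff φ).mp hfinS
    exact RingHom.finite_algebraMap.mp this
  have hrank : ((Module.finrank k Γ(H.left, ⊤) : ℕ) : k) ≠ 0 := by
    have h1 := h (IsLocalRing.closedPoint k)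
    rw [hfac, Scheme.Hom.finrank_comp_left_of_isIso] at h1
    have h2 := Scheme.Hom.finrank_SpecMap_algebraMap k Γ(H.left, ⊤) (IsLocalRing.closedPoint k)
    rw [Module.rankAtStalk_eq_finrank_of_free] at h2
    simp only [Pi.natCast_apply, Nat.cast_id] at h2
    rw [← h2]
    exact h1
  haveI := Groth.Agent.Helper3.HopfTrace.main k Γ(H.left, ⊤) hrank
  have het : Etale (Spec.map φ) := by
    rw [HasRingHomProperty.Spec_iff (P := @Etale)]
    exact RingHom.etale_algebraMap.mpr inferInstance
  rw [hfac]
  infer_instance


/-- a flat lfp group scheme whose fibres are finite of order invertible in the residue field is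
étale -/
theorem etale_of_fibres {S : Scheme.{u}} (G : Over S) [GrpObj G] [Flat G.hom]
    [LocallyOfFinitePresentation G.hom]
    (hfin : ∀ s : S, IsFinite (G.hom.fiberToSpecResidueField s))
    (h : ∀ (s : S) (x : ↥(Spec (S.residueField s))),
      (((G.hom.fiberToSpecResidueField s).finrank x : ℕ) : S.residueField s) ≠ 0) :
    Etale G.hom := by
  haveI : FormallyUnramified G.hom := by
    apply Groth.Agent.Helper5.UnrFib.formallyUnramified_of_fiberToSpecResidueField
    intro s
    let j := S.fromSpecResidueField s
    let G' : Over (Spec (CommRingCat.of ↑(S.residueField s))) := (Over.pullback j).obj G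
    haveI : GrpObj G' := inferInstance
    haveI : IsFinite G'.hom := hfin s
    haveI : Etale G'.hom := etale_of_field (S.residueField s) G' (h s)
    change FormallyUnramified G'.hom
    infer_instance
  exact Etale.of_formallyUnramified_of_flat G.hom

end Groth.Agent.Helper3.FinGrpEt
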