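import Mathlib

set_option autoImplicit false
set_option linter.style.haveILetI false
set_option linter.unusedSectionVars false
set_option linter.unusedVariables false
set_option linter.deprecated false
set_option linter.style.haveILetI false
set_option linter.unusedSectionVars false
set_option linter.unusedVariables false

universe u

namespace Groth.Agent.Helper3.UnitLift

/-- Correcting an element by an element of `J` so that it avoids finitely many pairwise
incomparable primes, provided it already avoids those containing `J`. -/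
theorem exists_add_notMem {B : Type*} [CommRing B] (J : Ideal B) (Q : Finset (Ideal B))
    (hQ : ∀ q ∈ Q, q.IsPrime) (hinc : ∀ q ∈ Q, ∀ q' ∈ Q, q ≤ q' → q = q')
    (u : B) (hu : ∀ q ∈ Q, J ≤ q → u ∉ q) :
    ∃ c ∈ J, ∀ q ∈ Q, u + c ∉ q := by
  classical
  let S₂ : Finset (Ideal B) := Q.filter (fun q => ¬ J ≤ q ∧ u ∈ q)
  let S₁ : Finset (Ideal B) := Q.filter (fun q => ¬ J ≤ q ∧ u ∉ q)
  let I : Ideal B := J ⊓ S₁.inf id
  obtain ⟨c, hcI, hc⟩ : ∃ c ∈ I, ∀ q ∈ S₂, c ∉ q := by
    by_contra hcon
    push Not at hcon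
    have hsub : (I : Set B) ⊆ ⋃ q ∈ (S₂ : Set (Ideal B)), ((id q : Ideal B) : Set B) := by
      intro x hx
      obtain ⟨q, hq, hxq⟩ := hcon x hx
      simp only [Set.mem_iUnion]
      exact ⟨q, hq, hxq⟩
    rw [Ideal.subset_union_prime (f := id) ⊥ ⊥] at hsub
    · obtain ⟨q, hqS, hle⟩ := hsub
      have hq := Finset.mem_filter.mp hqS
      haveI := hQ q hq.1
      rcases (Ideal.IsPrime.inf_le (hQ q hq.1)).mp hle with h | h
      · exact hq.2.1 h
      · obtain ⟨q', hq', hle'⟩ := (Ideal.IsPrime.inf_le' (hQ q hq.1)).mp h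
        have hq'' := Finset.mem_filter.mp hq'
        have : q' = q := hinc q' hq''.1 q hq.1 hle'
        rw [this] at hq''
        exact hq''.2.2 hq.2.2
    · intro q hq _ _
      exact hQ q (Finset.mem_filter.mp hq).1
  refine ⟨c, hcI.1, ?_⟩
  intro q hq hmem
  haveI := hQ q hq
  by_cases hJ : J ≤ q
  · have : u = (u + c) - c := by ring
    exact hu q hq hJ (this ▸ q.sub_mem hmem (hJ hcI.1))
  · by_cases huq : u ∈ q
    · have hqS : q ∈ S₂ := Finset.mem_filter.mpr ⟨hq, hJ, huq⟩
      have : c = (u + c) - u := by ring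
      exact hc q hqS (this ▸ q.sub_mem hmem huq)
    · have hqS : q ∈ S₁ := Finset.mem_filter.mpr ⟨hq, hJ, huq⟩
      have hcq : c ∈ q := (Finset.inf_le hqS : S₁.inf id ≤ id q) hcI.2
      have : u = (u + c) - c := by ring
      exact huq (this ▸ q.sub_mem hmem hcq)

end Groth.Agent.Helper3.UnitLift
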