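import Mathlib
import Groth.Agent.Helper3.FrameFin
import Groth.Agent.Helper3.UnitLift

set_option autoImplicit false
set_option linter.style.haveILetI false
set_option linter.unusedSectionVars false
set_option linter.unusedVariables false
set_option linter.deprecated false
set_option linter.style.haveILetI false
set_option linter.unusedSectionVars false
set_option linter.unusedVariables false

universe u

open CategoryTheory CategoryTheory.Limits AlgebraicGeometry TopologicalSpace Opposite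

namespace Groth.Agent.Helper3.FinLocal

open Scheme.Modules Groth.Agent.Helper4.TwistExt Groth.Agent.Helper4.TensorInv
  Groth.Agent.Helper1.CC Groth.Agent.Helper3.FrameFin Groth.Agent.Helper3.PuncTriv
  Groth.Agent.Helper3.DiscPic1 Groth.Agent.Helper4.StalkDict

/-- **Local step**: near a point `z` outside `V'`, the invertible module `L` has a frame over the
preimage of a neighbourhood `W'` of `z` which differs from the given frame over `f⁻¹ V'` by the
pullback of a unit on `W' ∩ V'`. -/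
theorem exists_local_unit {X Y : Scheme.{u}} (f : X ⟶ Y) [IsFinite f]
    (V' : Y.Opens)
    (hsurj : ∀ T : Y.Opens, IsAffineOpen T → T ≤ V' → Function.Surjective (f.app T))
    (L : X.Modules) (hL : PicF.IsInvertible L)
    (ε₀ : Γ(L, f ⁻¹ᵁ V')) (hε₀ : IsFrame L (f ⁻¹ᵁ V') ε₀)
    (z : Y) [IsNoetherianRing (Y.presheaf.stalk z)] (hd : ringKrullDim (Y.presheaf.stalk z) ≤ 1)
    (hz : z ∉ V') (W : Y.Opens) (a : Γ(Y, W)) (hW : IsAffineOpen W) (hzW : z ∈ W)
    (ha : Y.basicOpen a = W ⊓ V') :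
    ∃ (W' : Y.Opens) (ε : Γ(L, f ⁻¹ᵁ W')) (e : Γ(Y, W' ⊓ V')), z ∈ W' ∧ W' ≤ W ∧
      IsFrame L (f ⁻¹ᵁ W') ε ∧ IsUnit e ∧
      L.presheaf.map (homOfLE (f.preimage_mono (inf_le_left : W' ⊓ V' ≤ W'))).op ε =
        (f.app (W' ⊓ V') e) •
          L.presheaf.map (homOfLE (f.preimage_mono (inf_le_right : W' ⊓ V' ≤ V'))).op ε₀ := by
  classical
  -- affine preimage, finite fibre
  have hXW : IsAffineOpen (f ⁻¹ᵁ W) := hW.preimage f
  have hE : (f ⁻¹' {z}).Finite := f.finite_preimage_singleton z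
  have hEW : f ⁻¹' {z} ⊆ ((f ⁻¹ᵁ W : X.Opens) : Set X) := by
    intro x hx
    have hx' : f x = z := hx
    show f x ∈ W
    rw [hx']; exact hzW
  obtain ⟨B, εB, hEB, hBW, hεB⟩ := exists_frame_of_finite L hL (f ⁻¹ᵁ W) hXW _ hE hEW
  -- the closed image of the complement
  have hcl : IsClosed (f '' ((B : Set X)ᶜ)) := f.isClosedMap _ B.isOpen.isClosed_compl
  have hzC : z ∉ f '' ((B : Set X)ᶜ) := by
    rintro ⟨x, hx, hxz⟩
    exact hx (hEB hxz)
  let O : Y.Opens := ⟨(f '' ((B : Set X)ᶜ))ᶜ, hcl.isOpen_compl⟩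
  obtain ⟨h, hhO, hzh⟩ := hW.exists_basicOpen_le (V := O) ⟨z, hzC⟩ hzW
  have hfh : f ⁻¹ᵁ (Y.basicOpen h) ≤ B := by
    intro x hx
    by_contra hxB
    exact hhO hx ⟨x, hxB, rfl⟩
  -- the affine open `T`
  let T : Y.Opens := Y.basicOpen (a * h)
  have hT : IsAffineOpen T := hW.basicOpen (a * h)
  have hTmul : T = Y.basicOpen a ⊓ Y.basicOpen h := Y.basicOpen_mul a h
  have hTV' : T ≤ V' := by rw [hTmul, ha]; exact inf_le_left.trans inf_le_right
  have hTh : T ≤ Y.basicOpen h := by rw [hTmul]; exact inf_le_right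
  have hzT : z ∉ T := fun h' => hz (hTV' h')
  have hle1 : f ⁻¹ᵁ T ≤ B := (f.preimage_mono hTh).trans hfh
  have hle0 : f ⁻¹ᵁ T ≤ f ⁻¹ᵁ V' := f.preimage_mono hTV'
  obtain ⟨u, hu, hrel⟩ := exists_unit_of_frames _ _ (isFrame_of_le hε₀ hle0)
    (isFrame_of_le hεB hle1)
  -- unit lifting
  obtain ⟨ut, hut⟩ := hsurj T hT hTV' u
  obtain ⟨v, hv⟩ := hu.exists_right_inv
  obtain ⟨vt, hvt⟩ := hsurj T hT hTV' v
  let J : Ideal Γ(Y, T) := RingHom.ker (f.app T).hom
  have hJ : ut * vt - 1 ∈ J := by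
    show (f.app T).hom (ut * vt - 1) = 0
    rw [map_sub, map_mul, map_one]
    have h1 : (f.app T).hom ut = u := hut
    have h2 : (f.app T).hom vt = v := hvt
    rw [h1, h2, hv, sub_self]
  let S : Set Y := {y | y ∈ T ∧ y ⤳ z}
  have hS : S.Finite := (finite_generizations Y z hd).subset (fun y hy => hy.2)
  let qf : Y → Ideal Γ(Y, T) := fun y =>
    if hy : y ∈ T then (hT.primeIdealOf ⟨y, hy⟩).asIdeal else ⊤
  have hqf : ∀ (y : Y) (hy : y ∈ T), qf y = (hT.primeIdealOf ⟨y, hy⟩).asIdeal := by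
    intro y hy
    simp only [qf, dif_pos hy]
  let Q : Finset (Ideal Γ(Y, T)) := hS.toFinset.image qf
  have hQmem : ∀ q ∈ Q, ∃ (y : Y) (hy : y ∈ T), y ⤳ z ∧
      q = (hT.primeIdealOf ⟨y, hy⟩).asIdeal := by
    intro q hq
    obtain ⟨y, hyS, rfl⟩ := Finset.mem_image.mp hq
    have hyS' : y ∈ S := hS.mem_toFinset.mp hyS
    exact ⟨y, hyS'.1, hyS'.2, hqf y hyS'.1⟩
  have hQ : ∀ q ∈ Q, q.IsPrime := by
    intro q hq
    obtain ⟨y, hy, -, rfl⟩ := hQmem q hq
    exact (hT.primeIdealOf ⟨y, hy⟩).isPrime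
  have hinc : ∀ q ∈ Q, ∀ q' ∈ Q, q ≤ q' → q = q' := by
    intro q hq q' hq' hle
    obtain ⟨y, hy, hyz, rfl⟩ := hQmem q hq
    obtain ⟨y', hy', hy'z, rfl⟩ := hQmem q' hq'
    have h1 := specializes_of_primeIdealOf_le hT ⟨y, hy⟩ ⟨y', hy'⟩ hle
    have hne : y' ≠ z := fun h' => hzT (h' ▸ hy')
    have := eq_of_specializes_chain Y hd h1 hy'z hne
    subst this
    rfl
  have huQ : ∀ q ∈ Q, J ≤ q → ut ∉ q := by
    intro q hq hJq hmem
    haveI := hQ q hq
    have h1 : ut * vt - 1 ∈ q := hJq hJ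
    have h2 : ut * vt ∈ q := q.mul_mem_right _ hmem
    have h3 : (1 : Γ(Y, T)) ∈ q := by
      have : (1 : Γ(Y, T)) = ut * vt - (ut * vt - 1) := by ring
      rw [this]; exact q.sub_mem h2 h1
    exact (Ideal.IsPrime.ne_top ‹_›) ((Ideal.eq_top_iff_one q).mpr h3)
  obtain ⟨c, hcJ, hc⟩ := Groth.Agent.Helper3.UnitLift.exists_add_notMem J Q hQ hinc ut huQ
  let w : Γ(Y, T) := ut + c
  have hw : f.app T w = u := by
    show (f.app T).hom (ut + c) = u
    rw [map_add, (show (f.app T).hom c = 0 from hcJ), add_zero]; exact hut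
  -- the open where `w` is invertible
  let G : Y.Opens := Y.basicOpen w
  have hG : ∀ y ∈ W, y ⤳ z → y ∈ Y.basicOpen (a * h) → y ∈ G := by
    intro y _ hyz hyT
    rw [mem_basicOpen_iff_notMem_primeIdealOf hT y hyT w]
    apply hc
    apply Finset.mem_image.mpr
    exact ⟨y, hS.mem_toFinset.mpr ⟨hyT, hyz⟩, hqf y hyT⟩
  obtain ⟨h', hzh', hle'⟩ := exists_basicOpen_inf_le hW z hzW (a * h) G hG
  -- the neighbourhood
  let W' : Y.Opens := Y.basicOpen (h * h')
  have hW'mul : W' = Y.basicOpen h ⊓ Y.basicOpen h' := Y.basicOpen_mul h h'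
  have hzW' : z ∈ W' := by rw [hW'mul]; exact ⟨hzh, hzh'⟩
  have hW'W : W' ≤ W := Y.basicOpen_le _
  have hW'h : W' ≤ Y.basicOpen h := by rw [hW'mul]; exact inf_le_left
  have hW'h' : W' ≤ Y.basicOpen h' := by rw [hW'mul]; exact inf_le_right
  have hW'T : W' ⊓ V' ≤ T := by
    intro y hy
    rw [hTmul, ha]
    exact ⟨⟨hW'W hy.1, hy.2⟩, hW'h hy.1⟩
  have hW'G : W' ⊓ V' ≤ G := by
    intro y hy
    exact hle' ⟨hW'h' hy.1, hW'T hy⟩
  let e : Γ(Y, W' ⊓ V') := Y.presheaf.map (homOfLE hW'T).op w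
  have he : IsUnit e := isUnit_res_of_le_basicOpen w hW'G
  have hW'B : f ⁻¹ᵁ W' ≤ B := (f.preimage_mono hW'h).trans hfh
  refine ⟨W', L.presheaf.map (homOfLE hW'B).op εB, e, hzW', hW'W, isFrame_of_le hεB hW'B, he, ?_⟩
  have h1 := congrArg (L.presheaf.map (homOfLE (f.preimage_mono hW'T)).op) hrel
  rw [smul_res, map_map, map_map] at h1
  rw [map_map]
  have h2 : f.app (W' ⊓ V') e = ρ (f.preimage_mono hW'T) u := by
    rw [← hw]
    have := f.naturality (homOfLE hW'T).op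
    exact congrArg (fun g => g.hom w) this
  rw [h2]
  exact h1

end Groth.Agent.Helper3.FinLocal
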