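import Mathlib
import Groth.Agent.Helper3.FinLocal
import Groth.Agent.Helper3.PullCrit
import Groth.Agent.Helper3.AmpleUFD
import Groth.Agent.Helper3.FinPull
import Groth.Agent.Helper3.FinLocal2

set_option autoImplicit false
set_option linter.style.haveILetI false
set_option linter.unusedSectionVars false
set_option linter.unusedVariables false
set_option linter.deprecated false
set_option linter.style.haveILetI false
set_option linter.unusedSectionVars false
set_option linter.unusedVariables false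

universe u

open CategoryTheory CategoryTheory.Limits AlgebraicGeometry TopologicalSpace Opposite

namespace Groth.Agent.Helper3.FinPull2

open Scheme.Modules Groth.Agent.Helper4.TwistExt Groth.Agent.Helper4.TensorInv
  Groth.Agent.Helper1.CC Groth.Agent.Helper3.FrameFin

open Groth.Agent.Helper3.FinPull

/-- **Invertible modules are pulled back along finite morphisms which are closed immersions over
a dense open, on Noetherian schemes of dimension `≤ 1`.** -/
theorem main' {X Y : Scheme.{u}} (f : X ⟶ Y)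
    [IsFinite f] [NoetherianSpace Y] (hdim : topologicalKrullDim Y ≤ 1)
    (V : Y.Opens) (hV : Dense (V : Set Y)) (hfV : IsClosedImmersion (f ∣_ V))
    (L : X.Modules) (hL : PicF.IsInvertible L) :
    ∃ N : Y.Modules, PicF.IsInvertible N ∧
      Nonempty ((Scheme.Modules.pullback f).obj N ≅ L) := by
  rcases isEmpty_or_nonempty Y with hY | ⟨⟨y₀⟩⟩
  · refine ⟨Coh.structureModule Y, isInvertible_structureModule, ?_⟩
    exact Groth.Agent.Helper3.PullCrit.nonempty_iso_of_frames f _ isInvertible_structureModule L hL 0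
      (fun y => (hY.false y).elim)
  -- a dense affine open and a frame near the fibres of the generic points
  obtain ⟨Y₀, hY₀, -, hY₀d⟩ := Groth.Agent.Helper3.Dim1Gen.exists_dense_affine' (X := Y) y₀
  have hgfin : (genericPoints Y).Finite :=
    genericPoints.finite NoetherianSpace.finite_irreducibleComponents
  have hFX : (f ⁻¹' genericPoints Y).Finite := f.finite_preimage hgfin
  have hX₀ : IsAffineOpen (f ⁻¹ᵁ Y₀) := hY₀.preimage f
  have hgY₀ := genericPoints_subset_of_dense (Y₀ : Set Y) Y₀.isOpen hY₀d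
  have hgV := genericPoints_subset_of_dense (V : Set Y) V.isOpen hV
  obtain ⟨B, εB, hEB, hBX₀, hεB⟩ := exists_frame_of_finite L hL (f ⁻¹ᵁ Y₀) hX₀ _ hFX
    (fun x hx => hgY₀ hx)
  have hcl : IsClosed (f '' ((B : Set X)ᶜ)) := f.isClosedMap _ B.isOpen.isClosed_compl
  let O : Y.Opens := ⟨(f '' ((B : Set X)ᶜ))ᶜ, hcl.isOpen_compl⟩
  let V' : Y.Opens := V ⊓ O
  have hV'gen : genericPoints Y ⊆ (V' : Set Y) := by
    intro η hη
    refine ⟨hgV hη, ?_⟩
    rintro ⟨x, hx, hxη⟩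
    exact hx (hEB (show f x ∈ genericPoints Y from hxη ▸ hη))
  have hfV'B : f ⁻¹ᵁ V' ≤ B := by
    intro x hx
    by_contra hxB
    exact hx.2 ⟨x, hxB, rfl⟩
  let ε₀ : Γ(L, f ⁻¹ᵁ V') := L.presheaf.map (homOfLE hfV'B).op εB
  have hε₀ : IsFrame L (f ⁻¹ᵁ V') ε₀ := isFrame_of_le hεB hfV'B
  have hsurj : ∀ T : Y.Opens, IsAffineOpen T → T ≤ V' → Function.Surjective (f.app T) :=
    fun T hT hTV' => app_surjective_of_le f V hfV T hT (hTV'.trans inf_le_left)
  -- local data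
  haveI : NoetherianSpace (↑V' : Scheme.{u}) :=
    Topology.IsInducing.noetherianSpace V'.ι.isOpenEmbedding.isInducing
  haveI : QuasiCompact V'.ι := quasiCompact_of_noetherianSpace_source V'.ι
  have hdisc : DiscreteTopology ↥((V' : Set Y)ᶜ) :=
    Groth.Agent.Helper3.Dim1Gen.discreteTopology_compl' Y V' hV'gen hdim
  have hstalkd : ∀ z : Y, ringKrullDim (Y.presheaf.stalk z) ≤ 1 := fun z =>
    (Groth.Agent.Helper3.CurveFlat.ringKrullDim_stalk_le Y z).trans hdim
  let Zt : Type u := {z : Y // z ∉ V'}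
  have hloc : ∀ z : Zt, ∃ (W' : Y.Opens) (ε : Γ(L, f ⁻¹ᵁ W')) (e : Γ(Y, W' ⊓ V')), z.1 ∈ W' ∧
      (∀ y ∈ W', y ∉ V' → y = z.1) ∧ IsFrame L (f ⁻¹ᵁ W') ε ∧ IsUnit e ∧
      L.presheaf.map (homOfLE (f.preimage_mono (inf_le_left : W' ⊓ V' ≤ W'))).op ε =
        (f.app (W' ⊓ V') e) •
          L.presheaf.map (homOfLE (f.preimage_mono (inf_le_right : W' ⊓ V' ≤ V'))).op ε₀ := by
    intro z
    obtain ⟨W, a, hW, hzW, hWz, ha⟩ := Groth.Agent.Helper3.Dim1Gen.exists_local' Y V' hdisc z.1 z.2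
      (Groth.Agent.Helper3.Dim1Gen.finite_minimalPrimes_stalk Y z.1) (hstalkd z.1)
    obtain ⟨W', ε, e, hzW', hW'W, hε, he, hrel⟩ := Groth.Agent.Helper3.FinLocal2.exists_local_unit'
      f V' hsurj L hL ε₀ hε₀ z.1 (Groth.Agent.Helper3.Dim1Gen.finite_minimalPrimes_stalk Y z.1) (hstalkd z.1) z.2 W a hW hzW ha
    exact ⟨W', ε, e, hzW', fun y hy hyV' => hWz y (hW'W hy) hyV', hε, he, hrel⟩
  choose W' ε e hzW' hW'z hε he hrel using hloc
  have hsparse : ∀ z z' : Zt, z ≠ z' → W' z ⊓ W' z' ≤ V' := by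
    intro z z' hzz y hy
    by_contra hyV'
    exact hzz (Subtype.ext ((hW'z z y hy.1 hyV').symm.trans (hW'z z' y hy.2 hyV')))
  have hcov : ∀ y : Y, y ∉ V' → ∃ z : Zt, y ∈ W' z := fun y hy => ⟨⟨y, hy⟩, hzW' ⟨y, hy⟩⟩
  -- the module on `Y`
  obtain ⟨N, s₀, s, hN, hs₀, hs, hsrel⟩ :=
    Groth.Agent.Helper3.GlueUnits.exists_of_units V' W' hsparse hcov e he
  -- the map to the pushforward
  let F : Y.Modules := (pushforward f).obj L
  let σ₀ : Γ(F, V') := ε₀
  let σ : ∀ z, Γ(F, W' z) := fun z => ε z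
  have hσrel : ∀ z, F.presheaf.map (homOfLE (inf_le_left : W' z ⊓ V' ≤ W' z)).op (σ z) =
      e z • F.presheaf.map (homOfLE (inf_le_right : W' z ⊓ V' ≤ V')).op σ₀ := fun z => hrel z
  obtain ⟨ψ, hψ₀, hψ⟩ := Groth.Agent.Helper3.FrameHom.exists_hom N F V' W' hsparse hcov s₀ hs₀ s hs
    σ₀ σ e hsrel hσrel
  refine ⟨N, hN, Groth.Agent.Helper3.PullCrit.nonempty_iso_of_frames f N hN L hL ψ ?_⟩
  intro y
  by_cases hy : y ∈ V'
  · refine ⟨V', s₀, hy, ?_⟩
    intro W'' hW'' ℓ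
    rw [hψ₀]
    exact (hε₀ W'' hW'').1 ℓ
  · refine ⟨W' ⟨y, hy⟩, s ⟨y, hy⟩, hzW' ⟨y, hy⟩, ?_⟩
    intro W'' hW'' ℓ
    rw [hψ ⟨y, hy⟩]
    exact (hε ⟨y, hy⟩ W'' hW'').1 ℓ

end Groth.Agent.Helper3.FinPull2
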