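import Mathlib

set_option backward.isDefEq.respectTransparency.types false
set_option maxHeartbeats 4000000
set_option synthInstance.maxHeartbeats 400000
set_option autoImplicit false
universe u
open CategoryTheory CategoryTheory.Limits AlgebraicGeometry TopologicalSpace Opposite

namespace Groth.Agent.Helper3.FinZ

theorem isJacobsonRing_int : IsJacobsonRing ℤ := by
  rw [isJacobsonRing_iff_prime_eq]
  intro P hP
  by_cases h0 : P = ⊥
  · subst h0
    rw [eq_bot_iff]
    intro x hx
    rw [Ideal.mem_jacobson_bot] at hx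
    have h1 := hx x
    rw [Int.isUnit_iff] at h1
    rw [Ideal.mem_bot]
    rcases h1 with h1 | h1
    · have : x * x = 0 := by linarith
      exact mul_self_eq_zero.mp this
    · nlinarith [mul_self_nonneg x]
  · have : P.IsMaximal := hP.isMaximal h0
    exact Ideal.jacobson_eq_self_of_isMaximal

instance : IsJacobsonRing (ULift.{u} ℤ) :=
  (isJacobsonRing_iso (ULift.ringEquiv : ULift.{u} ℤ ≃+* ℤ)).mpr isJacobsonRing_int

theorem moduleFinite_int_of_ringHom_finite (K : Type u) [CommRing K] (ψ : ℤ →+* K)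
    (h : ψ.Finite) : Module.Finite ℤ K := by
  have h' := h
  unfold RingHom.Finite at h'
  have hm : AddCommGroup.toIntModule K = ψ.toAlgebra.toModule := Subsingleton.elim _ _
  rw [hm]
  exact h'

/-- A field which is module-finite over `ULift ℤ` is finite. -/
theorem finite_of_finite_ulift_int (K : Type u) [Field K] (φ : ULift.{u} ℤ →+* K)
    (hφ : φ.Finite) : Finite K := by
  let e : ℤ →+* ULift.{u} ℤ := (ULift.ringEquiv : ULift.{u} ℤ ≃+* ℤ).symm.toRingHom
  have he : e.Finite := RingHom.Finite.of_surjective e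
    (ULift.ringEquiv : ULift.{u} ℤ ≃+* ℤ).symm.surjective
  haveI : Module.Finite ℤ K := moduleFinite_int_of_ringHom_finite K (φ.comp e) (hφ.comp he)
  by_cases hinj : Function.Injective (algebraMap ℤ K)
  · exfalso
    haveI : Algebra.IsIntegral ℤ K := Algebra.IsIntegral.of_finite _ _
    have hf : IsField ℤ := isField_of_isIntegral_of_isField hinj (Field.toIsField K)
    exact Int.not_isField hf
  · rw [injective_iff_map_eq_zero] at hinj
    push Not at hinj
    obtain ⟨a, ha0, hane⟩ := hinj
    have hn : (a : K) = 0 := by simpa using ha0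
    refine Module.finite_of_fg_torsion K (fun x => ⟨⟨a, ?_⟩, ?_⟩)
    · exact mem_nonZeroDivisors_of_ne_zero hane
    · show a • x = 0
      rw [zsmul_eq_mul, hn, zero_mul]

theorem ringHom_ulift_int_ext {F : Type*} [Semiring F] (α β : ULift.{u} ℤ →+* F) : α = β := by
  have h : α.comp (ULift.ringEquiv : ULift.{u} ℤ ≃+* ℤ).symm.toRingHom =
      β.comp (ULift.ringEquiv : ULift.{u} ℤ ≃+* ℤ).symm.toRingHom := RingHom.ext_int _ _
  ext a
  have h2 := congrArg (fun γ : ℤ →+* F => γ a.down) h
  have h3 : (ULift.ringEquiv : ULift.{u} ℤ ≃+* ℤ).symm a.down = a := by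
    ext; rfl
  simp only [RingHom.comp_apply, RingEquiv.toRingHom_eq_coe, RingHom.coe_coe, h3] at h2
  exact h2

theorem finite_ringHom {A : Type u} [CommRing A] (ρ : ULift.{u} ℤ →+* A) (hρ : ρ.FiniteType)
    (F : Type*) [CommRing F] [Finite F] : Finite (A →+* F) := by
  algebraize [ρ]
  obtain ⟨s, hs⟩ := Algebra.FiniteType.out (R := ULift.{u} ℤ) (A := A)
  refine Finite.of_injective (fun (ψ : A →+* F) (a : (s : Set A)) => ψ a.1) ?_
  intro ψ ψ' h
  let E : Subalgebra (ULift.{u} ℤ) A :=
    { RingHom.eqLocus ψ ψ' with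
      algebraMap_mem' := fun r => by
        show ψ (algebraMap _ A r) = ψ' (algebraMap _ A r)
        have := ringHom_ulift_int_ext (ψ.comp (algebraMap _ A)) (ψ'.comp (algebraMap _ A))
        exact congrArg (fun γ : ULift.{u} ℤ →+* F => γ r) this }
  have hE : Algebra.adjoin (ULift.{u} ℤ) (s : Set A) ≤ E :=
    Algebra.adjoin_le fun a ha => congrFun h ⟨a, ha⟩
  rw [hs] at hE
  ext a
  exact hE (Algebra.mem_top : a ∈ (⊤ : Subalgebra (ULift.{u} ℤ) A))

section
variable (Y : Scheme.{u}) [LocallyOfFiniteType (Limits.IsTerminal.from specULiftZIsTerminal Y)]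

theorem jacobsonSpace : JacobsonSpace Y :=
  LocallyOfFiniteType.jacobsonSpace (Limits.IsTerminal.from specULiftZIsTerminal Y)

theorem closed_iff (y : Y) : IsClosed ({y} : Set Y) ↔ Finite ↑(Y.residueField y) := by
  haveI := jacobsonSpace Y
  set t := Limits.IsTerminal.from specULiftZIsTerminal Y with ht
  constructor
  · intro hy
    haveI : IsClosedImmersion (Y.fromSpecResidueField y) :=
      isClosed_singleton_iff_isClosedImmersion.mp hy
    haveI : IsFinite (Y.fromSpecResidueField y ≫ t) :=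
      (isFinite_iff_locallyOfFiniteType_of_jacobsonSpace).mpr inferInstance
    obtain ⟨φ, hφ⟩ := Spec.map_surjective (Y.fromSpecResidueField y ≫ t)
    have h1 : IsFinite (Spec.map φ) := hφ ▸ inferInstance
    rw [IsFinite.SpecMap_iff] at h1
    exact finite_of_finite_ulift_int _ φ.hom h1
  · intro hfin
    rw [isClosed_singleton_iff_locallyOfFiniteType]
    obtain ⟨φ, hφ⟩ := Spec.map_surjective (Y.fromSpecResidueField y ≫ t)
    have h1 : φ.hom.FiniteType := by
      apply RingHom.FiniteType.of_finite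
      unfold RingHom.Finite
      exact @Module.Finite.of_finite _ _ _ _ (φ.hom.toAlgebra.toModule) hfin
    haveI : LocallyOfFiniteType (Y.fromSpecResidueField y ≫ t) := by
      rw [← hφ, HasRingHomProperty.Spec_iff (P := @LocallyOfFiniteType)]
      exact h1
    exact locallyOfFiniteType_of_comp (Y.fromSpecResidueField y) t

theorem finite_points_affine (F : Type) [Field F] [Finite F] (U : Y.Opens) (hU : IsAffineOpen U) :
    {y : Y | y ∈ U ∧ Nonempty (↑(Y.residueField y) →+* F)}.Finite := by
  set t := Limits.IsTerminal.from specULiftZIsTerminal Y with ht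
  have hle : U ≤ t ⁻¹ᵁ ⊤ := le_top
  have hft : (t.appLE ⊤ U hle).hom.FiniteType :=
    t.finiteType_appLE (isAffineOpen_top _) hU hle
  let e := (Scheme.ΓSpecIso (CommRingCat.of (ULift.{u} ℤ))).symm.commRingCatIsoToRingEquiv
  haveI : Finite (↑Γ(Y, U) →+* F) :=
    finite_ringHom ((t.appLE ⊤ U hle).hom.comp e.toRingHom)
      (hft.comp (RingHom.FiniteType.of_surjective _ e.surjective)) F
  rw [← Set.finite_coe_iff]
  refine Finite.of_injective (fun (y : {y : Y | y ∈ U ∧ Nonempty (↑(Y.residueField y) →+* F)}) =>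
    (Classical.choice y.2.2).comp (Y.evaluation U y.1 y.2.1).hom) ?_
  rintro ⟨y, hy, hσ⟩ ⟨y', hy', hσ'⟩ h
  simp only at h
  ext1
  have key : ∀ f : Γ(Y, U), y ∈ Y.basicOpen f ↔ y' ∈ Y.basicOpen f := by
    intro f
    rw [← Scheme.evaluation_ne_zero_iff_mem_basicOpen (hx := hy),
      ← Scheme.evaluation_ne_zero_iff_mem_basicOpen (hx := hy')]
    have h1 := congrArg (fun γ : ↑Γ(Y, U) →+* F => γ f) h
    simp only [RingHom.comp_apply] at h1
    rw [not_iff_not]
    constructor
    · intro h0
      have : (Classical.choice hσ') ((Y.evaluation U y' hy').hom f) = 0 := by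
        rw [← h1]
        show (Classical.choice hσ) ((Y.evaluation U y hy) f) = 0
        rw [h0, map_zero]
      exact (map_eq_zero _).mp this
    · intro h0
      have : (Classical.choice hσ) ((Y.evaluation U y hy).hom f) = 0 := by
        rw [h1]
        show (Classical.choice hσ') ((Y.evaluation U y' hy') f) = 0
        rw [h0, map_zero]
      exact (map_eq_zero _).mp this
  show y = y'
  have hq : hU.primeIdealOf ⟨y, hy⟩ = hU.primeIdealOf ⟨y', hy'⟩ := by
    ext f
    have h1 : ∀ (z : Y) (hz : z ∈ U), f ∈ (hU.primeIdealOf ⟨z, hz⟩).asIdeal ↔ z ∉ Y.basicOpen f := by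
      intro z hz
      have h2 : hU.fromSpec (hU.primeIdealOf ⟨z, hz⟩) = z := hU.fromSpec_primeIdealOf ⟨z, hz⟩
      have h3 : z ∈ Y.basicOpen f ↔ hU.primeIdealOf ⟨z, hz⟩ ∈ hU.fromSpec ⁻¹ᵁ Y.basicOpen f := by
        conv_lhs => rw [← h2]
        rfl
      rw [h3, hU.fromSpec_preimage_basicOpen]
      exact not_not.symm
    rw [h1 y hy, h1 y' hy', key f]
  have := congrArg (fun q => hU.fromSpec q) hq
  simpa [hU.fromSpec_primeIdealOf] using this

theorem finite_points [CompactSpace Y] (F : Type) [Field F] [Finite F] :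
    {y : Y | Nonempty (↑(Y.residueField y) →+* F)}.Finite := by
  have hc : IsCompact ((⊤ : Y.Opens) : Set Y) := by
    simpa using CompactSpace.isCompact_univ (X := Y)
  obtain ⟨S, hS, hSU⟩ := isCompact_iff_finite_and_eq_biUnion_affineOpens.mp hc
  have hfin : (⋃ W ∈ S, {y : Y | y ∈ (W : Y.Opens) ∧ Nonempty (↑(Y.residueField y) →+* F)}).Finite :=
    hS.biUnion fun W _ => finite_points_affine Y F W.1 W.2
  refine hfin.subset fun y hy => ?_
  have hyU : y ∈ (⊤ : Y.Opens) := trivial
  rw [hSU] at hyU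
  obtain ⟨W, hW, hyW⟩ : ∃ W ∈ S, y ∈ (W : Y.Opens) := by
    simpa [Opens.mem_iSup] using hyU
  exact Set.mem_biUnion hW ⟨hyW, hy⟩

end

end Groth.Agent.Helper3.FinZ
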