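import Mathlib

/-!
# A functor with connected fibres which is surjective on morphisms is final
-/

namespace Groth.Agent.Helper3.FinalFiber

open CategoryTheory CategoryTheory.Limits

universe v₁ v₂ u₁ u₂

variable {I : Type u₁} [Category.{v₁} I] {I' : Type u₂} [Category.{v₂} I'] (F : I ⥤ I')

/-- the functor from a fibre to a category of structured arrows -/
def Ψ {d z : I'} (g : d ⟶ z) : F.Fiber z ⥤ StructuredArrow d F where
  obj y := StructuredArrow.mk (g ≫ eqToHom y.2.symm)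
  map {y y'} φ := StructuredArrow.homMk φ.1 (by
    have := φ.2
    have := IsHomLift.fac' F (𝟙 z) φ.1
    simp [this])
  map_id y := by
    apply StructuredArrow.hom_ext
    rfl
  map_comp φ ψ := by
    apply StructuredArrow.hom_ext
    rfl

theorem final_of (h1 : ∀ x' : I', IsConnected (F.Fiber x'))
    (h2 : ∀ ⦃x' y' : I'⦄ (α' : x' ⟶ y'), ∃ (x y : I) (hx : F.obj x = x') (hy : F.obj y = y')
      (α : x ⟶ y), F.map α = eqToHom hx ≫ α' ≫ eqToHom hy.symm) : F.Final := by
  constructor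
  intro d
  have := h1 d
  obtain ⟨a⟩ := (h1 d).is_nonempty
  let base : StructuredArrow d F := (Ψ F (𝟙 d)).obj a
  have : Nonempty (StructuredArrow d F) := ⟨base⟩
  have key : ∀ X : StructuredArrow d F, Zigzag base X := by
    intro X
    obtain ⟨a', b, hx, hy, α, hα⟩ := h2 X.hom
    have := h1 (F.obj X.right)
    let fa' : F.Fiber d := ⟨a', hx⟩
    let fb : F.Fiber (F.obj X.right) := ⟨b, hy⟩
    let fx : F.Fiber (F.obj X.right) := ⟨X.right, rfl⟩
    have Z1 : Zigzag base ((Ψ F (𝟙 d)).obj fa') :=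
      zigzag_obj_of_zigzag _ (isPreconnected_zigzag a fa')
    let m : (Ψ F (𝟙 d)).obj fa' ⟶ (Ψ F X.hom).obj fb :=
      StructuredArrow.homMk α (by
        simp [Ψ, hα])
    have Z2 : Zigzag ((Ψ F X.hom).obj fb) ((Ψ F X.hom).obj fx) :=
      zigzag_obj_of_zigzag _ (isPreconnected_zigzag fb fx)
    let e : (Ψ F X.hom).obj fx ⟶ X :=
      StructuredArrow.homMk (𝟙 _) (by simp [Ψ])
    exact Z1.trans ((Zigzag.of_hom m).trans (Z2.trans (Zigzag.of_hom e)))
  exact zigzag_isConnected (fun j₁ j₂ => (key j₁).symm.trans (key j₂))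

theorem main {C : Type*} [Category C] (h1 : ∀ x' : I', IsConnected (F.Fiber x'))
    (h2 : ∀ ⦃x' y' : I'⦄ (α' : x' ⟶ y'), ∃ (x y : I) (hx : F.obj x = x') (hy : F.obj y = y')
      (α : x ⟶ y), F.map α = eqToHom hx ≫ α' ≫ eqToHom hy.symm) (M : I' ⥤ C) :
    (HasColimit (F ⋙ M) ↔ HasColimit M) ∧
      ∀ [HasColimit (F ⋙ M)] [HasColimit M], IsIso (colimit.pre M F) := by
  have := final_of F h1 h2
  refine ⟨Functor.Final.hasColimit_comp_iff F, ?_⟩
  intro _ _
  infer_instance

end Groth.Agent.Helper3.FinalFiber
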