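import Mathlib
import Groth.Agent.Helper3.Fitt0

/-! The support of a finitely presented module is the zero locus of a finitely generated ideal. -/

set_option autoImplicit false
universe u v

namespace Groth.Agent.Helper3.FittLib

variable {R : Type u} [CommRing R]

/-- multilinear expansion of a determinant whose rows are linear combinations -/
lemma det_of_sum_smul {ι L : Type*} [Fintype ι] [DecidableEq ι] [Fintype L]
    (b : ι → L → R) (G : L → ι → R) :
    (Matrix.of fun i => ∑ l, b i l • G l).det =
      ∑ ρ : ι → L, (∏ i, b i (ρ i)) * (Matrix.of fun i => G (ρ i)).det := by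
  have h1 := (Matrix.detRowAlternating (R := R) (n := ι)).toMultilinearMap.map_sum
    (fun i l => b i l • G l)
  have h2 : ∀ ρ : ι → L, (Matrix.detRowAlternating (R := R) (n := ι)).toMultilinearMap
      (fun i => b i (ρ i) • G (ρ i)) = (∏ i, b i (ρ i)) * (Matrix.of fun i => G (ρ i)).det := by
    intro ρ
    have := (Matrix.detRowAlternating (R := R) (n := ι)).toMultilinearMap.map_smul_univ
      (fun i => b i (ρ i)) (fun i => G (ρ i))
    rw [this, smul_eq_mul]
    rfl
  simp only [h2] at h1
  exact h1

/-- The support of a finitely presented module is the zero locus of a finitely generated ideal. -/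
theorem exists_fg_zeroLocus_eq_support (M : Type v) [AddCommGroup M] [Module R M]
    [Module.FinitePresentation R M] :
    ∃ J : Ideal R, J.FG ∧ PrimeSpectrum.zeroLocus (J : Set R) = Module.support R M := by
  classical
  obtain ⟨n, K, e, hK⟩ := Module.FinitePresentation.exists_fin R M
  obtain ⟨G, hG⟩ := hK
  let φ : (Fin n → R) →ₗ[R] M := e.symm.toLinearMap ∘ₗ K.mkQ
  have hφsurj : Function.Surjective φ := e.symm.surjective.comp K.mkQ_surjective
  have hφker : ∀ a, φ a = 0 ↔ a ∈ K := by
    intro a
    change e.symm (K.mkQ a) = 0 ↔ _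
    rw [LinearEquiv.map_eq_zero_iff, Submodule.mkQ_apply, Submodule.Quotient.mk_eq_zero]
  let x : Fin n → M := fun i => φ (Pi.single i 1)
  have hsum : ∀ a : Fin n → R, ∑ j, a j • x j = φ a := by
    intro a
    simp only [x, ← map_smul, ← map_sum]
    congr 1
    ext k
    simp [Finset.sum_apply, Pi.single_apply]
  have hrel : ∀ a : Fin n → R, ∑ j, a j • x j = 0 ↔ a ∈ K := by
    intro a
    rw [hsum, hφker]
  -- the finitely generated ideal
  let S : Finset R := Finset.univ.image fun ρ : Fin n → G => (Matrix.of fun i => (ρ i : Fin n → R)).det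
  refine ⟨Ideal.span S, ⟨S, rfl⟩, ?_⟩
  have hJann : Ideal.span (S : Set R) ≤ Module.annihilator R M := by
    refine Ideal.span_le.mpr ?_
    intro d hd
    obtain ⟨ρ, -, rfl⟩ := Finset.mem_image.mp hd
    rw [SetLike.mem_coe, Module.mem_annihilator]
    have hx : Submodule.span R (Set.range x) = ⊤ := by
      rw [eq_top_iff]
      intro m _
      obtain ⟨a, ha⟩ := hφsurj m
      have h1 : m = ∑ j, a j • x j := by rw [hsum, ha]
      rw [h1]
      exact Submodule.sum_mem _ fun j _ => Submodule.smul_mem _ _ (Submodule.subset_span ⟨j, rfl⟩)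
    intro m
    have hm : m ∈ Submodule.span R (Set.range x) := hx ▸ Submodule.mem_top
    have hrows : ∀ i, ∑ j, (Matrix.of fun i => (ρ i : Fin n → R)) i j • x j = 0 := by
      intro i
      rw [hrel]
      have : (ρ i : Fin n → R) ∈ Submodule.span R (G : Set (Fin n → R)) :=
        Submodule.subset_span (ρ i).2
      rw [hG] at this
      exact this
    induction hm using Submodule.span_induction with
    | mem y hy =>
      obtain ⟨j, rfl⟩ := hy
      exact det_smul_eq_zero x _ hrows j
    | zero => simp
    | add y z _ _ hy hz => rw [smul_add, hy, hz, add_zero]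
    | smul c y _ hy => rw [smul_comm, hy, smul_zero]
  have : Module.Finite R M := inferInstance
  apply Set.Subset.antisymm
  · intro p hp
    by_contra hnot
    rw [Module.notMem_support_iff'] at hnot
    choose f hf hfx using fun i => hnot (x i)
    let g : R := ∏ i, f i
    have hg : g ∉ p.asIdeal := by
      intro hmem
      obtain ⟨i, -, hi⟩ := (Ideal.IsPrime.prod_mem_iff).mp hmem
      exact hf i hi
    have hgx : ∀ i, g • x i = 0 := by
      intro i
      have : g = (∏ j ∈ Finset.univ.erase i, f j) * f i := by
        rw [Finset.prod_erase_mul _ _ (Finset.mem_univ i)]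
      rw [this, mul_smul, hfx, smul_zero]
    -- `g • e_i ∈ K = span G`
    have hgK : ∀ i : Fin n, (Pi.single i g : Fin n → R) ∈ Submodule.span R (G : Set (Fin n → R)) := by
      intro i
      rw [hG, ← hrel]
      simp only [Pi.single_apply, ite_smul, zero_smul, Finset.sum_ite_eq', Finset.mem_univ, if_true]
      exact hgx i
    have hcomb : ∀ i : Fin n, ∃ b : G → R, (Pi.single i g : Fin n → R) = ∑ l, b l • (l : Fin n → R) := by
      intro i
      obtain ⟨c, hc⟩ := (Submodule.mem_span_finset (s := G)).mp (hgK i)
      refine ⟨fun l => c l, ?_⟩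
      rw [← hc.2]
      exact (Finset.sum_coe_sort G fun l => c l • l).symm
    choose b hb using hcomb
    have hdet : (Matrix.diagonal fun _ : Fin n => g) =
        Matrix.of fun i => ∑ l, b i l • (l : Fin n → R) := by
      ext i j
      have := congrFun (hb i) j
      simp only [Matrix.of_apply]
      rw [← this]
      simp [Matrix.diagonal_apply, Pi.single_apply, eq_comm]
    have hmem : (Matrix.diagonal fun _ : Fin n => g).det ∈ Ideal.span (S : Set R) := by
      rw [hdet, det_of_sum_smul]
      refine Ideal.sum_mem _ fun ρ _ => Ideal.mul_mem_left _ _ (Ideal.subset_span ?_)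
      exact Finset.mem_image.mpr ⟨ρ, Finset.mem_univ _, rfl⟩
    have := hp hmem
    rw [Matrix.det_diagonal, Finset.prod_const] at this
    exact hg (p.2.mem_of_pow_mem _ this)
  · intro p hp
    rw [Module.mem_support_iff_of_finite] at hp
    rw [PrimeSpectrum.mem_zeroLocus]
    exact fun d hd => hp (hJann hd)

end Groth.Agent.Helper3.FittLib
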