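import Mathlib

set_option linter.style.haveILetI false
set_option linter.unusedSectionVars false
set_option linter.unusedVariables false

namespace Groth.Agent.Helper3.FittingSemi

universe u v

section general

variable {R : Type u} [CommRing R] {σ : R →+* R} [RingHomSurjective σ]
  {M : Type v} [AddCommGroup M] [Module R M]

/-- iterated images -/
noncomputable def N (φ : M →ₛₗ[σ] M) : ℕ → Submodule R M
  | 0 => ⊤
  | (r+1) => (N φ r).map φ

/-- iterated kernels -/
noncomputable def K (φ : M →ₛₗ[σ] M) : ℕ → Submodule R M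
  | 0 => ⊥
  | (r+1) => (K φ r).comap φ

theorem mem_N (φ : M →ₛₗ[σ] M) (r : ℕ) (x : M) : x ∈ N φ r ↔ ∃ y, (⇑φ)^[r] y = x := by
  induction r generalizing x with
  | zero => simp [N]
  | succ r ih =>
    simp only [N, Submodule.mem_map]
    constructor
    · rintro ⟨z, hz, rfl⟩
      obtain ⟨y, rfl⟩ := (ih z).1 hz
      exact ⟨y, Function.iterate_succ_apply' _ _ _⟩
    · rintro ⟨y, rfl⟩
      exact ⟨(⇑φ)^[r] y, (ih _).2 ⟨y, rfl⟩, (Function.iterate_succ_apply' _ _ _).symm⟩

theorem mem_K (φ : M →ₛₗ[σ] M) (r : ℕ) (x : M) : x ∈ K φ r ↔ (⇑φ)^[r] x = 0 := by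
  induction r generalizing x with
  | zero => simp [K]
  | succ r ih =>
    simp only [K, Submodule.mem_comap]
    rw [ih, Function.iterate_succ_apply]

theorem iterate_zero (φ : M →ₛₗ[σ] M) (r : ℕ) : (⇑φ)^[r] 0 = 0 := by
  induction r with
  | zero => rfl
  | succ r ih => rw [Function.iterate_succ_apply, map_zero, ih]

theorem iterate_sub (φ : M →ₛₗ[σ] M) (r : ℕ) (x y : M) :
    (⇑φ)^[r] (x - y) = (⇑φ)^[r] x - (⇑φ)^[r] y := by
  induction r generalizing x y with
  | zero => rfl
  | succ r ih => rw [Function.iterate_succ_apply, map_sub, ih, Function.iterate_succ_apply,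
      Function.iterate_succ_apply]

theorem N_anti (φ : M →ₛₗ[σ] M) : Antitone (N φ) := by
  refine antitone_nat_of_succ_le fun r x hx => ?_
  obtain ⟨y, rfl⟩ := (mem_N φ _ _).1 hx
  exact (mem_N φ _ _).2 ⟨φ y, (Function.iterate_succ_apply _ _ _).symm⟩

theorem K_mono (φ : M →ₛₗ[σ] M) : Monotone (K φ) := by
  refine monotone_nat_of_le_succ fun r x hx => ?_
  rw [mem_K] at hx ⊢
  rw [Function.iterate_succ_apply', hx, map_zero]

theorem main [IsNoetherian R M] [IsArtinian R M] (φ : M →ₛₗ[σ] M) :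
    ∃ Ms Mn : Submodule R M, IsCompl Ms Mn ∧
      Set.MapsTo φ Ms Ms ∧ Set.MapsTo φ Mn Mn ∧ Set.BijOn φ Ms Ms ∧
      ∃ r : ℕ, ∀ x ∈ Mn, (⇑φ)^[r] x = 0 := by
  obtain ⟨n₁, hn₁⟩ := IsArtinian.monotone_stabilizes
    (⟨fun r => OrderDual.toDual (N φ r), fun a b h => N_anti φ h⟩ : ℕ →o (Submodule R M)ᵒᵈ)
  obtain ⟨n₂, hn₂⟩ := monotone_stabilizes_iff_noetherian.2 ‹IsNoetherian R M›
    (⟨K φ, K_mono φ⟩ : ℕ →o Submodule R M)
  set r := max n₁ n₂ with hr
  have hN : ∀ m, r ≤ m → N φ m = N φ r := by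
    intro m hm
    have h1 := hn₁ m (le_trans (le_max_left _ _) hm)
    have h2 := hn₁ r (le_max_left _ _)
    simp only [OrderHom.coe_mk] at h1 h2
    exact (OrderDual.toDual.injective h1).symm.trans (OrderDual.toDual.injective h2)
  have hK : ∀ m, r ≤ m → K φ m = K φ r := by
    intro m hm
    have h1 := hn₂ m (le_trans (le_max_right _ _) hm)
    have h2 := hn₂ r (le_max_right _ _)
    simp only [OrderHom.coe_mk] at h1 h2
    exact h1.symm.trans h2
  have hdisj : Disjoint (N φ r) (K φ r) := by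
    rw [Submodule.disjoint_def]
    intro x hx hx'
    obtain ⟨y, rfl⟩ := (mem_N φ _ _).1 hx
    rw [mem_K, ← Function.iterate_add_apply] at hx'
    have : y ∈ K φ (r + r) := (mem_K φ _ _).2 hx'
    rw [hK _ (Nat.le_add_right _ _)] at this
    exact (mem_K φ _ _).1 this
  refine ⟨N φ r, K φ r, ⟨hdisj, ?_⟩, ?_, ?_, ⟨?_, ?_, ?_⟩, r, fun x hx => (mem_K φ _ _).1 hx⟩
  · rw [codisjoint_iff, eq_top_iff]
    intro x _
    have h1 : (⇑φ)^[r] x ∈ N φ (r + r) := by
      rw [hN _ (Nat.le_add_right _ _)]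
      exact (mem_N φ _ _).2 ⟨x, rfl⟩
    obtain ⟨y, hy⟩ := (mem_N φ _ _).1 h1
    rw [Function.iterate_add_apply] at hy
    have h2 : x - (⇑φ)^[r] y ∈ K φ r := by
      rw [mem_K, iterate_sub, hy, sub_self]
    have : x = (⇑φ)^[r] y + (x - (⇑φ)^[r] y) := by abel
    rw [this]
    exact Submodule.add_mem_sup ((mem_N φ _ _).2 ⟨y, rfl⟩) h2
  · intro x hx
    obtain ⟨y, rfl⟩ := (mem_N φ _ _).1 hx
    exact (mem_N φ _ _).2 ⟨φ y, by rw [← Function.iterate_succ_apply, Function.iterate_succ_apply']⟩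
  · intro x hx
    have hx' := (mem_K φ _ _).1 hx
    refine (mem_K φ _ _).2 ?_
    rw [← Function.iterate_succ_apply, Function.iterate_succ_apply', hx', map_zero]
  · intro x hx
    obtain ⟨y, rfl⟩ := (mem_N φ _ _).1 hx
    exact (mem_N φ _ _).2 ⟨φ y, by rw [← Function.iterate_succ_apply, Function.iterate_succ_apply']⟩
  · intro x hx x' hx' h
    have h1 : x - x' ∈ N φ r := Submodule.sub_mem _ hx hx'
    have h2 : x - x' ∈ K φ r := by
      rcases Nat.eq_zero_or_pos r with h0 | h0
      · -- r = 0: N φ 0 = ⊤ and K φ 0 ... use stabilization K 1 = K 0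
        have : x - x' ∈ K φ 1 := by
          rw [mem_K]; simp [map_sub, h]
        rw [hK 1 (by omega)] at this
        exact this
      · have : x - x' ∈ K φ 1 := by
          rw [mem_K]; simp [map_sub, h]
        exact K_mono φ h0 this
    have := (Submodule.disjoint_def.1 hdisj) _ h1 h2
    exact sub_eq_zero.1 this
  · intro x hx
    have hx' : x ∈ N φ (r + 1) := by rw [hN _ (Nat.le_succ _)]; exact hx
    obtain ⟨y, rfl⟩ := (mem_N φ _ _).1 hx'
    exact ⟨(⇑φ)^[r] y, (mem_N φ _ _).2 ⟨y, rfl⟩, (Function.iterate_succ_apply' _ _ _).symm⟩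

end general

section torsion

theorem isArtinian_of_torsion (R : Type u) [CommRing R] [IsDomain R] [IsNoetherianRing R]
    [Ring.KrullDimLE 1 R] (M : Type v) [AddCommGroup M] [Module R M] [Module.Finite R M]
    (hM : Module.IsTorsion R M) : IsArtinian R M := by
  obtain ⟨x, hx, hx0⟩ := Submodule.annihilator_top_inter_nonZeroDivisors hM
  have hxM : ∀ m : M, x • m = 0 := fun m => by
    have := Submodule.mem_annihilator.1 hx m Submodule.mem_top
    exact this
  have hfl := isFiniteLength_quotient_span_singleton R hx0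
  rw [isFiniteLength_iff_isNoetherian_isArtinian] at hfl
  have hAr : IsArtinianRing (R ⧸ Ideal.span {x}) := isArtinian_of_tower R hfl.2
  have htors : Module.IsTorsionBySet R M (Ideal.span {x} : Ideal R) := by
    rw [Module.isTorsionBySet_span_singleton_iff]
    exact hxM
  letI : Module (R ⧸ Ideal.span {x}) M := htors.module
  haveI : IsScalarTower R (R ⧸ Ideal.span {x}) M := htors.isScalarTower
  haveI : Module.Finite (R ⧸ Ideal.span {x}) M := Module.Finite.of_restrictScalars_finite R _ M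
  haveI : IsArtinian (R ⧸ Ideal.span {x}) M := isArtinian_of_fg_of_artinian'
  exact isArtinian_of_surjective_algebraMap (R := R ⧸ Ideal.span {x}) (S := R) (M := M)
    Ideal.Quotient.mk_surjective

end torsion

theorem witt (p : ℕ) [Fact p.Prime]
    (k : Type u) [Field k] [CharP k p] [IsAlgClosed k]
    (M : Type v) [AddCommGroup M] [Module (WittVector p k) M] [Module.Finite (WittVector p k) M]
    (hM : Module.IsTorsion (WittVector p k) M)
    (φ : M →ₛₗ[((WittVector.frobeniusEquiv p k).symm : WittVector p k →+* WittVector p k)] M) :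
    ∃ Ms Mn : Submodule (WittVector p k) M, IsCompl Ms Mn ∧
      Set.MapsTo φ Ms Ms ∧ Set.MapsTo φ Mn Mn ∧ Set.BijOn φ Ms Ms ∧
      ∃ r : ℕ, ∀ x ∈ Mn, (⇑φ)^[r] x = 0 := by
  haveI : RingHomSurjective
      ((WittVector.frobeniusEquiv p k).symm : WittVector p k →+* WittVector p k) :=
    ⟨(WittVector.frobeniusEquiv p k).symm.surjective⟩
  haveI : IsNoetherian (WittVector p k) M := isNoetherian_of_isNoetherianRing_of_finite _ _
  haveI : IsArtinian (WittVector p k) M := isArtinian_of_torsion _ _ hM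
  exact main φ

end Groth.Agent.Helper3.FittingSemi
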