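import Mathlib
import Groth.Prelude
import Groth.Agent.Helper6.QuotHom

set_option autoImplicit false
set_option linter.style.haveILetI false
set_option linter.unusedSectionVars false
set_option linter.unusedVariables false
set_option linter.deprecated false
set_option linter.style.haveILetI false
set_option linter.unusedSectionVars false
set_option linter.unusedVariables false

universe u

open AlgebraicGeometry CategoryTheory Limits MonoidalCategory CartesianMonoidalCategory MonObj GrpObj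

namespace Groth.Agent.Helper3.FixArcA

open Groth.Agent.Helper6.QuotHom

variable {S : Scheme.{u}} {G X : Over S} [GrpObj G] (a : AlgGrp.Action G X)

/-- the arc argument: if the orbit of `x₀` along an arc `ga` extends to `ψ`, and translating the
arc by `g` is a reparametrisation `θ` of the arc, then `g` fixes the limit point. -/
theorem act_eq_of_arc
    {Z Zs Z₀ P PK : Over S} (j : Zs ⟶ Z) (i : Z₀ ⟶ Z) (jP : PK ⟶ P)
    (hj : ∀ α β : Z ⟶ X, j ≫ α = j ≫ β → α = β)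
    (c θ : Z ⟶ P) (cK θK : Zs ⟶ PK) (hc : j ≫ c = cK ≫ jP) (hθ : j ≫ θ = θK ≫ jP)
    (hi : i ≫ c = i ≫ θ)
    (ψ : P ⟶ X) (ga : PK ⟶ G) (x₀ : 𝟙_ (Over S) ⟶ X)
    (hψ : jP ≫ ψ = lift ga (toUnit PK ≫ x₀) ≫ a.act)
    (g : Z ⟶ G) (hrel : (j ≫ g) * (cK ≫ ga) = θK ≫ ga) :
    lift (i ≫ g) (i ≫ c ≫ ψ) ≫ a.act = i ≫ c ≫ ψ := by
  have key : lift g (c ≫ ψ) ≫ a.act = θ ≫ ψ := by
    apply hj
    have h1 : j ≫ lift g (c ≫ ψ) ≫ a.act =
        lift (j ≫ g) (lift (cK ≫ ga) (toUnit Zs ≫ x₀) ≫ a.act) ≫ a.act := by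
      rw [← Category.assoc, comp_lift, ← Category.assoc j c ψ, hc, Category.assoc, hψ,
        ← Category.assoc cK, comp_lift, ← Category.assoc cK (toUnit PK) x₀,
        toUnit_unique (cK ≫ toUnit PK) (toUnit Zs)]
    rw [h1, ← act_mul, hrel]
    rw [← Category.assoc j θ ψ, hθ, Category.assoc, hψ, ← Category.assoc θK, comp_lift,
      ← Category.assoc θK (toUnit PK) x₀, toUnit_unique (θK ≫ toUnit PK) (toUnit Zs)]
  have h2 : i ≫ lift g (c ≫ ψ) ≫ a.act = i ≫ θ ≫ ψ := by rw [key]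
  rw [← Category.assoc, comp_lift, ← Category.assoc i θ ψ, ← hi, Category.assoc] at h2
  exact h2

/-- the limit point of the arc is a fixed point -/
theorem isFixedPt_of_arc
    {Z Zs Z₀ P PK : Over S} (j : Zs ⟶ Z) (i : Z₀ ⟶ Z) (jP : PK ⟶ P)
    (hj : ∀ α β : Z ⟶ X, j ≫ α = j ≫ β → α = β)
    (c θ : Z ⟶ P) (cK θK : Zs ⟶ PK) (hc : j ≫ c = cK ≫ jP) (hθ : j ≫ θ = θK ≫ jP)
    (hi : i ≫ c = i ≫ θ)
    (ψ : P ⟶ X) (ga : PK ⟶ G) (x₀ : 𝟙_ (Over S) ⟶ X)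
    (hψ : jP ≫ ψ = lift ga (toUnit PK ≫ x₀) ≫ a.act)
    (g : Z ⟶ G) (hrel : (j ≫ g) * (cK ≫ ga) = θK ≫ ga)
    (o : 𝟙_ (Over S) ⟶ P) (hio : i ≫ c = toUnit Z₀ ≫ o) [IsIso (i ≫ g)] :
    a.IsFixedPt (o ≫ ψ) := by
  intro T g'
  have h := act_eq_of_arc a j i jP hj c θ cK θK hc hθ hi ψ ga x₀ hψ g hrel
  have h3 : i ≫ c ≫ ψ = toUnit Z₀ ≫ o ≫ ψ := by
    rw [← Category.assoc, hio, Category.assoc]
  rw [h3] at h
  have h4 : (g' ≫ inv (i ≫ g)) ≫ lift (i ≫ g) (toUnit Z₀ ≫ o ≫ ψ) ≫ a.act =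
      (g' ≫ inv (i ≫ g)) ≫ toUnit Z₀ ≫ o ≫ ψ := by rw [h]
  rw [← Category.assoc, comp_lift, Category.assoc, IsIso.inv_hom_id, Category.comp_id,
    ← Category.assoc (g' ≫ inv (i ≫ g))] at h4
  have h5 : (g' ≫ inv (i ≫ g)) ≫ toUnit Z₀ = toUnit T := toUnit_unique _ _
  rw [h5] at h4
  exact h4

end Groth.Agent.Helper3.FixArcA
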