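import Mathlib
import Groth.Prelude
import Groth.Agent.Helper3.FixArcA
import Groth.Agent.Helper5.SchDom1

set_option autoImplicit false
set_option linter.style.haveILetI false
set_option linter.unusedSectionVars false
set_option linter.unusedVariables false
set_option linter.deprecated false
set_option linter.style.haveILetI false
set_option linter.unusedSectionVars false
set_option linter.unusedVariables false

universe u

open AlgebraicGeometry CategoryTheory Limits MonoidalCategory CartesianMonoidalCategory MonObj GrpObj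

namespace Groth.Agent.Helper3.FixArcB

variable {k : Type u} [Field k]

/-- `Spec A` over `Spec k` -/
noncomputable abbrev SO {A : Type u} [CommRing A] (φ : k →+* A) : Over (Spec (CommRingCat.of k)) :=
  Over.mk (Spec.map (CommRingCat.ofHom φ))

/-- the morphism of `k`-schemes induced by a ring map -/
noncomputable def SOmap {A B : Type u} [CommRing A] [CommRing B] {φ : k →+* A} {φ' : k →+* B}
    (f : A →+* B) (h : f.comp φ = φ') : SO φ' ⟶ SO φ :=
  Over.homMk (Spec.map (CommRingCat.ofHom f)) (by
    show Spec.map (CommRingCat.ofHom f) ≫ Spec.map (CommRingCat.ofHom φ) =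
      Spec.map (CommRingCat.ofHom φ')
    rw [← Spec.map_comp, ← CommRingCat.ofHom_comp, h])

lemma SOmap_left {A B : Type u} [CommRing A] [CommRing B] {φ : k →+* A} {φ' : k →+* B}
    (f : A →+* B) (h : f.comp φ = φ') : (SOmap f h).left = Spec.map (CommRingCat.ofHom f) := rfl

lemma SOmap_comp {A B C : Type u} [CommRing A] [CommRing B] [CommRing C] {φ : k →+* A}
    {φ' : k →+* B} {φ'' : k →+* C} (f : A →+* B) (h : f.comp φ = φ') (g : B →+* C)
    (h' : g.comp φ' = φ'') :
    SOmap g h' ≫ SOmap f h = SOmap (g.comp f) (by rw [RingHom.comp_assoc, h, h']) := by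
  apply Over.OverMorphism.ext
  show Spec.map (CommRingCat.ofHom g) ≫ Spec.map (CommRingCat.ofHom f) =
    Spec.map (CommRingCat.ofHom (g.comp f))
  rw [← Spec.map_comp, ← CommRingCat.ofHom_comp]

lemma SOmap_congr {A B : Type u} [CommRing A] [CommRing B] {φ : k →+* A} {φ' : k →+* B}
    (f f' : A →+* B) (h : f.comp φ = φ') (h' : f'.comp φ = φ') (hff : f = f') :
    SOmap f h = SOmap f' h' := by
  subst hff; rfl

lemma SOmap_id {A : Type u} [CommRing A] {φ : k →+* A} (f : A →+* A) (h : f.comp φ = φ)
    (hf : f = RingHom.id A) : SOmap f h = 𝟙 (SO φ) := by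
  subst hf
  apply Over.OverMorphism.ext
  show Spec.map (CommRingCat.ofHom (RingHom.id A)) = 𝟙 _
  exact Spec.map_id _

/-- global function on `Spec A` -/
noncomputable abbrev fn {A : Type u} [CommRing A] (r : A) : Γ(Spec (CommRingCat.of A), ⊤) :=
  (Scheme.ΓSpecIso (CommRingCat.of A)).inv r

lemma SOmap_appTop {A B : Type u} [CommRing A] [CommRing B] {φ : k →+* A} {φ' : k →+* B}
    (f : A →+* B) (h : f.comp φ = φ') (r : A) :
    (SOmap f h).left.appTop (fn r) = fn (f r) := by
  have h1 := Scheme.ΓSpecIso_inv_naturality (CommRingCat.ofHom f)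
  have := congrArg (fun φ => φ.hom r) h1
  exact this.symm

lemma fn_injective {A : Type u} [CommRing A] : Function.Injective (fn : A → _) :=
  (ConcreteCategory.bijective_of_isIso (Scheme.ΓSpecIso (CommRingCat.of A)).inv).1

/-- `Spec` of an injective ring map is scheme-theoretically dominant -/
lemma isSchemeTheoreticallyDominant_of_injective {A B : Type u} [CommRing A] [CommRing B]
    (f : A →+* B) (hf : Function.Injective f) :
    IsSchemeTheoreticallyDominant (Spec.map (CommRingCat.ofHom f)) := by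
  constructor
  rw [Scheme.ker_of_isAffine, ← Scheme.IdealSheafData.equivOfIsAffine_symm_apply]
  have h0 : RingHom.ker (Spec.map (CommRingCat.ofHom f)).appTop.hom = ⊥ := by
    rw [eq_bot_iff]
    intro r hr
    rw [RingHom.mem_ker] at hr
    have hnat := Scheme.ΓSpecIso_naturality (CommRingCat.ofHom f)
    have := congrArg (fun f => f.hom r) hnat
    simp only [CommRingCat.hom_comp, RingHom.comp_apply] at this
    rw [hr, map_zero] at this
    have h2 : (Scheme.ΓSpecIso (CommRingCat.of A)).hom.hom r = 0 := by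
      apply hf
      rw [map_zero]
      exact this.symm
    have hinj : Function.Injective (Scheme.ΓSpecIso (CommRingCat.of A)).hom.hom :=
      (ConcreteCategory.bijective_of_isIso (Scheme.ΓSpecIso (CommRingCat.of A)).hom).1
    rw [Ideal.mem_bot]
    exact hinj (h2.trans (map_zero _).symm)
  rw [h0]
  exact map_bot _

/-- two `k`-morphisms from `Spec A` to a separated `k`-scheme agreeing on `Spec B` for `A → B`
injective are equal -/
lemma SOmap_cancel {A B : Type u} [CommRing A] [CommRing B] {φ : k →+* A} {φ' : k →+* B}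
    (f : A →+* B) (h : f.comp φ = φ') (hf : Function.Injective f)
    {X : Over (Spec (CommRingCat.of k))} [IsSeparated X.hom] (α β : SO φ ⟶ X)
    (hαβ : SOmap f h ≫ α = SOmap f h ≫ β) : α = β := by
  apply Over.OverMorphism.ext
  haveI := isSchemeTheoreticallyDominant_of_injective f hf
  refine Groth.Agent.Helper5.SchDom.ext_of_isSchemeTheoreticallyDominant_of_isSeparated X.hom
    ((Over.w α).trans (Over.w β).symm) (Spec.map (CommRingCat.ofHom f)) ?_
  exact congrArg (fun f => f.left) hαβ


section rings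

open PowerSeries

variable (k) (H : Type u) [CommRing H] [Algebra k H]

/-- structure map of `k⟦X⟧` -/
noncomputable abbrev φP : k →+* PowerSeries k := PowerSeries.C
/-- structure map of `k⸨X⸩` -/
noncomputable abbrev φK : k →+* LaurentSeries k :=
  (algebraMap (PowerSeries k) (LaurentSeries k)).comp PowerSeries.C
/-- structure map of `H⟦X⟧` -/
noncomputable abbrev φPH : k →+* PowerSeries H := (PowerSeries.C).comp (algebraMap k H)
/-- structure map of `H⸨X⸩` -/
noncomputable abbrev φLH : k →+* LaurentSeries H :=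
  (algebraMap (PowerSeries H) (LaurentSeries H)).comp (φPH k H)

/-- `j : Spec H⸨X⸩ ⟶ Spec H⟦X⟧` -/
noncomputable def jm : SO (φLH k H) ⟶ SO (φPH k H) :=
  SOmap (algebraMap (PowerSeries H) (LaurentSeries H)) rfl

/-- `jP : Spec k⸨X⸩ ⟶ Spec k⟦X⟧` -/
noncomputable def jP : SO (φK k) ⟶ SO (φP k) :=
  SOmap (algebraMap (PowerSeries k) (LaurentSeries k)) rfl

/-- `i : Spec H ⟶ Spec H⟦X⟧` -/
noncomputable def im : SO (algebraMap k H) ⟶ SO (φPH k H) :=
  SOmap (PowerSeries.constantCoeff (R := H)) (by
    ext r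
    simp)

/-- `c : Spec H⟦X⟧ ⟶ Spec k⟦X⟧` -/
noncomputable def cm : SO (φPH k H) ⟶ SO (φP k) :=
  SOmap (PowerSeries.map (algebraMap k H)) (by
    ext r
    simp)

/-- the universal point `Spec H⟦X⟧ ⟶ Spec H` -/
noncomputable def um : SO (φPH k H) ⟶ SO (algebraMap k H) :=
  SOmap (PowerSeries.C (R := H)) rfl

lemma im_um : im k H ≫ um k H = 𝟙 _ := by
  unfold im um
  rw [SOmap_comp]
  apply SOmap_id
  ext r
  simp

/-- the origin of `Spec k⟦X⟧` -/
noncomputable def om : 𝟙_ (Over (Spec (CommRingCat.of k))) ⟶ SO (φP k) :=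
  Over.homMk (Spec.map (CommRingCat.ofHom (PowerSeries.constantCoeff (R := k)))) (by
    show Spec.map (CommRingCat.ofHom (PowerSeries.constantCoeff (R := k))) ≫
      Spec.map (CommRingCat.ofHom (PowerSeries.C (R := k))) = 𝟙 _
    rw [← Spec.map_comp, ← CommRingCat.ofHom_comp]
    have : (PowerSeries.constantCoeff (R := k)).comp (PowerSeries.C (R := k)) = RingHom.id k := by
      ext r
      simp
    rw [this]
    exact Spec.map_id _)

lemma im_cm : im k H ≫ cm k H = toUnit _ ≫ om k := by
  apply Over.OverMorphism.ext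
  show Spec.map (CommRingCat.ofHom (PowerSeries.constantCoeff (R := H))) ≫
    Spec.map (CommRingCat.ofHom (PowerSeries.map (algebraMap k H))) =
    (toUnit (SO (algebraMap k H))).left ≫
      Spec.map (CommRingCat.ofHom (PowerSeries.constantCoeff (R := k)))
  rw [Over.toUnit_left]
  show _ = Spec.map (CommRingCat.ofHom (algebraMap k H)) ≫ _
  rw [← Spec.map_comp, ← Spec.map_comp, ← CommRingCat.ofHom_comp, ← CommRingCat.ofHom_comp]
  congr 2

variable {H}
variable (ar : PowerSeries H) (ha0 : PowerSeries.constantCoeff ar = 0)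

/-- the reparametrisation `X ↦ ar` -/
noncomputable def θr : PowerSeries k →+* PowerSeries H :=
  (PowerSeries.substAlgHom (R := k) (HasSubst.of_constantCoeff_zero' ha0)).toRingHom

lemma θr_C (r : k) : θr k ar ha0 (PowerSeries.C r) = PowerSeries.C (algebraMap k H r) := by
  have h := (PowerSeries.substAlgHom (R := k) (HasSubst.of_constantCoeff_zero' ha0)).commutes r
  rw [PowerSeries.algebraMap_apply, PowerSeries.algebraMap_apply, Algebra.algebraMap_self,
    RingHom.id_apply] at h
  exact h

lemma θr_X : θr k ar ha0 PowerSeries.X = ar :=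
  PowerSeries.substAlgHom_X (R := k) (HasSubst.of_constantCoeff_zero' ha0)

lemma constantCoeff_θr (f : PowerSeries k) :
    PowerSeries.constantCoeff (θr k ar ha0 f) = algebraMap k H (PowerSeries.constantCoeff f) := by
  have h1 : f = PowerSeries.C (PowerSeries.constantCoeff f) +
      (f - PowerSeries.C (PowerSeries.constantCoeff f)) := by ring
  have h2 : PowerSeries.constantCoeff (f - PowerSeries.C (PowerSeries.constantCoeff f)) = 0 := by
    simp
  have h3 : PowerSeries.constantCoeff
      (θr k ar ha0 (f - PowerSeries.C (PowerSeries.constantCoeff f))) = 0 := by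
    have := PowerSeries.constantCoeff_subst_eq_zero (R := k) (a := ar) ha0 _ h2
    rw [← PowerSeries.coe_substAlgHom (HasSubst.of_constantCoeff_zero' ha0)] at this
    exact this
  conv_lhs => rw [h1]
  rw [map_add, map_add, h3, add_zero, θr_C, PowerSeries.constantCoeff_C]

/-- `θ : Spec H⟦X⟧ ⟶ Spec k⟦X⟧` -/
noncomputable def θm : SO (φPH k H) ⟶ SO (φP k) :=
  SOmap (θr k ar ha0) (by
    refine RingHom.ext fun r => ?_
    show θr k ar ha0 (PowerSeries.C r) = _
    rw [θr_C]
    rfl)

lemma im_θm : im k H ≫ cm k H = im k H ≫ θm k ar ha0 := by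
  unfold im cm θm
  rw [SOmap_comp, SOmap_comp]
  apply SOmap_congr
  ext f
  rw [RingHom.comp_apply, RingHom.comp_apply, constantCoeff_θr]
  rw [← PowerSeries.coeff_zero_eq_constantCoeff_apply, ← PowerSeries.coeff_zero_eq_constantCoeff_apply,
    PowerSeries.coeff_map]


lemma isUnit_algebraMap_X :
    IsUnit (algebraMap (PowerSeries H) (LaurentSeries H) (PowerSeries.X : PowerSeries H)) :=
  IsLocalization.Away.algebraMap_isUnit (PowerSeries.X : PowerSeries H)

variable (H) in
/-- the coefficient map `k⸨X⸩ → H⸨X⸩` -/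
noncomputable def cKr : LaurentSeries k →+* LaurentSeries H :=
  IsLocalization.Away.lift (PowerSeries.X : PowerSeries k)
    (g := (algebraMap (PowerSeries H) (LaurentSeries H)).comp (PowerSeries.map (algebraMap k H)))
    (by
      rw [RingHom.comp_apply, PowerSeries.map_X]
      exact isUnit_algebraMap_X)

lemma cKr_comp : (cKr k H).comp (algebraMap (PowerSeries k) (LaurentSeries k)) =
    (algebraMap (PowerSeries H) (LaurentSeries H)).comp (PowerSeries.map (algebraMap k H)) :=
  IsLocalization.Away.lift_comp _ _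

variable (haU : IsUnit (algebraMap (PowerSeries H) (LaurentSeries H) ar))

/-- the reparametrisation on Laurent series -/
noncomputable def θKr : LaurentSeries k →+* LaurentSeries H :=
  IsLocalization.Away.lift (PowerSeries.X : PowerSeries k)
    (g := (algebraMap (PowerSeries H) (LaurentSeries H)).comp (θr k ar ha0))
    (by
      rw [RingHom.comp_apply, θr_X]
      exact haU)

lemma θKr_comp : (θKr k ar ha0 haU).comp (algebraMap (PowerSeries k) (LaurentSeries k)) =
    (algebraMap (PowerSeries H) (LaurentSeries H)).comp (θr k ar ha0) :=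
  IsLocalization.Away.lift_comp _ _

lemma cKr_algebraMap (f : PowerSeries k) :
    cKr k H (algebraMap (PowerSeries k) (LaurentSeries k) f) =
      algebraMap (PowerSeries H) (LaurentSeries H) (PowerSeries.map (algebraMap k H) f) :=
  RingHom.congr_fun (cKr_comp k (H := H)) f

lemma θKr_algebraMap (f : PowerSeries k) :
    θKr k ar ha0 haU (algebraMap (PowerSeries k) (LaurentSeries k) f) =
      algebraMap (PowerSeries H) (LaurentSeries H) (θr k ar ha0 f) :=
  RingHom.congr_fun (θKr_comp k ar ha0 haU) f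

variable (H) in
/-- `cK : Spec H⸨X⸩ ⟶ Spec k⸨X⸩` -/
noncomputable def cKm : SO (φLH k H) ⟶ SO (φK k) :=
  SOmap (cKr k H) (by
    refine RingHom.ext fun r => ?_
    show cKr k H (algebraMap _ _ (PowerSeries.C r)) = _
    rw [cKr_algebraMap, PowerSeries.map_C]
    rfl)

/-- `θK : Spec H⸨X⸩ ⟶ Spec k⸨X⸩` -/
noncomputable def θKm : SO (φLH k H) ⟶ SO (φK k) :=
  SOmap (θKr k ar ha0 haU) (by
    refine RingHom.ext fun r => ?_
    show θKr k ar ha0 haU (algebraMap _ _ (PowerSeries.C r)) = _
    rw [θKr_algebraMap, θr_C]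
    rfl)

lemma jm_cm : jm k H ≫ cm k H = cKm k H ≫ jP k := by
  unfold jm cm cKm jP
  rw [SOmap_comp, SOmap_comp]
  apply SOmap_congr
  exact (cKr_comp k).symm

lemma jm_θm : jm k H ≫ θm k ar ha0 = θKm k ar ha0 haU ≫ jP k := by
  unfold jm θm θKm jP
  rw [SOmap_comp, SOmap_comp]
  apply SOmap_congr
  exact (θKr_comp k ar ha0 haU).symm

lemma jm_cancel {X : Over (Spec (CommRingCat.of k))} [IsSeparated X.hom]
    (α β : SO (φPH k H) ⟶ X) (h : jm k H ≫ α = jm k H ≫ β) : α = β := by
  refine SOmap_cancel _ rfl ?_ α β h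
  rw [LaurentSeries.coe_algebraMap]
  exact HahnSeries.ofPowerSeries_injective

/-- valuative criterion for `k⟦X⟧` -/
lemma exists_ext {X : Over (Spec (CommRingCat.of k))} [IsProper X.hom] (ξ : SO (φK k) ⟶ X) :
    ∃ ψ : SO (φP k) ⟶ X, jP k ≫ ψ = ξ := by
  have hex : ValuativeCriterion.Existence X.hom := by
    have h : (ValuativeCriterion.Existence ⊓ @QuasiCompact) X.hom := by
      rw [← UniversallyClosed.eq_valuativeCriterion]
      infer_instance
    exact h.1
  let Sq : ValuativeCommSq X.hom :=
    { R := PowerSeries k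
      K := LaurentSeries k
      i₁ := ξ.left
      i₂ := (SO (φP k)).hom
      commSq := ⟨by
        rw [Over.w ξ]
        exact (Over.w (jP k)).symm⟩ }
  obtain ⟨⟨l, hl1, hl2⟩⟩ := hex Sq
  refine ⟨Over.homMk l hl2, ?_⟩
  apply Over.OverMorphism.ext
  exact hl1

open Groth.Agent.Helper3.FixArcA in
/-- the arc criterion for a fixed point -/
theorem exists_isFixedPt {G X : Over (Spec (CommRingCat.of k))} [GrpObj G] [IsProper X.hom]
    (a : AlgGrp.Action G X) (x₀ : 𝟙_ (Over (Spec (CommRingCat.of k))) ⟶ X)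
    (e : SO (algebraMap k H) ≅ G) (ga : SO (φK k) ⟶ G)
    (hrel : (jm k H ≫ um k H ≫ e.hom) * (cKm k H ≫ ga) = θKm k ar ha0 haU ≫ ga) :
    ∃ x : 𝟙_ (Over (Spec (CommRingCat.of k))) ⟶ X, a.IsFixedPt x := by
  obtain ⟨ψ, hψ⟩ := exists_ext k (lift ga (toUnit _ ≫ x₀) ≫ a.act)
  haveI : IsIso (im k H ≫ um k H ≫ e.hom) := by
    rw [← Category.assoc, im_um, Category.id_comp]
    infer_instance
  exact ⟨om k ≫ ψ, isFixedPt_of_arc a (jm k H) (im k H) (jP k) (jm_cancel k) (cm k H)
    (θm k ar ha0) (cKm k H) (θKm k ar ha0 haU) (jm_cm k) (jm_θm k ar ha0 haU) (im_θm k ar ha0)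
    ψ ga x₀ hψ (um k H ≫ e.hom) hrel (om k) (im_cm k H)⟩

end rings

end Groth.Agent.Helper3.FixArcB
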