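import Mathlib
import Groth.Prelude
import Groth.Agent.Helper3.FixArcB
import Groth.Agent.Helper2.GaAdd

set_option autoImplicit false
set_option linter.style.haveILetI false
set_option linter.unusedSectionVars false
set_option linter.unusedVariables false
set_option linter.deprecated false
set_option linter.style.haveILetI false
set_option linter.unusedSectionVars false
set_option linter.unusedVariables false

universe u

open AlgebraicGeometry CategoryTheory Limits MonoidalCategory CartesianMonoidalCategory MonObj GrpObj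

namespace Groth.Agent.Helper3.FixArcC

open Groth.Agent.Helper3.FixArcB

variable {k : Type u} [Field k]

/-- an affine `k`-scheme is `Spec` of a `k`-algebra -/
lemma exists_SO_iso (G : Over (Spec (CommRingCat.of k))) [IsAffine G.left] :
    ∃ (H : Type u) (_ : CommRing H) (_ : Algebra k H), Nonempty (SO (algebraMap k H) ≅ G) := by
  let φ : k →+* Γ(G.left, ⊤) := ((Scheme.ΓSpecIso (CommRingCat.of k)).inv ≫ G.hom.appTop).hom
  letI : Algebra k Γ(G.left, ⊤) := φ.toAlgebra
  refine ⟨Γ(G.left, ⊤), inferInstance, inferInstance, ⟨?_⟩⟩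
  refine Over.isoMk (G.left.isoSpec).symm ?_
  show (G.left.isoSpec).inv ≫ G.hom = Spec.map (CommRingCat.ofHom φ)
  rw [Iso.inv_comp_eq]
  show G.hom = G.left.toSpecΓ ≫ Spec.map ((Scheme.ΓSpecIso (CommRingCat.of k)).inv ≫ G.hom.appTop)
  rw [Spec.map_comp, ← Category.assoc, ← Scheme.toSpecΓ_naturality, Category.assoc]
  rw [toSpecΓ_SpecMap_ΓSpecIso_inv, Category.comp_id]


section arcs

variable (H : Type u) [CommRing H] [Algebra k H]

lemma jm_um_appTop (r : H) :
    (jm k H).left.appTop ((um k H).left.appTop (fn r)) =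
      fn (algebraMap (PowerSeries H) (LaurentSeries H) (PowerSeries.C r)) := by
  unfold jm um
  rw [SOmap_appTop, SOmap_appTop]

lemma cKm_appTop (s : LaurentSeries k) :
    (cKm k H).left.appTop (fn s) = fn (cKr k H s) := by
  unfold cKm
  rw [SOmap_appTop]

variable {H} in
lemma θKm_appTop (ar : PowerSeries H) (ha0 : PowerSeries.constantCoeff ar = 0)
    (haU : IsUnit (algebraMap (PowerSeries H) (LaurentSeries H) ar)) (s : LaurentSeries k) :
    (θKm k ar ha0 haU).left.appTop (fn s) = fn (θKr k ar ha0 haU s) := by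
  unfold θKm
  rw [SOmap_appTop]

lemma exists_fn_eq {A : Type u} [CommRing A] (t : Γ(Spec (CommRingCat.of A), ⊤)) :
    ∃ r : A, fn r = t :=
  ⟨(Scheme.ΓSpecIso (CommRingCat.of A)).hom t,
    Iso.hom_inv_id_apply (C := CommRingCat) (Scheme.ΓSpecIso (CommRingCat.of A)) t⟩

lemma isUnit_of_isUnit_fn {A : Type u} [CommRing A] (r : A) (h : IsUnit (fn r)) : IsUnit r := by
  have := h.map (Scheme.ΓSpecIso (CommRingCat.of A)).hom.hom
  have h2 : (Scheme.ΓSpecIso (CommRingCat.of A)).hom.hom (fn r) = r :=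
    Iso.inv_hom_id_apply (C := CommRingCat) (Scheme.ΓSpecIso (CommRingCat.of A)) r
  rwa [h2] at this

lemma isUnit_fn {A : Type u} [CommRing A] (r : A) (h : IsUnit r) : IsUnit (fn r) :=
  h.map (Scheme.ΓSpecIso (CommRingCat.of A)).inv.hom

/-- the arc for the multiplicative group -/
lemma gm_arc (e : SO (algebraMap k H) ≅ Red.Gm (Spec (CommRingCat.of k))) :
    ∃ (ar : PowerSeries H) (ha0 : PowerSeries.constantCoeff ar = 0)
      (haU : IsUnit (algebraMap (PowerSeries H) (LaurentSeries H) ar))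
      (ga : SO (φK k) ⟶ Red.Gm (Spec (CommRingCat.of k))),
      (jm k H ≫ um k H ≫ e.hom) * (cKm k H ≫ ga) = θKm k ar ha0 haU ≫ ga := by
  obtain ⟨u, hu⟩ := exists_fn_eq (Red.gmFn e.hom)
  have huU : IsUnit u := by
    apply isUnit_of_isUnit_fn
    rw [hu]
    exact GmPts.isUnit_gmFn e.hom
  have ha0 : PowerSeries.constantCoeff (PowerSeries.C u * PowerSeries.X) = 0 := by simp
  have haU : IsUnit (algebraMap (PowerSeries H) (LaurentSeries H)
      (PowerSeries.C u * PowerSeries.X)) := by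
    rw [map_mul]
    exact ((huU.map PowerSeries.C).map _).mul isUnit_algebraMap_X
  have hs : IsUnit (fn (algebraMap (PowerSeries k) (LaurentSeries k) PowerSeries.X)) :=
    isUnit_fn _ isUnit_algebraMap_X
  refine ⟨PowerSeries.C u * PowerSeries.X, ha0, haU, GmPts.ptOfUnit hs.unit, ?_⟩
  apply GmPts.gmFn_injective
  show Red.gmFn _ = Red.gmFn _
  rw [GmPts.gmFn_mul, GmPts.gmFn_comp, GmPts.gmFn_comp, GmPts.gmFn_comp, GmPts.gmFn_comp,
    GmPts.gmFn_ptOfUnit, IsUnit.unit_spec, ← hu, jm_um_appTop, cKm_appTop, θKm_appTop,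
    cKr_algebraMap, θKr_algebraMap, θr_X, PowerSeries.map_X, ← map_mul, ← map_mul]


open Groth.Agent.Helper5.GaPts Groth.Agent.Helper2.GaAdd in
/-- the arc for the additive group -/
lemma ga_arc (e : SO (algebraMap k H) ≅ Red.Ga (Spec (CommRingCat.of k))) :
    ∃ (ar : PowerSeries H) (ha0 : PowerSeries.constantCoeff ar = 0)
      (haU : IsUnit (algebraMap (PowerSeries H) (LaurentSeries H) ar))
      (ga : SO (φK k) ⟶ Red.Ga (Spec (CommRingCat.of k))),
      (jm k H ≫ um k H ≫ e.hom) * (cKm k H ≫ ga) = θKm k ar ha0 haU ≫ ga := by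
  obtain ⟨u, hu⟩ := exists_fn_eq (Red.gaFn e.hom)
  have hU1 : IsUnit (1 + PowerSeries.C u * PowerSeries.X : PowerSeries H) := by
    rw [PowerSeries.isUnit_iff_constantCoeff]
    simp
  obtain ⟨w, hw⟩ := hU1.exists_left_inv
  have hwU : IsUnit w := IsUnit.of_mul_eq_one _ hw
  have ha0 : PowerSeries.constantCoeff (PowerSeries.X * w : PowerSeries H) = 0 := by simp
  have haU : IsUnit (algebraMap (PowerSeries H) (LaurentSeries H) (PowerSeries.X * w)) := by
    rw [map_mul]
    exact isUnit_algebraMap_X.mul (hwU.map _)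
  let s : LaurentSeries k := (algebraMap (PowerSeries k) (LaurentSeries k) PowerSeries.X)⁻¹
  refine ⟨PowerSeries.X * w, ha0, haU, pt (fn s), ?_⟩
  apply gaFn_injective
  rw [gaFn_mul, gaFn_comp, gaFn_comp, gaFn_comp, gaFn_comp, gaFn_pt, ← hu, jm_um_appTop,
    cKm_appTop, θKm_appTop, ← map_add]
  congr 1
  have hX : algebraMap (PowerSeries k) (LaurentSeries k) PowerSeries.X ≠ 0 :=
    (isUnit_algebraMap_X (H := k)).ne_zero
  have h1 : cKr k H s * algebraMap (PowerSeries H) (LaurentSeries H) PowerSeries.X = 1 := by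
    have h : algebraMap (PowerSeries H) (LaurentSeries H) PowerSeries.X =
        cKr k H (algebraMap (PowerSeries k) (LaurentSeries k) PowerSeries.X) := by
      rw [cKr_algebraMap, PowerSeries.map_X]
    rw [h, ← map_mul, inv_mul_cancel₀ hX, map_one]
  have h2 : θKr k (PowerSeries.X * w) ha0 haU s *
      algebraMap (PowerSeries H) (LaurentSeries H) (PowerSeries.X * w) = 1 := by
    have h : algebraMap (PowerSeries H) (LaurentSeries H) (PowerSeries.X * w) =
        θKr k (PowerSeries.X * w) ha0 haU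
          (algebraMap (PowerSeries k) (LaurentSeries k) PowerSeries.X) := by
      rw [θKr_algebraMap, θr_X]
    rw [h, ← map_mul, inv_mul_cancel₀ hX, map_one]
  apply (haU.mul_left_inj).mp
  rw [h2, add_mul]
  have h3 : cKr k H s * algebraMap (PowerSeries H) (LaurentSeries H) (PowerSeries.X * w) =
      algebraMap (PowerSeries H) (LaurentSeries H) w := by
    rw [map_mul, ← _root_.mul_assoc, h1, _root_.one_mul]
  rw [h3, ← map_mul, ← map_add]
  have h4 : PowerSeries.C u * (PowerSeries.X * w) + w = 1 := by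
    rw [← hw]
    ring
  rw [h4, map_one]

end arcs


section main

instance : IsAffine (Red.Ga (Spec (CommRingCat.of k))).left := by
  show IsAffine (pullback _ _)
  infer_instance

instance : IsAffine (Red.Gm (Spec (CommRingCat.of k))).left := by
  haveI : IsAffine (Red.diag (ULift.{u} ℤ) ℤ).left :=
    inferInstanceAs (IsAffine (Spec (CommRingCat.of GmPts.Coord.{u})))
  show IsAffine (pullback _ _)
  infer_instance

/-- transport of the arc criterion along an isomorphism of group schemes -/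
theorem exists_of_grpIso {G G' X : Over (Spec (CommRingCat.of k))} [GrpObj G] [GrpObj G']
    (ε : Grp.mk G ≅ Grp.mk G') [IsAffine G'.left]
    (harc : ∀ (H : Type u) [CommRing H] [Algebra k H] (e : SO (algebraMap k H) ≅ G'),
      ∃ (ar : PowerSeries H) (ha0 : PowerSeries.constantCoeff ar = 0)
        (haU : IsUnit (algebraMap (PowerSeries H) (LaurentSeries H) ar))
        (ga : SO (φK k) ⟶ G'),
        (jm k H ≫ um k H ≫ e.hom) * (cKm k H ≫ ga) = θKm k ar ha0 haU ≫ ga)
    [IsProper X.hom] (x₀ : 𝟙_ (Over (Spec (CommRingCat.of k))) ⟶ X) (a : AlgGrp.Action G X) :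
    ∃ x : 𝟙_ (Over (Spec (CommRingCat.of k))) ⟶ X, a.IsFixedPt x := by
  haveI : IsMonHom (ε.inv.hom.hom : G' ⟶ G) := ε.inv.hom.isMonHom_hom
  have h1 : (ε.hom.hom.hom : G ⟶ G') ≫ ε.inv.hom.hom = 𝟙 _ :=
    congrArg (fun z => z.hom.hom) ε.hom_inv_id
  have h2 : (ε.inv.hom.hom : G' ⟶ G) ≫ ε.hom.hom.hom = 𝟙 _ :=
    congrArg (fun z => z.hom.hom) ε.inv_hom_id
  let εo : G' ≅ G := ⟨ε.inv.hom.hom, ε.hom.hom.hom, h2, h1⟩
  obtain ⟨H, _, _, ⟨e'⟩⟩ := exists_SO_iso G'
  obtain ⟨ar, ha0, haU, ga', hrel'⟩ := harc H e'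
  refine exists_isFixedPt k ar ha0 haU a x₀ (e' ≪≫ εo) (ga' ≫ εo.hom) ?_
  have h3 := congrArg (fun z => z ≫ (ε.inv.hom.hom : G' ⟶ G)) hrel'
  simp only [MonObj.mul_comp, Category.assoc] at h3
  exact h3

/-- a one-dimensional split group acting on a proper scheme with a rational point has a rational
fixed point -/
theorem main (G X : Over (Spec (CommRingCat.of k))) [GrpObj G]
    (hG : Nonempty (Grp.mk G ≅ Grp.mk (Red.Ga (Spec (CommRingCat.of k)))) ∨
      Nonempty (Grp.mk G ≅ Grp.mk (Red.Gm (Spec (CommRingCat.of k)))))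
    [IsProper X.hom] (x₀ : 𝟙_ (Over (Spec (CommRingCat.of k))) ⟶ X) (a : AlgGrp.Action G X) :
    ∃ x : 𝟙_ (Over (Spec (CommRingCat.of k))) ⟶ X, a.IsFixedPt x := by
  rcases hG with ⟨⟨ε⟩⟩ | ⟨⟨ε⟩⟩
  · exact exists_of_grpIso ε (fun H _ _ e => ga_arc H e) x₀ a
  · exact exists_of_grpIso ε (fun H _ _ e => gm_arc H e) x₀ a

end main

end Groth.Agent.Helper3.FixArcC
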