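import Mathlib
import Groth.Agent.Helper3.BirNormal

set_option autoImplicit false
set_option linter.style.haveILetI false
set_option linter.unusedSectionVars false
set_option linter.unusedVariables false
set_option linter.deprecated false
set_option linter.style.haveILetI false
set_option linter.unusedSectionVars false
set_option linter.unusedVariables false

universe u

open AlgebraicGeometry CategoryTheory CategoryTheory.Limits TopologicalSpace Opposite IsLocalRing

namespace Groth.Agent.Helper3.FlatSecIso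

/-- two morphisms to a separated `S`-scheme agreeing after a scheme-theoretically dominant
morphism are equal -/
theorem ext_of_schDominant {W X Y S : Scheme.{u}} (j : W ⟶ X) [IsSchemeTheoreticallyDominant j]
    {a b : X ⟶ Y} (s : Y ⟶ S) [IsSeparated s] (hs : a ≫ s = b ≫ s)
    (hab : j ≫ a = j ≫ b) : a = b := by
  let X' : Over S := Over.mk (a ≫ s)
  let Y' : Over S := Over.mk s
  let a' : X' ⟶ Y' := Over.homMk a
  let b' : X' ⟶ Y' := Over.homMk b hs.symm
  haveI : IsSeparated Y'.hom := ‹_›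
  haveI : IsClosedImmersion (equalizer.ι a' b').left := inferInstance
  let W' : Over S := Over.mk (j ≫ a ≫ s)
  let ι' : W' ⟶ X' := Over.homMk j
  have hι' : ι' ≫ a' = ι' ≫ b' := by ext1; exact hab
  have hfac : (equalizer.lift ι' hι').left ≫ (equalizer.ι a' b').left = j := by
    rw [← Over.comp_left, equalizer.lift_ι]; rfl
  have hker : (equalizer.ι a' b').left.ker = ⊥ := by
    rw [eq_bot_iff, ← Scheme.Hom.ker_eq_bot j, ← hfac]
    exact Scheme.Hom.le_ker_comp _ _
  haveI : IsIso (equalizer.ι a' b').left := IsClosedImmersion.isIso_iff_ker_eq_bot.mpr hker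
  rw [← cancel_epi (equalizer.ι a' b').left]
  exact congr($(equalizer.condition a' b').left)

/-- the restriction of a quasi-compact scheme-theoretically dominant open immersion to a larger
open subscheme is scheme-theoretically dominant -/
theorem schDominant_homOfLE {X : Scheme.{u}} (W T : X.Opens)
    [IsSchemeTheoreticallyDominant W.ι] [QuasiCompact W.ι] :
    IsSchemeTheoreticallyDominant (X.homOfLE (inf_le_right : W ⊓ T ≤ T)) :=
  IsSchemeTheoreticallyDominant.of_isPullback (f := W.ι) (g := T.ι) (isPullback_opens_inf W T)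

/-- a section over `U` of a separated morphism, inverse to `f` over `V ≤ U` with `f ⁻¹ V`
scheme-theoretically dense, makes `f` an isomorphism over `U` -/
theorem isIso_restrict_of_section {X Y : Scheme.{u}} (f : X ⟶ Y) [IsSeparated f]
    (V U : Y.Opens) (hVU : V ≤ U) [IsIso (f ∣_ V)]
    [IsSchemeTheoreticallyDominant (f ⁻¹ᵁ V).ι] [QuasiCompact (f ⁻¹ᵁ V).ι]
    (s' : (U : Scheme.{u}) ⟶ X) (hs' : s' ≫ f = U.ι)
    (hres : Y.homOfLE hVU ≫ s' = inv (f ∣_ V) ≫ (f ⁻¹ᵁ V).ι) : IsIso (f ∣_ U) := by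
  have hrange : Set.range s' ⊆ ((f ⁻¹ᵁ U : X.Opens) : Set X) := by
    rintro _ ⟨u, rfl⟩
    show f (s' u) ∈ U
    rw [← Scheme.Hom.comp_apply, hs']
    exact u.2
  let s'' : (U : Scheme.{u}) ⟶ (f ⁻¹ᵁ U : X.Opens) :=
    IsOpenImmersion.lift (f ⁻¹ᵁ U).ι s' (by rw [Scheme.Opens.range_ι]; exact hrange)
  have hs'' : s'' ≫ (f ⁻¹ᵁ U).ι = s' := IsOpenImmersion.lift_fac _ _ _
  have h1 : s'' ≫ (f ∣_ U) = 𝟙 _ := by
    rw [← cancel_mono U.ι, Category.assoc, morphismRestrict_ι, ← Category.assoc, hs'', hs',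
      Category.id_comp]
  have h2 : (f ∣_ U) ≫ s'' = 𝟙 _ := by
    haveI := schDominant_homOfLE (f ⁻¹ᵁ V) (f ⁻¹ᵁ U)
    refine ext_of_schDominant (X.homOfLE (inf_le_right : f ⁻¹ᵁ V ⊓ f ⁻¹ᵁ U ≤ f ⁻¹ᵁ U))
      (f ∣_ U) ?_ ?_
    · rw [Category.assoc, h1, Category.comp_id, Category.id_comp]
    · have hsplit : X.homOfLE (inf_le_right : f ⁻¹ᵁ V ⊓ f ⁻¹ᵁ U ≤ f ⁻¹ᵁ U) =
          X.homOfLE (inf_le_left : f ⁻¹ᵁ V ⊓ f ⁻¹ᵁ U ≤ f ⁻¹ᵁ V) ≫
            X.homOfLE (f.preimage_mono hVU) := by
        rw [Scheme.homOfLE_homOfLE]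
      rw [hsplit, Category.assoc, Category.assoc]
      congr 1
      rw [Category.comp_id, ← cancel_mono (f ⁻¹ᵁ U).ι, Category.assoc, Category.assoc, hs'',
        X.homOfLE_ι]
      have e : X.homOfLE (f.preimage_mono hVU) ≫ (f ∣_ U) = (f ∣_ V) ≫ Y.homOfLE hVU := by
        rw [← cancel_mono U.ι]
        simp [morphismRestrict_ι]
      rw [← Category.assoc, e, Category.assoc, hres, IsIso.hom_inv_id_assoc]
  exact ⟨s'', h2, h1⟩

/-- a nonempty open of an integral scheme is scheme-theoretically dense -/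
theorem schDominant_of_nonempty {Y : Scheme.{u}} [IsIntegral Y] (D : Y.Opens)
    (h : (D : Set Y).Nonempty) : IsSchemeTheoreticallyDominant D.ι := by
  haveI : IsDominant D.ι := by
    constructor
    rw [DenseRange, Scheme.Opens.range_ι]
    exact D.2.dense h
  exact IsSchemeTheoreticallyDominant.of_isDominant _

/-- the preimage of a quasi-compact scheme-theoretically dense open under a flat morphism -/
theorem schDominant_preimage {X Y : Scheme.{u}} (f : X ⟶ Y) [Flat f] (D : Y.Opens)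
    [IsSchemeTheoreticallyDominant D.ι] [QuasiCompact D.ι] :
    IsSchemeTheoreticallyDominant (f ⁻¹ᵁ D).ι :=
  IsSchemeTheoreticallyDominant.of_isPullback (f := D.ι) (g := f) (isPullback_morphismRestrict f D)

theorem main (R : Type u) [CommRing R] [IsDomain R]
    [IsDiscreteValuationRing R] {C X Z : Scheme.{u}} (πC : C ⟶ Spec (CommRingCat.of R)) [Flat πC]
    [LocallyOfFiniteType πC] (f : X ⟶ C) [IsProper f] (i : Z ⟶ X) [IsClosedImmersion i]
    [Flat ((i ≫ f) ≫ πC)] (ϖ : R) (hϖ : Irreducible ϖ)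
    (hgen : IsIso ((i ≫ f) ∣_ (πC ⁻¹ᵁ (PrimeSpectrum.basicOpen ϖ))))
    (c : C) (hdom : IsDomain (C.presheaf.stalk c)) (hnorm : IsIntegrallyClosed (C.presheaf.stalk c))
    (hdim : ringKrullDim (C.presheaf.stalk c) = 1) :
    ∃ V : C.Opens, c ∈ V ∧ IsIso ((i ≫ f) ∣_ V) := by
  set g := i ≫ f with hg
  haveI : IsProper g := by rw [hg]; infer_instance
  let D : (Spec (CommRingCat.of R)).Opens := PrimeSpectrum.basicOpen ϖ
  set U : C.Opens := πC ⁻¹ᵁ D with hU
  haveI : IsLocallyNoetherian C := LocallyOfFiniteType.isLocallyNoetherian πC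
  haveI : LocallyOfFiniteType (g ≫ πC) := inferInstance
  haveI : IsLocallyNoetherian Z := LocallyOfFiniteType.isLocallyNoetherian (g ≫ πC)
  haveI hD : IsSchemeTheoreticallyDominant D.ι := by
    apply schDominant_of_nonempty
    refine ⟨⟨⊥, Ideal.isPrime_bot⟩, ?_⟩
    show ϖ ∉ (⊥ : Ideal R)
    simpa using hϖ.ne_zero
  haveI hUd : IsSchemeTheoreticallyDominant U.ι := schDominant_preimage πC D
  haveI hZd : IsSchemeTheoreticallyDominant (g ⁻¹ᵁ U).ι := by
    have := schDominant_preimage (g ≫ πC) D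
    exact this
  -- `c` lies in the closure of `U`
  have hcl : c ∈ closure (U : Set C) := by
    haveI : IsDominant U.ι := inferInstance
    have h := (Scheme.Hom.denseRange U.ι).closure_eq
    rw [Scheme.Opens.range_ι] at h
    rw [h]; trivial
  haveI : IsNoetherianRing (C.presheaf.stalk c) := inferInstance
  have hval : ValuationRing (C.presheaf.stalk c) := BirNormal.valuationRing_of_normal _ hdim.le
  haveI := hgen
  let s : (U : Scheme.{u}) ⟶ Z := inv (g ∣_ U) ≫ (g ⁻¹ᵁ U).ι
  have hs : s ≫ g = U.ι ≫ 𝟙 C := by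
    rw [Category.comp_id, Category.assoc, ← morphismRestrict_ι, IsIso.inv_hom_id_assoc]
  obtain ⟨U', hUU', hcU', s', h1, h2⟩ := PseudoLoc.s9701 (𝟙 C) g c U s hs hcl
    (Or.inr inferInstance) hdom hval
  refine ⟨U', hcU', ?_⟩
  exact isIso_restrict_of_section g U U' hUU' s' (by rw [h1, Category.comp_id]) h2

end Groth.Agent.Helper3.FlatSecIso
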