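import Mathlib
import Groth.Agent.Helper3.Rig1
import Groth.Agent.Helper3.ArtH0
import Groth.Agent.Helper3.ArtLift

set_option autoImplicit false
set_option linter.style.haveILetI false
set_option linter.unusedSectionVars false
set_option linter.unusedVariables false
set_option linter.style.haveILetI false
set_option linter.unusedSectionVars false
set_option linter.unusedVariables false

open AlgebraicGeometry CategoryTheory CategoryTheory.Limits TopologicalSpace Opposite

universe u

namespace Groth.Agent.Helper3.Rig2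

open Groth.Agent.Helper3.Rig1

section Alg

variable (R : Type u) [CommRing R] [IsLocalRing R] (n : ℕ)

local notation "𝔪" => IsLocalRing.maximalIdeal R

/-- the residue field of `R ⧸ 𝔪^(n+1)` is the residue field of `R` -/
theorem exists_resEquiv [IsLocalRing (R ⧸ 𝔪 ^ (n + 1))] :
    ∃ e : (R ⧸ 𝔪) ≃+* ((R ⧸ 𝔪 ^ (n + 1)) ⧸ IsLocalRing.maximalIdeal (R ⧸ 𝔪 ^ (n + 1))),
      ∀ r : R, e (Ideal.Quotient.mk 𝔪 r) =
        Ideal.Quotient.mk _ (Ideal.Quotient.mk (𝔪 ^ (n + 1)) r) := by
  let ψ : R →+* ((R ⧸ 𝔪 ^ (n + 1)) ⧸ IsLocalRing.maximalIdeal (R ⧸ 𝔪 ^ (n + 1))) :=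
    (Ideal.Quotient.mk _).comp (Ideal.Quotient.mk (𝔪 ^ (n + 1)))
  have hψ : Function.Surjective ψ :=
    Ideal.Quotient.mk_surjective.comp Ideal.Quotient.mk_surjective
  have hker : RingHom.ker ψ = 𝔪 := by
    letI : Field ((R ⧸ 𝔪 ^ (n + 1)) ⧸ IsLocalRing.maximalIdeal (R ⧸ 𝔪 ^ (n + 1))) :=
      Ideal.Quotient.field _
    haveI : (RingHom.ker ψ).IsMaximal := RingHom.ker_isMaximal_of_surjective ψ hψ
    exact IsLocalRing.eq_maximalIdeal inferInstance
  let e1 : (R ⧸ 𝔪) ≃+* (R ⧸ RingHom.ker ψ) := Ideal.quotEquivOfEq hker.symm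
  let e2 : (R ⧸ RingHom.ker ψ) ≃+* _ := RingHom.quotientKerEquivOfSurjective hψ
  refine ⟨e1.trans e2, fun r => ?_⟩
  rfl

end Alg

theorem hΓ_of_h0 {X T : Scheme.{u}} [IsLocallyNoetherian T] (p : X ⟶ T) [Flat p] (t : T)
    (h0 : Function.Bijective (pullback.snd p (T.fromSpecResidueField t)).appTop.hom) (n : ℕ) :
    Function.Bijective (pullback.snd p (σ t n)).appTop.hom := by
  let R := T.presheaf.stalk t
  haveI : IsLocalRing (R ⧸ IsLocalRing.maximalIdeal R ^ (n + 1)) := ArtLift.isLocalRing_quot n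
  haveI : IsArtinianRing (R ⧸ IsLocalRing.maximalIdeal R ^ (n + 1)) :=
    ArtLift.isArtinianRing_quot n
  obtain ⟨e, he⟩ := exists_resEquiv R n
  let C := R ⧸ IsLocalRing.maximalIdeal R ^ (n + 1)
  let eIso : CommRingCat.of (C ⧸ IsLocalRing.maximalIdeal C) ≅
      CommRingCat.of (R ⧸ IsLocalRing.maximalIdeal R) := e.symm.toCommRingCatIso
  let jIso : Spec (CommRingCat.of (R ⧸ IsLocalRing.maximalIdeal R)) ≅
      Spec (CommRingCat.of (C ⧸ IsLocalRing.maximalIdeal C)) := Scheme.Spec.mapIso eIso.op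
  have hj : jIso.hom = Spec.map eIso.hom := rfl
  have hρ : T.fromSpecResidueField t = jIso.hom ≫ Spec.map (CommRingCat.ofHom
      (Ideal.Quotient.mk (IsLocalRing.maximalIdeal C))) ≫ σ t n := by
    rw [hj, σ, ← Category.assoc, ← Category.assoc, ← Spec.map_comp, ← Spec.map_comp,
      Scheme.fromSpecResidueField]
    congr 2
    ext r
    change IsLocalRing.residue R r = e.symm (Ideal.Quotient.mk _ (Ideal.Quotient.mk _ r))
    rw [← he r, RingEquiv.symm_apply_apply]
    rfl
  let g := pullback.snd p (σ t n)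
  let X₀ := pullback p (T.fromSpecResidueField t)
  let f₀ : X₀ ⟶ Spec (CommRingCat.of (C ⧸ IsLocalRing.maximalIdeal C)) :=
    pullback.snd p (T.fromSpecResidueField t) ≫ jIso.hom
  let i : X₀ ⟶ pullback p (σ t n) :=
    pullback.lift (pullback.fst p (T.fromSpecResidueField t))
      (f₀ ≫ Spec.map (CommRingCat.ofHom (Ideal.Quotient.mk (IsLocalRing.maximalIdeal C))))
      (by
        have h1 := congrArg (fun k => pullback.snd p (T.fromSpecResidueField t) ≫ k) hρ
        exact pullback.condition.trans (h1.trans (by simp only [f₀, Category.assoc]; rfl)))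
  have hi1 : i ≫ pullback.fst p (σ t n) = pullback.fst p (T.fromSpecResidueField t) :=
    pullback.lift_fst _ _ _
  have hi2 : i ≫ g = f₀ ≫ Spec.map (CommRingCat.ofHom
      (Ideal.Quotient.mk (IsLocalRing.maximalIdeal C))) := pullback.lift_snd _ _ _
  have hbig : IsPullback (i ≫ pullback.fst p (σ t n)) f₀ p
      (Spec.map (CommRingCat.ofHom (Ideal.Quotient.mk (IsLocalRing.maximalIdeal C))) ≫ σ t n) := by
    rw [hi1]
    refine IsPullback.of_iso (IsPullback.of_hasPullback p (T.fromSpecResidueField t))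
      (Iso.refl _) (Iso.refl _) jIso (Iso.refl _) ?_ ?_ ?_ ?_
    · simp
    · simp [f₀]
    · simp
    · simp only [Iso.refl_hom, Category.comp_id]
      exact hρ
  have hsq : IsPullback i f₀ g
      (Spec.map (CommRingCat.ofHom (Ideal.Quotient.mk (IsLocalRing.maximalIdeal C)))) :=
    IsPullback.of_right hbig hi2 (IsPullback.of_hasPullback p (σ t n))
  haveI : Flat g := MorphismProperty.pullback_snd (P := @Flat) p (σ t n) inferInstance
  have h0' : Function.Bijective ((Scheme.ΓSpecIso
      (CommRingCat.of (C ⧸ IsLocalRing.maximalIdeal C))).inv ≫ f₀.appTop) := by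
    have e1 : f₀.appTop = jIso.hom.appTop ≫
        (pullback.snd p (T.fromSpecResidueField t)).appTop := Scheme.Hom.comp_appTop _ _
    rw [e1]
    haveI : IsIso jIso.hom.appTop := inferInstanceAs (IsIso (jIso.hom.app ⊤))
    have b1 : Function.Bijective ((Scheme.ΓSpecIso
      (CommRingCat.of (C ⧸ IsLocalRing.maximalIdeal C))).inv ≫ jIso.hom.appTop) :=
      ConcreteCategory.bijective_of_isIso _
    rw [← Category.assoc]
    exact h0.comp b1
  have hres := ArtH0.s11468 C (pullback p (σ t n)) X₀ g i f₀ hsq h0'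
  have b2 : Function.Bijective (Scheme.ΓSpecIso (CommRingCat.of C)).hom :=
    ConcreteCategory.bijective_of_isIso _
  have e2 : g.appTop = (Scheme.ΓSpecIso (CommRingCat.of C)).hom ≫
      ((Scheme.ΓSpecIso (CommRingCat.of C)).inv ≫ g.appTop) := by
    rw [Iso.hom_inv_id_assoc]
  change Function.Bijective g.appTop.hom
  rw [e2]
  exact hres.comp b2

end Groth.Agent.Helper3.Rig2
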