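import Mathlib
import Groth.Agent.Helper3.Rig2
import Groth.Agent.Helper3.KrullNbhd

set_option autoImplicit false
set_option linter.style.haveILetI false
set_option linter.unusedSectionVars false
set_option linter.unusedVariables false
set_option linter.style.haveILetI false
set_option linter.unusedSectionVars false
set_option linter.unusedVariables false

open AlgebraicGeometry CategoryTheory CategoryTheory.Limits TopologicalSpace Opposite

universe u

namespace Groth.Agent.Helper3.FormalH0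

open Groth.Agent.Helper3.Rig2

/-- compatibility of structure maps `A → Γ(X)` in a commutative square over `Spec ψ` -/
lemma sq_appTop {X X' : Scheme.{u}} {A A' : CommRingCat.{u}} (g : X ⟶ Spec A) (g' : X' ⟶ Spec A')
    (i : X' ⟶ X) (ψ : A ⟶ A') (w : i ≫ g = g' ≫ Spec.map ψ) (a : A) :
    i.appTop.hom (((Scheme.ΓSpecIso A).inv ≫ g.appTop).hom a) =
      ((Scheme.ΓSpecIso A').inv ≫ g'.appTop).hom (ψ.hom a) := by
  have h1 : (Scheme.ΓSpecIso A).inv ≫ g.appTop ≫ i.appTop =
      ψ ≫ (Scheme.ΓSpecIso A').inv ≫ g'.appTop := by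
    rw [← Scheme.Hom.comp_appTop, w, Scheme.Hom.comp_appTop, ← Category.assoc,
      ← Scheme.ΓSpecIso_inv_naturality, Category.assoc]
  exact congr($(h1).hom a)

section Art

variable (R : Type u) [CommRing R] [IsLocalRing R] [IsNoetherianRing R]

local notation "𝔪" => IsLocalRing.maximalIdeal R

/-- the `n`-th infinitesimal neighbourhood of the closed point of `Spec R` -/
noncomputable abbrev τ (n : ℕ) : Spec (CommRingCat.of (R ⧸ 𝔪 ^ (n + 1))) ⟶ Spec (CommRingCat.of R) :=
  Spec.map (CommRingCat.ofHom (Ideal.Quotient.mk (𝔪 ^ (n + 1))))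

variable {R}

theorem art_quot (X X₀ : Scheme.{u}) (g : X ⟶ Spec (CommRingCat.of R)) [Flat g]
    (i : X₀ ⟶ X) (f₀ : X₀ ⟶ Spec (CommRingCat.of (R ⧸ 𝔪)))
    (hsq : IsPullback i f₀ g (Spec.map (CommRingCat.ofHom (Ideal.Quotient.mk 𝔪))))
    (h0 : Function.Bijective ((Scheme.ΓSpecIso (CommRingCat.of (R ⧸ 𝔪))).inv ≫ f₀.appTop))
    (n : ℕ) :
    Function.Bijective ((Scheme.ΓSpecIso (CommRingCat.of (R ⧸ 𝔪 ^ (n + 1)))).inv ≫
      (pullback.snd g (τ R n)).appTop) := by
  haveI : IsLocalRing (R ⧸ 𝔪 ^ (n + 1)) := ArtLift.isLocalRing_quot n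
  haveI : IsArtinianRing (R ⧸ 𝔪 ^ (n + 1)) := ArtLift.isArtinianRing_quot n
  obtain ⟨e, he⟩ := exists_resEquiv R n
  let C := R ⧸ 𝔪 ^ (n + 1)
  let eIso : CommRingCat.of (C ⧸ IsLocalRing.maximalIdeal C) ≅ CommRingCat.of (R ⧸ 𝔪) :=
    e.symm.toCommRingCatIso
  let jIso : Spec (CommRingCat.of (R ⧸ 𝔪)) ≅
      Spec (CommRingCat.of (C ⧸ IsLocalRing.maximalIdeal C)) := Scheme.Spec.mapIso eIso.op
  have hj : jIso.hom = Spec.map eIso.hom := rfl
  have hρ : Spec.map (CommRingCat.ofHom (Ideal.Quotient.mk 𝔪)) =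
      jIso.hom ≫ Spec.map (CommRingCat.ofHom
        (Ideal.Quotient.mk (IsLocalRing.maximalIdeal C))) ≫ τ R n := by
    rw [hj, τ, ← Spec.map_comp, ← Spec.map_comp]
    congr 1
    ext r
    change Ideal.Quotient.mk 𝔪 r = e.symm (Ideal.Quotient.mk _ (Ideal.Quotient.mk _ r))
    rw [← he r, RingEquiv.symm_apply_apply]
  let gn := pullback.snd g (τ R n)
  let f₀' : X₀ ⟶ Spec (CommRingCat.of (C ⧸ IsLocalRing.maximalIdeal C)) := f₀ ≫ jIso.hom
  let i' : X₀ ⟶ pullback g (τ R n) :=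
    pullback.lift i
      (f₀' ≫ Spec.map (CommRingCat.ofHom (Ideal.Quotient.mk (IsLocalRing.maximalIdeal C))))
      (by
        have h1 := congrArg (fun k => f₀ ≫ k) hρ
        exact hsq.w.trans (h1.trans (by simp only [f₀', Category.assoc])))
  have hi1 : i' ≫ pullback.fst g (τ R n) = i := pullback.lift_fst _ _ _
  have hi2 : i' ≫ gn = f₀' ≫ Spec.map (CommRingCat.ofHom
      (Ideal.Quotient.mk (IsLocalRing.maximalIdeal C))) := pullback.lift_snd _ _ _
  have hbig : IsPullback (i' ≫ pullback.fst g (τ R n)) f₀' g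
      (Spec.map (CommRingCat.ofHom (Ideal.Quotient.mk (IsLocalRing.maximalIdeal C))) ≫ τ R n) := by
    rw [hi1]
    refine IsPullback.of_iso hsq (Iso.refl _) (Iso.refl _) jIso (Iso.refl _) ?_ ?_ ?_ ?_
    · simp
    · simp [f₀']
    · simp
    · simp only [Iso.refl_hom, Category.comp_id]
      exact hρ
  have hsq' : IsPullback i' f₀' gn
      (Spec.map (CommRingCat.ofHom (Ideal.Quotient.mk (IsLocalRing.maximalIdeal C)))) :=
    IsPullback.of_right hbig hi2 (IsPullback.of_hasPullback g (τ R n))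
  haveI : Flat gn := MorphismProperty.pullback_snd (P := @Flat) g (τ R n) inferInstance
  have h0' : Function.Bijective ((Scheme.ΓSpecIso
      (CommRingCat.of (C ⧸ IsLocalRing.maximalIdeal C))).inv ≫ f₀'.appTop) := by
    have e1 : f₀'.appTop = jIso.hom.appTop ≫ f₀.appTop := Scheme.Hom.comp_appTop _ _
    rw [e1]
    haveI : IsIso jIso.hom.appTop := inferInstanceAs (IsIso (jIso.hom.app ⊤))
    have b1 : Function.Bijective ((Scheme.ΓSpecIso
      (CommRingCat.of (C ⧸ IsLocalRing.maximalIdeal C))).inv ≫ jIso.hom.appTop ≫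
        (Scheme.ΓSpecIso (CommRingCat.of (R ⧸ 𝔪))).hom) :=
      ConcreteCategory.bijective_of_isIso _
    have e2 : (Scheme.ΓSpecIso (CommRingCat.of (C ⧸ IsLocalRing.maximalIdeal C))).inv ≫
        jIso.hom.appTop ≫ f₀.appTop =
        ((Scheme.ΓSpecIso (CommRingCat.of (C ⧸ IsLocalRing.maximalIdeal C))).inv ≫
          jIso.hom.appTop ≫ (Scheme.ΓSpecIso (CommRingCat.of (R ⧸ 𝔪))).hom) ≫
        ((Scheme.ΓSpecIso (CommRingCat.of (R ⧸ 𝔪))).inv ≫ f₀.appTop) := by
      simp only [Category.assoc, Iso.hom_inv_id_assoc]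
    rw [e2]
    exact h0.comp b1
  exact ArtH0.s11468 C (pullback g (τ R n)) X₀ gn i' f₀' hsq' h0'

/-- a section vanishing on all infinitesimal neighbourhoods of the closed fibre has zero germs
along the closed fibre -/
theorem germ_eq_zero_of_forall_res {X : Scheme.{u}} [IsLocallyNoetherian X]
    (g : X ⟶ Spec (CommRingCat.of R)) (t : Γ(X, ⊤))
    (ht : ∀ n : ℕ, (pullback.fst g (τ R n)).appTop.hom t = 0) (x : X)
    (hx : g x = IsLocalRing.closedPoint R) :
    (X.presheaf.germ ⊤ x trivial).hom t = 0 := by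
  let B := X.presheaf.stalk x
  let ψc : CommRingCat.of R ⟶ B := Spec.preimage (X.fromSpecStalk x ≫ g)
  have hψc : Spec.map ψc = X.fromSpecStalk x ≫ g := Spec.map_preimage _
  let ψ : R →+* B := ψc.hom
  have hcomap : Ideal.comap ψ (IsLocalRing.maximalIdeal B) = 𝔪 := by
    have h1 : (Spec.map ψc) (IsLocalRing.closedPoint B) = IsLocalRing.closedPoint R := by
      rw [hψc, Scheme.Hom.comp_apply, Scheme.fromSpecStalk_closedPoint, hx]
    exact congrArg PrimeSpectrum.asIdeal h1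
  have hmap : Ideal.map ψ 𝔪 ≤ IsLocalRing.maximalIdeal B := by
    rw [Ideal.map_le_iff_le_comap, hcomap]
  have hmem : ∀ n : ℕ, (X.presheaf.germ ⊤ x trivial).hom t ∈
      IsLocalRing.maximalIdeal B ^ (n + 1) := by
    intro n
    let 𝔫 : Ideal B := Ideal.map ψ (𝔪 ^ (n + 1))
    let q : B →+* B ⧸ 𝔫 := Ideal.Quotient.mk 𝔫
    let ρ : (R ⧸ 𝔪 ^ (n + 1)) →+* B ⧸ 𝔫 := Ideal.quotientMap 𝔫 ψ Ideal.le_comap_map
    have hρ : ρ.comp (Ideal.Quotient.mk _) = q.comp ψ := Ideal.quotientMap_comp_mk _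
    let σ : Spec (CommRingCat.of (B ⧸ 𝔫)) ⟶ X :=
      Spec.map (CommRingCat.ofHom q) ≫ X.fromSpecStalk x
    let w : Spec (CommRingCat.of (B ⧸ 𝔫)) ⟶ Spec (CommRingCat.of (R ⧸ 𝔪 ^ (n + 1))) :=
      Spec.map (CommRingCat.ofHom ρ)
    have hcomm : σ ≫ g = w ≫ τ R n := by
      change (Spec.map _ ≫ X.fromSpecStalk x) ≫ g = Spec.map _ ≫ Spec.map _
      rw [Category.assoc, ← hψc, ← Spec.map_comp, ← Spec.map_comp]
      congr 1
    let ℓ := pullback.lift σ w hcomm
    have hℓ : ℓ ≫ pullback.fst g (τ R n) = σ := pullback.lift_fst _ _ _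
    have h2 : (σ.app ⊤).hom t = 0 := by
      have e1 : σ.appTop = (pullback.fst g (τ R n)).appTop ≫ ℓ.appTop := by
        rw [← Scheme.Hom.comp_appTop, hℓ]
      change σ.appTop.hom t = 0
      rw [e1, CommRingCat.hom_comp, RingHom.comp_apply, ht n, map_zero]
    have h3 := KrullNbhd.ker_le_of_stalk x ⊤ trivial (CommRingCat.of (B ⧸ 𝔫))
      (CommRingCat.ofHom q) t h2
    have h4 : (X.presheaf.germ ⊤ x trivial).hom t ∈ 𝔫 := Ideal.Quotient.eq_zero_iff_mem.mp h3
    have hle : 𝔫 ≤ IsLocalRing.maximalIdeal B ^ (n + 1) := by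
      change Ideal.map ψ _ ≤ _
      rw [Ideal.map_pow]
      exact Ideal.pow_right_mono hmap _
    exact hle h4
  have hkrull := Ideal.iInf_pow_eq_bot_of_isLocalRing (IsLocalRing.maximalIdeal B)
    Ideal.IsPrime.ne_top'
  have : (X.presheaf.germ ⊤ x trivial).hom t ∈ ⨅ i : ℕ, IsLocalRing.maximalIdeal B ^ i := by
    rw [Ideal.mem_iInf]
    intro i
    cases i with
    | zero => rw [pow_zero, Ideal.one_eq_top]; trivial
    | succ n => exact hmem n
  rw [hkrull] at this
  exact this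

theorem eq_zero_of_forall_res {X : Scheme.{u}} [IsLocallyNoetherian X]
    (g : X ⟶ Spec (CommRingCat.of R)) (hcl : IsClosedMap g.base) (t : Γ(X, ⊤))
    (ht : ∀ n : ℕ, (pullback.fst g (τ R n)).appTop.hom t = 0) : t = 0 := by
  have key : ∀ x : X, (X.presheaf.germ ⊤ x trivial).hom t = 0 := by
    by_contra hne
    simp only [not_forall] at hne
    obtain ⟨x₁, hx₁⟩ := hne
    let Z : Set X := {x | (X.presheaf.germ ⊤ x trivial).hom t ≠ 0}
    have hZ : IsClosed Z := by
      rw [← isOpen_compl_iff, isOpen_iff_forall_mem_open]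
      intro x hx
      have hx0 : (X.presheaf.germ ⊤ x trivial).hom t = 0 := by
        by_contra h; exact hx h
      have hg0 : (X.presheaf.germ ⊤ x trivial).hom t = (X.presheaf.germ ⊤ x trivial).hom 0 := by
        rw [hx0, map_zero]
      obtain ⟨W, hxW, i₁, i₂, he⟩ := X.presheaf.germ_eq x (Opens.mem_top x) (Opens.mem_top x) t 0 hg0
      refine ⟨W, ?_, W.isOpen, hxW⟩
      intro y hy hyZ
      apply hyZ
      have e1 : (X.presheaf.germ ⊤ y trivial).hom t =
          (X.presheaf.germ W y hy).hom ((X.presheaf.map i₁.op).hom t) := by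
        rw [← CommRingCat.comp_apply, X.presheaf.germ_res]
      have he' : (X.presheaf.map i₁.op).hom t = (X.presheaf.map i₂.op).hom 0 := he
      rw [e1, he', map_zero, map_zero]
    have hgZ : IsClosed (g.base '' Z) := hcl Z hZ
    have hmem : IsLocalRing.closedPoint R ∈ g.base '' Z :=
      (IsLocalRing.specializes_closedPoint (g x₁)).mem_closed hgZ ⟨x₁, hx₁, rfl⟩
    obtain ⟨z, hz, hgz⟩ := hmem
    exact hz (germ_eq_zero_of_forall_res g t ht z hgz)
  refine TopCat.Presheaf.section_ext X.sheaf ⊤ t 0 (fun x hx => ?_)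
  rw [map_zero]
  exact key x

/-- transition maps between infinitesimal neighbourhoods -/
lemma exists_transition {X : Scheme.{u}} (g : X ⟶ Spec (CommRingCat.of R)) {m n : ℕ} (h : m ≤ n) :
    ∃ T : pullback g (τ R m) ⟶ pullback g (τ R n),
      T ≫ pullback.fst g (τ R n) = pullback.fst g (τ R m) := by
  have hle : 𝔪 ^ (n + 1) ≤ 𝔪 ^ (m + 1) := Ideal.pow_le_pow_right (Nat.succ_le_succ h)
  refine ⟨pullback.lift (pullback.fst g (τ R m))
    (pullback.snd g (τ R m) ≫ Spec.map (CommRingCat.ofHom (Ideal.Quotient.factor hle))) ?_,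
    pullback.lift_fst _ _ _⟩
  rw [pullback.condition, Category.assoc, τ, τ, ← Spec.map_comp]
  congr 2

theorem main [IsAdicComplete 𝔪 R]
    (X X₀ : Scheme.{u}) (g : X ⟶ Spec (CommRingCat.of R)) [IsProper g] [Flat g]
    (i : X₀ ⟶ X) (f₀ : X₀ ⟶ Spec (CommRingCat.of (R ⧸ 𝔪)))
    (hsq : IsPullback i f₀ g (Spec.map (CommRingCat.ofHom (Ideal.Quotient.mk 𝔪))))
    (h0 : Function.Bijective ((Scheme.ΓSpecIso (CommRingCat.of (R ⧸ 𝔪))).inv ≫ f₀.appTop)) :
    Function.Bijective ((Scheme.ΓSpecIso (CommRingCat.of R)).inv ≫ g.appTop) := by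
  haveI : IsLocallyNoetherian (Spec (CommRingCat.of R)) := inferInstance
  haveI : IsLocallyNoetherian X := LocallyOfFiniteType.isLocallyNoetherian g
  let φ : R →+* Γ(X, ⊤) := ((Scheme.ΓSpecIso (CommRingCat.of R)).inv ≫ g.appTop).hom
  let φn : ∀ n : ℕ, (R ⧸ 𝔪 ^ (n + 1)) →+* Γ(pullback g (τ R n), ⊤) := fun n =>
    ((Scheme.ΓSpecIso (CommRingCat.of (R ⧸ 𝔪 ^ (n + 1)))).inv ≫
      (pullback.snd g (τ R n)).appTop).hom
  have hφn : ∀ n, Function.Bijective (φn n) := fun n => art_quot X X₀ g i f₀ hsq h0 n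
  have compat : ∀ (n : ℕ) (a : R), (pullback.fst g (τ R n)).appTop.hom (φ a) =
      φn n (Ideal.Quotient.mk _ a) := fun n a =>
    sq_appTop g (pullback.snd g (τ R n)) (pullback.fst g (τ R n))
      (CommRingCat.ofHom (Ideal.Quotient.mk (𝔪 ^ (n + 1)))) pullback.condition a
  have hkrull : (⨅ i : ℕ, 𝔪 ^ i) = ⊥ :=
    Ideal.iInf_pow_eq_bot_of_isLocalRing 𝔪 Ideal.IsPrime.ne_top'
  change Function.Bijective φ
  constructor
  · rw [injective_iff_map_eq_zero]
    intro a ha
    have hmem : a ∈ ⨅ i : ℕ, 𝔪 ^ i := by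
      rw [Ideal.mem_iInf]
      intro i
      cases i with
      | zero => rw [pow_zero, Ideal.one_eq_top]; trivial
      | succ n =>
        have h1 : φn n (Ideal.Quotient.mk _ a) = 0 := by
          rw [← compat n a, ha, map_zero]
        have h2 : Ideal.Quotient.mk (𝔪 ^ (n + 1)) a = 0 :=
          (hφn n).1 (h1.trans (map_zero _).symm)
        exact Ideal.Quotient.eq_zero_iff_mem.mp h2
    rw [hkrull] at hmem
    exact hmem
  · intro s
    have hex : ∀ n : ℕ, ∃ a : R, φn n (Ideal.Quotient.mk _ a) =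
        (pullback.fst g (τ R n)).appTop.hom s := by
      intro n
      obtain ⟨c, hc⟩ := (hφn n).2 ((pullback.fst g (τ R n)).appTop.hom s)
      obtain ⟨a, rfl⟩ := Ideal.Quotient.mk_surjective c
      exact ⟨a, hc⟩
    choose f' hf' using hex
    have hcompat : ∀ {m n : ℕ}, m ≤ n → f' m - f' n ∈ 𝔪 ^ (m + 1) := by
      intro m n hmn
      obtain ⟨T, hT⟩ := exists_transition g hmn
      have hTapp : ∀ u : Γ(X, ⊤), (pullback.fst g (τ R m)).appTop.hom u =
          T.appTop.hom ((pullback.fst g (τ R n)).appTop.hom u) := by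
        intro u
        have e1 : (pullback.fst g (τ R m)).appTop =
            (pullback.fst g (τ R n)).appTop ≫ T.appTop := by
          rw [← Scheme.Hom.comp_appTop, hT]
        rw [e1]; rfl
      have h1 : φn m (Ideal.Quotient.mk _ (f' n)) = φn m (Ideal.Quotient.mk _ (f' m)) := by
        rw [← compat m (f' n), hTapp, compat n (f' n), hf' n, ← hTapp, hf' m]
      have h2 := (hφn m).1 h1
      rw [← sub_eq_zero, ← map_sub, Ideal.Quotient.eq_zero_iff_mem] at h2
      have : f' m - f' n = -(f' n - f' m) := by ring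
      rw [this]
      exact neg_mem h2
    let f : ℕ → R := fun n => match n with
      | 0 => 0
      | (k + 1) => f' k
    have hf : ∀ {m n : ℕ}, m ≤ n → f m ≡ f n [SMOD (𝔪 ^ m • ⊤ : Submodule R R)] := by
      intro m n hmn
      rw [SModEq.sub_mem]
      cases m with
      | zero => simp
      | succ m' =>
        cases n with
        | zero => exact absurd hmn (Nat.not_succ_le_zero m')
        | succ n' =>
          have := hcompat (Nat.le_of_succ_le_succ hmn)
          simpa using this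
    obtain ⟨L, hL⟩ := IsPrecomplete.prec' (I := 𝔪) (M := R) f hf
    refine ⟨L, ?_⟩
    have hL' : ∀ n : ℕ, Ideal.Quotient.mk (𝔪 ^ (n + 1)) L = Ideal.Quotient.mk _ (f' n) := by
      intro n
      have h1 := hL (n + 1)
      rw [SModEq.sub_mem] at h1
      have h2 : f' n - L ∈ 𝔪 ^ (n + 1) := by simpa using h1
      symm
      rw [← sub_eq_zero, ← map_sub, Ideal.Quotient.eq_zero_iff_mem]
      exact h2
    have ht : ∀ n : ℕ, (pullback.fst g (τ R n)).appTop.hom (φ L - s) = 0 := by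
      intro n
      rw [map_sub, compat n L, hL' n, hf' n, sub_self]
    have h3 := eq_zero_of_forall_res g g.isClosedMap (φ L - s) ht
    exact sub_eq_zero.mp h3

end Art

end Groth.Agent.Helper3.FormalH0
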