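import Mathlib
import Groth.Agent.Helper3.Fp

set_option autoImplicit false
set_option linter.style.haveILetI false
universe v₄ u₄ v₃ u₃ v₂ u₂ v u

namespace Groth.Agent.Helper3.FpDiag
open CategoryTheory Functor FibCat Limits

variable {C : Type u} [Category.{v} C]
variable {𝒳 : BasedCategory.{v₂, u₂} C} {𝒴 : BasedCategory.{v₃, u₃} C}
variable (G : 𝒳 ⥤ᵇ 𝒴)

@[simp] theorem diag_obj_fst (x : 𝒳.obj) : ((diag G).obj x).obj.fst = x := rfl
@[simp] theorem diag_obj_snd (x : 𝒳.obj) : ((diag G).obj x).obj.snd = x := rfl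
@[simp] theorem diag_obj_iso_hom (x : 𝒳.obj) : ((diag G).obj x).obj.iso.hom = 𝟙 (G.obj x) := rfl
@[simp] theorem diag_map_fst {x y : 𝒳.obj} (φ : x ⟶ y) : ((diag G).map φ).hom.fst = φ := rfl
@[simp] theorem diag_map_snd {x y : 𝒳.obj} (φ : x ⟶ y) : ((diag G).map φ).hom.snd = φ := rfl

theorem diag_faithful : (diag G).toFunctor.Faithful := by
  refine ⟨fun {a b} φ ψ h => ?_⟩
  have := congrArg (fun t => t.hom.fst) h
  exact this

theorem diag_full_of_faithful [G.toFunctor.Faithful] : (diag G).toFunctor.Full := by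
  refine ⟨fun {a b} Φ => ?_⟩
  have hw := Φ.hom.w
  have h1 : G.map Φ.hom.fst = G.map Φ.hom.snd := by
    have : G.map Φ.hom.fst ≫ 𝟙 _ = 𝟙 _ ≫ G.map Φ.hom.snd := hw
    simpa using this
  have h2 : Φ.hom.fst = Φ.hom.snd := G.toFunctor.map_injective h1
  refine ⟨Φ.hom.fst, ?_⟩
  apply ObjectProperty.hom_ext
  apply CategoricalPullback.hom_ext
  · rfl
  · exact h2

theorem isEquivOver_diag_of_fullyFaithful [G.toFunctor.Full] [G.toFunctor.Faithful] :
    IsEquivOver (diag G) := by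
  haveI := diag_faithful G
  haveI := diag_full_of_faithful G
  apply EquivOver.isEquivOver_of
  intro y
  -- y = (a, b, θ)
  obtain ⟨t, ht⟩ := G.toFunctor.map_surjective y.obj.iso.hom
  have ht' : G.map t = y.obj.iso.hom := ht
  haveI : IsIso (G.toFunctor.map t) := by rw [ht]; infer_instance
  haveI : IsIso t := isIso_of_fully_faithful G.toFunctor t
  have hw : G.map (𝟙 y.obj.fst) ≫ y.obj.iso.hom = 𝟙 _ ≫ G.map t := by
    rw [G.map_id, Category.id_comp, Category.id_comp, ht']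
  let tinv : y.obj.snd ⟶ y.obj.fst := CategoryTheory.inv t
  have htinv1 : t ≫ tinv = 𝟙 _ := IsIso.hom_inv_id t
  have htinv2 : tinv ≫ t = 𝟙 _ := IsIso.inv_hom_id t
  have hw' : G.map (𝟙 y.obj.fst) ≫ 𝟙 _ = y.obj.iso.hom ≫ G.map tinv := by
    rw [G.map_id, Category.id_comp, ← ht', ← G.map_comp, htinv1, G.map_id]
  let e : (diag G).obj y.obj.fst ≅ y :=
    { hom := ObjectProperty.homMk ⟨𝟙 _, t, hw⟩
      inv := ObjectProperty.homMk ⟨𝟙 _, tinv, hw'⟩
      hom_inv_id := by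
        apply ObjectProperty.hom_ext
        apply CategoricalPullback.hom_ext
        · exact Category.comp_id _
        · exact htinv1
      inv_hom_id := by
        apply ObjectProperty.hom_ext
        apply CategoricalPullback.hom_ext
        · exact Category.comp_id _
        · exact htinv2 }
  refine ⟨y.obj.fst, e, ?_⟩
  apply Fp.isHomLift_of_fst
  change 𝒳.p.IsHomLift (𝟙 (𝒳.p.obj y.obj.fst)) (𝟙 y.obj.fst)
  infer_instance

theorem faithful_of_diag_full [(diag G).toFunctor.Full] : G.toFunctor.Faithful := by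
  refine ⟨fun {a b} φ₁ φ₂ h => ?_⟩
  have h' : G.map φ₁ = G.map φ₂ := h
  have hw : G.map φ₁ ≫ 𝟙 _ = 𝟙 _ ≫ G.map φ₂ := by
    rw [Category.comp_id, Category.id_comp, h']
  let Φ : (diag G).obj a ⟶ (diag G).obj b := ObjectProperty.homMk ⟨φ₁, φ₂, hw⟩
  obtain ⟨φ, hφ⟩ := (diag G).toFunctor.map_surjective Φ
  have e1 : φ = φ₁ := congrArg (fun t => t.hom.fst) hφ
  have e2 : φ = φ₂ := congrArg (fun t => t.hom.snd) hφ
  rw [← e1, e2]

theorem full_of_isEquivOver_diag (h𝒳 : IsFibGrpd 𝒳.p) (h𝒴 : IsFibGrpd 𝒴.p)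
    (h : IsEquivOver (diag G)) : G.toFunctor.Full := by
  refine ⟨fun {a b} ψ => ?_⟩
  obtain ⟨a', φ₀, hφ₀⟩ := h𝒳.exists_lift (x := b) (FibGrpd.baseOf G ψ)
  haveI := FibGrpd.isStronglyCartesian h𝒴 (FibGrpd.baseOf G ψ) (G.map φ₀)
  let θ := IsStronglyCartesian.map 𝒴.p (FibGrpd.baseOf G ψ) (G.map φ₀) (Category.id_comp _).symm ψ
  have hθ : θ ≫ G.map φ₀ = ψ := IsStronglyCartesian.fac 𝒴.p _ _ _ _
  haveI hθl : 𝒴.p.IsHomLift (𝟙 (𝒳.p.obj a)) θ := IsStronglyCartesian.map_isHomLift 𝒴.p _ _ _ _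
  haveI : IsIso θ := FibGrpd.isIso_of_lift_id h𝒴 (U := 𝒳.p.obj a) θ
  let y : (fp G G).obj := ⟨⟨a, a', asIso θ⟩, hθl⟩
  obtain ⟨x, e, -⟩ := EquivOver.exists_iso h y
  let u₁ : x ⟶ a := e.hom.hom.fst
  let u₂ : x ⟶ a' := e.hom.hom.snd
  let v₁ : a ⟶ x := e.inv.hom.fst
  have hw' : G.map u₁ ≫ θ = G.map u₂ := by
    have : G.map e.hom.hom.fst ≫ y.obj.iso.hom = 𝟙 _ ≫ G.map e.hom.hom.snd := e.hom.hom.w
    rw [Category.id_comp] at this
    exact this
  have h1 : v₁ ≫ u₁ = 𝟙 a := congrArg (fun t => t.hom.fst) e.inv_hom_id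
  refine ⟨v₁ ≫ u₂ ≫ φ₀, ?_⟩
  rw [G.map_comp, G.map_comp, ← hw', Category.assoc, hθ, ← Category.assoc, ← G.map_comp, h1,
    G.map_id, Category.id_comp]

theorem fullyFaithful_iff (h𝒳 : IsFibGrpd 𝒳.p) (h𝒴 : IsFibGrpd 𝒴.p) :
    (G.toFunctor.Full ∧ G.toFunctor.Faithful) ↔ IsEquivOver (diag G) := by
  constructor
  · rintro ⟨h1, h2⟩
    exact isEquivOver_diag_of_fullyFaithful G
  · intro h
    have hE := EquivOver.isEquivalence h
    haveI := hE.full
    exact ⟨full_of_isEquivOver_diag G h𝒳 h𝒴 h, faithful_of_diag_full G⟩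

end Groth.Agent.Helper3.FpDiag
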