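import Mathlib

set_option autoImplicit false
set_option linter.style.haveILetI false
set_option linter.unusedSectionVars false
set_option linter.unusedVariables false
set_option linter.deprecated false
set_option linter.style.haveILetI false
set_option linter.unusedSectionVars false
set_option linter.unusedVariables false

/-!
# The relative Frobenius of a finite unramified algebra is surjective
-/

namespace Groth.Agent.Helper3.FrobDom

open TensorProduct

universe u v

theorem add_pow_of_cast_eq_zero {S : Type*} [CommRing S] (p : ℕ) (hp : p.Prime)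
    (h0 : ((p : ℕ) : S) = 0) (x y : S) : (x + y) ^ p = x ^ p + y ^ p := by
  obtain ⟨r, hr⟩ := exists_add_pow_prime_eq hp x y
  rw [hr, h0]
  ring

theorem sum_pow_of_cast_eq_zero {S : Type*} [CommRing S] (p : ℕ) (hp : p.Prime)
    (h0 : ((p : ℕ) : S) = 0) {ι : Type*} (s : Finset ι) (f : ι → S) :
    (∑ i ∈ s, f i) ^ p = ∑ i ∈ s, f i ^ p := by
  classical
  induction s using Finset.induction_on with
  | empty => simp [hp.ne_zero]
  | insert a s ha ih =>
    rw [Finset.sum_insert ha, Finset.sum_insert ha, add_pow_of_cast_eq_zero p hp h0, ih]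

/-- **Surjectivity of the relative Frobenius.** If `B` is a finite unramified `A`-algebra in
which the prime `p` vanishes, then `B` is spanned over `A` by `p`-th powers. -/
theorem span_pow_eq_top (A : Type u) (B : Type v) [CommRing A] [CommRing B] [Algebra A B] (p : ℕ)
    (hp : p.Prime) (h0 : ((p : ℕ) : B) = 0) [Module.Finite A B]
    [Algebra.FormallyUnramified A B] :
    Submodule.span A (Set.range (fun b : B => b ^ p)) = ⊤ := by
  obtain ⟨t, ht1, ht2⟩ :=
    (Algebra.FormallyUnramified.iff_exists_tensorProduct (R := A) (S := B)).mp inferInstance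
  let A' : Subalgebra A B := Algebra.adjoin A (Set.range (fun b : B => b ^ p))
  have hmem : ∀ b : B, b ^ p ∈ A' := fun b => Algebra.subset_adjoin ⟨b, rfl⟩
  have h0' : ((p : ℕ) : B ⊗[A] B) = 0 := by
    have : ((p : ℕ) : B ⊗[A] B) = algebraMap B (B ⊗[A] B) ((p : ℕ) : B) :=
      (map_natCast _ p).symm
    rw [this, h0, map_zero]
  have hmul : ∀ u : B ⊗[A] B, u * t = (Algebra.TensorProduct.lmul' A u ⊗ₜ[A] (1 : B)) * t := by
    intro u
    induction u with
    | zero => simp
    | tmul x y =>
      have h1 : ((1 : B) ⊗ₜ[A] y) * t = (y ⊗ₜ[A] (1 : B)) * t := by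
        have := ht1 y
        rwa [sub_mul, sub_eq_zero] at this
      calc (x ⊗ₜ[A] y) * t = (x ⊗ₜ[A] (1 : B)) * (((1 : B) ⊗ₜ[A] y) * t) := by
            rw [← mul_assoc]; simp
        _ = (x ⊗ₜ[A] (1 : B)) * ((y ⊗ₜ[A] (1 : B)) * t) := by rw [h1]
        _ = ((x * y) ⊗ₜ[A] (1 : B)) * t := by rw [← mul_assoc]; simp
        _ = _ := by simp
    | add u v hu hv => rw [add_mul, hu, hv, map_add, TensorProduct.add_tmul, add_mul]
  have htt : t * t = t := by
    rw [hmul t, ht2]
    simp [Algebra.TensorProduct.one_def.symm]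
  have htp : ∀ n : ℕ, t ^ (n + 1) = t := by
    intro n
    induction n with
    | zero => simp
    | succ n ih => rw [pow_succ, ih, htt]
  haveI : Module.Finite A' B := Module.Finite.of_restrictScalars_finite A A' B
  let φ : B ⊗[A] B →ₐ[A] B ⊗[A'] B := Algebra.TensorProduct.mapOfCompatibleSMul A' A A B B
  have hφ : ∀ u : B ⊗[A] B, φ (u ^ p) = ((Algebra.TensorProduct.lmul' A u) ^ p) ⊗ₜ[A'] (1 : B) := by
    intro u
    induction u with
    | zero => simp [hp.ne_zero]
    | tmul x y =>
      rw [Algebra.TensorProduct.tmul_pow]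
      change (x ^ p) ⊗ₜ[A'] (y ^ p) = _
      have h1 : y ^ p = (⟨y ^ p, hmem y⟩ : A') • (1 : B) := by
        rw [Algebra.smul_def, mul_one]; rfl
      rw [h1, ← TensorProduct.smul_tmul, Algebra.smul_def]
      simp only [Algebra.TensorProduct.lmul'_apply_tmul, mul_pow]
      congr 1
      change y ^ p * x ^ p = _
      ring
    | add u v hu hv =>
      rw [add_pow_of_cast_eq_zero p hp h0', map_add, hu, hv, map_add,
        add_pow_of_cast_eq_zero p hp h0, TensorProduct.add_tmul]
  have hφt : φ t = 1 := by
    obtain ⟨n, hn⟩ : ∃ n, p = n + 1 := ⟨p - 1, (Nat.succ_pred_eq_of_pos hp.pos).symm⟩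
    have h1 : t ^ p = t := by rw [hn]; exact htp n
    rw [← h1, hφ, ht2, one_pow]
    rfl
  have hepi : Algebra.IsEpi A' B := by
    rw [Algebra.isEpi_iff_forall_one_tmul_eq]
    intro b
    have h1 := congrArg φ (ht1 b)
    rw [map_mul, hφt, mul_one, map_zero, map_sub, sub_eq_zero] at h1
    exact h1
  have hsurj : Function.Surjective (algebraMap A' B) :=
    (Algebra.isEpi_iff_surjective_algebraMap_of_finite (R := A') (A := B)).mp hepi
  have hspan : Subalgebra.toSubmodule A' = Submodule.span A (Set.range (fun b : B => b ^ p)) := by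
    apply Algebra.adjoin_eq_span_of_subset
    intro z hz
    have hcl : Submonoid.closure (Set.range (fun b : B => b ^ p)) =
        MonoidHom.mrange (powMonoidHom p : B →* B) := by
      have : Set.range (fun b : B => b ^ p) = (MonoidHom.mrange (powMonoidHom p : B →* B) : Set B) := by
        ext z; simp [MonoidHom.mem_mrange]
      rw [this, Submonoid.closure_eq]
    rw [hcl] at hz
    obtain ⟨c, rfl⟩ := hz
    exact Submodule.subset_span ⟨c, rfl⟩
  rw [← hspan, eq_top_iff]
  intro b _
  obtain ⟨a', rfl⟩ := hsurj b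
  exact a'.2

end Groth.Agent.Helper3.FrobDom
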