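import Mathlib

set_option autoImplicit false
set_option linter.style.haveILetI false
set_option linter.unusedSectionVars false
set_option linter.unusedVariables false
set_option linter.deprecated false
set_option linter.style.haveILetI false
set_option linter.unusedSectionVars false
set_option linter.unusedVariables false

/-!
# Frobenius-linear systems `x = r x^(p)`: étale, and finite when `r` is invertible
-/

namespace Groth.Agent.Helper3.FrobDom

open MvPolynomial

universe u

variable {R : Type u} [CommRing R] (p : ℕ) [Fact p.Prime] [CharP R p]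
  {ι : Type} [Fintype ι] [DecidableEq ι] (r : Matrix ι ι R)

/-- the relations `X_i - Σ_j r_ij X_j^p`. -/
noncomputable def rel (i : ι) : MvPolynomial ι R :=
  X i - ∑ j, C (r i j) * X j ^ p

/-- the algebra of the system -/
abbrev Sys := MvPolynomial ι R ⧸ Ideal.span (Set.range (rel p r))

noncomputable def preSub : Algebra.PreSubmersivePresentation R (Sys p r) ι ι :=
  { Algebra.Presentation.naive (v := rel p r) with map := id, map_inj := Function.injective_id }

lemma pderiv_rel (i j : ι) : pderiv i (rel p r j) = if i = j then 1 else 0 := by
  have hp : ((p : ℕ) : MvPolynomial ι R) = 0 := by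
    rw [← map_natCast (C : R →+* MvPolynomial ι R), CharP.cast_eq_zero, map_zero]
  simp only [rel, map_sub, map_sum, Derivation.leibniz, pderiv_C, Derivation.leibniz_pow,
    pderiv_X, nsmul_eq_mul, hp, zero_mul, smul_eq_mul, mul_zero, smul_zero, add_zero,
    Finset.sum_const_zero, sub_zero, Pi.single_apply]
  by_cases h : i = j
  · subst h; simp
  · simp [h, Ne.symm h]

lemma jacobiMatrix_eq : (preSub p r).jacobiMatrix = 1 := by
  apply Matrix.ext
  intro i j
  rw [Algebra.PreSubmersivePresentation.jacobiMatrix_apply]
  change pderiv i (rel p r j) = _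
  rw [pderiv_rel, Matrix.one_apply]

theorem etale : Algebra.Etale R (Sys p r) := by
  have hjac : IsUnit (preSub p r).jacobian := by
    rw [Algebra.PreSubmersivePresentation.jacobian_eq_jacobiMatrix_det, jacobiMatrix_eq,
      Matrix.det_one, map_one]
    exact isUnit_one
  let P : Algebra.SubmersivePresentation R (Sys p r) ι ι :=
    { preSub p r with jacobian_isUnit := hjac }
  haveI : Algebra.IsStandardSmoothOfRelativeDimension 0 R (Sys p r) :=
    P.isStandardSmoothOfRelativeDimension (by simp [Algebra.Presentation.dimension])
  infer_instance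

/-- the class of `X i` -/
noncomputable def x (i : ι) : Sys p r := Ideal.Quotient.mk _ (X i)

lemma x_eq (i : ι) : x p r i = ∑ j, algebraMap R (Sys p r) (r i j) * x p r j ^ p := by
  have h : rel p r i ∈ Ideal.span (Set.range (rel p r)) := Ideal.subset_span ⟨i, rfl⟩
  have h2 := Ideal.Quotient.eq_zero_iff_mem.mpr h
  rw [rel, map_sub, sub_eq_zero] at h2
  rw [x, h2, map_sum]
  rfl

lemma x_pow (r' : Matrix ι ι R) (hr : r' * r = 1) (i : ι) :
    x p r i ^ p = ∑ j, algebraMap R (Sys p r) (r' i j) * x p r j := by
  have h1 : ∀ j, x p r j = ∑ k, algebraMap R (Sys p r) (r j k) * x p r k ^ p := x_eq p r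
  calc x p r i ^ p = ∑ k, algebraMap R (Sys p r) ((1 : Matrix ι ι R) i k) * x p r k ^ p := by
        simp [Matrix.one_apply]
    _ = ∑ k, ∑ j, algebraMap R (Sys p r) (r' i j) * (algebraMap R (Sys p r) (r j k) * x p r k ^ p) := by
        refine Finset.sum_congr rfl (fun k _ => ?_)
        rw [← hr, Matrix.mul_apply, map_sum, Finset.sum_mul]
        refine Finset.sum_congr rfl (fun j _ => ?_)
        rw [map_mul, mul_assoc]
    _ = ∑ j, algebraMap R (Sys p r) (r' i j) * ∑ k, algebraMap R (Sys p r) (r j k) * x p r k ^ p := by
        rw [Finset.sum_comm]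
        refine Finset.sum_congr rfl (fun j _ => ?_)
        rw [Finset.mul_sum]
    _ = _ := by
        refine Finset.sum_congr rfl (fun j _ => ?_)
        rw [← h1 j]

theorem finite (r' : Matrix ι ι R) (hr : r' * r = 1) : Module.Finite R (Sys p r) := by
  classical
  let mk : MvPolynomial ι R →ₐ[R] Sys p r := Ideal.Quotient.mkₐ R _
  let T : Set (ι →₀ ℕ) := {e | ∀ i, e i < p}
  have hT : T.Finite := by
    refine Set.Finite.subset (Set.finite_range
      (fun g : ι → Fin p => Finsupp.equivFunOnFinite.symm (fun i => (g i : ℕ)))) ?_
    intro e he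
    refine ⟨fun i => ⟨e i, he i⟩, ?_⟩
    ext i
    simp
  let M : Submodule R (Sys p r) := Submodule.span R ((fun e => mk (monomial e 1)) '' T)
  have hmkX : ∀ i, mk (X i) = x p r i := fun i => rfl
  have key : ∀ (d : ℕ) (e : ι →₀ ℕ), e.degree = d → mk (monomial e 1) ∈ M := by
    intro d
    induction d using Nat.strong_induction_on with
    | _ d ih =>
      intro e hed
      by_cases he : ∀ i, e i < p
      · exact Submodule.subset_span ⟨e, he, rfl⟩
      · push Not at he
        obtain ⟨i, hi⟩ := he
        have hle : Finsupp.single i p ≤ e := by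
          rw [Finsupp.single_le_iff]
          exact hi
        set e' := e - Finsupp.single i p with he'
        have hee : e = e' + Finsupp.single i p := (tsub_add_cancel_of_le hle).symm
        have hdeg : e.degree = e'.degree + p := by
          conv_lhs => rw [hee]
          rw [map_add, Finsupp.degree_single]
        have h1 : monomial e (1 : R) = monomial e' 1 * X i ^ p := by
          rw [X_pow_eq_monomial, monomial_mul, mul_one, ← hee]
        rw [h1, map_mul, map_pow, hmkX, x_pow p r r' hr i, Finset.mul_sum]
        refine Submodule.sum_mem _ (fun j _ => ?_)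
        have h3 : monomial e' (1 : R) * X j = monomial (e' + Finsupp.single j 1) 1 := by
          rw [X, monomial_mul, mul_one]
        have h2 : mk (monomial e' 1) * (algebraMap R (Sys p r) (r' i j) * x p r j) =
            algebraMap R (Sys p r) (r' i j) * mk (monomial (e' + Finsupp.single j 1) 1) := by
          rw [← h3, map_mul, hmkX]
          ring
        rw [h2, ← Algebra.smul_def]
        refine Submodule.smul_mem _ _ (ih _ ?_ _ rfl)
        rw [map_add, Finsupp.degree_single, ← hed, hdeg]
        have := (Fact.out : p.Prime).two_le
        omega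
  have hall : ∀ f : MvPolynomial ι R, mk f ∈ M := by
    intro f
    induction f using MvPolynomial.induction_on' with
    | monomial e a =>
      have : monomial e a = a • monomial e (1 : R) := by
        rw [smul_monomial, smul_eq_mul, mul_one]
      rw [this, map_smul]
      exact Submodule.smul_mem _ _ (key _ e rfl)
    | add f g hf hg =>
      rw [map_add]
      exact Submodule.add_mem _ hf hg
  have htop : M = ⊤ := by
    rw [eq_top_iff]
    intro z _
    obtain ⟨f, rfl⟩ := Ideal.Quotient.mk_surjective z
    exact hall f
  exact ⟨htop ▸ Submodule.fg_span (hT.image _)⟩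

end Groth.Agent.Helper3.FrobDom
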