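import Mathlib
import Groth.Agent.Helper3.FrobDom1
import Groth.Agent.Helper3.FrobDom2

set_option autoImplicit false
set_option linter.style.haveILetI false
set_option linter.unusedSectionVars false
set_option linter.unusedVariables false
set_option linter.deprecated false
set_option linter.style.haveILetI false
set_option linter.unusedSectionVars false
set_option linter.unusedVariables false

/-!
# Finite étale algebras over a quotient in characteristic `p` are dominated
-/

namespace Groth.Agent.Helper3.FrobDom

open TensorProduct MvPolynomial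

universe u

section Mat

variable {R : Type u} [CommRing R] {N : ℕ} (S S' : Matrix (Fin N) (Fin N) R)

/-- the invertible doubled matrix -/
def dbl : Matrix (Fin N ⊕ Fin N) (Fin N ⊕ Fin N) R :=
  Matrix.fromBlocks S (-1) (1 - S' * S) S'

def dblInv : Matrix (Fin N ⊕ Fin N) (Fin N ⊕ Fin N) R :=
  Matrix.fromBlocks S' 1 (S * S' - 1) S

theorem dblInv_mul_dbl : dblInv S S' * dbl S S' = 1 := by
  unfold dblInv dbl
  rw [Matrix.fromBlocks_multiply, ← Matrix.fromBlocks_one]
  congr 1
  · noncomm_ring
  · noncomm_ring
  · noncomm_ring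
  · noncomm_ring

end Mat

theorem s0282 (p : ℕ) [Fact p.Prime] (R A B : Type u)
    [CommRing R] [CommRing A] [CommRing B] [CharP R p] [Algebra R A]
    (hRA : Function.Surjective (algebraMap R A)) [Algebra A B] [Module.Finite A B]
    [Algebra.Etale A B] :
    ∃ (C : Type u) (_ : CommRing C) (_ : Algebra R C), Module.Finite R C ∧ Algebra.Etale R C ∧
      ∃ ψ : A ⊗[R] C →ₐ[A] B, Function.Surjective ψ := by
  classical
  have hp : p.Prime := Fact.out
  letI algRB : Algebra R B := ((algebraMap A B).comp (algebraMap R A)).toAlgebra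
  haveI : IsScalarTower R A B := IsScalarTower.of_algebraMap_eq (fun _ => rfl)
  have h0 : ((p : ℕ) : B) = 0 := by
    have h1 : ((p : ℕ) : R) = 0 := CharP.cast_eq_zero R p
    have := congrArg (algebraMap R B) h1
    rwa [map_natCast, map_zero] at this
  have h0A : ((p : ℕ) : A) = 0 := by
    have h1 : ((p : ℕ) : R) = 0 := CharP.cast_eq_zero R p
    have := congrArg (algebraMap R A) h1
    rwa [map_natCast, map_zero] at this
  obtain ⟨N, b, hb⟩ := Module.Finite.exists_fin (R := A) (M := B)
  have hpow := span_pow_eq_top A B p hp h0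
  -- the `p`-th powers of the generators span
  have hbp : Submodule.span A (Set.range (fun j => b j ^ p)) = ⊤ := by
    rw [eq_top_iff, ← hpow, Submodule.span_le]
    rintro _ ⟨c, rfl⟩
    have hc : c ∈ Submodule.span A (Set.range b) := hb ▸ Submodule.mem_top
    obtain ⟨a, rfl⟩ := (Submodule.mem_span_range_iff_exists_fun A).mp hc
    change (∑ i, a i • b i) ^ p ∈ _
    rw [sum_pow_of_cast_eq_zero p hp h0]
    refine Submodule.sum_mem _ (fun j _ => ?_)
    rw [smul_pow]
    exact Submodule.smul_mem _ _ (Submodule.subset_span ⟨j, rfl⟩)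
  have h1 : ∀ i, ∃ s : Fin N → A, ∑ j, s j • b j ^ p = b i := fun i =>
    (Submodule.mem_span_range_iff_exists_fun A).mp (hbp ▸ Submodule.mem_top)
  have h2 : ∀ i, ∃ s : Fin N → A, ∑ j, s j • b j = b i ^ p := fun i =>
    (Submodule.mem_span_range_iff_exists_fun A).mp (hb ▸ Submodule.mem_top)
  choose sA hsA using h1
  choose sA' hsA' using h2
  have hlift : ∀ a : A, ∃ x : R, algebraMap R A x = a := hRA
  choose lift hlift using hlift
  let S : Matrix (Fin N) (Fin N) R := fun i j => lift (sA i j)
  let S' : Matrix (Fin N) (Fin N) R := fun i j => lift (sA' i j)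
  have hS : ∀ i, ∑ j, algebraMap R B (S i j) * b j ^ p = b i := by
    intro i
    rw [← hsA i]
    refine Finset.sum_congr rfl (fun j _ => ?_)
    rw [IsScalarTower.algebraMap_apply R A B, hlift, Algebra.smul_def]
  have hS' : ∀ i, ∑ j, algebraMap R B (S' i j) * b j = b i ^ p := by
    intro i
    rw [← hsA' i]
    refine Finset.sum_congr rfl (fun j _ => ?_)
    rw [IsScalarTower.algebraMap_apply R A B, hlift, Algebra.smul_def]
  let r := dbl S S'
  let z : Fin N ⊕ Fin N → B := Sum.elim b 0
  have hz : ∀ i, z i = ∑ j, algebraMap R B (r i j) * z j ^ p := by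
    intro i
    rw [Fintype.sum_sum_type]
    have hzero : (0 : B) ^ p = 0 := zero_pow hp.ne_zero
    cases i with
    | inl i =>
      simp only [z, r, dbl, Sum.elim_inl, Sum.elim_inr, Matrix.fromBlocks_apply₁₁,
        Matrix.fromBlocks_apply₁₂, Pi.zero_apply, hzero, mul_zero, Finset.sum_const_zero, add_zero]
      exact (hS i).symm
    | inr i =>
      simp only [z, r, dbl, Sum.elim_inl, Sum.elim_inr, Matrix.fromBlocks_apply₂₁,
        Matrix.fromBlocks_apply₂₂, Pi.zero_apply, hzero, mul_zero, Finset.sum_const_zero, add_zero]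
      symm
      calc ∑ j, algebraMap R B ((1 - S' * S) i j) * b j ^ p
          = ∑ j, (algebraMap R B ((1 : Matrix (Fin N) (Fin N) R) i j) * b j ^ p -
              ∑ k, algebraMap R B (S' i k) * (algebraMap R B (S k j) * b j ^ p)) := by
            refine Finset.sum_congr rfl (fun j _ => ?_)
            rw [Matrix.sub_apply, map_sub, sub_mul, Matrix.mul_apply, map_sum, Finset.sum_mul]
            congr 1
            refine Finset.sum_congr rfl (fun k _ => ?_)
            rw [map_mul, mul_assoc]
        _ = b i ^ p - ∑ k, algebraMap R B (S' i k) * ∑ j, algebraMap R B (S k j) * b j ^ p := by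
            rw [Finset.sum_sub_distrib]
            congr 1
            · simp [Matrix.one_apply]
            · rw [Finset.sum_comm]
              refine Finset.sum_congr rfl (fun k _ => ?_)
              rw [Finset.mul_sum]
        _ = b i ^ p - ∑ k, algebraMap R B (S' i k) * b k := by
            congr 1
            refine Finset.sum_congr rfl (fun k _ => ?_)
            rw [hS k]
        _ = 0 := by rw [hS' i, sub_self]
  -- the algebra
  refine ⟨Sys p r, inferInstance, inferInstance, finite p r (dblInv S S') (dblInv_mul_dbl S S'),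
    etale p r, ?_⟩
  have hker : ∀ a ∈ Ideal.span (Set.range (rel p r)), (MvPolynomial.aeval z : MvPolynomial _ R →ₐ[R] B) a = 0 := by
    intro a ha
    have hle : Ideal.span (Set.range (rel p r)) ≤
        RingHom.ker (MvPolynomial.aeval z : MvPolynomial _ R →ₐ[R] B) := by
      rw [Ideal.span_le]
      rintro _ ⟨i, rfl⟩
      rw [SetLike.mem_coe, RingHom.mem_ker]
      simp only [rel, map_sub, map_sum, map_mul, map_pow, aeval_X, aeval_C]
      rw [sub_eq_zero]
      exact hz i
    exact hle ha
  let g : Sys p r →ₐ[R] B := Ideal.Quotient.liftₐ _ (MvPolynomial.aeval z) hker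
  have hg : ∀ i, g (x p r i) = z i := by
    intro i
    change (MvPolynomial.aeval z : MvPolynomial _ R →ₐ[R] B) (X i) = z i
    rw [aeval_X]
  let ψ : A ⊗[R] Sys p r →ₐ[A] B :=
    Algebra.TensorProduct.lift (Algebra.ofId A B) g (fun _ _ => Commute.all _ _)
  refine ⟨ψ, ?_⟩
  have hrange : (⊤ : Submodule A B) ≤ Subalgebra.toSubmodule ψ.range := by
    rw [← hb, Submodule.span_le]
    rintro _ ⟨i, rfl⟩
    refine ⟨(1 : A) ⊗ₜ[R] x p r (Sum.inl i), ?_⟩
    change ψ ((1 : A) ⊗ₜ[R] x p r (Sum.inl i)) = b i
    rw [Algebra.TensorProduct.lift_tmul, map_one, one_mul, hg]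
    rfl
  intro y
  exact hrange (Submodule.mem_top : y ∈ ⊤)

end Groth.Agent.Helper3.FrobDom
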