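import Mathlib
import Groth.Agent.Helper3.PowComm

set_option autoImplicit false
set_option linter.style.haveILetI false
set_option linter.unusedSectionVars false
set_option linter.unusedVariables false
set_option linter.style.haveILetI false
set_option linter.unusedSectionVars false
set_option linter.unusedVariables false

universe u
open CategoryTheory CategoryTheory.Limits AlgebraicGeometry

namespace Groth.Agent.Helper3.FrobNil

/-- powers by an exponent vanishing in the ring do not see square-zero differences -/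
lemma pow_eq_of_sq_zero {A : Type*} [CommRing A] (x y : A) (q : ℕ) (hq1 : 1 ≤ q)
    (hq : (q : A) = 0) (h : (x - y) * (x - y) = 0) : x ^ q = y ^ q := by
  set ε := x - y with hε
  have hx : x = y + ε := by rw [hε]; ring
  have key : ∀ n : ℕ, (y + ε) ^ (n + 1) = y ^ (n + 1) + (n + 1 : ℕ) * y ^ n * ε := by
    intro n
    induction n with
    | zero => simp
    | succ n ih =>
      rw [pow_succ, ih]
      have : (y ^ (n + 1) + ((n + 1 : ℕ) : A) * y ^ n * ε) * (y + ε) =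
          y ^ (n + 1 + 1) + ((n + 1 + 1 : ℕ) : A) * y ^ (n + 1) * ε +
            ((n + 1 : ℕ) : A) * y ^ n * (ε * ε) := by
        push_cast; ring
      rw [this, h, mul_zero, add_zero]
  obtain ⟨n, rfl⟩ : ∃ n, q = n + 1 := ⟨q - 1, by omega⟩
  rw [hx, key, hq, zero_mul, zero_mul, add_zero]

/-- the kernel ideal sheaf of a square-zero thickening of affine schemes squares to zero -/
lemma ker_SpecMap_sq {R S : CommRingCat.{u}} (φ : R ⟶ S)
    (h : RingHom.ker φ.hom ^ 2 = ⊥) : (Spec.map φ).ker ^ 2 = 0 := by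
  rw [Scheme.ker_of_isAffine, ← Scheme.IdealSheafData.equivOfIsAffine_symm_apply,
    ← map_pow]
  have h0 : RingHom.ker (Spec.map φ).appTop.hom ^ 2 = 0 := by
    rw [Ideal.zero_eq_bot, eq_bot_iff, pow_two, Ideal.mul_le]
    intro r hr s hs
    have hnat := Scheme.ΓSpecIso_naturality φ
    have key : ∀ r ∈ RingHom.ker (Spec.map φ).appTop.hom,
        (Scheme.ΓSpecIso R).hom.hom r ∈ RingHom.ker φ.hom := by
      intro r hr
      rw [RingHom.mem_ker] at hr ⊢
      have := congrArg (fun f => f.hom r) hnat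
      simp only [CommRingCat.hom_comp, RingHom.comp_apply] at this
      rw [← this, hr, map_zero]
    have h1 : (Scheme.ΓSpecIso R).hom.hom r * (Scheme.ΓSpecIso R).hom.hom s ∈
        RingHom.ker φ.hom ^ 2 := by
      rw [pow_two]
      exact Ideal.mul_mem_mul (key r hr) (key s hs)
    rw [h, Ideal.mem_bot, ← map_mul] at h1
    have hinj : Function.Injective (Scheme.ΓSpecIso R).hom.hom :=
      (ConcreteCategory.bijective_of_isIso (Scheme.ΓSpecIso R).hom).1
    rw [Ideal.mem_bot]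
    exact hinj (h1.trans (map_zero _).symm)
  rw [h0, map_zero]

/-- restriction of a morphism to an affine open in terms of `appLE` -/
lemma ι_comp_eq {Z X : Scheme.{u}} (g : Z ⟶ X) {W : Z.Opens} {V : X.Opens}
    (hW : IsAffineOpen W) (hV : IsAffineOpen V) (e : W ≤ g ⁻¹ᵁ V) :
    W.ι ≫ g = hW.isoSpec.hom ≫ Spec.map (g.appLE V W e) ≫ hV.fromSpec := by
  rw [IsAffineOpen.SpecMap_appLE_fromSpec g hV hW e, ← Category.assoc,
    hW.isoSpec_hom_fromSpec]

variable {X : Scheme.{u}} (FX : X ⟶ X) (q : ℕ)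
  (hle : ∀ U : X.Opens, U ≤ FX ⁻¹ᵁ U)
  (hFapp : ∀ (U : X.Opens) (s : Γ(X, U)), (FX.appLE U U (hle U)).hom s = s ^ q)
  (hq1 : 1 ≤ q) (hq0 : ∀ U : X.Opens, (q : Γ(X, U)) = 0)

include hle hFapp hq1 hq0 in
/-- the Frobenius endomorphism does not see square-zero thickenings -/
theorem frob_comp_eq {R S : CommRingCat.{u}} (φ : R ⟶ S) (hsurj : Function.Surjective φ)
    (hker : RingHom.ker φ.hom ^ 2 = ⊥) (a₁ a₂ : Spec R ⟶ X)
    (h : Spec.map φ ≫ a₁ = Spec.map φ ≫ a₂) : a₁ ≫ FX = a₂ ≫ FX := by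
  set i := Spec.map φ with hi
  haveI : IsClosedImmersion i := IsClosedImmersion.spec_of_surjective φ hsurj
  obtain ⟨m, hm⟩ := Groth.Agent.Helper3.PowComm.isNilpotent_ker_SpecMap φ hker
  haveI : IsDominant i := by
    rw [isDominant_iff, denseRange_iff_closure_range, ← i.support_ker,
      ← i.ker.support_pow (m + 1) (by simp), pow_succ, hm]
    simp
  have hbase : a₁.base = a₂.base := by
    ext x
    obtain ⟨x, rfl⟩ := i.surjective x
    exact congr($h x)
  refine Scheme.hom_ext_of_forall _ _ fun x ↦ ?_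
  obtain ⟨_, ⟨V, hV, rfl⟩, hxV, -⟩ :=
    X.isBasis_affineOpens.exists_subset_of_mem_open (Set.mem_univ (a₁ x)) isOpen_univ
  obtain ⟨_, ⟨W, hW, rfl⟩, hxW, hWV : W ≤ _⟩ :=
    (Spec R).isBasis_affineOpens.exists_subset_of_mem_open
      (And.intro hxV (by simpa [← hbase] using hxV)) (a₁ ⁻¹ᵁ V ⊓ a₂ ⁻¹ᵁ V).isOpen
  refine ⟨W, hxW, ?_⟩
  have e₁ : W ≤ a₁ ⁻¹ᵁ V := hWV.trans inf_le_left
  have e₂ : W ≤ a₂ ⁻¹ᵁ V := hWV.trans inf_le_right
  have e₁' : W ≤ (a₁ ≫ FX) ⁻¹ᵁ V := e₁.trans ((TopologicalSpace.Opens.map a₁.base).map (homOfLE (hle V))).le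
  have e₂' : W ≤ (a₂ ≫ FX) ⁻¹ᵁ V := e₂.trans ((TopologicalSpace.Opens.map a₂.base).map (homOfLE (hle V))).le
  rw [ι_comp_eq (a₁ ≫ FX) hW hV e₁', ι_comp_eq (a₂ ≫ FX) hW hV e₂']
  suffices key : (a₁ ≫ FX).appLE V W e₁' = (a₂ ≫ FX).appLE V W e₂' by rw [key]
  rw [← Scheme.Hom.appLE_comp_appLE a₁ FX V V W (hle V) e₁,
    ← Scheme.Hom.appLE_comp_appLE a₂ FX V V W (hle V) e₂]
  refine CommRingCat.hom_ext (RingHom.ext fun s => ?_)
  change (a₁.appLE V W e₁).hom ((FX.appLE V V (hle V)).hom s) =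
    (a₂.appLE V W e₂).hom ((FX.appLE V V (hle V)).hom s)
  rw [hFapp, map_pow, map_pow]
  apply pow_eq_of_sq_zero _ _ q hq1
  · have := congrArg (a₁.appLE V W e₁).hom (hq0 V)
    rwa [map_natCast, map_zero] at this
  · -- the difference lies in the kernel of restriction to `Spec S`
    have hsq : RingHom.ker (i.app W).hom ^ 2 = ⊥ := by
      have hk2 : i.ker ^ 2 = 0 := ker_SpecMap_sq φ hker
      simpa using congr(($hk2).ideal ⟨W, hW⟩)
    have hmem : (a₁.appLE V W e₁).hom s - (a₂.appLE V W e₂).hom s ∈ RingHom.ker (i.app W).hom := by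
      rw [RingHom.mem_ker, map_sub, sub_eq_zero]
      have ei₁ : i ⁻¹ᵁ W ≤ (i ≫ a₁) ⁻¹ᵁ V :=
        ((TopologicalSpace.Opens.map i.base).map (homOfLE e₁)).le
      have ei₂ : i ⁻¹ᵁ W ≤ (i ≫ a₂) ⁻¹ᵁ V :=
        ((TopologicalSpace.Opens.map i.base).map (homOfLE e₂)).le
      have h1 : a₁.appLE V W e₁ ≫ i.app W = (i ≫ a₁).appLE V (i ⁻¹ᵁ W) ei₁ := by
        rw [Scheme.Hom.app_eq_appLE, Scheme.Hom.appLE_comp_appLE]
      have h2 : a₂.appLE V W e₂ ≫ i.app W = (i ≫ a₂).appLE V (i ⁻¹ᵁ W) ei₂ := by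
        rw [Scheme.Hom.app_eq_appLE, Scheme.Hom.appLE_comp_appLE]
      have h3 : (i ≫ a₁).appLE V (i ⁻¹ᵁ W) ei₁ = (i ≫ a₂).appLE V (i ⁻¹ᵁ W) ei₂ := by
        congr 1
      have h4 := congrArg (fun t => t.hom s) (h1.trans (h3.trans h2.symm))
      exact h4
    have : ((a₁.appLE V W e₁).hom s - (a₂.appLE V W e₂).hom s) *
        ((a₁.appLE V W e₁).hom s - (a₂.appLE V W e₂).hom s) ∈ RingHom.ker (i.app W).hom ^ 2 := by
      rw [pow_two]
      exact Ideal.mul_mem_mul hmem hmem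
    rwa [hsq, Ideal.mem_bot] at this

end Groth.Agent.Helper3.FrobNil
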