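import Mathlib
import Groth.Prelude.Def_FinFr
import Groth.Agent.Helper3.FrobNil

set_option autoImplicit false
set_option linter.style.haveILetI false
set_option linter.unusedSectionVars false
set_option linter.unusedVariables false
set_option linter.style.haveILetI false
set_option linter.unusedSectionVars false
set_option linter.unusedVariables false

universe u
open CategoryTheory CategoryTheory.Limits AlgebraicGeometry

namespace Groth.Agent.Helper3.FrobFix

/-- a scheme locally of finite type and formally unramified over a field is reduced -/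
theorem isReduced_of_formallyUnramified {K : Type u} [Field K] {Z : Scheme.{u}}
    (q : Z ⟶ Spec (CommRingCat.of K)) [LocallyOfFiniteType q] [FormallyUnramified q] :
    IsReduced Z := by
  have key : ∀ W : Z.Opens, IsAffineOpen W → _root_.IsReduced Γ(Z, W) := by
    intro W hW
    have e : W ≤ q ⁻¹ᵁ ⊤ := le_top
    have h1 := q.formallyUnramified_appLE (isAffineOpen_top _) hW e
    have h2 := q.finiteType_appLE (isAffineOpen_top _) hW e
    let ψ : K →+* Γ(Z, W) := (q.appLE ⊤ W e).hom.comp (Scheme.ΓSpecIso (CommRingCat.of K)).inv.hom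
    have hbij : Function.Bijective (Scheme.ΓSpecIso (CommRingCat.of K)).inv.hom :=
      ConcreteCategory.bijective_of_isIso (Scheme.ΓSpecIso (CommRingCat.of K)).inv
    have h1' : ψ.FormallyUnramified :=
      RingHom.FormallyUnramified.comp (RingHom.FormallyUnramified.of_surjective hbij.2) h1
    have h2' : ψ.FiniteType :=
      RingHom.FiniteType.comp h2 (RingHom.FiniteType.of_surjective _ hbij.2)
    algebraize [ψ]
    exact Algebra.FormallyUnramified.isReduced_of_field K _
  let 𝒰 : Z.OpenCover := Z.openCoverOfIsOpenCover (fun W : Z.affineOpens => W.1)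
    (iSup_affineOpens_eq_top Z)
  have : ∀ i, IsReduced (𝒰.X i) := by
    intro W
    change IsReduced (W.1 : Scheme)
    haveI : IsAffine (W.1 : Scheme) := W.2
    haveI : _root_.IsReduced Γ(Z, W.1) := key W.1 W.2
    haveI : _root_.IsReduced Γ((W.1 : Scheme), ⊤) :=
      isReduced_of_injective (Scheme.Opens.topIso W.1).hom.hom
        (ConcreteCategory.bijective_of_isIso (Scheme.Opens.topIso W.1).hom).1
    exact isReduced_of_isAffine_isReduced _
  exact IsReduced.of_openCover Z 𝒰

/-- fixed-point scheme of a `K`-endomorphism lying over the `q`-Frobenius is reduced -/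
theorem main {k : Type u} [Field k] [Finite k]
    {X : Scheme.{u}} (f : X ⟶ Spec (CommRingCat.of k)) [LocallyOfFiniteType f] (FX : X ⟶ X)
    (hle : ∀ U : X.Opens, U ≤ FX ⁻¹ᵁ U)
    (hFapp : ∀ (U : X.Opens) (s : Γ(X, U)), (FX.appLE U U (hle U)).hom s = s ^ Nat.card k)
    (K : Type u) [Field K] [Algebra k K]
    (F : FinFr.ext K f ⟶ FinFr.ext K f)
    (hF1 : F ≫ FinFr.extπ K f = FinFr.extπ K f ≫ FX)
    (hF2 : F ≫ FinFr.extStr K f = FinFr.extStr K f) :
    IsReduced (FinFr.fixScheme (FinFr.extStr K f) F hF2) := by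
  have hq1 : 1 ≤ Nat.card k := Nat.card_pos
  have hq0 : ∀ U : X.Opens, (Nat.card k : Γ(X, U)) = 0 := by
    intro U
    let ρ : k →+* Γ(X, U) :=
      (f.appLE ⊤ U le_top).hom.comp (Scheme.ΓSpecIso (CommRingCat.of k)).inv.hom
    letI := Fintype.ofFinite k
    have h0 : (Nat.card k : k) = 0 := by
      rw [Nat.card_eq_fintype_card]
      exact FiniteField.cast_card_eq_zero k
    have := congrArg ρ h0
    rwa [map_natCast, map_zero] at this
  set p := FinFr.extStr K f with hp
  set π := FinFr.extπ K f with hπ
  let i : FinFr.fixScheme p F hF2 ⟶ FinFr.ext K f := pullback.fst _ _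
  let j : FinFr.fixScheme p F hF2 ⟶ FinFr.ext K f := pullback.snd _ _
  have hcond : i ≫ pullback.lift (𝟙 _) F (by rw [hF2, Category.id_comp]) =
      j ≫ pullback.lift (𝟙 _) (𝟙 _) rfl := pullback.condition
  have hij : i = j := by
    have := congr($hcond ≫ pullback.fst p p)
    simp only [Category.assoc, pullback.lift_fst, Category.comp_id] at this
    exact this
  have hiF : i ≫ F = i := by
    have := congr($hcond ≫ pullback.snd p p)
    simp only [Category.assoc, pullback.lift_snd, Category.comp_id] at this
    rw [this, hij]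
  have hmono : ∀ {T : Scheme.{u}} (g₁ g₂ : T ⟶ FinFr.fixScheme p F hF2),
      g₁ ≫ i = g₂ ≫ i → g₁ = g₂ := by
    intro T g₁ g₂ h
    refine pullback.hom_ext h ?_
    change g₁ ≫ j = g₂ ≫ j
    rw [← hij]; exact h
  haveI hfu : FormallyUnramified (i ≫ p) := by
    apply FormallyUnramified.of_hom_ext
    intro R S φ hsurj hker g₁ g₂ h hpp
    apply hmono
    refine pullback.hom_ext ?_ (by simpa using hpp)
    have e1 : ∀ g : Spec R ⟶ FinFr.fixScheme p F hF2, (g ≫ i) ≫ π = ((g ≫ i) ≫ π) ≫ FX := by
      intro g
      rw [Category.assoc (g ≫ i), ← hF1]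
      conv_lhs => rw [← hiF]
      simp only [Category.assoc]
    change (g₁ ≫ i) ≫ π = (g₂ ≫ i) ≫ π
    rw [e1 g₁, e1 g₂]
    apply FrobNil.frob_comp_eq FX _ hle hFapp hq1 hq0 φ hsurj hker
    simp only [← Category.assoc, h]
  haveI : LocallyOfFiniteType (pullback.lift (𝟙 (FinFr.ext K f)) (𝟙 _) rfl :
      FinFr.ext K f ⟶ pullback p p) := by
    haveI : LocallyOfFiniteType ((pullback.lift (𝟙 (FinFr.ext K f)) (𝟙 _) rfl :
      FinFr.ext K f ⟶ pullback p p) ≫ pullback.fst p p) := by
      rw [pullback.lift_fst]; infer_instance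
    exact locallyOfFiniteType_of_comp _ (pullback.fst p p)
  haveI : LocallyOfFiniteType i := by
    change LocallyOfFiniteType (pullback.fst _ _)
    infer_instance
  haveI : LocallyOfFiniteType p := by
    change LocallyOfFiniteType (pullback.snd _ _)
    infer_instance
  exact isReduced_of_formallyUnramified (i ≫ p)

end Groth.Agent.Helper3.FrobFix
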