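import Mathlib

set_option autoImplicit false
set_option linter.style.haveILetI false
set_option linter.unusedSectionVars false
set_option linter.unusedVariables false
set_option linter.style.haveILetI false
set_option linter.unusedSectionVars false
set_option linter.unusedVariables false

universe u
open scoped TensorProduct

namespace Groth.Agent.Helper3.FrobHt

variable {R : Type u} [CommRing R] {A : Type u} [CommRing A] [Algebra R A] (ε : A →ₐ[R] R)

/-- the base-changed augmentation -/
noncomputable def εK (K : Type u) [Field K] [Algebra R K] : K ⊗[R] A →ₐ[K] K :=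
  Algebra.TensorProduct.lift (AlgHom.id K K) ((Algebra.ofId R K).comp ε) (fun _ _ => Commute.all _ _)

lemma εK_tmul (K : Type u) [Field K] [Algebra R K] (c : K) (a : A) :
    εK ε K (c ⊗ₜ a) = c * algebraMap R K (ε a) := by
  simp [εK, Algebra.ofId_apply]

include ε in
/-- elements of the augmentation ideal nilpotent => base change: kernel of augmentation is nil -/
lemma sub_mem_nilradical (hnil : ∀ a : A, ε a = 0 → IsNilpotent a)
    (K : Type u) [Field K] [Algebra R K] (x : K ⊗[R] A) :
    x - algebraMap K (K ⊗[R] A) (εK ε K x) ∈ nilradical (K ⊗[R] A) := by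
  induction x using TensorProduct.induction_on with
  | zero => simp
  | tmul c a =>
    have hb : IsNilpotent (a - algebraMap R A (ε a)) := by
      apply hnil
      rw [map_sub, AlgHom.commutes, Algebra.algebraMap_self, RingHom.id_apply, sub_self]
    have h0 : (c * algebraMap R K (ε a)) ⊗ₜ[R] (1 : A) = c ⊗ₜ[R] algebraMap R A (ε a) := by
      rw [Algebra.algebraMap_eq_smul_one (A := A) (ε a), TensorProduct.tmul_smul,
        TensorProduct.smul_tmul', Algebra.smul_def, mul_comm]
    have h1 : c ⊗ₜ[R] a - algebraMap K (K ⊗[R] A) (εK ε K (c ⊗ₜ a)) =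
        (c ⊗ₜ[R] (1 : A)) * ((1 : K) ⊗ₜ[R] (a - algebraMap R A (ε a))) := by
      rw [εK_tmul, Algebra.TensorProduct.algebraMap_apply, Algebra.algebraMap_self,
        RingHom.id_apply, Algebra.TensorProduct.tmul_mul_tmul, mul_one, one_mul,
        TensorProduct.tmul_sub, h0]
    rw [h1]
    apply Ideal.mul_mem_left
    rw [mem_nilradical]
    obtain ⟨n, hn⟩ := hb
    exact ⟨n, by rw [Algebra.TensorProduct.tmul_pow, hn, one_pow, TensorProduct.tmul_zero]⟩
  | add x y hx hy =>
    have : x + y - algebraMap K (K ⊗[R] A) (εK ε K (x + y)) =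
        (x - algebraMap K (K ⊗[R] A) (εK ε K x)) + (y - algebraMap K (K ⊗[R] A) (εK ε K y)) := by
      rw [map_add, map_add]; ring
    rw [this]
    exact Ideal.add_mem _ hx hy

include ε in
lemma isLocalRing_of_nil (hnil : ∀ a : A, ε a = 0 → IsNilpotent a)
    (K : Type u) [Field K] [Algebra R K] : IsLocalRing (K ⊗[R] A) := by
  haveI : Nontrivial (K ⊗[R] A) := by
    refine ⟨⟨0, 1, fun h => ?_⟩⟩
    have := congrArg (εK ε K) h
    rw [map_zero, map_one] at this
    exact zero_ne_one this
  refine IsLocalRing.of_isUnit_or_isUnit_one_sub_self fun x => ?_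
  have hx := sub_mem_nilradical ε hnil K x
  rw [mem_nilradical] at hx
  by_cases h0 : εK ε K x = 0
  · right
    rw [h0, map_zero, sub_zero] at hx
    exact hx.isUnit_one_sub
  · left
    have hu : IsUnit (algebraMap K (K ⊗[R] A) (εK ε K x)) := (isUnit_iff_ne_zero.mpr h0).map _
    have : x = (x - algebraMap K (K ⊗[R] A) (εK ε K x)) + algebraMap K (K ⊗[R] A) (εK ε K x) := by
      ring
    rw [this]
    exact hx.isUnit_add_right_of_commute hu (Commute.all _ _)

include ε in
lemma finite_of_nil [Algebra.FiniteType R A] (hnil : ∀ a : A, ε a = 0 → IsNilpotent a) :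
    Module.Finite R A := by
  haveI : Algebra.IsIntegral R A := by
    refine ⟨fun a => ?_⟩
    have hb : IsNilpotent (a - algebraMap R A (ε a)) := by
      apply hnil
      rw [map_sub, AlgHom.commutes, Algebra.algebraMap_self, RingHom.id_apply, sub_self]
    have : a = (a - algebraMap R A (ε a)) + algebraMap R A (ε a) := by ring
    rw [this]
    have hint : IsIntegral R (a - algebraMap R A (ε a)) := by
      obtain ⟨n, hn⟩ := hb
      refine ⟨Polynomial.X ^ n, Polynomial.monic_X_pow n, ?_⟩
      simp [hn]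
    exact hint.add isIntegral_algebraMap
  exact Algebra.IsIntegral.finite

include ε in
/-- augmentation ideal contained in the nilradical if all geometric fibres are local -/
lemma mem_nilradical_of_local
    (hloc : ∀ (K : Type u) [Field K] [IsAlgClosed K] [Algebra R K], IsLocalRing (K ⊗[R] A))
    (a : A) (ha : ε a = 0) : a ∈ nilradical A := by
  rw [nilradical_eq_sInf, Ideal.mem_sInf]
  intro q hq
  haveI : q.IsPrime := hq
  let L := FractionRing (A ⧸ q)
  let K := AlgebraicClosure L
  let χ₀ : A →+* K := (algebraMap L K).comp ((algebraMap (A ⧸ q) L).comp (Ideal.Quotient.mk q))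
  letI : Algebra R K := (χ₀.comp (algebraMap R A)).toAlgebra
  let χ : A →ₐ[R] K := { χ₀ with commutes' := fun r => rfl }
  let χK : K ⊗[R] A →ₐ[K] K :=
    Algebra.TensorProduct.lift (AlgHom.id K K) χ (fun _ _ => Commute.all _ _)
  haveI := hloc K
  have hsurj : ∀ (φ : K ⊗[R] A →ₐ[K] K), (RingHom.ker (φ : K ⊗[R] A →+* K)).IsMaximal := by
    intro φ
    apply RingHom.ker_isMaximal_of_surjective
    intro c
    exact ⟨algebraMap K _ c, by
      change φ (algebraMap K (K ⊗[R] A) c) = c
      rw [AlgHom.commutes]; rfl⟩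
  have h1 := IsLocalRing.eq_maximalIdeal (hsurj (εK ε K))
  have h2 := IsLocalRing.eq_maximalIdeal (hsurj χK)
  have h3 : ((1 : K) ⊗ₜ[R] a) ∈ RingHom.ker (εK ε K : K ⊗[R] A →+* K) := by
    rw [RingHom.mem_ker]
    change εK ε K _ = 0
    rw [εK_tmul, ha, map_zero, mul_zero]
  rw [h1, ← h2, RingHom.mem_ker] at h3
  have h4 : χ₀ a = 0 := by
    have : χK ((1 : K) ⊗ₜ[R] a) = χ₀ a := by
      simp [χK, χ]
    rw [← this]; exact h3
  have h5 : Function.Injective ((algebraMap L K).comp (algebraMap (A ⧸ q) L)) :=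
    (algebraMap L K).injective.comp (IsFractionRing.injective (A ⧸ q) L)
  have h6 : Ideal.Quotient.mk q a = 0 := h5 (by simpa [χ₀] using h4)
  exact Ideal.Quotient.eq_zero_iff_mem.mp h6

theorem main (p : ℕ) [Fact p.Prime] [IsNoetherianRing R] [Algebra.FiniteType R A] :
    (∃ n : ℕ, ∀ a : A, ε a = 0 → a ^ p ^ n = 0) ↔
      (Module.Finite R A ∧
        ∀ (K : Type u) [Field K] [IsAlgClosed K] [Algebra R K], IsLocalRing (K ⊗[R] A)) := by
  constructor
  · rintro ⟨n, hn⟩
    have hnil : ∀ a : A, ε a = 0 → IsNilpotent a := fun a ha => ⟨p ^ n, hn a ha⟩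
    exact ⟨finite_of_nil ε hnil, fun K _ _ _ => isLocalRing_of_nil ε hnil K⟩
  · rintro ⟨hfin, hloc⟩
    haveI : IsNoetherianRing A := IsNoetherianRing.of_finite R A
    obtain ⟨N, hN⟩ := IsNoetherianRing.isNilpotent_nilradical A
    obtain ⟨n, hn⟩ : ∃ n, N ≤ p ^ n :=
      ⟨N, (Nat.lt_pow_self (Fact.out : p.Prime).one_lt).le⟩
    refine ⟨n, fun a ha => ?_⟩
    have h1 : a ^ N ∈ nilradical A ^ N := Ideal.pow_mem_pow (mem_nilradical_of_local ε hloc a ha) N
    rw [hN, Ideal.zero_eq_bot, Ideal.mem_bot] at h1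
    exact pow_eq_zero_of_le hn h1

end Groth.Agent.Helper3.FrobHt
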