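import Mathlib
import Groth.Prelude
import Groth.Agent.Helper3.GRO5
import Groth.Agent.Helper3.LscA
import Groth.Agent.Helper5.ChevL
import Groth.Agent.Lead.VanBCA
import Groth.Agent.Helper5.UOFlat17
import Groth.Agent.Helper5.ChevE

set_option autoImplicit false
set_option linter.style.haveILetI false
set_option linter.unusedSectionVars false
set_option linter.unusedVariables false
set_option linter.deprecated false
set_option linter.style.haveILetI false
set_option linter.unusedSectionVars false
set_option linter.unusedVariables false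

universe u

namespace Groth.Agent.Helper3.GRO

open AlgebraicGeometry CategoryTheory CategoryTheory.Limits TopologicalSpace Topology EGA43

/-- the hypothesis "universally open at the maximal points of the fibre generizing `x`", in terms
of points of `X` -/
def HopenX {X Y : Scheme.{u}} (f : X ⟶ Y) (x : X) : Prop :=
  ∀ ξ : X, f.base ξ = f.base x → x ∈ closure {ξ} →
    (∀ t : X, f.base t = f.base x → ξ ∈ closure {t} → t = ξ) → IsUnivOpenAt f ξ

theorem hopenX_of_fiber {X Y : Scheme.{u}} (f : X ⟶ Y) (x : X)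
    (hopen : ∀ z : ↥(f.fiber (f.base x)), f.asFiber x ∈ closure {z} →
      (∀ z' : ↥(f.fiber (f.base x)), z ∈ closure {z'} → z' = z) →
      IsUnivOpenAt f ((f.fiberι (f.base x)).base z)) : HopenX f x := by
  intro ξ hξ hxξ hmax
  obtain ⟨z, rfl⟩ : ξ ∈ Set.range (f.fiberι (f.base x)).base := by
    rw [Scheme.Hom.range_fiberι]; exact hξ
  apply hopen z
  · rw [(f.fiberι (f.base x)).isEmbedding.isInducing.closure_eq_preimage_closure_image]
    rw [Set.mem_preimage, Scheme.Hom.fiberι_asFiber, Set.image_singleton]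
    exact hxξ
  · intro z₂ hz₂
    apply (f.fiberι (f.base x)).isEmbedding.injective
    apply hmax
    · have : (f.fiberι (f.base x)).base z₂ ∈ Set.range (f.fiberι (f.base x)).base := ⟨z₂, rfl⟩
      rw [Scheme.Hom.range_fiberι] at this
      exact this
    · have := image_closure_subset_closure_image (f.fiberι (f.base x)).continuous
        (s := {z₂}) ⟨z, hz₂, rfl⟩
      simpa using this

theorem fiber_of_hopenX {X Y : Scheme.{u}} (f : X ⟶ Y) (x : X) (h : HopenX f x) :
    ∀ z : ↥(f.fiber (f.base x)), f.asFiber x ∈ closure {z} →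
      (∀ z' : ↥(f.fiber (f.base x)), z ∈ closure {z'} → z' = z) →
      IsUnivOpenAt f ((f.fiberι (f.base x)).base z) := by
  intro z hz hmax
  apply h
  · have : (f.fiberι (f.base x)).base z ∈ Set.range (f.fiberι (f.base x)).base := ⟨z, rfl⟩
    rw [Scheme.Hom.range_fiberι] at this
    exact this
  · have := image_closure_subset_closure_image (f.fiberι (f.base x)).continuous
      (s := {z}) ⟨f.asFiber x, hz, rfl⟩
    rw [Scheme.Hom.fiberι_asFiber] at this
    simpa using this
  · intro t ht hzt
    obtain ⟨z₂, rfl⟩ : t ∈ Set.range (f.fiberι (f.base x)).base := by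
      rw [Scheme.Hom.range_fiberι]; exact ht
    congr 1
    apply hmax
    rw [(f.fiberι (f.base x)).isEmbedding.isInducing.closure_eq_preimage_closure_image]
    rw [Set.mem_preimage, Set.image_singleton]
    exact hzt

section homeo

variable {X Y X' Y' : Scheme.{u}} {f : X ⟶ Y} {i : Y' ⟶ Y} {f' : X' ⟶ Y'} {pr : X' ⟶ X}

theorem hopenX_of_isPullback (hc : IsPullback pr f' f i) (hi : Function.Injective i.base)
    (hpr : IsEmbedding pr.base) (hsurj : Function.Surjective pr.base) (x' : X')
    (h : HopenX f (pr.base x')) : HopenX f' x' := by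
  have hcomm : ∀ w : X', f.base (pr.base w) = i.base (f'.base w) := fun w => by
    show (pr ≫ f).base w = (f' ≫ i).base w
    rw [hc.w]
  intro ξ' hξ' hxξ' hmax
  apply Groth.Agent.Helper3.Lsc.isUnivOpenAt_of_isPullback (g := f) (x := pr.base ξ') _ hc ξ' rfl
  apply h
  · rw [hcomm, hcomm, hξ']
  · have := image_closure_subset_closure_image pr.continuous (s := {ξ'}) ⟨x', hxξ', rfl⟩
    simpa using this
  · intro t ht hξt
    obtain ⟨t', rfl⟩ := hsurj t
    congr 1
    apply hmax
    · apply hi
      rw [← hcomm, ← hcomm, ht]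
    · rw [hpr.isInducing.closure_eq_preimage_closure_image]
      rw [Set.mem_preimage, Set.image_singleton]
      exact hξt

/-- universal openness at a point descends along a base change by a surjective closed
immersion -/
theorem isUnivOpenAt_of_isPullback_homeo (hc : IsPullback pr f' f i) [IsClosedImmersion i]
    [Surjective i] (x' : X') (h : IsUnivOpenAt f' x') : IsUnivOpenAt f (pr.base x') := by
  intro T t z hz
  let pT : pullback t i ⟶ T := pullback.fst t i
  let t' : pullback t i ⟶ Y' := pullback.snd t i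
  let q : pullback (pullback.snd f t) pT ⟶ pullback f t := pullback.fst _ _
  let s' : pullback (pullback.snd f t) pT ⟶ pullback t i := pullback.snd _ _
  have hw : (q ≫ pullback.fst f t) ≫ f = (s' ≫ t') ≫ i := by
    rw [Category.assoc, pullback.condition, ← Category.assoc, pullback.condition, Category.assoc,
      Category.assoc, pullback.condition]
  let a : pullback (pullback.snd f t) pT ⟶ X' := hc.lift (q ≫ pullback.fst f t) (s' ≫ t') hw
  have ha1 : a ≫ pr = q ≫ pullback.fst f t := hc.lift_fst _ _ _
  have ha2 : a ≫ f' = s' ≫ t' := hc.lift_snd _ _ _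
  have hbig : IsPullback (q ≫ pullback.fst f t) s' f (pT ≫ t) :=
    (IsPullback.of_hasPullback (pullback.snd f t) pT).paste_horiz (IsPullback.of_hasPullback f t)
  have hbig' : IsPullback (a ≫ pr) s' f (t' ≫ i) := by
    rw [ha1, ← (pullback.condition : pT ≫ t = t' ≫ i)]
    exact hbig
  have hsq : IsPullback a s' f' t' := IsPullback.of_right hbig' ha2 hc
  haveI : IsClosedImmersion pT := MorphismProperty.pullback_fst _ _ inferInstance
  haveI : Surjective pT := MorphismProperty.pullback_fst _ _ inferInstance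
  haveI : Surjective q := MorphismProperty.pullback_fst _ _ inferInstance
  haveI : IsClosedImmersion pr := MorphismProperty.of_isPullback hc.flip inferInstance
  obtain ⟨z', hz'⟩ := q.surjective z
  have haz' : a.base z' = x' := by
    apply pr.isEmbedding.injective
    show (a ≫ pr).base z' = pr.base x'
    rw [ha1, Scheme.Hom.comp_base, TopCat.comp_app, hz', hz]
  have hopen : IsOpenAt s'.base z' :=
    Groth.Agent.Helper3.Lsc.isOpenAt_of_isPullback f' h hsq z' haz'
  have hpTopen : IsOpenMap pT.base :=
    (pT.isEmbedding.toHomeomorphOfSurjective pT.surjective).isOpenMap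
  intro N hN
  have h1 : q.base ⁻¹' N ∈ nhds z' := q.continuous.continuousAt (by rw [hz']; exact hN)
  have h2 := hopen _ h1
  have h3 := hpTopen.image_mem_nhds h2
  have hcomm : ∀ w, pT.base (s'.base w) = (pullback.snd f t).base (q.base w) := fun w => by
    show (s' ≫ pT).base w = (q ≫ pullback.snd f t).base w
    rw [pullback.condition]
  rw [hcomm, hz'] at h3
  refine Filter.mem_of_superset h3 ?_
  rintro _ ⟨_, ⟨w, hw, rfl⟩, rfl⟩
  exact ⟨q.base w, hw, (hcomm w).symm⟩

end homeo


/-- S3407 -/
theorem exists_nhd_universallyOpen {X Y : Scheme.{u}} [IsLocallyNoetherian Y] (f : X ⟶ Y)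
    [LocallyOfFiniteType f] (x : X)
    (hopen : ∀ z : ↥(f.fiber (f.base x)), f.asFiber x ∈ closure {z} →
      (∀ z' : ↥(f.fiber (f.base x)), z ∈ closure {z'} → z' = z) →
      IsUnivOpenAt f ((f.fiberι (f.base x)).base z))
    (hred : x ∈ E f) :
    ∃ U : X.Opens, x ∈ U ∧ UniversallyOpen (U.ι ≫ f) ∧ ∀ x' : X, x' ∈ U → x' ∈ E f := by
  -- the reduced base
  let I := Scheme.IdealSheafData.vanishingIdeal (⊤ : Closeds Y)
  let Y' : Scheme.{u} := I.subscheme
  let i : Y' ⟶ Y := I.subschemeι
  haveI : IsReduced Y' := Groth.Agent.Lead.VanBCA.isReduced_subscheme_vanishingIdeal ⊤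
  have hri : Set.range i.base = Set.univ := by
    rw [Scheme.IdealSheafData.range_subschemeι, Scheme.IdealSheafData.coe_support_vanishingIdeal]
    rfl
  haveI : Surjective i := ⟨Set.range_eq_univ.1 hri⟩
  haveI : IsLocallyNoetherian Y' := LocallyOfFiniteType.isLocallyNoetherian i
  let X' := pullback f i
  let f' : X' ⟶ Y' := pullback.snd f i
  let pr : X' ⟶ X := pullback.fst f i
  have hc : IsPullback pr f' f i := IsPullback.of_hasPullback f i
  haveI : IsClosedImmersion pr := MorphismProperty.pullback_fst _ _ inferInstance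
  haveI : Surjective pr := MorphismProperty.pullback_fst _ _ inferInstance
  have hpropen : IsOpenMap pr.base :=
    (pr.isEmbedding.toHomeomorphOfSurjective pr.surjective).isOpenMap
  obtain ⟨x', rfl⟩ := pr.surjective x
  have hopen' := fiber_of_hopenX f' x' (hopenX_of_isPullback hc i.isEmbedding.injective
    pr.isEmbedding pr.surjective x' (hopenX_of_fiber f _ hopen))
  have hred' : x' ∈ E f' := (mem_E_iff_of_isPullback hc x').2 hred
  obtain ⟨U', hxU', hU'flat, -⟩ := Groth.Agent.Helper5.UOFlat.s3408 f' x' hopen' hred' inferInstance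
  haveI := hU'flat
  haveI : LocallyOfFinitePresentation (U'.ι ≫ f') :=
    LocallyOfFinitePresentation.iff_locallyOfFiniteType.2 inferInstance
  have hG : IsOpen (E (U'.ι ≫ f')) := isOpen_E (U'.ι ≫ f')
  let W' : Set X' := U'.ι.base '' E (U'.ι ≫ f')
  have hW'open : IsOpen W' := U'.ι.isOpenEmbedding.isOpenMap _ hG
  have hx'W' : x' ∈ W' := ⟨⟨x', hxU'⟩, (mem_E_comp_iff U'.ι f' ⟨x', hxU'⟩).2 hred', rfl⟩
  have hW'E : ∀ w ∈ W', w ∈ E f' := by
    rintro _ ⟨u, hu, rfl⟩
    exact (mem_E_comp_iff U'.ι f' u).1 hu
  have hW'uo : ∀ w ∈ W', IsUnivOpenAt f' w := by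
    rintro _ ⟨u, hu, rfl⟩
    haveI : UniversallyOpen (U'.ι ≫ f') := inferInstance
    exact Groth.Agent.Helper5.Chev.isUnivOpenAt_of_comp U'.ι f' u
      (Groth.Agent.Helper3.Lsc.isUnivOpenAt_of_universallyOpen (U'.ι ≫ f') u)
  let U : X.Opens := ⟨pr.base '' W', hpropen _ hW'open⟩
  refine ⟨U, ⟨x', hx'W', rfl⟩, ?_, ?_⟩
  · apply Groth.Agent.Helper5.Chev.universallyOpen_of_forall_isUnivOpenAt
    intro u
    apply Groth.Agent.Helper3.Lsc.isUnivOpenAt_comp_of_isOpenImmersion
    obtain ⟨w, hw, hwu⟩ := u.2
    have := isUnivOpenAt_of_isPullback_homeo hc w (hW'uo w hw)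
    rw [hwu] at this
    exact this
  · rintro _ ⟨w, hw, rfl⟩
    exact (mem_E_iff_of_isPullback hc w).1 (hW'E w hw)

end Groth.Agent.Helper3.GRO
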