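import Mathlib
import Groth.Prelude
import Groth.Agent.Helper3.GRO5
import Groth.Agent.S1364
import Groth.Agent.Helper4.GeomFibBC
import Groth.Agent.Helper5.RedNear5

set_option autoImplicit false
set_option linter.style.haveILetI false
set_option linter.unusedSectionVars false
set_option linter.unusedVariables false
set_option linter.deprecated false
set_option linter.style.haveILetI false
set_option linter.unusedSectionVars false
set_option linter.unusedVariables false

universe u

namespace Groth.Agent.Helper3.GRO

open AlgebraicGeometry CategoryTheory CategoryTheory.Limits TopologicalSpace Topology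
open Groth.Agent.Helper5.SecNb

/-- the fibre over `y` is geometrically reduced iff all its points lie in the locus -/
theorem geometricallyReduced_fiber_iff_forall {X Y : Scheme.{u}} (f : X ⟶ Y) (y : Y) :
    GeometricallyReduced (f.fiberToSpecResidueField y) ↔ ∀ x : X, f.base x = y → x ∈ E f := by
  constructor
  · intro h x hx
    subst hx
    exact @geomReducedAt_of_geometricallyReduced _ _ _ _ h _
  · intro h
    apply geometricallyReduced_of_forall
    intro w
    rw [← mem_E_iff_fiber f y w]
    apply h
    have : (f.fiberι y).base w ∈ Set.range (f.fiberι y).base := ⟨w, rfl⟩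
    rw [Scheme.Hom.range_fiberι] at this
    exact this

/-- S5935 -/
theorem isOpen_geomReduced_and_nGeomConnComp_eq {X Y : Scheme.{u}} (f : X ⟶ Y) [IsProper f]
    [Flat f] [LocallyOfFinitePresentation f] (k : ℕ) :
    IsOpen {y : Y | GeometricallyReduced (f.fiberToSpecResidueField y) ∧
      MoreMor.nGeomConnComp f y = k} := by
  have hE : IsOpen (E f) := isOpen_E f
  have hV : IsOpen {y : Y | ∀ x : X, f.base x = y → x ∈ E f} := by
    have h1 : IsClosed (f.base '' (E f)ᶜ) := f.isClosedMap _ hE.isClosed_compl
    have h2 : {y : Y | ∀ x : X, f.base x = y → x ∈ E f} = (f.base '' (E f)ᶜ)ᶜ := by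
      ext y
      simp only [Set.mem_setOf_eq, Set.mem_compl_iff, Set.mem_image, not_exists, not_and]
      constructor
      · intro h x hx hxy; exact hx (h x hxy)
      · intro h x hxy; by_contra hx; exact h x hx hxy
    rw [h2]; exact h1.isOpen_compl
  let V : Y.Opens := ⟨_, hV⟩
  have sqV : IsPullback (f ⁻¹ᵁ V).ι (f ∣_ V) f V.ι := (isPullback_morphismRestrict f V).flip
  haveI : GeometricallyReduced (f ∣_ V) := by
    rw [geometricallyReduced_iff, geometrically_iff_forall_fiberToSpecResidueField]
    intro v
    rw [← geometricallyReduced_iff]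
    exact (Groth.Agent.Helper5.RedNear.geometricallyReduced_fiber_iff sqV v).2
      ((geometricallyReduced_fiber_iff_forall f (V.ι.base v)).2 v.2)
  have hlc := Groth.Agent.S1364.result (f ∣_ V)
  have hn : ∀ v : ↥V, MoreMor.nGeomConnComp (f ∣_ V) v = MoreMor.nGeomConnComp f (V.ι.base v) :=
    fun v => (Groth.Agent.Helper4.GeomFibBC.geomFiber_card_eq f (f ∣_ V) _ _ sqV v).2
  have hopen : IsOpen {v : ↥V | MoreMor.nGeomConnComp (f ∣_ V) v = k} :=
    hlc.isOpen_fiber _
  have heq : {y : Y | GeometricallyReduced (f.fiberToSpecResidueField y) ∧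
      MoreMor.nGeomConnComp f y = k} = V.ι.base '' {v : ↥V | MoreMor.nGeomConnComp (f ∣_ V) v = k} := by
    ext y
    constructor
    · rintro ⟨h1, h2⟩
      have hyV : y ∈ V := (geometricallyReduced_fiber_iff_forall f y).1 h1
      refine ⟨⟨y, hyV⟩, ?_, rfl⟩
      show MoreMor.nGeomConnComp (f ∣_ V) ⟨y, hyV⟩ = k
      rw [hn]; exact h2
    · rintro ⟨v, hv, rfl⟩
      refine ⟨(geometricallyReduced_fiber_iff_forall f _).2 v.2, ?_⟩
      rw [← hn]; exact hv
  rw [heq]
  exact V.ι.isOpenEmbedding.isOpenMap _ hopen

end Groth.Agent.Helper3.GRO
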