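import Mathlib
import Groth.Prelude
import Groth.Agent.Helper3.GRO8

set_option autoImplicit false
set_option linter.style.haveILetI false
set_option linter.unusedSectionVars false
set_option linter.unusedVariables false
set_option linter.deprecated false
set_option linter.style.haveILetI false
set_option linter.unusedSectionVars false
set_option linter.unusedVariables false

universe u

namespace Groth.Agent.Helper3.GRO

open AlgebraicGeometry CategoryTheory CategoryTheory.Limits TopologicalSpace Topology

/-- for a flat lfp closed morphism (e.g. proper), the set of points of the target with geometrically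
reduced fibre is open (S0435) -/
theorem isOpen_geometricallyReduced_fiber {X Y : Scheme.{u}} (f : X ⟶ Y) [Flat f]
    [LocallyOfFinitePresentation f] (hcl : IsClosedMap f.base) :
    IsOpen {y : Y | GeometricallyReduced (f.fiberToSpecResidueField y)} := by
  have hE : IsOpen (E f) := isOpen_E f
  have h1 : IsClosed (f.base '' (E f)ᶜ) := hcl _ hE.isClosed_compl
  have h2 : {y : Y | GeometricallyReduced (f.fiberToSpecResidueField y)} = (f.base '' (E f)ᶜ)ᶜ := by
    ext y
    simp only [Set.mem_setOf_eq, Set.mem_compl_iff, Set.mem_image, not_exists, not_and]
    rw [geometricallyReduced_fiber_iff_forall]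
    constructor
    · intro h x hx hxy; exact hx (h x hxy)
    · intro h x hxy; by_contra hx; exact h x hx hxy
  rw [h2]; exact h1.isOpen_compl

end Groth.Agent.Helper3.GRO
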