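import Mathlib
import Groth.Prelude.Def_CAlgX
import Groth.Agent.Helper2.EssFP
import Groth.Agent.Helper2.InjFlatFin

set_option autoImplicit false
set_option linter.style.haveILetI false
set_option linter.unusedSectionVars false
set_option linter.unusedVariables false
set_option linter.deprecated false
set_option linter.style.haveILetI false
set_option linter.unusedSectionVars false
set_option linter.unusedVariables false

/-!
# Global slicing: a fibrewise nonzerodivisor on a flat finitely presented algebra
-/

namespace Groth.Agent.Helper3.GSlice
open IsLocalRing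

universe u

/-- the local step -/
theorem local_step {R S : Type u} [CommRing R] [CommRing S] [Algebra R S]
    [Algebra.FinitePresentation R S] [Module.Flat R S] (f : S)
    (q : Ideal S) [q.IsPrime]
    (hf : ∀ t : Localization.AtPrime q,
      algebraMap S (Localization.AtPrime q) f * t ∈
          (q.comap (algebraMap R S)).map (algebraMap R (Localization.AtPrime q)) →
        t ∈ (q.comap (algebraMap R S)).map (algebraMap R (Localization.AtPrime q))) :
    (∀ t : Localization.AtPrime q, algebraMap S (Localization.AtPrime q) f * t = 0 → t = 0) ∧
      Module.Flat R (Localization.AtPrime q ⧸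
        Ideal.span {algebraMap S (Localization.AtPrime q) f}) := by
  classical
  let T := Localization.AtPrime q
  obtain ⟨p, hp⟩ : ∃ p : Ideal R, p = q.comap (algebraMap R S) := ⟨_, rfl⟩
  haveI hpp : p.IsPrime := hp ▸ Ideal.comap_isPrime _ _
  rw [← hp] at hf
  have hunits : ∀ y : p.primeCompl, IsUnit (algebraMap R T (y : R)) := by
    intro y
    rw [IsScalarTower.algebraMap_apply R S T]
    refine IsLocalization.map_units T (⟨algebraMap R S y, ?_⟩ : q.primeCompl)
    intro h
    have h6 : (y : R) ∈ q.comap (algebraMap R S) := h
    rw [← hp] at h6
    exact y.2 h6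
  letI algRpT : Algebra (Localization.AtPrime p) T :=
    (IsLocalization.lift (M := p.primeCompl) (g := algebraMap R T) hunits).toAlgebra
  haveI tw : IsScalarTower R (Localization.AtPrime p) T :=
    IsScalarTower.of_algebraMap_eq (fun r => by
      show algebraMap R T r =
        IsLocalization.lift hunits (algebraMap R (Localization.AtPrime p) r)
      rw [IsLocalization.lift_eq])
  have hmaxmap : (maximalIdeal (Localization.AtPrime p)).map
      (algebraMap (Localization.AtPrime p) T) = p.map (algebraMap R T) := by
    rw [← Localization.AtPrime.map_eq_maximalIdeal, Ideal.map_map,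
      ← IsScalarTower.algebraMap_eq]
  haveI hlochom : IsLocalHom (algebraMap (Localization.AtPrime p) T) := by
    refine ((IsLocalRing.local_hom_TFAE (algebraMap (Localization.AtPrime p) T)).out 0 2).mpr ?_
    rw [hmaxmap, Ideal.map_le_iff_le_comap]
    intro x hx
    rw [Ideal.mem_comap, IsScalarTower.algebraMap_apply R S T]
    rw [← Localization.AtPrime.map_eq_maximalIdeal]
    exact Ideal.mem_map_of_mem _ (by rw [hp] at hx; exact hx)
  have hess : CAlgX.IsEssFinitePresentation (Localization.AtPrime p) T :=
    Groth.Agent.Helper2.EssFP.essFP_of_atPrime (A := R) (B := S) p q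
      (fun a ha h => ha (by rw [hp]; exact h)) (Localization.AtPrime p) T
  haveI hflatS : Module.Flat S T := IsLocalization.flat T q.primeCompl
  haveI hflatR : Module.Flat R T := Module.Flat.trans R S T
  haveI hflatRp : Module.Flat (Localization.AtPrime p) T :=
    (Module.flat_iff_of_isLocalization (Localization.AtPrime p) p.primeCompl T).mpr hflatR
  let f' : T := algebraMap S T f
  have hJ : (p.map (algebraMap R T)) • (⊤ : Submodule T T) = p.map (algebraMap R T) := by
    rw [smul_eq_mul, Ideal.mul_top]
  have key := Groth.Agent.Helper2.InjFlatFin.s2107 hess (M := T) (N := T)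
    (LinearMap.lsmul T T f') (by
      intro z hz
      rw [hmaxmap, hJ] at hz ⊢
      exact hf z hz)
  obtain ⟨hinj, hfl⟩ := key
  refine ⟨fun z hz => hinj (by rw [map_zero]; exact hz), ?_⟩
  have hrange : LinearMap.range (LinearMap.lsmul T T f') = Ideal.span {f'} := by
    ext z
    rw [LinearMap.mem_range, Ideal.mem_span_singleton']
    constructor
    · rintro ⟨a, rfl⟩
      exact ⟨a, mul_comm _ _⟩
    · rintro ⟨a, rfl⟩
      exact ⟨a, mul_comm _ _⟩
  have hfl2 : Module.Flat (Localization.AtPrime p) (T ⧸ Ideal.span {f'}) :=
    Module.Flat.of_linearEquiv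
      ((Submodule.quotEquivOfEq _ _ hrange).restrictScalars (Localization.AtPrime p)).symm
  exact (Module.flat_iff_of_isLocalization (Localization.AtPrime p) p.primeCompl _).mp hfl2

end Groth.Agent.Helper3.GSlice
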