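import Mathlib
import Groth.Agent.Helper3.GSlice1

set_option autoImplicit false
set_option linter.style.haveILetI false
set_option linter.unusedSectionVars false
set_option linter.unusedVariables false
set_option linter.deprecated false
set_option linter.style.haveILetI false
set_option linter.unusedSectionVars false
set_option linter.unusedVariables false

namespace Groth.Agent.Helper3.GSlice
open IsLocalRing

universe u

/-- **Global slicing.** `S` a flat finitely presented `R`-algebra, `f ∈ S` a nonzerodivisor on the
local rings of all fibres. Then `f` is a nonzerodivisor and `S/(f)` is `R`-flat. -/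
theorem global_slice {R S : Type u} [CommRing R] [CommRing S] [Algebra R S]
    [Algebra.FinitePresentation R S] [Module.Flat R S] (f : S)
    (hf : ∀ (q : Ideal S) [q.IsPrime] (t : Localization.AtPrime q),
      algebraMap S (Localization.AtPrime q) f * t ∈
          (q.comap (algebraMap R S)).map (algebraMap R (Localization.AtPrime q)) →
        t ∈ (q.comap (algebraMap R S)).map (algebraMap R (Localization.AtPrime q))) :
    f ∈ nonZeroDivisors S ∧ Module.Flat R (S ⧸ Ideal.span {f}) := by
  classical
  constructor
  · rw [mem_nonZeroDivisors_iff_right]
    intro s hs
    refine eq_zero_of_localization s (fun q hq => ?_)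
    have h1 := (local_step f q (hf q)).1 (algebraMap S (Localization.AtPrime q) s)
    apply h1
    rw [← map_mul, mul_comm, hs, map_zero]
  · refine Module.flat_of_isLocalized_maximal S (S ⧸ Ideal.span {f})
      (fun P _ => Localization.AtPrime P ⧸ (Ideal.span {f}).localized' (Localization.AtPrime P)
        P.primeCompl (Algebra.linearMap S (Localization.AtPrime P)))
      (fun P _ => (Ideal.span {f}).toLocalizedQuotient' (Localization.AtPrime P)
        P.primeCompl (Algebra.linearMap S (Localization.AtPrime P))) ?_
    intro P hP
    have hI : (Ideal.span {f}).localized' (Localization.AtPrime P)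
        P.primeCompl (Algebra.linearMap S (Localization.AtPrime P)) =
        Ideal.span {algebraMap S (Localization.AtPrime P) f} := by
      rw [Ideal.span, Submodule.localized'_span, Set.image_singleton]
      rfl
    show Module.Flat R (Localization.AtPrime P ⧸ _)
    rw [hI]
    exact (local_step f P (hf P)).2

end Groth.Agent.Helper3.GSlice
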