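import Mathlib
import Groth.Agent.Helper3.GSlice2
import Groth.Agent.Helper9.TensorDomain

set_option autoImplicit false
set_option linter.style.haveILetI false
set_option linter.unusedSectionVars false
set_option linter.unusedVariables false
set_option linter.deprecated false
set_option linter.style.haveILetI false
set_option linter.unusedSectionVars false
set_option linter.unusedVariables false

namespace Groth.Agent.Helper3.GSlice
open IsLocalRing TensorProduct

universe u

section Coord
variable {k : Type u} [Field k] {A : Type u} [CommRing A] [Algebra k A]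
  {ι : Type u} (b : Module.Basis ι k A)
  {R R' : Type u} [CommRing R] [Algebra k R] [CommRing R'] [Algebra k R']

/-- coordinates are natural in the base -/
theorem repr_map (φ : R →ₐ[k] R') (s : R ⊗[k] A) (j : ι) :
    (Algebra.TensorProduct.basis R' b).repr
      (Algebra.TensorProduct.map φ (AlgHom.id k A) s) j =
      φ ((Algebra.TensorProduct.basis R b).repr s j) := by
  induction s using TensorProduct.induction_on with
  | zero => simp
  | tmul x a =>
    rw [Algebra.TensorProduct.map_tmul, Algebra.TensorProduct.basis_repr_tmul,
      Algebra.TensorProduct.basis_repr_tmul]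
    simp only [AlgHom.coe_id, id_eq, Finsupp.smul_apply, Finsupp.mapRange_apply, smul_eq_mul,
      map_mul, AlgHom.commutes]
  | add x y hx hy =>
    rw [map_add, map_add, Finsupp.add_apply, hx, hy, map_add, Finsupp.add_apply, map_add]

/-- membership in an extended ideal, in coordinates -/
theorem mem_map_iff_repr (p : Ideal R) (s : R ⊗[k] A) :
    s ∈ p.map (algebraMap R (R ⊗[k] A)) ↔
      ∀ j, (Algebra.TensorProduct.basis R b).repr s j ∈ p := by
  classical
  constructor
  · intro hs
    have hs' : s ∈ p • (⊤ : Submodule R (R ⊗[k] A)) := by
      rw [Ideal.smul_top_eq_map]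
      exact hs
    intro j
    refine Submodule.smul_induction_on hs' ?_ ?_
    · intro x hx m _
      rw [map_smul, Finsupp.smul_apply, smul_eq_mul]
      exact Ideal.mul_mem_right _ _ hx
    · intro x y hx hy
      rw [map_add, Finsupp.add_apply]
      exact Ideal.add_mem _ hx hy
  · intro h
    rw [← (Algebra.TensorProduct.basis R b).linearCombination_repr s,
      Finsupp.linearCombination_apply, Finsupp.sum]
    refine Ideal.sum_mem _ (fun j _ => ?_)
    rw [Algebra.smul_def]
    exact Ideal.mul_mem_right _ _ (Ideal.mem_map_of_mem _ (h j))

include b in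
/-- the kernel of the map to a "fibre" -/
theorem ker_map_eq {κ : Type u} [Field κ] [Algebra k κ] (ρ : R →ₐ[k] κ) (s : R ⊗[k] A) :
    Algebra.TensorProduct.map ρ (AlgHom.id k A) s = 0 ↔
      s ∈ (RingHom.ker ρ.toRingHom).map (algebraMap R (R ⊗[k] A)) := by
  rw [mem_map_iff_repr b]
  constructor
  · intro h j
    rw [RingHom.mem_ker]
    show ρ _ = 0
    rw [← repr_map b ρ s j, h, map_zero, Finsupp.zero_apply]
  · intro h
    apply (Algebra.TensorProduct.basis κ b).repr.injective
    ext j
    rw [repr_map b ρ s j, map_zero, Finsupp.zero_apply]
    exact h j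

end Coord

end Groth.Agent.Helper3.GSlice
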