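import Mathlib
import Groth.Agent.Helper3.GSlice3

set_option autoImplicit false
set_option linter.style.haveILetI false
set_option linter.unusedSectionVars false
set_option linter.unusedVariables false
set_option linter.deprecated false
set_option linter.style.haveILetI false
set_option linter.unusedSectionVars false
set_option linter.unusedVariables false

namespace Groth.Agent.Helper3.GSlice
open IsLocalRing TensorProduct

universe u

/-- **Slicing `R ⊗ A` by an element with a unit-like coordinate.** `k` algebraically closed, `A` a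
domain of finite type, `f ∈ R ⊗ A` whose coordinates generate the unit ideal at every prime. Then
`f` is a nonzerodivisor with `R`-flat quotient. -/
theorem tensor_slice (k : Type u) [Field k] [IsAlgClosed k]
    (A : Type u) [CommRing A] [Algebra k A] [IsDomain A] [Algebra.FiniteType k A]
    {ι : Type u} (b : Module.Basis ι k A)
    (R : Type u) [CommRing R] [Algebra k R] (f : R ⊗[k] A)
    (hf : ∀ p : Ideal R, p.IsPrime → ∃ j, (Algebra.TensorProduct.basis R b).repr f j ∉ p) :
    f ∈ nonZeroDivisors (R ⊗[k] A) ∧ Module.Flat R ((R ⊗[k] A) ⧸ Ideal.span {f}) := by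
  classical
  haveI : Algebra.FinitePresentation k A := Algebra.FinitePresentation.of_finiteType.mp inferInstance
  haveI : Algebra.FinitePresentation R (R ⊗[k] A) := inferInstance
  haveI : Module.Flat R (R ⊗[k] A) := inferInstance
  refine global_slice f ?_
  intro q hq t ht
  obtain ⟨p, hp⟩ : ∃ p : Ideal R, p = q.comap (algebraMap R (R ⊗[k] A)) := ⟨_, rfl⟩
  haveI hpp : p.IsPrime := hp ▸ Ideal.comap_isPrime _ _
  rw [← hp] at ht ⊢
  let κ := FractionRing (R ⧸ p)
  let ρ : R →ₐ[k] κ := (IsScalarTower.toAlgHom k (R ⧸ p) κ).comp (Ideal.Quotient.mkₐ k p)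
  have hker : RingHom.ker ρ.toRingHom = p := by
    ext x
    rw [RingHom.mem_ker]
    show algebraMap (R ⧸ p) κ (Ideal.Quotient.mk p x) = 0 ↔ _
    rw [map_eq_zero_iff _ (IsFractionRing.injective (R ⧸ p) κ), Ideal.Quotient.eq_zero_iff_mem]
  let ψ := Algebra.TensorProduct.map ρ (AlgHom.id k A)
  haveI hdom : IsDomain (κ ⊗[k] A) := Groth.Agent.Helper9.TensorDomain.isDomain_tensor k A κ
  have hψf : ψ f ≠ 0 := by
    intro h0
    have h1 := (ker_map_eq b ρ f).mp h0
    rw [hker, mem_map_iff_repr b] at h1
    obtain ⟨j, hj⟩ := hf p hpp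
    exact hj (h1 j)
  have hmm : p.map (algebraMap R (Localization.AtPrime q)) =
      (p.map (algebraMap R (R ⊗[k] A))).map (algebraMap (R ⊗[k] A) (Localization.AtPrime q)) := by
    rw [Ideal.map_map, ← IsScalarTower.algebraMap_eq]
  rw [hmm] at ht ⊢
  obtain ⟨s, v, rfl⟩ := IsLocalization.exists_mk'_eq q.primeCompl t
  rw [IsLocalization.mul_mk'_eq_mk'_of_mul, IsLocalization.mk'_mem_map_algebraMap_iff] at ht
  obtain ⟨w, hw, hwfs⟩ := ht
  rw [IsLocalization.mk'_mem_map_algebraMap_iff]
  refine ⟨w, hw, ?_⟩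
  rw [← hker] at hwfs ⊢
  rw [← ker_map_eq b ρ] at hwfs ⊢
  have h2 : ψ f * ψ (w * s) = 0 := by
    rw [← map_mul]
    have : f * (w * s) = w * (f * s) := by ring
    rw [this]
    exact hwfs
  exact (mul_eq_zero.mp h2).resolve_left hψf

end Groth.Agent.Helper3.GSlice
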