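import Mathlib
import Groth.Agent.Helper3.GSlice4

set_option autoImplicit false
set_option linter.style.haveILetI false
set_option linter.unusedSectionVars false
set_option linter.unusedVariables false
set_option linter.deprecated false
set_option linter.style.haveILetI false
set_option linter.unusedSectionVars false
set_option linter.unusedVariables false

namespace Groth.Agent.Helper3.GSlice
open IsLocalRing TensorProduct

universe u

theorem s19308
    (k : Type u) [Field k] [IsAlgClosed k]
    (A : Type u) [CommRing A] [Algebra k A] [IsDomain A] [Algebra.FiniteType k A]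
    (Z : Finset (A →ₐ[k] k))
    (R : Type u) [CommRing R] [Algebra k R]
    (U : TopologicalSpace.Opens (PrimeSpectrum (TensorProduct k R A)))
    (hU : Dense (U : Set (PrimeSpectrum (TensorProduct k R A))))
    (hZ : ∀ z ∈ Z, ∀ q : PrimeSpectrum R,
      PrimeSpectrum.comap (Algebra.TensorProduct.lift (AlgHom.id k R) ((Algebra.ofId k R).comp z)
        (fun _ _ => Commute.all _ _)).toRingHom q ∈ U)
    (hsurj : ∀ q : PrimeSpectrum R, ∃ P ∈ U,
      PrimeSpectrum.comap (Algebra.TensorProduct.includeLeftRingHom : R →+* TensorProduct k R A) P = q)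
    (p : PrimeSpectrum R) :
    ∃ r : R, r ∉ p.asIdeal ∧
      ∃ f : TensorProduct k (Localization.Away r) A,
        f ∈ nonZeroDivisors (TensorProduct k (Localization.Away r) A) ∧
        Module.Flat (Localization.Away r)
          (TensorProduct k (Localization.Away r) A ⧸ Ideal.span {f}) ∧
        (∀ z ∈ Z, IsUnit (Algebra.TensorProduct.lift (AlgHom.id k (Localization.Away r))
          ((Algebra.ofId k (Localization.Away r)).comp z) (fun _ _ => Commute.all _ _) f)) ∧
        (∀ P : PrimeSpectrum (TensorProduct k (Localization.Away r) A), f ∉ P.asIdeal →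
          PrimeSpectrum.comap (Algebra.TensorProduct.map
            (IsScalarTower.toAlgHom k R (Localization.Away r)) (AlgHom.id k A)).toRingHom P ∈ U) := by
  classical
  let S := TensorProduct k R A
  let b := Module.Free.chooseBasis k A
  -- the ideal of the complement of `U`
  let I : Ideal S := PrimeSpectrum.vanishingIdeal ((U : Set (PrimeSpectrum S))ᶜ)
  have hIU : ∀ P : PrimeSpectrum S, P ∈ U ↔ ¬ I ≤ P.asIdeal := by
    intro P
    have h1 : PrimeSpectrum.zeroLocus (I : Set S) = (U : Set (PrimeSpectrum S))ᶜ := by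
      rw [PrimeSpectrum.zeroLocus_vanishingIdeal_eq_closure]
      exact (U.isOpen.isClosed_compl).closure_eq
    have h2 : P ∈ (U : Set (PrimeSpectrum S))ᶜ ↔ I ≤ P.asIdeal := by
      rw [← h1, PrimeSpectrum.mem_zeroLocus]
      rfl
    constructor
    · intro hP hI
      exact (h2.mpr hI) hP
    · intro hI
      by_contra hP
      exact hI (h2.mp hP)
  -- the maps to `R` given by the points
  let zR : (A →ₐ[k] k) → (S →ₐ[k] R) := fun z =>
    Algebra.TensorProduct.lift (AlgHom.id k R) ((Algebra.ofId k R).comp z)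
      (fun _ _ => Commute.all _ _)
  haveI hpp : p.asIdeal.IsPrime := p.2
  -- the primes to avoid
  let P₀ : Ideal S := p.asIdeal.map (algebraMap R S)
  let κ := FractionRing (R ⧸ p.asIdeal)
  let ρ : R →ₐ[k] κ := (IsScalarTower.toAlgHom k (R ⧸ p.asIdeal) κ).comp
    (Ideal.Quotient.mkₐ k p.asIdeal)
  have hker : RingHom.ker ρ.toRingHom = p.asIdeal := by
    ext x
    rw [RingHom.mem_ker]
    show algebraMap (R ⧸ p.asIdeal) κ (Ideal.Quotient.mk p.asIdeal x) = 0 ↔ _
    rw [map_eq_zero_iff _ (IsFractionRing.injective (R ⧸ p.asIdeal) κ),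
      Ideal.Quotient.eq_zero_iff_mem]
  haveI hdom : IsDomain (κ ⊗[k] A) := Groth.Agent.Helper9.TensorDomain.isDomain_tensor k A κ
  have hP₀ : P₀ = RingHom.ker (Algebra.TensorProduct.map ρ (AlgHom.id k A)).toRingHom := by
    ext s
    rw [RingHom.mem_ker]
    show _ ↔ Algebra.TensorProduct.map ρ (AlgHom.id k A) s = 0
    rw [ker_map_eq b ρ s, hker]
  haveI hP₀prime : P₀.IsPrime := by
    rw [hP₀]
    exact RingHom.ker_isPrime _
  let F : Option (A →ₐ[k] k) → Ideal S := fun o =>
    match o with
    | none => P₀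
    | some z => p.asIdeal.comap (zR z).toRingHom
  have hFprime : ∀ o, (F o).IsPrime := by
    intro o
    cases o with
    | none => exact hP₀prime
    | some z => exact Ideal.comap_isPrime _ _
  have hInot : ∀ o ∈ Finset.insertNone Z, ¬ I ≤ F o := by
    intro o ho hle
    cases o with
    | none =>
      obtain ⟨P, hPU, hPp⟩ := hsurj p
      have h1 : P₀ ≤ P.asIdeal := by
        have h2 : p.asIdeal = P.asIdeal.comap (algebraMap R S) := by
          rw [← hPp]
          rfl
        show p.asIdeal.map (algebraMap R S) ≤ P.asIdeal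
        rw [h2]
        exact Ideal.map_comap_le
      exact (hIU P).mp hPU (hle.trans h1)
    | some z =>
      have hz : z ∈ Z := by simpa using ho
      exact (hIU _).mp (hZ z hz p) hle
  have havoid : ¬ ((I : Set S) ⊆ ⋃ o ∈ (↑(Finset.insertNone Z) : Set (Option (A →ₐ[k] k))), F o) := by
    intro hsub
    obtain ⟨o, ho, hle⟩ := (Ideal.subset_union_prime (s := Finset.insertNone Z) (f := F) none none
      (fun o _ _ _ => hFprime o)).mp hsub
    exact hInot o ho hle
  obtain ⟨g, hgI, hgnot⟩ := Set.not_subset.mp havoid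
  have hg₀ : g ∉ P₀ := by
    intro h
    apply hgnot
    refine Set.mem_biUnion (x := none) (by simp) h
  have hgz : ∀ z ∈ Z, zR z g ∉ p.asIdeal := by
    intro z hz h
    apply hgnot
    refine Set.mem_biUnion (x := some z) (by simpa using hz) ?_
    exact h
  -- a coordinate outside `p`
  obtain ⟨j₀, hj₀⟩ : ∃ j, (Algebra.TensorProduct.basis R b).repr g j ∉ p.asIdeal := by
    by_contra hcon
    push Not at hcon
    exact hg₀ ((mem_map_iff_repr b p.asIdeal g).mpr hcon)
  let c₀ : R := (Algebra.TensorProduct.basis R b).repr g j₀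
  let r : R := c₀ * ∏ z ∈ Z, zR z g
  have hr : r ∉ p.asIdeal := by
    intro h
    rcases hpp.mem_or_mem h with h | h
    · exact hj₀ h
    · obtain ⟨z, hz, hzm⟩ := (Ideal.IsPrime.prod_mem_iff.mp h)
      exact hgz z hz hzm
  refine ⟨r, hr, ?_⟩
  let R' := Localization.Away r
  let φ : R →ₐ[k] R' := IsScalarTower.toAlgHom k R R'
  let Φ := Algebra.TensorProduct.map φ (AlgHom.id k A)
  have hrunit : IsUnit (φ r) := IsLocalization.Away.algebraMap_isUnit r
  have hc₀unit : IsUnit (φ c₀) := by
    have : φ r = φ c₀ * φ (∏ z ∈ Z, zR z g) := map_mul _ _ _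
    rw [this] at hrunit
    exact isUnit_of_mul_isUnit_left hrunit
  have hzunit : ∀ z ∈ Z, IsUnit (φ (zR z g)) := by
    intro z hz
    have h1 : zR z g ∣ r := by
      refine Dvd.dvd.mul_left ?_ _
      exact Finset.dvd_prod_of_mem _ hz
    obtain ⟨d, hd⟩ := h1
    have : φ r = φ (zR z g) * φ d := (congrArg φ hd).trans (map_mul _ _ _)
    rw [this] at hrunit
    exact isUnit_of_mul_isUnit_left hrunit
  refine ⟨Φ g, ?_⟩
  have hslice := tensor_slice k A b R' (Φ g) (by
    intro p' hp'
    refine ⟨j₀, ?_⟩
    rw [repr_map b φ g j₀]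
    intro hmem
    exact hp'.ne_top (Ideal.eq_top_of_isUnit_mem _ hmem hc₀unit))
  refine ⟨hslice.1, hslice.2, ?_, ?_⟩
  · intro z hz
    have hcomm : (Algebra.TensorProduct.lift (AlgHom.id k R') ((Algebra.ofId k R').comp z)
        (fun _ _ => Commute.all _ _)).comp Φ = φ.comp (zR z) := by
      apply Algebra.TensorProduct.ext'
      intro x a
      simp only [AlgHom.comp_apply, Φ, zR, Algebra.TensorProduct.map_tmul,
        Algebra.TensorProduct.lift_tmul, AlgHom.coe_id, id_eq, map_mul, Algebra.ofId_apply,
        AlgHom.commutes]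
    have := congrArg (fun h => h g) hcomm
    simp only [AlgHom.comp_apply] at this
    rw [this]
    exact hzunit z hz
  · intro P' hP'
    rw [hIU]
    intro hle
    apply hP'
    exact hle hgI

end Groth.Agent.Helper3.GSlice
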