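import Mathlib
set_option backward.isDefEq.respectTransparency.types false
set_option maxHeartbeats 4000000
set_option synthInstance.maxHeartbeats 400000

universe u
open TensorProduct

namespace Groth.Agent.Helper3.GalTens

/-- `F ⊗_K L` is Noetherian when `F = Frac B`, `B` of finite type over `K`. -/
theorem isNoetherianRing_tensor (K B L : Type u) [Field K]
    [CommRing B] [IsDomain B] [Algebra K B] [Algebra.FiniteType K B] [Field L] [Algebra K L] :
    IsNoetherianRing (FractionRing B ⊗[K] L) := by
  -- B ⊗ L Noetherian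
  haveI h1 : IsNoetherianRing (L ⊗[K] B) := Algebra.FiniteType.isNoetherianRing L (L ⊗[K] B)
  haveI h2 : IsNoetherianRing (B ⊗[K] L) :=
    isNoetherianRing_of_ringEquiv (L ⊗[K] B) (Algebra.TensorProduct.comm K L B).toRingEquiv
  letI : Algebra (B ⊗[K] L) (FractionRing B ⊗[B] (B ⊗[K] L)) :=
    Algebra.TensorProduct.rightAlgebra
  haveI h3 : IsLocalization (Algebra.algebraMapSubmonoid (B ⊗[K] L) (nonZeroDivisors B))
      (FractionRing B ⊗[B] (B ⊗[K] L)) :=
    IsLocalization.tensorRight (FractionRing B) (nonZeroDivisors B)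
  haveI h4 : IsNoetherianRing (FractionRing B ⊗[B] (B ⊗[K] L)) :=
    IsLocalization.isNoetherianRing (Algebra.algebraMapSubmonoid (B ⊗[K] L) (nonZeroDivisors B))
      _ h2
  exact isNoetherianRing_of_ringEquiv _
    (Algebra.TensorProduct.cancelBaseChange K B B (FractionRing B) L).toRingEquiv


theorem finite_primeSpectrum (K B L : Type u) [Field K]
    [CommRing B] [IsDomain B] [Algebra K B] [Algebra.FiniteType K B] [Field L] [Algebra K L]
    [Algebra.IsIntegral K L] :
    Finite (PrimeSpectrum (FractionRing B ⊗[K] L)) := by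
  haveI := isNoetherianRing_tensor K B L
  haveI : Algebra.IsIntegral (FractionRing B) (FractionRing B ⊗[K] L) := inferInstance
  haveI : Ring.KrullDimLE 0 (FractionRing B ⊗[K] L) := by
    apply Ring.KrullDimLE.mk₀
    intro P hP
    apply Ideal.isMaximal_of_isIntegral_of_isMaximal_comap (R := FractionRing B) P
    haveI : (P.comap (algebraMap (FractionRing B) (FractionRing B ⊗[K] L))).IsPrime :=
      hP.comap _
    rw [Ideal.eq_bot_of_prime (P.comap (algebraMap (FractionRing B) (FractionRing B ⊗[K] L)))]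
    exact Ideal.bot_isMaximal
  haveI : IsArtinianRing (FractionRing B ⊗[K] L) :=
    isArtinianRing_iff_krullDimLE_zero.mpr inferInstance
  infer_instance

section
variable (K F L : Type u) [Field K] [Field F] [Algebra K F] [Field L] [Algebra K L]

/-- the action of the Galois group on `F ⊗_K L` through the second factor. -/
noncomputable def actHom : (L ≃ₐ[K] L) →* ((F ⊗[K] L) ≃ₐ[F] (F ⊗[K] L)) where
  toFun g := Algebra.TensorProduct.congr (AlgEquiv.refl : F ≃ₐ[F] F) g
  map_one' := by
    apply AlgEquiv.ext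
    intro t
    induction t using TensorProduct.induction_on with
    | zero => simp
    | tmul f l => simp
    | add x y hx hy => rw [map_add, hx, hy, map_add]
  map_mul' g h := by
    apply AlgEquiv.ext
    intro t
    induction t using TensorProduct.induction_on with
    | zero => simp
    | tmul f l => simp
    | add x y hx hy => rw [map_add, hx, hy, map_add]

@[simp]
theorem actHom_tmul (g : L ≃ₐ[K] L) (f : F) (l : L) :
    actHom K F L g (f ⊗ₜ l) = f ⊗ₜ g l := by
  simp [actHom]

theorem actHom_apply (g : L ≃ₐ[K] L) (t : F ⊗[K] L) :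
    actHom K F L g t =
      Algebra.TensorProduct.map (AlgHom.id K F) (g : L →ₐ[K] L) t := by
  induction t using TensorProduct.induction_on with
  | zero => simp
  | tmul f l => simp
  | add x y hx hy => rw [map_add, hx, hy, map_add]


theorem exists_fixing [Algebra.IsIntegral K L] (t : F ⊗[K] L) :
    ∃ E : IntermediateField K L, FiniteDimensional K E ∧
      ∀ g ∈ E.fixingSubgroup, actHom K F L g t = t := by
  induction t using TensorProduct.induction_on with
  | zero => exact ⟨⊥, inferInstance, fun g _ => map_zero _⟩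
  | tmul f l =>
    refine ⟨IntermediateField.adjoin K {l},
      IntermediateField.adjoin.finiteDimensional (Algebra.IsIntegral.isIntegral l), ?_⟩
    intro g hg
    rw [actHom_tmul]
    congr 1
    exact (IntermediateField.mem_fixingSubgroup_iff _ g).mp hg l
      (IntermediateField.mem_adjoin_simple_self K l)
  | add x y hx hy =>
    obtain ⟨E₁, hE₁, h₁⟩ := hx
    obtain ⟨E₂, hE₂, h₂⟩ := hy
    refine ⟨E₁ ⊔ E₂, IntermediateField.finiteDimensional_sup E₁ E₂, ?_⟩
    intro g hg
    rw [map_add, h₁ g (IntermediateField.fixingSubgroup_antitone le_sup_left hg),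
      h₂ g (IntermediateField.fixingSubgroup_antitone le_sup_right hg)]

theorem isInvariant_aux [IsGalois K L] (t : F ⊗[K] L)
    (ht : ∀ g : L ≃ₐ[K] L, actHom K F L g t = t) :
    ∃ f : F, algebraMap F (F ⊗[K] L) f = t := by
  classical
  let b := Module.Basis.ofVectorSpace K F
  let e := TensorProduct.equivFinsuppOfBasisLeft (N := L) b
  have key : ∀ (g : L ≃ₐ[K] L) (s : F ⊗[K] L) i, e (actHom K F L g s) i = g (e s i) := by
    intro g s i
    induction s using TensorProduct.induction_on with
    | zero => simp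
    | tmul f l =>
      rw [actHom_tmul]
      simp only [e, TensorProduct.equivFinsuppOfBasisLeft_apply_tmul_apply, map_smul]
    | add x y hx hy =>
      rw [map_add, map_add, Finsupp.add_apply, hx, hy, map_add, Finsupp.add_apply, map_add]
  have hfix : ∀ i, e t i ∈ Set.range (algebraMap K L) := by
    intro i
    rw [InfiniteGalois.mem_range_algebraMap_iff_fixed]
    intro g
    rw [← key g t i, ht g]
  choose k hk using hfix
  refine ⟨(e t).sum fun i _ => k i • b i, ?_⟩
  have h1 : t = e.symm (e t) := (e.symm_apply_apply t).symm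
  conv_rhs => rw [h1]
  rw [TensorProduct.equivFinsuppOfBasisLeft_symm_apply]
  rw [Finsupp.sum, Finsupp.sum, map_sum]
  apply Finset.sum_congr rfl
  intro i _
  rw [Algebra.TensorProduct.algebraMap_apply, Algebra.algebraMap_self, RingHom.id_apply,
    ← hk i, Algebra.algebraMap_eq_smul_one, TensorProduct.smul_tmul]


theorem transitive [IsGalois K L] (P Q : Ideal (F ⊗[K] L)) [hP : P.IsPrime] [hQ : Q.IsPrime] :
    ∃ γ : L ≃ₐ[K] L,
      Q = P.comap (Algebra.TensorProduct.map (AlgHom.id K F) (γ : L →ₐ[K] L)) := by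
  letI : MulSemiringAction (L ≃ₐ[K] L) (F ⊗[K] L) :=
    MulSemiringAction.compHom _ (actHom K F L)
  have hsmul : ∀ (g : L ≃ₐ[K] L) (t : F ⊗[K] L), g • t = actHom K F L g t := fun _ _ => rfl
  haveI : SMulCommClass (L ≃ₐ[K] L) F (F ⊗[K] L) :=
    ⟨fun g f t => by rw [hsmul, hsmul, map_smul]⟩
  letI : TopologicalSpace (F ⊗[K] L) := ⊥
  haveI : DiscreteTopology (F ⊗[K] L) := ⟨rfl⟩
  haveI : ContinuousSMul (L ≃ₐ[K] L) (F ⊗[K] L) := by
    constructor
    rw [continuous_prod_of_discrete_right]
    intro t
    rw [continuous_discrete_rng]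
    intro s
    obtain ⟨E, hE, hfix⟩ := exists_fixing K F L t
    rw [isOpen_iff_forall_mem_open]
    intro g₀ hg₀
    refine ⟨(fun g => g₀ * g) '' (E.fixingSubgroup : Set (L ≃ₐ[K] L)), ?_, ?_, ?_⟩
    · rintro _ ⟨h, hh, rfl⟩
      show (g₀ * h) • t = s
      rw [mul_smul, hsmul h, hfix h hh]
      exact hg₀
    · exact (Homeomorph.mulLeft g₀).isOpenMap _ E.fixingSubgroup_isOpen
    · exact ⟨1, E.fixingSubgroup.one_mem, mul_one g₀⟩
  haveI : Algebra.IsInvariant F (F ⊗[K] L) (L ≃ₐ[K] L) :=
    ⟨fun t ht => isInvariant_aux K F L t (fun g => (hsmul g t) ▸ ht g)⟩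
  have hPQ : P.under F = Q.under F := by
    haveI : (P.under F).IsPrime := hP.comap _
    haveI : (Q.under F).IsPrime := hQ.comap _
    rw [Ideal.eq_bot_of_prime (P.under F), Ideal.eq_bot_of_prime (Q.under F)]
  obtain ⟨g, hg⟩ := Algebra.IsInvariant.exists_smul_of_under_eq_of_profinite
    (A := F) (G := L ≃ₐ[K] L) P Q hPQ
  refine ⟨g⁻¹, ?_⟩
  rw [hg, Ideal.pointwise_smul_eq_comap]
  ext t
  simp only [Ideal.mem_comap]
  have : (MulSemiringAction.toRingAut (L ≃ₐ[K] L) (F ⊗[K] L) g)⁻¹ t =
      Algebra.TensorProduct.map (AlgHom.id K F) ((g⁻¹ : L ≃ₐ[K] L) : L →ₐ[K] L) t := by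
    rw [← actHom_apply, ← map_inv]
    rfl
  rw [← this]
  rfl

end


theorem main (K B L : Type u) [Field K]
    [CommRing B] [IsDomain B] [Algebra K B] [Algebra.FiniteType K B] [Field L] [Algebra K L]
    [IsGalois K L] :
    Finite (PrimeSpectrum (TensorProduct K (FractionRing B) L)) ∧
      ∀ P Q : PrimeSpectrum (TensorProduct K (FractionRing B) L), ∃ γ : L ≃ₐ[K] L,
        Q.asIdeal = P.asIdeal.comap
          (Algebra.TensorProduct.map (AlgHom.id K (FractionRing B)) (γ : L →ₐ[K] L)) := by
  refine ⟨finite_primeSpectrum K B L, ?_⟩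
  intro P Q
  haveI := P.isPrime
  haveI := Q.isPrime
  exact transitive K (FractionRing B) L P.asIdeal Q.asIdeal

end Groth.Agent.Helper3.GalTens
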