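import Mathlib
import Groth.Agent.Helper3.GrpImg1
import Groth.Agent.Helper3.TopConstr
import Groth.Agent.Helper5.GrpClosed4
import Groth.Prelude

set_option autoImplicit false
set_option linter.style.haveILetI false
set_option linter.unusedSectionVars false
set_option linter.unusedVariables false
set_option linter.style.haveILetI false
set_option linter.unusedSectionVars false
set_option linter.unusedVariables false

universe u

open AlgebraicGeometry CategoryTheory CategoryTheory.Limits TopologicalSpace Topology
open MonoidalCategory CartesianMonoidalCategory MonObj GrpObj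

namespace Groth.Agent.Helper3.GrpImg2

open Groth.Agent.Helper5.GrpDense Groth.Agent.Helper3.GrpImg1

/-- a locally constructible subset of a locally Noetherian scheme contains a nonempty open subset
of its closure -/
theorem exists_open_of_locallyConstructible {X : Scheme.{u}} [IsLocallyNoetherian X] (R : Set X)
    (hR : IsLocallyConstructible R) (hne : R.Nonempty) :
    ∃ W : Set X, IsOpen W ∧ (R ∩ W).Nonempty ∧ closure R ∩ W ⊆ R := by
  obtain ⟨r, hr⟩ := hne
  obtain ⟨_, ⟨V, hV, rfl⟩, hrV, -⟩ :=
    X.isBasis_affineOpens.exists_subset_of_mem_open (Set.mem_univ r) isOpen_univ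
  haveI : IsNoetherianRing Γ(X, V) := IsLocallyNoetherian.component_noetherian ⟨V, hV⟩
  haveI : NoetherianSpace V := noetherianSpace_of_isAffineOpen V hV
  haveI : IsAffine (V : Scheme.{u}) := hV
  haveI : CompactSpace V := inferInstanceAs (CompactSpace (V : Scheme.{u}))
  haveI : QuasiSeparatedSpace V := inferInstanceAs (QuasiSeparatedSpace (V : Scheme.{u}))
  haveI : PrespectralSpace V := inferInstanceAs (PrespectralSpace (V : Scheme.{u}))
  have h1 : IsLocallyConstructible ((Subtype.val : V → X) ⁻¹' R) :=
    hR.preimage_of_isOpenEmbedding V.isOpen.isOpenEmbedding_subtypeVal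
  have h2 : IsConstructible ((Subtype.val : V → X) ⁻¹' R) :=
    @IsLocallyConstructible.isConstructible _ _ _ ‹PrespectralSpace V› ‹QuasiSeparatedSpace V›
      ‹CompactSpace V› h1
  exact @TopConstr.exists_open_of_open_noetherian _ _ (V : Set X) V.isOpen ‹_› R
    h2 ⟨r, hr, hrV⟩

theorem isOpenMap_snd_of_field (k : Type u) [Field k]
    (H G : Over (Spec (CommRingCat.of k))) : IsOpenMap (snd H G).left := by
  haveI : UniversallyOpen H.hom := universallyOpen_of_artinian k H.hom
  haveI : UniversallyOpen (pullback.snd H.hom G.hom) := inferInstance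
  exact (pullback.snd H.hom G.hom).isOpenMap

theorem isClosed_range (k : Type u) [Field k]
    (H G : Over (Spec (CommRingCat.of k))) [GrpObj H] [GrpObj G]
    [LocallyOfFiniteType H.hom] [LocallyOfFiniteType G.hom]
    (f : H ⟶ G) [IsMonHom f] [QuasiCompact f.left] : IsClosed (Set.range f.left) := by
  haveI : IsLocallyNoetherian G.left := LocallyOfFiniteType.isLocallyNoetherian G.hom
  haveI : LocallyOfFiniteType f.left := by
    have : LocallyOfFiniteType (f.left ≫ G.hom) := by rw [Over.w f]; infer_instance
    exact locallyOfFiniteType_of_comp f.left G.hom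
  haveI : LocallyOfFinitePresentation f.left := inferInstance
  have hR : IsLocallyConstructible (Set.range f.left) := by
    rw [← Set.image_univ]
    exact f.left.isLocallyConstructible_image IsLocallyConstructible.univ
  let pt : (𝟙_ (Over (Spec (CommRingCat.of k)))).left := IsLocalRing.closedPoint k
  obtain ⟨W, hWo, ⟨_, ⟨h₀, rfl⟩, hh₀W⟩, hW⟩ :=
    exists_open_of_locallyConstructible (Set.range f.left) hR ⟨_, η[H].left pt, rfl⟩
  suffices hZ : closure (Set.range f.left) ⊆ Set.range f.left by
    have : Set.range f.left = closure (Set.range f.left) := subset_antisymm subset_closure hZ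
    rw [this]; exact isClosed_closure
  intro g hg
  let T : Over (Spec (CommRingCat.of k)) := Over.mk (G.left.fromSpecResidueField g ≫ G.hom)
  let x₀ : T ⟶ G := Over.homMk (G.left.fromSpecResidueField g) rfl
  let pt₀ : T.left := IsLocalRing.closedPoint (G.left.residueField g)
  obtain ⟨ζ, hζ1, -⟩ := Scheme.Pullback.exists_preimage_pullback (f := H.hom) (g := T.hom)
    h₀ pt₀ (Subsingleton.elim _ _)
  exact mem_range_of_mem_closure' f T x₀ (isOpenMap_fst_of_artinian k G H)
    (isOpenMap_snd_of_field k H G) g hg W hWo hW (isOpenMap_fst_of_artinian k G T)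
    (fun t => Scheme.fromSpecResidueField_apply _ _) ζ (by
      have : (fst H T).left ζ = h₀ := hζ1
      rw [this]; exact hh₀W)

end Groth.Agent.Helper3.GrpImg2
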