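import Mathlib
import Groth.Agent.Helper3.GrpImg2
import Groth.Prelude

set_option autoImplicit false
set_option linter.style.haveILetI false
set_option linter.unusedSectionVars false
set_option linter.unusedVariables false
set_option linter.style.haveILetI false
set_option linter.unusedSectionVars false
set_option linter.unusedVariables false

universe u

open AlgebraicGeometry CategoryTheory CategoryTheory.Limits TopologicalSpace Topology
open MonoidalCategory CartesianMonoidalCategory MonObj GrpObj

namespace Groth.Agent.Helper3.GrpImg3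

open Groth.Agent.Helper5.GrpDense Groth.Agent.Helper3.GrpImg1 Groth.Agent.Helper3.GrpImg2

/-- if `d` is scheme-theoretically dominant and `d ≫ ψ` factors through the closed immersion `i`,
so does `ψ` -/
theorem exists_lift_of_dominant {W V G K : Scheme.{u}} (d : W ⟶ V)
    [IsSchemeTheoreticallyDominant d]
    (ψ : V ⟶ G) (i : K ⟶ G) [IsClosedImmersion i] (a : W ⟶ K) (h : d ≫ ψ = a ≫ i) :
    ∃ b : V ⟶ K, b ≫ i = ψ := by
  let c := pullback.fst ψ i
  haveI : IsClosedImmersion c := inferInstance
  let l : W ⟶ pullback ψ i := pullback.lift d a h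
  have hl : l ≫ c = d := pullback.lift_fst _ _ _
  have hker : c.ker = ⊥ := by
    have h1 : c.ker ≤ (l ≫ c).ker := l.le_ker_comp c
    rw [hl, d.ker_eq_bot] at h1
    exact le_bot_iff.mp h1
  haveI : IsIso c := IsClosedImmersion.isIso_iff_ker_eq_bot.mpr hker
  exact ⟨inv c ≫ pullback.snd ψ i, by
    rw [Category.assoc, ← pullback.condition, IsIso.inv_hom_id_assoc]⟩

section
variable (k : Type u) [Field k]

instance flat_of_field {Y : Scheme.{u}} (p : Y ⟶ Spec (CommRingCat.of k)) : Flat p := inferInstance

theorem std_whiskerRight {H K : Over (Spec (CommRingCat.of k))} (g : H ⟶ K)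
    [IsSchemeTheoreticallyDominant g.left] [QuasiCompact g.left]
    (Y : Over (Spec (CommRingCat.of k))) : IsSchemeTheoreticallyDominant (g ▷ Y).left := by
  haveI : Flat (fst K Y).left := by
    change Flat (pullback.fst K.hom Y.hom)
    infer_instance
  exact IsSchemeTheoreticallyDominant.of_isPullback (isPullback_whiskerRight g Y).flip

theorem std_whiskerLeft {H K : Over (Spec (CommRingCat.of k))} (g : H ⟶ K)
    [IsSchemeTheoreticallyDominant g.left] [QuasiCompact g.left]
    (Y : Over (Spec (CommRingCat.of k))) : IsSchemeTheoreticallyDominant (Y ◁ g).left := by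
  haveI : Flat (snd Y K).left := by
    change Flat (pullback.snd Y.hom K.hom)
    infer_instance
  exact IsSchemeTheoreticallyDominant.of_isPullback (isPullback_whiskerLeft g Y).flip

theorem std_tensorHom {H K : Over (Spec (CommRingCat.of k))} (g : H ⟶ K)
    [IsSchemeTheoreticallyDominant g.left] [QuasiCompact g.left] :
    IsSchemeTheoreticallyDominant (g ⊗ₘ g).left := by
  rw [MonoidalCategory.tensorHom_def, Over.comp_left]
  haveI := std_whiskerRight k g H
  haveI := std_whiskerLeft k g K
  infer_instance

theorem main (H G K : Over (Spec (CommRingCat.of k))) [GrpObj H] [GrpObj G]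
    [LocallyOfFiniteType H.hom] [LocallyOfFiniteType G.hom]
    (f : H ⟶ G) [IsMonHom f] [QuasiCompact f.left]
    (i : K ⟶ G) [IsClosedImmersion i.left] (g : H ⟶ K) (hgi : g ≫ i = f)
    [IsSchemeTheoreticallyDominant g.left] :
    ((∃ e : 𝟙_ (Over (Spec (CommRingCat.of k))) ⟶ K, e ≫ i = η[G]) ∧
      ∀ (T : Over (Spec (CommRingCat.of k))) (k₁ k₂ : T ⟶ K),
        ∃ k₃ : T ⟶ K, k₃ ≫ i = (k₁ ≫ i)⁻¹ * (k₂ ≫ i)) ∧
    Surjective g.left := by
  haveI : QuasiCompact g.left := by
    haveI : QuasiCompact (g.left ≫ i.left) := by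
      rw [← Over.comp_left, hgi]; infer_instance
    exact QuasiCompact.of_comp g.left i.left
  refine ⟨⟨⟨η[H] ≫ g, by rw [Category.assoc, hgi, IsMonHom.one_hom]⟩, ?_⟩, ?_⟩
  · -- the universal case
    let ψ : K ⊗ K ⟶ G := (fst K K ≫ i)⁻¹ * (snd K K ≫ i)
    have hψ : (g ⊗ₘ g) ≫ ψ = (((fst H H)⁻¹ * snd H H) ≫ g) ≫ i := by
      change (g ⊗ₘ g) ≫ ((fst K K ≫ i)⁻¹ * (snd K K ≫ i)) = _
      rw [MonObj.comp_mul, GrpObj.comp_inv, ← Category.assoc, ← Category.assoc, tensorHom_fst,
        tensorHom_snd, Category.assoc, Category.assoc, hgi, Category.assoc, hgi, MonObj.mul_comp,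
        GrpObj.inv_comp]
    haveI := std_tensorHom k g
    obtain ⟨b, hb⟩ := exists_lift_of_dominant (g ⊗ₘ g).left ψ.left i.left
      ((((fst H H)⁻¹ * snd H H) ≫ g)).left (by
        rw [← Over.comp_left, ← Over.comp_left, hψ])
    let bO : K ⊗ K ⟶ K := Over.homMk b (by
      rw [← Over.w i, ← Category.assoc, hb, Over.w ψ])
    have hbO : bO ≫ i = ψ := by
      ext
      rw [Over.comp_left]
      exact hb
    intro T k₁ k₂
    refine ⟨lift k₁ k₂ ≫ bO, ?_⟩
    rw [Category.assoc, hbO]
    change lift k₁ k₂ ≫ ((fst K K ≫ i)⁻¹ * (snd K K ≫ i)) = _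
    rw [MonObj.comp_mul, GrpObj.comp_inv, ← Category.assoc, ← Category.assoc, lift_fst, lift_snd]
  · -- surjectivity
    have hcl := isClosed_range k H G f
    constructor
    intro y
    have hy : i.left y ∈ closure (Set.range f.left) := by
      have hdense : DenseRange g.left := (inferInstance : IsDominant g.left).denseRange
      have h1 : y ∈ closure (Set.range g.left) := hdense y
      have h2 := image_closure_subset_closure_image i.left.continuous (Set.mem_image_of_mem _ h1)
      rw [← Set.range_comp] at h2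
      have h3 : (i.left : K.left → G.left) ∘ (g.left : H.left → K.left) = f.left := by
        funext x
        change i.left (g.left x) = f.left x
        rw [← Scheme.Hom.comp_apply, ← Over.comp_left, hgi]
      rwa [h3] at h2
    rw [hcl.closure_eq] at hy
    obtain ⟨h, hh⟩ := hy
    refine ⟨h, ?_⟩
    apply i.left.isClosedEmbedding.injective
    rw [← hh, ← Scheme.Hom.comp_apply, ← Over.comp_left, hgi]

end

end Groth.Agent.Helper3.GrpImg3
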