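import Mathlib
import Groth.Agent.Helper3.GrpImg3
import Groth.Agent.Helper3.AntiAffApps
import Groth.Agent.Helper9.SubGrpObj
import Groth.Prelude

set_option autoImplicit false
set_option linter.style.haveILetI false
set_option linter.unusedSectionVars false
set_option linter.unusedVariables false
set_option linter.style.haveILetI false
set_option linter.unusedSectionVars false
set_option linter.unusedVariables false

universe u v

open AlgebraicGeometry CategoryTheory CategoryTheory.Limits TopologicalSpace Topology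
open MonoidalCategory CartesianMonoidalCategory MonObj GrpObj

namespace Groth.Agent.Helper3.GrpImg4

section
variable {C : Type u} [Category.{v} C] [CartesianMonoidalCategory C]

/-- a subobject of a group object whose points are closed under `(a, b) ↦ a⁻¹ b` and which contains
the unit is a group object -/
theorem exists_grpObj_of_closed {G K : C} [GrpObj G] (i : K ⟶ G) [Mono i]
    (e : 𝟙_ C ⟶ K) (he : e ≫ i = η[G])
    (hcl : ∀ (T : C) (k₁ k₂ : T ⟶ K), ∃ k₃ : T ⟶ K, k₃ ≫ i = (k₁ ≫ i)⁻¹ * (k₂ ≫ i)) :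
    ∃ (_ : GrpObj K), IsMonHom i := by
  obtain ⟨v, hv⟩ := hcl K (𝟙 K) (toUnit K ≫ e)
  have hv' : v ≫ i = i ≫ ι[G] := by
    rw [hv, Category.id_comp, Category.assoc, he, ← CategoryTheory.Hom.one_def, _root_.mul_one,
      CategoryTheory.Hom.inv_def]
  obtain ⟨m, hm⟩ := hcl (K ⊗ K) (fst K K ≫ v) (snd K K)
  have hm' : m ≫ i = (i ⊗ₘ i) ≫ μ[G] := by
    rw [hm, Category.assoc, hv', ← Category.assoc, ← CategoryTheory.Hom.inv_def, _root_.inv_inv,
      CategoryTheory.Hom.mul_def]
    congr 1
    apply CartesianMonoidalCategory.hom_ext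
    · rw [lift_fst, tensorHom_fst]
    · rw [lift_snd, tensorHom_snd]
  exact ⟨Groth.Agent.Helper9.SubGrpObj.grpObjOfMono i e m v he hm' hv',
    Groth.Agent.Helper9.SubGrpObj.isMonHom_of_grpObjOfMono i e m v he hm' hv'⟩

end

/-- the canonical map to the scheme-theoretic image of a quasi-compact morphism is
scheme-theoretically dominant -/
instance std_toImage {X Y : Scheme.{u}} (f : X ⟶ Y) [QuasiCompact f] :
    IsSchemeTheoreticallyDominant f.toImage := by
  rw [isSchemeTheoreticallyDominant_iff]
  have haff : ∀ U : Y.affineOpens, IsAffineOpen (f.imageι ⁻¹ᵁ U.1) := fun U => U.2.preimage f.imageι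
  refine Scheme.IdealSheafData.ext_of_iSup_eq_top (fun U : Y.affineOpens => ⟨_, haff U⟩) ?_ ?_
  · rw [eq_top_iff]
    intro x _
    obtain ⟨_, ⟨U, hU, rfl⟩, hxU, -⟩ :=
      Y.isBasis_affineOpens.exists_subset_of_mem_open (Set.mem_univ (f.imageι x)) isOpen_univ
    exact Opens.mem_iSup.mpr ⟨⟨U, hU⟩, hxU⟩
  · intro U
    rw [Scheme.Hom.ker_apply]
    simp only [Scheme.IdealSheafData.ideal_bot, Pi.bot_apply]
    exact (RingHom.injective_iff_ker_eq_bot _).mp (f.toImage_app_injective U)

open Groth.Agent.Helper3.AntiAffApps in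
theorem main (k : Type u) [Field k]
    (G H : Over (Spec (CommRingCat.of k))) [GrpObj G] [LocallyOfFiniteType G.hom] [QuasiCompact G.hom]
    (hG : Function.Bijective ((Scheme.ΓSpecIso (CommRingCat.of k)).inv ≫ G.hom.appTop).hom)
    [GrpObj H] [LocallyOfFiniteType H.hom] [QuasiCompact H.hom]
    (M : Over (Spec (CommRingCat.of k))) [GrpObj M] (j : M ⟶ H)
    (hMmax : ∀ (M₁ : Over (Spec (CommRingCat.of k))) [GrpObj M₁] [LocallyOfFiniteType M₁.hom]
      [QuasiCompact M₁.hom] (j₁ : M₁ ⟶ H) [IsMonHom j₁] [IsClosedImmersion j₁.left],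
      Function.Bijective ((Scheme.ΓSpecIso (CommRingCat.of k)).inv ≫ M₁.hom.appTop).hom →
        ∃ g : M₁ ⟶ M, g ≫ j = j₁)
    (f : G ⟶ H) (hf : η[G] ≫ f = η[H]) :
    ∃ g : G ⟶ M, g ≫ j = f := by
  haveI : IsMonHom f := s14578 k G H hG f hf
  haveI : IsLocallyNoetherian H.left := LocallyOfFiniteType.isLocallyNoetherian H.hom
  haveI : QuasiSeparated H.hom := (quasiSeparated_iff_quasiSeparatedSpace H.hom).mpr inferInstance
  haveI : QuasiCompact f.left := by
    haveI : QuasiCompact (f.left ≫ H.hom) := by rw [Over.w f]; infer_instance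
    exact QuasiCompact.of_comp f.left H.hom
  let K : Over (Spec (CommRingCat.of k)) := Over.mk (f.left.imageι ≫ H.hom)
  let i : K ⟶ H := Over.homMk f.left.imageι rfl
  let g : G ⟶ K := Over.homMk f.left.toImage (by
    change f.left.toImage ≫ f.left.imageι ≫ H.hom = G.hom
    rw [Scheme.Hom.toImage_imageι_assoc, Over.w f])
  have hgi : g ≫ i = f := by
    ext
    rw [Over.comp_left]
    exact f.left.toImage_imageι
  haveI : IsClosedImmersion i.left := inferInstanceAs (IsClosedImmersion f.left.imageι)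
  haveI : IsSchemeTheoreticallyDominant g.left :=
    inferInstanceAs (IsSchemeTheoreticallyDominant f.left.toImage)
  haveI : QuasiCompact g.left := inferInstanceAs (QuasiCompact f.left.toImage)
  obtain ⟨⟨⟨e, he⟩, hcl⟩, -⟩ := GrpImg3.main k G H K f i g hgi
  haveI : Mono i := by
    haveI : Mono i.left := inferInstanceAs (Mono f.left.imageι)
    exact (Over.forget _).mono_of_mono_map ‹_›
  obtain ⟨instK, hmonK⟩ := exists_grpObj_of_closed i e he hcl
  haveI : LocallyOfFiniteType K.hom :=
    inferInstanceAs (LocallyOfFiniteType (f.left.imageι ≫ H.hom))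
  haveI : QuasiCompact K.hom := inferInstanceAs (QuasiCompact (f.left.imageι ≫ H.hom))
  have hK : Function.Bijective ((Scheme.ΓSpecIso (CommRingCat.of k)).inv ≫ K.hom.appTop).hom := by
    have hinj : Function.Injective g.left.appTop.hom := g.left.app_injective ⊤
    have hcomp : ((Scheme.ΓSpecIso (CommRingCat.of k)).inv ≫ G.hom.appTop).hom =
        g.left.appTop.hom ∘ ((Scheme.ΓSpecIso (CommRingCat.of k)).inv ≫ K.hom.appTop).hom := by
      have : G.hom = g.left ≫ K.hom := (Over.w g).symm
      rw [this, Scheme.Hom.comp_appTop]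
      ext x
      simp
    constructor
    · have := hG.1
      rw [hcomp] at this
      exact this.of_comp
    · intro s
      obtain ⟨c, hc⟩ := hG.2 (g.left.appTop.hom s)
      refine ⟨c, hinj ?_⟩
      rw [← hc, hcomp]
      rfl
  obtain ⟨g', hg'⟩ := hMmax K i hK
  exact ⟨g ≫ g', by rw [Category.assoc, hg', hgi]⟩

end Groth.Agent.Helper3.GrpImg4
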