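import Mathlib
import Groth.Agent.Helper3.SemiDir
import Groth.Agent.Helper3.GrpImg4
import Groth.Agent.Helper2.SmoothRegSch
import Groth.Prelude

set_option autoImplicit false
set_option linter.style.haveILetI false
set_option linter.unusedSectionVars false
set_option linter.unusedVariables false
set_option linter.unusedSectionVars false
set_option linter.unusedVariables false

universe u

open AlgebraicGeometry CategoryTheory CategoryTheory.Limits TopologicalSpace Topology
open MonoidalCategory CartesianMonoidalCategory MonObj GrpObj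

namespace Groth.Agent.Helper3.GenAB

theorem main (k : Type u) [Field k] (G A B : Over (Spec (CommRingCat.of k))) [GrpObj G] [GrpObj A] [GrpObj B]
    [LocallyOfFiniteType G.hom] (a : A ⟶ G) [IsMonHom a] [IsClosedImmersion a.left] (b : B ⟶ G) [IsMonHom b]
    [IsClosedImmersion b.left] [Smooth A.hom] [QuasiCompact A.hom] [Smooth B.hom] [QuasiCompact B.hom]
    (hN : ∀ (T : Over (Spec (CommRingCat.of k))) (y : T ⟶ B) (x : T ⟶ A), ∃ x' : T ⟶ A, (y ≫ b) * (x ≫ a) * (y ≫ b)⁻¹ = x' ≫ a)
    (Γ : Over (Spec (CommRingCat.of k))) [GrpObj Γ] (i : Γ ⟶ G) [IsMonHom i] [IsClosedImmersion i.left]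
    (ha : ∃ a' : A ⟶ Γ, a' ≫ i = a) (hb : ∃ b' : B ⟶ Γ, b' ≫ i = b)
    (hmin : ∀ (Γ' : Over (Spec (CommRingCat.of k))) (_ : GrpObj Γ') (i' : Γ' ⟶ G), IsMonHom i' → IsClosedImmersion i'.left →
        (∃ a'' : A ⟶ Γ', a'' ≫ i' = a) → (∃ b'' : B ⟶ Γ', b'' ≫ i' = b) → ∃ j : Γ ⟶ Γ', j ≫ i' = i) :
    IsReduced Γ.left ∧ Set.range i.left.base = Set.range ((a ⊗ₘ b) ≫ μ[G]).left.base := by
  haveI : Mono a := Over.mono_of_mono_left a
  obtain ⟨c, hc⟩ := hN (B ⊗ A) (fst B A) (snd B A)
  -- the semidirect product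
  let P : Over (Spec (CommRingCat.of k)) := A ⊗ B
  let instP : GrpObj P := SemiDir.grp a b c hc.symm
  let m : P ⟶ G := SemiDir.m a b
  have hmon : @IsMonHom _ _ _ P G instP.toMonObj _ m := SemiDir.isMonHom_m a b c hc.symm
  have hm_eq : m = (a ⊗ₘ b) ≫ μ[G] := SemiDir.m_eq a b
  haveI : Smooth P.hom := by
    change Smooth (A ⊗ B).hom
    rw [Over.tensorObj_hom]
    infer_instance
  haveI : QuasiCompact P.hom := by
    change QuasiCompact (A ⊗ B).hom
    rw [Over.tensorObj_hom]
    infer_instance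
  haveI : LocallyOfFiniteType P.hom := inferInstance
  haveI : IsReduced P.left := Groth.Agent.Helper2.SmoothRegSch.isReduced_of_smooth k P.left P.hom
  haveI : IsLocallyNoetherian G.left := LocallyOfFiniteType.isLocallyNoetherian G.hom
  haveI : QuasiSeparated G.hom := (quasiSeparated_iff_quasiSeparatedSpace G.hom).mpr inferInstance
  haveI : QuasiCompact m.left := by
    haveI : QuasiCompact (m.left ≫ G.hom) := by rw [Over.w m]; infer_instance
    exact QuasiCompact.of_comp m.left G.hom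
  let K : Over (Spec (CommRingCat.of k)) := Over.mk (m.left.imageι ≫ G.hom)
  let iK : K ⟶ G := Over.homMk m.left.imageι rfl
  let g : P ⟶ K := Over.homMk m.left.toImage (by
    change m.left.toImage ≫ m.left.imageι ≫ G.hom = P.hom
    rw [Scheme.Hom.toImage_imageι_assoc, Over.w m])
  have hgi : g ≫ iK = m := by
    ext
    rw [Over.comp_left]
    exact m.left.toImage_imageι
  haveI : IsClosedImmersion iK.left := inferInstanceAs (IsClosedImmersion m.left.imageι)
  haveI : IsSchemeTheoreticallyDominant g.left :=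
    inferInstanceAs (IsSchemeTheoreticallyDominant m.left.toImage)
  haveI : QuasiCompact g.left := inferInstanceAs (QuasiCompact m.left.toImage)
  obtain ⟨⟨⟨e, he⟩, hcl⟩, hsurj⟩ := @GrpImg3.main k _ P G K instP _ _ _ m hmon _ iK _ g hgi _
  haveI : Mono iK := by
    haveI : Mono iK.left := inferInstanceAs (Mono m.left.imageι)
    exact Over.mono_of_mono_left iK
  obtain ⟨instK, hmonK⟩ := GrpImg4.exists_grpObj_of_closed iK e he hcl
  -- a and b factor through K
  have haK : (lift (𝟙 A) (toUnit A ≫ η[B]) ≫ g) ≫ iK = a := by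
    rw [Category.assoc, hgi]
    change _ ≫ SemiDir.m a b = a
    rw [SemiDir.comp_m, lift_fst, lift_snd, Category.id_comp, Category.assoc, IsMonHom.one_hom,
      ← Hom.one_def, _root_.mul_one]
  have hbK : (lift (toUnit B ≫ η[A]) (𝟙 B) ≫ g) ≫ iK = b := by
    rw [Category.assoc, hgi]
    change _ ≫ SemiDir.m a b = b
    rw [SemiDir.comp_m, lift_fst, lift_snd, Category.id_comp, Category.assoc, IsMonHom.one_hom,
      ← Hom.one_def, _root_.one_mul]
  obtain ⟨jΓ, hjΓ⟩ := hmin K instK iK hmonK inferInstance ⟨_, haK⟩ ⟨_, hbK⟩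
  -- m factors through Γ
  obtain ⟨a', ha'⟩ := ha
  obtain ⟨b', hb'⟩ := hb
  let m' : P ⟶ Γ := (fst A B ≫ a') * (snd A B ≫ b')
  have hm' : m' ≫ i = m := by
    change ((fst A B ≫ a') * (snd A B ≫ b')) ≫ i = SemiDir.m a b
    rw [MonObj.mul_comp, Category.assoc, Category.assoc, ha', hb']
    rfl
  obtain ⟨b₁, hb₁⟩ := GrpImg3.exists_lift_of_dominant g.left iK.left i.left m'.left (by
    rw [← Over.comp_left, ← Over.comp_left, hgi, hm'])
  have hjΓl : jΓ.left ≫ iK.left = i.left := by rw [← Over.comp_left, hjΓ]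
  haveI : Mono i.left := inferInstance
  haveI : Mono iK.left := inferInstanceAs (Mono m.left.imageι)
  have h1 : jΓ.left ≫ b₁ = 𝟙 _ := by
    rw [← cancel_mono i.left, Category.assoc, hb₁, hjΓl, Category.id_comp]
  have h2 : b₁ ≫ jΓ.left = 𝟙 _ := by
    rw [← cancel_mono iK.left, Category.assoc, hjΓl, hb₁, Category.id_comp]
  haveI : IsIso jΓ.left := ⟨b₁, h1, h2⟩
  haveI : IsReduced K.left := IsSchemeTheoreticallyDominant.isReduced g.left
  refine ⟨isReduced_of_isOpenImmersion jΓ.left, ?_⟩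
  rw [← hm_eq]
  have hgl : g.left ≫ iK.left = m.left := by rw [← Over.comp_left, hgi]
  apply Set.Subset.antisymm
  · rintro _ ⟨x, rfl⟩
    obtain ⟨p, hp⟩ := hsurj.surj (jΓ.left x)
    refine ⟨p, ?_⟩
    rw [← hgl, ← hjΓl]
    change iK.left (g.left p) = iK.left (jΓ.left x)
    rw [hp]
  · rintro _ ⟨p, rfl⟩
    refine ⟨b₁ (g.left p), ?_⟩
    rw [← hgl]
    change i.left (b₁ (g.left p)) = iK.left (g.left p)
    rw [← hb₁]
    rfl

end Groth.Agent.Helper3.GenAB
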