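import Mathlib

set_option autoImplicit false
set_option linter.style.haveILetI false
set_option linter.unusedSectionVars false
set_option linter.unusedVariables false
set_option linter.style.haveILetI false
set_option linter.unusedSectionVars false
set_option linter.unusedVariables false

open AlgebraicGeometry CategoryTheory CategoryTheory.Limits TopologicalSpace

universe u

namespace Groth.Agent.Helper3.GermIdeal

/-- ring-level key lemma: an element killed locally at all generizations of `p` off `V(f)` is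
killed at `p` after multiplying by a power of `f` -/
theorem ring_key {A : Type*} [CommRing A] (p : Ideal A) [p.IsPrime] (f s : A)
    (H : ∀ q : Ideal A, q.IsPrime → q ≤ p → f ∉ q → ∃ h, h ∉ q ∧ h * s = 0) :
    ∃ (m : ℕ) (h : A), h ∉ p ∧ h * f ^ m * s = 0 := by
  let I : Ideal A := LinearMap.ker (LinearMap.toSpanSingleton A A s)
  have hI : ∀ a, a ∈ I ↔ a * s = 0 := by
    intro a
    simp only [I, LinearMap.mem_ker, LinearMap.toSpanSingleton_apply, smul_eq_mul]
  let M : Submonoid A := p.primeCompl ⊔ Submonoid.powers f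
  by_cases hdisj : Disjoint (I : Set A) (M : Set A)
  · exfalso
    obtain ⟨q, hq, hIq, hqM⟩ := Ideal.exists_le_prime_disjoint I M hdisj
    have hqp : q ≤ p := by
      intro a ha
      by_contra hap
      exact Set.disjoint_left.mp hqM ha
        (SetLike.mem_coe.mpr (Submonoid.mem_sup_left (show a ∈ p.primeCompl from hap)))
    have hfq : f ∉ q := by
      intro hf
      exact Set.disjoint_left.mp hqM hf
        (SetLike.mem_coe.mpr (Submonoid.mem_sup_right (Submonoid.mem_powers f)))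
    obtain ⟨h, hhq, hhs⟩ := H q hq hqp hfq
    exact hhq (hIq ((hI h).mpr hhs))
  · rw [Set.not_disjoint_iff] at hdisj
    obtain ⟨a, haI, haM⟩ := hdisj
    obtain ⟨y, hy, z, ⟨m, rfl⟩, rfl⟩ := Submonoid.mem_sup.mp haM
    exact ⟨m, y, hy, (hI _).mp haI⟩

/-- ring-level separation lemma: a prime outside a closed, generization-stable set `Z` does not
contain some element vanishing locally along `Z` -/
theorem ring_sep {A : Type*} [CommRing A] (Z : Set (PrimeSpectrum A)) (hZ : IsClosed Z)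
    (hgen : ∀ q' ∈ Z, ∀ q : PrimeSpectrum A, q ≤ q' → q ∈ Z) (p : PrimeSpectrum A) (hp : p ∉ Z) :
    ∃ a : A, a ∉ p.asIdeal ∧ ∀ y ∈ Z, ∃ h, h ∉ y.asIdeal ∧ h * a = 0 := by
  let J : Ideal A := PrimeSpectrum.vanishingIdeal Z
  let S : Submonoid A :=
    { carrier := {a | a - 1 ∈ J}
      one_mem' := by simp
      mul_mem' := by
        intro a b ha hb
        have : a * b - 1 = a * (b - 1) + (a - 1) := by ring
        change a * b - 1 ∈ J
        rw [this]
        exact J.add_mem (J.mul_mem_left a hb) ha }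
  let M : Submonoid A := p.asIdeal.primeCompl ⊔ S
  by_cases hdisj : Disjoint ((⊥ : Ideal A) : Set A) (M : Set A)
  · exfalso
    obtain ⟨q, hq, -, hqM⟩ := Ideal.exists_le_prime_disjoint ⊥ M hdisj
    have hqp : q ≤ p.asIdeal := by
      intro a ha
      by_contra hap
      exact Set.disjoint_left.mp hqM ha
        (SetLike.mem_coe.mpr (Submonoid.mem_sup_left (show a ∈ p.asIdeal.primeCompl from hap)))
    have hne : q ⊔ J ≠ ⊤ := by
      intro htop
      have h1 : (1 : A) ∈ q ⊔ J := htop ▸ Submodule.mem_top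
      obtain ⟨a, ha, j, hj, haj⟩ := Submodule.mem_sup.mp h1
      have haS : a ∈ S := by
        change a - 1 ∈ J
        have : a - 1 = -j := by rw [← haj]; ring
        rw [this]
        exact J.neg_mem hj
      exact Set.disjoint_left.mp hqM ha (SetLike.mem_coe.mpr (Submonoid.mem_sup_right haS))
    obtain ⟨m, hm, hle⟩ := Ideal.exists_le_maximal _ hne
    have hmZ : (⟨m, hm.isPrime⟩ : PrimeSpectrum A) ∈ Z := by
      have : (⟨m, hm.isPrime⟩ : PrimeSpectrum A) ∈ PrimeSpectrum.zeroLocus (J : Set A) := by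
        intro j hj
        exact hle (Submodule.mem_sup_right hj)
      rw [PrimeSpectrum.zeroLocus_vanishingIdeal_eq_closure, hZ.closure_eq] at this
      exact this
    have hqZ : (⟨q, hq⟩ : PrimeSpectrum A) ∈ Z :=
      hgen _ hmZ ⟨q, hq⟩ (fun a ha => hle (Submodule.mem_sup_left ha))
    have hsp : (⟨q, hq⟩ : PrimeSpectrum A) ⤳ p := (PrimeSpectrum.le_iff_specializes _ _).mp hqp
    exact hp (hsp.mem_closed hZ hqZ)
  · rw [Set.not_disjoint_iff] at hdisj
    obtain ⟨z, hz0, hzM⟩ := hdisj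
    have hz : z = 0 := hz0
    obtain ⟨a, ha, b, hb, hab⟩ := Submonoid.mem_sup.mp hzM
    refine ⟨a, ha, fun y hy => ⟨b, ?_, ?_⟩⟩
    · intro hby
      have hb' : b - 1 ∈ J := hb
      have h1 : b - 1 ∈ y.asIdeal := by
        have := (PrimeSpectrum.mem_vanishingIdeal Z (b - 1)).mp hb' y hy
        exact this
      have : (1 : A) ∈ y.asIdeal := by
        have := y.asIdeal.sub_mem hby h1
        simpa using this
      exact y.isPrime.ne_top ((Ideal.eq_top_iff_one _).mpr this)
    · rw [mul_comm, hab, hz]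

variable {X : Scheme.{u}}

/-- the germ of a section at a point of an affine open vanishes iff it is killed by a function
not vanishing at the point -/
theorem germ_eq_zero_iff (U : X.affineOpens) (x : X) (hx : x ∈ U.1) (s : Γ(X, U.1)) :
    X.presheaf.germ U.1 x hx s = 0 ↔ ∃ h : Γ(X, U.1), x ∈ X.basicOpen h ∧ h * s = 0 := by
  constructor
  · intro h0
    haveI := U.2.isLocalization_stalk ⟨x, hx⟩
    letI := TopCat.Presheaf.algebra_section_stalk X.presheaf ⟨x, hx⟩
    have h1 : algebraMap Γ(X, U.1) (X.presheaf.stalk x) s = 0 := h0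
    obtain ⟨⟨m, hm⟩, hms⟩ := (IsLocalization.map_eq_zero_iff
      (U.2.primeIdealOf ⟨x, hx⟩).asIdeal.primeCompl (X.presheaf.stalk x) s).mp h1
    refine ⟨m, ?_, hms⟩
    rw [Scheme.mem_basicOpen X m x hx]
    exact IsLocalization.map_units (X.presheaf.stalk x) ⟨m, hm⟩
  · rintro ⟨h, hxh, hhs⟩
    rw [Scheme.mem_basicOpen X h x hx] at hxh
    have := congrArg (X.presheaf.germ U.1 x hx) hhs
    rw [map_mul, map_zero] at this
    exact (hxh.mul_right_eq_zero).mp this

variable (C : Set X)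

/-- sections whose germs vanish at all points of `C` -/
def idealFun (U : X.affineOpens) : Ideal Γ(X, U.1) where
  carrier := {s | ∀ (x : X) (hx : x ∈ U.1), x ∈ C → X.presheaf.germ U.1 x hx s = 0}
  add_mem' := by
    intro a b ha hb x hx hxC
    rw [map_add, ha x hx hxC, hb x hx hxC, add_zero]
  zero_mem' := by
    intro x hx hxC
    exact map_zero _
  smul_mem' := by
    intro c a ha x hx hxC
    rw [smul_eq_mul, map_mul, ha x hx hxC, mul_zero]

lemma mem_idealFun (U : X.affineOpens) (s : Γ(X, U.1)) :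
    s ∈ idealFun C U ↔ ∀ (x : X) (hx : x ∈ U.1), x ∈ C → X.presheaf.germ U.1 x hx s = 0 :=
  Iff.rfl

/-- the key step for compatibility with localization -/
theorem exists_pow_mul_mem (hC : IsClosed C) (hgen : ∀ x ∈ C, ∀ y : X, y ⤳ x → y ∈ C)
    (U : X.affineOpens) (f s : Γ(X, U.1))
    (hs : ∀ (y : X) (hy : y ∈ U.1), y ∈ X.basicOpen f → y ∈ C →
      X.presheaf.germ U.1 y hy s = 0) :
    ∃ m : ℕ, f ^ m * s ∈ idealFun C U := by
  classical
  -- local statement at each point of `C ∩ U`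
  have hloc : ∀ x : X, x ∈ C → x ∈ U.1 → ∃ (m : ℕ) (h : Γ(X, U.1)),
      x ∈ X.basicOpen h ∧ h * f ^ m * s = 0 := by
    intro x hxC hxU
    obtain ⟨m, h, hhp, hh⟩ := ring_key (U.2.primeIdealOf ⟨x, hxU⟩).asIdeal f s (by
      intro q hq hqp hfq
      let y : X := U.2.fromSpec ⟨q, hq⟩
      have hyU : y ∈ U.1 := by
        have : y ∈ Set.range U.2.fromSpec := ⟨_, rfl⟩
        rw [U.2.range_fromSpec] at this
        exact this
      have hyx : y ⤳ x := by
        have h1 : (⟨q, hq⟩ : PrimeSpectrum Γ(X, U.1)) ⤳ U.2.primeIdealOf ⟨x, hxU⟩ :=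
          (PrimeSpectrum.le_iff_specializes _ _).mp hqp
        have h2 := h1.map U.2.fromSpec.continuous
        rw [U.2.fromSpec_primeIdealOf] at h2
        exact h2
      have hyC : y ∈ C := hgen x hxC y hyx
      have hyf : y ∈ X.basicOpen f := by
        have : (⟨q, hq⟩ : PrimeSpectrum Γ(X, U.1)) ∈ U.2.fromSpec ⁻¹ᵁ X.basicOpen f := by
          rw [U.2.fromSpec_preimage_basicOpen]
          exact hfq
        exact this
      have h0 := hs y hyU hyf hyC
      obtain ⟨h, hyh, hhs⟩ := (germ_eq_zero_iff U y hyU s).mp h0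
      refine ⟨h, ?_, hhs⟩
      intro hhq
      have : (⟨q, hq⟩ : PrimeSpectrum Γ(X, U.1)) ∈ U.2.fromSpec ⁻¹ᵁ X.basicOpen h := hyh
      rw [U.2.fromSpec_preimage_basicOpen] at this
      exact this hhq)
    refine ⟨m, h, ?_, hh⟩
    have : U.2.primeIdealOf ⟨x, hxU⟩ ∈ U.2.fromSpec ⁻¹ᵁ X.basicOpen h := by
      rw [U.2.fromSpec_preimage_basicOpen]
      exact hhp
    have h2 : U.2.fromSpec (U.2.primeIdealOf ⟨x, hxU⟩) ∈ X.basicOpen h := this
    rw [U.2.fromSpec_primeIdealOf] at h2
    exact h2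
  choose! m h hxh hh using hloc
  have hcomp : IsCompact (C ∩ (U.1 : Set X)) := U.2.isCompact.inter_left hC
  obtain ⟨t, htsub, htcov⟩ := hcomp.elim_nhds_subcover (fun x => (X.basicOpen (h x) : Set X))
    (fun x hx => (X.basicOpen (h x)).2.mem_nhds (hxh x hx.1 hx.2))
  refine ⟨t.sup m, ?_⟩
  intro x' hx'U hx'C
  obtain ⟨x, hxt, hx'x⟩ := Set.mem_iUnion₂.mp (htcov ⟨hx'C, hx'U⟩)
  rw [germ_eq_zero_iff]
  refine ⟨h x, hx'x, ?_⟩
  have hle : m x ≤ t.sup m := Finset.le_sup hxt
  obtain ⟨d, hd⟩ := Nat.exists_eq_add_of_le hle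
  have h0 := hh x (htsub x hxt).1 (htsub x hxt).2
  calc h x * (f ^ t.sup m * s) = f ^ d * (h x * f ^ m x * s) := by
        rw [hd, pow_add]; ring
    _ = 0 := by rw [h0, mul_zero]

/-- the ideal sheaf of sections whose germs vanish along a closed subset stable under
generization -/
noncomputable def germIdeal (hC : IsClosed C) (hgen : ∀ x ∈ C, ∀ y : X, y ⤳ x → y ∈ C) :
    X.IdealSheafData where
  ideal := idealFun C
  map_ideal_basicOpen U f := by
    apply le_antisymm
    · rw [Ideal.map_le_iff_le_comap]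
      intro s hs x hx hxC
      have := hs x (X.basicOpen_le f hx) hxC
      rw [← this]
      exact TopCat.Presheaf.germ_res_apply X.presheaf (homOfLE (X.basicOpen_le f)) x hx s
    · intro t ht
      have := U.2.isLocalization_basicOpen f
      obtain ⟨s, ⟨_, n, rfl⟩, rfl⟩ := IsLocalization.exists_mk'_eq (.powers f) t
      refine (IsLocalization.mk'_mem_map_algebraMap_iff _ _ _ _ _).mpr ?_
      obtain ⟨m, hm⟩ := exists_pow_mul_mem C hC hgen U f s (by
        intro y hy hyf hyC
        have h1 := ht y hyf hyC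
        have h2 : algebraMap Γ(X, U.1) Γ(X, X.basicOpen f) s =
            IsLocalization.mk' Γ(X, X.basicOpen f) s
              (⟨f ^ n, n, rfl⟩ : Submonoid.powers f) *
              algebraMap Γ(X, U.1) Γ(X, X.basicOpen f) (f ^ n) :=
          (IsLocalization.mk'_spec _ s (⟨f ^ n, n, rfl⟩ : Submonoid.powers f)).symm
        have h3 : X.presheaf.germ U.1 y hy s =
            X.presheaf.germ (X.basicOpen f) y hyf
              (algebraMap Γ(X, U.1) Γ(X, X.basicOpen f) s) :=
          (TopCat.Presheaf.germ_res_apply X.presheaf (homOfLE (X.basicOpen_le f)) y hyf s).symm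
        rw [h3, h2, map_mul]
        have h1' : X.presheaf.germ (X.basicOpen f) y hyf
            (IsLocalization.mk' Γ(X, X.basicOpen f) s
              (⟨f ^ n, n, rfl⟩ : Submonoid.powers f)) = 0 := h1
        rw [h1', zero_mul])
      exact ⟨f ^ m, ⟨m, rfl⟩, hm⟩

lemma mem_basicOpen_iff_notMem (U : X.affineOpens) (x : X) (hx : x ∈ U.1) (h : Γ(X, U.1)) :
    x ∈ X.basicOpen h ↔ h ∉ (U.2.primeIdealOf ⟨x, hx⟩).asIdeal := by
  have h1 : U.2.primeIdealOf ⟨x, hx⟩ ∈ U.2.fromSpec ⁻¹ᵁ X.basicOpen h ↔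
      h ∉ (U.2.primeIdealOf ⟨x, hx⟩).asIdeal := by
    rw [U.2.fromSpec_preimage_basicOpen]
    rfl
  rw [← h1]
  change _ ↔ U.2.fromSpec (U.2.primeIdealOf ⟨x, hx⟩) ∈ X.basicOpen h
  rw [U.2.fromSpec_primeIdealOf]

/-- the support of the germ ideal is the closed set -/
theorem support_germIdeal (hC : IsClosed C) (hgen : ∀ x ∈ C, ∀ y : X, y ⤳ x → y ∈ C) :
    ((germIdeal C hC hgen).support : Set X) = C := by
  ext x
  obtain ⟨_, ⟨U, hU, rfl⟩, hxU, -⟩ :=
    X.isBasis_affineOpens.exists_subset_of_mem_open (Set.mem_univ x) isOpen_univ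
  rw [SetLike.mem_coe, Scheme.IdealSheafData.mem_support_iff_of_mem (U := ⟨U, hU⟩) hxU,
    Scheme.mem_zeroLocus_iff]
  constructor
  · intro h
    by_contra hxC
    let Z : Set (PrimeSpectrum Γ(X, U)) := hU.fromSpec ⁻¹' C
    have hZcl : IsClosed Z := hC.preimage hU.fromSpec.continuous
    have hZgen : ∀ q' ∈ Z, ∀ q : PrimeSpectrum Γ(X, U), q ≤ q' → q ∈ Z := by
      intro q' hq' q hqq'
      have : q ⤳ q' := (PrimeSpectrum.le_iff_specializes q q').mp hqq'
      exact hgen _ hq' _ (this.map hU.fromSpec.continuous)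
    have hpZ : hU.primeIdealOf ⟨x, hxU⟩ ∉ Z := by
      intro hh
      apply hxC
      have : hU.fromSpec (hU.primeIdealOf ⟨x, hxU⟩) ∈ C := hh
      rwa [hU.fromSpec_primeIdealOf] at this
    obtain ⟨a, hap, ha⟩ := ring_sep Z hZcl hZgen _ hpZ
    have haI : a ∈ idealFun C ⟨U, hU⟩ := by
      intro y hy hyC
      rw [germ_eq_zero_iff]
      obtain ⟨h', hh'y, hh'a⟩ := ha (hU.primeIdealOf ⟨y, hy⟩) (by
        change hU.fromSpec _ ∈ C
        rw [hU.fromSpec_primeIdealOf]
        exact hyC)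
      exact ⟨h', (mem_basicOpen_iff_notMem ⟨U, hU⟩ y hy h').mpr hh'y, hh'a⟩
    exact h a haI ((mem_basicOpen_iff_notMem ⟨U, hU⟩ x hxU a).mpr hap)
  · intro hxC s hs hxs
    have h0 := hs x hxU hxC
    rw [Scheme.mem_basicOpen X s x hxU, h0] at hxs
    exact not_isUnit_zero hxs

/-- universal property of the germ ideal: a morphism factors through its closed subscheme iff
its image lies in `C` -/
theorem exists_lift_iff (hC : IsClosed C) (hgen : ∀ x ∈ C, ∀ y : X, y ⤳ x → y ∈ C)
    {T : Scheme.{u}} (g : T ⟶ X) :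
    (∃ t : T ⟶ (germIdeal C hC hgen).subscheme, t ≫ (germIdeal C hC hgen).subschemeι = g) ↔
      Set.range g ⊆ C := by
  constructor
  · rintro ⟨t, rfl⟩
    rintro _ ⟨z, rfl⟩
    have h1 : (t ≫ (germIdeal C hC hgen).subschemeι) z ∈
        Set.range (germIdeal C hC hgen).subschemeι := ⟨t z, rfl⟩
    rw [Scheme.IdealSheafData.range_subschemeι] at h1
    exact (support_germIdeal C hC hgen).subset h1
  · intro hg
    have hle : germIdeal C hC hgen ≤ g.ker := by
      refine Scheme.IdealSheafData.le_ofIdeals_iff.mpr fun U s hs => ?_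
      rw [RingHom.mem_ker]
      refine TopCat.Presheaf.section_ext T.sheaf _ _ _ (fun z hz => ?_)
      change T.presheaf.germ (g ⁻¹ᵁ U.1) z hz ((g.app U.1).hom s) =
        T.presheaf.germ (g ⁻¹ᵁ U.1) z hz 0
      have h2 : X.presheaf.germ U.1 (g z) hz s = 0 := hs (g z) hz (hg ⟨z, rfl⟩)
      rw [map_zero, ← Scheme.Hom.germ_stalkMap_apply g U.1 z hz s, h2, map_zero]
    refine ⟨IsClosedImmersion.lift (germIdeal C hC hgen).subschemeι g ?_,
      IsClosedImmersion.lift_fac _ _ _⟩
    rw [Scheme.IdealSheafData.ker_subschemeι]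
    exact hle


/-- the closed immersion defined by the germ ideal is flat -/
theorem flat_subschemeι (hC : IsClosed C) (hgen : ∀ x ∈ C, ∀ y : X, y ⤳ x → y ∈ C) :
    Flat (germIdeal C hC hgen).subschemeι := by
  set I := germIdeal C hC hgen with hI
  refine Flat.of_stalkMap _ fun z => ?_
  apply RingHom.Flat.of_bijective
  refine ⟨?_, I.subschemeι.stalkMap_surjective z⟩
  rw [injective_iff_map_eq_zero]
  intro a ha
  obtain ⟨U₀, hxU₀, s₀, rfl⟩ := X.presheaf.germ_exist (x := I.subschemeι z) a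
  obtain ⟨_, ⟨U, hU, rfl⟩, hxU, hUU₀⟩ :=
    X.isBasis_affineOpens.exists_subset_of_mem_open hxU₀ U₀.2
  have hUU₀' : U ≤ U₀ := hUU₀
  let s : Γ(X, U) := X.presheaf.map (homOfLE hUU₀').op s₀
  have hres : X.presheaf.germ U (I.subschemeι z) hxU s =
      X.presheaf.germ U₀ (I.subschemeι z) hxU₀ s₀ :=
    TopCat.Presheaf.germ_res_apply X.presheaf (homOfLE hUU₀') (I.subschemeι z) hxU s₀
  rw [← hres] at ha ⊢
  have hz : z ∈ I.subschemeι ⁻¹ᵁ U := hxU
  have ha' : I.subscheme.presheaf.germ (I.subschemeι ⁻¹ᵁ U) z hz (I.subschemeι.app U s) = 0 := by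
    rw [← Scheme.Hom.germ_stalkMap_apply I.subschemeι U z hz s]
    exact ha
  clear ha
  have ha := ha'
  have hUaff : IsAffineOpen (I.subschemeι ⁻¹ᵁ U) := hU.preimage I.subschemeι
  obtain ⟨h', hzh', hh's⟩ := (germ_eq_zero_iff ⟨_, hUaff⟩ z hz _).mp ha
  obtain ⟨h, rfl⟩ := I.subschemeι_app_surjective ⟨U, hU⟩ h'
  have hmem : h * s ∈ idealFun C ⟨U, hU⟩ := by
    have h1 : h * s ∈ RingHom.ker (I.subschemeι.app U).hom := by
      rw [RingHom.mem_ker, map_mul]
      exact hh's
    rw [I.ker_subschemeι_app ⟨U, hU⟩] at h1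
    exact h1
  have hzC : I.subschemeι z ∈ C := by
    have h1 : I.subschemeι z ∈ Set.range I.subschemeι := ⟨z, rfl⟩
    rw [Scheme.IdealSheafData.range_subschemeι] at h1
    exact (support_germIdeal C hC hgen).subset h1
  have h0 := hmem (I.subschemeι z) hxU hzC
  rw [map_mul] at h0
  have hunit : IsUnit (X.presheaf.germ U (I.subschemeι z) hxU h) := by
    rw [← Scheme.mem_basicOpen X h (I.subschemeι z) hxU]
    have : z ∈ I.subschemeι ⁻¹ᵁ X.basicOpen h := by
      rw [Scheme.preimage_basicOpen]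
      exact hzh'
    exact this
  exact (hunit.mul_right_eq_zero).mp h0

end Groth.Agent.Helper3.GermIdeal
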