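import Mathlib
import Groth.Agent.Helper2.HS6
import Groth.Agent.Helper9.SubGrpObj
import Groth.Agent.Helper3.GermIdeal

set_option autoImplicit false
set_option linter.style.haveILetI false
set_option linter.unusedSectionVars false
set_option linter.unusedVariables false
set_option linter.style.haveILetI false
set_option linter.unusedSectionVars false
set_option linter.unusedVariables false

universe u
open CategoryTheory CategoryTheory.Limits MonoidalCategory CartesianMonoidalCategory MonObj GrpObj
  AlgebraicGeometry

namespace Groth.Agent.Helper3.IdComp

open Groth.Agent.Helper2 Groth.Agent.Helper3.GermIdeal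

variable {k : Type u} [Field k] (G : Over (Spec (CommRingCat.of k))) [GrpObj G]
  (pt : ↥(𝟙_ (Over (Spec (CommRingCat.of k)))).left)

/-- connected components are stable under generization -/
lemma gen_connectedComponent {X : Type*} [TopologicalSpace X] (e : X) :
    ∀ x ∈ connectedComponent e, ∀ y : X, y ⤳ x → y ∈ connectedComponent e := by
  intro x hx y hyx
  have h1 : x ∈ closure ({y} : Set X) := specializes_iff_mem_closure.mp hyx
  have h2 : IsPreconnected (closure ({y} : Set X)) := isPreconnected_singleton.closure
  have h3 : closure ({y} : Set X) ⊆ connectedComponent x := h2.subset_connectedComponent h1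
  rw [connectedComponent_eq hx]
  exact h3 (subset_closure rfl)

/-- the connected component of the identity is an irreducible component -/
lemma mem_irreducibleComponents :
    connectedComponent (η[G].left pt) ∈ irreducibleComponents G.left := by
  rw [HS6.connectedComponent_eq G (irreducibleComponent (η[G].left pt))
    (irreducibleComponent_mem_irreducibleComponents _) pt mem_irreducibleComponent]
  exact irreducibleComponent_mem_irreducibleComponents _

/-- the ideal sheaf defining the identity component -/
noncomputable def idl : G.left.IdealSheafData :=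
  germIdeal (connectedComponent (η[G].left pt)) isClosed_connectedComponent
    (gen_connectedComponent _)

/-- the identity component -/
noncomputable def G0 : Over (Spec (CommRingCat.of k)) :=
  Over.mk ((idl G pt).subschemeι ≫ G.hom)

/-- the inclusion of the identity component -/
noncomputable def incl : G0 G pt ⟶ G := Over.homMk (idl G pt).subschemeι rfl

instance : IsClosedImmersion (incl G pt).left := by
  change IsClosedImmersion (idl G pt).subschemeι
  infer_instance

instance : Mono (incl G pt) := by
  haveI : Mono ((Over.forget _).map (incl G pt)) := by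
    change Mono (incl G pt).left
    infer_instance
  exact (Over.forget _).mono_of_mono_map ‹_›

lemma range_incl : Set.range (incl G pt).left = connectedComponent (η[G].left pt) := by
  change Set.range (idl G pt).subschemeι = _
  rw [Scheme.IdealSheafData.range_subschemeι]
  exact support_germIdeal _ _ _

lemma flat_incl : Flat (incl G pt).left := by
  change Flat (idl G pt).subschemeι
  exact flat_subschemeι _ _ _

/-- lifting morphisms landing in the identity component -/
lemma exists_lift {T : Over (Spec (CommRingCat.of k))} (g : T ⟶ G)
    (hg : Set.range g.left ⊆ connectedComponent (η[G].left pt)) :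
    ∃ t : T ⟶ G0 G pt, t ≫ incl G pt = g := by
  obtain ⟨t', ht'⟩ := (exists_lift_iff (connectedComponent (η[G].left pt))
    isClosed_connectedComponent (gen_connectedComponent _) g.left).mpr hg
  refine ⟨Over.homMk t' ?_, ?_⟩
  · change t' ≫ (idl G pt).subschemeι ≫ G.hom = T.hom
    rw [← Category.assoc]
    erw [ht']
    exact Over.w g
  · ext
    exact ht'

lemma subsingleton_unit : ∀ z : ↥(𝟙_ (Over (Spec (CommRingCat.of k)))).left, z = pt := by
  intro z
  have : Subsingleton (PrimeSpectrum k) := inferInstance
  exact Subsingleton.elim (α := PrimeSpectrum k) z pt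

lemma exists_one : ∃ e : 𝟙_ _ ⟶ G0 G pt, e ≫ incl G pt = η[G] := by
  apply exists_lift
  rintro _ ⟨z, rfl⟩
  rw [subsingleton_unit pt z]
  exact mem_connectedComponent

lemma exists_inv : ∃ i : G0 G pt ⟶ G0 G pt, i ≫ incl G pt = incl G pt ≫ ι[G] := by
  apply exists_lift
  rintro _ ⟨z, rfl⟩
  rw [Over.comp_left, Scheme.Hom.comp_apply]
  have hz : (incl G pt).left z ∈ connectedComponent (η[G].left pt) := by
    rw [← range_incl]; exact ⟨z, rfl⟩
  have hirr := mem_irreducibleComponents G pt
  exact HS6.inv_mem G _ hirr pt mem_connectedComponent hz

lemma exists_mul : ∃ m : G0 G pt ⊗ G0 G pt ⟶ G0 G pt,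
    m ≫ incl G pt = (incl G pt ⊗ₘ incl G pt) ≫ μ[G] := by
  apply exists_lift
  rintro _ ⟨w, rfl⟩
  rw [Over.comp_left, Scheme.Hom.comp_apply]
  have hirr := mem_irreducibleComponents G pt
  apply HS6.mul_mem G _ hirr pt mem_connectedComponent
  · rw [← Scheme.Hom.comp_apply, ← Over.comp_left, tensorHom_fst, Over.comp_left,
      Scheme.Hom.comp_apply, ← range_incl]
    exact ⟨_, rfl⟩
  · rw [← Scheme.Hom.comp_apply, ← Over.comp_left, tensorHom_snd, Over.comp_left,
      Scheme.Hom.comp_apply, ← range_incl]
    exact ⟨_, rfl⟩

/-- the group structure on the identity component -/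
noncomputable def grp : GrpObj (G0 G pt) :=
  Groth.Agent.Helper9.SubGrpObj.grpObjOfMono (incl G pt) (exists_one G pt).choose
    (exists_mul G pt).choose (exists_inv G pt).choose (exists_one G pt).choose_spec
    (exists_mul G pt).choose_spec (exists_inv G pt).choose_spec

lemma isMonHom_incl : letI := grp G pt; IsMonHom (incl G pt) :=
  Groth.Agent.Helper9.SubGrpObj.isMonHom_of_grpObjOfMono (incl G pt) (exists_one G pt).choose
    (exists_mul G pt).choose (exists_inv G pt).choose (exists_one G pt).choose_spec
    (exists_mul G pt).choose_spec (exists_inv G pt).choose_spec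

lemma geomIrr : GeometricallyIrreducible (G0 G pt).hom := by
  change GeometricallyIrreducible ((incl G pt).left ≫ G.hom)
  refine ⟨geometrically_iff_of_isClosedUnderIsomorphisms.mpr fun L _ y ↦ ?_⟩
  change IrreducibleSpace ↥(Limits.pullback ((incl G pt).left ≫ G.hom) y)
  let e := Limits.pullbackRightPullbackFstIso G.hom y (incl G pt).left
  rw [← e.hom.homeomorph.irreducibleSpace_iff]
  let j := Limits.pullback.snd (incl G pt).left (Limits.pullback.fst G.hom y)
  haveI : IsClosedImmersion j := inferInstance
  apply HS5.irreducibleSpace_of_isEmbedding j j.isEmbedding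
  rw [Scheme.Pullback.range_snd]
  have hirr := mem_irreducibleComponents G pt
  rw [← range_incl] at hirr
  exact HS3.geomIrr G (Set.range ⇑(incl G pt).left) hirr pt
    (by rw [range_incl]; exact mem_connectedComponent) y

lemma compactSpace : CompactSpace ↥(G0 G pt).left := by
  have hirr := mem_irreducibleComponents G pt
  have hc := HS6.isCompact_C0 G _ hirr pt mem_connectedComponent
  rw [← range_incl, ← Set.image_univ] at hc
  exact ⟨((incl G pt).left.isEmbedding.isInducing.isCompact_iff).mpr hc⟩

end Groth.Agent.Helper3.IdComp
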