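import Mathlib
import Groth.Agent.Helper3.IdComp

set_option autoImplicit false
set_option linter.style.haveILetI false
set_option linter.unusedSectionVars false
set_option linter.unusedVariables false
set_option linter.style.haveILetI false
set_option linter.unusedSectionVars false
set_option linter.unusedVariables false

universe u
open CategoryTheory CategoryTheory.Limits MonoidalCategory CartesianMonoidalCategory MonObj GrpObj
  AlgebraicGeometry

namespace Groth.Agent.Helper3.GenConn

open Groth.Agent.Helper3.IdComp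

theorem main (k : Type u) [Field k] (G X : Over (Spec (CommRingCat.of k))) [GrpObj G]
    [ConnectedSpace X.left] (x : 𝟙_ (Over (Spec (CommRingCat.of k))) ⟶ X) (f : X ⟶ G)
    (hx : x ≫ f = η[G])
    (Γ : Over (Spec (CommRingCat.of k))) [GrpObj Γ] (i : Γ ⟶ G) [IsMonHom i]
    [IsClosedImmersion i.left]
    (hf : ∃ f' : X ⟶ Γ, f' ≫ i = f)
    (hmin : ∀ (Γ' : Over (Spec (CommRingCat.of k))) (_ : GrpObj Γ') (i' : Γ' ⟶ G), IsMonHom i' →
        IsClosedImmersion i'.left →
        (∃ f'' : X ⟶ Γ', f'' ≫ i' = f) → ∃ j : Γ ⟶ Γ', j ≫ i' = i) :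
    ConnectedSpace Γ.left := by
  obtain ⟨f', hf'⟩ := hf
  let pt : ↥(𝟙_ (Over (Spec (CommRingCat.of k)))).left := IsLocalRing.closedPoint k
  haveI : Mono i := by
    haveI : Mono ((Over.forget _).map i) := by
      change Mono i.left
      infer_instance
    exact (Over.forget _).mono_of_mono_map ‹_›
  have hxf' : x ≫ f' = η[Γ] := by
    rw [← cancel_mono i, Category.assoc, hf', hx, IsMonHom.one_hom i]
  -- `f'` lands in the identity component of `Γ`
  have hrange : Set.range f'.left ⊆ connectedComponent (η[Γ].left pt) := by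
    have hpre : _root_.IsPreconnected (Set.range f'.left) :=
      (isPreconnected_range f'.left.continuous)
    have hmem : η[Γ].left pt ∈ Set.range f'.left := by
      refine ⟨x.left pt, ?_⟩
      rw [← Scheme.Hom.comp_apply, ← Over.comp_left, hxf']
    exact hpre.subset_connectedComponent hmem
  obtain ⟨t, ht⟩ := exists_lift Γ pt f' hrange
  letI := grp Γ pt
  haveI := isMonHom_incl Γ pt
  haveI : IsMonHom (incl Γ pt ≫ i) := inferInstance
  haveI : IsClosedImmersion (incl Γ pt ≫ i).left := by
    rw [Over.comp_left]; infer_instance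
  obtain ⟨j, hj⟩ := hmin (G0 Γ pt) (grp Γ pt) (incl Γ pt ≫ i) inferInstance inferInstance
    ⟨t, by rw [← Category.assoc, ht, hf']⟩
  have hj' : j ≫ incl Γ pt = 𝟙 Γ := by
    rw [← cancel_mono i, Category.assoc, hj, Category.id_comp]
  have hsurj : Set.range (incl Γ pt).left = Set.univ := by
    rw [Set.eq_univ_iff_forall]
    intro z
    refine ⟨j.left z, ?_⟩
    rw [← Scheme.Hom.comp_apply, ← Over.comp_left, hj']
    rfl
  rw [range_incl] at hsurj
  rw [connectedSpace_iff_connectedComponent]
  exact ⟨_, hsurj⟩

end Groth.Agent.Helper3.GenConn
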