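import Mathlib
import Groth.Agent.Helper3.StalkNbhd2

set_option linter.style.haveILetI false
set_option linter.unusedSectionVars false
set_option linter.unusedVariables false

namespace Groth.Agent.Helper3.GenEt
open AlgebraicGeometry CategoryTheory Groth.Agent.Helper3.StalkNbhd

universe u

theorem main (k : Type u) [Field k] (X Y : Scheme.{u}) [X.Over (Spec (CommRingCat.of k))]
    [Y.Over (Spec (CommRingCat.of k))]
    [IsIntegral X] [LocallyOfFiniteType (X ↘ (Spec (CommRingCat.of k)))]
    [IsIntegral Y] [LocallyOfFiniteType (Y ↘ (Spec (CommRingCat.of k)))]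
    (f : X ⟶ Y) (hf : f ≫ (Y ↘ (Spec (CommRingCat.of k))) = X ↘ (Spec (CommRingCat.of k)))
    (e : f (genericPoint X) = genericPoint Y) :
    letI := ((Y.presheaf.stalkSpecializes (specializes_of_eq e) ≫
      f.stalkMap (genericPoint X)).hom).toAlgebra
    ((∃ U : X.Opens, (U : Set X).Nonempty ∧ FormallyUnramified (U.ι ≫ f)) ↔
      (∃ U : X.Opens, (U : Set X).Nonempty ∧ Etale (U.ι ≫ f))) ∧
    ((∃ U : X.Opens, (U : Set X).Nonempty ∧ Etale (U.ι ≫ f)) ↔
      Algebra.IsSeparable Y.functionField X.functionField) ∧
    (Algebra.IsSeparable Y.functionField X.functionField →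
      FiniteDimensional Y.functionField X.functionField) := by
  haveI : LocallyOfFiniteType (f ≫ (Y ↘ (Spec (CommRingCat.of k)))) := hf ▸ inferInstance
  haveI : LocallyOfFiniteType f := locallyOfFiniteType_of_comp f (Y ↘ (Spec (CommRingCat.of k)))
  haveI : IsLocallyNoetherian Y :=
    LocallyOfFiniteType.isLocallyNoetherian (Y ↘ (Spec (CommRingCat.of k)))
  haveI : LocallyOfFinitePresentation f := inferInstance
  set ξ := genericPoint X with hξ
  have hmem : ∀ U : X.Opens, (U : Set X).Nonempty → ξ ∈ U := by
    intro U hU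
    exact ((genericPoint_spec X).mem_open_set_iff U.2).mpr (by simpa using hU)
  set ψ := Y.presheaf.stalkSpecializes (specializes_of_eq e) ≫ f.stalkMap ξ with hψ
  haveI hiso : IsIso (Y.presheaf.stalkSpecializes (specializes_of_eq e)) :=
    (Y.presheaf.stalkCongr (Inseparable.of_eq e.symm)).isIso_hom
  have hess : ψ.hom.EssFiniteType := by
    rw [hψ, CommRingCat.hom_comp, RingHom.EssFiniteType.respectsIso.cancel_left_isIso]
    exact LocallyOfFiniteType.stalkMap f ξ
  have hflat : (f.stalkMap ξ).hom.Flat := by
    have key : ∀ (y : Y) (hy : y = genericPoint Y)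
        (φ : Y.presheaf.stalk y ⟶ X.presheaf.stalk ξ), φ.hom.Flat := by
      rintro _ rfl φ
      letI : Field (Y.presheaf.stalk (genericPoint Y)) := inferInstanceAs (Field Y.functionField)
      algebraize [φ.hom]
      change Module.Flat _ _
      infer_instance
    exact key _ e _
  have hunr : (f.stalkMap ξ).hom.FormallyUnramified ↔ ψ.hom.FormallyUnramified := by
    rw [hψ, CommRingCat.hom_comp, RingHom.FormallyUnramified.respectsIso.cancel_left_isIso]
  letI alg : Algebra Y.functionField X.functionField :=
    ((Y.presheaf.stalkSpecializes (specializes_of_eq e) ≫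
      f.stalkMap (genericPoint X)).hom).toAlgebra
  have hsep : ψ.hom.FormallyUnramified ↔
      Algebra.IsSeparable Y.functionField X.functionField := by
    haveI : Algebra.EssFiniteType Y.functionField X.functionField := hess
    exact Algebra.FormallyUnramified.iff_isSeparable Y.functionField X.functionField
  have h12 : (∃ U : X.Opens, (U : Set X).Nonempty ∧ FormallyUnramified (U.ι ≫ f)) ↔
      (f.stalkMap ξ).hom.FormallyUnramified := by
    rw [← formallyUnramified_nbhd_iff f ξ]
    constructor
    · rintro ⟨U, hU, h⟩; exact ⟨U, hmem U hU, h⟩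
    · rintro ⟨U, hU, h⟩; exact ⟨U, ⟨ξ, hU⟩, h⟩
  have h13 : (∃ U : X.Opens, (U : Set X).Nonempty ∧ Etale (U.ι ≫ f)) ↔
      (f.stalkMap ξ).hom.FormallyUnramified := by
    have := etale_nbhd_iff f ξ
    constructor
    · rintro ⟨U, hU, h⟩; exact (this.mp ⟨U, hmem U hU, h⟩).2
    · intro h
      obtain ⟨U, hU, h'⟩ := this.mpr ⟨hflat, h⟩
      exact ⟨U, ⟨ξ, hU⟩, h'⟩
  refine ⟨h12.trans h13.symm, h13.trans (hunr.trans hsep), ?_⟩
  intro hs
  haveI : Algebra.EssFiniteType Y.functionField X.functionField := hess
  haveI : Algebra.FormallyUnramified Y.functionField X.functionField := hsep.mpr hs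
  exact Algebra.FormallyUnramified.finite_of_free Y.functionField X.functionField

end Groth.Agent.Helper3.GenEt
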