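import Mathlib
import Groth.Agent.Helper8.GenFree6

set_option linter.style.haveILetI false
set_option linter.unusedSectionVars false
set_option linter.unusedVariables false
set_option linter.style.haveILetI false
set_option linter.unusedSectionVars false
set_option linter.unusedVariables false

open TensorProduct

namespace Groth.Agent.Helper3.GenExact

universe u

section torsion
variable (R : Type u) [CommRing R] [IsDomain R] (M : Type u) [AddCommGroup M] [Module R M]

local notation "K" => FractionRing R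

/-- clearing denominators in `K ⊗ M` -/
theorem exists_smul_eq_one_tmul (t : K ⊗[R] M) :
    ∃ r : R, r ≠ 0 ∧ ∃ s : M, r • t = (1 : K) ⊗ₜ[R] s := by
  induction t using TensorProduct.induction_on with
  | zero => exact ⟨1, one_ne_zero, 0, by simp⟩
  | tmul x s =>
    obtain ⟨a, b, hb, rfl⟩ := IsFractionRing.div_surjective (A := R) x
    have hb0 : b ≠ 0 := nonZeroDivisors.ne_zero hb
    have hb' : algebraMap R K b ≠ 0 := by
      rw [Ne, map_eq_zero_iff _ (IsFractionRing.injective R K)]; exact hb0
    refine ⟨b, hb0, a • s, ?_⟩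
    rw [TensorProduct.smul_tmul', Algebra.smul_def, mul_div_cancel₀ _ hb',
      Algebra.algebraMap_eq_smul_one, TensorProduct.smul_tmul]
  | add x y hx hy =>
    obtain ⟨r₁, hr₁, s₁, h₁⟩ := hx
    obtain ⟨r₂, hr₂, s₂, h₂⟩ := hy
    refine ⟨r₁ * r₂, mul_ne_zero hr₁ hr₂, r₂ • s₁ + r₁ • s₂, ?_⟩
    rw [smul_add, mul_comm r₁ r₂, mul_smul, h₁, mul_comm r₂ r₁, mul_smul, h₂, TensorProduct.tmul_add,
      TensorProduct.tmul_smul, TensorProduct.tmul_smul]

/-- kernel of `M → K ⊗ M` is torsion -/
theorem exists_smul_eq_zero_of_one_tmul_eq_zero (z : M) (hz : (1 : K) ⊗ₜ[R] z = 0) :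
    ∃ r : R, r ≠ 0 ∧ r • z = 0 := by
  have h := (IsLocalizedModule.eq_zero_iff (nonZeroDivisors R)
    (TensorProduct.mk R K M 1) (m := z)).mp hz
  obtain ⟨c, hc⟩ := h
  exact ⟨c, nonZeroDivisors.ne_zero c.2, hc⟩

end torsion

section field
variable {R : Type u} [CommRing R] {κ : Type u} [Field κ] [Algebra R κ]
  {X : Type u} [AddCommGroup X] [Module R X]

theorem eq_zero_of_smul_eq_zero (r : R) (hr : algebraMap R κ r ≠ 0) (t : κ ⊗[R] X)
    (h : r • t = 0) : t = 0 := by
  rw [← algebraMap_smul κ r t] at h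
  exact (smul_eq_zero.mp h).resolve_left hr

variable (X)

theorem mk_lTensor_injective (f₂ : R) (hf₂ : algebraMap R κ f₂ ≠ 0) :
    Function.Injective ((TensorProduct.mk R (Localization.Away f₂) X 1).lTensor κ) := by
  let ψ : Localization.Away f₂ →+* κ :=
    IsLocalization.Away.lift f₂ (g := algebraMap R κ) (IsUnit.mk0 _ hf₂)
  let ψl : Localization.Away f₂ →ₗ[R] κ :=
    { toFun := ψ
      map_add' := map_add ψ
      map_smul' := fun r x => by
        simp only [RingHom.id_apply, Algebra.smul_def, map_mul]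
        congr 1
        exact IsLocalization.Away.lift_eq f₂ _ r }
  let m : κ ⊗[R] Localization.Away f₂ →ₗ[R] κ :=
    TensorProduct.lift ((LinearMap.mul R κ).compl₂ ψl)
  let ρ : κ ⊗[R] (Localization.Away f₂ ⊗[R] X) →ₗ[R] κ ⊗[R] X :=
    (LinearMap.rTensor X m) ∘ₗ (TensorProduct.assoc R κ (Localization.Away f₂) X).symm.toLinearMap
  have hρ : ρ ∘ₗ ((TensorProduct.mk R (Localization.Away f₂) X 1).lTensor κ) = LinearMap.id := by
    apply TensorProduct.ext'
    intro c x
    simp [ρ, m, ψl, ψ]
  intro a b hab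
  have := congrArg ρ hab
  have h1 : ∀ t, ρ (((TensorProduct.mk R (Localization.Away f₂) X 1).lTensor κ) t) = t :=
    fun t => by
      have := congrArg (fun φ => φ t) hρ
      simpa using this
  rwa [h1, h1] at this

/-- Part A: injectivity of `κ ⊗ I → κ ⊗ H` when the cokernel becomes flat after inverting `f₂`. -/
theorem lTensor_injective_of_flat_away {I H Q : Type u} [AddCommGroup I] [Module R I]
    [AddCommGroup H] [Module R H] [AddCommGroup Q] [Module R Q]
    (ι : I →ₗ[R] H) (q : H →ₗ[R] Q) (hι : Function.Injective ι) (hq : Function.Surjective q)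
    (hex : Function.Exact ι q) (f₂ : R) (hf₂ : algebraMap R κ f₂ ≠ 0)
    [Module.Flat R (Localization.Away f₂ ⊗[R] Q)] :
    Function.Injective (ι.lTensor κ) := by
  let R₂ := Localization.Away f₂
  have hinj₂ : Function.Injective (ι.lTensor R₂) :=
    Module.Flat.lTensor_preserves_injective_linearMap ι hι
  have hsurj₂ : Function.Surjective (q.lTensor R₂) := LinearMap.lTensor_surjective _ hq
  have hex₂ : Function.Exact (ι.lTensor R₂) (q.lTensor R₂) := lTensor_exact R₂ hex hq
  have key : Function.Injective ((ι.lTensor R₂).lTensor κ) :=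
    LinearMap.lTensor_injective_of_exact_of_flat (q.lTensor R₂) hsurj₂ (ι.lTensor R₂) hinj₂ hex₂ κ
  have hsq : ((ι.lTensor R₂).lTensor κ) ∘ₗ ((TensorProduct.mk R R₂ I 1).lTensor κ) =
      ((TensorProduct.mk R R₂ H 1).lTensor κ) ∘ₗ (ι.lTensor κ) := by
    apply TensorProduct.ext'
    intro c x
    simp
  intro a b hab
  apply mk_lTensor_injective I f₂ hf₂
  apply key
  have h1 := congrArg (fun φ => φ a) hsq
  have h2 := congrArg (fun φ => φ b) hsq
  simp only [LinearMap.comp_apply] at h1 h2
  rw [h1, h2, hab]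

end field

section main

variable {R B : Type u} [CommRing R] [IsDomain R]
    [CommRing B] [Algebra R B] [Algebra.FinitePresentation R B]
    {F G H : Type u} [AddCommGroup F] [Module B F] [Module R F] [IsScalarTower R B F]
    [Module.FinitePresentation B F]
    [AddCommGroup G] [Module B G] [Module R G] [IsScalarTower R B G]
    [Module.FinitePresentation B G]
    [AddCommGroup H] [Module B H] [Module R H] [IsScalarTower R B H]
    [Module.FinitePresentation B H]
    (u : F →ₗ[B] G) (v : G →ₗ[B] H)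

/-- Step 1: a single nonzero `f₀` killing `v ∘ u`. -/
theorem exists_smul_comp_eq_zero
    (hgen : Function.Exact ((u.restrictScalars R).baseChange (FractionRing R))
      ((v.restrictScalars R).baseChange (FractionRing R))) :
    ∃ f₀ : R, f₀ ≠ 0 ∧ ∀ x : F, f₀ • v (u x) = 0 := by
  classical
  have h1 : ∀ x : F, ∃ r : R, r ≠ 0 ∧ r • v (u x) = 0 := by
    intro x
    have h0 := hgen.apply_apply_eq_zero ((1 : FractionRing R) ⊗ₜ[R] x)
    simp only [LinearMap.baseChange_tmul, LinearMap.coe_restrictScalars] at h0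
    exact exists_smul_eq_zero_of_one_tmul_eq_zero R H _ h0
  choose r hr hr0 using h1
  obtain ⟨s, hs⟩ := (Module.Finite.fg_top : (⊤ : Submodule B F).FG)
  refine ⟨∏ x ∈ s, r x, Finset.prod_ne_zero_iff.mpr fun x _ => hr x, fun x => ?_⟩
  have hx : x ∈ Submodule.span B (s : Set F) := by rw [hs]; trivial
  induction hx using Submodule.span_induction with
  | mem y hy =>
    rw [← Finset.mul_prod_erase s r hy, mul_comm, mul_smul, hr0, smul_zero]
  | zero => simp
  | add a b _ _ ha hb => rw [map_add, map_add, smul_add, ha, hb, add_zero]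
  | smul b a _ ha => rw [map_smul, map_smul, smul_comm, ha, smul_zero]

omit [Module.FinitePresentation B F] [Module.FinitePresentation B G]
  [Module.FinitePresentation B H] [Algebra.FinitePresentation R B] in
/-- Core: a complex `F → G → H` of finite modules whose homology is `R`-torsion has exact fibres
over a dense open. -/
theorem core [Algebra.FiniteType R B] [Module.Finite B G] [Module.Finite B H]
    (hvu : ∀ x, v (u x) = 0)
    (hN : ∀ y : G, v y = 0 → ∃ r : R, r ≠ 0 ∧ ∃ x' : F, r • y = u x') :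
    ∃ f : R, f ≠ 0 ∧ ∀ p : PrimeSpectrum R, f ∉ p.asIdeal →
      Function.Exact ((u.restrictScalars R).lTensor p.asIdeal.ResidueField)
        ((v.restrictScalars R).lTensor p.asIdeal.ResidueField) := by
  classical
  -- the cokernel of u
  let C := G ⧸ LinearMap.range u
  let π : G →ₗ[B] C := (LinearMap.range u).mkQ
  have hπ : Function.Surjective π := Submodule.mkQ_surjective _
  let vbar : C →ₗ[B] H := (LinearMap.range u).liftQ v (by
    rintro _ ⟨x, rfl⟩; exact hvu x)
  have hvbar : ∀ y, vbar (π y) = v y := fun y => rfl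
  -- image and cokernel of v
  let I : Submodule B H := LinearMap.range v
  let Q := H ⧸ I
  let vbar' : C →ₗ[B] I := vbar.codRestrict I (by
    intro x
    obtain ⟨y, rfl⟩ := hπ x
    exact ⟨y, rfl⟩)
  have hvbar' : Function.Surjective vbar' := by
    rintro ⟨_, y, rfl⟩
    exact ⟨π y, Subtype.ext rfl⟩
  have hfac : ∀ x, (vbar' x : H) = vbar x := fun x => rfl
  -- generic freeness
  obtain ⟨f₁, hf₁, h₁⟩ := Groth.Agent.Helper8.GenFree.genericFreeness R B C
  obtain ⟨f₂, hf₂, h₂⟩ := Groth.Agent.Helper8.GenFree.genericFreeness R B Q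
  -- torsion in the kernel of vbar
  have htors : ∀ x : C, vbar x = 0 → ∃ n : ℕ, f₁ ^ n • x = 0 := by
    intro x hx
    obtain ⟨y, rfl⟩ := hπ x
    rw [hvbar] at hx
    obtain ⟨r, hr, x', hx'⟩ := hN y hx
    refine h₁.pow_smul_eq_zero (π y) r hr ?_
    rw [← LinearMap.map_smul_of_tower π r y, hx']
    exact (Submodule.Quotient.mk_eq_zero _).mpr ⟨x', rfl⟩
  refine ⟨f₁ * f₂, mul_ne_zero hf₁ hf₂, fun p hp => ?_⟩
  have hp₁ : f₁ ∉ p.asIdeal := fun h => hp (Ideal.mul_mem_right _ _ h)
  have hp₂ : f₂ ∉ p.asIdeal := fun h => hp (Ideal.mul_mem_left _ _ h)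
  set κ := p.asIdeal.ResidueField with hκ
  have hk₁ : algebraMap R κ f₁ ≠ 0 := fun h => hp₁ (Ideal.algebraMap_residueField_eq_zero.mp h)
  have hk₂ : algebraMap R κ f₂ ≠ 0 := fun h => hp₂ (Ideal.algebraMap_residueField_eq_zero.mp h)
  -- R-linear versions
  let uR := u.restrictScalars R
  let vR := v.restrictScalars R
  let πR := π.restrictScalars R
  let vbarR := vbar.restrictScalars R
  let vbar'R := vbar'.restrictScalars R
  let ιR := I.subtype.restrictScalars R
  let qR := I.mkQ.restrictScalars R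
  -- Part A
  haveI : Module.Free (Localization.Away f₂) (Localization.Away f₂ ⊗[R] Q) := h₂.free_tensor
  haveI : Module.Flat R (Localization.Away f₂ ⊗[R] Q) :=
    Module.Flat.trans R (Localization.Away f₂) _
  have hA : Function.Injective (ιR.lTensor κ) :=
    lTensor_injective_of_flat_away ιR qR I.injective_subtype I.mkQ_surjective
      (LinearMap.exact_subtype_mkQ I) f₂ hk₂
  -- Part B
  have hB : Function.Injective (vbar'R.lTensor κ) := by
    rw [injective_iff_map_eq_zero]
    intro t ht
    have hex : Function.Exact ((LinearMap.ker vbar'R).subtype.lTensor κ) (vbar'R.lTensor κ) :=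
      lTensor_exact κ (LinearMap.exact_subtype_ker_map vbar'R) hvbar'
    obtain ⟨s, rfl⟩ := (hex t).mp ht
    clear ht
    induction s using TensorProduct.induction_on with
    | zero => simp
    | add a b ha hb => rw [map_add, ha, hb, add_zero]
    | tmul c x =>
      obtain ⟨x, hx⟩ := x
      have hx0 : vbar x = 0 := by
        have : vbar' x = 0 := hx
        rw [← hfac, this]; rfl
      obtain ⟨n, hn⟩ := htors x hx0
      apply eq_zero_of_smul_eq_zero (f₁ ^ n) (by rw [map_pow]; exact pow_ne_zero _ hk₁)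
      rw [LinearMap.lTensor_tmul, ← TensorProduct.tmul_smul]
      simp only [Submodule.subtype_apply]
      rw [hn, tmul_zero]
  -- injectivity of vbar on fibres
  have hinj : Function.Injective (vbarR.lTensor κ) := by
    have : vbarR = ιR ∘ₗ vbar'R := by
      ext x; rfl
    rw [this, LinearMap.lTensor_comp]
    exact hA.comp hB
  -- right exactness
  have hex₁ : Function.Exact (uR.lTensor κ) (πR.lTensor κ) :=
    lTensor_exact κ (LinearMap.exact_map_mkQ_range u) hπ
  have hcomp : vR = vbarR ∘ₗ πR := by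
    ext y; rfl
  intro t
  constructor
  · intro ht
    apply (hex₁ t).mp
    apply hinj
    rw [map_zero, ← LinearMap.comp_apply, ← LinearMap.lTensor_comp, ← hcomp]
    exact ht
  · rintro ⟨s, rfl⟩
    change (vR.lTensor κ) ((uR.lTensor κ) s) = 0
    rw [hcomp, LinearMap.lTensor_comp, LinearMap.comp_apply, hex₁.apply_apply_eq_zero, map_zero]

theorem main
    (hgen : Function.Exact ((u.restrictScalars R).baseChange (FractionRing R))
      ((v.restrictScalars R).baseChange (FractionRing R))) :
    ∃ f : R, f ≠ 0 ∧ ∀ p : PrimeSpectrum R, f ∉ p.asIdeal →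
      Function.Exact ((u.restrictScalars R).baseChange p.asIdeal.ResidueField)
        ((v.restrictScalars R).baseChange p.asIdeal.ResidueField) := by
  obtain ⟨f₀, hf₀, h0⟩ := exists_smul_comp_eq_zero u v hgen
  let v₁ : G →ₗ[B] H := (algebraMap R B f₀) • v
  have hv₁ : ∀ y, v₁ y = f₀ • v y := fun y => by
    simp only [v₁, LinearMap.smul_apply, algebraMap_smul]
  have hK0 : algebraMap R (FractionRing R) f₀ ≠ 0 := by
    rw [Ne, map_eq_zero_iff _ (IsFractionRing.injective R (FractionRing R))]; exact hf₀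
  have hvu : ∀ x, v₁ (u x) = 0 := fun x => by rw [hv₁, h0]
  have hN : ∀ y : G, v₁ y = 0 → ∃ r : R, r ≠ 0 ∧ ∃ x' : F, r • y = u x' := by
    intro y hy
    rw [hv₁] at hy
    have h1 : (1 : FractionRing R) ⊗ₜ[R] v y = 0 := by
      apply eq_zero_of_smul_eq_zero f₀ hK0
      rw [← TensorProduct.tmul_smul, hy, tmul_zero]
    have h2 : ((v.restrictScalars R).baseChange (FractionRing R))
        ((1 : FractionRing R) ⊗ₜ[R] y) = 0 := by
      simpa using h1
    obtain ⟨t, ht⟩ := (hgen _).mp h2
    obtain ⟨r, hr, x'', hx''⟩ := exists_smul_eq_one_tmul R F t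
    have h5 : ((u.restrictScalars R).baseChange (FractionRing R)) (r • t) =
        r • ((1 : FractionRing R) ⊗ₜ[R] y) := by
      rw [LinearMap.map_smul_of_tower, ht]
    rw [hx'', LinearMap.baseChange_tmul] at h5
    have h3 : (1 : FractionRing R) ⊗ₜ[R] (r • y - u x'') = 0 := by
      rw [tmul_sub, sub_eq_zero, TensorProduct.tmul_smul]
      exact h5.symm
    obtain ⟨r', hr', h4⟩ := exists_smul_eq_zero_of_one_tmul_eq_zero R G _ h3
    refine ⟨r' * r, mul_ne_zero hr' hr, r' • x'', ?_⟩
    rw [smul_sub, sub_eq_zero] at h4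
    rw [mul_smul, h4]
    exact (LinearMap.map_smul_of_tower u r' x'').symm
  obtain ⟨f, hf, hcore⟩ := core (R := R) u v₁ hvu hN
  refine ⟨f₀ * f, mul_ne_zero hf₀ hf, fun p hp => ?_⟩
  have hp₀ : f₀ ∉ p.asIdeal := fun h => hp (Ideal.mul_mem_right _ _ h)
  have hp₁ : f ∉ p.asIdeal := fun h => hp (Ideal.mul_mem_left _ _ h)
  have hk₀ : algebraMap R p.asIdeal.ResidueField f₀ ≠ 0 :=
    fun h => hp₀ (Ideal.algebraMap_residueField_eq_zero.mp h)
  have hE := hcore p hp₁
  have hv₁R : v₁.restrictScalars R = f₀ • v.restrictScalars R := by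
    ext y; exact hv₁ y
  rw [hv₁R, LinearMap.lTensor_smul] at hE
  rw [LinearMap.baseChange_eq_ltensor, LinearMap.baseChange_eq_ltensor]
  intro t
  rw [← hE t, LinearMap.smul_apply]
  constructor
  · intro h; rw [h, smul_zero]
  · intro h; exact eq_zero_of_smul_eq_zero f₀ hk₀ _ h

end main

end Groth.Agent.Helper3.GenExact
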