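import Mathlib
import Groth.Agent.Helper3.SchDenseExt

open AlgebraicGeometry CategoryTheory CategoryTheory.Limits TopologicalSpace Opposite

universe u

namespace Groth.Agent.Helper3.GenFibExt

/-- two morphisms to a separated `S`-scheme agreeing after a scheme-theoretically dominant
morphism are equal -/
theorem ext_of_schDominant {W X Y S : Scheme.{u}} (j : W ⟶ X) [IsSchemeTheoreticallyDominant j]
    {a b : X ⟶ Y} (s : Y ⟶ S) [IsSeparated s] (hs : a ≫ s = b ≫ s)
    (hab : j ≫ a = j ≫ b) : a = b := by
  let X' : Over S := Over.mk (a ≫ s)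
  let Y' : Over S := Over.mk s
  let a' : X' ⟶ Y' := Over.homMk a
  let b' : X' ⟶ Y' := Over.homMk b hs.symm
  haveI : IsSeparated Y'.hom := ‹_›
  haveI : IsClosedImmersion (equalizer.ι a' b').left := inferInstance
  let W' : Over S := Over.mk (j ≫ a ≫ s)
  let ι' : W' ⟶ X' := Over.homMk j
  have hι' : ι' ≫ a' = ι' ≫ b' := by ext1; exact hab
  have hfac : (equalizer.lift ι' hι').left ≫ (equalizer.ι a' b').left = j := by
    rw [← Over.comp_left, equalizer.lift_ι]; rfl
  have hker : (equalizer.ι a' b').left.ker = ⊥ := by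
    rw [eq_bot_iff, ← j.ker_eq_bot, ← hfac]
    exact Scheme.Hom.le_ker_comp _ _
  haveI : IsIso (equalizer.ι a' b').left := IsClosedImmersion.isIso_iff_ker_eq_bot.mpr hker
  rw [← cancel_epi (equalizer.ι a' b').left]
  exact congr($(equalizer.condition a' b').left)

/-- the generic point of an integral scheme: quasi-compactness -/
instance quasiCompact_fromSpecStalk_genericPoint (T : Scheme.{u}) [IsIntegral T] :
    QuasiCompact (T.fromSpecStalk (genericPoint T)) := by
  refine ⟨fun U _ _ => ?_⟩
  rw [← Set.preimage_inter_range]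
  refine (T.fromSpecStalk (genericPoint T)).isEmbedding.isInducing.isCompact_preimage' ?_
    Set.inter_subset_right
  have h1 : (U ∩ Set.range (T.fromSpecStalk (genericPoint T))).Subsingleton := by
    have h2 : ∀ p ∈ U ∩ Set.range (T.fromSpecStalk (genericPoint T)), p = genericPoint T := by
      rintro p ⟨-, hp⟩
      rw [Scheme.range_fromSpecStalk] at hp
      exact (Specializes.antisymm hp (genericPoint_specializes p)).eq
    intro p hp p' hp'
    rw [h2 p hp, h2 p' hp']
  exact h1.finite.isCompact

/-- the generic point of an integral scheme is scheme-theoretically dominant -/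
instance isSchemeTheoreticallyDominant_fromSpecStalk_genericPoint (T : Scheme.{u})
    [IsIntegral T] : IsSchemeTheoreticallyDominant (T.fromSpecStalk (genericPoint T)) := by
  haveI : IsDominant (T.fromSpecStalk (genericPoint T)) := by
    refine ⟨?_⟩
    rw [DenseRange, Scheme.range_fromSpecStalk]
    intro p
    have h1 : genericPoint T ⤳ p := genericPoint_specializes p
    exact h1.mem_closed isClosed_closure (subset_closure specializes_rfl)
  exact IsSchemeTheoreticallyDominant.of_isDominant _

set_option maxHeartbeats 800000 in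
/-- S14189 -/
theorem s14189 (T Y Z T' : Scheme.{u}) [IsIntegral T]
    (pY : Y ⟶ T) (pZ : Z ⟶ T) [Flat pY] [IsSeparated pZ]
    (ψ : pullback pY (T.fromSpecStalk (genericPoint T)) ⟶ Z)
    (g : T' ⟶ T) [Flat g] [Surjective g] [QuasiCompact g]
    (φ' : pullback pY g ⟶ pullback pZ g) (hφ' : φ' ≫ pullback.snd pZ g = pullback.snd pY g)
    (hagree : pullback.fst (pullback.fst pY g)
        (pullback.fst pY (T.fromSpecStalk (genericPoint T))) ≫ φ' ≫ pullback.fst pZ g =
      pullback.snd (pullback.fst pY g)
        (pullback.fst pY (T.fromSpecStalk (genericPoint T))) ≫ ψ) :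
    ∃ φ : Y ⟶ Z, φ ≫ pZ = pY ∧
      pullback.fst pY (T.fromSpecStalk (genericPoint T)) ≫ φ = ψ := by
  let u := pullback.fst pY (T.fromSpecStalk (genericPoint T))
  let π := pullback.fst pY g
  obtain ⟨e, he_def⟩ : ∃ e : pullback pY g ⟶ Z, e = φ' ≫ pullback.fst pZ g := ⟨_, rfl⟩
  have he : e ≫ pZ = π ≫ pY := by
    rw [he_def, Category.assoc, pullback.condition, ← Category.assoc, hφ', ← pullback.condition]
  have hag : pullback.fst π u ≫ e = pullback.snd π u ≫ ψ := by
    rw [he_def]; exact hagree
  haveI : IsSchemeTheoreticallyDominant u := inferInstance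
  haveI : QuasiCompact u := inferInstance
  obtain ⟨c, hc_def⟩ : ∃ c : pullback π π ⟶ Y, c = pullback.fst π π ≫ π := ⟨_, rfl⟩
  haveI : Flat c := by rw [hc_def]; infer_instance
  let j := pullback.fst c u
  haveI : IsSchemeTheoreticallyDominant j := inferInstance
  have hpr : pullback.fst π π ≫ e = pullback.snd π π ≫ e := by
    apply ext_of_schDominant j pZ
    · rw [Category.assoc, Category.assoc, he, ← Category.assoc, ← Category.assoc,
        pullback.condition]
    · have key : ∀ (pr : pullback π π ⟶ pullback pY g), pr ≫ π = c →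
          j ≫ pr ≫ e = pullback.snd c u ≫ ψ := by
        intro pr hpr
        let k : pullback c u ⟶ pullback π u := pullback.lift (j ≫ pr) (pullback.snd c u) (by
          rw [Category.assoc, hpr, pullback.condition])
        have hk1 : k ≫ pullback.fst π u = j ≫ pr := pullback.lift_fst _ _ _
        have hk2 : k ≫ pullback.snd π u = pullback.snd c u := pullback.lift_snd _ _ _
        rw [← Category.assoc, ← hk1, Category.assoc, hag, ← Category.assoc, hk2]
      rw [key _ hc_def.symm, key _ (hc_def.trans pullback.condition).symm]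
  let φ : Y ⟶ Z := EffectiveEpi.desc π e (by
    intro W g₁ g₂ hg₁₂
    have h1 : g₁ = pullback.lift g₁ g₂ hg₁₂ ≫ pullback.fst π π := (pullback.lift_fst _ _ _).symm
    have h2 : g₂ = pullback.lift g₁ g₂ hg₁₂ ≫ pullback.snd π π := (pullback.lift_snd _ _ _).symm
    rw [h1, Category.assoc, hpr, ← Category.assoc, ← h2])
  have hπφ : π ≫ φ = e := EffectiveEpi.fac π e _
  refine ⟨φ, ?_, ?_⟩
  · rw [← cancel_epi π, ← Category.assoc, hπφ, he]
  · haveI : EffectiveEpi (pullback.snd π u) := inferInstance
    rw [← cancel_epi (pullback.snd π u), ← hag, ← hπφ, ← Category.assoc, ← Category.assoc,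
      pullback.condition]

/-- S14188 -/
theorem s14188 (T Y Z : Scheme.{u}) [IsIntegral T]
    (pY : Y ⟶ T) (pZ : Z ⟶ T) [Flat pY] [IsSeparated pZ]
    (ψ : pullback pY (T.fromSpecStalk (genericPoint T)) ⟶ Z)
    (gr : pullback pY (T.fromSpecStalk (genericPoint T)) ⟶ pullback pY pZ)
    (hgr₁ : gr ≫ pullback.fst pY pZ = pullback.fst pY (T.fromSpecStalk (genericPoint T)))
    (hgr₂ : gr ≫ pullback.snd pY pZ = ψ) :
    (∃ φ : Y ⟶ Z, φ ≫ pZ = pY ∧
        pullback.fst pY (T.fromSpecStalk (genericPoint T)) ≫ φ = ψ) ↔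
      IsIso (gr.imageι ≫ pullback.fst pY pZ) := by
  constructor
  · rintro ⟨φ, hφ, hφψ⟩
    let Γ : Y ⟶ pullback pY pZ := pullback.lift (𝟙 Y) φ (by rw [Category.id_comp, hφ])
    have hΓ1 : Γ ≫ pullback.fst pY pZ = 𝟙 Y := pullback.lift_fst _ _ _
    have hΓ2 : Γ ≫ pullback.snd pY pZ = φ := pullback.lift_snd _ _ _
    haveI : IsClosedImmersion (Γ ≫ pullback.fst pY pZ) := by rw [hΓ1]; infer_instance
    haveI : IsClosedImmersion Γ := IsClosedImmersion.of_comp Γ (pullback.fst pY pZ)
    have hgr : gr = pullback.fst pY (T.fromSpecStalk (genericPoint T)) ≫ Γ := by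
      apply pullback.hom_ext
      · rw [hgr₁, Category.assoc, hΓ1, Category.comp_id]
      · rw [hgr₂, Category.assoc, hΓ2, hφψ]
    have hker : gr.ker = Γ.ker := by
      rw [hgr, Scheme.Hom.ker_comp,
        (pullback.fst pY (T.fromSpecStalk (genericPoint T))).ker_eq_bot,
        Scheme.IdealSheafData.map_bot]
    have key : ∀ I : (pullback pY pZ).IdealSheafData, I = Γ.ker →
        IsIso (I.subschemeι ≫ pullback.fst pY pZ) := by
      rintro _ rfl
      haveI : IsIso Γ.toImage := inferInstance
      have h1 : Γ.imageι ≫ pullback.fst pY pZ = inv Γ.toImage := by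
        rw [← cancel_epi Γ.toImage, ← Category.assoc, Γ.toImage_imageι, hΓ1, IsIso.hom_inv_id]
      show IsIso (Γ.imageι ≫ pullback.fst pY pZ)
      rw [h1]; infer_instance
    exact key _ hker
  · intro hiso
    refine ⟨inv (gr.imageι ≫ pullback.fst pY pZ) ≫ gr.imageι ≫ pullback.snd pY pZ, ?_, ?_⟩
    · rw [Category.assoc, Category.assoc, ← pullback.condition, ← Category.assoc gr.imageι,
        IsIso.inv_hom_id_assoc]
    · have h1 : pullback.fst pY (T.fromSpecStalk (genericPoint T)) =
          gr.toImage ≫ (gr.imageι ≫ pullback.fst pY pZ) := by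
        rw [← Category.assoc, gr.toImage_imageι, hgr₁]
      rw [h1, Category.assoc, IsIso.hom_inv_id_assoc, ← Category.assoc, gr.toImage_imageι, hgr₂]

end Groth.Agent.Helper3.GenFibExt
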