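import Mathlib

set_option autoImplicit false
set_option linter.style.haveILetI false
set_option linter.unusedSectionVars false
set_option linter.unusedVariables false
set_option linter.deprecated false
set_option linter.style.haveILetI false
set_option linter.unusedSectionVars false
set_option linter.unusedVariables false

universe u

open CategoryTheory CategoryTheory.Limits AlgebraicGeometry TopologicalSpace

namespace Groth.Agent.Helper3.GenFibIso

/-- if a composite is scheme-theoretically dominant then so is the second map -/
theorem schDominant_of_comp {X Y Z : Scheme.{u}} (h : X ⟶ Y) (φ : Y ⟶ Z)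
    [IsSchemeTheoreticallyDominant (h ≫ φ)] : IsSchemeTheoreticallyDominant φ := by
  rw [isSchemeTheoreticallyDominant_iff]
  exact le_bot_iff.1 ((h.le_ker_comp φ).trans (le_of_eq (Scheme.Hom.ker_eq_bot (h ≫ φ))))

/-- The base change of an integral closed subscheme `C ⊆ S` to the local ring of `S` at the
generic point of `C` dominates `C` scheme-theoretically. -/
theorem schDominant_local {S C : Scheme.{u}} [IsLocallyNoetherian S] (i : C ⟶ S)
    [IsClosedImmersion i] [IsIntegral C] :
    IsSchemeTheoreticallyDominant (pullback.fst i (S.fromSpecStalk (i (genericPoint C)))) ∧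
      QuasiCompact (pullback.fst i (S.fromSpecStalk (i (genericPoint C)))) := by
  set σ := S.fromSpecStalk (i (genericPoint C)) with hσ
  haveI : QuasiCompact σ := by
    haveI : QuasiSeparatedSpace S := inferInstance
    infer_instance
  haveI : QuasiCompact (pullback.fst i σ) := inferInstance
  refine ⟨?_, inferInstance⟩
  haveI : IsDominant (pullback.fst i σ) := by
    constructor
    have hpt : i (genericPoint C) = σ (IsLocalRing.closedPoint (S.presheaf.stalk (i (genericPoint C)))) := by
      rw [hσ, Scheme.fromSpecStalk_closedPoint]
    obtain ⟨z, hz, -⟩ := Scheme.Pullback.exists_preimage_pullback (f := i) (g := σ) _ _ hpt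
    have hsub : closure {genericPoint C} ⊆ closure (Set.range (pullback.fst i σ)) :=
      closure_mono (by
        rintro _ rfl
        exact ⟨z, hz⟩)
    rw [DenseRange, dense_iff_closure_eq, ← Set.univ_subset_iff]
    have hgen : closure {genericPoint C} = Set.univ := genericPoint_spec C
    rw [hgen] at hsub
    exact hsub
  exact IsSchemeTheoreticallyDominant.of_isDominant _

theorem main
    {S S' C C' : Scheme.{u}} [IsLocallyNoetherian S] [IsLocallyNoetherian S']
    (f : S' ⟶ S) [Flat f] (i : C ⟶ S) [IsClosedImmersion i] [IsIntegral C]
    (i' : C' ⟶ S') [IsClosedImmersion i'] [IsIntegral C']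
    (g : C' ⟶ C) (hsq : g ≫ i = i' ≫ f)
    (hgen : IsIso (pullback.snd (pullback.lift g i' hsq)
      (pullback.fst (pullback.fst i f ≫ i) (S.fromSpecStalk (i.base (genericPoint C)))))) :
    IsIso (pullback.lift g i' hsq) := by
  set φ := pullback.lift g i' hsq with hφ
  set σ := S.fromSpecStalk (i (genericPoint C)) with hσ
  set p₁ := pullback.fst i f with hp₁
  set j := pullback.fst (p₁ ≫ i) σ with hj
  -- φ is a closed immersion
  haveI : IsClosedImmersion (φ ≫ pullback.snd i f) := by
    rw [hφ, pullback.lift_snd]
    infer_instance
  haveI : IsClosedImmersion φ := IsClosedImmersion.of_comp_isClosedImmersion φ (pullback.snd i f)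
  rw [IsClosedImmersion.isIso_iff_ker_eq_bot, ← isSchemeTheoreticallyDominant_iff]
  -- j is scheme-theoretically dominant
  obtain ⟨hc1, hc2⟩ := schDominant_local i
  haveI := hc1
  haveI := hc2
  haveI : Flat p₁ := inferInstance
  haveI hj1 : IsSchemeTheoreticallyDominant (pullback.fst p₁ (pullback.fst i σ)) := inferInstance
  have hjeq : j = (pullbackRightPullbackFstIso i σ p₁).inv ≫ pullback.fst p₁ (pullback.fst i σ) := by
    rw [pullbackRightPullbackFstIso_inv_fst]
  haveI hj2 : IsSchemeTheoreticallyDominant j := by
    rw [hjeq]
    infer_instance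
  -- j factors through φ
  haveI := hgen
  have hfac : j = (inv (pullback.snd φ j) ≫ pullback.fst φ j) ≫ φ := by
    have h1 : pullback.fst φ j ≫ φ = pullback.snd φ j ≫ j := pullback.condition
    rw [Category.assoc, h1, IsIso.inv_hom_id_assoc]
  haveI : IsSchemeTheoreticallyDominant ((inv (pullback.snd φ j) ≫ pullback.fst φ j) ≫ φ) := by
    rw [← hfac]
    exact hj2
  exact schDominant_of_comp (inv (pullback.snd φ j) ≫ pullback.fst φ j) φ

end Groth.Agent.Helper3.GenFibIso
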