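import Mathlib

set_option linter.style.haveILetI false
set_option linter.unusedSectionVars false
set_option linter.unusedVariables false
set_option linter.style.haveILetI false
set_option linter.unusedSectionVars false
set_option linter.unusedVariables false

namespace Groth.Agent.Helper3.GenFibOne

open AlgebraicGeometry CategoryTheory Limits

universe u

/-- if a point of the fibre over `f x` lies over `x`, it is `asFiber x` -/
theorem eq_asFiber {X Y : Scheme.{u}} (f : X ⟶ Y) (x : X) (z : f.fiber (f x))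
    (hz : f.fiberι (f x) z = x) : z = f.asFiber x := by
  apply (f.fiberι (f x)).isEmbedding.injective
  rw [hz, Scheme.Hom.fiberι_asFiber]

theorem exists_quasiFiniteAt {X Y : Scheme.{u}} (f : X ⟶ Y) [LocallyOfFiniteType f] (y : Y)
    [Nonempty ↥(f.fiber y)] [Finite ↥(f.fiber y)] : ∃ x : X, f.QuasiFiniteAt x := by
  obtain ⟨z, hz⟩ := exists_open_singleton_of_finite (X := ↥(f.fiber y))
  have hx0 : f (f.fiberι y z) = y := by
    have := (f.range_fiberι y).le ⟨z, rfl⟩
    exact this
  generalize hx : f.fiberι y z = x0 at hx0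
  subst hx0
  refine ⟨x0, ?_⟩
  rw [Scheme.Hom.quasiFiniteAt_iff_isOpen_singleton_asFiber, ← eq_asFiber f x0 z hx]
  exact hz

theorem main {X Y : Scheme.{u}} (f : X ⟶ Y)
    [IrreducibleSpace ↥Y] [IrreducibleSpace ↥X] [LocallyOfFiniteType f]
    (y : Y) [Nonempty ↥(f.fiber y)] [Finite ↥(f.fiber y)] :
    Subsingleton ↥(f.fiber (genericPoint ↥Y)) := by
  by_cases hne : Nonempty ↥(f.fiber (genericPoint ↥Y))
  swap
  · rw [not_nonempty_iff] at hne
    infer_instance
  obtain ⟨x0, hx0⟩ := exists_quasiFiniteAt f y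
  have hopen : IsOpen {x | f.QuasiFiniteAt x} := f.isOpen_quasiFiniteAt
  set ξ := genericPoint ↥X with hξdef
  have hξ : f.QuasiFiniteAt ξ :=
    ((genericPoint_spec ↥X).mem_open_set_iff hopen).mpr ⟨x0, Set.mem_univ _, hx0⟩
  obtain ⟨z1⟩ := hne
  have hη : f ξ = genericPoint ↥Y := by
    have h1 : f (f.fiberι _ z1) = genericPoint ↥Y := (f.range_fiberι _).le ⟨z1, rfl⟩
    have h2 : f ξ ⤳ f (f.fiberι _ z1) := (genericPoint_specializes _).map f.continuous
    rw [h1] at h2
    exact (h2.antisymm (genericPoint_specializes _)).eq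
  rw [← hη]
  have hclopen := hξ.isClopen_singleton_asFiber
  refine ⟨fun a b => ?_⟩
  have key : ∀ z : ↥(f.fiber (f ξ)), z = f.asFiber ξ := by
    intro z
    have hsp : f.asFiber ξ ⤳ z := by
      rw [← (f.fiberι (f ξ)).isEmbedding.toIsInducing.specializes_iff,
        Scheme.Hom.fiberι_asFiber]
      exact genericPoint_specializes _
    have := hsp.mem_closed hclopen.1 rfl
    exact this
  rw [key a, key b]

end Groth.Agent.Helper3.GenFibOne
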