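import Mathlib

set_option autoImplicit false
universe u
open TensorProduct IsLocalRing

namespace Groth.Agent.Helper3.GenFin

/-- A1: a closed subset of `Spec C` with no point over a minimal prime `𝔭` of `R` is disjoint from
the preimage of some `D(g)`, `g ∉ 𝔭`. -/
theorem exists_notMem_forall_mem {R C : Type*} [CommRing R] [CommRing C] (φ : R →+* C)
    (𝔭 : Ideal R) (h𝔭 : 𝔭 ∈ minimalPrimes R)
    (Z : Set (PrimeSpectrum C)) (hZ : IsClosed Z) (h : ∀ q ∈ Z, q.asIdeal.comap φ ≠ 𝔭) :
    ∃ g ∉ 𝔭, ∀ q ∈ Z, φ g ∈ q.asIdeal := by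
  haveI : 𝔭.IsPrime := h𝔭.1.1
  by_contra hcon
  push_neg at hcon
  set I := PrimeSpectrum.vanishingIdeal Z with hI
  let M : Submonoid C := 𝔭.primeCompl.map φ
  have hdisj : Disjoint (I : Set C) (M : Set C) := by
    rw [Set.disjoint_left]
    rintro c hcI ⟨g, hg, rfl⟩
    obtain ⟨q, hqZ, hq⟩ := hcon g hg
    exact hq ((PrimeSpectrum.mem_vanishingIdeal _ _).1 hcI q hqZ)
  obtain ⟨q, hqp, hIq, hqM⟩ := Ideal.exists_le_prime_disjoint I M hdisj
  have hqZ : (⟨q, hqp⟩ : PrimeSpectrum C) ∈ Z := by
    rw [← hZ.closure_eq, ← PrimeSpectrum.zeroLocus_vanishingIdeal_eq_closure]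
    exact hIq
  have hle : q.comap φ ≤ 𝔭 := by
    intro r hr
    by_contra hr'
    exact Set.disjoint_left.1 hqM hr ⟨r, hr', rfl⟩
  have : q.comap φ = 𝔭 := le_antisymm hle (h𝔭.2 ⟨inferInstance, bot_le⟩ hle)
  exact h _ hqZ this


/-- finitely many primes over `𝔭` ⇒ the fibre is a finite `κ(𝔭)`-module. -/
theorem finite_fiber {R A : Type*} [CommRing R] [CommRing A] [Algebra R A]
    [Algebra.FiniteType R A] (P : Ideal R) [P.IsPrime]
    (hfin : (PrimeSpectrum.comap (algebraMap R A) ⁻¹' {⟨P, inferInstance⟩}).Finite) :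
    Module.Finite P.ResidueField (P.Fiber A) := by
  rw [Module.finite_iff_isArtinianRing, isArtinianRing_iff_isNoetherianRing_krullDimLE_zero]
  have : IsJacobsonRing (P.Fiber A) := isJacobsonRing_of_finiteType (A := P.ResidueField)
  have : Finite (PrimeSpectrum (P.Fiber A)) :=
    (PrimeSpectrum.preimageEquivFiber R A ⟨P, ‹_›⟩).finite_iff.mp hfin
  exact ⟨Algebra.FiniteType.isNoetherianRing P.ResidueField _,
    (PrimeSpectrum.discreteTopology_iff_finite_and_krullDimLE_zero.mp inferInstance).right⟩


attribute [local instance] Algebra.TensorProduct.rightAlgebra in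
/-- A3': over a minimal prime with finite fibre, the localized algebra is integral. -/
theorem isIntegral_localization_of_finite_fiber {R A : Type*} [CommRing R] [CommRing A]
    [Algebra R A] [Algebra.FiniteType R A] (P : Ideal R) [P.IsPrime] (hP : P ∈ minimalPrimes R)
    (hfin : (PrimeSpectrum.comap (algebraMap R A) ⁻¹' {⟨P, inferInstance⟩}).Finite) (y : A) :
    IsIntegral (Localization P.primeCompl)
      (algebraMap A (Localization (Algebra.algebraMapSubmonoid A P.primeCompl)) y) := by
  set Rp := Localization P.primeCompl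
  set Sp := Localization (Algebra.algebraMapSubmonoid A P.primeCompl)
  haveI : Module.Finite P.ResidueField (P.Fiber A) := finite_fiber P hfin
  haveI : Ring.KrullDimLE 0 Rp := Ring.KrullDimLE.of_isLocalization P hP Rp
  let e := Ideal.Fiber.algEquivQuotient (S := A) P
  let pSp : Ideal Sp := (maximalIdeal Rp).map (algebraMap Rp Sp)
  let Θ : Sp →+* P.Fiber A := (e.symm : (Sp ⧸ pSp) →+* P.Fiber A).comp (Ideal.Quotient.mk pSp)
  have hΘA : ∀ a : A, Θ (algebraMap A Sp a) = (1 : P.ResidueField) ⊗ₜ[R] a := by
    intro a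
    show e.symm (Ideal.Quotient.mk pSp (algebraMap A Sp a)) = _
    have : Ideal.Quotient.mk pSp (algebraMap A Sp a) = algebraMap A (Sp ⧸ pSp) a := rfl
    rw [this, AlgEquiv.commutes]
    rfl
  have hker : RingHom.ker Θ = pSp := by
    ext w
    simp only [Θ, RingHom.mem_ker, RingHom.comp_apply]
    rw [← Ideal.Quotient.eq_zero_iff_mem]
    constructor
    · intro h
      have := congrArg e h
      simpa using this
    · intro h
      rw [h]; simp
  have hcomp : Θ.comp (algebraMap Rp Sp) =
      (algebraMap P.ResidueField (P.Fiber A)).comp (algebraMap Rp P.ResidueField) := by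
    apply IsLocalization.ringHom_ext P.primeCompl
    ext r
    simp only [RingHom.comp_apply]
    rw [← IsScalarTower.algebraMap_apply R Rp Sp, IsScalarTower.algebraMap_apply R A Sp, hΘA,
      ← IsScalarTower.algebraMap_apply R Rp P.ResidueField]
    rw [Algebra.TensorProduct.algebraMap_apply, Algebra.algebraMap_self, RingHom.id_apply]
    rw [Algebra.algebraMap_eq_smul_one, Algebra.algebraMap_eq_smul_one (A := P.ResidueField),
      TensorProduct.smul_tmul]
  have hz : IsIntegral P.ResidueField ((1 : P.ResidueField) ⊗ₜ[R] y : P.Fiber A) :=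
    Algebra.IsIntegral.isIntegral _
  obtain ⟨Pbar, hPbar, hPz⟩ := hz
  obtain ⟨Q, hQmap, -, hQmonic⟩ := Polynomial.lifts_and_natDegree_eq_and_monic
    ((Polynomial.mem_lifts _).2 (Polynomial.map_surjective (algebraMap Rp P.ResidueField)
      IsLocalRing.residue_surjective Pbar)) hPbar
  set w := Polynomial.eval₂ (algebraMap Rp Sp) (algebraMap A Sp y) Q with hw
  have hΘw : Θ w = 0 := by
    rw [hw, Polynomial.hom_eval₂, hcomp, hΘA, ← Polynomial.eval₂_map, hQmap]
    exact hPz
  have hwmem : w ∈ pSp := by rw [← hker]; exact hΘw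
  have hnil : pSp ≤ nilradical Sp := by
    rw [Ideal.map_le_iff_le_comap]
    intro x hx
    have : IsNilpotent x := Ring.KrullDimLE.isNilpotent_iff_mem_maximalIdeal.2 hx
    exact this.map _
  obtain ⟨N, hN⟩ := hnil hwmem
  refine ⟨Q ^ N, hQmonic.pow N, ?_⟩
  rw [Polynomial.eval₂_pow, ← hw, hN]


/-- A3: over a minimal prime with finite fibre, every element becomes integral after multiplying by
some `g ∉ P`. -/
theorem exists_notMem_isIntegral_smul {R A : Type*} [CommRing R] [CommRing A]
    [Algebra R A] [Algebra.FiniteType R A] (P : Ideal R) [P.IsPrime] (hP : P ∈ minimalPrimes R)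
    (hfin : (PrimeSpectrum.comap (algebraMap R A) ⁻¹' {⟨P, inferInstance⟩}).Finite) (y : A) :
    ∃ g ∉ P, IsIntegral R (g • y) := by
  have h1 := isIntegral_localization_of_finite_fiber P hP hfin y
  set Sp := Localization (Algebra.algebraMapSubmonoid A P.primeCompl)
  obtain ⟨⟨m, hm⟩, hm1⟩ := IsIntegral.exists_multiple_integral_of_isLocalization P.primeCompl
    (algebraMap A Sp y) h1
  have hm2 : IsIntegral R (algebraMap A Sp (m • y)) := by
    have : algebraMap A Sp (m • y) = m • algebraMap A Sp y := by
      rw [Algebra.smul_def, map_mul, ← IsScalarTower.algebraMap_apply, Algebra.smul_def]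
    rw [this]; exact hm1
  obtain ⟨m', hm', hm3⟩ := IsLocalization.exists_isIntegral_smul_of_isIntegral_map
    (Sₘ := Sp) P.primeCompl (x := m • y) hm2
  refine ⟨m' * m, ?_, ?_⟩
  · exact fun h => (‹P.IsPrime›.mem_or_mem h).elim hm' hm
  · rwa [mul_smul]

/-- A2'': finite set of generators all becoming integral after multiplication by a single `g`. -/
theorem exists_notMem_generators_isIntegral {R A : Type*} [CommRing R] [CommRing A]
    [Algebra R A] [Algebra.FiniteType R A] (P : Ideal R) [P.IsPrime] (hP : P ∈ minimalPrimes R)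
    (hfin : (PrimeSpectrum.comap (algebraMap R A) ⁻¹' {⟨P, inferInstance⟩}).Finite) :
    ∃ g ∉ P, ∃ s : Finset A, Algebra.adjoin R (s : Set A) = ⊤ ∧ ∀ x ∈ s, IsIntegral R (g • x) := by
  classical
  obtain ⟨s, hs⟩ := (Algebra.FiniteType.out : (⊤ : Subalgebra R A).FG)
  choose g hg hgi using fun y : A => exists_notMem_isIntegral_smul P hP hfin y
  refine ⟨∏ x ∈ s, g x, ?_, s, hs, ?_⟩
  · intro h
    obtain ⟨x, -, hx⟩ := (Ideal.IsPrime.prod_mem_iff).1 h
    exact hg x hx
  · intro x hx
    rw [← Finset.mul_prod_erase s g hx, mul_comm, mul_smul]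
    exact (hgi x).smul _

/-- Lemma L: if generators become integral after multiplying by `g`, then the localized map is
integral. -/
theorem isIntegral_awayMap {R A R' A' : Type*} [CommRing R] [CommRing A] [CommRing R']
    [CommRing A'] [Algebra R A] [Algebra R R'] [Algebra A A'] (g : R)
    [IsLocalization.Away g R'] [IsLocalization.Away (algebraMap R A g) A']
    (s : Finset A) (hs : Algebra.adjoin R (s : Set A) = ⊤)
    (hint : ∀ x ∈ s, IsIntegral R (g • x)) :
    (IsLocalization.Away.map R' A' (algebraMap R A) g).IsIntegral := by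
  set ψ := IsLocalization.Away.map R' A' (algebraMap R A) g with hψ
  letI : Algebra R' A' := ψ.toAlgebra
  letI : Algebra R A' := ((algebraMap A A').comp (algebraMap R A)).toAlgebra
  haveI : IsScalarTower R A A' := IsScalarTower.of_algebraMap_eq (fun _ => rfl)
  have hψmap : ∀ r : R, ψ (algebraMap R R' r) = algebraMap A A' (algebraMap R A r) := by
    intro r
    exact IsLocalization.map_eq _ r
  haveI : IsScalarTower R R' A' := IsScalarTower.of_algebraMap_eq (fun r => (hψmap r).symm)
  set v : A' := ψ (IsLocalization.Away.invSelf g) with hv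
  have hvint : IsIntegral R' v := isIntegral_algebraMap
  have hvu : v * algebraMap A A' (algebraMap R A g) = 1 := by
    rw [← hψmap, hv, ← map_mul, mul_comm, IsLocalization.Away.mul_invSelf, map_one]
  have h1 : ∀ a : A, IsIntegral R' (algebraMap A A' a) := by
    intro a
    have ha : a ∈ Algebra.adjoin R (s : Set A) := by rw [hs]; trivial
    induction ha using Algebra.adjoin_induction with
    | mem x hx =>
      have hx1 : IsIntegral R (algebraMap A A' (g • x)) := (hint x hx).algebraMap
      have hx2 : IsIntegral R' (algebraMap A A' (g • x)) := hx1.tower_top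
      have : algebraMap A A' x = v * algebraMap A A' (g • x) := by
        rw [Algebra.smul_def, map_mul, ← mul_assoc, hvu, one_mul]
      rw [this]
      exact hvint.mul hx2
    | algebraMap r =>
      rw [← hψmap]
      exact isIntegral_algebraMap
    | add x y _ _ hx hy => rw [map_add]; exact hx.add hy
    | mul x y _ _ hx hy => rw [map_mul]; exact hx.mul hy
  intro b
  obtain ⟨n, a, hb⟩ := IsLocalization.Away.surj (algebraMap R A g) b
  have : b = algebraMap A A' a * v ^ n := by
    rw [← hb, mul_assoc, ← mul_pow, mul_comm _ v, hvu, one_pow, mul_one]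
  show IsIntegral R' b
  rw [this]
  exact (h1 a).mul (hvint.pow n)

end Groth.Agent.Helper3.GenFin
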