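import Mathlib
import Groth.Agent.Helper3.GenFin1

set_option autoImplicit false
universe u
open CategoryTheory CategoryTheory.Limits AlgebraicGeometry TopologicalSpace Opposite

namespace Groth.Agent.Helper3.GenFin

set_option backward.isDefEq.respectTransparency false in
/-- Lemma R -/
theorem isFinite_restrict_of_isIntegral {X Y : Scheme.{u}} (f : X ⟶ Y) [LocallyOfFiniteType f]
    (V : Y.Opens) (hV : IsAffineOpen V) (W : X.Opens) (hW : IsAffineOpen W) (hWV : f ⁻¹ᵁ V = W)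
    (hint : (f.appLE V W hWV.ge).hom.IsIntegral) : IsFinite (f ∣_ V) := by
  subst hWV
  rw [IsFinite.iff_isIntegralHom_and_locallyOfFiniteType]
  refine ⟨?_, inferInstance⟩
  haveI : IsAffine V := hV
  rw [HasAffineProperty.iff_of_isAffine (P := @IsIntegralHom)]
  refine ⟨hW, ?_⟩
  rw [morphismRestrict_app, CommRingCat.hom_comp,
    RingHom.isIntegral_respectsIso.cancel_right_isIso]
  have h2 : (f.app V).hom.IsIntegral := by
    rwa [Scheme.Hom.appLE_eq_app] at hint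
  change (Scheme.Hom.app f (V.ι ''ᵁ ⊤)).hom.IsIntegral
  rw [Scheme.Opens.ι_image_top]
  exact h2


theorem primeIdealOf_fromSpec {X : Scheme.{u}} {U : X.Opens} (hU : IsAffineOpen U)
    (q : PrimeSpectrum Γ(X, U)) (hq : hU.fromSpec q ∈ U) :
    hU.primeIdealOf ⟨hU.fromSpec q, hq⟩ = q := by
  apply hU.fromSpec.isOpenEmbedding.injective
  exact hU.fromSpec_primeIdealOf ⟨hU.fromSpec q, hq⟩

theorem fromSpec_mem {X : Scheme.{u}} {U : X.Opens} (hU : IsAffineOpen U)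
    (q : PrimeSpectrum Γ(X, U)) : hU.fromSpec q ∈ U := by
  have : hU.fromSpec q ∈ Set.range hU.fromSpec := ⟨q, rfl⟩
  rwa [hU.range_fromSpec] at this

theorem primeIdealOf_injective {X : Scheme.{u}} {U : X.Opens} (hU : IsAffineOpen U)
    {x y : U} (h : hU.primeIdealOf x = hU.primeIdealOf y) : x = y := by
  apply Subtype.ext
  rw [← hU.fromSpec_primeIdealOf x, ← hU.fromSpec_primeIdealOf y, h]

/-- P3' -/
theorem mem_basicOpen_iff_notMem_primeIdealOf {X : Scheme.{u}} {U : X.Opens} (hU : IsAffineOpen U)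
    (x : X) (hx : x ∈ U) (a : Γ(X, U)) :
    x ∈ X.basicOpen a ↔ a ∉ (hU.primeIdealOf ⟨x, hx⟩).asIdeal := by
  have h1 : hU.fromSpec (hU.primeIdealOf ⟨x, hx⟩) = x := hU.fromSpec_primeIdealOf ⟨x, hx⟩
  have h2 := hU.fromSpec_preimage_basicOpen a
  have h3 : hU.primeIdealOf ⟨x, hx⟩ ∈ hU.fromSpec ⁻¹ᵁ X.basicOpen a ↔ x ∈ X.basicOpen a := by
    show hU.fromSpec (hU.primeIdealOf ⟨x, hx⟩) ∈ X.basicOpen a ↔ _
    rw [h1]
  rw [← h3, h2]
  exact PrimeSpectrum.mem_basicOpen _ _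

/-- P4' -/
theorem mem_basicOpen_appLE_iff {X Y : Scheme.{u}} (f : X ⟶ Y) (V : Y.Opens) (W : X.Opens)
    (e : W ≤ f ⁻¹ᵁ V) (g : Γ(Y, V)) (x : X) (hx : x ∈ W) :
    x ∈ X.basicOpen (f.appLE V W e g) ↔ f x ∈ Y.basicOpen g := by
  have : X.basicOpen (f.appLE V W e g) = W ⊓ f ⁻¹ᵁ (Y.basicOpen g) := by
    rw [Scheme.Hom.appLE, CommRingCat.comp_apply, Scheme.basicOpen_res, Scheme.preimage_basicOpen]
  rw [this]
  exact ⟨fun h => h.2, fun h => ⟨hx, h⟩⟩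

/-- P1 -/
theorem mem_minimalPrimes_of_maximal {Y : Scheme.{u}} (η : Y) (hη : ∀ y : Y, y ⤳ η → y = η)
    (V : Y.Opens) (hV : IsAffineOpen V) (hηV : η ∈ V) :
    (hV.primeIdealOf ⟨η, hηV⟩).asIdeal ∈ minimalPrimes Γ(Y, V) := by
  refine ⟨⟨(hV.primeIdealOf ⟨η, hηV⟩).isPrime, bot_le⟩, ?_⟩
  rintro 𝔮 ⟨h𝔮, -⟩ hle
  let Q : PrimeSpectrum Γ(Y, V) := ⟨𝔮, h𝔮⟩
  have h1 : Q ⤳ hV.primeIdealOf ⟨η, hηV⟩ := (PrimeSpectrum.le_iff_specializes _ _).1 hle
  have h2 : hV.fromSpec Q ⤳ η := by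
    have := h1.map hV.fromSpec.continuous
    rwa [hV.fromSpec_primeIdealOf ⟨η, hηV⟩] at this
  have h3 : hV.fromSpec Q = η := hη _ h2
  have h4 : Q = hV.primeIdealOf ⟨η, hηV⟩ := by
    apply hV.fromSpec.isOpenEmbedding.injective
    rw [h3]; exact (hV.fromSpec_primeIdealOf ⟨η, hηV⟩).symm
  rw [← h4]

/-- P2 -/
theorem map_fromSpec_eq_of_comap_eq {X Y : Scheme.{u}} (f : X ⟶ Y) (V : Y.Opens)
    (hV : IsAffineOpen V) (W : X.Opens) (hW : IsAffineOpen W) (e : W ≤ f ⁻¹ᵁ V) (η : Y)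
    (hηV : η ∈ V) (q : PrimeSpectrum Γ(X, W))
    (hq : q.asIdeal.comap (f.appLE V W e).hom = (hV.primeIdealOf ⟨η, hηV⟩).asIdeal) :
    f (hW.fromSpec q) = η := by
  have hx : hW.fromSpec q ∈ W := fromSpec_mem hW q
  have h1 := IsAffineOpen.comap_primeIdealOf_appLE (f := f) V hV W hW e hx
  rw [primeIdealOf_fromSpec hW q hx] at h1
  have h2 : hV.primeIdealOf ⟨f (hW.fromSpec q), e hx⟩ = hV.primeIdealOf ⟨η, hηV⟩ := by
    rw [← h1]
    exact PrimeSpectrum.ext hq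
  exact congrArg Subtype.val (primeIdealOf_injective hV h2)


theorem mem_basicOpen_iff_notMem {Y : Scheme.{u}} (η : Y) (V : Y.Opens) (hV : IsAffineOpen V)
    (hηV : η ∈ V) (g : Γ(Y, V)) :
    η ∈ Y.basicOpen g ↔ g ∉ (hV.primeIdealOf ⟨η, hηV⟩).asIdeal :=
  mem_basicOpen_iff_notMem_primeIdealOf hV η hηV g

/-- Lemma T -/
theorem exists_basicOpen_disjoint {X Y : Scheme.{u}} (f : X ⟶ Y) (η : Y)
    (hη : ∀ y : Y, y ⤳ η → y = η) (V : Y.Opens) (hV : IsAffineOpen V) (hηV : η ∈ V)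
    (W : X.Opens) (hW : IsAffineOpen W) (hWV : W ≤ f ⁻¹ᵁ V) (Z : Set X) (hZ : IsClosed Z)
    (hZη : ∀ x ∈ Z, x ∈ W → f x ≠ η) :
    ∃ g : Γ(Y, V), η ∈ Y.basicOpen g ∧ ∀ x ∈ Z, x ∈ W → f x ∉ Y.basicOpen g := by
  have hmin := mem_minimalPrimes_of_maximal η hη V hV hηV
  set 𝔭 := (hV.primeIdealOf ⟨η, hηV⟩).asIdeal with h𝔭
  let φ := (f.appLE V W hWV).hom
  let Z' : Set (PrimeSpectrum Γ(X, W)) := hW.fromSpec ⁻¹' Z
  have hZ' : IsClosed Z' := hZ.preimage hW.fromSpec.continuous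
  have h1 : ∀ q ∈ Z', q.asIdeal.comap φ ≠ 𝔭 := by
    intro q hq hcon
    have := map_fromSpec_eq_of_comap_eq f V hV W hW hWV η hηV q hcon
    exact hZη _ hq (fromSpec_mem hW q) this
  obtain ⟨g, hg, hgZ⟩ := exists_notMem_forall_mem φ 𝔭 hmin Z' hZ' h1
  refine ⟨g, (mem_basicOpen_iff_notMem η V hV hηV g).2 hg, ?_⟩
  intro x hxZ hxW hfx
  have h2 : x ∈ X.basicOpen (f.appLE V W hWV g) := (mem_basicOpen_appLE_iff f V W hWV g x hxW).2 hfx
  rw [mem_basicOpen_iff_notMem_primeIdealOf hW x hxW] at h2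
  apply h2
  apply hgZ
  show hW.fromSpec (hW.primeIdealOf ⟨x, hxW⟩) ∈ Z
  rw [hW.fromSpec_primeIdealOf ⟨x, hxW⟩]
  exact hxZ

/-- finite version of Lemma T, over a finite family of affine opens -/
theorem exists_basicOpen_disjoint_finite {X Y : Scheme.{u}} (f : X ⟶ Y) (η : Y)
    (hη : ∀ y : Y, y ⤳ η → y = η) (V : Y.Opens) (hV : IsAffineOpen V) (hηV : η ∈ V)
    (S : Set X.affineOpens) (hS : S.Finite) (hSV : ∀ W ∈ S, (W : X.Opens) ≤ f ⁻¹ᵁ V)
    (Z : Set X) (hZ : IsClosed Z)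
    (hZη : ∀ W ∈ S, ∀ x ∈ Z, x ∈ (W : X.Opens) → f x ≠ η) :
    ∃ g : Γ(Y, V), η ∈ Y.basicOpen g ∧ ∀ W ∈ S, ∀ x ∈ Z, x ∈ (W : X.Opens) →
      f x ∉ Y.basicOpen g := by
  classical
  induction S, hS using Set.Finite.induction_on with
  | empty =>
    refine ⟨1, ?_, by simp⟩
    rw [Scheme.basicOpen_of_isUnit _ isUnit_one]; exact hηV
  | @insert W S hWS hS ih =>
    obtain ⟨g₁, hg₁, h₁⟩ := ih (fun W' hW' => hSV W' (Set.mem_insert_of_mem _ hW'))
      (fun W' hW' => hZη W' (Set.mem_insert_of_mem _ hW'))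
    obtain ⟨g₂, hg₂, h₂⟩ := exists_basicOpen_disjoint f η hη V hV hηV W.1 W.2
      (hSV W (Set.mem_insert _ _)) Z hZ (hZη W (Set.mem_insert _ _))
    refine ⟨g₁ * g₂, ?_, ?_⟩
    · rw [Scheme.basicOpen_mul]; exact ⟨hg₁, hg₂⟩
    · intro W' hW' x hxZ hxW' hfx
      rw [Scheme.basicOpen_mul] at hfx
      rcases Set.mem_insert_iff.1 hW' with rfl | hW'
      · exact h₂ x hxZ hxW' hfx.2
      · exact h₁ W' hW' x hxZ hxW' hfx.1


/-- Core C -/
theorem core {X Y : Scheme.{u}} (f : X ⟶ Y) [LocallyOfFiniteType f] [QuasiCompact f] (η : Y)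
    (hη : ∀ y : Y, y ⤳ η → y = η) (V : Y.Opens) (hV : IsAffineOpen V) (hηV : η ∈ V)
    (U : X.Opens) (hU : IsAffineOpen U) (hUV : U ≤ f ⁻¹ᵁ V) (hfib : f ⁻¹' {η} ⊆ U)
    (hfin : (f ⁻¹' {η}).Finite) :
    ∃ g : Γ(Y, V), η ∈ Y.basicOpen g ∧ IsFinite (f ∣_ Y.basicOpen g) := by
  classical
  have hmin := mem_minimalPrimes_of_maximal η hη V hV hηV
  set P := (hV.primeIdealOf ⟨η, hηV⟩).asIdeal with hP
  haveI : P.IsPrime := (hV.primeIdealOf ⟨η, hηV⟩).isPrime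
  let φ := (f.appLE V U hUV).hom
  letI : Algebra Γ(Y, V) Γ(X, U) := φ.toAlgebra
  haveI : Algebra.FiniteType Γ(Y, V) Γ(X, U) := f.finiteType_appLE hV hU hUV
  have hfin' : (PrimeSpectrum.comap (algebraMap Γ(Y, V) Γ(X, U)) ⁻¹' {⟨P, inferInstance⟩}).Finite := by
    refine (hfin.preimage (hU.fromSpec.isOpenEmbedding.injective.injOn)).subset ?_
    intro q hq
    have hq' : q.asIdeal.comap φ = P := congrArg PrimeSpectrum.asIdeal hq
    exact map_fromSpec_eq_of_comap_eq f V hV U hU hUV η hηV q hq'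
  obtain ⟨g₁, hg₁, s, hs, hint⟩ := exists_notMem_generators_isIntegral P hmin hfin'
  have hc : IsCompact (f ⁻¹ᵁ V : Set X) := f.isCompact_preimage hV.isCompact
  obtain ⟨S, hSfin, hSeq⟩ := isCompact_iff_finite_and_eq_biUnion_affineOpens.mp hc
  have hSV : ∀ W ∈ S, (W : X.Opens) ≤ f ⁻¹ᵁ V := by
    intro W hW
    rw [hSeq]
    exact le_iSup₂ (f := fun (i : X.affineOpens) (_ : i ∈ S) => (i : X.Opens)) W hW
  obtain ⟨g₂, hg₂, hg₂Z⟩ := exists_basicOpen_disjoint_finite f η hη V hV hηV S hSfin hSV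
    ((U : Set X)ᶜ) U.isOpen.isClosed_compl (fun _ _ x hx _ hfx => hx (hfib hfx))
  refine ⟨g₁ * g₂, ?_, ?_⟩
  · rw [Scheme.basicOpen_mul]
    exact ⟨(mem_basicOpen_iff_notMem η V hV hηV g₁).2 hg₁, hg₂⟩
  · set g := g₁ * g₂ with hg
    have hpre : f ⁻¹ᵁ Y.basicOpen g = X.basicOpen (f.appLE V U hUV g) := by
      ext x
      constructor
      · intro hx
        have hfx : f x ∈ Y.basicOpen g := hx
        have hxV : x ∈ f ⁻¹ᵁ V := Y.basicOpen_le g hfx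
        have hxU : x ∈ U := by
          by_contra hxU
          rw [hSeq] at hxV
          simp only [Opens.mem_iSup] at hxV
          obtain ⟨W, hW, hxW⟩ := hxV
          refine hg₂Z W hW x hxU hxW ?_
          rw [hg, Scheme.basicOpen_mul] at hfx
          exact hfx.2
        exact (mem_basicOpen_appLE_iff f V U hUV g x hxU).2 hfx
      · intro hx
        have hxU : x ∈ U := X.basicOpen_le _ hx
        exact (mem_basicOpen_appLE_iff f V U hUV g x hxU).1 hx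
    apply isFinite_restrict_of_isIntegral f (Y.basicOpen g) (hV.basicOpen g)
      (X.basicOpen (f.appLE V U hUV g)) (hU.basicOpen _) hpre
    have hloc1 := hV.isLocalization_basicOpen g
    have hloc2 := hU.isLocalization_basicOpen (f.appLE V U hUV g)
    have key := IsAffineOpen.appLE_eq_away_map f hV hU hUV g
    have hint' : ∀ x ∈ s, IsIntegral Γ(Y, V) (g • x) := by
      intro x hx
      rw [hg, mul_comm, mul_smul]
      exact (hint x hx).smul _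
    have hfinal := isIntegral_awayMap (R := Γ(Y, V)) (A := Γ(X, U))
      (R' := Γ(Y, Y.basicOpen g)) (A' := Γ(X, X.basicOpen (f.appLE V U hUV g))) g s hs hint'
    convert hfinal using 1
    rw [key]
    rfl

end Groth.Agent.Helper3.GenFin
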