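import Mathlib
import Groth.Agent.Helper3.GenFin2

set_option autoImplicit false
universe u
open CategoryTheory CategoryTheory.Limits AlgebraicGeometry TopologicalSpace Opposite Function

namespace Groth.Agent.Helper3.GenFin

/-- a finite fibre of a morphism locally of finite type is discrete -/
theorem isDiscrete_fiber_of_finite {X Y : Scheme.{u}} (f : X ⟶ Y) [LocallyOfFiniteType f] (η : Y)
    (hfin : (f ⁻¹' {η}).Finite) : _root_.IsDiscrete (f ⁻¹' {η}) := by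
  haveI : Finite (f.fiber η) := (f.fiberHomeo η).finite_iff.mpr hfin.to_subtype
  haveI : LocallyOfFiniteType (f.fiberToSpecResidueField η) :=
    inferInstanceAs (LocallyOfFiniteType (pullback.snd f (Y.fromSpecResidueField η)))
  haveI : LocallyQuasiFinite (f.fiberToSpecResidueField η) :=
    LocallyQuasiFinite.of_finite_preimage_singleton _ (fun _ => Set.toFinite _)
  haveI : IsLocallyArtinian (f.fiber η) :=
    IsLocallyArtinian.of_locallyQuasiFinite (f.fiberToSpecResidueField η)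
  simpa [Scheme.Hom.range_fiberι] using
    (isDiscrete_univ_iff.mpr inferInstance).image (f.fiberι η).isEmbedding.toIsInducing

theorem mem_basicOpen_prod {Y : Scheme.{u}} (V : Y.Opens) (hV : IsAffineOpen V) (y : Y)
    (hy : y ∈ V) {ι : Type*} (s : Finset ι) (a : ι → Γ(Y, V)) :
    y ∈ Y.basicOpen (∏ i ∈ s, a i) ↔ ∀ i ∈ s, y ∈ Y.basicOpen (a i) := by
  simp only [mem_basicOpen_iff_notMem y V hV hy]
  rw [Ideal.IsPrime.prod_mem_iff]
  push_neg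
  rfl


/-- disjoint affine opens + Core C -/
theorem core_of_disjoint {X Y : Scheme.{u}} (f : X ⟶ Y) [LocallyOfFiniteType f] [QuasiCompact f]
    (η : Y) (hη : ∀ y : Y, y ⤳ η → y = η) (V : Y.Opens) (hV : IsAffineOpen V) (hηV : η ∈ V)
    (hfin : (f ⁻¹' {η}).Finite) (U : f ⁻¹' {η} → X.Opens) (hU : ∀ ξ, IsAffineOpen (U ξ))
    (hξU : ∀ ξ, ξ.1 ∈ U ξ) (hUV : ∀ ξ, U ξ ≤ f ⁻¹ᵁ V) (hdisj : Pairwise (Disjoint on U)) :
    ∃ g : Γ(Y, V), η ∈ Y.basicOpen g ∧ IsFinite (f ∣_ Y.basicOpen g) := by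
  haveI : Finite (f ⁻¹' {η}) := hfin.to_subtype
  have hUaff : IsAffineOpen (⨆ ξ, U ξ) := IsAffineOpen.iSup_of_disjoint hU hdisj
  refine core f η hη V hV hηV (⨆ ξ, U ξ) hUaff (iSup_le hUV) ?_ hfin
  intro x hx
  exact Opens.mem_iSup.2 ⟨⟨x, hx⟩, hξU ⟨x, hx⟩⟩

/-- Theorem G -/
theorem exists_finite_nhd_of_qs {X Y : Scheme.{u}} (f : X ⟶ Y) [LocallyOfFiniteType f]
    [QuasiCompact f] [QuasiSeparated f] (η : Y) (hη : ∀ y : Y, y ⤳ η → y = η)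
    (hfin : (f ⁻¹' {η}).Finite) :
    ∃ V : Y.Opens, IsAffineOpen V ∧ η ∈ V ∧ IsFinite (f ∣_ V) := by
  classical
  obtain ⟨_, ⟨V₀, hV₀, rfl⟩, hηV₀, -⟩ :=
    Y.isBasis_affineOpens.exists_subset_of_mem_open (Set.mem_univ η) isOpen_univ
  have hdisc := isDiscrete_fiber_of_finite f η hfin
  haveI : DiscreteTopology (f ⁻¹' {η}) := hdisc.to_subtype
  haveI : Finite (f ⁻¹' {η}) := hfin.to_subtype
  haveI : Fintype (f ⁻¹' {η}) := Fintype.ofFinite _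
  -- choose affine neighbourhoods
  have hU : ∀ ξ : f ⁻¹' {η}, ∃ U : X.Opens, IsAffineOpen U ∧ ξ.1 ∈ U ∧ U ≤ f ⁻¹ᵁ V₀ ∧
      ∀ x ∈ U, f x = η → x = ξ.1 := by
    intro ξ
    have hopen : IsOpen ({ξ} : Set (f ⁻¹' {η})) := isOpen_discrete _
    obtain ⟨O, hO, hOeq⟩ := isOpen_induced_iff.1 hopen
    have hξO : ξ.1 ∈ O := by
      have : ξ ∈ Subtype.val ⁻¹' O := by rw [hOeq]; rfl
      exact this
    have hξV : ξ.1 ∈ f ⁻¹ᵁ V₀ := by
      show f ξ.1 ∈ V₀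
      rw [ξ.2]; exact hηV₀
    obtain ⟨_, ⟨U, hU, rfl⟩, hξU, hUO⟩ := X.isBasis_affineOpens.exists_subset_of_mem_open
      (show ξ.1 ∈ O ∩ (f ⁻¹ᵁ V₀ : Set X) from ⟨hξO, hξV⟩) (hO.inter (f ⁻¹ᵁ V₀).isOpen)
    refine ⟨U, hU, hξU, fun x hx => (hUO hx).2, ?_⟩
    intro x hx hfx
    have : (⟨x, hfx⟩ : f ⁻¹' {η}) ∈ Subtype.val ⁻¹' O := (hUO hx).1
    rw [hOeq] at this
    exact congrArg Subtype.val this
  choose U hUaff hξU hUV₀ hUfib using hU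
  -- pairwise intersections
  have hqs : IsQuasiSeparated (f ⁻¹ᵁ V₀ : Set X) := f.isQuasiSeparated_preimage hV₀.isQuasiSeparated
  have hpair : ∀ ξ ξ' : f ⁻¹' {η}, ξ ≠ ξ' → ∃ g : Γ(Y, V₀), η ∈ Y.basicOpen g ∧
      ∀ x, x ∈ U ξ → x ∈ U ξ' → f x ∉ Y.basicOpen g := by
    intro ξ ξ' hne
    have hc : IsCompact ((U ξ ⊓ U ξ' : X.Opens) : Set X) :=
      hqs _ _ (hUV₀ ξ) (U ξ).isOpen (hUaff ξ).isCompact (hUV₀ ξ') (U ξ').isOpen (hUaff ξ').isCompact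
    obtain ⟨S, hSfin, hSeq⟩ := isCompact_iff_finite_and_eq_biUnion_affineOpens.mp hc
    have hSle : ∀ W ∈ S, (W : X.Opens) ≤ U ξ ⊓ U ξ' := by
      intro W hW
      rw [hSeq]
      exact le_iSup₂ (f := fun (i : X.affineOpens) (_ : i ∈ S) => (i : X.Opens)) W hW
    obtain ⟨g, hg, hgS⟩ := exists_basicOpen_disjoint_finite f η hη V₀ hV₀ hηV₀ S hSfin
      (fun W hW => (hSle W hW).trans (inf_le_left.trans (hUV₀ ξ))) Set.univ isClosed_univ
      (by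
        intro W hW x _ hxW hfx
        have h1 := hUfib ξ x (hSle W hW hxW).1 hfx
        have h2 := hUfib ξ' x (hSle W hW hxW).2 hfx
        exact hne (Subtype.ext (h1.symm.trans h2)))
    refine ⟨g, hg, ?_⟩
    intro x hx hx'
    have hxQ : x ∈ U ξ ⊓ U ξ' := ⟨hx, hx'⟩
    rw [hSeq] at hxQ
    simp only [Opens.mem_iSup] at hxQ
    obtain ⟨W, hW, hxW⟩ := hxQ
    exact hgS W hW x trivial hxW
  let G : f ⁻¹' {η} → f ⁻¹' {η} → Γ(Y, V₀) := fun ξ ξ' =>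
    if h : ξ ≠ ξ' then (hpair ξ ξ' h).choose else 1
  have hG1 : ∀ ξ ξ', η ∈ Y.basicOpen (G ξ ξ') := by
    intro ξ ξ'
    by_cases h : ξ ≠ ξ'
    · simp only [G, dif_pos h]; exact (hpair ξ ξ' h).choose_spec.1
    · simp only [G, dif_neg h]
      rw [Scheme.basicOpen_of_isUnit _ isUnit_one]; exact hηV₀
  have hG2 : ∀ ξ ξ', ξ ≠ ξ' → ∀ x, x ∈ U ξ → x ∈ U ξ' → f x ∉ Y.basicOpen (G ξ ξ') := by
    intro ξ ξ' h
    simp only [G, dif_pos h]; exact (hpair ξ ξ' h).choose_spec.2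
  set g : Γ(Y, V₀) := ∏ ξ ∈ (Finset.univ : Finset (f ⁻¹' {η})),
    ∏ ξ' ∈ (Finset.univ : Finset (f ⁻¹' {η})), G ξ ξ' with hgdef
  have hgmem : ∀ y : Y, y ∈ V₀ → (y ∈ Y.basicOpen g ↔ ∀ ξ ξ', y ∈ Y.basicOpen (G ξ ξ')) := by
    intro y hy
    rw [hgdef, mem_basicOpen_prod V₀ hV₀ y hy]
    simp only [mem_basicOpen_prod V₀ hV₀ y hy, Finset.mem_univ, true_implies]
  have hηg : η ∈ Y.basicOpen g := (hgmem η hηV₀).2 hG1
  -- the shrunken opens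
  set V₁ := Y.basicOpen g with hV₁
  have hV₁aff : IsAffineOpen V₁ := hV₀.basicOpen g
  let U' : f ⁻¹' {η} → X.Opens := fun ξ => X.basicOpen (f.appLE V₀ (U ξ) (hUV₀ ξ) g)
  have hU'mem : ∀ ξ x, x ∈ U' ξ ↔ x ∈ U ξ ∧ f x ∈ V₁ := by
    intro ξ x
    constructor
    · intro hx
      have hxU : x ∈ U ξ := X.basicOpen_le _ hx
      exact ⟨hxU, (mem_basicOpen_appLE_iff f V₀ (U ξ) (hUV₀ ξ) g x hxU).1 hx⟩
    · rintro ⟨hxU, hfx⟩
      exact (mem_basicOpen_appLE_iff f V₀ (U ξ) (hUV₀ ξ) g x hxU).2 hfx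
  have hU'aff : ∀ ξ, IsAffineOpen (U' ξ) := fun ξ => (hUaff ξ).basicOpen _
  have hdisj : Pairwise (Disjoint on U') := by
    intro ξ ξ' hne
    show Disjoint (U' ξ) (U' ξ')
    rw [disjoint_iff]
    ext x
    simp only [Opens.coe_inf, Set.mem_inter_iff, SetLike.mem_coe, Opens.coe_bot,
      Set.mem_empty_iff_false, iff_false, not_and]
    intro hx hx'
    obtain ⟨hxU, hfx⟩ := (hU'mem ξ x).1 hx
    obtain ⟨hxU', -⟩ := (hU'mem ξ' x).1 hx'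
    have hfxV₀ : f x ∈ V₀ := hUV₀ ξ hxU
    exact hG2 ξ ξ' hne x hxU hxU' (((hgmem (f x) hfxV₀).1 hfx) ξ ξ')
  obtain ⟨g', hg', hfinite⟩ := core_of_disjoint f η hη V₁ hV₁aff hηg hfin U' hU'aff
    (fun ξ => (hU'mem ξ ξ.1).2 ⟨hξU ξ, by rw [ξ.2]; exact hηg⟩)
    (fun ξ x hx => ((hU'mem ξ x).1 hx).2) hdisj
  exact ⟨Y.basicOpen g', hV₁aff.basicOpen g', hg', hfinite⟩


theorem maximal_of_mem_irreducibleComponents {Y : Type*} [TopologicalSpace Y] [T0Space Y] (η : Y)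
    (hη : closure {η} ∈ irreducibleComponents Y) : ∀ y : Y, y ⤳ η → y = η := by
  intro y hy
  have h1 : closure ({η} : Set Y) ≤ closure {y} :=
    closure_minimal (Set.singleton_subset_iff.2 hy.mem_closure) isClosed_closure
  have h2 : closure ({y} : Set Y) ≤ closure {η} := hη.2 isIrreducible_singleton.closure h1
  have h3 : η ⤳ y := specializes_iff_mem_closure.2 (h2 (subset_closure rfl))
  exact (hy.antisymm h3).eq

theorem finite_fiber_of_isFinite_restrict {X Y : Scheme.{u}} (f : X ⟶ Y) (V : Y.Opens)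
    [IsFinite (f ∣_ V)] (y : Y) (hy : y ∈ V) : (f ⁻¹' {y}).Finite := by
  have h2 : ((f ∣_ V) ⁻¹' {⟨y, hy⟩}).Finite := (f ∣_ V).finite_preimage_singleton ⟨y, hy⟩
  refine (h2.image (f ⁻¹ᵁ V).ι).subset ?_
  intro x hx
  have hx' : f x = y := hx
  have hxV : x ∈ f ⁻¹ᵁ V := by
    change f x ∈ V
    rw [hx']; exact hy
  refine ⟨⟨x, hxV⟩, ?_, rfl⟩
  change (f ∣_ V) ⟨x, hxV⟩ = ⟨y, hy⟩
  apply Subtype.ext
  have := morphismRestrict_ι f V
  have h3 := congrArg (fun g : (f ⁻¹ᵁ V : Scheme) ⟶ Y => g ⟨x, hxV⟩) this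
  exact h3.trans hx'

/-- S2080 -/
theorem s2080 {X Y : Scheme.{u}} (f : X ⟶ Y) [LocallyOfFiniteType f]
    [QuasiCompact f] [QuasiSeparated f] (η : Y)
    (hη : closure {η} ∈ irreducibleComponents (Y : Type u)) :
    (f.base ⁻¹' {η}).Finite ↔ ∃ V : Y.Opens, IsAffineOpen V ∧ η ∈ V ∧ IsFinite (f ∣_ V) := by
  constructor
  · intro hfin
    exact exists_finite_nhd_of_qs f η (maximal_of_mem_irreducibleComponents η hη) hfin
  · rintro ⟨V, -, hηV, hV⟩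
    exact finite_fiber_of_isFinite_restrict f V η hηV

end Groth.Agent.Helper3.GenFin
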