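import Mathlib
import Groth.Agent.Helper3.GenFin3

set_option autoImplicit false
set_option backward.isDefEq.respectTransparency.types false
universe u
open CategoryTheory CategoryTheory.Limits AlgebraicGeometry TopologicalSpace Opposite Function

namespace Groth.Agent.Helper3.GenFin

theorem isFinite_restrict_iSup {X Y : Scheme.{u}} (f : X ⟶ Y) {ι : Type u} (V : ι → Y.Opens)
    (hV : ∀ i, IsFinite (f ∣_ V i)) : IsFinite (f ∣_ ⨆ i, V i) := by
  let 𝒰 := Scheme.Opens.iSupOpenCover V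
  refine (IsZariskiLocalAtTarget.iff_of_openCover (P := @IsFinite) 𝒰).mpr fun y ↦ ?_
  refine (MorphismProperty.arrow_mk_iso_iff @IsFinite
    ((morphismRestrictRestrict ..).symm ≪≫ morphismRestrictOpensRange ..)).mp ?_
  have : Scheme.Opens.ι _ ''ᵁ (𝒰.f y).opensRange = V y := by
    simp only [Scheme.Opens.iSupOpenCover, 𝒰, ← Scheme.Hom.opensRange_comp, Scheme.homOfLE_ι,
      Scheme.Opens.opensRange_ι]
  convert! hV y

/-- Theorem G' -/
theorem exists_finite_nhd_of_finite_components {X Y : Scheme.{u}} (f : X ⟶ Y)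
    [LocallyOfFiniteType f] [QuasiCompact f]
    (hX : (irreducibleComponents (X : Type u)).Finite) (η : Y)
    (hηc : closure {η} ∈ irreducibleComponents (Y : Type u))
    (hgen : ∀ x : X, f x = η → closure {x} ∈ irreducibleComponents (X : Type u)) :
    ∃ V : Y.Opens, η ∈ V ∧ IsFinite (f ∣_ V) := by
  classical
  have hη := maximal_of_mem_irreducibleComponents η hηc
  have hfin : (f ⁻¹' {η}).Finite := by
    have hinj : Set.InjOn (fun x : X => closure ({x} : Set X)) (f ⁻¹' {η}) := by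
      intro x _ x' _ h
      have h' : closure ({x} : Set X) = closure ({x'} : Set X) := h
      have h1 : x ⤳ x' := by
        rw [specializes_iff_mem_closure, h']; exact subset_closure rfl
      have h2 : x' ⤳ x := by
        rw [specializes_iff_mem_closure, ← h']; exact subset_closure rfl
      exact (h1.antisymm h2).eq
    refine Set.Finite.of_finite_image (hX.subset ?_) hinj
    rintro _ ⟨x, hx, rfl⟩
    exact hgen x hx
  obtain ⟨_, ⟨V₀, hV₀, rfl⟩, hηV₀, -⟩ :=
    Y.isBasis_affineOpens.exists_subset_of_mem_open (Set.mem_univ η) isOpen_univ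
  have hmax : ∀ ξ : f ⁻¹' {η}, ∀ y : X, y ⤳ ξ.1 → y = ξ.1 := fun ξ =>
    maximal_of_mem_irreducibleComponents ξ.1 (hgen ξ.1 ξ.2)
  let O : f ⁻¹' {η} → Set X := fun ξ => (⋃₀ {Z ∈ irreducibleComponents (X : Type u) | ξ.1 ∉ Z})ᶜ
  have hO : ∀ ξ, IsOpen (O ξ) := by
    intro ξ
    rw [isOpen_compl_iff]
    have hfinS : {Z ∈ irreducibleComponents (X : Type u) | ξ.1 ∉ Z}.Finite :=
      hX.subset (fun Z hZ => hZ.1)
    rw [Set.sUnion_eq_biUnion]
    exact hfinS.isClosed_biUnion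
      (fun Z hZ => isClosed_of_mem_irreducibleComponents Z hZ.1)
  have hξO : ∀ ξ, ξ.1 ∈ O ξ := by
    rintro ξ ⟨Z, hZ, hξZ⟩
    exact hZ.2 hξZ
  have hOmem : ∀ ξ x, x ∈ O ξ → ∀ Z ∈ irreducibleComponents (X : Type u), x ∈ Z → ξ.1 ∈ Z := by
    intro ξ x hx Z hZ hxZ
    by_contra hξZ
    exact hx ⟨Z, ⟨hZ, hξZ⟩, hxZ⟩
  have hU : ∀ ξ : f ⁻¹' {η}, ∃ U : X.Opens, IsAffineOpen U ∧ ξ.1 ∈ U ∧ U ≤ f ⁻¹ᵁ V₀ ∧
      (U : Set X) ⊆ O ξ := by
    intro ξ
    have hξV : ξ.1 ∈ f ⁻¹ᵁ V₀ := by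
      show f ξ.1 ∈ V₀
      rw [ξ.2]; exact hηV₀
    obtain ⟨_, ⟨U, hU, rfl⟩, hξU, hUO⟩ := X.isBasis_affineOpens.exists_subset_of_mem_open
      (show ξ.1 ∈ O ξ ∩ (f ⁻¹ᵁ V₀ : Set X) from ⟨hξO ξ, hξV⟩) ((hO ξ).inter (f ⁻¹ᵁ V₀).isOpen)
    exact ⟨U, hU, hξU, fun x hx => (hUO hx).2, fun x hx => (hUO hx).1⟩
  choose U hUaff hξU hUV₀ hUO using hU
  have hdisj : Pairwise (Disjoint on U) := by
    intro ξ ξ' hne
    show Disjoint (U ξ) (U ξ')
    rw [disjoint_iff]
    ext x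
    simp only [Opens.coe_inf, Set.mem_inter_iff, SetLike.mem_coe, Opens.coe_bot,
      Set.mem_empty_iff_false, iff_false, not_and]
    intro hx hx'
    apply hne
    have hZ := irreducibleComponent_mem_irreducibleComponents x
    have h1 := hOmem ξ x (hUO ξ hx) _ hZ mem_irreducibleComponent
    have h2 := hOmem ξ' x (hUO ξ' hx') _ hZ mem_irreducibleComponent
    obtain ⟨ζ, hζ⟩ := QuasiSober.sober (isIrreducible_irreducibleComponent (x := x))
      (isClosed_irreducibleComponent (x := x))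
    have e1 : ζ = ξ.1 := hmax ξ ζ (hζ.specializes h1)
    have e2 : ζ = ξ'.1 := hmax ξ' ζ (hζ.specializes h2)
    exact Subtype.ext (e1.symm.trans e2)
  obtain ⟨g, hg, hfinite⟩ := core_of_disjoint f η hη V₀ hV₀ hηV₀ hfin U hUaff hξU hUV₀ hdisj
  exact ⟨Y.basicOpen g, hg, hfinite⟩

/-- S2081 -/
theorem s2081 {X Y : Scheme.{u}} (f : X ⟶ Y) [LocallyOfFiniteType f]
    [QuasiCompact f] (hX : (irreducibleComponents (X : Type u)).Finite)
    (_hY : (irreducibleComponents (Y : Type u)).Finite)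
    (hgen : ∀ x : X, closure {x} ∈ irreducibleComponents (X : Type u) ↔
      closure {f.base x} ∈ irreducibleComponents (Y : Type u)) :
    ∃ V : Y.Opens, Dense (V : Set Y) ∧ IsFinite (f ∣_ V) := by
  have key : ∀ Z : irreducibleComponents (Y : Type u), ∃ (η : Y) (V : Y.Opens),
      IsGenericPoint η Z.1 ∧ η ∈ V ∧ IsFinite (f ∣_ V) := by
    intro Z
    obtain ⟨η, hη⟩ := QuasiSober.sober Z.2.1 (isClosed_of_mem_irreducibleComponents Z.1 Z.2)
    have hηc : closure {η} ∈ irreducibleComponents (Y : Type u) := by rw [hη.def]; exact Z.2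
    obtain ⟨V, hηV, hV⟩ := exists_finite_nhd_of_finite_components f hX η hηc
      (fun x hx => (hgen x).2 (by rw [show f.base x = η from hx]; exact hηc))
    exact ⟨η, V, hη, hηV, hV⟩
  choose η V hη hηV hV using key
  refine ⟨⨆ Z, V Z, ?_, isFinite_restrict_iSup f V hV⟩
  rw [dense_iff_inter_open]
  rintro O hO ⟨y, hy⟩
  let Z : irreducibleComponents (Y : Type u) :=
    ⟨irreducibleComponent y, irreducibleComponent_mem_irreducibleComponents y⟩
  have h1 : η Z ⤳ y := (hη Z).specializes mem_irreducibleComponent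
  refine ⟨η Z, h1.mem_open hO hy, ?_⟩
  exact Opens.mem_iSup.2 ⟨Z, hηV Z⟩

end Groth.Agent.Helper3.GenFin
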