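import Mathlib
import Groth.Agent.Helper3.GenFin4

set_option autoImplicit false
set_option backward.isDefEq.respectTransparency.types false
set_option maxHeartbeats 4000000
set_option synthInstance.maxHeartbeats 400000
universe u
open CategoryTheory CategoryTheory.Limits AlgebraicGeometry TopologicalSpace Opposite Function

namespace Groth.Agent.Helper3.GenFin

/-- Lemma R'' -/
theorem isFinite_resLE_of_isIntegral {X Y : Scheme.{u}} (f : X ⟶ Y) [LocallyOfFiniteType f]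
    (V : Y.Opens) (hV : IsAffineOpen V) (W : X.Opens) (hW : IsAffineOpen W) (e : W ≤ f ⁻¹ᵁ V)
    (hint : (f.appLE V W e).hom.IsIntegral) : IsFinite (f.resLE V W e) := by
  rw [IsFinite.iff_isIntegralHom_and_locallyOfFiniteType]
  refine ⟨?_, inferInstance⟩
  haveI : IsAffine V := hV
  haveI : IsAffine W := hW
  rw [HasAffineProperty.iff_of_isAffine (P := @IsIntegralHom)]
  refine ⟨hW, ?_⟩
  exact (RingHom.isIntegral_respectsIso.arrow_mk_iso_iff (arrowResLEAppIso f V W e)).2 hint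

/-- Core C₀ -/
theorem core₀ {X Y : Scheme.{u}} (f : X ⟶ Y) [LocallyOfFiniteType f] (η : Y)
    (hη : ∀ y : Y, y ⤳ η → y = η) (V : Y.Opens) (hV : IsAffineOpen V) (hηV : η ∈ V)
    (U : X.Opens) (hU : IsAffineOpen U) (hUV : U ≤ f ⁻¹ᵁ V)
    (hfin : (f ⁻¹' {η} ∩ (U : Set X)).Finite) :
    ∃ g : Γ(Y, V), η ∈ Y.basicOpen g ∧
      ∀ e, (f.appLE (Y.basicOpen g) (X.basicOpen (f.appLE V U hUV g)) e).hom.IsIntegral := by
  classical
  have hmin := mem_minimalPrimes_of_maximal η hη V hV hηV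
  set P := (hV.primeIdealOf ⟨η, hηV⟩).asIdeal with hP
  haveI : P.IsPrime := (hV.primeIdealOf ⟨η, hηV⟩).isPrime
  let φ := (f.appLE V U hUV).hom
  letI : Algebra Γ(Y, V) Γ(X, U) := φ.toAlgebra
  haveI : Algebra.FiniteType Γ(Y, V) Γ(X, U) := f.finiteType_appLE hV hU hUV
  have hfin' : (PrimeSpectrum.comap (algebraMap Γ(Y, V) Γ(X, U)) ⁻¹' {⟨P, inferInstance⟩}).Finite := by
    refine (hfin.preimage (hU.fromSpec.isOpenEmbedding.injective.injOn)).subset ?_
    intro q hq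
    have hq' : q.asIdeal.comap φ = P := congrArg PrimeSpectrum.asIdeal hq
    exact ⟨map_fromSpec_eq_of_comap_eq f V hV U hU hUV η hηV q hq', fromSpec_mem hU q⟩
  obtain ⟨g, hg, s, hs, hint⟩ := exists_notMem_generators_isIntegral P hmin hfin'
  refine ⟨g, (mem_basicOpen_iff_notMem η V hV hηV g).2 hg, ?_⟩
  intro e
  have hloc1 := hV.isLocalization_basicOpen g
  have hloc2 := hU.isLocalization_basicOpen (f.appLE V U hUV g)
  have key := IsAffineOpen.appLE_eq_away_map f hV hU hUV g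
  have hfinal := isIntegral_awayMap (R := Γ(Y, V)) (A := Γ(X, U))
    (R' := Γ(Y, Y.basicOpen g)) (A' := Γ(X, X.basicOpen (f.appLE V U hUV g))) g s hs hint
  convert hfinal using 1
  rw [key]
  rfl


theorem map_genericPoint_of_isDominant {X Y : Scheme.{u}} [IrreducibleSpace X] [IrreducibleSpace Y]
    (f : X ⟶ Y) [IsDominant f] : f (genericPoint X) = genericPoint Y := by
  have hsub : Set.range f ⊆ closure ({f (genericPoint X)} : Set Y) := by
    rintro _ ⟨z, rfl⟩
    have h1 : genericPoint X ⤳ z := genericPoint_specializes z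
    exact specializes_iff_mem_closure.mp (h1.map f.continuous)
  have h1 : closure ({f (genericPoint X)} : Set Y) = Set.univ := by
    apply Set.eq_univ_of_univ_subset
    rw [← f.denseRange.closure_eq]
    exact closure_minimal hsub isClosed_closure
  have hg1 : IsGenericPoint (f (genericPoint X)) (⊤ : Set Y) := h1
  exact hg1.eq (genericPoint_spec Y)

/-- Q ⇔ C -/
theorem quasiFiniteAt_genericPoint_iff {X Y : Scheme.{u}} [IrreducibleSpace X] (f : X ⟶ Y)
    [LocallyOfFiniteType f] :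
    f.QuasiFiniteAt (genericPoint X) ↔
      ∀ x : X, f x = f (genericPoint X) → x = genericPoint X := by
  rw [Scheme.Hom.quasiFiniteAt_iff_isOpen_singleton_asFiber]
  set ξ := genericPoint X with hξ
  have hinj : Function.Injective (f.fiberι (f ξ)) := (f.fiberι (f ξ)).isEmbedding.injective
  constructor
  · intro hopen x hx
    have hcl : IsClosed ({f.asFiber ξ} : Set (f.fiber (f ξ))) :=
      isClosed_singleton_of_isLocallyClosed_singleton hopen.isLocallyClosed
    set p : f.fiber (f ξ) := (f.fiberHomeo (f ξ)).symm ⟨x, hx⟩ with hp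
    have hpx : f.fiberι (f ξ) p = x := f.fiberι_fiberHomeo_symm _ _
    have hsp : f.asFiber ξ ⤳ p := by
      rw [← (f.fiberι (f ξ)).isEmbedding.isInducing.specializes_iff, hpx, f.fiberι_asFiber]
      exact genericPoint_specializes x
    have hmem : p ∈ closure ({f.asFiber ξ} : Set (f.fiber (f ξ))) :=
      specializes_iff_mem_closure.1 hsp
    rw [hcl.closure_eq, Set.mem_singleton_iff] at hmem
    rw [← hpx, hmem, f.fiberι_asFiber]
  · intro hC
    have : ({f.asFiber ξ} : Set (f.fiber (f ξ))) = Set.univ := by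
      apply Set.eq_univ_of_forall
      intro p
      rw [Set.mem_singleton_iff]
      apply hinj
      rw [f.fiberι_asFiber]
      apply hC
      have : f.fiberι (f ξ) p ∈ Set.range (f.fiberι (f ξ)) := ⟨p, rfl⟩
      rw [f.range_fiberι] at this
      exact this
    rw [this]
    exact isOpen_univ


theorem isIso_residue_of_isField (X : Scheme.{u}) (x : X) (hX : IsField (X.presheaf.stalk x)) :
    IsIso (X.residue x) := by
  rw [ConcreteCategory.isIso_iff_bijective]
  refine ⟨?_, X.residue_surjective x⟩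
  letI := hX.toField
  exact (X.residue x).hom.injective

/-- A ⇔ Q -/
theorem finite_residueFieldMap_iff_quasiFiniteAt {X Y : Scheme.{u}} (f : X ⟶ Y) (x : X)
    (hX : IsField (X.presheaf.stalk x)) (hY : IsField (Y.presheaf.stalk (f x))) :
    (f.residueFieldMap x).hom.Finite ↔ f.QuasiFiniteAt x := by
  haveI := isIso_residue_of_isField X x hX
  haveI := isIso_residue_of_isField Y (f x) hY
  let e : Arrow.mk (f.stalkMap x) ≅ Arrow.mk (f.residueFieldMap x) :=
    Arrow.isoMk (asIso (Y.residue (f x))) (asIso (X.residue x))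
      (by simp [Scheme.residue_residueFieldMap])
  rw [← RingHom.finite_respectsIso.arrow_mk_iso_iff e]
  show (f.stalkMap x).hom.Finite ↔ (f.stalkMap x).hom.QuasiFinite
  have hart : IsArtinianRing (Y.presheaf.stalk (f x)) := by
    letI := hY.toField
    infer_instance
  letI := (f.stalkMap x).hom.toAlgebra
  exact (Algebra.QuasiFinite.iff_of_isArtinianRing).symm


theorem isField_stalk_of_eq_genericPoint (Y : Scheme.{u}) [IsIntegral Y] :
    ∀ y' : Y, y' = genericPoint Y → IsField (Y.presheaf.stalk y') := by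
  rintro _ rfl
  exact Field.toIsField Y.functionField

theorem genericPoint_maximal (Y : Scheme.{u}) [IrreducibleSpace Y] :
    ∀ y : Y, y ⤳ genericPoint Y → y = genericPoint Y :=
  fun y hy => (hy.antisymm (genericPoint_specializes y)).eq

theorem genericPoint_mem_of_nonempty (X : Scheme.{u}) [IrreducibleSpace X] (U : X.Opens)
    (hU : Nonempty U) : genericPoint X ∈ U := by
  obtain ⟨⟨x, hx⟩⟩ := hU
  exact (genericPoint_specializes x).mem_open U.isOpen hx

section S9702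

variable {X Y : Scheme.{u}} [IsIntegral X] [IsIntegral Y] (f : X ⟶ Y) [IsDominant f]
  [LocallyOfFiniteType f]

/-- C ⇒ B -/
theorem exists_finite_resLE_of_fiber (hC : ∀ x : X, f.base x = genericPoint Y → x = genericPoint X) :
    ∃ (U : X.Opens) (V : Y.Opens) (hUV : U ≤ f ⁻¹ᵁ V), IsAffineOpen U ∧ IsAffineOpen V ∧
      Nonempty ↥U ∧ IsFinite (f.resLE V U hUV) := by
  have hfξ := map_genericPoint_of_isDominant f
  set ξ := genericPoint X with hξ
  set η := genericPoint Y with hη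
  obtain ⟨_, ⟨V₀, hV₀, rfl⟩, hηV₀, -⟩ :=
    Y.isBasis_affineOpens.exists_subset_of_mem_open (Set.mem_univ η) isOpen_univ
  have hξV : ξ ∈ f ⁻¹ᵁ V₀ := by
    show f ξ ∈ V₀
    rw [hfξ]; exact hηV₀
  obtain ⟨_, ⟨U₀, hU₀, rfl⟩, hξU₀, hU₀V⟩ := X.isBasis_affineOpens.exists_subset_of_mem_open
    hξV (f ⁻¹ᵁ V₀).isOpen
  have hU₀V' : U₀ ≤ f ⁻¹ᵁ V₀ := hU₀V
  have hfin : (f ⁻¹' {η} ∩ (U₀ : Set X)).Finite := by
    refine (Set.finite_singleton ξ).subset ?_
    rintro x ⟨hx, -⟩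
    exact hC x hx
  obtain ⟨g, hg, hint⟩ := core₀ f η (genericPoint_maximal Y) V₀ hV₀ hηV₀ U₀ hU₀ hU₀V' hfin
  have hUV : X.basicOpen (f.appLE V₀ U₀ hU₀V' g) ≤ f ⁻¹ᵁ Y.basicOpen g := by
    intro x hx
    have hxU : x ∈ U₀ := X.basicOpen_le _ hx
    exact (mem_basicOpen_appLE_iff f V₀ U₀ hU₀V' g x hxU).1 hx
  refine ⟨X.basicOpen (f.appLE V₀ U₀ hU₀V' g), Y.basicOpen g, hUV, hU₀.basicOpen _,
    hV₀.basicOpen _, ⟨⟨ξ, ?_⟩⟩, ?_⟩
  · refine (mem_basicOpen_appLE_iff f V₀ U₀ hU₀V' g ξ hξU₀).2 ?_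
    rw [hfξ]; exact hg
  · exact isFinite_resLE_of_isIntegral f _ (hV₀.basicOpen _) _ (hU₀.basicOpen _) hUV (hint hUV)

/-- B ⇒ Q -/
theorem quasiFiniteAt_of_finite_resLE (U : X.Opens) (V : Y.Opens) (hUV : U ≤ f ⁻¹ᵁ V)
    (hne : Nonempty ↥U) (hfin : IsFinite (f.resLE V U hUV)) :
    f.QuasiFiniteAt (genericPoint X) := by
  have hξU : genericPoint X ∈ U := genericPoint_mem_of_nonempty X U hne
  let x : U := ⟨genericPoint X, hξU⟩
  haveI := hfin
  have h1 : (f.resLE V U hUV).QuasiFiniteAt x := (f.resLE V U hUV).quasiFiniteAt x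
  have h2 : (f.resLE V U hUV ≫ V.ι).QuasiFiniteAt x :=
    (Scheme.Hom.quasiFiniteAt_comp_iff).2 h1
  rw [Scheme.Hom.resLE_comp_ι] at h2
  exact (Scheme.Hom.quasiFiniteAt_comp_iff_of_isOpenImmersion).1 h2

/-- D ⇒ B -/
theorem exists_finite_resLE_of_restrict (V : Y.Opens) (hV : IsAffineOpen V) (hne : Nonempty ↥V)
    (hfin : IsFinite (f ∣_ V)) :
    ∃ (U : X.Opens) (V : Y.Opens) (hUV : U ≤ f ⁻¹ᵁ V), IsAffineOpen U ∧ IsAffineOpen V ∧
      Nonempty ↥U ∧ IsFinite (f.resLE V U hUV) := by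
  have hfξ := map_genericPoint_of_isDominant f
  refine ⟨f ⁻¹ᵁ V, V, le_rfl, ?_, hV, ⟨⟨genericPoint X, ?_⟩⟩, ?_⟩
  · haveI : IsAffine V := hV
    exact isAffine_of_isAffineHom (f ∣_ V)
  · show f (genericPoint X) ∈ V
    rw [hfξ]; exact genericPoint_mem_of_nonempty Y V hne
  · rw [Scheme.Hom.resLE_eq_morphismRestrict]; exact hfin

/-- C ⇒ D for quasi-compact `f` -/
theorem exists_finite_restrict_of_fiber [QuasiCompact f]
    (hC : ∀ x : X, f.base x = genericPoint Y → x = genericPoint X) :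
    ∃ V : Y.Opens, IsAffineOpen V ∧ Nonempty ↥V ∧ IsFinite (f ∣_ V) := by
  have hfξ := map_genericPoint_of_isDominant f
  set ξ := genericPoint X with hξ
  set η := genericPoint Y with hη
  obtain ⟨_, ⟨V₀, hV₀, rfl⟩, hηV₀, -⟩ :=
    Y.isBasis_affineOpens.exists_subset_of_mem_open (Set.mem_univ η) isOpen_univ
  have hξV : ξ ∈ f ⁻¹ᵁ V₀ := by
    show f ξ ∈ V₀
    rw [hfξ]; exact hηV₀
  obtain ⟨_, ⟨U₀, hU₀, rfl⟩, hξU₀, hU₀V⟩ := X.isBasis_affineOpens.exists_subset_of_mem_open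
    hξV (f ⁻¹ᵁ V₀).isOpen
  have hfib : f ⁻¹' {η} ⊆ (U₀ : Set X) := by
    intro x hx
    rw [hC x hx]; exact hξU₀
  have hfin : (f ⁻¹' {η}).Finite := (Set.finite_singleton ξ).subset (fun x hx => hC x hx)
  obtain ⟨g, hg, hfinite⟩ := core f η (genericPoint_maximal Y) V₀ hV₀ hηV₀ U₀ hU₀ hU₀V hfib hfin
  exact ⟨Y.basicOpen g, hV₀.basicOpen g, ⟨⟨η, hg⟩⟩, hfinite⟩

/-- B ⇒ D for separated `f` -/
theorem exists_finite_restrict_of_resLE [IsSeparated f] (U : X.Opens) (V : Y.Opens)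
    (hUV : U ≤ f ⁻¹ᵁ V) (hV : IsAffineOpen V)
    (hne : Nonempty ↥U) (hfin : IsFinite (f.resLE V U hUV)) :
    ∃ V : Y.Opens, IsAffineOpen V ∧ Nonempty ↥V ∧ IsFinite (f ∣_ V) := by
  have hξU : genericPoint X ∈ U := genericPoint_mem_of_nonempty X U hne
  refine ⟨V, hV, ⟨⟨f (genericPoint X), hUV hξU⟩⟩, ?_⟩
  let j : (U : Scheme.{u}) ⟶ (f ⁻¹ᵁ V : Scheme.{u}) := X.homOfLE hUV
  have hj : j ≫ (f ∣_ V) = f.resLE V U hUV := by
    rw [← Scheme.Hom.resLE_eq_morphismRestrict]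
    exact Scheme.Hom.map_resLE f le_rfl hUV
  haveI : IsProper (j ≫ (f ∣_ V)) := by rw [hj]; infer_instance
  haveI : IsProper j := IsProper.of_comp j (f ∣_ V)
  have hcl : IsClosed (Set.range j) := j.isClosedMap.isClosed_range
  have hle : f ⁻¹ᵁ V ≤ U := by
    intro x hx
    let x' : (f ⁻¹ᵁ V : Scheme.{u}) := ⟨x, hx⟩
    let ξ' : (f ⁻¹ᵁ V : Scheme.{u}) := ⟨genericPoint X, hUV hξU⟩
    have hsp : ξ' ⤳ x' := by
      rw [← (f ⁻¹ᵁ V).ι.isEmbedding.isInducing.specializes_iff]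
      exact genericPoint_specializes x
    have hξ'mem : ξ' ∈ Set.range j :=
      ⟨⟨genericPoint X, hξU⟩, Scheme.homOfLE_apply' hUV (genericPoint X) hξU⟩
    obtain ⟨u, hu⟩ := hsp.mem_closed hcl hξ'mem
    have : u.1 = x := by
      have h5 := congrArg Subtype.val hu
      rwa [Scheme.homOfLE_apply] at h5
    rw [← this]; exact u.2
  have heq : U = f ⁻¹ᵁ V := le_antisymm hUV hle
  subst heq
  rw [← Scheme.Hom.resLE_eq_morphismRestrict]
  exact hfin


/-- S9702 -/
theorem s9702 :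
    let ξ := genericPoint ↥X
    let A := letI := (f.residueFieldMap ξ).hom.toAlgebra
      Module.Finite (Y.residueField (f.base ξ)) (X.residueField ξ)
    let B := ∃ (U : X.Opens) (V : Y.Opens) (hUV : U ≤ f ⁻¹ᵁ V), IsAffineOpen U ∧ IsAffineOpen V ∧
      Nonempty ↥U ∧ IsFinite (f.resLE V U hUV)
    let C := ∀ x : X, f.base x = genericPoint ↥Y → x = ξ
    let D := ∃ V : Y.Opens, IsAffineOpen V ∧ Nonempty ↥V ∧ IsFinite (f ∣_ V)
    (A ↔ B) ∧ (A ↔ C) ∧ (IsSeparated f ∨ QuasiCompact f → (A ↔ D)) := by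
  intro ξ A B C D
  have hfξ : f ξ = genericPoint Y := map_genericPoint_of_isDominant f
  have hAQ : A ↔ f.QuasiFiniteAt ξ :=
    finite_residueFieldMap_iff_quasiFiniteAt f ξ (Field.toIsField X.functionField)
      (isField_stalk_of_eq_genericPoint Y _ hfξ)
  have hQC : f.QuasiFiniteAt ξ ↔ C := by
    rw [quasiFiniteAt_genericPoint_iff]
    show (∀ x : X, f x = f ξ → x = ξ) ↔ ∀ x : X, f x = genericPoint Y → x = ξ
    rw [hfξ]
  have hCB : C → B := exists_finite_resLE_of_fiber f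
  have hBQ : B → f.QuasiFiniteAt ξ := by
    rintro ⟨U, V, hUV, -, -, hne, hfin⟩
    exact quasiFiniteAt_of_finite_resLE f U V hUV hne hfin
  have hDB : D → B := by
    rintro ⟨V, hV, hne, hfin⟩
    exact exists_finite_resLE_of_restrict f V hV hne hfin
  have hAB : A ↔ B := ⟨fun h => hCB (hQC.1 (hAQ.1 h)), fun h => hAQ.2 (hBQ h)⟩
  have hAC : A ↔ C := hAQ.trans hQC
  refine ⟨hAB, hAC, ?_⟩
  rintro (hsep | hqc)
  · refine ⟨fun h => ?_, fun h => hAB.2 (hDB h)⟩
    obtain ⟨U, V, hUV, -, hV, hne, hfin⟩ := hAB.1 h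
    exact exists_finite_restrict_of_resLE f U V hUV hV hne hfin
  · exact ⟨fun h => exists_finite_restrict_of_fiber f (hAC.1 h), fun h => hAB.2 (hDB h)⟩

end S9702

end Groth.Agent.Helper3.GenFin
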