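import Mathlib

set_option autoImplicit false
set_option linter.style.haveILetI false
set_option linter.unusedSectionVars false
set_option linter.unusedVariables false
set_option linter.style.haveILetI false
set_option linter.unusedSectionVars false
set_option linter.unusedVariables false

universe u
open CategoryTheory

namespace Groth.Agent.Helper3.GenInj

section flat

variable {A : Type*} [CommRing A]

/-- if `M/P` is flat, then `P ∩ IM = IP` (exact-sequence form) -/
theorem mem_map_smul_of_flat {P M Q : Type*} [AddCommGroup P] [Module A P] [AddCommGroup M]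
    [Module A M] [AddCommGroup Q] [Module A Q] (g : P →ₗ[A] M) (h : M →ₗ[A] Q)
    (hex : Function.Exact g h) (hsurj : Function.Surjective h) [Module.Flat A Q] (I : Ideal A)
    (y : M) (hy : h y = 0) (hyI : y ∈ I • (⊤ : Submodule A M)) :
    y ∈ Submodule.map g (I • (⊤ : Submodule A P)) := by
  classical
  have hyI' : y ∈ I • Submodule.span A (Set.range (id : M → M)) := by
    rwa [Set.range_id, Submodule.span_univ]
  obtain ⟨a, ha, rfl⟩ := (Submodule.mem_ideal_smul_span_iff_exists_sum I (id : M → M) y).mp hyI'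
  -- index by the support
  let ι := {m : M // m ∈ a.support}
  have hsum : (a.sum fun i c => c • (id i : M)) = ∑ i : ι, a i.1 • (i.1 : M) := by
    rw [Finsupp.sum, ← Finset.sum_coe_sort]
    rfl
  rw [hsum] at hy ⊢
  have hrel : ∑ i : ι, a i.1 • h (i.1 : M) = 0 := by
    rw [← hy, map_sum]
    simp
  obtain ⟨k, b, q, hq1, hq2⟩ := Module.Flat.isTrivialRelation_of_sum_smul_eq_zero hrel
  replace hq1 : ∀ i : ι, h (i.1 : M) = ∑ j, b i j • q j := hq1
  replace hq2 : ∀ j, ∑ i : ι, a i.1 * b i j = 0 := hq2
  choose z hz using fun j => hsurj (q j)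
  have hker : ∀ i : ι, ∃ p : P, g p = (i.1 : M) - ∑ j, b i j • z j := fun i => by
    apply (hex _).mp
    rw [map_sub, map_sum, hq1 i, sub_eq_zero]
    apply Finset.sum_congr rfl
    intro j _
    rw [map_smul, hz]
  choose p hp using hker
  refine ⟨∑ i : ι, a i.1 • p i, ?_, ?_⟩
  · exact Submodule.sum_mem _ fun i _ => Submodule.smul_mem_smul (ha _) Submodule.mem_top
  · rw [map_sum]
    have : ∀ i : ι, g (a i.1 • p i) = a i.1 • (i.1 : M) - ∑ j, (a i.1 * b i j) • z j := fun i => by
      rw [map_smul, hp, smul_sub, Finset.smul_sum]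
      simp [mul_smul]
    rw [Finset.sum_congr rfl (fun i _ => this i), Finset.sum_sub_distrib, Finset.sum_comm]
    have : ∀ j, ∑ i : ι, (a i.1 * b i j) • z j = 0 := fun j => by
      rw [← Finset.sum_smul, hq2 j, zero_smul]
    rw [Finset.sum_congr rfl (fun j _ => this j)]
    simp

end flat


section loc

variable {A : Type*} [CommRing A]

/-- clearing denominators in `I • ⊤` of a localized module -/
theorem exists_smul_eq_mk (S : Submonoid A) (I : Ideal A) {N : Type*} [AddCommGroup N]
    [Module A N] (w : LocalizedModule S N)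
    (hw : w ∈ I • (⊤ : Submodule A (LocalizedModule S N))) :
    ∃ t ∈ S, ∃ n ∈ I • (⊤ : Submodule A N), t • w = LocalizedModule.mk n 1 := by
  refine Submodule.smul_induction_on hw ?_ ?_
  · intro a ha w' _
    induction w' using LocalizedModule.induction_on with
    | h n' t' =>
      refine ⟨t', t'.2, a • n', Submodule.smul_mem_smul ha Submodule.mem_top, ?_⟩
      rw [LocalizedModule.smul'_mk, LocalizedModule.smul'_mk, ← Submonoid.smul_def,
        LocalizedModule.mk_cancel]
  · rintro w1 w2 ⟨t1, ht1, n1, hn1, h1⟩ ⟨t2, ht2, n2, hn2, h2⟩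
    refine ⟨t1 * t2, S.mul_mem ht1 ht2, t2 • n1 + t1 • n2,
      Submodule.add_mem _ (Submodule.smul_mem _ _ hn1) (Submodule.smul_mem _ _ hn2), ?_⟩
    rw [smul_add, mul_comm t1 t2, mul_smul, h1, mul_comm t2 t1, mul_smul, h2,
      LocalizedModule.smul'_mk, LocalizedModule.smul'_mk, LocalizedModule.mk_add_mk]
    simp


open LocalizedModule in
theorem key (u : Ideal A) [u.IsPrime] {M : Type*} [AddCommGroup M] [Module A M]
    (N : Submodule A M)
    (hfree : Module.Free (Localization.AtPrime u) (LocalizedModule u.primeCompl (M ⧸ N)))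
    (x : M) (hx : x ∈ N) (s : A) (hs : s ∉ u) (hsx : s • x ∈ u • (⊤ : Submodule A M)) :
    ∃ s' ∉ u, s' • x ∈ u • N := by
  set S := u.primeCompl with hS
  haveI : Module.Flat A (LocalizedModule S (M ⧸ N)) :=
    Module.Flat.trans A (Localization.AtPrime u) _
  let g := IsLocalizedModule.map S (mkLinearMap S N) (mkLinearMap S M) N.subtype
  let h := IsLocalizedModule.map S (mkLinearMap S M) (mkLinearMap S (M ⧸ N)) N.mkQ
  have hex : Function.Exact g h :=
    LocalizedModule.map_exact S N.subtype N.mkQ (LinearMap.exact_subtype_mkQ N)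
  have hsurj : Function.Surjective h :=
    LocalizedModule.map_surjective S N.mkQ N.mkQ_surjective
  let y : LocalizedModule S M := mk x 1
  have hy : h y = 0 := by
    show h (mk x 1) = 0
    rw [IsLocalizedModule.map_LocalizedModules]
    have : N.mkQ x = 0 := (Submodule.Quotient.mk_eq_zero N).mpr hx
    rw [this, zero_mk]
  have hsy : s • y ∈ u • (⊤ : Submodule A (LocalizedModule S M)) := by
    have h1 : s • y = mkLinearMap S M (s • x) := by
      show s • mk x 1 = _
      rw [smul'_mk, mkLinearMap_apply]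
    rw [h1]
    have h2 : Submodule.map (mkLinearMap S M) (u • (⊤ : Submodule A M)) ≤
        u • (⊤ : Submodule A (LocalizedModule S M)) := by
      rw [Submodule.map_smul'']
      exact Submodule.smul_mono le_rfl le_top
    exact h2 ⟨_, hsx, rfl⟩
  have hyI : y ∈ u • (⊤ : Submodule A (LocalizedModule S M)) := by
    have hu := IsLocalizedModule.map_units (S := S) (mkLinearMap S M) ⟨s, hs⟩
    obtain ⟨e, he⟩ := hu
    have h1 : (e⁻¹ : (Module.End A (LocalizedModule S M))ˣ).1 (s • y) = y := by
      have : s • y = e.1 y := by rw [he]; rfl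
      rw [this]
      exact congrFun (congrArg DFunLike.coe e.inv_mul) y
    rw [← h1]
    have h2 : Submodule.map (e⁻¹ : (Module.End A (LocalizedModule S M))ˣ).1
        (u • (⊤ : Submodule A (LocalizedModule S M))) ≤ u • ⊤ := by
      rw [Submodule.map_smul'']
      exact Submodule.smul_mono le_rfl le_top
    exact h2 ⟨_, hsy, rfl⟩
  obtain ⟨w, hw, hwy⟩ := mem_map_smul_of_flat g h hex hsurj u y hy hyI
  obtain ⟨t, ht, n, hn, htw⟩ := exists_smul_eq_mk S u w hw
  have h3 : mk (t • x) (1 : S) = mk (n : M) 1 := by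
    have : t • y = g (t • w) := by rw [map_smul, hwy]
    rw [htw, IsLocalizedModule.map_LocalizedModules] at this
    show _ = mk (N.subtype n) 1
    rw [← this]
    show _ = t • mk x 1
    rw [smul'_mk]
  obtain ⟨c, hc⟩ := mk_eq.mp h3
  refine ⟨c.1 * t, ?_, ?_⟩
  · exact (u.primeCompl.mul_mem c.2 ht)
  · have h4 : (c.1 * t) • x = c.1 • (n : M) := by
      simpa [mul_smul, Submonoid.smul_def] using hc
    rw [h4]
    apply Submodule.smul_mem
    have h5 : Submodule.map N.subtype (u • (⊤ : Submodule A N)) = u • N := by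
      rw [Submodule.map_smul'', Submodule.map_top, Submodule.range_subtype]
    rw [← h5]
    exact ⟨n, hn, rfl⟩

end loc


section main

open PrimeSpectrum TensorProduct

theorem bot_mem_freeLocus {A : Type*} [CommRing A] [IsDomain A] (Q : Type*) [AddCommGroup Q]
    [Module A Q] : (⟨⊥, Ideal.isPrime_bot⟩ : PrimeSpectrum A) ∈ Module.freeLocus A Q := by
  haveI : IsLocalization.AtPrime (FractionRing A) (⊥ : Ideal A) := by
    show IsLocalization (⊥ : Ideal A).primeCompl (FractionRing A)
    rw [Ideal.primeCompl_bot]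
    infer_instance
  rw [Module.mem_freeLocus_iff_tensor _ (FractionRing A)]
  exact Module.Free.of_divisionRing _ _

theorem main {A : Type u} [CommRing A] [IsNoetherianRing A] [IsDomain A]
    (F K : ModuleCat.{u} A ⥤ ModuleCat.{u} A)
    (ι : K ⟶ F) (hι : ∀ X : ModuleCat.{u} A, Function.Injective (ι.app X).hom)
    (hfin : Module.Finite A (F.obj (ModuleCat.of A A)))
    (hGI : ∃ U : Set (PrimeSpectrum A), IsOpen U ∧ Dense U ∧ ∀ u ∈ U,
        Algebra.FiniteType A u.asIdeal.ResidueField →
        ∀ m : F.obj (ModuleCat.of A A),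
          (F.map (ModuleCat.ofHom (Algebra.linearMap A u.asIdeal.ResidueField))).hom m = 0 →
            ∃ s ∉ u.asIdeal, s • m ∈ u.asIdeal • (⊤ : Submodule A (F.obj (ModuleCat.of A A)))) :
    ∃ U : Set (PrimeSpectrum A), IsOpen U ∧ Dense U ∧ ∀ u ∈ U,
        Algebra.FiniteType A u.asIdeal.ResidueField →
        ∀ m : K.obj (ModuleCat.of A A),
          (K.map (ModuleCat.ofHom (Algebra.linearMap A u.asIdeal.ResidueField))).hom m = 0 →
            ∃ s ∉ u.asIdeal, s • m ∈ u.asIdeal • (⊤ : Submodule A (K.obj (ModuleCat.of A A))) := by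
  obtain ⟨U, hUo, hUd, hU⟩ := hGI
  let N : Submodule A (F.obj (ModuleCat.of A A)) := LinearMap.range (ι.app (ModuleCat.of A A)).hom
  let Q := (F.obj (ModuleCat.of A A)) ⧸ N
  haveI : Module.Finite A Q := inferInstance
  haveI : Module.FinitePresentation A Q := Module.finitePresentation_of_finite A Q
  have hVo : IsOpen (Module.freeLocus A Q) := Module.isOpen_freeLocus
  have hVd : Dense (Module.freeLocus A Q) := hVo.dense ⟨_, bot_mem_freeLocus Q⟩
  refine ⟨U ∩ Module.freeLocus A Q, hUo.inter hVo, hUd.inter_of_isOpen_left hVd hUo, ?_⟩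
  rintro u ⟨huU, huV⟩ hft m hm
  have hnat := ι.naturality (ModuleCat.ofHom (Algebra.linearMap A u.asIdeal.ResidueField))
  have hm' : (F.map (ModuleCat.ofHom (Algebra.linearMap A u.asIdeal.ResidueField))).hom
      ((ι.app (ModuleCat.of A A)).hom m) = 0 := by
    have := congrArg (fun φ => φ.hom m) hnat
    simp only [ModuleCat.hom_comp, LinearMap.comp_apply] at this
    rw [← this, hm, map_zero]
  obtain ⟨s, hs, hsm⟩ := hU u huU hft _ hm'
  obtain ⟨s', hs', hs'm⟩ := key u.asIdeal N huV ((ι.app (ModuleCat.of A A)).hom m)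
    ⟨m, rfl⟩ s hs hsm
  refine ⟨s', hs', ?_⟩
  have h5 : Submodule.map (ι.app (ModuleCat.of A A)).hom
      (u.asIdeal • (⊤ : Submodule A (K.obj (ModuleCat.of A A)))) = u.asIdeal • N := by
    rw [Submodule.map_smul'', Submodule.map_top]
  rw [← h5] at hs'm
  obtain ⟨z, hz, hzm⟩ := hs'm
  rw [← map_smul] at hzm
  rw [← hι _ hzm]
  exact hz

end main

end Groth.Agent.Helper3.GenInj
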