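import Mathlib
import Groth.Prelude
import Groth.Agent.Helper3.TopConstr
import Groth.Agent.Helper2.TopDim

set_option autoImplicit false
set_option linter.style.haveILetI false
set_option linter.unusedSectionVars false
set_option linter.unusedVariables false
set_option linter.style.haveILetI false
set_option linter.unusedSectionVars false
set_option linter.unusedVariables false

open AlgebraicGeometry CategoryTheory CategoryTheory.Limits TopologicalSpace Topology

universe u

namespace Groth.Agent.Helper3.GenIrr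

/-- if the general closed fibre is irreducible and every component dominates, the source is
irreducible -/
theorem main (k : Type u) [Field k] (Y Z : Scheme.{u}) (g : Z ⟶ Spec (CommRingCat.of k))
    (f : Y ⟶ Z)
    [LocallyOfFiniteType g] [QuasiCompact g] [LocallyOfFiniteType f] [QuasiCompact f]
    [IrreducibleSpace Z]
    (hgen : ∃ V : Z.Opens, (V : Set Z).Nonempty ∧
      ∀ z ∈ V, IsClosed ({z} : Set Z) → IsIrreducible (f.base ⁻¹' {z}))
    (hdom : ∀ W ∈ irreducibleComponents Y, Dense (f.base '' W)) :
    IrreducibleSpace Y := by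
  haveI : IsLocallyNoetherian Z := LocallyOfFiniteType.isLocallyNoetherian g
  haveI : CompactSpace Z := QuasiCompact.compactSpace_of_compactSpace g
  haveI : IsNoetherian Z := {}
  haveI : IsLocallyNoetherian Y := LocallyOfFiniteType.isLocallyNoetherian f
  haveI : CompactSpace Y := QuasiCompact.compactSpace_of_compactSpace f
  haveI : IsNoetherian Y := {}
  haveI : JacobsonSpace Z := LocallyOfFiniteType.jacobsonSpace g
  haveI : LocallyOfFinitePresentation f := inferInstance
  obtain ⟨V, hVne, hV⟩ := hgen
  have hfin : (irreducibleComponents Y).Finite := NoetherianSpace.finite_irreducibleComponents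
  haveI : Finite ↥(irreducibleComponents Y) := hfin.to_subtype
  -- the part of a component lying on no other component
  let W0 : ↥(irreducibleComponents Y) → Set Y := fun W =>
    (⋃ W' : {W' : ↥(irreducibleComponents Y) // W' ≠ W}, (W'.1.1 : Set Y))ᶜ
  have hW0open : ∀ W, IsOpen (W0 W) := fun W =>
    (isClosed_iUnion_of_finite fun W' : {W' : ↥(irreducibleComponents Y) // W' ≠ W} =>
      isClosed_of_mem_irreducibleComponents W'.1.1 W'.1.2).isOpen_compl
  have hW0sub : ∀ W, W0 W ⊆ W.1 := by
    intro W y hy
    have hyu : y ∈ ⋃₀ irreducibleComponents Y := by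
      rw [sUnion_irreducibleComponents]; trivial
    obtain ⟨W', hW', hyW'⟩ := hyu
    by_cases h : (⟨W', hW'⟩ : ↥(irreducibleComponents Y)) = W
    · rw [← h]; exact hyW'
    · exact absurd (Set.mem_iUnion.mpr ⟨⟨⟨W', hW'⟩, h⟩, hyW'⟩) hy
  have hW0ne : ∀ W : ↥(irreducibleComponents Y), (W.1 ∩ W0 W).Nonempty := by
    intro W
    by_contra hne
    rw [Set.not_nonempty_iff_eq_empty] at hne
    have hsub : W.1 ⊆ ⋃ W' : {W' : ↥(irreducibleComponents Y) // W' ≠ W}, (W'.1.1 : Set Y) := by
      intro y hy
      by_contra hy'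
      have : y ∈ W.1 ∩ W0 W := ⟨hy, hy'⟩
      rw [hne] at this
      exact this
    obtain ⟨W', hW'⟩ := Groth.Agent.Helper2.TopDim.exists_subset_of_subset_iUnion W.1 W.2.1
      (fun W' : {W' : ↥(irreducibleComponents Y) // W' ≠ W} => (W'.1.1 : Set Y))
      (fun W' => isClosed_of_mem_irreducibleComponents W'.1.1 W'.1.2) hsub
    have : W.1 = W'.1.1 := le_antisymm hW' (W.2.2 W'.1.2.1 hW')
    exact W'.2 (Subtype.ext this.symm)
  -- a dense open of `Z` over which `W0 W` surjects
  have hO : ∀ W : ↥(irreducibleComponents Y), ∃ O : Set Z, IsOpen O ∧ O.Nonempty ∧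
      O ⊆ f.base '' (W0 W) := by
    intro W
    have hcons : IsConstructible (f.base '' (W0 W)) :=
      f.isConstructible_image ((NoetherianSpace.isCompact _).isConstructible (hW0open W))
    have hdense : closure (f.base '' (W0 W)) = Set.univ := by
      apply Set.eq_univ_of_univ_subset
      rw [← (hdom W.1 W.2).closure_eq]
      apply closure_minimal _ isClosed_closure
      have h1 : W.1 ⊆ closure (W.1 ∩ W0 W) :=
        subset_closure_inter_of_isPreirreducible_of_isOpen W.2.1.isPreirreducible (hW0open W)
          (hW0ne W)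
      refine (Set.image_mono h1).trans ?_
      refine (image_closure_subset_closure_image f.base.hom.continuous).trans ?_
      exact closure_mono (Set.image_mono Set.inter_subset_right)
    obtain ⟨y, hy⟩ := hW0ne W
    obtain ⟨O, hOo, hOne, hOsub⟩ := Groth.Agent.Helper3.TopConstr.exists_open_of_noetherian hcons
      ⟨f.base y, y, hy.2, rfl⟩
    rw [hdense, Set.univ_inter] at hOsub
    exact ⟨O, hOo, hOne.mono Set.inter_subset_right, hOsub⟩
  choose O hOo hOne hOsub using hO
  -- a closed point in all of them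
  classical
  obtain ⟨z₀, -, hz₀⟩ := (isIrreducible_iff_sInter.mp (IrreducibleSpace.isIrreducible_univ Z))
    (insert (V : Set Z) (Set.finite_range O).toFinset)
    (by
      intro u hu
      rw [Finset.mem_insert, Set.Finite.mem_toFinset] at hu
      rcases hu with rfl | ⟨W, rfl⟩
      · exact V.2
      · exact hOo W)
    (by
      intro u hu
      rw [Finset.mem_insert, Set.Finite.mem_toFinset] at hu
      rcases hu with rfl | ⟨W, rfl⟩
      · simpa using hVne
      · simpa using hOne W)
  have hz₀V : z₀ ∈ (V : Set Z) := hz₀ _ (by simp)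
  have hz₀O : ∀ W, z₀ ∈ O W := fun W => hz₀ _ (by simp)
  have hUopen : IsOpen ((V : Set Z) ∩ ⋂ W, O W) := V.2.inter (isOpen_iInter_of_finite hOo)
  obtain ⟨z, ⟨hzV, hzO⟩, hzcl⟩ := nonempty_inter_closedPoints
    (Z := (V : Set Z) ∩ ⋂ W, O W) ⟨z₀, hz₀V, Set.mem_iInter.mpr hz₀O⟩ hUopen.isLocallyClosed
  have hFirr := hV z hzV hzcl
  -- the fibre lies in one component
  have hFsub : f.base ⁻¹' {z} ⊆ ⋃ W : ↥(irreducibleComponents Y), (W.1 : Set Y) := by
    intro y _
    have hyu : y ∈ ⋃₀ irreducibleComponents Y := by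
      rw [sUnion_irreducibleComponents]; trivial
    obtain ⟨W', hW', hyW'⟩ := hyu
    exact Set.mem_iUnion.mpr ⟨⟨W', hW'⟩, hyW'⟩
  obtain ⟨W₀, hW₀⟩ := Groth.Agent.Helper2.TopDim.exists_subset_of_subset_iUnion _ hFirr
    (fun W : ↥(irreducibleComponents Y) => (W.1 : Set Y))
    (fun W => isClosed_of_mem_irreducibleComponents W.1 W.2) hFsub
  have hall : ∀ W : ↥(irreducibleComponents Y), W = W₀ := by
    intro W
    by_contra hne
    obtain ⟨y, hyW0, hyz⟩ := hOsub W (Set.mem_iInter.mp hzO W)
    have hyW₀ : y ∈ W₀.1 := hW₀ hyz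
    exact hyW0 (Set.mem_iUnion.mpr ⟨⟨W₀, fun h => hne h.symm⟩, hyW₀⟩)
  rw [irreducibleSpace_def]
  have huniv : (Set.univ : Set Y) = W₀.1 := by
    apply Set.Subset.antisymm
    · intro y _
      have hyu : y ∈ ⋃₀ irreducibleComponents Y := by
        rw [sUnion_irreducibleComponents]; trivial
      obtain ⟨W', hW', hyW'⟩ := hyu
      have := hall ⟨W', hW'⟩
      rw [← this]
      exact hyW'
    · exact Set.subset_univ _
  change IsIrreducible (Set.univ : Set Y)
  rw [huniv]
  exact W₀.2.1

end Groth.Agent.Helper3.GenIrr
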