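import Mathlib
import Groth.Prelude
import Groth.Agent.Helper3.GenLocA
import Groth.Agent.Helper3.GenLocB

set_option autoImplicit false
set_option linter.style.haveILetI false
set_option linter.unusedSectionVars false
set_option linter.unusedVariables false
set_option linter.deprecated false
set_option linter.style.haveILetI false
set_option linter.unusedSectionVars false
set_option linter.unusedVariables false

universe u

open CategoryTheory CategoryTheory.Limits AlgebraicGeometry TopologicalSpace Opposite

namespace Groth.Agent.Helper3.GenLocC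

theorem main (X : Scheme.{u}) [IsIntegral X] [X.IsSeparated]
    (U : X.Opens) (hU : IsAffineOpen U) (hne : (U : Set X).Nonempty) (hfin : ((U : Set X)ᶜ).Finite)
    (hloc : ∀ x : X, x ∉ U →
      IsNoetherianRing (X.presheaf.stalk x) ∧ ringKrullDim (X.presheaf.stalk x) = 1) :
    ∃ (L : X.Modules) (s : Coh.structureModule X ⟶ L), PicF.IsInvertible L ∧
      Curv2.IsGloballyGenerated L ∧ CohB1.genLocus L s = U := by
  obtain ⟨V, a, c, hcV, hac, hcU⟩ := Groth.Agent.Helper3.GenLocB.exists_fn U hU hne hfin hloc
  obtain ⟨L, σ, τ, hinv, h1, h2, h3⟩ := Groth.Agent.Helper3.GenLocA.exists_two U V hcV a c hac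
  refine ⟨L, σ, hinv, ?_, ?_⟩
  · apply Groth.Agent.Helper4.AmpleEventual.isGloballyGenerated_of_genLocus_cover L
      (ι := ULift.{u} Bool) (fun i => if i.down then σ else τ)
    intro x
    by_cases hx : x ∈ U
    · exact ⟨⟨true⟩, by simpa using h1 hx⟩
    · exact ⟨⟨false⟩, by simpa using h3 (hcV x hx)⟩
  · apply le_antisymm
    · intro x hx
      by_contra hxU
      have : x ∈ CohB1.genLocus L σ ⊓ V := ⟨hx, hcV x hxU⟩
      rw [h2] at this
      exact hxU (hcU this)
    · exact h1

end Groth.Agent.Helper3.GenLocC
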