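import Mathlib
import Groth.Agent.Helper3.GenSmDense
import Groth.Agent.Helper2.RegSmooth

set_option linter.style.haveILetI false
set_option linter.unusedSectionVars false
set_option linter.unusedVariables false
set_option linter.style.haveILetI false
set_option linter.unusedSectionVars false
set_option linter.unusedVariables false

open AlgebraicGeometry CategoryTheory CategoryTheory.Limits TensorProduct Function TopologicalSpace

namespace Groth.Agent.Helper3.GenSmReg

universe u

open Groth.Agent.Helper3.GeomRedPt3 Groth.Agent.Helper3.GeomRedSm Groth.Agent.Helper3.GenSmDense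

/-- topological lemma: a closed set missing the fibre over a generic point misses the preimage of a
neighbourhood of the generic point (Noetherian source). -/
theorem exists_open_of_generic {A B : Type*} [TopologicalSpace A] [TopologicalSpace B]
    [NoetherianSpace A] [QuasiSober A] [T0Space B] (φ : A → B) (hφ : Continuous φ)
    (Z : Set A) (hZ : IsClosed Z) (η : B) (hη : ∀ y : B, η ⤳ y)
    (hdisj : ∀ a ∈ Z, φ a ≠ η) :
    ∃ V : Set B, IsOpen V ∧ η ∈ V ∧ ∀ a, φ a ∈ V → a ∉ Z := by
  obtain ⟨S, hSf, hSc, hSi, hSU⟩ := NoetherianSpace.exists_finite_set_isClosed_irreducible hZ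
  choose ζ hζ using fun t (ht : t ∈ S) => QuasiSober.sober (hSi t ht) (hSc t ht)
  refine ⟨(⋃ t : S, closure {φ (ζ t.1 t.2)})ᶜ, ?_, ?_, ?_⟩
  · haveI : Finite S := hSf.to_subtype
    exact (isClosed_iUnion_of_finite fun t => isClosed_closure).isOpen_compl
  · simp only [Set.mem_compl_iff, Set.mem_iUnion, not_exists]
    rintro ⟨t, ht⟩ hmem
    have h1 : φ (ζ t ht) ⤳ η := specializes_iff_mem_closure.mpr hmem
    have h2 : φ (ζ t ht) = η := (h1.antisymm (hη _)).eq
    have h3 : ζ t ht ∈ Z := by
      rw [hSU]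
      exact ⟨t, ht, (hζ t ht).mem⟩
    exact hdisj _ h3 h2
  · intro a ha haZ
    rw [hSU] at haZ
    obtain ⟨t, ht, hat⟩ := haZ
    apply ha
    simp only [Set.mem_iUnion]
    refine ⟨⟨t, ht⟩, ?_⟩
    have h1 : ζ t ht ⤳ a := (hζ t ht).specializes hat
    exact specializes_iff_mem_closure.mp (h1.map hφ)

/-- a regular scheme locally of finite type over a perfect field is smooth -/
theorem smooth_of_regular_of_perfect (k : Type u) [Field k] [PerfectField k] {F : Scheme.{u}}
    (g : F ⟶ Spec (CommRingCat.of k)) [LocallyOfFiniteType g]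
    (hreg : ∀ z : F, IsRegularLocalRing (F.presheaf.stalk z)) : Smooth g := by
  haveI : LocallyOfFinitePresentation g := inferInstance
  rw [← Scheme.Hom.smoothLocus_eq_top_iff, eq_top_iff]
  rintro z -
  obtain ⟨_, ⟨V, hV, rfl⟩, hzV, -⟩ :=
    F.isBasis_affineOpens.exists_subset_of_mem_open (Set.mem_univ z) isOpen_univ
  have hV' : IsAffineOpen (V : F.Opens) := hV
  letI := algSec k g V
  haveI : IsOpenImmersion hV'.fromSpec := hV'.isOpenImmersion_fromSpec
  haveI : LocallyOfFiniteType (Spec.map (CommRingCat.ofHom (algebraMap k Γ(F, V)))) := by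
    rw [spec_map_eq k g V hV']; infer_instance
  have hft : (CommRingCat.ofHom (algebraMap k Γ(F, V))).hom.FiniteType :=
    (HasRingHomProperty.Spec_iff (P := @LocallyOfFiniteType)).mp inferInstance
  haveI : Algebra.FiniteType k Γ(F, V) := RingHom.finiteType_algebraMap.mp hft
  let q : Ideal Γ(F, V) := (hV'.primeIdealOf ⟨z, hzV⟩).asIdeal
  haveI : Algebra.IsGeometricallyReduced k q.ResidueField :=
    Groth.Agent.Helper1.FieldSmooth.isGeometricallyReduced_of_perfectField
  letI algV : Algebra Γ(F, V) (F.presheaf.stalk z) :=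
    F.presheaf.algebra_section_stalk ⟨z, hzV⟩
  haveI hloc : IsLocalization.AtPrime (F.presheaf.stalk z) q :=
    hV'.isLocalization_stalk ⟨z, hzV⟩
  haveI := hreg z
  have hreg' : IsRegularLocalRing (Localization.AtPrime q) :=
    .of_ringEquiv (IsLocalization.algEquiv q.primeCompl (F.presheaf.stalk z)
      (Localization.AtPrime q)).toRingEquiv
  rw [mem_smoothLocus_iff k g V hV' z hzV]
  exact (Groth.Agent.Helper2.RegSmooth.isSmoothAt_iff_isRegularLocalRing k Γ(F, V) q).mpr hreg'

theorem main (X Y : Scheme.{u}) [IsIntegral X] [IsIntegral Y]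
    [IsLocallyNoetherian X] (hreg : ∀ x : X, IsRegularLocalRing (X.presheaf.stalk x))
    (f : X ⟶ Y) [IsDominant f] [LocallyOfFinitePresentation f] [QuasiCompact f]
    [PerfectField Y.functionField] :
    ∃ V : Y.Opens, Dense (V : Set Y) ∧ Smooth (f ∣_ V) := by
  have hfield : IsField (Y.presheaf.stalk (genericPoint Y)) := Field.toIsField Y.functionField
  haveI : PerfectField (Y.residueField (genericPoint Y)) := by
    letI : Algebra Y.functionField (Y.residueField (genericPoint Y)) :=
      (Y.residue (genericPoint Y)).hom.toAlgebra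
    haveI : Algebra.IsIntegral Y.functionField (Y.residueField (genericPoint Y)) :=
      Algebra.IsIntegral.of_surjective (Algebra.ofId _ _) (Y.residue_surjective (genericPoint Y))
    exact Algebra.IsAlgebraic.perfectField (K := Y.functionField)
  haveI hflat : Flat (Y.fromSpecResidueField (genericPoint Y)) :=
    flat_fromSpecResidueField Y _ hfield
  haveI : Flat (f.fiberι (genericPoint Y)) :=
    MorphismProperty.pullback_fst (P := @Flat) f _ inferInstance
  have hregF : ∀ z : f.fiber (genericPoint Y),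
      IsRegularLocalRing ((f.fiber (genericPoint Y)).presheaf.stalk z) := fun z => by
    haveI := isIso_stalkMap (f.fiberι (genericPoint Y)) z
    haveI := hreg (f.fiberι (genericPoint Y) z)
    exact .of_ringEquiv (asIso ((f.fiberι (genericPoint Y)).stalkMap z)).commRingCatIsoToRingEquiv
  haveI : Smooth (f.fiberToSpecResidueField (genericPoint Y)) :=
    smooth_of_regular_of_perfect (Y.residueField (genericPoint Y)) _ hregF
  have hfib : ∀ x : X, f x = genericPoint Y → x ∈ f.smoothLocus := by
    intro x hx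
    have : x ∈ Set.range (f.fiberι (genericPoint Y)) := by rw [f.range_fiberι]; exact hx
    obtain ⟨z, rfl⟩ := this
    apply fiberι_mem_smoothLocus f _ hfield z
    rw [Scheme.Hom.smoothLocus_eq_top]; trivial
  obtain ⟨_, ⟨U, hU, rfl⟩, hηU, -⟩ :=
    Y.isBasis_affineOpens.exists_subset_of_mem_open (Set.mem_univ (genericPoint Y)) isOpen_univ
  have hU' : IsAffineOpen (U : Y.Opens) := hU
  haveI : CompactSpace (f ⁻¹ᵁ U : X.Opens) :=
    isCompact_iff_compactSpace.mp (QuasiCompact.isCompact_preimage (f := f) _ U.2 hU'.isCompact)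
  haveI : IsNoetherian ((f ⁻¹ᵁ U : X.Opens) : Scheme) := {}
  haveI : NoetherianSpace ((f ⁻¹ᵁ U : X.Opens) : Set X) :=
    inferInstanceAs (NoetherianSpace ((f ⁻¹ᵁ U : X.Opens) : Scheme))
  haveI : QuasiSober ((f ⁻¹ᵁ U : X.Opens) : Set X) :=
    inferInstanceAs (QuasiSober ((f ⁻¹ᵁ U : X.Opens) : Scheme))
  obtain ⟨V', hV'o, hηV', hV'⟩ := exists_open_of_generic (A := ((f ⁻¹ᵁ U : X.Opens) : Set X)) (B := Y)
    (fun a => f a.1) (f.continuous.comp continuous_subtype_val)
    (Subtype.val ⁻¹' ((f.smoothLocus : Set X)ᶜ))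
    (f.smoothLocus.2.isClosed_compl.preimage continuous_subtype_val) (genericPoint Y)
    (fun y => (genericPoint_spec Y).specializes (Set.mem_univ y))
    (fun a ha h => ha (hfib a.1 h))
  refine ⟨U ⊓ ⟨V', hV'o⟩, ?_, ?_⟩
  · exact (U ⊓ ⟨V', hV'o⟩ : Y.Opens).2.dense ⟨genericPoint Y, hηU, hηV'⟩
  · rw [← Scheme.Hom.smoothLocus_eq_top_iff, eq_top_iff]
    rintro x -
    rw [Scheme.Hom.mem_smoothLocus]
    have hx : x.1 ∈ f.smoothLocus := by
      by_contra hxn
      exact hV' ⟨x.1, x.2.1⟩ x.2.2 hxn
    exact (RingHom.FormallySmooth.respectsIso.arrow_mk_iso_iff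
      (morphismRestrictStalkMap f _ x)).mpr hx

end Groth.Agent.Helper3.GenSmReg
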