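import Mathlib
import Groth.Agent.Helper3.GenSmReg
import Groth.Agent.Helper2.SmoothRegSch

set_option linter.style.haveILetI false
set_option linter.unusedSectionVars false
set_option linter.unusedVariables false
set_option linter.style.haveILetI false
set_option linter.unusedSectionVars false
set_option linter.unusedVariables false

open AlgebraicGeometry CategoryTheory CategoryTheory.Limits

namespace Groth.Agent.Helper3.GenSmChar0

universe u

theorem main (k : Type u) [Field k] [IsAlgClosed k] [CharZero k]
    {X Y : Scheme.{u}} (qX : X ⟶ Spec (CommRingCat.of k)) (qY : Y ⟶ Spec (CommRingCat.of k))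
    [LocallyOfFiniteType qX] [QuasiCompact qX] [IsSeparated qX] [Smooth qX]
    [LocallyOfFiniteType qY] [QuasiCompact qY] [IsSeparated qY]
    [IsIntegral X] [IsIntegral Y] (f : X ⟶ Y) (hf : f ≫ qY = qX) :
    ∃ V : Y.Opens, (V : Set ↥Y).Nonempty ∧ Smooth (f ∣_ V) := by
  by_cases hdom : IsDominant f
  · haveI : IsLocallyNoetherian X := LocallyOfFiniteType.isLocallyNoetherian qX
    haveI : IsLocallyNoetherian Y := LocallyOfFiniteType.isLocallyNoetherian qY
    haveI : LocallyOfFiniteType (f ≫ qY) := hf ▸ inferInstance
    haveI : QuasiCompact (f ≫ qY) := hf ▸ inferInstance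
    haveI : LocallyOfFiniteType f := locallyOfFiniteType_of_comp f qY
    haveI : LocallyOfFinitePresentation f := inferInstance
    haveI : QuasiCompact f := QuasiCompact.of_comp f qY
    let φ : k →+* Y.functionField :=
      ((Scheme.ΓSpecIso (.of k)).inv ≫ qY.appTop ≫
        Y.presheaf.germ ⊤ (genericPoint Y) trivial).hom
    haveI : CharZero Y.functionField := charZero_of_injective_ringHom φ.injective
    haveI : PerfectField Y.functionField := PerfectField.ofCharZero
    obtain ⟨V, hV, hsm⟩ := Groth.Agent.Helper3.GenSmReg.main X Y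
      (fun x => Groth.Agent.Helper2.SmoothRegSch.stalk_regular_of_smooth k X qX x) f
    exact ⟨V, hV.nonempty, hsm⟩
  · have hnd : ¬ DenseRange f := fun h => hdom ⟨h⟩
    let V : Y.Opens := ⟨(closure (Set.range f))ᶜ, isClosed_closure.isOpen_compl⟩
    have hVne : (V : Set Y).Nonempty := by
      rw [Set.nonempty_iff_ne_empty]
      intro h0
      apply hnd
      rw [DenseRange, dense_iff_closure_eq]
      exact Set.compl_empty_iff.mp h0
    refine ⟨V, hVne, ?_⟩
    haveI : IsEmpty ↥(f ⁻¹ᵁ V : X.Opens) := by
      refine ⟨fun x => ?_⟩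
      exact x.2 (subset_closure ⟨x.1, rfl⟩)
    haveI : IsEmpty ((f ⁻¹ᵁ V : X.Opens) : Scheme.{u}) := ‹_›
    haveI : IsOpenImmersion (f ∣_ V) := inferInstance
    infer_instance

end Groth.Agent.Helper3.GenSmChar0
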