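import Mathlib
import Groth.Agent.Helper1.FieldSmooth6

set_option linter.style.haveILetI false
set_option linter.unusedSectionVars false
set_option linter.unusedVariables false

namespace Groth.Agent.Helper3.GenSmooth0
open AlgebraicGeometry CategoryTheory

universe u

theorem main (k : Type u) [Field k] [CharZero k]
    {X Y : Scheme.{u}} (qX : X ⟶ Spec (CommRingCat.of k)) (qY : Y ⟶ Spec (CommRingCat.of k))
    [LocallyOfFiniteType qX] [LocallyOfFiniteType qY]
    [IsIntegral X] [IsIntegral Y] (f : X ⟶ Y) (hf : f ≫ qY = qX) (hdom : DenseRange f.base) :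
    ∃ U : X.Opens, (U : Set ↥X).Nonempty ∧ Smooth (U.ι ≫ f) := by
  haveI : LocallyOfFiniteType (f ≫ qY) := hf ▸ inferInstance
  haveI : LocallyOfFiniteType f := locallyOfFiniteType_of_comp f qY
  haveI : IsLocallyNoetherian Y := LocallyOfFiniteType.isLocallyNoetherian qY
  haveI : LocallyOfFinitePresentation f := inferInstance
  -- the generic point maps to the generic point
  have hgen : f.base (genericPoint X) = genericPoint Y := by
    have h1 : IsGenericPoint (f.base (genericPoint X)) (⊤ : Set Y) := by
      have := (genericPoint_spec X).image f.base.hom.continuous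
      rw [Set.image_univ, hdom.closure_range] at this
      exact this
    exact h1.eq (genericPoint_spec Y)
  have key : ∀ (y : Y) (hy : y = genericPoint Y)
      (φ : Y.presheaf.stalk y ⟶ X.presheaf.stalk (genericPoint X)), φ.hom.FormallySmooth := by
    rintro _ rfl φ
    letI : Field (Y.presheaf.stalk (genericPoint Y)) := inferInstanceAs (Field Y.functionField)
    letI : Field (X.presheaf.stalk (genericPoint X)) := inferInstanceAs (Field X.functionField)
    let ψ : k →+* Y.presheaf.stalk (genericPoint Y) :=
      (Y.presheaf.germ ⊤ (genericPoint Y) trivial).hom.comp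
        ((qY.appTop).hom.comp (Scheme.ΓSpecIso (CommRingCat.of k)).inv.hom)
    haveI : CharZero (Y.presheaf.stalk (genericPoint Y)) :=
      charZero_of_injective_ringHom ψ.injective
    algebraize [φ.hom]
    exact Groth.Agent.Helper1.FieldSmooth.formallySmooth_of_charZero
  refine ⟨f.smoothLocus, ⟨genericPoint X, ?_⟩, ?_⟩
  · exact key _ hgen (f.stalkMap (genericPoint X))
  · rw [← Scheme.Hom.smoothLocus_eq_top_iff, ← Scheme.Hom.preimage_smoothLocus_eq]
    ext x
    simp only [Scheme.Hom.coe_preimage, Set.mem_preimage, TopologicalSpace.Opens.coe_top, Set.mem_univ, iff_true]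
    exact x.2

end Groth.Agent.Helper3.GenSmooth0
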