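import Mathlib
import Groth.Prelude

set_option autoImplicit false
set_option linter.style.haveILetI false
set_option linter.unusedSectionVars false
set_option linter.unusedVariables false
set_option linter.deprecated false
set_option linter.style.haveILetI false
set_option linter.unusedSectionVars false
set_option linter.unusedVariables false

universe u

namespace Groth.Agent.Helper3.GluePair

section alg
variable {A A' : Type u} [CommRing A] [CommRing A'] (φ : A →+* A') (t : A)
  (hq : ∀ m : ℕ, Function.Bijective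
    (Ideal.quotientMap (Ideal.map φ (Ideal.span {t} ^ m)) φ Ideal.le_comap_map))
  (htor : ∀ a' : A', (∃ m : ℕ, φ t ^ m * a' = 0) →
    ∃! a : A, (∃ m : ℕ, t ^ m * a = 0) ∧ φ a = a')

theorem loc_eq_zero_iff (a : A) :
    algebraMap A (Localization.Away t) a = 0 ↔ ∃ m : ℕ, t ^ m * a = 0 := by
  rw [IsLocalization.map_eq_zero_iff (Submonoid.powers t)]
  constructor
  · rintro ⟨⟨_, m, rfl⟩, h⟩; exact ⟨m, h⟩
  · rintro ⟨m, h⟩; exact ⟨⟨_, m, rfl⟩, h⟩

include htor in
/-- (G1) joint injectivity -/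
theorem eq_zero_of_map_eq_zero (a : A) (h1 : φ a = 0)
    (h2 : algebraMap A (Localization.Away t) a = 0) : a = 0 := by
  obtain ⟨m, hm⟩ := (loc_eq_zero_iff t a).1 h2
  obtain ⟨a₀, -, huniq⟩ := htor 0 ⟨0, by simp⟩
  rw [huniq a ⟨⟨m, hm⟩, h1⟩, huniq 0 ⟨⟨0, by simp⟩, map_zero φ⟩]

include htor in
theorem eq_of_map_eq (a b : A) (h1 : φ a = φ b)
    (h2 : algebraMap A (Localization.Away t) a = algebraMap A (Localization.Away t) b) :
    a = b := by
  rw [← sub_eq_zero]
  apply eq_zero_of_map_eq_zero φ t htor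
  · rw [map_sub, h1, sub_self]
  · rw [map_sub, h2, sub_self]

include htor in
/-- torsion elements of `A'` lift to torsion elements of `A` -/
theorem exists_torsion_lift (c : A') (hc : ∃ m : ℕ, φ t ^ m * c = 0) :
    ∃ c₀ : A, φ c₀ = c ∧ algebraMap A (Localization.Away t) c₀ = 0 := by
  obtain ⟨c₀, ⟨hc₀, hφ⟩, -⟩ := htor c hc
  exact ⟨c₀, hφ, (loc_eq_zero_iff t c₀).2 hc₀⟩

include hq htor in
/-- (G2) gluing -/
theorem exists_glue (x : A') (y : Localization.Away t)
    (hxy : algebraMap A' (Localization.Away (φ t)) x = Localization.awayMap φ t y) :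
    ∃ a : A, φ a = x ∧ algebraMap A (Localization.Away t) a = y := by
  obtain ⟨n, b, hb⟩ := IsLocalization.Away.surj t y
  -- in `A'_{φ t}`: `x * (φ t)^n = φ b`
  have h1 : algebraMap A' (Localization.Away (φ t)) (φ t ^ n * x - φ b) = 0 := by
    have h2 := congrArg (Localization.awayMap φ t) hb
    rw [map_mul, map_pow, ← hxy] at h2
    have h3 : Localization.awayMap φ t (algebraMap A (Localization.Away t) t) =
        algebraMap A' (Localization.Away (φ t)) (φ t) := by
      simp [Localization.awayMap, IsLocalization.Away.map, IsLocalization.map_eq]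
    have h4 : Localization.awayMap φ t (algebraMap A (Localization.Away t) b) =
        algebraMap A' (Localization.Away (φ t)) (φ b) := by
      simp [Localization.awayMap, IsLocalization.Away.map, IsLocalization.map_eq]
    rw [h3, h4] at h2
    rw [map_sub, map_mul, map_pow, mul_comm, h2, sub_self]
  obtain ⟨N, hN⟩ := (loc_eq_zero_iff (φ t) _).1 h1
  obtain ⟨c₀, hc₀, hc₀t⟩ := exists_torsion_lift φ t htor (φ t ^ n * x - φ b) ⟨N, hN⟩
  -- `φ (b + c₀) = (φ t)^n x`
  have h5 : φ (b + c₀) = φ t ^ n * x := by rw [map_add, hc₀]; ring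
  -- `b + c₀ ∈ (t^n)`
  have h6 : b + c₀ ∈ Ideal.span {t} ^ n := by
    rw [← Ideal.Quotient.eq_zero_iff_mem]
    apply (hq n).1
    rw [map_zero, Ideal.quotientMap_mk, Ideal.Quotient.eq_zero_iff_mem, h5, Ideal.map_pow,
      Ideal.map_span, Set.image_singleton, Ideal.span_singleton_pow]
    exact Ideal.mul_mem_right _ _ (Ideal.mem_span_singleton_self _)
  rw [Ideal.span_singleton_pow, Ideal.mem_span_singleton'] at h6
  obtain ⟨a, ha⟩ := h6
  -- `t^n (φ a - x) = 0`
  have h7 : φ t ^ n * (φ a - x) = 0 := by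
    rw [mul_sub, ← h5, ← ha, map_mul, map_pow]; ring
  obtain ⟨d₀, hd₀, hd₀t⟩ := exists_torsion_lift φ t htor (φ a - x) ⟨n, h7⟩
  refine ⟨a - d₀, by rw [map_sub, hd₀]; ring, ?_⟩
  rw [map_sub, hd₀t, sub_zero]
  -- cancel the unit `t^n`
  have hu : IsUnit (algebraMap A (Localization.Away t) t ^ n) :=
    (IsLocalization.Away.algebraMap_isUnit t).pow n
  apply hu.mul_left_injective
  show algebraMap A (Localization.Away t) a * _ = y * _
  rw [hb, ← map_pow, ← map_mul, ha, map_add, hc₀t, add_zero]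

include hq in
/-- (G3) every prime of `A` comes from `A'` or from `A_t`. -/
theorem exists_comap_eq (p : PrimeSpectrum A) :
    (∃ p' : PrimeSpectrum A', PrimeSpectrum.comap φ p' = p) ∨
      ∃ p'' : PrimeSpectrum (Localization.Away t),
        PrimeSpectrum.comap (algebraMap A (Localization.Away t)) p'' = p := by
  by_cases ht : t ∈ p.asIdeal
  · left
    let I : Ideal A := Ideal.span {t} ^ 1
    let I' : Ideal A' := Ideal.map φ (Ideal.span {t} ^ 1)
    let e : A ⧸ I ≃+* A' ⧸ I' := RingEquiv.ofBijective _ (hq 1)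
    have hIp : I ≤ p.asIdeal := by
      show Ideal.span {t} ^ 1 ≤ _
      rw [pow_one, Ideal.span_singleton_le_iff_mem]; exact ht
    have hp : p ∈ Set.range (PrimeSpectrum.comap (Ideal.Quotient.mk I)) := by
      rw [_root_.range_comap_of_surjective _ _ Ideal.Quotient.mk_surjective,
        Ideal.mk_ker]
      exact hIp
    obtain ⟨q, hq'⟩ := hp
    refine ⟨PrimeSpectrum.comap (Ideal.Quotient.mk I') (PrimeSpectrum.comap e.symm.toRingHom q), ?_⟩
    rw [← hq']
    apply PrimeSpectrum.ext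
    ext a
    show (e.symm (Ideal.Quotient.mk I' (φ a))) ∈ q.asIdeal ↔ Ideal.Quotient.mk I a ∈ q.asIdeal
    have : e.symm (Ideal.Quotient.mk I' (φ a)) = Ideal.Quotient.mk I a := by
      rw [RingEquiv.symm_apply_eq]
      rfl
    rw [this]
  · right
    have hp : p ∈ Set.range (PrimeSpectrum.comap (algebraMap A (Localization.Away t))) := by
      rw [PrimeSpectrum.localization_away_comap_range (Localization.Away t) t]
      exact ht
    exact hp

end alg


section sch
open AlgebraicGeometry CategoryTheory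

variable {A A' : Type u} [CommRing A] [CommRing A'] (φ : A →+* A') (t : A)
  (hq : ∀ m : ℕ, Function.Bijective
    (Ideal.quotientMap (Ideal.map φ (Ideal.span {t} ^ m)) φ Ideal.le_comap_map))
  (htor : ∀ a' : A', (∃ m : ℕ, φ t ^ m * a' = 0) →
    ∃! a : A, (∃ m : ℕ, t ^ m * a = 0) ∧ φ a = a')
  (X : Scheme.{u}) [X.IsQuasiAffine] (p : X ⟶ Spec (CommRingCat.of A))

theorem toSpecΓ_comp :
    X.toSpecΓ ≫ Spec.map ((Scheme.ΓSpecIso (CommRingCat.of A)).inv ≫ p.appTop) = p := by
  rw [Spec.map_comp, ← Scheme.toSpecΓ_naturality_assoc, toSpecΓ_SpecMap_ΓSpecIso_inv,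
    Category.comp_id]

include htor in
theorem hom_ext_of_comp_eq {B : CommRingCat.{u}} (β₁ β₂ : B ⟶ CommRingCat.of A)
    (h1 : β₁ ≫ CommRingCat.ofHom φ = β₂ ≫ CommRingCat.ofHom φ)
    (h2 : β₁ ≫ CommRingCat.ofHom (algebraMap A (Localization.Away t)) =
      β₂ ≫ CommRingCat.ofHom (algebraMap A (Localization.Away t))) : β₁ = β₂ := by
  ext b
  apply eq_of_map_eq φ t htor
  · exact congrArg (fun f => f.hom b) h1
  · exact congrArg (fun f => f.hom b) h2

include htor in
theorem sections_ext (s₁ s₂ : Spec (CommRingCat.of A) ⟶ X)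
    (h1 : Spec.map (CommRingCat.ofHom φ) ≫ s₁ = Spec.map (CommRingCat.ofHom φ) ≫ s₂)
    (h2 : Spec.map (CommRingCat.ofHom (algebraMap A (Localization.Away t))) ≫ s₁ =
      Spec.map (CommRingCat.ofHom (algebraMap A (Localization.Away t))) ≫ s₂) : s₁ = s₂ := by
  rw [← cancel_mono X.toSpecΓ]
  rw [← Spec.map_preimage (s₁ ≫ X.toSpecΓ), ← Spec.map_preimage (s₂ ≫ X.toSpecΓ)]
  congr 1
  apply hom_ext_of_comp_eq φ t htor
  · apply Spec.map_injective
    rw [Spec.map_comp, Spec.map_comp, Spec.map_preimage, Spec.map_preimage, reassoc_of% h1]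
  · apply Spec.map_injective
    rw [Spec.map_comp, Spec.map_comp, Spec.map_preimage, Spec.map_preimage, reassoc_of% h2]

include hq htor in
theorem exists_section (x' : Spec (CommRingCat.of A') ⟶ X)
    (xt : Spec (CommRingCat.of (Localization.Away t)) ⟶ X)
    (hx' : x' ≫ p = Spec.map (CommRingCat.ofHom φ))
    (hxt : xt ≫ p = Spec.map (CommRingCat.ofHom (algebraMap A (Localization.Away t))))
    (hcompat : Spec.map (CommRingCat.ofHom (algebraMap A' (Localization.Away (φ t)))) ≫ x' =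
      Spec.map (CommRingCat.ofHom (Localization.awayMap φ t)) ≫ xt) :
    ∃ s : Spec (CommRingCat.of A) ⟶ X, s ≫ p = 𝟙 _ ∧
      Spec.map (CommRingCat.ofHom φ) ≫ s = x' ∧
      Spec.map (CommRingCat.ofHom (algebraMap A (Localization.Away t))) ≫ s = xt := by
  let β' : Γ(X, ⊤) ⟶ CommRingCat.of A' := Spec.preimage (x' ≫ X.toSpecΓ)
  let βt : Γ(X, ⊤) ⟶ CommRingCat.of (Localization.Away t) := Spec.preimage (xt ≫ X.toSpecΓ)
  have hβ' : Spec.map β' = x' ≫ X.toSpecΓ := Spec.map_preimage _
  have hβt : Spec.map βt = xt ≫ X.toSpecΓ := Spec.map_preimage _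
  have hββ : β' ≫ CommRingCat.ofHom (algebraMap A' (Localization.Away (φ t))) =
      βt ≫ CommRingCat.ofHom (Localization.awayMap φ t) := by
    apply Spec.map_injective
    rw [Spec.map_comp, Spec.map_comp, hβ', hβt, reassoc_of% hcompat]
  have hex : ∀ b : Γ(X, ⊤), ∃ a : A, φ a = β'.hom b ∧
      algebraMap A (Localization.Away t) a = βt.hom b := by
    intro b
    exact exists_glue φ t hq htor (β'.hom b) (βt.hom b) (congrArg (fun f => f.hom b) hββ)
  choose β₀ hβ₀φ hβ₀t using hex
  let β : Γ(X, ⊤) →+* A :=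
    { toFun := β₀
      map_one' := by
        apply eq_of_map_eq φ t htor
        · rw [hβ₀φ, map_one, map_one]
        · rw [hβ₀t, map_one, map_one]
      map_mul' := by
        intro b b'
        apply eq_of_map_eq φ t htor
        · rw [hβ₀φ, map_mul, map_mul, hβ₀φ, hβ₀φ]
        · rw [hβ₀t, map_mul, map_mul, hβ₀t, hβ₀t]
      map_zero' := by
        apply eq_of_map_eq φ t htor
        · rw [hβ₀φ, map_zero, map_zero]
        · rw [hβ₀t, map_zero, map_zero]
      map_add' := by
        intro b b'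
        apply eq_of_map_eq φ t htor
        · rw [hβ₀φ, map_add, map_add, hβ₀φ, hβ₀φ]
        · rw [hβ₀t, map_add, map_add, hβ₀t, hβ₀t] }
  have hβφ : CommRingCat.ofHom β ≫ CommRingCat.ofHom φ = β' := by
    ext b; exact hβ₀φ b
  have hβt' : CommRingCat.ofHom β ≫ CommRingCat.ofHom (algebraMap A (Localization.Away t)) = βt := by
    ext b; exact hβ₀t b
  let s₀ : Spec (CommRingCat.of A) ⟶ Spec Γ(X, ⊤) := Spec.map (CommRingCat.ofHom β)
  have hs₀φ : Spec.map (CommRingCat.ofHom φ) ≫ s₀ = x' ≫ X.toSpecΓ := by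
    rw [← hβ', ← hβφ, Spec.map_comp]
  have hs₀t : Spec.map (CommRingCat.ofHom (algebraMap A (Localization.Away t))) ≫ s₀ =
      xt ≫ X.toSpecΓ := by
    rw [← hβt, ← hβt', Spec.map_comp]
  have hrange : Set.range s₀ ⊆ Set.range X.toSpecΓ := by
    rintro _ ⟨q, rfl⟩
    rcases exists_comap_eq φ t hq q with ⟨q', rfl⟩ | ⟨q'', rfl⟩
    · have : s₀ (Spec.map (CommRingCat.ofHom φ) q') = X.toSpecΓ (x' q') := by
        rw [← Scheme.Hom.comp_apply, hs₀φ, Scheme.Hom.comp_apply]
      exact ⟨x' q', this.symm⟩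
    · have : s₀ (Spec.map (CommRingCat.ofHom (algebraMap A (Localization.Away t))) q'') =
          X.toSpecΓ (xt q'') := by
        rw [← Scheme.Hom.comp_apply, hs₀t, Scheme.Hom.comp_apply]
      exact ⟨xt q'', this.symm⟩
  let s : Spec (CommRingCat.of A) ⟶ X := IsOpenImmersion.lift X.toSpecΓ s₀ hrange
  have hs : s ≫ X.toSpecΓ = s₀ := IsOpenImmersion.lift_fac _ _ _
  have hsφ : Spec.map (CommRingCat.ofHom φ) ≫ s = x' := by
    rw [← cancel_mono X.toSpecΓ, Category.assoc, hs, hs₀φ]
  have hst : Spec.map (CommRingCat.ofHom (algebraMap A (Localization.Away t))) ≫ s = xt := by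
    rw [← cancel_mono X.toSpecΓ, Category.assoc, hs, hs₀t]
  refine ⟨s, ?_, hsφ, hst⟩
  -- `s ≫ p = 𝟙`
  rw [← Spec.map_preimage (s ≫ p), ← Spec.map_id]
  congr 1
  apply hom_ext_of_comp_eq φ t htor
  · apply Spec.map_injective
    rw [Spec.map_comp, Spec.map_preimage, reassoc_of% hsφ, hx', Category.id_comp]
  · apply Spec.map_injective
    rw [Spec.map_comp, Spec.map_preimage, reassoc_of% hst, hxt, Category.id_comp]

end sch

end Groth.Agent.Helper3.GluePair
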