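import Mathlib
import Groth.Prelude.Def_EtGlue
import Groth.Prelude.Def_DRing2
import Groth.Agent.Helper1.TorCrit
import Groth.Agent.Helper1.TorSecond

set_option autoImplicit false
set_option linter.style.haveILetI false
set_option linter.unusedSectionVars false
set_option linter.unusedVariables false
set_option linter.style.haveILetI false
set_option linter.unusedSectionVars false
set_option linter.unusedVariables false

universe u

namespace Groth.Agent.Helper3.GlueTor

open CategoryTheory CategoryTheory.Limits TensorProduct Groth.Agent.Helper1.TorLib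

section A

variable {R : Type u} [CommRing R] (f : R)

/-- If `F/K` is `f`-power torsion and `f` acts bijectively on `P`, then `K ⊗ P → F ⊗ P` is
injective. -/
theorem rTensor_injective_of_torsion
    {F : Type u} [AddCommGroup F] [Module R F] (K : Submodule R F)
    (hK : ∀ x : F, ∃ n : ℕ, f ^ n • x ∈ K)
    (P : Type u) [AddCommGroup P] [Module R P]
    (hP : Function.Bijective (fun p : P => f • p)) :
    Function.Injective (K.subtype.rTensor P) := by
  set S := Submonoid.powers f with hSdef
  set gK := LocalizedModule.mkLinearMap S K with hgK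
  set gF := LocalizedModule.mkLinearMap S F with hgF
  set φ : LocalizedModule S K →ₗ[R] LocalizedModule S F :=
    IsLocalizedModule.map S gK gF K.subtype with hφ
  have hφi : Function.Injective φ :=
    IsLocalizedModule.map_injective S gK gF _ K.injective_subtype
  have hφs : Function.Surjective φ := by
    intro y
    obtain ⟨⟨x, s⟩, rfl⟩ := IsLocalizedModule.mk'_surjective S gF y
    obtain ⟨n, hn⟩ := hK x
    refine ⟨IsLocalizedModule.mk' gK ⟨f ^ n • x, hn⟩ (⟨f ^ n, n, rfl⟩ * s), ?_⟩
    rw [hφ, IsLocalizedModule.map_mk']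
    simp only [Function.uncurry_apply_pair, Submodule.subtype_apply]
    rw [IsLocalizedModule.mk'_eq_mk'_iff]
    refine ⟨1, ?_⟩
    simp only [one_smul, Submonoid.smul_def, Submonoid.coe_mul, mul_smul]
    rw [smul_comm]
  let e := LinearEquiv.ofBijective φ ⟨hφi, hφs⟩
  -- `f` acts injectively on `K ⊗ P`
  let ψ : P ≃ₗ[R] P := LinearEquiv.ofBijective (LinearMap.lsmul R P f) hP
  have hψ : ∀ x : K ⊗[R] P, (ψ.lTensor K) x = f • x := by
    intro x
    induction x using TensorProduct.induction_on with
    | zero => simp
    | tmul k p =>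
      rw [LinearEquiv.lTensor_tmul]
      show k ⊗ₜ[R] (f • p) = _
      rw [TensorProduct.tmul_smul]
    | add a b ha hb => rw [map_add, ha, hb, smul_add]
  have hf1 : ∀ x : K ⊗[R] P, f • x = 0 → x = 0 := by
    intro x hx
    rw [← hψ] at hx
    exact (LinearEquiv.map_eq_zero_iff _).mp hx
  have hinj : ∀ (n : ℕ) (x : K ⊗[R] P), f ^ n • x = 0 → x = 0 := by
    intro n
    induction n with
    | zero => intro x hx; simpa using hx
    | succ n ih =>
      intro x hx
      apply ih
      apply hf1
      rw [smul_smul, ← pow_succ']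
      exact hx
  have h1 : Function.Injective (gK.rTensor P) := by
    rw [injective_iff_map_eq_zero]
    intro x hx
    haveI : IsLocalizedModule S (AlgebraTensorModule.rTensor R P gK) := inferInstance
    have h := (IsLocalizedModule.eq_zero_iff S (AlgebraTensorModule.rTensor R P gK)).mp hx
    obtain ⟨⟨_, n, rfl⟩, hs⟩ := h
    exact hinj n x hs
  have h2 : Function.Injective (φ.rTensor P ∘ₗ gK.rTensor P) :=
    ((e.rTensor P).injective).comp h1
  have h3 : φ.rTensor P ∘ₗ gK.rTensor P = gF.rTensor P ∘ₗ K.subtype.rTensor P := by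
    rw [← LinearMap.rTensor_comp, ← LinearMap.rTensor_comp, hφ, IsLocalizedModule.map_comp]
  rw [h3] at h2
  exact Function.Injective.of_comp h2

/-- `Tor_1(T, P) = 0` if `T` is `f`-power torsion and `f` acts bijectively on `P`. -/
theorem isZero_torOne_of_torsion (T P : Type u) [AddCommGroup T] [Module R T] [AddCommGroup P]
    [Module R P] (hT : ∀ t : T, ∃ n : ℕ, f ^ n • t = 0)
    (hP : Function.Bijective (fun p : P => f • p)) :
    IsZero (((Tor (ModuleCat.{u} R) 1).obj (ModuleCat.of R T)).obj (ModuleCat.of R P)) := by
  rw [isZero_torOne_iff_presentation]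
  apply rTensor_injective_of_torsion f _ _ P hP
  intro x
  obtain ⟨n, hn⟩ := hT (Finsupp.linearCombination R id x)
  exact ⟨n, by rw [LinearMap.mem_ker, map_smul, hn]⟩

theorem isZero_tor_of_retract (M : ModuleCat.{u} R) (n : ℕ) {X Y : ModuleCat.{u} R}
    (i : X ⟶ Y) (r : Y ⟶ X) (h : i ≫ r = 𝟙 X)
    (hY : IsZero (((Tor (ModuleCat.{u} R) n).obj M).obj Y)) :
    IsZero (((Tor (ModuleCat.{u} R) n).obj M).obj X) := by
  rw [IsZero.iff_id_eq_zero, ← CategoryTheory.Functor.map_id, ← h, CategoryTheory.Functor.map_comp,
    hY.eq_of_tgt (((Tor (ModuleCat.{u} R) n).obj M).map i) 0, zero_comp]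

end A

section B

variable {R R' : Type u} [CommRing R] [CommRing R'] [Algebra R R'] (f : R)

/-- `R_f → R'_f` as an `R`-linear map. -/
noncomputable def awayLin :
    Localization.Away f →ₗ[R] Localization.Away (algebraMap R R' f) where
  toFun := Localization.awayMap (algebraMap R R') f
  map_add' := map_add _
  map_smul' r y := by
    rw [Algebra.smul_def, map_mul, RingHom.id_apply, Algebra.smul_def]
    congr 1
    rw [Localization.awayMap, IsLocalization.Away.map, IsLocalization.map_eq,
      ← IsScalarTower.algebraMap_apply]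

/-- The difference map `R' × R_f → R'_f`. -/
noncomputable def diff :
    (R' × Localization.Away f) →ₗ[R] Localization.Away (algebraMap R R' f) :=
  ((Algebra.linearMap R' (Localization.Away (algebraMap R R' f))).restrictScalars R) ∘ₗ
      LinearMap.fst R R' (Localization.Away f) -
    awayLin (R' := R') f ∘ₗ LinearMap.snd R R' (Localization.Away f)

lemma diff_apply (x : R') (y : Localization.Away f) :
    diff (R' := R') f (x, y) = algebraMap R' (Localization.Away (algebraMap R R' f)) x -
      Localization.awayMap (algebraMap R R') f y := rfl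

/-- The diagonal `R → R' × R_f`. -/
noncomputable def diag : R →ₗ[R] (R' × Localization.Away f) :=
  LinearMap.prod (Algebra.linearMap R R') (Algebra.linearMap R (Localization.Away f))

lemma diag_apply (r : R) :
    diag (R' := R') f r = (algebraMap R R' r, algebraMap R (Localization.Away f) r) := rfl

theorem main (h : EtGlue.IsGlueingPair R R' f) (T : Type u) [AddCommGroup T] [Module R T]
    (hT : ∀ t : T, ∃ n : ℕ, f ^ n • t = 0) :
    IsZero (((Tor (ModuleCat.{u} R) 1).obj (ModuleCat.of R R')).obj (ModuleCat.of R T)) := by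
  obtain ⟨-, hinj, hmid, hsurj⟩ := h
  rw [isZero_tor_symm_iff]
  have hex : Function.Exact (diag (R' := R') f) (diff (R' := R') f) := by
    rintro ⟨x, y⟩
    rw [diff_apply, sub_eq_zero]
    constructor
    · intro hxy
      obtain ⟨r, rfl, rfl⟩ := hmid x y hxy
      exact ⟨r, rfl⟩
    · rintro ⟨r, hr⟩
      rw [diag_apply, Prod.mk.injEq] at hr
      obtain ⟨rfl, rfl⟩ := hr
      rw [Localization.awayMap, IsLocalization.Away.map, IsLocalization.map_eq]
  have hS := scOfLinear_shortExact (diag (R' := R') f) (diff (R' := R') f) hinj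
    (by
      intro z
      obtain ⟨x, y, hxy⟩ := hsurj z
      exact ⟨(x, y), hxy⟩) hex
  have h1 : IsZero (((Tor (ModuleCat.{u} R) 1).obj (ModuleCat.of R T)).obj
      (scOfLinear (diag (R' := R') f) (diff (R' := R') f) hex).X₁) :=
    haveI : Module.Flat R ↑(scOfLinear (diag (R' := R') f) (diff (R' := R') f) hex).X₁ :=
      inferInstanceAs (Module.Flat R R)
    isZero_tor_of_flat_right _ _ 0
  have h3 : IsZero (((Tor (ModuleCat.{u} R) 1).obj (ModuleCat.of R T)).obj
      (scOfLinear (diag (R' := R') f) (diff (R' := R') f) hex).X₃) := by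
    apply isZero_torOne_of_torsion f T _ hT
    have hu : IsUnit (algebraMap R (Localization.Away (algebraMap R R' f)) f) := by
      rw [IsScalarTower.algebraMap_apply R R' (Localization.Away (algebraMap R R' f))]
      exact IsLocalization.Away.algebraMap_isUnit _
    constructor
    · intro a b hab
      simp only [Algebra.smul_def] at hab
      exact hu.mul_left_cancel hab
    · intro b
      obtain ⟨v, hv⟩ := hu
      refine ⟨(↑v⁻¹ : Localization.Away (algebraMap R R' f)) * b, ?_⟩
      simp only [Algebra.smul_def]
      rw [← hv, ← mul_assoc, Units.mul_inv, one_mul]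
  have h2 := isZero_tor_X₂₂ (ModuleCat.of R T) hS 1 h1 h3
  exact isZero_tor_of_retract (ModuleCat.of R T) 1
    (ModuleCat.ofHom (LinearMap.inl R R' (Localization.Away f)))
    (ModuleCat.ofHom (LinearMap.fst R R' (Localization.Away f))) (by ext; simp) h2

end B

end Groth.Agent.Helper3.GlueTor
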