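import Mathlib

set_option autoImplicit false
set_option linter.style.haveILetI false
set_option linter.unusedSectionVars false
set_option linter.unusedVariables false
set_option linter.style.haveILetI false
set_option linter.unusedSectionVars false
set_option linter.unusedVariables false

universe u

open Polynomial LaurentPolynomial

namespace Groth.Agent.Helper3.GmUniq1

/-- in `D[X]`, `D` a domain, a factor of a power of `X` is a unit constant times a power of `X` -/
theorem eq_C_mul_X_pow_of_mul_eq_X_pow {D : Type*} [CommRing D] [IsDomain D] (p q : D[X]) (N : ℕ)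
    (h : p * q = X ^ N) : ∃ (a : D) (i : ℕ), IsUnit a ∧ p = Polynomial.C a * X ^ i := by
  have hdvd : p ∣ X ^ N := ⟨q, h.symm⟩
  obtain ⟨i, _, hi⟩ := (dvd_prime_pow Polynomial.prime_X N).mp hdvd
  obtain ⟨w, hw⟩ := hi.symm
  obtain ⟨a, ha, haw⟩ := Polynomial.isUnit_iff.mp w.isUnit
  refine ⟨a, i, ha, ?_⟩
  rw [← hw, ← haw, mul_comm]

/-- units of Laurent polynomials over a domain are unit constants times monomials -/
theorem isUnit_laurent {D : Type*} [CommRing D] [IsDomain D] (u : D[T;T⁻¹]) (hu : IsUnit u) :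
    ∃ (d : D) (b : ℤ), IsUnit d ∧ u = LaurentPolynomial.C d * T b := by
  obtain ⟨v, hv⟩ := hu.exists_right_inv
  obtain ⟨n, p, hp⟩ := exists_T_pow u
  obtain ⟨m, q, hq⟩ := exists_T_pow v
  have h1 : p * q = X ^ (n + m) := by
    apply Polynomial.toLaurent_injective
    rw [map_mul, hp, hq, Polynomial.toLaurent_X_pow]
    calc u * T n * (v * T m) = (u * v) * (T n * T m) := by ring
      _ = T (n + m : ℤ) := by rw [hv, one_mul, ← T_add]
      _ = T ((n + m : ℕ) : ℤ) := by push_cast; rfl
  obtain ⟨a, i, ha, hpa⟩ := eq_C_mul_X_pow_of_mul_eq_X_pow p q (n + m) h1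
  refine ⟨a, (i : ℤ) - n, ha, ?_⟩
  have h2 : u = Polynomial.toLaurent p * T (-(n : ℤ)) := by
    rw [hp, mul_T_assoc, add_neg_cancel, T_zero, mul_one]
  rw [h2, hpa, Polynomial.toLaurent_C_mul_X_pow, mul_T_assoc, sub_eq_add_neg]

/-- `C c * T a = T 1` forces `c = 1` and `a = 1` -/
theorem eq_one_of_C_mul_T_eq_T {D : Type*} [CommRing D] [Nontrivial D] (c : D) (a : ℤ)
    (h : (LaurentPolynomial.C c * T a : D[T;T⁻¹]) = T 1) : c = 1 ∧ a = 1 := by
  rw [← single_eq_C_mul_T] at h
  have h1 : (AddMonoidAlgebra.single a c : D[T;T⁻¹]) = AddMonoidAlgebra.single (1 : ℤ) (1 : D) := h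
  rcases AddMonoidAlgebra.single_inj.mp h1 with ⟨ha, hc⟩ | ⟨_, h0⟩
  · exact ⟨hc, ha⟩
  · exact absurd h0 one_ne_zero

/-- a ring hom out of Laurent polynomials sending `T 1` to `1` sends every `T n` to `1` -/
theorem map_T_eq_one {D S : Type*} [CommRing D] [CommRing S] (φ : D[T;T⁻¹] →+* S)
    (h : φ (T 1) = 1) (n : ℤ) : φ (T n) = 1 := by
  induction n using Int.induction_on with
  | zero => rw [T_zero, map_one]
  | succ i ih => rw [T_add, map_mul, ih, h, one_mul]
  | pred i ih =>
    have h2 : φ (T (-1)) = 1 := by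
      have : φ (T (-1)) * φ (T 1) = 1 := by rw [← map_mul, ← T_add]; simp
      rwa [h, mul_one] at this
    rw [sub_eq_add_neg, T_add, map_mul, ih, h2, one_mul]

end Groth.Agent.Helper3.GmUniq1
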