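import Mathlib

set_option autoImplicit false
set_option linter.style.haveILetI false
set_option linter.unusedSectionVars false
set_option linter.unusedVariables false
set_option linter.style.haveILetI false
set_option linter.unusedSectionVars false
set_option linter.unusedVariables false

open TensorProduct

namespace Groth.Agent.Helper3.SqZero1

section
variable {D C : Type*} [CommRing D] [CommRing C] (𝔞 : Ideal C)
  (h𝔞 : ∀ a ∈ 𝔞, ∀ b ∈ 𝔞, a * b = 0)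
  (q q₁ q₂ q₀ : D →+* C)
  (hq : ∀ d, q d - q₀ d ∈ 𝔞) (hq₁ : ∀ d, q₁ d - q₀ d ∈ 𝔞) (hq₂ : ∀ d, q₂ d - q₀ d ∈ 𝔞)

include h𝔞 hq hq₁ hq₂ in
/-- `E = q + q₀ - q₁ - q₂` is a `q₀`-derivation. -/
theorem E_mul (x y : D) :
    q (x * y) + q₀ (x * y) - q₁ (x * y) - q₂ (x * y) =
      q₀ x * (q y + q₀ y - q₁ y - q₂ y) + (q x + q₀ x - q₁ x - q₂ x) * q₀ y := by
  have h0 := h𝔞 _ (hq x) _ (hq y)
  have h1 := h𝔞 _ (hq₁ x) _ (hq₁ y)
  have h2 := h𝔞 _ (hq₂ x) _ (hq₂ y)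
  simp only [map_mul]
  linear_combination h0 - h1 - h2

include h𝔞 hq hq₁ hq₂ in
theorem four_maps_aux (Z : Set D) (hZ : Z = {d | q d + q₀ d = q₁ d + q₂ d}) :
    (∀ x ∈ Z, ∀ y ∈ Z, x * y ∈ Z) ∧
    (∀ x u, x * u ∈ Z → u ∈ Z → IsUnit u → x ∈ Z) := by
  subst hZ
  constructor
  · intro x hx y hy
    have hx' : q x + q₀ x - q₁ x - q₂ x = 0 := by
      have : q x + q₀ x = q₁ x + q₂ x := hx
      linear_combination this
    have hy' : q y + q₀ y - q₁ y - q₂ y = 0 := by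
      have : q y + q₀ y = q₁ y + q₂ y := hy
      linear_combination this
    have := E_mul 𝔞 h𝔞 q q₁ q₂ q₀ hq hq₁ hq₂ x y
    rw [hx', hy', mul_zero, zero_mul, add_zero] at this
    change q (x * y) + q₀ (x * y) = q₁ (x * y) + q₂ (x * y)
    linear_combination this
  · intro x u hxu hu huu
    have hu' : q u + q₀ u - q₁ u - q₂ u = 0 := by
      have : q u + q₀ u = q₁ u + q₂ u := hu
      linear_combination this
    have hxu' : q (x * u) + q₀ (x * u) - q₁ (x * u) - q₂ (x * u) = 0 := by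
      have : q (x * u) + q₀ (x * u) = q₁ (x * u) + q₂ (x * u) := hxu
      linear_combination this
    have := E_mul 𝔞 h𝔞 q q₁ q₂ q₀ hq hq₁ hq₂ x u
    rw [hu', hxu', mul_zero, zero_add] at this
    have hunit : IsUnit (q₀ u) := huu.map q₀
    have h3 : q x + q₀ x - q₁ x - q₂ x = 0 := (hunit.mul_left_eq_zero).mp this.symm
    change q x + q₀ x = q₁ x + q₂ x
    linear_combination h3

end

section
variable {R B₁ B₂ D C : Type*} [CommRing R] [CommRing B₁] [CommRing B₂] [Algebra R B₁] [Algebra R B₂]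
  [CommRing D] [Algebra (B₁ ⊗[R] B₂) D]
  [CommRing C] (𝔞 : Ideal C)

/-- Four ring maps from a localisation of a tensor product to `C`, congruent modulo a square-zero
ideal, with matching restrictions to the two factors, satisfy `q + q₀ = q₁ + q₂`. -/
theorem four_maps (h : B₁ ⊗[R] B₂) [IsLocalization.Away h D] (h𝔞 : ∀ a ∈ 𝔞, ∀ b ∈ 𝔞, a * b = 0)
    (q q₁ q₂ q₀ : D →+* C)
    (hq : ∀ d, q d - q₀ d ∈ 𝔞) (hq₁ : ∀ d, q₁ d - q₀ d ∈ 𝔞) (hq₂ : ∀ d, q₂ d - q₀ d ∈ 𝔞)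
    (h1 : ∀ b : B₁, q (algebraMap _ D (b ⊗ₜ[R] (1 : B₂))) = q₁ (algebraMap _ D (b ⊗ₜ[R] (1 : B₂))))
    (h1' : ∀ b : B₁, q₂ (algebraMap _ D (b ⊗ₜ[R] (1 : B₂))) = q₀ (algebraMap _ D (b ⊗ₜ[R] (1 : B₂))))
    (h2 : ∀ b : B₂, q (algebraMap _ D ((1 : B₁) ⊗ₜ[R] b)) = q₂ (algebraMap _ D ((1 : B₁) ⊗ₜ[R] b)))
    (h2' : ∀ b : B₂, q₁ (algebraMap _ D ((1 : B₁) ⊗ₜ[R] b)) = q₀ (algebraMap _ D ((1 : B₁) ⊗ₜ[R] b)))
    (d : D) : q d + q₀ d = q₁ d + q₂ d := by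
  obtain ⟨hmul, hunit⟩ := four_maps_aux 𝔞 h𝔞 q q₁ q₂ q₀ hq hq₁ hq₂ _ rfl
  have hT : ∀ t : B₁ ⊗[R] B₂, algebraMap _ D t ∈ {d | q d + q₀ d = q₁ d + q₂ d} := by
    intro t
    induction t using TensorProduct.induction_on with
    | zero => simp
    | tmul a b =>
      have hab : a ⊗ₜ[R] b = (a ⊗ₜ[R] (1 : B₂)) * ((1 : B₁) ⊗ₜ[R] b) := by
        rw [Algebra.TensorProduct.tmul_mul_tmul, mul_one, one_mul]
      rw [hab, map_mul]
      refine hmul _ ?_ _ ?_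
      · change q _ + q₀ _ = q₁ _ + q₂ _
        rw [h1, h1', add_comm]
      · change q _ + q₀ _ = q₁ _ + q₂ _
        rw [h2, h2', add_comm]
    | add x y hx hy =>
      have hx' : q _ + q₀ _ = q₁ _ + q₂ _ := hx
      have hy' : q _ + q₀ _ = q₁ _ + q₂ _ := hy
      change q _ + q₀ _ = q₁ _ + q₂ _
      simp only [map_add]
      linear_combination hx' + hy'
  obtain ⟨⟨t, ⟨_, n, rfl⟩⟩, ht⟩ := IsLocalization.surj (Submonoid.powers h) d
  simp only at ht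
  refine hunit d (algebraMap _ D (h ^ n)) ?_ (hT _) ?_
  · rw [ht]; exact hT t
  · exact IsLocalization.map_units D (⟨h ^ n, n, rfl⟩ : Submonoid.powers h)

end

end Groth.Agent.Helper3.SqZero1
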