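import Mathlib
import Groth.Agent.Helper3.SqZero1

set_option autoImplicit false
set_option linter.style.haveILetI false
set_option linter.unusedSectionVars false
set_option linter.unusedVariables false
set_option linter.style.haveILetI false
set_option linter.unusedSectionVars false
set_option linter.unusedVariables false

universe u

open AlgebraicGeometry CategoryTheory CategoryTheory.Limits TensorProduct

namespace Groth.Agent.Helper3.SqZero2

section Chart

variable {R : Type u} [CommRing R] {X Y : Scheme.{u}}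
  (fX : X ⟶ Spec (CommRingCat.of R)) (fY : Y ⟶ Spec (CommRingCat.of R))
  {B : Type u} [CommRing B] [Algebra R B] (jU : Spec (CommRingCat.of B) ⟶ X)
  (hjU : jU ≫ fX = Spec.map (CommRingCat.ofHom (algebraMap R B)))

/-- the chart `Spec (B ⊗ B) ⟶ X ×_S X` -/
noncomputable def κ : Spec (CommRingCat.of (B ⊗[R] B)) ⟶ pullback fX fX :=
  (pullbackSpecIso R B B).inv ≫
    pullback.map _ _ fX fX jU jU (𝟙 _) (by rw [Category.comp_id, hjU]) (by rw [Category.comp_id, hjU])

instance [IsOpenImmersion jU] : IsOpenImmersion (κ fX jU hjU) := by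
  unfold κ; infer_instance

theorem κ_fst : κ fX jU hjU ≫ pullback.fst fX fX =
    Spec.map (CommRingCat.ofHom (Algebra.TensorProduct.includeLeftRingHom : B →+* B ⊗[R] B)) ≫ jU := by
  unfold κ
  rw [Category.assoc, pullback.lift_fst, ← Category.assoc, pullbackSpecIso_inv_fst]

theorem κ_snd : κ fX jU hjU ≫ pullback.snd fX fX =
    Spec.map (CommRingCat.ofHom
      ((Algebra.TensorProduct.includeRight : B →ₐ[R] B ⊗[R] B) : B →+* B ⊗[R] B)) ≫ jU := by
  unfold κ
  rw [Category.assoc, pullback.lift_snd, ← Category.assoc, pullbackSpecIso_inv_snd]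

theorem range_κ [IsOpenImmersion jU] : Set.range (κ fX jU hjU) =
    (pullback.fst fX fX) ⁻¹' Set.range jU ∩ (pullback.snd fX fX) ⁻¹' Set.range jU := by
  unfold κ
  rw [Scheme.Hom.comp_base, TopCat.coe_comp, Set.range_comp,
    Set.range_eq_univ.mpr (show Function.Surjective ⇑(pullbackSpecIso R B B).inv from
      (pullbackSpecIso R B B).inv.homeomorph.surjective), Set.image_univ,
    Scheme.Pullback.range_map]

end Chart

section ChartH

variable {R : Type u} [CommRing R] (J : Ideal R) {X Y : Scheme.{u}}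
  (fX : X ⟶ Spec (CommRingCat.of R)) (fY : Y ⟶ Spec (CommRingCat.of R))
  {B : Type u} [CommRing B] [Algebra R B] (jU : Spec (CommRingCat.of B) ⟶ X) [IsOpenImmersion jU]
  (hjU : jU ≫ fX = Spec.map (CommRingCat.ofHom (algebraMap R B)))
  (h : B ⊗[R] B)

/-- the smaller chart `Spec (B ⊗ B)_h ⟶ X ×_S X` -/
noncomputable def κh : Spec (CommRingCat.of (Localization.Away h)) ⟶ pullback fX fX :=
  Spec.map (CommRingCat.ofHom (algebraMap (B ⊗[R] B) (Localization.Away h))) ≫ κ fX jU hjU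

instance : IsOpenImmersion (κh fX jU hjU h) := by
  unfold κh; infer_instance

theorem range_κh : Set.range (κh fX jU hjU h) =
    (κ fX jU hjU) '' (PrimeSpectrum.basicOpen h : Set (PrimeSpectrum (B ⊗[R] B))) := by
  unfold κh
  rw [Scheme.Hom.comp_base, TopCat.coe_comp, Set.range_comp]
  congr 1
  exact PrimeSpectrum.localization_away_comap_range (Localization.Away h) h

theorem κh_fst : κh fX jU hjU h ≫ pullback.fst fX fX =
    Spec.map (CommRingCat.ofHom ((algebraMap (B ⊗[R] B) (Localization.Away h)).comp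
      (Algebra.TensorProduct.includeLeftRingHom : B →+* B ⊗[R] B))) ≫ jU := by
  unfold κh
  rw [Category.assoc, κ_fst, ← Category.assoc, ← Spec.map_comp]
  rfl

theorem κh_snd : κh fX jU hjU h ≫ pullback.snd fX fX =
    Spec.map (CommRingCat.ofHom ((algebraMap (B ⊗[R] B) (Localization.Away h)).comp
      ((Algebra.TensorProduct.includeRight : B →ₐ[R] B ⊗[R] B) : B →+* B ⊗[R] B))) ≫ jU := by
  unfold κh
  rw [Category.assoc, κ_snd, ← Category.assoc, ← Spec.map_comp]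
  rfl

variable {C : Type u} [CommRing C] (j' : Spec (CommRingCat.of C) ⟶ Y)

theorem exists_factor (r : Y ⟶ pullback fX fX)
    (hr : Set.range (j' ≫ r) ⊆ Set.range (κh fX jU hjU h)) :
    ∃ q : CommRingCat.of (Localization.Away h) ⟶ CommRingCat.of C,
      j' ≫ r = Spec.map q ≫ κh fX jU hjU h :=
  ⟨Spec.preimage (IsOpenImmersion.lift (κh fX jU hjU h) (j' ≫ r) hr), by
    rw [Spec.map_preimage, IsOpenImmersion.lift_fac]⟩

variable {r r' : Y ⟶ pullback fX fX}
  {q q' : CommRingCat.of (Localization.Away h) ⟶ CommRingCat.of C}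
  (hq : j' ≫ r = Spec.map q ≫ κh fX jU hjU h) (hq' : j' ≫ r' = Spec.map q' ≫ κh fX jU hjU h)

include hq hq' in
theorem rel_fst (hrr : r ≫ pullback.fst fX fX = r' ≫ pullback.fst fX fX) (b : B) :
    q.hom (algebraMap _ (Localization.Away h) (b ⊗ₜ[R] (1 : B))) =
      q'.hom (algebraMap _ (Localization.Away h) (b ⊗ₜ[R] (1 : B))) := by
  have h1 : Spec.map q ≫ κh fX jU hjU h ≫ pullback.fst fX fX =
      Spec.map q' ≫ κh fX jU hjU h ≫ pullback.fst fX fX := by
    rw [← Category.assoc, ← hq, Category.assoc, hrr, ← Category.assoc, hq', Category.assoc]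
  rw [κh_fst, ← Category.assoc, ← Category.assoc, cancel_mono, ← Spec.map_comp, ← Spec.map_comp] at h1
  have h2 := Spec.map_injective h1
  exact congrArg (fun f => f.hom b) h2

include hq hq' in
theorem rel_snd (hrr : r ≫ pullback.snd fX fX = r' ≫ pullback.snd fX fX) (b : B) :
    q.hom (algebraMap _ (Localization.Away h) ((1 : B) ⊗ₜ[R] b)) =
      q'.hom (algebraMap _ (Localization.Away h) ((1 : B) ⊗ₜ[R] b)) := by
  have h1 : Spec.map q ≫ κh fX jU hjU h ≫ pullback.snd fX fX =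
      Spec.map q' ≫ κh fX jU hjU h ≫ pullback.snd fX fX := by
    rw [← Category.assoc, ← hq, Category.assoc, hrr, ← Category.assoc, hq', Category.assoc]
  rw [κh_snd, ← Category.assoc, ← Category.assoc, cancel_mono, ← Spec.map_comp, ← Spec.map_comp] at h1
  have h2 := Spec.map_injective h1
  exact congrArg (fun f => f.hom b) h2

include hq hq' in
theorem cong
    (hrr : pullback.fst fY (Spec.map (CommRingCat.ofHom (Ideal.Quotient.mk J))) ≫ r =
      pullback.fst fY (Spec.map (CommRingCat.ofHom (Ideal.Quotient.mk J))) ≫ r')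
    (d : Localization.Away h) :
    q.hom d - q'.hom d ∈ J.map (Spec.preimage (j' ≫ fY)).hom := by
  set φC : CommRingCat.of R ⟶ CommRingCat.of C := Spec.preimage (j' ≫ fY) with hφC
  set 𝔞 : Ideal C := J.map φC.hom with h𝔞
  let mk : C →+* C ⧸ 𝔞 := Ideal.Quotient.mk 𝔞
  let ψ : R ⧸ J →+* C ⧸ 𝔞 := Ideal.Quotient.lift J (mk.comp φC.hom) (fun a ha =>
    Ideal.Quotient.eq_zero_iff_mem.mpr (Ideal.mem_map_of_mem _ ha))
  have hcompat : (Spec.map (CommRingCat.ofHom mk) ≫ j') ≫ fY =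
      Spec.map (CommRingCat.ofHom ψ) ≫ Spec.map (CommRingCat.ofHom (Ideal.Quotient.mk J)) := by
    rw [Category.assoc, ← Spec.map_preimage (j' ≫ fY), ← Spec.map_comp, ← Spec.map_comp]
    congr 1
  let l : Spec (CommRingCat.of (C ⧸ 𝔞)) ⟶
      pullback fY (Spec.map (CommRingCat.ofHom (Ideal.Quotient.mk J))) :=
    pullback.lift (Spec.map (CommRingCat.ofHom mk) ≫ j') (Spec.map (CommRingCat.ofHom ψ)) hcompat
  have hl : l ≫ pullback.fst fY _ = Spec.map (CommRingCat.ofHom mk) ≫ j' := pullback.lift_fst _ _ _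
  have h1 : Spec.map (CommRingCat.ofHom mk) ≫ j' ≫ r = Spec.map (CommRingCat.ofHom mk) ≫ j' ≫ r' := by
    rw [← Category.assoc, ← hl, Category.assoc, hrr, ← Category.assoc, hl, Category.assoc]
  rw [hq, hq', ← Category.assoc, ← Category.assoc, cancel_mono, ← Spec.map_comp, ← Spec.map_comp] at h1
  have h2 := Spec.map_injective h1
  have h3 : mk (q.hom d) = mk (q'.hom d) := congrArg (fun f => f.hom d) h2
  exact (Ideal.Quotient.eq).mp h3

variable (μ : pullback fX fX ⟶ X)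
  {mstar : CommRingCat.of B ⟶ CommRingCat.of (Localization.Away h)}
  (hm : κh fX jU hjU h ≫ μ = Spec.map mstar ≫ jU)

include hq hq' hm in
theorem rel_mu (hrr : r ≫ μ = r' ≫ μ) (b : B) :
    q.hom (mstar.hom b) = q'.hom (mstar.hom b) := by
  have h1 : Spec.map q ≫ κh fX jU hjU h ≫ μ = Spec.map q' ≫ κh fX jU hjU h ≫ μ := by
    rw [← Category.assoc, ← hq, Category.assoc, hrr, ← Category.assoc, hq', Category.assoc]
  rw [hm, ← Category.assoc, ← Category.assoc, cancel_mono, ← Spec.map_comp, ← Spec.map_comp] at h1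
  have h2 := Spec.map_injective h1
  exact congrArg (fun f => f.hom b) h2

include hq hq' hm in
theorem mu_of_rel (H : ∀ b : B, q.hom (mstar.hom b) = q'.hom (mstar.hom b)) :
    j' ≫ r ≫ μ = j' ≫ r' ≫ μ := by
  have h2 : mstar ≫ q = mstar ≫ q' := by
    ext b; exact H b
  rw [← Category.assoc, hq, Category.assoc, hm, ← Category.assoc, ← Spec.map_comp, h2,
    Spec.map_comp, Category.assoc, ← hm, ← Category.assoc, ← hq', Category.assoc]

include hm in
/-- chart-level commutativity -/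
theorem chart_comm (hJ : J * J = ⊥)
    (p p₁ p₂ p₀ p' p₁' p₂' : Y ⟶ pullback fX fX)
    (hr : Set.range (j' ≫ p) ⊆ Set.range (κh fX jU hjU h))
    (hr₁ : Set.range (j' ≫ p₁) ⊆ Set.range (κh fX jU hjU h))
    (hr₂ : Set.range (j' ≫ p₂) ⊆ Set.range (κh fX jU hjU h))
    (hr₀ : Set.range (j' ≫ p₀) ⊆ Set.range (κh fX jU hjU h))
    (hr' : Set.range (j' ≫ p') ⊆ Set.range (κh fX jU hjU h))
    (hr₁' : Set.range (j' ≫ p₁') ⊆ Set.range (κh fX jU hjU h))
    (hr₂' : Set.range (j' ≫ p₂') ⊆ Set.range (κh fX jU hjU h))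
    (hc : pullback.fst fY (Spec.map (CommRingCat.ofHom (Ideal.Quotient.mk J))) ≫ p =
      pullback.fst fY (Spec.map (CommRingCat.ofHom (Ideal.Quotient.mk J))) ≫ p₀)
    (hc₁ : pullback.fst fY (Spec.map (CommRingCat.ofHom (Ideal.Quotient.mk J))) ≫ p₁ =
      pullback.fst fY (Spec.map (CommRingCat.ofHom (Ideal.Quotient.mk J))) ≫ p₀)
    (hc₂ : pullback.fst fY (Spec.map (CommRingCat.ofHom (Ideal.Quotient.mk J))) ≫ p₂ =
      pullback.fst fY (Spec.map (CommRingCat.ofHom (Ideal.Quotient.mk J))) ≫ p₀)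
    (hc' : pullback.fst fY (Spec.map (CommRingCat.ofHom (Ideal.Quotient.mk J))) ≫ p' =
      pullback.fst fY (Spec.map (CommRingCat.ofHom (Ideal.Quotient.mk J))) ≫ p₀)
    (hc₁' : pullback.fst fY (Spec.map (CommRingCat.ofHom (Ideal.Quotient.mk J))) ≫ p₁' =
      pullback.fst fY (Spec.map (CommRingCat.ofHom (Ideal.Quotient.mk J))) ≫ p₀)
    (hc₂' : pullback.fst fY (Spec.map (CommRingCat.ofHom (Ideal.Quotient.mk J))) ≫ p₂' =
      pullback.fst fY (Spec.map (CommRingCat.ofHom (Ideal.Quotient.mk J))) ≫ p₀)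
    (e1 : p ≫ pullback.fst fX fX = p₁ ≫ pullback.fst fX fX)
    (e1' : p₂ ≫ pullback.fst fX fX = p₀ ≫ pullback.fst fX fX)
    (e2 : p ≫ pullback.snd fX fX = p₂ ≫ pullback.snd fX fX)
    (e2' : p₁ ≫ pullback.snd fX fX = p₀ ≫ pullback.snd fX fX)
    (f1 : p' ≫ pullback.fst fX fX = p₁' ≫ pullback.fst fX fX)
    (f1' : p₂' ≫ pullback.fst fX fX = p₀ ≫ pullback.fst fX fX)
    (f2 : p' ≫ pullback.snd fX fX = p₂' ≫ pullback.snd fX fX)
    (f2' : p₁' ≫ pullback.snd fX fX = p₀ ≫ pullback.snd fX fX)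
    (m1 : p₁ ≫ μ = p₂' ≫ μ) (m2 : p₂ ≫ μ = p₁' ≫ μ) :
    j' ≫ p ≫ μ = j' ≫ p' ≫ μ := by
  obtain ⟨q, hq⟩ := exists_factor fX jU hjU h j' p hr
  obtain ⟨q₁, hq₁⟩ := exists_factor fX jU hjU h j' p₁ hr₁
  obtain ⟨q₂, hq₂⟩ := exists_factor fX jU hjU h j' p₂ hr₂
  obtain ⟨q₀, hq₀⟩ := exists_factor fX jU hjU h j' p₀ hr₀
  obtain ⟨q', hq'⟩ := exists_factor fX jU hjU h j' p' hr'
  obtain ⟨q₁', hq₁'⟩ := exists_factor fX jU hjU h j' p₁' hr₁'
  obtain ⟨q₂', hq₂'⟩ := exists_factor fX jU hjU h j' p₂' hr₂'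
  set 𝔞 : Ideal C := J.map (Spec.preimage (j' ≫ fY)).hom with h𝔞def
  have h𝔞 : ∀ a ∈ 𝔞, ∀ b ∈ 𝔞, a * b = 0 := by
    intro a ha b hb
    have h1 : a * b ∈ 𝔞 * 𝔞 := Ideal.mul_mem_mul ha hb
    rw [h𝔞def, ← Ideal.map_mul, hJ, Ideal.map_bot] at h1
    exact h1
  have A := SqZero1.four_maps (R := R) (D := Localization.Away h) 𝔞 h h𝔞 q.hom q₁.hom q₂.hom q₀.hom
    (cong J fX fY jU hjU h j' hq hq₀ hc) (cong J fX fY jU hjU h j' hq₁ hq₀ hc₁)
    (cong J fX fY jU hjU h j' hq₂ hq₀ hc₂)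
    (rel_fst fX jU hjU h j' hq hq₁ e1) (rel_fst fX jU hjU h j' hq₂ hq₀ e1')
    (rel_snd fX jU hjU h j' hq hq₂ e2) (rel_snd fX jU hjU h j' hq₁ hq₀ e2')
  have A' := SqZero1.four_maps (R := R) (D := Localization.Away h) 𝔞 h h𝔞 q'.hom q₁'.hom q₂'.hom q₀.hom
    (cong J fX fY jU hjU h j' hq' hq₀ hc') (cong J fX fY jU hjU h j' hq₁' hq₀ hc₁')
    (cong J fX fY jU hjU h j' hq₂' hq₀ hc₂')
    (rel_fst fX jU hjU h j' hq' hq₁' f1) (rel_fst fX jU hjU h j' hq₂' hq₀ f1')
    (rel_snd fX jU hjU h j' hq' hq₂' f2) (rel_snd fX jU hjU h j' hq₁' hq₀ f2')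
  refine mu_of_rel fX jU hjU h j' hq hq' μ hm (fun b => ?_)
  have B1 := rel_mu fX jU hjU h j' hq₁ hq₂' μ hm m1 b
  have B2 := rel_mu fX jU hjU h j' hq₂ hq₁' μ hm m2 b
  have A1 := A (mstar.hom b)
  have A2 := A' (mstar.hom b)
  rw [B1, B2] at A1
  have : q.hom (mstar.hom b) + q₀.hom (mstar.hom b) = q'.hom (mstar.hom b) + q₀.hom (mstar.hom b) := by
    rw [A1, A2, add_comm]
  exact add_right_cancel this

end ChartH

end Groth.Agent.Helper3.SqZero2
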