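import Mathlib
import Groth.Agent.Helper3.GmUniq1
import Groth.Agent.Helper3.SqZero2
import Groth.Agent.Helper3.FinComp2

set_option autoImplicit false
set_option linter.style.haveILetI false
set_option linter.unusedSectionVars false
set_option linter.unusedVariables false
set_option linter.style.haveILetI false
set_option linter.unusedSectionVars false
set_option linter.unusedVariables false

universe u

open AlgebraicGeometry CategoryTheory CategoryTheory.Limits TensorProduct LaurentPolynomial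

namespace Groth.Agent.Helper3.GmUniq2

open Groth.Agent.Helper3.GmUniq1 Groth.Agent.Helper3.SqZero2 Groth.Agent.Helper3.FinComp2

section
variable (k : Type u) [Field k]
  {G : Scheme.{u}} (e : G ≅ Spec (CommRingCat.of (LaurentPolynomial k)))

/-- the ring map `A ⟶ Γ(Z)` attached to `f : Z ⟶ G` -/
noncomputable def c {Z : Scheme.{u}} (f : Z ⟶ G) :
    CommRingCat.of (LaurentPolynomial k) ⟶ Γ(Z, ⊤) :=
  (Scheme.ΓSpecIso (CommRingCat.of (LaurentPolynomial k))).inv ≫ (f ≫ e.hom).appTop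

theorem c_comp {Z Z' : Scheme.{u}} (f' : Z' ⟶ Z) (f : Z ⟶ G) :
    c k e (f' ≫ f) = c k e f ≫ f'.appTop := by
  unfold c
  rw [Category.assoc, Scheme.Hom.comp_appTop, Category.assoc]

theorem c_comp_apply {Z Z' : Scheme.{u}} (f' : Z' ⟶ Z) (f : Z ⟶ G) (x : LaurentPolynomial k) :
    (c k e (f' ≫ f)).hom x = f'.appTop.hom ((c k e f).hom x) := by
  rw [c_comp]; rfl

theorem c_apply {Z : Scheme.{u}} (f : Z ⟶ G) (x : LaurentPolynomial k) :
    (c k e f).hom x = (f ≫ e.hom).appTop.hom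
      ((Scheme.ΓSpecIso (CommRingCat.of (LaurentPolynomial k))).inv.hom x) := rfl

instance : IsIso (c k e (𝟙 G)) := by
  unfold c
  rw [Category.id_comp]
  haveI : IsIso e.hom.appTop := inferInstanceAs (IsIso (e.hom.app ⊤))
  infer_instance

theorem c_id_injective : Function.Injective (c k e (𝟙 G)).hom :=
  (ConcreteCategory.bijective_of_isIso (c k e (𝟙 G))).1

/-- for affine `Z = Spec R`, `c f` is the ring map of `f ≫ e.hom` -/
theorem c_ringOf {R : CommRingCat.{u}} (f : Spec R ⟶ G) (φ : CommRingCat.of (LaurentPolynomial k) ⟶ R)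
    (h : f ≫ e.hom = Spec.map φ) : c k e f ≫ (Scheme.ΓSpecIso R).hom = φ := by
  unfold c
  rw [h, Category.assoc, Scheme.ΓSpecIso_naturality, Iso.inv_hom_id_assoc]

end

section Key
variable (k : Type u) [Field k]
  {G : Scheme.{u}} (e : G ≅ Spec (CommRingCat.of (LaurentPolynomial k)))
  (fG : G ⟶ Spec (CommRingCat.of k))
  (he : e.hom ≫ Spec.map (CommRingCat.ofHom (algebraMap k (LaurentPolynomial k))) = fG)
  (m : pullback fG fG ⟶ G) (η : Spec (CommRingCat.of k) ⟶ G)
  (ι₁ ι₂ : G ⟶ pullback fG fG)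
  (h1f : ι₁ ≫ pullback.fst fG fG = 𝟙 G) (h1s : ι₁ ≫ pullback.snd fG fG = fG ≫ η)
  (h1m : ι₁ ≫ m = 𝟙 G)
  (h2f : ι₂ ≫ pullback.fst fG fG = fG ≫ η) (h2s : ι₂ ≫ pullback.snd fG fG = 𝟙 G)
  (h2m : ι₂ ≫ m = 𝟙 G)
  (hunit : (c k e η).hom (T 1) = 1)

include he h1f h1s h1m h2f h2s h2m hunit in
theorem key : (c k e m).hom (T 1) =
    (c k e (pullback.fst fG fG)).hom (T 1) * (c k e (pullback.snd fG fG)).hom (T 1) := by
  have hj : e.inv ≫ fG = Spec.map (CommRingCat.ofHom (algebraMap k (LaurentPolynomial k))) := by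
    rw [← he, Iso.inv_hom_id_assoc]
  haveI : IsIso (κ fG e.inv hj) := by unfold κ; infer_instance
  let ψ : Γ(pullback fG fG, ⊤) ⟶ CommRingCat.of (LaurentPolynomial k ⊗[k] LaurentPolynomial k) :=
    ringOf (κ fG e.inv hj)
  haveI : IsIso ψ := by
    haveI : IsIso (κ fG e.inv hj).appTop := inferInstanceAs (IsIso ((κ fG e.inv hj).app ⊤))
    change IsIso ((κ fG e.inv hj).appTop ≫ _)
    infer_instance
  have hψinj : Function.Injective ψ.hom := (ConcreteCategory.bijective_of_isIso ψ).1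
  have hψ1 : c k e (pullback.fst fG fG) ≫ ψ = CommRingCat.ofHom
      (Algebra.TensorProduct.includeLeftRingHom :
        LaurentPolynomial k →+* LaurentPolynomial k ⊗[k] LaurentPolynomial k) := by
    change c k e (pullback.fst fG fG) ≫ (κ fG e.inv hj).appTop ≫ _ = _
    rw [← Category.assoc, ← c_comp]
    apply c_ringOf
    rw [κ_fst, Category.assoc, Iso.inv_hom_id, Category.comp_id]
  have hψ2 : c k e (pullback.snd fG fG) ≫ ψ = CommRingCat.ofHom
      ((Algebra.TensorProduct.includeRight : LaurentPolynomial k →ₐ[k]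
        LaurentPolynomial k ⊗[k] LaurentPolynomial k) : LaurentPolynomial k →+* _) := by
    change c k e (pullback.snd fG fG) ≫ (κ fG e.inv hj).appTop ≫ _ = _
    rw [← Category.assoc, ← c_comp]
    apply c_ringOf
    rw [κ_snd, Category.assoc, Iso.inv_hom_id, Category.comp_id]
  have hψ1' : ∀ x, ψ.hom ((c k e (pullback.fst fG fG)).hom x) = x ⊗ₜ[k] 1 := fun x =>
    congrArg (fun φ : CommRingCat.of (LaurentPolynomial k) ⟶ _ => φ.hom x) hψ1
  have hψ2' : ∀ x, ψ.hom ((c k e (pullback.snd fG fG)).hom x) = 1 ⊗ₜ[k] x := fun x =>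
    congrArg (fun φ : CommRingCat.of (LaurentPolynomial k) ⟶ _ => φ.hom x) hψ2
  -- the unit
  have hu : IsUnit ((c k e m).hom (T 1)) := (isUnit_T 1).map (c k e m).hom
  have hψu : IsUnit (ψ.hom ((c k e m).hom (T 1))) := hu.map ψ.hom
  let E := AddMonoidAlgebra.scalarTensorEquiv (M := ℤ) k (LaurentPolynomial k)
  have hw : IsUnit (E (ψ.hom ((c k e m).hom (T 1)))) := hψu.map E
  obtain ⟨d, b, hd, hdb⟩ := isUnit_laurent _ hw
  have h3 : ψ.hom ((c k e m).hom (T 1)) = d ⊗ₜ[k] (T b : LaurentPolynomial k) := by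
    rw [← E.symm_apply_apply (ψ.hom ((c k e m).hom (T 1))), hdb, ← single_eq_C_mul_T]
    exact AddMonoidAlgebra.scalarTensorEquiv_symm_single b d
  have h4 : (c k e m).hom (T 1) =
      (c k e (pullback.fst fG fG)).hom d * (c k e (pullback.snd fG fG)).hom (T b) := by
    apply hψinj
    rw [h3, map_mul, hψ1', hψ2', Algebra.TensorProduct.tmul_mul_tmul, mul_one, one_mul]
  -- the counit map kills `T`
  have hε : ∀ n : ℤ, (c k e (fG ≫ η)).hom (T n) = 1 := by
    intro n
    apply map_T_eq_one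
    rw [c_comp_apply, hunit, map_one]
  -- first unit law
  have h5 := congrArg ι₁.appTop.hom h4
  rw [map_mul, ← c_comp_apply, ← c_comp_apply, ← c_comp_apply, h1m, h1f, h1s, hε, mul_one] at h5
  have hd1 : d = T 1 := (c_id_injective k e h5).symm
  -- second unit law
  have h6 := congrArg ι₂.appTop.hom h4
  rw [map_mul, ← c_comp_apply, ← c_comp_apply, ← c_comp_apply, h2m, h2f, h2s, hd1, hε, one_mul] at h6
  have hb1 : (T b : LaurentPolynomial k) = T 1 := (c_id_injective k e h6).symm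
  rw [h4, hd1, hb1]

end Key

section Main

open MonoidalCategory CartesianMonoidalCategory MonObj

/-- S14637 -/
theorem main (k : Type u) [Field k]
    (G : Over (Spec (CommRingCat.of k))) [GrpObj G]
    (e : G.left ≅ Spec (CommRingCat.of (LaurentPolynomial k)))
    (he : e.hom ≫ Spec.map (CommRingCat.ofHom (algebraMap k (LaurentPolynomial k))) = G.hom)
    (hunit : ((η[G]).left ≫ e.hom).appTop.hom ((Scheme.ΓSpecIso (CommRingCat.of (LaurentPolynomial k))).inv.hom (LaurentPolynomial.T 1)) = 1)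
    (S : Over (Spec (CommRingCat.of k))) (g h : S ⟶ G) :
    ((g * h).left ≫ e.hom).appTop.hom ((Scheme.ΓSpecIso (CommRingCat.of (LaurentPolynomial k))).inv.hom (LaurentPolynomial.T 1)) =
      (g.left ≫ e.hom).appTop.hom ((Scheme.ΓSpecIso (CommRingCat.of (LaurentPolynomial k))).inv.hom (LaurentPolynomial.T 1)) * (h.left ≫ e.hom).appTop.hom ((Scheme.ΓSpecIso (CommRingCat.of (LaurentPolynomial k))).inv.hom (LaurentPolynomial.T 1)) := by
  -- unit laws at the level of schemes
  have hηw : (η[G]).left ≫ G.hom = 𝟙 _ := Over.w (η[G])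
  let ι₁ : G ⟶ G ⊗ G := lift (𝟙 G) (toUnit G ≫ η[G])
  let ι₂ : G ⟶ G ⊗ G := lift (toUnit G ≫ η[G]) (𝟙 G)
  have h1m : ι₁ ≫ μ[G] = 𝟙 G := lift_comp_one_right (𝟙 G) (toUnit G)
  have h2m : ι₂ ≫ μ[G] = 𝟙 G := lift_comp_one_left (toUnit G) (𝟙 G)
  have h1f : ι₁ ≫ fst G G = 𝟙 G := lift_fst _ _
  have h1s : ι₁ ≫ snd G G = toUnit G ≫ η[G] := lift_snd _ _
  have h2f : ι₂ ≫ fst G G = toUnit G ≫ η[G] := lift_fst _ _
  have h2s : ι₂ ≫ snd G G = 𝟙 G := lift_snd _ _
  have key := key k e G.hom he (μ[G]).left (η[G]).left ι₁.left ι₂.left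
    (congrArg (fun φ : G ⟶ G => φ.left) h1f) (congrArg (fun φ : G ⟶ G => φ.left) h1s)
    (congrArg (fun φ : G ⟶ G => φ.left) h1m) (congrArg (fun φ : G ⟶ G => φ.left) h2f)
    (congrArg (fun φ : G ⟶ G => φ.left) h2s) (congrArg (fun φ : G ⟶ G => φ.left) h2m) hunit
  have hgh : (g * h).left = (lift g h).left ≫ (μ[G]).left := by
    rw [Hom.mul_def, Over.comp_left]
  change (c k e (g * h).left).hom (T 1) = (c k e g.left).hom (T 1) * (c k e h.left).hom (T 1)
  rw [hgh, c_comp_apply, key, map_mul, ← c_comp_apply, ← c_comp_apply]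
  have hl1 : (lift g h).left ≫ pullback.fst G.hom G.hom = g.left :=
    congrArg (fun φ : S ⟶ G => φ.left) (lift_fst g h)
  have hl2 : (lift g h).left ≫ pullback.snd G.hom G.hom = h.left :=
    congrArg (fun φ : S ⟶ G => φ.left) (lift_snd g h)
  rw [hl1, hl2]

end Main

end Groth.Agent.Helper3.GmUniq2
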