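import Mathlib
import Groth.Prelude.Def_CAlg
import Groth.Prelude.Def_Dual3
import Groth.Agent.Helper5.CMFib1
import Groth.Agent.Helper7.SegGorD
import Groth.Agent.S0344

/-!
# Gorenstein morphisms of schemes: flat morphisms with Gorenstein source
-/

set_option autoImplicit false
set_option linter.style.haveILetI false
set_option linter.unusedSectionVars false
set_option linter.unusedVariables false
set_option linter.style.haveILetI false
set_option linter.unusedSectionVars false
set_option linter.unusedVariables false

universe u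

namespace Groth.Agent.Helper3.GorSch1

open CategoryTheory CategoryTheory.Limits AlgebraicGeometry TopologicalSpace Topology TensorProduct
open IsLocalRing
open Groth.Agent.Helper7.SegGor

theorem s3624 (X Y : Scheme.{u}) [IsLocallyNoetherian Y] (f : X ⟶ Y) [Flat f]
    (hX : Dual3.IsGorenstein X) :
    Dual3.IsGorensteinMor f ∧ ∀ x : X, LocCoh.IsGorensteinLocalRing (Y.presheaf.stalk (f x)) := by
  have key : ∀ x : X, (f.stalkMap x).hom.Flat ∧
      LocCoh.IsGorensteinLocalRing ((f.fiber (f x)).presheaf.stalk (f.asFiber x)) ∧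
      LocCoh.IsGorensteinLocalRing (Y.presheaf.stalk (f x)) := by
    intro x
    have hflat : (f.stalkMap x).hom.Flat := Flat.stalkMap f x
    have hB := hX.2 x
    haveI : IsNoetherianRing (X.presheaf.stalk x) := hB.toIsNoetherian
    letI : Algebra (Y.presheaf.stalk (f x)) (X.presheaf.stalk x) := (f.stalkMap x).hom.toAlgebra
    haveI : Module.Flat (Y.presheaf.stalk (f x)) (X.presheaf.stalk x) := hflat
    haveI : IsLocalHom (algebraMap (Y.presheaf.stalk (f x)) (X.presheaf.stalk x)) :=
      inferInstanceAs (IsLocalHom (f.stalkMap x).hom)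
    obtain ⟨hA, hF⟩ := (Groth.Agent.S0344.result (Y.presheaf.stalk (f x)) (X.presheaf.stalk x)).1 hB
    obtain ⟨e⟩ := Groth.Agent.Helper5.CMFib.fibre_stalk_equiv' f x
    exact ⟨hflat, gorLocal_of_ringEquiv e hF, hA⟩
  exact ⟨fun x => ⟨(key x).1, (key x).2.1⟩, fun x => (key x).2.2⟩

end Groth.Agent.Helper3.GorSch1
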