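import Mathlib
import Groth.Prelude.Def_CAlg
import Groth.Prelude.Def_Dual3
import Groth.Agent.Helper5.CMFib1
import Groth.Agent.Helper7.SegGorD
import Groth.Agent.Helper2.FFDesc
import Groth.Agent.Helper3.GorFlatD
import Groth.Agent.S0344

/-!
# Gorenstein morphisms of schemes: composition
-/

set_option autoImplicit false
set_option linter.style.haveILetI false
set_option linter.unusedSectionVars false
set_option linter.unusedVariables false
set_option linter.style.haveILetI false
set_option linter.unusedSectionVars false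
set_option linter.unusedVariables false

universe u

namespace Groth.Agent.Helper3.GorSch2

open CategoryTheory CategoryTheory.Limits AlgebraicGeometry TopologicalSpace Topology TensorProduct
open IsLocalRing
open Groth.Agent.Helper7.SegGor

section Ring

variable (A B : Type u) [CommRing A] [IsLocalRing A] [CommRing B] [IsLocalRing B] [Algebra A B]
  [IsLocalHom (algebraMap A B)] [Module.Flat A B] (I : Ideal A) (hI : I ≤ maximalIdeal A)

include hI in
theorem map_le_maximalIdeal : I.map (algebraMap A B) ≤ maximalIdeal B :=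
  (Ideal.map_mono hI).trans (IsLocalRing.map_maximalIdeal_le _)

theorem flat_quot : Module.Flat (A ⧸ I) (B ⧸ I.map (algebraMap A B)) :=
  Module.Flat.of_linearEquiv
    (Algebra.TensorProduct.quotIdealMapEquivQuotTensor B I).toLinearEquiv

theorem isLocalHom_quot [IsLocalRing (A ⧸ I)] [Nontrivial (B ⧸ I.map (algebraMap A B))] :
    IsLocalHom (algebraMap (A ⧸ I) (B ⧸ I.map (algebraMap A B))) := by
  refine ⟨fun x hx => ?_⟩
  obtain ⟨x, rfl⟩ := Ideal.Quotient.mk_surjective x
  haveI : IsLocalHom (Ideal.Quotient.mk (I.map (algebraMap A B))) :=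
    IsLocalHom.of_surjective _ Ideal.Quotient.mk_surjective
  have hx' : IsUnit (Ideal.Quotient.mk (I.map (algebraMap A B)) (algebraMap A B x)) := hx
  have h1 : IsUnit (algebraMap A B x) := (isUnit_map_iff _ _).1 hx'
  have h2 : IsUnit x := (isUnit_map_iff (algebraMap A B) x).1 h1
  exact h2.map _

include hI in
theorem nonempty_fibre_equiv [IsLocalRing (A ⧸ I)] :
    Nonempty (((B ⧸ I.map (algebraMap A B)) ⧸
      (maximalIdeal (A ⧸ I)).map (algebraMap (A ⧸ I) (B ⧸ I.map (algebraMap A B)))) ≃+*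
        (B ⧸ (maximalIdeal A).map (algebraMap A B))) := by
  have hle : I.map (algebraMap A B) ≤ (maximalIdeal A).map (algebraMap A B) := Ideal.map_mono hI
  have heq : (maximalIdeal (A ⧸ I)).map (algebraMap (A ⧸ I) (B ⧸ I.map (algebraMap A B))) =
      ((maximalIdeal A).map (algebraMap A B)).map (Ideal.Quotient.mk (I.map (algebraMap A B))) := by
    rw [← Groth.Agent.Helper3.GorFlatD.map_mk_maximalIdeal I, Ideal.map_map, Ideal.map_map]
    rfl
  exact ⟨(Ideal.quotEquivOfEq heq).trans (DoubleQuot.quotQuotEquivQuotOfLE hle)⟩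

include hI in
/-- `A/I → B/IB` flat local with `A/I`, `B/IB` Noetherian: `B/IB` is Gorenstein iff `A/I` and the
closed fibre `B/m_A B` are -/
theorem gor_quot_iff [IsNoetherianRing (A ⧸ I)] [IsNoetherianRing (B ⧸ I.map (algebraMap A B))] :
    LocCoh.IsGorensteinLocalRing (B ⧸ I.map (algebraMap A B)) ↔
      (LocCoh.IsGorensteinLocalRing (A ⧸ I) ∧
        LocCoh.IsGorensteinLocalRing (B ⧸ (maximalIdeal A).map (algebraMap A B))) := by
  haveI := Groth.Agent.Helper3.GorFlatD.isLocalRing_quot I hI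
  haveI := Groth.Agent.Helper3.GorFlatD.isLocalRing_quot (I.map (algebraMap A B))
    (map_le_maximalIdeal A B I hI)
  haveI := isLocalHom_quot A B I
  haveI := flat_quot A B I
  rw [Groth.Agent.S0344.result (A ⧸ I) (B ⧸ I.map (algebraMap A B))]
  obtain ⟨e⟩ := nonempty_fibre_equiv A B I hI
  exact ⟨fun h => ⟨h.1, gorLocal_of_ringEquiv e h.2⟩,
    fun h => ⟨h.1, gorLocal_of_ringEquiv e.symm h.2⟩⟩

end Ring

section Three

variable (R S T : Type u) [CommRing R] [IsLocalRing R] [CommRing S] [IsLocalRing S] [CommRing T]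
  [IsLocalRing T] [Algebra R S] [Algebra S T] [Algebra R T] [IsScalarTower R S T]
  [IsLocalHom (algebraMap R S)] [IsLocalHom (algebraMap S T)] [Module.Flat S T]

theorem map_map_maximalIdeal :
    ((maximalIdeal R).map (algebraMap R S)).map (algebraMap S T) =
      (maximalIdeal R).map (algebraMap R T) := by
  rw [Ideal.map_map, ← IsScalarTower.algebraMap_eq]

/-- `R → S → T` local homomorphisms of local rings with `S → T` flat and Noetherian fibre rings:
the closed fibre of `R → T` is Gorenstein iff those of `R → S` and `S → T` are -/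
theorem gor_three [IsNoetherianRing (S ⧸ (maximalIdeal R).map (algebraMap R S))]
    [IsNoetherianRing (T ⧸ (maximalIdeal R).map (algebraMap R T))] :
    LocCoh.IsGorensteinLocalRing (T ⧸ (maximalIdeal R).map (algebraMap R T)) ↔
      (LocCoh.IsGorensteinLocalRing (S ⧸ (maximalIdeal R).map (algebraMap R S)) ∧
        LocCoh.IsGorensteinLocalRing (T ⧸ (maximalIdeal S).map (algebraMap S T))) := by
  have hI : (maximalIdeal R).map (algebraMap R S) ≤ maximalIdeal S :=
    IsLocalRing.map_maximalIdeal_le _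
  have heq := map_map_maximalIdeal R S T
  haveI : IsNoetherianRing (T ⧸ ((maximalIdeal R).map (algebraMap R S)).map (algebraMap S T)) :=
    isNoetherianRing_of_ringEquiv _ (Ideal.quotEquivOfEq heq.symm)
  rw [← gor_quot_iff S T ((maximalIdeal R).map (algebraMap R S)) hI]
  exact ⟨fun h => gorLocal_of_ringEquiv (Ideal.quotEquivOfEq heq.symm) h,
    fun h => gorLocal_of_ringEquiv (Ideal.quotEquivOfEq heq) h⟩

end Three

section Scheme

theorem s3627 (X Y Z : Scheme.{u}) (f : X ⟶ Y) (g : Y ⟶ Z)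
    (hfibf : ∀ y, IsLocallyNoetherian (f.fiber y)) (hfibg : ∀ y, IsLocallyNoetherian (g.fiber y))
    (hfibfg : ∀ z, IsLocallyNoetherian ((f ≫ g).fiber z)) (x : X) :
    (Dual3.IsGorensteinAt f x → Dual3.IsGorensteinAt g (f x) →
      Dual3.IsGorensteinAt (f ≫ g) x) ∧
    (Dual3.IsGorensteinAt (f ≫ g) x → (f.stalkMap x).hom.Flat →
      Dual3.IsGorensteinAt f x ∧ Dual3.IsGorensteinAt g (f x)) := by
  letI algAB : Algebra (Z.presheaf.stalk (g (f x))) (Y.presheaf.stalk (f x)) :=
    (g.stalkMap (f x)).hom.toAlgebra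
  letI algBC : Algebra (Y.presheaf.stalk (f x)) (X.presheaf.stalk x) :=
    (f.stalkMap x).hom.toAlgebra
  letI algAC : Algebra (Z.presheaf.stalk (g (f x))) (X.presheaf.stalk x) :=
    ((f ≫ g).stalkMap x).hom.toAlgebra
  haveI : IsLocalHom (algebraMap (Y.presheaf.stalk (f x)) (X.presheaf.stalk x)) :=
    inferInstanceAs (IsLocalHom (f.stalkMap x).hom)
  haveI : IsLocalHom (algebraMap (Z.presheaf.stalk (g (f x))) (Y.presheaf.stalk (f x))) :=
    inferInstanceAs (IsLocalHom (g.stalkMap (f x)).hom)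
  haveI : IsScalarTower (Z.presheaf.stalk (g (f x))) (Y.presheaf.stalk (f x))
      (X.presheaf.stalk x) :=
    IsScalarTower.of_algebraMap_eq (fun a => by
      change ((f ≫ g).stalkMap x).hom a = (f.stalkMap x).hom ((g.stalkMap (f x)).hom a)
      rw [Scheme.Hom.stalkMap_comp]
      rfl)
  obtain ⟨ef⟩ := Groth.Agent.Helper5.CMFib.fibre_stalk_equiv' f x
  obtain ⟨eg⟩ := Groth.Agent.Helper5.CMFib.fibre_stalk_equiv' g (f x)
  obtain ⟨efg⟩ := Groth.Agent.Helper5.CMFib.fibre_stalk_equiv' (f ≫ g) x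
  haveI := hfibf (f x)
  haveI := hfibg (g (f x))
  haveI := hfibfg ((f ≫ g) x)
  haveI : IsNoetherianRing (Y.presheaf.stalk (f x) ⧸
      (maximalIdeal (Z.presheaf.stalk (g (f x)))).map
        (algebraMap (Z.presheaf.stalk (g (f x))) (Y.presheaf.stalk (f x)))) :=
    isNoetherianRing_of_ringEquiv _ eg.symm
  haveI : IsNoetherianRing (X.presheaf.stalk x ⧸
      (maximalIdeal (Z.presheaf.stalk (g (f x)))).map
        (algebraMap (Z.presheaf.stalk (g (f x))) (X.presheaf.stalk x))) :=
    isNoetherianRing_of_ringEquiv _ efg.symm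
  constructor
  · rintro ⟨hf1, hf2⟩ ⟨hg1, hg2⟩
    haveI : Module.Flat (Y.presheaf.stalk (f x)) (X.presheaf.stalk x) := hf1
    haveI : Module.Flat (Z.presheaf.stalk (g (f x))) (Y.presheaf.stalk (f x)) := hg1
    refine ⟨?_, ?_⟩
    · exact Module.Flat.trans (Z.presheaf.stalk (g (f x))) (Y.presheaf.stalk (f x))
        (X.presheaf.stalk x)
    · refine gorLocal_of_ringEquiv efg ?_
      exact (gor_three (Z.presheaf.stalk (g (f x))) (Y.presheaf.stalk (f x))
        (X.presheaf.stalk x)).2 ⟨gorLocal_of_ringEquiv eg.symm hg2,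
          gorLocal_of_ringEquiv ef.symm hf2⟩
  · rintro ⟨hfg1, hfg2⟩ hf1
    haveI : Module.Flat (Y.presheaf.stalk (f x)) (X.presheaf.stalk x) := hf1
    haveI : Module.Flat (Z.presheaf.stalk (g (f x))) (X.presheaf.stalk x) := hfg1
    haveI : Module.FaithfullyFlat (Y.presheaf.stalk (f x)) (X.presheaf.stalk x) :=
      Module.FaithfullyFlat.of_flat_of_isLocalHom
    have hg1 : Module.Flat (Z.presheaf.stalk (g (f x))) (Y.presheaf.stalk (f x)) :=
      Groth.Agent.Helper2.FFDesc.flat_of_flat_comp _ _ (X.presheaf.stalk x)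
    obtain ⟨h1, h2⟩ := (gor_three (Z.presheaf.stalk (g (f x))) (Y.presheaf.stalk (f x))
        (X.presheaf.stalk x)).1 (gorLocal_of_ringEquiv efg.symm hfg2)
    exact ⟨⟨hf1, gorLocal_of_ringEquiv ef h2⟩, ⟨hg1, gorLocal_of_ringEquiv eg h1⟩⟩

end Scheme

end Groth.Agent.Helper3.GorSch2
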