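import Mathlib
import Groth.Prelude.Def_CAlg
import Groth.Prelude.Def_Dual3
import Groth.Agent.Helper7.SegGorD
import Groth.Agent.S1827

/-!
# lci over a Gorenstein scheme is Gorenstein
-/

set_option autoImplicit false
set_option linter.style.haveILetI false
set_option linter.unusedSectionVars false
set_option linter.unusedVariables false
set_option linter.style.haveILetI false
set_option linter.unusedSectionVars false
set_option linter.unusedVariables false

universe u

namespace Groth.Agent.Helper3.GorSch3

open CategoryTheory CategoryTheory.Limits AlgebraicGeometry TopologicalSpace Topology TensorProduct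
open IsLocalRing
open Groth.Agent.Helper7.SegGor

/-- the stalk at a point of an affine open is the localisation of the ring of sections -/
theorem nonempty_stalk_equiv {X : Scheme.{u}} {U : X.Opens} (hU : IsAffineOpen U)
    (y : PrimeSpectrum Γ(X, U)) :
    Nonempty (Localization.AtPrime y.asIdeal ≃+* X.presheaf.stalk (hU.fromSpec y)) := by
  have hy : hU.fromSpec y ∈ U := by
    rw [← SetLike.mem_coe, ← hU.range_fromSpec]
    exact ⟨y, rfl⟩
  letI := TopCat.Presheaf.algebra_section_stalk X.presheaf ⟨hU.fromSpec y, hy⟩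
  haveI : IsLocalization.AtPrime (X.presheaf.stalk (hU.fromSpec y)) y.asIdeal :=
    hU.isLocalization_stalk' y hy
  exact ⟨(IsLocalization.algEquiv y.asIdeal.primeCompl (Localization.AtPrime y.asIdeal)
    (X.presheaf.stalk (hU.fromSpec y))).toRingEquiv⟩

/-- sections of a Gorenstein scheme over an affine open form a Gorenstein ring -/
theorem gorenstein_sections {X : Scheme.{u}} (hX : Dual3.IsGorenstein X) {U : X.Opens}
    (hU : IsAffineOpen U) : LocCoh.IsGorensteinRing Γ(X, U) := by
  haveI := hX.1
  haveI : IsNoetherianRing Γ(X, U) := IsLocallyNoetherian.component_noetherian ⟨U, hU⟩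
  refine ⟨fun p hp => ?_⟩
  obtain ⟨e⟩ := nonempty_stalk_equiv hU ⟨p, hp⟩
  exact gorLocal_of_ringEquiv e.symm (hX.2 _)

/-- a point of an affine open whose ring of sections is Gorenstein has Gorenstein local ring -/
theorem gorLocal_stalk_of_sections {X : Scheme.{u}} {U : X.Opens} (hU : IsAffineOpen U)
    (h : LocCoh.IsGorensteinRing Γ(X, U)) (x : X) (hx : x ∈ U) :
    LocCoh.IsGorensteinLocalRing (X.presheaf.stalk x) := by
  have h1 := hU.fromSpec_primeIdealOf ⟨x, hx⟩
  obtain ⟨e⟩ := nonempty_stalk_equiv hU (hU.primeIdealOf ⟨x, hx⟩)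
  have h2 := gorLocal_of_ringEquiv e
    (h.isGorensteinLocalRing_localization (hU.primeIdealOf ⟨x, hx⟩).asIdeal)
  rw [h1] at h2
  exact h2

theorem s3623 (Y X : Scheme.{u}) (f : Y ⟶ X) (hf : Dual3.IsLCIMor f)
    (hX : Dual3.IsGorenstein X) : Dual3.IsGorenstein Y := by
  choose U V e hxU hlci using hf
  have hG : ∀ y : Y, LocCoh.IsGorensteinRing Γ(Y, (U y).1) := by
    intro y
    letI := (f.appLE (V y).1 (U y).1 (e y)).hom.toAlgebra
    exact Groth.Agent.S1827.result Γ(X, (V y).1) Γ(Y, (U y).1)
      (gorenstein_sections hX (V y).2) (hlci y)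
  refine ⟨?_, fun y => gorLocal_stalk_of_sections (U y).2 (hG y) y (hxU y)⟩
  refine isLocallyNoetherian_of_affine_cover (S := U) ?_ (fun y => (hG y).toIsNoetherian)
  rw [eq_top_iff]
  intro y _
  exact Opens.mem_iSup.2 ⟨y, hxU y⟩

end Groth.Agent.Helper3.GorSch3
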