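import Mathlib
import Groth.Prelude.Def_CAlg
import Groth.Prelude.Def_Dual3
import Groth.Prelude.Def_Models
import Groth.Agent.Helper5.CMFib1
import Groth.Agent.Helper2.StalkDict
import Groth.Agent.Helper7.SegGorD
import Groth.Agent.Helper6.Rees3
import Groth.Agent.S0342
import Groth.Agent.Helper3.GorBC1
import Groth.Agent.Helper3.GorSch1

/-!
# Closed fibres over a local base; Gorenstein special fibres of regular models
-/

set_option autoImplicit false
set_option linter.style.haveILetI false
set_option linter.unusedSectionVars false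
set_option linter.unusedVariables false
set_option linter.deprecated false
set_option linter.style.haveILetI false
set_option linter.unusedSectionVars false
set_option linter.unusedVariables false

universe u

namespace Groth.Agent.Helper3.GorSch4

open CategoryTheory CategoryTheory.Limits AlgebraicGeometry TopologicalSpace Topology TensorProduct
open IsLocalRing
open Groth.Agent.Helper7.SegGor

section ClosedFibre

variable (A : Type u) [CommRing A] [IsLocalRing A]

/-- `Spec (A/m) → Spec A` is the inclusion of the residue field of the closed point -/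
theorem exists_residue_iso :
    ∃ e : Spec (CommRingCat.of (ResidueField A)) ≅
        Spec ((Spec (CommRingCat.of A)).residueField (closedPoint A)),
      e.hom ≫ (Spec (CommRingCat.of A)).fromSpecResidueField (closedPoint A) =
        Spec.map (CommRingCat.ofHom (residue A)) := by
  let ψ : ResidueField A ≃+* (closedPoint A).asIdeal.ResidueField :=
    RingEquiv.ofBijective (algebraMap (A ⧸ maximalIdeal A) (maximalIdeal A).ResidueField)
      (Ideal.bijective_algebraMap_quotient_residueField _)
  let e1 : Spec (CommRingCat.of (ResidueField A)) ≅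
      Spec (CommRingCat.of (closedPoint A).asIdeal.ResidueField) :=
    Scheme.Spec.mapIso (ψ.symm.toCommRingCatIso).op
  let e2 : Spec (CommRingCat.of (closedPoint A).asIdeal.ResidueField) ≅
      Spec ((Spec (CommRingCat.of A)).residueField (closedPoint A)) :=
    Scheme.Spec.mapIso (Scheme.Spec.residueFieldIso (CommRingCat.of A) (closedPoint A)).op
  refine ⟨e1 ≪≫ e2, ?_⟩
  have h := Scheme.Spec.map_residueFieldIso_inv_eq_fromSpecResidueField (CommRingCat.of A)
    (closedPoint A)
  rw [← h]
  have he2 : e2.hom ≫ Spec.map (Scheme.Spec.residueFieldIso (CommRingCat.of A) (closedPoint A)).inv =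
      𝟙 _ := by
    change Spec.map (Scheme.Spec.residueFieldIso (CommRingCat.of A) (closedPoint A)).hom ≫
      Spec.map (Scheme.Spec.residueFieldIso (CommRingCat.of A) (closedPoint A)).inv = 𝟙 _
    rw [← Spec.map_comp, Iso.inv_hom_id, Spec.map_id]
  rw [Iso.trans_hom, Category.assoc, reassoc_of% he2]
  change Spec.map (ψ.symm.toCommRingCatIso).hom ≫ Spec.map _ = _
  rw [← Spec.map_comp]
  congr 1
  ext a
  show ψ.symm (algebraMap A (closedPoint A).asIdeal.ResidueField a) = residue A a
  rw [RingEquiv.symm_apply_eq]
  rfl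

/-- a pullback of `f : P → Spec A` along `Spec (A/m) → Spec A` is the fibre over the closed point -/
theorem exists_fibre_iso {P X : Scheme.{u}} (f : P ⟶ Spec (CommRingCat.of A)) (i : X ⟶ P)
    (q : X ⟶ Spec (CommRingCat.of (ResidueField A)))
    (hsq : IsPullback i q f (Spec.map (CommRingCat.ofHom (residue A)))) :
    ∃ φ : X ≅ f.fiber (closedPoint A), φ.hom ≫ f.fiberι (closedPoint A) = i := by
  obtain ⟨e, he⟩ := exists_residue_iso A
  have H : IsPullback i (q ≫ e.hom) f
      ((Spec (CommRingCat.of A)).fromSpecResidueField (closedPoint A)) :=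
    IsPullback.of_iso hsq (Iso.refl _) (Iso.refl _) e (Iso.refl _) (by simp) (by simp) (by simp)
      (by simp [he])
  exact ⟨H.isoPullback, H.isoPullback_hom_fst⟩

/-- the local rings of such a closed fibre are `O_{P,x}/m_A O_{P,x}` -/
theorem nonempty_closedFibre_stalk_equiv {P X : Scheme.{u}} (f : P ⟶ Spec (CommRingCat.of A))
    (i : X ⟶ P) (q : X ⟶ Spec (CommRingCat.of (ResidueField A)))
    (hsq : IsPullback i q f (Spec.map (CommRingCat.ofHom (residue A)))) (x : X) :
    Nonempty ((P.presheaf.stalk (i x) ⧸ Ideal.map (f.stalkMap (i x)).hom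
      (maximalIdeal ((Spec (CommRingCat.of A)).presheaf.stalk (f (i x))))) ≃+*
        X.presheaf.stalk x) := by
  obtain ⟨φ, hφ⟩ := exists_fibre_iso A f i q hsq
  have hx : f.fiberι (closedPoint A) (φ.hom x) = i x := by
    rw [← Scheme.Hom.comp_apply, hφ]
  obtain ⟨e1⟩ := Groth.Agent.Helper5.CMFib.fibre_stalk_equiv f (closedPoint A) (φ.hom x) (i x) hx
  obtain ⟨e2⟩ := Groth.Agent.Helper2.StalkDict.nonempty_stalkEquiv φ.hom x
  exact ⟨e1.trans e2⟩

end ClosedFibre

section Apps

open Groth.Agent.Helper3.GorBC1

/-- Gorenstein local rings of the fibre over the closed point, from a Gorenstein model of it -/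
theorem gorLocal_fibre_of_closedFibre (A : Type u) [CommRing A] [IsLocalRing A] {P X : Scheme.{u}}
    (f : P ⟶ Spec (CommRingCat.of A)) (i : X ⟶ P)
    (q : X ⟶ Spec (CommRingCat.of (ResidueField A)))
    (hsq : IsPullback i q f (Spec.map (CommRingCat.ofHom (residue A))))
    (x : P) (hfx : f x = closedPoint A) :
    (LocCoh.IsGorensteinLocalRing ((f.fiber (f x)).presheaf.stalk (f.asFiber x)) ↔
      ∃ x' : X, i x' = x ∧ LocCoh.IsGorensteinLocalRing (X.presheaf.stalk x')) := by
  obtain ⟨φ, hφ⟩ := exists_fibre_iso A f i q hsq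
  obtain ⟨z, hz⟩ : ∃ z : f.fiber (closedPoint A), f.fiberι (closedPoint A) z = x := by
    have h := f.range_fiberι (closedPoint A)
    have hx : x ∈ Set.range (f.fiberι (closedPoint A)) := by
      rw [h]; exact hfx
    exact hx
  rw [← gor_fibre_stalk_iff f (closedPoint A) z x hz]
  obtain ⟨e⟩ := Groth.Agent.Helper2.StalkDict.nonempty_stalkEquiv φ.inv z
  have hi : i (φ.inv z) = x := by
    rw [← hφ, ← Scheme.Hom.comp_apply, Iso.inv_hom_id_assoc, hz]
  constructor
  · intro h
    exact ⟨φ.inv z, hi, gorLocal_of_ringEquiv e.symm h⟩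
  · rintro ⟨x', hx', h⟩
    have hinj : Function.Injective (f.fiberι (closedPoint A)) :=
      (f.fiberι (closedPoint A)).isEmbedding.injective
    have hx'' : φ.hom x' = z := by
      apply hinj
      rw [← Scheme.Hom.comp_apply, hφ, hx', hz]
    have : φ.inv z = x' := by
      rw [← hx'', ← Scheme.Hom.comp_apply, Iso.hom_inv_id]
      rfl
    rw [← this] at h
    exact gorLocal_of_ringEquiv e h

theorem s16185 {A : Type u} [CommRing A] [IsArtinianRing A] [IsLocalRing A]
    {P X : Scheme.{u}} (f : P ⟶ Spec (CommRingCat.of A)) [Flat f]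
    (i : X ⟶ P) (q : X ⟶ Spec (CommRingCat.of (IsLocalRing.ResidueField A)))
    (hsq : IsPullback i q f (Spec.map (CommRingCat.ofHom (IsLocalRing.residue A))))
    (hX : Dual3.IsGorenstein X) : Dual3.IsGorensteinMor f := by
  intro x
  refine ⟨Flat.stalkMap f x, ?_⟩
  have hfx : f x = closedPoint A := by
    apply PrimeSpectrum.ext
    haveI : (f x).asIdeal.IsMaximal := IsArtinianRing.isMaximal_of_isPrime _
    exact IsLocalRing.eq_maximalIdeal inferInstance
  obtain ⟨φ, hφ⟩ := exists_fibre_iso A f i q hsq
  obtain ⟨z, hz⟩ : ∃ z : f.fiber (closedPoint A), f.fiberι (closedPoint A) z = x := by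
    have h := f.range_fiberι (closedPoint A)
    have hx : x ∈ Set.range (f.fiberι (closedPoint A)) := by
      rw [h]; exact hfx
    exact hx
  have hi : i (φ.inv z) = x := by
    rw [← hφ, ← Scheme.Hom.comp_apply, Iso.inv_hom_id_assoc, hz]
  exact (gorLocal_fibre_of_closedFibre A f i q hsq x hfx).2 ⟨φ.inv z, hi, hX.2 _⟩

theorem s2225 (R : Type u) [CommRing R] [IsDomain R]
    [IsDiscreteValuationRing R] (C X : Scheme.{u})
    (f : C ⟶ Spec (CommRingCat.of (FractionRing R))) (p : X ⟶ Spec (CommRingCat.of R))
    (hX : Models.IsModel R X p C f)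
    (hreg : Models.IsRegularScheme X) (x : ↥(Models.specialFibre R X p)) :
    LocCoh.IsGorensteinLocalRing ((Models.specialFibre R X p).presheaf.stalk x) := by
  obtain ⟨hfl, hft, -, -⟩ := hX
  haveI := hfl
  haveI := hft
  haveI : IsLocallyNoetherian X := LocallyOfFiniteType.isLocallyNoetherian p
  have hG : Dual3.IsGorenstein X :=
    ⟨inferInstance, fun y => by haveI := hreg y; exact Groth.Agent.S0342.result _⟩
  have hmor := (Groth.Agent.Helper3.GorSch1.s3624 X _ p hG).1
  have hsq : IsPullback (pullback.fst p (Spec.map (CommRingCat.ofHom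
      (algebraMap R (IsLocalRing.ResidueField R))))) (pullback.snd _ _) p
      (Spec.map (CommRingCat.ofHom (residue R))) := IsPullback.of_hasPullback _ _
  set i := pullback.fst p (Spec.map (CommRingCat.ofHom
      (algebraMap R (IsLocalRing.ResidueField R)))) with hi
  have hfx : p (i x) = closedPoint R := by
    have h1 : (i ≫ p) x = (pullback.snd p (Spec.map (CommRingCat.ofHom
      (algebraMap R (IsLocalRing.ResidueField R)))) ≫ Spec.map (CommRingCat.ofHom (residue R))) x := by
      rw [hsq.w]
    rw [Scheme.Hom.comp_apply, Scheme.Hom.comp_apply] at h1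
    rw [h1]
    apply PrimeSpectrum.ext
    show Ideal.comap (residue R) _ = maximalIdeal R
    rw [IsLocalRing.eq_maximalIdeal (Ideal.comap_isMaximal_of_surjective (residue R)
      IsLocalRing.residue_surjective)]
  obtain ⟨x', hx', h⟩ := (gorLocal_fibre_of_closedFibre R p i _ hsq (i x) hfx).1 (hmor (i x)).2
  have hinj : Function.Injective i := by
    haveI : IsClosedImmersion (Spec.map (CommRingCat.ofHom
        (algebraMap R (IsLocalRing.ResidueField R)))) :=
      IsClosedImmersion.spec_of_surjective _ IsLocalRing.residue_surjective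
    haveI : IsClosedImmersion i := MorphismProperty.pullback_fst _ _ inferInstance
    exact i.isEmbedding.injective
  rw [hinj hx'] at h
  exact h

end Apps

end Groth.Agent.Helper3.GorSch4
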