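import Mathlib
set_option linter.style.haveILetI false
set_option linter.unusedSectionVars false
set_option linter.unusedVariables false

namespace Groth.Agent.Helper3.GrUFD
open Polynomial DirectSum

universe u v

section
variable {K : Type u} [Field K] {R : Type v} [CommRing R] [IsDomain R] [Algebra K R]
  (𝒜 : ℕ → Submodule K R) [GradedAlgebra 𝒜] (s : R) (hs : s ∈ 𝒜 1) (hs0 : s ≠ 0)

local notation "B" => HomogeneousLocalization.Away 𝒜 s
local notation "L" => Localization.Away s

/-- the evaluation map `B[X] → R[1/s]`, `X ↦ s`. -/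
noncomputable def phi : (HomogeneousLocalization.Away 𝒜 s)[X] →+* Localization.Away s :=
  Polynomial.eval₂RingHom (algebraMap (HomogeneousLocalization.Away 𝒜 s) (Localization.Away s))
    (algebraMap R (Localization.Away s) s)

include hs hs0 in
theorem phi_injective : Function.Injective (phi 𝒜 s) := by
  classical
  rw [injective_iff_map_eq_zero]
  intro p hp
  have hinj : Function.Injective (algebraMap R (Localization.Away s)) :=
    IsLocalization.injective _ (powers_le_nonZeroDivisors_of_noZeroDivisors hs0)
  -- choose numerators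
  choose n a ha hna using fun i : ℕ => HomogeneousLocalization.Away.mk_surjective 𝒜 hs (p.coeff i)
  set N := p.support.sup n with hN
  have hle : ∀ i ∈ p.support, n i ≤ N := fun i hi => Finset.le_sup hi
  -- the elements x_i
  let x : ℕ → R := fun i => a i * s ^ (N - n i + i)
  have hx : ∀ i ∈ p.support, x i ∈ 𝒜 (N + i) := by
    intro i hi
    have h1 : a i ∈ 𝒜 (n i) := by
      have := ha i
      rwa [smul_eq_mul, mul_one] at this
    have h2 : s ^ (N - n i + i) ∈ 𝒜 (N - n i + i) := by
      have := SetLike.pow_mem_graded (N - n i + i) hs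
      rwa [smul_eq_mul, mul_one] at this
    have h3 := SetLike.mul_mem_graded h1 h2
    have h4 : n i + (N - n i + i) = N + i := by have := hle i hi; omega
    rwa [h4] at h3
  -- key identity
  have hval : ∀ i, algebraMap R (Localization.Away s) s ^ n i *
      algebraMap (HomogeneousLocalization.Away 𝒜 s) (Localization.Away s) (p.coeff i) =
      algebraMap R (Localization.Away s) (a i) := by
    intro i
    rw [HomogeneousLocalization.algebraMap_apply, ← hna i, HomogeneousLocalization.Away.val_mk,
      Localization.mk_eq_mk', ← map_pow]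
    exact IsLocalization.mk'_spec' (Localization.Away s) (a i)
      (⟨s ^ n i, n i, rfl⟩ : Submonoid.powers s)
  have hsum : algebraMap R (Localization.Away s) (∑ i ∈ p.support, x i) = 0 := by
    have h1 : algebraMap R (Localization.Away s) s ^ N * phi 𝒜 s p = 0 := by rw [hp, mul_zero]
    rw [phi, Polynomial.coe_eval₂RingHom, Polynomial.eval₂_eq_sum, Polynomial.sum_def,
      Finset.mul_sum] at h1
    rw [map_sum, ← h1]
    refine Finset.sum_congr rfl fun i hi => ?_
    have h2 : N = (N - n i) + n i := by have := hle i hi; omega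
    simp only [x]
    rw [map_mul, map_pow, ← hval i]
    conv_rhs => rw [h2]
    ring
  have hsum0 : ∑ i ∈ p.support, x i = 0 := hinj (by rw [hsum, map_zero])
  have hx0 : ∀ j ∈ p.support, x j = 0 := by
    intro j hj
    have h1 : (decompose 𝒜 (∑ i ∈ p.support, x i) (N + j) : R) = x j := by
      rw [DirectSum.decompose_sum, DFinsupp.finset_sum_apply, AddSubmonoidClass.coe_finset_sum,
        Finset.sum_eq_single j]
      · exact DirectSum.decompose_of_mem_same 𝒜 (hx j hj)
      · intro i hi hij
        exact DirectSum.decompose_of_mem_ne 𝒜 (hx i hi) (by omega)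
      · intro h; exact absurd hj h
    rw [hsum0, DirectSum.decompose_zero] at h1
    exact h1.symm
  apply Polynomial.ext
  intro j
  rw [Polynomial.coeff_zero]
  by_contra hj
  have hjs : j ∈ p.support := Polynomial.mem_support_iff.mpr hj
  have h1 := hx0 j hjs
  simp only [x] at h1
  have h2 : a j = 0 := by
    rcases mul_eq_zero.mp h1 with h | h
    · exact h
    · exact absurd h (pow_ne_zero _ hs0)
  apply hj
  rw [← hna j]
  apply HomogeneousLocalization.val_injective
  rw [HomogeneousLocalization.Away.val_mk, HomogeneousLocalization.val_zero]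
  simp only [h2, Localization.mk_zero]

omit [IsDomain R] in
include hs in
theorem algebraMap_mem_range (r : R) :
    algebraMap R (Localization.Away s) r ∈ (phi 𝒜 s).range := by
  classical
  rw [← DirectSum.sum_support_decompose 𝒜 r, map_sum]
  refine Subring.sum_mem _ fun k _ => ?_
  have hk : (decompose 𝒜 r k : R) ∈ 𝒜 (k • 1) := by
    rw [smul_eq_mul, mul_one]; exact (decompose 𝒜 r k).2
  refine ⟨Polynomial.C (HomogeneousLocalization.Away.mk 𝒜 hs k _ hk) * Polynomial.X ^ k, ?_⟩
  rw [phi, Polynomial.coe_eval₂RingHom, Polynomial.eval₂_mul, Polynomial.eval₂_C,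
    Polynomial.eval₂_pow, Polynomial.eval₂_X, HomogeneousLocalization.algebraMap_apply,
    HomogeneousLocalization.Away.val_mk, Localization.mk_eq_mk', ← map_pow, mul_comm]
  exact IsLocalization.mk'_spec' (Localization.Away s) _
      (⟨s ^ k, k, rfl⟩ : Submonoid.powers s)

include hs hs0 in
theorem exists_equiv :
    Nonempty (Localization.Away (Polynomial.X : (HomogeneousLocalization.Away 𝒜 s)[X]) ≃+*
      Localization.Away s) := by
  have hX : phi 𝒜 s Polynomial.X = algebraMap R (Localization.Away s) s := by
    rw [phi, Polynomial.coe_eval₂RingHom, Polynomial.eval₂_X]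
  have hunit : IsUnit (phi 𝒜 s Polynomial.X) := by
    rw [hX]; exact IsLocalization.Away.algebraMap_isUnit s
  set ψ := IsLocalization.Away.lift (S := Localization.Away
    (Polynomial.X : (HomogeneousLocalization.Away 𝒜 s)[X])) Polynomial.X hunit with hψ
  have hψa : ∀ q, ψ (algebraMap _ _ q) = phi 𝒜 s q := fun q =>
    IsLocalization.Away.lift_eq _ hunit q
  refine ⟨RingEquiv.ofBijective ψ ⟨?_, ?_⟩⟩
  · rw [hψ, IsLocalization.Away.lift, IsLocalization.lift_injective_iff]
    intro p q
    constructor
    · intro h
      rw [← hψa, ← hψa, h]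
    · intro h
      rw [phi_injective 𝒜 s hs hs0 h]
  · intro z
    obtain ⟨r, ⟨_, k, rfl⟩, rfl⟩ := IsLocalization.exists_mk'_eq (Submonoid.powers s) z
    obtain ⟨w, hw⟩ := algebraMap_mem_range 𝒜 s hs r
    set t := IsLocalization.Away.invSelf (S := Localization.Away
      (Polynomial.X : (HomogeneousLocalization.Away 𝒜 s)[X]))
      (Polynomial.X : (HomogeneousLocalization.Away 𝒜 s)[X]) with ht
    have h0 : algebraMap (HomogeneousLocalization.Away 𝒜 s)[X] (Localization.Away
        (Polynomial.X : (HomogeneousLocalization.Away 𝒜 s)[X])) Polynomial.X * t = 1 :=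
      IsLocalization.Away.mul_invSelf _
    have h1 : ψ t * algebraMap R (Localization.Away s) s = 1 := by
      have := congrArg ψ h0
      rw [map_mul, hψa, hX, map_one] at this
      rw [mul_comm]; exact this
    refine ⟨algebraMap _ _ w * t ^ k, ?_⟩
    rw [map_mul, hψa, hw, map_pow, IsLocalization.eq_mk'_iff_mul_eq]
    simp only [map_pow]
    rw [mul_assoc, ← mul_pow, h1, one_pow, mul_one]

end

theorem main (K : Type u) [Field K] (R : Type v)
    [CommRing R] [IsDomain R] [IsNoetherianRing R] [Algebra K R] (𝒜 : ℕ → Submodule K R)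
    [GradedAlgebra 𝒜]
    (s : R) (hs : s ∈ 𝒜 1) (hp : Prime s)
    (h : UniqueFactorizationMonoid (HomogeneousLocalization.Away 𝒜 s)) :
    UniqueFactorizationMonoid R := by
  have hs0 : s ≠ 0 := hp.ne_zero
  haveI : IsDomain (Localization.Away s) :=
    IsLocalization.isDomain_localization (powers_le_nonZeroDivisors_of_noZeroDivisors hs0)
  haveI : IsDomain (HomogeneousLocalization.Away 𝒜 s) :=
    Function.Injective.isDomain
      (algebraMap (HomogeneousLocalization.Away 𝒜 s) (Localization.Away s))
      (fun a b hab => HomogeneousLocalization.val_injective _ hab)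
  obtain ⟨e⟩ := exists_equiv 𝒜 s hs hs0
  have h1 : UniqueFactorizationMonoid (Localization.Away
      (Polynomial.X : (HomogeneousLocalization.Away 𝒜 s)[X])) := inferInstance
  have h2 : UniqueFactorizationMonoid (Localization.Away s) :=
    MulEquiv.uniqueFactorizationMonoid e.toMulEquiv h1
  exact (UniqueFactorizationMonoid.iff_localizationAway_of_prime hp).mpr h2

end Groth.Agent.Helper3.GrUFD
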