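import Mathlib

set_option linter.style.haveILetI false
set_option linter.unusedSectionVars false
set_option linter.unusedVariables false

namespace Groth.Agent.Helper3.GrUnit

open DirectSum

universe u

variable {R S : Type u} [CommRing R] [CommRing S] [Algebra R S] (𝒜 : ℤ → Submodule R S)
  [GradedAlgebra 𝒜]

/-- an element all of whose components vanish is zero -/
theorem eq_of_decompose_eq (x y : S) (h : ∀ n, (decompose 𝒜 x n : S) = decompose 𝒜 y n) :
    x = y := by
  apply (decompose 𝒜).injective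
  ext n
  exact h n

/-- the inverse of a homogeneous unit is homogeneous -/
theorem inv_mem (f g : S) (d : ℤ) (hf : f ∈ 𝒜 d) (hfg : f * g = 1) : g ∈ 𝒜 (-d) := by
  have hcomp : ∀ k, k ≠ -d → (decompose 𝒜 g k : S) = 0 := by
    intro k hk
    have h1 : (decompose 𝒜 (f * g) (d + k) : S) = f * decompose 𝒜 g k :=
      coe_decompose_mul_add_of_left_mem 𝒜 hf
    rw [hfg, decompose_of_mem_ne 𝒜 (SetLike.GradedOne.one_mem : (1 : S) ∈ 𝒜 0)
      (by intro h; apply hk; omega)] at h1
    have : g * (f * decompose 𝒜 g k) = decompose 𝒜 g k := by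
      rw [← mul_assoc, mul_comm g f, hfg, one_mul]
    rw [← this, ← h1, mul_zero]
  have : g = (decompose 𝒜 g (-d) : S) := by
    apply eq_of_decompose_eq 𝒜
    intro n
    by_cases hn : n = -d
    · subst hn
      rw [decompose_of_mem_same 𝒜 (Submodule.coe_mem _)]
    · rw [hcomp n hn, decompose_of_mem_ne 𝒜 (Submodule.coe_mem _) (Ne.symm hn)]
  rw [this]
  exact Submodule.coe_mem _

variable (f g : S) (D : ℕ) (hD : 0 < D) (hf : f ∈ 𝒜 (D : ℤ)) (hfg : f * g = 1)

/-- a unit of degree `-(n * D)` -/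
def w (n : ℤ) : S := if 0 ≤ n then g ^ n.toNat else f ^ (-n).toNat

include hf hfg in
theorem w_mem (n : ℤ) : w f g n ∈ 𝒜 (-(n * D)) := by
  unfold w
  split_ifs with h
  · have := SetLike.pow_mem_graded n.toNat (inv_mem 𝒜 f g D hf hfg)
    convert this using 2
    simp only [smul_eq_mul, nsmul_eq_mul]
    rw [Int.toNat_of_nonneg h]
    ring
  · have := SetLike.pow_mem_graded (-n).toNat hf
    convert this using 2
    simp only [smul_eq_mul, nsmul_eq_mul]
    rw [Int.toNat_of_nonneg (by omega)]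
    ring

include hfg in
theorem w_isUnit (n : ℤ) : IsUnit (w f g n) := by
  unfold w
  split_ifs with h
  · exact IsUnit.pow _ (IsUnit.of_mul_eq_one _ (by rw [mul_comm]; exact hfg))
  · exact IsUnit.pow _ (IsUnit.of_mul_eq_one _ hfg)

/-- the degree zero test element -/
def t (n : ℤ) (x : S) : S := x ^ D * w f g n

include hf hfg in
theorem t_mem (n : ℤ) (x : S) (hx : x ∈ 𝒜 n) : t f g D n x ∈ 𝒜 0 := by
  unfold t
  have h1 := SetLike.pow_mem_graded D hx
  have h2 := w_mem 𝒜 f g D hf hfg n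
  have := SetLike.GradedMul.mul_mem h1 h2
  convert this using 2
  simp only [smul_eq_mul, nsmul_eq_mul]
  ring

include hD hfg in
theorem t_mem_iff (n : ℤ) (x : S) (p : Ideal S) [p.IsPrime] : t f g D n x ∈ p ↔ x ∈ p := by
  unfold t
  constructor
  · intro h
    have h1 : x ^ D ∈ p := by
      obtain ⟨u, hu⟩ := w_isUnit f g hfg n
      have := p.mul_mem_right (↑u⁻¹ : S) h
      rwa [mul_assoc, ← hu, Units.mul_inv, mul_one] at this
    exact Ideal.IsPrime.mem_of_pow_mem inferInstance D h1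
  · intro h
    exact p.mul_mem_right _ (p.pow_mem_of_mem h D hD)

/-- membership in a homogeneous ideal is tested on components -/
theorem mem_iff_forall (p : Ideal S) (hp : p.IsHomogeneous 𝒜) (x : S) :
    x ∈ p ↔ ∀ n, (decompose 𝒜 x n : S) ∈ p := by
  classical
  constructor
  · intro h n
    exact hp n h
  · intro h
    rw [← sum_support_decompose 𝒜 x]
    exact p.sum_mem (fun n _ => h n)

abbrev S₀ : Subring S := SetLike.GradeZero.subring 𝒜

/-- contraction of extension for the degree zero subring -/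
theorem comap_map_eq (q : Ideal (S₀ 𝒜)) :
    (q.map (S₀ 𝒜).subtype).comap (S₀ 𝒜).subtype = q := by
  apply le_antisymm _ Ideal.le_comap_map
  intro a ha
  rw [Ideal.mem_comap] at ha
  have key : ∀ y ∈ q.map (S₀ 𝒜).subtype, ∀ s : S,
      ∃ h : (decompose 𝒜 (s * y) 0 : S) ∈ 𝒜 0, (⟨_, h⟩ : S₀ 𝒜) ∈ q := by
    intro y hy
    unfold Ideal.map at hy
    induction hy using Submodule.span_induction with
    | mem y hy =>
      obtain ⟨b, hb, rfl⟩ := hy
      intro s
      refine ⟨Submodule.coe_mem _, ?_⟩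
      have hb0 : ((S₀ 𝒜).subtype b : S) ∈ 𝒜 0 := b.2
      have h1 : (decompose 𝒜 (s * (S₀ 𝒜).subtype b) 0 : S) =
          (S₀ 𝒜).subtype b * decompose 𝒜 s 0 := by
        rw [mul_comm]
        have := coe_decompose_mul_add_of_left_mem 𝒜 (i := 0) (j := 0) (b := s) hb0
        rwa [add_zero] at this
      have h2 : (⟨(decompose 𝒜 (s * (S₀ 𝒜).subtype b) 0 : S), Submodule.coe_mem _⟩ : S₀ 𝒜) =
          b * ⟨(decompose 𝒜 s 0 : S), Submodule.coe_mem _⟩ := by
        apply Subtype.ext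
        exact h1
      rw [h2]
      exact q.mul_mem_right _ hb
    | zero =>
      intro s
      refine ⟨Submodule.coe_mem _, ?_⟩
      have : (⟨(decompose 𝒜 (s * 0) 0 : S), Submodule.coe_mem _⟩ : S₀ 𝒜) = 0 := by
        apply Subtype.ext
        change (decompose 𝒜 (s * 0) 0 : S) = 0
        rw [mul_zero, decompose_zero, DirectSum.zero_apply, ZeroMemClass.coe_zero]
      rw [this]
      exact q.zero_mem
    | add y z _ _ hy hz =>
      intro s
      refine ⟨Submodule.coe_mem _, ?_⟩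
      obtain ⟨h1, h1'⟩ := hy s
      obtain ⟨h2, h2'⟩ := hz s
      have : (⟨(decompose 𝒜 (s * (y + z)) 0 : S), Submodule.coe_mem _⟩ : S₀ 𝒜) =
          ⟨_, h1⟩ + ⟨_, h2⟩ := by
        apply Subtype.ext
        change (decompose 𝒜 (s * (y + z)) 0 : S) =
          (decompose 𝒜 (s * y) 0 : S) + (decompose 𝒜 (s * z) 0 : S)
        rw [mul_add, decompose_add, DirectSum.add_apply, Submodule.coe_add]
      rw [this]
      exact q.add_mem h1' h2'
    | smul c y _ hy =>
      intro s
      have := hy (s * c)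
      rwa [mul_assoc] at this
  obtain ⟨h, hq⟩ := key _ ha 1
  convert hq using 1
  apply Subtype.ext
  simp only [one_mul]
  exact (decompose_of_mem_same 𝒜 a.2).symm

variable (hu : IsUnit f)

/-- the map of the statement -/
def φ (p : {p : PrimeSpectrum S // p.asIdeal.IsHomogeneous 𝒜}) : PrimeSpectrum (S₀ 𝒜) :=
  PrimeSpectrum.comap (S₀ 𝒜).subtype p.1

include hD hf hfg in
theorem φ_injective : Function.Injective (φ 𝒜) := by
  intro p p' h
  apply Subtype.ext
  apply PrimeSpectrum.ext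
  have key : ∀ (p p' : {p : PrimeSpectrum S // p.asIdeal.IsHomogeneous 𝒜}),
      φ 𝒜 p = φ 𝒜 p' → p.1.asIdeal ≤ p'.1.asIdeal := by
    intro p p' h x hx
    rw [mem_iff_forall 𝒜 _ p'.2]
    intro n
    have hxn : (decompose 𝒜 x n : S) ∈ p.1.asIdeal := p.2 n hx
    rw [← t_mem_iff f g D hD hfg n] at hxn ⊢
    have h0 := t_mem 𝒜 f g D hf hfg n _ (Submodule.coe_mem (decompose 𝒜 x n))
    have h1 : (⟨_, h0⟩ : S₀ 𝒜) ∈ (φ 𝒜 p).asIdeal := hxn
    rw [h] at h1
    exact h1
  exact le_antisymm (key p p' h) (key p' p h.symm)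

theorem φ_surjective : Function.Surjective (φ 𝒜) := by
  intro q
  obtain ⟨p, hp, hpq⟩ := (Ideal.comap_map_eq_self_iff_of_isPrime q.asIdeal).mp
    (comap_map_eq 𝒜 q.asIdeal)
  refine ⟨⟨⟨(p.homogeneousCore 𝒜).toIdeal, hp.homogeneousCore⟩,
    (p.homogeneousCore 𝒜).isHomogeneous⟩, ?_⟩
  apply PrimeSpectrum.ext
  change ((p.homogeneousCore 𝒜).toIdeal).comap (S₀ 𝒜).subtype = q.asIdeal
  rw [← hpq]
  ext a
  simp only [Ideal.mem_comap]
  constructor
  · intro h
    exact Ideal.toIdeal_homogeneousCore_le 𝒜 p h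
  · intro h
    exact Ideal.mem_homogeneousCore_of_homogeneous_of_mem ⟨0, a.2⟩ h

include hD hf hfg in
theorem image_basic (x : S) :
    φ 𝒜 '' {p | x ∉ p.1.asIdeal} =
      ⋃ n : ℤ, {q | (⟨t f g D n (decompose 𝒜 x n),
        t_mem 𝒜 f g D hf hfg n _ (Submodule.coe_mem _)⟩ : S₀ 𝒜) ∉ q.asIdeal} := by
  ext q
  simp only [Set.mem_image, Set.mem_setOf_eq, Set.mem_iUnion]
  constructor
  · rintro ⟨p, hp, rfl⟩
    rw [mem_iff_forall 𝒜 _ p.2] at hp
    push Not at hp
    obtain ⟨n, hn⟩ := hp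
    refine ⟨n, ?_⟩
    intro hmem
    apply hn
    have : t f g D n (decompose 𝒜 x n) ∈ p.1.asIdeal := hmem
    rwa [t_mem_iff f g D hD hfg n] at this
  · rintro ⟨n, hn⟩
    obtain ⟨p, rfl⟩ := φ_surjective 𝒜 q
    refine ⟨p, ?_, rfl⟩
    intro hx
    apply hn
    have hxn : (decompose 𝒜 x n : S) ∈ p.1.asIdeal := p.2 n hx
    rw [← t_mem_iff f g D hD hfg n] at hxn
    exact hxn

include hD hf hfg in
theorem main : IsHomeomorph (φ 𝒜) := by
  refine ⟨(PrimeSpectrum.continuous_comap _).comp continuous_subtype_val, ?_,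
    φ_injective 𝒜 f g D hD hf hfg, φ_surjective 𝒜⟩
  intro U hU
  obtain ⟨V, hV, rfl⟩ := isOpen_induced_iff.mp hU
  rw [PrimeSpectrum.isOpen_iff] at hV
  obtain ⟨s, hs⟩ := hV
  have hVeq : V = ⋃ x ∈ s, {p : PrimeSpectrum S | x ∉ p.asIdeal} := by
    rw [← compl_compl V, hs]
    ext p
    simp only [Set.mem_compl_iff, PrimeSpectrum.mem_zeroLocus, Set.mem_iUnion, Set.mem_setOf_eq,
      exists_prop, Set.not_subset, SetLike.mem_coe]
  have : Subtype.val ⁻¹' V = ⋃ x ∈ s,
      {p : {p : PrimeSpectrum S // p.asIdeal.IsHomogeneous 𝒜} | x ∉ p.1.asIdeal} := by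
    rw [hVeq]
    ext p
    simp
  rw [this, Set.image_iUnion₂]
  refine isOpen_iUnion fun x => isOpen_iUnion fun _ => ?_
  rw [image_basic 𝒜 f g D hD hf hfg x]
  refine isOpen_iUnion fun n => ?_
  exact (PrimeSpectrum.basicOpen _).isOpen

end Groth.Agent.Helper3.GrUnit
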