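import Mathlib
import Groth.Agent.Helper3.GrpGeomRed
import Groth.Agent.Helper2.RegSmooth

set_option linter.style.haveILetI false
set_option linter.unusedSectionVars false
set_option linter.unusedVariables false
set_option linter.style.haveILetI false
set_option linter.unusedSectionVars false
set_option linter.unusedVariables false

open AlgebraicGeometry CategoryTheory CategoryTheory.Limits TensorProduct Function
open MonoidalCategory CartesianMonoidalCategory MonObj GrpObj

namespace Groth.Agent.Helper3.GrpRegSm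

universe u

open Groth.Agent.Helper3.GeomRedPt3 Groth.Agent.Helper3.GeomRedSm Groth.Agent.Helper3.GrpGeomRed

theorem isGeometricallyReduced_self (k : Type u) [Field k] : Algebra.IsGeometricallyReduced k k := by
  rw [Algebra.isGeometricallyReduced_field_iff]
  exact isReduced_of_injective (Algebra.TensorProduct.rid k k (AlgebraicClosure k)).toRingEquiv.toRingHom
    (Algebra.TensorProduct.rid k k (AlgebraicClosure k)).injective

section

variable (k : Type u) [Field k] {X : Scheme.{u}} (f : X ⟶ Spec (CommRingCat.of k))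

/-- a rational point with regular local ring is a smooth point -/
theorem mem_smoothLocus_of_section [LocallyOfFiniteType f] (σ : Spec (CommRingCat.of k) ⟶ X)
    (hσ : σ ≫ f = 𝟙 _) (pt : Spec (CommRingCat.of k))
    (hreg : IsRegularLocalRing (X.presheaf.stalk (σ pt))) : σ pt ∈ f.smoothLocus := by
  haveI : LocallyOfFinitePresentation f := inferInstance
  obtain ⟨_, ⟨V, hV, rfl⟩, heV, -⟩ :=
    X.isBasis_affineOpens.exists_subset_of_mem_open (Set.mem_univ (σ pt)) isOpen_univ
  have hV' : IsAffineOpen (V : X.Opens) := hV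
  letI := algSec k f V
  haveI : IsOpenImmersion hV'.fromSpec := hV'.isOpenImmersion_fromSpec
  haveI : LocallyOfFiniteType (Spec.map (CommRingCat.ofHom (algebraMap k Γ(X, V)))) := by
    rw [spec_map_eq k f V hV']; infer_instance
  have hft : (CommRingCat.ofHom (algebraMap k Γ(X, V))).hom.FiniteType :=
    (HasRingHomProperty.Spec_iff (P := @LocallyOfFiniteType)).mp inferInstance
  haveI : Algebra.FiniteType k Γ(X, V) := RingHom.finiteType_algebraMap.mp hft
  have htop : (⊤ : (Spec (CommRingCat.of k)).Opens) ≤ σ ⁻¹ᵁ V := by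
    intro p _
    have : p = pt := Subsingleton.elim _ _
    subst this
    exact heV
  let s₀ : Γ(X, V) →+* k := ((σ.appLE V ⊤ htop) ≫ (Scheme.ΓSpecIso (CommRingCat.of k)).hom).hom
  have hs₀ : s₀.comp (algebraMap k Γ(X, V)) = RingHom.id k := by
    have h0 : ∀ (g : Spec (CommRingCat.of k) ⟶ Spec (CommRingCat.of k)) (hg : g = 𝟙 _)
        (e : (⊤ : (Spec (CommRingCat.of k)).Opens) ≤ g ⁻¹ᵁ ⊤), g.appLE ⊤ ⊤ e = 𝟙 _ := by
      rintro g rfl e
      simp [Scheme.Hom.appLE]
    have h1 : f.appLE ⊤ V le_top ≫ σ.appLE V ⊤ htop = 𝟙 _ := by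
      rw [Scheme.Hom.appLE_comp_appLE]
      exact h0 _ hσ _
    have h2 : (Scheme.ΓSpecIso (CommRingCat.of k)).inv ≫ f.appLE ⊤ V le_top ≫
        σ.appLE V ⊤ htop ≫ (Scheme.ΓSpecIso (CommRingCat.of k)).hom = 𝟙 _ := by
      rw [reassoc_of% h1, Iso.inv_hom_id]
    ext a
    exact congr(($h2).hom a)
  let s : Γ(X, V) →ₐ[k] k := { s₀ with commutes' := fun a => congr($hs₀ a) }
  let q : Ideal Γ(X, V) := (hV'.primeIdealOf ⟨σ pt, heV⟩).asIdeal
  have hq : q = (⊥ : Ideal k).comap s.toRingHom := by
    have h3 := IsAffineOpen.comap_primeIdealOf_appLE (f := σ) (x := pt) V hV' ⊤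
      (isAffineOpen_top _) htop trivial
    ext x
    have h4 : x ∈ q ↔ (σ.appLE V ⊤ htop).hom x ∈
        ((isAffineOpen_top (Spec (CommRingCat.of k))).primeIdealOf ⟨pt, trivial⟩).asIdeal := by
      show x ∈ (hV'.primeIdealOf ⟨σ pt, heV⟩).asIdeal ↔ _
      rw [← h3]; rfl
    rw [h4]
    let e : Γ(Spec (CommRingCat.of k), ⊤) ≃+* k :=
      (Scheme.ΓSpecIso (CommRingCat.of k)).commRingCatIsoToRingEquiv
    have hfield : IsField Γ(Spec (CommRingCat.of k), ⊤) :=
      MulEquiv.isField (Field.toIsField k) e.toMulEquiv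
    have hP : ∀ y, y ∈ ((isAffineOpen_top (Spec (CommRingCat.of k))).primeIdealOf
        ⟨pt, trivial⟩).asIdeal ↔ y = 0 := fun y =>
      ⟨fun hy => by
        by_contra hne
        obtain ⟨z, hz⟩ := hfield.mul_inv_cancel hne
        exact ((isAffineOpen_top (Spec (CommRingCat.of k))).primeIdealOf
          ⟨pt, trivial⟩).isPrime.ne_top (Ideal.eq_top_of_isUnit_mem _ hy
            (IsUnit.of_mul_eq_one _ hz)), fun h => h ▸ Ideal.zero_mem _⟩
    rw [hP, Ideal.mem_comap, Ideal.mem_bot]
    show _ ↔ e ((σ.appLE V ⊤ htop).hom x) = 0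
    exact (map_eq_zero_iff _ e.injective).symm
  haveI : Algebra.IsGeometricallyReduced k q.ResidueField := by
    haveI := isGeometricallyReduced_self k
    haveI : Algebra.IsGeometricallyReduced k (⊥ : Ideal k).ResidueField :=
      .of_injective ((⊥ : Ideal k).algEquivResidueFieldOfField.symm :
        (⊥ : Ideal k).ResidueField →ₐ[k] k) (AlgEquiv.injective _)
    exact .of_injective (Ideal.ResidueField.mapₐ q ⊥ s hq) (RingHom.injective _)
  letI algV : Algebra Γ(X, V) (X.presheaf.stalk (σ pt)) :=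
    X.presheaf.algebra_section_stalk ⟨σ pt, heV⟩
  haveI hloc : IsLocalization.AtPrime (X.presheaf.stalk (σ pt)) q :=
    hV'.isLocalization_stalk ⟨σ pt, heV⟩
  have hreg' : IsRegularLocalRing (Localization.AtPrime q) :=
    .of_ringEquiv (IsLocalization.algEquiv q.primeCompl (X.presheaf.stalk (σ pt))
      (Localization.AtPrime q)).toRingEquiv
  rw [mem_smoothLocus_iff k f V hV' (σ pt) heV]
  exact (Groth.Agent.Helper2.RegSmooth.isSmoothAt_iff_isRegularLocalRing k Γ(X, V) q).mpr hreg'

end

theorem main (k : Type u) [Field k]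
    (G : Over (Spec (CommRingCat.of k))) [GrpObj G] [LocallyOfFiniteType G.hom]
    (e : G.left) (he : e ∈ Set.range (η[G]).left.base)
    (hreg : IsRegularLocalRing (G.left.presheaf.stalk e)) : Smooth G.hom := by
  obtain ⟨pt, rfl⟩ := he
  letI : GrpObj (Over.mk G.hom) := ‹GrpObj G›
  apply smooth_of_nonempty_smoothLocus G.hom
  exact ⟨_, mem_smoothLocus_of_section k G.hom η[G].left (Over.w η[G]) pt hreg⟩

end Groth.Agent.Helper3.GrpRegSm
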