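import Mathlib
import Groth.Agent.S7510
import Groth.Agent.Helper2.Grpd19
import Groth.Agent.Helper5.CMAff7
import Groth.Agent.Helper5.SyntLC1
import Groth.Agent.Helper5.StalkDict
import Groth.Agent.Helper3.CMSlice3

set_option autoImplicit false
set_option linter.style.haveILetI false
set_option linter.unusedSectionVars false
set_option linter.unusedVariables false
set_option linter.deprecated false
set_option linter.style.haveILetI false
set_option linter.unusedSectionVars false
set_option linter.unusedVariables false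
universe u
open CategoryTheory CategoryTheory.Limits AlgebraicGeometry TopologicalSpace Topology

namespace Groth.Agent.Helper3.GrpdCM

/-- the two formulations of "Cohen–Macaulay at a point" agree -/
theorem isCMAt_iff {X Y : Scheme.{u}} (f : X ⟶ Y) (x : X) :
    Grpd.IsCMAt f x ↔ MoreMor.IsCMAt f x := by
  unfold Grpd.IsCMAt MoreMor.IsCMAt
  obtain ⟨e⟩ := Groth.Agent.Helper5.CMFib.fibre_stalk_equiv' f x
  exact and_congr Iff.rfl ⟨fun h => Groth.Agent.Lead.CMCl.cm_of_ringEquiv e (h := h),
    fun h => Groth.Agent.Lead.CMCl.cm_of_ringEquiv e.symm (h := h)⟩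

/-- every nonempty fibre of a flat morphism locally of finite type contains a point at which the
morphism is Cohen–Macaulay -/
theorem exists_isCMAt_in_fibre {X Y : Scheme.{u}} (f : X ⟶ Y) [Flat f] [LocallyOfFiniteType f]
    (x0 : X) : ∃ x, f x = f x0 ∧ MoreMor.IsCMAt f x := by
  set y := f x0 with hy
  let F := f.fiber y
  haveI : LocallyOfFiniteType (f.fiberToSpecResidueField y) :=
    inferInstanceAs (LocallyOfFiniteType (pullback.snd f (Y.fromSpecResidueField y)))
  haveI : IsLocallyNoetherian F :=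
    LocallyOfFiniteType.isLocallyNoetherian (f.fiberToSpecResidueField y)
  let z0 : F := f.asFiber x0
  obtain ⟨p, hp, -⟩ := Ideal.exists_minimalPrimes_le
    (bot_le : (⊥ : Ideal (F.presheaf.stalk z0)) ≤ IsLocalRing.maximalIdeal _)
  let p' : Spec (F.presheaf.stalk z0) := ⟨p, hp.1.1⟩
  let z : F := F.fromSpecStalk z0 p'
  have hco := Groth.Agent.Helper5.StalkDict.coheight_of_mem_minimalPrimes z0 p' hp
  have hdim : ringKrullDim (F.presheaf.stalk z) = 0 := by
    rw [ringKrullDim_stalk_eq_coheight, hco]; rfl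
  refine ⟨f.fiberι y z, ?_, Flat.stalkMap f _, ?_⟩
  · have : f.fiberι y z ∈ f ⁻¹' {y} := by
      rw [← f.range_fiberι y]; exact ⟨z, rfl⟩
    exact this
  · obtain ⟨e1⟩ := Groth.Agent.Helper5.CMFib.fibre_stalk_equiv f y z _ rfl
    obtain ⟨e2⟩ := Groth.Agent.Helper5.CMFib.fibre_stalk_equiv' f (f.fiberι y z)
    have h0 := Groth.Agent.Helper5.CMAff.cm_of_dim_zero _ hdim
    exact Groth.Agent.Lead.CMCl.cm_of_ringEquiv (e1.symm.trans e2) (h := h0)

/-- flat and locally of finite presentation -/
abbrev Qfl : MorphismProperty Scheme.{u} := @Flat ⊓ @LocallyOfFinitePresentation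

/-- Cohen–Macaulay at every point -/
def Pcm : MorphismProperty Scheme.{u} := fun X Y f => ∀ x : X, MoreMor.IsCMAt f x

instance : Pcm.{u}.RespectsIso := by
  apply MorphismProperty.RespectsIso.mk
  · intro X Y Z e f hf x
    exact (Groth.Agent.Helper3.CMSlice.isCMAt_openImmersion e.hom f x).2 (hf _)
  · intro X Y Z e f hf x
    exact (Groth.Agent.Helper5.SyntLC.isCMAt_comp_openImmersion f e.hom x).2 (hf x)

/-- the Cohen–Macaulay locus as an open -/
noncomputable def Wcm {X Y : Scheme.{u}} (f : X ⟶ Y) (hf : Qfl f) : X.Opens :=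
  haveI : LocallyOfFinitePresentation f := hf.2
  ⟨{x | MoreMor.IsCMAt f x}, Groth.Agent.Helper5.CMAff.s4961 f⟩

theorem mem_Wcm {X Y : Scheme.{u}} (f : X ⟶ Y) (hf : Qfl f) (x : X) :
    x ∈ Wcm f hf ↔ MoreMor.IsCMAt f x := Iff.rfl

end Groth.Agent.Helper3.GrpdCM
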