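import Mathlib
import Groth.Agent.Helper3.GrpdCM1

set_option autoImplicit false
set_option linter.style.haveILetI false
set_option linter.unusedSectionVars false
set_option linter.unusedVariables false
set_option linter.deprecated false
set_option linter.style.haveILetI false
set_option linter.unusedSectionVars false
set_option linter.unusedVariables false
universe u
open CategoryTheory CategoryTheory.Limits AlgebraicGeometry TopologicalSpace Topology

namespace Groth.Agent.Helper3.GrpdCM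

open Groth.Agent.Helper2.Grpd19

theorem hWP {X Y : Scheme.{u}} (f : X ⟶ Y) (hf : Qfl f) : Pcm ((Wcm f hf).ι ≫ f) := by
  intro x
  exact (Groth.Agent.Helper3.CMSlice.isCMAt_openImmersion (Wcm f hf).ι f x).2 x.2

theorem hWmax {X Y : Scheme.{u}} (f : X ⟶ Y) (hf : Qfl f) (V : X.Opens)
    (h : Pcm (V.ι ≫ f)) : V ≤ Wcm f hf := by
  intro x hx
  exact (Groth.Agent.Helper3.CMSlice.isCMAt_openImmersion V.ι f ⟨x, hx⟩).1 (h ⟨x, hx⟩)

theorem hWbc {X Y Y' : Scheme.{u}} (f : X ⟶ Y) (hf : Qfl f) (b : Y' ⟶ Y) (hb : Qfl b)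
    (hf' : Qfl (pullback.snd f b)) :
    pullback.fst f b ⁻¹ᵁ Wcm f hf = Wcm (pullback.snd f b) hf' := by
  haveI : Flat f := hf.1
  haveI : LocallyOfFinitePresentation f := hf.2
  have h := Groth.Agent.Helper5.CMAff.s1342 f (pullback.snd f b) (pullback.fst f b) b
    (IsPullback.of_hasPullback f b)
  ext x'
  have h2 := Set.ext_iff.1 h x'
  exact h2.symm

theorem s1936 (S : Scheme.{u}) (G : Grpd.GroupoidScheme S) [Flat G.s]
    [LocallyOfFinitePresentation G.s] [Flat G.t] [LocallyOfFinitePresentation G.t] :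
    ∃ U' : G.U.Opens, (G.t ⁻¹ᵁ U' : Set G.R) = {r | Grpd.IsCMAt G.s r} ∧
      (G.s ⁻¹ᵁ U' : Set G.R) = {r | Grpd.IsCMAt G.t r} ∧
      ⇑G.t '' (G.s ⁻¹ᵁ U' : Set G.R) = Set.univ ∧
      ⇑G.s '' (G.t ⁻¹ᵁ U' : Set G.R) = Set.univ := by
  have hs : Qfl G.s := ⟨inferInstance, inferInstance⟩
  have ht : Qfl G.t := ⟨inferInstance, inferInstance⟩
  have hg : Qfl (𝟙 G.U) := ⟨inferInstance, inferInstance⟩
  have hh : Qfl (pullback.snd (𝟙 G.U) G.t ≫ G.s) := ⟨inferInstance, inferInstance⟩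
  obtain ⟨V, hV⟩ := Groth.Agent.S7510.result S G (𝟙 G.U) Pcm Qfl Qfl le_rfl
    (fun f hf => Wcm f hf) hWP hWmax hWbc hs ht hg hh
  -- (1)
  have h1 : ∀ r : G.R, G.t r ∈ V ↔ Grpd.IsCMAt G.s r := by
    intro r
    set φ := pullback.snd (𝟙 G.U) G.t with hφ
    let z := (inv φ) r
    have hz : φ z = r := by
      show φ ((inv φ) r) = r
      rw [← Scheme.Hom.comp_apply, IsIso.inv_hom_id]; rfl
    have hfst : pullback.fst (𝟙 G.U) G.t z = G.t r := by
      have hc : pullback.fst (𝟙 G.U) G.t = φ ≫ G.t := by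
        have := pullback.condition (f := 𝟙 G.U) (g := G.t)
        rw [Category.comp_id] at this
        exact this
      rw [hc, Scheme.Hom.comp_apply, hz]
    rw [isCMAt_iff, ← hz, ← Groth.Agent.Helper3.CMSlice.isCMAt_openImmersion φ G.s z, hz, ← hfst]
    have h2 : z ∈ pullback.fst (𝟙 G.U) G.t ⁻¹ᵁ V ↔ z ∈ Wcm (φ ≫ G.s) hh := by rw [hV]
    exact h2
  -- (2)
  have h2 : ∀ r : G.R, G.s r ∈ V ↔ Grpd.IsCMAt G.t r := by
    intro r
    have e1 : G.s r = G.t (G.i r) := by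
      rw [← Scheme.Hom.comp_apply, G.i_t]
    rw [e1, h1, isCMAt_iff, isCMAt_iff,
      ← Groth.Agent.Helper3.CMSlice.isCMAt_openImmersion G.i G.s r, G.i_s]
  -- (4)
  have h4 : ∀ u : G.U, ∃ r : G.R, G.t r ∈ V ∧ G.s r = u := by
    intro u
    obtain ⟨x, hx1, hx2⟩ := exists_isCMAt_in_fibre G.s (G.e u)
    refine ⟨x, (h1 x).2 ((isCMAt_iff _ _).2 hx2), ?_⟩
    rw [hx1, ← Scheme.Hom.comp_apply, G.e_s]; rfl
  refine ⟨V, ?_, ?_, ?_, ?_⟩
  · ext r; exact h1 r
  · ext r; exact h2 r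
  · rw [Set.eq_univ_iff_forall]
    intro u
    obtain ⟨x, hx1, hx2⟩ := h4 u
    refine ⟨G.i x, ?_, ?_⟩
    · show G.s (G.i x) ∈ V
      rw [← Scheme.Hom.comp_apply, G.i_s]; exact hx1
    · rw [← Scheme.Hom.comp_apply, G.i_t]; exact hx2
  · rw [Set.eq_univ_iff_forall]
    intro u
    obtain ⟨x, hx1, hx2⟩ := h4 u
    exact ⟨x, hx1, hx2⟩

end Groth.Agent.Helper3.GrpdCM
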