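import Mathlib
import Groth.Agent.Helper7.CMQuot1
import Groth.Agent.Helper2.DepthCM
import Groth.Agent.Helper5.CMBC6
import Groth.Agent.Helper8.SliceA
import Groth.Agent.Lead.CMCl

set_option autoImplicit false
set_option linter.style.haveILetI false
set_option linter.unusedSectionVars false
set_option linter.unusedVariables false
set_option linter.deprecated false
set_option linter.style.haveILetI false
set_option linter.unusedSectionVars false
set_option linter.unusedVariables false
universe u

/-!
# Ring-level tools for slicing groupoids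
-/

namespace Groth.Agent.Helper3.GrpdSl
open IsLocalRing RingTheory.Sequence Pointwise

section WR
variable {O : Type u} [CommRing O]

/-- weak regularity of `x :: rs` on a ring in terms of the quotient ring -/
theorem wr_cons_iff (x : O) (rs : List O) :
    IsWeaklyRegular O (x :: rs) ↔ IsSMulRegular O x ∧
      IsWeaklyRegular (O ⧸ Ideal.span {x}) (rs.map (Ideal.Quotient.mk (Ideal.span {x}))) := by
  rw [isWeaklyRegular_cons_iff]
  refine and_congr Iff.rfl ?_
  have heq : x • (⊤ : Submodule O O) = Ideal.span {x} := by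
    rw [← Submodule.ideal_span_singleton_smul, smul_eq_mul, Ideal.mul_top]
  have e : QuotSMulTop x O ≃ₗ[O] O ⧸ Ideal.span {x} := Submodule.quotEquivOfEq _ _ heq
  rw [e.isWeaklyRegular_congr]
  exact (isWeaklyRegular_map_algebraMap_iff (O ⧸ Ideal.span {x}) (O ⧸ Ideal.span {x}) rs).symm

end WR

section CM
variable {O : Type u} [CommRing O] [IsLocalRing O] [IsNoetherianRing O]

/-- the iterated quotient -/
noncomputable def quotConsEquiv (x : O) (xs : List O) :
    ((O ⧸ Ideal.span {x}) ⧸ Ideal.ofList (xs.map (Ideal.Quotient.mk (Ideal.span {x})))) ≃+*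
      O ⧸ Ideal.ofList (x :: xs) :=
  (Ideal.quotEquivOfEq (by rw [Ideal.map_ofList])).trans
    ((DoubleQuot.quotQuotEquivQuotSup (Ideal.span {x}) (Ideal.ofList xs)).trans
      (Ideal.quotEquivOfEq (by rw [Ideal.ofList_cons])))

end CM

/-- the quotient of a Cohen–Macaulay local ring by a regular sequence is Cohen–Macaulay -/
theorem cm_quot_of_wr : ∀ (xs : List (ULift.{u} ℕ)) (O : Type u) [CommRing O] [IsLocalRing O]
    [IsNoetherianRing O] (ys : List O), ys.length = xs.length →
    LocCoh.IsCohenMacaulayLocalRing O →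
    (∀ y ∈ ys, y ∈ maximalIdeal O) → IsWeaklyRegular O ys →
    LocCoh.IsCohenMacaulayLocalRing (O ⧸ Ideal.ofList ys) := by
  intro xs
  induction xs with
  | nil =>
    intro O _ _ _ ys hlen hCM hmem hwr
    have : ys = [] := List.length_eq_zero_iff.mp hlen
    subst this
    have e : O ≃+* (O ⧸ Ideal.ofList ([] : List O)) :=
      (RingEquiv.quotientBot O).symm.trans (Ideal.quotEquivOfEq (by rw [Ideal.ofList_nil]))
    exact Groth.Agent.Lead.CMCl.cm_of_ringEquiv e (h := hCM)
  | cons _ xs ih =>
    intro O _ _ _ ys hlen hCM hmem hwr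
    match ys, hlen with
    | y :: ys', hlen =>
      have hlen' : ys'.length = xs.length := by simpa using hlen
      rw [wr_cons_iff] at hwr
      obtain ⟨hreg, hwr'⟩ := hwr
      have hy : y ∈ maximalIdeal O := hmem y List.mem_cons_self
      haveI : IsLocalRing (O ⧸ Ideal.span {y}) :=
        Groth.Agent.Helper7.CMQuot.isLocalRing_quotient O y hy
      have hCM' : LocCoh.IsCohenMacaulayLocalRing (O ⧸ Ideal.span {y}) :=
        (Groth.Agent.Helper7.CMQuot.cmLocal_quotient_iff O y hy hreg).1 hCM
      have hmem' : ∀ z ∈ ys'.map (Ideal.Quotient.mk (Ideal.span {y})),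
          z ∈ maximalIdeal (O ⧸ Ideal.span {y}) := by
        intro z hz
        obtain ⟨w, hw, rfl⟩ := List.mem_map.mp hz
        have hw' : w ∈ maximalIdeal O := hmem w (List.mem_cons_of_mem _ hw)
        haveI : IsLocalHom (Ideal.Quotient.mk (Ideal.span {y})) :=
          IsLocalHom.of_surjective _ Ideal.Quotient.mk_surjective
        intro hu
        exact hw' (isUnit_of_map_unit (Ideal.Quotient.mk (Ideal.span {y})) w hu)
      have h1 := ih (O ⧸ Ideal.span {y}) (ys'.map (Ideal.Quotient.mk (Ideal.span {y})))
        (by rw [List.length_map]; exact hlen') hCM' hmem' hwr'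
      exact Groth.Agent.Lead.CMCl.cm_of_ringEquiv (quotConsEquiv y ys') (h := h1)

end Groth.Agent.Helper3.GrpdSl
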