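import Mathlib
import Groth.Agent.Helper3.GrpdSl3

set_option autoImplicit false
set_option linter.style.haveILetI false
set_option linter.unusedSectionVars false
set_option linter.unusedVariables false
set_option linter.deprecated false
set_option linter.style.haveILetI false
set_option linter.unusedSectionVars false
set_option linter.unusedVariables false
universe u
open CategoryTheory CategoryTheory.Limits AlgebraicGeometry TopologicalSpace Topology

/-!
# The local ring of the base change of a closed subscheme of an affine open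
-/

namespace Groth.Agent.Helper3.GrpdSl

variable {U R : Scheme.{u}} {U₁ : U.Opens} (hU₁ : IsAffineOpen U₁) (I : Ideal Γ(U, U₁))

/-- the closed subscheme `V(I)` of the affine open `U₁`, mapping to `U` -/
noncomputable def gI : Spec (CommRingCat.of (Γ(U, U₁) ⧸ I)) ⟶ U :=
  Spec.map (CommRingCat.ofHom (Ideal.Quotient.mk I)) ≫ hU₁.fromSpec

instance : IsClosedImmersion (Spec.map (CommRingCat.ofHom (Ideal.Quotient.mk I))) :=
  IsClosedImmersion.spec_of_surjective _ Ideal.Quotient.mk_surjective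

instance : IsImmersion (gI hU₁ I) := by
  unfold gI
  haveI : IsOpenImmersion hU₁.fromSpec := inferInstance
  infer_instance

instance : IsPreimmersion (gI hU₁ I) := inferInstance

theorem gI_mem (y : Spec (CommRingCat.of (Γ(U, U₁) ⧸ I))) : gI hU₁ I y ∈ U₁ := by
  have h1 : gI hU₁ I y ∈ Set.range hU₁.fromSpec := ⟨_, rfl⟩
  rw [hU₁.range_fromSpec] at h1
  exact h1

variable (t : R ⟶ U)

theorem snd_mem (p : ↑(pullback (gI hU₁ I) t)) : t (pullback.snd (gI hU₁ I) t p) ∈ U₁ := by
  have h1 : (pullback.fst (gI hU₁ I) t ≫ gI hU₁ I) p = (pullback.snd (gI hU₁ I) t ≫ t) p := by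
    rw [pullback.condition]
  rw [Scheme.Hom.comp_apply, Scheme.Hom.comp_apply] at h1
  rw [← h1]
  exact gI_mem hU₁ I _

/-- the local ring of the base change of `V(I) ⊆ U₁ ⊆ U` -/
theorem stalk_pullback_quot (p : ↑(pullback (gI hU₁ I) t)) :
    Function.Surjective ((pullback.snd (gI hU₁ I) t).stalkMap p).hom ∧
      RingHom.ker ((pullback.snd (gI hU₁ I) t).stalkMap p).hom =
        I.map ((t.stalkMap (pullback.snd (gI hU₁ I) t p)).hom.comp
          (U.presheaf.germ U₁ (t (pullback.snd (gI hU₁ I) t p)) (snd_mem hU₁ I t p)).hom) := by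
  let g := gI hU₁ I
  let k := pullback.snd g t
  let x : R := k p
  have hxU : t x ∈ U₁ := snd_mem hU₁ I t p
  let Rx := R.presheaf.stalk x
  let φ : Γ(U, U₁) →+* Rx := (t.stalkMap x).hom.comp (U.presheaf.germ U₁ (t x) hxU).hom
  -- `I.map φ ≤ ker`
  have hge : I.map φ ≤ RingHom.ker (k.stalkMap p).hom := by
    rw [Ideal.map_le_iff_le_comap]
    intro a ha
    rw [Ideal.mem_comap, RingHom.mem_ker]
    show (k.stalkMap p).hom ((t.stalkMap x).hom ((U.presheaf.germ U₁ (t x) hxU).hom a)) = 0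
    have h1 : (k.stalkMap p).hom ((t.stalkMap x).hom ((U.presheaf.germ U₁ (t x) hxU).hom a)) =
        ((k ≫ t).stalkMap p).hom ((U.presheaf.germ U₁ ((k ≫ t) p) hxU).hom a) := by
      rw [Scheme.Hom.stalkMap_comp]; rfl
    rw [h1]
    have h2 := Scheme.Hom.germ_stalkMap_apply (k ≫ t) U₁ p hxU a
    refine h2.trans ?_
    have hcond : k ≫ t = pullback.fst g t ≫ g := pullback.condition.symm
    have key : ∀ (f₁ f₂ : pullback g t ⟶ U) (e : f₁ = f₂), (f₂.app U₁).hom a = 0 →
        (f₁.app U₁).hom a = 0 := by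
      intro f₁ f₂ e h
      subst e
      exact h
    have h3 : ((k ≫ t).app U₁).hom a = 0 := by
      refine key _ _ hcond ?_
      have h4 : ((gI hU₁ I).app U₁).hom a = 0 :=
        Groth.Agent.Helper3.CMSlice.app_eq_zero hU₁ I a ha
      have h5 : (Scheme.Hom.app g U₁).hom a = 0 := h4
      rw [Scheme.Hom.comp_app]
      show (Scheme.Hom.app (pullback.fst g t) (g ⁻¹ᵁ U₁)).hom ((Scheme.Hom.app g U₁).hom a) = 0
      rw [h5, map_zero]
    have h6 : (ConcreteCategory.hom (Scheme.Hom.app (k ≫ t) U₁)) a = 0 := h3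
    rw [h6]
    exact map_zero _
  refine ⟨k.stalkMap_surjective p, le_antisymm ?_ hge⟩
  have hkerne : RingHom.ker (k.stalkMap p).hom ≠ ⊤ := RingHom.ker_ne_top _
  have hJne : I.map φ ≠ ⊤ := fun h => hkerne (top_le_iff.mp (h ▸ hge))
  let J : Ideal Rx := I.map φ
  let Q : CommRingCat.{u} := CommRingCat.of (Rx ⧸ J)
  let q : Rx ⟶ Q := CommRingCat.ofHom (Ideal.Quotient.mk J)
  let ψ : CommRingCat.of (Γ(U, U₁) ⧸ I) ⟶ Q := CommRingCat.ofHom
    (Ideal.Quotient.lift I ((Ideal.Quotient.mk J).comp φ) (by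
      intro a ha
      rw [RingHom.comp_apply, Ideal.Quotient.eq_zero_iff_mem]
      exact Ideal.mem_map_of_mem _ ha))
  have hψ : CommRingCat.ofHom (Ideal.Quotient.mk I) ≫ ψ =
      U.presheaf.germ U₁ (t x) hxU ≫ t.stalkMap x ≫ q := by
    ext a
    rfl
  have hb : Spec.map ψ ≫ g = Spec.map q ≫ R.fromSpecStalk x ≫ t := by
    show Spec.map ψ ≫ Spec.map (CommRingCat.ofHom (Ideal.Quotient.mk I)) ≫ hU₁.fromSpec = _
    rw [← Spec.map_comp_assoc, hψ, ← Scheme.SpecMap_stalkMap_fromSpecStalk,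
      ← hU₁.fromSpecStalk_eq_fromSpecStalk hxU, IsAffineOpen.fromSpecStalk]
    simp only [Spec.map_comp, Category.assoc]
  exact ker_stalkMap_snd_le g t p J hJne (Spec.map ψ) hb

end Groth.Agent.Helper3.GrpdSl
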