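import Mathlib
import Groth.Agent.Helper3.GrpdSl1
import Groth.Agent.Helper5.CMBC2

set_option autoImplicit false
set_option linter.style.haveILetI false
set_option linter.unusedSectionVars false
set_option linter.unusedVariables false
set_option linter.deprecated false
set_option linter.style.haveILetI false
set_option linter.unusedSectionVars false
set_option linter.unusedVariables false
universe u

/-!
# Prime avoidance for fibrewise regular elements pulled back along a ring map
-/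

namespace Groth.Agent.Helper3.GrpdSl
open IsLocalRing RingTheory.Sequence Pointwise

section Avoid
variable {A O : Type u} [CommRing A] [CommRing O] [IsLocalRing O] [IsNoetherianRing O]

/-- in a Cohen–Macaulay local ring, an ideal whose quotient has smaller dimension and which is
generated by the image of an ideal `𝔪` contains the image of an element of `𝔪` that is a
nonzerodivisor -/
theorem exists_smulRegular_of_dim_lt (hCM : LocCoh.IsCohenMacaulayLocalRing O) (τ : A →+* O)
    (𝔪 : Ideal A) (hlt : ringKrullDim (O ⧸ 𝔪.map τ) < ringKrullDim O) :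
    ∃ f ∈ 𝔪, IsSMulRegular O (τ f) := by
  classical
  by_contra hcon
  push Not at hcon
  have hfin : (associatedPrimes O O).Finite := associatedPrimes.finite O O
  have hsub : (𝔪 : Set A) ⊆ ⋃ P ∈ (hfin.toFinset : Set (Ideal O)), (P.comap τ : Set A) := by
    intro f hf
    have h1 : τ f ∈ {r : O | IsSMulRegular O r}ᶜ := hcon f hf
    rw [← biUnion_associatedPrimes_eq_compl_regular O O] at h1
    simp only [Set.mem_iUnion, SetLike.mem_coe] at h1 ⊢
    obtain ⟨P, hP, hfP⟩ := h1
    exact ⟨P, by simpa using hP, hfP⟩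
  have hprime : ∀ P ∈ hfin.toFinset, P ≠ (⊥ : Ideal O) → P ≠ (⊥ : Ideal O) →
      (P.comap τ).IsPrime := by
    intro P hP _ _
    have hP' : P ∈ associatedPrimes O O := by simpa using hP
    haveI : P.IsPrime := hP'.isPrime
    exact Ideal.comap_isPrime τ P
  obtain ⟨P, hP, hle⟩ := (Ideal.subset_union_prime (R := A) (s := hfin.toFinset)
    (f := fun P => P.comap τ) ⊥ ⊥ hprime).1 hsub
  have hP' : P ∈ associatedPrimes O O := by simpa using hP
  have hmap : 𝔪.map τ ≤ P := Ideal.map_le_iff_le_comap.2 hle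
  have h1 : ringKrullDim (O ⧸ P) ≤ ringKrullDim (O ⧸ 𝔪.map τ) :=
    ringKrullDim_le_of_surjective (Ideal.Quotient.factor hmap) (Ideal.Quotient.factor_surjective hmap)
  have h2 := Groth.Agent.Helper2.DepthCM.depth_le_dim_quotient_of_mem_ass (A := O) O P hP'
  rw [← (Groth.Agent.Helper5.CMBC.cm_iff_dim_eq_depth O).1 hCM] at h2
  exact absurd (lt_of_le_of_lt (h2.trans h1) hlt) (lt_irrefl _)

end Avoid

/-- iterated prime avoidance: a regular sequence of the right length coming from `𝔪` -/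
theorem exists_regular_list {A : Type u} [CommRing A] (𝔪 : Ideal A) :
    ∀ (c : ℕ) (O : Type u) [CommRing O] [IsLocalRing O] [IsNoetherianRing O]
      (hCM : LocCoh.IsCohenMacaulayLocalRing O) (τ : A →+* O)
      (hτ : 𝔪.map τ ≤ maximalIdeal O)
      (hdim : ringKrullDim (O ⧸ 𝔪.map τ) + (c : WithBot ℕ∞) = ringKrullDim O),
      ∃ fs : List A, (∀ f ∈ fs, f ∈ 𝔪) ∧ fs.length = c ∧ IsWeaklyRegular O (fs.map τ) := by
  intro c
  induction c with
  | zero =>
    intro O _ _ _ hCM τ hτ hdim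
    exact ⟨[], by simp, rfl, IsWeaklyRegular.nil _ _⟩
  | succ c ih =>
    intro O _ _ _ hCM τ hτ hdim
    have hne : 𝔪.map τ ≠ ⊤ := fun h =>
      (maximalIdeal.isMaximal O).ne_top (top_le_iff.mp (h ▸ hτ))
    haveI : Nontrivial (O ⧸ 𝔪.map τ) := Ideal.Quotient.nontrivial_iff.mpr hne
    haveI : IsLocalRing (O ⧸ 𝔪.map τ) :=
      IsLocalRing.of_surjective' (Ideal.Quotient.mk _) Ideal.Quotient.mk_surjective
    obtain ⟨d, hd⟩ := Groth.Agent.Helper5.CMBC.exists_nat_dim O
    obtain ⟨m, hm⟩ := Groth.Agent.Helper5.CMBC.exists_nat_dim (O ⧸ 𝔪.map τ)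
    have hmd : m + (c + 1) = d := by
      rw [hm, hd] at hdim
      exact_mod_cast hdim
    have hlt : ringKrullDim (O ⧸ 𝔪.map τ) < ringKrullDim O := by
      rw [hm, hd]
      exact_mod_cast (by omega : m < d)
    obtain ⟨f, hf𝔪, hreg⟩ := exists_smulRegular_of_dim_lt hCM τ 𝔪 hlt
    have hfmax : τ f ∈ maximalIdeal O := hτ (Ideal.mem_map_of_mem τ hf𝔪)
    haveI : IsLocalRing (O ⧸ Ideal.span {τ f}) :=
      Groth.Agent.Helper7.CMQuot.isLocalRing_quotient O (τ f) hfmax
    have hCM' : LocCoh.IsCohenMacaulayLocalRing (O ⧸ Ideal.span {τ f}) :=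
      (Groth.Agent.Helper7.CMQuot.cmLocal_quotient_iff O (τ f) hfmax hreg).1 hCM
    have hdim' := ringKrullDim_quotient_span_singleton_succ_eq_ringKrullDim hreg hfmax
    set τ' : A →+* (O ⧸ Ideal.span {τ f}) := (Ideal.Quotient.mk (Ideal.span {τ f})).comp τ
      with hτ'
    have hmapτ' : 𝔪.map τ' = (𝔪.map τ).map (Ideal.Quotient.mk (Ideal.span {τ f})) := by
      rw [hτ', Ideal.map_map]
    have hτ'le : 𝔪.map τ' ≤ maximalIdeal (O ⧸ Ideal.span {τ f}) := by
      rw [hmapτ', Ideal.map_le_iff_le_comap]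
      intro a ha
      rw [Ideal.mem_comap]
      haveI : IsLocalHom (Ideal.Quotient.mk (Ideal.span {τ f})) :=
        IsLocalHom.of_surjective _ Ideal.Quotient.mk_surjective
      intro hu
      exact hτ ha (isUnit_of_map_unit (Ideal.Quotient.mk (Ideal.span {τ f})) a hu)
    have hspanle : Ideal.span {τ f} ≤ 𝔪.map τ :=
      (Ideal.span_singleton_le_iff_mem _).mpr (Ideal.mem_map_of_mem τ hf𝔪)
    have e : ((O ⧸ Ideal.span {τ f}) ⧸ 𝔪.map τ') ≃+* (O ⧸ 𝔪.map τ) :=
      (Ideal.quotEquivOfEq hmapτ').trans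
        ((DoubleQuot.quotQuotEquivQuotSup (Ideal.span {τ f}) (𝔪.map τ)).trans
          (Ideal.quotEquivOfEq (sup_eq_right.mpr hspanle)))
    have hdim'' : ringKrullDim ((O ⧸ Ideal.span {τ f}) ⧸ 𝔪.map τ') + (c : WithBot ℕ∞) =
        ringKrullDim (O ⧸ Ideal.span {τ f}) := by
      rw [ringKrullDim_eq_of_ringEquiv e, hm]
      obtain ⟨d', hd'⟩ := Groth.Agent.Helper5.CMBC.exists_nat_dim (O ⧸ Ideal.span {τ f})
      rw [hd'] at hdim' ⊢
      rw [hd] at hdim'
      have : d' + 1 = d := by exact_mod_cast hdim'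
      exact_mod_cast (by omega : m + c = d')
    obtain ⟨fs', hfs', hlen', hwr'⟩ := ih (O ⧸ Ideal.span {τ f}) hCM' τ' hτ'le hdim''
    refine ⟨f :: fs', ?_, by simp [hlen'], ?_⟩
    · intro a ha
      rcases List.mem_cons.mp ha with rfl | ha
      · exact hf𝔪
      · exact hfs' a ha
    · rw [List.map_cons, wr_cons_iff]
      refine ⟨hreg, ?_⟩
      rw [List.map_map]
      exact hwr'

section Flat
variable {R₀ T : Type u} [CommRing R₀] [CommRing T] [IsLocalRing R₀] [IsLocalRing T]
  [Algebra R₀ T] [IsLocalHom (algebraMap R₀ T)]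

/-- iterated local slicing: the quotient by a fibrewise regular sequence is flat -/
theorem flat_quot_of_fibre_wr (hess : CAlgX.IsEssFinitePresentation R₀ T) :
    ∀ (hs : List T) (J : Ideal T), J.FG → Module.Flat R₀ (T ⧸ J) →
      IsWeaklyRegular (T ⧸ (J ⊔ (maximalIdeal R₀).map (algebraMap R₀ T))) hs →
      Module.Flat R₀ (T ⧸ (J ⊔ Ideal.ofList hs)) := by
  intro hs
  induction hs with
  | nil =>
    intro J hJ hF hwr
    rw [Ideal.ofList_nil, sup_bot_eq]
    exact hF
  | cons x hs ih =>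
    intro J hJ hF hwr
    rw [isWeaklyRegular_cons_iff] at hwr
    obtain ⟨h1, h2⟩ := hwr
    haveI := hF
    have hregx : ∀ t : T, x * t ∈ J ⊔ (maximalIdeal R₀).map (algebraMap R₀ T) →
        t ∈ J ⊔ (maximalIdeal R₀).map (algebraMap R₀ T) := by
      intro t ht
      have h3 : x • (Ideal.Quotient.mk (J ⊔ (maximalIdeal R₀).map (algebraMap R₀ T)) t) =
          x • (0 : T ⧸ (J ⊔ (maximalIdeal R₀).map (algebraMap R₀ T))) := by
        rw [smul_zero]
        show Ideal.Quotient.mk _ (x * t) = 0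
        exact Ideal.Quotient.eq_zero_iff_mem.mpr ht
      exact Ideal.Quotient.eq_zero_iff_mem.mp (h1 h3)
    obtain ⟨-, hFl'⟩ := Groth.Agent.Helper8.SliceA.local_step hess J hJ x hregx
    have hJ' : (J ⊔ Ideal.span {x}).FG := Submodule.FG.sup hJ (Submodule.fg_span_singleton x)
    have hwr' : IsWeaklyRegular
        (T ⧸ ((J ⊔ Ideal.span {x}) ⊔ (maximalIdeal R₀).map (algebraMap R₀ T))) hs := by
      have e1 := Groth.Agent.Helper8.SliceA.quotSMulTopEquiv
        (J ⊔ (maximalIdeal R₀).map (algebraMap R₀ T)) x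
      have e2 : (T ⧸ ((J ⊔ (maximalIdeal R₀).map (algebraMap R₀ T)) ⊔ Ideal.span {x})) ≃ₗ[T]
          (T ⧸ ((J ⊔ Ideal.span {x}) ⊔ (maximalIdeal R₀).map (algebraMap R₀ T))) :=
        Submodule.quotEquivOfEq _ _ (sup_right_comm _ _ _)
      exact ((e1.trans e2).isWeaklyRegular_congr hs).mp h2
    have := ih (J ⊔ Ideal.span {x}) hJ' hFl' hwr'
    rw [Ideal.ofList_cons, ← sup_assoc]
    exact this

end Flat

end Groth.Agent.Helper3.GrpdSl
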