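import Mathlib
import Groth.Agent.Helper3.GrpdSl2

set_option autoImplicit false
set_option linter.style.haveILetI false
set_option linter.unusedSectionVars false
set_option linter.unusedVariables false
set_option linter.deprecated false
set_option linter.style.haveILetI false
set_option linter.unusedSectionVars false
set_option linter.unusedVariables false
universe u

/-!
# Slicing a flat local homomorphism with Cohen–Macaulay fibre: pure algebra
-/

namespace Groth.Agent.Helper3.GrpdSl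
open IsLocalRing RingTheory.Sequence Pointwise

section QuotMap
variable {T T' : Type u} [CommRing T] [CommRing T']

/-- `T'/𝔟T' ≅ T/(ker φ + 𝔟)` for a surjection `φ : T → T'` -/
noncomputable def quotMapEquiv (φ : T →+* T') (hφ : Function.Surjective φ) (𝔟 : Ideal T) :
    (T' ⧸ 𝔟.map φ) ≃+* T ⧸ (RingHom.ker φ ⊔ 𝔟) :=
  (Ideal.quotientEquiv (𝔟.map (Ideal.Quotient.mk (RingHom.ker φ))) (𝔟.map φ)
    (RingHom.quotientKerEquivOfSurjective hφ) (by
      rw [Ideal.map_map]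
      congr 1)).symm.trans
    (DoubleQuot.quotQuotEquivQuotSup (RingHom.ker φ) 𝔟)

end QuotMap

section Core
variable {R₀ T T' : Type u} [CommRing R₀] [CommRing T] [CommRing T'] [IsLocalRing R₀]
  [IsLocalRing T] [IsLocalRing T']

/-- **slicing, ring level**: `σ : R₀ → T` flat local, essentially of finite presentation, with
Cohen–Macaulay fibre ring `T/𝔪T`; `κ : T ↠ T'` with kernel generated by a list which is a regular
sequence on the fibre ring. Then `κ ∘ σ` is flat, its fibre ring is Cohen–Macaulay and its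
dimension has dropped by the length of the list. -/
theorem slice_core (σ : R₀ →+* T) [IsLocalHom σ]
    (hess : letI := σ.toAlgebra; CAlgX.IsEssFinitePresentation R₀ T)
    (hflat : σ.Flat)
    (hCM : LocCoh.IsCohenMacaulayLocalRing (T ⧸ (maximalIdeal R₀).map σ))
    (κ : T →+* T') (hκ : Function.Surjective κ) (ls : List T)
    (hker : RingHom.ker κ = Ideal.ofList ls)
    (hwr : IsWeaklyRegular (T ⧸ (maximalIdeal R₀).map σ)
      (ls.map (Ideal.Quotient.mk ((maximalIdeal R₀).map σ)))) :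
    (κ.comp σ).Flat ∧
      LocCoh.IsCohenMacaulayLocalRing (T' ⧸ (maximalIdeal R₀).map (κ.comp σ)) ∧
      ringKrullDim (T' ⧸ (maximalIdeal R₀).map (κ.comp σ)) + (ls.length : WithBot ℕ∞) =
        ringKrullDim (T ⧸ (maximalIdeal R₀).map σ) := by
  letI algσ : Algebra R₀ T := σ.toAlgebra
  haveI : IsLocalHom (algebraMap R₀ T) := ‹IsLocalHom σ›
  set 𝔞 : Ideal T := (maximalIdeal R₀).map σ with h𝔞
  haveI : IsNoetherianRing (T ⧸ 𝔞) := hCM.1
  haveI : IsLocalRing (T ⧸ 𝔞) := hCM.2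
  -- members lie in the maximal ideal
  have hkerne : RingHom.ker κ ≠ ⊤ := RingHom.ker_ne_top κ
  have hmemT : ∀ l ∈ ls, l ∈ maximalIdeal T := by
    intro l hl
    have h1 : l ∈ RingHom.ker κ := by
      rw [hker]; exact Ideal.subset_span hl
    exact IsLocalRing.le_maximalIdeal hkerne h1
  haveI : IsLocalHom (Ideal.Quotient.mk 𝔞) :=
    IsLocalHom.of_surjective _ Ideal.Quotient.mk_surjective
  have hmemO : ∀ l ∈ ls.map (Ideal.Quotient.mk 𝔞), l ∈ maximalIdeal (T ⧸ 𝔞) := by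
    intro l hl
    obtain ⟨w, hw, rfl⟩ := List.mem_map.mp hl
    intro hu
    exact hmemT w hw (isUnit_of_map_unit (Ideal.Quotient.mk 𝔞) w hu)
  -- the fibre ring of the composite
  have hmapcomp : (maximalIdeal R₀).map (κ.comp σ) = 𝔞.map κ := by
    rw [h𝔞, Ideal.map_map]
  let e1 : (T' ⧸ (maximalIdeal R₀).map (κ.comp σ)) ≃+* T ⧸ (RingHom.ker κ ⊔ 𝔞) :=
    (Ideal.quotEquivOfEq hmapcomp).trans (quotMapEquiv κ hκ 𝔞)
  let e2 : ((T ⧸ 𝔞) ⧸ Ideal.ofList (ls.map (Ideal.Quotient.mk 𝔞))) ≃+* T ⧸ (RingHom.ker κ ⊔ 𝔞) :=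
    (Ideal.quotEquivOfEq (by rw [Ideal.map_ofList])).trans
      ((DoubleQuot.quotQuotEquivQuotSup 𝔞 (Ideal.ofList ls)).trans
        (Ideal.quotEquivOfEq (by rw [hker, sup_comm])))
  have hCMq := cm_quot_of_wr (List.replicate ls.length (ULift.up 0)) (T ⧸ 𝔞)
    (ls.map (Ideal.Quotient.mk 𝔞)) (by simp) hCM hmemO hwr
  have hCM' : LocCoh.IsCohenMacaulayLocalRing (T' ⧸ (maximalIdeal R₀).map (κ.comp σ)) :=
    Groth.Agent.Lead.CMCl.cm_of_ringEquiv (e2.trans e1.symm) (h := hCMq)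
  have hreg : IsRegular (T ⧸ 𝔞) (ls.map (Ideal.Quotient.mk 𝔞)) :=
    IsRegular.of_isWeaklyRegular_of_mem_maximalIdeal (T ⧸ 𝔞) hmemO hwr
  have hdim := ringKrullDim_add_length_eq_ringKrullDim_of_isRegular
    (ls.map (Ideal.Quotient.mk 𝔞)) hreg
  rw [List.length_map, ringKrullDim_eq_of_ringEquiv (e2.trans e1.symm)] at hdim
  refine ⟨?_, hCM', hdim⟩
  -- flatness
  haveI hflat' : Module.Flat R₀ T := hflat
  have hF0 : Module.Flat R₀ (T ⧸ (⊥ : Ideal T)) :=
    Module.Flat.of_linearEquiv ((Submodule.quotEquivOfEqBot (⊥ : Ideal T) rfl).restrictScalars R₀)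
  have hwr0 : IsWeaklyRegular (T ⧸ ((⊥ : Ideal T) ⊔ (maximalIdeal R₀).map (algebraMap R₀ T))) ls := by
    have h1 : IsWeaklyRegular (T ⧸ 𝔞) ls :=
      (isWeaklyRegular_map_algebraMap_iff (T ⧸ 𝔞) (T ⧸ 𝔞) ls).mp hwr
    have e : (T ⧸ 𝔞) ≃ₗ[T] (T ⧸ ((⊥ : Ideal T) ⊔ (maximalIdeal R₀).map (algebraMap R₀ T))) :=
      Submodule.quotEquivOfEq _ _ (by rw [bot_sup_eq]; rfl)
    exact (e.isWeaklyRegular_congr ls).mp h1
  have hF := flat_quot_of_fibre_wr hess ls ⊥ Submodule.fg_bot hF0 hwr0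
  rw [bot_sup_eq, ← hker] at hF
  -- transfer along `T/ker κ ≅ T'`
  let e3 : (T ⧸ RingHom.ker κ) ≃+* T' := RingHom.quotientKerEquivOfSurjective hκ
  have hF' : (algebraMap R₀ (T ⧸ RingHom.ker κ)).Flat := RingHom.flat_algebraMap_iff.mpr hF
  have hcomp : κ.comp σ = (e3 : (T ⧸ RingHom.ker κ) →+* T').comp (algebraMap R₀ (T ⧸ RingHom.ker κ)) := by
    ext a
    rfl
  rw [hcomp]
  exact RingHom.Flat.comp hF' (RingHom.Flat.of_bijective e3.bijective)

end Core

end Groth.Agent.Helper3.GrpdSl
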