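import Mathlib
import Groth.Agent.Helper3.GrpdSl4
import Groth.Agent.Helper3.GrpdSl5
import Groth.Agent.Helper2.StalkEssFP

set_option autoImplicit false
set_option linter.style.haveILetI false
set_option linter.unusedSectionVars false
set_option linter.unusedVariables false
set_option linter.deprecated false
set_option linter.style.haveILetI false
set_option linter.unusedSectionVars false
set_option linter.unusedVariables false
universe u
open CategoryTheory CategoryTheory.Limits AlgebraicGeometry TopologicalSpace Topology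

/-!
# Slicing at a point: scheme level
-/

namespace Groth.Agent.Helper3.GrpdSl
open IsLocalRing RingTheory.Sequence

/-- the ideal of the fibre through `x` in the local ring at `x` -/
noncomputable abbrev fibIdeal {X Y : Scheme.{u}} (f : X ⟶ Y) (x : X) : Ideal (X.presheaf.stalk x) :=
  (maximalIdeal (Y.presheaf.stalk (f x))).map (f.stalkMap x).hom

variable {U R : Scheme.{u}} (s t : R ⟶ U) [LocallyOfFinitePresentation s]
  {U₁ : U.Opens} (hU₁ : IsAffineOpen U₁) (fs : List Γ(U, U₁))

/-- the pull-back map `Γ(U, U₁) → O_{R,x}` along `t` at a point of `t⁻¹(V(fs))` -/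
noncomputable def tGerm (p : ↑(pullback (gI hU₁ (Ideal.ofList fs)) t)) :
    Γ(U, U₁) →+* R.presheaf.stalk (pullback.snd (gI hU₁ (Ideal.ofList fs)) t p) :=
  (t.stalkMap (pullback.snd (gI hU₁ (Ideal.ofList fs)) t p)).hom.comp
    (U.presheaf.germ U₁ (t (pullback.snd (gI hU₁ (Ideal.ofList fs)) t p))
      (snd_mem hU₁ (Ideal.ofList fs) t p)).hom

/-- **slicing at a point**: if `s` is Cohen–Macaulay at `x = pr₂(p)` and the `t`-pull-backs of `fs`
form a regular sequence on the fibre ring of `s` at `x`, then `h = s ∘ pr₂` is Cohen–Macaulay at `p`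
and the dimension of its fibre ring has dropped by the length of `fs`. -/
theorem slice_at (p : ↑(pullback (gI hU₁ (Ideal.ofList fs)) t))
    (hCM : Grpd.IsCMAt s (pullback.snd (gI hU₁ (Ideal.ofList fs)) t p))
    (hwr : IsWeaklyRegular
      (R.presheaf.stalk (pullback.snd (gI hU₁ (Ideal.ofList fs)) t p) ⧸
        (maximalIdeal (U.presheaf.stalk (s (pullback.snd (gI hU₁ (Ideal.ofList fs)) t p)))).map
          (s.stalkMap (pullback.snd (gI hU₁ (Ideal.ofList fs)) t p)).hom)
      ((fs.map (tGerm t hU₁ fs p)).map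
        (Ideal.Quotient.mk (fibIdeal s (pullback.snd (gI hU₁ (Ideal.ofList fs)) t p))))) :
    Grpd.IsCMAt (pullback.snd (gI hU₁ (Ideal.ofList fs)) t ≫ s) p ∧
      ringKrullDim ((pullback (gI hU₁ (Ideal.ofList fs)) t).presheaf.stalk p ⧸
        (maximalIdeal (U.presheaf.stalk ((pullback.snd (gI hU₁ (Ideal.ofList fs)) t ≫ s) p))).map
          ((pullback.snd (gI hU₁ (Ideal.ofList fs)) t ≫ s).stalkMap p).hom) +
        (fs.length : WithBot ℕ∞) =
      ringKrullDim (R.presheaf.stalk (pullback.snd (gI hU₁ (Ideal.ofList fs)) t p) ⧸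
        (maximalIdeal (U.presheaf.stalk (s (pullback.snd (gI hU₁ (Ideal.ofList fs)) t p)))).map
          (s.stalkMap (pullback.snd (gI hU₁ (Ideal.ofList fs)) t p)).hom) := by
  let k := pullback.snd (gI hU₁ (Ideal.ofList fs)) t
  let x : R := k p
  obtain ⟨hsurj, hker⟩ := stalk_pullback_quot hU₁ (Ideal.ofList fs) t p
  have hker' : RingHom.ker (k.stalkMap p).hom = Ideal.ofList (fs.map (tGerm t hU₁ fs p)) := by
    rw [← Ideal.map_ofList]
    exact hker
  have hcomp : ((k ≫ s).stalkMap p).hom = (k.stalkMap p).hom.comp (s.stalkMap x).hom := by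
    rw [Scheme.Hom.stalkMap_comp]; rfl
  have key := slice_core (s.stalkMap x).hom
    (Groth.Agent.Helper2.StalkEssFP.essFP_stalk s x) hCM.1 hCM.2
    (k.stalkMap p).hom hsurj (fs.map (tGerm t hU₁ fs p)) hker' hwr
  rw [List.length_map] at key
  obtain ⟨h1, h2, h3⟩ := key
  refine ⟨⟨?_, ?_⟩, ?_⟩
  · show ((k ≫ s).stalkMap p).hom.Flat
    rw [hcomp]; exact h1
  · show LocCoh.IsCohenMacaulayLocalRing ((pullback (gI hU₁ (Ideal.ofList fs)) t).presheaf.stalk p ⧸
      (maximalIdeal (U.presheaf.stalk (s x))).map ((k ≫ s).stalkMap p).hom)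
    rw [hcomp]; exact h2
  · show ringKrullDim ((pullback (gI hU₁ (Ideal.ofList fs)) t).presheaf.stalk p ⧸
      (maximalIdeal (U.presheaf.stalk (s x))).map ((k ≫ s).stalkMap p).hom) + _ = _
    rw [hcomp]; exact h3

end Groth.Agent.Helper3.GrpdSl
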