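import Mathlib

set_option autoImplicit false
set_option linter.style.haveILetI false
set_option linter.unusedSectionVars false
set_option linter.unusedVariables false
set_option linter.style.haveILetI false
set_option linter.unusedSectionVars false
set_option linter.unusedVariables false

universe u
open CategoryTheory CategoryTheory.Limits MonoidalCategory CartesianMonoidalCategory MonObj GrpObj AlgebraicGeometry

namespace Groth.Agent.Helper3.QRed

/-- every point of `G` maps to the image of the unit under `p`. -/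
theorem point_eq (k : Type u) [Field k]
    (F G : Over (Spec (CommRingCat.of k))) [GrpObj F] [GrpObj G]
    (u : F ⟶ G) [Surjective u.left]
    (X : Over (Spec (CommRingCat.of k))) (p : G ⟶ X)
    (hw : ((u ▷ G) ≫ μ[G]) ≫ p = (snd F G) ≫ p) (pt0 : (𝟙_ (Over (Spec (CommRingCat.of k)))).left)
    (g : G.left) : p.left g = p.left (η[G].left pt0) := by
  obtain ⟨f, rfl⟩ := u.left.surjective g
  let K := F.left.residueField f
  let a0 : Spec K ⟶ F.left := F.left.fromSpecResidueField f
  let T : Over (Spec (CommRingCat.of k)) := Over.mk (a0 ≫ F.hom)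
  let a : T ⟶ F := Over.homMk a0 rfl
  have h1 : a ≫ u ≫ p = toUnit T ≫ η[G] ≫ p := by
    have := lift a (toUnit T ≫ η[G]) ≫= hw
    simp only [Category.assoc, lift_whiskerRight_assoc, lift_snd_assoc] at this
    rw [← Category.assoc _ μ[G], lift_comp_one_right] at this
    simpa using this
  let t : T.left := IsLocalRing.closedPoint K
  have h2 := congrArg (fun φ => φ.left t) h1
  simp only [Over.comp_left, Scheme.Hom.comp_apply] at h2
  have h3 : a.left t = f := Scheme.fromSpecResidueField_apply _ _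
  rw [h3] at h2
  rw [h2]
  congr 2
  exact Subsingleton.elim (α := PrimeSpectrum k) _ _


theorem isAffine_of_point (X : Scheme.{u}) (x0 : X) (h : ∀ x : X, x = x0) : IsAffine X := by
  obtain ⟨U, hU, hxU, -⟩ := exists_isAffineOpen_mem_and_subset (x := x0) (U := ⊤) trivial
  have hUtop : U = ⊤ := by
    refine top_le_iff.mp fun x _ => ?_
    rw [h x]; exact hxU
  subst hUtop
  haveI : IsAffine (⊤ : X.Opens).toScheme := hU
  exact IsAffine.of_isIso (Scheme.topIso X).inv

theorem isIso_residue {S X : Scheme.{u}} (f : X ⟶ S) (s : S ⟶ X) (hs : s ≫ f = 𝟙 S) (pt : S) :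
    IsIso (f.residueFieldMap (s pt)) := by
  haveI h1 : IsIso (s ≫ f) := by rw [hs]; infer_instance
  haveI h2 : IsIso ((s ≫ f).residueFieldMap pt) := inferInstance
  rw [Scheme.residueFieldMap_comp] at h2
  -- s.residueFieldMap pt is a mono (field hom)
  haveI h3 : Mono (s.residueFieldMap pt) := by
    apply ConcreteCategory.mono_of_injective
    exact (s.residueFieldMap pt).hom.injective
  haveI h4 : IsSplitEpi (s.residueFieldMap pt) :=
    IsSplitEpi.mk' ⟨@CategoryTheory.inv _ _ _ _ _ h2 ≫ f.residueFieldMap (s pt),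
      by rw [Category.assoc]; exact @IsIso.inv_hom_id _ _ _ _ _ h2⟩
  haveI h5 : IsIso (s.residueFieldMap pt) := isIso_of_mono_of_isSplitEpi _
  exact @IsIso.of_isIso_comp_right _ _ _ _ _ _ (s.residueFieldMap pt) h5 h2


open TensorProduct in
theorem finite_of_retract {k B C : Type u} [Field k] [CommRing B] [CommRing C] [Algebra k B]
    [Algebra B C] [Module.Flat B C] [IsNoetherianRing C] [Nontrivial C]
    (hB : Subsingleton (PrimeSpectrum B)) (ε : B →+* k) (hε : ∀ c : k, ε (algebraMap k B c) = c) :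
    Module.Finite k B := by
  haveI : Module.FaithfullyFlat B C := by
    apply Module.FaithfullyFlat.of_comap_surjective
    intro P
    obtain ⟨Q⟩ := (inferInstance : Nonempty (PrimeSpectrum C))
    exact ⟨Q, Subsingleton.elim _ _⟩
  haveI hN : IsNoetherianRing B := by
    have h1 : IsNoetherian C (C ⊗[B] B) :=
      isNoetherian_of_linearEquiv (TensorProduct.AlgebraTensorModule.rid B C C).symm
    exact Submodule.IsNoetherian.of_isNoetherian_tensorProduct_of_faithfullyFlat (A := C) (R := B) (M := B) h1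
  -- the kernel of ε is prime
  have hker : (RingHom.ker ε).IsPrime := RingHom.ker_isPrime ε
  have hprime : ∀ I : Ideal B, I.IsPrime → I = RingHom.ker ε := fun I hI => by
    have := Subsingleton.elim (⟨I, hI⟩ : PrimeSpectrum B) ⟨_, hker⟩
    exact congrArg PrimeSpectrum.asIdeal this
  have hmax : ∀ I : Ideal B, I.IsMaximal → I = RingHom.ker ε := fun I hI => hprime I hI.isPrime
  haveI hK : Ring.KrullDimLE 0 B := by
    apply Ring.KrullDimLE.mk₀
    intro I hI
    obtain ⟨M, hM, hIM⟩ := Ideal.exists_le_maximal I hI.ne_top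
    rw [hprime I hI, ← hmax M hM]; exact hM
  haveI hA : IsArtinianRing B := isArtinianRing_iff_isNoetherianRing_krullDimLE_zero.mpr ⟨hN, hK⟩
  haveI : Module.Finite k (B ⧸ Ring.jacobson B) := by
    refine Module.Finite.of_surjective (Algebra.linearMap k (B ⧸ Ring.jacobson B)) ?_
    intro y
    obtain ⟨b, rfl⟩ := Ideal.Quotient.mk_surjective y
    refine ⟨ε b, ?_⟩
    rw [Algebra.linearMap_apply, IsScalarTower.algebraMap_apply k B (B ⧸ Ring.jacobson B),
      Ideal.Quotient.algebraMap_eq, Ideal.Quotient.eq]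
    rw [Ring.jacobson_eq_sInf_isMaximal, Ideal.mem_sInf]
    intro M hM
    rw [hmax M hM, RingHom.mem_ker, map_sub, hε, sub_self]
  exact IsSemiprimaryRing.finite_of_isArtinian k B B


theorem main (k : Type u) [Field k]
    (F G : Over (Spec (CommRingCat.of k))) [GrpObj F] [GrpObj G] [LocallyOfFiniteType G.hom]
    (u : F ⟶ G) [Surjective u.left]
    (X : Over (Spec (CommRingCat.of k))) (p : G ⟶ X) [Flat p.left] [Surjective p.left]
    (hw : ((u ▷ G) ≫ μ[G]) ≫ p = (snd F G) ≫ p) :
    IsAffine X.left ∧ (∃ x : X.left, (Set.univ : Set X.left) = {x} ∧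
        IsIso (X.hom.residueFieldMap x)) ∧
      ((Scheme.ΓSpecIso (CommRingCat.of k)).inv ≫ X.hom.appTop).hom.Finite := by
  let pt0 : (𝟙_ (Over (Spec (CommRingCat.of k)))).left := (default : PrimeSpectrum k)
  let s : 𝟙_ (Over (Spec (CommRingCat.of k))) ⟶ X := η[G] ≫ p
  let x0 : X.left := s.left pt0
  have hall : ∀ x : X.left, x = x0 := fun x => by
    obtain ⟨g, rfl⟩ := p.left.surjective x
    exact point_eq k F G u X p hw pt0 g
  haveI hAff : IsAffine X.left := isAffine_of_point X.left x0 hall
  have hs : s.left ≫ X.hom = 𝟙 _ := Over.w s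
  refine ⟨hAff, ⟨x0, ?_, ?_⟩, ?_⟩
  · ext x; simp [hall x]
  · exact isIso_residue X.hom s.left hs pt0
  · obtain ⟨V, hV, heV, -⟩ :=
      exists_isAffineOpen_mem_and_subset (x := η[G].left pt0) (U := ⊤) trivial
    haveI : IsAffine V.toScheme := hV
    let q : V.toScheme ⟶ X.left := V.ι ≫ p.left
    haveI hq : Flat q := inferInstance
    let φ := q.appTop
    have hφ : φ.hom.Flat := (HasRingHomProperty.iff_of_isAffine (P := @Flat)).mp hq
    let ψ := (Scheme.ΓSpecIso (CommRingCat.of k)).inv ≫ X.hom.appTop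
    letI : Algebra k Γ(X.left, ⊤) := ψ.hom.toAlgebra
    letI : Algebra Γ(X.left, ⊤) Γ(V.toScheme, ⊤) := φ.hom.toAlgebra
    haveI : Module.Flat Γ(X.left, ⊤) Γ(V.toScheme, ⊤) := hφ
    haveI : IsLocallyNoetherian G.left := LocallyOfFiniteType.isLocallyNoetherian G.hom
    haveI : IsLocallyNoetherian V.toScheme := isLocallyNoetherian_of_isOpenImmersion V.ι
    haveI : IsNoetherianRing Γ(V.toScheme, ⊤) :=
      IsLocallyNoetherian.component_noetherian ⟨⊤, isAffineOpen_top _⟩
    haveI : Nontrivial Γ(V.toScheme, ⊤) :=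
      @Scheme.component_nontrivial V.toScheme ⊤ ⟨⟨⟨_, heV⟩, trivial⟩⟩
    have hB : Subsingleton (PrimeSpectrum Γ(X.left, ⊤)) := ⟨fun P Q => by
      have h1 : X.left.isoSpec.inv (P : ↥(Spec Γ(X.left, ⊤))) = X.left.isoSpec.inv Q :=
        (hall _).trans (hall _).symm
      have h2 := congrArg X.left.isoSpec.hom h1
      have h3 : @Eq (↥(Spec Γ(X.left, ⊤))) P Q := by simpa using h2
      exact h3⟩
    let ε := s.left.appTop ≫ (Scheme.ΓSpecIso (CommRingCat.of k)).hom
    have hψε : ψ ≫ ε = 𝟙 _ := by
      simp only [ψ, ε, Category.assoc]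
      rw [← Category.assoc X.hom.appTop, ← Scheme.Hom.comp_appTop, hs]
      simp
    show Module.Finite k Γ(X.left, ⊤)
    refine finite_of_retract (k := k) (C := Γ(V.toScheme, ⊤)) hB ε.hom (fun c => ?_)
    exact congrArg (fun t => t.hom c) hψε

end Groth.Agent.Helper3.QRed
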