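import Mathlib
import Groth.Agent.Helper3.GrpdSl6
import Groth.Agent.Helper5.FibCodim
import Groth.Agent.Helper5.CMFib1
import Groth.Agent.Helper3.QRed
import Groth.Agent.Helper2.FibBrB

set_option autoImplicit false
set_option linter.style.haveILetI false
set_option linter.unusedSectionVars false
set_option linter.unusedVariables false
set_option linter.deprecated false
set_option linter.style.haveILetI false
set_option linter.unusedSectionVars false
set_option linter.unusedVariables false
universe u
open CategoryTheory CategoryTheory.Limits AlgebraicGeometry TopologicalSpace Topology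

/-!
# Local fibre dimension at a point with trivial residue field extension
-/

namespace Groth.Agent.Helper3.GrpdSl
open IsLocalRing

/-- at a point with trivial residue field extension the local dimension of the fibre is the
dimension of the fibre local ring -/
theorem fibreDimAt_eq_dim {X Y : Scheme.{u}} (f : X ⟶ Y) [LocallyOfFiniteType f] (x : X)
    (hbij : Function.Bijective (f.residueFieldMap x)) :
    FlatMor.fibreDimAt f x = ringKrullDim (X.presheaf.stalk x ⧸ fibIdeal f x) := by
  obtain ⟨k, n, hk, -, hn, hkn⟩ := Groth.Agent.Helper5.SubDim.fibreDimAt_eq f x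
  obtain ⟨e⟩ := Groth.Agent.Helper5.CMFib.fibre_stalk_equiv' f x
  letI : Algebra (Y.residueField (f x)) (X.residueField x) := (f.residueFieldMap x).hom.toAlgebra
  haveI : Algebra.IsAlgebraic (Y.residueField (f x)) (X.residueField x) := ⟨fun a => by
    obtain ⟨r, rfl⟩ := hbij.2 a
    exact isAlgebraic_algebraMap r⟩
  have h0 : Algebra.trdeg (Y.residueField (f x)) (X.residueField x) = 0 := trdeg_eq_zero
  have hn0 : n = 0 := by
    have : (n : Cardinal) = 0 := hn.symm.trans h0
    exact_mod_cast this
  rw [hkn, hn0, add_zero, ← hk]
  exact (ringKrullDim_eq_of_ringEquiv e).symm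

/-- a section gives trivial residue field extensions -/
theorem bijective_residueFieldMap_section {U R : Scheme.{u}} (s : R ⟶ U) (e : U ⟶ R)
    (he : e ≫ s = 𝟙 U) (u : U) : Function.Bijective (s.residueFieldMap (e u)) := by
  haveI := Groth.Agent.Helper3.QRed.isIso_residue s e he u
  exact ConcreteCategory.bijective_of_isIso (s.residueFieldMap (e u))

/-- precomposing with a morphism which is surjective on stalks does not change the residue field
extension -/
theorem bijective_residueFieldMap_comp_of_surjectiveOnStalks {X R U : Scheme.{u}} (k : X ⟶ R)
    [SurjectiveOnStalks k] (s : R ⟶ U) (p : X)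
    (h : Function.Bijective (s.residueFieldMap (k p))) :
    Function.Bijective ((k ≫ s).residueFieldMap p) := by
  have w : (k ≫ s) ≫ 𝟙 U = k ≫ s := Category.comp_id _
  exact (Groth.Agent.Helper2.FibBr.bijective_residueFieldMap_iff (k ≫ s) (𝟙 U) k s w p).2 h

end Groth.Agent.Helper3.GrpdSl
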