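import Mathlib
import Groth.Agent.Helper2.Grpd23
import Groth.Agent.Helper2.Grpd9

set_option autoImplicit false
set_option linter.style.haveILetI false
set_option linter.unusedSectionVars false
set_option linter.unusedVariables false
set_option linter.deprecated false
set_option linter.style.haveILetI false
set_option linter.unusedSectionVars false
set_option linter.unusedVariables false
universe u
open CategoryTheory CategoryTheory.Limits AlgebraicGeometry TopologicalSpace Topology

/-!
# The stabilizer of a restricted groupoid is the base change of the stabilizer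
-/

namespace Groth.Agent.Helper3.GrpdSl
open Grpd Groth.Agent.Helper2 Groth.Agent.Helper2.Grpd23

section Gen
variable {R U S₀ : Scheme.{u}} (s t : R ⟶ U) (pU : U ⟶ S₀) (h : t ≫ pU = s ≫ pU)

/-- `(t, s)` -/
noncomputable def jj : R ⟶ pullback pU pU := pullback.lift t s h
/-- the diagonal -/
noncomputable def dd : U ⟶ pullback pU pU := pullback.lift (𝟙 U) (𝟙 U) rfl

/-- the stabilizer -/
noncomputable abbrev Stab : Scheme.{u} := pullback (jj s t pU h) (dd pU)
noncomputable abbrev sι : Stab s t pU h ⟶ R := pullback.fst (jj s t pU h) (dd pU)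
noncomputable abbrev sU : Stab s t pU h ⟶ U := pullback.snd (jj s t pU h) (dd pU)

lemma jj_fst : jj s t pU h ≫ pullback.fst pU pU = t := pullback.lift_fst _ _ _
lemma jj_snd : jj s t pU h ≫ pullback.snd pU pU = s := pullback.lift_snd _ _ _
lemma dd_fst : dd pU ≫ pullback.fst pU pU = 𝟙 _ := pullback.lift_fst _ _ _
lemma dd_snd : dd pU ≫ pullback.snd pU pU = 𝟙 _ := pullback.lift_snd _ _ _

lemma sι_t : sι s t pU h ≫ t = sU s t pU h := by
  have h0 := (pullback.condition (f := jj s t pU h) (g := dd pU)) =≫ pullback.fst pU pU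
  simp only [Category.assoc, jj_fst, dd_fst, Category.comp_id] at h0
  exact h0

lemma sι_s : sι s t pU h ≫ s = sU s t pU h := by
  have h0 := (pullback.condition (f := jj s t pU h) (g := dd pU)) =≫ pullback.snd pU pU
  simp only [Category.assoc, jj_snd, dd_snd, Category.comp_id] at h0
  exact h0

lemma stab_hom_ext {T : Scheme.{u}} {a b : T ⟶ Stab s t pU h}
    (e : a ≫ sι s t pU h = b ≫ sι s t pU h) : a = b := by
  apply pullback.hom_ext e
  have : ∀ c : T ⟶ Stab s t pU h, c ≫ sU s t pU h = (c ≫ sι s t pU h) ≫ s := by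
    intro c
    rw [Category.assoc, sι_s]
  rw [this a, this b, e]

/-- constructor for points of the stabilizer -/
noncomputable def stabMk {T : Scheme.{u}} (ρ : T ⟶ R) (e : ρ ≫ s = ρ ≫ t) : T ⟶ Stab s t pU h :=
  pullback.lift ρ (ρ ≫ t) (by
    apply pullback.hom_ext
    · rw [Category.assoc, jj_fst, Category.assoc, dd_fst, Category.comp_id]
    · rw [Category.assoc, jj_snd, Category.assoc, dd_snd, Category.comp_id, e])

lemma stabMk_ι {T : Scheme.{u}} (ρ : T ⟶ R) (e : ρ ≫ s = ρ ≫ t) :
    stabMk s t pU h ρ e ≫ sι s t pU h = ρ := pullback.lift_fst _ _ _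

lemma stabMk_U {T : Scheme.{u}} (ρ : T ⟶ R) (e : ρ ≫ s = ρ ≫ t) :
    stabMk s t pU h ρ e ≫ sU s t pU h = ρ ≫ t := pullback.lift_snd _ _ _

end Gen

variable {S : Scheme.{u}} (G : Grpd.GroupoidScheme S) {U' : Scheme.{u}} (g : U' ⟶ G.U)

lemma hG : G.t ≫ G.pU = G.s ≫ G.pU := G.t_over.trans G.s_over.symm

lemma hG' : t' G g ≫ (g ≫ G.pU) = s' G g ≫ (g ≫ G.pU) := by
  rw [← Category.assoc, ← π_t, Category.assoc, hG, ← Category.assoc, π_s, Category.assoc]

/-- the stabilizer of `G`, unfolded -/
noncomputable abbrev St : Scheme.{u} := Stab G.s G.t G.pU (hG G)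
/-- the stabilizer of the restriction, unfolded -/
noncomputable abbrev St' : Scheme.{u} := Stab (s' G g) (t' G g) (g ≫ G.pU) (hG' G g)

noncomputable abbrev ι₀ : St G ⟶ G.R := sι G.s G.t G.pU (hG G)
noncomputable abbrev u₀ : St G ⟶ G.U := sU G.s G.t G.pU (hG G)
noncomputable abbrev ι₁ : St' G g ⟶ R' G g := sι (s' G g) (t' G g) (g ≫ G.pU) (hG' G g)
noncomputable abbrev u₁ : St' G g ⟶ U' := sU (s' G g) (t' G g) (g ≫ G.pU) (hG' G g)

/-- stabilizer of the restriction → base change of the stabilizer -/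
noncomputable def stabΦ : St' G g ⟶ pullback (u₀ G) g :=
  pullback.lift
    (stabMk G.s G.t G.pU (hG G) (ι₁ G g ≫ π G g) (by
      rw [Category.assoc, Category.assoc, π_s, π_t, ← Category.assoc, ← Category.assoc,
        sι_s, sι_t]))
    (u₁ G g) (by
      rw [stabMk_U, Category.assoc, π_t, ← Category.assoc, sι_t])

/-- base change of the stabilizer → stabilizer of the restriction -/
noncomputable def stabΨ : pullback (u₀ G) g ⟶ St' G g :=
  stabMk (s' G g) (t' G g) (g ≫ G.pU) (hG' G g)
    (mk (pullback.snd (u₀ G) g) (pullback.fst (u₀ G) g ≫ ι₀ G) (pullback.snd (u₀ G) g)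
      (by rw [Category.assoc, sι_t, pullback.condition])
      (by rw [Category.assoc, sι_s, pullback.condition]))
    (by rw [mk_s, mk_t])

lemma stabΦ_fst_ι : stabΦ G g ≫ pullback.fst (u₀ G) g ≫ ι₀ G = ι₁ G g ≫ π G g := by
  unfold stabΦ
  rw [← Category.assoc, pullback.lift_fst, stabMk_ι]

lemma stabΦ_snd : stabΦ G g ≫ pullback.snd (u₀ G) g = u₁ G g := pullback.lift_snd _ _ _

lemma stabΨ_ι : stabΨ G g ≫ ι₁ G g =
    mk (pullback.snd (u₀ G) g) (pullback.fst (u₀ G) g ≫ ι₀ G) (pullback.snd (u₀ G) g)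
      (by rw [Category.assoc, sι_t, pullback.condition])
      (by rw [Category.assoc, sι_s, pullback.condition]) := stabMk_ι _ _ _ _ _ _

lemma stabΨ_U : stabΨ G g ≫ u₁ G g = pullback.snd (u₀ G) g := by
  unfold stabΨ
  rw [stabMk_U, mk_t]

lemma stabΦ_Ψ : stabΦ G g ≫ stabΨ G g = 𝟙 _ := by
  apply stab_hom_ext
  rw [Category.assoc, stabΨ_ι, Category.id_comp, comp_mk]
  apply hom_ext'
  · rw [mk_t, stabΦ_snd, sι_t]
  · rw [mk_π, stabΦ_fst_ι]
  · rw [mk_s, stabΦ_snd, sι_s]

lemma stabΨ_Φ : stabΨ G g ≫ stabΦ G g = 𝟙 _ := by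
  apply pullback.hom_ext
  · apply stab_hom_ext
    rw [Category.assoc, Category.assoc, stabΦ_fst_ι, ← Category.assoc, stabΨ_ι, mk_π,
      Category.id_comp]
  · rw [Category.assoc, stabΦ_snd, stabΨ_U, Category.id_comp]

/-- the stabilizer of the restriction is the base change of the stabilizer -/
noncomputable def stabIso : St' G g ≅ pullback (u₀ G) g :=
  ⟨stabΦ G g, stabΨ G g, stabΦ_Ψ G g, stabΨ_Φ G g⟩

theorem topologicalKrullDim_stabilizer_restrict :
    topologicalKrullDim ↥(restrict G g).stabilizer =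
      topologicalKrullDim ↥(pullback G.stabilizerToU g) := by
  show topologicalKrullDim ↥(St' G g) = topologicalKrullDim ↥(pullback (u₀ G) g)
  exact IsHomeomorph.topologicalKrullDim_eq _ (Scheme.homeoOfIso (stabIso G g)).isHomeomorph

end Groth.Agent.Helper3.GrpdSl
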