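import Mathlib
import Groth.Agent.Helper3.GrpdSl7
import Groth.Agent.Helper3.GrpdSl8
import Groth.Agent.S1883
import Groth.Agent.S1887

set_option autoImplicit false
set_option linter.style.haveILetI false
set_option linter.unusedSectionVars false
set_option linter.unusedVariables false
set_option linter.deprecated false
set_option linter.style.haveILetI false
set_option linter.unusedSectionVars false
set_option linter.unusedVariables false
universe u
open CategoryTheory CategoryTheory.Limits AlgebraicGeometry TopologicalSpace Topology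

/-!
# The dimension of the stabilizer at a finite type point, in terms of the local ring at `e(u)`
-/

namespace Groth.Agent.Helper3.GrpdSl
open Grpd Groth.Agent.Helper2 Groth.Agent.Helper2.Grpd23 IsLocalRing

variable {S : Scheme.{u}} (G : Grpd.GroupoidScheme S) [LocallyOfFinitePresentation G.s]
  [LocallyOfFinitePresentation G.t]

set_option maxHeartbeats 16000000 in
/-- `dim O_{R,e(u)}/(s(𝔪) + t(𝔪)) = dim G_u` at a finite type point `u` -/
theorem dim_double_fibre (u : G.U) (hu : LocallyOfFiniteType (G.U.fromSpecResidueField u)) :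
    ringKrullDim (G.R.presheaf.stalk (G.e u) ⧸ (fibIdeal G.s (G.e u) ⊔ fibIdeal G.t (G.e u))) =
      topologicalKrullDim ↥(G.stabilizerToU.fiber u) := by
  let g₀ := G.U.fromSpecResidueField u
  haveI : LocallyOfFiniteType g₀ := hu
  let G₀ := restrict G g₀
  let h₀ : pullback g₀ G.t ⟶ G.U := pullback.snd g₀ G.t ≫ G.s
  haveI : LocallyOfFiniteType h₀ := inferInstance
  haveI hs₀ : LocallyOfFiniteType G₀.s := by
    show LocallyOfFiniteType (pullback.snd h₀ g₀)
    infer_instance
  haveI ht₀ : LocallyOfFiniteType G₀.t := by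
    show LocallyOfFiniteType (pullback.fst h₀ g₀ ≫ pullback.fst g₀ G.t)
    infer_instance
  let eU : G₀.U ≅ Spec (CommRingCat.of (G.U.residueField u)) := Iso.refl _
  have h1883 := Groth.Agent.S1883.result S G₀ (G.U.residueField u) eU
  haveI : Subsingleton ↥G₀.U :=
    inferInstanceAs (Subsingleton (PrimeSpectrum (G.U.residueField u)))
  let pt : ↥G₀.U := (IsLocalRing.closedPoint (G.U.residueField u) : PrimeSpectrum (G.U.residueField u))
  let r'' : ↥G₀.R := G₀.e pt
  have hclosed : IsClosed ({r''} : Set ↥G₀.R) := by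
    haveI : IsClosedImmersion G₀.e := isClosedImmersion_of_comp_eq_id G₀.s G₀.e G₀.e_s
    have h := G₀.e.isClosedEmbedding.isClosed_range
    have h2 : Set.range G₀.e = {r''} := by
      ext y
      constructor
      · rintro ⟨z, rfl⟩
        rw [Subsingleton.elim z pt]; rfl
      · rintro rfl
        exact ⟨pt, rfl⟩
    rwa [h2] at h
  have h1887 := Groth.Agent.S1887.result S G₀ (G.U.residueField u) eU r'' hclosed
  have hstab := topologicalKrullDim_stabilizer_restrict G g₀
  -- the local ring at `r''`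
  let z : ↥(h₀.fiber u) := r''
  let p₀ : ↥(pullback g₀ G.t) := h₀.fiberι u z
  obtain ⟨e₁⟩ := Groth.Agent.Helper5.CMFib.fibre_stalk_equiv h₀ u z p₀ rfl
  let k₀ := pullback.snd g₀ G.t
  let x₀ : ↥G.R := k₀ p₀
  obtain ⟨hsurj, hker⟩ := stalk_pullback_residue u G.t p₀
  have hcomp : (h₀.stalkMap p₀).hom = (k₀.stalkMap p₀).hom.comp (G.s.stalkMap x₀).hom := by
    rw [Scheme.Hom.stalkMap_comp]; rfl
  have hmap : Ideal.map (h₀.stalkMap p₀).hom (maximalIdeal (G.U.presheaf.stalk (h₀ p₀))) =
      (fibIdeal G.s x₀).map (k₀.stalkMap p₀).hom := by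
    rw [hcomp, Ideal.map_map]
    rfl
  let e₂ := quotMapEquiv (k₀.stalkMap p₀).hom hsurj (fibIdeal G.s x₀)
  have hsup : RingHom.ker (k₀.stalkMap p₀).hom ⊔ fibIdeal G.s x₀ =
      fibIdeal G.s x₀ ⊔ fibIdeal G.t x₀ := by
    rw [hker, sup_comm]
  have hdim : ringKrullDim (G.R.presheaf.stalk x₀ ⧸ (fibIdeal G.s x₀ ⊔ fibIdeal G.t x₀)) =
      topologicalKrullDim ↥(G.stabilizerToU.fiber u) := by
    rw [← ringKrullDim_eq_of_ringEquiv (Ideal.quotEquivOfEq hsup),
      ← ringKrullDim_eq_of_ringEquiv e₂,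
      ← ringKrullDim_eq_of_ringEquiv (Ideal.quotEquivOfEq hmap),
      ringKrullDim_eq_of_ringEquiv e₁]
    show ringKrullDim (G₀.R.presheaf.stalk r'') = _
    rw [h1887, h1883, hstab]
    rfl
  have hx₀ : x₀ = G.e u := by
    show (pullback.snd g₀ G.t) ((pullback.fst h₀ g₀) (G₀.e pt)) = G.e u
    have h1 : (e' G g₀ ≫ π G g₀) pt = (g₀ ≫ G.e) pt := by rw [e'_π]
    have h2 : g₀ pt = u := Scheme.fromSpecResidueField_apply u _
    rw [Scheme.Hom.comp_apply, Scheme.Hom.comp_apply, h2] at h1
    exact h1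
  rw [← hx₀]
  exact hdim

end Groth.Agent.Helper3.GrpdSl
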