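import Mathlib
import Groth.Agent.Helper3.GrpdSl9

set_option autoImplicit false
set_option linter.style.haveILetI false
set_option linter.unusedSectionVars false
set_option linter.unusedVariables false
set_option linter.deprecated false
set_option linter.style.haveILetI false
set_option linter.unusedSectionVars false
set_option linter.unusedVariables false
universe u
open CategoryTheory CategoryTheory.Limits AlgebraicGeometry TopologicalSpace Topology

/-!
# Slicing a groupoid at `e(u)` by a list of functions near `u`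
-/

namespace Groth.Agent.Helper3.GrpdSl
open Grpd IsLocalRing RingTheory.Sequence

section TG
variable {U R : Scheme.{u}} (s t : R ⟶ U) {U₁ : U.Opens} (hU₁ : IsAffineOpen U₁)

/-- pull-back of functions on `U₁` to the local ring at `r` along `t` -/
noncomputable def tG (r : R) (hr : t r ∈ U₁) : Γ(U, U₁) →+* R.presheaf.stalk r :=
  (t.stalkMap r).hom.comp (U.presheaf.germ U₁ (t r) hr).hom

lemma map_tG (r : R) (hr : t r ∈ U₁) :
    (hU₁.primeIdealOf ⟨t r, hr⟩).asIdeal.map (tG t r hr) = fibIdeal t r := by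
  unfold tG fibIdeal
  rw [← Ideal.map_map]
  congr 1
  letI : Algebra Γ(U, U₁) (U.presheaf.stalk (t r)) := (U.presheaf.germ U₁ (t r) hr).hom.toAlgebra
  haveI := hU₁.isLocalization_stalk ⟨t r, hr⟩
  exact IsLocalization.AtPrime.map_eq_maximalIdeal (hU₁.primeIdealOf ⟨t r, hr⟩).asIdeal
    (U.presheaf.stalk (t r))

/-- the "double fibre ring" as a quotient of the fibre ring of `s` -/
noncomputable def doubleQuotEquiv (r : R) (hr : t r ∈ U₁) :
    ((R.presheaf.stalk r ⧸ fibIdeal s r) ⧸ (hU₁.primeIdealOf ⟨t r, hr⟩).asIdeal.map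
      ((Ideal.Quotient.mk (fibIdeal s r)).comp (tG t r hr))) ≃+*
      (R.presheaf.stalk r ⧸ (fibIdeal s r ⊔ fibIdeal t r)) :=
  (Ideal.quotEquivOfEq (by rw [← Ideal.map_map, map_tG])).trans
    (DoubleQuot.quotQuotEquivQuotSup (fibIdeal s r) (fibIdeal t r))

lemma map_le_maximalIdeal (r : R) (hr : t r ∈ U₁)
    [IsLocalRing (R.presheaf.stalk r ⧸ fibIdeal s r)] :
    (hU₁.primeIdealOf ⟨t r, hr⟩).asIdeal.map
      ((Ideal.Quotient.mk (fibIdeal s r)).comp (tG t r hr)) ≤
      maximalIdeal (R.presheaf.stalk r ⧸ fibIdeal s r) := by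
  rw [← Ideal.map_map, map_tG]
  have hle : fibIdeal t r ≤ maximalIdeal (R.presheaf.stalk r) := by
    have h0 : IsLocalHom (t.stalkMap r).hom := inferInstance
    exact ((IsLocalRing.local_hom_TFAE (t.stalkMap r).hom).out 0 2).1 h0
  rw [Ideal.map_le_iff_le_comap]
  intro a ha
  rw [Ideal.mem_comap]
  haveI : IsLocalHom (Ideal.Quotient.mk (fibIdeal s r)) :=
    IsLocalHom.of_surjective _ Ideal.Quotient.mk_surjective
  intro hu
  exact hle ha (isUnit_of_map_unit (Ideal.Quotient.mk (fibIdeal s r)) a hu)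

/-- transport of the regularity hypothesis along an equality of points -/
lemma wr_transport (fs : List Γ(U, U₁)) (r r' : R) (e : r = r') (hr : t r ∈ U₁) (hr' : t r' ∈ U₁)
    (h : IsWeaklyRegular (R.presheaf.stalk r ⧸ fibIdeal s r)
      ((fs.map (tG t r hr)).map (Ideal.Quotient.mk (fibIdeal s r)))) :
    IsWeaklyRegular (R.presheaf.stalk r' ⧸ fibIdeal s r')
      ((fs.map (tG t r' hr')).map (Ideal.Quotient.mk (fibIdeal s r'))) := by
  subst e
  exact h

lemma dim_transport (r r' : R) (e : r = r') :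
    ringKrullDim (R.presheaf.stalk r ⧸ fibIdeal s r) =
      ringKrullDim (R.presheaf.stalk r' ⧸ fibIdeal s r') := by
  subst e; rfl

end TG

variable {S : Scheme.{u}} (G : Grpd.GroupoidScheme S) [LocallyOfFinitePresentation G.s]
  [LocallyOfFinitePresentation G.t]

lemma e_t_apply (u : G.U) : G.t (G.e u) = u := by
  rw [← Scheme.Hom.comp_apply, G.e_t]; rfl

lemma e_s_apply (u : G.U) : G.s (G.e u) = u := by
  rw [← Scheme.Hom.comp_apply, G.e_s]; rfl

instance lfp_gI {U : Scheme.{u}} {U₁ : U.Opens} (hU₁ : IsAffineOpen U₁) (fs : List Γ(U, U₁)) :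
    LocallyOfFinitePresentation (gI hU₁ (Ideal.ofList fs)) := by
  unfold gI
  haveI : LocallyOfFinitePresentation
      (Spec.map (CommRingCat.ofHom (Ideal.Quotient.mk (Ideal.ofList fs)))) := by
    rw [HasRingHomProperty.Spec_iff (P := @LocallyOfFinitePresentation)]
    exact RingHom.FinitePresentation.of_surjective _ Ideal.Quotient.mk_surjective
      (by
        show (RingHom.ker (Ideal.Quotient.mk (Ideal.ofList fs))).FG
        rw [Ideal.mk_ker]; exact Submodule.fg_span (List.finite_toSet fs))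
  haveI : IsOpenImmersion hU₁.fromSpec := inferInstance
  infer_instance

set_option maxHeartbeats 16000000 in
/-- **slicing a groupoid at `e(u)`** by the closed subscheme `V(fs)` of an affine neighbourhood of
`u`, for `fs` whose `t`-pull-backs form a regular sequence on the fibre ring of `s` at `e(u)` -/
theorem slice_main (hs : ∀ r, Grpd.IsCMAt G.s r) (u : G.U) {U₁ : G.U.Opens}
    (hU₁ : IsAffineOpen U₁) (hu₁ : G.t (G.e u) ∈ U₁) (fs : List Γ(G.U, U₁))
    (hfs : ∀ f ∈ fs, f ∈ (hU₁.primeIdealOf ⟨G.t (G.e u), hu₁⟩).asIdeal)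
    (hwr : IsWeaklyRegular (G.R.presheaf.stalk (G.e u) ⧸ fibIdeal G.s (G.e u))
      ((fs.map (tG G.t (G.e u) hu₁)).map (Ideal.Quotient.mk (fibIdeal G.s (G.e u))))) :
    ∃ (u' : ↥(Spec (CommRingCat.of (Γ(G.U, U₁) ⧸ Ideal.ofList fs))))
      (p : ↥(pullback (gI hU₁ (Ideal.ofList fs)) G.t)),
      gI hU₁ (Ideal.ofList fs) u' = u ∧
      pullback.fst (gI hU₁ (Ideal.ofList fs)) G.t p = u' ∧
      pullback.snd (gI hU₁ (Ideal.ofList fs)) G.t p = G.e u ∧
      Grpd.IsCMAt (pullback.snd (gI hU₁ (Ideal.ofList fs)) G.t ≫ G.s) p ∧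
      FlatMor.fibreDimAt (pullback.snd (gI hU₁ (Ideal.ofList fs)) G.t ≫ G.s) p +
        (fs.length : WithBot ℕ∞) = FlatMor.fibreDimAt G.s (G.e u) := by
  set I := Ideal.ofList fs with hI
  let 𝔭 := hU₁.primeIdealOf ⟨G.t (G.e u), hu₁⟩
  have hI𝔭 : I ≤ 𝔭.asIdeal := Ideal.span_le.mpr (fun f hf => hfs f hf)
  have hker : RingHom.ker (Ideal.Quotient.mk I) ≤ 𝔭.asIdeal := by rw [Ideal.mk_ker]; exact hI𝔭
  haveI : (𝔭.asIdeal.map (Ideal.Quotient.mk I)).IsPrime :=
    Ideal.map_isPrime_of_surjective Ideal.Quotient.mk_surjective hker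
  let u' : ↥(Spec (CommRingCat.of (Γ(G.U, U₁) ⧸ I))) :=
    (⟨𝔭.asIdeal.map (Ideal.Quotient.mk I), inferInstance⟩ : PrimeSpectrum (Γ(G.U, U₁) ⧸ I))
  have hu'1 : Spec.map (CommRingCat.ofHom (Ideal.Quotient.mk I)) u' = 𝔭 := by
    apply PrimeSpectrum.ext
    show (𝔭.asIdeal.map (Ideal.Quotient.mk I)).comap (Ideal.Quotient.mk I) = 𝔭.asIdeal
    rw [Ideal.comap_map_of_surjective _ Ideal.Quotient.mk_surjective, ← RingHom.ker_eq_comap_bot,
      sup_eq_left.mpr hker]
  have hgu' : gI hU₁ I u' = G.t (G.e u) := by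
    show hU₁.fromSpec (Spec.map (CommRingCat.ofHom (Ideal.Quotient.mk I)) u') = _
    rw [hu'1]
    exact hU₁.fromSpec_primeIdealOf ⟨G.t (G.e u), hu₁⟩
  obtain ⟨p, hp1, hp2⟩ := Scheme.Pullback.exists_preimage_pullback (f := gI hU₁ I) (g := G.t)
    u' (G.e u) hgu'
  refine ⟨u', p, hgu'.trans (e_t_apply G u), hp1, hp2, ?_⟩
  have hwr' := wr_transport G.s G.t fs (G.e u) _ hp2.symm hu₁ (snd_mem hU₁ I G.t p) hwr
  obtain ⟨hcm, hdim⟩ := slice_at G.s G.t hU₁ fs p (hs _) hwr'
  refine ⟨hcm, ?_⟩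
  haveI : LocallyOfFiniteType (pullback.snd (gI hU₁ I) G.t ≫ G.s) := inferInstance
  have hb1 : Function.Bijective (G.s.residueFieldMap (G.e u)) :=
    bijective_residueFieldMap_section G.s G.e G.e_s u
  have hb2 : Function.Bijective (G.s.residueFieldMap (pullback.snd (gI hU₁ I) G.t p)) :=
    (Groth.Agent.Helper2.FibBr.bijective_residueFieldMap_congr' G.s hp2).2 hb1
  have hb3 := bijective_residueFieldMap_comp_of_surjectiveOnStalks
    (pullback.snd (gI hU₁ I) G.t) G.s p hb2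
  rw [fibreDimAt_eq_dim _ p hb3, fibreDimAt_eq_dim G.s (G.e u) hb1,
    ← dim_transport G.s _ _ hp2]
  exact hdim

end Groth.Agent.Helper3.GrpdSl
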