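import Mathlib
import Groth.Agent.Helper3.GrpdSl10

set_option autoImplicit false
set_option linter.style.haveILetI false
set_option linter.unusedSectionVars false
set_option linter.unusedVariables false
set_option linter.deprecated false
set_option linter.style.haveILetI false
set_option linter.unusedSectionVars false
set_option linter.unusedVariables false
universe u
open CategoryTheory CategoryTheory.Limits AlgebraicGeometry TopologicalSpace Topology

/-!
# S7506: one step of slicing a groupoid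
-/

namespace Groth.Agent.Helper3.GrpdSl
open Grpd IsLocalRing RingTheory.Sequence

variable {S : Scheme.{u}} (G : Grpd.GroupoidScheme S) [LocallyOfFinitePresentation G.s]
  [LocallyOfFinitePresentation G.t]

/-- the two dimensions `d₂ = dim_{e(u)} F_u` and `d₁ = dim G_u` in terms of the local ring at
`e(u)` -/
theorem dims (hs : ∀ r, Grpd.IsCMAt G.s r) (u : G.U)
    (hu : LocallyOfFiniteType (G.U.fromSpecResidueField u)) {U₁ : G.U.Opens}
    (hU₁ : IsAffineOpen U₁) (hu₁ : G.t (G.e u) ∈ U₁) :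
    ringKrullDim (G.R.presheaf.stalk (G.e u) ⧸ fibIdeal G.s (G.e u)) =
        FlatMor.fibreDimAt G.s (G.e u) ∧
      ringKrullDim ((G.R.presheaf.stalk (G.e u) ⧸ fibIdeal G.s (G.e u)) ⧸
        (hU₁.primeIdealOf ⟨G.t (G.e u), hu₁⟩).asIdeal.map
          ((Ideal.Quotient.mk (fibIdeal G.s (G.e u))).comp (tG G.t (G.e u) hu₁))) =
        topologicalKrullDim ↥(G.stabilizerToU.fiber u) := by
  constructor
  · have hb1 : Function.Bijective (G.s.residueFieldMap (G.e u)) :=
      bijective_residueFieldMap_section G.s G.e G.e_s u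
    exact (fibreDimAt_eq_dim G.s (G.e u) hb1).symm
  · rw [ringKrullDim_eq_of_ringEquiv (doubleQuotEquiv G.s G.t hU₁ (G.e u) hu₁)]
    exact dim_double_fibre G u hu

set_option maxHeartbeats 16000000 in
theorem s7506 (hs : ∀ r : G.R, Grpd.IsCMAt G.s r) (ht : ∀ r : G.R, Grpd.IsCMAt G.t r) (u : G.U)
    (hu : LocallyOfFiniteType (G.U.fromSpecResidueField u))
    (hd : topologicalKrullDim ↥(G.stabilizerToU.fiber u) < FlatMor.fibreDimAt G.s (G.e u)) :
    ∃ (U' : Scheme.{u}) (_ : IsAffine U') (g : U' ⟶ G.U) (u' : U') (p : ↑(pullback g G.t)),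
      IsImmersion g ∧ LocallyOfFinitePresentation g ∧ g u' = u ∧ pullback.fst g G.t p = u' ∧
      pullback.snd g G.t p = G.e u ∧ Grpd.IsCMAt (pullback.snd g G.t ≫ G.s) p ∧
      FlatMor.fibreDimAt (pullback.snd g G.t ≫ G.s) p + 1 = FlatMor.fibreDimAt G.s (G.e u) := by
  obtain ⟨U₁, hU₁, hu₁, -⟩ := (Opens.isBasis_iff_nbhd.1 G.U.isBasis_affineOpens)
    (show G.t (G.e u) ∈ (⊤ : G.U.Opens) from trivial)
  have hCM := (hs (G.e u)).2
  haveI : IsNoetherianRing (G.R.presheaf.stalk (G.e u) ⧸ fibIdeal G.s (G.e u)) := hCM.1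
  haveI : IsLocalRing (G.R.presheaf.stalk (G.e u) ⧸ fibIdeal G.s (G.e u)) := hCM.2
  obtain ⟨hd2, hd1⟩ := dims G hs u hu hU₁ hu₁
  have hlt : ringKrullDim ((G.R.presheaf.stalk (G.e u) ⧸ fibIdeal G.s (G.e u)) ⧸
        (hU₁.primeIdealOf ⟨G.t (G.e u), hu₁⟩).asIdeal.map
          ((Ideal.Quotient.mk (fibIdeal G.s (G.e u))).comp (tG G.t (G.e u) hu₁))) <
      ringKrullDim (G.R.presheaf.stalk (G.e u) ⧸ fibIdeal G.s (G.e u)) := by
    rw [hd1, hd2]; exact hd
  obtain ⟨f, hf𝔪, hreg⟩ := exists_smulRegular_of_dim_lt hCM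
    ((Ideal.Quotient.mk (fibIdeal G.s (G.e u))).comp (tG G.t (G.e u) hu₁))
    (hU₁.primeIdealOf ⟨G.t (G.e u), hu₁⟩).asIdeal hlt
  have hwr : IsWeaklyRegular (G.R.presheaf.stalk (G.e u) ⧸ fibIdeal G.s (G.e u))
      (([f].map (tG G.t (G.e u) hu₁)).map (Ideal.Quotient.mk (fibIdeal G.s (G.e u)))) := by
    show IsWeaklyRegular _ [Ideal.Quotient.mk (fibIdeal G.s (G.e u)) (tG G.t (G.e u) hu₁ f)]
    rw [isWeaklyRegular_singleton_iff]
    exact hreg
  obtain ⟨u', p, h1, h2, h3, h4, h5⟩ := slice_main G hs u hU₁ hu₁ [f]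
    (by intro a ha; rw [List.mem_singleton] at ha; rw [ha]; exact hf𝔪) hwr
  refine ⟨_, inferInstance, gI hU₁ (Ideal.ofList [f]), u', p, inferInstance, inferInstance,
    h1, h2, h3, h4, ?_⟩
  rw [← h5]
  simp

end Groth.Agent.Helper3.GrpdSl
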