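import Mathlib
import Groth.Agent.Helper3.GrpdCM1
import Groth.Agent.Helper5.FibDim7
import Groth.Agent.Helper5.EtFib
import Groth.Agent.Helper5.BCMin13
import Groth.Agent.Helper5.GenFib3
import Groth.Agent.Helper5.CMBC1

set_option autoImplicit false
set_option linter.style.haveILetI false
set_option linter.unusedSectionVars false
set_option linter.unusedVariables false
set_option linter.deprecated false
set_option linter.style.haveILetI false
set_option linter.unusedSectionVars false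
set_option linter.unusedVariables false
universe u
open CategoryTheory CategoryTheory.Limits AlgebraicGeometry TopologicalSpace Topology

/-!
# Invariance of the locus "Cohen–Macaulay with fibres of local dimension ≤ d"
-/

namespace Groth.Agent.Helper3.GrpdSl
open Groth.Agent.Helper3.GrpdCM

/-- locally of finite presentation, Cohen–Macaulay at every point, with all local fibre
dimensions at most `d` -/
def Pd (d : WithBot ℕ∞) : MorphismProperty Scheme.{u} := fun X Y f =>
  LocallyOfFinitePresentation f ∧ ∀ x : X, MoreMor.IsCMAt f x ∧ FlatMor.fibreDimAt f x ≤ d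

instance (d : WithBot ℕ∞) : (Pd.{u} d).RespectsIso := by
  apply MorphismProperty.RespectsIso.mk
  · intro X Y Z e f hf
    haveI := hf.1
    refine ⟨inferInstance, fun x => ⟨?_, ?_⟩⟩
    · exact (Groth.Agent.Helper3.CMSlice.isCMAt_openImmersion e.hom f x).2 (hf.2 _).1
    · rw [Groth.Agent.Helper5.EtFib.fibreDimAt_etale_comp e.hom f x]
      exact (hf.2 _).2
  · intro X Y Z e f hf
    haveI := hf.1
    refine ⟨inferInstance, fun x => ⟨?_, ?_⟩⟩
    · exact (Groth.Agent.Helper5.SyntLC.isCMAt_comp_openImmersion f e.hom x).2 (hf.2 x).1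
    · rw [← Groth.Agent.Helper5.GenFib.fibreDimAt_comp_mono f e.hom x]
      exact (hf.2 x).2

/-- the locus "Cohen–Macaulay with local fibre dimension ≤ d" as an open -/
noncomputable def Wd (d : WithBot ℕ∞) {X Y : Scheme.{u}} (f : X ⟶ Y)
    (hf : LocallyOfFinitePresentation f) : X.Opens :=
  ⟨{x | MoreMor.IsCMAt f x ∧ FlatMor.fibreDimAt f x ≤ d},
    (Groth.Agent.Helper5.CMAff.s4961 f).inter
      (Groth.Agent.Helper5.FibDim.isOpen_fibreDimAt_le f d)⟩

theorem mem_Wd (d : WithBot ℕ∞) {X Y : Scheme.{u}} (f : X ⟶ Y)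
    (hf : LocallyOfFinitePresentation f) (x : X) :
    x ∈ Wd d f hf ↔ MoreMor.IsCMAt f x ∧ FlatMor.fibreDimAt f x ≤ d := Iff.rfl

theorem hWdP (d : WithBot ℕ∞) {X Y : Scheme.{u}} (f : X ⟶ Y)
    (hf : LocallyOfFinitePresentation f) : Pd d ((Wd d f hf).ι ≫ f) := by
  haveI := hf
  refine ⟨inferInstance, fun x => ⟨?_, ?_⟩⟩
  · exact (Groth.Agent.Helper3.CMSlice.isCMAt_openImmersion (Wd d f hf).ι f x).2 x.2.1
  · rw [Groth.Agent.Helper5.EtFib.fibreDimAt_etale_comp (Wd d f hf).ι f x]
    exact x.2.2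

theorem hWdmax (d : WithBot ℕ∞) {X Y : Scheme.{u}} (f : X ⟶ Y)
    (hf : LocallyOfFinitePresentation f) (V : X.Opens) (h : Pd d (V.ι ≫ f)) : V ≤ Wd d f hf := by
  intro x hx
  refine ⟨?_, ?_⟩
  · exact (Groth.Agent.Helper3.CMSlice.isCMAt_openImmersion V.ι f ⟨x, hx⟩).1 (h.2 ⟨x, hx⟩).1
  · have := (h.2 ⟨x, hx⟩).2
    rw [Groth.Agent.Helper5.EtFib.fibreDimAt_etale_comp V.ι f ⟨x, hx⟩] at this
    exact this

theorem hWdbc (d : WithBot ℕ∞) {X Y Y' : Scheme.{u}} (f : X ⟶ Y)
    (hf : LocallyOfFinitePresentation f) (b : Y' ⟶ Y) (hb : Qfl b)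
    (hf' : LocallyOfFinitePresentation (pullback.snd f b)) :
    pullback.fst f b ⁻¹ᵁ Wd d f hf = Wd d (pullback.snd f b) hf' := by
  haveI := hf
  haveI : Flat b := hb.1
  have hc : IsPullback (pullback.fst f b) (pullback.snd f b) f b := IsPullback.of_hasPullback f b
  ext x'
  have hdim := Groth.Agent.Helper5.BCMin.fibreDimAt_of_isPullback f b (pullback.fst f b)
    (pullback.snd f b) hc x'
  constructor
  · rintro ⟨h1, h2⟩
    refine ⟨Groth.Agent.Helper5.CMAff.isCMAt_baseChange f (pullback.snd f b) (pullback.fst f b) b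
      hc x' h1, ?_⟩
    rw [hdim]; exact h2
  · rintro ⟨h1, h2⟩
    have hflat := Groth.Agent.Helper5.CMBC.flat_stalkMap_of_baseChange f (pullback.snd f b)
      (pullback.fst f b) b hc x' (Flat.stalkMap b _) h1.1
    refine ⟨Groth.Agent.Helper5.CMAff.isCMAt_of_baseChange f (pullback.snd f b) (pullback.fst f b) b
      hc x' hflat h1, ?_⟩
    show FlatMor.fibreDimAt f (pullback.fst f b x') ≤ d
    rw [← hdim]; exact h2

/-- **invariance**: the locus "Cohen–Macaulay with local fibre dimension ≤ d" of `h = s ∘ pr₂` is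
the preimage of an open of `U'` -/
theorem exists_open_Wd {S : Scheme.{u}} (G : Grpd.GroupoidScheme S)
    [LocallyOfFinitePresentation G.s] [LocallyOfFinitePresentation G.t] [Flat G.s] [Flat G.t]
    (d : WithBot ℕ∞) {U' : Scheme.{u}} (g : U' ⟶ G.U) [LocallyOfFinitePresentation g] :
    ∃ V : U'.Opens, ∀ q : ↥(pullback g G.t), pullback.fst g G.t q ∈ V ↔
      (MoreMor.IsCMAt (pullback.snd g G.t ≫ G.s) q ∧
        FlatMor.fibreDimAt (pullback.snd g G.t ≫ G.s) q ≤ d) := by
  have hs : Qfl G.s := ⟨inferInstance, inferInstance⟩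
  have ht : Qfl G.t := ⟨inferInstance, inferInstance⟩
  have hh : LocallyOfFinitePresentation (pullback.snd g G.t ≫ G.s) := inferInstance
  obtain ⟨V, hV⟩ := Groth.Agent.S7510.result S G g (Pd d) @LocallyOfFinitePresentation Qfl
    inf_le_right (fun f hf => Wd d f hf) (hWdP d) (hWdmax d) (hWdbc d) hs ht inferInstance hh
  refine ⟨V, fun q => ?_⟩
  have h2 : q ∈ pullback.fst g G.t ⁻¹ᵁ V ↔ q ∈ Wd d (pullback.snd g G.t ≫ G.s) hh := by rw [hV]
  exact h2

end Groth.Agent.Helper3.GrpdSl
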