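import Mathlib
import Groth.Agent.Helper3.GrpdSl12
import Groth.Agent.Helper3.SliceSeq2
import Groth.Agent.Helper2.Grpd23
import Groth.Agent.Helper2.Grpd19

set_option autoImplicit false
set_option linter.style.haveILetI false
set_option linter.unusedSectionVars false
set_option linter.unusedVariables false
set_option linter.deprecated false
set_option linter.style.haveILetI false
set_option linter.unusedSectionVars false
set_option linter.unusedVariables false
universe u
open CategoryTheory CategoryTheory.Limits AlgebraicGeometry TopologicalSpace Topology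

/-!
# Shrinking the slice, and the restricted groupoid
-/

namespace Groth.Agent.Helper3.GrpdSl
open Groth.Agent.Helper3.GrpdCM Groth.Agent.Helper2 Groth.Agent.Helper2.Grpd23

section Psi
variable {U'' U R : Scheme.{u}} (V : U''.Opens) (g'' : U'' ⟶ U) (t : R ⟶ U)

/-- the open immersion `V ×_U R ⟶ U'' ×_U R` -/
noncomputable def ψ : pullback (V.ι ≫ g'') t ⟶ pullback g'' t :=
  pullback.map (V.ι ≫ g'') t g'' t V.ι (𝟙 R) (𝟙 U)
    ((Category.comp_id _).trans rfl) ((Category.comp_id t).trans (Category.id_comp t).symm)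

lemma ψ_snd : ψ V g'' t ≫ pullback.snd g'' t = pullback.snd (V.ι ≫ g'') t :=
  (pullback.lift_snd _ _ _).trans (Category.comp_id _)

lemma ψ_fst : ψ V g'' t ≫ pullback.fst g'' t = pullback.fst (V.ι ≫ g'') t ≫ V.ι :=
  pullback.lift_fst _ _ _

instance : IsOpenImmersion (ψ V g'' t) := by
  have sq := Groth.Agent.Helper3.SliceSeq.isPullback_map V.ι g'' (V.ι ≫ g'') rfl t
  exact MorphismProperty.of_isPullback (P := @IsOpenImmersion) sq inferInstance

lemma ψ_comp (s : R ⟶ U) :
    pullback.snd (V.ι ≫ g'') t ≫ s = ψ V g'' t ≫ (pullback.snd g'' t ≫ s) := by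
  rw [← Category.assoc, ψ_snd]

end Psi

variable {S : Scheme.{u}} (G : Grpd.GroupoidScheme S) [LocallyOfFinitePresentation G.s]
  [LocallyOfFinitePresentation G.t]

/-- **shrinking**: if `h'' = s ∘ pr₂` on `U'' ×_U R` is Cohen–Macaulay with local fibre dimension
`≤ d` at one point `p''`, then this holds at all points after replacing `U''` by a suitable affine
open neighbourhood of `pr₁(p'')` -/
theorem shrink [Flat G.s] [Flat G.t] (d : WithBot ℕ∞) {U'' : Scheme.{u}} (g'' : U'' ⟶ G.U)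
    [LocallyOfFinitePresentation g''] (p'' : ↥(pullback g'' G.t))
    (hp : MoreMor.IsCMAt (pullback.snd g'' G.t ≫ G.s) p'' ∧
      FlatMor.fibreDimAt (pullback.snd g'' G.t ≫ G.s) p'' ≤ d) :
    ∃ (V : U''.Opens) (_ : IsAffineOpen V), pullback.fst g'' G.t p'' ∈ V ∧
      ∀ q : ↥(pullback (Scheme.Opens.ι V ≫ g'') G.t),
        MoreMor.IsCMAt (pullback.snd (Scheme.Opens.ι V ≫ g'') G.t ≫ G.s) q ∧
          FlatMor.fibreDimAt (pullback.snd (Scheme.Opens.ι V ≫ g'') G.t ≫ G.s) q ≤ d := by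
  obtain ⟨W, hW⟩ := exists_open_Wd G d g''
  have hu : pullback.fst g'' G.t p'' ∈ W := (hW p'').2 hp
  obtain ⟨V, hV, huV, hVW⟩ := (Opens.isBasis_iff_nbhd.1 U''.isBasis_affineOpens) hu
  refine ⟨V, hV, huV, fun q => ?_⟩
  have hq : pullback.fst g'' G.t (ψ V g'' G.t q) ∈ W := by
    rw [← Scheme.Hom.comp_apply, ψ_fst, Scheme.Hom.comp_apply]
    exact hVW (pullback.fst (Scheme.Opens.ι V ≫ g'') G.t q).2
  obtain ⟨h1, h2⟩ := (hW _).1 hq
  rw [ψ_comp V g'' G.t G.s]
  refine ⟨(Groth.Agent.Helper3.CMSlice.isCMAt_openImmersion (ψ V g'' G.t) _ q).2 h1, ?_⟩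
  rw [Groth.Agent.Helper5.EtFib.fibreDimAt_etale_comp (ψ V g'' G.t) _ q]
  exact h2

/-- the local fibre dimension at a point of the shrunk slice -/
theorem fibreDimAt_shrink {U'' : Scheme.{u}} (g'' : U'' ⟶ G.U) [IsPreimmersion g'']
    (V : U''.Opens) (p'' : ↥(pullback g'' G.t)) (p : ↥(pullback (V.ι ≫ g'') G.t))
    (hpp : pullback.snd (V.ι ≫ g'') G.t p = pullback.snd g'' G.t p'') :
    FlatMor.fibreDimAt (pullback.snd (V.ι ≫ g'') G.t ≫ G.s) p =
      FlatMor.fibreDimAt (pullback.snd g'' G.t ≫ G.s) p'' := by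
  have hinj : Function.Injective (pullback.snd g'' G.t) :=
    (pullback.snd g'' G.t).isEmbedding.injective
  have h1 : ψ V g'' G.t p = p'' := by
    apply hinj
    rw [← Scheme.Hom.comp_apply, ψ_snd]
    exact hpp
  rw [ψ_comp V g'' G.t G.s, Groth.Agent.Helper5.EtFib.fibreDimAt_etale_comp (ψ V g'' G.t) _ p, h1]

/-- the source and target of the restricted groupoid inherit "Cohen–Macaulay with local fibre
dimension ≤ d" from `h = s ∘ pr₂` -/
theorem restrict_props (d : WithBot ℕ∞) {U' : Scheme.{u}} (g : U' ⟶ G.U)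
    [LocallyOfFinitePresentation g]
    (hh : ∀ q : ↥(pullback g G.t), MoreMor.IsCMAt (pullback.snd g G.t ≫ G.s) q ∧
      FlatMor.fibreDimAt (pullback.snd g G.t ≫ G.s) q ≤ d) :
    (∀ q, MoreMor.IsCMAt (pullback.snd (pullback.snd g G.t ≫ G.s) g) q ∧
      FlatMor.fibreDimAt (pullback.snd (pullback.snd g G.t ≫ G.s) g) q ≤ d) ∧
    (∀ q, MoreMor.IsCMAt (pullback.fst (pullback.snd g G.t ≫ G.s) g ≫ pullback.fst g G.t) q ∧
      FlatMor.fibreDimAt (pullback.fst (pullback.snd g G.t ≫ G.s) g ≫ pullback.fst g G.t) q ≤ d) := by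
  let h := pullback.snd g G.t ≫ G.s
  have hc : IsPullback (pullback.fst h g) (pullback.snd h g) h g := IsPullback.of_hasPullback h g
  have h1 : ∀ q, MoreMor.IsCMAt (pullback.snd h g) q ∧ FlatMor.fibreDimAt (pullback.snd h g) q ≤ d := by
    intro q
    refine ⟨Groth.Agent.Helper5.CMAff.isCMAt_baseChange h (pullback.snd h g) (pullback.fst h g) g
      hc q (hh _).1, ?_⟩
    rw [Groth.Agent.Helper5.BCMin.fibreDimAt_of_isPullback h g (pullback.fst h g)
      (pullback.snd h g) hc q]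
    exact (hh _).2
  refine ⟨h1, fun q => ?_⟩
  haveI : IsIso (i' G g) := inferInstanceAs (IsIso (restrict G g).i)
  have ht' : pullback.fst h g ≫ pullback.fst g G.t = i' G g ≫ pullback.snd h g :=
    (i'_s G g).symm
  show MoreMor.IsCMAt (pullback.fst h g ≫ pullback.fst g G.t) q ∧
    FlatMor.fibreDimAt (pullback.fst h g ≫ pullback.fst g G.t) q ≤ d
  rw [ht']
  refine ⟨(Groth.Agent.Helper3.CMSlice.isCMAt_openImmersion (i' G g) _ q).2 (h1 _).1, ?_⟩
  rw [Groth.Agent.Helper5.EtFib.fibreDimAt_etale_comp (i' G g) _ q]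
  exact (h1 _).2

end Groth.Agent.Helper3.GrpdSl
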