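import Mathlib
import Groth.Agent.Helper3.GrpdSl11
import Groth.Agent.Helper3.GrpdSl13
import Groth.Agent.Helper5.RelDim1

set_option autoImplicit false
set_option linter.style.haveILetI false
set_option linter.unusedSectionVars false
set_option linter.unusedVariables false
set_option linter.deprecated false
set_option linter.style.haveILetI false
set_option linter.unusedSectionVars false
set_option linter.unusedVariables false
universe u
open CategoryTheory CategoryTheory.Limits AlgebraicGeometry TopologicalSpace Topology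

/-!
# S7507 and S7508: slicing a groupoid down to the dimension of the stabilizer
-/

namespace Groth.Agent.Helper3.GrpdSl
open Grpd IsLocalRing RingTheory.Sequence Groth.Agent.Helper3.GrpdCM

variable {S : Scheme.{u}} (G : Grpd.GroupoidScheme S) [LocallyOfFinitePresentation G.s]
  [LocallyOfFinitePresentation G.t]

set_option maxHeartbeats 16000000 in
/-- slicing all the way down: a slice through `u` on which `h` is Cohen–Macaulay at `(u, e(u))`
with local fibre dimension `dim G_u` -/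
theorem slice_to_stab (hs : ∀ r : G.R, Grpd.IsCMAt G.s r) (u : G.U)
    (hu : LocallyOfFiniteType (G.U.fromSpecResidueField u)) :
    ∃ (U'' : Scheme.{u}) (_ : IsAffine U'') (g'' : U'' ⟶ G.U) (_ : IsImmersion g'')
      (_ : LocallyOfFinitePresentation g'') (u'' : U'') (p'' : ↑(pullback g'' G.t)),
      g'' u'' = u ∧ pullback.fst g'' G.t p'' = u'' ∧ pullback.snd g'' G.t p'' = G.e u ∧
      Grpd.IsCMAt (pullback.snd g'' G.t ≫ G.s) p'' ∧
      FlatMor.fibreDimAt (pullback.snd g'' G.t ≫ G.s) p'' =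
        topologicalKrullDim ↥(G.stabilizerToU.fiber u) := by
  obtain ⟨U₁, hU₁, hu₁, -⟩ := (Opens.isBasis_iff_nbhd.1 G.U.isBasis_affineOpens)
    (show G.t (G.e u) ∈ (⊤ : G.U.Opens) from trivial)
  have hCM := (hs (G.e u)).2
  haveI : IsNoetherianRing (G.R.presheaf.stalk (G.e u) ⧸ fibIdeal G.s (G.e u)) := hCM.1
  haveI : IsLocalRing (G.R.presheaf.stalk (G.e u) ⧸ fibIdeal G.s (G.e u)) := hCM.2
  obtain ⟨hd2, hd1⟩ := dims G hs u hu hU₁ hu₁
  set O := G.R.presheaf.stalk (G.e u) ⧸ fibIdeal G.s (G.e u) with hO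
  set τ : Γ(G.U, U₁) →+* O :=
    (Ideal.Quotient.mk (fibIdeal G.s (G.e u))).comp (tG G.t (G.e u) hu₁) with hτdef
  set 𝔪 := (hU₁.primeIdealOf ⟨G.t (G.e u), hu₁⟩).asIdeal with h𝔪
  have hτ : 𝔪.map τ ≤ maximalIdeal O := map_le_maximalIdeal G.s G.t hU₁ (G.e u) hu₁
  have hne : 𝔪.map τ ≠ ⊤ := fun h =>
    (maximalIdeal.isMaximal O).ne_top (top_le_iff.mp (h ▸ hτ))
  haveI : Nontrivial (O ⧸ 𝔪.map τ) := Ideal.Quotient.nontrivial_iff.mpr hne
  haveI : IsLocalRing (O ⧸ 𝔪.map τ) :=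
    IsLocalRing.of_surjective' (Ideal.Quotient.mk _) Ideal.Quotient.mk_surjective
  obtain ⟨d, hd⟩ := Groth.Agent.Helper5.CMBC.exists_nat_dim O
  obtain ⟨m, hm⟩ := Groth.Agent.Helper5.CMBC.exists_nat_dim (O ⧸ 𝔪.map τ)
  have hmd : m ≤ d := by
    have := ringKrullDim_quotient_le (𝔪.map τ)
    rw [hm, hd] at this
    exact_mod_cast this
  have hdim : ringKrullDim (O ⧸ 𝔪.map τ) + ((d - m : ℕ) : WithBot ℕ∞) = ringKrullDim O := by
    rw [hm, hd]
    exact_mod_cast (by omega : m + (d - m) = d)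
  obtain ⟨fs, hfs𝔪, hlen, hwr⟩ := exists_regular_list 𝔪 (d - m) O hCM τ hτ hdim
  have hwr' : IsWeaklyRegular O
      ((fs.map (tG G.t (G.e u) hu₁)).map (Ideal.Quotient.mk (fibIdeal G.s (G.e u)))) := by
    rw [List.map_map]
    exact hwr
  obtain ⟨u', p, h1, h2, h3, h4, h5⟩ := slice_main G hs u hU₁ hu₁ fs hfs𝔪 hwr'
  refine ⟨_, inferInstance, gI hU₁ (Ideal.ofList fs), inferInstance, inferInstance, u', p,
    h1, h2, h3, h4, ?_⟩
  haveI : LocallyOfFiniteType (pullback.snd (gI hU₁ (Ideal.ofList fs)) G.t ≫ G.s) := inferInstance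
  obtain ⟨n, hn⟩ := Groth.Agent.Helper5.SubDim.fibreDimAt_nat
    (pullback.snd (gI hU₁ (Ideal.ofList fs)) G.t ≫ G.s) p
  rw [← hd1, hm, hn]
  rw [hn, ← hd2, hd, hlen] at h5
  have : n + (d - m) = d := by exact_mod_cast h5
  exact_mod_cast (by omega : n = m)

/-- flatness from pointwise Cohen–Macaulayness -/
theorem flat_of_isCMAt {X Y : Scheme.{u}} (f : X ⟶ Y) (h : ∀ x, Grpd.IsCMAt f x) : Flat f :=
  (Flat.iff_flat_stalkMap f).2 (fun x => (h x).1)

set_option maxHeartbeats 16000000 in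
/-- common part of S7507 and S7508 -/
theorem slice_common (hs : ∀ r : G.R, Grpd.IsCMAt G.s r) (ht : ∀ r : G.R, Grpd.IsCMAt G.t r)
    (u : G.U) (hu : LocallyOfFiniteType (G.U.fromSpecResidueField u)) (d : WithBot ℕ∞)
    (hd : topologicalKrullDim ↥(G.stabilizerToU.fiber u) ≤ d) :
    ∃ (U' : Scheme.{u}) (_ : IsAffine U') (g : U' ⟶ G.U) (u' : U') (p : ↑(pullback g G.t)),
      IsImmersion g ∧ LocallyOfFinitePresentation g ∧ g u' = u ∧ pullback.fst g G.t p = u' ∧
      pullback.snd g G.t p = G.e u ∧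
      (∀ q, MoreMor.IsCMAt (pullback.snd g G.t ≫ G.s) q ∧
        FlatMor.fibreDimAt (pullback.snd g G.t ≫ G.s) q ≤ d) ∧
      FlatMor.fibreDimAt (pullback.snd g G.t ≫ G.s) p =
        topologicalKrullDim ↥(G.stabilizerToU.fiber u) := by
  haveI : Flat G.s := flat_of_isCMAt G.s hs
  haveI : Flat G.t := flat_of_isCMAt G.t ht
  obtain ⟨U'', hU''aff, g'', hg''imm, hg''lfp, u'', p'', h1, h2, h3, h4, h5⟩ :=
    slice_to_stab G hs u hu
  have hp : MoreMor.IsCMAt (pullback.snd g'' G.t ≫ G.s) p'' ∧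
      FlatMor.fibreDimAt (pullback.snd g'' G.t ≫ G.s) p'' ≤ d :=
    ⟨(isCMAt_iff _ _).1 h4, h5 ▸ hd⟩
  obtain ⟨V, hV, huV, hall⟩ := shrink G d g'' p'' hp
  rw [h2] at huV
  let u' : ↥(V : Scheme.{u}) := ⟨u'', huV⟩
  have hgu' : (Scheme.Opens.ι V ≫ g'') u' = G.t (G.e u) := by
    rw [Scheme.Hom.comp_apply]
    show g'' u'' = _
    rw [h1, e_t_apply]
  obtain ⟨p, hp1, hp2⟩ := Scheme.Pullback.exists_preimage_pullback
    (f := Scheme.Opens.ι V ≫ g'') (g := G.t) u' (G.e u) hgu'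
  haveI : IsAffine (V : Scheme.{u}) := hV
  refine ⟨V, hV, Scheme.Opens.ι V ≫ g'', u', p, inferInstance, inferInstance, ?_, hp1, hp2,
    hall, ?_⟩
  · rw [hgu', e_t_apply]
  · rw [fibreDimAt_shrink G g'' V p'' p (hp2.trans h3.symm)]
    exact h5

end Groth.Agent.Helper3.GrpdSl
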