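import Mathlib
import Groth.Agent.Helper3.GrpdSl14

set_option autoImplicit false
set_option linter.style.haveILetI false
set_option linter.unusedSectionVars false
set_option linter.unusedVariables false
set_option linter.deprecated false
set_option linter.style.haveILetI false
set_option linter.unusedSectionVars false
set_option linter.unusedVariables false
universe u
open CategoryTheory CategoryTheory.Limits AlgebraicGeometry TopologicalSpace Topology

/-!
# S7507 and S7508
-/

namespace Groth.Agent.Helper3.GrpdSl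
open Grpd IsLocalRing RingTheory.Sequence Groth.Agent.Helper3.GrpdCM

variable {S : Scheme.{u}} (G : Grpd.GroupoidScheme S) [LocallyOfFinitePresentation G.s]
  [LocallyOfFinitePresentation G.t]

/-- flat, lfp, lqf from "Cohen–Macaulay with local fibre dimension ≤ 0 everywhere" -/
theorem flat_lqf_of_cm_dim_zero {X Y : Scheme.{u}} (f : X ⟶ Y) [LocallyOfFinitePresentation f]
    (h : ∀ q, MoreMor.IsCMAt f q ∧ FlatMor.fibreDimAt f q ≤ 0) :
    Flat f ∧ LocallyQuasiFinite f := by
  refine ⟨(Flat.iff_flat_stalkMap f).2 (fun x => (h x).1.1), ?_⟩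
  refine Groth.Agent.Helper5.RelDim.locallyQuasiFinite_of_fibreDimAt_eq_zero f (fun q => ?_)
  refine le_antisymm (h q).2 ?_
  obtain ⟨n, hn⟩ := Groth.Agent.Helper5.SubDim.fibreDimAt_nat f q
  rw [hn]
  exact_mod_cast Nat.zero_le n

set_option maxHeartbeats 16000000 in
theorem s7507 (hs : ∀ r : G.R, Grpd.IsCMAt G.s r) (ht : ∀ r : G.R, Grpd.IsCMAt G.t r) (u : G.U)
    (hu : LocallyOfFiniteType (G.U.fromSpecResidueField u)) :
    ∃ (U' : Scheme.{u}) (_ : IsAffine U') (g : U' ⟶ G.U) (u' : U') (p : ↑(pullback g G.t)),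
      IsImmersion g ∧ LocallyOfFinitePresentation g ∧ g u' = u ∧ pullback.fst g G.t p = u' ∧
      pullback.snd g G.t p = G.e u ∧ (∀ q, Grpd.IsCMAt (pullback.snd g G.t ≫ G.s) q) ∧
      LocallyOfFinitePresentation (pullback.snd g G.t ≫ G.s) ∧
      (∀ q, Grpd.IsCMAt (pullback.snd (pullback.snd g G.t ≫ G.s) g) q) ∧
      LocallyOfFinitePresentation (pullback.snd (pullback.snd g G.t ≫ G.s) g) ∧
      (∀ q, Grpd.IsCMAt (pullback.fst (pullback.snd g G.t ≫ G.s) g ≫ pullback.fst g G.t) q) ∧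
      LocallyOfFinitePresentation (pullback.fst (pullback.snd g G.t ≫ G.s) g ≫ pullback.fst g G.t) ∧
      FlatMor.fibreDimAt (pullback.snd g G.t ≫ G.s) p =
        topologicalKrullDim ↥(G.stabilizerToU.fiber u) := by
  obtain ⟨U', hU', g, u', p, himm, hlfp, h1, h2, h3, hall, h5⟩ :=
    slice_common G hs ht u hu ⊤ le_top
  haveI := hlfp
  obtain ⟨hs', ht'⟩ := restrict_props G ⊤ g hall
  exact ⟨U', hU', g, u', p, himm, hlfp, h1, h2, h3, fun q => (isCMAt_iff _ _).2 (hall q).1,
    inferInstance, fun q => (isCMAt_iff _ _).2 (hs' q).1, inferInstance,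
    fun q => (isCMAt_iff _ _).2 (ht' q).1, inferInstance, h5⟩

set_option maxHeartbeats 16000000 in
theorem s7508 (hs : ∀ r : G.R, Grpd.IsCMAt G.s r) (ht : ∀ r : G.R, Grpd.IsCMAt G.t r)
    [LocallyOfFiniteType G.stabilizerToU] [LocallyQuasiFinite G.stabilizerToU] (u : G.U)
    (hu : LocallyOfFiniteType (G.U.fromSpecResidueField u)) :
    ∃ (U' : Scheme.{u}) (_ : IsAffine U') (g : U' ⟶ G.U) (u' : U'),
      IsImmersion g ∧ LocallyOfFinitePresentation g ∧ g u' = u ∧
      (Flat (pullback.snd g G.t ≫ G.s) ∧ LocallyOfFinitePresentation (pullback.snd g G.t ≫ G.s) ∧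
        LocallyOfFiniteType (pullback.snd g G.t ≫ G.s) ∧
        LocallyQuasiFinite (pullback.snd g G.t ≫ G.s)) ∧
      (Flat (pullback.snd (pullback.snd g G.t ≫ G.s) g) ∧
        LocallyOfFinitePresentation (pullback.snd (pullback.snd g G.t ≫ G.s) g) ∧
        LocallyQuasiFinite (pullback.snd (pullback.snd g G.t ≫ G.s) g)) ∧
      (Flat (pullback.fst (pullback.snd g G.t ≫ G.s) g ≫ pullback.fst g G.t) ∧
        LocallyOfFinitePresentation
          (pullback.fst (pullback.snd g G.t ≫ G.s) g ≫ pullback.fst g G.t) ∧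
        LocallyQuasiFinite (pullback.fst (pullback.snd g G.t ≫ G.s) g ≫ pullback.fst g G.t)) := by
  have hd0 : topologicalKrullDim ↥(G.stabilizerToU.fiber u) ≤ 0 :=
    topologicalKrullDim_zero_of_discreteTopology _
  obtain ⟨U', hU', g, u', p, himm, hlfp, h1, h2, h3, hall, h5⟩ :=
    slice_common G hs ht u hu 0 hd0
  haveI := hlfp
  obtain ⟨hs', ht'⟩ := restrict_props G 0 g hall
  obtain ⟨a1, a2⟩ := flat_lqf_of_cm_dim_zero _ hall
  obtain ⟨b1, b2⟩ := flat_lqf_of_cm_dim_zero _ hs'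
  obtain ⟨c1, c2⟩ := flat_lqf_of_cm_dim_zero _ ht'
  exact ⟨U', hU', g, u', himm, hlfp, h1, ⟨a1, inferInstance, inferInstance, a2⟩,
    ⟨b1, inferInstance, b2⟩, ⟨c1, inferInstance, c2⟩⟩

end Groth.Agent.Helper3.GrpdSl
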