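import Mathlib
import Groth.Prelude
import Groth.Agent.Helper3.PushRatH

/-!
# The Gysin map commutes with proper pushforward
-/

set_option autoImplicit false
set_option linter.style.haveILetI false
set_option linter.unusedSectionVars false
set_option linter.unusedVariables false
set_option linter.deprecated false
set_option linter.style.haveILetI false
set_option linter.unusedSectionVars false
set_option linter.unusedVariables false

universe u

open CategoryTheory CategoryTheory.Limits AlgebraicGeometry TopologicalSpace Opposite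

namespace Groth.Agent.Helper3.Gysin

open Groth.Agent.Helper3.SecOrd Groth.Agent.Helper3.PullGen Groth.Agent.Helper3.PushRat
  Groth.Agent.Lead.Ref1K Groth.Agent.Helper4.QAffSec

section fibre

variable {X' D X : Scheme.{u}} (f : X' ⟶ X) (i : D ⟶ X) [IsClosedImmersion i]

theorem mapCoeff_snd (δ : X → ℤ) (δ' : X' → ℤ) (z : ↑(pullback f i)) :
    AlgebraicCycle.mapCoeff (pullback.snd f i) (fun z => δ' (pullback.fst f i z))
      (fun d => δ (i d)) z = AlgebraicCycle.mapCoeff f δ' δ (pullback.fst f i z) := by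
  rw [← mapCoeff_comp_right (pullback.snd f i) i (fun z => δ' (pullback.fst f i z)) δ z,
    ← mapCoeff_comp_left (pullback.fst f i) f δ' δ z]
  congr 1
  exact pullback.condition.symm

/-- the pushforward along `D' → D` in terms of the pushforward along `X' → X` -/
theorem map_snd_apply [QuasiCompact f] (δ : X → ℤ) (δ' : X' → ℤ)
    (γ' : AlgebraicCycle (pullback f i) ℤ) (Γ' : X' → ℤ)
    (hγ' : ∀ z, γ' z = Γ' (pullback.fst f i z)) (d : D) :
    (AlgebraicCycle.map (pullback.snd f i) (fun z => δ' (pullback.fst f i z))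
      (fun d => δ (i d)) γ') d =
    ∑ᶠ x' ∈ (f : X' → X) ⁻¹' {i d}, Γ' x' * ((AlgebraicCycle.mapCoeff f δ' δ x' : ℕ) : ℤ) := by
  simp only [AlgebraicCycle.map, Function.locallyFinsupp.map_apply]
  refine finsum_mem_eq_of_bijOn (pullback.fst f i) ⟨?_, ?_, ?_⟩ ?_
  · intro z hz
    rw [Set.mem_preimage, Set.mem_singleton_iff] at hz ⊢
    rw [← cond_apply f i z, hz]
  · exact (pullback.fst f i).isEmbedding.injective.injOn
  · intro x' hx'
    rw [Set.mem_preimage, Set.mem_singleton_iff] at hx'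
    have hmem : x' ∈ Set.range (pullback.fst f i) := by
      rw [Scheme.Pullback.range_fst]
      exact ⟨d, hx'.symm⟩
    obtain ⟨z, rfl⟩ := hmem
    refine ⟨z, ?_, rfl⟩
    rw [Set.mem_preimage, Set.mem_singleton_iff]
    apply i.isEmbedding.injective
    rw [cond_apply f i z, hx']
  · intro z _
    rw [hγ' z, mapCoeff_snd]

end fibre


section main

theorem gysin_push_proper (X X' D : Scheme.{u}) (δ : X → ℤ) (δ' : X' → ℤ) (hX : Cyc.IsSetup X δ)
    (hX' : Cyc.IsSetup X' δ') (f : X' ⟶ X) [IsProper f] (hδ : Cyc.DeltaCompat f δ' δ)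
    (L : X.Modules) (hL : PicF.IsInvertible L) (s : L.presheaf.obj (Opposite.op ⊤)) (i : D ⟶ X)
    [IsClosedImmersion i] (hD : Cyc.IsZeroSchemeOf i L s)
    (s' : ((Scheme.Modules.pullback f).obj L).presheaf.obj (Opposite.op ⊤))
    (hD' : Cyc.IsZeroSchemeOf (pullback.fst f i) ((Scheme.Modules.pullback f).obj L) s')
    (k : ℤ) (α' : AlgebraicCycle X' ℤ) (hα' : α' ∈ Cyc.Zk X' δ' (k + 1))
    (w : (ξ : X) → Cyc.secFibre L ξ) (hw : ∀ ξ, w ξ ≠ 0)
    (w' : (ξ : X') → Cyc.secFibre ((Scheme.Modules.pullback f).obj L) ξ) (hw' : ∀ ξ, w' ξ ≠ 0)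
    (γ : AlgebraicCycle D ℤ)
    (hγ : ∀ d, γ d = Cyc.c1CapFun δ L ⇑(AlgebraicCycle.map f δ' δ α') (Cyc.gysinChoice L s w)
      (i d))
    (γ' : AlgebraicCycle (pullback f i) ℤ)
    (hγ' : ∀ z, γ' z = Cyc.c1CapFun δ' ((Scheme.Modules.pullback f).obj L) ⇑α'
      (Cyc.gysinChoice ((Scheme.Modules.pullback f).obj L) s' w') (pullback.fst f i z)) :
    Cyc.RatEquiv (fun d => δ (i d)) k γ
      (AlgebraicCycle.map (pullback.snd f i) (fun z => δ' (pullback.fst f i z))
        (fun d => δ (i d)) γ') := by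
  classical
  haveI := hX'.1
  have hL' : PicF.IsInvertible ((Scheme.Modules.pullback f).obj L) :=
    Groth.Agent.Helper4.PullSec.isInvertible_pullback f hL
  haveI : L.IsQuasicoherent := isQuasicoherent_of_isInvertible L hL
  haveI : ((Scheme.Modules.pullback f).obj L).IsQuasicoherent :=
    isQuasicoherent_of_isInvertible _ hL'
  choose t ht using fun y : X => fr1At_of_isInvertible L hL y
  have ht' : ∀ y' : X', Function.Bijective
      (fun r : X'.presheaf.stalk y' => r • pgFun f L y' (t (f y'))) :=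
    fun y' => bijective_pgFun f L y' (fr1At_of_isInvertible _ hL' y') (ht (f y'))
  choose b hb0 using fun y : X => (ht y).2 ((L.presheaf.germ ⊤ y trivial) s)
  have hb : ∀ y, (L.presheaf.germ ⊤ y trivial) s = b y • t y := fun y => (hb0 y).symm
  choose a ha0 using fun x' : X' => (ht' x').2
    ((((Scheme.Modules.pullback f).obj L).presheaf.germ ⊤ x' trivial) s')
  have ha : ∀ x', (((Scheme.Modules.pullback f).obj L).presheaf.germ ⊤ x' trivial) s' =
      a x' • pgFun f L x' (t (f x')) := fun x' => (ha0 x').symm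
  obtain ⟨ψ, hψ, hgv, hψb⟩ := exists_gysin_coords L s t ht b hb w hw
  obtain ⟨φ, hφ, hgu, hφa⟩ := exists_gysin_coords ((Scheme.Modules.pullback f).obj L) s'
    (fun x' => pgFun f L x' (t (f x'))) ht' a ha w' hw'
  set H : (ξ : X') → X.residueField (f ξ) := fun ξ =>
    Cyc.normGen f ξ (X'.residue ξ (φ ξ)) * ((X.residue (f ξ) (ψ (f ξ))) ^ f.residueDegree ξ)⁻¹
    with hH
  have hH0 : ∀ ξ, H ξ ≠ 0 := fun ξ =>
    mul_ne_zero (normGen_ne_zero f ξ _ (hgu ξ)) (inv_ne_zero (pow_ne_zero _ (hgv (f ξ))))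
  -- vanishing away from `D'`
  have hvan : ∀ (ξ : X') (y : X), ξ ∉ Set.range (pullback.fst f i) → δ' ξ = δ (f ξ) →
      Cyc.divFun δ (f ξ) (H ξ) y = 0 := by
    intro ξ y hξ hdim
    have hua : IsUnit (a ξ) := by
      have hx1 : ¬ ((Submodule.Quotient.mk
          ((((Scheme.Modules.pullback f).obj L).presheaf.germ ⊤ ξ trivial) s') :
          Cyc.secFibre ((Scheme.Modules.pullback f).obj L) ξ) = 0) := by
        intro h0
        apply hξ
        rw [hD'.1]
        exact h0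
      rwa [mk_germ_eq_zero_iff _ ξ (ht' ξ) _ (a ξ) (ha ξ), not_not] at hx1
    have hub : IsUnit (b (f ξ)) := by
      have hfx : f ξ ∉ Set.range i := by
        intro hmem
        apply hξ
        rw [Scheme.Pullback.range_fst]
        exact hmem
      have hx2 : ¬ ((Submodule.Quotient.mk ((L.presheaf.germ ⊤ (f ξ) trivial) s) :
          Cyc.secFibre L (f ξ)) = 0) := by
        intro h0
        apply hfx
        rw [hD.1]
        exact h0
      rwa [mk_germ_eq_zero_iff L (f ξ) (ht (f ξ)) _ (b (f ξ)) (hb (f ξ)), not_not] at hx2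
    have hra : X'.residue ξ (a ξ) ≠ 0 := residue_ne_zero_of_isUnit ξ hua
    have hrb : X.residue (f ξ) (b (f ξ)) ≠ 0 := residue_ne_zero_of_isUnit (f ξ) hub
    have hPb : f.residueFieldMap ξ (X.residue (f ξ) (b (f ξ))) ≠ 0 :=
      (map_ne_zero_iff _ (f.residueFieldMap ξ).hom.injective).mpr hrb
    set ε : X'.residueField ξ :=
      X'.residue ξ (a ξ) * (f.residueFieldMap ξ (X.residue (f ξ) (b (f ξ))))⁻¹ with hε
    have hε0 : ε ≠ 0 := mul_ne_zero hra (inv_ne_zero hPb)
    have hεdiv : ∀ x', Cyc.divFun δ' ξ ε x' = 0 := by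
      intro x'
      have h1 := divFun_ratio_eq_zero f L δ' s s' t ht ht' b hb a ha ξ x'
        (exists_unit_of_zeroSchemes f L hL s i hD s' hD' t ht ht' b hb a ha x') hra
      have h2 : ε = (f.residueFieldMap ξ (X.residue (f ξ) (b (f ξ))) *
          (X'.residue ξ (a ξ))⁻¹)⁻¹ := by
        rw [hε, mul_inv, inv_inv, mul_comm]
      rw [h2, divFun_inv δ' ξ _ (mul_ne_zero hPb (inv_ne_zero hra)), h1, neg_zero]
    have hHε : H ξ = Cyc.normGen f ξ ε := by
      rw [hH, hε]
      simp only []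
      rw [hψb (f ξ) hub, hφa ξ hua, normGen_mul, normGen_inv f ξ _ hPb, normGen_map]
    have hpush := push_div_point δ' δ hX' hX f hδ ξ ε hε0 y
    rw [if_pos hdim] at hpush
    rw [hHε, ← hpush]
    apply finsum_mem_eq_zero_of_forall_eq_zero
    intro x' _
    rw [hεdiv x', zero_mul]
  -- the formula
  have hform : ∀ d, ((AlgebraicCycle.map (pullback.snd f i) (fun z => δ' (pullback.fst f i z))
      (fun d => δ (i d)) γ') - γ) d =
      ∑ᶠ j : {ξ : X' // α' ξ ≠ 0 ∧ δ' ξ = δ (f ξ) ∧ ξ ∈ Set.range (pullback.fst f i)},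
        Cyc.divFun δ (f j.1) ((H j.1) ^ (α' j.1)) (i d) := by
    intro d
    rw [Function.locallyFinsuppWithin.coe_sub, Pi.sub_apply,
      map_snd_apply f i δ δ' γ' _ hγ' d, hγ d,
      projection_formula X' X δ' δ hX' hX f hδ L hL α' t ht _ ψ hψ hgv _ φ hφ hgu (i d)]
    change ∑ᶠ j : {ξ : X' // α' ξ ≠ 0 ∧ δ' ξ = δ (f ξ)},
      Cyc.divFun δ (f j.1) ((H j.1) ^ (α' j.1)) (i d) = _
    rw [finsum_subtype_eq_finsum_cond
        (f := fun ξ : X' => Cyc.divFun δ (f ξ) ((H ξ) ^ (α' ξ)) (i d))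
        (fun ξ => α' ξ ≠ 0 ∧ δ' ξ = δ (f ξ)),
      finsum_subtype_eq_finsum_cond
        (f := fun ξ : X' => Cyc.divFun δ (f ξ) ((H ξ) ^ (α' ξ)) (i d))
        (fun ξ => α' ξ ≠ 0 ∧ δ' ξ = δ (f ξ) ∧ ξ ∈ Set.range (pullback.fst f i))]
    refine finsum_congr fun ξ => ?_
    rw [finsum_eq_if, finsum_eq_if]
    by_cases hc1 : α' ξ ≠ 0 ∧ δ' ξ = δ (f ξ)
    · rw [if_pos hc1]
      by_cases hr : ξ ∈ Set.range (pullback.fst f i)
      · rw [if_pos ⟨hc1.1, hc1.2, hr⟩]
      · rw [if_neg (fun h => hr h.2.2), divFun_zpow δ _ _ (hH0 ξ), hvan ξ (i d) hr hc1.2,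
          mul_zero]
    · rw [if_neg hc1, if_neg (fun h => hc1 ⟨h.1, h.2.1⟩)]
  -- local finiteness
  have hlf : ∀ x : X, ∃ U : Set X, IsOpen U ∧ x ∈ U ∧
      {j : {ξ : X' // α' ξ ≠ 0 ∧ δ' ξ = δ (f ξ) ∧ ξ ∈ Set.range (pullback.fst f i)} |
        (closure {f j.1} ∩ U).Nonempty}.Finite := by
    intro y
    obtain ⟨_, ⟨U, hU, rfl⟩, hyU, -⟩ :=
      (X.isBasis_affineOpens).exists_subset_of_mem_open (show y ∈ (⊤ : X.Opens) from trivial)
        (⊤ : X.Opens).2
    refine ⟨U, U.2, hyU, ?_⟩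
    have hc : IsCompact ((f : X' → X) ⁻¹' (U : Set X)) :=
      QuasiCompact.isCompact_preimage (f := f) _ U.2 hU.isCompact
    have hfin := finite_index_of_isCompact (fun i : {ξ : X' // α' ξ ≠ 0} => i.1)
      (locFin_support α') _ hc
    have hinj : Function.Injective
        (fun j : {ξ : X' // α' ξ ≠ 0 ∧ δ' ξ = δ (f ξ) ∧ ξ ∈ Set.range (pullback.fst f i)} =>
          (⟨j.1, j.2.1⟩ : {ξ : X' // α' ξ ≠ 0})) := by
      intro j j' h
      have h' : (⟨j.1, j.2.1⟩ : {ξ : X' // α' ξ ≠ 0}) = ⟨j'.1, j'.2.1⟩ := h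
      exact Subtype.ext (congrArg (fun i : {ξ : X' // α' ξ ≠ 0} => i.1) h')
    refine (hfin.preimage hinj.injOn).subset ?_
    rintro j ⟨z, hz1, hz2⟩
    have hsp : f j.1 ⤳ z := specializes_iff_mem_closure.mpr hz1
    have hmem : f j.1 ∈ (U : Set X) := hsp.mem_open U.2 hz2
    exact ⟨j.1, subset_closure rfl, hmem⟩
  refine ratEquiv_symm _ _ _ _ ?_
  refine Groth.Agent.Helper3.DivTrF.ratEquivZero_restrict i δ k
    {ξ : X' // α' ξ ≠ 0 ∧ δ' ξ = δ (f ξ) ∧ ξ ∈ Set.range (pullback.fst f i)} (fun j => f j.1)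
    (fun j => (H j.1) ^ (α' j.1)) ?_ ?_ (fun j => zpow_ne_zero _ (hH0 j.1)) hlf _ hform
  · intro j
    obtain ⟨z, hz⟩ := j.2.2.2
    exact ⟨pullback.snd f i z, by rw [cond_apply f i z, hz]⟩
  · intro j
    change δ (f j.1) = k + 1
    rw [← j.2.2.1]
    by_contra hne
    exact j.2.1 (hα' j.1 hne)

end main

end Groth.Agent.Helper3.Gysin
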