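import Mathlib
import Groth.Prelude
import Groth.Agent.S0385
import Groth.Agent.Helper4.SchLQF

set_option autoImplicit false
set_option linter.style.haveILetI false
set_option linter.unusedSectionVars false
set_option linter.unusedVariables false
set_option linter.deprecated false
set_option linter.style.haveILetI false
set_option linter.unusedSectionVars false
set_option linter.unusedVariables false

open CategoryTheory CategoryTheory.Limits AlgebraicGeometry

universe u

namespace Groth.Agent.Helper3.HPair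

/-- The clopen lifting property (a) along finite morphisms. -/
def ClopenLift {S S₀ : Scheme.{u}} (i : S₀ ⟶ S) : Prop :=
  ∀ (S' : Scheme.{u}) (g : S' ⟶ S), IsFinite g →
    ∀ V : Set ↥(pullback g i), IsClopen V →
      ∃! U : Set ↥S', IsClopen U ∧ (pullback.fst g i).base ⁻¹' U = V

section basic

variable {S S₀ : Scheme.{u}} (i : S₀ ⟶ S)

theorem isEmpty_of_isEmpty_pullback (ha : ClopenLift i) {Z : Scheme.{u}} (g : Z ⟶ S)
    [IsFinite g] (h : IsEmpty ↥(pullback g i)) : IsEmpty ↥Z := by
  obtain ⟨U, -, hU⟩ := ha Z g inferInstance ∅ isClopen_empty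
  have h1 : (∅ : Set ↥Z) = U := hU ∅ ⟨isClopen_empty, Set.eq_empty_of_isEmpty _⟩
  have h2 : (Set.univ : Set ↥Z) = U := hU Set.univ ⟨isClopen_univ, Set.eq_empty_of_isEmpty _⟩
  rw [← Set.univ_eq_empty_iff, h2, ← h1]

theorem clopen_eq_univ (ha : ClopenLift i) (W : Set ↥S) (hW : IsClopen W)
    (hi : Set.range i.base ⊆ W) : W = Set.univ := by
  obtain ⟨U, -, hU⟩ := ha S (𝟙 S) inferInstance Set.univ isClopen_univ
  have h1 : W = U := by
    refine hU W ⟨hW, ?_⟩
    rw [Set.eq_univ_iff_forall]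
    intro x
    have : (pullback.fst (𝟙 S) i).base x = i.base ((pullback.snd (𝟙 S) i).base x) := by
      have e : pullback.fst (𝟙 S) i = pullback.snd (𝟙 S) i ≫ i := by
        rw [← pullback.condition, Category.comp_id]
      rw [e]; rfl
    show (pullback.fst (𝟙 S) i).base x ∈ W
    rw [this]
    exact hi ⟨_, rfl⟩
  have h2 : Set.univ = U := hU Set.univ ⟨isClopen_univ, Set.preimage_univ⟩
  rw [h1, ← h2]

/-- A closed subset of a finite `S`-scheme missing the fibre over `S₀` is empty. -/
theorem closed_eq_empty (ha : ClopenLift i) {T : Scheme.{u}} (π : T ⟶ S) [IsFinite π]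
    (Z : Set ↥T) (hZ : IsClosed Z) (h : (pullback.fst π i).base ⁻¹' Z = ∅) : Z = ∅ := by
  let I := Scheme.IdealSheafData.vanishingIdeal ⟨Z, hZ⟩
  have hr : Set.range I.subschemeι = Z := by
    rw [I.range_subschemeι]
    exact Scheme.IdealSheafData.coe_support_vanishingIdeal _
  have hemp : IsEmpty ↥(pullback (I.subschemeι ≫ π) i) := by
    constructor
    intro x
    set z := (pullback.fst (I.subschemeι ≫ π) i) x with hz
    set s₀ := (pullback.snd (I.subschemeι ≫ π) i) x with hs₀
    have hc : π (I.subschemeι z) = i s₀ := by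
      rw [hz, hs₀, ← Scheme.Hom.comp_apply, ← Scheme.Hom.comp_apply, ← Scheme.Hom.comp_apply,
        ← pullback.condition]
    obtain ⟨y, hy1, hy2⟩ := Scheme.Pullback.exists_preimage_pullback (f := π) (g := i) _ _ hc
    have : y ∈ (pullback.fst π i).base ⁻¹' Z := by
      show (pullback.fst π i) y ∈ Z
      rw [hy1, ← hr]
      exact ⟨z, rfl⟩
    rw [h] at this
    exact this
  have := isEmpty_of_isEmpty_pullback i ha (I.subschemeι ≫ π) hemp
  rw [← hr]
  exact Set.range_eq_empty _

end basic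

section sections

variable {X Y : Scheme.{u}}

theorem isOpenImmersion_of_section (q : X ⟶ Y) [Etale q] (s : Y ⟶ X) (hs : s ≫ q = 𝟙 Y) :
    IsOpenImmersion s := by
  haveI : Etale (s ≫ q) := by rw [hs]; infer_instance
  haveI : Etale s := Etale.of_comp s q
  haveI : Mono s := mono_of_mono_fac hs
  exact IsOpenImmersion.of_flat_of_mono s

theorem isClosedImmersion_of_section (q : X ⟶ Y) [IsSeparated q] (s : Y ⟶ X)
    (hs : s ≫ q = 𝟙 Y) : IsClosedImmersion s := by
  haveI : IsClosedImmersion (s ≫ q) := by rw [hs]; infer_instance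
  exact IsClosedImmersion.of_comp s q

end sections

section pasting

variable {T S S₀ X : Scheme.{u}} (f : T ⟶ S) (i : S₀ ⟶ S) (m : X ⟶ T)

/-- The comparison map between base changes induced by an open immersion. -/
noncomputable def bcMap : pullback (m ≫ f) i ⟶ pullback f i :=
  pullback.lift (pullback.fst (m ≫ f) i ≫ m) (pullback.snd (m ≫ f) i)
    (by rw [Category.assoc, pullback.condition])

@[reassoc (attr := simp)]
theorem bcMap_fst : bcMap f i m ≫ pullback.fst f i = pullback.fst (m ≫ f) i ≫ m :=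
  pullback.lift_fst _ _ _

@[reassoc (attr := simp)]
theorem bcMap_snd : bcMap f i m ≫ pullback.snd f i = pullback.snd (m ≫ f) i :=
  pullback.lift_snd _ _ _

theorem bcMap_eq : bcMap f i m =
    (pullbackRightPullbackFstIso f i m).inv ≫ pullback.snd m (pullback.fst f i) := by
  apply pullback.hom_ext
  · rw [bcMap_fst, Category.assoc, pullbackRightPullbackFstIso_inv_snd_fst]
  · rw [bcMap_snd, Category.assoc, pullbackRightPullbackFstIso_inv_snd_snd]

instance [IsOpenImmersion m] : IsOpenImmersion (bcMap f i m) := by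
  rw [bcMap_eq]; infer_instance

theorem range_bcMap : Set.range (bcMap f i m) = (pullback.fst f i) ⁻¹' Set.range m := by
  rw [bcMap_eq, ← Scheme.Pullback.range_snd]
  ext x
  constructor
  · rintro ⟨y, rfl⟩
    exact ⟨(pullbackRightPullbackFstIso f i m).inv y, rfl⟩
  · rintro ⟨y, rfl⟩
    refine ⟨(pullbackRightPullbackFstIso f i m).hom y, ?_⟩
    rw [← Scheme.Hom.comp_apply, Iso.hom_inv_id_assoc]

end pasting

section core

variable {S S₀ : Scheme.{u}} (i : S₀ ⟶ S) [IsClosedImmersion i]
  [CompactSpace ↥S] [QuasiSeparatedSpace ↥S]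

theorem exists_section_of_compact (ha : ClopenLift i) {S'' : Scheme.{u}} [CompactSpace ↥S'']
    (g : S'' ⟶ S) [Etale g] [IsSeparated g] (a : S₀ ⟶ S'') (haS : a ≫ g = i) :
    ∃ u : S ⟶ S'', u ≫ g = 𝟙 S ∧ i ≫ u = a := by
  haveI : LocallyQuasiFinite g := Groth.Agent.Helper4.SchLQF.locallyQuasiFinite_of_etale g
  haveI : QuasiCompact g := inferInstance
  obtain ⟨T, j, π, hj, hjq, hπ, hfac⟩ := Groth.Agent.S0385.result g
  subst hfac
  let u₀ : S₀ ⟶ pullback (j ≫ π) i := pullback.lift a (𝟙 S₀) (by rw [haS, Category.id_comp])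
  have hu₀ : u₀ ≫ pullback.snd (j ≫ π) i = 𝟙 S₀ := pullback.lift_snd _ _ _
  have hu₀f : u₀ ≫ pullback.fst (j ≫ π) i = a := pullback.lift_fst _ _ _
  haveI : IsOpenImmersion u₀ := isOpenImmersion_of_section (pullback.snd (j ≫ π) i) u₀ hu₀
  let t₀ : S₀ ⟶ pullback π i := u₀ ≫ bcMap π i j
  have ht₀s : t₀ ≫ pullback.snd π i = 𝟙 S₀ := by
    simp only [t₀, Category.assoc, bcMap_snd, hu₀]
  have ht₀f : t₀ ≫ pullback.fst π i = a ≫ j := by
    simp only [t₀, Category.assoc, bcMap_fst]
    rw [← Category.assoc, hu₀f]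
  haveI : IsOpenImmersion t₀ := inferInstance
  haveI : IsClosedImmersion t₀ := isClosedImmersion_of_section (pullback.snd π i) t₀ ht₀s
  let V : Set ↥(pullback π i) := Set.range t₀.base
  have hV : IsClopen V :=
    ⟨t₀.isClosedEmbedding.isClosed_range, t₀.isOpenEmbedding.isOpen_range⟩
  obtain ⟨U, ⟨hU, hUV⟩, -⟩ := ha T π hπ V hV
  have hfst : ∀ s₀ : S₀, (pullback.fst π i).base (t₀.base s₀) = j.base (a.base s₀) := by
    intro s₀
    show (t₀ ≫ pullback.fst π i).base s₀ = (a ≫ j).base s₀
    rw [ht₀f]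
  have hUj : U ⊆ Set.range j.base := by
    have hZ : U ∩ (Set.range j.base)ᶜ = ∅ := by
      refine closed_eq_empty i ha π _
        (hU.isClosed.inter j.isOpenEmbedding.isOpen_range.isClosed_compl) ?_
      rw [Set.preimage_inter, hUV, Set.eq_empty_iff_forall_notMem]
      rintro x ⟨⟨s₀, rfl⟩, hx⟩
      apply hx
      exact ⟨a.base s₀, (hfst s₀).symm⟩
    intro x hx
    by_contra hxj
    have : x ∈ U ∩ (Set.range j.base)ᶜ := ⟨hx, hxj⟩
    rw [hZ] at this
    exact this
  let U' : S''.Opens := j ⁻¹ᵁ ⟨U, hU.isOpen⟩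
  let m : (U' : Scheme) ⟶ T := U'.ι ≫ j
  have hrm : Set.range m.base = U := by
    show Set.range (U'.ι ≫ j).base = U
    rw [Scheme.Hom.comp_base, TopCat.coe_comp, Set.range_comp, Scheme.Opens.range_ι]
    show j.base '' (j.base ⁻¹' U) = U
    rw [Set.image_preimage_eq_inter_range]
    exact Set.inter_eq_left.mpr hUj
  haveI : IsClosedImmersion m :=
    IsClosedImmersion.of_isPreimmersion m (by rw [hrm]; exact hU.isClosed)
  let h : (U' : Scheme) ⟶ S := m ≫ π
  haveI : IsFinite h := inferInstance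
  have hh : h = U'.ι ≫ (j ≫ π) := by simp only [h, m, Category.assoc]
  haveI : Etale h := by
    rw [hh]; infer_instance
  have haU : Set.range a.base ⊆ Set.range U'.ι.base := by
    rintro _ ⟨s₀, rfl⟩
    rw [Scheme.Opens.range_ι]
    show j.base (a.base s₀) ∈ U
    have : t₀.base s₀ ∈ (pullback.fst π i).base ⁻¹' U := by rw [hUV]; exact ⟨s₀, rfl⟩
    rw [← hfst]; exact this
  let a' : S₀ ⟶ U' := IsOpenImmersion.lift U'.ι a haU
  have ha' : a' ≫ U'.ι = a := IsOpenImmersion.lift_fac _ _ _
  have ha'h : a' ≫ h = i := by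
    rw [hh, ← Category.assoc, ha', haS]
  let e : S₀ ⟶ pullback h i := pullback.lift a' (𝟙 S₀) (by rw [ha'h, Category.id_comp])
  have he : e ≫ pullback.snd h i = 𝟙 S₀ := pullback.lift_snd _ _ _
  have hef : e ≫ pullback.fst h i = a' := pullback.lift_fst _ _ _
  haveI : IsOpenImmersion e := isOpenImmersion_of_section (pullback.snd h i) e he
  have hek : e ≫ bcMap π i m = t₀ := by
    apply pullback.hom_ext
    · rw [Category.assoc, bcMap_fst, ← Category.assoc, hef, ht₀f]
      show a' ≫ U'.ι ≫ j = a ≫ j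
      rw [← Category.assoc, ha']
    · rw [Category.assoc, bcMap_snd, he, ht₀s]
  have hesurj : Function.Surjective e.base := by
    intro q
    have hq : (bcMap π i m).base q ∈ V := by
      have h1 : (bcMap π i m) q ∈ (pullback.fst π i) ⁻¹' Set.range m := by
        rw [← range_bcMap]; exact ⟨q, rfl⟩
      have h2 : (bcMap π i m).base q ∈ (pullback.fst π i).base ⁻¹' U := by
        rw [← hrm]; exact h1
      rw [hUV] at h2
      exact h2
    obtain ⟨s₀, hs₀⟩ := hq
    refine ⟨s₀, (bcMap π i m).isOpenEmbedding.injective ?_⟩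
    rw [← hs₀, ← hek]
    rfl
  haveI : IsIso e := by
    refine isIso_of_isOpenImmersion_of_opensRange_eq_top e ?_
    apply TopologicalSpace.Opens.ext
    rw [Scheme.Hom.coe_opensRange]
    exact Set.range_eq_univ.mpr hesurj
  haveI : IsIso (pullback.snd h i) := by
    have : IsIso (e ≫ pullback.snd h i) := by rw [he]; infer_instance
    exact IsIso.of_isIso_comp_left e _
  have hrank1 : ∀ s₀ : S₀, Scheme.Hom.finrank h (i s₀) = 1 := by
    intro s₀
    rw [← Scheme.Hom.finrank_pullback_snd h i s₀, Scheme.Hom.finrank_eq_one_of_isIso]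
    rfl
  have hD : {s : S | Scheme.Hom.finrank h s = 1} = Set.univ := by
    refine clopen_eq_univ i ha _ ((Scheme.Hom.isLocallyConstant_finrank h).isClopen_fiber 1) ?_
    rintro _ ⟨s₀, rfl⟩
    exact hrank1 s₀
  haveI : IsIso h := by
    rw [Scheme.Hom.isIso_iff_finrank_eq]
    ext s
    have : s ∈ {s : S | Scheme.Hom.finrank h s = 1} := by rw [hD]; trivial
    exact this
  refine ⟨inv h ≫ U'.ι, ?_, ?_⟩
  · rw [Category.assoc, ← hh, IsIso.inv_hom_id]
  · rw [← ha', ← Category.assoc]
    congr 1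
    rw [← ha'h, Category.assoc, IsIso.hom_inv_id, Category.comp_id]

end core

section uniq

set_option backward.isDefEq.respectTransparency false in
theorem isOpenImmersion_equalizer_ι_left {S : Scheme.{u}} {X Y : Over S}
    [FormallyUnramified Y.hom] [LocallyOfFiniteType Y.hom]
    (f g : X ⟶ Y) : IsOpenImmersion (equalizer.ι f g).left := by
  refine MorphismProperty.of_isPullback
    ((Limits.isPullback_equalizer_prod f g).map (Over.forget _)).flip ?_
  rw [← MorphismProperty.cancel_right_of_respectsIso @IsOpenImmersion _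
    (Over.prodLeftIsoPullback Y Y).hom]
  convert! (inferInstance : IsOpenImmersion (pullback.diagonal Y.hom))
  ext1 <;> simp [← Over.comp_left]

variable {S S₀ : Scheme.{u}} (i : S₀ ⟶ S)

theorem section_unique (ha : ClopenLift i) {S' : Scheme.{u}} (g : S' ⟶ S) [Etale g]
    [IsSeparated g] (u u' : S ⟶ S') (hu : u ≫ g = 𝟙 S) (hu' : u' ≫ g = 𝟙 S)
    (h : i ≫ u = i ≫ u') : u = u' := by
  let X : Over S := Over.mk (𝟙 S)
  let Y : Over S := Over.mk g
  let f : X ⟶ Y := Over.homMk u hu
  let f' : X ⟶ Y := Over.homMk u' hu'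
  haveI : IsSeparated Y.hom := ‹IsSeparated g›
  haveI : Etale Y.hom := ‹Etale g›
  haveI : IsClosedImmersion (equalizer.ι f f').left := inferInstance
  haveI : IsOpenImmersion (equalizer.ι f f').left := isOpenImmersion_equalizer_ι_left f f'
  let I : Over S := Over.mk i
  let iX : I ⟶ X := Over.homMk i (Category.comp_id _)
  have hi : iX ≫ f = iX ≫ f' := by
    ext
    exact h
  let l : I ⟶ equalizer f f' := equalizer.lift iX hi
  have hl : l.left ≫ (equalizer.ι f f').left = i := by
    rw [← Over.comp_left, equalizer.lift_ι]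
    rfl
  have hrange : Set.range (equalizer.ι f f').left.base = Set.univ := by
    refine clopen_eq_univ i ha _ ⟨(equalizer.ι f f').left.isClosedEmbedding.isClosed_range,
      (equalizer.ι f f').left.isOpenEmbedding.isOpen_range⟩ ?_
    rintro _ ⟨s₀, rfl⟩
    exact ⟨l.left.base s₀, by rw [← hl]; rfl⟩
  haveI : IsIso (equalizer.ι f f').left :=
    isIso_of_isOpenImmersion_of_opensRange_eq_top _
      (TopologicalSpace.Opens.ext (by rw [Scheme.Hom.coe_opensRange]; exact hrange))
  have hc : (equalizer.ι f f').left ≫ u = (equalizer.ι f f').left ≫ u' :=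
    congr($(equalizer.condition f f').left)
  exact (cancel_epi (equalizer.ι f f').left).mp hc

end uniq

section main

theorem exists_compact_opens {X : Scheme.{u}} (K : Set ↥X) (hK : IsCompact K) :
    ∃ U : X.Opens, IsCompact (U : Set ↥X) ∧ K ⊆ U := by
  obtain ⟨t, ht⟩ := hK.elim_finite_subcover (fun U : X.affineOpens => ((U.1 : X.Opens) : Set ↥X))
    (fun U => U.1.2) (by
      intro x _
      obtain ⟨_, ⟨U, hU, rfl⟩, hxU, -⟩ :=
        X.isBasis_affineOpens.exists_subset_of_mem_open (Set.mem_univ x) isOpen_univ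
      exact Set.mem_iUnion.mpr ⟨⟨U, hU⟩, hxU⟩)
  refine ⟨⨆ U ∈ t, (U.1 : X.Opens), ?_, ?_⟩
  · have : ((⨆ U ∈ t, (U.1 : X.Opens) : X.Opens) : Set ↥X) = ⋃ U ∈ t, ((U.1 : X.Opens) : Set ↥X) := by
      simp
    rw [this]
    exact t.isCompact_biUnion (fun U _ => U.2.isCompact)
  · intro x hx
    have := ht hx
    simpa using this

variable {S S₀ : Scheme.{u}} (i : S₀ ⟶ S) [IsClosedImmersion i]
  [CompactSpace ↥S] [QuasiSeparatedSpace ↥S]

theorem main (ha : ClopenLift i) {S' : Scheme.{u}} (g : S' ⟶ S) [Etale g] [IsSeparated g]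
    (u₀ : S₀ ⟶ pullback g i) (hu₀ : u₀ ≫ pullback.snd g i = 𝟙 S₀) :
    ∃! u : S ⟶ S', u ≫ g = 𝟙 S ∧ i ≫ u = u₀ ≫ pullback.fst g i := by
  haveI : CompactSpace ↥S₀ := i.isClosedEmbedding.compactSpace
  obtain ⟨U, hUc, hKU⟩ := exists_compact_opens (Set.range (u₀ ≫ pullback.fst g i).base)
    (isCompact_range (u₀ ≫ pullback.fst g i).continuous)
  haveI : CompactSpace ↥(U : Scheme.{u}) := isCompact_iff_compactSpace.mp hUc
  let a : S₀ ⟶ U := IsOpenImmersion.lift U.ι (u₀ ≫ pullback.fst g i)
    (by rw [Scheme.Opens.range_ι]; exact hKU)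
  have ha' : a ≫ U.ι = u₀ ≫ pullback.fst g i := IsOpenImmersion.lift_fac _ _ _
  have haS : a ≫ (U.ι ≫ g) = i := by
    rw [← Category.assoc, ha', Category.assoc, pullback.condition, ← Category.assoc, hu₀,
      Category.id_comp]
  obtain ⟨u, hu1, hu2⟩ := exists_section_of_compact i ha (U.ι ≫ g) a haS
  have hu1' : (u ≫ U.ι) ≫ g = 𝟙 S := by rw [Category.assoc, hu1]
  have hu2' : i ≫ (u ≫ U.ι) = u₀ ≫ pullback.fst g i := by rw [← Category.assoc, hu2, ha']
  refine ⟨u ≫ U.ι, ⟨hu1', hu2'⟩, ?_⟩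
  rintro u' ⟨h1, h2⟩
  exact section_unique i ha g u' (u ≫ U.ι) h1 hu1' (by rw [h2, hu2'])

end main

end Groth.Agent.Helper3.HPair
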