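import Mathlib
import Groth.Agent.Lead.HartogsCor
import Groth.Agent.Lead.PerfLib
import Groth.Agent.Helper6.DepthPi
import Groth.Agent.Helper4.FinLocFree2
import Groth.Agent.Helper3.FibDepth2

set_option autoImplicit false
set_option linter.style.haveILetI false
set_option linter.unusedSectionVars false
set_option linter.unusedVariables false
set_option linter.deprecated false
set_option linter.style.haveILetI false
set_option linter.unusedSectionVars false
set_option linter.unusedVariables false

universe u

open AlgebraicGeometry CategoryTheory IsLocalRing TopologicalSpace Limits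

namespace Groth.Agent.Helper3.HartFLF

/-- the depth of a stalk of a finite locally free module is at least the depth of the local ring -/
theorem depth_le_depth_stalk {X : Scheme.{u}} [IsLocallyNoetherian X] (E : X.Modules)
    (hE : FlatMod.IsFinLocFree E) (x : X) :
    LocCoh.depth (X.presheaf.stalk x) (X.presheaf.stalk x) ≤
      LocCoh.depth (X.presheaf.stalk x) (E.presheaf.stalk x) := by
  haveI : E.IsQuasicoherent := (Groth.Agent.Lead.PerfLib.isCoh_of_isFinLocFree hE).1
  obtain ⟨V, n, hxV, hV⟩ := hE x
  obtain ⟨b⟩ := Groth.Agent.Helper4.FinLocFree2.nonempty_basis_stalk_of_isFreeAlong E hV x hxV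
  unfold LocCoh.depth
  rw [Groth.Agent.Helper2.DepthCM.idealDepth_congr (maximalIdeal (X.presheaf.stalk x)) b.equivFun]
  exact Groth.Agent.Helper6.DepthLemma.idealDepth_pi_ge _ _ n

/-- Hartogs for finite locally free modules -/
theorem isIso_unit_of_finLocFree {X : Scheme.{u}} [IsLocallyNoetherian X] (U : X.Opens)
    (E : X.Modules) (hE : FlatMod.IsFinLocFree E)
    (hdepth : ∀ x : X, x ∉ U → (2 : ℕ∞) ≤ LocCoh.depth (X.presheaf.stalk x) (X.presheaf.stalk x)) :
    IsIso ((Scheme.Modules.restrictAdjunction U.ι).unit.app E) :=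
  Groth.Agent.Lead.HartogsCor.isIso_unit_of_depth U E
    (Groth.Agent.Lead.PerfLib.isCoh_of_isFinLocFree hE)
    (fun x hx => (hdepth x hx).trans (depth_le_depth_stalk E hE x))

theorem s17365 (k : Type u) [Field k] (S X : Scheme.{u})
    (b : S ⟶ Spec (CommRingCat.of k)) (a : X ⟶ Spec (CommRingCat.of k))
    [IsLocallyNoetherian S] [Smooth a]
    (E : (pullback b a).Modules) (hE : FlatMod.IsFinLocFree E)
    (Z : Closeds ↥(pullback b a))
    (hZ : ∀ x : ↥(pullback b a), x ∈ Z →
      (2 : WithBot ℕ∞) ≤ ringKrullDim ↑(CInt.fiberStalk (pullback.fst b a) x)) :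
    IsIso ((Scheme.Modules.restrictAdjunction
      (Scheme.Opens.ι (Z.compl : (pullback b a).Opens))).unit.app E) := by
  haveI : Smooth (pullback.fst b a) := MorphismProperty.pullback_fst _ _ inferInstance
  haveI : IsLocallyNoetherian (pullback b a) :=
    LocallyOfFiniteType.isLocallyNoetherian (pullback.fst b a)
  apply isIso_unit_of_finLocFree _ E hE
  intro x hx
  have hxZ : x ∈ Z := by
    by_contra h
    exact hx h
  exact Groth.Agent.Helper3.FibDepth2.le_depth_of_smooth (pullback.fst b a) x 2
    (by exact_mod_cast hZ x hxZ)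

end Groth.Agent.Helper3.HartFLF
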