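import Mathlib

open AlgebraicGeometry CategoryTheory Limits

universe u

namespace Groth.Agent.Helper3.HensFinPart

/-- A nonempty closed subset of a scheme over a local ring, contained in an open subscheme which is
finite over the base, contains a point over the closed point. -/
theorem exists_mem_closedPoint (R : Type u) [CommRing R] [IsLocalRing R]
    {X : Scheme.{u}} (f : X ⟶ Spec (CommRingCat.of R)) (W : X.Opens) [IsFinite (W.ι ≫ f)]
    (Z : Set X) (hZ : IsClosed Z) (hZW : Z ⊆ W) (hne : Z.Nonempty) :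
    ∃ z ∈ Z, f.base z = IsLocalRing.closedPoint R := by
  have hcl : IsClosedMap (W.ι ≫ f).base := (W.ι ≫ f).isClosedMap
  have h1 : IsClosed ((W.ι ≫ f).base '' (W.ι.base ⁻¹' Z)) :=
    hcl _ (hZ.preimage W.ι.continuous)
  obtain ⟨z, hz⟩ := hne
  have hzW : z ∈ W := hZW hz
  let w : W.toScheme := ⟨z, hzW⟩
  have hw : W.ι.base w = z := rfl
  have h2 : (W.ι ≫ f).base w ∈ (W.ι ≫ f).base '' (W.ι.base ⁻¹' Z) :=
    ⟨w, (by show W.ι.base w ∈ Z; rw [hw]; exact hz), rfl⟩
  have h3 : IsLocalRing.closedPoint R ∈ (W.ι ≫ f).base '' (W.ι.base ⁻¹' Z) :=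
    (IsLocalRing.specializes_closedPoint _).mem_closed h1 h2
  obtain ⟨w', hw', hw''⟩ := h3
  exact ⟨W.ι.base w', hw', by simpa using hw''⟩

end Groth.Agent.Helper3.HensFinPart

namespace Groth.Agent.Helper3.HensFinPart

theorem map_mem (R : Type u) [CommRing R] [IsLocalRing R]
    {X Y : Scheme.{u}} (f : X ⟶ Spec (CommRingCat.of R)) (f' : Y ⟶ Spec (CommRingCat.of R))
    (WX : X.Opens) (hWXc : IsClosed (WX : Set X)) (hWXf : IsFinite (WX.ι ≫ f))
    (WY : Y.Opens) (hWY : ∀ y : Y, f'.base y = IsLocalRing.closedPoint R → y ∈ WY)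
    (g : X ⟶ Y) (hg : g ≫ f' = f) (x : X) (hx : x ∈ WX) :
    g.base x ∈ WY := by
  by_contra hcon
  have hZ : IsClosed ((WX : Set X) ∩ g.base ⁻¹' ((WY : Set Y)ᶜ)) :=
    hWXc.inter ((WY.isOpen.isClosed_compl).preimage g.continuous)
  obtain ⟨z, hz, hz'⟩ := exists_mem_closedPoint R f WX _ hZ Set.inter_subset_left ⟨x, hx, hcon⟩
  have : f'.base (g.base z) = IsLocalRing.closedPoint R := by
    rw [← hz', ← hg]; rfl
  exact hz.2 (hWY _ this)

end Groth.Agent.Helper3.HensFinPart
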