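import Mathlib

open AlgebraicGeometry CategoryTheory Limits

universe u

namespace Groth.Agent.Helper3.ZMTAff

/-- Zariski's main theorem over an affine base: a quasi-finite separated morphism of finite type
to `Spec A` factors as an open immersion into `Spec B` with `B` integral over `A`. -/
theorem exists_integral_factorization (A : Type u) [CommRing A]
    {X : Scheme.{u}} (f : X ⟶ Spec (CommRingCat.of A))
    [LocallyQuasiFinite f] [LocallyOfFiniteType f] [QuasiCompact f] [IsSeparated f] :
    ∃ (B : Type u) (_ : CommRing B) (_ : Algebra A B) (_ : Algebra.IsIntegral A B)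
      (t : X ⟶ Spec (CommRingCat.of B)), IsOpenImmersion t ∧
        t ≫ Spec.map (CommRingCat.ofHom (algebraMap A B)) = f := by
  have hN : IsAffine f.normalization := isAffine_of_isAffineHom f.fromNormalization
  let e := f.normalization.isoSpec
  have hint : IsIntegralHom (e.inv ≫ f.fromNormalization) := inferInstance
  obtain ⟨φ, hφ⟩ := Spec.map_surjective (e.inv ≫ f.fromNormalization)
  rw [← hφ, IsIntegralHom.SpecMap_iff] at hint
  letI : Algebra A Γ(f.normalization, ⊤) := φ.hom.toAlgebra
  refine ⟨Γ(f.normalization, ⊤), inferInstance, inferInstance, ⟨hint⟩, f.toNormalization ≫ e.hom,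
    inferInstance, ?_⟩
  change (f.toNormalization ≫ e.hom) ≫ Spec.map φ = f
  rw [hφ, Category.assoc, Iso.hom_inv_id_assoc, f.toNormalization_fromNormalization]

end Groth.Agent.Helper3.ZMTAff
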