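import Mathlib
import Groth.Agent.Helper3.ZMTAff
import Groth.Agent.Helper3.IdemOpen
import Groth.Agent.Helper3.HensFinPartA
import Groth.Agent.Helper3.HensLocal

open AlgebraicGeometry CategoryTheory Limits

universe u

namespace Groth.Agent.Helper3.HensFinPart

theorem exists_finite_part_aux (A : Type u) [CommRing A] (I : Ideal A) [HenselianRing A I]
    {X : Scheme.{u}} (f : X ⟶ Spec (CommRingCat.of A)) [LocallyOfFiniteType f]
    (B : Type u) [CommRing B] [Algebra A B] [Algebra.IsIntegral A B]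
    (t : X ⟶ Spec (CommRingCat.of B)) [IsOpenImmersion t]
    (ht : t ≫ Spec.map (CommRingCat.ofHom (algebraMap A B)) = f)
    (hcl : IsClosed (t.base '' (f.base ⁻¹' PrimeSpectrum.zeroLocus (I : Set A)))) :
    ∃ W : X.Opens, IsClosed (W : Set X) ∧ IsFinite (W.ι ≫ f) ∧
      ∀ x : X, f.base x ∈ PrimeSpectrum.zeroLocus (I : Set A) → x ∈ W := by
  have hfx : ∀ x : X, f.base x = PrimeSpectrum.comap (algebraMap A B) (t.base x) := by
    intro x
    rw [← ht]
    rfl
  have hZ : PrimeSpectrum.zeroLocus ((I.map (algebraMap A B) : Ideal B) : Set B) =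
      PrimeSpectrum.comap (algebraMap A B) ⁻¹' PrimeSpectrum.zeroLocus (I : Set A) := by
    rw [PrimeSpectrum.preimage_comap_zeroLocus, Ideal.map, PrimeSpectrum.zeroLocus_span]
  have hUeq : Set.range t.base ∩
      PrimeSpectrum.zeroLocus ((I.map (algebraMap A B) : Ideal B) : Set B) =
      t.base '' (f.base ⁻¹' PrimeSpectrum.zeroLocus (I : Set A)) := by
    ext y
    constructor
    · rintro ⟨⟨x, rfl⟩, hy⟩
      refine ⟨x, ?_, rfl⟩
      rw [hZ] at hy
      change f.base x ∈ PrimeSpectrum.zeroLocus (I : Set A)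
      rw [hfx]
      exact hy
    · rintro ⟨x, hx, rfl⟩
      refine ⟨⟨x, rfl⟩, ?_⟩
      rw [hZ]
      change PrimeSpectrum.comap (algebraMap A B) (t.base x) ∈ PrimeSpectrum.zeroLocus (I : Set A)
      rw [← hfx]
      exact hx
  obtain ⟨e, he, heU, hUe⟩ := IdemOpen.exists_idem A I B (Set.range t.base)
    t.isOpenEmbedding.isOpen_range (by have h := hcl; rw [← hUeq] at h; exact h)
  have hDclosed : IsClosed ((PrimeSpectrum.basicOpen e : TopologicalSpace.Opens _) :
      Set (PrimeSpectrum B)) := by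
    rw [PrimeSpectrum.basicOpen_eq_zeroLocus_of_isIdempotentElem e he]
    exact PrimeSpectrum.isClosed_zeroLocus _
  let D : (Spec (CommRingCat.of B)).Opens := PrimeSpectrum.basicOpen e
  let W : X.Opens := t ⁻¹ᵁ D
  refine ⟨W, hDclosed.preimage t.continuous, ?_, ?_⟩
  · have hrange : Set.range (W.ι ≫ t).base = (D : Set (Spec (CommRingCat.of B))) := by
      rw [Scheme.Hom.comp_base, TopCat.coe_comp, Set.range_comp, Scheme.Opens.range_ι]
      change t.base '' (t.base ⁻¹' (D : Set _)) = D
      rw [Set.image_preimage_eq_inter_range]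
      exact Set.inter_eq_left.mpr heU
    have hci : IsClosedImmersion (W.ι ≫ t) :=
      IsClosedImmersion.of_isPreimmersion _ (by rw [hrange]; exact hDclosed)
    have hint : IsIntegralHom (Spec.map (CommRingCat.ofHom (algebraMap A B))) := by
      rw [IsIntegralHom.SpecMap_iff]
      exact algebraMap_isIntegral_iff.mpr inferInstance
    have h2 : IsIntegralHom (W.ι ≫ f) := by
      rw [← ht, ← Category.assoc]
      infer_instance
    exact (IsFinite.iff_isIntegralHom_and_locallyOfFiniteType _).mpr ⟨h2, inferInstance⟩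
  · intro x hx
    have : t.base x ∈ Set.range t.base ∩
        PrimeSpectrum.zeroLocus ((I.map (algebraMap A B) : Ideal B) : Set B) := by
      rw [hUeq]; exact ⟨x, hx, rfl⟩
    exact hUe this

end Groth.Agent.Helper3.HensFinPart

namespace Groth.Agent.Helper3.HensFinPart

theorem zeroLocus_maximalIdeal (R : Type u) [CommRing R] [IsLocalRing R] :
    PrimeSpectrum.zeroLocus ((IsLocalRing.maximalIdeal R : Ideal R) : Set R) =
      {IsLocalRing.closedPoint R} := by
  ext P
  simp only [PrimeSpectrum.mem_zeroLocus, SetLike.coe_subset_coe, Set.mem_singleton_iff]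
  constructor
  · intro h
    apply PrimeSpectrum.ext
    exact ((IsLocalRing.maximalIdeal.isMaximal R).eq_of_le P.2.ne_top h).symm
  · rintro rfl
    exact le_rfl

theorem exists_finite_part_local (R : Type u) [CommRing R] [HenselianLocalRing R]
    {X : Scheme.{u}} (f : X ⟶ Spec (CommRingCat.of R))
    [LocallyQuasiFinite f] [LocallyOfFiniteType f] [QuasiCompact f] [IsSeparated f] :
    ∃ W : X.Opens, IsClosed (W : Set X) ∧ IsFinite (W.ι ≫ f) ∧
      ∀ x : X, f.base x = IsLocalRing.closedPoint R → x ∈ W := by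
  obtain ⟨B, _, _, _, t, ht, htf⟩ := ZMTAff.exists_integral_factorization R f
  have hfx : ∀ x : X, f.base x = PrimeSpectrum.comap (algebraMap R B) (t.base x) := by
    intro x
    rw [← htf]
    rfl
  have hfin : (f.base ⁻¹' {IsLocalRing.closedPoint R}).Finite :=
    f.finite_preimage_singleton _
  have hcl : IsClosed (t.base '' (f.base ⁻¹'
      PrimeSpectrum.zeroLocus ((IsLocalRing.maximalIdeal R : Ideal R) : Set R))) := by
    have h0 : f.base ⁻¹' PrimeSpectrum.zeroLocus ((IsLocalRing.maximalIdeal R : Ideal R) : Set R)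
        = f.base ⁻¹' {IsLocalRing.closedPoint R} := by
      rw [zeroLocus_maximalIdeal]; rfl
    rw [h0, ← Set.biUnion_of_singleton (t.base '' (f.base ⁻¹' {IsLocalRing.closedPoint R}))]
    refine Set.Finite.isClosed_biUnion (hfin.image _) ?_
    rintro _ ⟨x, hx, rfl⟩
    have hx' : f.base x = IsLocalRing.closedPoint R := hx
    let P : PrimeSpectrum B := t.base x
    have hP : IsClosed ({P} : Set (PrimeSpectrum B)) := by
      rw [PrimeSpectrum.isClosed_singleton_iff_isMaximal]
      refine Ideal.isMaximal_of_isIntegral_of_isMaximal_comap (R := R) _ ?_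
      have h1 : P.asIdeal.comap (algebraMap R B) = IsLocalRing.maximalIdeal R := by
        have := congrArg PrimeSpectrum.asIdeal ((hfx x).symm.trans hx')
        exact this
      rw [h1]
      exact IsLocalRing.maximalIdeal.isMaximal R
    exact hP
  obtain ⟨W, hWc, hWf, hW⟩ := exists_finite_part_aux R (IsLocalRing.maximalIdeal R) f B t htf hcl
  refine ⟨W, hWc, hWf, fun x hx => hW x ?_⟩
  rw [zeroLocus_maximalIdeal]
  exact hx

end Groth.Agent.Helper3.HensFinPart

namespace Groth.Agent.Helper3.HensFinPart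

theorem existsUnique_finite_part_local (R : Type u) [CommRing R] [HenselianLocalRing R]
    {X : Scheme.{u}} (f : X ⟶ Spec (CommRingCat.of R))
    [LocallyQuasiFinite f] [LocallyOfFiniteType f] [QuasiCompact f] [IsSeparated f] :
    ∃! W : X.Opens, IsClosed (W : Set X) ∧ IsFinite (W.ι ≫ f) ∧
      ∀ x : X, f.base x = IsLocalRing.closedPoint R → x ∈ W := by
  obtain ⟨W, hWc, hWf, hW⟩ := exists_finite_part_local R f
  refine ⟨W, ⟨hWc, hWf, hW⟩, ?_⟩
  rintro W' ⟨hWc', hWf', hW'⟩
  have key : ∀ (W₁ W₂ : X.Opens), IsClosed (W₁ : Set X) → IsFinite (W₁.ι ≫ f) →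
      (∀ x : X, f.base x = IsLocalRing.closedPoint R → x ∈ W₂) → W₁ ≤ W₂ := by
    intro W₁ W₂ h1 h2 h3 x hx
    by_contra hcon
    obtain ⟨z, hz, hz'⟩ := exists_mem_closedPoint R f W₁ ((W₁ : Set X) ∩ (W₂ : Set X)ᶜ)
      (h1.inter W₂.isOpen.isClosed_compl) Set.inter_subset_left ⟨x, hx, hcon⟩
    exact hz.2 (h3 z hz')
  exact le_antisymm (key W' W hWc' hWf' hW) (key W W' hWc hWf hW')

end Groth.Agent.Helper3.HensFinPart
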