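import Mathlib
import Groth.Agent.Helper3.HensFinPartC
import Groth.Agent.Helper3.HensLocal

open AlgebraicGeometry CategoryTheory CategoryTheory.Limits TopologicalSpace Opposite

namespace Groth.Agent.Helper3.HensIsolated

universe u

/-- Step 1: an affine open neighbourhood on which `f` is quasi-finite and which meets the closed
fibre only in `x`. -/
theorem exists_affine_nhd (A : Type u) [CommRing A] [IsLocalRing A] (X : Scheme.{u})
    (f : X ⟶ Spec (CommRingCat.of A)) [LocallyOfFiniteType f]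
    (x : X) (hx : f.base x = IsLocalRing.closedPoint A)
    (hisol : IsOpen ((Subtype.val : (f.base ⁻¹' {IsLocalRing.closedPoint A}) → X) ⁻¹' {x})) :
    ∃ U : X.Opens, IsAffineOpen U ∧ x ∈ U ∧ LocallyQuasiFinite (U.ι ≫ f) ∧
      ∀ z : X, z ∈ U → f.base z = IsLocalRing.closedPoint A → z = x := by
  obtain ⟨O, hO, hOeq⟩ := isOpen_induced_iff.mp hisol
  have hxO : x ∈ O := by
    have : (⟨x, hx⟩ : (f.base ⁻¹' {IsLocalRing.closedPoint A})) ∈
        (Subtype.val : (f.base ⁻¹' {IsLocalRing.closedPoint A}) → X) ⁻¹' O := by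
      rw [hOeq]; rfl
    exact this
  have hOx : ∀ z : X, z ∈ O → f.base z = IsLocalRing.closedPoint A → z = x := by
    intro z hz hfz
    have : (⟨z, hfz⟩ : (f.base ⁻¹' {IsLocalRing.closedPoint A})) ∈
        (Subtype.val : (f.base ⁻¹' {IsLocalRing.closedPoint A}) → X) ⁻¹' O := hz
    rw [hOeq] at this
    exact this
  have hqf : f.QuasiFiniteAt x := by
    rw [Scheme.Hom.quasiFiniteAt_iff_isOpen_singleton_asFiber,
      ← (f.fiberHomeo (f x)).isOpen_image]
    simp only [Set.image_singleton, Scheme.Hom.asFiber, Homeomorph.apply_symm_apply]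
    rw [isOpen_induced_iff]
    refine ⟨O, hO, ?_⟩
    ext z
    simp only [Set.mem_preimage, Set.mem_singleton_iff]
    constructor
    · intro hz
      apply Subtype.ext
      exact hOx z.1 hz (z.2.trans hx)
    · rintro rfl
      exact hxO
  obtain ⟨_, ⟨U, hU, rfl⟩, hxU, hUsub⟩ := X.isBasis_affineOpens.exists_subset_of_mem_open
    (show x ∈ (O ∩ (f.quasiFiniteLocus : Set X)) from ⟨hxO, hqf⟩)
    (hO.inter f.quasiFiniteLocus.2)
  refine ⟨U, hU, hxU, ?_, fun z hz hfz => hOx z (hUsub hz).1 hfz⟩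
  rw [← Scheme.Hom.quasiFiniteLocus_eq_top_iff, Scheme.Hom.quasiFiniteLocus_comp, eq_top_iff]
  intro z _
  exact (hUsub z.2).2


/-- Step 2: a clopen affine finite part containing only `x` over the closed point. -/
theorem exists_finite_clopen (A : Type u) [CommRing A] [HenselianLocalRing A] (X : Scheme.{u})
    (f : X ⟶ Spec (CommRingCat.of A)) [LocallyOfFiniteType f] [IsSeparated f]
    (x : X) (hx : f.base x = IsLocalRing.closedPoint A)
    (hisol : IsOpen ((Subtype.val : (f.base ⁻¹' {IsLocalRing.closedPoint A}) → X) ⁻¹' {x})) :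
    ∃ V : X.Opens, IsAffineOpen V ∧ x ∈ V ∧ IsClosed (V : Set X) ∧ IsFinite (V.ι ≫ f) ∧
      ∀ z : X, z ∈ V → f.base z = IsLocalRing.closedPoint A → z = x := by
  obtain ⟨U, hU, hxU, hqf, hUx⟩ := exists_affine_nhd A X f x hx hisol
  haveI : IsAffine U.toScheme := hU
  haveI : QuasiCompact (U.ι ≫ f) := inferInstance
  obtain ⟨W, -, hWf, hW⟩ := HensFinPart.exists_finite_part_local A (U.ι ≫ f)
  have hWaff : IsAffineOpen W := by
    have : IsAffine W.toScheme := isAffine_of_isAffineHom (W.ι ≫ U.ι ≫ f)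
    exact this
  refine ⟨U.ι ''ᵁ W, hWaff.image_of_isOpenImmersion U.ι, ?_, ?_, ?_, ?_⟩
  · refine ⟨⟨x, hxU⟩, hW ⟨x, hxU⟩ ?_, rfl⟩
    exact hx
  · haveI : IsFinite ((U.ι ''ᵁ W).ι ≫ f) := by
      rw [← Scheme.Hom.isoImage_inv_ι U.ι W, Category.assoc, Category.assoc]
      infer_instance
    haveI : UniversallyClosed (U.ι ''ᵁ W).ι := UniversallyClosed.of_comp_of_isSeparated _ f
    have := (U.ι ''ᵁ W).ι.isClosedMap.isClosed_range
    rwa [Scheme.Opens.range_ι] at this
  · rw [← Scheme.Hom.isoImage_inv_ι U.ι W, Category.assoc, Category.assoc]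
    infer_instance
  · rintro z ⟨w, -, rfl⟩ hz
    exact hUx _ w.2 hz


theorem main (A : Type u) [CommRing A] [IsLocalRing A] [IsNoetherianRing A]
    [IsAdicComplete (IsLocalRing.maximalIdeal A) A] (X : Scheme.{u})
    (f : X ⟶ Spec (CommRingCat.of A)) [LocallyOfFiniteType f] [IsSeparated f]
    (x : X) (hx : f.base x = IsLocalRing.closedPoint A)
    (hisol : IsOpen ((Subtype.val : (f.base ⁻¹' {IsLocalRing.closedPoint A}) → X) ⁻¹' {x})) :
    ((Scheme.ΓSpecIso (CommRingCat.of A)).inv ≫ f.appTop ≫ X.presheaf.germ ⊤ x trivial).hom.Finite ∧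
      IsOpenImmersion (X.fromSpecStalk x) ∧ IsClosedImmersion (X.fromSpecStalk x) := by
  haveI : HenselianLocalRing A := HensLocal.henselianLocalRing_of_henselianRing A
  obtain ⟨V, hV, hxV, hVc, hVf, hVx⟩ := exists_finite_clopen A X f x hx hisol
  haveI : IsOpenImmersion hV.fromSpec := hV.isOpenImmersion_fromSpec
  let φ' : CommRingCat.of A ⟶ Γ(X, V) :=
    (Scheme.ΓSpecIso (CommRingCat.of A)).inv ≫ f.appLE ⊤ V le_top
  have K1 : hV.fromSpec ≫ f = Spec.map φ' := by
    rw [← IsAffineOpen.SpecMap_appLE_fromSpec f (isAffineOpen_top _) hV le_top,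
      IsAffineOpen.fromSpec_top, Scheme.isoSpec_Spec_inv, ← Spec.map_comp]
  have hfin : φ'.hom.Finite := by
    rw [← IsFinite.SpecMap_iff, ← K1]
    have : hV.fromSpec = hV.isoSpec.inv ≫ V.ι := rfl
    rw [this, Category.assoc]
    infer_instance
  let px : PrimeSpectrum Γ(X, V) := hV.primeIdealOf ⟨x, hxV⟩
  have hpx : hV.fromSpec px = x := hV.fromSpec_primeIdealOf ⟨x, hxV⟩
  have huniq : ∀ M : Ideal Γ(X, V), M.IsMaximal → M = px.asIdeal := by
    intro M hM
    let P : PrimeSpectrum Γ(X, V) := ⟨M, hM.isPrime⟩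
    have hzV : hV.fromSpec P ∈ V := by
      have : hV.fromSpec P ∈ Set.range hV.fromSpec := ⟨P, rfl⟩
      rwa [hV.range_fromSpec] at this
    have hfz : f.base (hV.fromSpec P) = IsLocalRing.closedPoint A := by
      have h1 : f.base (hV.fromSpec P) = (Spec.map φ') P := by
        rw [← K1]; rfl
      rw [h1]
      apply PrimeSpectrum.ext
      have hmax : (M.comap φ'.hom).IsMaximal :=
        Ideal.isMaximal_comap_of_isIntegral_of_isMaximal' φ'.hom hfin.to_isIntegral M
      exact IsLocalRing.eq_maximalIdeal hmax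
    have h2 : hV.fromSpec P = hV.fromSpec px := (hVx _ hzV hfz).trans hpx.symm
    have h3 : P = px := hV.fromSpec.isOpenEmbedding.injective h2
    exact congrArg PrimeSpectrum.asIdeal h3
  haveI : Nontrivial Γ(X, V) := ⟨⟨0, 1, fun h => px.2.ne_top (by
    rw [Ideal.eq_top_iff_one, ← h]; exact Ideal.zero_mem _)⟩⟩
  obtain ⟨M, hM⟩ := Ideal.exists_maximal Γ(X, V)
  have hpxmax : px.asIdeal.IsMaximal := huniq M hM ▸ hM
  haveI : IsLocalRing Γ(X, V) :=
    IsLocalRing.of_unique_max_ideal ⟨px.asIdeal, hpxmax, fun M hM => huniq M hM⟩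
  have hmaxeq : IsLocalRing.maximalIdeal Γ(X, V) = px.asIdeal :=
    (IsLocalRing.eq_maximalIdeal hpxmax).symm
  -- the germ map is bijective
  let ψ : Γ(X, V) ⟶ X.presheaf.stalk x := X.presheaf.germ V x hxV
  letI : Algebra Γ(X, V) (X.presheaf.stalk x) :=
    TopCat.Presheaf.algebra_section_stalk X.presheaf ⟨x, hxV⟩
  haveI hloc : IsLocalization.AtPrime (X.presheaf.stalk x) px.asIdeal :=
    hV.isLocalization_stalk ⟨x, hxV⟩
  have hunits : px.asIdeal.primeCompl ≤ IsUnit.submonoid Γ(X, V) := by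
    intro y hy
    have : y ∉ IsLocalRing.maximalIdeal Γ(X, V) := by rw [hmaxeq]; exact hy
    exact IsLocalRing.notMem_maximalIdeal.mp this
  have hbij : Function.Bijective ψ.hom :=
    (IsLocalization.atUnits Γ(X, V) px.asIdeal.primeCompl (S := X.presheaf.stalk x) hunits).bijective
  haveI : IsIso ψ := (ConcreteCategory.isIso_iff_bijective ψ).mpr hbij
  have hstalk : X.fromSpecStalk x = Spec.map ψ ≫ hV.fromSpec :=
    (hV.fromSpecStalk_eq_fromSpecStalk hxV).symm
  refine ⟨?_, ?_, ?_⟩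
  · have h1 : (Scheme.ΓSpecIso (CommRingCat.of A)).inv ≫ f.appTop ≫ X.presheaf.germ ⊤ x trivial =
        φ' ≫ ψ := by
      have h2 : f.appLE ⊤ V le_top = f.appTop ≫ X.presheaf.map (homOfLE le_top).op := rfl
      have h3 : X.presheaf.map (homOfLE (le_top : V ≤ ⊤)).op ≫ X.presheaf.germ V x hxV =
          X.presheaf.germ ⊤ x trivial := X.presheaf.germ_res (homOfLE le_top) x hxV
      simp only [φ', ψ, h2, Category.assoc, h3]
    rw [h1, CommRingCat.hom_comp]
    exact (RingHom.Finite.of_surjective _ hbij.2).comp hfin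
  · rw [hstalk]; infer_instance
  · haveI : IsClosedImmersion hV.fromSpec :=
      IsClosedImmersion.of_isPreimmersion _ (by rw [hV.range_fromSpec]; exact hVc)
    rw [hstalk]; infer_instance

end Groth.Agent.Helper3.HensIsolated
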