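import Mathlib
import Groth.Agent.Helper3.HensIsolated
import Groth.Agent.Helper4.SchLQF

open AlgebraicGeometry CategoryTheory CategoryTheory.Limits TopologicalSpace Opposite

namespace Groth.Agent.Helper3.HensEtaleCover

universe u

theorem main (A : Type u) [CommRing A] [HenselianLocalRing A]
    (T : Scheme.{u}) (f : T ⟶ Spec (CommRingCat.of A)) [Etale f] [Surjective f] :
    ∃ U : T.Opens, IsFinite (U.ι ≫ f) ∧ Surjective (U.ι ≫ f) := by
  obtain ⟨t, ht⟩ := f.surjective (IsLocalRing.closedPoint A)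
  obtain ⟨_, ⟨(T₀ : T.Opens), hT₀, rfl⟩, htT₀, -⟩ := T.isBasis_affineOpens.exists_subset_of_mem_open
    (Set.mem_univ t) isOpen_univ
  haveI : IsAffine T₀.toScheme := hT₀
  let g : T₀.toScheme ⟶ Spec (CommRingCat.of A) := T₀.ι ≫ f
  haveI : Etale g := inferInstance
  haveI : LocallyQuasiFinite g := Groth.Agent.Helper4.SchLQF.locallyQuasiFinite_of_etale g
  haveI : IsSeparated g := inferInstance
  let t₀ : T₀.toScheme := ⟨t, htT₀⟩
  have ht₀ : g.base t₀ = IsLocalRing.closedPoint A := ht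
  have hdisc : _root_.IsDiscrete (g.base ⁻¹' {IsLocalRing.closedPoint A}) :=
    g.isDiscrete_preimage_singleton _
  haveI : DiscreteTopology ↥(g.base ⁻¹' {IsLocalRing.closedPoint A}) := hdisc.to_subtype
  obtain ⟨V, -, ht₀V, -, hVf, -⟩ := HensIsolated.exists_finite_clopen A T₀.toScheme g t₀ ht₀
    (isOpen_discrete _)
  haveI hfin : IsFinite ((T₀.ι ''ᵁ V).ι ≫ f) := by
    rw [← Scheme.Hom.isoImage_inv_ι T₀.ι V, Category.assoc, Category.assoc]
    infer_instance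
  refine ⟨T₀.ι ''ᵁ V, hfin, ⟨fun y => ?_⟩⟩
  haveI : Etale ((T₀.ι ''ᵁ V).ι ≫ f) := inferInstance
  have hopen : IsOpen (Set.range ((T₀.ι ''ᵁ V).ι ≫ f).base) :=
    ((T₀.ι ''ᵁ V).ι ≫ f).isOpenMap.isOpen_range
  have hcl : IsLocalRing.closedPoint A ∈ Set.range ((T₀.ι ''ᵁ V).ι ≫ f).base := by
    refine ⟨⟨t, ⟨t₀, ht₀V, rfl⟩⟩, ?_⟩
    exact ht
  exact (IsLocalRing.specializes_closedPoint y).mem_open hopen hcl

end Groth.Agent.Helper3.HensEtaleCover
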