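import Groth.Agent.Helper3.HensFEt
import Groth.Agent.Helper3.HensLocal

/-!
Étale algebra maps into finite algebras over a henselian pair.
-/

namespace Groth.Agent.Helper3.HensFEt

open Groth.Agent.Helper3.HensGabber
open scoped TensorProduct

universe u

/-- Over a henselian pair, maps from an étale algebra into an integral algebra `C` biject with
maps into `C/IC`. -/
theorem hom_bijective_quot (A : Type u) [CommRing A] (I : Ideal A) [HenselianRing A I]
    (E C : Type u) [CommRing E] [CommRing C] [Algebra A E] [Algebra A C]
    [Algebra.Etale A E] [Algebra.IsIntegral A C] :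
    Function.Bijective (fun φ : E →ₐ[A] C =>
      (Ideal.Quotient.mkₐ A (Ideal.map (algebraMap A C) I)).comp φ) := by
  set J := I.map (algebraMap A C) with hJ
  have hC : HenselianRing C J := HensRows.hens_of_isIntegral A I C
  constructor
  · intro φ ψ hφψ
    refine unram_unique J hC.jac φ ψ fun b => ?_
    have := congr($hφψ b)
    exact Ideal.Quotient.eq.1 this
  · intro g
    let σ : C ⊗[A] E →ₐ[C] C ⧸ J :=
      Algebra.TensorProduct.lift (Algebra.ofId C (C ⧸ J)) g (fun _ _ => Commute.all _ _)
    obtain ⟨τ, hτ⟩ := HensEtale.etale_lift J (C ⊗[A] E) σ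
    refine ⟨(τ.restrictScalars A).comp Algebra.TensorProduct.includeRight, ?_⟩
    ext b
    have := congr($hτ (1 ⊗ₜ[A] b))
    have h2 : σ (1 ⊗ₜ[A] b) = g b := by simp [σ]
    rw [h2] at this
    exact this

/-- S5066 -/
theorem henselianLocal_iff_hom_bijective (A : Type u) [CommRing A] [IsLocalRing A] :
    HenselianLocalRing A ↔
      ∀ (C : Type u) [CommRing C] [Algebra A C] [Module.Finite A C] (E : Type u) [CommRing E]
        [Algebra A E] [Algebra.Etale A E],
        Function.Bijective (fun φ : E →ₐ[A] C =>
          (Ideal.Quotient.mkₐ A (Ideal.map (algebraMap A C) (IsLocalRing.maximalIdeal A))).comp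
            φ) := by
  constructor
  · intro h C _ _ _ E _ _ _
    exact hom_bijective_quot A (IsLocalRing.maximalIdeal A) E C
  · intro H
    have hH : HenselianRing A (IsLocalRing.maximalIdeal A) := by
      refine HensEtale.hens_of_etale_lift _ fun A' _ _ _ σ => ?_
      have hm : IsLocalRing.maximalIdeal A =
          Ideal.map (algebraMap A A) (IsLocalRing.maximalIdeal A) := by
        rw [Algebra.algebraMap_self, Ideal.map_id]
      let e := Ideal.quotientEquivAlgOfEq A hm
      obtain ⟨τ, hτ⟩ := (H A A').2 (e.toAlgHom.comp σ)
      refine ⟨τ, ?_⟩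
      ext x
      have h1 := congr($hτ x)
      apply e.injective
      change _ = (e.toAlgHom.comp σ) x
      rw [← h1]
      rfl
    exact HensLocal.henselianLocalRing_of_henselianRing A

end Groth.Agent.Helper3.HensFEt
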