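import Mathlib
import Groth.Agent.Helper3.HensFinPartA

open AlgebraicGeometry CategoryTheory Limits

universe u

namespace Groth.Agent.Helper3.HensFinPart

/-- Variant of `exists_mem_closedPoint` for an arbitrary morphism `j` with `j ≫ f` finite. -/
theorem exists_mem_closedPoint' (R : Type u) [CommRing R] [IsLocalRing R]
    {X P : Scheme.{u}} (f : X ⟶ Spec (CommRingCat.of R)) (j : P ⟶ X) [IsFinite (j ≫ f)]
    (Z : Set X) (hZ : IsClosed Z) (hZW : Z ⊆ Set.range j.base) (hne : Z.Nonempty) :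
    ∃ z ∈ Z, f.base z = IsLocalRing.closedPoint R := by
  have hcl : IsClosedMap (j ≫ f).base := (j ≫ f).isClosedMap
  have h1 : IsClosed ((j ≫ f).base '' (j.base ⁻¹' Z)) :=
    hcl _ (hZ.preimage j.continuous)
  obtain ⟨z, hz⟩ := hne
  obtain ⟨w, hw⟩ := hZW hz
  have h2 : (j ≫ f).base w ∈ (j ≫ f).base '' (j.base ⁻¹' Z) :=
    ⟨w, (by show j.base w ∈ Z; rw [hw]; exact hz), rfl⟩
  have h3 : IsLocalRing.closedPoint R ∈ (j ≫ f).base '' (j.base ⁻¹' Z) :=
    (IsLocalRing.specializes_closedPoint _).mem_closed h1 h2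
  obtain ⟨w', hw', hw''⟩ := h3
  exact ⟨j.base w', hw', by simpa using hw''⟩

theorem mem_prod_iff (R : Type u) [CommRing R] [IsLocalRing R]
    {X Y : Scheme.{u}} (f : X ⟶ Spec (CommRingCat.of R)) (f' : Y ⟶ Spec (CommRingCat.of R))
    (WX : X.Opens) (hWXc : IsClosed (WX : Set X)) (hWXf : IsFinite (WX.ι ≫ f))
    (hWX : ∀ x : X, f.base x = IsLocalRing.closedPoint R → x ∈ WX)
    (WY : Y.Opens) (hWYc : IsClosed (WY : Set Y)) (hWYf : IsFinite (WY.ι ≫ f'))
    (hWY : ∀ y : Y, f'.base y = IsLocalRing.closedPoint R → y ∈ WY)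
    (W : (pullback f f').Opens) (hWc : IsClosed (W : Set ↥(pullback f f')))
    (hWf : IsFinite (W.ι ≫ (pullback.fst f f' ≫ f)))
    (hW : ∀ x : ↥(pullback f f'),
      (pullback.fst f f' ≫ f).base x = IsLocalRing.closedPoint R → x ∈ W)
    (z : ↥(pullback f f')) :
    z ∈ W ↔ ((pullback.fst f f').base z ∈ WX ∧ (pullback.snd f f').base z ∈ WY) := by
  constructor
  · intro hz
    refine ⟨map_mem R (pullback.fst f f' ≫ f) f W hWc hWf WX hWX (pullback.fst f f') rfl z hz,
      map_mem R (pullback.fst f f' ≫ f) f' W hWc hWf WY hWY (pullback.snd f f')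
        pullback.condition.symm z hz⟩
  · rintro ⟨h1, h2⟩
    by_contra hcon
    let j : pullback (WX.ι ≫ f) (WY.ι ≫ f') ⟶ pullback f f' :=
      pullback.map (WX.ι ≫ f) (WY.ι ≫ f') f f' WX.ι WY.ι (𝟙 _) (by simp) (by simp)
    have hj : Set.range j.base =
        (pullback.fst f f').base ⁻¹' Set.range WX.ι.base ∩
          (pullback.snd f f').base ⁻¹' Set.range WY.ι.base :=
      Scheme.Pullback.range_map _ _ _ _ _ _ _ _ _
    have hfin : IsFinite (j ≫ (pullback.fst f f' ≫ f)) := by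
      have : j ≫ (pullback.fst f f' ≫ f) =
          pullback.fst (WX.ι ≫ f) (WY.ι ≫ f') ≫ (WX.ι ≫ f) := by
        simp only [j]
        rw [← Category.assoc, pullback.lift_fst, Category.assoc]
      rw [this]
      infer_instance
    have hZ : IsClosed (((pullback.fst f f').base ⁻¹' (WX : Set X) ∩
        (pullback.snd f f').base ⁻¹' (WY : Set Y)) ∩ (W : Set ↥(pullback f f'))ᶜ) :=
      ((hWXc.preimage (pullback.fst f f').continuous).inter
        (hWYc.preimage (pullback.snd f f').continuous)).inter W.isOpen.isClosed_compl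
    obtain ⟨z', hz', hz''⟩ := exists_mem_closedPoint' R (pullback.fst f f' ≫ f) j _ hZ
      (by
        rw [hj]
        intro w hw
        refine ⟨?_, ?_⟩
        · simpa using hw.1.1
        · simpa using hw.1.2) ⟨z, ⟨h1, h2⟩, hcon⟩
    exact hz'.2 (hW _ hz'')

end Groth.Agent.Helper3.HensFinPart
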