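import Mathlib
import Groth.Agent.Helper3.HensFinPartC
import Groth.Agent.Helper4.SchLQF

open AlgebraicGeometry CategoryTheory Limits

universe u

namespace Groth.Agent.Helper3.HensFinPart

/-- Finite part over a henselian pair, assuming the base change to `A/I` is finite. -/
theorem exists_finite_part_pair (A : Type u) [CommRing A] (I : Ideal A) [HenselianRing A I]
    {X : Scheme.{u}} (f : X ⟶ Spec (CommRingCat.of A))
    [LocallyQuasiFinite f] [LocallyOfFiniteType f] [QuasiCompact f] [IsSeparated f]
    (hfin : IsFinite (pullback.snd f (Spec.map (CommRingCat.ofHom (Ideal.Quotient.mk I))))) :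
    ∃ W : X.Opens, IsClosed (W : Set X) ∧ IsFinite (W.ι ≫ f) ∧
      ∀ x : X, f.base x ∈ PrimeSpectrum.zeroLocus (I : Set A) → x ∈ W := by
  obtain ⟨B, _, _, _, t, ht, htf⟩ := ZMTAff.exists_integral_factorization A f
  set i := Spec.map (CommRingCat.ofHom (Ideal.Quotient.mk I)) with hi
  have hrange_i : Set.range i.base = PrimeSpectrum.zeroLocus (I : Set A) := by
    have := range_comap_of_surjective (A ⧸ I) (Ideal.Quotient.mk I)
      Ideal.Quotient.mk_surjective
    rw [Ideal.mk_ker] at this
    exact this
  have hcl : IsClosed (t.base '' (f.base ⁻¹' PrimeSpectrum.zeroLocus (I : Set A))) := by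
    have h1 : t.base '' (f.base ⁻¹' PrimeSpectrum.zeroLocus (I : Set A)) =
        Set.range (pullback.fst f i ≫ t).base := by
      rw [Scheme.Hom.comp_base, TopCat.coe_comp, Set.range_comp, Scheme.Pullback.range_fst,
        hrange_i]
    rw [h1]
    have hci : IsClosedImmersion i :=
      IsClosedImmersion.spec_of_surjective _ Ideal.Quotient.mk_surjective
    have h2 : IsFinite ((pullback.fst f i ≫ t) ≫
        Spec.map (CommRingCat.ofHom (algebraMap A B))) := by
      rw [Category.assoc, htf, pullback.condition]
      infer_instance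
    have h3 : UniversallyClosed (pullback.fst f i ≫ t) :=
      UniversallyClosed.of_comp_of_isSeparated _ (Spec.map (CommRingCat.ofHom (algebraMap A B)))
    exact (pullback.fst f i ≫ t).isClosedMap.isClosed_range
  exact exists_finite_part_aux A I f B t htf hcl

end Groth.Agent.Helper3.HensFinPart
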