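import Mathlib
import Groth.Agent.Helper3.HensQF
import Groth.Agent.Helper3.HensRows

set_option linter.style.haveILetI false
set_option linter.unusedSectionVars false
set_option linter.unusedVariables false
set_option linter.style.haveILetI false
set_option linter.unusedSectionVars false
set_option linter.unusedVariables false

open Polynomial TensorProduct Function

namespace Groth.Agent.Helper3.HensNonMonic

universe u

theorem quasiFinite_adjoinRoot {R : Type u} [CommRing R] (f : R[X]) (i : ℕ)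
    (hi : IsUnit (f.coeff i)) : Algebra.QuasiFinite R (AdjoinRoot f) := by
  refine ⟨fun P _ => ?_⟩
  let K := P.ResidueField
  let y : P.Fiber (AdjoinRoot f) := (1 : K) ⊗ₜ[R] AdjoinRoot.root f
  have hy : IsIntegral K y := by
    refine IsAlgebraic.isIntegral ⟨f.map (algebraMap R K), ?_, ?_⟩
    · intro h0
      have h1 := congrArg (fun p => p.coeff i) h0
      simp only [coeff_map, coeff_zero] at h1
      exact (hi.map (algebraMap R K)).ne_zero h1
    · rw [aeval_map_algebraMap]
      have : aeval y f = (Algebra.TensorProduct.includeRight : AdjoinRoot f →ₐ[R] K ⊗[R] AdjoinRoot f)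
          (aeval (AdjoinRoot.root f) f) := by
        rw [← Polynomial.aeval_algHom_apply]; rfl
      rw [this, AdjoinRoot.aeval_eq, AdjoinRoot.mk_self, map_zero]
  have htop : Algebra.adjoin K ({y} : Set (P.Fiber (AdjoinRoot f))) = ⊤ := by
    have := Algebra.TensorProduct.adjoin_one_tmul_image_eq_top (A := K)
      ({AdjoinRoot.root f} : Set (AdjoinRoot f)) AdjoinRoot.adjoinRoot_eq_top
    simpa using this
  have hfin : Module.Finite K (Algebra.adjoin K ({y} : Set (P.Fiber (AdjoinRoot f)))) :=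
    Algebra.finite_adjoin_simple_of_isIntegral hy
  rw [htop] at hfin
  exact Module.Finite.equiv (Subalgebra.topEquiv (R := K) (A := P.Fiber (AdjoinRoot f))).toLinearEquiv

section local_

variable {R : Type u} [CommRing R] [IsLocalRing R]

local notation "res" => IsLocalRing.residue R
local notation "𝔪" => IsLocalRing.maximalIdeal R

/-- If `f̄ ∣ p̄` then the class of `p` in `R[X]/(f)` lies in `𝔪 · R[X]/(f)`. -/
theorem mk_mem_of_map_dvd (f p : R[X]) (h : f.map res ∣ p.map res) :
    AdjoinRoot.mk f p ∈ (𝔪).map (algebraMap R (AdjoinRoot f)) := by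
  obtain ⟨c, hc⟩ := h
  obtain ⟨Cc, rfl⟩ := Polynomial.map_surjective res IsLocalRing.residue_surjective c
  have hker : p - f * Cc ∈ RingHom.ker (Polynomial.mapRingHom res) := by
    rw [RingHom.mem_ker, map_sub, map_mul]
    simp only [coe_mapRingHom]
    rw [hc, sub_self]
  rw [Polynomial.ker_mapRingHom, IsLocalRing.ker_residue] at hker
  have h1 : AdjoinRoot.mk f p = AdjoinRoot.mk f (p - f * Cc) := by
    rw [map_sub, map_mul, AdjoinRoot.mk_self, zero_mul, sub_zero]
  rw [h1]
  have h2 : (𝔪).map (algebraMap R (AdjoinRoot f)) = ((𝔪).map (C : R →+* R[X])).map (AdjoinRoot.mk f) := by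
    rw [Ideal.map_map]; rfl
  rw [h2]
  exact Ideal.mem_map_of_mem _ hker

/-- unit modulo `𝔪` in a monogenic finite algebra -/
theorem isUnit_mk_of_mul_sub_one (g a w : R[X]) (hg : g.Monic)
    (h : g.map res ∣ (a * w - 1).map res) : IsUnit (AdjoinRoot.mk g a) := by
  have hmem := mk_mem_of_map_dvd g (a * w - 1) h
  haveI : Algebra.IsIntegral R (AdjoinRoot g) :=
    haveI : Module.Finite R (AdjoinRoot g) := (AdjoinRoot.powerBasis' hg).finite
    Algebra.IsIntegral.of_finite R _
  have hjac : (𝔪).map (algebraMap R (AdjoinRoot g)) ≤ Ideal.jacobson ⊥ :=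
    HensTFAE.map_le_jacobson_of_isIntegral 𝔪
      (le_of_eq (IsLocalRing.jacobson_eq_maximalIdeal (⊥ : Ideal R) bot_ne_top).symm)
  have hu : IsUnit (AdjoinRoot.mk g a * AdjoinRoot.mk g w) := by
    have h1 : AdjoinRoot.mk g a * AdjoinRoot.mk g w - 1 ∈ Ideal.jacobson (⊥ : Ideal (AdjoinRoot g)) := by
      have := hjac hmem
      simpa [map_sub, map_mul] using this
    have h2 := Ideal.mem_jacobson_bot.mp h1 1
    simpa using h2
  exact isUnit_of_mul_isUnit_left hu

end local_

section main

variable (R : Type u) [CommRing R] [HenselianLocalRing R]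

local notation "res" => IsLocalRing.residue R
local notation "𝔪" => IsLocalRing.maximalIdeal R

theorem main (f : Polynomial R) (g₀ h₀ : Polynomial (IsLocalRing.ResidueField R)) (hg : g₀.Monic)
    (hc : IsCoprime g₀ h₀) (hf : Polynomial.map (IsLocalRing.residue R) f = g₀ * h₀) :
    ∃ g h : Polynomial R, f = g * h ∧ g.Monic ∧ Polynomial.map (IsLocalRing.residue R) g = g₀ ∧
      Polynomial.map (IsLocalRing.residue R) h = h₀ := by
  classical
  by_cases hf0 : f.map res = 0
  · -- trivial case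
    have hh0 : h₀ = 0 := by
      rw [hf0] at hf
      rcases mul_eq_zero.mp hf.symm with h | h
      · exact absurd h hg.ne_zero
      · exact h
    subst hh0
    have hgu : IsUnit g₀ := isCoprime_zero_right.mp hc
    have hg1 : g₀ = 1 := hg.eq_one_of_isUnit hgu
    exact ⟨1, f, by rw [one_mul], monic_one, by rw [Polynomial.map_one, hg1], hf0⟩
  -- main case
  obtain ⟨i, hi⟩ : ∃ i, IsUnit (f.coeff i) := by
    by_contra hcon
    push Not at hcon
    apply hf0
    ext i
    rw [coeff_map, coeff_zero, IsLocalRing.residue_eq_zero_iff]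
    exact (IsLocalRing.mem_maximalIdeal _).mpr (hcon i)
  haveI : Algebra.QuasiFinite R (AdjoinRoot f) := quasiFinite_adjoinRoot f i hi
  obtain ⟨e, he, hefin, hetop⟩ := HensQF.qf_split R (AdjoinRoot f)
  set mS : Ideal (AdjoinRoot f) := (𝔪).map (algebraMap R (AdjoinRoot f)) with hmS
  have hee : e * e = e := he
  -- `1 - e ∈ 𝔪 S`
  have h1e : 1 - e ∈ mS := by
    have h1 : (1 : AdjoinRoot f ⧸ Ideal.span ({e} : Set (AdjoinRoot f))) ∈
        (𝔪).map (algebraMap R (AdjoinRoot f ⧸ Ideal.span ({e} : Set (AdjoinRoot f)))) := by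
      rw [hetop]; trivial
    have h2 : (𝔪).map (algebraMap R (AdjoinRoot f ⧸ Ideal.span ({e} : Set (AdjoinRoot f)))) =
        mS.map (Ideal.Quotient.mk (Ideal.span ({e} : Set (AdjoinRoot f)))) := by
      rw [hmS, Ideal.map_map]; rfl
    rw [h2, ← map_one (Ideal.Quotient.mk (Ideal.span ({e} : Set (AdjoinRoot f)))),
      Ideal.mem_map_iff_of_surjective _ Ideal.Quotient.mk_surjective] at h1
    obtain ⟨μ, hμ, hμ1⟩ := h1
    have h3 : μ - 1 ∈ Ideal.span ({e} : Set (AdjoinRoot f)) := Ideal.Quotient.eq.mp hμ1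
    obtain ⟨c, hc'⟩ := Ideal.mem_span_singleton'.mp h3
    have h4 : 1 - e = (1 - e) * μ := by
      have : (1 - e) * (μ - 1) = 0 := by
        rw [← hc']
        linear_combination (-c) * hee
      linear_combination -this
    rw [h4]
    exact Ideal.mul_mem_left _ _ hμ
  -- coprimality data and lifts
  obtain ⟨u, v, huv⟩ := hc
  obtain ⟨V, rfl⟩ := Polynomial.map_surjective res IsLocalRing.residue_surjective v
  obtain ⟨U, rfl⟩ := Polynomial.map_surjective res IsLocalRing.residue_surjective u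
  obtain ⟨Hh, rfl⟩ := Polynomial.map_surjective res IsLocalRing.residue_surjective h₀
  obtain ⟨G, hGmap, hGdeg, hGmonic⟩ := Polynomial.lifts_and_natDegree_eq_and_monic
    ((Polynomial.mem_lifts _).mpr (Polynomial.map_surjective res IsLocalRing.residue_surjective g₀))
    hg
  set n := g₀.natDegree with hn
  set b : AdjoinRoot f := AdjoinRoot.mk f (V * Hh) with hb
  have hbb : b * b - b ∈ mS := by
    have : b * b - b = AdjoinRoot.mk f ((V * Hh) * (V * Hh) - V * Hh) := by
      rw [map_sub, map_mul]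
    rw [this]
    apply mk_mem_of_map_dvd
    refine ⟨-(U.map res * V.map res), ?_⟩
    rw [hf]
    simp only [Polynomial.map_sub, Polynomial.map_mul]
    linear_combination (V.map res * Hh.map res) * huv
  -- idempotent lifting in the finite part
  haveI := hefin
  haveI : Algebra.IsIntegral R (AdjoinRoot f ⧸ Ideal.span ({1 - e} : Set (AdjoinRoot f))) :=
    Algebra.IsIntegral.of_finite R _
  have hIL := HensRows.idemLift_of_hens (𝔪)
    (AdjoinRoot f ⧸ Ideal.span ({1 - e} : Set (AdjoinRoot f)))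
  set mk₁ := Ideal.Quotient.mk (Ideal.span ({1 - e} : Set (AdjoinRoot f))) with hmk₁
  have hmap₁ : (𝔪).map (algebraMap R (AdjoinRoot f ⧸ Ideal.span ({1 - e} : Set (AdjoinRoot f)))) =
      mS.map mk₁ := by
    rw [hmS, Ideal.map_map]; rfl
  obtain ⟨ε₁, hε₁, hε₁b⟩ := hIL (mk₁ b) (by
    rw [hmap₁, ← map_mul, ← map_sub]; exact Ideal.mem_map_of_mem _ hbb)
  obtain ⟨ε', rfl⟩ := Ideal.Quotient.mk_surjective ε₁
  have hε'b : ε' - b ∈ mS := by
    rw [hmap₁, ← map_sub, Ideal.mem_map_iff_of_surjective _ Ideal.Quotient.mk_surjective] at hε₁b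
    obtain ⟨μ, hμ, hμ1⟩ := hε₁b
    have h3 : μ - (ε' - b) ∈ Ideal.span ({1 - e} : Set (AdjoinRoot f)) := Ideal.Quotient.eq.mp hμ1
    obtain ⟨c, hc'⟩ := Ideal.mem_span_singleton'.mp h3
    have : ε' - b = μ - c * (1 - e) := by rw [hc']; ring
    rw [this]
    exact Ideal.sub_mem _ hμ (Ideal.mul_mem_left _ _ h1e)
  set ε := ε' * e with hε
  have hεε : ε * ε = ε := by
    have h3 : ε' * ε' - ε' ∈ Ideal.span ({1 - e} : Set (AdjoinRoot f)) := by
      have := hε₁
      rw [IsIdempotentElem, ← map_mul] at this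
      exact Ideal.Quotient.eq.mp this
    obtain ⟨c, hc'⟩ := Ideal.mem_span_singleton'.mp h3
    rw [hε]
    linear_combination (ε' * ε' - c) * hee + e * hc'.symm
  have hεb : ε - b ∈ mS := by
    have : ε - b = (ε' - b) - ε' * (1 - e) := by rw [hε]; ring
    rw [this]
    exact Ideal.sub_mem _ hε'b (Ideal.mul_mem_left _ _ h1e)
  have hle : Ideal.span ({1 - e} : Set (AdjoinRoot f)) ≤ Ideal.span ({1 - ε} : Set (AdjoinRoot f)) := by
    rw [Ideal.span_singleton_le_iff_mem]
    have : 1 - e = (1 - e) * (1 - ε) := by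
      rw [hε]; linear_combination (-ε') * hee
    rw [this]
    exact Ideal.mul_mem_left _ _ (Ideal.mem_span_singleton_self _)
  haveI hfing : Module.Finite R (AdjoinRoot f ⧸ Ideal.span ({1 - ε} : Set (AdjoinRoot f))) :=
    Module.Finite.of_surjective (Ideal.Quotient.factorₐ R hle).toLinearMap
      (Ideal.Quotient.factor_surjective hle)
  -- the quotient `S_g`
  set π : AdjoinRoot f →ₐ[R] (AdjoinRoot f ⧸ Ideal.span ({1 - ε} : Set (AdjoinRoot f))) :=
    Ideal.Quotient.mkₐ R _ with hπ
  set t := π (AdjoinRoot.root f) with ht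
  have hπmk : ∀ p : R[X], π (AdjoinRoot.mk f p) = aeval t p := fun p => by
    rw [← AdjoinRoot.aeval_eq, ht, Polynomial.aeval_algHom_apply]
  have hπε : π ε = 1 := by
    have : π (1 - ε) = 0 := Ideal.Quotient.eq_zero_iff_mem.mpr (Ideal.mem_span_singleton_self _)
    rw [map_sub, map_one, sub_eq_zero] at this
    exact this.symm
  have hπmS : ∀ s ∈ mS, π s ∈
      (𝔪).map (algebraMap R (AdjoinRoot f ⧸ Ideal.span ({1 - ε} : Set (AdjoinRoot f)))) := by
    intro s hs
    have : (𝔪).map (algebraMap R (AdjoinRoot f ⧸ Ideal.span ({1 - ε} : Set (AdjoinRoot f)))) =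
        mS.map (π : AdjoinRoot f →+* _) := by
      rw [hmS, Ideal.map_map]; rfl
    rw [this]
    exact Ideal.mem_map_of_mem _ hs
  have hGt : aeval t G ∈
      (𝔪).map (algebraMap R (AdjoinRoot f ⧸ Ideal.span ({1 - ε} : Set (AdjoinRoot f)))) := by
    have h1 : AdjoinRoot.mk f G * b ∈ mS := by
      rw [hb, ← map_mul]
      apply mk_mem_of_map_dvd
      refine ⟨V.map res, ?_⟩
      rw [hf]
      simp only [Polynomial.map_mul, hGmap]
      ring
    have h2 : AdjoinRoot.mk f G * ε ∈ mS := by
      have : AdjoinRoot.mk f G * ε = AdjoinRoot.mk f G * b + AdjoinRoot.mk f G * (ε - b) := by ring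
      rw [this]
      exact Ideal.add_mem _ h1 (Ideal.mul_mem_left _ _ hεb)
    have := hπmS _ h2
    rwa [map_mul, hπε, mul_one, hπmk] at this
  set N : Submodule R (AdjoinRoot f ⧸ Ideal.span ({1 - ε} : Set (AdjoinRoot f))) :=
    (Polynomial.degreeLT R n).map (aeval t).toLinearMap with hN
  have hGdegree : G.degree = n := by
    rw [Polynomial.degree_eq_natDegree hGmonic.ne_zero, hGdeg]
  have htopN : (⊤ : Submodule R (AdjoinRoot f ⧸ Ideal.span ({1 - ε} : Set (AdjoinRoot f)))) ≤ N := by
    apply Submodule.le_of_le_smul_of_le_jacobson_bot (I := 𝔪) Module.Finite.fg_top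
      (le_of_eq (IsLocalRing.jacobson_eq_maximalIdeal (⊥ : Ideal R) bot_ne_top).symm)
    intro s _
    obtain ⟨s', rfl⟩ := Ideal.Quotient.mk_surjective s
    obtain ⟨p, rfl⟩ := AdjoinRoot.mk_surjective s'
    change π (AdjoinRoot.mk f p) ∈ _
    rw [hπmk, ← Polynomial.modByMonic_add_div p G, map_add, map_mul]
    refine Submodule.add_mem_sup ?_ ?_
    · refine Submodule.mem_map_of_mem (Polynomial.mem_degreeLT.mpr ?_)
      rw [← hGdegree]
      exact degree_modByMonic_lt p hGmonic
    · rw [Ideal.smul_top_eq_map]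
      exact Ideal.mul_mem_right _ _ hGt
  obtain ⟨p, hp, hpt⟩ : ∃ p ∈ Polynomial.degreeLT R n, aeval t p = t ^ n := by
    have := htopN (Submodule.mem_top : t ^ n ∈ ⊤)
    rw [hN, Submodule.mem_map] at this
    exact this
  have hpdeg : p.degree < n := Polynomial.mem_degreeLT.mp hp
  set g := X ^ n - p with hgdef
  have hgmonic : g.Monic := monic_X_pow_sub hpdeg
  have hgdeg : g.natDegree = n := by
    apply natDegree_eq_of_degree_eq_some
    rw [hgdef, degree_sub_eq_left_of_degree_lt (by rwa [degree_X_pow]), degree_X_pow]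
  have hgt : aeval t g = 0 := by rw [hgdef, map_sub, map_pow, aeval_X, hpt, sub_self]
  have hgε : AdjoinRoot.mk f g * ε = 0 := by
    have h1 : AdjoinRoot.mk f g ∈ Ideal.span ({1 - ε} : Set (AdjoinRoot f)) := by
      rw [← Ideal.Quotient.eq_zero_iff_mem]
      change π _ = 0
      rw [hπmk, hgt]
    obtain ⟨c, hc'⟩ := Ideal.mem_span_singleton'.mp h1
    rw [← hc']
    linear_combination (-c) * hεε
  -- the map to `κ[X]/(g₀)`
  let ρ : AdjoinRoot f →+* AdjoinRoot g₀ := Ideal.Quotient.lift (Ideal.span {f})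
    ((AdjoinRoot.mk g₀).comp (Polynomial.mapRingHom res)) (by
      intro a ha
      obtain ⟨c, rfl⟩ := Ideal.mem_span_singleton'.mp ha
      simp only [RingHom.comp_apply, coe_mapRingHom, hf, map_mul]
      rw [AdjoinRoot.mk_self]; ring)
  have hρmk : ∀ p, ρ (AdjoinRoot.mk f p) = AdjoinRoot.mk g₀ (p.map res) := fun p => rfl
  have hρmS : ∀ s ∈ mS, ρ s = 0 := by
    have : mS ≤ RingHom.ker ρ := by
      rw [hmS, Ideal.map_le_iff_le_comap]
      intro a ha
      rw [Ideal.mem_comap, RingHom.mem_ker]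
      show ρ (AdjoinRoot.mk f (C a)) = 0
      rw [hρmk, Polynomial.map_C, (IsLocalRing.residue_eq_zero_iff a).mpr ha, C_0, map_zero]
    exact fun s hs => this hs
  have hρb : ρ b = 1 := by
    rw [hb, hρmk]
    have : (V * Hh).map res = 1 - U.map res * g₀ := by
      rw [Polynomial.map_mul]; linear_combination huv
    rw [this, map_sub, map_mul, AdjoinRoot.mk_self, mul_zero, sub_zero, map_one]
  have hρε : ρ ε = 1 := by
    have : ε = b + (ε - b) := by ring
    rw [this, map_add, hρb, hρmS _ hεb, add_zero]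
  have hgmap : g.map res = g₀ := by
    have h1 : AdjoinRoot.mk g₀ (g.map res) = 0 := by
      have := congrArg ρ hgε
      rwa [map_mul, hρε, mul_one, hρmk, map_zero] at this
    have hdvd : g₀ ∣ g.map res := AdjoinRoot.mk_eq_zero.mp h1
    exact Polynomial.eq_of_monic_of_dvd_of_natDegree_le hg (hgmonic.map res) hdvd
      (by rw [hgmonic.natDegree_map, hgdeg])
  obtain ⟨E, hE⟩ := AdjoinRoot.mk_surjective ε
  have hdvd1 : f ∣ g * E := by
    rw [← AdjoinRoot.mk_eq_zero, map_mul, hE]; exact hgε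
  obtain ⟨a, ha⟩ := hdvd1
  have hEa : E.map res = Hh.map res * a.map res := by
    have := congrArg (Polynomial.map res) ha
    rw [Polynomial.map_mul, Polynomial.map_mul, hgmap, hf, mul_assoc] at this
    exact mul_left_cancel₀ hg.ne_zero this
  have hE1 : g₀ ∣ E.map res - 1 := by
    rw [← AdjoinRoot.mk_eq_zero, map_sub, map_one, ← hρmk, hE, hρε, sub_self]
  have hunit : IsUnit (AdjoinRoot.mk g a) := by
    apply isUnit_mk_of_mul_sub_one g a Hh hgmonic
    rw [hgmap]
    simp only [Polynomial.map_sub, Polynomial.map_mul, Polynomial.map_one]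
    rw [mul_comm, ← hEa]
    exact hE1
  have hr : AdjoinRoot.mk g (f %ₘ g) * AdjoinRoot.mk g a = 0 := by
    rw [← map_mul, AdjoinRoot.mk_eq_zero]
    refine ⟨E - (f /ₘ g) * a, ?_⟩
    have h1 := Polynomial.modByMonic_add_div f g
    linear_combination a * h1 - ha
  have hr0 : AdjoinRoot.mk g (f %ₘ g) = 0 := (hunit.mul_left_eq_zero).mp hr
  have hdvdf : g ∣ f := by
    have h1 : g ∣ f %ₘ g := AdjoinRoot.mk_eq_zero.mp hr0
    have h2 := Polynomial.modByMonic_add_div f g
    rw [← h2]
    exact dvd_add h1 (dvd_mul_right _ _)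
  obtain ⟨h, hfeq⟩ := hdvdf
  refine ⟨g, h, hfeq, hgmonic, hgmap, ?_⟩
  have h3 : g₀ * h.map res = g₀ * Hh.map res := by
    rw [← hf, hfeq, Polynomial.map_mul, hgmap]
  exact mul_left_cancel₀ hg.ne_zero h3

end main

end Groth.Agent.Helper3.HensNonMonic
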