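import Groth.Agent.Helper3.HensLocal

/-!
Finite algebras over local rings: product of local rings vs. lifting of idempotents.
-/

namespace Groth.Agent.Helper3.HensProd

open Polynomial
open Groth.Agent.Helper3.HensTFAE Groth.Agent.Helper3.HensGabber

universe u v

/-- If `B` (integral over the local ring `A`) is a finite product of local rings, idempotents
lift along `B → B/mB`. -/
theorem idemLift_of_pi (A : Type u) [CommRing A] [IsLocalRing A] (B : Type u) [CommRing B]
    [Algebra A B] [Algebra.IsIntegral A B] {ι : Type v} [Fintype ι] (C : ι → Type v)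
    [∀ j, CommRing (C j)] (hC : ∀ j, IsLocalRing (C j)) (φ : B ≃+* (∀ j, C j)) :
    IdemLift A (IsLocalRing.maximalIdeal A) B := by
  classical
  intro b hb
  set J := (IsLocalRing.maximalIdeal A).map (algebraMap A B) with hJ
  have hJjac : J ≤ Ideal.jacobson ⊥ := map_le_jacobson_of_isIntegral _
    (le_of_eq (IsLocalRing.jacobson_eq_maximalIdeal (⊥ : Ideal A) bot_ne_top).symm)
  let π : ∀ j, B →+* C j := fun j => (Pi.evalRingHom C j).comp (φ : B →+* ∀ j, C j)
  have hπs : ∀ j, Function.Surjective (π j) := fun j =>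
    (Function.surjective_eval j).comp φ.surjective
  have hJj : ∀ j, J.map (π j) ≤ IsLocalRing.maximalIdeal (C j) := by
    intro j
    rw [← IsLocalRing.jacobson_eq_maximalIdeal (⊥ : Ideal (C j)) bot_ne_top]
    exact map_le_jacobson_bot (π j) (hπs j) hJjac
  have hcj : ∀ j, π j b * π j b - π j b ∈ J.map (π j) := by
    intro j
    rw [← map_mul, ← map_sub]; exact Ideal.mem_map_of_mem _ hb
  have hε : ∀ j, ∃ ε : C j, IsIdempotentElem ε ∧ ε - π j b ∈ J.map (π j) := by
    intro j
    rcases IsLocalRing.isUnit_or_isUnit_one_sub_self (π j b) with hu | hu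
    · refine ⟨1, IsIdempotentElem.one, ?_⟩
      obtain ⟨w, hw⟩ := hu.exists_right_inv
      have : 1 - π j b = -((π j b * π j b - π j b) * w) := by
        calc 1 - π j b = (1 - π j b) * (π j b * w) := by rw [hw, mul_one]
          _ = -((π j b * π j b - π j b) * w) := by ring
      rw [this]
      exact (J.map (π j)).neg_mem (Ideal.mul_mem_right _ _ (hcj j))
    · refine ⟨0, IsIdempotentElem.zero, ?_⟩
      obtain ⟨w, hw⟩ := hu.exists_right_inv
      have : 0 - π j b = (π j b * π j b - π j b) * w := by
        calc 0 - π j b = -(π j b) * ((1 - π j b) * w) := by rw [hw]; ring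
          _ = (π j b * π j b - π j b) * w := by ring
      rw [this]
      exact Ideal.mul_mem_right _ _ (hcj j)
  choose ε hεidem hεmem using hε
  refine ⟨φ.symm ε, ?_, ?_⟩
  · have : IsIdempotentElem (ε : ∀ j, C j) := by
      change ε * ε = ε
      funext j
      exact (hεidem j)
    exact this.map φ.symm
  · set x := φ.symm ε - b with hx
    have hπx : ∀ j, π j x = ε j - π j b := by
      intro j
      rw [hx, map_sub]
      congr 1
      change (φ (φ.symm ε)) j = ε j
      rw [φ.apply_symm_apply]
    have hy : ∀ j, ∃ y ∈ J, π j y = π j x := fun j =>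
      (Ideal.mem_map_iff_of_surjective (π j) (hπs j)).1 (hπx j ▸ hεmem j)
    choose y hyJ hy using hy
    have hsum : x = ∑ j, φ.symm (Pi.single j 1) * y j := by
      apply φ.injective
      funext i
      rw [map_sum, Finset.sum_apply]
      simp only [map_mul, RingEquiv.apply_symm_apply, Pi.mul_apply]
      rw [Finset.sum_eq_single i]
      · rw [Pi.single_eq_same, one_mul]
        exact (hy i).symm
      · intro j _ hji
        rw [Pi.single_eq_of_ne hji.symm, zero_mul]
      · intro h; exact (h (Finset.mem_univ i)).elim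
    rw [hsum]
    exact J.sum_mem fun j _ => J.mul_mem_left _ (hyJ j)

/-- S5034 -/
theorem hens_of_monogenic_pi (R : Type u) [CommRing R] [IsLocalRing R]
    (h : ∀ F : Polynomial R, F.Monic →
      ∃ (ι : Type u) (_ : Fintype ι) (A : ι → Type u) (_ : ∀ i, CommRing (A i)),
        (∀ i, IsLocalRing (A i)) ∧ Nonempty (AdjoinRoot F ≃+* (∀ i, A i))) :
    HenselianLocalRing R := by
  have hI : IsLocalRing.maximalIdeal R ≤ Ideal.jacobson ⊥ :=
    le_of_eq (IsLocalRing.jacobson_eq_maximalIdeal (⊥ : Ideal R) bot_ne_top).symm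
  have : HenselianRing R (IsLocalRing.maximalIdeal R) := by
    refine hens_of_factLift _ hI (factLift_of_idemLift _ hI fun F hF => ?_)
    obtain ⟨ι, _, A, _, hA, ⟨φ⟩⟩ := h F hF
    have := isIntegral_adjoinRoot hF
    exact idemLift_of_pi R (AdjoinRoot F) A hA φ
  exact HensLocal.henselianLocalRing_of_henselianRing R

/-- S0500 -/
theorem hens_of_finite_pi (R : Type u) [CommRing R] [IsLocalRing R]
    (h : ∀ (S : Type u) [CommRing S] [Algebra R S], Module.Finite R S →
      ∃ (ι : Type u) (_ : Fintype ι) (A : ι → Type u) (_ : ∀ i, CommRing (A i)),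
        (∀ i, IsLocalRing (A i)) ∧ Nonempty (S ≃+* (∀ i, A i))) :
    HenselianLocalRing R :=
  hens_of_monogenic_pi R fun F hF => h (AdjoinRoot F) (AdjoinRoot.powerBasis' hF).finite

end Groth.Agent.Helper3.HensProd
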