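import Groth.Agent.Helper3.HensQF

/-!
Finite type algebras over henselian local rings: splitting off the finite part (S0504).
-/

namespace Groth.Agent.Helper3.HensQF

open Groth.Agent.Helper3.HensGabber

universe u

/-- The primes in a fibre of a finite type algebra at which it is quasi-finite form a finite set. -/
theorem finite_qfAt_fiber (R S : Type u) [CommRing R] [CommRing S] [Algebra R S]
    [Algebra.FiniteType R S] (P : PrimeSpectrum R) :
    {x : ↥(PrimeSpectrum.comap (algebraMap R S) ⁻¹' {P}) |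
      Algebra.QuasiFiniteAt R x.1.asIdeal}.Finite := by
  have hN : IsNoetherianRing (P.asIdeal.Fiber S) :=
    Algebra.FiniteType.isNoetherianRing P.asIdeal.ResidueField _
  have hNS : TopologicalSpace.NoetherianSpace
      ↥(PrimeSpectrum.comap (algebraMap R S) ⁻¹' {P}) :=
    (TopologicalSpace.noetherianSpace_iff_of_homeomorph
      (PrimeSpectrum.preimageHomeomorphFiber R S P)).2 inferInstance
  refine (TopologicalSpace.NoetherianSpace.isCompact _).finite ?_
  rw [isDiscrete_iff_forall_mem_exists_isOpen]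
  rintro ⟨q, hq⟩ hx
  obtain rfl : q.comap (algebraMap R S) = P := hq
  refine ⟨{⟨q, rfl⟩}, ?_, ?_⟩
  · exact (Algebra.quasiFiniteAt_iff_isOpen_singleton_fiber q).1 hx
  · rw [Set.inter_eq_left, Set.singleton_subset_iff]
    exact hx

/-- Ideal version. -/
theorem finite_qfAt (R S : Type u) [CommRing R] [CommRing S] [Algebra R S]
    [Algebra.FiniteType R S] (p : Ideal R) [hp : p.IsPrime] :
    {q : Ideal S | ∃ (_ : q.IsPrime), q.LiesOver p ∧ Algebra.QuasiFiniteAt R q}.Finite := by
  have h := finite_qfAt_fiber R S ⟨p, hp⟩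
  refine (h.image fun x => x.1.asIdeal).subset ?_
  rintro q ⟨hq, hover, hqf⟩
  refine ⟨⟨⟨q, hq⟩, ?_⟩, hqf, rfl⟩
  change PrimeSpectrum.comap (algebraMap R S) ⟨q, hq⟩ = ⟨p, hp⟩
  ext1
  exact hover.over.symm

/-- Quasi-finiteness at a prime of `S/(e)`, `e` idempotent, lifts to the corresponding prime of
`S`. -/
theorem qfAt_of_quot_idem {R S : Type u} [CommRing R] [CommRing S] [Algebra R S]
    (e : S) (he : IsIdempotentElem e) (q : Ideal (S ⧸ Ideal.span ({e} : Set S))) [q.IsPrime]
    [hqf : Algebra.QuasiFiniteAt R q]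
    (q' : Ideal S) [q'.IsPrime] (hq' : q' = q.comap (Ideal.Quotient.mk (Ideal.span ({e} : Set S)))) :
    Algebra.QuasiFiniteAt R q' := by
  have hmk_e : Ideal.Quotient.mk (Ideal.span ({e} : Set S)) e = 0 :=
    Ideal.Quotient.eq_zero_iff_mem.2 (Ideal.mem_span_singleton_self _)
  have heq' : e ∈ q' := by
    rw [hq', Ideal.mem_comap, hmk_e]; exact q.zero_mem
  have h1e : 1 - e ∉ q' := by
    intro h
    have : (1 : S) ∈ q' := by
      have : (1 : S) = (1 - e) + e := by ring
      rw [this]; exact q'.add_mem h heq'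
    exact (Ideal.ne_top_iff_one q').1 (Ideal.IsPrime.ne_top inferInstance) this
  have hu : IsUnit (algebraMap S (Localization.AtPrime q') (1 - e)) :=
    IsLocalization.map_units (M := q'.primeCompl) _ ⟨1 - e, h1e⟩
  have he0 : algebraMap S (Localization.AtPrime q') e = 0 := by
    have : algebraMap S (Localization.AtPrime q') (1 - e) *
        algebraMap S (Localization.AtPrime q') e = 0 := by
      rw [← map_mul]
      have : (1 - e) * e = 0 := by
        have := he.eq
        linear_combination -this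
      rw [this, map_zero]
    exact (hu.mul_right_eq_zero).1 this
  let g₀ : (S ⧸ Ideal.span ({e} : Set S)) →ₐ[R] Localization.AtPrime q' :=
    Ideal.Quotient.liftₐ (Ideal.span ({e} : Set S))
      (IsScalarTower.toAlgHom R S (Localization.AtPrime q')) (by
        intro a ha
        obtain ⟨z, rfl⟩ := Ideal.mem_span_singleton'.1 ha
        change algebraMap S (Localization.AtPrime q') (z * e) = 0
        rw [map_mul, he0, mul_zero])
  have hg₀ : ∀ s : S, g₀ (Ideal.Quotient.mk _ s) = algebraMap S (Localization.AtPrime q') s :=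
    fun s => rfl
  have hunits : ∀ y : q.primeCompl, IsUnit (g₀ y) := by
    rintro ⟨y, hy⟩
    obtain ⟨s, rfl⟩ := Ideal.Quotient.mk_surjective y
    have hs : s ∉ q' := by
      rw [hq', Ideal.mem_comap]; exact hy
    rw [hg₀]
    exact IsLocalization.map_units (M := q'.primeCompl) _ ⟨s, hs⟩
  let f : Localization.AtPrime q →ₐ[R] Localization.AtPrime q' :=
    IsLocalization.liftAlgHom (M := q.primeCompl) (f := g₀) hunits
  have hf : ∀ b, f (algebraMap _ (Localization.AtPrime q) b) = g₀ b := fun b => by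
    simp [f]
  refine Algebra.QuasiFinite.of_forall_exists_mul_mem_range f fun x => ?_
  obtain ⟨a, ⟨s, hs⟩, rfl⟩ := IsLocalization.exists_mk'_eq q'.primeCompl x
  refine ⟨algebraMap _ (Localization.AtPrime q)
    (Ideal.Quotient.mk (Ideal.span ({e} : Set S)) s), ?_, ?_⟩
  · rw [hf, hg₀]
    exact IsLocalization.map_units (M := q'.primeCompl) _ ⟨s, hs⟩
  · refine ⟨algebraMap _ (Localization.AtPrime q)
      (Ideal.Quotient.mk (Ideal.span ({e} : Set S)) a), ?_⟩
    change f _ = _
    rw [hf, hf, hg₀, hg₀]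
    exact (IsLocalization.mk'_spec_mk _ a s hs).symm

/-- S0504 -/
theorem ft_split (R : Type u) [CommRing R] [HenselianLocalRing R]
    (S : Type u) [CommRing S] [Algebra R S] [Algebra.FiniteType R S] :
    ∃ e : S, IsIdempotentElem e ∧ Module.Finite R (S ⧸ Ideal.span ({1 - e} : Set S)) ∧
      ∀ (q : Ideal (S ⧸ Ideal.span ({e} : Set S))) [q.IsPrime],
        q.LiesOver (IsLocalRing.maximalIdeal R) → ¬ Algebra.QuasiFiniteAt R q := by
  classical
  set m := IsLocalRing.maximalIdeal R with hm
  have hfin := finite_qfAt R S m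
  obtain ⟨e, he, heQ, hfg⟩ := exists_idem_of_finset (R := R) hfin.toFinset (by
    intro q hq
    rw [Set.Finite.mem_toFinset] at hq
    obtain ⟨h1, h2, h3⟩ := hq
    exact exists_idem_of_qfAt R S q)
  refine ⟨e, he, finite_quot_of_fg e hfg, ?_⟩
  intro q hqp hover hqf
  set q' := q.comap (Ideal.Quotient.mk (Ideal.span ({e} : Set S))) with hq'
  haveI : q'.IsPrime := Ideal.comap_isPrime _ _
  have heq : e ∈ q' := by
    rw [hq', Ideal.mem_comap]
    have : Ideal.Quotient.mk (Ideal.span ({e} : Set S)) e = 0 :=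
      Ideal.Quotient.eq_zero_iff_mem.2 (Ideal.mem_span_singleton_self _)
    rw [this]; exact q.zero_mem
  have hover' : q'.LiesOver m := by
    constructor
    rw [hover.over, hq']
    rfl
  have hqf' : Algebra.QuasiFiniteAt R q' := qfAt_of_quot_idem e he q q' rfl
  exact heQ q' (by rw [Set.Finite.mem_toFinset]; exact ⟨inferInstance, hover', hqf'⟩) heq

end Groth.Agent.Helper3.HensQF
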