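import Groth.Agent.Helper3.HensQF2
import Groth.Agent.Helper3.HensEtale

/-!
S12222: a local ring over which finite type algebras split off their finite part is henselian.
-/

namespace Groth.Agent.Helper3.HensQF

open Groth.Agent.Helper3.HensGabber Polynomial

universe u

/-- A finite flat finitely presented algebra with a point mod `I` which is "cyclic mod `I`"
is trivial. -/
theorem bijective_of_flat_fp {A : Type u} [CommRing A] (I : Ideal A) (hI : I ≤ Ideal.jacobson ⊥)
    {U : Type u} [CommRing U] [Algebra A U] [Module.Finite A U] [Module.Flat A U]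
    [Algebra.FinitePresentation A U] (σ : U →ₐ[A] A ⧸ I)
    (hcyc : ∀ w : U, ∃ a : A, w - a • (1 : U) ∈ I.map (algebraMap A U)) :
    Function.Bijective (algebraMap A U) := by
  haveI : IsLocalization.Away (1 : U) U :=
    IsLocalization.away_of_isUnit_of_bijective U isUnit_one Function.bijective_id
  have h := HensEtale.bijective_algebraMap' I hI (1 : U) U σ (by rw [map_one]; exact isUnit_one)
    1 1 (IsIdempotentElem.one) (by simp) (by simp)
    (fun w => by obtain ⟨a, ha⟩ := hcyc w; exact ⟨a, by rwa [one_mul]⟩)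
  have hbot : Ideal.span ({1 - 1} : Set U) = ⊥ := by simp
  constructor
  · intro x y hxy
    apply h.1
    change Ideal.Quotient.mk _ (algebraMap A U x) = Ideal.Quotient.mk _ (algebraMap A U y)
    rw [hxy]
  · intro u
    obtain ⟨a, ha⟩ := h.2 (Ideal.Quotient.mk _ u)
    refine ⟨a, ?_⟩
    have h2 : Ideal.Quotient.mk (Ideal.span ({1 - 1} : Set U)) (algebraMap A U a) =
        Ideal.Quotient.mk _ u := ha
    rw [Ideal.Quotient.eq, hbot, Ideal.mem_bot, sub_eq_zero] at h2
    exact h2

/-- S12222 -/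
theorem hens_of_ft_split (R : Type u) [CommRing R] [IsLocalRing R]
    (h : ∀ (S : Type u) [CommRing S] [Algebra R S] [Algebra.FiniteType R S],
      ∃ e : S, IsIdempotentElem e ∧ Module.Finite R (S ⧸ Ideal.span ({1 - e} : Set S)) ∧
        ∀ (q : Ideal (S ⧸ Ideal.span ({e} : Set S))) [q.IsPrime],
          q.LiesOver (IsLocalRing.maximalIdeal R) → ¬ Algebra.QuasiFiniteAt R q) :
    HenselianLocalRing R := by
  refine ⟨fun f hf a₀ h₁ h₂ => ?_⟩
  set m := IsLocalRing.maximalIdeal R with hm
  have hmjac : m ≤ Ideal.jacobson ⊥ :=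
    le_of_eq (IsLocalRing.jacobson_eq_maximalIdeal ⊥ bot_ne_top).symm
  obtain ⟨g, hfg⟩ : ∃ g : R[X], f = (X - C a₀) * g + C (f.eval a₀) := by
    refine ⟨f /ₘ (X - C a₀), ?_⟩
    have := modByMonic_add_div f (X - C a₀)
    rw [modByMonic_X_sub_C_eq_C_eval] at this
    rw [add_comm]; exact this.symm
  have hder : (derivative f).eval a₀ = g.eval a₀ := by
    have : derivative f = g + (X - C a₀) * derivative g := by
      conv_lhs => rw [hfg]
      simp only [derivative_add, derivative_mul, derivative_sub, derivative_X, derivative_C,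
        sub_zero, one_mul, add_zero]
    rw [this]; simp
  let P : StandardEtalePair R := ⟨f, hf, g * derivative f, ⟨g, 0, 1, by ring⟩⟩
  have hPf : P.f = f := rfl
  have hPg : P.g = g * derivative f := rfl
  have hmap : P.HasMap (Ideal.Quotient.mk m a₀) := by
    refine ⟨?_, ?_⟩
    · rw [hPf]
      have : aeval (Ideal.Quotient.mk m a₀) f = Ideal.Quotient.mk m (f.eval a₀) :=
        Polynomial.aeval_algebraMap_apply_eq_algebraMap_eval (A := R ⧸ m) a₀ f
      rw [this]
      exact Ideal.Quotient.eq_zero_iff_mem.2 h₁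
    · rw [hPg]
      have : aeval (Ideal.Quotient.mk m a₀) (g * derivative f) =
          Ideal.Quotient.mk m ((g * derivative f).eval a₀) :=
        Polynomial.aeval_algebraMap_apply_eq_algebraMap_eval (A := R ⧸ m) a₀ _
      rw [this, eval_mul, ← hder]
      exact (h₂.mul h₂).map _
  let σ : P.Ring →ₐ[R] R ⧸ m := P.lift _ hmap
  have hσX : σ P.X = Ideal.Quotient.mk m a₀ := P.lift_X _ hmap
  obtain ⟨e, he, hfin, hB⟩ := h P.Ring
  have hσe : σ (1 - e) = 0 := by
    have hid : IsIdempotentElem (σ e) := he.map σ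
    rcases (IsIdempotentElem.iff_eq_zero_or_one.1 hid) with h0 | h1'
    · exfalso
      let σB : (P.Ring ⧸ Ideal.span ({e} : Set P.Ring)) →ₐ[R] R ⧸ m :=
        Ideal.Quotient.liftₐ _ σ (fun x hx => by
          obtain ⟨y, rfl⟩ := Ideal.mem_span_singleton'.1 hx
          rw [map_mul, h0, mul_zero])
      set q := RingHom.ker (σB : (P.Ring ⧸ Ideal.span ({e} : Set P.Ring)) →+* R ⧸ m) with hq
      haveI : q.IsPrime := RingHom.ker_isPrime _
      have hover : q.LiesOver m := by
        constructor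
        ext a
        rw [Ideal.under, Ideal.mem_comap, hq, RingHom.mem_ker]
        change a ∈ m ↔ σB (algebraMap R _ a) = 0
        rw [σB.commutes]
        exact (Ideal.Quotient.eq_zero_iff_mem (I := m) (a := a)).symm
      exact hB q hover inferInstance
    · rw [map_sub, map_one, h1', sub_self]
  have hX : P.X - algebraMap R P.Ring a₀ ∈ m.map (algebraMap R P.Ring) := by
    have h3 : aeval P.X f = 0 := P.hasMap_X.1
    have hunit : IsUnit (aeval P.X g) := by
      have := P.hasMap_X.2
      rw [hPg, map_mul] at this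
      exact isUnit_of_mul_isUnit_left this
    have h4 : (P.X - algebraMap R P.Ring a₀) * aeval P.X g =
        - algebraMap R P.Ring (f.eval a₀) := by
      have := congrArg (aeval P.X) hfg
      rw [h3, map_add, map_mul, map_sub, aeval_X, aeval_C, aeval_C] at this
      linear_combination -this
    obtain ⟨v, hv⟩ := hunit.exists_right_inv
    have : P.X - algebraMap R P.Ring a₀ = - algebraMap R P.Ring (f.eval a₀) * v := by
      rw [← h4, mul_assoc, hv, mul_one]
    rw [this]
    exact Ideal.mul_mem_right _ _ ((m.map (algebraMap R P.Ring)).neg_mem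
      (Ideal.mem_map_of_mem _ h₁))
  let π : P.Ring →ₐ[R] P.Ring ⧸ m.map (algebraMap R P.Ring) := Ideal.Quotient.mkₐ R _
  let ι : (R ⧸ m) →ₐ[R] P.Ring ⧸ m.map (algebraMap R P.Ring) :=
    Ideal.Quotient.liftₐ m (Algebra.ofId R _) (fun a ha => by
      change algebraMap R (P.Ring ⧸ m.map (algebraMap R P.Ring)) a = 0
      rw [IsScalarTower.algebraMap_apply R P.Ring]
      exact Ideal.Quotient.eq_zero_iff_mem.2 (Ideal.mem_map_of_mem _ ha))
  have hπ : π = ι.comp σ := P.hom_ext (by
    change Ideal.Quotient.mk _ P.X = ι (σ P.X)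
    rw [hσX]
    exact Ideal.Quotient.eq.2 hX)
  have hcycS : ∀ w : P.Ring, ∃ a : R,
      w - algebraMap R P.Ring a ∈ m.map (algebraMap R P.Ring) := by
    intro w
    obtain ⟨a, ha⟩ := Ideal.Quotient.mk_surjective (σ w)
    refine ⟨a, ?_⟩
    rw [← Ideal.Quotient.eq]
    change π w = π (algebraMap R P.Ring a)
    rw [hπ, AlgHom.comp_apply, AlgHom.comp_apply, ← ha, AlgHom.commutes]
    rfl
  set E : Ideal P.Ring := Ideal.span {1 - e} with hE
  let σA : (P.Ring ⧸ E) →ₐ[R] R ⧸ m := Ideal.Quotient.liftₐ E σ (fun x hx => by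
    obtain ⟨y, rfl⟩ := Ideal.mem_span_singleton'.1 hx
    rw [map_mul, hσe, mul_zero])
  have hσA : ∀ x, σA (Ideal.Quotient.mk E x) = σ x := fun x => rfl
  haveI : IsLocalization.Away e (P.Ring ⧸ E) :=
    IsLocalization.away_of_isIdempotentElem he (by
      rw [Ideal.Quotient.algebraMap_eq, Ideal.mk_ker]) Ideal.Quotient.mk_surjective
  haveI : Algebra.Etale P.Ring (P.Ring ⧸ E) := Algebra.Etale.of_isLocalizationAway e
  haveI : Algebra.Etale R (P.Ring ⧸ E) := Algebra.Etale.comp R P.Ring (P.Ring ⧸ E)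
  have hcycA : ∀ w : P.Ring ⧸ E, ∃ a : R,
      w - a • (1 : P.Ring ⧸ E) ∈ m.map (algebraMap R (P.Ring ⧸ E)) := by
    intro w
    obtain ⟨s, rfl⟩ := Ideal.Quotient.mk_surjective w
    obtain ⟨a, ha⟩ := hcycS s
    refine ⟨a, ?_⟩
    have h5 : (m.map (algebraMap R P.Ring)).map (Ideal.Quotient.mk E) =
        m.map (algebraMap R (P.Ring ⧸ E)) := by
      rw [Ideal.map_map]; rfl
    rw [← h5]
    have h6 : Ideal.Quotient.mk E s - a • (1 : P.Ring ⧸ E) =
        Ideal.Quotient.mk E (s - algebraMap R P.Ring a) := by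
      rw [map_sub, Algebra.smul_def, mul_one]; rfl
    rw [h6]
    exact Ideal.mem_map_of_mem _ ha
  have hbij := bijective_of_flat_fp m hmjac σA hcycA
  let ιA : R ≃ₐ[R] (P.Ring ⧸ E) := AlgEquiv.ofBijective (Algebra.ofId R _) hbij
  have hιA : ∀ a, ιA a = algebraMap R (P.Ring ⧸ E) a := fun a => rfl
  refine ⟨ιA.symm (Ideal.Quotient.mk E P.X), ?_, ?_⟩
  · have h7 : aeval (ιA.symm (Ideal.Quotient.mk E P.X)) f = 0 := by
      have : (ιA.symm (Ideal.Quotient.mk E P.X)) =
          (ιA.symm : (P.Ring ⧸ E) →ₐ[R] R) ((Ideal.Quotient.mkₐ R E) P.X) := rfl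
      rw [this, Polynomial.aeval_algHom_apply, Polynomial.aeval_algHom_apply, P.hasMap_X.1,
        map_zero, map_zero]
    rw [IsRoot, ← Polynomial.coe_aeval_eq_eval]
    exact h7
  · rw [← Ideal.Quotient.eq, ← hσX, ← hσA]
    set a := ιA.symm (Ideal.Quotient.mk E P.X) with ha
    have : Ideal.Quotient.mk E P.X = algebraMap R (P.Ring ⧸ E) a := by
      rw [← hιA, ha, ιA.apply_symm_apply]
    rw [this, σA.commutes]
    rfl

end Groth.Agent.Helper3.HensQF
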