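import Groth.Agent.Helper3.HensQF3

/-!
S5035: henselian iff localizations at quasi-finite primes over the closed point are finite.
-/

namespace Groth.Agent.Helper3.HensQF

open Groth.Agent.Helper3.HensGabber Polynomial

universe u

/-- Refined version of `exists_idem_of_qfAt`: the clopen finite part is local at `q`. -/
theorem exists_idem_of_qfAt' (R : Type u) [CommRing R] [HenselianLocalRing R]
    (S : Type u) [CommRing S] [Algebra R S] [Algebra.FiniteType R S]
    (q : Ideal S) [q.IsPrime] [hq : q.LiesOver (IsLocalRing.maximalIdeal R)]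
    [Algebra.QuasiFiniteAt R q] :
    ∃ e : S, IsIdempotentElem e ∧ e ∉ q ∧ ((Ideal.span {e}).restrictScalars R).FG ∧
      ∀ y : S, y ∉ q → ∃ u : S, e * y * u = e := by
  obtain ⟨T, hT, r, hrq, hr⟩ :=
    Algebra.QuasiFiniteAt.exists_fg_and_exists_notMem_and_awayMap_bijective (R := R) q
  haveI : Module.Finite R T := ⟨(Submodule.fg_top _).2 hT⟩
  set t : Ideal T := q.comap (algebraMap T S) with ht
  haveI : t.IsPrime := Ideal.comap_isPrime _ _
  have htm : t.comap (algebraMap R T) = IsLocalRing.maximalIdeal R := by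
    rw [ht, Ideal.comap_comap, ← IsScalarTower.algebraMap_eq]
    exact hq.over.symm
  haveI : t.IsMaximal := by
    refine Ideal.isMaximal_of_isIntegral_of_isMaximal_comap (R := R) t ?_
    rw [htm]; infer_instance
  obtain ⟨ε, hε, hεt, hεy⟩ := exists_idem_finite R T t
  have hrt : r ∉ t := hrq
  obtain ⟨s, hs⟩ := hεy r hrt
  have hpow : ∀ m : ℕ, ε * (r ^ m * s ^ m) = ε := by
    intro m
    induction m with
    | zero => simp
    | succ m ih =>
      calc ε * (r ^ (m + 1) * s ^ (m + 1)) = (ε * r * s) * (r ^ m * s ^ m) := by ring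
        _ = ε := by rw [hs, ih]
  have hidem : IsIdempotentElem (ε : S) := by
    have := congrArg Subtype.val hε
    simpa [IsIdempotentElem] using this
  have hEq : (Ideal.span {(ε : S)}).restrictScalars R =
      Submodule.map (LinearMap.mulLeft R (ε : S)) (Subalgebra.toSubmodule T) := by
    apply le_antisymm
    · intro y hy
      rw [Submodule.restrictScalars_mem, Ideal.mem_span_singleton'] at hy
      obtain ⟨z, rfl⟩ := hy
      obtain ⟨b, m, hb⟩ := Localization.awayMap_surjective_iff.1 hr.2 z
      have hb' : (b : S) = (r : S) ^ m * z := hb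
      refine ⟨((ε * s ^ m * b : T) : S), (ε * s ^ m * b : T).2, ?_⟩
      change (ε : S) * ((ε * s ^ m * b : T) : S) = z * (ε : S)
      have h1 : ((ε * s ^ m * b : T) : S) = (ε : S) * (s : S) ^ m * ((r : S) ^ m * z) := by
        rw [← hb']; simp
      have h2 : (ε : S) * ((r : S) ^ m * (s : S) ^ m) = (ε : S) := by
        have := congrArg Subtype.val (hpow m)
        simpa using this
      rw [h1]
      linear_combination ((ε : S) * z) * h2 + z * hidem.eq
    · rintro _ ⟨x, -, rfl⟩
      rw [Submodule.restrictScalars_mem]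
      change (ε : S) * x ∈ Ideal.span {(ε : S)}
      exact Ideal.mul_mem_right _ _ (Ideal.mem_span_singleton_self _)
  refine ⟨(ε : S), hidem, hεt, ?_, ?_⟩
  · rw [hEq]
    exact hT.map _
  · intro y hy
    have hmem : y * (ε : S) ∈ (Ideal.span {(ε : S)}).restrictScalars R := by
      rw [Submodule.restrictScalars_mem]
      exact Ideal.mul_mem_left _ _ (Ideal.mem_span_singleton_self _)
    rw [hEq] at hmem
    obtain ⟨x', hx'T, hx'⟩ := hmem
    have hx'' : (ε : S) * x' = y * (ε : S) := hx'
    have hx't : (⟨x', hx'T⟩ : T) ∉ t := by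
      intro hcon
      have h3 : x' ∈ q := hcon
      have h4 : y * (ε : S) ∈ q := by rw [← hx'']; exact q.mul_mem_left _ h3
      rcases Ideal.IsPrime.mem_or_mem inferInstance h4 with h5 | h5
      · exact hy h5
      · exact hεt h5
    obtain ⟨u, hu⟩ := hεy ⟨x', hx'T⟩ hx't
    refine ⟨(u : S), ?_⟩
    have h6 : (ε : S) * x' * (u : S) = (ε : S) := by
      have := congrArg Subtype.val hu
      simpa using this
    rw [mul_comm (ε : S) y, ← hx'', h6]

/-- The localization at a quasi-finite prime over the closed point of a henselian local ring is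
a finite module. -/
theorem finite_localization_of_qfAt (R : Type u) [CommRing R] [HenselianLocalRing R]
    (S : Type u) [CommRing S] [Algebra R S] [Algebra.FiniteType R S]
    (q : Ideal S) [q.IsPrime] [hq : q.LiesOver (IsLocalRing.maximalIdeal R)]
    [Algebra.QuasiFiniteAt R q] : Module.Finite R (Localization.AtPrime q) := by
  obtain ⟨e, he, heq, hfg, hloc⟩ := exists_idem_of_qfAt' R S q
  haveI : Module.Finite R ((Ideal.span {e}).restrictScalars R) := ⟨(Submodule.fg_top _).2 hfg⟩
  let φ : ((Ideal.span {e}).restrictScalars R) →ₗ[R] Localization.AtPrime q :=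
    ((IsScalarTower.toAlgHom R S (Localization.AtPrime q)).toLinearMap).comp (Submodule.subtype _)
  have hφ : ∀ x, φ x = algebraMap S (Localization.AtPrime q) x.1 := fun x => rfl
  have hue : IsUnit (algebraMap S (Localization.AtPrime q) e) :=
    IsLocalization.map_units (M := q.primeCompl) _ ⟨e, heq⟩
  have he1 : algebraMap S (Localization.AtPrime q) e = 1 := by
    have h1 : algebraMap S (Localization.AtPrime q) e * algebraMap S (Localization.AtPrime q) e =
        algebraMap S (Localization.AtPrime q) e := by
      rw [← map_mul, he.eq]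
    have h2 := hue.mul_left_cancel (h1.trans (mul_one _).symm)
    exact h2
  refine Module.Finite.of_surjective φ ?_
  intro z
  obtain ⟨x, ⟨s, hs⟩, rfl⟩ := IsLocalization.exists_mk'_eq q.primeCompl z
  obtain ⟨u, hu⟩ := hloc s hs
  have hsu : algebraMap S (Localization.AtPrime q) s * algebraMap S (Localization.AtPrime q) u
      = 1 := by
    have := congrArg (algebraMap S (Localization.AtPrime q)) hu
    rw [map_mul, map_mul, he1, one_mul] at this
    exact this
  refine ⟨⟨e * x * u, ?_⟩, ?_⟩
  · rw [Submodule.restrictScalars_mem, mul_assoc]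
    exact Ideal.mul_mem_right _ _ (Ideal.mem_span_singleton_self _)
  · rw [hφ]
    change algebraMap S (Localization.AtPrime q) (e * x * u) = _
    rw [map_mul, map_mul, he1, one_mul, IsLocalization.eq_mk'_iff_mul_eq]
    change algebraMap S _ x * algebraMap S _ u * algebraMap S _ s = algebraMap S _ x
    rw [mul_assoc, mul_comm (algebraMap S _ u), hsu, mul_one]

/-- A finite flat algebra over a local ring with a `κ`-point which is cyclic mod `m` is trivial. -/
theorem bijective_of_flat_local {R : Type u} [CommRing R] [IsLocalRing R] {U : Type u}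
    [CommRing U] [Algebra R U] [Module.Finite R U] [Module.Flat R U]
    (σ : U →ₐ[R] R ⧸ IsLocalRing.maximalIdeal R)
    (hcyc : ∀ w : U, ∃ a : R, w - a • (1 : U) ∈
      (IsLocalRing.maximalIdeal R).map (algebraMap R U)) :
    Function.Bijective (algebraMap R U) := by
  set m := IsLocalRing.maximalIdeal R with hm
  have hI : m ≤ Ideal.jacobson ⊥ :=
    le_of_eq (IsLocalRing.jacobson_eq_maximalIdeal ⊥ bot_ne_top).symm
  have hsurj : Function.Surjective (algebraMap R U) := by
    have hN : (⊤ : Submodule R U) ≤ LinearMap.range (Algebra.linearMap R U) := by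
      refine Submodule.le_of_le_smul_of_le_jacobson_bot Module.Finite.fg_top hI ?_
      intro w _
      obtain ⟨a, ha⟩ := hcyc w
      have hw : w = a • (1 : U) + (w - a • (1 : U)) := by ring
      rw [hw]
      refine Submodule.add_mem _ (Submodule.mem_sup_left ⟨a, ?_⟩) (Submodule.mem_sup_right ?_)
      · simp [Algebra.algebraMap_eq_smul_one]
      · rw [Ideal.smul_top_eq_map]
        exact ha
    intro w
    obtain ⟨a, ha⟩ := hN (Submodule.mem_top (x := w))
    exact ⟨a, ha⟩
  refine ⟨?_, hsurj⟩
  have hkerI : ∀ a : R, algebraMap R U a = 0 → a ∈ m := by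
    intro a ha
    have := congrArg σ ha
    rw [σ.commutes, map_zero] at this
    exact Ideal.Quotient.eq_zero_iff_mem.1 this
  haveI : Module.Free R U := Module.free_of_flat_of_isLocalRing
  obtain ⟨s, hs⟩ := Module.projective_lifting_property (Algebra.linearMap R U)
    (LinearMap.id : U →ₗ[R] U) hsurj
  set t := s 1 with ht
  have ht1 : algebraMap R U t = 1 := LinearMap.congr_fun hs 1
  have htu : IsUnit t := by
    refine isUnit_of_sub_one_mem hI (hkerI _ ?_)
    rw [map_sub, ht1, map_one, sub_self]
  rw [injective_iff_map_eq_zero]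
  intro j hj
  have h1 : j * t = 0 := by
    have : j * t = s (j • (1 : U)) := by rw [map_smul, smul_eq_mul]
    rw [this, Algebra.smul_def, mul_one, hj, map_zero]
  exact (htu.mul_left_eq_zero).1 h1

/-- The standard étale algebra isolating a simple residual root. -/
theorem std_setup (R : Type u) [CommRing R] [IsLocalRing R] (f : R[X]) (hf : f.Monic) (a₀ : R)
    (h₁ : f.eval a₀ ∈ IsLocalRing.maximalIdeal R) (h₂ : IsUnit (f.derivative.eval a₀)) :
    ∃ (S : Type u) (_ : CommRing S) (_ : Algebra R S) (_ : Algebra.Etale R S)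
      (σ : S →ₐ[R] R ⧸ IsLocalRing.maximalIdeal R) (x : S),
      aeval x f = 0 ∧ σ x = Ideal.Quotient.mk _ a₀ ∧
      ∀ w : S, ∃ a : R, w - algebraMap R S a ∈
        (IsLocalRing.maximalIdeal R).map (algebraMap R S) := by
  set m := IsLocalRing.maximalIdeal R with hm
  obtain ⟨g, hfg⟩ : ∃ g : R[X], f = (X - C a₀) * g + C (f.eval a₀) := by
    refine ⟨f /ₘ (X - C a₀), ?_⟩
    have := modByMonic_add_div f (X - C a₀)
    rw [modByMonic_X_sub_C_eq_C_eval] at this
    rw [add_comm]; exact this.symm
  have hder : (derivative f).eval a₀ = g.eval a₀ := by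
    have : derivative f = g + (X - C a₀) * derivative g := by
      conv_lhs => rw [hfg]
      simp only [derivative_add, derivative_mul, derivative_sub, derivative_X, derivative_C,
        sub_zero, one_mul, add_zero]
    rw [this]; simp
  let P : StandardEtalePair R := ⟨f, hf, g * derivative f, ⟨g, 0, 1, by ring⟩⟩
  have hPf : P.f = f := rfl
  have hPg : P.g = g * derivative f := rfl
  have hmap : P.HasMap (Ideal.Quotient.mk m a₀) := by
    refine ⟨?_, ?_⟩
    · rw [hPf]
      have : aeval (Ideal.Quotient.mk m a₀) f = Ideal.Quotient.mk m (f.eval a₀) :=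
        Polynomial.aeval_algebraMap_apply_eq_algebraMap_eval (A := R ⧸ m) a₀ f
      rw [this]
      exact Ideal.Quotient.eq_zero_iff_mem.2 h₁
    · rw [hPg]
      have : aeval (Ideal.Quotient.mk m a₀) (g * derivative f) =
          Ideal.Quotient.mk m ((g * derivative f).eval a₀) :=
        Polynomial.aeval_algebraMap_apply_eq_algebraMap_eval (A := R ⧸ m) a₀ _
      rw [this, eval_mul, ← hder]
      exact (h₂.mul h₂).map _
  let σ : P.Ring →ₐ[R] R ⧸ m := P.lift _ hmap
  have hσX : σ P.X = Ideal.Quotient.mk m a₀ := P.lift_X _ hmap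
  have hX : P.X - algebraMap R P.Ring a₀ ∈ m.map (algebraMap R P.Ring) := by
    have h3 : aeval P.X f = 0 := P.hasMap_X.1
    have hunit : IsUnit (aeval P.X g) := by
      have := P.hasMap_X.2
      rw [hPg, map_mul] at this
      exact isUnit_of_mul_isUnit_left this
    have h4 : (P.X - algebraMap R P.Ring a₀) * aeval P.X g =
        - algebraMap R P.Ring (f.eval a₀) := by
      have := congrArg (aeval P.X) hfg
      rw [h3, map_add, map_mul, map_sub, aeval_X, aeval_C, aeval_C] at this
      linear_combination -this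
    obtain ⟨v, hv⟩ := hunit.exists_right_inv
    have : P.X - algebraMap R P.Ring a₀ = - algebraMap R P.Ring (f.eval a₀) * v := by
      rw [← h4, mul_assoc, hv, mul_one]
    rw [this]
    exact Ideal.mul_mem_right _ _ ((m.map (algebraMap R P.Ring)).neg_mem
      (Ideal.mem_map_of_mem _ h₁))
  let π : P.Ring →ₐ[R] P.Ring ⧸ m.map (algebraMap R P.Ring) := Ideal.Quotient.mkₐ R _
  let ι : (R ⧸ m) →ₐ[R] P.Ring ⧸ m.map (algebraMap R P.Ring) :=
    Ideal.Quotient.liftₐ m (Algebra.ofId R _) (fun a ha => by
      change algebraMap R (P.Ring ⧸ m.map (algebraMap R P.Ring)) a = 0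
      rw [IsScalarTower.algebraMap_apply R P.Ring]
      exact Ideal.Quotient.eq_zero_iff_mem.2 (Ideal.mem_map_of_mem _ ha))
  have hπ : π = ι.comp σ := P.hom_ext (by
    change Ideal.Quotient.mk _ P.X = ι (σ P.X)
    rw [hσX]
    exact Ideal.Quotient.eq.2 hX)
  refine ⟨P.Ring, inferInstance, inferInstance, inferInstance, σ, P.X, P.hasMap_X.1, hσX, ?_⟩
  intro w
  obtain ⟨a, ha⟩ := Ideal.Quotient.mk_surjective (σ w)
  refine ⟨a, ?_⟩
  rw [← Ideal.Quotient.eq]
  change π w = π (algebraMap R P.Ring a)
  rw [hπ, AlgHom.comp_apply, AlgHom.comp_apply, ← ha, AlgHom.commutes]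
  rfl

/-- From a trivial quotient of the standard étale algebra to a root. -/
theorem root_of_bijective {R : Type u} [CommRing R] [IsLocalRing R] (f : R[X]) (a₀ : R)
    {S : Type u} [CommRing S] [Algebra R S] (σ : S →ₐ[R] R ⧸ IsLocalRing.maximalIdeal R) (x : S)
    (hx : aeval x f = 0) (hσx : σ x = Ideal.Quotient.mk _ a₀)
    {U : Type u} [CommRing U] [Algebra R U] (hbij : Function.Bijective (algebraMap R U))
    (φ : S →ₐ[R] U) (σU : U →ₐ[R] R ⧸ IsLocalRing.maximalIdeal R) (hφ : ∀ s, σU (φ s) = σ s) :
    ∃ a : R, f.IsRoot a ∧ a - a₀ ∈ IsLocalRing.maximalIdeal R := by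
  let ιA : R ≃ₐ[R] U := AlgEquiv.ofBijective (Algebra.ofId R _) hbij
  have hιA : ∀ a, ιA a = algebraMap R U a := fun a => rfl
  refine ⟨ιA.symm (φ x), ?_, ?_⟩
  · have h7 : aeval (ιA.symm (φ x)) f = 0 := by
      have : (ιA.symm (φ x)) = ((ιA.symm : U →ₐ[R] R).comp φ) x := rfl
      rw [this, Polynomial.aeval_algHom_apply, hx, map_zero]
    rw [IsRoot, ← Polynomial.coe_aeval_eq_eval]
    exact h7
  · rw [← Ideal.Quotient.eq, ← hσx, ← hφ]
    set a := ιA.symm (φ x) with ha
    have : φ x = algebraMap R U a := by
      rw [← hιA, ha, ιA.apply_symm_apply]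
    rw [this, σU.commutes]
    rfl

/-- S5035 -/
theorem hens_iff_finite_localization (R : Type u) [CommRing R] [IsLocalRing R] :
    HenselianLocalRing R ↔
      ∀ (S : Type u) [CommRing S] [Algebra R S] [Algebra.FiniteType R S] (q : Ideal S)
        [q.IsPrime], q.LiesOver (IsLocalRing.maximalIdeal R) → Algebra.QuasiFiniteAt R q →
          Module.Finite R (Localization.AtPrime q) := by
  constructor
  · intro h S _ _ _ q _ hover hqf
    exact finite_localization_of_qfAt R S q
  · intro H
    refine ⟨fun f hf a₀ h₁ h₂ => ?_⟩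
    set m := IsLocalRing.maximalIdeal R with hm
    obtain ⟨S, _, _, _, σ, x, hx, hσx, hcyc⟩ := std_setup R f hf a₀ h₁ h₂
    set q₀ := RingHom.ker (σ : S →+* R ⧸ m) with hq₀
    haveI : q₀.IsPrime := RingHom.ker_isPrime _
    have hover : q₀.LiesOver m := by
      constructor
      ext a
      rw [Ideal.under, Ideal.mem_comap, hq₀, RingHom.mem_ker]
      change a ∈ m ↔ σ (algebraMap R _ a) = 0
      rw [σ.commutes]
      exact (Ideal.Quotient.eq_zero_iff_mem (I := m) (a := a)).symm
    haveI : Module.Finite R (Localization.AtPrime q₀) := H S q₀ hover inferInstance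
    haveI : Module.Flat S (Localization.AtPrime q₀) :=
      IsLocalization.flat (Localization.AtPrime q₀) q₀.primeCompl
    haveI : Module.Flat R (Localization.AtPrime q₀) := Module.Flat.trans R S _
    have hσunit : ∀ y : S, y ∉ q₀ → ∃ b : R, IsUnit b ∧ σ y = Ideal.Quotient.mk m b := by
      intro y hy
      obtain ⟨b, hb⟩ := Ideal.Quotient.mk_surjective (σ y)
      refine ⟨b, ?_, hb.symm⟩
      by_contra hnu
      apply hy
      rw [hq₀, RingHom.mem_ker]
      change σ y = 0
      rw [← hb]
      exact Ideal.Quotient.eq_zero_iff_mem.2 ((IsLocalRing.mem_maximalIdeal _).2 hnu)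
    have hunits : ∀ y : q₀.primeCompl, IsUnit (σ y) := by
      rintro ⟨y, hy⟩
      obtain ⟨b, hb, hby⟩ := hσunit y hy
      rw [hby]; exact hb.map _
    let σU : Localization.AtPrime q₀ →ₐ[R] R ⧸ m :=
      IsLocalization.liftAlgHom (M := q₀.primeCompl) (f := σ) hunits
    have hσU : ∀ s, σU (algebraMap S (Localization.AtPrime q₀) s) = σ s := fun s => by
      simp [σU]
    have hσm : ∀ z ∈ m.map (algebraMap R S), σ z = 0 := by
      have : m.map (algebraMap R S) ≤ q₀ := by
        rw [Ideal.map_le_iff_le_comap]
        intro a ha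
        rw [Ideal.mem_comap, hq₀, RingHom.mem_ker]
        change σ (algebraMap R S a) = 0
        rw [σ.commutes]
        exact Ideal.Quotient.eq_zero_iff_mem.2 ha
      intro z hz
      exact this hz
    have hmapU : ∀ z ∈ m.map (algebraMap R S),
        algebraMap S (Localization.AtPrime q₀) z ∈
          m.map (algebraMap R (Localization.AtPrime q₀)) := by
      intro z hz
      have h5 : (m.map (algebraMap R S)).map (algebraMap S (Localization.AtPrime q₀)) =
          m.map (algebraMap R (Localization.AtPrime q₀)) := by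
        rw [Ideal.map_map, ← IsScalarTower.algebraMap_eq]
      rw [← h5]
      exact Ideal.mem_map_of_mem _ hz
    have hcycU : ∀ w : Localization.AtPrime q₀, ∃ a : R,
        w - a • (1 : Localization.AtPrime q₀) ∈
          m.map (algebraMap R (Localization.AtPrime q₀)) := by
      intro w
      obtain ⟨y, ⟨s, hs⟩, rfl⟩ := IsLocalization.exists_mk'_eq q₀.primeCompl w
      obtain ⟨a, ha⟩ := hcyc y
      obtain ⟨b, hb⟩ := hcyc s
      obtain ⟨b', hb'u, hb's⟩ := hσunit s hs
      have hbu : IsUnit b := by
        have h6 : σ s = Ideal.Quotient.mk m b := by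
          have : s = (s - algebraMap R S b) + algebraMap R S b := by ring
          rw [this, map_add, hσm _ hb, zero_add, σ.commutes]
          rfl
        have h7 : Ideal.Quotient.mk m b = Ideal.Quotient.mk m b' := by rw [← h6, hb's]
        have h8 : b - b' ∈ m := Ideal.Quotient.eq.1 h7
        by_contra hnu
        have h9 : b ∈ m := (IsLocalRing.mem_maximalIdeal _).2 hnu
        have h10 : b' ∈ m := by
          have : b' = b - (b - b') := by ring
          rw [this]; exact m.sub_mem h9 h8
        exact (IsLocalRing.mem_maximalIdeal _).1 h10 hb'u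
      obtain ⟨c, hc⟩ := hbu.exists_right_inv
      refine ⟨a * c, ?_⟩
      set L := Localization.AtPrime q₀ with hL
      have hsu : IsUnit (algebraMap S L s) := IsLocalization.map_units (M := q₀.primeCompl) _ ⟨s, hs⟩
      obtain ⟨v, hv⟩ := hsu.exists_right_inv
      have hspec : IsLocalization.mk' L y ⟨s, hs⟩ * algebraMap S L s = algebraMap S L y :=
        IsLocalization.mk'_spec _ _ _
      have hkey : (IsLocalization.mk' L y ⟨s, hs⟩ - (a * c) • (1 : L)) * algebraMap S L s =
          algebraMap S L (y - algebraMap R S a) -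
            algebraMap R L (a * c) * algebraMap S L (s - algebraMap R S b) := by
        rw [sub_mul, hspec, Algebra.smul_def, mul_one, map_sub, map_sub,
          ← IsScalarTower.algebraMap_apply R S L, ← IsScalarTower.algebraMap_apply R S L]
        have : algebraMap R L a = algebraMap R L (a * c) * algebraMap R L b := by
          rw [← map_mul, mul_assoc, mul_comm c b, hc, mul_one]
        rw [this]
        ring
      have hmem : (IsLocalization.mk' L y ⟨s, hs⟩ - (a * c) • (1 : L)) * algebraMap S L s ∈
          m.map (algebraMap R L) := by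
        rw [hkey]
        exact Ideal.sub_mem _ (hmapU _ ha) (Ideal.mul_mem_left _ _ (hmapU _ hb))
      have : IsLocalization.mk' L y ⟨s, hs⟩ - (a * c) • (1 : L) =
          (IsLocalization.mk' L y ⟨s, hs⟩ - (a * c) • (1 : L)) * algebraMap S L s * v := by
        rw [mul_assoc, hv, mul_one]
      rw [this]
      exact Ideal.mul_mem_right _ _ hmem
    have hbij := bijective_of_flat_local σU hcycU
    exact root_of_bijective f a₀ σ x hx hσx hbij (IsScalarTower.toAlgHom R S _) σU hσU

end Groth.Agent.Helper3.HensQF
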