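import Groth.Agent.Helper3.HensTFAE
import Groth.Agent.Helper3.CHIdem2

/-!
Sections of finite algebras with an étale point, over a henselian pair.
-/

namespace Groth.Agent.Helper3.HensSect

open Polynomial
open Groth.Agent.Helper3.HensGabber

universe u

/-- Units can be detected modulo a square-zero kernel. -/
theorem isUnit_of_map_of_sq_zero {T S : Type*} [CommRing T] [CommRing S] (f : T →+* S)
    (hf : Function.Surjective f) (hk : ∀ x y, f x = 0 → f y = 0 → x * y = 0) {x : T}
    (hx : IsUnit (f x)) : IsUnit x := by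
  obtain ⟨y', hy'⟩ := hx.exists_right_inv
  obtain ⟨y, rfl⟩ := hf y'
  set ν := x * y - 1 with hν
  have h1 : f ν = 0 := by rw [hν, map_sub, map_mul, hy', map_one, sub_self]
  have h2 : ν * ν = 0 := hk ν ν h1 h1
  refine IsUnit.of_mul_eq_one (y * (1 - ν)) ?_
  calc x * (y * (1 - ν)) = (1 + ν) * (1 - ν) := by rw [hν]; ring
    _ = 1 - ν * ν := by ring
    _ = 1 := by rw [h2, sub_zero]

variable {A : Type u} [CommRing A] (I : Ideal A)
variable {U : Type u} [CommRing U] [Algebra A U]

/-- Step (b): the kernel of an "étale point" is idempotent modulo `I`. -/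
theorem ker_le_sq_sup (Δ : U) (U' : Type u) [CommRing U'] [Algebra A U'] [Algebra U U']
    [IsScalarTower A U U'] [IsLocalization.Away Δ U'] [Algebra.FormallyUnramified A U']
    (σ' : U' →ₐ[A] A ⧸ I) (σ : U →ₐ[A] A ⧸ I) (hσ : ∀ x, σ x = σ' (algebraMap U U' x)) :
    RingHom.ker (σ : U →+* A ⧸ I) ≤
      RingHom.ker (σ : U →+* A ⧸ I) * RingHom.ker (σ : U →+* A ⧸ I) ⊔
        I.map (algebraMap A U) := by
  set K := RingHom.ker (σ : U →+* A ⧸ I) with hK
  set J := I.map (algebraMap A U) with hJ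
  set L := K * K ⊔ J with hL
  have hσalg : ∀ a : A, σ (algebraMap A U a) = Ideal.Quotient.mk I a := fun a => σ.commutes a
  have hJK : J ≤ K := by
    rw [hJ, Ideal.map_le_iff_le_comap]
    intro a ha
    rw [Ideal.mem_comap, hK, RingHom.mem_ker]
    change σ (algebraMap A U a) = 0
    rw [hσalg]
    exact Ideal.Quotient.eq_zero_iff_mem.2 ha
  have hLK : L ≤ K := sup_le Ideal.mul_le_right hJK
  let fT : U ⧸ L →+* A ⧸ I := Ideal.Quotient.lift L (σ : U →+* A ⧸ I) (fun x hx => hLK hx)
  let π : U →ₐ[A] U ⧸ L := Ideal.Quotient.mkₐ A L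
  have hfTπ : ∀ x, fT (π x) = σ x := fun x => rfl
  have hIT : ∀ a ∈ I, algebraMap A (U ⧸ L) a = 0 := by
    intro a ha
    change Ideal.Quotient.mk L (algebraMap A U a) = 0
    exact Ideal.Quotient.eq_zero_iff_mem.2 (le_sup_right (a := K * K) (Ideal.mem_map_of_mem _ ha))
  let ιT : A ⧸ I →ₐ[A] U ⧸ L := Ideal.Quotient.liftₐ I (Algebra.ofId A (U ⧸ L)) hIT
  have hfTsurj : Function.Surjective fT := by
    intro s
    obtain ⟨a, rfl⟩ := Ideal.Quotient.mk_surjective s
    exact ⟨π (algebraMap A U a), by rw [hfTπ, hσalg]⟩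
  have hfTk : ∀ x y, fT x = 0 → fT y = 0 → x * y = 0 := by
    intro x y hx hy
    obtain ⟨x₀, rfl⟩ := Ideal.Quotient.mk_surjective x
    obtain ⟨y₀, rfl⟩ := Ideal.Quotient.mk_surjective y
    have hx₀ : x₀ ∈ K := hx
    have hy₀ : y₀ ∈ K := hy
    rw [← map_mul]
    exact Ideal.Quotient.eq_zero_iff_mem.2 (le_sup_left (b := J) (Ideal.mul_mem_mul hx₀ hy₀))
  have hΔ : IsUnit (π Δ) := by
    refine isUnit_of_map_of_sq_zero fT hfTsurj hfTk ?_
    rw [hfTπ, hσ]
    exact (IsLocalization.Away.algebraMap_isUnit Δ).map σ'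
  let g₁ : U' →ₐ[A] U ⧸ L := IsLocalization.Away.liftAlgHom Δ hΔ
  let g₂ : U' →ₐ[A] U ⧸ L := ιT.comp σ'
  have hg₁ : ∀ x : U, g₁ (algebraMap U U' x) = π x := fun x => IsLocalization.Away.lift_eq Δ hΔ x
  have hker : IsNilpotent (RingHom.ker fT) := by
    refine ⟨2, ?_⟩
    rw [Ideal.zero_eq_bot, eq_bot_iff, sq, Ideal.mul_le]
    intro r hr s hs
    rw [Ideal.mem_bot]
    exact hfTk r s hr hs
  have hfι : ∀ s, fT (ιT s) = s := by
    intro s
    obtain ⟨a, rfl⟩ := Ideal.Quotient.mk_surjective s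
    have : ιT (Ideal.Quotient.mk I a) = π (algebraMap A U a) := by
      change ιT (algebraMap A (A ⧸ I) a) = _
      rw [ιT.commutes]; rfl
    rw [this, hfTπ, hσalg]
  have hg : g₁ = g₂ := by
    refine Algebra.FormallyUnramified.ext' fT hker g₁ g₂ ?_
    have h1 : (fT.comp (g₁ : U' →+* U ⧸ L)) = (fT.comp (g₂ : U' →+* U ⧸ L)) := by
      refine IsLocalization.ringHom_ext (Submonoid.powers Δ) ?_
      ext x
      change fT (g₁ (algebraMap U U' x)) = fT (ιT (σ' (algebraMap U U' x)))
      rw [hg₁, hfTπ, hfι, hσ]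
    exact fun x => RingHom.congr_fun h1 x
  intro x hx
  have h1 : π x = 0 := by
    rw [← hg₁, hg]
    change ιT (σ' (algebraMap U U' x)) = 0
    rw [← hσ]
    have : σ x = 0 := hx
    rw [this, map_zero]
  exact Ideal.Quotient.eq_zero_iff_mem.1 h1

/-- Step (c): an element `b` which is `1` on the point and kills the kernel modulo `I`. -/
theorem exists_b [Algebra.FiniteType A U] (σ : U →ₐ[A] A ⧸ I)
    (hKK : RingHom.ker (σ : U →+* A ⧸ I) ≤
      RingHom.ker (σ : U →+* A ⧸ I) * RingHom.ker (σ : U →+* A ⧸ I) ⊔ I.map (algebraMap A U)) :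
    ∃ b : U, 1 - b ∈ RingHom.ker (σ : U →+* A ⧸ I) ∧
      ∀ x ∈ RingHom.ker (σ : U →+* A ⧸ I), b * x ∈ I.map (algebraMap A U) := by
  set K := RingHom.ker (σ : U →+* A ⧸ I) with hK
  set J := I.map (algebraMap A U) with hJ
  have hσalg : ∀ a : A, σ (algebraMap A U a) = Ideal.Quotient.mk I a := fun a => σ.commutes a
  have hJK : J ≤ K := by
    rw [hJ, Ideal.map_le_iff_le_comap]
    intro a ha
    rw [Ideal.mem_comap, hK, RingHom.mem_ker]
    change σ (algebraMap A U a) = 0
    rw [hσalg]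
    exact Ideal.Quotient.eq_zero_iff_mem.2 ha
  obtain ⟨s, hs⟩ := (Algebra.FiniteType.out : (⊤ : Subalgebra A U).FG)
  have ha : ∀ u : U, ∃ a : A, σ u = Ideal.Quotient.mk I a := fun u =>
    ⟨_, (Ideal.Quotient.mk_surjective (σ u)).choose_spec.symm⟩
  choose a ha using ha
  set J₀ : Ideal U := Ideal.span ((fun u => u - algebraMap A U (a u)) '' (s : Set U)) with hJ₀
  have hJ₀fg : J₀.FG := by
    classical
    exact ⟨(s.image (fun u => u - algebraMap A U (a u))), by rw [hJ₀, Finset.coe_image]⟩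
  have hJ₀K : J₀ ≤ K := by
    rw [hJ₀, Ideal.span_le]
    rintro _ ⟨u, -, rfl⟩
    change σ (u - algebraMap A U (a u)) = 0
    rw [map_sub, hσalg, ha, sub_self]
  have hcl : ∀ x : U, ∃ c : A, x - algebraMap A U c ∈ J₀ := by
    intro x
    have hx : x ∈ Algebra.adjoin A (s : Set U) := by rw [hs]; trivial
    induction hx using Algebra.adjoin_induction with
    | mem u hu => exact ⟨a u, Ideal.subset_span ⟨u, hu, rfl⟩⟩
    | algebraMap r => exact ⟨r, by simp⟩
    | add x y _ _ hx hy =>
      obtain ⟨c, hc⟩ := hx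
      obtain ⟨d, hd⟩ := hy
      refine ⟨c + d, ?_⟩
      have : x + y - algebraMap A U (c + d) = (x - algebraMap A U c) + (y - algebraMap A U d) := by
        rw [map_add]; ring
      rw [this]; exact J₀.add_mem hc hd
    | mul x y _ _ hx hy =>
      obtain ⟨c, hc⟩ := hx
      obtain ⟨d, hd⟩ := hy
      refine ⟨c * d, ?_⟩
      have : x * y - algebraMap A U (c * d) =
          x * (y - algebraMap A U d) + algebraMap A U d * (x - algebraMap A U c) := by
        rw [map_mul]; ring
      rw [this]; exact J₀.add_mem (J₀.mul_mem_left _ hd) (J₀.mul_mem_left _ hc)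
  have hKle : K ≤ J₀ ⊔ J := by
    intro x hx
    obtain ⟨c, hc⟩ := hcl x
    have h1 : algebraMap A U c ∈ K := by
      have : algebraMap A U c = x - (x - algebraMap A U c) := by ring
      rw [this]; exact K.sub_mem hx (hJ₀K hc)
    have h2 : c ∈ I := by
      rw [← Ideal.Quotient.eq_zero_iff_mem, ← hσalg]; exact h1
    have : x = (x - algebraMap A U c) + algebraMap A U c := by ring
    rw [this]
    exact Submodule.add_mem _ (Ideal.mem_sup_left hc) (Ideal.mem_sup_right (Ideal.mem_map_of_mem _ h2))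
  set mkJ := Ideal.Quotient.mk J with hmkJ
  have hmkJs : Function.Surjective mkJ := Ideal.Quotient.mk_surjective
  set Kb := K.map mkJ with hKb
  have hJmap : J.map mkJ = ⊥ := Ideal.map_quotient_self J
  have hKbeq : Kb = J₀.map mkJ := by
    apply le_antisymm
    · calc Kb ≤ (J₀ ⊔ J).map mkJ := Ideal.map_mono hKle
        _ = J₀.map mkJ := by rw [Ideal.map_sup, hJmap, sup_bot_eq]
    · exact Ideal.map_mono hJ₀K
  have hKbfg : Kb.FG := hKbeq ▸ hJ₀fg.map mkJ
  have hKble : Kb ≤ Kb • Kb := by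
    calc Kb ≤ (K * K ⊔ J).map mkJ := Ideal.map_mono hKK
      _ = Kb * Kb := by rw [Ideal.map_sup, hJmap, sup_bot_eq, Ideal.map_mul]
      _ = Kb • Kb := (smul_eq_mul ..).symm
  obtain ⟨r, hr1, hr⟩ :=
    Submodule.exists_sub_one_mem_and_smul_eq_zero_of_fg_of_le_smul Kb Kb hKbfg hKble
  obtain ⟨b, rfl⟩ := hmkJs r
  refine ⟨b, ?_, ?_⟩
  · have h1 : mkJ (1 - b) ∈ Kb := by
      have : mkJ (1 - b) = -(mkJ b - 1) := by rw [map_sub, map_one]; ring
      rw [this]; exact Kb.neg_mem hr1
    obtain ⟨k, hk, hkb⟩ := (Ideal.mem_map_iff_of_surjective mkJ hmkJs).1 h1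
    have h2 : k - (1 - b) ∈ J := Ideal.Quotient.eq.1 hkb
    have : 1 - b = k - (k - (1 - b)) := by ring
    rw [this]; exact K.sub_mem hk (hJK h2)
  · intro x hx
    have h1 : mkJ x ∈ Kb := Ideal.mem_map_of_mem _ hx
    have h2 := hr _ h1
    rw [smul_eq_mul, ← map_mul] at h2
    exact Ideal.Quotient.eq_zero_iff_mem.1 h2

theorem pow_succ_sub_mem {B : Type*} [CommRing B] (J : Ideal B) (b : B) (hbb : b * (1 - b) ∈ J)
    (n : ℕ) : b ^ (n + 1) - b ∈ J := by
  induction n with
  | zero => simp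
  | succ n ih =>
    have : b ^ (n + 1 + 1) - b = b * (b ^ (n + 1) - b) - b * (1 - b) := by ring
    rw [this]
    exact J.sub_mem (J.mul_mem_left _ ih) hbb

/-- Steps (d)–(f): the idempotent. -/
theorem exists_idem [hA : HenselianRing A I] [Module.Finite A U] (b : U)
    (hbb : b * (1 - b) ∈ I.map (algebraMap A U))
    (hcyc : ∀ w : U, ∃ a : A, b * w - a • b ∈ I.map (algebraMap A U)) :
    ∃ e : U, IsIdempotentElem e ∧ e - b ∈ I.map (algebraMap A U) := by
  rcases subsingleton_or_nontrivial A with hs | hnt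
  · have : Subsingleton U := Module.subsingleton A U
    exact ⟨b, Subsingleton.elim _ _, by simp⟩
  have hI := hA.jac
  have : Nontrivial (A ⧸ I) := HensTFAE.nontrivial_quotient I hI
  set J := I.map (algebraMap A U) with hJ
  obtain ⟨F, d, hF, hFb, hd, hFmap⟩ := CHIdem.main'' A U I hI b hbb hcyc
  set q := Ideal.Quotient.mk I with hq
  have h1 : F.eval 1 ∈ I := by
    rw [← Ideal.Quotient.eq_zero_iff_mem]
    change q (F.eval 1) = 0
    rw [← eval₂_hom, ← eval_map, hFmap]; simp
  have h2 : IsUnit (q (F.derivative.eval 1)) := by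
    have : q (F.derivative.eval 1) = 1 := by
      rw [← eval₂_hom, ← eval_map, ← derivative_map, hFmap, derivative_mul]
      simp
    rw [this]; exact isUnit_one
  obtain ⟨α, hα, hα1⟩ := hA.is_henselian F hF 1 h1 h2
  have hqα : q α = 1 := by
    rw [← sub_eq_zero, ← map_one q, ← map_sub]; exact Ideal.Quotient.eq_zero_iff_mem.2 hα1
  set G₁ := F /ₘ (X - C α) with hG₁
  have hFG : (X - C α) * G₁ = F := mul_divByMonic_eq_iff_isRoot.2 hα
  have hG₁m : G₁.Monic := (monic_X_sub_C α).of_mul_monic_left (hFG ▸ hF)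
  have hG₁map : G₁.map q = X ^ d := by
    have h3 : (X - C (1 : A ⧸ I)) * G₁.map q = (X - C (1 : A ⧸ I)) * X ^ d := by
      have := congrArg (Polynomial.map q) hFG
      rw [Polynomial.map_mul, Polynomial.map_sub, map_X, map_C, hqα, hFmap] at this
      rw [this]; simp
    exact (monic_X_sub_C (1 : A ⧸ I)).isRegular.left h3
  set γ := G₁.eval α with hγ
  have hqγ : q γ = 1 := by
    rw [hγ, ← eval₂_hom, ← eval_map, hG₁map, eval_pow, eval_X, hqα, one_pow]
  have hγ1 : γ - 1 ∈ I := by
    rw [← Ideal.Quotient.eq_zero_iff_mem, map_sub, map_one]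
    change q γ - 1 = 0
    rw [hqγ, sub_self]
  obtain ⟨v, hv⟩ := (isUnit_of_sub_one_mem hI hγ1).exists_right_inv
  have hqv : q v = 1 := by
    have := congrArg q hv
    rwa [map_mul, hqγ, one_mul, map_one] at this
  have hv1 : v - 1 ∈ I := by
    rw [← Ideal.Quotient.eq_zero_iff_mem, map_sub, map_one]
    change q v - 1 = 0
    rw [hqv, sub_self]
  set g := aeval b G₁ with hg
  have hgb : g * (b - algebraMap A U α) = 0 := by
    have := congrArg (aeval b) hFG
    rw [map_mul, map_sub, aeval_X, aeval_C, hFb] at this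
    rw [mul_comm]; exact this
  obtain ⟨Q, hQ⟩ := X_sub_C_dvd_sub_C_eval (a := α) (p := G₁)
  have hgQ : g - algebraMap A U γ = (b - algebraMap A U α) * aeval b Q := by
    have := congrArg (aeval b) hQ
    rwa [map_sub, map_mul, map_sub, aeval_X, aeval_C, aeval_C] at this
  have hgg : g * g = algebraMap A U γ * g := by
    have : g = algebraMap A U γ + (b - algebraMap A U α) * aeval b Q := by rw [← hgQ]; ring
    calc g * g = g * (algebraMap A U γ + (b - algebraMap A U α) * aeval b Q) := by rw [← this]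
      _ = algebraMap A U γ * g + (g * (b - algebraMap A U α)) * aeval b Q := by ring
      _ = algebraMap A U γ * g := by rw [hgb, zero_mul, add_zero]
  refine ⟨algebraMap A U v * g, ?_, ?_⟩
  · change algebraMap A U v * g * (algebraMap A U v * g) = algebraMap A U v * g
    calc algebraMap A U v * g * (algebraMap A U v * g)
        = algebraMap A U v * algebraMap A U v * (g * g) := by ring
      _ = algebraMap A U v * algebraMap A U (γ * v) * g := by rw [hgg, map_mul]; ring
      _ = algebraMap A U v * g := by rw [hv, map_one, mul_one]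
  · obtain ⟨d', rfl⟩ : ∃ d', d = d' + 1 := ⟨d - 1, by omega⟩
    have e1 : g - b ^ (d' + 1) ∈ J := by
      have : g - b ^ (d' + 1) = aeval b (G₁ - X ^ (d' + 1)) := by
        rw [map_sub, map_pow, aeval_X]
      rw [this]
      refine HensTFAE.aeval_mem_map_of_map_eq_zero I _ ?_ b
      rw [Polynomial.map_sub, hG₁map, Polynomial.map_pow, map_X, sub_self]
    have e2 : b ^ (d' + 1) - b ∈ J := pow_succ_sub_mem J b hbb d'
    have e3 : algebraMap A U v - 1 ∈ J := by
      rw [← map_one (algebraMap A U), ← map_sub]; exact Ideal.mem_map_of_mem _ hv1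
    have : algebraMap A U v * g - b =
        (algebraMap A U v - 1) * g + (g - b ^ (d' + 1)) + (b ^ (d' + 1) - b) := by ring
    rw [this]
    exact J.add_mem (J.add_mem (J.mul_mem_right _ e3) e1) e2

/-- Step (g): `A → U/(1-e)` is bijective. -/
theorem bijective_algebraMap (hI : I ≤ Ideal.jacobson ⊥) [Module.Finite A U]
    [Algebra.FinitePresentation A U]
    (Δ : U) (U' : Type u) [CommRing U'] [Algebra A U'] [Algebra U U'] [IsScalarTower A U U']
    [IsLocalization.Away Δ U'] [Module.Flat A U']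
    (σ : U →ₐ[A] A ⧸ I) (hσΔ : IsUnit (σ Δ))
    (b e : U) (he : IsIdempotentElem e) (heb : e - b ∈ I.map (algebraMap A U))
    (h1e : σ (1 - e) = 0)
    (hcyc : ∀ w : U, ∃ a : A, b * w - a • b ∈ I.map (algebraMap A U)) :
    Function.Bijective (algebraMap A (U ⧸ Ideal.span {1 - e})) := by
  set J := I.map (algebraMap A U) with hJ
  set E : Ideal U := Ideal.span {1 - e} with hE
  let mkV : U →ₐ[A] U ⧸ E := Ideal.Quotient.mkₐ A E
  have hmkVs : Function.Surjective mkV := Ideal.Quotient.mkₐ_surjective A E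
  have hmk1e : mkV (1 - e) = 0 :=
    Ideal.Quotient.eq_zero_iff_mem.2 (Ideal.mem_span_singleton_self _)
  have hmke : mkV e = 1 := by
    have : mkV e = mkV 1 - mkV (1 - e) := by rw [← map_sub]; congr 1; ring
    rw [this, hmk1e, map_one, sub_zero]
  have hfin : Module.Finite A (U ⧸ E) := Module.Finite.of_surjective mkV.toLinearMap hmkVs
  have hσalg : ∀ a : A, σ (algebraMap A U a) = Ideal.Quotient.mk I a := fun a => σ.commutes a
  have hJσ : ∀ j ∈ J, σ j = 0 := by
    intro j hj
    have : J ≤ RingHom.ker (σ : U →+* A ⧸ I) := by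
      rw [hJ, Ideal.map_le_iff_le_comap]
      intro a ha
      rw [Ideal.mem_comap, RingHom.mem_ker]
      change σ (algebraMap A U a) = 0
      rw [hσalg]; exact Ideal.Quotient.eq_zero_iff_mem.2 ha
    exact this hj
  have hJV : ∀ j ∈ J, mkV j ∈ I • (⊤ : Submodule A (U ⧸ E)) := by
    intro j hj
    rw [Ideal.smul_top_eq_map]
    change mkV j ∈ I.map (algebraMap A (U ⧸ E))
    have h1 : (I.map (algebraMap A U)).map (mkV : U →+* U ⧸ E) = I.map (algebraMap A (U ⧸ E)) := by
      rw [Ideal.map_map]; rfl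
    rw [← h1]
    exact Ideal.mem_map_of_mem _ hj
  -- surjectivity
  have hsurj : Function.Surjective (algebraMap A (U ⧸ E)) := by
    have hN : (⊤ : Submodule A (U ⧸ E)) ≤ LinearMap.range (Algebra.linearMap A (U ⧸ E)) := by
      refine Submodule.le_of_le_smul_of_le_jacobson_bot Module.Finite.fg_top hI ?_
      intro w _
      obtain ⟨x, rfl⟩ := hmkVs w
      obtain ⟨a, ha⟩ := hcyc x
      have hx : x = (1 - e) * x + ((e - b) * x + (b * x - a • b) + a • (b - e)) + a • e := by
        simp only [Algebra.smul_def]; ring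
      have h2 : mkV x = mkV ((e - b) * x + (b * x - a • b) + a • (b - e)) +
          algebraMap A (U ⧸ E) a := by
        conv_lhs => rw [hx]
        rw [map_add, map_add, map_mul, hmk1e, zero_mul, zero_add, map_smul, hmke]
        congr 1
        exact (Algebra.algebraMap_eq_smul_one a).symm
      rw [h2]
      refine Submodule.add_mem _ (Submodule.mem_sup_right (hJV _ ?_))
        (Submodule.mem_sup_left ⟨a, rfl⟩)
      refine J.add_mem (J.add_mem (J.mul_mem_right _ heb) ha) ?_
      rw [Algebra.smul_def]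
      refine J.mul_mem_left _ ?_
      have : b - e = -(e - b) := by ring
      rw [this]; exact J.neg_mem heb
    intro w
    obtain ⟨a, ha⟩ := hN (Submodule.mem_top (x := w))
    exact ⟨a, ha⟩
  refine ⟨?_, hsurj⟩
  -- injectivity
  have hEσ : ∀ x ∈ E, σ x = 0 := by
    intro x hx
    obtain ⟨y, rfl⟩ := Ideal.mem_span_singleton'.1 hx
    rw [map_mul, h1e, mul_zero]
  let σV : U ⧸ E →ₐ[A] A ⧸ I := Ideal.Quotient.liftₐ E σ hEσ
  have hσV : ∀ x, σV (mkV x) = σ x := fun x => rfl
  have hkerI : ∀ a : A, algebraMap A (U ⧸ E) a = 0 → a ∈ I := by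
    intro a ha
    have := congrArg σV ha
    rw [σV.commutes, map_zero] at this
    exact Ideal.Quotient.eq_zero_iff_mem.1 this
  -- Δ becomes a unit
  have hΔV : IsUnit (mkV Δ) := by
    obtain ⟨a, ha⟩ := hsurj (mkV Δ)
    have h1 : Ideal.Quotient.mk I a = σ Δ := by
      rw [← hσV, ← ha, σV.commutes]; rfl
    have h2 : IsUnit a := isUnit_of_isUnit_mk hI (h1 ▸ hσΔ)
    rw [← ha]; exact h2.map _
  let lam : U' →ₐ[A] U ⧸ E := IsLocalization.Away.liftAlgHom Δ hΔV
  have hlam : ∀ x : U, lam (algebraMap U U' x) = mkV x :=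
    fun x => IsLocalization.Away.lift_eq Δ hΔV x
  let _ : Algebra U' (U ⧸ E) := lam.toRingHom.toAlgebra
  have halg : ∀ x' : U', algebraMap U' (U ⧸ E) x' = lam x' := fun x' => rfl
  have : IsScalarTower A U' (U ⧸ E) := IsScalarTower.of_algebraMap_eq (fun a => by
    rw [halg, lam.commutes])
  set e' := algebraMap U U' e with he'
  have he'idem : IsIdempotentElem e' := he.map _
  have hΔ' : IsUnit (algebraMap U U' Δ) := IsLocalization.Away.algebraMap_isUnit Δ
  have hker : RingHom.ker (algebraMap U' (U ⧸ E)) = Ideal.span {1 - e'} := by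
    apply le_antisymm
    · intro x' hx'
      rw [RingHom.mem_ker, halg] at hx'
      obtain ⟨n, x, hx⟩ := IsLocalization.Away.surj Δ x'
      have h1 : mkV x = 0 := by
        rw [← hlam, ← hx, map_mul, hx', zero_mul]
      have h2 : x ∈ E := Ideal.Quotient.eq_zero_iff_mem.1 h1
      obtain ⟨y, rfl⟩ := Ideal.mem_span_singleton'.1 h2
      have h3 : x' * algebraMap U U' Δ ^ n ∈ Ideal.span {1 - e'} := by
        rw [hx, map_mul, map_sub, map_one]
        exact Ideal.mul_mem_left _ _ (Ideal.mem_span_singleton_self _)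
      obtain ⟨w, hw⟩ := (hΔ'.pow n).exists_right_inv
      have : x' = x' * algebraMap U U' Δ ^ n * w := by rw [mul_assoc, hw, mul_one]
      rw [this]; exact Ideal.mul_mem_right _ _ h3
    · rw [Ideal.span_le, Set.singleton_subset_iff]
      change algebraMap U' (U ⧸ E) (1 - e') = 0
      rw [halg, map_sub, map_one, he', hlam, hmke, sub_self]
  have hlamsurj : Function.Surjective (algebraMap U' (U ⧸ E)) := by
    intro w
    obtain ⟨x, rfl⟩ := hmkVs w
    exact ⟨algebraMap U U' x, hlam x⟩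
  have hloc : IsLocalization.Away e' (U ⧸ E) :=
    IsLocalization.away_of_isIdempotentElem he'idem hker hlamsurj
  have hflat1 : Module.Flat U' (U ⧸ E) := IsLocalization.flat (U ⧸ E) (Submonoid.powers e')
  have hflat : Module.Flat A (U ⧸ E) := Module.Flat.trans A U' (U ⧸ E)
  -- finite presentation
  have hfpA : Algebra.FinitePresentation A (U ⧸ E) :=
    Algebra.FinitePresentation.quotient ⟨{1 - e}, by simp [hE]⟩
  have hkfg : (RingHom.ker (Algebra.ofId A (U ⧸ E)).toRingHom).FG :=
    Algebra.FinitePresentation.ker_fG_of_surjective (Algebra.ofId A (U ⧸ E)) hsurj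
  have hkfg' : (LinearMap.ker (Algebra.linearMap A (U ⧸ E))).FG := hkfg
  have hfpM : Module.FinitePresentation A (U ⧸ E) :=
    Module.finitePresentation_of_surjective (Algebra.linearMap A (U ⧸ E)) hsurj hkfg'
  have hproj : Module.Projective A (U ⧸ E) := Module.Flat.projective_of_finitePresentation
  obtain ⟨s, hs⟩ := Module.projective_lifting_property (Algebra.linearMap A (U ⧸ E))
    (LinearMap.id : (U ⧸ E) →ₗ[A] (U ⧸ E)) hsurj
  set t := s 1 with ht
  have ht1 : algebraMap A (U ⧸ E) t = 1 := LinearMap.congr_fun hs 1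
  have htu : IsUnit t := by
    refine isUnit_of_sub_one_mem hI (hkerI _ ?_)
    rw [map_sub, ht1, map_one, sub_self]
  rw [injective_iff_map_eq_zero]
  intro j hj
  have h1 : j * t = 0 := by
    have : j * t = s (j • (1 : U ⧸ E)) := by rw [map_smul, smul_eq_mul]
    rw [this, Algebra.smul_def, mul_one, hj, map_zero]
  exact (htu.mul_left_eq_zero).1 h1

/-- Over a henselian pair, a finite finitely presented algebra `U` with a point `U[1/Δ] → A/I`
in its étale locus `U[1/Δ]` has a section `U → A` lifting the point. -/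
theorem exists_section [hA : HenselianRing A I] [Module.Finite A U]
    [Algebra.FinitePresentation A U]
    (Δ : U) (U' : Type u) [CommRing U'] [Algebra A U'] [Algebra U U'] [IsScalarTower A U U']
    [IsLocalization.Away Δ U'] [Algebra.Etale A U'] (σ' : U' →ₐ[A] A ⧸ I) :
    ∃ τ : U →ₐ[A] A, ∀ x, Ideal.Quotient.mk I (τ x) = σ' (algebraMap U U' x) := by
  have hI := hA.jac
  let σ : U →ₐ[A] A ⧸ I := σ'.comp (IsScalarTower.toAlgHom A U U')
  have hσ : ∀ x, σ x = σ' (algebraMap U U' x) := fun x => rfl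
  have hσalg : ∀ a : A, σ (algebraMap A U a) = Ideal.Quotient.mk I a := fun a => σ.commutes a
  set K := RingHom.ker (σ : U →+* A ⧸ I) with hK
  set J := I.map (algebraMap A U) with hJ
  have hJK : J ≤ K := by
    rw [hJ, Ideal.map_le_iff_le_comap]
    intro a ha
    rw [Ideal.mem_comap, hK, RingHom.mem_ker]
    change σ (algebraMap A U a) = 0
    rw [hσalg]
    exact Ideal.Quotient.eq_zero_iff_mem.2 ha
  have hKK := ker_le_sq_sup I Δ U' σ' σ hσ
  obtain ⟨b, hb1, hbK⟩ := exists_b I σ hKK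
  have hbb : b * (1 - b) ∈ J := hbK _ hb1
  have hcyc : ∀ w : U, ∃ a : A, b * w - a • b ∈ J := by
    intro w
    obtain ⟨a, ha⟩ := Ideal.Quotient.mk_surjective (σ w)
    refine ⟨a, ?_⟩
    have h1 : w - algebraMap A U a ∈ K := by
      rw [hK, RingHom.mem_ker]
      change σ (w - algebraMap A U a) = 0
      rw [map_sub, hσalg, ha, sub_self]
    have : b * w - a • b = b * (w - algebraMap A U a) := by rw [Algebra.smul_def]; ring
    rw [this]; exact hbK _ h1
  obtain ⟨e, he, heb⟩ := exists_idem I b hbb hcyc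
  have h1e : σ (1 - e) = 0 := by
    have : 1 - e = (1 - b) - (e - b) := by ring
    rw [this]
    exact K.sub_mem hb1 (hJK heb)
  have hσΔ : IsUnit (σ Δ) := by
    rw [hσ]; exact (IsLocalization.Away.algebraMap_isUnit Δ).map σ'
  have hbij := bijective_algebraMap I hI Δ U' σ hσΔ b e he heb h1e hcyc
  set E : Ideal U := Ideal.span {1 - e} with hE
  let mkV : U →ₐ[A] U ⧸ E := Ideal.Quotient.mkₐ A E
  have hEσ : ∀ x ∈ E, σ x = 0 := by
    intro x hx
    obtain ⟨y, rfl⟩ := Ideal.mem_span_singleton'.1 hx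
    rw [map_mul, h1e, mul_zero]
  let σV : U ⧸ E →ₐ[A] A ⧸ I := Ideal.Quotient.liftₐ E σ hEσ
  have hσV : ∀ x, σV (mkV x) = σ x := fun x => rfl
  let ι : A ≃ₐ[A] U ⧸ E := AlgEquiv.ofBijective (Algebra.ofId A (U ⧸ E)) hbij
  refine ⟨(ι.symm : U ⧸ E →ₐ[A] A).comp mkV, fun x => ?_⟩
  rw [← hσ, ← hσV]
  set a := ((ι.symm : U ⧸ E →ₐ[A] A).comp mkV) x with ha
  have h1 : algebraMap A (U ⧸ E) a = mkV x := by
    have : ι a = mkV x := by rw [ha]; simp
    exact this
  rw [← h1, σV.commutes]; rfl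

end Groth.Agent.Helper3.HensSect
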