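import Groth.Agent.Helper3.HensUnram

/-!
S0517: solutions of étale systems over strictly henselian local rings.
-/

namespace Groth.Agent.Helper3.HensSol

open Groth.Agent.Helper3.HensGabber IsLocalRing

universe u

/-- An idempotent of a local ring is `0` or `1`. -/
theorem idem_local {T : Type*} [CommRing T] [IsLocalRing T] {ε : T} (h : IsIdempotentElem ε) :
    ε = 0 ∨ ε = 1 := by
  rcases IsLocalRing.isUnit_or_isUnit_one_sub_self ε with hu | hu
  · right
    have : ε * ε = ε * 1 := by rw [h.eq, mul_one]
    exact hu.mul_left_cancel this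
  · left
    have : (1 - ε) * ε = (1 - ε) * 0 := by
      rw [mul_zero, sub_mul, one_mul, h.eq, sub_self]
    exact hu.mul_left_cancel this

section A2

variable {R : Type u} [CommRing R] [IsLocalRing R] {ι : Type u} [Fintype ι] [DecidableEq ι]
  {B : Type u} [CommRing B] [Algebra R B]
  (hB : Ideal.map (algebraMap R B) (maximalIdeal R) = ⊤)
  {T : Type u} [CommRing T] [IsLocalRing T] [Algebra R T]
  (hT : Ideal.map (algebraMap R T) (maximalIdeal R) ≠ ⊤)

/-- The `i`-th point of `(ι → R) × B`. -/
noncomputable def pt (T : Type u) [CommRing T] [Algebra R T] (B : Type u) [CommRing B]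
    [Algebra R B] (i : ι) : ((ι → R) × B) →ₐ[R] T :=
  (Algebra.ofId R T).comp ((Pi.evalAlgHom R (fun _ : ι => R) i).comp (AlgHom.fst R (ι → R) B))

omit [IsLocalRing R] [Fintype ι] [DecidableEq ι] [IsLocalRing T] in
theorem pt_apply (i : ι) (x : (ι → R) × B) : pt T B i x = algebraMap R T (x.1 i) := rfl

include hB hT in
theorem hom_eq_pt (h : ((ι → R) × B) →ₐ[R] T) : ∃ i, h = pt T B i := by
  set mT : Ideal T := Ideal.map (algebraMap R T) (maximalIdeal R) with hmT
  let inB : B → (ι → R) × B := fun b => ((0 : ι → R), b)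
  have inB_add : ∀ x y, inB (x + y) = inB x + inB y := fun x y => by
    simp only [inB, Prod.mk_add_mk, add_zero]
  have inB_mul : ∀ x y, inB (x * y) = inB x * inB y := fun x y => by
    simp only [inB, Prod.mk_mul_mk, mul_zero]
  have inB_zero : inB 0 = 0 := rfl
  have inB_alg : ∀ r : R, inB (algebraMap R B r) = r • inB 1 := fun r => by
    change ((0 : ι → R), algebraMap R B r) = r • ((0 : ι → R), (1 : B))
    rw [Prod.smul_mk, smul_zero, Algebra.smul_def, mul_one]
  -- h kills (0, 1)
  have hδB : h (inB 1) = 0 := by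
    have hid : IsIdempotentElem (h (inB 1)) := by
      have : IsIdempotentElem (inB 1) := by
        change inB 1 * inB 1 = inB 1
        rw [← inB_mul, mul_one]
      exact this.map h
    rcases idem_local hid with h0 | h1
    · exact h0
    · exfalso
      apply hT
      let J : Ideal B :=
        { carrier := {b | h (inB b) ∈ mT}
          add_mem' := by
            intro x y hx hy
            change h (inB (x + y)) ∈ mT
            rw [inB_add, map_add]
            exact mT.add_mem hx hy
          zero_mem' := by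
            change h (inB 0) ∈ mT
            rw [inB_zero, map_zero]
            exact mT.zero_mem
          smul_mem' := by
            intro c x hx
            change h (inB (c * x)) ∈ mT
            rw [inB_mul, map_mul]
            exact mT.mul_mem_left _ hx }
      have hJ : Ideal.map (algebraMap R B) (maximalIdeal R) ≤ J := by
        rw [Ideal.map_le_iff_le_comap]
        intro r hr
        change h (inB (algebraMap R B r)) ∈ mT
        rw [inB_alg, map_smul, h1, Algebra.smul_def, mul_one]
        exact Ideal.mem_map_of_mem _ hr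
      have h1J : (1 : B) ∈ J := hJ (hB ▸ Submodule.mem_top)
      have : h (inB 1) ∈ mT := h1J
      rw [h1] at this
      exact (Ideal.eq_top_iff_one _).2 this
  -- the idempotents δ_i
  let δ : ι → (ι → R) × B := fun i => ((Pi.single i (1 : R) : ι → R), (0 : B))
  have hδid : ∀ i, IsIdempotentElem (δ i) := by
    intro i
    change δ i * δ i = δ i
    simp only [δ, Prod.mk_mul_mk, mul_zero]
    rw [← Pi.single_mul, mul_one]
  have hδorth : ∀ i j, i ≠ j → δ i * δ j = 0 := by
    intro i j hij
    simp only [δ, Prod.mk_mul_mk, mul_zero]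
    have : ((Pi.single i (1 : R) : ι → R) * (Pi.single j (1 : R) : ι → R)) = 0 := by
      ext k
      by_cases hk : k = i
      · subst hk; simp [Pi.single_eq_of_ne hij]
      · simp [Pi.single_eq_of_ne hk]
    rw [this]; rfl
  have hsum : ∀ x : (ι → R) × B, x = ∑ i, x.1 i • δ i + inB x.2 := by
    rintro ⟨v, b⟩
    have h1 : (∑ i, v i • δ i) = (v, (0 : B)) := by
      apply Prod.ext
      · rw [Prod.fst_sum]
        ext k
        rw [Finset.sum_apply]
        simp [δ, Pi.single_apply]
      · rw [Prod.snd_sum]
        simp [δ]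
    rw [h1]; simp [inB]
  have hinB : ∀ b, h (inB b) = 0 := by
    intro b
    have : inB b = inB b * inB 1 := by rw [← inB_mul, mul_one]
    rw [this, map_mul, hδB, mul_zero]
  have hx : ∀ x : (ι → R) × B, h x = ∑ i, x.1 i • h (δ i) := by
    intro x
    conv_lhs => rw [hsum x]
    rw [map_add, map_sum, hinB, add_zero]
    simp only [map_smul]
  have hex : ∃ i, h (δ i) = 1 := by
    by_contra hcon
    push Not at hcon
    have h0 : ∀ i, h (δ i) = 0 := fun i =>
      (idem_local ((hδid i).map h)).resolve_right (hcon i)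
    have := hx 1
    rw [map_one] at this
    simp only [h0, smul_zero, Finset.sum_const_zero] at this
    exact one_ne_zero this
  obtain ⟨i₀, hi₀⟩ := hex
  have h0 : ∀ i, i ≠ i₀ → h (δ i) = 0 := by
    intro i hi
    have := congrArg h (hδorth i i₀ hi)
    rwa [map_mul, hi₀, mul_one, map_zero] at this
  refine ⟨i₀, AlgHom.ext fun x => ?_⟩
  rw [hx x, pt_apply, Finset.sum_eq_single i₀]
  · rw [hi₀, Algebra.smul_def, mul_one]
  · intro i _ hi
    rw [h0 i hi, smul_zero]
  · intro hi; exact absurd (Finset.mem_univ _) hi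

omit [IsLocalRing R] [Fintype ι] in
theorem pt_injective [Nontrivial T] :
    Function.Injective (pt T B : ι → (((ι → R) × B) →ₐ[R] T)) := by
  intro i j hij
  by_contra hne
  have := congr($hij ((Pi.single i (1 : R) : ι → R), (0 : B)))
  rw [pt_apply, pt_apply] at this
  simp only [Pi.single_eq_same, map_one] at this
  rw [Pi.single_eq_of_ne (Ne.symm hne), map_zero] at this
  exact one_ne_zero this

include hB hT in
theorem pt_bijective : Function.Bijective (pt T B : ι → (((ι → R) × B) →ₐ[R] T)) :=
  ⟨pt_injective, fun h => by obtain ⟨i, hi⟩ := hom_eq_pt hB hT h; exact ⟨i, hi.symm⟩⟩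

end A2

/-- A nontrivial flat quotient of a local ring is the ring itself. -/
theorem bijective_of_flat_surj {R : Type u} [CommRing R] [IsLocalRing R] {U : Type u}
    [CommRing U] [Nontrivial U] [Algebra R U] [Module.Flat R U]
    (hsurj : Function.Surjective (algebraMap R U)) : Function.Bijective (algebraMap R U) := by
  refine ⟨?_, hsurj⟩
  have hI : maximalIdeal R ≤ Ideal.jacobson ⊥ :=
    le_of_eq (IsLocalRing.jacobson_eq_maximalIdeal ⊥ bot_ne_top).symm
  haveI : Module.Finite R U := Module.Finite.of_surjective (Algebra.linearMap R U) hsurj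
  have hkerI : ∀ a : R, algebraMap R U a = 0 → a ∈ maximalIdeal R := by
    intro a ha
    rw [mem_maximalIdeal]
    intro hu
    have := hu.map (algebraMap R U)
    rw [ha] at this
    exact not_isUnit_zero this
  haveI : Module.Free R U := Module.free_of_flat_of_isLocalRing
  obtain ⟨s, hs⟩ := Module.projective_lifting_property (Algebra.linearMap R U)
    (LinearMap.id : U →ₗ[R] U) hsurj
  set t := s 1 with ht
  have ht1 : algebraMap R U t = 1 := LinearMap.congr_fun hs 1
  have htu : IsUnit t := by
    refine isUnit_of_sub_one_mem hI (hkerI _ ?_)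
    rw [map_sub, ht1, map_one, sub_self]
  rw [injective_iff_map_eq_zero]
  intro j hj
  have h1 : j * t = 0 := by
    have : j * t = s (j • (1 : U)) := by rw [map_smul, smul_eq_mul]
    rw [this, Algebra.smul_def, mul_one, hj, map_zero]
  exact (htu.mul_left_eq_zero).1 h1

/-- An étale algebra over a strictly henselian local ring is a finite product of copies of the
base and an algebra with empty closed fibre. -/
theorem etale_split (R : Type u) [CommRing R] [HenselianLocalRing R]
    [IsSepClosed (ResidueField R)] (E : Type u) [CommRing E] [Algebra R E] [Algebra.Etale R E] :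
    ∃ (ι : Type u) (_ : Fintype ι) (B : Type u) (_ : CommRing B) (_ : Algebra R B),
      Ideal.map (algebraMap R B) (maximalIdeal R) = ⊤ ∧ Nonempty (E ≃ₐ[R] ((ι → R) × B)) := by
  classical
  obtain ⟨ι, hι, A, hA, hAalg, B, hB1, hB2, hloc, hsurj, hB, ⟨Ψ⟩⟩ :=
    HensUnram.unram_split' R E
  refine ⟨ι, hι, B, hB1, hB2, hB, ?_⟩
  have hflat : ∀ i, Module.Flat R (A i) := by
    intro i
    let incl : A i →ₗ[R] E :=
      Ψ.symm.toLinearMap ∘ₗ (LinearMap.inl R (∀ i, A i) B) ∘ₗ (LinearMap.single R A i)
    let retr : E →ₗ[R] A i :=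
      (LinearMap.proj i) ∘ₗ (LinearMap.fst R (∀ i, A i) B) ∘ₗ Ψ.toLinearMap
    refine Module.Flat.of_retract incl retr ?_
    ext a
    change (Ψ (Ψ.symm ((Pi.single i a : ∀ i, A i), (0 : B)))).1 i = a
    rw [Ψ.apply_symm_apply]
    exact Pi.single_eq_same i a
  have hbij : ∀ i, Function.Bijective (algebraMap R (A i)) := by
    intro i
    haveI := hloc i
    haveI := hflat i
    exact bijective_of_flat_surj (hsurj i)
  let θ : ∀ i, R ≃ₐ[R] A i := fun i => AlgEquiv.ofBijective (Algebra.ofId R (A i)) (hbij i)
  let Θ : (ι → R) ≃ₐ[R] (∀ i, A i) := AlgEquiv.piCongrRight θ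
  exact ⟨Ψ.trans (AlgEquiv.prodCongr Θ.symm AlgEquiv.refl)⟩

/-- Maps from an étale algebra over a strictly henselian local ring `R` to `R` and to a local
`R`-algebra `S` with local structure map correspond bijectively. -/
theorem hom_comp_bijective (R : Type u) [CommRing R] [HenselianLocalRing R]
    [IsSepClosed (ResidueField R)] (E : Type u) [CommRing E] [Algebra R E] [Algebra.Etale R E]
    (S : Type u) [CommRing S] [IsLocalRing S] [Algebra R S]
    (hS : Ideal.map (algebraMap R S) (maximalIdeal R) ≠ ⊤) :
    Function.Bijective (fun h : E →ₐ[R] R => (Algebra.ofId R S).comp h) := by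
  classical
  obtain ⟨ι, hι, B, hB1, hB2, hB, ⟨Ψ⟩⟩ := etale_split R E
  have hR : Ideal.map (algebraMap R R) (maximalIdeal R) ≠ ⊤ := by
    rw [Algebra.algebraMap_self, Ideal.map_id]
    exact (maximalIdeal.isMaximal R).ne_top
  let βR : ι → (E →ₐ[R] R) := fun i => (pt R B i).comp (Ψ : E →ₐ[R] ((ι → R) × B))
  let βS : ι → (E →ₐ[R] S) := fun i => (pt S B i).comp (Ψ : E →ₐ[R] ((ι → R) × B))
  have hcompΨ : ∀ (T : Type u) [CommRing T] [Algebra R T],
      Function.Bijective (fun g : ((ι → R) × B) →ₐ[R] T =>
        g.comp (Ψ : E →ₐ[R] ((ι → R) × B))) := by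
    intro T _ _
    constructor
    · intro g₁ g₂ h
      refine AlgHom.ext fun x => ?_
      have := congr($h (Ψ.symm x))
      simpa using this
    · intro g
      refine ⟨g.comp (Ψ.symm : ((ι → R) × B) →ₐ[R] E), ?_⟩
      ext x
      simp
  have hβR : Function.Bijective βR := (hcompΨ R).comp (pt_bijective hB hR)
  have hβS : Function.Bijective βS := (hcompΨ S).comp (pt_bijective hB hS)
  have hcomp : (fun h : E →ₐ[R] R => (Algebra.ofId R S).comp h) ∘ βR = βS := by
    funext i
    ext x
    rfl
  rw [← Function.Bijective.of_comp_iff _ hβR, hcomp]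
  exact hβS

section Sol

variable {R : Type u} [CommRing R] {n : ℕ} (P : Fin n → MvPolynomial (Fin n) R)

/-- The algebra map out of the quotient attached to a solution. -/
noncomputable def solHom {T : Type u} [CommRing T] [Algebra R T] (t : Fin n → T)
    (ht : ∀ i, MvPolynomial.aeval t (P i) = 0) :
    (MvPolynomial (Fin n) R ⧸ Ideal.span (Set.range P)) →ₐ[R] T :=
  Ideal.Quotient.liftₐ _ (MvPolynomial.aeval t) (by
    have : Ideal.span (Set.range P) ≤ RingHom.ker (MvPolynomial.aeval t : _ →ₐ[R] T) := by
      rw [Ideal.span_le]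
      rintro _ ⟨i, rfl⟩
      exact ht i
    exact fun a ha => this ha)

theorem solHom_mk {T : Type u} [CommRing T] [Algebra R T] (t : Fin n → T)
    (ht : ∀ i, MvPolynomial.aeval t (P i) = 0) (p : MvPolynomial (Fin n) R) :
    solHom P t ht (Ideal.Quotient.mk _ p) = MvPolynomial.aeval t p := rfl

theorem hom_mk_eq_aeval {T : Type u} [CommRing T] [Algebra R T]
    (h : (MvPolynomial (Fin n) R ⧸ Ideal.span (Set.range P)) →ₐ[R] T)
    (p : MvPolynomial (Fin n) R) :
    h (Ideal.Quotient.mk _ p) =
      MvPolynomial.aeval (fun j => h (Ideal.Quotient.mk _ (MvPolynomial.X j))) p := by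
  have := MvPolynomial.aeval_unique (h.comp (Ideal.Quotient.mkₐ R (Ideal.span (Set.range P))))
  exact congr($this p)

end Sol

/-- S0517 -/
theorem sol_bijOn (R : Type u) [CommRing R]
    [HenselianLocalRing R] [IsSepClosed (IsLocalRing.ResidueField R)] (S : Type u) [CommRing S]
    [HenselianLocalRing S] (φ : R →+* S) [IsLocalHom φ] (n : ℕ)
    (P : Fin n → MvPolynomial (Fin n) R)
    [Algebra.Etale R (MvPolynomial (Fin n) R ⧸ Ideal.span (Set.range P))] :
    Set.BijOn (fun r : Fin n → R => φ ∘ r)
      {r : Fin n → R | ∀ i, MvPolynomial.eval r (P i) = 0}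
      {s : Fin n → S | ∀ i, MvPolynomial.eval s (MvPolynomial.map φ (P i)) = 0} := by
  letI : Algebra R S := φ.toAlgebra
  have halg : ∀ r, algebraMap R S r = φ r := fun r => rfl
  have hS : Ideal.map (algebraMap R S) (maximalIdeal R) ≠ ⊤ := by
    have h1 : (maximalIdeal R).map φ ≤ maximalIdeal S :=
      ((IsLocalRing.local_hom_TFAE φ).out 0 2).mp ‹IsLocalHom φ›
    intro htop
    have : (maximalIdeal R).map φ = ⊤ := htop
    rw [this, top_le_iff] at h1
    exact (maximalIdeal.isMaximal S).ne_top h1
  have hbij := hom_comp_bijective R (MvPolynomial (Fin n) R ⧸ Ideal.span (Set.range P)) S hS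
  have hevS : ∀ (s : Fin n → S) (p : MvPolynomial (Fin n) R),
      MvPolynomial.eval s (MvPolynomial.map φ p) = MvPolynomial.aeval s p := by
    intro s p
    rw [MvPolynomial.eval_map, MvPolynomial.aeval_def]
    rfl
  have hevR : ∀ (r : Fin n → R) (p : MvPolynomial (Fin n) R),
      MvPolynomial.eval r p = MvPolynomial.aeval r p := by
    intro r p
    rfl
  have hφev : ∀ (r : Fin n → R) (p : MvPolynomial (Fin n) R),
      MvPolynomial.aeval (φ ∘ r) p = φ (MvPolynomial.eval r p) := by
    intro r p
    rw [MvPolynomial.aeval_def, MvPolynomial.eval, MvPolynomial.coe_eval₂Hom,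
      MvPolynomial.eval₂_comp_left φ]
    rfl
  refine ⟨?_, ?_, ?_⟩
  · intro r hr i
    change MvPolynomial.eval (φ ∘ r) (MvPolynomial.map φ (P i)) = 0
    rw [hevS, hφev, hr i, map_zero]
  · intro r hr r' hr' hrr'
    have hr1 : ∀ i, MvPolynomial.aeval r (P i) = 0 := fun i => by rw [← hevR]; exact hr i
    have hr1' : ∀ i, MvPolynomial.aeval r' (P i) = 0 := fun i => by rw [← hevR]; exact hr' i
    have hEq : (Algebra.ofId R S).comp (solHom P r hr1) =
        (Algebra.ofId R S).comp (solHom P r' hr1') := by
      apply Ideal.Quotient.algHom_ext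
      apply MvPolynomial.algHom_ext
      intro j
      change algebraMap R S (solHom P r hr1 (Ideal.Quotient.mk _ (MvPolynomial.X j))) =
        algebraMap R S (solHom P r' hr1' (Ideal.Quotient.mk _ (MvPolynomial.X j)))
      rw [solHom_mk, solHom_mk, MvPolynomial.aeval_X, MvPolynomial.aeval_X, halg, halg]
      exact congrFun hrr' j
    have := hbij.1 hEq
    funext j
    have h2 := congr($this (Ideal.Quotient.mk _ (MvPolynomial.X j)))
    rwa [solHom_mk, solHom_mk, MvPolynomial.aeval_X, MvPolynomial.aeval_X] at h2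
  · intro s hs
    have hs1 : ∀ i, MvPolynomial.aeval s (P i) = 0 := fun i => by rw [← hevS]; exact hs i
    obtain ⟨h, hh⟩ := hbij.2 (solHom P s hs1)
    refine ⟨fun j => h (Ideal.Quotient.mk _ (MvPolynomial.X j)), ?_, ?_⟩
    · intro i
      rw [hevR, ← hom_mk_eq_aeval P h]
      have : Ideal.Quotient.mk (Ideal.span (Set.range P)) (P i) = 0 :=
        Ideal.Quotient.eq_zero_iff_mem.2 (Ideal.subset_span ⟨i, rfl⟩)
      rw [this, map_zero]
    · funext j
      have h2 := congr($hh (Ideal.Quotient.mk _ (MvPolynomial.X j)))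
      rw [solHom_mk, MvPolynomial.aeval_X] at h2
      exact h2

end Groth.Agent.Helper3.HensSol
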