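import Groth.Agent.Helper3.HensSect

/-!
Root lifting ⇒ factorization lifting, via Mathlib's universal factorization ring.
-/

namespace Groth.Agent.Helper3.HensUniv

open Polynomial
open Groth.Agent.Helper3.HensTFAE

universe u

variable {A : Type u} [CommRing A]

theorem factLift_of_hens (I : Ideal A) [hA : HenselianRing A I] : FactLift A I := by
  intro f hf g₀ h₀ hg₀ hh₀ hcop hfgh
  rcases subsingleton_or_nontrivial A with hs | hnt
  · have : Subsingleton (A ⧸ I) := Ideal.Quotient.mk_surjective.subsingleton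
    exact ⟨1, 1, monic_one, monic_one, Subsingleton.elim _ _, Subsingleton.elim _ _,
      Subsingleton.elim _ _⟩
  have hI := hA.jac
  have : Nontrivial (A ⧸ I) := nontrivial_quotient I hI
  have hn : f.natDegree = g₀.natDegree + h₀.natDegree := by
    rw [← hf.natDegree_map (Ideal.Quotient.mk I), hfgh, hg₀.natDegree_mul hh₀]
  let p : MonicDegreeEq A f.natDegree := .mk f hf rfl
  let σ' : UniversalCoprimeFactorizationRing g₀.natDegree h₀.natDegree hn p →ₐ[A] A ⧸ I :=
    (UniversalCoprimeFactorizationRing.homEquiv (A ⧸ I) g₀.natDegree h₀.natDegree hn p).symm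
      ⟨(.mk g₀ hg₀ rfl, .mk h₀ hh₀ rfl), ⟨hfgh.symm, hcop⟩⟩
  obtain ⟨τ, hτ⟩ := HensSect.exists_section I
    (UniversalFactorizationRing.presentation g₀.natDegree h₀.natDegree hn p).jacobian
    (UniversalCoprimeFactorizationRing g₀.natDegree h₀.natDegree hn p) σ'
  set Q := UniversalFactorizationRing.homEquiv A g₀.natDegree h₀.natDegree hn p τ with hQ
  have key : (UniversalCoprimeFactorizationRing.homEquiv (A ⧸ I) g₀.natDegree h₀.natDegree hn p) σ'
      = ⟨(.mk g₀ hg₀ rfl, .mk h₀ hh₀ rfl), ⟨hfgh.symm, hcop⟩⟩ := Equiv.apply_symm_apply _ _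
  -- the ring hom `q ∘ τ` equals `σ' ∘ algebraMap`
  have hcomp : (Ideal.Quotient.mk I).comp (τ : UniversalFactorizationRing g₀.natDegree
      h₀.natDegree hn p →+* A) =
      ((σ'.comp (IsScalarTower.toAlgHom A (UniversalFactorizationRing g₀.natDegree
        h₀.natDegree hn p) (UniversalCoprimeFactorizationRing g₀.natDegree h₀.natDegree hn p)) :
        UniversalFactorizationRing g₀.natDegree h₀.natDegree hn p →ₐ[A] A ⧸ I) :
        UniversalFactorizationRing g₀.natDegree h₀.natDegree hn p →+* A ⧸ I) := by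
    ext x
    exact hτ x
  refine ⟨Q.1.1.1, Q.1.2.1, Q.1.1.monic, Q.1.2.monic, ?_, ?_, ?_⟩
  · have := Q.2
    simpa [p] using this.symm
  · have h1 : Q.1.1.1 = (UniversalFactorizationRing.factor₁ g₀.natDegree h₀.natDegree hn p).1.map
        (τ : UniversalFactorizationRing g₀.natDegree h₀.natDegree hn p →+* A) := rfl
    rw [h1, Polynomial.map_map, hcomp]
    have h2 := congrArg (fun z => z.1.1.1) key
    exact h2
  · have h1 : Q.1.2.1 = (UniversalFactorizationRing.factor₂ g₀.natDegree h₀.natDegree hn p).1.map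
        (τ : UniversalFactorizationRing g₀.natDegree h₀.natDegree hn p →+* A) := rfl
    rw [h1, Polynomial.map_map, hcomp]
    have h2 := congrArg (fun z => z.1.2.1) key
    exact h2

end Groth.Agent.Helper3.HensUniv
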