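import Groth.Agent.Helper3.HensQF4

/-!
S0516: unramified algebras over strictly henselian local rings.
-/

namespace Groth.Agent.Helper3.HensUnram

open Groth.Agent.Helper3.HensGabber IsLocalRing

universe u

/-- A finite local unramified algebra over a local ring with separably closed residue field
is a quotient. -/
theorem surj_of_unram_local (R : Type u) [CommRing R] [IsLocalRing R]
    [IsSepClosed (ResidueField R)] (C : Type u) [CommRing C] [IsLocalRing C] [Algebra R C]
    [Module.Finite R C] [Algebra.FormallyUnramified R C] :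
    Function.Surjective (algebraMap R C) := by
  have hI : maximalIdeal R ≤ Ideal.jacobson ⊥ :=
    le_of_eq (IsLocalRing.jacobson_eq_maximalIdeal ⊥ bot_ne_top).symm
  have hne : (maximalIdeal R).map (algebraMap R C) ≠ ⊤ := by
    intro htop
    have h1 : (⊤ : Submodule R C) ≤ maximalIdeal R • (⊤ : Submodule R C) := by
      rw [Ideal.smul_top_eq_map, htop]
      exact le_refl _
    have h2 := Submodule.eq_bot_of_le_smul_of_le_jacobson_bot (maximalIdeal R) ⊤
      Module.Finite.fg_top h1 hI
    have : (1 : C) ∈ (⊥ : Submodule R C) := h2 ▸ Submodule.mem_top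
    rw [Submodule.mem_bot] at this
    exact one_ne_zero this
  haveI : IsLocalHom (algebraMap R C) := by
    constructor
    intro a ha
    by_contra hnu
    have ham : a ∈ maximalIdeal R := (mem_maximalIdeal _).2 hnu
    apply hne
    exact Ideal.eq_top_of_isUnit_mem _ (Ideal.mem_map_of_mem _ ham) ha
  have hmap : (maximalIdeal R).map (algebraMap R C) = maximalIdeal C :=
    Algebra.FormallyUnramified.map_maximalIdeal
  have hres : Function.Surjective (algebraMap (ResidueField R) (ResidueField C)) :=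
    IsSepClosed.algebraMap_surjective _ _
  have hN : (⊤ : Submodule R C) ≤ LinearMap.range (Algebra.linearMap R C) := by
    refine Submodule.le_of_le_smul_of_le_jacobson_bot Module.Finite.fg_top hI ?_
    intro w _
    obtain ⟨ā, hā⟩ := hres (residue C w)
    obtain ⟨a, rfl⟩ := residue_surjective ā
    have h3 : w - algebraMap R C a ∈ maximalIdeal C := by
      rw [← residue_eq_zero_iff, map_sub, ← hā, sub_eq_zero]
      rfl
    have hw : w = algebraMap R C a + (w - algebraMap R C a) := by ring
    rw [hw]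
    refine Submodule.add_mem _ (Submodule.mem_sup_left ⟨a, rfl⟩) (Submodule.mem_sup_right ?_)
    rw [Ideal.smul_top_eq_map, hmap]
    exact h3
  intro w
  obtain ⟨a, ha⟩ := hN (Submodule.mem_top (x := w))
  exact ⟨a, ha⟩

/-- Splitting a ring along an idempotent, as algebras. -/
theorem exists_algEquiv_prod_of_idem {R S : Type u} [CommRing R] [CommRing S] [Algebra R S]
    (e : S) (he : IsIdempotentElem e) :
    Nonempty (S ≃ₐ[R] (S ⧸ Ideal.span ({1 - e} : Set S)) × (S ⧸ Ideal.span ({e} : Set S))) := by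
  let φ : S →ₐ[R] (S ⧸ Ideal.span ({1 - e} : Set S)) × (S ⧸ Ideal.span ({e} : Set S)) :=
    AlgHom.prod (Ideal.Quotient.mkₐ R _) (Ideal.Quotient.mkₐ R _)
  have hφ : ∀ x, φ x = (Ideal.Quotient.mk _ x, Ideal.Quotient.mk _ x) := fun x => rfl
  refine ⟨AlgEquiv.ofBijective φ ⟨?_, ?_⟩⟩
  · rw [injective_iff_map_eq_zero]
    intro x hx
    rw [hφ, Prod.mk_eq_zero, Ideal.Quotient.eq_zero_iff_mem, Ideal.Quotient.eq_zero_iff_mem,
      Ideal.mem_span_singleton', Ideal.mem_span_singleton'] at hx
    obtain ⟨⟨y, hy⟩, ⟨z, hz⟩⟩ := hx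
    have h1 : e * x = 0 := by
      rw [← hy]
      have := he.eq
      linear_combination (-y) * this
    have h2 : e * x = x := by
      rw [← hz]
      have := he.eq
      linear_combination z * this
    rw [← h2, h1]
  · rintro ⟨a, b⟩
    obtain ⟨a, rfl⟩ := Ideal.Quotient.mk_surjective a
    obtain ⟨b, rfl⟩ := Ideal.Quotient.mk_surjective b
    refine ⟨e * a + (1 - e) * b, ?_⟩
    rw [hφ, Prod.mk.injEq]
    constructor
    · rw [Ideal.Quotient.eq, Ideal.mem_span_singleton']
      exact ⟨b - a, by ring⟩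
    · rw [Ideal.Quotient.eq, Ideal.mem_span_singleton']
      exact ⟨a - b, by ring⟩

/-- Refined S0516: the factors are local rings. -/
theorem unram_split' (R : Type u) [CommRing R]
    [HenselianLocalRing R] [IsSepClosed (IsLocalRing.ResidueField R)] (S : Type u) [CommRing S]
    [Algebra R S] [Algebra.Unramified R S] :
    ∃ (ι : Type u) (_ : Fintype ι) (A : ι → Type u) (_ : ∀ i, CommRing (A i))
      (_ : ∀ i, Algebra R (A i)) (B : Type u) (_ : CommRing B) (_ : Algebra R B),
      (∀ i, IsLocalRing (A i)) ∧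
      (∀ i, Function.Surjective (algebraMap R (A i))) ∧
      Ideal.map (algebraMap R B) (IsLocalRing.maximalIdeal R) = ⊤ ∧
      Nonempty (S ≃ₐ[R] ((∀ i, A i) × B)) := by
  obtain ⟨e, he, hfin, hB⟩ := HensQF.qf_split R S
  obtain ⟨ψ₀⟩ := exists_algEquiv_prod_of_idem (R := R) e he
  obtain ⟨ι, hι, C, hC, hCloc, ⟨φ⟩⟩ :=
    HensProd.finite_pi_of_hens R (S ⧸ Ideal.span ({1 - e} : Set S))
  letI : ∀ i, Algebra R (C i) := fun i =>
    ((Pi.evalRingHom C i).comp
      ((φ : _ →+* (∀ i, C i)).comp (algebraMap R (S ⧸ Ideal.span ({1 - e} : Set S))))).toAlgebra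
  have halg : ∀ i r, algebraMap R (C i) r =
      φ (algebraMap R (S ⧸ Ideal.span ({1 - e} : Set S)) r) i := fun i r => rfl
  let ψ : (S ⧸ Ideal.span ({1 - e} : Set S)) ≃ₐ[R] (∀ i, C i) :=
    { φ with
      commutes' := by
        intro r
        funext i
        exact (halg i r).symm }
  let π : ∀ i, (S ⧸ Ideal.span ({1 - e} : Set S)) →ₐ[R] C i := fun i =>
    (Pi.evalAlgHom R C i).comp (ψ : _ →ₐ[R] (∀ i, C i))
  have hπ : ∀ i, Function.Surjective (π i) := by
    intro i c
    classical
    refine ⟨ψ.symm (Pi.single i c), ?_⟩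
    change (ψ (ψ.symm (Pi.single i c))) i = c
    rw [ψ.apply_symm_apply, Pi.single_eq_same]
  haveI : Algebra.FormallyUnramified R (S ⧸ Ideal.span ({1 - e} : Set S)) :=
    Algebra.FormallyUnramified.of_surjective (Ideal.Quotient.mkₐ R _)
      (Ideal.Quotient.mkₐ_surjective R _)
  refine ⟨ι, hι, C, hC, inferInstance, S ⧸ Ideal.span ({e} : Set S), inferInstance, inferInstance,
    hCloc, ?_, hB, ⟨ψ₀.trans (AlgEquiv.prodCongr ψ AlgEquiv.refl)⟩⟩
  intro i
  haveI := hCloc i
  haveI : Module.Finite R (C i) := Module.Finite.of_surjective (π i).toLinearMap (hπ i)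
  haveI : Algebra.FormallyUnramified R (C i) :=
    Algebra.FormallyUnramified.of_surjective (π i) (hπ i)
  exact surj_of_unram_local R (C i)

/-- S0516 -/
theorem unram_split (R : Type u) [CommRing R]
    [HenselianLocalRing R] [IsSepClosed (IsLocalRing.ResidueField R)] (S : Type u) [CommRing S]
    [Algebra R S] [Algebra.Unramified R S] :
    ∃ (ι : Type u) (_ : Fintype ι) (A : ι → Type u) (_ : ∀ i, CommRing (A i))
      (_ : ∀ i, Algebra R (A i)) (B : Type u) (_ : CommRing B) (_ : Algebra R B),
      (∀ i, Function.Surjective (algebraMap R (A i))) ∧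
      Ideal.map (algebraMap R B) (IsLocalRing.maximalIdeal R) = ⊤ ∧
      Nonempty (S ≃ₐ[R] ((∀ i, A i) × B)) := by
  obtain ⟨ι, hι, A, hA, hAalg, B, hB1, hB2, -, h1, h2, h3⟩ := unram_split' R S
  exact ⟨ι, hι, A, hA, hAalg, B, hB1, hB2, h1, h2, h3⟩

end Groth.Agent.Helper3.HensUnram
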