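import Mathlib
set_option autoImplicit false
set_option linter.style.haveILetI false
set_option linter.unusedSectionVars false
set_option linter.unusedVariables false
set_option linter.style.haveILetI false
set_option linter.unusedSectionVars false
set_option linter.unusedVariables false

universe u
open PowerSeries Matrix

namespace Groth.Agent.Helper3.Hermite

variable {k : Type u} [Field k] {r : ℕ}

/-- row lattice of `M`. -/
noncomputable def Lat (M : Matrix (Fin r) (Fin r) (PowerSeries k)) :
    Submodule (PowerSeries k) (Fin r → PowerSeries k) :=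
  LinearMap.range (Matrix.vecMulLinear M)

/-- vectors vanishing at coordinates `< i`. -/
def Zsub (i : Fin r) : Submodule (PowerSeries k) (Fin r → PowerSeries k) where
  carrier := {v | ∀ j, j < i → v j = 0}
  add_mem' := by
    intro a b ha hb j hj
    simp [ha j hj, hb j hj]
  zero_mem' := by intro j _; rfl
  smul_mem' := by
    intro c a ha j hj
    simp [ha j hj]

lemma mem_Zsub {i : Fin r} {v : Fin r → PowerSeries k} : v ∈ Zsub i ↔ ∀ j, j < i → v j = 0 :=
  Iff.rfl

lemma det_smul_single_mem (M : Matrix (Fin r) (Fin r) (PowerSeries k)) (i : Fin r) :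
    M.det • (Pi.single i 1 : Fin r → PowerSeries k) ∈ Lat M := by
  refine ⟨M.adjugate i, ?_⟩
  rw [Matrix.vecMulLinear_apply]
  have h := Matrix.adjugate_mul M
  have h2 : (M.adjugate * M) i = (M.det • (1 : Matrix (Fin r) (Fin r) (PowerSeries k))) i := by
    rw [h]
  funext j
  have h3 := congrFun h2 j
  rw [Matrix.mul_apply'] at h3
  change M.adjugate i ⬝ᵥ (fun l => M l j) = _
  rw [show (M.adjugate i ⬝ᵥ fun l => M l j) = M.adjugate i ⬝ᵥ (fun l => M l j) from rfl]
  change _ = M.det • (Pi.single i 1 : Fin r → PowerSeries k) j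
  rw [show (M.adjugate i ⬝ᵥ fun l => M l j) = (fun l => M.adjugate i l) ⬝ᵥ fun l => M l j from rfl,
    h3, Matrix.smul_apply, Matrix.one_apply, Pi.single_apply]
  by_cases hij : i = j
  · subst hij; simp
  · simp [hij, Ne.symm hij]

lemma exists_e (M : Matrix (Fin r) (Fin r) (PowerSeries k)) (hM : M.det ≠ 0) (i : Fin r) :
    ∃ e : ℕ, (∃ h ∈ Lat M, (∀ j, j < i → h j = 0) ∧ h i = X ^ e) ∧
      ∀ w ∈ Lat M, (∀ j, j < i → w j = 0) → (X : PowerSeries k) ^ e ∣ w i := by
  let I : Ideal (PowerSeries k) := Submodule.map (LinearMap.proj i) (Lat M ⊓ Zsub i)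
  have hI : I ≠ ⊥ := by
    intro hbot
    have hmem : M.det ∈ I := by
      refine ⟨M.det • (Pi.single i 1 : Fin r → PowerSeries k), ⟨det_smul_single_mem M i, ?_⟩, ?_⟩
      · intro j hj
        simp [Pi.single_apply, hj.ne]
      · simp
    rw [hbot] at hmem
    exact hM hmem
  obtain ⟨e, he⟩ := IsDiscreteValuationRing.ideal_eq_span_pow_irreducible hI
    (PowerSeries.X_prime (R := k)).irreducible
  refine ⟨e, ?_, ?_⟩
  · have : (X : PowerSeries k) ^ e ∈ I := by
      rw [he]; exact Ideal.mem_span_singleton_self _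
    obtain ⟨h, ⟨hL, hZ⟩, hh⟩ := this
    exact ⟨h, hL, hZ, hh⟩
  · intro w hw hz
    have : w i ∈ I := ⟨w, ⟨hw, hz⟩, rfl⟩
    rw [he, Ideal.mem_span_singleton] at this
    exact this


/-- truncation: `φ = X^e * q + (polynomial of degree < e)`. -/
lemma exists_quot (e : ℕ) (φ : PowerSeries k) :
    ∃ q : PowerSeries k, ∀ n, e ≤ n → coeff n (φ - q * X ^ e) = 0 := by
  have h : (X : PowerSeries k) ^ e ∣ φ - (trunc e φ : PowerSeries k) := by
    rw [X_pow_dvd_iff]
    intro m hm
    rw [map_sub, Polynomial.coeff_coe, coeff_trunc, if_pos hm, sub_self]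
  obtain ⟨q, hq⟩ := h
  refine ⟨q, fun n hn => ?_⟩
  have : φ - q * X ^ e = (trunc e φ : PowerSeries k) := by
    rw [mul_comm, ← hq]; ring
  rw [this, Polynomial.coeff_coe, coeff_trunc, if_neg (by omega)]

/-- the data of a triangular family in the lattice. -/
structure Shape (M : Matrix (Fin r) (Fin r) (PowerSeries k)) (e : Fin r → ℕ) (i : Fin r)
    (v : Fin r → PowerSeries k) : Prop where
  mem : v ∈ Lat M
  zero : ∀ j, j < i → v j = 0
  diag : v i = X ^ e i

lemma exists_reduced (M : Matrix (Fin r) (Fin r) (PowerSeries k)) (e : Fin r → ℕ)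
    (h : Fin r → Fin r → PowerSeries k) (hh : ∀ i, Shape M e i (h i)) (i : Fin r) :
    ∀ c : ℕ, ∃ v, Shape M e i v ∧
      ∀ j : Fin r, i < j → (j : ℕ) < c → ∀ n, e j ≤ n → coeff n (v j) = 0 := by
  intro c
  induction c with
  | zero => exact ⟨h i, hh i, fun j _ hj => absurd hj (Nat.not_lt_zero _)⟩
  | succ c ih =>
    obtain ⟨v, hv, hred⟩ := ih
    by_cases hc : c < r
    · by_cases hic : i < ⟨c, hc⟩
      · obtain ⟨q, hq⟩ := exists_quot (e ⟨c, hc⟩) (v ⟨c, hc⟩)
        refine ⟨v - q • h ⟨c, hc⟩, ⟨?_, ?_, ?_⟩, ?_⟩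
        · exact (Lat M).sub_mem hv.mem ((Lat M).smul_mem _ (hh _).mem)
        · intro j hj
          rw [Pi.sub_apply, Pi.smul_apply, hv.zero j hj, (hh ⟨c, hc⟩).zero j (hj.trans hic)]
          simp
        · rw [Pi.sub_apply, Pi.smul_apply, hv.diag, (hh ⟨c, hc⟩).zero i hic]
          simp
        · intro j hij hjc n hn
          rcases Nat.lt_succ_iff_lt_or_eq.mp hjc with hlt | heq
          · rw [Pi.sub_apply, Pi.smul_apply, (hh ⟨c, hc⟩).zero j (by
              rw [Fin.lt_def]; exact hlt)]
            simpa using hred j hij hlt n hn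
          · have hj : j = ⟨c, hc⟩ := Fin.ext heq
            subst hj
            rw [Pi.sub_apply, Pi.smul_apply, (hh _).diag, smul_eq_mul]
            exact hq n hn
      · refine ⟨v, hv, ?_⟩
        intro j hij hjc n hn
        rcases Nat.lt_succ_iff_lt_or_eq.mp hjc with hlt | heq
        · exact hred j hij hlt n hn
        · exact absurd (show i < ⟨c, hc⟩ by rwa [show (⟨c, hc⟩ : Fin r) = j from Fin.ext heq.symm]) hic
    · refine ⟨v, hv, ?_⟩
      intro j hij hjc n hn
      exact hred j hij (by have := j.2; omega) n hn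

lemma mem_span_of_shape (M : Matrix (Fin r) (Fin r) (PowerSeries k)) (e : Fin r → ℕ)
    (hdvd : ∀ i, ∀ w ∈ Lat M, (∀ j, j < i → w j = 0) → (X : PowerSeries k) ^ e i ∣ w i)
    (H : Fin r → Fin r → PowerSeries k) (hH : ∀ i, Shape M e i (H i)) :
    ∀ c : ℕ, ∀ v ∈ Lat M, (∀ j : Fin r, (j : ℕ) + c < r → v j = 0) →
      v ∈ Submodule.span (PowerSeries k) (Set.range H) := by
  intro c
  induction c with
  | zero =>
    intro v _ hv
    have : v = 0 := funext fun j => hv j (by have := j.2; omega)
    rw [this]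
    exact Submodule.zero_mem _
  | succ c ih =>
    intro v hvL hv
    by_cases hc : c < r
    · let i : Fin r := ⟨r - 1 - c, by omega⟩
      have hz : ∀ j, j < i → v j = 0 := by
        intro j hj
        apply hv
        rw [Fin.lt_def] at hj
        simp only [i] at hj
        omega
      obtain ⟨q, hq⟩ := hdvd i v hvL hz
      have hmem : v - q • H i ∈ Submodule.span (PowerSeries k) (Set.range H) := by
        apply ih _ ((Lat M).sub_mem hvL ((Lat M).smul_mem _ (hH i).mem))
        intro j hj
        rw [Pi.sub_apply, Pi.smul_apply]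
        by_cases hji : j = i
        · rw [hji, (hH i).diag, hq, smul_eq_mul]; ring
        · have hlt : j < i := by
            rw [Fin.lt_def]
            have : (j : ℕ) ≠ i := fun h => hji (Fin.ext h)
            simp only [i] at this ⊢
            omega
          rw [hz j hlt, (hH i).zero j hlt]
          simp
      have : v = (v - q • H i) + q • H i := by abel
      rw [this]
      exact Submodule.add_mem _ hmem (Submodule.smul_mem _ _ (Submodule.subset_span ⟨i, rfl⟩))
    · exact ih v hvL (fun j hj => absurd hj (by have := j.2; omega))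


theorem exists_form (M : Matrix (Fin r) (Fin r) (PowerSeries k)) (hM : M.det ≠ 0) :
    ∃ H : Matrix (Fin r) (Fin r) (PowerSeries k),
      (∃ e : Fin r → ℕ, (∀ i, H i i = X ^ e i) ∧ (∀ i j, j < i → H i j = 0) ∧
        (∀ i j, i < j → ∀ n, e j ≤ n → coeff n (H i j) = 0)) ∧
      ∃ N : Matrix (Fin r) (Fin r) (PowerSeries k), IsUnit N ∧ N * M = H := by
  choose e he using exists_e M hM
  choose h hh using fun i => (he i).1
  have hsh : ∀ i, Shape M e i (h i) := fun i => ⟨(hh i).1, (hh i).2.1, (hh i).2.2⟩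
  choose H hH hHred using fun i => exists_reduced M e h hsh i r
  choose N hN using fun i => (hH i).mem
  have hrow : ∀ i, M i ∈ Submodule.span (PowerSeries k) (Set.range H) := by
    intro i
    apply mem_span_of_shape M e (fun i => (he i).2) H hH r
    · refine ⟨Pi.single i 1, ?_⟩
      rw [Matrix.vecMulLinear_apply, Matrix.single_one_vecMul]
      rfl
    · intro j hj
      exact absurd hj (by omega)
  choose C hC using fun i => (Submodule.mem_span_range_iff_exists_fun _).mp (hrow i)
  have hNM : (Matrix.of N) * M = Matrix.of H := by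
    apply Matrix.ext
    intro i j
    have := congrFun (hN i) j
    rw [Matrix.vecMulLinear_apply] at this
    rw [Matrix.mul_apply_eq_vecMul]
    exact this
  have hCH : (Matrix.of C) * (Matrix.of H) = M := by
    apply Matrix.ext
    intro i j
    have := congrFun (hC i) j
    rw [Matrix.mul_apply, ← this, Finset.sum_apply]
    rfl
  refine ⟨Matrix.of H, ⟨e, fun i => (hH i).diag, fun i j hj => (hH i).zero j hj,
    fun i j hij n hn => hHred i j hij j.2 n hn⟩, Matrix.of N, ?_, hNM⟩
  rw [Matrix.isUnit_iff_isUnit_det]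
  have hdet : (Matrix.of C).det * (Matrix.of N).det * M.det = M.det := by
    rw [mul_assoc, ← Matrix.det_mul, ← Matrix.det_mul, hNM, hCH]
  have h1 : (Matrix.of C).det * (Matrix.of N).det = 1 := by
    have : ((Matrix.of C).det * (Matrix.of N).det - 1) * M.det = 0 := by
      rw [sub_mul, hdet, one_mul, sub_self]
    rcases mul_eq_zero.mp this with h | h
    · exact sub_eq_zero.mp h
    · exact absurd h hM
  exact IsUnit.of_mul_eq_one _ (by rw [mul_comm]; exact h1)


section Uniq

variable {H H' U : Matrix (Fin r) (Fin r) (PowerSeries k)} {e e' : Fin r → ℕ}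

/-- U1: `U` is upper triangular. -/
lemma U_lower_zero (hU : U * H = H') (hd : ∀ i, H i i = X ^ e i) (hz : ∀ i j, j < i → H i j = 0)
    (hz' : ∀ i j, j < i → H' i j = 0) (i : Fin r) :
    ∀ c : ℕ, ∀ j : Fin r, (j : ℕ) < c → j < i → U i j = 0 := by
  intro c
  induction c with
  | zero => intro j hj; exact absurd hj (Nat.not_lt_zero _)
  | succ c ih =>
    intro j hjc hji
    rcases Nat.lt_succ_iff_lt_or_eq.mp hjc with hlt | heq
    · exact ih j hlt hji
    · have h1 : (U * H) i j = U i j * H j j := by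
        rw [Matrix.mul_apply]
        apply Finset.sum_eq_single j
        · intro l _ hlj
          rcases lt_or_gt_of_ne hlj with hl | hl
          · rw [ih l (by rw [Fin.lt_def] at hl; omega) (hl.trans hji), zero_mul]
          · rw [hz l j hl, mul_zero]
        · intro h; exact absurd (Finset.mem_univ j) h
      rw [hU, hz' i j hji, hd j] at h1
      rcases mul_eq_zero.mp h1.symm with h | h
      · exact h
      · exact absurd h (pow_ne_zero _ X_ne_zero)

lemma U_diag (hU : U * H = H') (hz : ∀ i j, j < i → H i j = 0)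
    (hUz : ∀ i j, j < i → U i j = 0) (i : Fin r) : H' i i = U i i * H i i := by
  rw [← hU, Matrix.mul_apply]
  apply Finset.sum_eq_single i
  · intro l _ hli
    rcases lt_or_gt_of_ne hli with hl | hl
    · rw [hUz i l hl, zero_mul]
    · rw [hz l i hl, mul_zero]
  · intro h; exact absurd (Finset.mem_univ i) h

lemma U_upper_zero (hU : U * H = H') (hd : ∀ i, H i i = X ^ e i) (hz : ∀ i j, j < i → H i j = 0)
    (hred : ∀ i j, i < j → ∀ n, e j ≤ n → coeff n (H i j) = 0)
    (hred' : ∀ i j, i < j → ∀ n, e j ≤ n → coeff n (H' i j) = 0)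
    (hUz : ∀ i j, j < i → U i j = 0) (hU1 : ∀ i, U i i = 1) (i : Fin r) :
    ∀ c : ℕ, ∀ j : Fin r, (j : ℕ) < c → i < j → U i j = 0 := by
  intro c
  induction c with
  | zero => intro j hj; exact absurd hj (Nat.not_lt_zero _)
  | succ c ih =>
    intro j hjc hij
    rcases Nat.lt_succ_iff_lt_or_eq.mp hjc with hlt | heq
    · exact ih j hlt hij
    · have h1 : (U * H) i j = U i i * H i j + U i j * H j j := by
        rw [Matrix.mul_apply]
        apply Finset.sum_eq_add i j hij.ne
        · intro l _ hl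
          rcases lt_or_gt_of_ne hl.1 with hli | hli
          · rw [hUz i l hli, zero_mul]
          · rcases lt_or_gt_of_ne hl.2 with hlj | hlj
            · rw [ih l (by rw [Fin.lt_def] at hlj; omega) hli, zero_mul]
            · rw [hz l j hlj, mul_zero]
        · intro h; exact absurd (Finset.mem_univ i) h
        · intro h; exact absurd (Finset.mem_univ j) h
      rw [hU, hU1, one_mul, hd j] at h1
      have h2 : U i j * X ^ e j = 0 := by
        ext n
        rw [map_zero]
        by_cases hn : e j ≤ n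
        · have : U i j * X ^ e j = H' i j - H i j := by rw [h1]; ring
          rw [this, map_sub, hred' i j hij n hn, hred i j hij n hn, sub_zero]
        · rw [coeff_mul_X_pow', if_neg hn]
      rcases mul_eq_zero.mp h2 with h | h
      · exact h
      · exact absurd h (pow_ne_zero _ X_ne_zero)

theorem eq_of_unit_mul (hUu : IsUnit U) (hU : U * H = H')
    (hd : ∀ i, H i i = X ^ e i) (hz : ∀ i j, j < i → H i j = 0)
    (hred : ∀ i j, i < j → ∀ n, e j ≤ n → coeff n (H i j) = 0)
    (hd' : ∀ i, H' i i = X ^ e' i) (hz' : ∀ i j, j < i → H' i j = 0)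
    (hred' : ∀ i j, i < j → ∀ n, e' j ≤ n → coeff n (H' i j) = 0) : H = H' := by
  have hUz : ∀ i j, j < i → U i j = 0 := fun i j hji =>
    U_lower_zero hU hd hz hz' i r j j.2 hji
  have hdet : U.det = ∏ i, U i i :=
    Matrix.det_of_isUpperTriangular (fun i j (hji : j < i) => hUz i j hji)
  have hunit : ∀ i, IsUnit (U i i) := by
    intro i
    have h1 : IsUnit U.det := (Matrix.isUnit_iff_isUnit_det U).mp hUu
    rw [hdet] at h1
    exact isUnit_of_dvd_unit (Finset.dvd_prod_of_mem (fun i => U i i) (Finset.mem_univ i)) h1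
  have hdiag : ∀ i, X ^ e' i = U i i * X ^ e i := by
    intro i
    rw [← hd', ← hd]
    exact U_diag hU hz hUz i
  have hee : ∀ i, e' i = e i := by
    intro i
    have h1 := congrArg PowerSeries.order (hdiag i)
    rw [order_mul, order_X_pow, order_X_pow, order_zero_of_unit (hunit i), zero_add] at h1
    exact_mod_cast h1
  have hU1 : ∀ i, U i i = 1 := by
    intro i
    have h1 := hdiag i
    rw [hee i] at h1
    have h2 : (U i i - 1) * X ^ e i = 0 := by rw [sub_mul, ← h1, one_mul, sub_self]
    rcases mul_eq_zero.mp h2 with h | h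
    · exact sub_eq_zero.mp h
    · exact absurd h (pow_ne_zero _ X_ne_zero)
  have hred'' : ∀ i j, i < j → ∀ n, e j ≤ n → coeff n (H' i j) = 0 := by
    intro i j hij n hn
    exact hred' i j hij n (by rw [hee j]; exact hn)
  have hUone : U = 1 := by
    apply Matrix.ext
    intro i j
    rcases lt_trichotomy i j with h | h | h
    · rw [U_upper_zero hU hd hz hred hred'' hUz hU1 i r j j.2 h, Matrix.one_apply_ne h.ne]
    · rw [h, hU1, Matrix.one_apply_eq]
    · rw [hUz i j h, Matrix.one_apply_ne h.ne']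
  rw [← hU, hUone, one_mul]

end Uniq

theorem main (k : Type u) [Field k] (r : ℕ)
    (M : Matrix (Fin r) (Fin r) (PowerSeries k)) (hM : M.det ≠ 0) :
    ∃! H : Matrix (Fin r) (Fin r) (PowerSeries k),
      (∃ e : Fin r → ℕ, (∀ i, H i i = PowerSeries.X ^ e i) ∧ (∀ i j, j < i → H i j = 0) ∧
        (∀ i j, i < j → ∀ n, e j ≤ n → PowerSeries.coeff n (H i j) = 0)) ∧
      ∃ N : Matrix (Fin r) (Fin r) (PowerSeries k), IsUnit N ∧ N * M = H := by
  obtain ⟨H, hH, N, hN, hNM⟩ := exists_form M hM
  refine ⟨H, ⟨hH, N, hN, hNM⟩, ?_⟩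
  rintro H' ⟨⟨e', hd', hz', hred'⟩, N', hN', hNM'⟩
  obtain ⟨e, hd, hz, hred⟩ := hH
  obtain ⟨Nu, rfl⟩ := hN
  obtain ⟨Nu', rfl⟩ := hN'
  symm
  have hU : ((Nu' * Nu⁻¹ : (Matrix (Fin r) (Fin r) (PowerSeries k))ˣ) :
      Matrix (Fin r) (Fin r) (PowerSeries k)) * H = H' := by
    rw [← hNM, ← hNM', Units.val_mul, mul_assoc, Units.inv_mul_cancel_left]
  exact eq_of_unit_mul (Units.isUnit _) hU hd hz hred hd' hz' hred'

end Groth.Agent.Helper3.Hermite
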