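import Mathlib
import Groth.Agent.Helper3.Hermite
set_option autoImplicit false
set_option linter.style.haveILetI false
set_option linter.unusedSectionVars false
set_option linter.unusedVariables false
set_option linter.style.haveILetI false
set_option linter.unusedSectionVars false
set_option linter.unusedVariables false

universe u
open PowerSeries Matrix

namespace Groth.Agent.Helper3.Hermite2

variable {k : Type u} [Field k] {r : ℕ} (p : ℕ)

/-- power series in `t^p`. -/
def InSub (φ : PowerSeries k) : Prop := ∀ n, ¬ p ∣ n → coeff n φ = 0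

lemma inSub_zero : InSub p (0 : PowerSeries k) := fun n _ => by simp
lemma inSub_one : InSub p (1 : PowerSeries k) := by
  intro n hn
  rw [coeff_one, if_neg]
  rintro rfl
  exact hn (dvd_zero _)
lemma inSub_add {φ ψ : PowerSeries k} (h1 : InSub p φ) (h2 : InSub p ψ) : InSub p (φ + ψ) := by
  intro n hn
  rw [map_add, h1 n hn, h2 n hn, add_zero]
lemma inSub_neg {φ : PowerSeries k} (h1 : InSub p φ) : InSub p (-φ) := by
  intro n hn
  rw [map_neg, h1 n hn, neg_zero]
lemma inSub_mul {φ ψ : PowerSeries k} (h1 : InSub p φ) (h2 : InSub p ψ) : InSub p (φ * ψ) := by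
  intro n hn
  rw [coeff_mul]
  apply Finset.sum_eq_zero
  intro x hx
  rw [Finset.HasAntidiagonal.mem_antidiagonal] at hx
  by_cases ha : p ∣ x.1
  · have hb : ¬ p ∣ x.2 := fun hb => hn (hx ▸ dvd_add ha hb)
    rw [h2 _ hb, mul_zero]
  · rw [h1 _ ha, zero_mul]
lemma inSub_sum {ι : Type*} (s : Finset ι) (f : ι → PowerSeries k) (h : ∀ i ∈ s, InSub p (f i)) :
    InSub p (∑ i ∈ s, f i) := by
  intro n hn
  rw [map_sum]
  exact Finset.sum_eq_zero fun i hi => h i hi n hn

lemma inSub_matrix_mul {P Q : Matrix (Fin r) (Fin r) (PowerSeries k)}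
    (hP : ∀ a b, InSub p (P a b)) (hQ : ∀ a b, InSub p (Q a b)) : ∀ a b, InSub p ((P * Q) a b) := by
  intro a b
  rw [Matrix.mul_apply]
  exact inSub_sum p _ _ fun l _ => inSub_mul p (hP a l) (hQ l b)

lemma inSub_transvection {i j : Fin r} {s : PowerSeries k} (hs : InSub p s) :
    ∀ a b, InSub p (Matrix.transvection i j s a b) := by
  intro a b
  rw [Matrix.transvection, Matrix.add_apply, Matrix.one_apply, Matrix.single_apply]
  apply inSub_add
  · split_ifs
    · exact inSub_one p
    · exact inSub_zero p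
  · split_ifs
    · exact hs
    · exact inSub_zero p

/-- the shape predicate -/
def Sh (e : Fin r → ℕ) (H : Matrix (Fin r) (Fin r) (PowerSeries k)) : Prop :=
  (∀ i, H i i = X ^ e i) ∧ (∀ i j, j < i → H i j = 0) ∧
    (∀ i j, i < j → ∀ n, e j ≤ n → coeff n (H i j) = 0)

/-- the cleanliness predicate -/
def Cl (e : Fin r → ℕ) (H : Matrix (Fin r) (Fin r) (PowerSeries k)) (i j : Fin r) : Prop :=
  ∀ n, e i ≤ n → n % p = e i % p → coeff n (H i j) = 0


lemma step (e : Fin r → ℕ) (H : Matrix (Fin r) (Fin r) (PowerSeries k)) (hH : Sh e H)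
    (i j : Fin r) (hij : i < j) :
    ∃ s : PowerSeries k, InSub p s ∧ Sh e (H * Matrix.transvection i j s) ∧
      Cl p e (H * Matrix.transvection i j s) i j ∧
      (∀ l m, m ≠ j → (H * Matrix.transvection i j s) l m = H l m) ∧
      (∀ l, i < l → (H * Matrix.transvection i j s) l j = H l j) := by
  obtain ⟨hd, hz, hu⟩ := hH
  set φ := H i j with hφ
  let s0 : PowerSeries k := PowerSeries.mk fun m => if p ∣ m then coeff (e i + m) φ else 0
  have hs0 : ∀ m, coeff m s0 = if p ∣ m then coeff (e i + m) φ else 0 := fun m => coeff_mk _ _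
  have hs0sub : InSub p s0 := by
    intro n hn
    rw [hs0, if_neg hn]
  have hs0big : ∀ m, e j ≤ e i + m → coeff m s0 = 0 := by
    intro m hm
    rw [hs0]
    split_ifs
    · exact hu i j hij _ hm
    · rfl
  have hj : ∀ a, (H * Matrix.transvection i j (-s0)) a j = H a j + (-s0) * H a i :=
    fun a => Matrix.mul_transvection_apply_same i j a (-s0) H
  have hne : ∀ a b, b ≠ j → (H * Matrix.transvection i j (-s0)) a b = H a b :=
    fun a b hb => Matrix.mul_transvection_apply_of_ne i j a b hb (-s0) H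
  refine ⟨-s0, inSub_neg p hs0sub, ⟨?_, ?_, ?_⟩, ?_, hne, ?_⟩
  · intro a
    by_cases ha : a = j
    · subst ha
      rw [hj, hz a i hij, mul_zero, add_zero, hd]
    · rw [hne a a ha, hd]
  · intro a b hba
    by_cases hb : b = j
    · subst hb
      rw [hj, hz a b hba, hz a i (hij.trans hba), mul_zero, add_zero]
    · rw [hne a b hb, hz a b hba]
  · intro a b hab n hn
    by_cases hb : b = j
    · subst hb
      rw [hj, map_add, hu a b hab n hn, zero_add, neg_mul, map_neg, neg_eq_zero]
      rcases lt_trichotomy a i with hai | hai | hai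
      · rw [coeff_mul]
        apply Finset.sum_eq_zero
        intro x hx
        rw [Finset.HasAntidiagonal.mem_antidiagonal] at hx
        by_cases hy : e i ≤ x.2
        · rw [hu a i hai _ hy, mul_zero]
        · rw [hs0big x.1 (by omega), zero_mul]
      · subst hai
        rw [hd, coeff_mul_X_pow']
        split_ifs with h
        · exact hs0big _ (by omega)
        · rfl
      · rw [hz a i hai, mul_zero, map_zero]
    · rw [hne a b hb]
      exact hu a b hab n hn
  · intro n hn hmod
    rw [hj, hd, map_add, neg_mul, map_neg, coeff_mul_X_pow', if_pos hn, hs0]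
    have hdvd : p ∣ n - e i := (Nat.modEq_iff_dvd' hn).mp hmod.symm
    rw [if_pos hdvd, show e i + (n - e i) = n by omega, ← hφ, add_neg_cancel]
  · intro l hl
    rw [hj, hz l i hl, mul_zero, add_zero]


lemma inner (e : Fin r → ℕ) (H : Matrix (Fin r) (Fin r) (PowerSeries k)) (hH : Sh e H)
    (j : Fin r) : ∀ c : ℕ, ∃ P : Matrix (Fin r) (Fin r) (PowerSeries k),
      IsUnit P ∧ (∀ a b, InSub p (P a b)) ∧ Sh e (H * P) ∧
      (∀ l m, m ≠ j → (H * P) l m = H l m) ∧
      ∀ i : Fin r, i < j → (j : ℕ) ≤ i + c → Cl p e (H * P) i j := by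
  intro c
  induction c with
  | zero =>
    refine ⟨1, isUnit_one, ?_, by rwa [mul_one], fun l m _ => by rw [mul_one], ?_⟩
    · intro a b
      rw [Matrix.one_apply]
      split_ifs
      · exact inSub_one p
      · exact inSub_zero p
    · intro i hij hji
      rw [Fin.lt_def] at hij
      omega
  | succ c ih =>
    obtain ⟨P, hPu, hPs, hSh, hcol, hcl⟩ := ih
    by_cases hc : c + 1 ≤ (j : ℕ)
    · let i : Fin r := ⟨(j : ℕ) - (c + 1), by have := j.2; omega⟩
      have hij : i < j := by
        rw [Fin.lt_def]; simp only [i]; omega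
      obtain ⟨s, hs, hSh', hcl', hne', hgt'⟩ := step p e (H * P) hSh i j hij
      refine ⟨P * Matrix.transvection i j s, ?_, ?_, ?_, ?_, ?_⟩
      · rw [Matrix.isUnit_iff_isUnit_det, Matrix.det_mul, Matrix.det_transvection_of_ne _ _ hij.ne,
          mul_one]
        exact (Matrix.isUnit_iff_isUnit_det P).mp hPu
      · exact inSub_matrix_mul p hPs (inSub_transvection p hs)
      · rw [← Matrix.mul_assoc]; exact hSh'
      · intro l m hm
        rw [← Matrix.mul_assoc, hne' l m hm, hcol l m hm]
      · intro i' hi'j hji'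
        rw [← Matrix.mul_assoc]
        by_cases hi' : i' = i
        · rw [hi']; exact hcl'
        · have hlt : i < i' := by
            rw [Fin.lt_def]
            have : (i' : ℕ) ≠ i := fun h => hi' (Fin.ext h)
            simp only [i] at this ⊢
            omega
          have hc' : (j : ℕ) ≤ i' + c := by
            rw [Fin.lt_def] at hlt
            simp only [i] at hlt
            omega
          intro n hn hmod
          rw [hgt' i' hlt]
          exact hcl i' hi'j hc' n hn hmod
    · refine ⟨P, hPu, hPs, hSh, hcol, ?_⟩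
      intro i' hi'j _
      exact hcl i' hi'j (by omega)

lemma outer (e : Fin r → ℕ) (H : Matrix (Fin r) (Fin r) (PowerSeries k)) (hH : Sh e H) :
    ∀ c : ℕ, ∃ P : Matrix (Fin r) (Fin r) (PowerSeries k),
      IsUnit P ∧ (∀ a b, InSub p (P a b)) ∧ Sh e (H * P) ∧
      ∀ j : Fin r, (j : ℕ) < c → ∀ i : Fin r, i < j → Cl p e (H * P) i j := by
  intro c
  induction c with
  | zero =>
    refine ⟨1, isUnit_one, ?_, by rwa [mul_one], fun j hj => absurd hj (Nat.not_lt_zero _)⟩
    intro a b
    rw [Matrix.one_apply]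
    split_ifs
    · exact inSub_one p
    · exact inSub_zero p
  | succ c ih =>
    obtain ⟨P, hPu, hPs, hSh, hcl⟩ := ih
    by_cases hc : c < r
    · obtain ⟨P₂, hP₂u, hP₂s, hSh₂, hcol₂, hcl₂⟩ := inner p e (H * P) hSh ⟨c, hc⟩ c
      refine ⟨P * P₂, hPu.mul hP₂u, inSub_matrix_mul p hPs hP₂s, ?_, ?_⟩
      · rw [← Matrix.mul_assoc]; exact hSh₂
      · intro j hj i hij
        rw [← Matrix.mul_assoc]
        rcases Nat.lt_succ_iff_lt_or_eq.mp hj with hlt | heq
        · intro n hn hmod
          rw [hcol₂ i j (fun h => by rw [h] at hlt; exact absurd hlt (lt_irrefl _))]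
          exact hcl j hlt i hij n hn hmod
        · have hjc : j = ⟨c, hc⟩ := Fin.ext heq
          rw [hjc]
          apply hcl₂ i (hjc ▸ hij)
          simp
    · refine ⟨P, hPu, hPs, hSh, ?_⟩
      intro j hj i hij
      exact hcl j (by have := j.2; omega) i hij

theorem main (k : Type u)
    [Field k] (p : ℕ) [Fact p.Prime] (r : ℕ) (M : Matrix (Fin r) (Fin r) (PowerSeries k))
    (hM : M.det ≠ 0) :
    ∃ (N P : Matrix (Fin r) (Fin r) (PowerSeries k)) (e : Fin r → ℕ), IsUnit N ∧ IsUnit P ∧
      (∀ i j n, ¬ p ∣ n → PowerSeries.coeff n (P i j) = 0) ∧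
      (∀ i, (N * M * P) i i = PowerSeries.X ^ e i) ∧ (∀ i j, j < i → (N * M * P) i j = 0) ∧
      (∀ i j, i < j → ∀ n, (e j ≤ n ∨ (e i ≤ n ∧ n % p = e i % p)) →
        PowerSeries.coeff n ((N * M * P) i j) = 0) := by
  obtain ⟨H, ⟨e, hd, hz, hu⟩, N, hN, hNM⟩ := Groth.Agent.Helper3.Hermite.exists_form M hM
  obtain ⟨P, hPu, hPs, ⟨hd', hz', hu'⟩, hcl⟩ := outer p e H ⟨hd, hz, hu⟩ r
  refine ⟨N, P, e, hN, hPu, hPs, ?_, ?_, ?_⟩
  · rw [hNM]; exact hd'
  · rw [hNM]; exact hz'
  · rw [hNM]
    intro i j hij n hn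
    rcases hn with hn | ⟨hn, hmod⟩
    · exact hu' i j hij n hn
    · exact hcl j j.2 i hij n hn hmod

end Groth.Agent.Helper3.Hermite2
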