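import Mathlib

/-! # A patch-topology criterion for spectral spaces -/

set_option autoImplicit false
universe u

namespace Groth.Agent.Helper3.Hochster

open Topology TopologicalSpace

variable {X : Type u}

/-- If `τ ≤ t`, then `τ`-compact sets are `t`-compact. -/
theorem isCompact_of_le {t τ : TopologicalSpace X} (hle : τ ≤ t) {s : Set X}
    (hs : @IsCompact X τ s) : @IsCompact X t s := by
  have h4 := @IsCompact.image X X τ t s id hs (continuous_id_of_le hle)
  simpa using h4

theorem isClosed_of_le {t τ : TopologicalSpace X} (hle : τ ≤ t) {s : Set X}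
    (hs : @IsClosed X t s) : @IsClosed X τ s := by
  rw [← @isOpen_compl_iff X s τ]
  exact (TopologicalSpace.le_def.mp hle) _ ((@isOpen_compl_iff X s t).mpr hs)

/-- **Hochster-type criterion.** A T0 space with a basis of sets which are clopen for a finer
compact topology is spectral. -/
theorem spectralSpace_of_patch (τ : TopologicalSpace X) [t : TopologicalSpace X] [T0Space X]
    (hτ : @CompactSpace X τ)
    (B : Set (Set X)) (hB : IsTopologicalBasis B)
    (hBo : ∀ b ∈ B, @IsOpen X τ b) (hBc : ∀ b ∈ B, @IsClosed X τ b) : SpectralSpace X := by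
  classical
  have hle : τ ≤ t := by
    rw [TopologicalSpace.le_def]
    intro s hs
    obtain ⟨S, hS, rfl⟩ := hB.open_eq_sUnion hs
    exact @isOpen_sUnion _ τ _ fun b hb => hBo b (hS hb)
  have hcomp : ∀ s : Set X, @IsClosed X τ s → IsCompact s := fun s hs =>
    isCompact_of_le hle (@IsClosed.isCompact X τ _ hτ hs)
  have : CompactSpace X := isCompact_univ_iff.mp (hcomp _ (@isClosed_univ X τ))
  have : PrespectralSpace X :=
    PrespectralSpace.of_isTopologicalBasis hB (fun b hb => hcomp b (hBc b hb))
  have : QuasiSeparatedSpace X := by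
    refine QuasiSeparatedSpace.of_isTopologicalBasis (b := fun b : B => (b : Set X)) ?_ ?_
    · rw [Subtype.range_coe]; exact hB
    · intro b b'
      exact hcomp _ (@IsClosed.inter X _ _ τ (hBc b b.2) (hBc b' b'.2))
  have : QuasiSober X := by
    refine ⟨fun {T} hT hTc => ?_⟩
    let ι := Option {b : Set X // b ∈ B ∧ (T ∩ b).Nonempty}
    let f : ι → Set X := fun o => match o with
      | none => T
      | some b => b.1
    have hf : ∀ o, @IsClosed X τ (f o) := by
      intro o
      cases o with
      | none => exact isClosed_of_le hle hTc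
      | some b => exact hBc b.1 b.2.1
    have hfin : ∀ u : Finset ι, (Set.univ ∩ ⋂ i ∈ u, f i).Nonempty := by
      intro u
      have h1 := (isIrreducible_iff_sInter.mp hT)
        ((u.preimage some (Option.some_injective _).injOn).image (fun b => b.1))
        (by
          intro s hs
          obtain ⟨b, -, rfl⟩ := Finset.mem_image.mp hs
          exact hB.isOpen b.2.1)
        (by
          intro s hs
          obtain ⟨b, -, rfl⟩ := Finset.mem_image.mp hs
          exact b.2.2)
      obtain ⟨x, hxT, hx⟩ := h1
      refine ⟨x, Set.mem_univ _, Set.mem_iInter₂.mpr fun o ho => ?_⟩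
      cases o with
      | none => exact hxT
      | some b =>
        apply Set.mem_sInter.mp hx
        exact Finset.mem_coe.mpr (Finset.mem_image.mpr ⟨b, Finset.mem_preimage.mpr ho, rfl⟩)
    have hne := @IsCompact.inter_iInter_nonempty X τ Set.univ ι
      ((@isCompact_univ_iff X τ).mpr hτ) f hf hfin
    obtain ⟨η, -, hη⟩ := hne
    have hη' : ∀ o, η ∈ f o := fun o => Set.mem_iInter.mp hη o
    refine ⟨η, ?_⟩
    rw [isGenericPoint_def]
    apply le_antisymm
    · exact closure_minimal (Set.singleton_subset_iff.mpr (hη' none)) hTc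
    · intro x hxT
      rw [hB.mem_closure_iff]
      intro o ho hxo
      exact ⟨η, hη' (some ⟨o, ho, ⟨x, hxT, hxo⟩⟩), rfl⟩
  exact { }

end Groth.Agent.Helper3.Hochster
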