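import Mathlib

/-!
Helper: for a homological functor `H : D ⥤ A`, the objects `X` with `H (X⟦n⟧) = 0` for all `n`
in a "tail" `S N` form a triangulated, isomorphism-closed and saturated object property.
-/

open CategoryTheory CategoryTheory.Limits CategoryTheory.Pretriangulated ZeroObject

namespace Groth.Agent.Helper3

universe v u v' u'

variable {D : Type u} [Category.{v} D] [Preadditive D] [HasZeroObject D] [HasShift D ℤ]
  [∀ n : ℤ, (shiftFunctor D n).Additive] [Pretriangulated D]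
  {A : Type u'} [Category.{v'} A] [Abelian A] (H : D ⥤ A) [H.IsHomological]

/-- objects on which `H` vanishes on the tail of shifts `S N` for some `N`. -/
def vanishTail (S : ℤ → ℤ → Prop) : ObjectProperty D :=
  fun X => ∃ N : ℤ, ∀ n : ℤ, S N n → IsZero (H.obj ((shiftFunctor D n).obj X))

variable (S : ℤ → ℤ → Prop)

instance vanishTail_isClosedUnderIsomorphisms : (vanishTail H S).IsClosedUnderIsomorphisms where
  of_iso e hX := by
    obtain ⟨N, hN⟩ := hX
    exact ⟨N, fun n hn => (hN n hn).of_iso ((shiftFunctor D n ⋙ H).mapIso e.symm)⟩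

theorem vanishTail_isTriangulated
    (hshift : ∀ N a : ℤ, ∃ N' : ℤ, ∀ n, S N' n → S N (a + n))
    (hdir : ∀ N₁ N₃ : ℤ, ∃ N : ℤ, ∀ n, S N n → S N₁ n ∧ S N₃ n) :
    (vanishTail H S).IsTriangulated where
  exists_zero := ⟨0, isZero_zero D,
    ⟨0, fun n _ => (shiftFunctor D n ⋙ H).map_isZero (isZero_zero D)⟩⟩
  toIsStableUnderShift := ⟨fun a => ⟨fun X hX => by
    obtain ⟨N, hN⟩ := hX
    obtain ⟨N', hN'⟩ := hshift N a
    exact ⟨N', fun b hb =>
      (hN (a + b) (hN' b hb)).of_iso (H.mapIso ((shiftFunctorAdd D a b).app X).symm)⟩⟩⟩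
  toIsTriangulatedClosed₂ :=
    ObjectProperty.IsTriangulatedClosed₂.mk' (fun T hT h₁ h₃ => by
      obtain ⟨N₁, hN₁⟩ := h₁
      obtain ⟨N₃, hN₃⟩ := h₃
      obtain ⟨N, hN⟩ := hdir N₁ N₃
      exact ⟨N, fun n hn =>
        (H.map_distinguished_exact _
          (Triangle.shift_distinguished T hT n)).isZero_of_both_zeros
            ((hN₁ n (hN n hn).1).eq_of_src _ _) ((hN₃ n (hN n hn).2).eq_of_tgt _ _)⟩)

omit [H.IsHomological] in
theorem vanishTail_saturated (X Y : D) (h : vanishTail H S (X ⊞ Y)) :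
    vanishTail H S X ∧ vanishTail H S Y := by
  obtain ⟨N, hN⟩ := h
  refine ⟨⟨N, fun n hn => ?_⟩, ⟨N, fun n hn => ?_⟩⟩
  · have hz := hN n hn
    change IsZero ((shiftFunctor D n ⋙ H).obj X)
    rw [IsZero.iff_id_eq_zero, ← (shiftFunctor D n ⋙ H).map_id,
      ← biprod.inl_fst (X := X) (Y := Y), (shiftFunctor D n ⋙ H).map_comp,
      hz.eq_of_tgt ((shiftFunctor D n ⋙ H).map biprod.inl) 0, zero_comp]
  · have hz := hN n hn
    change IsZero ((shiftFunctor D n ⋙ H).obj Y)
    rw [IsZero.iff_id_eq_zero, ← (shiftFunctor D n ⋙ H).map_id,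
      ← biprod.inr_snd (X := X) (Y := Y), (shiftFunctor D n ⋙ H).map_comp,
      hz.eq_of_tgt ((shiftFunctor D n ⋙ H).map biprod.inr) 0, zero_comp]

end Groth.Agent.Helper3
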