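import Mathlib

/-!
Helper: a property of cochain complexes which holds for `0`, is stable under shifts and under
mapping cones defines a triangulated object property of the homotopy category.
-/

open CategoryTheory Limits ZeroObject Pretriangulated HomologicalComplex

namespace Groth.Agent.Helper3

universe v u

variable {V : Type u} [Category.{v} V] [Preadditive V] [HasZeroObject V] [HasBinaryBiproducts V]

set_option backward.defeqAttrib.useBackward true in
set_option backward.isDefEq.respectTransparency false in
theorem isTriangulated_of_complexProp (p : CochainComplex V ℤ → Prop) (h0 : p 0)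
    (hshift : ∀ (K : CochainComplex V ℤ) (n : ℤ), p K → p ((shiftFunctor _ n).obj K))
    (hcone : ∀ {K L : CochainComplex V ℤ} (f : K ⟶ L), p K → p L → p (CochainComplex.mappingCone f)) :
    ObjectProperty.IsTriangulated
      (fun K : HomotopyCategory V (ComplexShape.up ℤ) => p K.as) := by
  haveI hz : ObjectProperty.ContainsZero
      (fun K : HomotopyCategory V (ComplexShape.up ℤ) => p K.as) :=
    ⟨⟨(HomotopyCategory.quotient _ _).obj 0, Functor.map_isZero _ (isZero_zero _), h0⟩⟩
  haveI hs : ObjectProperty.IsStableUnderShift
      (fun K : HomotopyCategory V (ComplexShape.up ℤ) => p K.as) ℤ :=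
    { isStableUnderShiftBy := fun n =>
        { le_shift := fun K hK => by
            obtain ⟨K : CochainComplex _ _, rfl⟩ := K.quotient_obj_surjective
            rw [ObjectProperty.prop_shift_iff, HomotopyCategory.shift_quotient_obj]
            exact hshift K n hK } }
  haveI h3 : ObjectProperty.IsTriangulatedClosed₃
      (fun K : HomotopyCategory V (ComplexShape.up ℤ) => p K.as) :=
    { ext₃' := fun T hT h₁ h₂ => by
        obtain ⟨f : T.obj₁.as ⟶ T.obj₂.as, hf⟩ :=
          (HomotopyCategory.quotient _ _).map_surjective T.mor₁
        refine ⟨_, ?_,
          ⟨Triangle.π₃.mapIso (isoTriangleOfIso₁₂ T _ hT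
            (HomotopyCategory.mappingCone_triangleh_distinguished f)
            (Iso.refl _) (Iso.refl _) ?_)⟩⟩
        · exact hcone f h₁ h₂
        · simp [hf] }
  exact { toIsTriangulatedClosed₂ := .of_isTriangulatedClosed₃ }

end Groth.Agent.Helper3
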