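import Mathlib
import Groth.Prelude
import Groth.Agent.Helper2.HS6
import Groth.Agent.Helper5.GrpDim1
import Groth.Agent.Helper5.ConnDim

set_option autoImplicit false
set_option linter.style.haveILetI false
set_option linter.unusedSectionVars false
set_option linter.unusedVariables false
set_option linter.style.haveILetI false
set_option linter.unusedSectionVars false
set_option linter.unusedVariables false

open AlgebraicGeometry CategoryTheory CategoryTheory.Limits TopologicalSpace
open MonoidalCategory CartesianMonoidalCategory MonObj GrpObj

universe u

namespace Groth.Agent.Helper3.IdCompImg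

/-- a closed immersion of group schemes locally of finite type over a field of the same dimension
maps the identity component onto the identity component -/
theorem main (k : Type u) [Field k]
    (G H : Over (Spec (CommRingCat.of k))) [GrpObj G] [GrpObj H]
    [LocallyOfFiniteType G.hom] [LocallyOfFiniteType H.hom] (u : G ⟶ H) [IsMonHom u]
    [IsClosedImmersion u.left]
    (hdim : topologicalKrullDim ↥G.left = topologicalKrullDim ↥H.left)
    (t : ↥((𝟙_ (Over (Spec (CommRingCat.of k)))).left)) :
    ⇑u.left.base '' connectedComponent (η[G].left.base t) =
      connectedComponent (η[H].left.base t) := by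
  have hunit : u.left.base (η[G].left.base t) = η[H].left.base t := by
    have h1 : η[G] ≫ u = η[H] := IsMonHom.one_hom u
    have h2 := congrArg (fun q => q.left.base t) h1
    exact h2
  set CG := irreducibleComponent (η[G].left.base t) with hCG
  set CH := irreducibleComponent (η[H].left.base t) with hCH
  have hG := Groth.Agent.Helper2.HS6.connectedComponent_eq G CG
    (irreducibleComponent_mem_irreducibleComponents _) t mem_irreducibleComponent
  have hH := Groth.Agent.Helper2.HS6.connectedComponent_eq H CH
    (irreducibleComponent_mem_irreducibleComponents _) t mem_irreducibleComponent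
  have hsub : ⇑u.left.base '' connectedComponent (η[G].left.base t) ⊆
      connectedComponent (η[H].left.base t) := by
    rw [← hunit]
    exact u.left.base.hom.continuous.image_connectedComponent_subset _
  apply Set.Subset.antisymm hsub
  by_contra hne
  have hne' : ⇑u.left.base '' CG ≠ CH := by
    intro h
    apply hne
    rw [hG, hH, h]
  have hemb := u.left.isClosedEmbedding
  have hcl : IsClosed (⇑u.left.base '' CG) :=
    hemb.isClosedMap _ isClosed_irreducibleComponent
  have hsub' : ⇑u.left.base '' CG ⊆ CH := by
    rw [← hG, ← hH]; exact hsub
  obtain ⟨a, ha⟩ := Groth.Agent.Helper5.GrpDim.exists_nat_localDim k H.hom (η[H].left.base t)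
  have hdH : topologicalKrullDim ↥CH = topologicalKrullDim ↥H.left :=
    Groth.Agent.Helper5.GrpDim.dim_irreducibleComponent k H CH
      (irreducibleComponent_mem_irreducibleComponents _)
  have hdG : topologicalKrullDim ↥CG = topologicalKrullDim ↥G.left :=
    Groth.Agent.Helper5.GrpDim.dim_irreducibleComponent k G CG
      (irreducibleComponent_mem_irreducibleComponents _)
  have hHfin : topologicalKrullDim ↥CH < ⊤ := by
    rw [hdH, ← Groth.Agent.Helper5.GrpDim.localDim_eq_dim k H (η[H].left.base t), ha]
    exact WithBot.coe_lt_coe.mpr (ENat.coe_lt_top a)
  have hlt := Groth.Agent.Helper5.ConnDim.dim_lt_of_ne isIrreducible_irreducibleComponent hsub'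
    hcl hne' hHfin
  have himg : topologicalKrullDim ↥(⇑u.left.base '' CG) = topologicalKrullDim ↥CG :=
    ((hemb.toIsEmbedding.homeomorphImage CG).isHomeomorph.topologicalKrullDim_eq).symm
  rw [himg, hdG, hdH, hdim] at hlt
  exact lt_irrefl _ hlt

end Groth.Agent.Helper3.IdCompImg
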