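import Mathlib
import Groth.Prelude
import Groth.Agent.Helper3.NosA
import Groth.Agent.Helper3.HensDomain

set_option autoImplicit false
set_option linter.style.haveILetI false
set_option linter.unusedSectionVars false
set_option linter.unusedVariables false
set_option linter.deprecated false
set_option linter.style.haveILetI false
set_option linter.unusedSectionVars false
set_option linter.unusedVariables false

universe u

open AlgebraicGeometry CategoryTheory Limits IsLocalRing

namespace Groth.Agent.Helper3.InertA

open Groth.Agent.Helper3.NosA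

variable {R K Ω : Type u} [CommRing R] [IsDomain R] [IsDiscreteValuationRing R]
  [HenselianLocalRing R] [Field K] [Algebra R K] [IsFractionRing R K] [Field Ω] [Algebra K Ω]
  [Algebra.IsSeparable K Ω] (W : ValuationSubring Ω) (hW : SGA7.LiesOver K R W)

variable (R K Ω) in
/-- the structure map `R → Ω` -/
abbrev φRΩ : R →+* Ω := (algebraMap K Ω).comp (algebraMap R K)

include hW in
/-- integral elements lie in `W` -/
lemma mem_of_isIntegral (x : Ω) (hx : (φRΩ R K Ω).IsIntegralElem x) : x ∈ W := by
  obtain ⟨p, hp, hpx⟩ := hx
  have h1 : _root_.IsIntegral W x := by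
    refine ⟨p.map (ιRW W hW), hp.map _, ?_⟩
    rw [Polynomial.eval₂_map]
    exact hpx
  obtain ⟨y, hy⟩ := IsIntegrallyClosedIn.isIntegral_iff.mp h1
  rw [← hy]
  exact y.2

include hW in
/-- elements of `W` are integral over `R` (here henselianity is used) -/
lemma isIntegral_of_mem (x : Ω) (hx : x ∈ W) : (φRΩ R K Ω).IsIntegralElem x := by
  classical
  letI : Algebra R Ω := (φRΩ R K Ω).toAlgebra
  haveI : IsScalarTower R K Ω := .of_algebraMap_eq' rfl
  show _root_.IsIntegral R x
  by_cases hx0 : x = 0
  · rw [hx0]; exact isIntegral_zero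
  have hxK : _root_.IsIntegral K x := Algebra.IsIntegral.isIntegral x
  let L := IntermediateField.adjoin K {x}
  haveI : FiniteDimensional K L := IntermediateField.adjoin.finiteDimensional hxK
  haveI : Algebra.IsSeparable K L := inferInstance
  letI : Algebra R L := ((algebraMap K L).comp (algebraMap R K)).toAlgebra
  haveI : IsScalarTower R K L := .of_algebraMap_eq' rfl
  haveI : IsScalarTower R L Ω := .of_algebraMap_eq' rfl
  let B := integralClosure R L
  haveI : IsDedekindDomain B := integralClosure.isDedekindDomain R K L
  haveI : IsLocalRing B := HensDomain.local_of_integral_domain R B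
  haveI : IsFractionRing B L := integralClosure.isFractionRing_of_finite_extension K L
  haveI : ValuationRing B := inferInstance
  let xL : L := ⟨x, IntermediateField.mem_adjoin_simple_self K x⟩
  have hxL : algebraMap L Ω xL = x := rfl
  have hmapint : ∀ y : L, _root_.IsIntegral R y → _root_.IsIntegral R (algebraMap L Ω y) :=
    fun y hy => hy.map (IsScalarTower.toAlgHom R L Ω)
  rcases ValuationRing.isInteger_or_isInteger B xL with ⟨b, hb⟩ | ⟨b, hb⟩
  · rw [← hxL, ← hb]
    exact hmapint _ b.2
  · by_cases hbu : IsUnit b
    · obtain ⟨c, hc⟩ := hbu.exists_right_inv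
      have h1 : xL = algebraMap B L c := by
        have h2 : algebraMap B L b * algebraMap B L c = 1 := by
          rw [← map_mul, hc, map_one]
        rw [hb] at h2
        have hxL0 : xL ≠ 0 := fun h => hx0 (by rw [← hxL, h, map_zero])
        field_simp at h2
        exact h2.symm
      rw [← hxL, h1]
      exact hmapint _ c.2
    · exfalso
      -- the ring map `B → W`
      let ιBW : B →+* W :=
        { toFun := fun y => ⟨algebraMap L Ω (y : L), mem_of_isIntegral W hW _ (hmapint _ y.2)⟩
          map_one' := Subtype.ext (by simp)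
          map_mul' := fun a c => Subtype.ext (by simp)
          map_zero' := Subtype.ext (by simp)
          map_add' := fun a c => Subtype.ext (by simp) }
      let P : Ideal B := (maximalIdeal W).comap ιBW
      haveI : P.IsPrime := Ideal.comap_isPrime _ _
      have hcomap : P.comap (algebraMap R B) = maximalIdeal R := by
        ext r
        rw [Ideal.mem_comap, Ideal.mem_comap]
        have hr : ιBW (algebraMap R B r) = ιRW W hW r := Subtype.ext rfl
        rw [hr]
        constructor
        · intro h
          by_contra hru
          have hu : IsUnit r := by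
            by_contra h'
            exact hru ((mem_maximalIdeal r).mpr h')
          exact (mem_maximalIdeal _).mp h (hu.map (ιRW W hW))
        · intro h
          exact (ValuationSubring.valuation_lt_one_iff W _).mpr (hW.2 r h)
      haveI : P.IsMaximal := by
        apply Ideal.isMaximal_of_isIntegral_of_isMaximal_comap (R := R) P
        rw [hcomap]; infer_instance
      have hP : P = maximalIdeal B := IsLocalRing.eq_maximalIdeal ‹P.IsMaximal›
      have hbP : b ∈ P := by rw [hP]; exact (mem_maximalIdeal b).mpr hbu
      have h3 : W.valuation (algebraMap L Ω (b : L)) < 1 :=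
        (ValuationSubring.valuation_lt_one_iff W _).mp hbP
      have h4 : algebraMap L Ω (b : L) = x⁻¹ := by
        have : ((b : L)) = xL⁻¹ := hb
        rw [this, map_inv₀, hxL]
      rw [h4, map_inv₀] at h3
      have h5 : W.valuation x ≤ 1 := (ValuationSubring.valuation_le_one_iff W x).mpr hx
      have h6 : W.valuation x ≠ 0 := (Valuation.ne_zero_iff _).mpr hx0
      have h7 : 1 ≤ (W.valuation x)⁻¹ := (one_le_inv₀ (zero_lt_iff.mpr h6)).mpr h5
      exact absurd h3 (not_lt.mpr h7)

include hW in
lemma mem_iff (x : Ω) : x ∈ W ↔ (φRΩ R K Ω).IsIntegralElem x :=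
  ⟨isIntegral_of_mem W hW x, mem_of_isIntegral W hW x⟩

include hW in
/-- the valuation subring of `Ω` lying over the henselian `R` is unique -/
lemma eq_of_liesOver (W' : ValuationSubring Ω) (hW' : SGA7.LiesOver K R W') : W' = W := by
  ext x
  rw [mem_iff W hW, mem_iff W' hW']

include hW in
/-- `W` is stable under all `K`-automorphisms -/
lemma map_mem (σ : Ω ≃ₐ[K] Ω) (x : Ω) (hx : x ∈ W) : σ x ∈ W := by
  rw [mem_iff W hW] at hx ⊢
  obtain ⟨p, hp, hpx⟩ := hx
  refine ⟨p, hp, ?_⟩
  have h1 : (σ : Ω →+* Ω).comp (φRΩ R K Ω) = φRΩ R K Ω := by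
    ext r
    simp
  have h2 := Polynomial.hom_eval₂ p (φRΩ R K Ω) (σ : Ω →+* Ω) x
  rw [hpx, map_zero, h1] at h2
  exact h2.symm

include hW in
lemma isIntegral_W : letI := (ιRW W hW).toAlgebra; Algebra.IsIntegral R W := by
  letI := (ιRW W hW).toAlgebra
  refine ⟨fun w => ?_⟩
  obtain ⟨p, hp, hpx⟩ := isIntegral_of_mem W hW w.1 w.2
  refine ⟨p, hp, ?_⟩
  apply Subtype.ext
  have h2 : W.subtype (Polynomial.eval₂ (algebraMap R W) w p) =
      Polynomial.eval₂ (φRΩ R K Ω) w.1 p := by
    rw [Polynomial.hom_eval₂]
    rfl
  exact h2.trans hpx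

include hW in
lemma henselian_W : HenselianLocalRing W := by
  letI := (ιRW W hW).toAlgebra
  haveI := isIntegral_W W hW
  exact HensDomain.hens_of_integral_domain R W

end Groth.Agent.Helper3.InertA
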