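import Mathlib
import Groth.Prelude
import Groth.Agent.Helper3.NosA
import Groth.Agent.Helper3.InertA

set_option autoImplicit false
set_option linter.style.haveILetI false
set_option linter.unusedSectionVars false
set_option linter.unusedVariables false
set_option linter.deprecated false
set_option linter.style.haveILetI false
set_option linter.unusedSectionVars false
set_option linter.unusedVariables false

universe u

open AlgebraicGeometry CategoryTheory Limits IsLocalRing MonoidalCategory CartesianMonoidalCategory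
  MonObj GrpObj

namespace Groth.Agent.Helper3.InertB

open Groth.Agent.Helper3.NosA Groth.Agent.Helper3.BcHom Groth.Agent.Helper3.InertA
open scoped CategoryTheory.Obj

variable {R K Ω : Type u} [CommRing R] [IsDomain R] [IsDiscreteValuationRing R]
  [HenselianLocalRing R] [Field K] [Algebra R K] [IsFractionRing R K] [Field Ω] [Algebra K Ω]
  [IsSepClosure K Ω] (W : ValuationSubring Ω) (hW : SGA7.LiesOver K R W)
  (N : Over (Spec (CommRingCat.of R)))

/-- an `Ω`-point of `N` whose image specialises into the special fibre extends to a `W`-point -/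
theorem exists_ext_of_specializes (ξ : TΩ (R := R) (K := K) (Ω := Ω) ⟶ N) (z : N.left)
    (hz : N.hom z = closedPoint R) (hsp : ξ.left (closedPoint Ω) ⤳ z) :
    ∃ u : TW W hW ⟶ N, iΩ W hW ≫ u = ξ := by
  haveI : Algebra.IsSeparable K Ω := IsSepClosure.separable
  set f : Spec (CommRingCat.of Ω) ⟶ N.left := ξ.left with hf
  let ρ : N.left.presheaf.stalk z ⟶ CommRingCat.of Ω :=
    N.left.presheaf.stalkSpecializes hsp ≫ Scheme.stalkClosedPointTo f
  have hρ : Spec.map ρ ≫ N.left.fromSpecStalk z = f := by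
    rw [Spec.map_comp, Category.assoc, Scheme.SpecMap_stalkSpecializes_fromSpecStalk,
      Scheme.Spec_stalkClosedPointTo_fromSpecStalk]
  obtain ⟨W', h, hloc⟩ := IsLocalRing.exists_factor_valuationRing ρ.hom
  let ρ' : N.left.presheaf.stalk z ⟶ CommRingCat.of W' :=
    CommRingCat.ofHom (ρ.hom.codRestrict W'.toSubring h)
  haveI : IsLocalHom ρ'.hom := hloc
  let ul : Spec (CommRingCat.of W') ⟶ N.left := Spec.map ρ' ≫ N.left.fromSpecStalk z
  have hρ' : ρ' ≫ CommRingCat.ofHom W'.subtype = ρ := by
    ext a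
    rfl
  have hjul : Spec.map (CommRingCat.ofHom W'.subtype) ≫ ul = f := by
    rw [← hρ, ← hρ', Spec.map_comp, Category.assoc]
  let θ : CommRingCat.of R ⟶ CommRingCat.of W' := Spec.preimage (ul ≫ N.hom)
  have hθ : Spec.map θ = ul ≫ N.hom := Spec.map_preimage _
  have hfN : f ≫ N.hom = Spec.map (CommRingCat.ofHom (φRΩ R K Ω)) := by
    have := Over.w ξ
    rw [hf, this]
    show Spec.map _ ≫ Spec.map _ = _
    rw [← Spec.map_comp]
    rfl
  have hθφ : θ ≫ CommRingCat.ofHom W'.subtype = CommRingCat.ofHom (φRΩ R K Ω) := by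
    apply Spec.map_injective
    rw [Spec.map_comp, hθ, ← Category.assoc, hjul, hfN]
  have hθapp : ∀ r : R, ((θ.hom r : W') : Ω) = φRΩ R K Ω r := fun r => congr(($hθφ).hom r)
  have hcl : (Spec.map θ) (closedPoint W') = closedPoint R := by
    rw [hθ, Scheme.Hom.comp_apply]
    have h1 : ul (closedPoint W') = z := by
      show (Spec.map ρ' ≫ N.left.fromSpecStalk z) (closedPoint W') = z
      rw [Scheme.Hom.comp_apply, Spec_closedPoint, Scheme.fromSpecStalk_closedPoint]
    rw [h1, hz]
  have hW' : SGA7.LiesOver K R W' := by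
    refine ⟨fun r => ?_, fun r hr => ?_⟩
    · rw [← RingHom.comp_apply, ← hθapp r]
      exact (θ.hom r).2
    · rw [← RingHom.comp_apply, ← hθapp r]
      rw [← ValuationSubring.valuation_lt_one_iff]
      have h2 : r ∈ ((Spec.map θ) (closedPoint W')).asIdeal := by
        rw [hcl]; exact hr
      exact h2
  obtain rfl : W' = W := eq_of_liesOver W hW W' hW'
  have hθι : θ = CommRingCat.ofHom (ιRW W' hW) := by
    ext r
    exact hθapp r
  have hul : ul ≫ N.hom = (TW W' hW).hom := by
    rw [← hθ, hθι]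
    show _ = 𝟙 _ ≫ gW W' hW
    rw [Category.id_comp]
  refine ⟨Over.homMk ul hul, ?_⟩
  apply Over.OverMorphism.ext
  exact hjul

include hW in
/-- an `n`-torsion `Ω`-point which extends to a `W`-point is fixed by inertia -/
theorem fixed_of_ext [GrpObj N] [IsSeparated N.hom] [LocallyOfFiniteType N.hom]
    [IsCommMonObj ((Over.pullback (gK (R := R) (K := K))).obj N)]
    (n : ℕ) (hn : ((n : ℕ) : ResidueField R) ≠ 0) (σ : Ω ≃ₐ[K] Ω) (hσ : SGA7.IsInertia W σ)
    (x' : SGA7.Pts Ω ((Over.pullback (gK (R := R) (K := K))).obj N)) (hx : x' ^ n = 1)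
    (u : TW W hW ⟶ N) (hu : iΩ W hW ≫ u = Θ gK x') :
    SGA7.galAct σ x' = x' := by
  set a := sσ W hW σ hσ ≫ u with ha_def
  set y := a * u⁻¹ with hy_def
  have ha : iΩ W hW ≫ a = Θ gK (SGA7.galAct σ x') := by
    rw [ha_def, ← Category.assoc, ← iΩ_sσ, Category.assoc, hu, ← Θ_comp]
    rfl
  have hσx : (SGA7.galAct σ x') ^ n = 1 := by
    show (SGA7.specAut σ ≫ x') ^ n = 1
    rw [← MonObj.comp_pow, hx, MonObj.comp_one]
  have hy : y ^ n = 1 := by
    apply iΩ_injective W hW N
    rw [MonObj.comp_pow, hy_def, MonObj.comp_mul, GrpObj.comp_inv, ha, hu, MonObj.comp_one,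
      ← Θ_inv, ← Θ_mul, ← Θ_pow, ← Θ_one]
    congr 1
    rw [mul_pow, inv_pow, hx, inv_one, _root_.mul_one, hσx]
  have hκ : cκ W hW ≫ y = 1 := by
    rw [hy_def, MonObj.comp_mul, GrpObj.comp_inv, ha_def, ← Category.assoc, cκ_sσ, mul_inv_cancel]
  have hred : Spec.map (CommRingCat.ofHom (residue W)) ≫ y.left =
      Spec.map (CommRingCat.ofHom (residue W)) ≫ gW W hW ≫ η[N].left := by
    have h1 := congrArg (fun f => f.left) hκ
    simp only [Over.comp_left] at h1
    rw [Hom.one_def, Over.comp_left] at h1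
    have h2 : (toUnit (Tκ W hW)).left = (Tκ W hW).hom := by
      have := Over.w (toUnit (Tκ W hW))
      rw [← this]
      show _ = _ ≫ 𝟙 _
      rw [Category.comp_id]
    rw [h2] at h1
    rw [show (cκ W hW).left = Spec.map (CommRingCat.ofHom (residue W)) from rfl] at h1
    rw [h1]
    show (Spec.map (CommRingCat.ofHom (residue W)) ≫ (𝟙 _ ≫ gW W hW)) ≫ _ = _
    rw [Category.id_comp, Category.assoc]
  have hy1 : y = 1 := TorsRedH.main_pts N W (gW W hW) y n (unit_ιRW W hW n hn) hy hred
  have hab : a = u := by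
    have := hy1
    rw [hy_def, mul_inv_eq_one] at this
    exact this
  apply Θ_injective (gK (R := R) (K := K))
  rw [← ha, hab, hu]


end Groth.Agent.Helper3.InertB
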