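import Mathlib
import Groth.Prelude
import Groth.Agent.Helper3.NosA
import Groth.Agent.Helper3.InertA

set_option autoImplicit false
set_option linter.style.haveILetI false
set_option linter.unusedSectionVars false
set_option linter.unusedVariables false
set_option linter.deprecated false
set_option linter.style.haveILetI false
set_option linter.unusedSectionVars false
set_option linter.unusedVariables false

universe u

open AlgebraicGeometry CategoryTheory Limits IsLocalRing

namespace Groth.Agent.Helper3.InertC

open Groth.Agent.Helper3.NosA Groth.Agent.Helper3.InertA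

variable {R K Ω : Type u} [CommRing R] [IsDomain R] [IsDiscreteValuationRing R]
  [HenselianLocalRing R] [Field K] [Algebra R K] [IsFractionRing R K] [Field Ω] [Algebra K Ω]
  [IsSepClosure K Ω] (W : ValuationSubring Ω) (hW : SGA7.LiesOver K R W)
  {S E : Type u} [CommRing S] [IsDomain S] [IsDiscreteValuationRing S] [Algebra R S]
  [IsLocalHom (algebraMap R S)]
  (hwu : (maximalIdeal R).map (algebraMap R S) = maximalIdeal S)
  [Field E] [Algebra S E] [IsFractionRing S E] [Algebra K E] [Algebra R E] [IsScalarTower R K E]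
  [IsScalarTower R S E] [Algebra.IsSeparable K E] (j₀ : E →ₐ[K] Ω)

/-- `S` as a valuation subring of its fraction field -/
def VS : ValuationSubring E := ⟨(algebraMap S E).range, ValuationRing.isInteger_or_isInteger S⟩

include hwu in
lemma liesOver_VS : SGA7.LiesOver K R (VS (S := S) (E := E)) := by
  have key : ∀ r : R, algebraMap K E (algebraMap R K r) = algebraMap S E (algebraMap R S r) := by
    intro r
    rw [← IsScalarTower.algebraMap_apply, ← IsScalarTower.algebraMap_apply]
  refine ⟨fun r => ?_, fun r hr => ?_⟩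
  · rw [key]; exact ⟨_, rfl⟩
  · have hmem : algebraMap K E (algebraMap R K r) ∈ VS (S := S) (E := E) := by
      rw [key]; exact ⟨_, rfl⟩
    have h1 : (⟨_, hmem⟩ : VS (S := S) (E := E)) ∈ maximalIdeal (VS (S := S) (E := E)) := by
      rw [mem_maximalIdeal, mem_nonunits_iff]
      intro hu
      obtain ⟨⟨t, s, hs⟩, ht⟩ := hu.exists_right_inv
      have h2 : algebraMap S E (algebraMap R S r) * algebraMap S E s = 1 := by
        have := congrArg Subtype.val ht
        simp only [Subring.coe_mul, Subring.coe_one] at this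
        rw [← key, hs]
        exact this
      rw [← map_mul, ← map_one (algebraMap S E)] at h2
      have h3 := IsFractionRing.injective S E h2
      have h4 : IsUnit (algebraMap R S r) := IsUnit.of_mul_eq_one _ h3
      have h5 : algebraMap R S r ∈ maximalIdeal S := by
        rw [← hwu]; exact Ideal.mem_map_of_mem _ hr
      exact (mem_maximalIdeal _).mp h5 h4
    exact (ValuationSubring.valuation_lt_one_iff _ _).mp h1

include hwu in
/-- the elements of `S` are integral over `R` -/
lemma isIntegral_S (s : S) : (φRΩ R K E).IsIntegralElem (algebraMap S E s) :=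
  isIntegral_of_mem (R := R) (K := K) (VS (S := S) (E := E)) (liesOver_VS (K := K) hwu) _ ⟨s, rfl⟩

include hW hwu in
lemma j₀_mem (s : S) : j₀ (algebraMap S E s) ∈ W := by
  apply mem_of_isIntegral W hW
  obtain ⟨p, hp, hps⟩ := isIntegral_S (R := R) (K := K) (E := E) hwu s
  refine ⟨p, hp, ?_⟩
  have h1 : (j₀ : E →+* Ω).comp (φRΩ R K E) = φRΩ R K Ω := by
    ext r
    simp
  have h2 := Polynomial.hom_eval₂ p (φRΩ R K E) (j₀ : E →+* Ω) (algebraMap S E s)
  rw [hps, map_zero, h1] at h2
  exact h2.symm

/-- the embedding `S → W` -/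
def jS : S →+* W where
  toFun s := ⟨j₀ (algebraMap S E s), j₀_mem W hW hwu j₀ s⟩
  map_one' := Subtype.ext (by simp)
  map_mul' a b := Subtype.ext (by simp)
  map_zero' := Subtype.ext (by simp)
  map_add' a b := Subtype.ext (by simp)

lemma jS_algebraMap (r : R) : jS W hW hwu j₀ (algebraMap R S r) = ιRW W hW r := by
  apply Subtype.ext
  show j₀ (algebraMap S E (algebraMap R S r)) = algebraMap K Ω (algebraMap R K r)
  rw [← IsScalarTower.algebraMap_apply, IsScalarTower.algebraMap_apply R K E, AlgHom.commutes]

lemma jS_mem_maximalIdeal (s : S) (hs : s ∈ maximalIdeal S) :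
    jS W hW hwu j₀ s ∈ maximalIdeal W := by
  have h1 : (maximalIdeal R).map (algebraMap R S) ≤ (maximalIdeal W).comap (jS W hW hwu j₀) := by
    rw [Ideal.map_le_iff_le_comap]
    intro r hr
    rw [Ideal.mem_comap, Ideal.mem_comap, jS_algebraMap]
    exact (ValuationSubring.valuation_lt_one_iff W _).mpr (hW.2 r hr)
  rw [hwu] at h1
  exact h1 hs

instance : IsLocalHom (jS W hW hwu j₀) := by
  constructor
  intro s hs
  by_contra h
  exact (mem_maximalIdeal _).mp (jS_mem_maximalIdeal W hW hwu j₀ s ((mem_maximalIdeal s).mpr h)) hs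

/-- the automorphism of `W` induced by `σ` -/
def σW' (σ : Ω ≃ₐ[K] Ω) : W →+* W where
  toFun w := ⟨σ w.1, map_mem W hW σ w.1 w.2⟩
  map_one' := Subtype.ext (by simp)
  map_mul' a b := Subtype.ext (by simp)
  map_zero' := Subtype.ext (by simp)
  map_add' a b := Subtype.ext (by simp)

lemma σW'_mem_maximalIdeal (σ : Ω ≃ₐ[K] Ω) (w : W) (hw : w ∈ maximalIdeal W) :
    σW' W hW σ w ∈ maximalIdeal W := by
  rw [mem_maximalIdeal, mem_nonunits_iff] at hw ⊢
  intro hu
  apply hw
  have h1 := hu.map (σW' W hW σ.symm)
  have h2 : σW' W hW σ.symm (σW' W hW σ w) = w := Subtype.ext (by simp [σW'])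
  rwa [h2] at h1

include hW hwu in
/-- an automorphism fixing (the image of) `S` pointwise lies in the inertia group -/
theorem isInertia_of_fix [IsSepClosed (ResidueField S)] (σ : Ω ≃ₐ[K] Ω)
    (hσ : ∀ s : S, σ (j₀ (algebraMap S E s)) = j₀ (algebraMap S E s)) : SGA7.IsInertia W σ := by
  haveI : Algebra.IsSeparable K Ω := IsSepClosure.separable
  intro x hx
  refine ⟨map_mem W hW σ x hx, ?_⟩
  set j := jS W hW hwu j₀ with hj
  letI : Algebra (ResidueField S) (ResidueField W) := (ResidueField.map j).toAlgebra
  have hmapres : ∀ s : S, algebraMap (ResidueField S) (ResidueField W) (residue S s) =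
      residue W (j s) := fun s => rfl
  haveI : Algebra.IsIntegral (ResidueField S) (ResidueField W) := by
    refine ⟨fun y => ?_⟩
    obtain ⟨w, rfl⟩ := residue_surjective y
    obtain ⟨p, hp, hpw⟩ := isIntegral_of_mem W hW w.1 w.2
    refine ⟨p.map ((residue S).comp (algebraMap R S)), hp.map _, ?_⟩
    rw [Polynomial.eval₂_map]
    have h1 : (algebraMap (ResidueField S) (ResidueField W)).comp
        ((residue S).comp (algebraMap R S)) = (residue W).comp (ιRW W hW) := by
      ext r
      show residue W (j (algebraMap R S r)) = residue W (ιRW W hW r)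
      rw [hj, jS_algebraMap]
    rw [h1, ← Polynomial.hom_eval₂]
    have h2 : Polynomial.eval₂ (ιRW W hW) w p = 0 := by
      apply Subtype.ext
      have h3 := Polynomial.hom_eval₂ p (ιRW W hW) W.subtype w
      exact h3.trans hpw
    rw [h2, map_zero]
  haveI : Algebra.IsAlgebraic (ResidueField S) (ResidueField W) := inferInstance
  haveI : IsPurelyInseparable (ResidueField S) (ResidueField W) := inferInstance
  obtain ⟨q, hq⟩ := ExpChar.exists (ResidueField S)
  haveI := hq
  set xw : W := ⟨x, hx⟩ with hxw
  obtain ⟨n, t, ht⟩ := IsPurelyInseparable.pow_mem (ResidueField S) q (residue W xw)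
  obtain ⟨s, rfl⟩ := residue_surjective t
  rw [hmapres] at ht
  have h1 : xw ^ q ^ n - j s ∈ maximalIdeal W := by
    rw [← residue_eq_zero_iff, map_sub, map_pow, ht, sub_self]
  have h2 := σW'_mem_maximalIdeal W hW σ _ h1
  have h3 : σW' W hW σ (xw ^ q ^ n - j s) = (σW' W hW σ xw) ^ q ^ n - j s := by
    rw [map_sub, map_pow]
    congr 1
    exact Subtype.ext (hσ s)
  rw [h3, ← residue_eq_zero_iff, map_sub, map_pow, sub_eq_zero, ht] at h2
  haveI : ExpChar (ResidueField W) q :=
    expChar_of_injective_algebraMap (algebraMap (ResidueField S) (ResidueField W)).injective q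
  have h5 : residue W (σW' W hW σ xw) = residue W xw := by
    apply iterateFrobenius_inj (ResidueField W) q n
    rw [iterateFrobenius_def, iterateFrobenius_def]
    exact h2
  have h6 : σW' W hW σ xw - xw ∈ maximalIdeal W := by
    rw [← residue_eq_zero_iff, map_sub, h5, sub_self]
  exact (ValuationSubring.valuation_lt_one_iff W _).mp h6

include hW hwu in
/-- an element of `Ω` fixed by the inertia group lies in (the image of) the fraction field of `S` -/
theorem mem_range_of_fixed [IsSepClosed (ResidueField S)] (y : Ω)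
    (hy : ∀ σ : Ω ≃ₐ[K] Ω, SGA7.IsInertia W σ → σ y = y) : y ∈ j₀.fieldRange := by
  haveI : IsGalois K Ω := inferInstance
  rw [← InfiniteGalois.fixedField_fixingSubgroup j₀.fieldRange,
    IntermediateField.mem_fixedField_iff]
  intro σ hσ
  apply hy
  apply isInertia_of_fix W hW hwu j₀ σ
  intro s
  rw [IntermediateField.mem_fixingSubgroup_iff] at hσ
  exact hσ _ ⟨_, rfl⟩

end Groth.Agent.Helper3.InertC
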