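import Mathlib
import Groth.Prelude
import Groth.Agent.Helper3.InertC
import Groth.Agent.Helper3.HensDomain

set_option autoImplicit false
set_option linter.style.haveILetI false
set_option linter.unusedSectionVars false
set_option linter.unusedVariables false
set_option linter.deprecated false
set_option linter.style.haveILetI false
set_option linter.unusedSectionVars false
set_option linter.unusedVariables false

universe u

open AlgebraicGeometry CategoryTheory Limits IsLocalRing

namespace Groth.Agent.Helper3.InertD

open Groth.Agent.Helper3.InertA Groth.Agent.Helper3.InertC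

variable {R K : Type u} [CommRing R] [IsDomain R] [IsDiscreteValuationRing R]
  [HenselianLocalRing R] [Field K] [Algebra R K] [IsFractionRing R K]
  {S E : Type u} [CommRing S] [IsDomain S] [IsDiscreteValuationRing S] [Algebra R S]
  [IsLocalHom (algebraMap R S)]
  (hwu : (maximalIdeal R).map (algebraMap R S) = maximalIdeal S)
  [Field E] [Algebra S E] [IsFractionRing S E] [Algebra K E] [Algebra R E] [IsScalarTower R K E]
  [IsScalarTower R S E] [Algebra.IsSeparable K E]

variable (K) in
include hwu K in
/-- `S` is the integral closure of `R` in its fraction field -/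
lemma isIntegralClosure_S : IsIntegralClosure S R E where
  algebraMap_injective := IsFractionRing.injective S E
  isIntegral_iff {x} := by
    constructor
    · intro hx
      have h1 : _root_.IsIntegral S x := hx.tower_top
      exact IsIntegrallyClosed.isIntegral_iff.mp h1
    · rintro ⟨s, rfl⟩
      obtain ⟨p, hp, hps⟩ := isIntegral_S (R := R) (K := K) (E := E) hwu s
      refine ⟨p, hp, ?_⟩
      have h2 : algebraMap R E = φRΩ R K E := by
        ext r
        exact IsScalarTower.algebraMap_apply R K E r
      rw [h2]
      exact hps

instance (F : IntermediateField K E) : IsScalarTower R F E :=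
  IsScalarTower.of_algebraMap_eq (fun r => by
    rw [IsScalarTower.algebraMap_apply R K E, IsScalarTower.algebraMap_apply R K F]
    rfl)

variable (K) in
include hwu in
/-- the integral closure of `R` in a finite subextension of `Frac S / K` is étale over `R` -/
theorem etale_integralClosure [Algebra.IsSeparable (ResidueField R) (ResidueField S)]
    (F : IntermediateField K E) [FiniteDimensional K F] :
    Algebra.Etale R (integralClosure R F) := by
  set B := integralClosure R F with hB
  haveI : IsDedekindDomain B := integralClosure.isDedekindDomain R K F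
  haveI : Module.Finite R B := IsIntegralClosure.finite R K F _
  haveI : IsLocalRing B := HensDomain.local_of_integral_domain R B
  haveI : IsLocalHom (algebraMap R B) := HensDomain.isLocalHom_of_isIntegral R B
  haveI : IsFractionRing B F := integralClosure.isFractionRing_of_finite_extension K F
  haveI hICS : IsIntegralClosure S R E := isIntegralClosure_S K hwu
  -- the map `B → S`
  haveI : IsScalarTower B F E := .of_algebraMap_eq (fun b => rfl)
  haveI : IsScalarTower R B E := .of_algebraMap_eq (fun r => by
    rw [IsScalarTower.algebraMap_apply R F E, IsScalarTower.algebraMap_apply R B F]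
    rfl)
  let ιBS : B →ₐ[R] S := IsIntegralClosure.lift R S E
  have hιBS : ∀ b : B, algebraMap S E (ιBS b) = algebraMap B E b :=
    fun b => IsIntegralClosure.algebraMap_lift R S E b
  have hinj : Function.Injective ιBS := by
    intro b b' h
    have h1 : algebraMap B E b = algebraMap B E b' := by rw [← hιBS, ← hιBS, h]
    have h2 : Function.Injective (algebraMap B E) := by
      rw [IsScalarTower.algebraMap_eq B F E]
      exact (algebraMap F E).injective.comp (IsFractionRing.injective B F)
    exact h2 h1
  haveI : Algebra.IsIntegral R S := IsIntegralClosure.isIntegral_algebra R (A := S) E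
  have hint : ιBS.toRingHom.IsIntegral := by
    intro s
    obtain ⟨p, hp, hps⟩ := Algebra.IsIntegral.isIntegral (R := R) s
    refine ⟨p.map (algebraMap R B), hp.map _, ?_⟩
    rw [Polynomial.eval₂_map]
    have h3 : ιBS.toRingHom.comp (algebraMap R B) = algebraMap R S := by
      ext r
      exact ιBS.commutes r
    rw [h3]
    exact hps
  haveI hloc : IsLocalHom ιBS.toRingHom := hint.isLocalHom hinj
  -- weak unramifiedness
  have hRB : Function.Injective (algebraMap R B) := by
    have h6 : Function.Injective (algebraMap R F) := by
      rw [IsScalarTower.algebraMap_eq R K F]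
      exact (algebraMap K F).injective.comp (IsFractionRing.injective R K)
    rw [IsScalarTower.algebraMap_eq R B F, RingHom.coe_comp] at h6
    exact Function.Injective.of_comp h6
  have hnf : ¬ IsField B := by
    intro hf
    obtain ⟨π, hπ⟩ := IsDiscreteValuationRing.exists_irreducible R
    have h4 : algebraMap R B π ≠ 0 := by
      intro h0
      have : algebraMap R B π = algebraMap R B 0 := by rw [h0, map_zero]
      exact hπ.ne_zero (hRB this)
    have h5 : IsUnit (algebraMap R B π) := by
      obtain ⟨c, hc⟩ := hf.mul_inv_cancel h4
      exact IsUnit.of_mul_eq_one _ hc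
    exact hπ.not_isUnit (IsUnit.of_map (algebraMap R B) π h5)
  have hmax : (maximalIdeal R).map (algebraMap R B) = maximalIdeal B := by
    apply le_antisymm
    · exact ((local_hom_TFAE (algebraMap R B)).out 0 2 rfl rfl).mp inferInstance
    · obtain ⟨ϖ, hϖ⟩ := (IsPrincipalIdealRing.principal (maximalIdeal B)).principal
      rw [← Ideal.span] at hϖ
      obtain ⟨π, hπ⟩ := IsDiscreteValuationRing.exists_irreducible R
      have hπm : maximalIdeal R = Ideal.span {π} := hπ.maximalIdeal_eq
      have hπmem : π ∈ maximalIdeal R := by rw [hπm]; exact Ideal.mem_span_singleton_self π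
      have h7 : algebraMap R B π ∈ maximalIdeal B := by
        rw [mem_maximalIdeal, mem_nonunits_iff]
        intro hu
        exact hπ.not_isUnit (IsUnit.of_map (algebraMap R B) π hu)
      rw [hϖ, Ideal.mem_span_singleton'] at h7
      obtain ⟨c, hc⟩ := h7
      have hϖ0 : ϖ ≠ 0 := by
        rintro rfl
        apply hnf
        rw [isField_iff_maximalIdeal_eq, hϖ]
        simp
      have hϖm : ϖ ∈ maximalIdeal B := by rw [hϖ]; exact Ideal.mem_span_singleton_self ϖ
      have h8 : ιBS ϖ ∈ maximalIdeal S := by
        rw [mem_maximalIdeal, mem_nonunits_iff]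
        intro hu
        exact (mem_maximalIdeal _).mp hϖm (hloc.map_nonunit ϖ hu)
      rw [← hwu, hπm, Ideal.map_span, Set.image_singleton, Ideal.mem_span_singleton'] at h8
      obtain ⟨s', hs'⟩ := h8
      have h9 : algebraMap R S π = ιBS c * ιBS ϖ := by rw [← map_mul, hc, ιBS.commutes]
      have h10 : (s' * ιBS c) * ιBS ϖ = 1 * ιBS ϖ := by
        rw [one_mul, mul_assoc, ← h9, hs']
      have hιϖ0 : ιBS ϖ ≠ 0 := fun h0 => hϖ0 (hinj (by rw [h0, map_zero]))
      have h11 : s' * ιBS c = 1 := mul_right_cancel₀ hιϖ0 h10
      have hcu : IsUnit c := hloc.map_nonunit c (IsUnit.of_mul_eq_one _ (by rw [mul_comm]; exact h11))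
      obtain ⟨d, hd⟩ := hcu.exists_left_inv
      rw [hϖ, Ideal.span_singleton_le_iff_mem]
      have h12 : ϖ = d * algebraMap R B π := by
        rw [← hc, ← mul_assoc, hd, one_mul]
      rw [h12]
      exact Ideal.mul_mem_left _ _ (Ideal.mem_map_of_mem _ hπmem)
  haveI : Algebra.IsSeparable (ResidueField R) (ResidueField B) := by
    letI : Algebra (ResidueField B) (ResidueField S) :=
      (ResidueField.map ιBS.toRingHom).toAlgebra
    haveI : IsScalarTower (ResidueField R) (ResidueField B) (ResidueField S) :=
      .of_algebraMap_eq (fun x => by
        obtain ⟨r, rfl⟩ := residue_surjective x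
        show residue S (algebraMap R S r) = residue S (ιBS (algebraMap R B r))
        rw [ιBS.commutes])
    exact Algebra.isSeparable_tower_bot_of_isSeparable (ResidueField R) (ResidueField B)
      (ResidueField S)
  haveI : Algebra.FormallyUnramified R B := Algebra.FormallyUnramified.of_map_maximalIdeal hmax
  haveI : Module.IsTorsionFree R B := by
    haveI : FaithfulSMul R B := (faithfulSMul_iff_algebraMap_injective R B).mpr hRB
    infer_instance
  haveI : Module.Flat R B := inferInstance
  haveI : Algebra.FinitePresentation R B := Algebra.FinitePresentation.of_finiteType.mp inferInstance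
  exact Algebra.Etale.of_formallyUnramified_of_flat

end Groth.Agent.Helper3.InertD
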