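import Mathlib
import Groth.Prelude
import Groth.Agent.Helper3.NosA
import Groth.Agent.Helper3.BcHom

set_option autoImplicit false
set_option linter.style.haveILetI false
set_option linter.unusedSectionVars false
set_option linter.unusedVariables false
set_option linter.deprecated false
set_option linter.style.haveILetI false
set_option linter.unusedSectionVars false
set_option linter.unusedVariables false

universe u

open AlgebraicGeometry CategoryTheory Limits IsLocalRing

namespace Groth.Agent.Helper3.InertE

open Groth.Agent.Helper3.NosA Groth.Agent.Helper3.BcHom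

variable {R K Ω : Type u} [CommRing R] [IsLocalRing R] [Field K] [Algebra R K] [Field Ω]
  [Algebra K Ω] (N : Over (Spec (CommRingCat.of R))) (hN : SGA7.IsNeron R K N)
  {B F : Type u} [CommRing B] [IsLocalRing B] [Algebra R B] [IsLocalHom (algebraMap R B)]
  [Algebra.Etale R B] [Field F] [Algebra B F] [Algebra K F] [Algebra R F] [IsScalarTower R B F]
  [IsScalarTower R K F]

include hN in
/-- Néron mapping property applied to a local étale `R`-algebra `B` with `B ⊗ K = F`:
an `Ω`-point of the generic fibre which factors through an `F`-point specialises into the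
special fibre. -/
theorem nmp_specializes
    (hpo : IsPullback (Spec.map (CommRingCat.ofHom (algebraMap B F)))
      (Spec.map (CommRingCat.ofHom (algebraMap K F)))
      (Spec.map (CommRingCat.ofHom (algebraMap R B))) (gK (R := R) (K := K)))
    (x : SGA7.Pts Ω ((SGA7.genFib R K).obj N)) (τ : F →+* Ω)
    (y : Spec (CommRingCat.of F) ⟶ ((SGA7.genFib R K).obj N).left)
    (hy : y ≫ ((SGA7.genFib R K).obj N).hom = Spec.map (CommRingCat.ofHom (algebraMap K F)))
    (hxy : x.left = Spec.map (CommRingCat.ofHom τ) ≫ y) :
    ∃ z ∈ SGA7.specialFibreSet R N,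
      (x.left ≫ pullback.fst N.hom (Spec.map (CommRingCat.ofHom (algebraMap R K)))).base
        (closedPoint Ω) ⤳ z := by
  obtain ⟨hsm, hsep, hqc, hnmp⟩ := hN
  let Y : Over (Spec (CommRingCat.of R)) := Over.mk (Spec.map (CommRingCat.ofHom (algebraMap R B)))
  haveI : Smooth Y.hom := by
    show Smooth (Spec.map (CommRingCat.ofHom (algebraMap R B)))
    haveI : Etale (Spec.map (CommRingCat.ofHom (algebraMap R B))) := by
      rw [HasRingHomProperty.Spec_iff (P := @Etale)]
      exact (RingHom.etale_algebraMap (R := R) (S := B)).mpr inferInstance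
    infer_instance
  -- the generic fibre of `Y` is `Spec F`
  let e : Spec (CommRingCat.of F) ≅ ((SGA7.genFib R K).obj Y).left := hpo.isoPullback
  have he1 : e.hom ≫ pullback.fst Y.hom (gK (R := R) (K := K)) =
      Spec.map (CommRingCat.ofHom (algebraMap B F)) := hpo.isoPullback_hom_fst
  have he2 : e.hom ≫ pullback.snd Y.hom (gK (R := R) (K := K)) =
      Spec.map (CommRingCat.ofHom (algebraMap K F)) := hpo.isoPullback_hom_snd
  let v : (SGA7.genFib R K).obj Y ⟶ (SGA7.genFib R K).obj N :=
    Over.homMk (e.inv ≫ y) (by
      show (e.inv ≫ y) ≫ ((SGA7.genFib R K).obj N).hom = pullback.snd Y.hom gK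
      rw [Category.assoc, hy, ← he2, Iso.inv_hom_id_assoc])
  obtain ⟨g, hg⟩ := (hnmp Y inferInstance).2 v
  have hg' : (Over.pullback (gK (R := R) (K := K))).map g = v := hg
  have hyv : y = e.hom ≫ v.left := by
    show y = e.hom ≫ (e.inv ≫ y)
    rw [Iso.hom_inv_id_assoc]
  have hyfst : y ≫ pullback.fst N.hom (gK (R := R) (K := K)) =
      Spec.map (CommRingCat.ofHom (algebraMap B F)) ≫ g.left := by
    rw [hyv, ← hg', Category.assoc, map_left_fst, ← Category.assoc, he1]
  refine ⟨g.left (closedPoint B), ?_, ?_⟩
  · have h1 : g.left ≫ N.hom = Spec.map (CommRingCat.ofHom (algebraMap R B)) := Over.w g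
    have h2 : N.hom (g.left (closedPoint B)) =
        Spec.map (CommRingCat.ofHom (algebraMap R B)) (closedPoint B) := by
      rw [← Scheme.Hom.comp_apply, h1]
    have h3 : N.hom (g.left (closedPoint B)) = closedPoint R := by
      rw [h2]
      exact Spec_closedPoint
    exact Set.mem_singleton_iff.mpr h3
  · have h3 : x.left ≫ pullback.fst N.hom (gK (R := R) (K := K)) =
        (Spec.map (CommRingCat.ofHom τ) ≫ Spec.map (CommRingCat.ofHom (algebraMap B F))) ≫
          g.left := by
      rw [hxy, Category.assoc, hyfst, Category.assoc]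
    show (x.left ≫ pullback.fst N.hom (gK (R := R) (K := K))) (closedPoint Ω) ⤳ _
    rw [h3, Scheme.Hom.comp_apply]
    exact (IsLocalRing.specializes_closedPoint (R := B) _).map g.left.continuous

end Groth.Agent.Helper3.InertE
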