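import Mathlib
import Groth.Prelude

set_option autoImplicit false
set_option linter.style.haveILetI false
set_option linter.unusedSectionVars false
set_option linter.unusedVariables false
set_option linter.deprecated false
set_option linter.style.haveILetI false
set_option linter.unusedSectionVars false
set_option linter.unusedVariables false

universe u

open AlgebraicGeometry CategoryTheory Limits IsLocalRing

namespace Groth.Agent.Helper3.InertF0

/-- the residue field at the image of an algebraic point of a separated locally finite type
scheme over a field is finite over the base field -/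
theorem residueField_finite {K Ω : Type u} [Field K] [Field Ω] [Algebra K Ω]
    [Algebra.IsAlgebraic K Ω]
    (X : Scheme.{u}) (f : X ⟶ Spec (CommRingCat.of K)) [LocallyOfFiniteType f] [IsSeparated f]
    (x : Spec (CommRingCat.of Ω) ⟶ X)
    (hx : x ≫ f = Spec.map (CommRingCat.ofHom (algebraMap K Ω)))
    (χ : CommRingCat.of K ⟶ X.residueField (x (closedPoint Ω)))
    (hχ : Spec.map χ = X.fromSpecResidueField _ ≫ f) : χ.hom.Finite := by
  haveI : IsIntegralHom (x ≫ f) := by
    rw [hx, IsIntegralHom.SpecMap_iff]
    exact algebraMap_isIntegral_iff.mpr inferInstance
  haveI : IsIntegralHom x := IsIntegralHom.of_comp x f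
  have hcl : IsClosed (Set.range x) := x.isClosedMap.isClosed_range
  have hrange : Set.range x = {x (closedPoint Ω)} := by
    ext w
    constructor
    · rintro ⟨p, rfl⟩
      rw [Subsingleton.elim p (closedPoint Ω)]
      exact Set.mem_singleton _
    · intro hw
      exact ⟨closedPoint Ω, (Set.mem_singleton_iff.mp hw).symm⟩
  rw [hrange] at hcl
  haveI : IsClosedImmersion (X.fromSpecResidueField (x (closedPoint Ω))) :=
    isClosed_singleton_iff_isClosedImmersion.mp hcl
  have hft : χ.hom.FiniteType := by
    have : LocallyOfFiniteType (Spec.map χ) := hχ ▸ inferInstance
    exact HasRingHomProperty.Spec_iff.mp this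
  algebraize [χ.hom]
  haveI : Module.Finite K (X.residueField (x (closedPoint Ω))) :=
    finite_of_finite_type_of_isJacobsonRing K _
  exact RingHom.finite_algebraMap.mpr this

end Groth.Agent.Helper3.InertF0
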