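import Mathlib
import Groth.Prelude
import Groth.Agent.Helper3.InertC
import Groth.Agent.Helper3.InertD
import Groth.Agent.Helper3.InertE
import Groth.Agent.Helper3.InertF0

set_option autoImplicit false
set_option linter.style.haveILetI false
set_option linter.unusedSectionVars false
set_option linter.unusedVariables false
set_option linter.deprecated false
set_option linter.style.haveILetI false
set_option linter.unusedSectionVars false
set_option linter.unusedVariables false

universe u

open AlgebraicGeometry CategoryTheory Limits IsLocalRing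

namespace Groth.Agent.Helper3.InertF1

open Groth.Agent.Helper3.NosA Groth.Agent.Helper3.InertA Groth.Agent.Helper3.InertC
  Groth.Agent.Helper3.InertD

variable {R K Ω : Type u} [CommRing R] [IsDomain R] [IsDiscreteValuationRing R]
  [HenselianLocalRing R] [Field K] [Algebra R K] [IsFractionRing R K] [Field Ω] [Algebra K Ω]
  [IsSepClosure K Ω] (W : ValuationSubring Ω) (hW : SGA7.LiesOver K R W)
  {S E : Type u} [CommRing S] [IsDomain S] [IsDiscreteValuationRing S] [Algebra R S]
  [IsLocalHom (algebraMap R S)]
  (hwu : (maximalIdeal R).map (algebraMap R S) = maximalIdeal S)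
  [Field E] [Algebra S E] [IsFractionRing S E] [Algebra K E] [Algebra R E] [IsScalarTower R K E]
  [IsScalarTower R S E] [Algebra.IsSeparable K E] (j₀ : E →ₐ[K] Ω)
  (N : Over (Spec (CommRingCat.of R))) (hN : SGA7.IsNeron R K N)

include hW hwu hN j₀ in
/-- a point fixed by inertia specialises into the special fibre of the Néron model -/
theorem fwd [IsSepClosed (ResidueField S)]
    [Algebra.IsSeparable (ResidueField R) (ResidueField S)]
    [IsSeparated ((SGA7.genFib R K).obj N).hom]
    (x : SGA7.Pts Ω ((SGA7.genFib R K).obj N))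
    (hfix : ∀ σ : Ω ≃ₐ[K] Ω, SGA7.IsInertia W σ → SGA7.galAct σ x = x) :
    ∃ z ∈ SGA7.specialFibreSet R N,
      (x.left ≫ pullback.fst N.hom (Spec.map (CommRingCat.ofHom (algebraMap R K)))).base
        (closedPoint Ω) ⤳ z := by
  haveI : Algebra.IsSeparable K Ω := IsSepClosure.separable
  haveI : Algebra.IsAlgebraic K Ω := inferInstance
  let A := (SGA7.genFib R K).obj N
  let f : A.left ⟶ Spec (CommRingCat.of K) := A.hom
  let xl : Spec (CommRingCat.of Ω) ⟶ A.left := x.left
  haveI : LocallyOfFiniteType f := by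
    haveI : Smooth N.hom := hN.1
    show LocallyOfFiniteType (pullback.snd N.hom (gK (R := R) (K := K)))
    infer_instance
  let a₀ : A.left := xl (closedPoint Ω)
  let κ := A.left.residueField a₀
  let φκ : CommRingCat.of K ⟶ κ := Spec.preimage (A.left.fromSpecResidueField a₀ ≫ f)
  have hφκ : Spec.map φκ = A.left.fromSpecResidueField a₀ ≫ f := Spec.map_preimage _
  let ι : κ ⟶ CommRingCat.of Ω := Scheme.descResidueField (Scheme.stalkClosedPointTo xl)
  have hι : Spec.map ι ≫ A.left.fromSpecResidueField a₀ = xl :=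
    Scheme.descResidueField_stalkClosedPointTo_fromSpecResidueField Ω A.left xl
  have hxf : xl ≫ f = Spec.map (CommRingCat.ofHom (algebraMap K Ω)) := Over.w x
  have hφι : φκ ≫ ι = CommRingCat.ofHom (algebraMap K Ω) := by
    apply Spec.map_injective
    rw [Spec.map_comp, hφκ, ← Category.assoc, hι, hxf]
  -- `κ` as a `K`-algebra
  letI : Algebra K κ := φκ.hom.toAlgebra
  have hφκfin : φκ.hom.Finite := InertF0.residueField_finite A.left f xl hxf φκ hφκ
  haveI : Module.Finite K κ := RingHom.finite_algebraMap.mp hφκfin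
  let ιA : κ →ₐ[K] Ω :=
    { ι.hom with
      commutes' := fun r => congr(($hφι).hom r) }
  -- the image of `ι` is fixed by inertia
  have hfixι : ∀ σ : Ω ≃ₐ[K] Ω, SGA7.IsInertia W σ → ∀ t : κ, σ (ιA t) = ιA t := by
    intro σ hσ t
    have h1 := congrArg (fun g => g.left) (hfix σ hσ)
    have h2 : Spec.map (CommRingCat.ofHom (σ : Ω →+* Ω)) ≫ xl = xl := h1
    rw [← hι, ← Category.assoc, ← Spec.map_comp, cancel_mono] at h2
    have h3 := Spec.map_injective h2
    exact congr(($h3).hom t)
  have hmem : ∀ t : κ, ιA t ∈ j₀.fieldRange := fun t =>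
    mem_range_of_fixed W hW hwu j₀ (ιA t) (fun σ hσ => hfixι σ hσ t)
  -- factor `ι` through `E`
  let e₀ : E ≃ₐ[K] j₀.fieldRange := AlgEquiv.ofInjectiveField j₀
  let ι' : κ →ₐ[K] E :=
    (e₀.symm : j₀.fieldRange →ₐ[K] E).comp (ιA.codRestrict j₀.fieldRange.toSubalgebra hmem)
  have hι' : ∀ t : κ, j₀ (ι' t) = ιA t := by
    intro t
    have h1 : e₀ (ι' t) = ιA.codRestrict j₀.fieldRange.toSubalgebra hmem t :=
      AlgEquiv.apply_symm_apply e₀ _
    have h2 := congrArg Subtype.val h1
    exact h2
  let F : IntermediateField K E := ι'.fieldRange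
  let eF : κ ≃ₐ[K] F := AlgEquiv.ofInjectiveField ι'
  haveI : FiniteDimensional K F := Module.Finite.equiv eF.toLinearEquiv
  let B := integralClosure R F
  haveI : Algebra.Etale R B := etale_integralClosure K hwu F
  haveI : IsLocalRing B := HensDomain.local_of_integral_domain R B
  haveI : IsLocalHom (algebraMap R B) := HensDomain.isLocalHom_of_isIntegral R B
  haveI : IsLocalization (Algebra.algebraMapSubmonoid B (nonZeroDivisors R)) F :=
    IsIntegralClosure.isLocalization R K F B
  haveI : Algebra.IsPushout R B K F :=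
    Algebra.isPushout_of_isLocalization (nonZeroDivisors R) K B F
  have hpo : IsPullback (Spec.map (CommRingCat.ofHom (algebraMap B F)))
      (Spec.map (CommRingCat.ofHom (algebraMap K F)))
      (Spec.map (CommRingCat.ofHom (algebraMap R B))) (gK (R := R) (K := K)) :=
    isPullback_SpecMap_of_isPushout _ _ _ _ (CommRingCat.isPushout_of_isPushout R B K F)
  let y : Spec (CommRingCat.of F) ⟶ A.left :=
    Spec.map (CommRingCat.ofHom (eF : κ →+* F)) ≫ A.left.fromSpecResidueField a₀
  let τ : F →+* Ω := (j₀ : E →+* Ω).comp (algebraMap F E)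
  have hy : y ≫ f = Spec.map (CommRingCat.ofHom (algebraMap K F)) := by
    show (Spec.map (CommRingCat.ofHom (eF : κ →+* F)) ≫ A.left.fromSpecResidueField a₀) ≫ f = _
    rw [Category.assoc, ← hφκ, ← Spec.map_comp]
    congr 1
    ext r
    exact congrArg Subtype.val (eF.commutes r)
  have hxy : x.left = Spec.map (CommRingCat.ofHom τ) ≫ y := by
    show xl = Spec.map (CommRingCat.ofHom τ) ≫
      (Spec.map (CommRingCat.ofHom (eF : κ →+* F)) ≫ A.left.fromSpecResidueField a₀)
    rw [← Category.assoc, ← Spec.map_comp, ← hι]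
    congr 2
    ext t
    exact (hι' t).symm
  exact InertE.nmp_specializes N hN hpo x τ y hy hxy

end Groth.Agent.Helper3.InertF1
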