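import Mathlib
import Groth.Prelude
import Groth.Agent.Helper3.InertB
import Groth.Agent.Helper3.InertF1
import Groth.Agent.Helper8.ShB

set_option autoImplicit false
set_option linter.style.haveILetI false
set_option linter.unusedSectionVars false
set_option linter.unusedVariables false
set_option linter.deprecated false
set_option linter.style.haveILetI false
set_option linter.unusedSectionVars false
set_option linter.unusedVariables false

universe u

open CategoryTheory CategoryTheory.Limits AlgebraicGeometry MonObj
open SGA7

namespace Groth.Agent.Helper3.InertF2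

open Groth.Agent.Helper3.NosA Groth.Agent.Helper3.BcHom Groth.Agent.Helper3.InertA
  Groth.Agent.Helper8.Sh Groth.Agent.Helper1.Hens IsLocalRing

theorem main (R K Ω : Type u) [CommRing R] [IsDomain R]
    [IsDiscreteValuationRing R] [HenselianLocalRing R] [Field K] [Algebra R K] [IsFractionRing R K]
    [Field Ω] [Algebra K Ω] [IsSepClosure K Ω] (W : ValuationSubring Ω) (hW : SGA7.LiesOver K R W)
    (N : Over (Spec (CommRingCat.of R))) [GrpObj N] (hN : SGA7.IsNeron R K N)
    [IsProper ((SGA7.genFib R K).obj N).hom] [GeometricallyIntegral ((SGA7.genFib R K).obj N).hom]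
    (m : ℕ) (hm : (m : IsLocalRing.ResidueField R) ≠ 0)
    (x : SGA7.Pts Ω ((SGA7.genFib R K).obj N)) (hx : x ^ m = 1) :
    (∀ σ : Ω ≃ₐ[K] Ω, SGA7.IsInertia W σ → SGA7.galAct σ x = x) ↔
      ∃ z ∈ SGA7.specialFibreSet R N,
        (x.left ≫ pullback.fst N.hom (Spec.map (CommRingCat.ofHom (algebraMap R K)))).base
          (IsLocalRing.closedPoint Ω) ⤳ z := by
  constructor
  · intro hfix
    obtain ⟨hdom, hdvr⟩ := sh_dvr R
    let E := FractionRing (SH R)
    haveI : IsScalarTower R (SH R) E := inferInstance
    have hinj : Function.Injective (algebraMap R E) := by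
      rw [IsScalarTower.algebraMap_eq R (SH R) E]
      exact (IsFractionRing.injective (SH R) E).comp (sh_injective R)
    letI : Algebra K E := (IsFractionRing.lift hinj).toAlgebra
    haveI : IsScalarTower R K E :=
      .of_algebraMap_eq (fun r => (IsFractionRing.lift_algebraMap hinj r).symm)
    haveI : Algebra.IsSeparable K E := isSeparable_frac R K E
    have hres := sh_isSepClosure R
    haveI : IsSepClosed (ResidueField (SH R)) := hres.sep_closed
    haveI : Algebra.IsSeparable (ResidueField R) (ResidueField (SH R)) := hres.separable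
    haveI : IsSepClosed Ω := IsSepClosure.sep_closed K
    let j₀ : E →ₐ[K] Ω := IsSepClosed.lift
    have hwu : (maximalIdeal R).map (algebraMap R (SH R)) = maximalIdeal (SH R) :=
      Hens.map_maximalIdeal
    exact InertF1.fwd (S := SH R) (E := E) W hW hwu j₀ N hN x hfix
  · rintro ⟨z, hz, hsp⟩ σ hσ
    haveI : Smooth N.hom := hN.1
    haveI : IsSeparated N.hom := hN.2.1
    haveI : IsCommMonObj ((Over.pullback (gK (R := R) (K := K))).obj N) :=
      isCommMonObj_of_isProper_of_geometricallyIntegral _
    have hz' : N.hom z = closedPoint R := Set.mem_singleton_iff.mp hz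
    obtain ⟨u, hu⟩ := InertB.exists_ext_of_specializes W hW N (Θ gK x) z hz' hsp
    exact InertB.fixed_of_ext W hW N m hm σ hσ x hx u hu

end Groth.Agent.Helper3.InertF2
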