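import Mathlib
import Groth.Agent.Helper3.EquivOver

set_option autoImplicit false
set_option linter.style.haveILetI false
universe v₃ u₃ v₂ u₂ v u

namespace Groth.Agent.Helper3.Inertia
open CategoryTheory Functor FibCat

variable {C : Type u} [Category.{v} C]
variable {𝒳 : BasedCategory.{v₂, u₂} C} {𝒴 : BasedCategory.{v₃, u₃} C} (F : 𝒳 ⥤ᵇ 𝒴)

theorem isHomLift_of_hom {R S : C} (f : R ⟶ S) {a b : (inertia F).obj} (Φ : a ⟶ b)
    (h : 𝒳.p.IsHomLift f Φ.hom) : (inertia F).p.IsHomLift f Φ := by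
  have key : ∀ {a' b' : 𝒳.obj} (ψ : a' ⟶ b'), 𝒳.p.IsHomLift f ψ →
      ∀ (a b : (inertia F).obj) (ha : a.pt = a') (hb : b.pt = b') (Φ : a ⟶ b),
        Φ.hom = eqToHom ha ≫ ψ ≫ eqToHom hb.symm → (inertia F).p.IsHomLift f Φ := by
    intro a' b' ψ hψ
    cases hψ
    intro a b ha hb Φ hΦ
    subst ha hb
    simp only [eqToHom_refl, Category.id_comp, Category.comp_id] at hΦ
    subst hΦ
    exact Functor.IsHomLift.map (p := (inertia F).p) Φ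
  exact key Φ.hom h a b rfl rfl Φ (by simp)

theorem hom_isHomLift {R S : C} (f : R ⟶ S) {a b : (inertia F).obj} (Φ : a ⟶ b)
    (h : (inertia F).p.IsHomLift f Φ) : 𝒳.p.IsHomLift f Φ.hom := by
  cases h
  exact Functor.IsHomLift.map (p := 𝒳.p) Φ.hom

instance aut_isHomLift (z : InertiaObj F) : 𝒳.p.IsHomLift (𝟙 (𝒳.p.obj z.pt)) z.aut.hom := by
  haveI : 𝒴.p.IsHomLift (𝟙 (𝒳.p.obj z.pt)) (F.map z.aut.hom) := by
    rw [z.map_aut]; infer_instance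
  exact F.isHomLift_map _ _

/-- A morphism of the inertia whose underlying morphism is strongly cartesian is strongly cartesian. -/
theorem isStronglyCartesian_of_hom {R S : C} (f : R ⟶ S) {a b : (inertia F).obj} (Φ : a ⟶ b)
    [h : 𝒳.p.IsStronglyCartesian f Φ.hom] : (inertia F).p.IsStronglyCartesian f Φ := by
  refine { toIsHomLift := isHomLift_of_hom F f Φ h.toIsHomLift, universal_property' := ?_ }
  intro z g Ψ hΨ
  change 𝒳.p.obj z.pt ⟶ R at g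
  have hΨ' : 𝒳.p.IsHomLift (g ≫ f) Ψ.hom := hom_isHomLift F _ Ψ hΨ
  obtain ⟨χ, ⟨hχl, hχ⟩, huniq⟩ :=
    IsStronglyCartesian.universal_property 𝒳.p f Φ.hom g (g ≫ f) rfl Ψ.hom
  have hb : 𝒳.p.obj a.pt = R := IsHomLift.domain_eq 𝒳.p f Φ.hom
  have ha' : 𝒳.p.IsHomLift (𝟙 R) a.aut.hom := by
    subst hb; infer_instance
  have hcomm : z.aut.hom ≫ χ = χ ≫ a.aut.hom := by
    haveI : 𝒳.p.IsHomLift g (z.aut.hom ≫ χ) := inferInstance
    haveI : 𝒳.p.IsHomLift g (χ ≫ a.aut.hom) := inferInstance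
    apply IsStronglyCartesian.ext 𝒳.p f Φ.hom g
    rw [Category.assoc, Category.assoc, hχ, Ψ.comm, Φ.comm, ← Category.assoc χ, hχ]
  refine ⟨⟨χ, hcomm⟩, ⟨isHomLift_of_hom F g _ hχl, ?_⟩, ?_⟩
  · apply InertiaObj.hom_ext
    exact hχ
  · rintro χ' ⟨hχ'l, hχ'⟩
    apply InertiaObj.hom_ext
    apply huniq χ'.hom ⟨hom_isHomLift F g χ' hχ'l, ?_⟩
    exact congrArg (fun t => t.hom) hχ'

/-- Lifting an automorphism along a strongly cartesian morphism whose image is strongly cartesian. -/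
theorem exists_lift_obj (x : InertiaObj F) {R : C} (f : R ⟶ 𝒳.p.obj x.pt) {y : 𝒳.obj} (φ : y ⟶ x.pt)
    [𝒳.p.IsStronglyCartesian f φ] [𝒴.p.IsStronglyCartesian f (F.map φ)] :
    ∃ (y' : InertiaObj F) (Φ : y' ⟶ x), ∃ h : y'.pt = y, Φ.hom = eqToHom h ≫ φ := by
  have hy : 𝒳.p.obj y = R := IsHomLift.domain_eq 𝒳.p f φ
  -- β with β ≫ φ = φ ≫ α
  haveI : 𝒳.p.IsHomLift f (φ ≫ x.aut.hom) := inferInstance
  haveI : 𝒳.p.IsHomLift f (φ ≫ x.aut.inv) := inferInstance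
  let β := IsStronglyCartesian.map 𝒳.p f φ (Category.id_comp f).symm (φ ≫ x.aut.hom)
  let β' := IsStronglyCartesian.map 𝒳.p f φ (Category.id_comp f).symm (φ ≫ x.aut.inv)
  have hβ : β ≫ φ = φ ≫ x.aut.hom := IsStronglyCartesian.fac 𝒳.p f φ _ _
  have hβ' : β' ≫ φ = φ ≫ x.aut.inv := IsStronglyCartesian.fac 𝒳.p f φ _ _
  haveI hβl : 𝒳.p.IsHomLift (𝟙 R) β := IsStronglyCartesian.map_isHomLift 𝒳.p f φ _ _
  haveI hβ'l : 𝒳.p.IsHomLift (𝟙 R) β' := IsStronglyCartesian.map_isHomLift 𝒳.p f φ _ _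
  have h1 : β ≫ β' = 𝟙 y := by
    haveI : 𝒳.p.IsHomLift (𝟙 R) (𝟙 y) := IsHomLift.id hy
    apply IsStronglyCartesian.ext 𝒳.p f φ (𝟙 R)
    rw [Category.assoc, hβ', ← Category.assoc, hβ, Category.assoc, Iso.hom_inv_id, Category.comp_id,
      Category.id_comp]
  have h2 : β' ≫ β = 𝟙 y := by
    haveI : 𝒳.p.IsHomLift (𝟙 R) (𝟙 y) := IsHomLift.id hy
    apply IsStronglyCartesian.ext 𝒳.p f φ (𝟙 R)
    rw [Category.assoc, hβ, ← Category.assoc, hβ', Category.assoc, Iso.inv_hom_id, Category.comp_id,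
      Category.id_comp]
  have h3 : F.map β = 𝟙 (F.obj y) := by
    haveI : 𝒴.p.IsHomLift (𝟙 R) (𝟙 (F.obj y)) := IsHomLift.id ((F.w_obj y).trans hy)
    apply IsStronglyCartesian.ext 𝒴.p f (F.map φ) (𝟙 R)
    rw [← F.map_comp, hβ, F.map_comp, x.map_aut, Category.comp_id, Category.id_comp]
  exact ⟨⟨y, ⟨β, β', h1, h2⟩, h3⟩, ⟨φ, hβ⟩, rfl, by simp⟩

end Groth.Agent.Helper3.Inertia
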