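import Mathlib
import Groth.Agent.Helper3.Inertia
import Groth.Agent.Helper3.FpDiag

set_option autoImplicit false
set_option linter.style.haveILetI false
set_option linter.unusedVariables false
universe v₃ u₃ v₂ u₂ v u

namespace Groth.Agent.Helper3.InertiaFp
open CategoryTheory Functor FibCat Limits

variable {C : Type u} [Category.{v} C]
variable {𝒳 : BasedCategory.{v₂, u₂} C} {𝒴 : BasedCategory.{v₃, u₃} C} (F : 𝒳 ⥤ᵇ 𝒴)

/-- the automorphism `(α, 𝟙)` of `Δ x` -/
def kappa (x : InertiaObj F) : (diag F).obj x.pt ≅ (diag F).obj x.pt where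
  hom := ObjectProperty.homMk ⟨x.aut.hom, 𝟙 x.pt, by
    change F.map x.aut.hom ≫ 𝟙 _ = 𝟙 _ ≫ F.map (𝟙 x.pt)
    rw [x.map_aut, F.map_id]⟩
  inv := ObjectProperty.homMk ⟨x.aut.inv, 𝟙 x.pt, by
    change F.map x.aut.inv ≫ 𝟙 _ = 𝟙 _ ≫ F.map (𝟙 x.pt)
    have : F.map x.aut.inv = 𝟙 _ := by
      have h := congrArg (fun t => F.map x.aut.inv ≫ t) x.map_aut
      simp only [← F.map_comp, Iso.inv_hom_id, F.map_id, Category.comp_id] at h
      exact h.symm
    rw [this, F.map_id]⟩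
  hom_inv_id := by
    apply ObjectProperty.hom_ext
    apply CategoricalPullback.hom_ext
    · exact x.aut.hom_inv_id
    · exact Category.comp_id _
  inv_hom_id := by
    apply ObjectProperty.hom_ext
    apply CategoricalPullback.hom_ext
    · exact x.aut.inv_hom_id
    · exact Category.comp_id _

@[simp] theorem kappa_hom_fst (x : InertiaObj F) : (kappa F x).hom.hom.fst = x.aut.hom := rfl
@[simp] theorem kappa_hom_snd (x : InertiaObj F) : (kappa F x).hom.hom.snd = 𝟙 x.pt := rfl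

/-- object part of `E` -/
def EObj (x : InertiaObj F) : (fp (diag F) (diag F)).obj :=
  ⟨⟨x.pt, x.pt, kappa F x⟩, by
    change (fp F F).p.IsHomLift (𝟙 (𝒳.p.obj x.pt)) (kappa F x).hom
    apply Fp.isHomLift_of_fst
    exact Inertia.aut_isHomLift F x⟩

/-- the comparison functor -/
def E : inertia F ⥤ᵇ fp (diag F) (diag F) where
  toFunctor :=
    { obj := EObj F
      map := fun {x y} φ => ObjectProperty.homMk ⟨φ.hom, φ.hom, by
        apply ObjectProperty.hom_ext
        apply CategoricalPullback.hom_ext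
        · exact φ.comm.symm
        · change φ.hom ≫ 𝟙 _ = 𝟙 _ ≫ φ.hom
          rw [Category.comp_id, Category.id_comp]⟩
      map_id := fun x => rfl
      map_comp := fun φ ψ => rfl }
  w := rfl

theorem E_fst : BasedFunctor.comp (E F) (fpFst _ _) = inertiaToBase F := rfl

theorem E_snd : BasedFunctor.comp (E F) (fpSnd _ _) = inertiaToBase F := rfl


theorem E_faithful : (E F).toFunctor.Faithful := by
  refine ⟨fun {x y} φ ψ h => ?_⟩
  apply InertiaObj.hom_ext
  exact congrArg (fun t => t.hom.fst) h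

theorem E_full : (E F).toFunctor.Full := by
  refine ⟨fun {x y} Θ => ?_⟩
  let a : x.pt ⟶ y.pt := Θ.hom.fst
  let b : x.pt ⟶ y.pt := Θ.hom.snd
  have hw : (diag F).map a ≫ (kappa F y).hom = (kappa F x).hom ≫ (diag F).map b := Θ.hom.w
  have h1 : a ≫ y.aut.hom = x.aut.hom ≫ b := congrArg (fun t => t.hom.fst) hw
  have h2 : a ≫ 𝟙 _ = 𝟙 _ ≫ b := congrArg (fun t => t.hom.snd) hw
  rw [Category.comp_id, Category.id_comp] at h2
  refine ⟨⟨a, by rw [h1, ← h2]⟩, ?_⟩
  apply ObjectProperty.hom_ext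
  apply CategoricalPullback.hom_ext
  · rfl
  · exact h2

theorem E_essSurj (y : (fp (diag F) (diag F)).obj) :
    ∃ (x : (inertia F).obj) (e : (E F).obj x ≅ y),
      (fp (diag F) (diag F)).p.IsHomLift (𝟙 ((fp (diag F) (diag F)).p.obj y)) e.hom := by
  -- components of the given isomorphism
  let κ : (diag F).obj y.obj.fst ≅ (diag F).obj y.obj.snd := y.obj.iso
  let κ₁ : y.obj.fst ≅ y.obj.snd :=
    (fpFst F F).toFunctor.mapIso κ
  let κ₂ : y.obj.fst ≅ y.obj.snd :=
    (fpSnd F F).toFunctor.mapIso κ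
  have hκ : F.map κ₁.hom = F.map κ₂.hom := by
    have := κ.hom.hom.w
    change F.map κ₁.hom ≫ 𝟙 _ = 𝟙 _ ≫ F.map κ₂.hom at this
    rwa [Category.comp_id, Category.id_comp] at this
  let α : y.obj.fst ≅ y.obj.fst := κ₁ ≪≫ κ₂.symm
  have hα : F.map α.hom = 𝟙 _ := by
    change F.map (κ₁.hom ≫ κ₂.inv) = 𝟙 _
    rw [F.map_comp, hκ, ← F.map_comp, Iso.hom_inv_id, F.map_id]
  let x : InertiaObj F := ⟨y.obj.fst, α, hα⟩
  have hw : (diag F).map (𝟙 y.obj.fst) ≫ κ.hom = (kappa F x).hom ≫ (diag F).map κ₂.hom := by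
    apply ObjectProperty.hom_ext
    apply CategoricalPullback.hom_ext
    · change 𝟙 _ ≫ κ₁.hom = (κ₁.hom ≫ κ₂.inv) ≫ κ₂.hom
      rw [Category.id_comp, Category.assoc, Iso.inv_hom_id, Category.comp_id]
    · change 𝟙 _ ≫ κ₂.hom = 𝟙 _ ≫ κ₂.hom
      rfl
  let e₀ : ((E F).obj x).obj ≅ y.obj :=
    CategoricalPullback.mkIso (x := ((E F).obj x).obj) (y := y.obj) (Iso.refl _) κ₂
      (by
        change (diag F).map (𝟙 y.obj.fst) ≫ κ.hom = (kappa F x).hom ≫ (diag F).map κ₂.hom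
        exact hw)
  refine ⟨x, ObjectProperty.isoMk _ e₀, ?_⟩
  apply Fp.isHomLift_of_fst
  change 𝒳.p.IsHomLift (𝟙 (𝒳.p.obj y.obj.fst)) (𝟙 y.obj.fst)
  exact IsHomLift.id rfl

theorem isEquivOver_E : IsEquivOver (E F) := by
  haveI := E_faithful F
  haveI := E_full F
  exact EquivOver.isEquivOver_of (E F) (E_essSurj F)

end Groth.Agent.Helper3.InertiaFp
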