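import Mathlib
set_option linter.style.haveILetI false
set_option linter.unusedSectionVars false
set_option linter.unusedVariables false
open TensorProduct
universe u
namespace Groth.Agent.Helper3.InjLocus

variable {R : Type u} [CommRing R] {P₁ P₂ : Type u} [AddCommGroup P₁] [Module R P₁]
  [AddCommGroup P₂] [Module R P₂] [Module.Finite R P₁] [Module.Projective R P₁]
  [Module.Finite R P₂] [Module.Projective R P₂] (φ : P₁ →ₗ[R] P₂)

/-- a global "retraction up to a denominator" gives fibrewise injectivity. -/
theorem injective_of_retraction (ψ : P₂ →ₗ[R] P₁) (s : R) (h : ψ ∘ₗ φ = s • LinearMap.id)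
    (p : PrimeSpectrum R) (hs : s ∉ p.asIdeal) :
    Function.Injective (φ.lTensor p.asIdeal.ResidueField) := by
  have h1 : (ψ.lTensor p.asIdeal.ResidueField) ∘ₗ (φ.lTensor p.asIdeal.ResidueField) =
      s • LinearMap.id := by
    rw [← LinearMap.lTensor_comp, h, LinearMap.lTensor_smul, LinearMap.lTensor_id]
  have hs' : algebraMap R p.asIdeal.ResidueField s ≠ 0 := by
    rw [Ne, Ideal.algebraMap_residueField_eq_zero]
    exact hs
  intro x y hxy
  have := congrArg (ψ.lTensor p.asIdeal.ResidueField) hxy
  rw [← LinearMap.comp_apply, ← LinearMap.comp_apply, h1] at this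
  simp only [LinearMap.smul_apply, LinearMap.id_coe, id_eq] at this
  rw [← algebraMap_smul p.asIdeal.ResidueField s x, ← algebraMap_smul p.asIdeal.ResidueField s y]
    at this
  exact smul_right_injective _ hs' this

theorem exists_retraction (p : PrimeSpectrum R)
    (hp : Function.Injective (φ.lTensor p.asIdeal.ResidueField)) :
    ∃ (ψ : P₂ →ₗ[R] P₁) (s : R), s ∉ p.asIdeal ∧ ψ ∘ₗ φ = s • LinearMap.id := by
  classical
  let Rp := Localization.AtPrime p.asIdeal
  let κ := p.asIdeal.ResidueField
  let l : Rp ⊗[R] P₁ →ₗ[Rp] Rp ⊗[R] P₂ := φ.baseChange Rp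
  haveI : Module.FinitePresentation Rp (Rp ⊗[R] P₂) := Module.finitePresentation_of_projective _ _
  haveI : Module.Free Rp (Rp ⊗[R] P₂) := Module.free_of_flat_of_isLocalRing
  let e₁ := TensorProduct.AlgebraTensorModule.cancelBaseChange R Rp κ κ P₁
  let e₂ := TensorProduct.AlgebraTensorModule.cancelBaseChange R Rp κ κ P₂
  have hcomm : ∀ z, e₂ (l.lTensor κ z) = φ.lTensor κ (e₁ z) := by
    intro z
    induction z with
    | zero => simp
    | tmul k y =>
      induction y with
      | zero => simp
      | tmul a x =>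
        simp [l, e₁, e₂]
      | add y1 y2 h1 h2 => rw [tmul_add, map_add, map_add, map_add, map_add, h1, h2]
    | add z1 z2 h1 h2 => rw [map_add, map_add, map_add, map_add, h1, h2]
  have hl : Function.Injective (l.lTensor κ) := by
    intro z1 z2 h
    apply e₁.injective
    apply hp
    rw [← hcomm, ← hcomm, h]
  obtain ⟨r, hr⟩ := (IsLocalRing.split_injective_iff_lTensor_residueField_injective l).mpr hl
  let g : P₂ →ₗ[R] Rp ⊗[R] P₁ := (r.restrictScalars R) ∘ₗ (TensorProduct.mk R Rp P₂ 1)
  haveI : Module.FinitePresentation R P₂ := Module.finitePresentation_of_projective _ _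
  obtain ⟨ψ, s, hψ⟩ := Module.FinitePresentation.exists_lift_of_isLocalizedModule
    p.asIdeal.primeCompl (TensorProduct.mk R Rp P₁ 1) g
  have h1 : ∀ x : P₁, (TensorProduct.mk R Rp P₁ 1) (ψ (φ x)) =
      (TensorProduct.mk R Rp P₁ 1) ((s : R) • x) := by
    intro x
    have := congrArg (fun F => F (φ x)) hψ
    simp only [LinearMap.comp_apply, LinearMap.smul_apply] at this
    rw [this]
    show s • r ((1 : Rp) ⊗ₜ φ x) = (1 : Rp) ⊗ₜ ((s : R) • x)
    have h2 : (1 : Rp) ⊗ₜ[R] φ x = l ((1 : Rp) ⊗ₜ x) := by simp [l]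
    rw [h2, ← LinearMap.comp_apply, hr, LinearMap.id_apply, tmul_smul]
    rfl
  have h2 : ∀ x : P₁, ∃ t : p.asIdeal.primeCompl, t • (ψ (φ x)) = t • ((s : R) • x) := fun x =>
    IsLocalizedModule.exists_of_eq (S := p.asIdeal.primeCompl) (h1 x)
  choose t ht using h2
  obtain ⟨σ, hσ⟩ := (Module.Finite.fg_top : (⊤ : Submodule R P₁).FG)
  let T : p.asIdeal.primeCompl := ∏ x ∈ σ, t x
  refine ⟨(T : R) • ψ, (T : R) * (s : R), ?_, ?_⟩
  · exact fun h => (p.2.mem_or_mem h).elim T.2 s.2
  · apply LinearMap.ext_on_range (v := fun x : σ => (x : P₁))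
    · rw [Subtype.range_coe_subtype]; simpa using hσ
    · rintro ⟨x, hx⟩
      simp only [LinearMap.comp_apply, LinearMap.smul_apply, LinearMap.id_apply]
      have : (T : R) = (∏ y ∈ σ.erase x, (t y : R)) * (t x : R) := by
        simp only [T, Submonoid.coe_finset_prod]
        rw [Finset.prod_erase_mul _ _ hx]
      rw [this, mul_smul, mul_smul]
      have h3 := ht x
      simp only [Submonoid.smul_def] at h3
      rw [h3, mul_smul]

theorem main : IsOpen {p : PrimeSpectrum R | Function.Injective (φ.lTensor p.asIdeal.ResidueField)} ∧ ∀ f : R, (↑(PrimeSpectrum.basicOpen f) : Set (PrimeSpectrum R)) ⊆ {p : PrimeSpectrum R | Function.Injective (φ.lTensor p.asIdeal.ResidueField)} → Function.Injective (LocalizedModule.map (Submonoid.powers f) φ) ∧ Module.Finite (Localization.Away f) (LocalizedModule (Submonoid.powers f) (P₂ ⧸ LinearMap.range φ)) ∧ Module.Projective (Localization.Away f) (LocalizedModule (Submonoid.powers f) (P₂ ⧸ LinearMap.range φ)) := by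
  constructor
  · rw [isOpen_iff_forall_mem_open]
    intro p hp
    obtain ⟨ψ, s, hs, hψ⟩ := exists_retraction φ p hp
    refine ⟨PrimeSpectrum.basicOpen s, ?_, (PrimeSpectrum.basicOpen s).isOpen, hs⟩
    intro p' hp'
    exact injective_of_retraction φ ψ s hψ p' hp'
  · intro f hf
    -- the ideal of denominators
    let 𝔟 : Ideal R :=
      { carrier := {s | ∃ ψ : P₂ →ₗ[R] P₁, ψ ∘ₗ φ = s • LinearMap.id}
        add_mem' := by
          rintro a b ⟨ψ₁, h₁⟩ ⟨ψ₂, h₂⟩
          exact ⟨ψ₁ + ψ₂, by rw [LinearMap.add_comp, h₁, h₂, add_smul]⟩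
        zero_mem' := ⟨0, by simp⟩
        smul_mem' := by
          rintro c a ⟨ψ, h⟩
          exact ⟨c • ψ, by rw [LinearMap.smul_comp, h, smul_eq_mul, mul_smul]⟩ }
    have hrad : f ∈ 𝔟.radical := by
      rw [Ideal.radical_eq_sInf, Ideal.mem_sInf]
      rintro p ⟨h𝔟p, hpp⟩
      by_contra hfp
      have hpU := hf (show (⟨p, hpp⟩ : PrimeSpectrum R) ∈ PrimeSpectrum.basicOpen f from hfp)
      obtain ⟨ψ, s, hs, hψ⟩ := exists_retraction φ ⟨p, hpp⟩ hpU
      exact hs (h𝔟p ⟨ψ, hψ⟩)
    obtain ⟨N, ψ, hψ⟩ := hrad
    let S := Submonoid.powers f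
    have hψ' : ∀ x, ψ (φ x) = f ^ N • x := fun x => by
      have := congrArg (fun F => F x) hψ
      simpa using this
    refine ⟨?_, inferInstance, ?_⟩
    · rw [injective_iff_map_eq_zero]
      intro x hx
      induction x using LocalizedModule.induction_on with | _ m t
      rw [LocalizedModule.map_mk, ← LocalizedModule.zero_mk t, LocalizedModule.mk_eq] at hx
      obtain ⟨u, hu⟩ := hx
      rw [← LocalizedModule.zero_mk t, LocalizedModule.mk_eq]
      refine ⟨u * ⟨f ^ N, N, rfl⟩, ?_⟩
      have h1 := congrArg ψ hu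
      simp only [smul_zero, map_zero, Submonoid.smul_def, map_smul, hψ'] at h1
      simp only [smul_zero, Submonoid.smul_def, Submonoid.coe_mul, mul_smul]
      rw [smul_comm (f ^ N) (t : R) m]
      exact h1
    · -- projectivity of the cokernel
      let Q := P₂ ⧸ LinearMap.range φ
      let π : P₂ →ₗ[R] P₂ := f ^ N • LinearMap.id - φ ∘ₗ ψ
      have hπ : LinearMap.range φ ≤ LinearMap.ker π := by
        rintro _ ⟨x, rfl⟩
        simp [π, hψ']
      let πbar : Q →ₗ[R] P₂ := (LinearMap.range φ).liftQ π hπ
      have hcomp : (LinearMap.range φ).mkQ ∘ₗ πbar = f ^ N • LinearMap.id := by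
        apply Submodule.linearMap_qext
        ext y
        simp only [LinearMap.comp_apply, Submodule.mkQ_apply, πbar, Submodule.liftQ_apply,
          LinearMap.smul_apply, LinearMap.id_apply, π, LinearMap.sub_apply, map_sub]
        have h0 : (Submodule.Quotient.mk (φ (ψ y)) : P₂ ⧸ LinearMap.range φ) = 0 := by
          rw [Submodule.Quotient.mk_eq_zero]
          exact ⟨ψ y, rfl⟩
        rw [h0, sub_zero, Submodule.Quotient.mk_smul]
      have hu : IsUnit (algebraMap R (Localization.Away f) (f ^ N)) := by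
        rw [map_pow]; exact (IsLocalization.Away.algebraMap_isUnit f).pow N
      let i : LocalizedModule S Q →ₗ[Localization.Away f] LocalizedModule S P₂ :=
        (↑hu.unit⁻¹ : Localization.Away f) • LocalizedModule.map S πbar
      let sm : LocalizedModule S P₂ →ₗ[Localization.Away f] LocalizedModule S Q :=
        LocalizedModule.map S (LinearMap.range φ).mkQ
      have hsi : sm ∘ₗ i = LinearMap.id := by
        ext x
        induction x using LocalizedModule.induction_on with | _ m t
        simp only [LinearMap.comp_apply, i, sm, LinearMap.smul_apply, map_smul,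
          LocalizedModule.map_mk, LinearMap.id_apply]
        have h1 : (LinearMap.range φ).mkQ (πbar m) = f ^ N • m := by
          have := congrArg (fun F => F m) hcomp
          simpa using this
        rw [h1, ← LocalizedModule.smul'_mk, ← algebraMap_smul (Localization.Away f) (f ^ N),
          ← mul_smul, IsUnit.val_inv_mul, one_smul]
      haveI : Module.Projective (Localization.Away f) (LocalizedModule S P₂) := inferInstance
      exact Module.Projective.of_split i sm hsi

end Groth.Agent.Helper3.InjLocus
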