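import Mathlib
import Groth.Agent.Helper3.IntMultC
import Groth.Agent.Helper3.IntMultD

set_option autoImplicit false
set_option linter.style.haveILetI false
set_option linter.unusedSectionVars false
set_option linter.unusedVariables false
set_option linter.deprecated false
set_option linter.style.haveILetI false
set_option linter.unusedSectionVars false
set_option linter.unusedVariables false

open CategoryTheory Limits AlgebraicGeometry TopologicalSpace Opposite
universe u

namespace Groth.Agent.Helper3.IntMultE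

open Groth.Agent.Helper3.IntMultA Groth.Agent.Helper3.IntMultB Groth.Agent.Helper3.IntMultC
open Groth.Agent.Helper3.IntMultD Groth.Agent.Helper3.CartOrd RingTheory.Sequence IsLocalRing

theorem ofList_ofFn {A : Type u} [CommRing A] (c : ℕ) (g : Fin c → A) :
    Ideal.ofList (List.ofFn g) = Ideal.span (Set.range g) := by
  unfold Ideal.ofList
  congr 1
  ext x
  simp [List.mem_ofFn]

theorem geom_data (K : Type u) [Field K] [IsAlgClosed K] (X : Scheme.{u})
    (f : X ⟶ Spec (CommRingCat.of K)) [Smooth f] [IsSeparated f] [QuasiCompact f] [IsIntegral X]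
    (IV IW : X.IdealSheafData) [IsIntegral IV.subscheme] [IsIntegral IW.subscheme] (n r s : ℕ)
    (hn : topologicalKrullDim X = n) (hr : topologicalKrullDim IV.support = r)
    (hs : topologicalKrullDim IW.support = s)
    (hprop : IntMult.ProperInt (IV.support : Set X) (IW.support : Set X) n r s) (ξ : X)
    (hξV : ξ ∈ IV.support) (hξW : ξ ∈ IW.support)
    (hmax : ∀ ξ' : X, ξ' ∈ IV.support → ξ' ∈ IW.support → ξ' ⤳ ξ → ξ' = ξ)
    (c : ℕ) (g : Fin c → ↑(X.presheaf.stalk ξ))
    (hg : IntMult.stalkIdeal IV ξ = Ideal.span (Set.range g))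
    (hreg : RingTheory.Sequence.IsRegular (↑(X.presheaf.stalk ξ)) (List.ofFn g)) :
    IsNoetherianRing (X.presheaf.stalk ξ) ∧
    Ideal.ofList (List.ofFn g) = IntMult.stalkIdeal IV ξ ∧
    IntMult.stalkIdeal IW ξ ≤ maximalIdeal (X.presheaf.stalk ξ) ∧
    ringKrullDim (↑(X.presheaf.stalk ξ) ⧸ IntMult.stalkIdeal IW ξ) = (c : WithBot ℕ∞) ∧
    (∀ p : Ideal (X.presheaf.stalk ξ), p.IsPrime → IntMult.stalkIdeal IW ξ ≤ p →
      Ideal.ofList (List.ofFn g) ≤ p → p.IsMaximal) := by
  haveI : LocallyOfFiniteType f := inferInstance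
  haveI : IsLocallyNoetherian X := LocallyOfFiniteType.isLocallyNoetherian f
  haveI hNoeth : IsNoetherianRing (X.presheaf.stalk ξ) := inferInstance
  have hl : Ideal.ofList (List.ofFn g) = IntMult.stalkIdeal IV ξ := by
    rw [ofList_ofFn, hg]
  obtain ⟨ηW, hηW⟩ := exists_generic IW
  have hPW : (IntMult.stalkIdeal IW ξ).IsPrime := stalkIdeal_isPrime IW ηW hηW ξ hξW
  have hIWle : IntMult.stalkIdeal IW ξ ≤ maximalIdeal (X.presheaf.stalk ξ) :=
    IsLocalRing.le_maximalIdeal hPW.ne_top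
  have hfl : ∀ p : Ideal (X.presheaf.stalk ξ), p.IsPrime → IntMult.stalkIdeal IW ξ ≤ p →
      Ideal.ofList (List.ofFn g) ≤ p → p.IsMaximal := by
    intro p hp h1 h2
    rw [hl] at h2
    exact isMaximal_of_le IV IW ξ hξV hξW hmax p hp h1 h2
  refine ⟨hNoeth, hl, hIWle, ?_, hfl⟩
  -- dimension count
  obtain ⟨aX, t, haX, ht, hsumX⟩ := dim_stalk K f ξ n hn
  obtain ⟨aV, t', haV, ht', hsumV⟩ := dim_quot_stalkIdeal K f IV ξ hξV r hr
  obtain ⟨aW, t'', haW, ht'', hsumW⟩ := dim_quot_stalkIdeal K f IW ξ hξW s hs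
  have et' : t' = t := by
    have : ((t' : ℕ) : WithBot ℕ∞) = ((t : ℕ) : WithBot ℕ∞) := ht'.symm.trans ht
    exact_mod_cast this
  have et'' : t'' = t := by
    have : ((t'' : ℕ) : WithBot ℕ∞) = ((t : ℕ) : WithBot ℕ∞) := ht''.symm.trans ht
    exact_mod_cast this
  subst et' et''
  obtain ⟨hnrs, hdimVW⟩ := hprop ⟨ξ, hξV, hξW⟩
  have hcl : closure ({ξ} : Set X) ⊆ (IV.support : Set X) ∩ IW.support := by
    apply closure_minimal
    · rintro _ rfl
      exact ⟨hξV, hξW⟩
    · exact IV.support.isClosed.inter IW.support.isClosed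
  have htle : ((t'' : ℕ) : WithBot ℕ∞) ≤ ((r + s - n : ℕ) : WithBot ℕ∞) := by
    rw [← ht]
    exact ((Topology.IsEmbedding.inclusion hcl).isInducing.topologicalKrullDim_le).trans hdimVW
  have htle' : t'' ≤ r + s - n := by exact_mod_cast htle
  -- c = aX - aV
  have h1 := ringKrullDim_add_length_eq_ringKrullDim_of_isRegular (List.ofFn g) hreg
  rw [hl, haV, haX, List.length_ofFn] at h1
  have h1' : aV + c = aX := by exact_mod_cast h1
  -- aW ≤ c
  have hmem := mem_maximalIdeal_of_isRegular (List.ofFn g) hreg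
  have h2 := Groth.Agent.Helper2.DepthCM2.supportDim_le_quot_ofList_add (List.ofFn g)
    (↑(X.presheaf.stalk ξ) ⧸ IntMult.stalkIdeal IW ξ) hmem
  rw [supportDim_quot_smul_top _ _ (ofList_le_maximalIdeal _ hreg) hIWle hfl,
    Module.supportDim_quotient_eq_ringKrullDim, haW, List.length_ofFn, zero_add] at h2
  have h2' : aW ≤ c := by exact_mod_cast h2
  rw [haW]
  have : aW = c := by omega
  rw [this]

theorem s6452 (K : Type u) [Field K] [IsAlgClosed K] (X : Scheme.{u})
    (f : X ⟶ Spec (CommRingCat.of K)) [Smooth f] [IsSeparated f] [QuasiCompact f] [IsIntegral X]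
    (IV IW : X.IdealSheafData) [IsIntegral IV.subscheme] [IsIntegral IW.subscheme] (n r s : ℕ)
    (hn : topologicalKrullDim X = n) (hr : topologicalKrullDim IV.support = r)
    (hs : topologicalKrullDim IW.support = s)
    (hprop : IntMult.ProperInt (IV.support : Set X) (IW.support : Set X) n r s) (ξ : X)
    (hξV : ξ ∈ IV.support) (hξW : ξ ∈ IW.support)
    (hmax : ∀ ξ' : X, ξ' ∈ IV.support → ξ' ∈ IW.support → ξ' ⤳ ξ → ξ' = ξ)
    (c : ℕ) (g : Fin c → ↑(X.presheaf.stalk ξ))
    (hg : IntMult.stalkIdeal IV ξ = Ideal.span (Set.range g))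
    (hreg : RingTheory.Sequence.IsRegular (↑(X.presheaf.stalk ξ)) (List.ofFn g))
    (hW : LocCoh.IsCohenMacaulayLocalRing (↑(X.presheaf.stalk ξ) ⧸ IntMult.stalkIdeal IW ξ)) :
    (IntMult.mult IV IW ξ : ℤ) = (Module.length (X.presheaf.stalk ξ)
      (↑(X.presheaf.stalk ξ) ⧸ (IntMult.stalkIdeal IW ξ ⊔ IntMult.stalkIdeal IV ξ))).toNat := by
  obtain ⟨hN, hl, hIW, hdim, hfl⟩ := geom_data K X f IV IW n r s hn hr hs hprop ξ hξV hξW hmax
    c g hg hreg
  unfold IntMult.mult
  rw [chi_congr_right _ _ _ hl.symm]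
  have h := chi_of_cm (IntMult.stalkIdeal IW ξ) hIW (List.ofFn g) hreg hW
    (by rw [hdim, List.length_ofFn]) hfl
  rw [h, hl]

open Filter Topology in
theorem s1874 (K : Type u) [Field K] [IsAlgClosed K] (X : Scheme.{u})
    (f : X ⟶ Spec (CommRingCat.of K)) [Smooth f] [IsSeparated f] [QuasiCompact f] [IsIntegral X]
    (IV IW : X.IdealSheafData) [IsIntegral IV.subscheme] [IsIntegral IW.subscheme] (n r s : ℕ)
    (hn : topologicalKrullDim X = n) (hr : topologicalKrullDim IV.support = r)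
    (hs : topologicalKrullDim IW.support = s)
    (hprop : IntMult.ProperInt (IV.support : Set X) (IW.support : Set X) n r s) (ξ : X)
    (hξV : ξ ∈ IV.support) (hξW : ξ ∈ IW.support)
    (hmax : ∀ ξ' : X, ξ' ∈ IV.support → ξ' ∈ IW.support → ξ' ⤳ ξ → ξ' = ξ)
    (c : ℕ) (g : Fin c → ↑(X.presheaf.stalk ξ))
    (hg : IntMult.stalkIdeal IV ξ = Ideal.span (Set.range g))
    (hreg : RingTheory.Sequence.IsRegular (↑(X.presheaf.stalk ξ)) (List.ofFn g)) :
    Filter.Tendsto (fun t : ℕ => (c.factorial : ℝ) *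
      ((Module.length (X.presheaf.stalk ξ) (↑(X.presheaf.stalk ξ) ⧸
        (IntMult.stalkIdeal IW ξ ⊔ IntMult.stalkIdeal IV ξ ^ t))).toNat : ℝ) / (t : ℝ) ^ c)
      Filter.atTop (nhds (IntMult.mult IV IW ξ : ℝ)) ∧ 0 < IntMult.mult IV IW ξ := by
  obtain ⟨hN, hl, hIW, hdim, hfl⟩ := geom_data K X f IV IW n r s hn hr hs hprop ξ hξV hξW hmax
    c g hg hreg
  unfold IntMult.mult
  rw [chi_congr_right _ _ _ hl.symm]
  have h := chi_samuel (IntMult.stalkIdeal IW ξ) hIW (List.ofFn g) hreg c (List.length_ofFn)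
    hdim hfl
  rw [hl] at h
  rw [hl]
  exact h

end Groth.Agent.Helper3.IntMultE
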