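import Mathlib
import Groth.Agent.Helper3.IntMultC
import Groth.Agent.Helper3.IntMultF
import Groth.Agent.Helper2.SmoothRegSch

set_option autoImplicit false
set_option linter.style.haveILetI false
set_option linter.unusedSectionVars false
set_option linter.unusedVariables false
set_option linter.deprecated false
set_option linter.style.haveILetI false
set_option linter.unusedSectionVars false
set_option linter.unusedVariables false

open CategoryTheory Limits AlgebraicGeometry TopologicalSpace Opposite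
universe u

namespace Groth.Agent.Helper3.IntMultG

open Groth.Agent.Helper3.IntMultA Groth.Agent.Helper3.IntMultB Groth.Agent.Helper3.IntMultC
open Groth.Agent.Helper3.IntMultF Groth.Agent.Helper3.CartOrd IsLocalRing

theorem dims (K : Type u) [Field K] (X : Scheme.{u})
    (f : X ⟶ Spec (CommRingCat.of K)) [LocallyOfFiniteType f] [IsLocallyNoetherian X] [IsIntegral X]
    (IV IW : X.IdealSheafData) [IsIntegral IV.subscheme] [IsIntegral IW.subscheme] (n r s : ℕ)
    (hn : topologicalKrullDim X = n) (hr : topologicalKrullDim IV.support = r)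
    (hs : topologicalKrullDim IW.support = s)
    (hprop : IntMult.ProperInt (IV.support : Set X) (IW.support : Set X) n r s) (ξ : X)
    (hξV : ξ ∈ IV.support) (hξW : ξ ∈ IW.support) :
    ∃ aX aV aW : ℕ, ringKrullDim (X.presheaf.stalk ξ) = aX ∧
      ringKrullDim (↑(X.presheaf.stalk ξ) ⧸ IntMult.stalkIdeal IV ξ) = aV ∧
      ringKrullDim (↑(X.presheaf.stalk ξ) ⧸ IntMult.stalkIdeal IW ξ) = aW ∧ aX ≤ aV + aW := by
  obtain ⟨aX, t, haX, ht, hsumX⟩ := dim_stalk K f ξ n hn
  obtain ⟨aV, t', haV, ht', hsumV⟩ := dim_quot_stalkIdeal K f IV ξ hξV r hr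
  obtain ⟨aW, t'', haW, ht'', hsumW⟩ := dim_quot_stalkIdeal K f IW ξ hξW s hs
  have et' : t' = t := by
    have : ((t' : ℕ) : WithBot ℕ∞) = ((t : ℕ) : WithBot ℕ∞) := ht'.symm.trans ht
    exact_mod_cast this
  have et'' : t'' = t := by
    have : ((t'' : ℕ) : WithBot ℕ∞) = ((t : ℕ) : WithBot ℕ∞) := ht''.symm.trans ht
    exact_mod_cast this
  subst et' et''
  obtain ⟨hnrs, hdimVW⟩ := hprop ⟨ξ, hξV, hξW⟩
  have hcl : closure ({ξ} : Set X) ⊆ (IV.support : Set X) ∩ IW.support := by
    apply closure_minimal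
    · rintro _ rfl
      exact ⟨hξV, hξW⟩
    · exact IV.support.isClosed.inter IW.support.isClosed
  have htle : ((t'' : ℕ) : WithBot ℕ∞) ≤ ((r + s - n : ℕ) : WithBot ℕ∞) := by
    rw [← ht]
    exact ((Topology.IsEmbedding.inclusion hcl).isInducing.topologicalKrullDim_le).trans hdimVW
  have htle' : t'' ≤ r + s - n := by exact_mod_cast htle
  exact ⟨aX, aV, aW, haX, haV, haW, by omega⟩

theorem s1873 (K : Type u) [Field K] [IsAlgClosed K] (X : Scheme.{u})
    (f : X ⟶ Spec (CommRingCat.of K)) [Smooth f] [IsSeparated f] [QuasiCompact f] [IsIntegral X]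
    (IV IW : X.IdealSheafData) [IsIntegral IV.subscheme] [IsIntegral IW.subscheme] (n r s : ℕ)
    (hn : topologicalKrullDim X = n) (hr : topologicalKrullDim IV.support = r)
    (hs : topologicalKrullDim IW.support = s)
    (hprop : IntMult.ProperInt (IV.support : Set X) (IW.support : Set X) n r s) (ξ : X)
    (hξV : ξ ∈ IV.support) (hξW : ξ ∈ IW.support)
    (hmax : ∀ ξ' : X, ξ' ∈ IV.support → ξ' ∈ IW.support → ξ' ⤳ ξ → ξ' = ξ)
    (h1 : Module.length (X.presheaf.stalk ξ) (↑(X.presheaf.stalk ξ) ⧸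
      (IntMult.stalkIdeal IV ξ ⊔ IntMult.stalkIdeal IW ξ)) = 1) :
    IntMult.mult IV IW ξ = 1 ∧
      IsRegularLocalRing (↑(X.presheaf.stalk ξ) ⧸ IntMult.stalkIdeal IV ξ) ∧
      IsRegularLocalRing (↑(X.presheaf.stalk ξ) ⧸ IntMult.stalkIdeal IW ξ) := by
  haveI : LocallyOfFiniteType f := inferInstance
  haveI : IsLocallyNoetherian X := LocallyOfFiniteType.isLocallyNoetherian f
  haveI : IsRegularLocalRing (X.presheaf.stalk ξ) :=
    Groth.Agent.Helper2.SmoothRegSch.stalk_regular_of_smooth K X f ξ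
  obtain ⟨ηV, hηV⟩ := exists_generic IV
  obtain ⟨ηW, hηW⟩ := exists_generic IW
  have hPV : (IntMult.stalkIdeal IV ξ).IsPrime := stalkIdeal_isPrime IV ηV hηV ξ hξV
  have hPW : (IntMult.stalkIdeal IW ξ).IsPrime := stalkIdeal_isPrime IW ηW hηW ξ hξW
  obtain ⟨aX, aV, aW, haX, haV, haW, hsum⟩ := dims K X f IV IW n r s hn hr hs hprop ξ hξV hξW
  have hsup := sup_eq_maximalIdeal _ _ h1
  obtain ⟨h2, h3, h4⟩ := chi_transversal (IntMult.stalkIdeal IV ξ) (IntMult.stalkIdeal IW ξ)
    hPV hPW hsup aX aV aW haX haV haW hsum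
  refine ⟨?_, h3, h4⟩
  unfold IntMult.mult
  rw [h2, sup_comm, h1]
  rfl

end Groth.Agent.Helper3.IntMultG
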