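import Mathlib
import Groth.Prelude.Def_W4stkalgebra1Int

/-! Integrality over an ideal via the Rees algebra. -/

set_option autoImplicit false
universe u

open Polynomial

namespace Groth.Agent.Helper3.IntOverIdeal

variable {R S : Type u} [CommRing R] [CommRing S] [Algebra R S] (I : Ideal R)

/-- the structure map from the Rees algebra to `S[X]` -/
noncomputable abbrev ρ : reesAlgebra I →+* S[X] :=
  (Polynomial.mapRingHom (algebraMap R S)).comp (reesAlgebra I).val.toRingHom

lemma ρ_apply (a : reesAlgebra I) : ρ (S := S) I a = (a : R[X]).map (algebraMap R S) := rfl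

lemma CX_pow (s : S) (j : ℕ) : (C s * X : S[X]) ^ j = C (s ^ j) * X ^ j := by
  rw [mul_pow, C_pow]

theorem isIntegralElem_of_isIntegralOverIdeal (s : S)
    (h : W4stkalgebra1.IsIntegralOverIdeal I s) : (ρ (S := S) I).IsIntegralElem (C s * X) := by
  classical
  obtain ⟨p, hp, hcoeff, hroot⟩ := h
  obtain ⟨d, hd⟩ : ∃ d, d = p.natDegree := ⟨_, rfl⟩
  rw [← hd] at hcoeff
  have hmem : ∀ j, j ∈ Finset.range (d + 1) → monomial (d - j) (p.coeff j) ∈ reesAlgebra I := by
    intro j hj
    rw [reesAlgebra.monomial_mem]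
    rcases (Nat.lt_succ_iff.mp (Finset.mem_range.mp hj)).lt_or_eq with hlt | heq
    · exact hcoeff j hlt
    · rw [heq, Nat.sub_self, pow_zero]
      simp
  let c : ℕ → reesAlgebra I := fun j =>
    if hj : j ∈ Finset.range (d + 1) then ⟨monomial (d - j) (p.coeff j), hmem j hj⟩ else 0
  let P : (reesAlgebra I)[X] := ∑ j ∈ Finset.range (d + 1), monomial j (c j)
  have hPdeg : P.natDegree ≤ d := by
    refine Polynomial.natDegree_sum_le_of_forall_le _ _ fun j hj => ?_
    exact (natDegree_monomial_le _).trans (Nat.lt_succ_iff.mp (Finset.mem_range.mp hj))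
  have hPcoeff : P.coeff d = 1 := by
    simp only [P, finset_sum_coeff, coeff_monomial]
    rw [Finset.sum_ite_eq' (Finset.range (d + 1)) d, if_pos (Finset.self_mem_range_succ d)]
    simp only [c, dif_pos (Finset.self_mem_range_succ d)]
    apply Subtype.ext
    simp [hd, hp.coeff_natDegree]
  refine ⟨P, monic_of_natDegree_le_of_coeff_eq_one d hPdeg hPcoeff, ?_⟩
  simp only [P, eval₂_finset_sum, eval₂_monomial]
  have hterm : ∀ j ∈ Finset.range (d + 1), ρ (S := S) I (c j) * (C s * X) ^ j =
      monomial d (algebraMap R S (p.coeff j) * s ^ j) := by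
    intro j hj
    have hjd : j ≤ d := Nat.lt_succ_iff.mp (Finset.mem_range.mp hj)
    simp only [c, dif_pos hj, ρ_apply, Polynomial.map_monomial, CX_pow]
    rw [← monomial_zero_left, X_pow_eq_monomial, monomial_mul_monomial, monomial_mul_monomial]
    have h1 : d - j + (0 + j) = d := by omega
    rw [h1]
    congr 1
    ring
  rw [Finset.sum_congr rfl hterm, ← map_sum (monomial d)]
  rw [eval₂_eq_sum_range, ← hd] at hroot
  rw [hroot, map_zero]

theorem isIntegralOverIdeal_of_isIntegralElem (s : S)
    (h : (ρ (S := S) I).IsIntegralElem (C s * X)) : W4stkalgebra1.IsIntegralOverIdeal I s := by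
  classical
  obtain ⟨P, hP, hroot⟩ := h
  obtain ⟨d, hd⟩ : ∃ d, d = P.natDegree := ⟨_, rfl⟩
  let a : ℕ → R := fun j => ((P.coeff j : reesAlgebra I) : R[X]).coeff (d - j)
  let p : R[X] := ∑ j ∈ Finset.range (d + 1), monomial j (a j)
  have hpdeg : p.natDegree ≤ d := by
    refine Polynomial.natDegree_sum_le_of_forall_le _ _ fun j hj => ?_
    exact (natDegree_monomial_le _).trans (Nat.lt_succ_iff.mp (Finset.mem_range.mp hj))
  have hpcoeff : ∀ j, j ≤ d → p.coeff j = a j := by
    intro j hj
    simp only [p, finset_sum_coeff, coeff_monomial]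
    rw [Finset.sum_ite_eq' (Finset.range (d + 1)) j, if_pos (Finset.mem_range.mpr (by omega))]
  have had : a d = 1 := by
    simp only [a, Nat.sub_self]
    rw [hd, hP.coeff_natDegree]
    simp
  have hmonic : p.Monic :=
    monic_of_natDegree_le_of_coeff_eq_one d hpdeg (by rw [hpcoeff d le_rfl, had])
  have hnat : p.natDegree = d := by
    rcases subsingleton_or_nontrivial R with hsub | hnt
    · have : Subsingleton (reesAlgebra I) := ⟨fun x y => Subtype.ext (Subsingleton.elim _ _)⟩
      have hP0 : P.natDegree = 0 := by rw [Subsingleton.elim P 0, natDegree_zero]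
      omega
    · apply le_antisymm hpdeg
      apply le_natDegree_of_ne_zero
      rw [hpcoeff d le_rfl, had]
      exact one_ne_zero
  refine ⟨p, hmonic, ?_, ?_⟩
  · intro j hj
    rw [hnat] at hj ⊢
    rw [hpcoeff j hj.le]
    exact (mem_reesAlgebra_iff I _).mp (P.coeff j).2 (d - j)
  · -- take the coefficient of `X^d`
    rw [eval₂_eq_sum_range, ← hd] at hroot
    have h1 := congrArg (fun q : S[X] => q.coeff d) hroot
    simp only [finset_sum_coeff, coeff_zero] at h1
    rw [eval₂_eq_sum_range, hnat]
    rw [← h1]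
    refine Finset.sum_congr rfl fun j hj => ?_
    have hjd : j ≤ d := Nat.lt_succ_iff.mp (Finset.mem_range.mp hj)
    rw [hpcoeff j hjd, CX_pow, ← mul_assoc, coeff_mul_X_pow', if_pos hjd, mul_comm _ (C (s ^ j)),
      coeff_C_mul, ρ_apply, coeff_map, mul_comm]

theorem isIntegralOverIdeal_iff (s : S) :
    W4stkalgebra1.IsIntegralOverIdeal I s ↔ (ρ (S := S) I).IsIntegralElem (C s * X) :=
  ⟨isIntegralElem_of_isIntegralOverIdeal I s, isIntegralOverIdeal_of_isIntegralElem I s⟩

/-- constants coming from `R` are integral over the Rees algebra -/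
lemma isIntegralElem_C_algebraMap (r : R) : (ρ (S := S) I).IsIntegralElem (C (algebraMap R S r)) := by
  have : C (algebraMap R S r) = ρ (S := S) I (algebraMap R (reesAlgebra I) r) := by
    rw [ρ_apply]
    change _ = (algebraMap R R[X] r).map (algebraMap R S)
    rw [← C_eq_algebraMap, map_C]
  rw [this]
  exact (ρ (S := S) I).isIntegralElem_map

/-- elements of `S` integral over `R` are integral over the Rees algebra -/
lemma isIntegralElem_C_of_isIntegral (s : S) (hs : IsIntegral R s) :
    (ρ (S := S) I).IsIntegralElem (C s) := by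
  obtain ⟨q, hq, hroot⟩ := hs
  refine ⟨q.map (algebraMap R (reesAlgebra I)), hq.map _, ?_⟩
  rw [eval₂_map]
  have hcomp : (ρ (S := S) I).comp (algebraMap R (reesAlgebra I)) = C.comp (algebraMap R S) := by
    refine RingHom.ext fun r => ?_
    change (algebraMap R R[X] r).map (algebraMap R S) = C (algebraMap R S r)
    rw [← C_eq_algebraMap, map_C]
  rw [hcomp]
  have := Polynomial.hom_eval₂ q (algebraMap R S) (C : S →+* S[X]) s
  rw [← this, hroot, map_zero]

theorem exists_submodule : ∃ N : Submodule R S, ∀ s : S, s ∈ N ↔ W4stkalgebra1.IsIntegralOverIdeal I s := by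
  refine ⟨{ carrier := {s | W4stkalgebra1.IsIntegralOverIdeal I s}
            add_mem' := ?_, zero_mem' := ?_, smul_mem' := ?_ }, fun s => Iff.rfl⟩
  · intro a b ha hb
    rw [Set.mem_setOf_eq, isIntegralOverIdeal_iff] at ha hb ⊢
    rw [C_add, add_mul]
    exact RingHom.IsIntegralElem.add _ ha hb
  · rw [Set.mem_setOf_eq, isIntegralOverIdeal_iff, C_0, zero_mul]
    exact (ρ (S := S) I).isIntegralElem_zero
  · intro r a ha
    rw [Set.mem_setOf_eq, isIntegralOverIdeal_iff] at ha ⊢
    rw [Algebra.smul_def, C_mul, mul_assoc]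
    exact RingHom.IsIntegralElem.mul _ (isIntegralElem_C_algebraMap I r) ha

theorem mul_isIntegralOverIdeal (s s' : S) (hs : IsIntegral R s)
    (hs' : W4stkalgebra1.IsIntegralOverIdeal I s') : W4stkalgebra1.IsIntegralOverIdeal I (s * s') := by
  rw [isIntegralOverIdeal_iff] at hs' ⊢
  rw [C_mul, mul_assoc]
  exact RingHom.IsIntegralElem.mul _ (isIntegralElem_C_of_isIntegral I s hs) hs'

end Groth.Agent.Helper3.IntOverIdeal
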