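import Mathlib

universe u
open TopologicalSpace

namespace Groth.Agent.Helper3.IsoPt

/-- In a Noetherian quasi-sober space, a closed point with no proper generizations is isolated. -/
theorem isOpen_singleton_of_isClosed_of_forall_specializes {X : Type*} [TopologicalSpace X]
    [NoetherianSpace X] [QuasiSober X] (x : X) (hc : IsClosed ({x} : Set X))
    (hg : ∀ y, y ⤳ x → y = x) : IsOpen ({x} : Set X) := by
  have hfin : (irreducibleComponents X).Finite := NoetherianSpace.finite_irreducibleComponents
  set D : Set X := ⋃₀ (irreducibleComponents X \ {{x}}) with hD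
  have hDc : IsClosed D := by
    rw [hD, Set.sUnion_eq_biUnion]
    refine Set.Finite.isClosed_biUnion (hfin.subset Set.diff_subset) ?_
    intro Z hZ
    exact isClosed_of_mem_irreducibleComponents Z hZ.1
  have key : ∀ Z ∈ irreducibleComponents X, x ∈ Z → Z = {x} := by
    intro Z hZ hxZ
    have hirr : IsIrreducible Z := hZ.1
    have hcl : IsClosed Z := isClosed_of_mem_irreducibleComponents Z hZ
    obtain ⟨η, hη⟩ := QuasiSober.sober hirr hcl
    have h1 : η ⤳ x := by
      rw [specializes_iff_mem_closure, hη.def]; exact hxZ
    have h2 := hg η h1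
    rw [← hη.def, h2, hc.closure_eq]
  have : ({x} : Set X) = Dᶜ := by
    ext y
    simp only [Set.mem_singleton_iff, Set.mem_compl_iff]
    constructor
    · rintro rfl ⟨Z, ⟨hZ, hZne⟩, hyZ⟩
      exact hZne (key Z hZ hyZ)
    · intro hy
      by_contra hne
      apply hy
      refine ⟨irreducibleComponent y, ⟨irreducibleComponent_mem_irreducibleComponents y, ?_⟩,
        mem_irreducibleComponent⟩
      intro h
      have : y ∈ ({x} : Set X) := h ▸ mem_irreducibleComponent
      exact hne this
  rw [this]
  exact hDc.isOpen_compl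

/-- A maximal ideal of a finite type algebra which is minimal in its fibre is quasi-finite. -/
theorem quasiFiniteAt_of_isMaximal_of_minimal {A B : Type u} [CommRing A] [CommRing B] [Algebra A B]
    [Algebra.FiniteType A B] (n : Ideal B) [hn : n.IsMaximal]
    (hmin : ∀ q : Ideal B, q.IsPrime → q.comap (algebraMap A B) = n.comap (algebraMap A B) →
      q ≤ n → q = n) : Algebra.QuasiFiniteAt A n := by
  let q : PrimeSpectrum B := ⟨n, hn.isPrime⟩
  refine Algebra.QuasiFiniteAt.of_isOpen_singleton_fiber q ?_
  let p := q.comap (algebraMap A B)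
  let e := PrimeSpectrum.preimageHomeomorphFiber A B p
  have : IsNoetherianRing (p.asIdeal.Fiber B) :=
    Algebra.FiniteType.isNoetherianRing p.asIdeal.ResidueField _
  have : NoetherianSpace (PrimeSpectrum.comap (algebraMap A B) ⁻¹' {p}) :=
    (noetherianSpace_iff_of_homeomorph e).mpr inferInstance
  have : QuasiSober (PrimeSpectrum.comap (algebraMap A B) ⁻¹' {p}) :=
    e.isClosedEmbedding.quasiSober
  refine isOpen_singleton_of_isClosed_of_forall_specializes _ ?_ ?_
  · have h1 : IsClosed ({q} : Set (PrimeSpectrum B)) :=
      (PrimeSpectrum.isClosed_singleton_iff_isMaximal q).mpr hn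
    have : ({⟨q, rfl⟩} : Set (PrimeSpectrum.comap (algebraMap A B) ⁻¹' {p})) =
        Subtype.val ⁻¹' ({q} : Set (PrimeSpectrum B)) := by
      ext y; simp [Subtype.ext_iff]
    rw [this]
    exact h1.preimage continuous_subtype_val
  · rintro ⟨y, hy⟩ hyx
    have h1 : y ⤳ q := hyx.map continuous_subtype_val
    rw [← PrimeSpectrum.le_iff_specializes] at h1
    have h2 : y.asIdeal.comap (algebraMap A B) = n.comap (algebraMap A B) := by
      have := congrArg PrimeSpectrum.asIdeal hy
      exact this
    have := hmin y.asIdeal y.2 h2 h1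
    apply Subtype.ext
    exact PrimeSpectrum.ext this

end Groth.Agent.Helper3.IsoPt
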