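import Mathlib
import Groth.Prelude

set_option autoImplicit false
set_option linter.style.haveILetI false
set_option linter.unusedSectionVars false
set_option linter.unusedVariables false
set_option linter.deprecated false
set_option linter.style.haveILetI false
set_option linter.unusedSectionVars false
set_option linter.unusedVariables false

universe u

open AlgebraicGeometry CategoryTheory Limits

namespace Groth.Agent.Helper3.IsogGalA

section Field

/-- A finite field extension `L/K` with at least `[L:K]` distinct `K`-endomorphisms indexed by `H`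
is Galois with `|Aut| = |H|`. -/
theorem galois_of_injective {K L : Type*} [Field K] [Field L] [Algebra K L]
    [FiniteDimensional K L] {H : Type*} (Θ : H → (L →ₐ[K] L)) (hΘ : Function.Injective Θ)
    (hcard : Module.finrank K L ≤ Nat.card H) :
    IsGalois K L ∧ Nat.card (L ≃ₐ[K] L) = Nat.card H := by
  classical
  haveI : Finite (L →ₐ[K] L) := inferInstance
  haveI : Finite H := Finite.of_injective Θ hΘ
  have h1 : Nat.card H ≤ Nat.card (L →ₐ[K] L) := Nat.card_le_card_of_injective Θ hΘ
  have h2 : Nat.card (L →ₐ[K] L) = Nat.card (L ≃ₐ[K] L) :=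
    (Nat.card_congr (algEquivEquivAlgHom K L).toEquiv).symm
  have h3 : Nat.card (L ≃ₐ[K] L) ≤ Module.finrank K L := by
    rw [Nat.card_eq_fintype_card]; exact AlgEquiv.card_le
  have h4 : Nat.card (L ≃ₐ[K] L) = Module.finrank K L := by omega
  exact ⟨IsGalois.of_card_aut_eq_finrank K L h4, by omega⟩

end Field

section Fun

variable {X Y : Scheme.{u}} [IsIntegral X] [IsIntegral Y]

/-- The map on function fields induced by a morphism preserving the generic point. -/
noncomputable def funMap (f : X ⟶ Y) (h : f (genericPoint X) = genericPoint Y) :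
    Y.functionField ⟶ X.functionField :=
  Y.presheaf.stalkSpecializes (specializes_of_eq h) ≫ f.stalkMap (genericPoint X)

lemma SpecMap_funMap (f : X ⟶ Y) (h : f (genericPoint X) = genericPoint Y) :
    Spec.map (funMap f h) ≫ Y.fromSpecStalk (genericPoint Y) =
      X.fromSpecStalk (genericPoint X) ≫ f := by
  rw [funMap, Spec.map_comp, Category.assoc, Scheme.SpecMap_stalkSpecializes_fromSpecStalk,
    Scheme.SpecMap_stalkMap_fromSpecStalk]

lemma funMap_comp_eq (φ : X ⟶ Y) (e : φ (genericPoint X) = genericPoint Y)
    (τ : X ⟶ X) (hτ : τ (genericPoint X) = genericPoint X) (h : τ ≫ φ = φ) :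
    funMap φ e ≫ funMap τ hτ = funMap φ e := by
  apply Spec.map_injective
  rw [← cancel_mono (Y.fromSpecStalk (genericPoint Y)), Spec.map_comp, Category.assoc,
    SpecMap_funMap, reassoc_of% (SpecMap_funMap τ hτ), h]

lemma funMap_injective (τ τ' : X ⟶ Y) (hτ : τ (genericPoint X) = genericPoint Y)
    (hτ' : τ' (genericPoint X) = genericPoint Y) (h : funMap τ hτ = funMap τ' hτ') :
    X.fromSpecStalk (genericPoint X) ≫ τ = X.fromSpecStalk (genericPoint X) ≫ τ' := by
  rw [← SpecMap_funMap τ hτ, ← SpecMap_funMap τ' hτ', h]

lemma genericPoint_map_of_surjective (τ : X ⟶ Y) [Surjective τ] :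
    τ (genericPoint X) = genericPoint Y := by
  have h1 : IsGenericPoint (τ (genericPoint X)) (closure (τ '' Set.univ)) :=
    (genericPoint_spec X).image τ.continuous
  rw [Set.image_univ, τ.surjective.range_eq, closure_univ] at h1
  exact h1.eq (genericPoint_spec Y)

/-- The algebra endomorphism of the function field induced by an endomorphism over the base. -/
noncomputable def funAlgHom (φ : X ⟶ Y) (e : φ (genericPoint X) = genericPoint Y)
    (τ : X ⟶ X) (hτ : τ (genericPoint X) = genericPoint X) (h : τ ≫ φ = φ) :
    letI := (funMap φ e).hom.toAlgebra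
    X.functionField →ₐ[Y.functionField] X.functionField :=
  letI := (funMap φ e).hom.toAlgebra
  { toRingHom := (funMap τ hτ).hom
    commutes' := fun r => by
      have := congr(($(funMap_comp_eq φ e τ hτ h)).hom r)
      simpa [RingHom.algebraMap_toAlgebra] using this }

end Fun

end Groth.Agent.Helper3.IsogGalA
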