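import Mathlib
import Groth.Prelude
import Groth.Agent.Helper3.IsogGalA

set_option autoImplicit false
set_option linter.style.haveILetI false
set_option linter.unusedSectionVars false
set_option linter.unusedVariables false
set_option linter.deprecated false
set_option linter.style.haveILetI false
set_option linter.unusedSectionVars false
set_option linter.unusedVariables false

universe u

open AlgebraicGeometry CategoryTheory Limits TensorProduct

namespace Groth.Agent.Helper3.IsogGalB

section Alg

variable {A B k : Type u} [CommRing A] [IsDomain A] [CommRing B] [Algebra A B]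
  [Module.Finite A B] [Module.Flat A B] [Algebra.Etale A B] [Field k] [IsSepClosed k] [Algebra A k]

lemma finrank_base : Module.finrank k (k ⊗[A] B) = Module.finrank A B := by
  have h1 : Module.rankAtStalk (R := k) (k ⊗[A] B) (⊥ : PrimeSpectrum k) =
      Module.finrank k (k ⊗[A] B) := by
    rw [Module.rankAtStalk_eq_finrank_of_free]; rfl
  rw [← h1, Module.rankAtStalk_baseChange, Module.rankAtStalk_eq,
    Ideal.finrank_fiber_eq_finrank]

lemma card_algHom_base : Nat.card ((k ⊗[A] B) →ₐ[k] k) = Module.finrank k (k ⊗[A] B) := by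
  haveI : Algebra.Etale k (k ⊗[A] B) := inferInstance
  haveI : Algebra.IsFiniteSplit k (k ⊗[A] B) := inferInstance
  rw [Nat.card_congr (Algebra.IsFiniteSplit.algHomEquivPrimeSpectrum k (k ⊗[A] B))]
  haveI : Finite (PrimeSpectrum (k ⊗[A] B)) := by
    haveI : Module.Finite k (k ⊗[A] B) := inferInstance
    haveI : IsArtinianRing (k ⊗[A] B) := isArtinian_of_tower k inferInstance
    infer_instance
  haveI := Fintype.ofFinite (PrimeSpectrum (k ⊗[A] B))
  rw [(Algebra.FormallyEtale.equivPiOfIsSepClosed k (k ⊗[A] B)).toLinearEquiv.finrank_eq,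
    Module.finrank_pi, Nat.card_eq_fintype_card]

theorem finrank_le_card_algHom : Module.finrank A B ≤ Nat.card (B →ₐ[A] k) := by
  rw [← finrank_base (k := k), ← card_algHom_base]
  let F : ((k ⊗[A] B) →ₐ[k] k) → (B →ₐ[A] k) := fun g =>
    (g.restrictScalars A).comp (Algebra.TensorProduct.includeRight)
  have hF : Function.Injective F := by
    intro g g' h
    apply Algebra.TensorProduct.ext
    · ext
    · ext b
      exact congr($h b)
  have hS : Function.Surjective F := by
    intro β
    refine ⟨Algebra.TensorProduct.lift (Algebra.ofId k k) β (fun _ _ => Commute.all _ _), ?_⟩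
    ext b
    simp [F]
  exact le_of_eq (Nat.card_eq_of_bijective F ⟨hF, hS⟩)

end Alg

section Sch

variable {X Y : Scheme.{u}} [IsIntegral X] [IsIntegral Y]
variable (φ : X ⟶ Y) [IsFinite φ] [Etale φ] (e : φ (genericPoint X) = genericPoint Y)
variable {k : Type u} [Field k] [IsSepClosed k] (y : Spec (CommRingCat.of k) ⟶ Y)

theorem finrank_le :
    letI := (IsogGalA.funMap φ e).hom.toAlgebra
    Module.Finite Y.functionField X.functionField ∧
    Module.finrank Y.functionField X.functionField ≤
      Nat.card {p : Spec (CommRingCat.of k) ⟶ X // p ≫ φ = y} := by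
  letI := (IsogGalA.funMap φ e).hom.toAlgebra
  obtain ⟨_, ⟨U', hU', rfl⟩, hyU, -⟩ := Y.isBasis_affineOpens.exists_subset_of_mem_open
    (Set.mem_univ (y (IsLocalRing.closedPoint k))) isOpen_univ
  have hU : IsAffineOpen (φ ⁻¹ᵁ U') := hU'.preimage φ
  haveI : Nonempty U' := ⟨⟨_, hyU⟩⟩
  have hηU' : genericPoint Y ∈ U' :=
    ((genericPoint_spec Y).mem_open_set_iff U'.isOpen).mpr (by simpa using ‹Nonempty U'›)
  haveI : Nonempty (φ ⁻¹ᵁ U') := ⟨⟨genericPoint X, by
    show φ (genericPoint X) ∈ U'
    rw [e]; exact hηU'⟩⟩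
  letI : Algebra Γ(Y, U') Γ(X, φ ⁻¹ᵁ U') := (φ.app U').hom.toAlgebra
  haveI : Module.Finite Γ(Y, U') Γ(X, φ ⁻¹ᵁ U') := φ.finite_app U' hU'
  have happ : φ.app U' = φ.appLE U' (φ ⁻¹ᵁ U') le_rfl := Scheme.Hom.app_eq_appLE ..
  haveI : Module.Flat Γ(Y, U') Γ(X, φ ⁻¹ᵁ U') := by
    have := φ.flat_appLE hU' hU le_rfl
    rw [← happ] at this
    exact this
  haveI : Algebra.Etale Γ(Y, U') Γ(X, φ ⁻¹ᵁ U') := by
    have := HasRingHomProperty.appLE (P := @Etale) φ ‹Etale φ› ⟨U', hU'⟩ ⟨φ ⁻¹ᵁ U', hU⟩ le_rfl
    rw [← happ] at this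
    exact this
  haveI := functionField_isFractionRing_of_isAffineOpen Y U' hU'
  haveI := functionField_isFractionRing_of_isAffineOpen X (φ ⁻¹ᵁ U') hU
  letI : Algebra Γ(Y, U') X.functionField :=
    ((algebraMap Γ(X, φ ⁻¹ᵁ U') X.functionField).comp
      (algebraMap Γ(Y, U') Γ(X, φ ⁻¹ᵁ U'))).toAlgebra
  haveI : IsScalarTower Γ(Y, U') Γ(X, φ ⁻¹ᵁ U') X.functionField := .of_algebraMap_eq' rfl
  haveI : IsScalarTower Γ(Y, U') Y.functionField X.functionField := by
    refine .of_algebraMap_eq' ?_
    have h2 := Scheme.Hom.germ_stalkMap φ U' (genericPoint X) (by rw [e]; exact hηU')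
    have h3 := TopCat.Presheaf.germ_stalkSpecializes Y.presheaf (U := U')
      hηU' (specializes_of_eq e)
    ext a
    have h4 := congr(($h2).hom a)
    have h5 := congr(($h3).hom a)
    simp only [RingHom.algebraMap_toAlgebra, IsogGalA.funMap, Scheme.germToFunctionField,
      RingHom.comp_apply, CommRingCat.hom_comp] at h4 h5 ⊢
    rw [← h4, ← h5]
  have hinj : Function.Injective (algebraMap Γ(Y, U') Γ(X, φ ⁻¹ᵁ U')) := by
    have h6 : Function.Injective (algebraMap Γ(Y, U') X.functionField) := by
      rw [IsScalarTower.algebraMap_eq Γ(Y, U') Y.functionField X.functionField]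
      exact (algebraMap Y.functionField X.functionField).injective.comp
        (IsFractionRing.injective Γ(Y, U') Y.functionField)
    rw [IsScalarTower.algebraMap_eq Γ(Y, U') Γ(X, φ ⁻¹ᵁ U') X.functionField] at h6
    exact Function.Injective.of_comp h6
  haveI : FaithfulSMul Γ(Y, U') Γ(X, φ ⁻¹ᵁ U') := (faithfulSMul_iff_algebraMap_injective _ _).mpr hinj
  have h1 : Module.finrank Y.functionField X.functionField =
      Module.finrank Γ(Y, U') Γ(X, φ ⁻¹ᵁ U') :=
    IsFractionRing.finrank_eq Γ(Y, U') Y.functionField Γ(X, φ ⁻¹ᵁ U') X.functionField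
  refine ⟨?_, ?_⟩
  · haveI : Algebra.IsAlgebraic Γ(Y, U') Γ(X, φ ⁻¹ᵁ U') := inferInstance
    exact Module.Finite.of_isLocalization Γ(Y, U') Γ(X, φ ⁻¹ᵁ U') (nonZeroDivisors Γ(Y, U'))
  · rw [h1]
    have hrange : Set.range y ⊆ Set.range hU'.fromSpec := by
      rw [hU'.range_fromSpec]
      rintro _ ⟨x, rfl⟩
      have : x = IsLocalRing.closedPoint k := Subsingleton.elim _ _
      rw [this]; exact hyU
    let y' : Spec (CommRingCat.of k) ⟶ Spec Γ(Y, U') := IsOpenImmersion.lift hU'.fromSpec y hrange
    have hy' : y' ≫ hU'.fromSpec = y := IsOpenImmersion.lift_fac ..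
    let ε : Γ(Y, U') ⟶ CommRingCat.of k := Spec.preimage y'
    have hε : Spec.map ε = y' := Spec.map_preimage _
    letI : Algebra Γ(Y, U') k := ε.hom.toAlgebra
    refine (finrank_le_card_algHom (A := Γ(Y, U')) (B := Γ(X, φ ⁻¹ᵁ U')) (k := k)).trans ?_
    have hnat : Spec.map (φ.app U') ≫ hU'.fromSpec = hU.fromSpec ≫ φ := by
      rw [happ]; exact IsAffineOpen.SpecMap_appLE_fromSpec φ hU' hU le_rfl
    let G : (Γ(X, φ ⁻¹ᵁ U') →ₐ[Γ(Y, U')] k) → {p : Spec (CommRingCat.of k) ⟶ X // p ≫ φ = y} :=
      fun β => ⟨Spec.map (CommRingCat.ofHom β.toRingHom) ≫ hU.fromSpec, by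
        rw [Category.assoc, ← hnat, ← Spec.map_comp_assoc, ← hy', ← hε]
        congr 2
        ext a
        exact β.commutes a⟩
    have hG : Function.Bijective G := by
      constructor
      · intro β β' h
        have h1 := congr(($h).1)
        simp only [G] at h1
        rw [cancel_mono] at h1
        have h2 := Spec.map_injective h1
        ext b
        exact congr(($h2).hom b)
      · rintro ⟨p, hp⟩
        have hpr : Set.range p ⊆ Set.range hU.fromSpec := by
          rw [hU.range_fromSpec]
          rintro _ ⟨x, rfl⟩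
          have : x = IsLocalRing.closedPoint k := Subsingleton.elim _ _
          rw [this]
          show φ (p (IsLocalRing.closedPoint k)) ∈ U'
          rw [← Scheme.Hom.comp_apply, hp]; exact hyU
        let p' : Spec (CommRingCat.of k) ⟶ Spec Γ(X, φ ⁻¹ᵁ U') :=
          IsOpenImmersion.lift hU.fromSpec p hpr
        have hp' : p' ≫ hU.fromSpec = p := IsOpenImmersion.lift_fac ..
        let β0 : Γ(X, φ ⁻¹ᵁ U') ⟶ CommRingCat.of k := Spec.preimage p'
        have hβ0 : Spec.map β0 = p' := Spec.map_preimage _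
        have hcomm : φ.app U' ≫ β0 = ε := by
          apply Spec.map_injective
          rw [← cancel_mono hU'.fromSpec, Spec.map_comp, Category.assoc, hnat, hβ0,
            reassoc_of% hp', hp, hε, hy']
        refine ⟨{ toRingHom := β0.hom, commutes' := fun a => congr(($hcomm).hom a) }, ?_⟩
        apply Subtype.ext
        simp only [G]
        rw [← hp', ← hβ0]
        rfl
    exact le_of_eq (Nat.card_eq_of_bijective G hG)

end Sch

end Groth.Agent.Helper3.IsogGalB
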