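import Mathlib
import Groth.Prelude
import Groth.Agent.Helper3.IsogGalA
import Groth.Agent.Helper3.IsogGalB0
import Groth.Agent.Helper3.CompGrpA
import Groth.Agent.Helper3.AbGalA

set_option autoImplicit false
set_option linter.style.haveILetI false
set_option linter.unusedSectionVars false
set_option linter.unusedVariables false
set_option linter.deprecated false
set_option linter.style.haveILetI false
set_option linter.unusedSectionVars false
set_option linter.unusedVariables false

universe u

open AlgebraicGeometry CategoryTheory Limits MonoidalCategory CartesianMonoidalCategory MonObj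

namespace Groth.Agent.Helper3.IsogGalC

open Groth.Agent.Helper3.CompGrpA Groth.Agent.Helper3.IsogGalA
open scoped CategoryTheory.Obj

variable {k : Type u} [Field k] [IsAlgClosed k]
  (E E' : Over (Spec (CommRingCat.of k)))
  [GrpObj E] [IsIntegral E.left] [GrpObj E'] [IsIntegral E'.left]
  (φ : E ⟶ E') [IsMonHom φ]

/-- translations by kernel points commute with `φ`. -/
lemma Rt_comp_hom (P : 𝟙_ (Over (Spec (CommRingCat.of k))) ⟶ E) (hP : P ≫ φ = η[E']) :
    Rt P ≫ φ = φ := by
  rw [Rt, MonObj.mul_comp, Category.id_comp, Category.assoc, hP]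
  rw [← Hom.one_def, _root_.mul_one]

lemma Rt_genericPoint (P : 𝟙_ (Over (Spec (CommRingCat.of k))) ⟶ E) :
    (Rt P).left (genericPoint E.left) = genericPoint E.left := by
  haveI : IsIso (Rt P).left := by
    have : IsIso (Rt P) := (RtIso P).isIso_hom
    exact inferInstanceAs (IsIso ((Over.forget _).map (Rt P)))
  exact genericPoint_map_of_surjective _

variable [IsFinite φ.left] [Etale φ.left]
  (e : φ.left (genericPoint E.left) = genericPoint E'.left)

/-- the kernel points -/
abbrev Ker := {P : 𝟙_ (Over (Spec (CommRingCat.of k))) ⟶ E // P ≫ φ = η[E']}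

/-- the function-field automorphism attached to a kernel point -/
noncomputable def Θ (P : Ker E E' φ) :
    letI := (funMap φ.left e).hom.toAlgebra
    E.left.functionField →ₐ[E'.left.functionField] E.left.functionField :=
  funAlgHom φ.left e (Rt P.1).left (Rt_genericPoint E P.1)
    (by rw [← Over.comp_left, Rt_comp_hom E E' φ P.1 P.2])

lemma Θ_injective [LocallyOfFiniteType E.hom] : Function.Injective (Θ E E' φ e) := by
  letI := (funMap φ.left e).hom.toAlgebra
  intro P Q h
  have h1 : funMap (Rt P.1).left (Rt_genericPoint E P.1) =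
      funMap (Rt Q.1).left (Rt_genericPoint E Q.1) := by
    ext a
    exact congr($h a)
  have h2 := funMap_injective _ _ _ _ h1
  let T : Over (Spec (CommRingCat.of k)) :=
    Over.mk (E.left.fromSpecStalk (genericPoint E.left) ≫ E.hom)
  let Ξ : T ⟶ E := Over.homMk (E.left.fromSpecStalk (genericPoint E.left)) rfl
  have h3 : Ξ ≫ Rt P.1 = Ξ ≫ Rt Q.1 := by
    apply Over.OverMorphism.ext
    exact h2
  rw [comp_Rt, comp_Rt] at h3
  have h4 : toUnit T ≫ P.1 = toUnit T ≫ Q.1 := mul_left_cancel h3
  have h5 : (toUnit T).left ≫ P.1.left = (toUnit T).left ≫ Q.1.left := congr(($h4).left)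
  apply Subtype.ext
  apply Over.OverMorphism.ext
  have hP : P.1.left ≫ E.hom = 𝟙 _ := by
    have := Over.w P.1
    simpa using this
  have hQ : Q.1.left ≫ E.hom = 𝟙 _ := by
    have := Over.w Q.1
    simpa using this
  exact AbGalA.rat_pt_ext (Ω := E.left.functionField) E.hom P.1.left Q.1.left hP hQ
    (toUnit T).left h5

/-- kernel points as scheme morphisms -/
noncomputable def kerEquiv : Ker E E' φ ≃
    {p : Spec (CommRingCat.of k) ⟶ E.left // p ≫ φ.left = η[E'].left} where
  toFun P := ⟨P.1.left, congr(($(P.2)).left)⟩
  invFun p := ⟨Over.homMk p.1 (by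
    have h1 : φ.left ≫ E'.hom = E.hom := Over.w φ
    have h2 : η[E'].left ≫ E'.hom = 𝟙 _ := by
      have := Over.w η[E']
      simpa using this
    show p.1 ≫ E.hom = 𝟙 _
    rw [← h1, reassoc_of% p.2, h2]
    rfl), by
    apply Over.OverMorphism.ext
    exact p.2⟩
  left_inv P := by
    apply Subtype.ext
    apply Over.OverMorphism.ext
    rfl
  right_inv p := rfl

theorem main [LocallyOfFiniteType E.hom] :
    letI := (funMap φ.left e).hom.toAlgebra
    IsGalois E'.left.functionField E.left.functionField ∧
      Nat.card (E.left.functionField ≃ₐ[E'.left.functionField] E.left.functionField) =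
        Nat.card (Ker E E' φ) := by
  letI := (funMap φ.left e).hom.toAlgebra
  obtain ⟨hfin, hle⟩ := IsogGalB.finrank_le φ.left e (k := k) η[E'].left
  haveI : FiniteDimensional E'.left.functionField E.left.functionField := hfin
  refine galois_of_injective (Θ E E' φ e) (Θ_injective E E' φ e) ?_
  rw [Nat.card_congr (kerEquiv E E' φ)]
  exact hle

end Groth.Agent.Helper3.IsogGalC
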