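import Mathlib

set_option linter.style.haveILetI false
set_option linter.unusedSectionVars false
set_option linter.unusedVariables false

namespace Groth.Agent.Helper3.JacMinors

universe u

/-- the set of `r × r` minors (with injective row/column selections) -/
def minors {S : Type*} [CommRing S] {m n : ℕ} (r : ℕ) (J : Matrix (Fin m) (Fin n) S) : Set S :=
  {d | ∃ (ρ : Fin r → Fin m) (γ : Fin r → Fin n), Function.Injective ρ ∧ Function.Injective γ ∧
    d = (J.submatrix ρ γ).det}

theorem minors_mul_mem {S : Type*} [CommRing S] {m l n r : ℕ} (a : Matrix (Fin l) (Fin m) S)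
    (J : Matrix (Fin m) (Fin n) S) (ρ : Fin r → Fin l) (γ : Fin r → Fin n)
    (hγ : Function.Injective γ) :
    ((a * J).submatrix ρ γ).det ∈ Ideal.span (minors r J) := by
  classical
  have h1 : (a * J).submatrix ρ γ =
      Matrix.of (fun t => ∑ j, a (ρ t) j • (fun u => J j (γ u))) := by
    ext t u
    simp [Matrix.mul_apply, Finset.sum_apply]
  rw [h1, Matrix.det]
  have h2 := (Matrix.detRowAlternating (R := S) (n := Fin r)).toMultilinearMap.map_sum
    (fun t j => a (ρ t) j • (fun u => J j (γ u)))
  simp only [AlternatingMap.coe_multilinearMap] at h2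
  show Matrix.detRowAlternating (fun t => ∑ j, a (ρ t) j • (fun u => J j (γ u))) ∈ _
  rw [h2]
  refine Ideal.sum_mem _ fun τ _ => ?_
  have h3 := (Matrix.detRowAlternating (R := S) (n := Fin r)).toMultilinearMap.map_smul_univ
    (fun t => a (ρ t) (τ t)) (fun t u => J (τ t) (γ u))
  simp only [AlternatingMap.coe_multilinearMap] at h3
  rw [h3, smul_eq_mul]
  refine Ideal.mul_mem_left _ _ ?_
  by_cases hτ : Function.Injective τ
  · exact Ideal.subset_span ⟨τ, γ, hτ, hγ, rfl⟩
  · have : Matrix.detRowAlternating (R := S) (fun t u => J (τ t) (γ u)) = 0 := by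
      refine AlternatingMap.map_eq_zero_of_not_injective _ _ ?_
      intro hinj
      apply hτ
      intro t t' htt
      apply hinj
      funext u
      show J (τ t) (γ u) = J (τ t') (γ u)
      rw [htt]
    rw [this]
    exact Ideal.zero_mem _

theorem le_aux {k S : Type*} [CommRing k] [CommRing S] [Algebra k S] {n m l : ℕ} (r : ℕ)
    (D : Fin n → Derivation k S S)
    (f : Fin m → S) (g : Fin l → S)
    (hgf : Ideal.span (Set.range g) ≤ Ideal.span (Set.range f)) :
    Ideal.span (minors r (Matrix.of fun (j : Fin l) (i : Fin n) => D i (g j))) ≤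
      Ideal.span (minors r (Matrix.of fun (j : Fin m) (i : Fin n) => D i (f j))) ⊔
        Ideal.span (Set.range f) := by
  classical
  rw [Ideal.span_le]
  rintro d ⟨ρ, γ, hρ, hγ, rfl⟩
  have hg : ∀ s, ∃ c : Fin m → S, ∑ j, c j * f j = g s := fun s =>
    Ideal.mem_span_range_iff_exists_fun.1 (hgf (Ideal.subset_span ⟨s, rfl⟩))
  choose a ha using hg
  set Jf : Matrix (Fin m) (Fin n) S := Matrix.of fun j i => D i (f j) with hJf
  set Jg : Matrix (Fin l) (Fin n) S := Matrix.of fun j i => D i (g j) with hJg
  set A : Matrix (Fin l) (Fin m) S := Matrix.of a with hA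
  set I := Ideal.span (Set.range f) with hI
  have hent : ∀ s i, Jg s i - (A * Jf) s i ∈ I := by
    intro s i
    have : Jg s i - (A * Jf) s i = ∑ j, f j * D i (a s j) := by
      simp only [hJg, hJf, hA, Matrix.of_apply, Matrix.mul_apply]
      rw [← ha s, map_sum]
      simp only [Derivation.leibniz, smul_eq_mul]
      rw [Finset.sum_add_distrib]
      ring
    rw [this]
    exact Ideal.sum_mem _ fun j _ => Ideal.mul_mem_right _ _ (Ideal.subset_span ⟨j, rfl⟩)
  have hdet : (Jg.submatrix ρ γ).det - ((A * Jf).submatrix ρ γ).det ∈ I := by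
    rw [← Ideal.Quotient.eq, RingHom.map_det, RingHom.map_det]
    congr 1
    ext t u
    simp only [RingHom.mapMatrix_apply, Matrix.map_apply, Matrix.submatrix_apply]
    rw [Ideal.Quotient.eq]
    exact hent _ _
  have h2 := minors_mul_mem A Jf ρ γ hγ
  have : (Jg.submatrix ρ γ).det =
      ((A * Jf).submatrix ρ γ).det + ((Jg.submatrix ρ γ).det - ((A * Jf).submatrix ρ γ).det) := by
    ring
  rw [SetLike.mem_coe, this]
  exact Ideal.add_mem _ (Ideal.mem_sup_left h2) (Ideal.mem_sup_right hdet)

theorem main (k : Type u) [Field k] (n m l r : ℕ)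
    (f : Fin m → MvPowerSeries (Fin n) k) (g : Fin l → MvPowerSeries (Fin n) k)
    (hfg : Ideal.span (Set.range f) = Ideal.span (Set.range g)) :
    Ideal.span {d : MvPowerSeries (Fin n) k | ∃ (ρ : Fin r → Fin m) (γ : Fin r → Fin n), Function.Injective ρ ∧ Function.Injective γ ∧
          d = ((Matrix.of fun (j : Fin m) (i : Fin n) => MvPowerSeries.pderiv k i (f j)).submatrix ρ γ).det} ⊔ Ideal.span (Set.range f) =
      Ideal.span {d : MvPowerSeries (Fin n) k | ∃ (ρ : Fin r → Fin l) (γ : Fin r → Fin n), Function.Injective ρ ∧ Function.Injective γ ∧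
          d = ((Matrix.of fun (j : Fin l) (i : Fin n) => MvPowerSeries.pderiv k i (g j)).submatrix ρ γ).det} ⊔ Ideal.span (Set.range g) := by
  have h1 := le_aux r (fun i => MvPowerSeries.pderiv k i) f g hfg.ge
  have h2 := le_aux r (fun i => MvPowerSeries.pderiv k i) g f hfg.le
  refine le_antisymm (sup_le h2 (hfg ▸ le_sup_right)) (sup_le h1 (hfg ▸ le_sup_right))

end Groth.Agent.Helper3.JacMinors
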