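import Mathlib
import Groth.Agent.Helper7.SmVarB

set_option linter.style.haveILetI false
set_option linter.unusedSectionVars false
set_option linter.unusedVariables false

namespace Groth.Agent.Helper3.JacRat

universe u

open IsLocalRing TensorProduct

/-- dimension of the base change of a finitely presented module to a field, in terms of the rank
of the relation matrix -/
theorem finrank_baseChange_add_rank {A : Type*} [CommRing A] (κ : Type*) [Field κ] [Algebra A κ]
    {M : Type*} [AddCommGroup M] [Module A M] (n r : ℕ)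
    (ρ : (Fin r →₀ A) →ₗ[A] (Fin n →₀ A)) (π : (Fin n →₀ A) →ₗ[A] M)
    (hex : Function.Exact ρ π) (hπ : Function.Surjective π) :
    Module.finrank κ (κ ⊗[A] M) +
      (Matrix.of fun (i : Fin r) (j : Fin n) =>
        algebraMap A κ (ρ (Finsupp.single i 1) j)).rank = n := by
  classical
  let f := ρ.baseChange κ
  let g := π.baseChange κ
  have hg : Function.Surjective g := LinearMap.lTensor_surjective κ hπ
  have hfg : Function.Exact f g := lTensor_exact κ hex hπ
  let b : Module.Basis (Fin n) κ (κ ⊗[A] (Fin n →₀ A)) :=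
    (Finsupp.basisSingleOne (R := A) (ι := Fin n)).baseChange κ
  let b' : Module.Basis (Fin r) κ (κ ⊗[A] (Fin r →₀ A)) :=
    (Finsupp.basisSingleOne (R := A) (ι := Fin r)).baseChange κ
  have h1 := LinearMap.finrank_range_add_finrank_ker g
  rw [LinearMap.range_eq_top.2 hg, finrank_top, Module.finrank_eq_card_basis b,
    Fintype.card_fin, LinearMap.exact_iff.1 hfg] at h1
  refine Eq.trans ?_ h1
  congr 1
  have h2 := Matrix.rank_eq_finrank_range_toLin (LinearMap.toMatrix b' b f) b b'
  rw [Matrix.toLin_toMatrix] at h2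
  rw [← h2, ← Matrix.rank_transpose]
  congr 1
  ext i j
  rw [Matrix.transpose_apply, LinearMap.toMatrix_apply, Matrix.of_apply]
  symm
  show b.repr (f (b' j)) i = _
  rw [Module.Basis.baseChange_apply]
  show b.repr ((ρ.baseChange κ) (1 ⊗ₜ _)) i = _
  rw [LinearMap.baseChange_tmul, Module.Basis.baseChange_repr_tmul]
  simp [Algebra.smul_def]

/-- the rank of a matrix is invariant under a field isomorphism -/
theorem rank_map_of_bijective {k κ : Type*} [Field k] [Field κ] [Algebra k κ]
    (hbij : Function.Bijective (algebraMap k κ)) {r n : ℕ} (J : Matrix (Fin r) (Fin n) k) :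
    (J.map (algebraMap k κ)).rank = J.rank := by
  classical
  rw [Matrix.rank_eq_finrank_span_row, Matrix.rank_eq_finrank_span_row]
  have h1 : Module.finrank k κ = 1 := by
    have e : k ≃ₗ[k] κ := LinearEquiv.ofBijective (Algebra.linearMap k κ) hbij
    rw [← e.finrank_eq, Module.finrank_self]
  set S := Submodule.span κ (Set.range (J.map (algebraMap k κ)).row) with hS
  have h2 : Module.finrank k S = Module.finrank κ S := by
    rw [← Module.finrank_mul_finrank k κ S, h1, one_mul]
  rw [← h2]
  have h3 : S.restrictScalars k = Submodule.span k (Set.range (J.map (algebraMap k κ)).row) :=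
    Submodule.restrictScalars_span k κ hbij.2 _
  let e : k ≃ₗ[k] κ := LinearEquiv.ofBijective (Algebra.linearMap k κ) hbij
  let L : (Fin n → k) ≃ₗ[k] (Fin n → κ) := LinearEquiv.piCongrRight (fun _ => e)
  have h4 : Submodule.span k (Set.range (J.map (algebraMap k κ)).row) =
      (Submodule.span k (Set.range J.row)).map (L : (Fin n → k) →ₗ[k] (Fin n → κ)) := by
    rw [Submodule.map_span, ← Set.range_comp]
    congr 1
  have h5 : Module.finrank k S = Module.finrank k (S.restrictScalars k) := rfl
  rw [h5, h3, h4]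
  exact LinearEquiv.finrank_map_eq L _

section main

variable (k : Type u) [Field k] (n r : ℕ) (F : Fin r → MvPolynomial (Fin n) k) (a : Fin n → k)
  (𝔪 : Ideal (MvPolynomial (Fin n) k ⧸ Ideal.span (Set.range F))) [𝔪.IsMaximal]
  (h𝔪 : 𝔪.comap (Ideal.Quotient.mk (Ideal.span (Set.range F))) =
    RingHom.ker (MvPolynomial.eval a))

include h𝔪 in
theorem algebraMap_mk (g : MvPolynomial (Fin n) k) :
    algebraMap (MvPolynomial (Fin n) k ⧸ Ideal.span (Set.range F)) 𝔪.ResidueField
      (Ideal.Quotient.mk _ g) = algebraMap k 𝔪.ResidueField (MvPolynomial.eval a g) := by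
  have h1 : g - MvPolynomial.C (MvPolynomial.eval a g) ∈ RingHom.ker (MvPolynomial.eval a) := by
    rw [RingHom.mem_ker, map_sub, MvPolynomial.eval_C, sub_self]
  rw [← h𝔪, Ideal.mem_comap] at h1
  have h2 := (Ideal.algebraMap_residueField_eq_zero (I := 𝔪)).2 h1
  rw [map_sub, map_sub, sub_eq_zero] at h2
  rw [h2]
  have h3 : Ideal.Quotient.mk (Ideal.span (Set.range F)) (MvPolynomial.C (MvPolynomial.eval a g)) =
      algebraMap k _ (MvPolynomial.eval a g) := rfl
  rw [h3, ← IsScalarTower.algebraMap_apply]

include h𝔪 in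
theorem bijective_algebraMap :
    Function.Bijective (algebraMap k 𝔪.ResidueField) := by
  refine ⟨(algebraMap k 𝔪.ResidueField).injective, fun y => ?_⟩
  obtain ⟨z, rfl⟩ := (Ideal.bijective_algebraMap_quotient_residueField 𝔪).2 y
  obtain ⟨x, rfl⟩ := Ideal.Quotient.mk_surjective z
  obtain ⟨g, rfl⟩ := Ideal.Quotient.mk_surjective x
  refine ⟨MvPolynomial.eval a g, ?_⟩
  rw [← algebraMap_mk k n r F a 𝔪 h𝔪 g]
  rfl

/-- the fibre of the differentials at a rational closed point has the dimension of the cotangent
space (after Helper7.SmVar.finrank_fiber_kaehler) -/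
theorem finrank_fiber_kaehler {A : Type u} [CommRing A] [Algebra k A] (m : Ideal A) [m.IsMaximal]
    (hbij : Function.Bijective (algebraMap k m.ResidueField)) :
    Module.finrank m.ResidueField (m.ResidueField ⊗[A] Ω[A⁄k]) =
      Module.finrank (ResidueField (Localization.AtPrime m))
        (CotangentSpace (Localization.AtPrime m)) := by
  rw [← Groth.Agent.Helper7.SmVar.finrank_residueField_tensor_kaehler k (Localization.AtPrime m)
    hbij]
  let e1 : Localization.AtPrime m ⊗[A] Ω[A⁄k] ≃ₗ[Localization.AtPrime m]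
      Ω[Localization.AtPrime m⁄k] :=
    KaehlerDifferential.tensorKaehlerEquivOfFormallyEtale k A (Localization.AtPrime m)
  let e2 : m.ResidueField ⊗[Localization.AtPrime m] (Localization.AtPrime m ⊗[A] Ω[A⁄k])
      ≃ₗ[m.ResidueField] m.ResidueField ⊗[A] Ω[A⁄k] :=
    AlgebraTensorModule.cancelBaseChange _ _ _ _ _
  let e3 : m.ResidueField ⊗[Localization.AtPrime m] (Localization.AtPrime m ⊗[A] Ω[A⁄k])
      ≃ₗ[m.ResidueField] m.ResidueField ⊗[Localization.AtPrime m] Ω[Localization.AtPrime m⁄k] :=
    e1.baseChange _ _ _ _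
  exact (e2.symm.trans e3).finrank_eq

include h𝔪 in
theorem main :
    Module.finrank (IsLocalRing.ResidueField (Localization.AtPrime 𝔪))
        (IsLocalRing.CotangentSpace (Localization.AtPrime 𝔪)) +
      (Matrix.of fun i j => MvPolynomial.eval a (MvPolynomial.pderiv j (F i))).rank = n := by
  have hbij := bijective_algebraMap k n r F a 𝔪 h𝔪
  rw [← finrank_fiber_kaehler k 𝔪 hbij]
  let pres := (Algebra.Presentation.naive (R := k) (v := F)).differentials
  have hpres := pres.toIsPresentation
  let ρ : (Fin r →₀ (MvPolynomial (Fin n) k ⧸ Ideal.span (Set.range F))) →ₗ[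
      MvPolynomial (Fin n) k ⧸ Ideal.span (Set.range F)]
      (Fin n →₀ (MvPolynomial (Fin n) k ⧸ Ideal.span (Set.range F))) := pres.map
  let π : (Fin n →₀ (MvPolynomial (Fin n) k ⧸ Ideal.span (Set.range F))) →ₗ[
      MvPolynomial (Fin n) k ⧸ Ideal.span (Set.range F)]
      Ω[(MvPolynomial (Fin n) k ⧸ Ideal.span (Set.range F))⁄k] := pres.π
  have hrel : ∀ (i : Fin r) (j : Fin n), (ρ (Finsupp.single i 1)) j =
      Ideal.Quotient.mk _ (MvPolynomial.pderiv j (F i)) := by
    intro i j
    have h1 : ρ (Finsupp.single i 1) = pres.relation i :=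
      Module.Relations.map_single pres.toRelations i
    rw [h1]
    show algebraMap (MvPolynomial (Fin n) k) (MvPolynomial (Fin n) k ⧸ Ideal.span (Set.range F))
      ((KaehlerDifferential.mvPolynomialBasis k (Fin n)).repr
      (KaehlerDifferential.D _ _ (F i)) j) = _
    rw [KaehlerDifferential.mvPolynomialBasis_repr_apply]
    rfl
  have key := finrank_baseChange_add_rank 𝔪.ResidueField n r ρ π hpres.exact
    hpres.surjective_π
  rw [← rank_map_of_bijective hbij]
  have hmat : (Matrix.of fun (i : Fin r) (j : Fin n) =>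
      algebraMap (MvPolynomial (Fin n) k ⧸ Ideal.span (Set.range F)) 𝔪.ResidueField
        (ρ (Finsupp.single i 1) j)) =
      (Matrix.of fun i j => MvPolynomial.eval a (MvPolynomial.pderiv j (F i))).map
        (algebraMap k 𝔪.ResidueField) := by
    ext i j
    rw [Matrix.map_apply, Matrix.of_apply, Matrix.of_apply, hrel,
      ← algebraMap_mk k n r F a 𝔪 h𝔪]
  rw [hmat] at key
  exact key

include h𝔪 in
theorem main2 :
    IsRegularLocalRing (Localization.AtPrime 𝔪) ↔
      ((Matrix.of fun i j => MvPolynomial.eval a (MvPolynomial.pderiv j (F i))).rank :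
        WithBot ℕ∞) + ringKrullDim (Localization.AtPrime 𝔪) = n := by
  have h := main k n r F a 𝔪 h𝔪
  haveI : IsNoetherianRing (MvPolynomial (Fin n) k ⧸ Ideal.span (Set.range F)) := inferInstance
  haveI : IsNoetherianRing (Localization.AtPrime 𝔪) :=
    IsLocalization.isNoetherianRing 𝔪.primeCompl _ inferInstance
  rw [IsRegularLocalRing.iff_finrank_cotangentSpace]
  have h1 : ringKrullDim (Localization.AtPrime 𝔪) ≤
      ((maximalIdeal (Localization.AtPrime 𝔪)).spanFinrank : ℕ) :=
    ringKrullDim_le_spanFinrank_maximalIdeal (Localization.AtPrime 𝔪)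
  have h0 : 0 ≤ ringKrullDim (Localization.AtPrime 𝔪) := ringKrullDim_nonneg_of_nontrivial
  obtain ⟨d, hd⟩ : ∃ d : ℕ, ringKrullDim (Localization.AtPrime 𝔪) = d := by
    generalize ringKrullDim (Localization.AtPrime 𝔪) = D at h0 h1
    induction D with
    | bot => simp at h0
    | coe D =>
      induction D with
      | top =>
        exfalso
        have : ((⊤ : ℕ∞) : WithBot ℕ∞) ≤ (((maximalIdeal (Localization.AtPrime 𝔪)).spanFinrank : ℕ∞) :
            WithBot ℕ∞) := h1
        rw [WithBot.coe_le_coe] at this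
        simp at this
      | coe d => exact ⟨d, rfl⟩
  rw [hd]
  norm_cast
  omega

end main

end Groth.Agent.Helper3.JacRat
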