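import Mathlib
import Groth.Prelude

set_option autoImplicit false
set_option linter.style.haveILetI false
set_option linter.unusedSectionVars false
set_option linter.unusedVariables false
set_option linter.deprecated false
set_option linter.style.haveILetI false
set_option linter.unusedSectionVars false
set_option linter.unusedVariables false

open TensorProduct KaehlerDifferential

universe u

namespace Groth.Agent.Helper3.JacReg

section ideal

variable {P : Type u} [CommRing P]

/-- `J ∩ (r) = J (r)` when `r` is `H_1`-regular modulo `J`. -/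
theorem inter_le (J : Ideal P) {r : ℕ} (rt : Fin r → P)
    (hreg : CAlgX.IsH1Regular (fun i => Ideal.Quotient.mk J (rt i))) :
    J ⊓ Ideal.span (Set.range rt) ≤ J * Ideal.span (Set.range rt) := by
  classical
  rintro z ⟨hzJ, hzr⟩
  obtain ⟨n, rfl⟩ := (Ideal.mem_span_range_iff_exists_fun).1 hzr
  have h0 : ∑ i, (fun l => Ideal.Quotient.mk J (n l)) i * (fun i => Ideal.Quotient.mk J (rt i)) i
      = 0 := by
    have : Ideal.Quotient.mk J (∑ i, n i * rt i) = 0 := Ideal.Quotient.eq_zero_iff_mem.2 hzJ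
    rw [map_sum] at this
    simpa [map_mul] using this
  have h1 := hreg _ h0
  -- the linear maps
  let π : (Fin r → P) →ₗ[P] (Fin r → P ⧸ J) :=
    LinearMap.pi (fun i => (Submodule.mkQ J).comp (LinearMap.proj i))
  let Θ : (Fin r → P) →ₗ[P] P := ∑ i, (LinearMap.proj i).smulRight (rt i)
  have hΘ : ∀ v : Fin r → P, Θ v = ∑ i, v i * rt i := by
    intro v
    simp [Θ, LinearMap.sum_apply]
  let S₀ : Set (Fin r → P) := {v | ∃ i j : Fin r, v = Pi.single i (rt j) - Pi.single j (rt i)}
  let S₁ : Set (Fin r → P ⧸ J) := {v | ∃ i j : Fin r,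
    v = Pi.single i (Ideal.Quotient.mk J (rt j)) - Pi.single j (Ideal.Quotient.mk J (rt i))}
  have hπS : π '' S₀ = S₁ := by
    ext v
    constructor
    · rintro ⟨w, ⟨i, j, rfl⟩, rfl⟩
      refine ⟨i, j, ?_⟩
      ext k
      simp only [π, LinearMap.pi_apply, LinearMap.comp_apply, LinearMap.proj_apply,
        Pi.sub_apply, Submodule.mkQ_apply, Pi.single_apply]
      split_ifs <;> simp
    · rintro ⟨i, j, rfl⟩
      refine ⟨_, ⟨i, j, rfl⟩, ?_⟩
      ext k
      simp only [π, LinearMap.pi_apply, LinearMap.comp_apply, LinearMap.proj_apply,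
        Pi.sub_apply, Submodule.mkQ_apply, Pi.single_apply]
      split_ifs <;> simp
  have h2 : (fun l => Ideal.Quotient.mk J (n l)) ∈ Submodule.span P S₁ := by
    have := Submodule.restrictScalars_span P (P ⧸ J) Ideal.Quotient.mk_surjective S₁
    rw [← this]
    exact h1
  rw [← hπS, ← Submodule.map_span] at h2
  obtain ⟨n', hn', hπn'⟩ := h2
  have hΘn' : Θ n' = 0 := by
    have hle : Submodule.span P S₀ ≤ LinearMap.ker Θ := by
      rw [Submodule.span_le]
      rintro v ⟨i, j, rfl⟩
      show Θ _ = 0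
      rw [hΘ]
      simp only [Pi.sub_apply, sub_mul, Finset.sum_sub_distrib, Pi.single_apply, ite_mul,
        zero_mul, Finset.sum_ite_eq', Finset.mem_univ, if_true]
      ring
    exact hle hn'
  have hdiff : ∀ l, n l - n' l ∈ J := by
    intro l
    have := congrFun hπn' l
    simp only [π, LinearMap.pi_apply, LinearMap.comp_apply, LinearMap.proj_apply,
      Submodule.mkQ_apply] at this
    have h3 : Ideal.Quotient.mk J (n' l) = Ideal.Quotient.mk J (n l) := this
    rw [← Ideal.Quotient.eq_zero_iff_mem, map_sub, h3, sub_self]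
  have hsum : ∑ i, n i * rt i = ∑ i, (n i - n' i) * rt i := by
    have : ∑ i, n' i * rt i = 0 := by rw [← hΘ]; exact hΘn'
    simp only [sub_mul, Finset.sum_sub_distrib, this, sub_zero]
  rw [hsum]
  refine Ideal.sum_mem _ (fun i _ => ?_)
  exact Ideal.mul_mem_mul (hdiff i) (Ideal.subset_span ⟨i, rfl⟩)

/-- the basic inclusion `J ∩ mK ⊆ mJ`. -/
theorem inter_mul_le (J K m : Ideal P) (hKm : K ≤ m) {r : ℕ} (rt : Fin r → P)
    (hK : K = J ⊔ Ideal.span (Set.range rt))
    (hreg : CAlgX.IsH1Regular (fun i => Ideal.Quotient.mk J (rt i))) :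
    J ⊓ (m * K) ≤ m * J := by
  rintro z ⟨hzJ, hzK⟩
  rw [hK, Ideal.mul_sup] at hzK
  obtain ⟨u, hu, w, hw, rfl⟩ := Submodule.mem_sup.1 hzK
  have huJ : u ∈ J := Ideal.mul_le_right hu
  have hwJ : w ∈ J := by
    have := J.sub_mem hzJ huJ
    simpa using this
  have hwr : w ∈ Ideal.span (Set.range rt) := Ideal.mul_le_right hw
  have h1 := inter_le J rt hreg ⟨hwJ, hwr⟩
  have hrm : Ideal.span (Set.range rt) ≤ m := by
    refine le_trans ?_ hKm
    rw [hK]
    exact le_sup_right
  have h2 : w ∈ m * J := by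
    rw [mul_comm]
    exact Ideal.mul_mono_right hrm h1
  exact (m * J).add_mem hu h2

theorem one_tmul_eq_zero_iff (m N : Ideal P) (x : N) :
    (1 : P ⧸ m) ⊗ₜ[P] x = 0 ↔ (x : P) ∈ m * N := by
  rw [← (quotTensorEquivQuotSMul N m).map_eq_zero_iff, quotTensorEquivQuotSMul_mk_one_tmul,
    Submodule.Quotient.mk_eq_zero]
  have hmap : Submodule.map N.subtype (m • (⊤ : Submodule P N)) = m * N := by
    rw [Submodule.map_smul'', Submodule.map_subtype_top]
    rfl
  constructor
  · intro h
    rw [← hmap]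
    exact Submodule.mem_map_of_mem h
  · intro h
    rw [← hmap] at h
    obtain ⟨y, hy, hyx⟩ := h
    have : y = x := Subtype.ext hyx
    rw [← this]
    exact hy

end ideal

end Groth.Agent.Helper3.JacReg
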