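import Mathlib
import Groth.Prelude
import Groth.Agent.Helper3.JacReg1

set_option autoImplicit false
set_option linter.style.haveILetI false
set_option linter.unusedSectionVars false
set_option linter.unusedVariables false
set_option linter.deprecated false
set_option linter.style.haveILetI false
set_option linter.unusedSectionVars false
set_option linter.unusedVariables false

open TensorProduct KaehlerDifferential

universe u

namespace Groth.Agent.Helper3.JacReg

section core

variable {R P : Type u} [CommRing R] [CommRing P] [Algebra R P]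

/-- every element of `(P/m) ⊗ N` is of the form `1 ⊗ x`. -/
theorem exists_one_tmul (m : Ideal P) {N : Type*} [AddCommGroup N] [Module P N]
    (x : (P ⧸ m) ⊗[P] N) : ∃ y : N, x = (1 : P ⧸ m) ⊗ₜ[P] y := by
  induction x using TensorProduct.induction_on with
  | zero => exact ⟨0, by simp⟩
  | tmul c b =>
    obtain ⟨p, rfl⟩ := Ideal.Quotient.mk_surjective c
    refine ⟨p • b, ?_⟩
    rw [← TensorProduct.smul_tmul]
    congr 1
    rw [Algebra.smul_def, mul_one]
    rfl
  | add a b ha hb =>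
    obtain ⟨ya, rfl⟩ := ha
    obtain ⟨yb, rfl⟩ := hb
    exact ⟨ya + yb, by rw [TensorProduct.tmul_add]⟩

/-- **Jacobian core**: if `P/K` is formally smooth and `K = J + (r)` with `r` `H_1`-regular
modulo `J`, then `P/J` is formally smooth. -/
theorem jac_core [Algebra.FormallySmooth R P] [Module.Free P Ω[P⁄R]] [Module.Finite P Ω[P⁄R]]
    (J K m : Ideal P) [m.IsMaximal] (hJ : J.FG) (hKm : K ≤ m) {r : ℕ} (rt : Fin r → P)
    (hK : K = J ⊔ Ideal.span (Set.range rt))
    [IsLocalRing (P ⧸ J)] [IsLocalRing (P ⧸ K)]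
    (hreg : CAlgX.IsH1Regular (fun i => Ideal.Quotient.mk J (rt i)))
    (hsm : Algebra.FormallySmooth R (P ⧸ K)) :
    Algebra.FormallySmooth R (P ⧸ J) := by
  have hJK : J ≤ K := by rw [hK]; exact le_sup_left
  have hJm : J ≤ m := hJK.trans hKm
  have hKfg : K.FG := by
    rw [hK]
    exact Submodule.FG.sup hJ ⟨(Set.finite_range rt).toFinset, by simp [Ideal.span]⟩
  letI algJ : Algebra (P ⧸ J) (P ⧸ m) := (Ideal.Quotient.factor hJm).toAlgebra
  letI algK : Algebra (P ⧸ K) (P ⧸ m) := (Ideal.Quotient.factor hKm).toAlgebra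
  haveI tJ : IsScalarTower P (P ⧸ J) (P ⧸ m) := IsScalarTower.of_algebraMap_eq (fun x => rfl)
  haveI tK : IsScalarTower P (P ⧸ K) (P ⧸ m) := IsScalarTower.of_algebraMap_eq (fun x => rfl)
  letI : Field (P ⧸ m) := Ideal.Quotient.field m
  have h₃J : IsLocalRing.maximalIdeal (P ⧸ J) ≤ RingHom.ker (algebraMap (P ⧸ J) (P ⧸ m)) := by
    have hs : Function.Surjective (algebraMap (P ⧸ J) (P ⧸ m)) :=
      Ideal.Quotient.factor_surjective hJm
    exact le_of_eq (IsLocalRing.eq_maximalIdeal (RingHom.ker_isMaximal_of_surjective _ hs)).symm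
  have h₃K : IsLocalRing.maximalIdeal (P ⧸ K) ≤ RingHom.ker (algebraMap (P ⧸ K) (P ⧸ m)) := by
    have hs : Function.Surjective (algebraMap (P ⧸ K) (P ⧸ m)) :=
      Ideal.Quotient.factor_surjective hKm
    exact le_of_eq (IsLocalRing.eq_maximalIdeal (RingHom.ker_isMaximal_of_surjective _ hs)).symm
  have h₂J : (RingHom.ker (algebraMap P (P ⧸ J))).FG := by
    rw [Ideal.Quotient.algebraMap_eq, Ideal.mk_ker]; exact hJ
  have h₂K : (RingHom.ker (algebraMap P (P ⧸ K))).FG := by
    rw [Ideal.Quotient.algebraMap_eq, Ideal.mk_ker]; exact hKfg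
  have hinjK := (Algebra.FormallySmooth.iff_injective_cotangentComplexBaseChange
    (R := R) (S := P ⧸ K) P (P ⧸ m) Ideal.Quotient.mk_surjective h₂K h₃K).mp hsm
  rw [Algebra.FormallySmooth.iff_injective_cotangentComplexBaseChange
    (R := R) (S := P ⧸ J) P (P ⧸ m) Ideal.Quotient.mk_surjective h₂J h₃J]
  rw [injective_iff_map_eq_zero]
  intro x hx
  obtain ⟨jj, rfl⟩ := exists_one_tmul m x
  have hkerJ : RingHom.ker (algebraMap P (P ⧸ J)) = J := by
    rw [Ideal.Quotient.algebraMap_eq, Ideal.mk_ker]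
  have hkerK : RingHom.ker (algebraMap P (P ⧸ K)) = K := by
    rw [Ideal.Quotient.algebraMap_eq, Ideal.mk_ker]
  have hjJ : (jj : P) ∈ J := hkerJ.le jj.2
  have hjK' : (jj : P) ∈ RingHom.ker (algebraMap P (P ⧸ K)) := hkerK.ge (hJK hjJ)
  have h1 : cotangentComplexBaseChange R (P ⧸ K) P (P ⧸ m) ((1 : P ⧸ m) ⊗ₜ[P] ⟨jj.1, hjK'⟩) = 0 := by
    rw [cotangentComplexBaseChange_tmul] at hx ⊢
    exact hx
  have h2 := (injective_iff_map_eq_zero _).1 hinjK _ h1
  rw [one_tmul_eq_zero_iff] at h2 ⊢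
  have h3 : (jj : P) ∈ m * K := Ideal.mul_mono_right hkerK.le h2
  have h4 := inter_mul_le J K m hKm rt hK hreg ⟨hjJ, h3⟩
  exact Ideal.mul_mono_right hkerJ.ge h4

end core

end Groth.Agent.Helper3.JacReg
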