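import Mathlib
import Groth.Prelude
import Groth.Agent.Helper3.JacReg2
import Groth.Agent.Helper3.KosLow3
import Groth.Agent.Helper3.TwoOfThree3

set_option autoImplicit false
set_option linter.style.haveILetI false
set_option linter.unusedSectionVars false
set_option linter.unusedVariables false
set_option linter.deprecated false
set_option linter.style.haveILetI false
set_option linter.unusedSectionVars false
set_option linter.unusedVariables false

open TensorProduct KaehlerDifferential RingTheory.Sequence

universe u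

namespace Groth.Agent.Helper3.JacReg

section pres

variable {R₀ T : Type u} [CommRing R₀] [CommRing T] [Algebra R₀ T]

/-- an essentially finitely presented algebra is a quotient, by a finitely generated ideal, of a
formally smooth algebra with finite free differentials (a localization of a polynomial ring). -/
theorem exists_presentation (hT : CAlgX.IsEssFinitePresentation R₀ T) :
    ∃ (P : Type u) (_ : CommRing P) (_ : Algebra R₀ P) (fP : P →ₐ[R₀] T),
      Function.Surjective fP ∧ (RingHom.ker fP).FG ∧ Algebra.FormallySmooth R₀ P ∧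
      Module.Free P Ω[P⁄R₀] ∧ Module.Finite P Ω[P⁄R₀] := by
  obtain ⟨S₀, _, _, _, _, M, hfp, hloc⟩ := hT
  obtain ⟨n, f₀, hf₀⟩ := Algebra.FiniteType.iff_quotient_mvPolynomial''.mp
    (inferInstance : Algebra.FiniteType R₀ S₀)
  let M' := M.comap f₀
  let P' := Localization M'
  let fP : P' →ₐ[R₀] T := IsLocalization.liftAlgHom (M := M')
      (f := (IsScalarTower.toAlgHom R₀ S₀ T).comp f₀) fun x ↦ by
    simpa using IsLocalization.map_units (M := M) _ ⟨f₀ x.1, x.2⟩
  have hf₁ : Function.Surjective fP := by
    intro x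
    obtain ⟨x, ⟨s, hs⟩, rfl⟩ := IsLocalization.exists_mk'_eq M x
    obtain ⟨x, rfl⟩ := hf₀ x
    obtain ⟨s, rfl⟩ := hf₀ s
    refine ⟨IsLocalization.mk' (M := M') _ x ⟨s, hs⟩, ?_⟩
    simp [fP, IsLocalization.lift_mk', Units.mul_inv_eq_iff_eq_mul, IsUnit.liftRight]
  have hfP : (RingHom.ker fP).FG := by
    have := Algebra.FinitePresentation.ker_fG_of_surjective _ hf₀
    convert! this.map (algebraMap _ P')
    refine le_antisymm ?_ (Ideal.map_le_iff_le_comap.mpr fun x hx ↦ by simp_all [fP])
    intro x hx
    obtain ⟨x, s, rfl⟩ := IsLocalization.exists_mk'_eq M' x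
    obtain ⟨a, ha, e⟩ : ∃ a ∈ M, a * f₀ x = 0 := by
      simpa [fP, IsLocalization.lift_mk', IsLocalization.map_eq_zero_iff M] using hx
    obtain ⟨a, rfl⟩ := hf₀ a
    rw [IsLocalization.mk'_mem_map_algebraMap_iff]
    exact ⟨a, ha, by simpa⟩
  have : Algebra.FormallyEtale (MvPolynomial (Fin n) R₀) P' := .of_isLocalization M'
  have : Algebra.FormallySmooth R₀ P' := .comp _ (MvPolynomial (Fin n) R₀) _
  have : Module.Free P' Ω[P'⁄R₀] :=
    .of_equiv (KaehlerDifferential.tensorKaehlerEquivOfFormallyEtale R₀ (MvPolynomial (Fin n) R₀) P')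
  exact ⟨P', inferInstance, inferInstance, fP, hf₁, hfP, inferInstance, inferInstance,
    inferInstance⟩

end pres

section main

variable {R₀ T B : Type u} [CommRing R₀] [CommRing T] [CommRing B]

/-- algebra version. -/
theorem local_main_alg [Algebra R₀ T] [Algebra R₀ B] [IsLocalRing T] [IsLocalRing B]
    (hT : CAlgX.IsEssFinitePresentation R₀ T) (ψ : T →ₐ[R₀] B) (hψ : Function.Surjective ψ)
    (rs : List T) (hrs : IsWeaklyRegular T rs) (hker : RingHom.ker ψ = Ideal.ofList rs)
    (hB : Algebra.FormallySmooth R₀ B) : Algebra.FormallySmooth R₀ T := by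
  obtain ⟨P, _, _, fP, hsurj, hfg, hPsm, hfree, hfin⟩ := exists_presentation hT
  let g : P →ₐ[R₀] B := ψ.comp fP
  have hg : Function.Surjective g := hψ.comp hsurj
  let J : Ideal P := RingHom.ker fP
  let K : Ideal P := RingHom.ker g
  let m : Ideal P := (IsLocalRing.maximalIdeal B).comap g
  haveI : m.IsMaximal := Ideal.comap_isMaximal_of_surjective g hg
  let eJ : (P ⧸ J) ≃ₐ[R₀] T := Ideal.quotientKerAlgEquivOfSurjective hsurj
  let eK : (P ⧸ K) ≃ₐ[R₀] B := Ideal.quotientKerAlgEquivOfSurjective hg
  haveI : IsLocalRing (P ⧸ J) := eJ.toRingEquiv.symm.isLocalRing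
  haveI : IsLocalRing (P ⧸ K) := eK.toRingEquiv.symm.isLocalRing
  have hKm : K ≤ m := by
    intro x hx
    show g x ∈ IsLocalRing.maximalIdeal B
    rw [RingHom.mem_ker.1 hx]
    exact Ideal.zero_mem _
  -- lift the sequence
  have hsurj' := hsurj
  choose lift hlift using hsurj'
  let rt : Fin rs.length → P := fun i => lift (rs.get i)
  have hrt : ∀ i, fP (rt i) = rs.get i := fun i => hlift _
  have hK : K = J ⊔ Ideal.span (Set.range rt) := by
    have h1 : K = (RingHom.ker ψ).comap fP := by
      ext x
      simp only [K, g, RingHom.mem_ker, Ideal.mem_comap]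
      rfl
    have h2 : Ideal.ofList rs = (Ideal.span (Set.range rt)).map fP := by
      rw [Ideal.map_span, ← Set.range_comp]
      have : (fP ∘ rt) = rs.get := funext hrt
      show _ = Ideal.span (Set.range (fP ∘ rt))
      rw [this, Set.range_list_get]
    rw [h1, hker, h2]
    rw [Ideal.comap_map_of_surjective fP hsurj (Ideal.span (Set.range rt)), sup_comm]
    rfl
  -- regularity
  have hreg : CAlgX.IsH1Regular (fun i => Ideal.Quotient.mk J (rt i)) := by
    refine KosLow.isH1Regular_of_isWeaklyRegular _ ?_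
    have h1 := (TwoOfThree.wr_map_ringEquiv eJ.toRingEquiv.symm rs).1 hrs
    have h2 : List.ofFn (fun i => Ideal.Quotient.mk J (rt i)) = rs.map eJ.toRingEquiv.symm := by
      apply List.ext_get
      · simp
      · intro i h1 h2
        rw [List.get_ofFn, List.get_eq_getElem, List.getElem_map]
        show _ = eJ.symm _
        rw [AlgEquiv.eq_symm_apply]
        show eJ (Ideal.Quotient.mk _ (rt _)) = _
        rw [Ideal.quotientKerAlgEquivOfSurjective_mk, hrt]
        rfl
    rw [h2]
    exact h1
  have hsmK : Algebra.FormallySmooth R₀ (P ⧸ K) := Algebra.FormallySmooth.of_equiv eK.symm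
  have := jac_core J K m hfg hKm rt hK hreg hsmK
  exact Algebra.FormallySmooth.of_equiv eJ

/-- ring hom version. -/
theorem local_main [IsLocalRing T] [IsLocalRing B] (φ : R₀ →+* T) (ψ : T →+* B)
    (hT : letI := φ.toAlgebra; CAlgX.IsEssFinitePresentation R₀ T)
    (hψ : Function.Surjective ψ) (rs : List T) (hrs : IsWeaklyRegular T rs)
    (hker : RingHom.ker ψ = Ideal.ofList rs)
    (hB : (ψ.comp φ).FormallySmooth) : φ.FormallySmooth := by
  letI := φ.toAlgebra
  letI := (ψ.comp φ).toAlgebra
  exact local_main_alg hT ⟨ψ, fun _ => rfl⟩ hψ rs hrs hker hB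

end main

end Groth.Agent.Helper3.JacReg
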