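import Mathlib
import Groth.Prelude
import Groth.Agent.Helper3.JacReg3
import Groth.Agent.Helper2.PtDesc
import Groth.Agent.Helper2.StalkEssFP
import Groth.Agent.Helper8.RegSeqB

set_option autoImplicit false
set_option linter.style.haveILetI false
set_option linter.unusedSectionVars false
set_option linter.unusedVariables false
set_option linter.deprecated false
set_option linter.style.haveILetI false
set_option linter.unusedSectionVars false
set_option linter.unusedVariables false

open CategoryTheory AlgebraicGeometry TopologicalSpace RingTheory.Sequence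

universe u

namespace Groth.Agent.Helper3.JacReg

open Groth.Agent.Helper8.RegSeqA Groth.Agent.Helper8.RegSeqB

theorem s3829 {X Y S : Scheme.{u}} (f : X ⟶ S) (h : Y ⟶ S)
    [LocallyOfFinitePresentation f] [LocallyOfFinitePresentation h] (j : Y ⟶ X)
    [IsClosedImmersion j]
    (hj : j ≫ f = h) (y : ↥Y) (hy : ∃ V : Y.Opens, y ∈ V ∧ Smooth (V.ι ≫ h))
    (hreg : ∃ (U : X.Opens) (hU : IsAffineOpen U), j y ∈ U ∧
      ∃ rs : List Γ(X, U), RingTheory.Sequence.IsRegular Γ(X, U) rs ∧
        j.ker.ideal ⟨U, hU⟩ = Ideal.ofList rs) :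
    ∃ U : X.Opens, j y ∈ U ∧ Smooth (U.ι ≫ f) := by
  subst hj
  rw [Groth.Agent.Helper2.PtDesc.smooth_nbhd_iff] at hy ⊢
  obtain ⟨U, hU, hz, rs, hrs, hker⟩ := hreg
  rw [j.ker_apply] at hker
  have hRegAt : RegAt j y :=
    ⟨U, hz, hU, rs, ((isRegular_iff_colon rs).mp hrs).1, hker⟩
  obtain ⟨rs₀, hrs₀, hker₀⟩ := stalk_of_regAt j y hRegAt
  have hcomp : ((j ≫ f).stalkMap y).hom = (j.stalkMap y).hom.comp (f.stalkMap (j y)).hom := by
    rw [Scheme.Hom.stalkMap_comp]
    rfl
  rw [hcomp] at hy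
  exact local_main (f.stalkMap (j y)).hom (j.stalkMap y).hom
    (Groth.Agent.Helper2.StalkEssFP.essFP_stalk f (j y)) (j.stalkMap_surjective y) rs₀
    hrs₀.toIsWeaklyRegular hker₀ hy

end Groth.Agent.Helper3.JacReg
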