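import Mathlib
import Groth.Prelude.Def_KZero

/-! `K₀` of finite projective modules over a local ring. -/

set_option autoImplicit false
universe u

open CategoryTheory

namespace Groth.Agent.Helper3.K0Local

variable (R : Type u) [CommRing R]

/-- finite projective modules -/
abbrev FP : ObjectProperty (ModuleCat.{u} R) :=
  fun M : ModuleCat.{u} R => Module.Finite R M ∧ Module.Projective R M

variable {R}

/-- the class of a finite projective module -/
noncomputable abbrev cls (M : Type u) [AddCommGroup M] [Module R M] (h : FP R (ModuleCat.of R M)) :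
    KZero.K0sub (FP R) :=
  QuotientAddGroup.mk (FreeAbelianGroup.of ⟨ModuleCat.of R M, h⟩)

lemma cls_eq_add {M₁ M₂ M₃ : Type u} [AddCommGroup M₁] [Module R M₁] [AddCommGroup M₂] [Module R M₂]
    [AddCommGroup M₃] [Module R M₃] (h₁ : FP R (ModuleCat.of R M₁)) (h₂ : FP R (ModuleCat.of R M₂))
    (h₃ : FP R (ModuleCat.of R M₃)) (f : M₁ →ₗ[R] M₂) (g : M₂ →ₗ[R] M₃)
    (hf : Function.Injective f) (hg : Function.Surjective g) (hfg : Function.Exact f g) :
    cls M₂ h₂ = cls M₁ h₁ + cls M₃ h₃ := by
  let S : ShortComplex (ModuleCat.{u} R) :=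
    ShortComplex.mk (ModuleCat.ofHom f) (ModuleCat.ofHom g) (by
      ext x
      exact hfg.apply_apply_eq_zero x)
  have hS : S.ShortExact :=
    { exact := (ShortComplex.ShortExact.moduleCat_exact_iff_function_exact S).mpr hfg
      mono_f := (ModuleCat.mono_iff_injective _).mpr hf
      epi_g := (ModuleCat.epi_iff_surjective _).mpr hg }
  have hmem : FreeAbelianGroup.of (⟨ModuleCat.of R M₂, h₂⟩ : Subtype (FP R)) -
      FreeAbelianGroup.of ⟨ModuleCat.of R M₁, h₁⟩ - FreeAbelianGroup.of ⟨ModuleCat.of R M₃, h₃⟩ ∈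
      KZero.relSub (FP R) :=
    AddSubgroup.subset_closure ⟨S, h₁, h₂, h₃, hS, rfl⟩
  have := (QuotientAddGroup.eq_zero_iff _).mpr hmem
  rw [QuotientAddGroup.mk_sub, QuotientAddGroup.mk_sub, sub_sub, sub_eq_zero] at this
  exact this

lemma fp_of_equiv {M N : Type u} [AddCommGroup M] [Module R M] [AddCommGroup N] [Module R N]
    (e : M ≃ₗ[R] N) (h : FP R (ModuleCat.of R M)) : FP R (ModuleCat.of R N) := by
  obtain ⟨h1, h2⟩ := h
  have h1' : Module.Finite R M := h1
  have h2' : Module.Projective R M := h2
  exact ⟨Module.Finite.equiv e, Module.Projective.of_equiv e⟩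

lemma fp_punit : FP R (ModuleCat.of R PUnit.{u+1}) :=
  ⟨(inferInstance : Module.Finite R PUnit.{u+1}), (inferInstance : Module.Projective R PUnit.{u+1})⟩

lemma cls_punit : cls (R := R) PUnit.{u+1} fp_punit = 0 := by
  have := cls_eq_add (R := R) fp_punit fp_punit fp_punit (0 : PUnit.{u+1} →ₗ[R] PUnit.{u+1})
    (0 : PUnit.{u+1} →ₗ[R] PUnit.{u+1}) (fun _ _ _ => Subsingleton.elim _ _)
    (fun _ => ⟨PUnit.unit, Subsingleton.elim _ _⟩) (fun _ => by simp)
  exact (add_eq_left.mp this.symm)

lemma cls_congr {M N : Type u} [AddCommGroup M] [Module R M] [AddCommGroup N] [Module R N]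
    (e : M ≃ₗ[R] N) (h : FP R (ModuleCat.of R M)) (h' : FP R (ModuleCat.of R N)) :
    cls M h = cls N h' := by
  have := cls_eq_add (R := R) fp_punit h h' (0 : PUnit.{u+1} →ₗ[R] M) e.toLinearMap
    (fun _ _ _ => Subsingleton.elim _ _) e.surjective (by
      intro y
      constructor
      · intro hy
        exact ⟨PUnit.unit, (e.injective (by simpa using hy.symm))⟩
      · rintro ⟨_, rfl⟩
        simp)
  rw [this, cls_punit, zero_add]

lemma fp_self : FP R (ModuleCat.of R R) :=
  ⟨(inferInstance : Module.Finite R R), (inferInstance : Module.Projective R R)⟩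

lemma fp_pi (n : ℕ) : FP R (ModuleCat.of R (Fin n → R)) :=
  ⟨(inferInstance : Module.Finite R (Fin n → R)), (inferInstance : Module.Projective R (Fin n → R))⟩

lemma fp_prod {M N : Type u} [AddCommGroup M] [Module R M] [AddCommGroup N] [Module R N]
    (h : FP R (ModuleCat.of R M)) (h' : FP R (ModuleCat.of R N)) :
    FP R (ModuleCat.of R (M × N)) := by
  obtain ⟨h1, h2⟩ := h
  obtain ⟨h1', h2'⟩ := h'
  have : Module.Finite R M := h1
  have : Module.Projective R M := h2
  have : Module.Finite R N := h1'
  have : Module.Projective R N := h2'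
  exact ⟨(inferInstance : Module.Finite R (M × N)), (inferInstance : Module.Projective R (M × N))⟩

lemma cls_prod {M N : Type u} [AddCommGroup M] [Module R M] [AddCommGroup N] [Module R N]
    (h : FP R (ModuleCat.of R M)) (h' : FP R (ModuleCat.of R N)) :
    cls (M × N) (fp_prod h h') = cls M h + cls N h' :=
  cls_eq_add h (fp_prod h h') h' (LinearMap.inl R M N) (LinearMap.snd R M N)
    LinearMap.inl_injective LinearMap.snd_surjective Function.Exact.inl_snd

lemma cls_pi (n : ℕ) : cls (Fin n → R) (fp_pi n) = n • cls R (fp_self (R := R)) := by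
  induction n with
  | zero =>
    let e : (Fin 0 → R) ≃ₗ[R] PUnit.{u+1} :=
      { toFun := fun _ => PUnit.unit
        invFun := fun _ => 0
        map_add' := fun _ _ => rfl
        map_smul' := fun _ _ => rfl
        left_inv := fun _ => Subsingleton.elim _ _
        right_inv := fun _ => rfl }
    rw [cls_congr e (fp_pi 0) fp_punit, cls_punit, zero_smul]
  | succ n ih =>
    have e := Fin.consLinearEquiv R (fun _ : Fin n.succ => R)
    rw [← cls_congr e (fp_prod fp_self (fp_pi n)) (fp_pi (n + 1)), cls_prod fp_self (fp_pi n), ih, succ_nsmul, add_comm]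

theorem k0_equiv [IsLocalRing R] : ∃ e : KZero.K0sub (FP R) ≃+ ℤ,
    e (KZero.clSub (FP R) (ModuleCat.of R R)) = 1 := by
  classical
  have hfree : ∀ M : ModuleCat.{u} R, FP R M → Module.Free R M := by
    intro M hM
    have : Module.Finite R M := hM.1
    have : Module.Projective R M := hM.2
    exact Module.free_of_flat_of_isLocalRing
  let φ₀ : FreeAbelianGroup (Subtype (FP R)) →+ ℤ :=
    FreeAbelianGroup.lift fun X => (Module.finrank R X.1 : ℤ)
  have hrel : KZero.relSub (FP R) ≤ φ₀.ker := by
    rw [KZero.relSub, AddSubgroup.closure_le]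
    rintro x ⟨S, h₁, h₂, h₃, hS, rfl⟩
    rw [SetLike.mem_coe, AddMonoidHom.mem_ker]
    simp only [φ₀, map_sub, FreeAbelianGroup.lift_apply_of]
    have hf := (ModuleCat.mono_iff_injective _).mp hS.mono_f
    have hg := (ModuleCat.epi_iff_surjective _).mp hS.epi_g
    have hex := (ShortComplex.ShortExact.moduleCat_exact_iff_function_exact _).mp hS.exact
    have : Module.Finite R S.X₁ := h₁.1
    have : Module.Finite R S.X₃ := h₃.1
    have : Module.Projective R S.X₃ := h₃.2
    have : Module.Free R S.X₁ := hfree _ h₁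
    have : Module.Free R S.X₃ := hfree _ h₃
    obtain ⟨l, hl⟩ := Module.projective_lifting_property S.g.hom LinearMap.id hg
    let e := (hex.splitSurjectiveEquiv hf ⟨l, hl⟩).1
    have h1 : Module.finrank R S.X₂ = Module.finrank R S.X₁ + Module.finrank R S.X₃ := by
      rw [LinearEquiv.finrank_eq e, Module.finrank_prod]
    rw [h1]
    push_cast
    ring
  let φ : KZero.K0sub (FP R) →+ ℤ := QuotientAddGroup.lift (KZero.relSub (FP R)) φ₀ hrel
  let ψ : ℤ →+ KZero.K0sub (FP R) := zmultiplesHom _ (cls R (fp_self (R := R)))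
  have hφcls : ∀ (M : ModuleCat.{u} R) (hM : FP R M),
      φ (QuotientAddGroup.mk (FreeAbelianGroup.of ⟨M, hM⟩)) = (Module.finrank R M : ℤ) := by
    intro M hM
    simp [φ, φ₀]
  have hφψ : ∀ n : ℤ, φ (ψ n) = n := by
    intro n
    have h1 : φ (cls R (fp_self (R := R))) = 1 := by
      rw [hφcls]
      simp [Module.finrank_self]
    simp only [ψ, zmultiplesHom_apply, map_zsmul, h1, smul_eq_mul, mul_one]
  have hψφ : ∀ x : KZero.K0sub (FP R), ψ (φ x) = x := by
    intro x
    induction x using QuotientAddGroup.induction_on with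
    | H z =>
      induction z using FreeAbelianGroup.induction_on with
      | zero => simp
      | of X =>
        obtain ⟨M, hM⟩ := X
        rw [hφcls]
        have : Module.Finite R M := hM.1
        have : Module.Free R M := hfree M hM
        let e : M ≃ₗ[R] (Fin (Module.finrank R M) → R) := (Module.finBasis R M).equivFun
        have h2 : (QuotientAddGroup.mk (FreeAbelianGroup.of (⟨M, hM⟩ : Subtype (FP R))) :
            KZero.K0sub (FP R)) = cls M hM := rfl
        rw [h2, cls_congr e hM (fp_pi _), cls_pi]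
        simp only [ψ, zmultiplesHom_apply, natCast_zsmul]
      | neg X ih =>
        rw [QuotientAddGroup.mk_neg, map_neg, map_neg, ih]
      | add a b iha ihb =>
        rw [QuotientAddGroup.mk_add, map_add, map_add, iha, ihb]
  refine ⟨AddEquiv.mk' ⟨φ, ψ, hψφ, hφψ⟩ φ.map_add, ?_⟩
  have hR : FP R (ModuleCat.of R R) := fp_self
  rw [KZero.clSub, dif_pos hR]
  have h3 := hφcls (ModuleCat.of R R) hR
  rw [show (Module.finrank R (ModuleCat.of R R) : ℤ) = 1 by simp [Module.finrank_self]] at h3
  exact h3

end Groth.Agent.Helper3.K0Local
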