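import Mathlib
import Groth.Prelude.Def_DRing2
import Groth.Prelude.Def_DDual2
import Groth.Prelude.Def_LCI2
import Groth.Prelude.Def_MoreMor
import Groth.Agent.Helper3.KPerfC

/-! lci morphisms are locally of finite presentation, pseudo-coherent and perfect. -/

set_option autoImplicit false
set_option linter.style.haveILetI false
set_option linter.unusedSectionVars false
set_option linter.unusedVariables false
set_option linter.style.haveILetI false
set_option linter.unusedSectionVars false
set_option linter.unusedVariables false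
universe u
open CategoryTheory CategoryTheory.Limits TensorProduct AlgebraicGeometry

namespace Groth.Agent.Helper3.KPerfD

theorem fg_of_kregIdeal {P : Type u} [CommRing P] (I : Ideal P)
    (hI : LCI.IsKoszulRegularIdeal I) : I.FG := by
  obtain ⟨r, g, hg, hl⟩ := Groth.Agent.Helper3.KPerfB.exists_cover I hI
  refine Ideal.fg_of_localizationSpan (Set.range g) hg ?_
  rintro ⟨_, j, rfl⟩
  obtain ⟨l, -, hIl⟩ := hl j
  rw [hIl]
  exact Submodule.fg_span l.finite_toSet

theorem finitePresentation_of_isLCI (A B : Type u) [CommRing A] [CommRing B] [Algebra A B]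
    (h : LCI.IsLCI A B) : Algebra.FinitePresentation A B := by
  obtain ⟨-, n, f, hf, hK⟩ := h
  exact Algebra.FinitePresentation.of_surjective hf (fg_of_kregIdeal _ hK)

theorem s1514 {X S : Scheme.{u}} (f : X ⟶ S)
    (hf : (∀ (U : X.Opens) (V : S.Opens) (hU : IsAffineOpen U) (hV : IsAffineOpen V) (hUV : U ≤ f ⁻¹ᵁ V),
        letI := (f.appLE V U hUV).hom.toAlgebra
        LCI.IsLCI Γ(S, V) Γ(X, U))) :
    LocallyOfFinitePresentation f ∧ MoreMor.IsPseudoCoherentMor f ∧ MoreMor.IsPerfectMor f := by
  refine ⟨?_, ?_, ?_⟩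
  · rw [HasRingHomProperty.iff_appLE (P := @LocallyOfFinitePresentation)]
    intro V U e
    letI := (f.appLE V.1 U.1 e).hom.toAlgebra
    exact finitePresentation_of_isLCI _ _ (hf U.1 V.1 U.2 V.2 e)
  · intro U V hU hV hUV
    letI := (f.appLE V U hUV).hom.toAlgebra
    exact (Groth.Agent.Helper3.KPerfC.main (hf U V hU hV hUV)).1
  · intro U V hU hV hUV
    letI := (f.appLE V U hUV).hom.toAlgebra
    exact Groth.Agent.Helper3.KPerfC.main (hf U V hU hV hUV)

end Groth.Agent.Helper3.KPerfD
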