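import Mathlib
import Groth.Agent.Helper7.SmVarB

set_option linter.style.haveILetI false
set_option linter.unusedSectionVars false
set_option linter.unusedVariables false

namespace Groth.Agent.Helper3.KaehlerFreeReg

universe u

open IsLocalRing TensorProduct

/-- Zariski's trick: a derivation `D` stabilizing `I` with `D x = 1`, `x ∈ 𝔪`, characteristic zero:
`x` is a nonzerodivisor modulo `I`. -/
theorem mem_of_mul_mem {k R : Type*} [Field k] [CharZero k] [CommRing R] [Algebra k R]
    [IsLocalRing R] [IsNoetherianRing R]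
    (I : Ideal R) (D : Derivation k R R) (hD : ∀ a ∈ I, D a ∈ I) (x : R)
    (hx : x ∈ maximalIdeal R) (hDx : D x = 1)
    (a : R) (ha : x * a ∈ I) : a ∈ I := by
  have key : ∀ s : ℕ, ∃ b, a - b * x ^ s ∈ I ∧ b * x ^ (s + 1) ∈ I := by
    intro s
    induction s with
    | zero => exact ⟨a, by simp, by simpa [mul_comm] using ha⟩
    | succ s ih =>
      obtain ⟨b, h1, h2⟩ := ih
      set c : R := algebraMap k R (((s + 1 : ℕ) : k)⁻¹) with hc
      have hc1 : c * ((s + 1 : ℕ) : R) = 1 := by
        rw [hc, ← map_natCast (algebraMap k R), ← map_mul, inv_mul_cancel₀, map_one]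
        exact_mod_cast Nat.succ_ne_zero s
      have h3 := hD _ h2
      rw [Derivation.leibniz, Derivation.leibniz_pow, hDx] at h3
      simp only [smul_eq_mul, Nat.add_sub_cancel, mul_one, nsmul_eq_mul] at h3
      have h4 : b * x ^ s + c * (x ^ (s + 1) * D b) ∈ I := by
        have := I.mul_mem_left c h3
        convert this using 1
        rw [mul_add]
        congr 1
        calc b * x ^ s = (c * ((s + 1 : ℕ) : R)) * (b * x ^ s) := by rw [hc1, one_mul]
          _ = _ := by ring
      have h5 : a - -(c * D b) * x ^ (s + 1) ∈ I := by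
        have : a - -(c * D b) * x ^ (s + 1) =
            (a - b * x ^ s) + (b * x ^ s + c * (x ^ (s + 1) * D b)) := by ring
        rw [this]; exact I.add_mem h1 h4
      refine ⟨-(c * D b), h5, ?_⟩
      have : -(c * D b) * x ^ (s + 1 + 1) = x * a - x * (a - -(c * D b) * x ^ (s + 1)) := by ring
      rw [this]; exact I.sub_mem ha (I.mul_mem_left _ h5)
  have hK := Ideal.iInf_pow_smul_eq_bot_of_isLocalRing (R := R) (M := R ⧸ I) (maximalIdeal R)
    (Ideal.IsPrime.ne_top inferInstance)
  have hmem : Ideal.Quotient.mk I a ∈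
      (⨅ i : ℕ, maximalIdeal R ^ i • (⊤ : Submodule R (R ⧸ I))) := by
    rw [Submodule.mem_iInf]
    intro s
    obtain ⟨b, h1, -⟩ := key s
    have e1 : Ideal.Quotient.mk I a = Ideal.Quotient.mk I (b * x ^ s) := by
      rw [Ideal.Quotient.eq]; exact h1
    have e2 : Ideal.Quotient.mk I (b * x ^ s) = (x ^ s) • (Ideal.Quotient.mk I b) := by
      rw [mul_comm]; rfl
    rw [e1, e2]
    exact Submodule.smul_mem_smul (Ideal.pow_mem_pow hx s) Submodule.mem_top
  rw [hK] at hmem
  exact Ideal.Quotient.eq_zero_iff_mem.1 ((Submodule.mem_bot _).1 hmem)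

theorem isWeaklyRegular_ofFn {k R : Type*} [Field k] [CharZero k] [CommRing R] [Algebra k R]
    [IsLocalRing R] [IsNoetherianRing R] (n : ℕ) (x : Fin n → R)
    (hxm : ∀ i, x i ∈ maximalIdeal R) (Dv : Fin n → Derivation k R R)
    (hDv : ∀ i j, Dv i (x j) = if i = j then 1 else 0) :
    RingTheory.Sequence.IsWeaklyRegular R (List.ofFn x) := by
  rw [RingTheory.Sequence.isWeaklyRegular_iff_Fin]
  intro i
  have hin : i.val < n := by simpa using i.2
  set i' : Fin n := ⟨i.val, hin⟩ with hi'
  have hget : (List.ofFn x)[i] = x i' := by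
    simp [hi']
  set J : Ideal R := Ideal.ofList ((List.ofFn x).take i) with hJ
  have hJs : (J • ⊤ : Submodule R R) = J := by
    simp
  have hDJ : ∀ a ∈ J, Dv i' a ∈ J := by
    intro a ha
    rw [hJ, Ideal.ofList] at ha
    induction ha using Submodule.span_induction with
    | mem r hr =>
      have hr' : r ∈ (List.ofFn x).take i := hr
      rw [List.mem_take_iff_getElem] at hr'
      obtain ⟨j, hj, rfl⟩ := hr'
      have hjn : j < n := by
        have := (lt_min_iff.1 hj).2
        simpa using this
      have hji : j < i.val := (lt_min_iff.1 hj).1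
      have : (List.ofFn x)[j]'(by simpa using hjn) = x ⟨j, hjn⟩ := by simp
      rw [this, hDv]
      rw [if_neg]
      · exact J.zero_mem
      · intro h
        have := congrArg Fin.val h
        simp [hi'] at this
        omega
    | zero => simp
    | add a b _ _ iha ihb => rw [map_add]; exact J.add_mem iha ihb
    | smul c a _ iha =>
      rw [smul_eq_mul, Derivation.leibniz]
      refine J.add_mem (J.mul_mem_left _ iha) ?_
      rw [smul_eq_mul, mul_comm]
      exact J.mul_mem_left _ (by
        rw [hJ, Ideal.ofList]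
        assumption)
  rw [hget]
  rw [isSMulRegular_iff_right_eq_zero_of_smul]
  intro m hm
  induction m using Submodule.Quotient.induction_on with
  | H a =>
    rw [← Submodule.Quotient.mk_smul, Submodule.Quotient.mk_eq_zero, hJs, smul_eq_mul] at hm
    rw [Submodule.Quotient.mk_eq_zero, hJs]
    exact mem_of_mul_mem J (Dv i') hDJ (x i') (hxm i') (by rw [hDv, if_pos rfl]) a hm

theorem main (k R : Type u) [Field k] [CharZero k]
    [CommRing R] [Algebra k R] [IsLocalRing R] [IsNoetherianRing R]
    (hres : Function.Surjective (algebraMap k (IsLocalRing.ResidueField R)))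
    (n : ℕ) (e : KaehlerDifferential k R ≃ₗ[R] (Fin n → R)) :
    IsRegularLocalRing R ∧ ringKrullDim R = n := by
  have hbij : Function.Bijective (algebraMap k (ResidueField R)) :=
    ⟨(algebraMap k (ResidueField R)).injective, hres⟩
  haveI : Module.Free R Ω[R⁄k] := Module.Free.of_equiv e.symm
  haveI : Module.Finite R Ω[R⁄k] := Module.Finite.equiv e.symm
  have hrk : Module.finrank R Ω[R⁄k] = n := by rw [e.finrank_eq]; simp
  have hT : Module.finrank (ResidueField R) (ResidueField R ⊗[R] Ω[R⁄k]) = n := by
    rw [Module.finrank_baseChange, hrk]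
  have hcot : Module.finrank (ResidueField R) (CotangentSpace R) = n := by
    rw [← Groth.Agent.Helper7.SmVar.finrank_residueField_tensor_kaehler k R hbij, hT]
  suffices hdim : ringKrullDim R = n by
    refine ⟨?_, hdim⟩
    rw [IsRegularLocalRing.iff_finrank_cotangentSpace, hcot, hdim]
  have hle : ringKrullDim R ≤ n := by
    have := ringKrullDim_le_spanFinrank_maximalIdeal R
    rwa [spanFinrank_maximalIdeal_eq_finrank_cotangentSpace, hcot] at this
  refine le_antisymm hle ?_
  let c : Module.Basis (Fin n) (ResidueField R) (ResidueField R ⊗[R] Ω[R⁄k]) :=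
    Module.finBasisOfFinrankEq _ _ hT
  have hφ := Groth.Agent.Helper7.SmVar.bijective_kerCotangentToTensor k R (ResidueField R)
    residue_surjective hbij
  have hx : ∀ i, ∃ x : R, x ∈ maximalIdeal R ∧
      (1 : ResidueField R) ⊗ₜ[R] KaehlerDifferential.D k R x = c i := by
    intro i
    obtain ⟨y, hy⟩ := hφ.2 (c i)
    obtain ⟨z, rfl⟩ := Ideal.toCotangent_surjective _ y
    refine ⟨z.1, ?_, ?_⟩
    · have := z.2
      rw [RingHom.mem_ker] at this
      exact (residue_eq_zero_iff _).1 this
    · rw [← hy, KaehlerDifferential.kerCotangentToTensor_toCotangent]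
  choose x hxm hxc using hx
  have hspan : Submodule.span R (Set.range (fun i => KaehlerDifferential.D k R (x i))) = ⊤ :=
    IsLocalRing.span_eq_top_of_tmul_eq_basis _ c hxc
  have hli : LinearIndependent R (fun i => KaehlerDifferential.D k R (x i)) :=
    linearIndependent_of_top_le_span_of_card_eq_finrank hspan.ge (by simp [hrk])
  let B : Module.Basis (Fin n) R Ω[R⁄k] := Module.Basis.mk hli hspan.ge
  have hB : ∀ i, B i = KaehlerDifferential.D k R (x i) := fun i => Module.Basis.mk_apply _ _ i
  let Dv : Fin n → Derivation k R R := fun i => (B.coord i).compDer (KaehlerDifferential.D k R)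
  have hDv : ∀ i j, Dv i (x j) = if i = j then 1 else 0 := by
    intro i j
    show B.coord i (KaehlerDifferential.D k R (x j)) = _
    rw [← hB, Module.Basis.coord_apply, Module.Basis.repr_self, Finsupp.single_apply]
    simp [eq_comm]
  have hw := isWeaklyRegular_ofFn n x hxm Dv hDv
  have hmem : ∀ r ∈ List.ofFn x, r ∈ maximalIdeal R := by
    intro r hr
    rw [List.mem_ofFn] at hr
    obtain ⟨i, rfl⟩ := hr
    exact hxm i
  have hreg : RingTheory.Sequence.IsRegular R (List.ofFn x) :=
    (IsLocalRing.isRegular_iff_isWeaklyRegular_of_subset_maximalIdeal hmem).2 hw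
  have hd := ringKrullDim_add_length_eq_ringKrullDim_of_isRegular _ hreg
  rw [List.length_ofFn] at hd
  rw [← hd]
  have hnt : Nontrivial (R ⧸ Ideal.ofList (List.ofFn x)) := by
    refine Ideal.Quotient.nontrivial_iff.2 ?_
    intro h
    have hle' : Ideal.ofList (List.ofFn x) ≤ maximalIdeal R := by
      rw [Ideal.ofList, Ideal.span_le]
      intro r hr
      exact hmem r hr
    rw [h] at hle'
    exact (Ideal.IsPrime.ne_top (inferInstance : (maximalIdeal R).IsPrime)) (top_le_iff.1 hle')
  have h0 : 0 ≤ ringKrullDim (R ⧸ Ideal.ofList (List.ofFn x)) := ringKrullDim_nonneg_of_nontrivial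
  exact le_add_of_nonneg_left h0

end Groth.Agent.Helper3.KaehlerFreeReg
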