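import Mathlib
import Groth.Agent.Helper3.KaehlerFreeReg
import Groth.Agent.Helper2.RegSmooth
import Groth.Agent.Helper1.FieldSmooth6
import Groth.Agent.S2091

set_option linter.style.haveILetI false
set_option linter.unusedSectionVars false
set_option linter.unusedVariables false

namespace Groth.Agent.Helper3.KaehlerFreeReg2

universe u

open IsLocalRing TensorProduct KaehlerDifferential

/-- injectivity of the conormal map at the closed point when the residue field is formally smooth -/
theorem kct_injective (k R : Type u) [Field k] [CommRing R] [Algebra k R] [IsLocalRing R]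
    [Algebra.FormallySmooth k (ResidueField R)] :
    Function.Injective (kerCotangentToTensor k R (ResidueField R)) := by
  have hsurj : Function.Surjective (algebraMap R (ResidueField R)) := IsLocalRing.residue_surjective
  let π₂ := (IsScalarTower.toAlgHom k R (ResidueField R)).kerSquareLift
  have hπ₂ : Function.Surjective π₂ := by
    intro y
    obtain ⟨r, rfl⟩ := hsurj y
    exact ⟨Ideal.Quotient.mk _ r, rfl⟩
  have hnil : IsNilpotent (RingHom.ker π₂.toRingHom) := by
    refine ⟨2, ?_⟩
    rw [(IsScalarTower.toAlgHom k R (ResidueField R)).ker_kerSquareLift,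
      Ideal.cotangentIdeal_square]
    rfl
  let g := Algebra.FormallySmooth.liftOfSurjective (AlgHom.id k (ResidueField R)) π₂ hπ₂ hnil
  have hg : π₂.comp g = AlgHom.id k (ResidueField R) :=
    Algebra.FormallySmooth.comp_liftOfSurjective _ _ hπ₂ hnil
  obtain ⟨l, hl⟩ := (retractionKerCotangentToTensorEquivSection (R := k) hsurj).symm ⟨g, hg⟩
  intro a b hab
  have := congrArg l hab
  rwa [← LinearMap.comp_apply, ← LinearMap.comp_apply, hl] at this

theorem main (k R : Type u) [Field k] [CharZero k] [CommRing R] [Algebra k R] [IsLocalRing R]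
    [IsNoetherianRing R] [Module.Free R Ω[R⁄k]] [Module.Finite R Ω[R⁄k]] :
    IsRegularLocalRing R := by
  classical
  haveI : Algebra.FormallySmooth k (ResidueField R) :=
    Groth.Agent.Helper1.FieldSmooth.formallySmooth_of_charZero
  have hφ := kct_injective k R
  set e := Module.finrank (ResidueField R) (CotangentSpace R) with he
  let b : Module.Basis (Fin e) (ResidueField R) (CotangentSpace R) :=
    Module.finBasisOfFinrankEq _ _ rfl
  have hx : ∀ i, ∃ x : maximalIdeal R, (maximalIdeal R).toCotangent x = b i :=
    fun i => Ideal.toCotangent_surjective _ (b i)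
  choose x hxb using hx
  have hli : LinearIndependent (ResidueField R)
      (fun i => (maximalIdeal R).toCotangent (x i)) := by
    simp_rw [hxb]; exact b.linearIndependent
  have hconc := (Groth.Agent.Helper2.RegSmooth.cot_li_iff x).1 hli
  have hker : RingHom.ker (algebraMap R (ResidueField R)) = maximalIdeal R :=
    IsLocalRing.ker_residue
  have hxm : ∀ i, (x i : R) ∈ maximalIdeal R := fun i => (x i).2
  have hkey : ∀ a : Fin e → R,
      ∑ i, a i • ((1 : ResidueField R) ⊗ₜ[R] D k R (x i : R)) = 0 →
      ∀ i, a i ∈ maximalIdeal R := by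
    intro a ha
    apply hconc a
    have hmem : ∑ i, a i * (x i : R) ∈ RingHom.ker (algebraMap R (ResidueField R)) := by
      rw [hker]
      exact Ideal.sum_mem _ fun i _ => Ideal.mul_mem_left _ _ (hxm i)
    have h0 : kerCotangentToTensor k R (ResidueField R)
        ((RingHom.ker (algebraMap R (ResidueField R))).toCotangent ⟨_, hmem⟩) = 0 := by
      rw [kerCotangentToTensor_toCotangent]
      simp only [map_sum, Derivation.leibniz, tmul_add, Finset.sum_add_distrib, tmul_sum]
      have h1 : ∀ i, (1 : ResidueField R) ⊗ₜ[R] ((x i : R) • D k R (a i)) = 0 := by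
        intro i
        rw [← smul_tmul, Algebra.smul_def, mul_one, IsLocalRing.ResidueField.algebraMap_eq,
          (residue_eq_zero_iff _).2 (hxm i), zero_tmul]
      have h2 : ∀ i, (1 : ResidueField R) ⊗ₜ[R] (a i • D k R (x i : R)) =
          a i • ((1 : ResidueField R) ⊗ₜ[R] D k R (x i : R)) := fun i => tmul_smul _ _ _
      simp only [h1, h2, Finset.sum_const_zero, zero_add, add_zero]
      exact ha
    have h1 := hφ (h0.trans (map_zero _).symm)
    rw [Ideal.toCotangent_eq_zero] at h1
    have h2 : ∑ i, a i * (x i : R) ∈ RingHom.ker (algebraMap R (ResidueField R)) ^ 2 := h1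
    rw [hker] at h2
    exact h2
  -- the linear map l : R^e → Ω
  let l : (Fin e → R) →ₗ[R] Ω[R⁄k] := Fintype.linearCombination R (fun i => D k R (x i : R))
  have hl : ∀ a : Fin e → R, l a = ∑ i, a i • D k R (x i : R) := fun a => by
    simp [l, Fintype.linearCombination_apply]
  have hlinj : Function.Injective (l.lTensor (ResidueField R)) := by
    rw [injective_iff_map_eq_zero]
    intro z hz
    -- write z via piScalarRight
    obtain ⟨c, rfl⟩ := (TensorProduct.piScalarRight R (ResidueField R) (ResidueField R)
      (Fin e)).symm.surjective z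
    have hc : c = ∑ i, Pi.single i (c i) := by
      ext j; simp [Finset.sum_apply, Pi.single_apply]
    choose a hac using fun i => residue_surjective (c i)
    have hz2 : (TensorProduct.piScalarRight R (ResidueField R) (ResidueField R) (Fin e)).symm c =
        ∑ i, (1 : ResidueField R) ⊗ₜ[R] (Pi.single i (a i) : Fin e → R) := by
      conv_lhs => rw [hc]
      rw [map_sum]
      refine Finset.sum_congr rfl fun i _ => ?_
      rw [TensorProduct.piScalarRight_symm_single]
      have : (Pi.single i (a i) : Fin e → R) = a i • (Pi.single i 1 : Fin e → R) := by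
        ext j; simp [Pi.single_apply]
      rw [this, tmul_smul, smul_tmul', Algebra.smul_def, mul_one,
        IsLocalRing.ResidueField.algebraMap_eq, hac]
    rw [hz2, map_sum] at hz
    have hz3 : ∑ i, a i • ((1 : ResidueField R) ⊗ₜ[R] D k R (x i : R)) = 0 := by
      rw [← hz]
      refine Finset.sum_congr rfl fun i _ => ?_
      rw [LinearMap.lTensor_tmul]
      change _ = (1 : ResidueField R) ⊗ₜ[R]
        (Fintype.linearCombination R (fun i => D k R (x i : R)) (Pi.single i (a i)))
      rw [Fintype.linearCombination_apply_single, tmul_smul]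
    have ham := hkey a hz3
    have hc0 : c = 0 := by
      ext i
      rw [← hac i, (residue_eq_zero_iff _).2 (ham i)]
      rfl
    rw [hc0, map_zero]
  obtain ⟨l', hl'⟩ := (IsLocalRing.split_injective_iff_lTensor_residueField_injective l).2 hlinj
  have hl'x : ∀ j, l' (D k R (x j : R)) = Pi.single j 1 := by
    intro j
    have h1 : l (Pi.single j 1) = D k R (x j : R) := by
      change Fintype.linearCombination R (fun i => D k R (x i : R)) (Pi.single j 1) = _
      rw [Fintype.linearCombination_apply_single, one_smul]
    rw [← h1, ← LinearMap.comp_apply, hl', LinearMap.id_apply]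
  let Dv : Fin e → Derivation k R R := fun i =>
    ((LinearMap.proj i : (Fin e → R) →ₗ[R] R) ∘ₗ l').compDer (D k R)
  have hDv : ∀ i j, Dv i (x j : R) = if i = j then 1 else 0 := by
    intro i j
    change (l' (D k R (x j : R))) i = _
    rw [hl'x, Pi.single_apply]
  let xs : Fin e → R := fun i => (x i : R)
  have hw := Groth.Agent.Helper3.KaehlerFreeReg.isWeaklyRegular_ofFn e xs hxm Dv hDv
  have hmem : ∀ r ∈ List.ofFn xs, r ∈ maximalIdeal R := by
    intro r hr
    rw [List.mem_ofFn] at hr
    obtain ⟨i, rfl⟩ := hr
    exact hxm i
  have hreg : RingTheory.Sequence.IsRegular R (List.ofFn xs) :=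
    (IsLocalRing.isRegular_iff_isWeaklyRegular_of_subset_maximalIdeal hmem).2 hw
  have hd := ringKrullDim_add_length_eq_ringKrullDim_of_isRegular _ hreg
  rw [List.length_ofFn] at hd
  have hnt : Nontrivial (R ⧸ Ideal.ofList (List.ofFn xs)) := by
    refine Ideal.Quotient.nontrivial_iff.2 ?_
    intro h
    have hle' : Ideal.ofList (List.ofFn xs) ≤ maximalIdeal R := by
      rw [Ideal.ofList, Ideal.span_le]
      intro r hr
      exact hmem r hr
    rw [h] at hle'
    exact (Ideal.IsPrime.ne_top (inferInstance : (maximalIdeal R).IsPrime)) (top_le_iff.1 hle')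
  have h0 : 0 ≤ ringKrullDim (R ⧸ Ideal.ofList (List.ofFn xs)) := ringKrullDim_nonneg_of_nontrivial
  have hge : (e : WithBot ℕ∞) ≤ ringKrullDim R := by
    rw [← hd]
    exact le_add_of_nonneg_left h0
  have hle : ringKrullDim R ≤ e := by
    have := ringKrullDim_le_spanFinrank_maximalIdeal R
    rwa [spanFinrank_maximalIdeal_eq_finrank_cotangentSpace] at this
  rw [IsRegularLocalRing.iff_finrank_cotangentSpace]
  exact (le_antisymm hle hge).symm

theorem s5000 (k A : Type u) [Field k] [CharZero k] [CommRing A]
    [Algebra k A] [Algebra.FiniteType k A] (q : Ideal A) [q.IsPrime] :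
    Algebra.IsSmoothAt k q ↔
      Module.Free (Localization.AtPrime q) (KaehlerDifferential k (Localization.AtPrime q)) := by
  haveI : IsNoetherianRing A := Algebra.FiniteType.isNoetherianRing k A
  haveI : IsNoetherianRing (Localization.AtPrime q) :=
    IsLocalization.isNoetherianRing q.primeCompl _ inferInstance
  haveI : Algebra.EssFiniteType A (Localization.AtPrime q) :=
    Algebra.EssFiniteType.of_isLocalization _ q.primeCompl
  haveI : Algebra.EssFiniteType k (Localization.AtPrime q) :=
    Algebra.EssFiniteType.comp k A _
  haveI : Module.Finite (Localization.AtPrime q) Ω[Localization.AtPrime q⁄k] := inferInstance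
  constructor
  · intro h
    haveI : Algebra.FormallySmooth k (Localization.AtPrime q) := h
    exact Module.free_of_flat_of_isLocalRing
  · intro h
    have hreg := main k (Localization.AtPrime q)
    exact (Groth.Agent.S2091.result q).2 hreg

end Groth.Agent.Helper3.KaehlerFreeReg2
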