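import Mathlib

set_option autoImplicit false
set_option linter.style.haveILetI false
set_option linter.unusedSectionVars false
set_option linter.unusedVariables false
set_option linter.style.haveILetI false
set_option linter.unusedSectionVars false
set_option linter.unusedVariables false

universe u

open Polynomial KaehlerDifferential TensorProduct

namespace Groth.Agent.Helper3.KaehlerInsep

section
variable (E : Type u) [Field E] (P : E[X]) [Fact (Irreducible P)]

/-- `Ω_{K/E}` is one-dimensional for `K = E[X]/(P)` with `P' = 0`. -/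
theorem omega_KE (hP : Polynomial.derivative P = 0) :
    Module.finrank (AdjoinRoot P) Ω[AdjoinRoot P⁄E] = 1 := by
  letI : Algebra E[X] (AdjoinRoot P) := (AdjoinRoot.mk P).toAlgebra
  haveI : IsScalarTower E E[X] (AdjoinRoot P) := IsScalarTower.of_algebraMap_eq (fun x => rfl)
  have hsurj : Function.Surjective (algebraMap E[X] (AdjoinRoot P)) := AdjoinRoot.mk_surjective
  have h0 : kerCotangentToTensor E E[X] (AdjoinRoot P) = 0 := by
    apply LinearMap.ext
    intro x
    obtain ⟨x, rfl⟩ := Ideal.toCotangent_surjective _ x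
    rw [kerCotangentToTensor_toCotangent]
    have hx : x.1 ∈ Ideal.span {P} := by
      have := x.2
      rw [RingHom.mem_ker] at this
      rw [Ideal.mem_span_singleton]
      exact AdjoinRoot.mk_eq_zero.1 this
    obtain ⟨r, hr⟩ := Ideal.mem_span_singleton'.1 hx
    rw [← hr, Derivation.leibniz, polynomial_D_apply E P, hP, zero_smul, smul_zero, zero_add,
      TensorProduct.tmul_smul, TensorProduct.smul_tmul']
    have : P • (1 : AdjoinRoot P) = 0 := by
      rw [Algebra.smul_def, mul_one]
      exact AdjoinRoot.mk_self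
    rw [this, TensorProduct.zero_tmul]
    rfl
  have hinj : Function.Injective (mapBaseChange E E[X] (AdjoinRoot P)) := by
    rw [← LinearMap.ker_eq_bot, eq_bot_iff]
    intro y hy
    rw [LinearMap.mem_ker] at hy
    obtain ⟨z, hz⟩ := (exact_kerCotangentToTensor_mapBaseChange E E[X] (AdjoinRoot P) hsurj y).1 hy
    rw [h0] at hz
    rw [Submodule.mem_bot, ← hz]
    rfl
  let e : (AdjoinRoot P) ⊗[E[X]] Ω[E[X]⁄E] ≃ₗ[AdjoinRoot P] Ω[AdjoinRoot P⁄E] :=
    LinearEquiv.ofBijective _ ⟨hinj, mapBaseChange_surjective E E[X] (AdjoinRoot P) hsurj⟩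
  let e2 : (AdjoinRoot P) ⊗[E[X]] Ω[E[X]⁄E] ≃ₗ[AdjoinRoot P] (AdjoinRoot P) :=
    (AlgebraTensorModule.congr (LinearEquiv.refl (AdjoinRoot P) (AdjoinRoot P))
      (polynomialEquiv (R := E))) ≪≫ₗ AlgebraTensorModule.rid E[X] (AdjoinRoot P) (AdjoinRoot P)
  rw [← e.finrank_eq, e2.finrank_eq, Module.finrank_self]

/-- the one-variable generators -/
noncomputable def gens : Algebra.Generators E (AdjoinRoot P) Unit :=
  Algebra.Generators.ofSurjective (fun _ => AdjoinRoot.root P) (by
    intro x
    obtain ⟨f, rfl⟩ := AdjoinRoot.mk_surjective x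
    refine ⟨(MvPolynomial.uniqueAlgEquiv E Unit).symm f, ?_⟩
    rw [MvPolynomial.aeval_def, MvPolynomial.eval₂_const_uniqueAlgEquiv_symm, ← Polynomial.aeval_def,
      AdjoinRoot.aeval_eq])

theorem gens_ker : (gens E P).ker = Ideal.span {(MvPolynomial.uniqueAlgEquiv E Unit).symm P} := by
  rw [Algebra.Generators.ker_eq_ker_aeval_val]
  ext f
  rw [RingHom.mem_ker, Ideal.mem_span_singleton]
  have h1 : MvPolynomial.aeval (gens E P).val f =
      AdjoinRoot.mk P ((MvPolynomial.uniqueAlgEquiv E Unit) f) := by
    change MvPolynomial.aeval (fun _ => AdjoinRoot.root P) f = _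
    rw [MvPolynomial.aeval_def, ← MvPolynomial.eval₂_const_uniqueAlgEquiv, ← Polynomial.aeval_def,
      AdjoinRoot.aeval_eq]
  rw [h1, AdjoinRoot.mk_eq_zero]
  constructor
  · rintro ⟨r, hr⟩
    refine ⟨(MvPolynomial.uniqueAlgEquiv E Unit).symm r, ?_⟩
    rw [← map_mul, ← hr, AlgEquiv.symm_apply_apply]
  · rintro ⟨c, hc⟩
    refine ⟨(MvPolynomial.uniqueAlgEquiv E Unit) c, ?_⟩
    rw [hc, map_mul, AlgEquiv.apply_symm_apply]

theorem finrank_cotangent_le : Module.finrank (AdjoinRoot P) (gens E P).toExtension.Cotangent ≤ 1 ∧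
    Module.Finite (AdjoinRoot P) (gens E P).toExtension.Cotangent := by
  have hg : (MvPolynomial.uniqueAlgEquiv E Unit).symm P ∈ (gens E P).toExtension.ker := by
    rw [← Algebra.Generators.ker, gens_ker]; exact Ideal.mem_span_singleton_self _
  have h : Submodule.span (AdjoinRoot P) {Algebra.Extension.Cotangent.mk
      (P := (gens E P).toExtension) ⟨_, hg⟩} = ⊤ := by
    have := Algebra.Extension.Cotangent.span_eq_top_of_span_eq_ker (P := (gens E P).toExtension)
      (fun _ : Unit => (MvPolynomial.uniqueAlgEquiv E Unit).symm P) (by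
        rw [Set.range_const]; exact (gens_ker E P).symm)
    rw [← this]
    congr 1
    exact (Set.range_const).symm
  constructor
  · apply finrank_le_one _ (fun w => ?_)
    · exact Algebra.Extension.Cotangent.mk ⟨_, hg⟩
    · have hw : w ∈ (⊤ : Submodule (AdjoinRoot P) _) := trivial
      rw [← h, Submodule.mem_span_singleton] at hw
      exact hw
  · exact ⟨⟨{_}, by rw [Finset.coe_singleton]; exact h⟩⟩

end

section
variable (k E : Type u) [Field k] [Field E] [Algebra k E] (P : E[X]) [Fact (Irreducible P)]

theorem main (hP : Polynomial.derivative P = 0) [Module.Finite E (KaehlerDifferential k E)] :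
    Module.finrank (AdjoinRoot P) (KaehlerDifferential E (AdjoinRoot P)) = 1 ∧
      Module.finrank E (KaehlerDifferential k E) ≤
        Module.finrank (AdjoinRoot P) (KaehlerDifferential k (AdjoinRoot P)) ∧
      Module.finrank (AdjoinRoot P) (KaehlerDifferential k (AdjoinRoot P)) ≤
        Module.finrank E (KaehlerDifferential k E) + 1 := by
  have hKE := omega_KE E P hP
  refine ⟨hKE, ?_⟩
  let φ : (AdjoinRoot P) ⊗[E] Ω[E⁄k] →ₗ[AdjoinRoot P] Ω[AdjoinRoot P⁄k] :=
    mapBaseChange k E (AdjoinRoot P)
  let π : Ω[AdjoinRoot P⁄k] →ₗ[AdjoinRoot P] Ω[AdjoinRoot P⁄E] :=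
    KaehlerDifferential.map k E (AdjoinRoot P) (AdjoinRoot P)
  have hex : Function.Exact φ π := exact_mapBaseChange_map k E (AdjoinRoot P)
  have hπ : Function.Surjective π := KaehlerDifferential.map_surjective k E (AdjoinRoot P)
  have hd : Module.finrank (AdjoinRoot P) ((AdjoinRoot P) ⊗[E] Ω[E⁄k]) =
      Module.finrank E Ω[E⁄k] := Module.finrank_baseChange
  haveI : Module.Finite (AdjoinRoot P) Ω[AdjoinRoot P⁄E] :=
    Module.finite_of_finrank_pos (by rw [hKE]; exact one_pos)
  haveI : Module.Finite (AdjoinRoot P) Ω[AdjoinRoot P⁄k] := by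
    have h1 : (LinearMap.ker π).FG := by
      rw [LinearMap.exact_iff.1 hex, LinearMap.range_eq_map]
      exact (Module.Finite.fg_top).map φ
    have h2 : (LinearMap.range π).FG := by
      rw [LinearMap.range_eq_top.2 hπ]; exact Module.Finite.fg_top
    exact ⟨Submodule.fg_of_fg_map_of_fg_inf_ker π (by rwa [Submodule.map_top])
      (by rwa [top_inf_eq])⟩
  have h1 := LinearMap.finrank_range_add_finrank_ker π
  have h2 := LinearMap.finrank_range_add_finrank_ker φ
  have h3 : LinearMap.ker π = LinearMap.range φ := LinearMap.exact_iff.1 hex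
  have h4 : Module.finrank (AdjoinRoot P) (LinearMap.range π) = 1 := by
    rw [LinearMap.range_eq_top.2 hπ, finrank_top, hKE]
  have h5 : Module.finrank (AdjoinRoot P) (LinearMap.ker φ) ≤ 1 := by
    have hex2 := Algebra.Generators.H1Cotangent.exact_δ_map (gens E P) (Algebra.Generators.self k E)
    have h6 : LinearMap.ker φ =
        LinearMap.range (Algebra.Generators.H1Cotangent.δ (gens E P) (Algebra.Generators.self k E)) :=
      LinearMap.exact_iff.1 hex2
    rw [h6]
    haveI : Module.Finite (AdjoinRoot P) (gens E P).toExtension.Cotangent :=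
      (finrank_cotangent_le E P).2
    haveI : Module.Finite (AdjoinRoot P) (gens E P).toExtension.H1Cotangent :=
      Module.Finite.of_injective (gens E P).toExtension.h1Cotangentι
        (gens E P).toExtension.h1Cotangentι_injective
    calc _ ≤ Module.finrank (AdjoinRoot P) (gens E P).toExtension.H1Cotangent :=
          LinearMap.finrank_range_le _
      _ ≤ Module.finrank (AdjoinRoot P) (gens E P).toExtension.Cotangent :=
          LinearMap.finrank_le_finrank_of_injective (gens E P).toExtension.h1Cotangentι_injective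
      _ ≤ 1 := (finrank_cotangent_le E P).1
  rw [h3] at h1
  constructor <;> omega

end

end Groth.Agent.Helper3.KaehlerInsep
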