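import Mathlib

set_option autoImplicit false
set_option linter.style.haveILetI false

namespace Groth.Agent.Helper3.KaehlerLoc

open TensorProduct KaehlerDifferential

universe u

section tmul

variable {P B M : Type*} [CommRing P] [CommRing B] [Algebra P B] [AddCommGroup M] [Module P M]

/-- For `P → B` surjective, the kernel of `M → B ⊗ M` is `(ker) • M`. -/
lemma mem_smul_top_of_tmul_eq_zero (hsurj : Function.Surjective (algebraMap P B))
    (x : M) (h : (1 : B) ⊗ₜ[P] x = 0) :
    x ∈ (RingHom.ker (algebraMap P B)) • (⊤ : Submodule P M) := by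
  let e : (P ⧸ RingHom.ker (Algebra.ofId P B)) ≃ₐ[P] B :=
    Ideal.quotientKerAlgEquivOfSurjective (f := Algebra.ofId P B) hsurj
  have h1 := congrArg (TensorProduct.congr e.symm.toLinearEquiv (LinearEquiv.refl P M)) h
  rw [TensorProduct.congr_tmul, map_zero] at h1
  have h2 := congrArg (TensorProduct.quotTensorEquivQuotSMul M (RingHom.ker (Algebra.ofId P B))) h1
  rw [map_zero] at h2
  have h3 : e.symm.toLinearEquiv (1 : B) = 1 := map_one e.symm
  rw [h3, LinearEquiv.refl_apply, TensorProduct.quotTensorEquivQuotSMul_mk_one_tmul,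
    Submodule.Quotient.mk_eq_zero] at h2
  exact h2

end tmul

section Main

variable {A P B : Type u} [CommRing A] [CommRing P] [CommRing B] [Algebra A P] [Algebra A B]
  [Algebra P B] [IsScalarTower A P B] (hsurj : Function.Surjective (algebraMap P B))

include hsurj

/-- The kernel of `Ω_P → Ω_B` is generated by `dI` and `IΩ_P`. -/
theorem ker_map_eq :
    LinearMap.ker (KaehlerDifferential.map A A P B) =
      Submodule.span P (D A P '' (RingHom.ker (algebraMap P B) : Set P)) ⊔
        (RingHom.ker (algebraMap P B)) • ⊤ := by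
  apply le_antisymm
  · intro ω hω
    rw [LinearMap.mem_ker] at hω
    have h1 : KaehlerDifferential.mapBaseChange A P B (1 ⊗ₜ ω) = 0 := by
      rw [mapBaseChange_tmul, hω, smul_zero]
    obtain ⟨z, hz⟩ := (KaehlerDifferential.exact_kerCotangentToTensor_mapBaseChange A P B hsurj _).mp h1
    obtain ⟨g, rfl⟩ := Ideal.toCotangent_surjective _ z
    rw [kerCotangentToTensor_toCotangent] at hz
    have h2 : (1 : B) ⊗ₜ[P] (ω - D A P g.1) = 0 := by rw [TensorProduct.tmul_sub, hz, sub_self]
    have h3 := mem_smul_top_of_tmul_eq_zero hsurj _ h2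
    have : ω = D A P g.1 + (ω - D A P g.1) := by abel
    rw [this]
    exact Submodule.add_mem_sup (Submodule.subset_span ⟨g.1, g.2, rfl⟩) h3
  · refine sup_le (Submodule.span_le.mpr ?_) (Submodule.smul_le.mpr ?_)
    · rintro _ ⟨g, hg, rfl⟩
      rw [SetLike.mem_coe, LinearMap.mem_ker, map_D, (RingHom.mem_ker).mp hg, map_zero]
    · intro a ha ω _
      rw [LinearMap.mem_ker, map_smul, ← algebraMap_smul B a, (RingHom.mem_ker).mp ha, zero_smul]

end Main


section Loc

variable {A P B : Type u} [CommRing A] [CommRing P] [CommRing B] [Algebra A P] [Algebra A B]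
  [Algebra P B] [IsScalarTower A P B] (hsurj : Function.Surjective (algebraMap P B))
  (q : Ideal B) [q.IsPrime]

include hsurj

theorem subsingleton_iff_localized_ker_eq_top :
    Subsingleton (LocalizedModule q.primeCompl Ω[B⁄A]) ↔
      (LinearMap.ker (KaehlerDifferential.map A A P B)).localized
        (q.comap (algebraMap P B)).primeCompl = ⊤ := by
  set S := (q.comap (algebraMap P B)).primeCompl with hS
  have hmemS : ∀ s : P, s ∈ S ↔ algebraMap P B s ∈ q.primeCompl := fun s => Iff.rfl
  rw [IsLocalizedModule.subsingleton_iff q.primeCompl (LocalizedModule.mkLinearMap q.primeCompl Ω[B⁄A])]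
  constructor
  · intro H
    rw [eq_top_iff]
    rintro z -
    obtain ⟨⟨ω, t⟩, rfl⟩ := IsLocalizedModule.mk'_surjective S (LocalizedModule.mkLinearMap S Ω[P⁄A]) z
    obtain ⟨s', hs', hs'0⟩ := H (KaehlerDifferential.map A A P B ω)
    obtain ⟨s, rfl⟩ := hsurj s'
    have hsS : s ∈ S := (hmemS s).mpr hs'
    refine ⟨s • ω, ?_, ⟨s, hsS⟩ * t, ?_⟩
    · rw [LinearMap.mem_ker, map_smul, ← algebraMap_smul B s]
      exact hs'0
    · exact IsLocalizedModule.mk'_cancel_left (f := LocalizedModule.mkLinearMap S Ω[P⁄A]) ω ⟨s, hsS⟩ t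
  · intro H y
    obtain ⟨ω, rfl⟩ := KaehlerDifferential.map_surjective_of_surjective A A P B hsurj y
    have h1 : LocalizedModule.mkLinearMap S Ω[P⁄A] ω ∈
        (LinearMap.ker (KaehlerDifferential.map A A P B)).localized S := by
      rw [H]; trivial
    obtain ⟨n, hn, t, hnt⟩ := h1
    rw [← IsLocalizedModule.mk'_one S (LocalizedModule.mkLinearMap S Ω[P⁄A]) ω,
      IsLocalizedModule.mk'_eq_mk'_iff] at hnt
    obtain ⟨u, hu⟩ := hnt
    refine ⟨algebraMap P B (u.1 * t.1), (hmemS _).mp (S.mul_mem u.2 t.2), ?_⟩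
    rw [algebraMap_smul, ← map_smul, mul_smul]
    have h4 : u.1 • t.1 • ω = u.1 • n := by
      simpa [Submonoid.smul_def] using hu
    rw [h4, map_smul, LinearMap.mem_ker.mp hn, smul_zero]

theorem subsingleton_iff_span [Module.Finite P Ω[P⁄A]] :
    Subsingleton (LocalizedModule q.primeCompl Ω[B⁄A]) ↔
      Submodule.span (Localization.AtPrime (q.comap (algebraMap P B)))
        ((LocalizedModule.mkLinearMap (q.comap (algebraMap P B)).primeCompl Ω[P⁄A]) ''
          (D A P '' (RingHom.ker (algebraMap P B) : Set P))) = ⊤ := by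
  rw [subsingleton_iff_localized_ker_eq_top hsurj q, ker_map_eq hsurj]
  set 𝔮 := q.comap (algebraMap P B) with h𝔮
  set S := 𝔮.primeCompl with hS
  set L := Localization.AtPrime 𝔮 with hL
  set I := RingHom.ker (algebraMap P B) with hI
  set J' : Ideal L := Submodule.localized' L S (Algebra.linearMap P L) I with hJ'
  have h1 : (Submodule.span P (D A P '' (I : Set P)) ⊔ I • (⊤ : Submodule P Ω[P⁄A])).localized S =
      Submodule.span L ((LocalizedModule.mkLinearMap S Ω[P⁄A]) '' (D A P '' (I : Set P))) ⊔
        J' • ⊤ := by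
    change Submodule.localized'FrameHom L S (LocalizedModule.mkLinearMap S Ω[P⁄A]) _ = _
    rw [map_sup, Submodule.IsLocalizedModule.localized'FrameHom_apply, Submodule.IsLocalizedModule.localized'FrameHom_apply,
      Submodule.localized'_span, Submodule.localized'_smul, Submodule.localized'_top]
  rw [h1]
  constructor
  · intro H
    rw [eq_top_iff]
    haveI : Module.Finite L (LocalizedModule S Ω[P⁄A]) :=
      Module.Finite.of_isLocalizedModule S (LocalizedModule.mkLinearMap S Ω[P⁄A])
    refine Submodule.le_of_le_smul_of_le_jacobson_bot (I := J') (Module.finite_def.mp inferInstance)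
      ?_ (by rw [H])
    rw [IsLocalRing.jacobson_eq_maximalIdeal ⊥ bot_ne_top, hJ', Submodule.localized'_eq_span,
      ← Localization.AtPrime.map_eq_maximalIdeal]
    refine Submodule.span_le.mpr ?_
    rintro _ ⟨a, ha, rfl⟩
    refine Ideal.mem_map_of_mem _ ?_
    rw [h𝔮, Ideal.mem_comap, (RingHom.mem_ker).mp ha]
    exact zero_mem _
  · intro H
    rw [H, top_sup_eq]

end Loc


theorem main {A B : Type u} [CommRing A] [CommRing B]
    [Algebra A B] (n : ℕ) (φ : MvPolynomial (Fin n) A →ₐ[A] B) (hφ : Function.Surjective φ)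
    (q : Ideal B) [q.IsPrime] :
    Subsingleton (LocalizedModule q.primeCompl (KaehlerDifferential A B)) ↔
      Submodule.span (Localization.AtPrime (q.comap φ.toRingHom))
        ((LocalizedModule.mkLinearMap (q.comap φ.toRingHom).primeCompl
            (KaehlerDifferential A (MvPolynomial (Fin n) A))) ''
          ((KaehlerDifferential.D A (MvPolynomial (Fin n) A)) '' (RingHom.ker φ.toRingHom : Set (MvPolynomial (Fin n) A)))) = ⊤ := by
  letI : Algebra (MvPolynomial (Fin n) A) B := φ.toRingHom.toAlgebra
  haveI : IsScalarTower A (MvPolynomial (Fin n) A) B :=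
    IsScalarTower.of_algebraMap_eq' φ.comp_algebraMap.symm
  exact subsingleton_iff_span (A := A) (P := MvPolynomial (Fin n) A) (B := B) hφ q

end Groth.Agent.Helper3.KaehlerLoc
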