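import Mathlib

set_option autoImplicit false
set_option linter.style.haveILetI false
set_option linter.unusedSectionVars false
set_option linter.unusedVariables false
set_option linter.deprecated false
set_option linter.style.haveILetI false
set_option linter.unusedSectionVars false
set_option linter.unusedVariables false

/-!
# Monomial reduction: finiteness of an algebra generated by elements with "monic" relations
-/

namespace Groth.Agent.Helper3.Ked

open MvPolynomial

universe u v

/-- If `t_i ^ M_i` is a polynomial of total degree `< M_i` in the `t`'s for every `i`, then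
`K[t_1, …, t_s]` is a finitely generated `K`-module. -/
theorem adjoin_fg_of_pow_eq {K : Type u} {C : Type v} [CommRing K] [CommRing C] [Algebra K C]
    {s : ℕ} (t : Fin s → C) (M : Fin s → ℕ) (H : Fin s → MvPolynomial (Fin s) K)
    (hdeg : ∀ i, (H i).totalDegree < M i) (hrel : ∀ i, t i ^ M i = aeval t (H i)) :
    (Subalgebra.toSubmodule (Algebra.adjoin K (Set.range t))).FG := by
  classical
  let T : Set (Fin s →₀ ℕ) := {e | ∀ i, e i < M i}
  have hT : T.Finite := by
    let B : ℕ := ∑ i, M i
    refine Set.Finite.subset (Finsupp.finite_of_degree_le (σ := Fin s) B) ?_
    intro e he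
    change e.degree ≤ B
    rw [Finsupp.degree_eq_sum]
    exact Finset.sum_le_sum (fun i _ => (he i).le)
  let ev : MvPolynomial (Fin s) K →ₐ[K] C := aeval t
  let Msub : Submodule K C := Submodule.span K ((fun e => ev (monomial e 1)) '' T)
  have key : ∀ (d : ℕ) (e : Fin s →₀ ℕ), e.degree = d → ev (monomial e 1) ∈ Msub := by
    intro d
    induction d using Nat.strong_induction_on with
    | _ d ih =>
      intro e hed
      by_cases he : ∀ i, e i < M i
      · exact Submodule.subset_span ⟨e, he, rfl⟩
      · push Not at he
        obtain ⟨i, hi⟩ := he
        have hle : Finsupp.single i (M i) ≤ e := by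
          rw [Finsupp.single_le_iff]
          exact hi
        set e' := e - Finsupp.single i (M i) with he'
        have hee : e = e' + Finsupp.single i (M i) := (tsub_add_cancel_of_le hle).symm
        have hdeg' : e.degree = e'.degree + M i := by
          conv_lhs => rw [hee]
          rw [map_add, Finsupp.degree_single]
        have h1 : monomial e (1 : K) = monomial e' 1 * X i ^ M i := by
          rw [X_pow_eq_monomial, monomial_mul, mul_one, ← hee]
        have h2 : ev (X i ^ M i) = ev (H i) := by
          rw [map_pow]
          change (aeval t (X i)) ^ M i = aeval t (H i)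
          rw [aeval_X, hrel]
        rw [h1, map_mul, h2, ← map_mul]
        have h6 : monomial e' (1 : K) * H i =
            ∑ m ∈ (H i).support, monomial e' (1 : K) * monomial m (coeff m (H i)) := by
          rw [← Finset.mul_sum, support_sum_monomial_coeff]
        rw [h6, map_sum]
        refine Submodule.sum_mem _ (fun m hm => ?_)
        have h3 : monomial e' (1 : K) * monomial m (coeff m (H i)) =
            coeff m (H i) • monomial (e' + m) 1 := by
          rw [monomial_mul, one_mul, smul_monomial, smul_eq_mul, mul_one]
        rw [h3, map_smul]
        refine Submodule.smul_mem _ _ (ih _ ?_ _ rfl)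
        have h4 : m.degree ≤ (H i).totalDegree := le_totalDegree hm
        have h5 := hdeg i
        rw [map_add, ← hed, hdeg']
        omega
  have hall : ∀ f : MvPolynomial (Fin s) K, ev f ∈ Msub := by
    intro f
    induction f using MvPolynomial.induction_on' with
    | monomial e a =>
      have : monomial e a = a • monomial e (1 : K) := by
        rw [smul_monomial, smul_eq_mul, mul_one]
      rw [this, map_smul]
      exact Submodule.smul_mem _ _ (key _ e rfl)
    | add f g hf hg =>
      rw [map_add]
      exact Submodule.add_mem _ hf hg
  have heq : Subalgebra.toSubmodule (Algebra.adjoin K (Set.range t)) = Msub := by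
    apply le_antisymm
    · intro z hz
      have hz' : z ∈ Algebra.adjoin K (Set.range t) := hz
      rw [Algebra.adjoin_range_eq_range_aeval] at hz'
      obtain ⟨f, rfl⟩ := hz'
      exact hall f
    · rw [Submodule.span_le]
      rintro _ ⟨e, -, rfl⟩
      change ev (monomial e 1) ∈ Algebra.adjoin K (Set.range t)
      rw [Algebra.adjoin_range_eq_range_aeval]
      exact ⟨_, rfl⟩
  rw [heq]
  exact Submodule.fg_span (hT.image _)

end Groth.Agent.Helper3.Ked
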