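import Mathlib
import Groth.Agent.Helper3.Ked1

set_option autoImplicit false
set_option linter.style.haveILetI false
set_option linter.unusedSectionVars false
set_option linter.unusedVariables false
set_option linter.deprecated false
set_option linter.style.haveILetI false
set_option linter.unusedSectionVars false
set_option linter.unusedVariables false

/-!
# Noether normalization after adding `N`-th powers
-/

namespace Groth.Agent.Helper3.Ked

open MvPolynomial

universe u v

theorem totalDegree_map_le' {R S : Type*} [CommSemiring R] [CommSemiring S] {σ : Type*}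
    (f : R →+* S) (p : MvPolynomial σ R) : (MvPolynomial.map f p).totalDegree ≤ p.totalDegree :=
  Finset.sup_mono (support_map_subset f p)

/-- the degree estimate: substituting `c - X_i^m` in a monic polynomial of degree `d ≥ 1` with
coefficients of total degree `≤ D < m` gives `± X_i^(m d)` plus terms of lower degree. -/
theorem exists_lower {K : Type u} [CommRing K] [Nontrivial K] {s : ℕ} (i : Fin s)
    (F : Polynomial (MvPolynomial (Fin s) K)) (hF : F.Monic) (hd : 1 ≤ F.natDegree)
    (D m : ℕ) (hD : ∀ j, (F.coeff j).totalDegree ≤ D) (hDm : D < m) (c : K) :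
    ∃ H : MvPolynomial (Fin s) K, H.totalDegree < m * F.natDegree ∧
      F.eval (C c - X i ^ m) = (-(X i ^ m)) ^ F.natDegree + H := by
  set d := F.natDegree with hdef
  set ξ : MvPolynomial (Fin s) K := C c - X i ^ m with hξ
  set τ : MvPolynomial (Fin s) K := X i ^ m with hτ
  have htτ : τ.totalDegree ≤ m := by rw [hτ, totalDegree_X_pow]
  have htnτ : (-τ).totalDegree ≤ m := by rw [totalDegree_neg]; exact htτ
  have htξ : ξ.totalDegree ≤ m := by
    refine (totalDegree_sub _ _).trans ?_
    rw [totalDegree_C]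
    exact max_le (Nat.zero_le _) htτ
  have hpowξ : ∀ l, (ξ ^ l).totalDegree ≤ l * m := fun l =>
    (totalDegree_pow _ _).trans (Nat.mul_le_mul_left _ htξ)
  have hpowτ : ∀ l, ((-τ) ^ l).totalDegree ≤ l * m := fun l =>
    (totalDegree_pow _ _).trans (Nat.mul_le_mul_left _ htnτ)
  let Q : MvPolynomial (Fin s) K := ∑ l ∈ Finset.range d, ξ ^ l * (-τ) ^ (d - 1 - l)
  have hQ : ξ ^ d = (-τ) ^ d + Q * C c := by
    have h1 := geom_sum₂_mul ξ (-τ) d
    have h2 : ξ - -τ = C c := by rw [hξ]; ring
    rw [h2] at h1
    rw [h1]; ring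
  have htQ : Q.totalDegree ≤ (d - 1) * m := by
    refine (totalDegree_finsetSum _ _).trans (Finset.sup_le (fun l hl => ?_))
    rw [Finset.mem_range] at hl
    refine (totalDegree_mul _ _).trans ?_
    calc (ξ ^ l).totalDegree + ((-τ) ^ (d - 1 - l)).totalDegree ≤ l * m + (d - 1 - l) * m :=
          add_le_add (hpowξ l) (hpowτ _)
      _ = (d - 1) * m := by
          rw [← add_mul]
          congr 1
          omega
  let L : MvPolynomial (Fin s) K := ∑ j ∈ Finset.range d, F.coeff j * ξ ^ j
  have htL : L.totalDegree ≤ D + (d - 1) * m := by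
    refine (totalDegree_finsetSum _ _).trans (Finset.sup_le (fun j hj => ?_))
    rw [Finset.mem_range] at hj
    refine (totalDegree_mul _ _).trans ?_
    refine add_le_add (hD j) ((hpowξ j).trans ?_)
    exact Nat.mul_le_mul_right _ (by omega)
  refine ⟨Q * C c + L, ?_, ?_⟩
  · have h1 : (Q * C c).totalDegree ≤ (d - 1) * m := by
      refine (totalDegree_mul _ _).trans ?_
      rw [totalDegree_C, add_zero]
      exact htQ
    have h2 := (totalDegree_add (Q * C c) L).trans (max_le (h1.trans (Nat.le_add_left _ _)) htL)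
    have h3 : D + (d - 1) * m < m * d := by
      obtain ⟨d', hd'⟩ : ∃ d', d = d' + 1 := ⟨d - 1, by omega⟩
      rw [hd']
      simp only [Nat.add_sub_cancel]
      nlinarith
    omega
  · rw [Polynomial.eval_eq_sum_range, Finset.sum_range_succ, hF.coeff_natDegree, one_mul, hQ]
    ring

/-- explicit form: `y_i = g(X_i)^e` for `i < s` and `0` otherwise, for some `e ≥ 1`. -/
theorem exists_finite_add_pow_exp (k : Type u) (C' : Type v) [Field k] [CommRing C'] [Algebra k C']
    (s n : ℕ) (hsn : s ≤ n) (g : MvPolynomial (Fin s) k →ₐ[k] C') (hg : g.toRingHom.Finite)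
    (x : Fin n → C') (N : ℕ) (hN : 1 ≤ N) :
    ∃ e : ℕ, 1 ≤ e ∧
      (aeval (fun i : Fin n => x i +
        (if h : (i : ℕ) < s then g (X ⟨i, h⟩) ^ e else 0) ^ N) :
          MvPolynomial (Fin n) k →ₐ[k] C').toRingHom.Finite := by
  classical
  let ι : Fin s → Fin n := Fin.castLE hsn
  let t : Fin s → C' := fun i => g (X i)
  have hint : ∀ i : Fin s, ∃ F : Polynomial (MvPolynomial (Fin s) k), F.Monic ∧ 1 ≤ F.natDegree ∧
      Polynomial.eval₂ g.toRingHom (x (ι i)) F = 0 := by
    intro i
    obtain ⟨F, hF, h0⟩ := hg.to_isIntegral (x (ι i))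
    refine ⟨F * Polynomial.X, hF.mul Polynomial.monic_X, ?_, ?_⟩
    · rw [Polynomial.natDegree_mul_X hF.ne_zero]
      exact Nat.le_add_left _ _
    · rw [Polynomial.eval₂_mul, h0, zero_mul]
  choose F hFm hFd hF0 using hint
  let D : ℕ := Finset.univ.sup (fun i : Fin s =>
    (F i).support.sup (fun j => ((F i).coeff j).totalDegree))
  have hD : ∀ i j, ((F i).coeff j).totalDegree ≤ D := by
    intro i j
    by_cases hj : j ∈ (F i).support
    · exact (Finset.le_sup (f := fun j => ((F i).coeff j).totalDegree) hj).trans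
        (Finset.le_sup (f := fun i : Fin s =>
          (F i).support.sup (fun j => ((F i).coeff j).totalDegree)) (Finset.mem_univ i))
    · rw [Polynomial.notMem_support_iff.mp hj, totalDegree_zero]
      exact Nat.zero_le _
  let e : ℕ := D + 1
  have hNe : D < N * e := by
    have : e ≤ N * e := Nat.le_mul_of_pos_left _ hN
    omega
  let y : Fin n → C' := fun j => if h : (j : ℕ) < s then t ⟨j, h⟩ ^ e else 0
  have hy : ∀ i : Fin s, y (ι i) = t i ^ e := by
    intro i
    have h : ((ι i : Fin n) : ℕ) < s := i.2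
    simp only [y, h, dif_pos]
    rfl
  refine ⟨e, Nat.le_add_left 1 D, ?_⟩
  let x' : Fin n → C' := fun j => x j + y j ^ N
  let φ' : MvPolynomial (Fin n) k →ₐ[k] C' := aeval x'
  letI algKC : Algebra (MvPolynomial (Fin n) k) C' := φ'.toRingHom.toAlgebra
  haveI : IsScalarTower k (MvPolynomial (Fin n) k) C' :=
    IsScalarTower.of_algebraMap_eq (fun a => (φ'.commutes a).symm)
  change Module.Finite (MvPolynomial (Fin n) k) C'
  let mp : MvPolynomial (Fin s) k →+* MvPolynomial (Fin s) (MvPolynomial (Fin n) k) :=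
    MvPolynomial.map (algebraMap k (MvPolynomial (Fin n) k))
  have hmp : ∀ a, aeval t (mp a) = g a := by
    intro a
    change aeval t (MvPolynomial.map (algebraMap k (MvPolynomial (Fin n) k)) a) = g a
    rw [aeval_map_algebraMap]
    conv_rhs => rw [aeval_unique g]
    rfl
  have hcX : ∀ j : Fin n, algebraMap (MvPolynomial (Fin n) k) C' (X j) = x' j := by
    intro j
    change φ' (X j) = x' j
    exact aeval_X _ _
  have hrel : ∀ i : Fin s, ∃ H : MvPolynomial (Fin s) (MvPolynomial (Fin n) k),
      H.totalDegree < N * e * (F i).natDegree ∧ t i ^ (N * e * (F i).natDegree) = aeval t H := by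
    intro i
    have hFm' : ((F i).map mp).Monic := (hFm i).map mp
    have hnd : ((F i).map mp).natDegree = (F i).natDegree := (hFm i).natDegree_map mp
    obtain ⟨H', hH'deg, hH'⟩ := exists_lower (K := MvPolynomial (Fin n) k) i ((F i).map mp) hFm'
      (by rw [hnd]; exact hFd i) D (N * e)
      (fun j => by
        rw [Polynomial.coeff_map]
        exact (totalDegree_map_le' _ _).trans (hD i j)) hNe (X (ι i))
    rw [hnd] at hH'deg hH'
    have hξ : aeval t (C (X (ι i)) - X i ^ (N * e) :
        MvPolynomial (Fin s) (MvPolynomial (Fin n) k)) = x (ι i) := by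
      rw [map_sub, aeval_C, map_pow, aeval_X, hcX]
      change x (ι i) + y (ι i) ^ N - t i ^ (N * e) = x (ι i)
      rw [hy, ← pow_mul, mul_comm e N]
      ring
    have h0 : aeval t (((F i).map mp).eval (C (X (ι i)) - X i ^ (N * e))) = 0 := by
      rw [Polynomial.eval_map, ← AlgHom.coe_toRingHom, Polynomial.hom_eval₂, AlgHom.coe_toRingHom, hξ]
      have hcomp : ((aeval t : MvPolynomial (Fin s) (MvPolynomial (Fin n) k) →ₐ[MvPolynomial (Fin n) k] C') :
          MvPolynomial (Fin s) (MvPolynomial (Fin n) k) →+* C').comp mp = g.toRingHom := by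
        ext a
        · simp only [RingHom.comp_apply]
          change aeval t (mp (C a)) = g (C a)
          exact hmp _
        · simp only [RingHom.comp_apply]
          change aeval t (mp (X _)) = g (X _)
          exact hmp _
      rw [hcomp]
      exact hF0 i
    rw [hH', map_add, map_pow, map_neg, map_pow, aeval_X] at h0
    set d := (F i).natDegree with hdd
    refine ⟨C ((-1 : MvPolynomial (Fin n) k) ^ (d + 1)) * H', ?_, ?_⟩
    · refine lt_of_le_of_lt ((totalDegree_mul _ _).trans ?_) hH'deg
      rw [totalDegree_C, zero_add]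
    · rw [map_mul, aeval_C, map_pow, map_neg, map_one]
      have h1 : aeval t H' = -((-(t i ^ (N * e))) ^ d) := by
        rw [eq_neg_iff_add_eq_zero, add_comm]; exact h0
      rw [h1, neg_pow (t i ^ (N * e)) d, ← pow_mul]
      have h2 : ((-1 : C') ^ (d + 1)) * -((-1) ^ d * t i ^ (N * e * d)) =
          ((-1 : C') ^ (d + 1) * (-1) ^ (d + 1)) * t i ^ (N * e * d) := by ring
      rw [h2, ← pow_add, ← two_mul, pow_mul]
      simp
  choose H hHdeg hHrel using hrel
  have hfg := adjoin_fg_of_pow_eq (K := MvPolynomial (Fin n) k) t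
    (fun i => N * e * (F i).natDegree) H hHdeg hHrel
  let S' : Subalgebra (MvPolynomial (Fin n) k) C' := Algebra.adjoin _ (Set.range t)
  haveI : Module.Finite (MvPolynomial (Fin n) k) S' := Module.Finite.iff_fg.mpr hfg
  have hmem : ∀ a, g a ∈ S' := by
    intro a
    rw [← hmp a]
    change _ ∈ Algebra.adjoin _ (Set.range t)
    rw [Algebra.adjoin_range_eq_range_aeval]
    exact ⟨_, rfl⟩
  letI algg : Algebra (MvPolynomial (Fin s) k) C' := g.toRingHom.toAlgebra
  haveI hgfin : Module.Finite (MvPolynomial (Fin s) k) C' := hg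
  letI algS : Algebra (MvPolynomial (Fin s) k) S' :=
    (g.toRingHom.codRestrict S'.toSubring hmem).toAlgebra
  haveI : IsScalarTower (MvPolynomial (Fin s) k) S' C' :=
    IsScalarTower.of_algebraMap_eq (fun a => rfl)
  haveI : Module.Finite S' C' := Module.Finite.of_restrictScalars_finite (MvPolynomial (Fin s) k) S' C'
  exact Module.Finite.trans S' C'

theorem exists_finite_add_pow (k : Type u) (C' : Type v) [Field k] [CommRing C'] [Algebra k C']
    (s n : ℕ) (hsn : s ≤ n) (g : MvPolynomial (Fin s) k →ₐ[k] C') (hg : g.toRingHom.Finite)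
    (x : Fin n → C') (N : ℕ) (hN : 1 ≤ N) :
    ∃ y : Fin n → C',
      (aeval (fun i => x i + y i ^ N) : MvPolynomial (Fin n) k →ₐ[k] C').toRingHom.Finite := by
  obtain ⟨e, -, he⟩ := exists_finite_add_pow_exp k C' s n hsn g hg x N hN
  exact ⟨_, he⟩

end Groth.Agent.Helper3.Ked
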