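import Mathlib
import Groth.Prelude
import Groth.Agent.Helper3.EtDiff1
import Groth.Agent.Helper5.RelDepth5
import Groth.Agent.S2790
import Groth.Agent.S2141

set_option autoImplicit false
set_option linter.style.haveILetI false
set_option linter.unusedSectionVars false
set_option linter.unusedVariables false
set_option linter.deprecated false
set_option linter.style.haveILetI false
set_option linter.unusedSectionVars false
set_option linter.unusedVariables false

/-!
# Algebras étale over a polynomial ring: local dimension, and changing coordinates by `p`-th powers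
-/

namespace Groth.Agent.Helper3.Ked

open MvPolynomial IsLocalRing

universe u

section

variable (k C : Type u) [Field k] [CommRing C] [Algebra k C] (n : ℕ)
  [Algebra (MvPolynomial (Fin n) k) C] [IsScalarTower k (MvPolynomial (Fin n) k) C]

/-- the transcendence degree of the residue field at a prime of an algebra étale over the
polynomial ring is at most `n`, and the local dimension there is `n`. -/
theorem localDim_eq_of_etale [Algebra.Etale (MvPolynomial (Fin n) k) C] [Algebra.FiniteType k C]
    (q : Ideal C) [q.IsPrime] :
    FlatMor.localDim (PrimeSpectrum C) ⟨q, inferInstance⟩ = (n : WithBot ℕ∞) ∧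
      ∃ r : ℕ, Algebra.trdeg k q.ResidueField = r ∧ r ≤ n := by
  haveI : q.LiesOver (q.under (MvPolynomial (Fin n) k)) := ⟨rfl⟩
  letI := Localization.AtPrime.algebraOfLiesOver (q.under (MvPolynomial (Fin n) k)) q
  haveI : IsNoetherianRing C := Algebra.FiniteType.isNoetherianRing k C
  haveI : IsNoetherianRing (Localization.AtPrime q) :=
    IsLocalization.isNoetherianRing q.primeCompl _ inferInstance
  haveI : IsNoetherianRing (Localization.AtPrime (q.under (MvPolynomial (Fin n) k))) :=
    IsLocalization.isNoetherianRing (q.under (MvPolynomial (Fin n) k)).primeCompl _ inferInstance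
  obtain ⟨r', hr', hP⟩ := Groth.Agent.Helper3.EtDiff.dim_poly k n (q.under (MvPolynomial (Fin n) k))
  haveI : Algebra.IsAlgebraic (q.under (MvPolynomial (Fin n) k)).ResidueField q.ResidueField :=
    Algebra.IsAlgebraic.of_finite _ _
  haveI : IsScalarTower k (q.under (MvPolynomial (Fin n) k)).ResidueField q.ResidueField :=
    inferInstance
  have htr := trdeg_add_eq k (q.under (MvPolynomial (Fin n) k)).ResidueField
    (A := q.ResidueField)
  rw [_root_.trdeg_eq_zero (R := (q.under (MvPolynomial (Fin n) k)).ResidueField), add_zero, hr']
    at htr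
  have hr2 : Algebra.trdeg k q.ResidueField = r' := htr.symm
  have hmap := ((Algebra.isUnramifiedAt_iff_map_eq (MvPolynomial (Fin n) k)
    (q.under (MvPolynomial (Fin n) k)) q).1 inferInstance).2
  have h1 : (q.under (MvPolynomial (Fin n) k)).map
      (algebraMap (MvPolynomial (Fin n) k) (Localization.AtPrime q)) =
      (maximalIdeal (Localization.AtPrime (q.under (MvPolynomial (Fin n) k)))).map
        (algebraMap (Localization.AtPrime (q.under (MvPolynomial (Fin n) k)))
          (Localization.AtPrime q)) := by
    rw [← Localization.AtPrime.map_eq_maximalIdeal, Ideal.map_map,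
      ← IsScalarTower.algebraMap_eq]
  have h0 : ringKrullDim (Localization.AtPrime q ⧸
      (maximalIdeal (Localization.AtPrime (q.under (MvPolynomial (Fin n) k)))).map
        (algebraMap (Localization.AtPrime (q.under (MvPolynomial (Fin n) k)))
          (Localization.AtPrime q))) = 0 := by
    rw [← h1, hmap]
    exact ringKrullDim_eq_zero_of_isField
      ((Ideal.Quotient.maximal_ideal_iff_isField_quotient _).mp (maximalIdeal.isMaximal _))
  have hdim := Groth.Agent.Helper5.RelDepth.dim_eq_of_flat_local
    (R := Localization.AtPrime (q.under (MvPolynomial (Fin n) k))) (S := Localization.AtPrime q) h0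
  have hloc := Groth.Agent.S2141.result (k := k) q r' hr2
  refine ⟨?_, r', hr2, ?_⟩
  · rw [hloc, hdim, hP]
  · have h2 : (0 : WithBot ℕ∞) ≤
        ringKrullDim (Localization.AtPrime (q.under (MvPolynomial (Fin n) k))) :=
      ringKrullDim_nonneg_of_nontrivial
    have h3 : ((r' : ℕ) : WithBot ℕ∞) ≤ (n : WithBot ℕ∞) := by
      calc ((r' : ℕ) : WithBot ℕ∞) = 0 + (r' : WithBot ℕ∞) := (zero_add _).symm
        _ ≤ ringKrullDim (Localization.AtPrime (q.under (MvPolynomial (Fin n) k))) +
            (r' : WithBot ℕ∞) := add_le_add_left h2 _
        _ = n := hP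
    exact_mod_cast h3

/-- The number of parameters in a Noether normalization of an algebra étale over the polynomial
ring in `n` variables is at most `n`. -/
theorem le_of_finite_injective [Algebra.Etale (MvPolynomial (Fin n) k) C] [Algebra.FiniteType k C]
    (s : ℕ) (g : MvPolynomial (Fin s) k →ₐ[k] C) (hinj : Function.Injective g)
    (hfin : g.toRingHom.Finite) : s ≤ n := by
  letI algg : Algebra (MvPolynomial (Fin s) k) C := g.toRingHom.toAlgebra
  haveI : Module.Finite (MvPolynomial (Fin s) k) C := hfin
  haveI : Algebra.IsIntegral (MvPolynomial (Fin s) k) C := Algebra.IsIntegral.of_finite _ _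
  obtain ⟨Q, -, hQ, hQ0⟩ := Ideal.exists_ideal_over_prime_of_isIntegral
    (R := MvPolynomial (Fin s) k) (S := C) (⊥ : Ideal (MvPolynomial (Fin s) k)) (⊥ : Ideal C) (by
      intro a ha
      rw [Ideal.mem_comap, Ideal.mem_bot] at ha
      exact (Ideal.mem_bot).mpr (hinj (ha.trans (map_zero g).symm)))
  haveI := hQ
  obtain ⟨-, r, hr, hrn⟩ := localDim_eq_of_etale k C n Q
  have hind : AlgebraicIndependent k (fun i : Fin s => algebraMap C Q.ResidueField (g (X i))) := by
    rw [algebraicIndependent_iff_injective_aeval]
    have hcomp : (aeval (fun i : Fin s => algebraMap C Q.ResidueField (g (X i))) :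
        MvPolynomial (Fin s) k →ₐ[k] Q.ResidueField) =
        ((IsScalarTower.toAlgHom k C Q.ResidueField).comp g) := by
      apply MvPolynomial.algHom_ext
      intro i
      rw [aeval_X]
      rfl
    rw [hcomp]
    intro a b hab
    have h1 : algebraMap C Q.ResidueField (g a - g b) = 0 := by
      rw [map_sub, sub_eq_zero]; exact hab
    have h2 : g a - g b ∈ Q := by
      rwa [← RingHom.mem_ker, Ideal.ker_algebraMap_residueField] at h1
    have h3 : a - b ∈ Q.comap (algebraMap (MvPolynomial (Fin s) k) C) := by
      rw [Ideal.mem_comap]
      change g (a - b) ∈ Q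
      rwa [map_sub]
    rw [hQ0, Ideal.mem_bot, sub_eq_zero] at h3
    exact h3
  have h4 := hind.lift_cardinalMk_le_trdeg
  rw [hr] at h4
  simp only [Cardinal.mk_fin, Cardinal.lift_natCast] at h4
  have h5 : s ≤ r := by exact_mod_cast h4
  exact h5.trans hrn

end

section New

variable (k C : Type u) [Field k] [CommRing C] [Algebra k C] [Algebra.FiniteType k C] (n : ℕ)
  [Algebra (MvPolynomial (Fin n) k) C] [IsScalarTower k (MvPolynomial (Fin n) k) C]

/-- the differentials of the coordinates span at every prime when étale. -/
theorem span_of_etale [Algebra.Etale (MvPolynomial (Fin n) k) C] (q : Ideal C) [q.IsPrime] :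
    Submodule.span (Localization.AtPrime q)
      (Set.range fun i : Fin n => KaehlerDifferential.D k (Localization.AtPrime q)
        (algebraMap C (Localization.AtPrime q)
          (algebraMap (MvPolynomial (Fin n) k) C (MvPolynomial.X i)))) = ⊤ :=
  (Groth.Agent.S2790.result k C n q (localDim_eq_of_etale k C n q).1).mp inferInstance

/-- étaleness from the span condition at every prime (for the ambient structure). -/
theorem etale_of_span
    (hn : ∀ (q : Ideal C) [q.IsPrime],
      FlatMor.localDim (PrimeSpectrum C) ⟨q, inferInstance⟩ = (n : WithBot ℕ∞))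
    (hspan : ∀ (q : Ideal C) [q.IsPrime], Submodule.span (Localization.AtPrime q)
      (Set.range fun i : Fin n => KaehlerDifferential.D k (Localization.AtPrime q)
        (algebraMap C (Localization.AtPrime q)
          (algebraMap (MvPolynomial (Fin n) k) C (MvPolynomial.X i)))) = ⊤) :
    Algebra.Etale (MvPolynomial (Fin n) k) C := by
  haveI : Algebra.FiniteType (MvPolynomial (Fin n) k) C :=
    Algebra.FiniteType.of_restrictScalars_finiteType k (MvPolynomial (Fin n) k) C
  haveI : Algebra.FinitePresentation (MvPolynomial (Fin n) k) C :=
    Algebra.FinitePresentation.of_finiteType.mp inferInstance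
  have hfe : Algebra.FormallyEtale (MvPolynomial (Fin n) k) C := by
    rw [← Algebra.etaleLocus_eq_univ_iff, Set.eq_univ_iff_forall]
    intro q
    rw [Algebra.mem_etaleLocus_iff]
    haveI := q.2
    exact (Groth.Agent.S2790.result k C n q.asIdeal (hn q.asIdeal)).mpr (hspan q.asIdeal)
  exact ⟨hfe, inferInstance⟩

end New

end Groth.Agent.Helper3.Ked
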