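import Mathlib
import Groth.Prelude
import Groth.Agent.Helper3.Ked2
import Groth.Agent.Helper3.Ked3

set_option autoImplicit false
set_option linter.style.haveILetI false
set_option linter.unusedSectionVars false
set_option linter.unusedVariables false
set_option linter.deprecated false
set_option linter.style.haveILetI false
set_option linter.unusedSectionVars false
set_option linter.unusedVariables false

/-!
# Kedlaya's trick: étale over affine space in characteristic `p` ⇒ finite étale over affine space
-/

namespace Groth.Agent.Helper3.Ked

open MvPolynomial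

universe u

/-- étaleness of a `k`-algebra map from the polynomial ring, from the span condition. -/
theorem etale_of_algHom (k C : Type u) [Field k] [CommRing C] [Algebra k C] [Algebra.FiniteType k C]
    (n : ℕ) (φ' : MvPolynomial (Fin n) k →ₐ[k] C)
    (hn : ∀ (q : Ideal C) [q.IsPrime],
      FlatMor.localDim (PrimeSpectrum C) ⟨q, inferInstance⟩ = (n : WithBot ℕ∞))
    (hspan : ∀ (q : Ideal C) [q.IsPrime], Submodule.span (Localization.AtPrime q)
      (Set.range fun i : Fin n => KaehlerDifferential.D k (Localization.AtPrime q)
        (algebraMap C (Localization.AtPrime q) (φ' (MvPolynomial.X i)))) = ⊤) :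
    φ'.toRingHom.Etale := by
  letI alg' : Algebra (MvPolynomial (Fin n) k) C := φ'.toRingHom.toAlgebra
  haveI : IsScalarTower k (MvPolynomial (Fin n) k) C :=
    IsScalarTower.of_algebraMap_eq (fun a => (φ'.commutes a).symm)
  exact etale_of_span k C n hn hspan

theorem s0280 (k : Type u) [Field k] (p : ℕ)
    [Fact p.Prime] [CharP k p] (n : ℕ) (C : Type u) [CommRing C]
    [Algebra (MvPolynomial (Fin n) k) C] [Algebra k C] [IsScalarTower k (MvPolynomial (Fin n) k) C]
    [Algebra.Etale (MvPolynomial (Fin n) k) C] :
    ∃ φ : MvPolynomial (Fin n) k →ₐ[k] C, φ.toRingHom.Finite ∧ φ.toRingHom.Etale := by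
  haveI : Algebra.FiniteType k C :=
    Algebra.FiniteType.trans (S := MvPolynomial (Fin n) k) inferInstance inferInstance
  rcases subsingleton_or_nontrivial C with hC | hC
  · refine ⟨IsScalarTower.toAlgHom k _ C, ?_, ?_⟩
    · exact RingHom.Finite.of_surjective _ (fun c => ⟨0, Subsingleton.elim _ _⟩)
    · exact RingHom.etale_algebraMap.mpr inferInstance
  · obtain ⟨s, g, hinj, hfin⟩ := exists_finite_inj_algHom_of_fg k C
    have hsn := le_of_finite_injective k C n s g hinj hfin
    let x : Fin n → C := fun i => algebraMap (MvPolynomial (Fin n) k) C (X i)
    obtain ⟨y, hy⟩ := exists_finite_add_pow k C s n hsn g hfin x p (Fact.out : p.Prime).one_le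
    refine ⟨aeval (fun i => x i + y i ^ p), hy, ?_⟩
    apply etale_of_algHom k C n
    · intro q _
      exact (localDim_eq_of_etale k C n q).1
    · intro q _
      have h := span_of_etale k C n q
      have hfam : (fun i : Fin n => KaehlerDifferential.D k (Localization.AtPrime q)
          (algebraMap C (Localization.AtPrime q)
            ((aeval (fun i => x i + y i ^ p) : MvPolynomial (Fin n) k →ₐ[k] C) (X i)))) =
          fun i : Fin n => KaehlerDifferential.D k (Localization.AtPrime q)
            (algebraMap C (Localization.AtPrime q)
              (algebraMap (MvPolynomial (Fin n) k) C (MvPolynomial.X i))) := by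
        funext i
        rw [aeval_X, map_add, map_add, map_pow, Derivation.leibniz_pow]
        have hp0 : ((p : ℕ) : Localization.AtPrime q) = 0 := by
          have : ((p : ℕ) : Localization.AtPrime q) =
              algebraMap k (Localization.AtPrime q) ((p : ℕ) : k) := (map_natCast _ p).symm
          rw [this, CharP.cast_eq_zero, map_zero]
        rw [← Nat.cast_smul_eq_nsmul (Localization.AtPrime q), hp0, zero_smul, add_zero]
      rw [hfam]
      exact h

end Groth.Agent.Helper3.Ked
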