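import Mathlib
import Groth.Agent.Helper3.Ked2
import Groth.Agent.Helper5.IntegralDim

set_option autoImplicit false
set_option linter.style.haveILetI false
set_option linter.unusedSectionVars false
set_option linter.unusedVariables false
set_option linter.deprecated false
set_option linter.style.haveILetI false
set_option linter.unusedSectionVars false
set_option linter.unusedVariables false

/-!
# Relative Noether normalization over a discrete valuation ring, with `N`-th powers
-/

namespace Groth.Agent.Helper3.Ked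

open MvPolynomial TensorProduct

universe u

/-- Noether normalization with the number of parameters bounded by the dimension. -/
theorem exists_nn_le (k A : Type u) [Field k] [CommRing A] [Nontrivial A] [Algebra k A]
    [Algebra.FiniteType k A] (d : ℕ) (hd : ringKrullDim A ≤ d) :
    ∃ s : ℕ, s ≤ d ∧ ∃ g : MvPolynomial (Fin s) k →ₐ[k] A, g.toRingHom.Finite := by
  obtain ⟨s, g, hinj, hfin⟩ := exists_finite_inj_algHom_of_fg k A
  refine ⟨s, ?_, g, hfin⟩
  letI algg : Algebra (MvPolynomial (Fin s) k) A := g.toRingHom.toAlgebra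
  haveI : Module.Finite (MvPolynomial (Fin s) k) A := hfin
  haveI : Algebra.IsIntegral (MvPolynomial (Fin s) k) A := Algebra.IsIntegral.of_finite _ _
  have h1 : ringKrullDim A = ringKrullDim (MvPolynomial (Fin s) k) :=
    Groth.Agent.Helper5.IntegralDim.ringKrullDim_eq_of_isIntegral_of_injective hinj
  rw [h1, MvPolynomial.ringKrullDim_of_isNoetherianRing, ringKrullDim_eq_zero_of_field, zero_add,
    Nat.card_fin] at hd
  exact_mod_cast hd

/-- scaling the parameters of a finite map from a polynomial ring by a unit. -/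
theorem finite_scale (k A : Type u) [Field k] [CommRing A] [Algebra k A] (s : ℕ)
    (g : MvPolynomial (Fin s) k →ₐ[k] A) (hg : g.toRingHom.Finite) (c : k) (hc : c ≠ 0) :
    (aeval (fun j => c • g (X j)) : MvPolynomial (Fin s) k →ₐ[k] A).toRingHom.Finite := by
  let σ : MvPolynomial (Fin s) k →ₐ[k] MvPolynomial (Fin s) k := aeval (fun j => C c * X j)
  let σ' : MvPolynomial (Fin s) k →ₐ[k] MvPolynomial (Fin s) k := aeval (fun j => C c⁻¹ * X j)
  have hσσ' : σ.comp σ' = AlgHom.id k _ := by
    apply MvPolynomial.algHom_ext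
    intro j
    simp only [AlgHom.comp_apply, σ, σ', aeval_X, map_mul, aeval_C, AlgHom.id_apply]
    rw [← mul_assoc]
    change C c⁻¹ * C c * X j = X j
    rw [← C_mul, inv_mul_cancel₀ hc, C_1, one_mul]
  have hσsurj : Function.Surjective σ := fun f => ⟨σ' f, by
    have := congrArg (fun h : MvPolynomial (Fin s) k →ₐ[k] MvPolynomial (Fin s) k => h f) hσσ'
    exact this⟩
  have hcomp : (aeval (fun j => c • g (X j)) : MvPolynomial (Fin s) k →ₐ[k] A) = g.comp σ := by
    apply MvPolynomial.algHom_ext
    intro j
    simp only [AlgHom.comp_apply, σ, aeval_X, map_mul]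
    rw [Algebra.smul_def]
    congr 1
    exact (g.commutes c).symm
  rw [hcomp]
  exact RingHom.Finite.comp hg (RingHom.Finite.of_surjective _ hσsurj)

section DVR

variable (V : Type u) [CommRing V] [IsDomain V] [IsDiscreteValuationRing V]
  (R : Type u) [CommRing R] [Algebra V R]

/-- clearing denominators in the generic fibre. -/
theorem exists_pow_smul_eq (ϖ : V) (hϖ : Irreducible ϖ) (z : FractionRing V ⊗[V] R) :
    ∃ (a : ℕ) (r : R), (algebraMap V (FractionRing V) ϖ) ^ a • z = (1 : FractionRing V) ⊗ₜ[V] r := by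
  induction z with
  | zero => exact ⟨0, 0, by simp⟩
  | tmul q r =>
    obtain ⟨v, w, rfl⟩ := IsLocalization.exists_mk'_eq (nonZeroDivisors V) q
    have hw : (w : V) ≠ 0 := nonZeroDivisors.ne_zero w.2
    obtain ⟨m, u, hu⟩ := IsDiscreteValuationRing.eq_unit_mul_pow_irreducible hw hϖ
    refine ⟨m, (↑u⁻¹ * v : V) • r, ?_⟩
    rw [TensorProduct.smul_tmul', smul_eq_mul]
    have h1 : (algebraMap V (FractionRing V) ϖ) ^ m * IsLocalization.mk' (FractionRing V) v w =
        algebraMap V (FractionRing V) (↑u⁻¹ * v) := by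
      have h2 : IsLocalization.mk' (FractionRing V) v w * algebraMap V (FractionRing V) w =
          algebraMap V (FractionRing V) v := IsLocalization.mk'_spec _ v w
      have h3 : algebraMap V (FractionRing V) (w : V) =
          algebraMap V (FractionRing V) (u : V) * (algebraMap V (FractionRing V) ϖ) ^ m := by
        rw [hu, map_mul, map_pow]
      have hu' : algebraMap V (FractionRing V) ((↑u⁻¹ : V)) * algebraMap V (FractionRing V) (u : V) = 1 := by
        rw [← map_mul, Units.inv_mul, map_one]
      rw [map_mul, ← h2, h3]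
      calc (algebraMap V (FractionRing V) ϖ) ^ m * IsLocalization.mk' (FractionRing V) v w
          = (algebraMap V (FractionRing V) ((↑u⁻¹ : V)) * algebraMap V (FractionRing V) (u : V)) *
            ((algebraMap V (FractionRing V) ϖ) ^ m * IsLocalization.mk' (FractionRing V) v w) := by
            rw [hu', one_mul]
        _ = _ := by ring
    rw [h1, Algebra.algebraMap_eq_smul_one, TensorProduct.smul_tmul]
  | add z₁ z₂ h₁ h₂ =>
    obtain ⟨a₁, r₁, h₁⟩ := h₁
    obtain ⟨a₂, r₂, h₂⟩ := h₂
    refine ⟨a₁ + a₂, (ϖ ^ a₂) • r₁ + (ϖ ^ a₁) • r₂, ?_⟩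
    rw [smul_add, pow_add]
    have e1 : ((algebraMap V (FractionRing V) ϖ) ^ a₁ * (algebraMap V (FractionRing V) ϖ) ^ a₂) • z₁ =
        (1 : FractionRing V) ⊗ₜ[V] ((ϖ ^ a₂) • r₁) := by
      rw [mul_comm, mul_smul, h₁, ← map_pow, Algebra.algebraMap_eq_smul_one, smul_assoc, one_smul,
        TensorProduct.tmul_smul]
    have e2 : ((algebraMap V (FractionRing V) ϖ) ^ a₁ * (algebraMap V (FractionRing V) ϖ) ^ a₂) • z₂ =
        (1 : FractionRing V) ⊗ₜ[V] ((ϖ ^ a₁) • r₂) := by
      rw [mul_smul, h₂, ← map_pow, Algebra.algebraMap_eq_smul_one, smul_assoc, one_smul,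
        TensorProduct.tmul_smul]
    rw [e1, e2, TensorProduct.tmul_add]

end DVR

end Groth.Agent.Helper3.Ked
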