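import Mathlib
import Groth.Agent.Helper3.Ked5

set_option autoImplicit false
set_option linter.style.haveILetI false
set_option linter.unusedSectionVars false
set_option linter.unusedVariables false
set_option linter.deprecated false
set_option linter.style.haveILetI false
set_option linter.unusedSectionVars false
set_option linter.unusedVariables false

/-!
# Relative Noether normalization over a discrete valuation ring, with `N`-th powers: main theorem
-/

namespace Groth.Agent.Helper3.Ked

open MvPolynomial TensorProduct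

universe u

theorem s14379 (V : Type u) [CommRing V] [IsDomain V]
    [IsDiscreteValuationRing V] (R : Type u) [CommRing R] [Algebra V R]
    [Algebra.FiniteType V R] (d : ℕ)
    (hs : ringKrullDim (IsLocalRing.ResidueField V ⊗[V] R) ≤ d)
    (hη : ringKrullDim (FractionRing V ⊗[V] R) ≤ d)
    (x : Fin d → R) (N : ℕ) (hN : 1 ≤ N) :
    ∃ y : Fin d → R, (∀ i, y i ∈ Subring.closure (Set.range fun r : R => r ^ N)) ∧
      (MvPolynomial.aeval (fun i => (1 : IsLocalRing.ResidueField V) ⊗ₜ[V] (x i + y i)) :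
          MvPolynomial (Fin d) (IsLocalRing.ResidueField V) →ₐ[IsLocalRing.ResidueField V]
            IsLocalRing.ResidueField V ⊗[V] R).toRingHom.Finite ∧
      (MvPolynomial.aeval (fun i => (1 : FractionRing V) ⊗ₜ[V] (x i + y i)) :
          MvPolynomial (Fin d) (FractionRing V) →ₐ[FractionRing V] FractionRing V ⊗[V] R).toRingHom.Finite := by
  classical
  obtain ⟨ϖ, hϖ⟩ := IsDiscreteValuationRing.exists_irreducible V
  have hϖκ : algebraMap V (IsLocalRing.ResidueField V) ϖ = 0 := by
    change IsLocalRing.residue V ϖ = 0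
    rw [IsLocalRing.residue_eq_zero_iff, Irreducible.maximalIdeal_eq hϖ]
    exact Ideal.mem_span_singleton_self ϖ
  have hϖK : algebraMap V (FractionRing V) ϖ ≠ 0 := by
    intro h
    exact hϖ.ne_zero ((map_eq_zero_iff _ (IsFractionRing.injective V (FractionRing V))).mp h)
  have hjκ : ∀ z : IsLocalRing.ResidueField V ⊗[V] R, ∃ r : R,
      (1 : IsLocalRing.ResidueField V) ⊗ₜ[V] r = z := by
    intro z
    induction z with
    | zero => exact ⟨0, by simp⟩
    | tmul q r =>
      obtain ⟨v, rfl⟩ := IsLocalRing.residue_surjective q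
      refine ⟨v • r, ?_⟩
      rw [TensorProduct.tmul_smul, TensorProduct.smul_tmul', Algebra.smul_def, mul_one]
      rfl
    | add z₁ z₂ h₁ h₂ =>
      obtain ⟨r₁, rfl⟩ := h₁
      obtain ⟨r₂, rfl⟩ := h₂
      exact ⟨r₁ + r₂, TensorProduct.tmul_add _ _ _⟩
  -- Step 1: the special fibre
  obtain ⟨y0, hy0⟩ : ∃ y0 : Fin d → R,
      (aeval (fun i => (1 : IsLocalRing.ResidueField V) ⊗ₜ[V] x i +
        ((1 : IsLocalRing.ResidueField V) ⊗ₜ[V] y0 i) ^ N) :
          MvPolynomial (Fin d) (IsLocalRing.ResidueField V) →ₐ[IsLocalRing.ResidueField V]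
            IsLocalRing.ResidueField V ⊗[V] R).toRingHom.Finite := by
    rcases subsingleton_or_nontrivial (IsLocalRing.ResidueField V ⊗[V] R) with h | h
    · exact ⟨fun _ => 0, RingHom.Finite.of_surjective _ (fun c => ⟨0, Subsingleton.elim _ _⟩)⟩
    · obtain ⟨s, hsd, g, hfin⟩ := exists_nn_le (IsLocalRing.ResidueField V)
        (IsLocalRing.ResidueField V ⊗[V] R) d hs
      obtain ⟨ybar, hyb⟩ := exists_finite_add_pow (IsLocalRing.ResidueField V) _ s d hsd g hfin
        (fun i => (1 : IsLocalRing.ResidueField V) ⊗ₜ[V] x i) N hN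
      choose y0 hy0 using fun i => hjκ (ybar i)
      refine ⟨y0, ?_⟩
      simp_rw [hy0]
      exact hyb
  -- Step 2: the generic fibre
  obtain ⟨y1, hy1κ, hy1K⟩ : ∃ y1 : Fin d → R,
      (∀ i, (1 : IsLocalRing.ResidueField V) ⊗ₜ[V] y1 i = 0) ∧
      (aeval (fun i => (1 : FractionRing V) ⊗ₜ[V] (x i + y0 i ^ N) +
        ((1 : FractionRing V) ⊗ₜ[V] y1 i) ^ N) :
          MvPolynomial (Fin d) (FractionRing V) →ₐ[FractionRing V]
            FractionRing V ⊗[V] R).toRingHom.Finite := by
    rcases subsingleton_or_nontrivial (FractionRing V ⊗[V] R) with h | h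
    · exact ⟨fun _ => 0, fun _ => TensorProduct.tmul_zero _ _,
        RingHom.Finite.of_surjective _ (fun c => ⟨0, Subsingleton.elim _ _⟩)⟩
    · obtain ⟨s, hsd, g, hfin⟩ := exists_nn_le (FractionRing V) (FractionRing V ⊗[V] R) d hη
      choose a r hr using fun j : Fin s => exists_pow_smul_eq V R ϖ hϖ (g (X j))
      let A : ℕ := Finset.univ.sup a + 1
      have haA : ∀ j, a j + 1 ≤ A := fun j =>
        Nat.succ_le_succ (Finset.le_sup (f := a) (Finset.mem_univ j))
      let r' : Fin s → R := fun j => (ϖ ^ (A - a j)) • r j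
      have hr' : ∀ j, (algebraMap V (FractionRing V) ϖ) ^ A • g (X j) =
          (1 : FractionRing V) ⊗ₜ[V] r' j := by
        intro j
        have hA : A = (A - a j) + a j := by have := haA j; omega
        conv_lhs => rw [hA, pow_add, mul_smul, hr j]
        rw [← map_pow, Algebra.algebraMap_eq_smul_one, smul_assoc, one_smul,
          TensorProduct.tmul_smul]
      have hfin' := finite_scale (FractionRing V) (FractionRing V ⊗[V] R) s g hfin
        ((algebraMap V (FractionRing V) ϖ) ^ A) (pow_ne_zero _ hϖK)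
      obtain ⟨e, he1, hfe⟩ := exists_finite_add_pow_exp (FractionRing V) _ s d hsd _ hfin'
        (fun i => (1 : FractionRing V) ⊗ₜ[V] (x i + y0 i ^ N)) N hN
      refine ⟨fun i => if h : (i : ℕ) < s then r' ⟨i, h⟩ ^ e else 0, ?_, ?_⟩
      · intro i
        by_cases h : (i : ℕ) < s
        · simp only [h, dif_pos]
          have hA1 : A - a ⟨i, h⟩ = (A - a ⟨i, h⟩ - 1) + 1 := by have := haA ⟨i, h⟩; omega
          have h0 : (1 : IsLocalRing.ResidueField V) ⊗ₜ[V] r' ⟨i, h⟩ = 0 := by
            change (1 : IsLocalRing.ResidueField V) ⊗ₜ[V] ((ϖ ^ (A - a ⟨i, h⟩)) • r ⟨i, h⟩) = 0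
            rw [TensorProduct.tmul_smul, TensorProduct.smul_tmul', Algebra.smul_def, mul_one, hA1,
              pow_succ, map_mul, hϖκ, mul_zero, TensorProduct.zero_tmul]
          have h1 : (1 : IsLocalRing.ResidueField V) ⊗ₜ[V] (r' ⟨i, h⟩ ^ e) =
              ((1 : IsLocalRing.ResidueField V) ⊗ₜ[V] r' ⟨i, h⟩) ^ e := by
            rw [Algebra.TensorProduct.tmul_pow, one_pow]
          rw [h1, h0, zero_pow (by omega)]
        · simp only [h, dif_neg, not_false_eq_true, TensorProduct.tmul_zero]
      · have hfun : (fun i : Fin d => (1 : FractionRing V) ⊗ₜ[V] (x i + y0 i ^ N) +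
            ((1 : FractionRing V) ⊗ₜ[V]
              (if h : (i : ℕ) < s then r' ⟨i, h⟩ ^ e else 0)) ^ N) =
            fun i : Fin d => (1 : FractionRing V) ⊗ₜ[V] (x i + y0 i ^ N) +
              (if h : (i : ℕ) < s then
                (aeval (fun j => (algebraMap V (FractionRing V) ϖ) ^ A • g (X j)) :
                  MvPolynomial (Fin s) (FractionRing V) →ₐ[FractionRing V] FractionRing V ⊗[V] R)
                    (X ⟨i, h⟩) ^ e else 0) ^ N := by
          funext i
          congr 2
          by_cases h : (i : ℕ) < s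
          · simp only [h, dif_pos, aeval_X]
            rw [hr', Algebra.TensorProduct.tmul_pow, one_pow]
          · simp only [h, dif_neg, not_false_eq_true, TensorProduct.tmul_zero]
        rw [hfun]
        exact hfe
  refine ⟨fun i => y0 i ^ N + y1 i ^ N, ?_, ?_, ?_⟩
  · intro i
    exact Subring.add_mem _ (Subring.subset_closure ⟨_, rfl⟩) (Subring.subset_closure ⟨_, rfl⟩)
  · have hfun : (fun i : Fin d => (1 : IsLocalRing.ResidueField V) ⊗ₜ[V]
        (x i + (y0 i ^ N + y1 i ^ N))) =
        fun i : Fin d => (1 : IsLocalRing.ResidueField V) ⊗ₜ[V] x i +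
          ((1 : IsLocalRing.ResidueField V) ⊗ₜ[V] y0 i) ^ N := by
      funext i
      rw [TensorProduct.tmul_add, TensorProduct.tmul_add]
      have h1 : (1 : IsLocalRing.ResidueField V) ⊗ₜ[V] (y1 i ^ N) = 0 := by
        have : (1 : IsLocalRing.ResidueField V) ⊗ₜ[V] (y1 i ^ N) =
            ((1 : IsLocalRing.ResidueField V) ⊗ₜ[V] y1 i) ^ N := by
          rw [Algebra.TensorProduct.tmul_pow, one_pow]
        rw [this, hy1κ, zero_pow (by omega)]
      rw [h1, add_zero, Algebra.TensorProduct.tmul_pow, one_pow]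
    rw [hfun]
    exact hy0
  · have hfun : (fun i : Fin d => (1 : FractionRing V) ⊗ₜ[V] (x i + (y0 i ^ N + y1 i ^ N))) =
        fun i : Fin d => (1 : FractionRing V) ⊗ₜ[V] (x i + y0 i ^ N) +
          ((1 : FractionRing V) ⊗ₜ[V] y1 i) ^ N := by
      funext i
      rw [← add_assoc, TensorProduct.tmul_add (1 : FractionRing V) (x i + y0 i ^ N)]
      congr 1
      rw [Algebra.TensorProduct.tmul_pow, one_pow]
    rw [hfun]
    exact hy1K

end Groth.Agent.Helper3.Ked
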