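import Mathlib

set_option autoImplicit false
set_option linter.style.haveILetI false
set_option linter.unusedSectionVars false
set_option linter.unusedVariables false
set_option linter.deprecated false
set_option linter.style.haveILetI false
set_option linter.unusedSectionVars false
set_option linter.unusedVariables false

universe u v w

namespace Groth.Agent.Helper3.KumEt1

open nonZeroDivisors Polynomial

theorem fi_pow_mem_pow {A K : Type*} [CommRing A] [IsDomain A] [Field K] [Algebra A K]
    [IsFractionRing A K] (I : FractionalIdeal A⁰ K) {x : K} (hx : x ∈ I) (n : ℕ) :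
    x ^ n ∈ I ^ n := by
  induction n with
  | zero =>
    rw [pow_zero, pow_zero]
    exact FractionalIdeal.one_mem_one _
  | succ k ih =>
    rw [pow_succ, pow_succ]
    exact FractionalIdeal.mul_mem_mul ih hx

/-- local scaling: an element `c` with `c^n f` a unit at `p` -/
theorem exists_scaling {A K : Type*} [CommRing A] [IsDedekindDomain A] [Field K] [Algebra A K]
    [IsFractionRing A K] (n : ℕ) (hn : n ≠ 0) (f : K) (hf : f ≠ 0)
    (I : FractionalIdeal A⁰ K) (hI : FractionalIdeal.spanSingleton A⁰ f = I ^ n)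
    (p : Ideal A) [p.IsPrime] :
    ∃ (c : K) (v : A), c ≠ 0 ∧ c ^ n * f = algebraMap A K v ∧ v ∉ p := by
  have hI0 : I ≠ 0 := by
    rintro rfl
    rw [zero_pow hn, FractionalIdeal.spanSingleton_eq_zero_iff] at hI
    exact hf hI
  have hmul : I⁻¹ * I = 1 := inv_mul_cancel₀ hI0
  have hex : ∃ c ∈ I⁻¹, ∃ b ∈ I, c * b ∉ (p : FractionalIdeal A⁰ K) := by
    by_contra hcon
    push Not at hcon
    have hle : I⁻¹ * I ≤ (p : FractionalIdeal A⁰ K) :=
      FractionalIdeal.mul_le.mpr (fun c hc b hb => hcon c hc b hb)
    rw [hmul] at hle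
    have h1 : (1 : K) ∈ (p : FractionalIdeal A⁰ K) := hle (FractionalIdeal.one_mem_one _)
    rw [FractionalIdeal.mem_coeIdeal] at h1
    obtain ⟨a, ha, ha1⟩ := h1
    have : a = 1 := (IsFractionRing.injective A K) (by rw [ha1, map_one])
    rw [this] at ha
    exact (Ideal.IsPrime.ne_top inferInstance) ((Ideal.eq_top_iff_one p).mpr ha)
  obtain ⟨c, hc, b, hb, hcb⟩ := hex
  have hcb1 : c * b ∈ (1 : FractionalIdeal A⁰ K) := by
    rw [← hmul]; exact FractionalIdeal.mul_mem_mul hc hb
  rw [FractionalIdeal.mem_one_iff] at hcb1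
  obtain ⟨a₀, ha₀⟩ := hcb1
  have ha₀p : a₀ ∉ p := by
    intro h
    apply hcb
    rw [FractionalIdeal.mem_coeIdeal]
    exact ⟨a₀, h, ha₀⟩
  have hcn : c ^ n ∈ FractionalIdeal.spanSingleton A⁰ f⁻¹ := by
    have h1 := fi_pow_mem_pow I⁻¹ hc n
    rwa [inv_pow, ← hI, FractionalIdeal.spanSingleton_inv] at h1
  have hbn : b ^ n ∈ FractionalIdeal.spanSingleton A⁰ f := by
    have h1 := fi_pow_mem_pow I hb n
    rwa [← hI] at h1
  rw [FractionalIdeal.mem_spanSingleton] at hcn hbn
  obtain ⟨a', ha'⟩ := hcn
  obtain ⟨a, ha⟩ := hbn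
  refine ⟨c, a', ?_, ?_, ?_⟩
  · rintro rfl
    apply hcb
    rw [zero_mul]
    exact FractionalIdeal.zero_mem _
  · rw [← ha', Algebra.smul_def, mul_assoc, inv_mul_cancel₀ hf, mul_one]
  · intro hp
    apply ha₀p
    have h2 : algebraMap A K (a₀ ^ n) = algebraMap A K (a' * a) := by
      rw [map_pow, ha₀, mul_pow, ← ha', ← ha, Algebra.smul_def, Algebra.smul_def, map_mul]
      field_simp
    have h3 : a₀ ^ n = a' * a := IsFractionRing.injective A K h2
    exact Ideal.IsPrime.mem_of_pow_mem inferInstance n (h3 ▸ Ideal.mul_mem_right a p hp)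

attribute [local instance] FractionRing.liftAlgebra FractionRing.isScalarTower_liftAlgebra in
/-- universe-polymorphic transfer of separability to `FractionRing`s -/
theorem sep_transfer {A C K M : Type*} [CommRing A] [CommRing C] [IsDomain A] [IsDomain C]
    [Algebra A C] [Module.IsTorsionFree A C]
    [Field K] [Field M] [Algebra A K] [IsFractionRing A K] [Algebra C M] [IsFractionRing C M]
    [Algebra K M] [Algebra A M] [IsScalarTower A K M] [IsScalarTower A C M]
    [Algebra.IsSeparable K M] :
    Algebra.IsSeparable (FractionRing A) (FractionRing C) := by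
  let e₁ : K ≃+* FractionRing A := (FractionRing.algEquiv A K).symm.toRingEquiv
  let e₂ : M ≃+* FractionRing C := (FractionRing.algEquiv C M).symm.toRingEquiv
  refine Algebra.IsSeparable.of_equiv_equiv e₁ e₂ ?_
  apply IsLocalization.ringHom_ext (nonZeroDivisors A)
  ext a
  simp only [RingHom.comp_apply]
  have h1 : e₁ (algebraMap A K a) = algebraMap A (FractionRing A) a := by
    show (FractionRing.algEquiv A K).symm (algebraMap A K a) = _
    rw [AlgEquiv.commutes]
  have h2 : algebraMap K M (algebraMap A K a) = algebraMap C M (algebraMap A C a) := by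
    rw [← IsScalarTower.algebraMap_apply, ← IsScalarTower.algebraMap_apply]
  have h3 : e₂ (algebraMap C M (algebraMap A C a)) =
      algebraMap C (FractionRing C) (algebraMap A C a) := by
    show (FractionRing.algEquiv C M).symm (algebraMap C M _) = _
    rw [AlgEquiv.commutes]
  show algebraMap (FractionRing A) (FractionRing C) (e₁ (algebraMap A K a)) =
    e₂ (algebraMap K M (algebraMap A K a))
  rw [h1, h2, h3, ← IsScalarTower.algebraMap_apply A (FractionRing A) (FractionRing C),
    ← IsScalarTower.algebraMap_apply A C (FractionRing C)]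

end Groth.Agent.Helper3.KumEt1
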