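import Mathlib
import Groth.Agent.Helper3.KumEt1

set_option autoImplicit false
set_option linter.style.haveILetI false
set_option linter.unusedSectionVars false
set_option linter.unusedVariables false
set_option linter.deprecated false
set_option linter.style.haveILetI false
set_option linter.unusedSectionVars false
set_option linter.unusedVariables false

universe u v w

namespace Groth.Agent.Helper3.KumEt2

open nonZeroDivisors Polynomial IntermediateField Groth.Agent.Helper3.KumEt1

attribute [local instance] FractionRing.liftAlgebra FractionRing.isScalarTower_liftAlgebra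

theorem s14177
    {A : Type u} {K : Type v} {L : Type w} [CommRing A] [IsDedekindDomain A]
    [Field K] [Algebra A K] [IsFractionRing A K]
    [Field L] [Algebra K L] [Algebra A L] [IsScalarTower A K L]
    (n : ℕ) (hn : IsUnit (n : A)) (f : K) (hf : f ≠ 0)
    (I : FractionalIdeal A⁰ K) (hI : FractionalIdeal.spanSingleton A⁰ f = I ^ n)
    (α : L) (hα : α ^ n = algebraMap K L f) (hgen : IntermediateField.adjoin K {α} = ⊤) :
    Algebra.Etale A (integralClosure A L) ∧ Module.Finite A (integralClosure A L) := by
  -- n ≠ 0
  have hn0 : n ≠ 0 := by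
    rintro rfl
    simp at hn
  have hnK : (n : K) ≠ 0 := by
    have h1 : IsUnit (algebraMap A K (n : A)) := hn.map _
    rw [map_natCast] at h1
    exact h1.ne_zero
  -- α separable
  have hroot : aeval α (X ^ n - C f : K[X]) = 0 := by simp [hα]
  have hmonic : (X ^ n - C f : K[X]).Monic := monic_X_pow_sub_C f hn0
  have hαint : IsIntegral K α := ⟨_, hmonic, hroot⟩
  have hαsep : IsSeparable K α :=
    (separable_X_pow_sub_C f hnK hf).of_dvd (minpoly.dvd K α hroot)
  haveI hsepL : Algebra.IsSeparable K L := by
    haveI : Algebra.IsSeparable K K⟮α⟯ :=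
      (IntermediateField.isSeparable_adjoin_simple_iff_isSeparable K L).mpr hαsep
    have e : K⟮α⟯ ≃ₐ[K] L := (IntermediateField.equivOfEq hgen).trans IntermediateField.topEquiv
    exact AlgEquiv.Algebra.isSeparable e
  haveI hfinL : FiniteDimensional K L := by
    haveI : FiniteDimensional K K⟮α⟯ := IntermediateField.adjoin.finiteDimensional hαint
    have e : K⟮α⟯ ≃ₐ[K] L := (IntermediateField.equivOfEq hgen).trans IntermediateField.topEquiv
    exact Module.Finite.equiv e.toLinearEquiv
  have hadjα : Algebra.adjoin K {α} = ⊤ := by
    rw [← IntermediateField.adjoin_simple_toSubalgebra_of_isAlgebraic hαint.isAlgebraic, hgen]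
    rfl
  -- instances for B
  haveI hfin : Module.Finite A (integralClosure A L) :=
    IsIntegralClosure.finite A K L (integralClosure A L)
  haveI hded : IsDedekindDomain (integralClosure A L) := integralClosure.isDedekindDomain A K L
  haveI hfrac : IsFractionRing (integralClosure A L) L :=
    integralClosure.isFractionRing_of_finite_extension K L
  haveI htfL : Module.IsTorsionFree A L := by
    rw [Module.isTorsionFree_iff_algebraMap_injective, IsScalarTower.algebraMap_eq A K L]
    exact (algebraMap K L).injective.comp (IsFractionRing.injective A K)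
  haveI htf : Module.IsTorsionFree A (integralClosure A L) := inferInstance
  haveI hsepF : Algebra.IsSeparable (FractionRing A) (FractionRing (integralClosure A L)) :=
    sep_transfer (A := A) (C := integralClosure A L) (K := K) (M := L)
  -- unramified at every prime
  have hunr : ∀ (Q : Ideal (integralClosure A L)) [Q.IsPrime], Algebra.IsUnramifiedAt A Q := by
    intro Q _
    rw [← not_dvd_differentIdeal_iff, Ideal.dvd_iff_le]
    intro hle
    obtain ⟨c, v, hc0, hcv, hvp⟩ := exists_scaling n hn0 f hf I hI (Q.under A)
    -- the generator x = c α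
    have hxn : (algebraMap K L c * α) ^ n = algebraMap A L v := by
      rw [mul_pow, hα, ← map_pow, ← map_mul, hcv, ← IsScalarTower.algebraMap_apply]
    have hxint : IsIntegral A (algebraMap K L c * α) :=
      IsIntegral.of_pow (Nat.pos_of_ne_zero hn0) (hxn ▸ isIntegral_algebraMap)
    let x : integralClosure A L := ⟨algebraMap K L c * α, hxint⟩
    have hxL : algebraMap (integralClosure A L) L x = algebraMap K L c * α := rfl
    have hxpow : x ^ n = algebraMap A (integralClosure A L) v := by
      apply Subtype.ext
      exact hxn
    have hadjx : Algebra.adjoin K {algebraMap (integralClosure A L) L x} = ⊤ := by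
      rw [eq_top_iff, ← hadjα, Algebra.adjoin_le_iff, Set.singleton_subset_iff, hxL]
      have h1 : α = c⁻¹ • (algebraMap K L c * α) := by
        rw [Algebra.smul_def, ← mul_assoc, ← map_mul, inv_mul_cancel₀ hc0, map_one, one_mul]
      rw [SetLike.mem_coe]
      have h2 := Subalgebra.smul_mem (Algebra.adjoin K {algebraMap K L c * α})
        (Algebra.subset_adjoin (Set.mem_singleton _)) c⁻¹
      rwa [← h1] at h2
    have hmem := aeval_derivative_mem_differentIdeal A K L x hadjx
    have hQ := hle hmem
    -- factor X^n - v
    have hxintB : IsIntegral A x := IsIntegralClosure.isIntegral A L x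
    have hroot2 : aeval x (X ^ n - C v : A[X]) = 0 := by
      rw [map_sub, map_pow, aeval_X, aeval_C, hxpow, sub_self]
    have hdvd : minpoly A x ∣ (X ^ n - C v : A[X]) :=
      minpoly.isIntegrallyClosed_dvd hxintB hroot2
    obtain ⟨h, hh⟩ := hdvd
    have hder := congrArg (fun q => aeval x (derivative q)) hh
    simp only [derivative_sub, derivative_X_pow, derivative_C, sub_zero, derivative_mul,
      map_add, map_mul, minpoly.aeval, zero_mul, add_zero, map_pow, aeval_X, map_natCast,
      aeval_C] at hder
    -- n x^(n-1) ∈ Q
    have h1 : (n : integralClosure A L) * x ^ (n - 1) ∈ Q := by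
      rw [hder]
      exact Ideal.mul_mem_right _ _ hQ
    have hnB : IsUnit ((n : integralClosure A L)) := by
      have := hn.map (algebraMap A (integralClosure A L))
      rwa [map_natCast] at this
    have h2 : x ^ (n - 1) ∈ Q := by
      obtain ⟨u, hu⟩ := hnB
      have := Ideal.mul_mem_left Q (↑u⁻¹ : integralClosure A L) h1
      rwa [← hu, ← mul_assoc, Units.inv_mul, one_mul] at this
    have h3 : x ∈ Q := Ideal.IsPrime.mem_of_pow_mem inferInstance _ h2
    have h4 : x ^ n ∈ Q := Ideal.pow_mem_of_mem Q h3 n (Nat.pos_of_ne_zero hn0)
    rw [hxpow] at h4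
    exact hvp h4
  haveI hfu : Algebra.FormallyUnramified A (integralClosure A L) := by
    rw [← Algebra.unramifiedLocus_eq_univ_iff, Set.eq_univ_iff_forall]
    intro Q
    exact hunr Q.asIdeal
  haveI : Algebra.FinitePresentation A (integralClosure A L) :=
    Algebra.FinitePresentation.of_finiteType.mp inferInstance
  exact ⟨Algebra.Etale.of_formallyUnramified_of_flat, hfin⟩

end Groth.Agent.Helper3.KumEt2
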