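import Mathlib

set_option linter.style.haveILetI false
set_option linter.unusedSectionVars false
set_option linter.unusedVariables false

namespace Groth.Agent.Helper3.KummerDiv

open Polynomial

universe u

/-- `μ ∣ z - 1 → μ ^ p ∣ z ^ p - 1` when `μ ^ (p - 1) ∣ p`. -/
theorem step_mpr {A : Type u} [CommRing A] (p : ℕ) (hp : p.Prime) (μ z : A)
    (hμ : μ ^ (p - 1) ∣ (p : A)) (h : μ ∣ z - 1) : μ ^ p ∣ z ^ p - 1 := by
  obtain ⟨y, hy⟩ := h
  have hz : z = μ * y + 1 := by rw [← hy]; ring
  rw [hz, add_pow, Finset.sum_range_succ', ]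
  simp only [one_pow, mul_one, pow_zero, Nat.choose_zero_right, Nat.cast_one, add_sub_cancel_right]
  refine Finset.dvd_sum (fun m hm => ?_)
  rw [Finset.mem_range] at hm
  by_cases hmp : m + 1 = p
  · rw [hmp, mul_pow]
    exact Dvd.dvd.mul_right (Dvd.intro _ rfl) _
  · have h1 : p ∣ p.choose (m + 1) := hp.dvd_choose_self (by omega) (by omega)
    have h2 : (p : A) ∣ (p.choose (m + 1) : A) := by exact_mod_cast Nat.cast_dvd_cast (α := A) h1
    have h3 : μ ^ (p - 1) ∣ (p.choose (m + 1) : A) := hμ.trans h2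
    have h4 : μ ^ (m + 1) ∣ (μ * y) ^ (m + 1) := by rw [mul_pow]; exact Dvd.intro _ rfl
    have h5 : μ ^ p ∣ μ ^ (m + 1) * μ ^ (p - 1) := by
      rw [← pow_add]
      exact pow_dvd_pow _ (by omega)
    exact h5.trans (mul_dvd_mul h4 h3)

/-- `μ ^ p ∣ z ^ p - 1 → μ ∣ z - 1` when `μ ^ (p - 1) ∣ p`, over an integrally closed domain. -/
theorem step_mp {A : Type u} [CommRing A] [IsDomain A] [IsIntegrallyClosed A] (p : ℕ)
    (hp : p.Prime) (μ z : A) (hμ0 : μ ≠ 0)
    (hμ : μ ^ (p - 1) ∣ (p : A)) (h : μ ^ p ∣ z ^ p - 1) : μ ∣ z - 1 := by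
  classical
  let F := FractionRing A
  obtain ⟨w, hw⟩ := h
  -- coefficients
  have hc : ∀ i : ℕ, ∃ c : A, (i = 0 → μ ^ p * c = 1 - z ^ p) ∧
      (0 < i → i < p → μ ^ (p - i) * c = (p.choose i : A)) := by
    intro i
    rcases Nat.eq_zero_or_pos i with rfl | hi
    · exact ⟨-w, fun _ => by rw [mul_neg, ← hw]; ring, fun h => absurd h (lt_irrefl 0)⟩
    · by_cases hip : i < p
      · have h1 : p ∣ p.choose i := hp.dvd_choose_self (by omega) hip
        have h2 : (p : A) ∣ (p.choose i : A) := by
          exact_mod_cast Nat.cast_dvd_cast (α := A) h1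
        have h3 : μ ^ (p - i) ∣ (p.choose i : A) :=
          ((pow_dvd_pow μ (by omega)).trans hμ).trans h2
        obtain ⟨c, hc⟩ := h3
        exact ⟨c, fun h => by omega, fun _ _ => hc.symm⟩
      · exact ⟨0, fun h => by omega, fun _ h => absurd h hip⟩
  choose e he0 he using hc
  set y : F := (algebraMap A F z - 1) / algebraMap A F μ with hy
  have hμF : algebraMap A F μ ≠ 0 := by
    simpa using (IsFractionRing.injective A F).ne hμ0
  have ht : algebraMap A F μ * y = algebraMap A F z - 1 := by
    rw [hy, mul_div_cancel₀ _ hμF]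
  -- integrality
  have hint : IsIntegral A y := by
    refine ⟨X ^ p + ∑ i : Fin p, C (e i) * X ^ (i : ℕ),
      monic_X_pow_add (degree_sum_fin_lt _), ?_⟩
    rw [eval₂_add, eval₂_pow, eval₂_X, eval₂_finset_sum]
    simp only [eval₂_mul, eval₂_C, eval₂_pow, eval₂_X]
    rw [Fin.sum_univ_eq_sum_range (fun i => algebraMap A F (e i) * y ^ i) p]
    have hmul : algebraMap A F μ ^ p *
        (y ^ p + ∑ i ∈ Finset.range p, algebraMap A F (e i) * y ^ i) = 0 := by
      have h1 : ∀ i ∈ Finset.range p, algebraMap A F μ ^ p * (algebraMap A F (e i) * y ^ i) =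
          (algebraMap A F μ * y) ^ i * (p.choose i : F) -
            (if i = 0 then algebraMap A F z ^ p else 0) := by
        intro i hi
        rw [Finset.mem_range] at hi
        rcases Nat.eq_zero_or_pos i with rfl | hi0
        · have := congrArg (algebraMap A F) (he0 0 rfl)
          simp only [map_mul, map_pow, map_sub, map_one] at this
          simp only [pow_zero, mul_one, Nat.choose_zero_right, Nat.cast_one, if_true, this]
        · have := congrArg (algebraMap A F) (he i hi0 hi)
          simp only [map_mul, map_pow, map_natCast] at this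
          rw [if_neg hi0.ne', sub_zero, ← this, mul_pow]
          have h2 : algebraMap A F μ ^ p = algebraMap A F μ ^ i * algebraMap A F μ ^ (p - i) := by
            rw [← pow_add]; congr 1; omega
          rw [h2]; ring
      rw [mul_add, Finset.mul_sum, Finset.sum_congr rfl h1, Finset.sum_sub_distrib,
        Finset.sum_ite_eq' (Finset.range p) 0, if_pos (Finset.mem_range.mpr hp.pos), ← mul_pow]
      have h3 : algebraMap A F z ^ p = ∑ i ∈ Finset.range (p + 1),
          (algebraMap A F μ * y) ^ i * (p.choose i : F) := by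
        have : algebraMap A F z = algebraMap A F μ * y + 1 := by rw [ht]; ring
        rw [this, add_pow]
        simp
      rw [h3, Finset.sum_range_succ, Nat.choose_self, Nat.cast_one, mul_one]
      ring
    rcases mul_eq_zero.mp hmul with h | h
    · exact absurd (eq_zero_of_pow_eq_zero h) hμF
    · exact h
  obtain ⟨a, ha⟩ := IsIntegrallyClosed.algebraMap_eq_of_integral hint
  refine ⟨a, ?_⟩
  apply IsFractionRing.injective A F
  rw [map_sub, map_one, map_mul, ha, ht]

theorem main (R : Type u) [CommRing R]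
    [IsDomain R] [IsDiscreteValuationRing R] [CharZero R] (p n : ℕ) [Fact p.Prime] (hn : 1 ≤ n)
    (hp : (p : R) ∈ IsLocalRing.maximalIdeal R) (lam : R) (hlam : lam ≠ 0)
    (hstar : lam ^ (p ^ (n - 1) * (p - 1)) ∣ (p : R))
    (A : Type u) [CommRing A] [IsDomain A] [IsIntegrallyClosed A] [Algebra R A]
    [Module.FaithfullyFlat R A]
    (x : Aˣ) :
    (algebraMap R A lam ^ p ^ n ∣ (x : A) ^ p ^ n - 1) ↔ (algebraMap R A lam ∣ (x : A) - 1) := by
  have hpp : p.Prime := Fact.out
  set l := algebraMap R A lam with hl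
  have hl0 : l ≠ 0 := by
    rw [hl]
    exact (map_ne_zero_iff _ (FaithfulSMul.algebraMap_injective R A)).mpr hlam
  have hstar' : l ^ (p ^ (n - 1) * (p - 1)) ∣ (p : A) := by
    have := map_dvd (algebraMap R A) hstar
    simpa using this
  have key : ∀ k : ℕ, k ≤ n →
      ((l ^ p ^ k ∣ (x : A) ^ p ^ k - 1) ↔ (l ∣ (x : A) - 1)) := by
    intro k
    induction k with
    | zero => intro _; simp
    | succ k ih =>
      intro hk
      rw [← ih (by omega)]
      have h1 : (l ^ p ^ k) ^ (p - 1) ∣ (p : A) := by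
        rw [← pow_mul]
        refine (pow_dvd_pow l ?_).trans hstar'
        exact Nat.mul_le_mul_right _ (Nat.pow_le_pow_right hpp.pos (by omega))
      rw [pow_succ, pow_mul, pow_mul]
      exact ⟨step_mp p hpp _ _ (pow_ne_zero _ hl0) h1, step_mpr p hpp _ _ h1⟩
  exact key n le_rfl

end Groth.Agent.Helper3.KummerDiv
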