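import Mathlib
import Groth.Prelude.Def_LCI2
import Groth.Agent.Helper3.KzRelC
import Groth.Agent.Helper3.GenInj

set_option autoImplicit false
set_option linter.style.haveILetI false
set_option linter.unusedSectionVars false
set_option linter.unusedVariables false
set_option linter.style.haveILetI false
set_option linter.unusedSectionVars false
set_option linter.unusedVariables false

/-!
# Lifting Koszul-regular sequences with flat quotient over Artinian local rings
-/

namespace Groth.Agent.Helper3.KzArt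

universe u

lemma ofList_ofFn {S : Type u} [CommRing S] {r : ℕ} (f : Fin r → S) :
    Ideal.ofList (List.ofFn f) = Ideal.span (Set.range f) := by
  show Ideal.span {x | x ∈ List.ofFn f} = Ideal.span (Set.range f)
  congr 1
  ext x
  simp [List.mem_ofFn]

section
variable {A' : Type u} [CommRing A'] (I : Ideal A') {R' : Type u} [CommRing R'] [Algebra A' R']
  [Module.Flat A' R'] (r : ℕ) (f : Fin r → R' ⧸ I.map (algebraMap A' R'))

theorem part1 (hnil : IsNilpotent I)
    (hf : LCI.IsKoszulRegularSeq (R' ⧸ I.map (algebraMap A' R')) (List.ofFn f))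
    (hflat : Module.Flat (A' ⧸ I) ((R' ⧸ I.map (algebraMap A' R')) ⧸ Ideal.span (Set.range f)))
    (f' : Fin r → R') (hf' : ∀ i, Ideal.Quotient.mk (I.map (algebraMap A' R')) (f' i) = f i) :
    Module.Flat A' (R' ⧸ Ideal.span (Set.range f')) ∧ LCI.IsKoszulRegularSeq R' (List.ofFn f') := by
  have hmap : (List.ofFn f').map (Ideal.Quotient.mk (I.map (algebraMap A' R'))) = List.ofFn f := by
    rw [List.map_ofFn]
    congr 1
    funext i
    exact hf' i
  have h := Groth.Agent.Helper3.KzRelC.main_nilpotent A' R' I (List.ofFn f') hnil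
    (by rw [hmap]; exact hf) (by rw [hmap, ofList_ofFn]; exact hflat)
  rw [ofList_ofFn] at h
  exact ⟨h.2, h.1⟩

local notation "IR" => Ideal.map (algebraMap A' R') I

theorem part2 (hnil : IsNilpotent I) (J' : Ideal R') (hflat : Module.Flat A' (R' ⧸ J'))
    (hJ' : J'.map (Ideal.Quotient.mk (I.map (algebraMap A' R'))) = Ideal.span (Set.range f))
    (f' : Fin r → R') (hmem : ∀ i, f' i ∈ J')
    (hf' : ∀ i, Ideal.Quotient.mk (I.map (algebraMap A' R')) (f' i) = f i) :
    J' = Ideal.span (Set.range f') := by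
  set K : Ideal R' := Ideal.span (Set.range f') with hK
  have hKJ : K ≤ J' := by
    rw [hK, Ideal.span_le]
    rintro _ ⟨i, rfl⟩
    exact hmem i
  have hKmap : K.map (Ideal.Quotient.mk IR) = Ideal.span (Set.range f) := by
    rw [hK, Ideal.map_span]
    congr 1
    ext x
    constructor
    · rintro ⟨_, ⟨i, rfl⟩, rfl⟩
      exact ⟨i, (hf' i).symm⟩
    · rintro ⟨i, rfl⟩
      exact ⟨f' i, ⟨i, rfl⟩, hf' i⟩
  -- key step
  have key : ∀ x ∈ J', ∃ k ∈ K, x - k ∈ IR * J' := by
    intro x hx
    have h1 : Ideal.Quotient.mk IR x ∈ K.map (Ideal.Quotient.mk IR) := by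
      rw [hKmap, ← hJ']
      exact Ideal.mem_map_of_mem _ hx
    rw [Ideal.mem_map_iff_of_surjective _ Ideal.Quotient.mk_surjective] at h1
    obtain ⟨k, hk, hkx⟩ := h1
    refine ⟨k, hk, ?_⟩
    have hyI : x - k ∈ IR := by
      rw [← Ideal.Quotient.eq_zero_iff_mem, map_sub, hkx, sub_self]
    have hyJ : x - k ∈ J' := J'.sub_mem hx (hKJ hk)
    have hyI' : x - k ∈ I • (⊤ : Submodule A' R') := by
      rw [Ideal.smul_top_eq_map]
      exact hyI
    have hex : Function.Exact (J'.subtype.restrictScalars A')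
        ((Submodule.mkQ J').restrictScalars A') := by
      intro y
      constructor
      · intro hy
        have : y ∈ J' := (Submodule.Quotient.mk_eq_zero J').mp hy
        exact ⟨⟨y, this⟩, rfl⟩
      · rintro ⟨z, rfl⟩
        exact (Submodule.Quotient.mk_eq_zero J').mpr z.2
    have hsurj : Function.Surjective ((Submodule.mkQ J').restrictScalars A') :=
      Submodule.mkQ_surjective J'
    have := Groth.Agent.Helper3.GenInj.mem_map_smul_of_flat
      (g := J'.subtype.restrictScalars A') (h := (Submodule.mkQ J').restrictScalars A')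
      hex hsurj I (x - k) ((Submodule.Quotient.mk_eq_zero J').mpr hyJ) hyI'
    obtain ⟨z, hz, hzx⟩ := this
    rw [← hzx]
    clear hzx
    refine Submodule.smul_induction_on hz ?_ ?_
    · intro a ha w _
      show ((a • w : J') : R') ∈ IR * J'
      have : ((a • w : J') : R') = algebraMap A' R' a * (w : R') := by
        rw [← Algebra.smul_def]
        rfl
      rw [this]
      exact Ideal.mul_mem_mul (Ideal.mem_map_of_mem _ ha) w.2
    · intro a b ha hb
      rw [map_add]
      exact (IR * J').add_mem ha hb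
  have step : ∀ n : ℕ, J' ≤ K ⊔ IR ^ n * J' := by
    intro n
    induction n with
    | zero => rw [pow_zero, one_mul]; exact le_sup_right
    | succ n ih =>
      intro x hx
      obtain ⟨k, hk, hxk⟩ := key x hx
      have h2 : IR * J' ≤ K ⊔ IR ^ (n + 1) * J' := by
        calc IR * J' ≤ IR * (K ⊔ IR ^ n * J') := Ideal.mul_mono_right ih
          _ = IR * K ⊔ IR * (IR ^ n * J') := Ideal.mul_sup _ _ _
          _ ≤ K ⊔ IR ^ (n + 1) * J' := by
            apply sup_le_sup Ideal.mul_le_right
            rw [← mul_assoc, ← pow_succ']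
      have : x = k + (x - k) := by ring
      rw [this]
      exact Ideal.add_mem _ (Ideal.mem_sup_left hk) (h2 hxk)
  obtain ⟨n, hn⟩ := hnil
  have hIRn : IR ^ n = ⊥ := by
    rw [← Ideal.map_pow, hn]
    exact Ideal.map_bot
  have := step n
  rw [hIRn, Ideal.bot_mul, sup_bot_eq] at this
  exact le_antisymm this hKJ

end

theorem isNilpotent_of_ne_top {A' : Type u} [CommRing A'] [IsLocalRing A'] [IsArtinianRing A']
    (I : Ideal A') (hI : I ≠ ⊤) : IsNilpotent I := by
  have h1 : I ≤ IsLocalRing.maximalIdeal A' := IsLocalRing.le_maximalIdeal hI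
  have h2 : IsNilpotent (IsLocalRing.maximalIdeal A') := by
    have := IsArtinianRing.isNilpotent_jacobson_bot (R := A')
    rwa [IsLocalRing.jacobson_eq_maximalIdeal ⊥ bot_ne_top] at this
  obtain ⟨n, hn⟩ := h2
  refine ⟨n, ?_⟩
  rw [Ideal.zero_eq_bot] at hn ⊢
  exact le_bot_iff.mp (hn ▸ Ideal.pow_right_mono h1 n)

theorem main
    {A' : Type u} [CommRing A'] [IsLocalRing A'] [IsArtinianRing A'] (I : Ideal A') (hI : I ≠ ⊤)
    {R' : Type u} [CommRing R'] [Algebra A' R'] [Module.Flat A' R']
    (r : ℕ) (f : Fin r → R' ⧸ I.map (algebraMap A' R'))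
    (hf : LCI.IsKoszulRegularSeq (R' ⧸ I.map (algebraMap A' R')) (List.ofFn f))
    [hflat : Module.Flat (A' ⧸ I) ((R' ⧸ I.map (algebraMap A' R')) ⧸ Ideal.span (Set.range f))] :
    (∀ f' : Fin r → R', (∀ i, Ideal.Quotient.mk (I.map (algebraMap A' R')) (f' i) = f i) →
        Module.Flat A' (R' ⧸ Ideal.span (Set.range f')) ∧ LCI.IsKoszulRegularSeq R' (List.ofFn f')) ∧
    (∀ (J' : Ideal R'), Module.Flat A' (R' ⧸ J') →
        J'.map (Ideal.Quotient.mk (I.map (algebraMap A' R'))) = Ideal.span (Set.range f) →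
        ∀ f' : Fin r → R', (∀ i, f' i ∈ J') →
          (∀ i, Ideal.Quotient.mk (I.map (algebraMap A' R')) (f' i) = f i) →
          J' = Ideal.span (Set.range f')) := by
  have hnil := isNilpotent_of_ne_top I hI
  exact ⟨fun f' hf' => part1 I r f hnil hf hflat f' hf',
    fun J' hJ'flat hJ' f' hmem hf' => part2 I r f hnil J' hJ'flat hJ' f' hmem hf'⟩

end Groth.Agent.Helper3.KzArt
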