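import Mathlib
import Groth.Prelude.Def_ega3
import Groth.Prelude.Def_LCI2
import Groth.Agent.Helper3.KzTor
import Groth.Agent.Helper3.KzRelC
import Groth.Agent.Helper3.KzLoc

set_option autoImplicit false
set_option linter.style.haveILetI false
set_option linter.unusedSectionVars false
set_option linter.unusedVariables false
set_option linter.deprecated false
set_option linter.style.haveILetI false
set_option linter.unusedSectionVars false
set_option linter.unusedVariables false

/-!
# Koszul-regular sequences with flat quotient in a flat algebra: arbitrary base change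
-/

namespace Groth.Agent.Helper3.KzFib
open CategoryTheory MonoidalCategory Limits TensorProduct CohIII
open Groth.Agent.Lead.KoszulFunB Groth.Agent.Lead.KoszulFunC Groth.Agent.Helper1.Koszul
open Groth.Agent.Helper3.KzTor

universe u

section
variable {A : Type u} [CommRing A] {A' : Type u} [CommRing A'] [Algebra A A']

/-- converse of `KzTor.isZero_koszul_algebra` -/
theorem kreg_of_isZero_koszul_algebra (l : List A)
    (h : ∀ i : ℤ, i ≠ 0 → IsZero ((koszulCx (ModuleCat.of A A') l).homology i)) :
    LCI.IsKoszulRegularSeq A' (l.map (algebraMap A A')) := by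
  rw [isKoszulRegularSeq_iff]
  intro i hi
  obtain ⟨e⟩ := nonempty_map_koszulCx_iso (F := ModuleCat.restrictScalars.{u} (algebraMap A A'))
    (l.map (algebraMap A A')) l (Groth.Agent.Lead.KoszulFunE.forall₂_map (algebraMap A A') l)
    (ModuleCat.of A' A')
  have h1 := (h i hi).of_iso ((HomologicalComplex.homologyFunctor _ _ i).mapIso (kIso algIso l)).symm
  have h2 := h1.of_iso ((HomologicalComplex.homologyFunctor _ _ i).mapIso e)
  exact isZero_homology_of_map (ModuleCat.restrictScalars.{u} (algebraMap A A')) _ i h2

end

section
variable (R : Type u) [CommRing R] {S : Type u} [CommRing S] [Algebra R S] [Module.Flat R S]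

/-- **C1**: a Koszul-regular sequence with `R`-flat quotient in an `R`-flat algebra stays
Koszul-regular after an arbitrary base change `R → R'`. -/
theorem kreg_baseChange (l : List S) (hl : LCI.IsKoszulRegularSeq S l)
    (hflat : Module.Flat R (S ⧸ Ideal.ofList l)) (R' : Type u) [CommRing R'] [Algebra R R'] :
    LCI.IsKoszulRegularSeq (S ⊗[R] R') (l.map (algebraMap S (S ⊗[R] R'))) := by
  apply kreg_of_isZero_koszul_algebra
  intro i hi
  rcases lt_or_gt_of_ne hi with hlt | hgt
  · rw [isKoszulRegularSeq_iff] at hl
    exact Groth.Agent.Helper3.KzRelC.isZero_koszul_tensor R S l hl hflat R' i hlt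
  · exact isZero_homology_of_isZero_X i (isZero_X_of_pos _ l i hgt)

end

end Groth.Agent.Helper3.KzFib
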