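import Mathlib
import Groth.Agent.Helper3.KzFib2
import Groth.Agent.Helper3.FFDesc2
import Groth.Agent.Helper3.FFDescK

set_option autoImplicit false
set_option linter.style.haveILetI false
set_option linter.unusedSectionVars false
set_option linter.unusedVariables false
set_option linter.deprecated false
set_option linter.style.haveILetI false
set_option linter.unusedSectionVars false
set_option linter.unusedVariables false

/-!
# The fibre criterion for Koszul-regularity (fibre-ring form)
-/

namespace Groth.Agent.Helper3.KzFib
open TensorProduct Algebra Ideal Groth.Agent.Helper3.KzLoc Groth.Agent.Helper3.FFDesc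
  Groth.Agent.Helper3.FFDescK

universe u

section comm
variable {R S : Type u} [CommRing R] [CommRing S] [Algebra R S] (p : Ideal R) [p.IsPrime]

/-- Mathlib's identification of the local ring of the fibre with `S_q/pS_q` is compatible with
the maps from `S` -/
theorem aux2_comm (q : Ideal (p.Fiber S)) [q.IsPrime] (s : S) :
    Ideal.Fiber.algEquivAux₂ p q (algebraMap (p.Fiber S) (Localization.AtPrime q)
      ((1 : p.ResidueField) ⊗ₜ[R] s)) =
      Ideal.Quotient.mk _ (algebraMap S
        (Localization.AtPrime (q.comap Algebra.TensorProduct.includeRight)) s) := by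
  letI : Algebra S (p.Fiber S) := Algebra.TensorProduct.rightAlgebra
  letI Sp := Localization (algebraMapSubmonoid S p.primeCompl)
  letI pS := p.map (algebraMap R S)
  letI SpS := S ⧸ pS
  letI r := q.comap (Algebra.TensorProduct.includeRight (R := R) (A := p.ResidueField) (B := S))
  letI e₁ : p.Fiber S ≃ₐ[S] Sp ⧸ pS.map (algebraMap S Sp) := Ideal.Fiber.algEquivAux₁ p
  letI q' : Ideal (Sp ⧸ pS.map (algebraMap S Sp)) := q.comap e₁.symm
  haveI : (q'.under SpS).LiesOver r := under_liesOver_of_liesOver SpS q' (q.under S)
  haveI : algebraMapSubmonoid SpS r.primeCompl = (q'.under SpS).primeCompl :=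
    algebraMapSubmonoid_primeCompl_of_liesOver_surjective (q'.under SpS) r Quotient.mk_surjective
  haveI : IsLocalization (algebraMapSubmonoid SpS r.primeCompl) (Localization.AtPrime q') := by
    convert IsLocalization.isLocalization_isLocalization_atPrime_isLocalization
      (algebraMapSubmonoid SpS (algebraMapSubmonoid S p.primeCompl)) (Localization.AtPrime q') q'
  have h1 : (Ideal.Fiber.algEquivAux₁ p) ((1 : p.ResidueField) ⊗ₜ[R] s) = algebraMap S _ s :=
    (Ideal.Fiber.algEquivAux₁ (S := S) p).commutes s
  simp only [Ideal.Fiber.algEquivAux₂]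
  simp
  rw [h1]
  rw [IsScalarTower.algebraMap_apply S (S ⧸ p.map (algebraMap R S))
    (Localization (algebraMapSubmonoid S p.primeCompl) ⧸ _)]
  erw [← IsScalarTower.algebraMap_apply (S ⧸ p.map (algebraMap R S)) _
    (Localization.AtPrime (Ideal.comap (Ideal.Fiber.algEquivAux₁ p).symm q))]
  erw [IsLocalization.map_eq]
  rfl

end comm

section main
variable {R P : Type u} [CommRing R] [CommRing P] [Algebra R P]
  [Algebra.FinitePresentation R P] [Module.Flat R P]

/-- **Fibre criterion.** `P` flat of finite presentation over `R`, `I` finitely generated with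
`P/I` flat over `R`.  If the extension of `I` to the fibre `κ(p) ⊗ P` is generated by a
Koszul-regular sequence at a prime `Q` of the fibre, then `I` is generated by a Koszul-regular
sequence on a basic open neighbourhood of the image of `Q` in `Spec P`. -/
theorem fibre_criterion (I : Ideal P) (hI : I.FG) (hflat : Module.Flat R (P ⧸ I))
    (p : Ideal R) [p.IsPrime] (Q : Ideal (p.Fiber P)) [Q.IsPrime]
    (hIQ : I ≤ Q.comap (Algebra.TensorProduct.includeRight (R := R) (A := p.ResidueField)
      (B := P))) (r : ℕ)
    (h : LocReg kregClass r (I.map (Algebra.TensorProduct.includeRight (R := R)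
      (A := p.ResidueField) (B := P)).toRingHom) Q) :
    LocKReg I (Q.comap (Algebra.TensorProduct.includeRight (R := R) (A := p.ResidueField)
      (B := P))) := by
  set ι := (Algebra.TensorProduct.includeRight (R := R) (A := p.ResidueField) (B := P)) with hι
  set q := Q.comap ι with hq
  haveI hqp : q.IsPrime := Ideal.comap_isPrime _ _
  let T := Localization.AtPrime q
  have hp : p = q.comap (algebraMap R P) := by
    have h1 : p = Q.under R := Ideal.LiesOver.over
    rw [h1, Ideal.under_def, hq]
    ext x
    simp only [Ideal.mem_comap]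
    rw [← ι.commutes]
  -- flatness
  haveI hflatT : Module.Flat R T := Module.Flat.trans R P T
  have hFI : Module.Flat R (T ⧸ I.map (algebraMap P T)) := by
    haveI : IsLocalization (Algebra.algebraMapSubmonoid (P ⧸ I) q.primeCompl)
        (T ⧸ I.map (algebraMap P T)) := inferInstance
    haveI : Module.Flat (P ⧸ I) (T ⧸ I.map (algebraMap P T)) :=
      IsLocalization.flat _ (Algebra.algebraMapSubmonoid (P ⧸ I) q.primeCompl)
    haveI : IsScalarTower R (P ⧸ I) (T ⧸ I.map (algebraMap P T)) :=
      IsScalarTower.of_algebraMap_eq (fun r => by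
        show Ideal.Quotient.mk _ (algebraMap R T r) =
          Ideal.Quotient.mk _ (algebraMap P T (algebraMap R P r))
        rw [← IsScalarTower.algebraMap_apply R P T])
    exact Module.Flat.trans R (P ⧸ I) _
  -- the identification of the fibre local ring
  obtain ⟨f, hf, hIf⟩ := h
  let e₁ : Localization.AtPrime Q ≃+* T ⧸ (p.map (algebraMap R P)).map (algebraMap P T) :=
    (Ideal.Fiber.algEquivAux₂ p Q).toRingEquiv
  have hideal : (p.map (algebraMap R P)).map (algebraMap P T) = p.map (algebraMap R T) := by
    rw [Ideal.map_map, ← IsScalarTower.algebraMap_eq]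
  let e₂ : T ⧸ (p.map (algebraMap R P)).map (algebraMap P T) ≃+* T ⧸ p.map (algebraMap R T) :=
    Ideal.quotEquivOfEq hideal
  let e : Localization.AtPrime Q ≃+* T ⧸ p.map (algebraMap R T) := e₁.trans e₂
  have hecomm : ∀ s : P, e (algebraMap (p.Fiber P) (Localization.AtPrime Q) (ι s)) =
      Ideal.Quotient.mk _ (algebraMap P T s) := by
    intro s
    show e₂ (e₁ _) = _
    have : e₁ (algebraMap (p.Fiber P) (Localization.AtPrime Q) (ι s)) =
        Ideal.Quotient.mk _ (algebraMap P T s) := aux2_comm p Q s
    rw [this]
    rfl
  have key := fibre_criterion_local (T := Localization.AtPrime q) q p hp hflatT I hI hIQ hFI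
  have hk2 := kreg_map_ringEquiv e _ hf
  refine key ((List.ofFn f).map e) hk2 ?_
  have h1 : Ideal.ofList ((List.ofFn f).map e) = (Ideal.span (Set.range f)).map
      (e : Localization.AtPrime Q →+* Localization.AtPrime q ⧸ p.map (algebraMap R (Localization.AtPrime q))) := by
    rw [← ofList_ofFn, Ideal.map_ofList]
    rfl
  rw [h1, ← hIf, Ideal.map_map, Ideal.map_map, Ideal.map_map]
  congr 1
  ext s
  exact hecomm s

end main

end Groth.Agent.Helper3.KzFib
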