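import Mathlib
import Groth.Agent.Helper3.KzFib1
import Groth.Agent.Helper3.KzLoc

set_option autoImplicit false
set_option linter.style.haveILetI false
set_option linter.unusedSectionVars false
set_option linter.unusedVariables false
set_option linter.deprecated false
set_option linter.style.haveILetI false
set_option linter.unusedSectionVars false
set_option linter.unusedVariables false

/-!
# Ascent of local Koszul-regularity along an arbitrary base change (flat source, flat quotient)
-/

namespace Groth.Agent.Helper3.KzFib
open TensorProduct Algebra Groth.Agent.Helper3.KzLoc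

universe u

section transport
variable {A B : Type u} [CommRing A] [CommRing B]

/-- transport of `LocKReg` along a ring isomorphism -/
theorem locKReg_map_ringEquiv (e : A ≃+* B) (I q : Ideal A) (h : LocKReg I q) :
    LocKReg (I.map (e : A →+* B)) (q.map (e : A →+* B)) := by
  obtain ⟨g, hg, l, hl, hI⟩ := h
  letI : Algebra B (Localization.Away g) :=
    ((algebraMap A (Localization.Away g)).comp e.symm.toRingHom).toAlgebra
  have hloc : IsLocalization ((Submonoid.powers g).map e) (Localization.Away g) :=
    IsLocalization.isLocalization_of_base_ringEquiv (Submonoid.powers g) (Localization.Away g) e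
  haveI : IsLocalization.Away (e g) (Localization.Away g) := by
    have : (Submonoid.powers g).map e = Submonoid.powers (e g) := Submonoid.map_powers e g
    rw [this] at hloc
    exact hloc
  refine locKReg_of_isLocalization _ _ (e g) ?_ (Localization.Away g) l hl ?_
  · intro h
    apply hg
    have h2 : e.symm (e g) ∈ (q.map (e : A →+* B)).comap (e : A →+* B) := by
      rw [Ideal.mem_comap]
      simpa using h
    rw [Ideal.comap_map_of_bijective (e : A →+* B) e.bijective] at h2
    simpa using h2
  · rw [← hI, Ideal.map_map]
    congr 1
    ext a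
    show algebraMap A (Localization.Away g) (e.symm (e a)) = _
    rw [e.symm_apply_apply]

end transport

section asc
variable (R : Type u) [CommRing R] {P : Type u} [CommRing P] [Algebra R P] [Module.Flat R P]
  (R' : Type u) [CommRing R'] [Algebra R R']

/-- **Ascent.** If `P` and `P/I` are flat over `R` and `I` is generated by a Koszul-regular
sequence near the image of `q'` in `Spec P`, then `I (R' ⊗ P)` is generated by a Koszul-regular
sequence near `q'`. -/
theorem locKReg_tensor (I : Ideal P) (hflat : Module.Flat R (P ⧸ I))
    (q' : Ideal (R' ⊗[R] P)) [q'.IsPrime]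
    (h : LocKReg I (q'.comap (Algebra.TensorProduct.includeRight (R := R) (A := R') (B := P)))) :
    LocKReg (I.map (Algebra.TensorProduct.includeRight (R := R) (A := R') (B := P)).toRingHom)
      q' := by
  obtain ⟨g, hg, l, hl, hI⟩ := h
  haveI : Module.Flat R (Localization.Away g) := Module.Flat.trans R P (Localization.Away g)
  -- flatness of the quotient
  have hIS : Ideal.ofList l = I.map (algebraMap P (Localization.Away g)) := hI.symm
  have hflatS : Module.Flat R ((Localization.Away g) ⧸ Ideal.ofList l) := by
    rw [hIS]
    haveI : IsLocalization (Algebra.algebraMapSubmonoid (P ⧸ I) (Submonoid.powers g))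
        ((Localization.Away g) ⧸ I.map (algebraMap P (Localization.Away g))) := inferInstance
    haveI : Module.Flat (P ⧸ I) ((Localization.Away g) ⧸ I.map (algebraMap P (Localization.Away g))) :=
      IsLocalization.flat _ (Algebra.algebraMapSubmonoid (P ⧸ I) (Submonoid.powers g))
    haveI : IsScalarTower R (P ⧸ I) ((Localization.Away g) ⧸ I.map (algebraMap P (Localization.Away g))) :=
      IsScalarTower.of_algebraMap_eq (fun r => by
        show Ideal.Quotient.mk _ (algebraMap R (Localization.Away g) r) =
          Ideal.Quotient.mk _ (algebraMap P (Localization.Away g) (algebraMap R P r))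
        rw [← IsScalarTower.algebraMap_apply R P (Localization.Away g)])
    exact Module.Flat.trans R (P ⧸ I) _
  have hk := kreg_baseChange R l hl hflatS R'
  -- the localisation of `R' ⊗ P`
  let e₁ : R' ⊗[R] (Localization.Away g) ≃ₐ[R'] Localization.Away ((1 : R') ⊗ₜ[R] g) :=
    IsLocalization.Away.tensorProductEquivTMulRight R R' g (Localization.Away g)
  let e₂ : (Localization.Away g) ⊗[R] R' ≃ₐ[R] R' ⊗[R] (Localization.Away g) := Algebra.TensorProduct.comm R (Localization.Away g) R'
  let e : (Localization.Away g) ⊗[R] R' ≃+* Localization.Away ((1 : R') ⊗ₜ[R] g) :=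
    e₂.toRingEquiv.trans e₁.toRingEquiv
  have hg' : ((1 : R') ⊗ₜ[R] g : R' ⊗[R] P) ∉ q' := hg
  refine locKReg_of_isLocalization _ _ ((1 : R') ⊗ₜ[R] g) hg'
    (Localization.Away ((1 : R') ⊗ₜ[R] g)) ((l.map (algebraMap (Localization.Away g) ((Localization.Away g) ⊗[R] R'))).map e)
    (kreg_map_ringEquiv e _ hk) ?_
  -- the ideal
  have hcomm : ∀ x : P, e (algebraMap (Localization.Away g) ((Localization.Away g) ⊗[R] R') (algebraMap P (Localization.Away g) x)) =
      algebraMap (R' ⊗[R] P) (Localization.Away ((1 : R') ⊗ₜ[R] g)) ((1 : R') ⊗ₜ[R] x) := by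
    intro x
    show e₁ (e₂ ((algebraMap P (Localization.Away g) x) ⊗ₜ[R] (1 : R'))) = _
    rw [show e₂ ((algebraMap P (Localization.Away g) x) ⊗ₜ[R] (1 : R')) = (1 : R') ⊗ₜ[R] (algebraMap P (Localization.Away g) x) from rfl]
    exact IsLocalization.Away.tensorProductEquivTMulRight_tmul (R := R) (S := R') P g (Localization.Away g) 1 x
  have h1 : Ideal.span {y | y ∈ (l.map (algebraMap (Localization.Away g) ((Localization.Away g) ⊗[R] R'))).map e} =
      ((Ideal.ofList l).map (algebraMap (Localization.Away g) ((Localization.Away g) ⊗[R] R'))).map (e : (Localization.Away g) ⊗[R] R' →+* _) := by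
    rw [Ideal.map_ofList, Ideal.map_ofList]
    rfl
  rw [h1, hIS, Ideal.map_map, Ideal.map_map, Ideal.map_map]
  congr 1
  ext x
  exact (hcomm x).symm

end asc

end Groth.Agent.Helper3.KzFib
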