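import Mathlib
import Groth.Agent.Helper3.KzFib3
import Groth.Agent.Helper3.KzFib4
import Groth.Agent.Helper5.SpecFib4

set_option autoImplicit false
set_option linter.style.haveILetI false
set_option linter.unusedSectionVars false
set_option linter.unusedVariables false
set_option linter.deprecated false
set_option linter.style.haveILetI false
set_option linter.unusedSectionVars false
set_option linter.unusedVariables false

/-!
# Local Koszul-regularity of an ideal with flat quotient in a flat finitely presented algebra is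
insensitive to arbitrary base change
-/

namespace Groth.Agent.Helper3.KzFib
open TensorProduct Algebra Groth.Agent.Helper3.KzLoc Groth.Agent.Helper3.FFDesc
  Groth.Agent.Helper3.FFDescK

universe u

section abstract
variable {A F F' B' : Type u} [CommRing A] [CommRing F] [CommRing F'] [CommRing B']

/-- abstract descent step: from a basic-open Koszul-regular generation in `B' ≃ F'` to the local
ring of `F` along a flat map `F → F'` -/
theorem locReg_comap_of_locKReg (ιp : A →+* F) (φ : F →+* F') (hφ : φ.Flat) (c : F' ≃+* B')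
    (ιK : A →+* B') (hc : ∀ x, c (φ (ιp x)) = ιK x) (I : Ideal A) (Q' : Ideal B') [Q'.IsPrime]
    (hIQ : I ≤ Q'.comap ιK) (h : LocKReg (I.map ιK) Q') :
    ∃ (Q : Ideal F) (_ : Q.IsPrime) (r : ℕ), Q.comap ιp = Q'.comap ιK ∧
      LocReg kregClass r (I.map ιp) Q := by
  have h1 := locKReg_map_ringEquiv c.symm _ _ h
  have hI1 : (I.map ιK).map (c.symm : B' →+* F') = (I.map ιp).map φ := by
    rw [Ideal.map_map, Ideal.map_map]
    congr 1
    refine RingHom.ext fun x => ?_
    show c.symm (ιK x) = φ (ιp x)
    rw [← hc x, c.symm_apply_apply]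
  obtain ⟨Q'', hQ''⟩ : ∃ Q'' : Ideal F', Q'' = Q'.map (c.symm : B' →+* F') := ⟨_, rfl⟩
  have hQ''c : Q'' = Q'.comap (c : F' →+* B') := by
    rw [hQ'']
    exact Ideal.map_symm c
  haveI : Q''.IsPrime := by
    rw [hQ''c]
    exact Ideal.comap_isPrime _ _
  have h2 : LocKReg ((I.map ιp).map φ) Q'' := by
    rw [← hI1, hQ'']
    exact h1
  obtain ⟨g, hg, l, hl, hIl⟩ := h2
  have h3 : LocReg kregClass l.length ((I.map ιp).map φ) Q'' :=
    locReg_of_away kregClass _ Q'' g hg l hl hIl
  have hcomapQ : (Q''.comap φ).comap ιp = Q'.comap ιK := by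
    rw [hQ''c, Ideal.comap_comap, Ideal.comap_comap]
    congr 1
    refine RingHom.ext fun x => ?_
    exact hc x
  have hle : I.map ιp ≤ Q''.comap φ := by
    rw [Ideal.map_le_iff_le_comap, hcomapQ]
    exact hIQ
  exact ⟨Q''.comap φ, Ideal.comap_isPrime _ _, l.length, hcomapQ,
    locReg_comap kregClass φ hφ (I.map ιp) Q'' l.length hle h3⟩

/-- abstract transport of `LocKReg` along a ring isomorphism under a fixed source -/
theorem locKReg_transport {A B C : Type u} [CommRing A] [CommRing B] [CommRing C]
    (ι : A →+* B) (e : B ≃+* C) (ιC : A →+* C) (hc : ∀ x, e (ι x) = ιC x) (I : Ideal A)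
    (Q : Ideal B) [Q.IsPrime] (h : LocKReg (I.map ι) Q) :
    ∃ (Q₂ : Ideal C) (_ : Q₂.IsPrime), Q₂.comap ιC = Q.comap ι ∧ LocKReg (I.map ιC) Q₂ := by
  have h1 := locKReg_map_ringEquiv e _ _ h
  have hI1 : (I.map ι).map (e : B →+* C) = I.map ιC := by
    rw [Ideal.map_map]
    congr 1
    exact RingHom.ext fun x => hc x
  have hQc : Q.map (e : B →+* C) = Q.comap (e.symm : C →+* B) :=
    (Ideal.comap_symm e).symm
  refine ⟨Q.map (e : B →+* C), ?_, ?_, ?_⟩
  · rw [hQc]
    exact Ideal.comap_isPrime _ _
  · rw [hQc, Ideal.comap_comap]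
    congr 1
    refine RingHom.ext fun x => ?_
    show e.symm (ιC x) = ι x
    rw [← hc x, e.symm_apply_apply]
  · rw [← hI1]
    exact h1

end abstract

section field
variable {R P : Type u} [CommRing R] [CommRing P] [Algebra R P]
  [Algebra.FinitePresentation R P] [Module.Flat R P]

attribute [local instance] Algebra.TensorProduct.rightAlgebra in
/-- **Descent from a field-valued point.** -/
theorem locKReg_of_tensor_field (I : Ideal P) (hI : I.FG) (hflat : Module.Flat R (P ⧸ I))
    (K : Type u) [Field K] [Algebra R K] (Q' : Ideal (K ⊗[R] P)) [Q'.IsPrime]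
    (hIQ : I ≤ Q'.comap (Algebra.TensorProduct.includeRight (R := R) (A := K) (B := P)))
    (h : LocKReg (I.map (Algebra.TensorProduct.includeRight (R := R) (A := K)
      (B := P)).toRingHom) Q') :
    LocKReg I (Q'.comap (Algebra.TensorProduct.includeRight (R := R) (A := K) (B := P))) := by
  -- the residue field of the kernel
  let p : Ideal R := RingHom.ker (algebraMap R K)
  haveI hp : p.IsPrime := RingHom.ker_isPrime _
  have hunits : p.primeCompl ≤ (IsUnit.submonoid K).comap (algebraMap R K) := by
    intro x hx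
    show IsUnit (algebraMap R K x)
    rw [isUnit_iff_ne_zero]
    exact fun h0 => hx ((RingHom.mem_ker).mpr h0)
  let ψ : p.ResidueField →+* K := Ideal.ResidueField.lift p (algebraMap R K) le_rfl hunits
  letI algkK : Algebra p.ResidueField K := ψ.toAlgebra
  haveI : IsScalarTower R p.ResidueField K := IsScalarTower.of_algebraMap_eq (fun r => by
    show algebraMap R K r = ψ (algebraMap R p.ResidueField r)
    exact (Ideal.ResidueField.lift_algebraMap p (algebraMap R K) le_rfl hunits r).symm)
  -- the two tensor products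
  let c : K ⊗[p.ResidueField] (p.Fiber P) ≃ₐ[K] K ⊗[R] P :=
    Algebra.TensorProduct.cancelBaseChange R p.ResidueField K K P
  have hφflat : @RingHom.Flat (p.Fiber P) (K ⊗[p.ResidueField] (p.Fiber P)) _ _
      (algebraMap (p.Fiber P) (K ⊗[p.ResidueField] (p.Fiber P))) := by
    have h1 : (algebraMap p.ResidueField K).Flat :=
      RingHom.Flat.of_isField (Field.toIsField _) _
    exact RingHom.Flat.isStableUnderBaseChange p.ResidueField K (p.Fiber P)
      (K ⊗[p.ResidueField] (p.Fiber P)) h1
  obtain ⟨Q, hQ, r, hQc, hreg⟩ := locReg_comap_of_locKReg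
    (A := P) (F := p.Fiber P) (F' := K ⊗[p.ResidueField] (p.Fiber P)) (B' := K ⊗[R] P)
    (Algebra.TensorProduct.includeRight (R := R) (A := p.ResidueField) (B := P)).toRingHom
    (algebraMap (p.Fiber P) (K ⊗[p.ResidueField] (p.Fiber P))) hφflat c.toRingEquiv
    (Algebra.TensorProduct.includeRight (R := R) (A := K) (B := P)).toRingHom
    (fun x => by
      show c ((1 : K) ⊗ₜ[p.ResidueField] ((1 : p.ResidueField) ⊗ₜ[R] x)) = (1 : K) ⊗ₜ[R] x
      rw [Algebra.TensorProduct.cancelBaseChange_tmul, one_smul])
    I Q' hIQ h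
  have hIQ2 : I ≤ Q.comap (Algebra.TensorProduct.includeRight (R := R)
      (A := p.ResidueField) (B := P)) := by
    intro x hx
    have : x ∈ Q.comap (Algebra.TensorProduct.includeRight (R := R)
      (A := p.ResidueField) (B := P)).toRingHom := by
      rw [hQc]
      exact hIQ hx
    exact this
  have h5 := fibre_criterion I hI hflat p Q hIQ2 r hreg
  have : Q.comap (Algebra.TensorProduct.includeRight (R := R)
      (A := p.ResidueField) (B := P)) = Q'.comap (Algebra.TensorProduct.includeRight (R := R)
      (A := K) (B := P)) := hQc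
  rw [this] at h5
  exact h5

end field

section core
variable {R P : Type u} [CommRing R] [CommRing P] [Algebra R P]
  [Algebra.FinitePresentation R P] [Module.Flat R P]

/-- **Arbitrary base change.** For `P` flat and finitely presented over `R`, `I` finitely
generated with `P/I` flat over `R`, and any `R`-algebra `R'`: `I (R' ⊗ P)` is generated by a
Koszul-regular sequence near a prime `q'` iff `I` is so near the image of `q'` in `Spec P`. -/
theorem locKReg_tensor_iff (I : Ideal P) (hI : I.FG) (hflat : Module.Flat R (P ⧸ I))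
    (R' : Type u) [CommRing R'] [Algebra R R'] (q' : Ideal (R' ⊗[R] P)) [q'.IsPrime]
    (hIq : I ≤ q'.comap (Algebra.TensorProduct.includeRight (R := R) (A := R') (B := P))) :
    LocKReg (I.map (Algebra.TensorProduct.includeRight (R := R) (A := R')
      (B := P)).toRingHom) q' ↔
    LocKReg I (q'.comap (Algebra.TensorProduct.includeRight (R := R) (A := R') (B := P))) := by
  refine ⟨fun h => ?_, fun h => locKReg_tensor R R' I hflat q' h⟩
  -- the residue field of the image of `q'` in `Spec R'`
  obtain ⟨Q₁, hQ₁⟩ := Groth.Agent.Helper5.SpecFib.exists_over R' (R' ⊗[R] P) ⟨q', inferInstance⟩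
  set p' : Ideal R' := q'.under R' with hp'
  -- flatness over `R'`
  have hflat' : Module.Flat R' ((R' ⊗[R] P) ⧸ I.map (Algebra.TensorProduct.includeRight
      (R := R) (A := R') (B := P)).toRingHom) := by
    have e := Algebra.TensorProduct.tensorQuotientEquiv (R := R) R' P R' I
    exact Module.Flat.of_linearEquiv e.symm.toLinearEquiv
  have h1 := locKReg_tensor R' p'.ResidueField (P := R' ⊗[R] P) _ hflat' Q₁.asIdeal
    (by
      have : Q₁.asIdeal.comap (Algebra.TensorProduct.includeRight (R := R')
        (A := p'.ResidueField) (B := R' ⊗[R] P)) = q' := hQ₁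
      rw [this]
      exact h)
  obtain ⟨Q₂, hQ₂, hQ₂c, h2⟩ := locKReg_transport
    (A := P) (B := p'.ResidueField ⊗[R'] (R' ⊗[R] P)) (C := p'.ResidueField ⊗[R] P)
    ((Algebra.TensorProduct.includeRight (R := R') (A := p'.ResidueField)
      (B := R' ⊗[R] P)).toRingHom.comp
      (Algebra.TensorProduct.includeRight (R := R) (A := R') (B := P)).toRingHom)
    (Algebra.TensorProduct.cancelBaseChange R R' p'.ResidueField p'.ResidueField P).toRingEquiv
    (Algebra.TensorProduct.includeRight (R := R) (A := p'.ResidueField) (B := P)).toRingHom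
    (fun x => by
      show (Algebra.TensorProduct.cancelBaseChange R R' p'.ResidueField p'.ResidueField P)
        ((1 : p'.ResidueField) ⊗ₜ[R'] ((1 : R') ⊗ₜ[R] x)) = (1 : p'.ResidueField) ⊗ₜ[R] x
      rw [Algebra.TensorProduct.cancelBaseChange_tmul, one_smul])
    I Q₁.asIdeal (by rw [← Ideal.map_map]; exact h1)
  have hQ₂q : Q₂.comap (Algebra.TensorProduct.includeRight (R := R) (A := p'.ResidueField)
      (B := P)) = q'.comap (Algebra.TensorProduct.includeRight (R := R) (A := R') (B := P)) := by
    have h3 : Q₂.comap (Algebra.TensorProduct.includeRight (R := R) (A := p'.ResidueField)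
      (B := P)).toRingHom = _ := hQ₂c
    rw [← Ideal.comap_comap] at h3
    have h4 : Q₁.asIdeal.comap (Algebra.TensorProduct.includeRight (R := R')
        (A := p'.ResidueField) (B := R' ⊗[R] P)).toRingHom = q' := hQ₁
    rw [h4] at h3
    exact h3
  have h5 := locKReg_of_tensor_field I hI hflat p'.ResidueField Q₂ (by rw [hQ₂q]; exact hIq) h2
  rw [hQ₂q] at h5
  exact h5

end core

end Groth.Agent.Helper3.KzFib
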