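import Mathlib
import Groth.Agent.Helper3.KzLoc
import Groth.Agent.Helper3.SmKregD
import Groth.Agent.Helper3.SyntSrc6
import Groth.Agent.Lead.CnSplitD

set_option autoImplicit false
set_option linter.style.haveILetI false
set_option linter.unusedSectionVars false
set_option linter.unusedVariables false
set_option linter.deprecated false
set_option linter.style.haveILetI false
set_option linter.unusedSectionVars false
set_option linter.unusedVariables false

/-!
# Being a local complete intersection near a prime, in terms of a presentation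
-/

namespace Groth.Agent.Helper3.KzFib
open TensorProduct Algebra MvPolynomial Groth.Agent.Helper3.KzLoc Groth.Agent.Helper3.SyntSrc

universe u

section away
variable {S : Type u} [CommRing S]

/-- `LocKReg` at a prime can be checked after inverting an element outside the prime -/
theorem locKReg_of_away (K q : Ideal S) [q.IsPrime] (g : S) (hg : g ∉ q)
    (T : Type u) [CommRing T] [Algebra S T] [IsLocalization.Away g T]
    (h : LocKReg (K.map (algebraMap S T)) (q.map (algebraMap S T))) : LocKReg K q := by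
  have hdisj : Disjoint (Submonoid.powers g : Set S) (q : Set S) := by
    rw [Ideal.disjoint_powers_iff_notMem _ (Ideal.IsPrime.isRadical inferInstance)]
    exact hg
  obtain ⟨g₂, hg₂, l, hl, hKl⟩ := h
  set x := (IsLocalization.Away.sec g g₂).1 with hx
  have hass : Associated (algebraMap S T x) g₂ := IsLocalization.Away.associated_sec_fst g g₂
  haveI : IsLocalization.Away (g * x) (Localization.Away g₂) :=
    IsLocalization.Away.mul_of_associated g x g₂ hass
  have hxq : x ∉ q := by
    intro hc
    apply hg₂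
    have h1 : algebraMap S T x ∈ q.map (algebraMap S T) := Ideal.mem_map_of_mem _ hc
    obtain ⟨u, hu⟩ := hass
    rw [← hu]
    exact Ideal.mul_mem_right _ _ h1
  refine locKReg_of_isLocalization K q (g * x) (Ideal.IsPrime.mul_notMem inferInstance hg hxq)
    (Localization.Away g₂) l hl ?_
  rw [IsScalarTower.algebraMap_eq S T (Localization.Away g₂), ← Ideal.map_map, hKl]

end away

section conv
variable (Λ B : Type u) [CommRing Λ] [CommRing B] [Algebra Λ B] (n : ℕ)
  (α : MvPolynomial (Fin n) Λ →ₐ[Λ] B) (hα : Function.Surjective α) (v : MvPolynomial (Fin n) Λ)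

attribute [local instance] Algebra.TensorProduct.rightAlgebra in
include hα in
/-- converse of `isLCI_away_of_kreg` -/
theorem kreg_map_away_of_isLCI (h : LCI.IsLCI Λ (Localization.Away (α v))) :
    LCI.IsKoszulRegularIdeal
      ((RingHom.ker α.toRingHom).map (algebraMap _ (Localization.Away v))) := by
  let Rv := Localization.Away v
  let T := Localization.Away (α v)
  haveI : IsLocalization.Away (α.toRingHom v) T :=
    (inferInstance : IsLocalization.Away (α v) (Localization.Away (α v)))
  let φ₀ : Rv →+* T := IsLocalization.Away.map Rv T α.toRingHom v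
  have hφ₀ : Function.Surjective φ₀ := awayMap_surjective α.toRingHom hα v Rv T
  have hkerφ₀ : RingHom.ker φ₀ = (RingHom.ker α.toRingHom).map (algebraMap _ Rv) :=
    ker_awayMap α.toRingHom v Rv T
  have hφ₀alg : ∀ a : Λ, φ₀ (algebraMap Λ Rv a) = algebraMap Λ T a := by
    intro a
    rw [IsScalarTower.algebraMap_apply Λ (MvPolynomial (Fin n) Λ) Rv]
    have h1 : φ₀ (algebraMap (MvPolynomial (Fin n) Λ) Rv (algebraMap Λ _ a)) =
        algebraMap B T (α.toRingHom (algebraMap Λ _ a)) := IsLocalization.map_eq _ _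
    rw [h1]
    show algebraMap B T (α (algebraMap Λ _ a)) = _
    rw [α.commutes, ← IsScalarTower.algebraMap_apply]
  let φ₀' : Rv →ₐ[Λ] T := { φ₀ with commutes' := hφ₀alg }
  obtain ⟨-, m, α₁, hα₁, hK₁⟩ := h
  let π'' : MvPolynomial (Fin m) Λ ⊗[Λ] Rv →ₐ[Λ] T :=
    Algebra.TensorProduct.lift α₁ φ₀' (fun _ _ => Commute.all _ _)
  have hπ'' : Function.Surjective π''.toRingHom := by
    intro t
    obtain ⟨x, rfl⟩ := hα₁ t
    exact ⟨x ⊗ₜ 1, by simp [π'']⟩
  -- smoothness
  haveI := isStandardSmooth_mvPolynomial Λ n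
  haveI : Algebra.IsStandardSmooth (MvPolynomial (Fin n) Λ) Rv :=
    Algebra.IsStandardSmooth.localization_away v
  haveI : Algebra.IsStandardSmooth Λ Rv :=
    Algebra.IsStandardSmooth.trans Λ (MvPolynomial (Fin n) Λ) Rv
  haveI := isStandardSmooth_mvPolynomial Λ m
  have hs1 : (algebraMap (MvPolynomial (Fin m) Λ) (MvPolynomial (Fin m) Λ ⊗[Λ] Rv)).Smooth :=
    RingHom.Smooth.isStableUnderBaseChange Λ Rv (MvPolynomial (Fin m) Λ)
      (MvPolynomial (Fin m) Λ ⊗[Λ] Rv) (RingHom.smooth_algebraMap.mpr inferInstance)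
  have hs2 : (algebraMap Rv (MvPolynomial (Fin m) Λ ⊗[Λ] Rv)).Smooth :=
    RingHom.Smooth.isStableUnderBaseChange Λ (MvPolynomial (Fin m) Λ) Rv
      (MvPolynomial (Fin m) Λ ⊗[Λ] Rv) (RingHom.smooth_algebraMap.mpr inferInstance)
  have e1 := Groth.Agent.Helper3.SmKregD.kreg_iff_smooth
    (algebraMap (MvPolynomial (Fin m) Λ) (MvPolynomial (Fin m) Λ ⊗[Λ] Rv)) hs1
    α₁.toRingHom hα₁ π''.toRingHom hπ'' (fun x => by
      show π'' (x ⊗ₜ 1) = α₁ x
      simp [π''])
  have e2 := Groth.Agent.Helper3.SmKregD.kreg_iff_smooth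
    (algebraMap Rv (MvPolynomial (Fin m) Λ ⊗[Λ] Rv)) hs2
    φ₀ hφ₀ π''.toRingHom hπ'' (fun y => by
      show π'' (1 ⊗ₜ y) = φ₀ y
      simp [π'', φ₀'])
  rw [← hkerφ₀]
  exact e2.mpr (e1.mp hK₁)

end conv

section main
variable (Λ B : Type u) [CommRing Λ] [CommRing B] [Algebra Λ B] (n : ℕ)
  (α : MvPolynomial (Fin n) Λ →ₐ[Λ] B) (hα : Function.Surjective α)

include hα in
/-- **being lci near a prime, via a presentation** -/
theorem kosAt_iff_locKReg (q : Ideal B) [q.IsPrime] :
    (∃ b : B, b ∉ q ∧ LCI.IsLCI Λ (Localization.Away b)) ↔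
      LocKReg (RingHom.ker α.toRingHom) (q.comap α.toRingHom) := by
  constructor
  · rintro ⟨b, hb, h⟩
    obtain ⟨G, rfl⟩ := hα b
    have hG : G ∉ q.comap α.toRingHom := hb
    have hK := kreg_map_away_of_isLCI Λ B n α hα G h
    have hdisj : Disjoint (Submonoid.powers G : Set (MvPolynomial (Fin n) Λ))
        (q.comap α.toRingHom : Set (MvPolynomial (Fin n) Λ)) := by
      rw [Ideal.disjoint_powers_iff_notMem _ (Ideal.IsPrime.isRadical inferInstance)]
      exact hG
    haveI hQ : ((q.comap α.toRingHom).map (algebraMap _ (Localization.Away G))).IsPrime :=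
      IsLocalization.isPrime_of_isPrime_disjoint (Submonoid.powers G) _ _ inferInstance hdisj
    have hle : (RingHom.ker α.toRingHom).map (algebraMap _ (Localization.Away G)) ≤
        (q.comap α.toRingHom).map (algebraMap _ (Localization.Away G)) := by
      apply Ideal.map_mono
      intro x hx
      rw [Ideal.mem_comap, (RingHom.mem_ker).mp hx]
      exact q.zero_mem
    exact locKReg_of_away _ _ G hG (Localization.Away G) (hK ⟨_, hQ⟩ hle)
  · rintro ⟨g, hg, l, hl, hI⟩
    refine ⟨α g, hg, isLCI_away_of_kreg Λ B n α hα g ?_⟩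
    rw [hI]
    exact Groth.Agent.Lead.CnSplitD.isKoszulRegularIdeal_ofList l hl

end main

end Groth.Agent.Helper3.KzFib
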