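import Mathlib
import Groth.Agent.Helper3.KzFib5
import Groth.Agent.Helper3.KzFib6

set_option autoImplicit false
set_option linter.style.haveILetI false
set_option linter.unusedSectionVars false
set_option linter.unusedVariables false
set_option linter.deprecated false
set_option linter.style.haveILetI false
set_option linter.unusedSectionVars false
set_option linter.unusedVariables false

/-!
# Being lci near a prime is insensitive to arbitrary base change, for flat finitely presented
source and target
-/

namespace Groth.Agent.Helper3.KzFib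
open TensorProduct Algebra MvPolynomial Groth.Agent.Helper3.KzLoc

universe u

section Z
variable {T P' : Type u} [CommRing T] [CommRing P']

/-- `LocKReg` and ring isomorphisms, iff form -/
theorem locKReg_iff_of_ringEquiv (σ : T ≃+* P') (J : Ideal T) (J' : Ideal P')
    (hJ : J.map (σ : T →+* P') = J') (Q' : Ideal P') :
    LocKReg J' Q' ↔ LocKReg J (Q'.comap (σ : T →+* P')) := by
  constructor
  · intro h
    have h1 := locKReg_map_ringEquiv σ.symm _ _ h
    have e1 : J'.map (σ.symm : P' →+* T) = J := by
      rw [← hJ, Ideal.map_map]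
      have : (σ.symm : P' →+* T).comp (σ : T →+* P') = RingHom.id T := by
        ext x
        simp
      rw [this, Ideal.map_id]
    have e2 : Q'.map (σ.symm : P' →+* T) = Q'.comap (σ : T →+* P') := Ideal.map_symm σ
    rw [e1, e2] at h1
    exact h1
  · intro h
    have h1 := locKReg_map_ringEquiv σ _ _ h
    have e2 : (Q'.comap (σ : T →+* P')).map (σ : T →+* P') = Q' :=
      Ideal.map_comap_of_surjective _ σ.surjective _
    rw [hJ, e2] at h1
    exact h1

end Z

section main

/-- **Koszul points and arbitrary base change, ring level.** -/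
theorem kosAt_baseChange (R A B R' A' B' : Type u) [CommRing R] [CommRing A] [CommRing B]
    [CommRing R'] [CommRing A'] [CommRing B']
    [Algebra R A] [Algebra A B] [Algebra R B] [IsScalarTower R A B]
    [Algebra R' A'] [Algebra A' B'] [Algebra R' B'] [IsScalarTower R' A' B']
    [Algebra R R'] [Algebra A A'] [Algebra B B']
    [Algebra R A'] [IsScalarTower R R' A'] [IsScalarTower R A A']
    [Algebra R B'] [IsScalarTower R R' B'] [IsScalarTower R B B']
    [Algebra A B'] [IsScalarTower A A' B'] [IsScalarTower A B B']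
    [Algebra.IsPushout R R' A A'] [Algebra.IsPushout R R' B B']
    [Module.Flat R A] [Algebra.FinitePresentation R A]
    [Module.Flat R B] [Algebra.FinitePresentation R B]
    (q' : Ideal B') [q'.IsPrime] :
    (∃ b' : B', b' ∉ q' ∧ LCI.IsLCI A' (Localization.Away b')) ↔
      (∃ b : B, b ∉ q'.comap (algebraMap B B') ∧ LCI.IsLCI A (Localization.Away b)) := by
  classical
  haveI hqp : (q'.comap (algebraMap B B')).IsPrime := Ideal.comap_isPrime _ _
  -- a presentation
  haveI hft : Algebra.FiniteType A B := Algebra.FiniteType.of_restrictScalars_finiteType R A B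
  haveI hfp : Algebra.FinitePresentation A B :=
    Algebra.FinitePresentation.of_restrict_scalars_finitePresentation R A B
  obtain ⟨n, α, hα⟩ := Algebra.FiniteType.iff_quotient_mvPolynomial''.mp hft
  have hIfg : (RingHom.ker α.toRingHom).FG :=
    Algebra.FinitePresentation.ker_fG_of_surjective α hα
  haveI : Module.Flat R (MvPolynomial (Fin n) A) := Module.Flat.trans R A _
  haveI : Algebra.FinitePresentation R (MvPolynomial (Fin n) A) :=
    Algebra.FinitePresentation.trans R A _
  have hflatQ : Module.Flat R (MvPolynomial (Fin n) A ⧸ RingHom.ker α.toRingHom) := by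
    let e : (MvPolynomial (Fin n) A ⧸ RingHom.ker α.toRingHom) ≃ₐ[A] B :=
      Ideal.quotientKerAlgEquivOfSurjective hα
    exact Module.Flat.of_linearEquiv ((e.restrictScalars R).toLinearEquiv)
  -- the base-changed presentation
  let α' : MvPolynomial (Fin n) A' →ₐ[A'] B' := aeval (fun i => algebraMap B B' (α (X i)))
  let eA : R' ⊗[R] A ≃ₐ[R'] A' := Algebra.IsPushout.equiv R R' A A'
  let eB : R' ⊗[R] B ≃ₐ[R'] B' := Algebra.IsPushout.equiv R R' B B'
  let σ : R' ⊗[R] MvPolynomial (Fin n) A ≃ₐ[R'] MvPolynomial (Fin n) A' :=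
    (rTensorAlgEquiv (R := R) (N := A) (S := R') (σ := Fin n)).trans (mapAlgEquiv (Fin n) eA)
  let β : R' ⊗[R] MvPolynomial (Fin n) A →ₐ[R] R' ⊗[R] B :=
    Algebra.TensorProduct.map (AlgHom.id R R') (α.restrictScalars R)
  have hσ1 : ∀ p : MvPolynomial (Fin n) A,
      σ ((1 : R') ⊗ₜ[R] p) = MvPolynomial.map (algebraMap A A') p := by
    intro p
    show MvPolynomial.map (eA : R' ⊗[R] A →+* A') (rTensorAlgEquiv ((1 : R') ⊗ₜ[R] p)) = _
    ext d
    rw [coeff_map, coeff_map, coeff_rTensorAlgEquiv_tmul]
    show eA ((1 : R') ⊗ₜ[R] coeff d p) = _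
    rw [Algebra.IsPushout.equiv_tmul, map_one, one_mul]
  have hα'σ1 : ∀ p : MvPolynomial (Fin n) A,
      α' (σ ((1 : R') ⊗ₜ[R] p)) = algebraMap B B' (α p) := by
    intro p
    rw [hσ1]
    have key : (α'.toRingHom.comp (MvPolynomial.map (algebraMap A A'))) =
        (algebraMap B B').comp α.toRingHom := by
      refine MvPolynomial.ringHom_ext (fun a => ?_) (fun i => ?_)
      · show α' (MvPolynomial.map (algebraMap A A') (C a)) = algebraMap B B' (α (C a))
        rw [map_C, ← MvPolynomial.algebraMap_eq, ← MvPolynomial.algebraMap_eq, α'.commutes,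
          α.commutes, ← IsScalarTower.algebraMap_apply A A' B',
          ← IsScalarTower.algebraMap_apply A B B']
      · show α' (MvPolynomial.map (algebraMap A A') (X i)) = algebraMap B B' (α (X i))
        rw [map_X]
        exact aeval_X _ i
    exact congr($key p)
  have hcomm : ∀ z : R' ⊗[R] MvPolynomial (Fin n) A, α' (σ z) = eB (β z) := by
    intro z
    induction z using TensorProduct.induction_on with
    | zero => simp
    | add x y hx hy => rw [map_add, map_add, map_add, map_add, hx, hy]
    | tmul r' p =>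
      have h1 : (r' ⊗ₜ[R] p : R' ⊗[R] MvPolynomial (Fin n) A) =
          (r' ⊗ₜ[R] (1 : MvPolynomial (Fin n) A)) * ((1 : R') ⊗ₜ[R] p) := by
        rw [Algebra.TensorProduct.tmul_mul_tmul, mul_one, one_mul]
      have h2 : α' (σ (r' ⊗ₜ[R] (1 : MvPolynomial (Fin n) A))) = algebraMap R' B' r' := by
        have : (r' ⊗ₜ[R] (1 : MvPolynomial (Fin n) A)) =
            algebraMap R' (R' ⊗[R] MvPolynomial (Fin n) A) r' :=
          (Algebra.TensorProduct.algebraMap_apply r').symm
        rw [this, σ.commutes, IsScalarTower.algebraMap_apply R' A' (MvPolynomial (Fin n) A'),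
          α'.commutes, ← IsScalarTower.algebraMap_apply R' A' B']
      have h3 : β (r' ⊗ₜ[R] p) = r' ⊗ₜ[R] α p := rfl
      rw [h3, Algebra.IsPushout.equiv_tmul, h1, map_mul, map_mul, h2, hα'σ1]
  have hβsurj : Function.Surjective β :=
    Algebra.TensorProduct.map_surjective (AlgHom.id R R') (α.restrictScalars R)
      (fun x => ⟨x, rfl⟩) hα
  have hα' : Function.Surjective α' := by
    intro b'
    obtain ⟨z₁, rfl⟩ := eB.surjective b'
    obtain ⟨z, rfl⟩ := hβsurj z₁
    exact ⟨σ z, hcomm z⟩
  have hkerβ : RingHom.ker β = (RingHom.ker α.toRingHom).map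
      (Algebra.TensorProduct.includeRight (R := R) (A := R')
        (B := MvPolynomial (Fin n) A)).toRingHom :=
    Algebra.TensorProduct.lTensor_ker (α.restrictScalars R) hα
  have hkerα' : (RingHom.ker β).map (σ.toRingEquiv : R' ⊗[R] MvPolynomial (Fin n) A →+* MvPolynomial (Fin n) A') =
      RingHom.ker α'.toRingHom := by
    apply le_antisymm
    · rw [Ideal.map_le_iff_le_comap]
      intro z hz
      rw [Ideal.mem_comap, RingHom.mem_ker]
      show α' (σ z) = 0
      rw [hcomm z, (RingHom.mem_ker).mp hz, map_zero]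
    · intro x' hx'
      obtain ⟨z, rfl⟩ := σ.surjective x'
      refine Ideal.mem_map_of_mem _ ?_
      rw [RingHom.mem_ker]
      have h1 : α' (σ z) = 0 := hx'
      rw [hcomm z] at h1
      exact (map_eq_zero_iff eB eB.injective).mp h1
  -- the chain of equivalences
  rw [kosAt_iff_locKReg A' B' n α' hα' q', kosAt_iff_locKReg A B n α hα _,
    locKReg_iff_of_ringEquiv σ.toRingEquiv (RingHom.ker β) _ hkerα', hkerβ]
  have hQ : ((q'.comap α'.toRingHom).comap (σ.toRingEquiv : R' ⊗[R] MvPolynomial (Fin n) A →+* MvPolynomial (Fin n) A')).comap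
      (Algebra.TensorProduct.includeRight (R := R) (A := R') (B := MvPolynomial (Fin n) A)) =
      (q'.comap (algebraMap B B')).comap α.toRingHom := by
    ext x
    simp only [Ideal.mem_comap]
    show α' (σ ((1 : R') ⊗ₜ[R] x)) ∈ q' ↔ algebraMap B B' (α x) ∈ q'
    rw [hα'σ1]
  haveI : ((q'.comap α'.toRingHom).comap
      (σ.toRingEquiv : R' ⊗[R] MvPolynomial (Fin n) A →+* MvPolynomial (Fin n) A')).IsPrime := Ideal.comap_isPrime _ _
  rw [locKReg_tensor_iff (RingHom.ker α.toRingHom) hIfg hflatQ R' _ ?_, hQ]
  rw [hQ]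
  intro x hx
  rw [Ideal.mem_comap, (RingHom.mem_ker).mp hx]
  exact Ideal.zero_mem _

end main

end Groth.Agent.Helper3.KzFib
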