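import Mathlib
import Groth.Agent.Helper3.KzFib7

set_option autoImplicit false
set_option linter.style.haveILetI false
set_option linter.unusedSectionVars false
set_option linter.unusedVariables false
set_option linter.deprecated false
set_option linter.style.haveILetI false
set_option linter.unusedSectionVars false
set_option linter.unusedVariables false

/-!
# `kosAt_baseChange` in terms of ring homomorphisms and cocartesian squares of commutative rings
-/

namespace Groth.Agent.Helper3.KzFib
open CategoryTheory Limits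

universe u

/-- **Koszul points and arbitrary base change**, in terms of morphisms of `CommRingCat`. -/
theorem kosAt_baseChange_hom {R A B R' A' B' : CommRingCat.{u}}
    (φRA : R ⟶ A) (φAB : A ⟶ B) (φRR' : R ⟶ R') (φR'A' : R' ⟶ A') (φA'B' : A' ⟶ B')
    (φAA' : A ⟶ A') (φBB' : B ⟶ B')
    (hpoA : IsPushout φRR' φRA φR'A' φAA')
    (hpoB : IsPushout φRR' (φRA ≫ φAB) (φR'A' ≫ φA'B') φBB')
    (hw : φAB ≫ φBB' = φAA' ≫ φA'B')
    (hflA : φRA.hom.Flat) (hfpA : φRA.hom.FinitePresentation)
    (hflB : (φRA ≫ φAB).hom.Flat) (hfpB : (φRA ≫ φAB).hom.FinitePresentation)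
    (q' : Ideal B') [q'.IsPrime] :
    (∃ b' : B', b' ∉ q' ∧ (letI := φA'B'.hom.toAlgebra; LCI.IsLCI A' (Localization.Away b'))) ↔
      (∃ b : B, b ∉ q'.comap φBB'.hom ∧
        (letI := φAB.hom.toAlgebra; LCI.IsLCI A (Localization.Away b))) := by
  letI algRA : Algebra R A := φRA.hom.toAlgebra
  letI algAB : Algebra A B := φAB.hom.toAlgebra
  letI algRB : Algebra R B := (φRA ≫ φAB).hom.toAlgebra
  haveI : IsScalarTower R A B := IsScalarTower.of_algebraMap_eq' rfl
  letI algR'A' : Algebra R' A' := φR'A'.hom.toAlgebra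
  letI algA'B' : Algebra A' B' := φA'B'.hom.toAlgebra
  letI algR'B' : Algebra R' B' := (φR'A' ≫ φA'B').hom.toAlgebra
  haveI : IsScalarTower R' A' B' := IsScalarTower.of_algebraMap_eq' rfl
  letI algRR' : Algebra R R' := φRR'.hom.toAlgebra
  letI algAA' : Algebra A A' := φAA'.hom.toAlgebra
  letI algBB' : Algebra B B' := φBB'.hom.toAlgebra
  letI algRA' : Algebra R A' := (φRR' ≫ φR'A').hom.toAlgebra
  haveI : IsScalarTower R R' A' := IsScalarTower.of_algebraMap_eq' rfl
  haveI : IsScalarTower R A A' := IsScalarTower.of_algebraMap_eq' (by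
    have := hpoA.w
    exact congrArg CommRingCat.Hom.hom this)
  letI algRB' : Algebra R B' := (φRR' ≫ φR'A' ≫ φA'B').hom.toAlgebra
  haveI : IsScalarTower R R' B' := IsScalarTower.of_algebraMap_eq' rfl
  haveI : IsScalarTower R B B' := IsScalarTower.of_algebraMap_eq' (by
    have := hpoB.w
    exact congrArg CommRingCat.Hom.hom this)
  letI algAB' : Algebra A B' := (φAA' ≫ φA'B').hom.toAlgebra
  haveI : IsScalarTower A A' B' := IsScalarTower.of_algebraMap_eq' rfl
  haveI : IsScalarTower A B B' := IsScalarTower.of_algebraMap_eq' (by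
    exact congrArg CommRingCat.Hom.hom hw.symm)
  haveI : Algebra.IsPushout R R' A A' := CommRingCat.isPushout_iff_isPushout.mp hpoA
  haveI : Algebra.IsPushout R R' B B' := CommRingCat.isPushout_iff_isPushout.mp hpoB
  haveI : Module.Flat R A := hflA
  haveI : Algebra.FinitePresentation R A := hfpA
  haveI : Module.Flat R B := hflB
  haveI : Algebra.FinitePresentation R B := hfpB
  exact kosAt_baseChange R A B R' A' B' q'

end Groth.Agent.Helper3.KzFib
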