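import Mathlib
import Groth.Prelude.Def_RegImm
import Groth.Agent.Helper3.KosBridgeC
import Groth.Agent.Helper3.KosBridgeD
import Groth.Agent.Helper3.SyntSrc8
import Groth.Agent.Helper3.LciComp

set_option autoImplicit false
set_option linter.style.haveILetI false
set_option linter.unusedSectionVars false
set_option linter.unusedVariables false
set_option linter.deprecated false
set_option linter.style.haveILetI false
set_option linter.unusedSectionVars false
set_option linter.unusedVariables false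

/-!
# The Koszul locus of a morphism, in affine charts
-/

namespace Groth.Agent.Helper3.KzFib
open CategoryTheory Limits AlgebraicGeometry TopologicalSpace

universe u

variable {X Y : Scheme.{u}}

/-- the Koszul locus, affine-chart form -/
def KosLocus (f : X ⟶ Y) : Set X :=
  {x : ↑X | (∃ (U : X.Opens) (V : Y.Opens) (hU : IsAffineOpen U) (hV : IsAffineOpen V)
      (hUV : U ≤ f ⁻¹ᵁ V), x ∈ U ∧
          letI := (f.appLE V U hUV).hom.toAlgebra
          LCI.IsLCI Γ(Y, V) Γ(X, U))}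

theorem isOpen_kosLocus (f : X ⟶ Y) : IsOpen (KosLocus f) := by
  rw [isOpen_iff_forall_mem_open]
  rintro x ⟨U, V, hU, hV, hUV, hxU, hlci⟩
  exact ⟨U, fun y hy => ⟨U, V, hU, hV, hUV, hy, hlci⟩, U.isOpen, hxU⟩

/-- from "Koszul at every point of `U`" to the affine-local form on `U` -/
theorem isLCI_of_isKoszulAt_on (f : X ⟶ Y) (U : X.Opens) (V : Y.Opens) (hU : IsAffineOpen U)
    (hV : IsAffineOpen V) (hUV : U ≤ f ⁻¹ᵁ V) (hf : ∀ x ∈ U, Synt.IsKoszulAt f x) :
    letI := (f.appLE V U hUV).hom.toAlgebra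
    LCI.IsLCI Γ(Y, V) Γ(X, U) := by
  letI algU := (f.appLE V U hUV).hom.toAlgebra
  haveI : IsAffine U.toScheme := hU
  have hK : ∀ x : U.toScheme, Synt.IsKoszulAt (U.ι ≫ f) x := fun x =>
    KosBridgeA.isKoszulAt_restrict f U x.1 x.2 (hf x.1 x.2)
  have hle : (⊤ : U.toScheme.Opens) ≤ (U.ι ≫ f) ⁻¹ᵁ V := fun y _ => hUV y.2
  have h1 := KosBridgeC.isLCI_of_isKoszulAt (U.ι ≫ f) hK ⊤ V (isAffineOpen_top _) hV hle
  letI algT := ((U.ι ≫ f).appLE V ⊤ hle).hom.toAlgebra
  have hcomp : f.appLE V U hUV ≫ U.ι.appLE U ⊤ U.ι_preimage_self.ge =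
      (U.ι ≫ f).appLE V ⊤ hle := Scheme.Hom.appLE_comp_appLE ..
  let e₀ : Γ(X, U) ≅ Γ(U.toScheme, ⊤) := asIso (U.ι.appLE U ⊤ U.ι_preimage_self.ge)
  let e : Γ(U.toScheme, ⊤) ≃ₐ[Γ(Y, V)] Γ(X, U) :=
    { e₀.symm.commRingCatIsoToRingEquiv with
      commutes' := fun a => by
        show e₀.inv.hom (((U.ι ≫ f).appLE V ⊤ hle).hom a) = (f.appLE V U hUV).hom a
        rw [← hcomp]
        show (e₀.hom ≫ e₀.inv).hom ((f.appLE V U hUV).hom a) = _
        rw [e₀.hom_inv_id]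
        rfl }
  exact Groth.Agent.Helper3.LciComp.isLCI_of_algEquiv _ _ _ e h1

/-- points of the Koszul locus are Koszul points in the factorisation sense -/
theorem isKoszulAt_of_mem_kosLocus (f : X ⟶ Y) (x : X) (hx : x ∈ KosLocus f) :
    Synt.IsKoszulAt f x := by
  obtain ⟨U, V, hU, hV, hUV, hxU, hlci⟩ := hx
  exact KosBridgeC.isKoszulAt_of_isLCI f U V hU hV hUV hlci x hxU

/-- **the Koszul locus in a fixed affine chart** -/
theorem mem_kosLocus_iff (f : X ⟶ Y) {U : X.Opens} {V : Y.Opens} (hU : IsAffineOpen U)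
    (hV : IsAffineOpen V) (hUV : U ≤ f ⁻¹ᵁ V) (x : X) (hx : x ∈ U) :
    x ∈ KosLocus f ↔ ∃ b : Γ(X, U), b ∉ (hU.primeIdealOf ⟨x, hx⟩).asIdeal ∧
      (letI := (f.appLE V U hUV).hom.toAlgebra
       LCI.IsLCI Γ(Y, V) (Localization.Away b)) := by
  letI algU := (f.appLE V U hUV).hom.toAlgebra
  have key : ∀ b : Γ(X, U),
      (letI := (f.appLE V (X.basicOpen b) ((X.basicOpen_le b).trans hUV)).hom.toAlgebra
       LCI.IsLCI Γ(Y, V) Γ(X, X.basicOpen b)) ↔ LCI.IsLCI Γ(Y, V) (Localization.Away b) := by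
    intro b
    letI algD := (f.appLE V (X.basicOpen b) ((X.basicOpen_le b).trans hUV)).hom.toAlgebra
    haveI := hU.isLocalization_basicOpen b
    haveI : IsScalarTower Γ(Y, V) Γ(X, U) Γ(X, X.basicOpen b) := by
      refine IsScalarTower.of_algebraMap_eq' ?_
      have := Scheme.Hom.appLE_map f hUV (homOfLE (X.basicOpen_le b)).op
      exact congr($(this.symm).hom)
    let e : Γ(X, X.basicOpen b) ≃ₐ[Γ(X, U)] Localization.Away b :=
      IsLocalization.algEquiv (Submonoid.powers b) _ _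
    exact ⟨fun h => Groth.Agent.Helper3.LciComp.isLCI_of_algEquiv _ _ _
        (e.restrictScalars Γ(Y, V)) h,
      fun h => Groth.Agent.Helper3.LciComp.isLCI_of_algEquiv _ _ _
        (e.symm.restrictScalars Γ(Y, V)) h⟩
  constructor
  · intro hxK
    obtain ⟨U₁, V₁, hU₁, hV₁, hUV₁, hxU₁, hlci⟩ := hxK
    have hK₁ : ∀ y ∈ U₁, Synt.IsKoszulAt f y := fun y hy =>
      KosBridgeC.isKoszulAt_of_isLCI f U₁ V₁ hU₁ hV₁ hUV₁ hlci y hy
    obtain ⟨b, hble, hxb⟩ := hU.exists_basicOpen_le (V := U₁) ⟨x, hxU₁⟩ hx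
    refine ⟨b, (Groth.Agent.Helper3.SyntSrc.mem_basicOpen_iff hU x hx b).mp hxb, ?_⟩
    refine (key b).mp ?_
    exact isLCI_of_isKoszulAt_on f (X.basicOpen b) V (hU.basicOpen b) hV
      ((X.basicOpen_le b).trans hUV) (fun y hy => hK₁ y (hble hy))
  · rintro ⟨b, hb, hlci⟩
    exact ⟨X.basicOpen b, V, hU.basicOpen b, hV, (X.basicOpen_le b).trans hUV,
      (Groth.Agent.Helper3.SyntSrc.mem_basicOpen_iff hU x hx b).mpr hb, (key b).mpr hlci⟩

end Groth.Agent.Helper3.KzFib
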