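import Mathlib
import Groth.Agent.Helper3.KzFib8
import Groth.Agent.Helper3.KzFib9

set_option autoImplicit false
set_option linter.style.haveILetI false
set_option linter.unusedSectionVars false
set_option linter.unusedVariables false
set_option linter.deprecated false
set_option linter.style.haveILetI false
set_option linter.unusedSectionVars false
set_option linter.unusedVariables false

/-!
# The Koszul locus commutes with arbitrary base change (flat, locally finitely presented source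
and target)
-/

namespace Groth.Agent.Helper3.KzFib
open CategoryTheory Limits AlgebraicGeometry TopologicalSpace

universe u

theorem kosLocus_baseChange {X Y S X' Y' S' : Scheme.{u}} (f : X ⟶ Y) (g : Y ⟶ S)
    [Flat (f ≫ g)] [LocallyOfFinitePresentation (f ≫ g)] [Flat g] [LocallyOfFinitePresentation g]
    (h : S' ⟶ S) (gY : Y' ⟶ Y) (g' : Y' ⟶ S') (hY : IsPullback gY g' g h)
    (gX : X' ⟶ X) (f' : X' ⟶ Y') (hX : IsPullback gX (f' ≫ g') (f ≫ g) h)
    (w : gX ≫ f = f' ≫ gY) : KosLocus f' = gX ⁻¹' KosLocus f := by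
  ext x'
  show x' ∈ KosLocus f' ↔ gX x' ∈ KosLocus f
  -- charts
  obtain ⟨W, hW, hsW, -⟩ := (Opens.isBasis_iff_nbhd.1 S.isBasis_affineOpens)
    (show (f ≫ g) (gX x') ∈ (⊤ : S.Opens) from trivial)
  have hpt : h ((f' ≫ g') x') = (f ≫ g) (gX x') := by
    have := congrArg (fun k => k x') hX.w
    exact this.symm
  have hs' : (f' ≫ g') x' ∈ h ⁻¹ᵁ W := by
    show h ((f' ≫ g') x') ∈ W
    rw [hpt]
    exact hsW
  obtain ⟨W', hW', hs'W', hW'W⟩ := (Opens.isBasis_iff_nbhd.1 S'.isBasis_affineOpens) hs'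
  have hfx : f (gX x') ∈ g ⁻¹ᵁ W := hsW
  obtain ⟨V, hV, hfxV, hVW⟩ := (Opens.isBasis_iff_nbhd.1 Y.isBasis_affineOpens) hfx
  obtain ⟨U, hU, hxU, hUV⟩ := (Opens.isBasis_iff_nbhd.1 X.isBasis_affineOpens)
    (show gX x' ∈ f ⁻¹ᵁ V from hfxV)
  have hUW : U ≤ (f ≫ g) ⁻¹ᵁ W := fun y hy => hVW (hUV hy)
  -- the product charts
  obtain ⟨V', hV'def⟩ : ∃ V' : Y'.Opens, V' = gY ⁻¹ᵁ V ⊓ g' ⁻¹ᵁ W' := ⟨_, rfl⟩
  obtain ⟨U', hU'def⟩ : ∃ U' : X'.Opens, U' = gX ⁻¹ᵁ U ⊓ (f' ≫ g') ⁻¹ᵁ W' := ⟨_, rfl⟩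
  haveI : IsAffine (W : Scheme.{u}) := hW
  haveI : IsAffine (W' : Scheme.{u}) := hW'
  haveI : IsAffine (V : Scheme.{u}) := hV
  haveI : IsAffine (U : Scheme.{u}) := hU
  have hV' : IsAffineOpen V' :=
    IsAffine.of_isIso (Scheme.Hom.isPullback_resLE hY hW'W hVW hV'def).isoPullback.hom
  have hU' : IsAffineOpen U' :=
    IsAffine.of_isIso (Scheme.Hom.isPullback_resLE hX hW'W hUW hU'def).isoPullback.hom
  have hx'U' : x' ∈ U' := by
    rw [hU'def]
    exact ⟨hxU, hs'W'⟩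
  have hV'V : V' ≤ gY ⁻¹ᵁ V := by rw [hV'def]; exact inf_le_left
  have hV'W' : V' ≤ g' ⁻¹ᵁ W' := by rw [hV'def]; exact inf_le_right
  have hU'U : U' ≤ gX ⁻¹ᵁ U := by rw [hU'def]; exact inf_le_left
  have hU'W' : U' ≤ (f' ≫ g') ⁻¹ᵁ W' := by rw [hU'def]; exact inf_le_right
  have hU'V' : U' ≤ f' ⁻¹ᵁ V' := by
    intro y hy
    rw [hV'def]
    refine ⟨?_, hU'W' hy⟩
    show gY (f' y) ∈ V
    have h1 : gY (f' y) = f (gX y) := by
      have := congrArg (fun k => k y) w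
      exact this.symm
    rw [h1]
    exact hUV (hU'U hy)
  -- cocartesian squares of sections
  have poY := (isIso_pushoutSection_iff hY hW'W hVW hV'def).mp
    (isIso_pushoutSection_of_isAffineOpen hY hW'W hVW hV'def hW hW' hV)
  have poX := (isIso_pushoutSection_iff hX hW'W hUW hU'def).mp
    (isIso_pushoutSection_of_isAffineOpen hX hW'W hUW hU'def hW hW' hU)
  have e1 : (f ≫ g).appLE W U hUW = g.appLE W V hVW ≫ f.appLE V U hUV :=
    (Scheme.Hom.appLE_comp_appLE f g W V U hVW hUV).symm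
  have e2 : (f' ≫ g').appLE W' U' hU'W' = g'.appLE W' V' hV'W' ≫ f'.appLE V' U' hU'V' :=
    (Scheme.Hom.appLE_comp_appLE f' g' W' V' U' hV'W' hU'V').symm
  have hw : f.appLE V U hUV ≫ gX.appLE U U' hU'U = gY.appLE V V' hV'V ≫ f'.appLE V' U' hU'V' := by
    rw [Scheme.Hom.appLE_comp_appLE, Scheme.Hom.appLE_comp_appLE]
    congr 1
  have hflA : (g.appLE W V hVW).hom.Flat :=
    HasRingHomProperty.appLE (P := @Flat) g inferInstance ⟨W, hW⟩ ⟨V, hV⟩ hVW
  have hfpA : (g.appLE W V hVW).hom.FinitePresentation :=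
    HasRingHomProperty.appLE (P := @LocallyOfFinitePresentation) g inferInstance ⟨W, hW⟩ ⟨V, hV⟩ hVW
  have hflB : ((f ≫ g).appLE W U hUW).hom.Flat :=
    HasRingHomProperty.appLE (P := @Flat) (f ≫ g) inferInstance ⟨W, hW⟩ ⟨U, hU⟩ hUW
  have hfpB : ((f ≫ g).appLE W U hUW).hom.FinitePresentation :=
    HasRingHomProperty.appLE (P := @LocallyOfFinitePresentation) (f ≫ g) inferInstance
      ⟨W, hW⟩ ⟨U, hU⟩ hUW
  rw [e1] at hflB hfpB
  have poX' : IsPushout (h.appLE W W' hW'W) (g.appLE W V hVW ≫ f.appLE V U hUV)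
      (g'.appLE W' V' hV'W' ≫ f'.appLE V' U' hU'V') (gX.appLE U U' hU'U) := by
    have := poX.flip
    rwa [e1, e2] at this
  have hcomap : (hU'.primeIdealOf ⟨x', hx'U'⟩).asIdeal.comap (gX.appLE U U' hU'U).hom =
      (hU.primeIdealOf ⟨gX x', hxU⟩).asIdeal :=
    congrArg PrimeSpectrum.asIdeal
      (IsAffineOpen.comap_primeIdealOf_appLE U hU U' hU' hU'U hx'U')
  rw [mem_kosLocus_iff f' hU' hV' hU'V' x' hx'U', mem_kosLocus_iff f hU hV hUV (gX x') hxU,
    ← hcomap]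
  exact kosAt_baseChange_hom (g.appLE W V hVW) (f.appLE V U hUV) (h.appLE W W' hW'W)
    (g'.appLE W' V' hV'W') (f'.appLE V' U' hU'V') (gY.appLE V V' hV'V) (gX.appLE U U' hU'U)
    poY.flip poX' hw hflA hfpA hflB hfpB (hU'.primeIdealOf ⟨x', hx'U'⟩).asIdeal

end Groth.Agent.Helper3.KzFib
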