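import Mathlib
import Groth.Prelude.Def_ega3
import Groth.Prelude.Def_LCI2
import Groth.Agent.Helper1.KoszulTop
import Groth.Agent.Helper3.KoszulGen

set_option autoImplicit false
set_option linter.style.haveILetI false
set_option linter.unusedSectionVars false
set_option linter.unusedVariables false
set_option linter.style.haveILetI false
set_option linter.unusedSectionVars false
set_option linter.unusedVariables false

/-!
# Koszul-regular generating sequences are exactly the shortest ones
-/

namespace Groth.Agent.Helper3.KzMin
open CategoryTheory CohIII Groth.Agent.Helper1.Koszul Groth.Agent.Helper3.KoszulGen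
open Groth.Agent.Lead.KoszulFunC

universe u
variable {R : Type u} [CommRing R]

/-- a Koszul-regular generating sequence of a proper ideal is at most as long as any other
generating sequence -/
theorem length_le_of_kreg {I : Ideal R} (hI : I ≠ ⊤) (f : List R)
    (hf : LCI.IsKoszulRegularSeq R f) (hfI : Ideal.ofList f = I)
    (h : List R) (hhI : Ideal.ofList h = I) : f.length ≤ h.length := by
  by_contra hlt
  push Not at hlt
  rw [isKoszulRegularSeq_iff, acyclic_iff_vanish] at hf
  have hv := (vanish_iff_of_span_eq (ModuleCat.of R R) f h (hfI.trans hhI.symm) 0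
    ((h.length : ℤ) - f.length) (by ring)).1 hf
  have h0 : Limits.IsZero ((koszulCx (ModuleCat.of R R) h).homology 0) := by
    apply hv
    have : (h.length : ℤ) < f.length := by exact_mod_cast hlt
    omega
  obtain ⟨e⟩ := nonempty_homology_zero_equiv R h
  apply hI
  have hsub : Subsingleton (R ⧸ (Ideal.ofList h • (⊤ : Submodule R R))) := by
    have := ModuleCat.subsingleton_of_isZero h0
    exact e.symm.toEquiv.subsingleton
  rw [smul_eq_mul, Ideal.mul_top, hhI] at hsub
  exact Ideal.Quotient.subsingleton_iff.1 hsub

theorem main {I : Ideal R} (hI : I ≠ ⊤)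
    (g : List R) (hg : LCI.IsKoszulRegularSeq R g) (hgI : Ideal.ofList g = I)
    (f : List R) (hfI : Ideal.ofList f = I) :
    LCI.IsKoszulRegularSeq R f ↔ ∀ h : List R, Ideal.ofList h = I → f.length ≤ h.length := by
  constructor
  · intro hf h hh
    exact length_le_of_kreg hI f hf hfI h hh
  · intro hmin
    have h1 : f.length ≤ g.length := hmin g hgI
    have h2 : g.length ≤ f.length := length_le_of_kreg hI g hg hgI f hfI
    exact isKoszulRegularSeq_of_span_eq g f (le_antisymm h2 h1) (hgI.trans hfI.symm) hg

end Groth.Agent.Helper3.KzMin
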