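import Mathlib
import Groth.Prelude.Def_Koszul
import Groth.Agent.Lead.KoszulFunA
import Groth.Agent.Lead.KoszulH1
import Groth.Agent.Lead.KoszulFunC
import Groth.Agent.Helper1.KoszulReg

set_option autoImplicit false
set_option linter.style.haveILetI false
set_option linter.unusedSectionVars false
set_option linter.unusedVariables false
set_option linter.style.haveILetI false
set_option linter.unusedSectionVars false
set_option linter.unusedVariables false

/-!
# The Koszul complex of `x • l` is the Koszul complex of `l` with differential scaled by `x`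
-/

namespace Groth.Agent.Helper3.KzScale
open CategoryTheory Limits CochainComplex HomologicalComplex HomComplex

universe u
variable {A : Type u} [CommRing A]

/-- the complex with the same terms and differential multiplied by `x` -/
noncomputable abbrev scale (x : A) (K : CochainComplex (ModuleCat.{u} A) ℤ) :
    CochainComplex (ModuleCat.{u} A) ℤ where
  X := K.X
  d i j := x • K.d i j
  shape i j h := by rw [K.shape i j h, smul_zero]
  d_comp_d' i j k _ _ := by
    rw [Linear.smul_comp, Linear.comp_smul, K.d_comp_d, smul_zero, smul_zero]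

lemma scale_d (x : A) (K : CochainComplex (ModuleCat.{u} A) ℤ) (i j : ℤ) :
    (scale x K).d i j = x • K.d i j := rfl

noncomputable def scaleMap (x : A) {K L : CochainComplex (ModuleCat.{u} A) ℤ} (φ : K ⟶ L) :
    scale x K ⟶ scale x L where
  f n := φ.f n
  comm' i j _ := by
    show φ.f i ≫ (x • L.d i j) = (x • K.d i j) ≫ φ.f j
    rw [Linear.comp_smul, Linear.smul_comp, φ.comm]

lemma scaleMap_f (x : A) {K L : CochainComplex (ModuleCat.{u} A) ℤ} (φ : K ⟶ L) (n : ℤ) :
    (scaleMap x φ).f n = φ.f n := rfl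

lemma scaleMap_id (x : A) (K : CochainComplex (ModuleCat.{u} A) ℤ) :
    scaleMap x (𝟙 K) = 𝟙 (scale x K) := by
  ext n : 1
  rfl

lemma scaleMap_comp (x : A) {K L M : CochainComplex (ModuleCat.{u} A) ℤ} (φ : K ⟶ L) (ψ : L ⟶ M) :
    scaleMap x (φ ≫ ψ) = scaleMap x φ ≫ scaleMap x ψ := by
  ext n : 1
  rfl

lemma scaleMap_smul (x a : A) {K L : CochainComplex (ModuleCat.{u} A) ℤ} (φ : K ⟶ L) :
    scaleMap x (a • φ) = a • scaleMap x φ := by
  ext n : 1
  rfl

noncomputable def scaleIso (x : A) {K L : CochainComplex (ModuleCat.{u} A) ℤ} (e : K ≅ L) :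
    scale x K ≅ scale x L where
  hom := scaleMap x e.hom
  inv := scaleMap x e.inv
  hom_inv_id := by rw [← scaleMap_comp, e.hom_inv_id, scaleMap_id]
  inv_hom_id := by rw [← scaleMap_comp, e.inv_hom_id, scaleMap_id]

section Cone
variable (x : A) {K : CochainComplex (ModuleCat.{u} A) ℤ} (φ : K ⟶ K)

/-- components of the comparison -/
noncomputable def cHom (n : ℤ) :
    (mappingCone (x • scaleMap x φ)).X n ⟶ (mappingCone φ).X n :=
  (((mappingCone.fst (x • scaleMap x φ)).1.v n (n + 1) rfl : _ ⟶ (scale x K).X (n + 1)) ≫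
    ((mappingCone.inl φ).v (n + 1) n (by omega) : K.X (n + 1) ⟶ _)) +
  (((mappingCone.snd (x • scaleMap x φ)).v n n (add_zero n) : _ ⟶ (scale x K).X n) ≫
    ((mappingCone.inr φ).f n : K.X n ⟶ _))

noncomputable def cInv (n : ℤ) :
    (mappingCone φ).X n ⟶ (mappingCone (x • scaleMap x φ)).X n :=
  (((mappingCone.fst φ).1.v n (n + 1) rfl : _ ⟶ K.X (n + 1)) ≫
    ((mappingCone.inl (x • scaleMap x φ)).v (n + 1) n (by omega) : (scale x K).X (n + 1) ⟶ _)) +
  (((mappingCone.snd φ).v n n (add_zero n) : _ ⟶ K.X n) ≫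
    ((mappingCone.inr (x • scaleMap x φ)).f n : (scale x K).X n ⟶ _))


lemma cHom_cInv (n : ℤ) : cHom x φ n ≫ cInv x φ n = 𝟙 _ := by
  unfold cHom cInv
  rw [Preadditive.add_comp, Preadditive.comp_add, Preadditive.comp_add]
  simp only [Category.assoc]
  rw [mappingCone.inl_v_fst_v_assoc, mappingCone.inl_v_snd_v_assoc,
    mappingCone.inr_f_fst_v_assoc, mappingCone.inr_f_snd_v_assoc]
  simp only [zero_comp, comp_zero, add_zero, zero_add]
  exact mappingCone.id_X (x • scaleMap x φ) n (n + 1) rfl

lemma cInv_cHom (n : ℤ) : cInv x φ n ≫ cHom x φ n = 𝟙 _ := by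
  unfold cHom cInv
  rw [Preadditive.add_comp, Preadditive.comp_add, Preadditive.comp_add]
  simp only [Category.assoc]
  rw [mappingCone.inl_v_fst_v_assoc, mappingCone.inl_v_snd_v_assoc,
    mappingCone.inr_f_fst_v_assoc, mappingCone.inr_f_snd_v_assoc]
  simp only [zero_comp, comp_zero, add_zero, zero_add]
  exact mappingCone.id_X φ n (n + 1) rfl


lemma cHom_comm (i j : ℤ) (hij : i + 1 = j) :
    cHom x φ i ≫ (x • (mappingCone φ).d i j) =
      (mappingCone (x • scaleMap x φ)).d i j ≫ cHom x φ j := by
  subst hij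
  rw [mappingCone.ext_to_iff φ _ (i + 1 + 1) rfl]
  constructor
  · unfold cHom
    simp only [Preadditive.add_comp, Category.assoc, Linear.comp_smul, Linear.smul_comp,
      mappingCone.d_fst_v φ i (i + 1) (i + 1 + 1) rfl rfl, Preadditive.comp_neg,
      mappingCone.inl_v_fst_v_assoc, mappingCone.inr_f_fst_v_assoc, zero_comp, comp_zero,
      add_zero, smul_neg, mappingCone.inl_v_fst_v, mappingCone.inr_f_fst_v, Category.comp_id,
      Preadditive.comp_add]
    rw [mappingCone.d_fst_v (x • scaleMap x φ) i (i + 1) (i + 1 + 1) rfl rfl]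
    simp [scale_d]
  · unfold cHom
    simp only [Preadditive.add_comp, Category.assoc, Linear.comp_smul, Linear.smul_comp,
      mappingCone.d_snd_v φ i (i + 1) rfl, Preadditive.comp_add,
      mappingCone.inl_v_fst_v_assoc, mappingCone.inr_f_fst_v_assoc, zero_comp, comp_zero,
      add_zero, zero_add, mappingCone.inl_v_snd_v, mappingCone.inr_f_snd_v, Category.comp_id,
      mappingCone.inl_v_snd_v_assoc, mappingCone.inr_f_snd_v_assoc]
    rw [mappingCone.d_snd_v (x • scaleMap x φ) i (i + 1) rfl]
    simp [scale_d, scaleMap_f, smul_add]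

/-- the mapping cone of the scaled endomorphism on the scaled complex is the scaled cone -/
noncomputable def coneScale : mappingCone (x • scaleMap x φ) ≅ scale x (mappingCone φ) :=
  HomologicalComplex.Hom.isoOfComponents
    (fun n => ⟨cHom x φ n, cInv x φ n, cHom_cInv x φ n, cInv_cHom x φ n⟩)
    (by
      intro i j hij
      exact cHom_comm x φ i j hij)

end Cone


open Groth.Agent.Lead.KoszulFunA in
/-- the Koszul complex of `x • l` is the scaled Koszul complex of `l` -/
theorem nonempty_koszul_iso (x : A) : ∀ l : List A,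
    Nonempty (Koszul.koszul A (l.map (fun f => x * f)) ≅ scale x (Koszul.koszul A l))
  | [] => by
    refine ⟨HomologicalComplex.Hom.isoOfComponents (fun n => Iso.refl _) ?_⟩
    intro i j hij
    show _ ≫ (x • _) = _
    simp only [Iso.refl_hom, Category.id_comp, Category.comp_id]
    have h0 : ∀ i j : ℤ, (Koszul.koszul A []).d i j = 0 := by
      intro i j
      exact HomologicalComplex.single_obj_d _ _ _ _ _
    have h1 : (Koszul.koszul A (([] : List A).map (fun f => x * f))).d i j = 0 := h0 i j
    rw [h1, h0 i j, smul_zero]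
  | f :: l => by
    obtain ⟨e⟩ := nonempty_koszul_iso x l
    have e1 : Koszul.koszul A ((f :: l).map (fun f => x * f)) ≅
        mappingCone (x • scaleMap x (f • 𝟙 (Koszul.koszul A l))) := by
      show mappingCone ((x * f) • 𝟙 (Koszul.koszul A (l.map (fun f => x * f)))) ≅ _
      refine coneIso _ _ e e ?_
      rw [scaleMap_smul, scaleMap_id, smul_smul, Linear.smul_comp, Linear.comp_smul,
        Category.id_comp, Category.comp_id]
    exact ⟨e1 ≪≫ coneScale x (f • 𝟙 (Koszul.koszul A l))⟩


/-- multiplication by a non-zero-divisor is injective on the terms of the Koszul complex -/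
theorem smul_injective_koszul (x : A) (hx : x ∈ nonZeroDivisors A) : ∀ (l : List A) (n : ℤ)
    (y : (Koszul.koszul A l).X n), x • y = 0 → y = 0
  | [], n, y, h => by
    by_cases hn : n = 0
    · subst hn
      let iso := HomologicalComplex.singleObjXSelf (ComplexShape.up ℤ) (0 : ℤ) (ModuleCat.of A A)
      have h2 : x • iso.hom.hom y = 0 := by
        have := congrArg iso.hom.hom h
        exact ((map_smul iso.hom.hom x y).symm.trans this).trans (map_zero _)
      have h3 : iso.hom.hom y = 0 := by
        have h4 : x * (iso.hom.hom y : A) = 0 := h2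
        exact (mul_right_mem_nonZeroDivisors_eq_zero_iff hx).1 (by rw [mul_comm]; exact h4)
      have h5 : Function.Injective iso.hom.hom :=
        (ConcreteCategory.bijective_of_isIso iso.hom).1
      exact h5 (h3.trans (map_zero _).symm)
    · haveI : Subsingleton ((Koszul.koszul A []).X n) :=
        ModuleCat.subsingleton_of_isZero
          (HomologicalComplex.isZero_single_obj_X (ComplexShape.up ℤ) 0 (ModuleCat.of A A) n hn)
      exact Subsingleton.elim _ _
  | f :: l, n, y, h => by
    apply Groth.Agent.Lead.KoszulH1.ext_elem (f • 𝟙 (Koszul.koszul A l)) n (n + 1) rfl y 0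
    · refine Eq.trans ?_ (map_zero _).symm
      apply smul_injective_koszul x hx l (n + 1)
      have := congrArg ((mappingCone.fst (f • 𝟙 (Koszul.koszul A l))).1.v n (n + 1) rfl).hom h
      exact ((map_smul ((mappingCone.fst (f • 𝟙 (Koszul.koszul A l))).1.v n (n + 1) rfl).hom
        x y).symm.trans this).trans (map_zero _)
    · refine Eq.trans ?_ (map_zero _).symm
      apply smul_injective_koszul x hx l n
      have := congrArg ((mappingCone.snd (f • 𝟙 (Koszul.koszul A l))).v n n (add_zero n)).hom h
      exact ((map_smul ((mappingCone.snd (f • 𝟙 (Koszul.koszul A l))).v n n (add_zero n)).hom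
        x y).symm.trans this).trans (map_zero _)


section Homology

lemma quotEquiv {M₁ M₂ M₃ : Type u} [AddCommGroup M₁] [Module A M₁] [AddCommGroup M₂] [Module A M₂]
    [AddCommGroup M₃] [Module A M₃] (f' f : M₁ →ₗ[A] M₂) (g' g : M₂ →ₗ[A] M₃) (x : A)
    (hf : f' = x • f) (hg : g' = x • g) (hinj : ∀ y : M₃, x • y = 0 → y = 0)
    (hz : ∀ z, f' z ∈ LinearMap.ker g') :
    Nonempty ((↥(LinearMap.ker g') ⧸ LinearMap.range (f'.codRestrict (LinearMap.ker g') hz)) ≃ₗ[A]
      (↥(LinearMap.ker g) ⧸ Submodule.comap (LinearMap.ker g).subtype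
          (Ideal.span {x} • LinearMap.range f))) := by
  subst hf hg
  have hker : LinearMap.ker (x • g) = LinearMap.ker g := by
    ext y
    rw [LinearMap.mem_ker, LinearMap.mem_ker, LinearMap.smul_apply]
    constructor
    · exact hinj _
    · intro h
      rw [h, smul_zero]
  have hmap : (LinearMap.range ((x • f).codRestrict (LinearMap.ker (x • g)) hz)).map
      (LinearEquiv.ofEq _ _ hker).toLinearMap =
      Submodule.comap (LinearMap.ker g).subtype (Ideal.span {x} • LinearMap.range f) := by
    ext ⟨y, hy⟩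
    rw [Submodule.mem_map, Submodule.mem_comap, Submodule.ideal_span_singleton_smul,
      Submodule.mem_smul_pointwise_iff_exists]
    constructor
    · rintro ⟨w, ⟨z, rfl⟩, hw⟩
      refine ⟨f z, ⟨z, rfl⟩, ?_⟩
      exact congrArg Subtype.val hw
    · rintro ⟨w, ⟨z, rfl⟩, hw⟩
      refine ⟨(x • f).codRestrict (LinearMap.ker (x • g)) hz z, ⟨z, rfl⟩, ?_⟩
      apply Subtype.ext
      exact hw
  exact ⟨Submodule.Quotient.equiv _ _ (LinearEquiv.ofEq _ _ hker) hmap⟩

variable (x : A) (K : CochainComplex (ModuleCat.{u} A) ℤ) (q : ℤ)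

/-- cohomology of the scaled complex: cocycles modulo `x` times coboundaries -/
theorem nonempty_homology_scale_iso (hinj : ∀ y : K.X (q + 1), x • y = 0 → y = 0) :
    Nonempty ((scale x K).homology q ≅
      ModuleCat.of A (↥(LinearMap.ker (K.d q (q + 1)).hom) ⧸
        Submodule.comap (LinearMap.ker (K.d q (q + 1)).hom).subtype
          (Ideal.span {x} • LinearMap.range (K.d (q - 1) q).hom))) := by
  have e1 : (scale x K).homology q ≅ ((scale x K).sc' (q - 1) q (q + 1)).homology :=
    (scale x K).homologyIsoSc' (q - 1) q (q + 1) (by simp) (by simp)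
  have e2 := ((scale x K).sc' (q - 1) q (q + 1)).moduleCatHomologyIso
  obtain ⟨e3⟩ := quotEquiv ((scale x K).sc' (q - 1) q (q + 1)).f.hom (K.d (q - 1) q).hom
    ((scale x K).sc' (q - 1) q (q + 1)).g.hom (K.d q (q + 1)).hom x rfl rfl hinj
    ((scale x K).sc' (q - 1) q (q + 1)).moduleCat_zero_apply
  exact ⟨e1 ≪≫ e2 ≪≫ e3.toModuleIso⟩

end Homology

/-- `H^q(K(x f_1, …, x f_n)) ≅ Ker ∂^q / x · Im ∂^{q-1}` -/
theorem main (l : List A) (x : A) (hx : x ∈ nonZeroDivisors A) (q : ℤ) :
    Nonempty ((Koszul.koszul A (l.map (fun f => x * f))).homology q ≅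
      ModuleCat.of A (↥(LinearMap.ker ((Koszul.koszul A l).d q (q + 1)).hom) ⧸
        Submodule.comap (LinearMap.ker ((Koszul.koszul A l).d q (q + 1)).hom).subtype
          (Ideal.span {x} • LinearMap.range ((Koszul.koszul A l).d (q - 1) q).hom))) := by
  obtain ⟨e⟩ := nonempty_koszul_iso x l
  obtain ⟨e'⟩ := nonempty_homology_scale_iso x (Koszul.koszul A l) q
    (smul_injective_koszul x hx l (q + 1))
  exact ⟨(HomologicalComplex.homologyFunctor _ _ q).mapIso e ≪≫ e'⟩


open TensorProduct in
/-- for a weakly regular sequence, `H^q(K(x f)) ≅ Ker ∂^q ⊗ A/(x)` for `q < 0` -/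
theorem main_regular (l : List A) (hl : RingTheory.Sequence.IsWeaklyRegular A l) (x : A)
    (hx : x ∈ nonZeroDivisors A) (q : ℤ) (hq : q < 0) :
    Nonempty ((Koszul.koszul A (l.map (fun f => x * f))).homology q ≅
      ModuleCat.of A (↥(LinearMap.ker ((Koszul.koszul A l).d q (q + 1)).hom) ⊗[A]
        (A ⧸ Ideal.span {x}))) := by
  obtain ⟨e⟩ := main l x hx q
  set K := Koszul.koszul A l with hK
  have hz : IsZero (K.homology q) := by
    rw [hK, Groth.Agent.Lead.KoszulFunC.koszul_eq]
    exact Groth.Agent.Helper1.Koszul.isZero_homology_of_isWeaklyRegular l A hl q hq.ne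
  have hex : (K.sc' (q - 1) q (q + 1)).Exact :=
    (K.exactAt_iff' (q - 1) q (q + 1) (by simp) (by simp)).mp
      ((K.exactAt_iff_isZero_homology q).mpr hz)
  rw [ShortComplex.moduleCat_exact_iff_range_eq_ker] at hex
  have hr : LinearMap.range (K.d (q - 1) q).hom = LinearMap.ker (K.d q (q + 1)).hom := hex
  set Z := LinearMap.ker (K.d q (q + 1)).hom with hZ
  have hsm : Submodule.comap Z.subtype (Ideal.span {x} • LinearMap.range (K.d (q - 1) q).hom) =
      Ideal.span {x} • (⊤ : Submodule A Z) := by
    rw [hr]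
    have h1 : Ideal.span {x} • Z = (Ideal.span {x} • (⊤ : Submodule A Z)).map Z.subtype := by
      rw [Submodule.map_smul'', Submodule.map_subtype_top]
    rw [h1, Submodule.comap_map_eq_of_injective Z.injective_subtype]
  have e2 : (↥Z ⧸ Submodule.comap Z.subtype
      (Ideal.span {x} • LinearMap.range (K.d (q - 1) q).hom)) ≃ₗ[A]
      (↥Z ⊗[A] (A ⧸ Ideal.span {x})) :=
    (Submodule.quotEquivOfEq _ _ hsm).trans
      (TensorProduct.tensorQuotEquivQuotSMul Z (Ideal.span {x})).symm
  exact ⟨e ≪≫ e2.toModuleIso⟩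

end Groth.Agent.Helper3.KzScale
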