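import Mathlib
import Groth.Prelude.Def_ega3
import Groth.Prelude.Def_LCI2
import Groth.Agent.Helper3.KzTor
import Groth.Agent.Helper1.TorBasic
import Groth.Agent.Helper1.TorFlat
import Groth.Agent.Lead.QRegBCc
import Groth.Agent.Lead.KoszulH1
import Groth.Agent.Helper7.QR2

set_option autoImplicit false
set_option linter.style.haveILetI false
set_option linter.unusedSectionVars false
set_option linter.unusedVariables false
set_option linter.style.haveILetI false
set_option linter.unusedSectionVars false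
set_option linter.unusedVariables false

/-!
# `Tor` of the powers of a Koszul-regular ideal against a base change preserving Koszul-regularity
-/

namespace Groth.Agent.Helper3.KzTorPow
open CategoryTheory MonoidalCategory Limits TensorProduct CohIII
open Groth.Agent.Helper1.TorLib

universe u

variable {A : Type u} [CommRing A]

section additive

/-- an additive functor killing `X` kills finite powers of `X` -/
lemma isZero_map_pi (F : ModuleCat.{u} A ⥤ ModuleCat.{u} A) [F.Additive]
    (X : Type u) [AddCommGroup X] [Module A X] (hX : IsZero (F.obj (ModuleCat.of A X)))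
    (ι : Type) [Fintype ι] [DecidableEq ι] :
    IsZero (F.obj (ModuleCat.of A (ι → X))) := by
  rw [IsZero.iff_id_eq_zero]
  have hid : 𝟙 (ModuleCat.of A (ι → X)) =
      ∑ i, (ModuleCat.ofHom (LinearMap.proj i : (ι → X) →ₗ[A] X) ≫
        ModuleCat.ofHom (LinearMap.single A (fun _ => X) i)) := by
    apply ModuleCat.hom_ext
    apply LinearMap.ext
    intro x
    have h1 : (∑ i, (ModuleCat.ofHom (LinearMap.proj i : (ι → X) →ₗ[A] X) ≫
        ModuleCat.ofHom (LinearMap.single A (fun _ => X) i))).hom =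
        ∑ i, (LinearMap.single A (fun _ => X) i) ∘ₗ (LinearMap.proj i : (ι → X) →ₗ[A] X) := by
      rw [ModuleCat.hom_sum]
      rfl
    rw [h1, LinearMap.sum_apply]
    funext j
    simp [Finset.sum_apply, Pi.single_apply]
  rw [← F.map_id, hid, F.map_sum]
  apply Finset.sum_eq_zero
  intro i _
  rw [F.map_comp, hX.eq_of_tgt (F.map _) 0, zero_comp]

instance flip_additive (N : ModuleCat.{u} A) (n : ℕ) :
    ((Tor (ModuleCat.{u} A) n).flip.obj N).Additive :=
  Functor.additive_of_iso (torFlipNatIso (ProjectiveResolution.of N) n).symm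

lemma isZero_tor_pi (N : ModuleCat.{u} A) (n : ℕ)
    (X : Type u) [AddCommGroup X] [Module A X]
    (hX : IsZero (((Tor (ModuleCat.{u} A) n).obj (ModuleCat.of A X)).obj N))
    (ι : Type) [Fintype ι] [DecidableEq ι] :
    IsZero (((Tor (ModuleCat.{u} A) n).obj (ModuleCat.of A (ι → X))).obj N) :=
  isZero_map_pi ((Tor (ModuleCat.{u} A) n).flip.obj N) X hX ι

end additive

section graded
open Groth.Agent.Lead.QRegBCa Groth.Agent.Lead.QRegBCc

lemma span_range_get (fs : List A) : Ideal.span (Set.range fs.get) = Ideal.ofList fs := by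
  show _ = Ideal.span {x | x ∈ fs}
  congr 1
  ext x
  simp [List.mem_iff_get]

/-- the graded pieces of a quasi-regular ideal are finite free over the quotient -/
noncomputable def grEquiv {r : ℕ} (f : Fin r → A) (hq : CAlgX.IsQuasiRegular f) (I : Ideal A)
    (h : Ideal.span (Set.range f) = I) (n : ℕ) :
    (↥(I ^ n) ⧸ Submodule.comap (I ^ n).subtype (I ^ (n + 1))) ≃ₗ[A]
      (D r n → A ⧸ I) := by
  subst h
  exact gradedEquiv A f hq n

end graded

section main
variable (A' : Type u) [CommRing A'] [Algebra A A'] (fs : List A)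

/-- the short exact sequence `0 → J^{n+1} → J^n → J^n/J^{n+1} → 0` -/
noncomputable def sesPow (I : Ideal A) (n : ℕ) : ShortComplex (ModuleCat.{u} A) where
  X₁ := ModuleCat.of A ↥(I ^ (n + 1))
  X₂ := ModuleCat.of A ↥(I ^ n)
  X₃ := ModuleCat.of A (↥(I ^ n) ⧸ Submodule.comap (I ^ n).subtype (I ^ (n + 1)))
  f := ModuleCat.ofHom (Submodule.inclusion (Ideal.pow_le_pow_right (Nat.le_succ n)))
  g := ModuleCat.ofHom (Submodule.mkQ _)
  zero := by
    ext x
    show Submodule.Quotient.mk _ = 0
    rw [Submodule.Quotient.mk_eq_zero]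
    exact x.2

lemma sesPow_shortExact (I : Ideal A) (n : ℕ) : (sesPow I n).ShortExact := by
  refine ShortComplex.ShortExact.mk' ?_ ?_ ?_
  · rw [ShortComplex.moduleCat_exact_iff]
    intro (x : ↥(I ^ n)) hx
    have hx2 : (Submodule.Quotient.mk x : ↥(I ^ n) ⧸
        Submodule.comap (I ^ n).subtype (I ^ (n + 1))) = 0 := hx
    have hx' : (x : A) ∈ I ^ (n + 1) :=
      (Submodule.Quotient.mk_eq_zero (Submodule.comap (I ^ n).subtype (I ^ (n + 1)))).mp hx2
    exact ⟨(⟨(x : A), hx'⟩ : ↥(I ^ (n + 1))), rfl⟩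
  · rw [ModuleCat.mono_iff_injective]
    exact Submodule.inclusion_injective (Ideal.pow_le_pow_right (Nat.le_succ n))
  · rw [ModuleCat.epi_iff_surjective]
    exact Submodule.mkQ_surjective _

variable (hfs : LCI.IsKoszulRegularSeq A fs)
  (hfs' : LCI.IsKoszulRegularSeq A' (fs.map (algebraMap A A')))

include hfs hfs' in
theorem isZero_tor_gr (n : ℕ) (i : ℕ) (hi : 1 ≤ i) :
    IsZero (((Tor (ModuleCat.{u} A) i).obj (ModuleCat.of A
      (↥(Ideal.ofList fs ^ n) ⧸ Submodule.comap (Ideal.ofList fs ^ n).subtype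
        (Ideal.ofList fs ^ (n + 1))))).obj (ModuleCat.of A A')) := by
  classical
  have hq : CAlgX.IsQuasiRegular fs.get :=
    Groth.Agent.Helper7.QR.main_2103 fs.get
      (Groth.Agent.Lead.KoszulH1.isH1Regular_of_isKoszulRegularSeq fs hfs)
  have e := grEquiv fs.get hq (Ideal.ofList fs) (span_range_get fs) n
  have h0 := Groth.Agent.Helper3.KzTor.isZero_tor_quot_algebra fs hfs hfs' i hi
  have h1 := isZero_tor_pi (ModuleCat.of A A') i (A ⧸ Ideal.ofList fs) h0
    (Groth.Agent.Lead.QRegBCa.D fs.length n)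
  exact h1.of_iso (((Tor (ModuleCat.{u} A) i).mapIso e.toModuleIso).app (ModuleCat.of A A'))

include hfs hfs' in
theorem isZero_tor_pow : ∀ (n : ℕ) (i : ℕ), 1 ≤ i →
    IsZero (((Tor (ModuleCat.{u} A) i).obj (ModuleCat.of A ↥(Ideal.ofList fs ^ n))).obj
      (ModuleCat.of A A'))
  | 0, i, hi => by
    obtain ⟨k, rfl⟩ : ∃ k, i = k + 1 := ⟨i - 1, by omega⟩
    have h0 : Ideal.ofList fs ^ 0 = ⊤ := by rw [pow_zero, Ideal.one_eq_top]
    haveI : Module.Flat A ↥(Ideal.ofList fs ^ 0) :=
      Module.Flat.of_linearEquiv ((LinearEquiv.ofEq _ _ h0).trans Submodule.topEquiv)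
    exact isZero_tor_of_flat_left _ _ k
  | n + 1, i, hi => by
    have hS := sesPow_shortExact (Ideal.ofList fs) n
    have hex := tor_exact₁ (ModuleCat.of A A') hS i
    refine hex.isZero_X₂ ?_ ?_
    · exact (isZero_tor_gr A' fs hfs hfs' n (i + 1) (by omega)).eq_of_src _ _
    · exact (isZero_tor_pow n i hi).eq_of_tgt _ _

include hfs hfs' in
theorem main (n : ℕ) (i : ℕ) (hi : 1 ≤ i) :
    IsZero (((Tor (ModuleCat.{u} A) i).obj (ModuleCat.of A ↥(Ideal.span {x | x ∈ fs} ^ n))).obj (ModuleCat.of A A')) ∧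
    IsZero (((Tor (ModuleCat.{u} A) i).obj (ModuleCat.of A
      (↥(Ideal.span {x | x ∈ fs} ^ n) ⧸ Submodule.comap (Ideal.span {x | x ∈ fs} ^ n).subtype (Ideal.span {x | x ∈ fs} ^ (n + 1))))).obj (ModuleCat.of A A')) :=
  ⟨isZero_tor_pow A' fs hfs hfs' n i hi, isZero_tor_gr A' fs hfs hfs' n i hi⟩

end main

end Groth.Agent.Helper3.KzTorPow
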