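import Mathlib
import Groth.Prelude.Def_ega3
import Groth.Prelude.Def_LCI2
import Groth.Agent.Helper1.KoszulCone
import Groth.Agent.Lead.KoszulFunE

set_option autoImplicit false
set_option linter.style.haveILetI false
set_option linter.unusedSectionVars false
set_option linter.unusedVariables false
set_option linter.style.haveILetI false
set_option linter.unusedSectionVars false
set_option linter.unusedVariables false

/-!
# Cones of zero maps and Koszul complexes with respect to elements acting as zero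
-/

namespace Groth.Agent.Helper3.KzZero
open CategoryTheory Category Limits CochainComplex HomologicalComplex HomComplex CohIII
open Groth.Agent.Helper1.KoszulCone Groth.Agent.Lead.KoszulFunD

universe u

variable {A : Type u} [CommRing A]

section core

/-- the cohomology of the cone of a zero map splits -/
theorem nonempty_homology_cone_zero {F G : CochainComplex (ModuleCat.{u} A) ℤ} (φ : F ⟶ G)
    (hφ : φ = 0) (n m : ℤ) (h : n + 1 = m) :
    Nonempty ((mappingCone φ).homology n ≅ G.homology n ⊞ F.homology m) := by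
  let p : mappingCone φ ⟶ G :=
    mappingCone.desc φ (0 : Cochain F G (-1)) (𝟙 G) (by subst hφ; simp)
  have hp : mappingCone.inr φ ≫ p = 𝟙 G := mappingCone.inr_desc _ _ _ _
  let S : ShortComplex (ModuleCat.{u} A) :=
    ShortComplex.mk (homologyMap (mappingCone.inr φ) n) (coneδ φ n m h) (w₃ φ n m h)
  have hS : S.Exact := exact₃ φ n m h
  have hepi : Epi S.g := by
    have h1 := exact₁ φ n m h
    exact h1.epi_f (by subst hφ; simp)
  let r : S.X₂ ⟶ S.X₁ := homologyMap p n
  have hr : S.f ≫ r = 𝟙 _ := by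
    show homologyMap (mappingCone.inr φ) n ≫ homologyMap p n = 𝟙 _
    rw [← homologyMap_comp, hp, homologyMap_id]
  exact ⟨(ShortComplex.Splitting.ofExactOfRetraction S hS r hr hepi).isoBinaryBiproduct⟩

/-- linear-equivalence form -/
theorem nonempty_homology_cone_zero_equiv {F G : CochainComplex (ModuleCat.{u} A) ℤ} (φ : F ⟶ G)
    (hφ : φ = 0) (n m : ℤ) (h : n + 1 = m) :
    Nonempty ((mappingCone φ).homology n ≃ₗ[A] (G.homology n × F.homology m)) := by
  obtain ⟨e⟩ := nonempty_homology_cone_zero φ hφ n m h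
  exact ⟨(e ≪≫ ModuleCat.biprodIsoProd _ _).toLinearEquiv⟩

end core

section iterate

/-- scalars acting as zero on source and target act as zero on the cone -/
lemma smul_id_cone_eq_zero (a : A) {K L : CochainComplex (ModuleCat.{u} A) ℤ} (φ : K ⟶ L)
    (hK : a • 𝟙 K = 0) (hL : a • 𝟙 L = 0) : a • 𝟙 (mappingCone φ) = 0 := by
  have hK' : ∀ n, a • 𝟙 (K.X n) = 0 := fun n => by
    have := HomologicalComplex.congr_hom hK n
    simpa using this
  have hL' : ∀ n, a • 𝟙 (L.X n) = 0 := fun n => by
    have := HomologicalComplex.congr_hom hL n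
    simpa using this
  ext n : 1
  rw [mappingCone.ext_from_iff _ (n + 1) n rfl]
  constructor
  · simp only [HomologicalComplex.smul_f_apply, HomologicalComplex.id_f, Linear.comp_smul,
      comp_id, HomologicalComplex.zero_f, comp_zero]
    have : a • (mappingCone.inl φ).v (n + 1) n (by omega) =
        (a • 𝟙 (K.X (n + 1))) ≫ (mappingCone.inl φ).v (n + 1) n (by omega) := by
      rw [Linear.smul_comp, id_comp]
    rw [this, hK', zero_comp]
  · simp only [HomologicalComplex.smul_f_apply, HomologicalComplex.id_f, Linear.comp_smul,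
      comp_id, HomologicalComplex.zero_f, comp_zero]
    have : a • (mappingCone.inr φ).f n = (a • 𝟙 (L.X n)) ≫ (mappingCone.inr φ).f n := by
      rw [Linear.smul_comp, id_comp]
    rw [this, hL', zero_comp]

lemma smul_id_kC (a : A) (C : CochainComplex (ModuleCat.{u} A) ℤ) (hC : a • 𝟙 C = 0) :
    ∀ g : List A, a • 𝟙 (kC C g) = 0
  | [] => hC
  | b :: g => smul_id_cone_eq_zero a _ (smul_id_kC a C hC g) (smul_id_kC a C hC g)

/-- auxiliary: functions on `Fin (a + b)` -/
noncomputable def finAddEquiv (X : Type u) [AddCommGroup X] [Module A X] (a b : ℕ) :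
    ((Fin a → X) × (Fin b → X)) ≃ₗ[A] (Fin (a + b) → X) :=
  (LinearEquiv.sumArrowLequivProdArrow (Fin a) (Fin b) A X).symm ≪≫ₗ
    (LinearEquiv.funCongrLeft A X finSumFinEquiv).symm

/-- **iterated cones of elements acting as zero on a complex with cohomology only in degree 0** -/
theorem homology_kC_of_zero (C : CochainComplex (ModuleCat.{u} A) ℤ)
    (hC0 : ∀ i : ℤ, i ≠ 0 → IsZero (C.homology i)) :
    ∀ f : List A, (∀ a ∈ f, a • 𝟙 C = 0) →
      (∀ i : ℤ, 0 < i → IsZero ((kC C f).homology i)) ∧
      ∀ m : ℕ, Nonempty ((kC C f).homology (-(m : ℤ)) ≃ₗ[A]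
        (Fin (f.length.choose m) → C.homology 0))
  | [], _ => by
    refine ⟨fun i hi => hC0 i hi.ne', fun m => ?_⟩
    show Nonempty (C.homology (-(m : ℤ)) ≃ₗ[A] (Fin (Nat.choose 0 m) → C.homology 0))
    rcases m with _ | m
    · exact ⟨(LinearEquiv.funUnique (Fin 1) A (C.homology 0)).symm⟩
    · have h1 := hC0 (-((m + 1 : ℕ) : ℤ)) (by push_cast; omega)
      haveI : Subsingleton (C.homology (-((m + 1 : ℕ) : ℤ))) :=
        ModuleCat.subsingleton_of_isZero h1
      rw [Nat.choose_zero_succ]
      exact ⟨LinearEquiv.ofSubsingleton _ _⟩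
  | a :: f, hf => by
    have ih := homology_kC_of_zero C hC0 f (fun b hb => hf b (List.mem_cons_of_mem _ hb))
    have hφ : a • 𝟙 (kC C f) = 0 := smul_id_kC a C (hf a List.mem_cons_self) f
    constructor
    · intro i hi
      obtain ⟨e⟩ := nonempty_homology_cone_zero_equiv (a • 𝟙 (kC C f)) hφ i (i + 1) rfl
      haveI : Subsingleton ((kC C f).homology i) :=
        ModuleCat.subsingleton_of_isZero (ih.1 i hi)
      haveI : Subsingleton ((kC C f).homology (i + 1)) :=
        ModuleCat.subsingleton_of_isZero (ih.1 (i + 1) (by omega))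
      haveI : Subsingleton ((mappingCone (a • 𝟙 (kC C f))).homology i) := e.toEquiv.subsingleton
      show IsZero ((mappingCone (a • 𝟙 (kC C f))).homology i)
      exact ModuleCat.isZero_of_subsingleton _
    · intro m
      show Nonempty ((mappingCone (a • 𝟙 (kC C f))).homology (-(m : ℤ)) ≃ₗ[A]
        (Fin ((f.length + 1).choose m) → C.homology 0))
      rcases m with _ | m
      · obtain ⟨e⟩ := nonempty_homology_cone_zero_equiv (a • 𝟙 (kC C f)) hφ
          (-((0 : ℕ) : ℤ)) 1 (by simp)
        haveI : Subsingleton ((kC C f).homology 1) :=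
          ModuleCat.subsingleton_of_isZero (ih.1 1 (by norm_num))
        haveI : Unique ((kC C f).homology 1) := uniqueOfSubsingleton 0
        obtain ⟨e0⟩ := ih.2 0
        rw [Nat.choose_zero_right] at e0 ⊢
        exact ⟨e ≪≫ₗ (LinearEquiv.prodUnique) ≪≫ₗ e0⟩
      · obtain ⟨e⟩ := nonempty_homology_cone_zero_equiv (a • 𝟙 (kC C f)) hφ
          (-((m + 1 : ℕ) : ℤ)) (-(m : ℤ)) (by push_cast; ring)
        obtain ⟨e1⟩ := ih.2 (m + 1)
        obtain ⟨e2⟩ := ih.2 m
        have hc : (f.length + 1).choose (m + 1) = f.length.choose (m + 1) + f.length.choose m := by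
          rw [Nat.choose_succ_succ, add_comm]
        rw [hc]
        exact ⟨e ≪≫ₗ (e1.prodCongr e2) ≪≫ₗ finAddEquiv _ _ _⟩

end iterate

section koszul
open Groth.Agent.Lead.KoszulFunB Groth.Agent.Lead.KoszulFunC Groth.Agent.Helper1.Koszul

/-- scalars killing `N` kill its Koszul complexes -/
lemma smul_id_koszulCx (a : A) (N : ModuleCat.{u} A) (hN : a • 𝟙 N = 0) :
    ∀ l : List A, a • 𝟙 (koszulCx N l) = 0
  | [] => by
    show a • 𝟙 ((HomologicalComplex.single (ModuleCat.{u} A) (ComplexShape.up ℤ) 0).obj N) = 0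
    apply HomologicalComplex.from_single_hom_ext
    rw [HomologicalComplex.smul_f_apply, HomologicalComplex.id_f, HomologicalComplex.zero_f]
    have e := HomologicalComplex.singleObjXSelf (ComplexShape.up ℤ) (0 : ℤ) N
    have h1 : a • 𝟙 (((HomologicalComplex.single (ModuleCat.{u} A) (ComplexShape.up ℤ) 0).obj N).X 0)
        = e.hom ≫ (a • 𝟙 N) ≫ e.inv := by
      rw [Linear.smul_comp, Linear.comp_smul, id_comp, e.hom_inv_id]
    rw [h1, hN, zero_comp, comp_zero]
  | b :: l => smul_id_cone_eq_zero a _ (smul_id_koszulCx a N hN l) (smul_id_koszulCx a N hN l)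

/-- converse of concatenation: if `f` and `g ++ f` are Koszul-regular then `g` is Koszul-regular
on `H⁰ K(f)` -/
theorem concat_conv (f g : List A)
    (hf : ∀ i : ℤ, i ≠ 0 → IsZero ((koszulCx (ModuleCat.of A A) f).homology i))
    (N : ModuleCat.{u} A) (e0 : (koszulCx (ModuleCat.of A A) f).homology 0 ≅ N)
    (hgf : ∀ i : ℤ, i ≠ 0 → IsZero ((koszulCx (ModuleCat.of A A) (g ++ f)).homology i)) :
    ∀ i : ℤ, i ≠ 0 → IsZero ((koszulCx N g).homology i) := by
  intro i hi
  obtain ⟨M, ψ, hψ, ⟨eM⟩⟩ := exists_quasiIso_single (koszulCx (ModuleCat.of A A) f)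
    (fun n hn => isZero_X_of_pos _ f n hn) hf
  have h1 := quasiIso_kCmap ψ hψ g
  have h4 : IsZero ((kC (koszulCx (ModuleCat.of A A) f) g).homology i) :=
    (isZero_homology_congr (kC_koszulCx (ModuleCat.of A A) f g) i).mpr (hgf i hi)
  haveI := h1
  have h3 : IsZero ((kC ((HomologicalComplex.single (ModuleCat.{u} A) (ComplexShape.up ℤ) 0).obj M)
      g).homology i) := h4.of_iso (asIso (homologyMap (kCmap ψ g) i)).symm
  have h2 : IsZero ((koszulCx M g).homology i) :=
    (isZero_homology_congr (kC_single M g) i).mp h3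
  exact h2.of_iso ((HomologicalComplex.homologyFunctor _ _ i).mapIso
    (kIso (eM.symm ≪≫ e0) g).symm)

end koszul

end Groth.Agent.Helper3.KzZero
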