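import Mathlib

set_option autoImplicit false
set_option linter.style.haveILetI false
set_option linter.unusedSectionVars false
set_option linter.unusedVariables false
set_option linter.style.haveILetI false
set_option linter.unusedSectionVars false
set_option linter.unusedVariables false

/-!
# Exterior powers over a ring and over a quotient of it
-/

namespace Groth.Agent.Helper3.WedgeQuot
open exteriorPower

universe u
variable {A : Type u} [CommRing A] (𝔟 : Ideal A) (M : Type u) [AddCommGroup M] [Module A M]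
  [Module (A ⧸ 𝔟) M] [IsScalarTower A (A ⧸ 𝔟) M]

/-- `ιMulti` over the quotient as an alternating map over `A` -/
noncomputable def altA (n : ℕ) : M [⋀^Fin n]→ₗ[A] ⋀[A ⧸ 𝔟]^n M :=
  { (ιMulti (A ⧸ 𝔟) n (M := M)).toMultilinearMap.restrictScalars A with
    map_eq_zero_of_eq' := fun v i j h hij => (ιMulti (A ⧸ 𝔟) n).map_eq_zero_of_eq v h hij }

lemma altA_apply (n : ℕ) (m : Fin n → M) : altA 𝔟 M n m = ιMulti (A ⧸ 𝔟) n m := rfl

/-- the comparison map -/
noncomputable def Φ (n : ℕ) : ⋀[A]^n M →ₗ[A] ⋀[A ⧸ 𝔟]^n M :=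
  alternatingMapLinearEquiv (altA 𝔟 M n)

lemma Φ_ιMulti (n : ℕ) (m : Fin n → M) : Φ 𝔟 M n (ιMulti A n m) = ιMulti (A ⧸ 𝔟) n m := by
  unfold Φ
  rw [alternatingMapLinearEquiv_apply_ιMulti, altA_apply]

lemma Φ_surjective (n : ℕ) : Function.Surjective (Φ 𝔟 M n) := by
  rw [← LinearMap.range_eq_top]
  have h1 : Submodule.span A (Set.range (ιMulti (A ⧸ 𝔟) n (M := M))) ≤ LinearMap.range (Φ 𝔟 M n) := by
    rw [Submodule.span_le]
    rintro _ ⟨m, rfl⟩
    exact ⟨ιMulti A n m, Φ_ιMulti 𝔟 M n m⟩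
  have h2 : Submodule.span A (Set.range (ιMulti (A ⧸ 𝔟) n (M := M))) = ⊤ := by
    rw [← Submodule.restrictScalars_span A (A ⧸ 𝔟) Ideal.Quotient.mk_surjective, ιMulti_span]
    rfl
  rw [h2] at h1
  exact top_le_iff.mp h1

lemma smul_eq_zero_of_mem (a : A) (ha : a ∈ 𝔟) (y : M) : a • y = 0 := by
  rw [← algebraMap_smul (A ⧸ 𝔟) a y, Ideal.Quotient.algebraMap_eq,
    Ideal.Quotient.eq_zero_iff_mem.mpr ha, zero_smul]

lemma isTorsionBySet (n : ℕ) (hn : 1 ≤ n) :
    Module.IsTorsionBySet A (⋀[A]^n M) (𝔟 : Set A) := by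
  rintro x ⟨a, ha⟩
  show a • x = 0
  have hx : x ∈ Submodule.span A (Set.range (ιMulti A n (M := M))) := by
    rw [ιMulti_span]
    trivial
  induction hx using Submodule.span_induction with
  | mem y hy =>
    obtain ⟨m, rfl⟩ := hy
    have h1 : a • ιMulti A n m = ιMulti A n (Function.update m ⟨0, hn⟩ (a • m ⟨0, hn⟩)) := by
      rw [(ιMulti A n).map_update_smul, Function.update_eq_self]
    rw [h1, smul_eq_zero_of_mem 𝔟 M a ha]
    exact (ιMulti A n).map_update_zero m ⟨0, hn⟩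
  | zero => exact smul_zero a
  | add y z _ _ hy hz => rw [smul_add, hy, hz, add_zero]
  | smul c y _ hy => rw [smul_comm, hy, smul_zero]

theorem Φ_injective (n : ℕ) (hn : 1 ≤ n) : Function.Injective (Φ 𝔟 M n) := by
  letI modB : Module (A ⧸ 𝔟) (⋀[A]^n M) := (isTorsionBySet 𝔟 M n hn).module
  haveI tower : IsScalarTower A (A ⧸ 𝔟) (⋀[A]^n M) := (isTorsionBySet 𝔟 M n hn).isScalarTower
  have hsm : ∀ (a : A) (w : ⋀[A]^n M), (Ideal.Quotient.mk 𝔟 a) • w = a • w := fun a w => by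
    rw [← Ideal.Quotient.algebraMap_eq, algebraMap_smul]
  have hsm' : ∀ (a : A) (y : M), (Ideal.Quotient.mk 𝔟 a) • y = a • y := fun a y => by
    rw [← Ideal.Quotient.algebraMap_eq, algebraMap_smul]
  let alt : M [⋀^Fin n]→ₗ[A ⧸ 𝔟] ⋀[A]^n M :=
    { toFun := ιMulti A n
      map_update_add' := fun m i x y => (ιMulti A n).map_update_add m i x y
      map_update_smul' := fun m i c x => by
        obtain ⟨a, rfl⟩ := Ideal.Quotient.mk_surjective c
        rw [hsm, hsm']
        exact (ιMulti A n).map_update_smul m i a x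
      map_eq_zero_of_eq' := fun v i j h hij => (ιMulti A n).map_eq_zero_of_eq v h hij }
  let Ψ : ⋀[A ⧸ 𝔟]^n M →ₗ[A ⧸ 𝔟] ⋀[A]^n M := alternatingMapLinearEquiv alt
  have hΨ : ∀ m, Ψ (ιMulti (A ⧸ 𝔟) n m) = ιMulti A n m :=
    fun m => alternatingMapLinearEquiv_apply_ιMulti alt m
  have hcomp : (Ψ.restrictScalars A) ∘ₗ (Φ 𝔟 M n) = LinearMap.id := by
    apply linearMap_ext
    ext m
    simp only [LinearMap.compAlternatingMap_apply, LinearMap.coe_comp, Function.comp_apply,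
      LinearMap.coe_restrictScalars, LinearMap.id_coe, id_eq]
    rw [Φ_ιMulti, hΨ]
  exact Function.LeftInverse.injective (g := Ψ.restrictScalars A)
    (fun x => LinearMap.congr_fun hcomp x)

/-- **exterior powers (of positive degree) of a module over a quotient ring may be computed over
the ring** -/
noncomputable def wedgeEquiv (n : ℕ) (hn : 1 ≤ n) : ⋀[A]^n M ≃ₗ[A] ⋀[A ⧸ 𝔟]^n M :=
  LinearEquiv.ofBijective (Φ 𝔟 M n) ⟨Φ_injective 𝔟 M n hn, Φ_surjective 𝔟 M n⟩

section free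
open Set in
/-- exterior powers of a finite free module -/
theorem nonempty_wedge_free (B : Type u) [CommRing B] (r n : ℕ) :
    Nonempty (⋀[B]^n (Fin r → B) ≃ₗ[B] (Fin (r.choose n) → B)) := by
  classical
  let b := (Pi.basisFun B (Fin r)).exteriorPower n
  have hcard : Nat.card (powersetCard (Fin r) n) = r.choose n := by
    rw [powersetCard.card, Nat.card_fin]
  let e : powersetCard (Fin r) n ≃ Fin (r.choose n) := Finite.equivFinOfCardEq hcard
  exact ⟨b.repr ≪≫ₗ Finsupp.linearEquivFunOnFinite B B _ ≪≫ₗ LinearEquiv.funCongrLeft B B e.symm⟩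

end free

/-- **`⋀^n_A ((A/𝔟)^r) ≅ (A/𝔟)^{r choose n}` for `n ≥ 1`** -/
theorem nonempty_wedge_quot (r n : ℕ) (hn : 1 ≤ n) :
    Nonempty (⋀[A]^n (Fin r → A ⧸ 𝔟) ≃ₗ[A] (Fin (r.choose n) → A ⧸ 𝔟)) := by
  obtain ⟨e⟩ := nonempty_wedge_free (A ⧸ 𝔟) r n
  exact ⟨wedgeEquiv 𝔟 (Fin r → A ⧸ 𝔟) n hn ≪≫ₗ e.restrictScalars A⟩

/-- functoriality of exterior powers for linear equivalences -/
noncomputable def mapEquiv {M N : Type u} [AddCommGroup M] [Module A M] [AddCommGroup N]
    [Module A N] (n : ℕ) (e : M ≃ₗ[A] N) : ⋀[A]^n M ≃ₗ[A] ⋀[A]^n N :=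
  LinearEquiv.ofLinear (exteriorPower.map n e.toLinearMap) (exteriorPower.map n e.symm.toLinearMap)
    (by rw [← exteriorPower.map_comp, LinearEquiv.comp_symm, exteriorPower.map_id])
    (by rw [← exteriorPower.map_comp, LinearEquiv.symm_comp, exteriorPower.map_id])

end Groth.Agent.Helper3.WedgeQuot
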