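import Mathlib
import Groth.Prelude.Def_ega3
import Groth.Prelude.Def_LCI2
import Groth.Agent.Helper3.KzTor
import Groth.Agent.Helper3.KzZero
import Groth.Agent.Helper3.WedgeQuot
import Groth.Agent.Helper3.KoszulGen

set_option autoImplicit false
set_option linter.style.haveILetI false
set_option linter.unusedSectionVars false
set_option linter.unusedVariables false
set_option linter.style.haveILetI false
set_option linter.unusedSectionVars false
set_option linter.unusedVariables false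

/-!
# `Tor_i(A/(f,g), A/(f,h)) ≅ ⋀^i Tor_1` for Koszul-regular `f ++ g`, `f ++ h`, `f ++ g ++ h`
-/

namespace Groth.Agent.Helper3.KzTorWedge
open CategoryTheory Category Limits CohIII
open Groth.Agent.Lead.KoszulFunB Groth.Agent.Lead.KoszulFunC Groth.Agent.Lead.KoszulFunD
open Groth.Agent.Helper1.Koszul Groth.Agent.Helper3.KzZero

universe u

variable {A : Type u} [CommRing A]

lemma smul_id_quot (J : Ideal A) (a : A) (ha : a ∈ J) :
    a • 𝟙 (ModuleCat.of A (A ⧸ J)) = 0 := by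
  apply ModuleCat.hom_ext
  apply LinearMap.ext
  intro (x : A ⧸ J)
  obtain ⟨y, rfl⟩ := Ideal.Quotient.mk_surjective x
  show a • Ideal.Quotient.mk J y = 0
  rw [← Ideal.Quotient.mk_eq_mk, ← Submodule.Quotient.mk_smul, Ideal.Quotient.mk_eq_mk,
    Ideal.Quotient.eq_zero_iff_mem]
  exact J.mul_mem_right _ ha

/-- `H⁰` of a Koszul complex of a cyclic module is cyclic -/
theorem exists_cyclic (J : Ideal A) (g : List A) : ∃ 𝔟 : Ideal A,
    Nonempty ((koszulCx (ModuleCat.of A (A ⧸ J)) g).homology 0 ≃ₗ[A] A ⧸ 𝔟) := by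
  obtain ⟨e⟩ := nonempty_homology_zero_equiv (A ⧸ J) g
  let π : A →ₗ[A] ((A ⧸ J) ⧸ (Ideal.ofList g • (⊤ : Submodule A (A ⧸ J)))) :=
    (Submodule.mkQ _) ∘ₗ (Submodule.mkQ J)
  have hπ : Function.Surjective π :=
    (Submodule.mkQ_surjective _).comp (Submodule.mkQ_surjective J)
  exact ⟨LinearMap.ker π, ⟨e ≪≫ₗ (π.quotKerEquivOfSurjective hπ).symm⟩⟩

variable (f g h : List A)

theorem main (hfg : LCI.IsKoszulRegularSeq A (f ++ g)) (hfh : LCI.IsKoszulRegularSeq A (f ++ h))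
    (hfgh : LCI.IsKoszulRegularSeq A (f ++ g ++ h)) (i : ℕ) (hi : 1 ≤ i) :
    Nonempty (((CategoryTheory.Tor (ModuleCat.{u} A) i).obj (ModuleCat.of A (A ⧸ Ideal.span {x | x ∈ f ++ g}))).obj (ModuleCat.of A (A ⧸ Ideal.span {x | x ∈ f ++ h})) ≅
      ModuleCat.of A (⋀[A]^i (((CategoryTheory.Tor (ModuleCat.{u} A) 1).obj (ModuleCat.of A (A ⧸ Ideal.span {x | x ∈ f ++ g}))).obj (ModuleCat.of A (A ⧸ Ideal.span {x | x ∈ f ++ h}))))) := by
  set N : ModuleCat.{u} A := ModuleCat.of A (A ⧸ Ideal.ofList (f ++ h)) with hN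
  set C := koszulCx N g with hC
  -- `C` has cohomology only in degree 0
  have hperm : (f ++ g ++ h).Perm (g ++ (f ++ h)) := by
    rw [← List.append_assoc]
    exact List.perm_append_comm.append_right h
  have hgfh := Groth.Agent.Helper3.KoszulGen.isKoszulRegularSeq_of_perm hperm hfgh
  obtain ⟨e0⟩ := Groth.Agent.Helper3.KzTor.nonempty_homology_zero_iso (f ++ h)
  have hC0 : ∀ j : ℤ, j ≠ 0 → IsZero (C.homology j) :=
    concat_conv (f ++ h) g ((isKoszulRegularSeq_iff _).mp hfh) N e0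
      ((isKoszulRegularSeq_iff _).mp hgfh)
  -- elements of `f` act as zero on `C`
  have hCf : ∀ a ∈ f, a • 𝟙 C = 0 := by
    intro a ha
    apply smul_id_koszulCx a N _ g
    apply smul_id_quot
    exact Ideal.subset_span (List.mem_append_left _ ha)
  have Z := (homology_kC_of_zero C hC0 f hCf).2
  have hkC : kC C f = koszulCx N (f ++ g) := kC_koszulCx N g f
  rw [hkC] at Z
  obtain ⟨𝔟, ⟨ec⟩⟩ := exists_cyclic (Ideal.ofList (f ++ h)) g
  -- Tor in each positive degree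
  have T : ∀ n : ℕ, Nonempty (((CategoryTheory.Tor (ModuleCat.{u} A) (n + 1)).obj
      (ModuleCat.of A (A ⧸ Ideal.ofList (f ++ g)))).obj N ≃ₗ[A]
      (Fin (f.length.choose (n + 1)) → A ⧸ 𝔟)) := by
    intro n
    obtain ⟨e1⟩ := Groth.Agent.Helper3.KzTor.nonempty_tor_quot_iso (f ++ g) hfg N n
    obtain ⟨e2⟩ := Z (n + 1)
    have hidx : (-((n + 1 : ℕ) : ℤ)) = -((n : ℤ) + 1) := by push_cast; ring
    rw [hidx] at e2
    exact ⟨e1.toLinearEquiv ≪≫ₗ e2 ≪≫ₗ LinearEquiv.piCongrRight (fun _ => ec)⟩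
  obtain ⟨n, rfl⟩ : ∃ n, i = n + 1 := ⟨i - 1, by omega⟩
  obtain ⟨T0⟩ := T 0
  obtain ⟨Tn⟩ := T n
  let E1 := T0 ≪≫ₗ LinearEquiv.funCongrLeft A (A ⧸ 𝔟) (finCongr (Nat.choose_one_right f.length)).symm
  obtain ⟨W⟩ := Groth.Agent.Helper3.WedgeQuot.nonempty_wedge_quot 𝔟 f.length (n + 1) (by omega)
  exact ⟨(Tn ≪≫ₗ W.symm ≪≫ₗ
    (Groth.Agent.Helper3.WedgeQuot.mapEquiv (n + 1) E1).symm).toModuleIso⟩

end Groth.Agent.Helper3.KzTorWedge
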