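import Mathlib

set_option autoImplicit false

namespace Groth.Agent.Helper3.LanSlice

open CategoryTheory Limits Opposite

universe u

variable {C : Type u} [SmallCategory C] {C' : Type u} [SmallCategory C'] (u : C ⥤ C') [u.Faithful]
  (hu : ∀ X : C, (Over.post (X := X) u).Full ∧ (Over.post (X := X) u).Faithful)

include hu in
/-- fullness of the slice functors, unpacked -/
lemma exists_lift {X X0 X1 : C} (k : X0 ⟶ X) (g1 : X1 ⟶ X) (φ1 : u.obj X0 ⟶ u.obj X1)
    (h : φ1 ≫ u.map g1 = u.map k) : ∃ k1 : X0 ⟶ X1, u.map k1 = φ1 := by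
  have := (hu X).1
  let a : Over X := Over.mk k
  let b : Over X := Over.mk g1
  let m : (Over.post u).obj a ⟶ (Over.post u).obj b := Over.homMk φ1 h
  obtain ⟨m', hm'⟩ := (Over.post (X := X) u).map_surjective m
  refine ⟨m'.left, ?_⟩
  have := congrArg (fun t => t.left) hm'
  exact this

variable (H : Cᵒᵖ ⥤ Type u) (X0 : C)

/-- the value of the "Option" cocone -/
noncomputable def optVal (g : CostructuredArrow u.op (op (u.obj X0))) (h : H.obj g.left) :
    Option (H.obj (op X0)) := by
  classical
  exact if hφ : ∃ k : X0 ⟶ g.left.unop, u.map k = g.hom.unop then some (H.map hφ.choose.op h)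
    else none

lemma optVal_of_eq (g : CostructuredArrow u.op (op (u.obj X0))) (h : H.obj g.left)
    (k : X0 ⟶ g.left.unop) (hk : u.map k = g.hom.unop) :
    optVal u H X0 g h = some (H.map k.op h) := by
  classical
  have hφ : ∃ k : X0 ⟶ g.left.unop, u.map k = g.hom.unop := ⟨k, hk⟩
  have : hφ.choose = k := u.map_injective (hφ.choose_spec.trans hk.symm)
  unfold optVal
  rw [dif_pos hφ, this]

lemma optVal_of_not (g : CostructuredArrow u.op (op (u.obj X0))) (h : H.obj g.left)
    (hk : ¬ ∃ k : X0 ⟶ g.left.unop, u.map k = g.hom.unop) :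
    optVal u H X0 g h = none := by
  classical
  unfold optVal
  rw [dif_neg hk]

lemma exists_of_optVal_eq_some (g : CostructuredArrow u.op (op (u.obj X0))) (h : H.obj g.left)
    (x : H.obj (op X0)) (hx : optVal u H X0 g h = some x) :
    ∃ k : X0 ⟶ g.left.unop, u.map k = g.hom.unop := by
  by_contra hk
  rw [optVal_of_not u H X0 g h hk] at hx
  cases hx

include hu in
/-- the cocone with point `Option (H X0)` -/
noncomputable def optCocone :
    Cocone (CostructuredArrow.proj u.op (op (u.obj X0)) ⋙ H) where
  pt := Option (H.obj (op X0))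
  ι :=
    { app := fun g => TypeCat.ofHom (optVal u H X0 g)
      naturality := by
        intro g g' m
        ext h0
        let h : H.obj g.left := h0
        change optVal u H X0 g' (H.map m.left h) = optVal u H X0 g h
        have hw : g'.hom.unop ≫ u.map m.left.unop = g.hom.unop := by
          have := CostructuredArrow.w m
          have := congrArg Quiver.Hom.unop this
          simpa using this
        by_cases hk' : ∃ k : X0 ⟶ g'.left.unop, u.map k = g'.hom.unop
        · obtain ⟨k', hk'⟩ := hk'
          have hk : u.map (k' ≫ m.left.unop) = g.hom.unop := by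
            rw [Functor.map_comp, hk', hw]
          rw [optVal_of_eq u H X0 g' _ k' hk', optVal_of_eq u H X0 g _ _ hk]
          congr 1
          change (H.map m.left ≫ H.map k'.op) h = _
          rw [← Functor.map_comp]
          rfl
        · rw [optVal_of_not u H X0 g' _ hk']
          by_cases hk : ∃ k : X0 ⟶ g.left.unop, u.map k = g.hom.unop
          · exfalso
            obtain ⟨k, hk⟩ := hk
            apply hk'
            exact exists_lift u hu k m.left.unop g'.hom.unop (by rw [hw, hk])
          · rw [optVal_of_not u H X0 g _ hk] }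


/-- the left extension given by `lan` -/
noncomputable abbrev EE : Functor.LeftExtension u.op H :=
  Functor.LeftExtension.mk (u.op.lan.obj H) (u.op.lanUnit.app H)

/-- pointwise colimit property -/
noncomputable def isCol (Y : C'ᵒᵖ) : IsColimit ((EE u H).coconeAt Y) :=
  Functor.isPointwiseLeftKanExtensionOfIsLeftKanExtension (u.op.lan.obj H) (u.op.lanUnit.app H) Y

/-- the canonical map from `H X` to `(lan H)(Y)` attached to `φ : Y.unop ⟶ u X` -/
noncomputable abbrev inc {Y : C'ᵒᵖ} (g : CostructuredArrow u.op Y) :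
    H.obj g.left ⟶ (u.op.lan.obj H).obj Y :=
  ((EE u H).coconeAt Y).ι.app g

/-- the base point of the comma category -/
abbrev g0 : CostructuredArrow u.op (op (u.obj X0)) :=
  CostructuredArrow.mk (Y := op X0) (𝟙 (op (u.obj X0)))

lemma inc_g0 (h : H.obj (op X0)) :
    inc u H (g0 u X0) h = (u.op.lanUnit.app H).app (op X0) h := by
  change ((u.op.lanUnit.app H).app (op X0) ≫ (u.op.lan.obj H).map (𝟙 _)) h = _
  rw [CategoryTheory.Functor.map_id]
  rfl

/-- the retraction-like map -/
noncomputable def dd : (u.op.lan.obj H).obj (op (u.obj X0)) ⟶ Option (H.obj (op X0)) :=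
  (isCol u H (op (u.obj X0))).desc (optCocone u hu H X0)

lemma dd_inc (g : CostructuredArrow u.op (op (u.obj X0))) (h : H.obj g.left) :
    dd u hu H X0 (inc u H g h) = optVal u H X0 g h :=
  ConcreteCategory.congr_hom ((isCol u H (op (u.obj X0))).fac (optCocone u hu H X0) g) h

lemma dd_unit (h : H.obj (op X0)) :
    dd u hu H X0 ((u.op.lanUnit.app H).app (op X0) h) = some h := by
  rw [← inc_g0, dd_inc]
  rw [optVal_of_eq u H X0 (g0 u X0) h (𝟙 X0) (by simp)]
  simp

include hu in
lemma unit_injective : Function.Injective ((u.op.lanUnit.app H).app (op X0)) := by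
  intro a b hab
  have := congrArg (dd u hu H X0) hab
  rw [dd_unit, dd_unit] at this
  exact Option.some.inj this

lemma exists_inc (t : (u.op.lan.obj H).obj (op (u.obj X0))) :
    ∃ (g : CostructuredArrow u.op (op (u.obj X0))) (h : H.obj g.left), inc u H g h = t :=
  Types.jointly_surjective_of_isColimit (isCol u H (op (u.obj X0))) t

/-- if `g.hom` lifts, then `inc g h` is in the image of the unit -/
lemma inc_of_lift (g : CostructuredArrow u.op (op (u.obj X0))) (h : H.obj g.left)
    (k : X0 ⟶ g.left.unop) (hk : u.map k = g.hom.unop) :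
    inc u H g h = (u.op.lanUnit.app H).app (op X0) (H.map k.op h) := by
  rw [← inc_g0]
  let m : g ⟶ g0 u X0 := CostructuredArrow.homMk k.op (by
    apply Quiver.Hom.unop_inj
    simp [hk])
  have := ConcreteCategory.congr_hom (((EE u H).coconeAt (op (u.obj X0))).w m) h
  exact this.symm


lemma map_inc {K : Cᵒᵖ ⥤ Type u} (α : H ⟶ K) {Y : C'ᵒᵖ} (g : CostructuredArrow u.op Y)
    (h : H.obj g.left) :
    (u.op.lan.map α).app Y (inc u H g h) = inc u K g (α.app g.left h) := by
  have n1 := NatTrans.congr_app (u.op.lanUnit.naturality α) g.left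
  have n2 := (u.op.lan.map α).naturality g.hom
  change ((u.op.lanUnit.app H).app g.left ≫ (u.op.lan.obj H).map g.hom ≫
    (u.op.lan.map α).app Y) h = (α.app g.left ≫ (u.op.lanUnit.app K).app g.left ≫
      (u.op.lan.obj K).map g.hom) h
  rw [n2]
  have n1' : α.app g.left ≫ (u.op.lanUnit.app K).app g.left =
      (u.op.lanUnit.app H).app g.left ≫ (u.op.lan.map α).app (u.op.obj g.left) := n1
  rw [← Category.assoc (α.app g.left), n1', Category.assoc]

include hu in
theorem main :
    (u.op.lan : (Cᵒᵖ ⥤ Type u) ⥤ (C'ᵒᵖ ⥤ Type u)).Faithful ∧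
    (∀ H : Cᵒᵖ ⥤ Type u, Mono ((u.op.lanAdjunction (Type u)).unit.app H)) ∧
    ∀ (H K : Cᵒᵖ ⥤ Type u) (α : H ⟶ K),
      IsPullback ((u.op.lanAdjunction (Type u)).unit.app H) α
        (((Functor.whiskeringLeft Cᵒᵖ C'ᵒᵖ (Type u)).obj u.op).map (u.op.lan.map α))
        ((u.op.lanAdjunction (Type u)).unit.app K) := by
  have hmono : ∀ H : Cᵒᵖ ⥤ Type u, Mono ((u.op.lanAdjunction (Type u)).unit.app H) := by
    intro H
    rw [Functor.lanAdjunction_unit]
    have : ∀ X : Cᵒᵖ, Mono ((u.op.lanUnit.app H).app X) := by
      intro X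
      rw [mono_iff_injective]
      exact unit_injective u hu H X.unop
    exact NatTrans.mono_of_mono_app _
  refine ⟨?_, hmono, ?_⟩
  · exact (u.op.lanAdjunction (Type u)).faithful_L_of_mono_unit_app
  · intro H K α
    rw [Functor.lanAdjunction_unit]
    refine IsPullback.of_forall_isPullback_app fun X => ?_
    obtain ⟨X0⟩ := X
    rw [Types.isPullback_iff]
    refine ⟨?_, ?_, ?_⟩
    · exact (NatTrans.congr_app (u.op.lanUnit.naturality α) (op X0)).symm
    · rintro a b ⟨h1, -⟩
      exact unit_injective u hu H X0 h1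
    · intro t k htk
      obtain ⟨g, h, rfl⟩ := exists_inc u H X0 t
      have e1 : (u.op.lan.map α).app (op (u.obj X0)) (inc u H g h) =
          (u.op.lanUnit.app K).app (op X0) k := htk
      rw [map_inc] at e1
      have e2 := congrArg (dd u hu K X0) e1
      rw [dd_inc, dd_unit] at e2
      obtain ⟨k0, hk0⟩ := exists_of_optVal_eq_some u K X0 g _ k e2
      have e3 := inc_of_lift u H X0 g h k0 hk0
      refine ⟨H.map k0.op h, e3.symm, ?_⟩
      apply unit_injective u hu K X0
      have n1 := ConcreteCategory.congr_hom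
        (NatTrans.congr_app (u.op.lanUnit.naturality α) (op X0)) (H.map k0.op h)
      refine n1.trans ?_
      change (u.op.lan.map α).app (op (u.obj X0))
        ((u.op.lanUnit.app H).app (op X0) (H.map k0.op h)) = _
      rw [← e3]
      exact htk

end Groth.Agent.Helper3.LanSlice
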