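import Mathlib

set_option autoImplicit false

namespace Groth.Agent.Helper3.LexRefl

open CategoryTheory Limits Opposite

universe u

variable {C : Type u} [SmallCategory C]

section PB

variable {A B : Cᵒᵖ ⥤ Type u} (m : A ⟶ B)

/-- the image sieve -/
def imgSieve {X : C} (b : B.obj (op X)) : Sieve X where
  arrows Y f := ∃ a : A.obj (op Y), m.app (op Y) a = B.map f.op b
  downward_closed := by
    rintro Y Z f ⟨a, ha⟩ g
    refine ⟨A.map g.op a, ?_⟩
    have := ConcreteCategory.congr_hom (m.naturality g.op) a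
    refine this.trans ?_
    change B.map g.op (m.app (op Y) a) = _
    rw [ha, op_comp, Functor.map_comp]
    rfl

variable (hm : ∀ Y : Cᵒᵖ, Function.Injective (m.app Y))

/-- the top map of the pullback square -/
noncomputable def topMap {X : C} (b : B.obj (op X)) : (imgSieve m b).functor ⟶ A where
  app Y := TypeCat.ofHom fun f => f.2.choose
  naturality Y Z g := by
    ext f
    apply hm
    have h1 := (Sieve.downward_closed (imgSieve m b) f.2 g.unop).choose_spec
    have h2 := f.2.choose_spec
    have h3 := ConcreteCategory.congr_hom (m.naturality g) f.2.choose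
    refine Eq.trans ?_ h3.symm
    refine Eq.trans h1 ?_
    change _ = B.map g (m.app Y f.2.choose)
    rw [h2]
    change B.map (g.unop ≫ f.1).op b = B.map g (B.map f.1.op b)
    rw [op_comp, Functor.map_comp]
    rfl

lemma isPullback {X : C} (b : B.obj (op X)) :
    IsPullback (topMap m hm b) (imgSieve m b).functorInclusion m (yonedaEquiv.symm b) := by
  refine IsPullback.of_forall_isPullback_app fun Y => ?_
  rw [Types.isPullback_iff]
  refine ⟨?_, ?_, ?_⟩
  · ext f
    exact f.2.choose_spec
  · rintro f g ⟨-, h2⟩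
    exact Subtype.ext h2
  · intro a f h
    have hf : (imgSieve m b) (f : Y.unop ⟶ X) := ⟨a, h⟩
    refine ⟨⟨f, hf⟩, ?_, rfl⟩
    apply hm
    exact hf.choose_spec.trans h.symm

end PB


section Main

variable (P : ObjectProperty (Cᵒᵖ ⥤ Type u)) [P.IsClosedUnderIsomorphisms] [Reflective P.ι]
  [PreservesFiniteLimits (reflector P.ι)]

/-- the topology -/
def JJ : GrothendieckTopology C := Sheaf.finestTopology {F | P F}

lemma isSheaf_of_P {F : Cᵒᵖ ⥤ Type u} (hF : P F) : Presieve.IsSheaf (JJ P) F :=
  Sheaf.sheaf_for_finestTopology _ hF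

/-- inverted sieve inclusion iff all members of `P` are sheaves for it -/
lemma isIso_iff_forall_isSheafFor {X : C} (S : Sieve X) :
    IsIso ((reflector P.ι).map S.functorInclusion) ↔
      ∀ F : Cᵒᵖ ⥤ Type u, P F → Presieve.IsSheafFor F (S : Presieve X) := by
  rw [← ObjectProperty.isLocal_iff_isIso_map (reflectorAdjunction P.ι)]
  constructor
  · intro h F hF
    rw [Presieve.isSheafFor_iff_yonedaSheafCondition]
    intro f
    exact (h F ⟨⟨F, hF⟩, rfl⟩).existsUnique f
  · rintro h _ ⟨F, rfl⟩
    have := h F.obj F.property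
    rw [Presieve.isSheafFor_iff_yonedaSheafCondition] at this
    exact Function.bijective_iff_existsUnique _ |>.2 this

/-- stability of inverted monos under base change to a representable -/
lemma isIso_imgSieve {A B : Cᵒᵖ ⥤ Type u} (m : A ⟶ B)
    (hm : ∀ Y : Cᵒᵖ, Function.Injective (m.app Y))
    (hW : IsIso ((reflector P.ι).map m)) {X : C} (b : B.obj (op X)) :
    IsIso ((reflector P.ι).map (imgSieve m b).functorInclusion) := by
  have h := (isPullback m hm b).map (reflector P.ι)
  exact h.isIso_snd_of_isIso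

lemma pullback_eq_imgSieve {X Y : C} (S : Sieve X) (f : Y ⟶ X) :
    S.pullback f = imgSieve S.functorInclusion (f : (yoneda.obj X).obj (op Y)) := by
  ext Z g
  constructor
  · intro hg
    exact ⟨⟨g ≫ f, hg⟩, rfl⟩
  · rintro ⟨a, ha⟩
    have : a.1 = g ≫ f := ha
    change S (g ≫ f)
    rw [← this]
    exact a.2

lemma mem_iff {X : C} (S : Sieve X) :
    S ∈ JJ P X ↔ IsIso ((reflector P.ι).map S.functorInclusion) := by
  constructor
  · intro hS
    rw [isIso_iff_forall_isSheafFor]
    intro F hF
    exact isSheaf_of_P P hF _ hS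
  · intro h
    refine Sheaf.mem_finestTopology_of_forall_isSheafFor ?_
    intro F hF Y f
    have h2 : IsIso ((reflector P.ι).map (S.pullback f).functorInclusion) := by
      rw [pullback_eq_imgSieve]
      exact isIso_imgSieve P _ (fun Y a b hab => Subtype.ext hab) h _
    exact (isIso_iff_forall_isSheafFor P _).1 h2 F hF

end Main


section Conv

variable (P : ObjectProperty (Cᵒᵖ ⥤ Type u)) [P.IsClosedUnderIsomorphisms] [Reflective P.ι]
  [PreservesFiniteLimits (reflector P.ι)]

/-- the unit of the reflection -/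
noncomputable abbrev eta (F : Cᵒᵖ ⥤ Type u) : F ⟶ P.ι.obj ((reflector P.ι).obj F) :=
  (reflectorAdjunction P.ι).unit.app F

lemma isIso_map_eta (F : Cᵒᵖ ⥤ Type u) : IsIso ((reflector P.ι).map (eta P F)) := by
  have h := (reflectorAdjunction P.ι).left_triangle_components F
  have : IsIso ((reflector P.ι).map (eta P F) ≫
      (reflectorAdjunction P.ι).counit.app ((reflector P.ι).obj F)) := by
    rw [h]; infer_instance
  exact IsIso.of_isIso_comp_right _ ((reflectorAdjunction P.ι).counit.app ((reflector P.ι).obj F))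

variable {P}

lemma eta_injective {F : Cᵒᵖ ⥤ Type u} (hF : Presieve.IsSheaf (JJ P) F) (Y : Cᵒᵖ) :
    Function.Injective ((eta P F).app Y) := by
  intro x y hxy
  obtain ⟨X⟩ := Y
  -- kernel pair and diagonal
  let η := eta P F
  let Δ : F ⟶ pullback η η := pullback.diagonal η
  have hΔinj : ∀ Y : Cᵒᵖ, Function.Injective (Δ.app Y) := by
    intro Y a b hab
    have h1 := congrArg ((pullback.fst η η).app Y) hab
    have e : ∀ c, (pullback.fst η η).app Y (Δ.app Y c) = c := fun c =>
      ConcreteCategory.congr_hom (NatTrans.congr_app (pullback.diagonal_fst η) Y) c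
    rwa [e, e] at h1
  have hΔW : IsIso ((reflector P.ι).map Δ) := by
    have h1 : IsIso ((reflector P.ι).map (pullback.fst η η)) := by
      have hpb := (IsPullback.of_hasPullback η η).map (reflector P.ι)
      have := isIso_map_eta P F
      exact hpb.isIso_fst_of_isIso
    have h2 : (reflector P.ι).map Δ ≫ (reflector P.ι).map (pullback.fst η η) = 𝟙 _ := by
      rw [← Functor.map_comp, pullback.diagonal_fst, CategoryTheory.Functor.map_id]
    have : IsIso ((reflector P.ι).map Δ ≫ (reflector P.ι).map (pullback.fst η η)) := by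
      rw [h2]; infer_instance
    exact IsIso.of_isIso_comp_right _ ((reflector P.ι).map (pullback.fst η η))
  -- the element (x, y) of the kernel pair
  have hcomm : yonedaEquiv.symm x ≫ η = yonedaEquiv.symm y ≫ η := by
    rw [yonedaEquiv_symm_naturality_right, yonedaEquiv_symm_naturality_right]
    exact congrArg _ hxy
  let b : (pullback η η).obj (op X) :=
    yonedaEquiv (pullback.lift (yonedaEquiv.symm x) (yonedaEquiv.symm y) hcomm)
  have hb1 : (pullback.fst η η).app (op X) b = x := by
    have := yonedaEquiv_comp (pullback.lift (yonedaEquiv.symm x) (yonedaEquiv.symm y) hcomm)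
      (pullback.fst η η)
    rw [pullback.lift_fst, Equiv.apply_symm_apply] at this
    exact this.symm
  have hb2 : (pullback.snd η η).app (op X) b = y := by
    have := yonedaEquiv_comp (pullback.lift (yonedaEquiv.symm x) (yonedaEquiv.symm y) hcomm)
      (pullback.snd η η)
    rw [pullback.lift_snd, Equiv.apply_symm_apply] at this
    exact this.symm
  have hS : imgSieve Δ b ∈ JJ P X := (mem_iff P _).2 (isIso_imgSieve P Δ hΔinj hΔW b)
  refine (hF _ hS).isSeparatedFor.ext (fun Z f hf => ?_)
  obtain ⟨a, ha⟩ := hf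
  have e1 := congrArg ((pullback.fst η η).app (op Z)) ha
  have e2 := congrArg ((pullback.snd η η).app (op Z)) ha
  have n1 := ConcreteCategory.congr_hom ((pullback.fst η η).naturality f.op) b
  have n2 := ConcreteCategory.congr_hom ((pullback.snd η η).naturality f.op) b
  have d1 : (pullback.fst η η).app (op Z) (Δ.app (op Z) a) = a :=
    ConcreteCategory.congr_hom (NatTrans.congr_app (pullback.diagonal_fst η) (op Z)) a
  have d2 : (pullback.snd η η).app (op Z) (Δ.app (op Z) a) = a :=
    ConcreteCategory.congr_hom (NatTrans.congr_app (pullback.diagonal_snd η) (op Z)) a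
  rw [d1] at e1
  rw [d2] at e2
  have f1 : a = F.map f.op x := by
    rw [e1]
    refine n1.trans ?_
    change F.map f.op ((pullback.fst η η).app (op X) b) = _
    rw [hb1]
  have f2 : a = F.map f.op y := by
    rw [e2]
    refine n2.trans ?_
    change F.map f.op ((pullback.snd η η).app (op X) b) = _
    rw [hb2]
  exact f1.symm.trans f2


lemma eta_surjective {F : Cᵒᵖ ⥤ Type u} (hF : Presieve.IsSheaf (JJ P) F) (Y : Cᵒᵖ) :
    Function.Surjective ((eta P F).app Y) := by
  intro z
  obtain ⟨X⟩ := Y
  let η := eta P F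
  let G := P.ι.obj ((reflector P.ι).obj F)
  have hG : Presieve.IsSheaf (JJ P) G := isSheaf_of_P P ((reflector P.ι).obj F).property
  have hinj := eta_injective hF
  have hS : imgSieve η z ∈ JJ P X :=
    (mem_iff P _).2 (isIso_imgSieve P η hinj (isIso_map_eta P F) z)
  -- the family of preimages
  let fam : Presieve.FamilyOfElements F (imgSieve η z).arrows := fun Z f hf => hf.choose
  have hfam : ∀ {Z : C} (f : Z ⟶ X) (hf : (imgSieve η z) f),
      η.app (op Z) (fam f hf) = G.map f.op z := fun f hf => hf.choose_spec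
  have hcompat : fam.Compatible := by
    intro Z₁ Z₂ W g₁ g₂ f₁ f₂ h₁ h₂ hcomm
    apply hinj
    have n1 := ConcreteCategory.congr_hom (η.naturality g₁.op) (fam f₁ h₁)
    have n2 := ConcreteCategory.congr_hom (η.naturality g₂.op) (fam f₂ h₂)
    refine n1.trans (Eq.trans ?_ n2.symm)
    change G.map g₁.op (η.app (op Z₁) (fam f₁ h₁)) = G.map g₂.op (η.app (op Z₂) (fam f₂ h₂))
    rw [hfam, hfam]
    change (G.map f₁.op ≫ G.map g₁.op) z = (G.map f₂.op ≫ G.map g₂.op) z
    rw [← Functor.map_comp, ← Functor.map_comp, ← op_comp, ← op_comp, hcomm]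
  obtain ⟨x, hx, -⟩ := hF _ hS fam hcompat
  refine ⟨x, ?_⟩
  refine (hG _ hS).isSeparatedFor.ext (fun Z f hf => ?_)
  have n1 := ConcreteCategory.congr_hom (η.naturality f.op) x
  refine n1.symm.trans ?_
  change η.app (op Z) (F.map f.op x) = _
  rw [hx f hf, hfam]

variable (P) in
lemma P_of_isSheaf {F : Cᵒᵖ ⥤ Type u} (hF : Presieve.IsSheaf (JJ P) F) : P F := by
  have h1 : ∀ Y : Cᵒᵖ, IsIso ((eta P F).app Y) := fun Y =>
    (isIso_iff_bijective _).2 ⟨eta_injective hF Y, eta_surjective hF Y⟩
  have h2 : IsIso (eta P F) := NatIso.isIso_of_isIso_app _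
  exact P.prop_of_iso (asIso (eta P F)).symm ((reflector P.ι).obj F).property

variable (P) in
theorem main :
    ∃ J : GrothendieckTopology C,
      (∀ (X : C) (S : Sieve X), S ∈ J X ↔ IsIso ((reflector P.ι).map S.functorInclusion)) ∧
      ∀ F : Cᵒᵖ ⥤ Type u, P F ↔ Presieve.IsSheaf J F :=
  ⟨JJ P, fun _ S => mem_iff P S, fun _ => ⟨isSheaf_of_P P, P_of_isSheaf P⟩⟩

end Conv

end Groth.Agent.Helper3.LexRefl
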