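import Mathlib
import Groth.Agent.Helper3.Rig2
import Groth.Agent.Helper5.GammaBC

set_option autoImplicit false
set_option linter.style.haveILetI false
set_option linter.unusedSectionVars false
set_option linter.unusedVariables false
set_option linter.style.haveILetI false
set_option linter.unusedSectionVars false
set_option linter.unusedVariables false

open AlgebraicGeometry CategoryTheory CategoryTheory.Limits TopologicalSpace Opposite

universe u

namespace Groth.Agent.Helper3.Rig3

open Groth.Agent.Helper3.Rig1 Groth.Agent.Helper3.Rig2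

/-- the condition `κ(s) ≃ Γ(X_s)` is stable under base change (for qcqs morphisms) -/
theorem h0_baseChange {X S X' S' : Scheme.{u}} {a : X' ⟶ X} {p' : X' ⟶ S'} {p : X ⟶ S}
    {b : S' ⟶ S} (H : IsPullback a p' p b) [QuasiCompact p] [QuasiSeparated p]
    (h0 : ∀ s : S, Function.Bijective (pullback.snd p (S.fromSpecResidueField s)).appTop.hom)
    (s' : S') :
    Function.Bijective (pullback.snd p' (S'.fromSpecResidueField s')).appTop.hom := by
  let ρ' := S'.fromSpecResidueField s'
  let ρ := S.fromSpecResidueField (b s')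
  let r : Spec (S'.residueField s') ⟶ Spec (S.residueField (b s')) :=
    Spec.map (b.residueFieldMap s')
  have hr : r ≫ ρ = ρ' ≫ b := Scheme.Hom.SpecMap_residueFieldMap_fromSpecResidueField b s'
  have hout : IsPullback (pullback.fst p' ρ' ≫ a) (pullback.snd p' ρ') p (ρ' ≫ b) :=
    (IsPullback.of_hasPullback p' ρ').paste_horiz H
  let g' : pullback p' ρ' ⟶ pullback p ρ :=
    pullback.lift (pullback.fst p' ρ' ≫ a) (pullback.snd p' ρ' ≫ r) (by
      rw [Category.assoc, Category.assoc, hr, H.w, ← Category.assoc, pullback.condition,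
        Category.assoc])
  have h1 : g' ≫ pullback.fst p ρ = pullback.fst p' ρ' ≫ a := pullback.lift_fst _ _ _
  have h2 : g' ≫ pullback.snd p ρ = pullback.snd p' ρ' ≫ r := pullback.lift_snd _ _ _
  have hsq : IsPullback g' (pullback.snd p' ρ') (pullback.snd p ρ) r := by
    refine IsPullback.of_right ?_ h2 (IsPullback.of_hasPullback p ρ)
    rw [h1, hr]
    exact hout
  haveI : Flat r := by
    rw [HasRingHomProperty.Spec_iff (P := @Flat)]
    letI := (b.residueFieldMap s').hom.toAlgebra
    change Module.Flat _ _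
    infer_instance
  haveI : CompactSpace ↥(pullback p ρ) :=
    QuasiCompact.compactSpace_of_compactSpace (pullback.snd p ρ)
  haveI : QuasiSeparatedSpace ↥(pullback p ρ) :=
    quasiSeparatedSpace_of_quasiSeparated (pullback.snd p ρ)
  exact Groth.Agent.Helper5.GammaBC.bijective_appTop_of_bijective hsq (h0 (b s'))

/-- `κ(s) ≃ Γ(X_s)` for all `s` forces `p` to be surjective -/
theorem surjective_of_h0 {X S : Scheme.{u}} (p : X ⟶ S)
    (h0 : ∀ s : S, Function.Bijective (pullback.snd p (S.fromSpecResidueField s)).appTop.hom) :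
    Function.Surjective p := by
  intro s
  by_contra hne
  have hempty : IsEmpty ↥(pullback p (S.fromSpecResidueField s)) := by
    constructor
    intro z
    apply hne
    refine ⟨pullback.fst p _ z, ?_⟩
    rw [← Scheme.Hom.comp_apply, pullback.condition, Scheme.Hom.comp_apply]
    exact Scheme.fromSpecResidueField_apply s _
  have hsub : Subsingleton Γ(pullback p (S.fromSpecResidueField s), ⊤) := by
    haveI := hempty
    infer_instance
  have hinj := (h0 s).1
  have h01 : (0 : Γ(Spec (S.residueField s), ⊤)) = 1 := hinj (Subsingleton.elim _ _)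
  haveI : Nontrivial Γ(Spec (S.residueField s), ⊤) :=
    ((Scheme.ΓSpecIso (S.residueField s)).commRingCatIsoToRingEquiv).nontrivial
  exact zero_ne_one h01

section Proper

variable {X S Y S' : Scheme.{u}} [IsLocallyNoetherian S] (p : X ⟶ S) [IsProper p] [Flat p]
  (h0 : ∀ s : S, Function.Bijective (pullback.snd p (S.fromSpecResidueField s)).appTop.hom)
  (f : X ⟶ Y) (q : Y ⟶ S') [IsSeparated q] (b : S ⟶ S') (hf : f ≫ q = p ≫ b)

lemma C_snd_eq : C (pullback.snd p p) (pullback.fst p p ≫ f) = p.base ⁻¹' (C p f) := by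
  ext x
  constructor
  · intro hx x₁ x₂ h₁ h₂
    obtain ⟨z, hz1, hz2⟩ := Scheme.Pullback.exists_preimage_pullback (f := p) (g := p) x₁ x
      (by rw [h₁])
    obtain ⟨z', hz1', hz2'⟩ := Scheme.Pullback.exists_preimage_pullback (f := p) (g := p) x₂ x
      (by rw [h₂])
    have := hx z z' hz2 hz2'
    rw [Scheme.Hom.comp_apply, Scheme.Hom.comp_apply, hz1, hz1'] at this
    exact this
  · intro hx z z' hz hz'
    rw [Scheme.Hom.comp_apply, Scheme.Hom.comp_apply]
    apply hx
    · rw [← Scheme.Hom.comp_apply, pullback.condition, Scheme.Hom.comp_apply, hz]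
    · rw [← Scheme.Hom.comp_apply, pullback.condition, Scheme.Hom.comp_apply, hz']

include h0 hf in
theorem isClopen_preimage_C : IsClopen (p.base ⁻¹' (C p f)) := by
  haveI : IsLocallyNoetherian X := LocallyOfFiniteType.isLocallyNoetherian p
  haveI : IsLocallyNoetherian (pullback p p) :=
    LocallyOfFiniteType.isLocallyNoetherian (pullback.snd p p)
  let Δ : X ⟶ pullback p p := pullback.lift (𝟙 X) (𝟙 X) rfl
  have hΔ : Δ ≫ pullback.snd p p = 𝟙 X := pullback.lift_snd _ _ _
  have hΔ1 : Δ ≫ pullback.fst p p = 𝟙 X := pullback.lift_fst _ _ _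
  have hq' : (pullback.fst p p ≫ f) ≫ q =
      pullback.snd p p ≫ Δ ≫ (pullback.fst p p ≫ f) ≫ q := by
    simp only [Category.assoc, hf]
    rw [← Category.assoc Δ, hΔ1, Category.id_comp, ← Category.assoc, pullback.condition,
      Category.assoc]
  have hΓ : ∀ (x : X) (n : ℕ),
      Function.Bijective (pullback.snd (pullback.snd p p) (σ x n)).appTop.hom := fun x n =>
    hΓ_of_h0 (pullback.snd p p) x (h0_baseChange (IsPullback.of_hasPullback p p) h0 x) n
  rw [← C_snd_eq]
  exact ⟨isClosed_C (pullback.snd p p) Δ hΔ (pullback.fst p p ≫ f) q hq' hΓ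
      (pullback.snd p p).isClosedMap,
    isOpen_C (pullback.snd p p) Δ hΔ (pullback.fst p p ≫ f) q hq' hΓ
      (pullback.snd p p).isClosedMap⟩

include h0 hf in
theorem isClopen_C : IsClopen (C p f) := by
  have hcl := isClopen_preimage_C p h0 f q b hf
  have hsurj := surjective_of_h0 p h0
  constructor
  · have : C p f = p.base '' (p.base ⁻¹' (C p f)) := (Set.image_preimage_eq _ hsurj).symm
    rw [this]
    exact p.isClosedMap _ hcl.1
  · rw [← isClosed_compl_iff]
    have : (C p f)ᶜ = p.base '' (p.base ⁻¹' (C p f))ᶜ := by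
      rw [← Set.preimage_compl, Set.image_preimage_eq _ hsurj]
    rw [this]
    exact p.isClosedMap _ hcl.2.isClosed_compl

include h0 hf in
theorem rigid_proper [PreconnectedSpace S] (s₀ : S)
    (h₀ : ∀ x x' : X, p x = s₀ → p x' = s₀ → f x = f x') : ∃ t : S ⟶ Y, f = p ≫ t := by
  have hCuniv : C p f = Set.univ := (isClopen_C p h0 f q b hf).eq_univ ⟨s₀, h₀⟩
  haveI : IsLocallyNoetherian X := LocallyOfFiniteType.isLocallyNoetherian p
  haveI : IsLocallyNoetherian (pullback p p) :=
    LocallyOfFiniteType.isLocallyNoetherian (pullback.snd p p)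
  let Δ : X ⟶ pullback p p := pullback.lift (𝟙 X) (𝟙 X) rfl
  have hΔ : Δ ≫ pullback.snd p p = 𝟙 X := pullback.lift_snd _ _ _
  have hΔ1 : Δ ≫ pullback.fst p p = 𝟙 X := pullback.lift_fst _ _ _
  have hq' : (pullback.fst p p ≫ f) ≫ q =
      pullback.snd p p ≫ Δ ≫ (pullback.fst p p ≫ f) ≫ q := by
    simp only [Category.assoc, hf]
    rw [← Category.assoc Δ, hΔ1, Category.id_comp, ← Category.assoc, pullback.condition,
      Category.assoc]
  have hΓ : ∀ (x : X) (n : ℕ),
      Function.Bijective (pullback.snd (pullback.snd p p) (σ x n)).appTop.hom := fun x n =>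
    hΓ_of_h0 (pullback.snd p p) x (h0_baseChange (IsPullback.of_hasPullback p p) h0 x) n
  have hC2 : C (pullback.snd p p) (pullback.fst p p ≫ f) = Set.univ := by
    rw [C_snd_eq, hCuniv, Set.preimage_univ]
  have key := eq_of_C_eq_univ (pullback.snd p p) Δ hΔ (pullback.fst p p ≫ f) q hq' hΓ hC2
  have key' : pullback.fst p p ≫ f = pullback.snd p p ≫ f := by
    rw [key, ← Category.assoc Δ, hΔ1, Category.id_comp]
  haveI : Surjective p := ⟨surjective_of_h0 p h0⟩
  haveI : EffectiveEpi p := inferInstance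
  have hdesc : ∀ {Z : Scheme.{u}} (g₁ g₂ : Z ⟶ X), g₁ ≫ p = g₂ ≫ p → g₁ ≫ f = g₂ ≫ f := by
    intro Z g₁ g₂ hg
    have e1 : pullback.lift g₁ g₂ hg ≫ pullback.fst p p = g₁ := pullback.lift_fst _ _ _
    have e2 : pullback.lift g₁ g₂ hg ≫ pullback.snd p p = g₂ := pullback.lift_snd _ _ _
    calc g₁ ≫ f = (pullback.lift g₁ g₂ hg ≫ pullback.fst p p) ≫ f := by rw [e1]
      _ = (pullback.lift g₁ g₂ hg ≫ pullback.snd p p) ≫ f := by
          rw [Category.assoc, Category.assoc, key']
      _ = g₂ ≫ f := by rw [e2]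
  exact ⟨EffectiveEpi.desc p f hdesc, (EffectiveEpi.fac p f hdesc).symm⟩

end Proper

end Groth.Agent.Helper3.Rig3
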