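import Mathlib
import Groth.Prelude
import Groth.Agent.Helper3.RatAbF
import Groth.Agent.Helper5.NeutJ

set_option autoImplicit false
set_option linter.style.haveILetI false
set_option linter.unusedSectionVars false
set_option linter.unusedVariables false
set_option linter.deprecated false
set_option linter.style.haveILetI false
set_option linter.unusedSectionVars false
set_option linter.unusedVariables false

/-!
# Generic lemmas for morphisms from affine spaces to "large groups" (S18991)
-/

namespace Groth.Agent.Helper3.LgA

open CategoryTheory Limits AlgebraicGeometry TopologicalSpace Topology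
open MonoidalCategory CartesianMonoidalCategory MonObj

universe u

/-- two morphisms from a reduced scheme to a separated scheme which agree on a jointly surjective
family are equal -/
theorem ext_of_jointly_surjective {W Y B : Scheme.{u}} [IsReduced W] (p : Y ⟶ B) [IsSeparated p]
    (a b : W ⟶ Y) (hab : a ≫ p = b ≫ p)
    (hpts : ∀ w : W, ∃ (V : Scheme.{u}) (j : V ⟶ W), w ∈ Set.range j.base ∧ j ≫ a = j ≫ b) :
    a = b := by
  choose V j hj1 hj2 using hpts
  let J : (∐ V) ⟶ W := Sigma.desc j
  haveI : Surjective J := ⟨fun w => by
    obtain ⟨v, hv⟩ := hj1 w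
    refine ⟨(Sigma.ι V w).base v, ?_⟩
    rw [← Scheme.Hom.comp_apply, Sigma.ι_desc]
    exact hv⟩
  haveI : IsDominant J := inferInstance
  refine ext_of_isDominant_of_isSeparated p hab J ?_
  apply Sigma.hom_ext
  intro w
  rw [← Category.assoc, ← Category.assoc, Sigma.ι_desc, hj2]

variable (K : Type u) [Field K]

open Groth.Agent.Helper3.RatAbF in
/-- every morphism from an affine space over a field `L` to a proper group scheme over any base
factors through `Spec L` -/
theorem coreC_bc {S : Scheme.{u}} (G : Over S) [GrpObj G] [IsProper G.hom]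
    (s : Spec (CommRingCat.of K) ⟶ S) (n : ℕ)
    (g : Spec (CommRingCat.of (MvPolynomial (Fin n) K)) ⟶ G.left)
    (hg : g ≫ G.hom = sA K n ≫ s) :
    ∃ a : Spec (CommRingCat.of K) ⟶ G.left, a ≫ G.hom = s ∧ g = sA K n ≫ a := by
  let GLo : Over (Spec (CommRingCat.of K)) := (Over.pullback s).obj G
  letI : GrpObj GLo := Functor.grpObjObj
  haveI : IsProper GLo.hom := by
    show IsProper (pullback.snd G.hom s)
    infer_instance
  let gL : Spec (CommRingCat.of (MvPolynomial (Fin n) K)) ⟶ GLo.left :=
    pullback.lift g (sA K n) hg
  have hgL : gL ≫ GLo.hom = sA K n := pullback.lift_snd _ _ _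
  let U : (Spec (CommRingCat.of (MvPolynomial (Fin n) K))).Opens := ⊤
  have hU : (U : Set ↥(Spec (CommRingCat.of (MvPolynomial (Fin n) K)))).Nonempty := by
    haveI : Nonempty ↥(Spec (CommRingCat.of (MvPolynomial (Fin n) K))) := inferInstance
    exact ⟨Classical.arbitrary _, trivial⟩
  obtain ⟨a, ha1, ha2⟩ := coreC K GLo n U hU (U.ι ≫ gL) (by rw [Category.assoc, hgL])
  haveI : IsIso U.ι := by
    show IsIso (Scheme.topIso (Spec (CommRingCat.of (MvPolynomial (Fin n) K)))).hom
    infer_instance
  have ha3 : gL = sA K n ≫ a := (cancel_epi U.ι).mp ha2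
  refine ⟨a ≫ pullback.fst G.hom s, ?_, ?_⟩
  · rw [Category.assoc, pullback.condition, ← Category.assoc]
    have : a ≫ pullback.snd G.hom s = 𝟙 _ := ha1
    rw [this, Category.id_comp]
  · have h1 : gL ≫ pullback.fst G.hom s = g := pullback.lift_fst _ _ _
    rw [← h1, ha3, Category.assoc]

/-- a morphism from a connected scheme to a group scheme over a field, hitting the unit point,
lands in every open subgroup scheme -/
theorem range_subset_of_connected (k : Type u) [Field k]
    (G H : Over (Spec (CommRingCat.of k))) [GrpObj G] [GrpObj H] (i : H ⟶ G) [IsMonHom i]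
    [IsOpenImmersion i.left] {W : Scheme.{u}} [ConnectedSpace W] (g : W ⟶ G.left) (w₀ : W)
    (hw₀ : g.base w₀ = η[G].left.base (IsLocalRing.closedPoint k)) :
    Set.range g.base ⊆ Set.range i.left.base := by
  let pt : Spec (CommRingCat.of k) := IsLocalRing.closedPoint k
  have hpt : ∀ t : Spec (CommRingCat.of k), t = pt := fun t =>
    Subsingleton.elim (α := PrimeSpectrum k) _ _
  have hconn : _root_.IsPreconnected (Set.range g.base) := by
    rw [← Set.image_univ]
    exact isPreconnected_univ.image _ g.continuous.continuousOn
  have hsub : Set.range g.base ⊆ connectedComponentIn (G.hom.base ⁻¹' {pt})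
      (η[G].left.base pt) := by
    exact hconn.subset_connectedComponentIn ⟨w₀, hw₀⟩ (fun x _ => hpt _)
  intro x hx
  apply Groth.Agent.Helper5.Neut.neutralSet_subset_range G H i
  exact (Groth.Agent.Helper5.Neut.mem_neutralSet_iff G (hpt (G.hom.base x))).2 (hsub hx)

end Groth.Agent.Helper3.LgA
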