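import Mathlib
import Groth.Prelude
import Groth.Agent.Helper3.LgA
import Groth.Agent.Helper8.QSecB

set_option autoImplicit false
set_option linter.style.haveILetI false
set_option linter.unusedSectionVars false
set_option linter.unusedVariables false
set_option linter.deprecated false
set_option linter.style.haveILetI false
set_option linter.unusedSectionVars false
set_option linter.unusedVariables false

/-!
# Morphisms from an affine space to a torus over a field are constant (S18991)
-/

namespace Groth.Agent.Helper3.LgB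

open CategoryTheory Limits AlgebraicGeometry TopologicalSpace Topology TensorProduct
open MonoidalCategory CartesianMonoidalCategory MonObj
open Groth.Agent.Helper3.RatAbF Groth.Agent.Helper3.LgA

universe u

/-- the zero section of affine space -/
noncomputable abbrev zeroSec (L : Type u) [CommRing L] (n : ℕ) :
    Spec (CommRingCat.of L) ⟶ Spec (CommRingCat.of (MvPolynomial (Fin n) L)) :=
  Spec.map (CommRingCat.ofHom (MvPolynomial.constantCoeff : MvPolynomial (Fin n) L →+* L))

/-- a compositum of two field extensions -/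
theorem exists_compositum (k L κ : Type u) [Field k] [Field L] [Field κ] (θ : k →+* L)
    (θ' : k →+* κ) :
    ∃ (Ω : Type u) (_ : Field Ω) (ιL : L →+* Ω) (ικ : κ →+* Ω), ιL.comp θ = ικ.comp θ' := by
  letI := θ.toAlgebra
  letI := θ'.toAlgebra
  haveI : Nontrivial (L ⊗[k] κ) := by
    have hinj : Function.Injective (Algebra.TensorProduct.includeLeft : L →ₐ[k] L ⊗[k] κ) :=
      Algebra.TensorProduct.includeLeft_injective (algebraMap k κ).injective
    exact hinj.nontrivial
  obtain ⟨m, hm⟩ := Ideal.exists_maximal (L ⊗[k] κ)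
  letI : Field ((L ⊗[k] κ) ⧸ m) := Ideal.Quotient.field m
  refine ⟨(L ⊗[k] κ) ⧸ m, inferInstance,
    (Ideal.Quotient.mk m).comp (Algebra.TensorProduct.includeLeft : L →ₐ[k] L ⊗[k] κ).toRingHom,
    (Ideal.Quotient.mk m).comp (Algebra.TensorProduct.includeRight : κ →ₐ[k] L ⊗[k] κ).toRingHom,
    ?_⟩
  ext x
  show Ideal.Quotient.mk m ((Algebra.TensorProduct.includeLeft : L →ₐ[k] L ⊗[k] κ) (algebraMap k L x))
    = Ideal.Quotient.mk m ((Algebra.TensorProduct.includeRight : κ →ₐ[k] L ⊗[k] κ) (algebraMap k κ x))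
  rw [AlgHom.commutes, AlgHom.commutes]

/-- units of a polynomial ring over a field are determined by their constant coefficient -/
theorem eq_C_constantCoeff_of_isUnit {Ω : Type u} [Field Ω] {n : ℕ} (P : MvPolynomial (Fin n) Ω)
    (hP : IsUnit P) : P = MvPolynomial.C (MvPolynomial.constantCoeff P) := by
  obtain ⟨r, -, rfl⟩ := MvPolynomial.isUnit_iff_eq_C_of_isReduced.mp hP
  rw [MvPolynomial.constantCoeff_C]

/-- two ring homomorphisms out of a group algebra over `ULift ℤ` into a polynomial ring over a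
field which agree after evaluation at zero are equal -/
theorem ringHom_eq_of_constantCoeff {Ω : Type u} [Field Ω] {n : ℕ} (M : Type) [AddCommGroup M]
    (α β : MonoidAlgebra (ULift.{u} ℤ) (Multiplicative M) →+* MvPolynomial (Fin n) Ω)
    (h : (MvPolynomial.constantCoeff : MvPolynomial (Fin n) Ω →+* Ω).comp α =
      (MvPolynomial.constantCoeff : MvPolynomial (Fin n) Ω →+* Ω).comp β) : α = β := by
  apply MonoidAlgebra.ringHom_ext
  · intro b
    have h1 : (α.comp MonoidAlgebra.singleOneRingHom).comp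
        (ULift.ringEquiv.symm : ℤ ≃+* ULift.{u} ℤ).toRingHom =
        (β.comp MonoidAlgebra.singleOneRingHom).comp
        (ULift.ringEquiv.symm : ℤ ≃+* ULift.{u} ℤ).toRingHom := Subsingleton.elim _ _
    have h2 := RingHom.congr_fun h1 (ULift.ringEquiv b)
    have h3 : (ULift.ringEquiv.symm : ℤ ≃+* ULift.{u} ℤ) (ULift.ringEquiv b) = b :=
      RingEquiv.symm_apply_apply _ _
    rw [← h3]
    exact h2
  · intro a
    have hu : IsUnit (MonoidAlgebra.single a (1 : ULift.{u} ℤ) :
        MonoidAlgebra (ULift.{u} ℤ) (Multiplicative M)) :=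
      (Group.isUnit a).map (MonoidAlgebra.of (ULift.{u} ℤ) (Multiplicative M))
    rw [eq_C_constantCoeff_of_isUnit _ (hu.map α), eq_C_constantCoeff_of_isUnit _ (hu.map β)]
    congr 1
    exact RingHom.congr_fun h _


set_option maxHeartbeats 16000000 in
/-- two morphisms from an affine space over a field to a `k`-scheme which becomes a
diagonalizable group after a base change, agreeing at the origin, are equal -/
theorem torus_core (k : Type u) [Field k] (T : Over (Spec (CommRingCat.of k))) [IsSeparated T.hom]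
    (M : Type) [AddCommGroup M] {U : Scheme.{u}} [Nonempty U] (h : U ⟶ Spec (CommRingCat.of k))
    (Ψ : Red.bc h T ≅ Red.DS U M)
    (L : Type u) [Field L] (θ : CommRingCat.of k ⟶ CommRingCat.of L) (n : ℕ)
    (a b : Spec (CommRingCat.of (MvPolynomial (Fin n) L)) ⟶ T.left)
    (ha : a ≫ T.hom = sA L n ≫ Spec.map θ) (hb : b ≫ T.hom = sA L n ≫ Spec.map θ)
    (h0 : zeroSec L n ≫ a = zeroSec L n ≫ b) : a = b := by
  classical
  let u₀ : U := Classical.arbitrary U
  let κ : Type u := U.residueField u₀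
  let c' : Spec (CommRingCat.of κ) ⟶ U := U.fromSpecResidueField u₀
  let θ' : CommRingCat.of k ⟶ CommRingCat.of κ := Spec.preimage (c' ≫ h)
  have hθ' : Spec.map θ' = c' ≫ h := Spec.map_preimage _
  obtain ⟨Ω, hΩ, ιL, ικ, hcomp⟩ := exists_compositum k L κ θ.hom θ'.hom
  letI : Field Ω := hΩ
  let V : Scheme.{u} := Spec (CommRingCat.of (MvPolynomial (Fin n) Ω))
  let pV : V ⟶ Spec (CommRingCat.of (MvPolynomial (Fin n) L)) :=
    Spec.map (CommRingCat.ofHom (MvPolynomial.map (σ := Fin n) ιL))
  have hsq := Groth.Agent.Helper8.QSecB.isPullback_mvPoly L n (CommRingCat.ofHom ιL)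
  haveI : Surjective (Spec.map (CommRingCat.ofHom ιL)) := ⟨fun x => by
    refine ⟨IsLocalRing.closedPoint Ω, ?_⟩
    exact Subsingleton.elim (α := PrimeSpectrum L) _ _⟩
  haveI : Surjective pV := MorphismProperty.of_isPullback hsq.flip inferInstance
  -- the structure map to `U`
  let σ : V ⟶ U := sA Ω n ≫ Spec.map (CommRingCat.ofHom ικ) ≫ c'
  have hring : θ ≫ CommRingCat.ofHom (MvPolynomial.C : L →+* MvPolynomial (Fin n) L) ≫
      CommRingCat.ofHom (MvPolynomial.map (σ := Fin n) ιL) =
      θ' ≫ CommRingCat.ofHom ικ ≫ CommRingCat.ofHom (MvPolynomial.C : Ω →+* MvPolynomial (Fin n) Ω) := by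
    apply CommRingCat.hom_ext
    apply RingHom.ext
    intro x
    show MvPolynomial.map ιL (MvPolynomial.C (θ.hom x)) = MvPolynomial.C (ικ (θ'.hom x))
    rw [MvPolynomial.map_C]
    congr 1
    exact RingHom.congr_fun hcomp x
  have hσ : pV ≫ sA L n ≫ Spec.map θ = σ ≫ h := by
    show Spec.map _ ≫ Spec.map _ ≫ Spec.map θ = (Spec.map _ ≫ Spec.map _ ≫ c') ≫ h
    rw [Category.assoc, Category.assoc, ← hθ', ← Spec.map_comp, ← Spec.map_comp, ← Spec.map_comp,
      ← Spec.map_comp, Category.assoc, Category.assoc, hring]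
  have haV : (pV ≫ a) ≫ T.hom = σ ≫ h := by rw [Category.assoc, ha, hσ]
  have hbV : (pV ≫ b) ≫ T.hom = σ ≫ h := by rw [Category.assoc, hb, hσ]
  let aT : V ⟶ (Red.bc h T).left := pullback.lift (pV ≫ a) σ haV
  let bT : V ⟶ (Red.bc h T).left := pullback.lift (pV ≫ b) σ hbV
  have haT1 : aT ≫ pullback.fst T.hom h = pV ≫ a := pullback.lift_fst _ _ _
  have hbT1 : bT ≫ pullback.fst T.hom h = pV ≫ b := pullback.lift_fst _ _ _
  have haT2 : aT ≫ pullback.snd T.hom h = σ := pullback.lift_snd _ _ _
  have hbT2 : bT ≫ pullback.snd T.hom h = σ := pullback.lift_snd _ _ _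
  -- the zero section of `V`
  let zV : Spec (CommRingCat.of Ω) ⟶ V := zeroSec Ω n
  have hz : zV ≫ pV = Spec.map (CommRingCat.ofHom ιL) ≫ zeroSec L n := by
    show Spec.map _ ≫ Spec.map _ = Spec.map _ ≫ Spec.map _
    rw [← Spec.map_comp, ← Spec.map_comp]
    congr 1
  have hzab : zV ≫ aT = zV ≫ bT := by
    apply pullback.hom_ext
    · rw [Category.assoc, Category.assoc, haT1, hbT1, ← Category.assoc, ← Category.assoc, hz,
        Category.assoc, Category.assoc, h0]
    · rw [Category.assoc, Category.assoc, haT2, hbT2]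
  -- transport through `Ψ`
  let Ψl : (Red.bc h T).left ≅ (Red.DS U M).left := (Over.forget U).mapIso Ψ
  have hΨw : Ψl.hom ≫ (Red.DS U M).hom = (Red.bc h T).hom := Over.w Ψ.hom
  let d : (Red.DS U M).left ⟶ Spec (CommRingCat.of (MonoidAlgebra (ULift.{u} ℤ) (Multiplicative M))) :=
    pullback.fst _ _
  let α' : V ⟶ Spec (CommRingCat.of (MonoidAlgebra (ULift.{u} ℤ) (Multiplicative M))) :=
    aT ≫ Ψl.hom ≫ d
  let β' : V ⟶ Spec (CommRingCat.of (MonoidAlgebra (ULift.{u} ℤ) (Multiplicative M))) :=
    bT ≫ Ψl.hom ≫ d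
  have hαβ0 : zV ≫ α' = zV ≫ β' := by
    show zV ≫ aT ≫ _ = zV ≫ bT ≫ _
    rw [← Category.assoc, ← Category.assoc, hzab, Category.assoc, Category.assoc]
  let α := Spec.preimage α'
  let β := Spec.preimage β'
  have hα : Spec.map α = α' := Spec.map_preimage _
  have hβ : Spec.map β = β' := Spec.map_preimage _
  have hcc : α ≫ CommRingCat.ofHom (MvPolynomial.constantCoeff : MvPolynomial (Fin n) Ω →+* Ω) =
      β ≫ CommRingCat.ofHom (MvPolynomial.constantCoeff : MvPolynomial (Fin n) Ω →+* Ω) := by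
    apply Spec.map_injective
    rw [Spec.map_comp, Spec.map_comp, hα, hβ]
    exact hαβ0
  have hαβ : α = β := by
    apply CommRingCat.hom_ext
    apply ringHom_eq_of_constantCoeff M
    have := congrArg CommRingCat.Hom.hom hcc
    exact this
  have hαβ' : α' = β' := by rw [← hα, ← hβ, hαβ]
  have hab' : aT ≫ Ψl.hom = bT ≫ Ψl.hom := by
    apply pullback.hom_ext
    · exact hαβ'
    · have h1 : Ψl.hom ≫ pullback.snd _ _ = pullback.snd T.hom h := hΨw
      rw [Category.assoc, Category.assoc, h1, haT2, hbT2]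
  have hab'' : aT = bT := (cancel_mono Ψl.hom).mp hab'
  have habV : pV ≫ a = pV ≫ b := by rw [← haT1, ← hbT1, hab'']
  refine ext_of_jointly_surjective T.hom a b (ha.trans hb.symm) (fun w => ?_)
  obtain ⟨v, hv⟩ := (inferInstance : Surjective pV).surj w
  exact ⟨V, pV, ⟨v, hv⟩, habV⟩

end Groth.Agent.Helper3.LgB
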