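import Mathlib
import Groth.Prelude
import Groth.Agent.Helper3.LgB

set_option autoImplicit false
set_option linter.style.haveILetI false
set_option linter.unusedSectionVars false
set_option linter.unusedVariables false
set_option linter.deprecated false
set_option linter.style.haveILetI false
set_option linter.unusedSectionVars false
set_option linter.unusedVariables false

/-!
# Morphisms from an affine space over a field extension to a large group are constant (S18991)
-/

namespace Groth.Agent.Helper3.LgC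

open CategoryTheory Limits AlgebraicGeometry TopologicalSpace Topology TensorProduct
open MonoidalCategory CartesianMonoidalCategory MonObj
open Groth.Agent.Helper3.RatAbF Groth.Agent.Helper3.LgA Groth.Agent.Helper3.LgB

universe u

variable (k : Type u) [Field k] (L : Type u) [Field L] (θ : CommRingCat.of k ⟶ CommRingCat.of L)
  (n : ℕ)

/-- `Spec L` over `Spec k` -/
noncomputable abbrev SL : Over (Spec (CommRingCat.of k)) := Over.mk (Spec.map θ)

/-- affine space over `L` as a `k`-scheme -/
noncomputable abbrev WL : Over (Spec (CommRingCat.of k)) := Over.mk (sA L n ≫ Spec.map θ)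

theorem zeroSec_sA : zeroSec L n ≫ sA L n = 𝟙 _ := by
  show Spec.map _ ≫ Spec.map _ = 𝟙 _
  rw [← Spec.map_comp]
  have : CommRingCat.ofHom (MvPolynomial.C : L →+* MvPolynomial (Fin n) L) ≫
      CommRingCat.ofHom (MvPolynomial.constantCoeff : MvPolynomial (Fin n) L →+* L) = 𝟙 _ := by
    apply CommRingCat.hom_ext
    apply RingHom.ext
    intro x
    exact MvPolynomial.constantCoeff_C _ x
  rw [this, Spec.map_id]

/-- the projection -/
noncomputable def pr : WL k L θ n ⟶ SL k L θ := Over.homMk (sA L n) rfl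

/-- the zero section -/
noncomputable def zero : SL k L θ ⟶ WL k L θ n :=
  Over.homMk (zeroSec L n) (by
    show zeroSec L n ≫ sA L n ≫ Spec.map θ = Spec.map θ
    rw [← Category.assoc, zeroSec_sA, Category.id_comp])

theorem zero_pr : zero k L θ n ≫ pr k L θ n = 𝟙 _ := by
  apply Over.OverMorphism.ext
  exact zeroSec_sA L n

variable {k L θ n}
variable (G G0 T A : Over (Spec (CommRingCat.of k))) [GrpObj G] [IsSeparated G.hom]
  [GrpObj G0] (e : G0 ⟶ G) [IsMonHom e] [IsOpenImmersion e.left]
  [GrpObj T] (i : T ⟶ G0) [IsMonHom i] [IsClosedImmersion i.left] (hT : Red.IsTorus T)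
  [GrpObj A] [IsProper A.hom] (q : G0 ⟶ A) [IsMonHom q] (hker : AlgGrp.IsKernel i q)

include e hT hker in
set_option maxHeartbeats 16000000 in
/-- a morphism from an affine space over `L` to a large group which sends the origin to the unit
is trivial -/
theorem fibre_trivial (g : WL k L θ n ⟶ G) (hg : zero k L θ n ≫ g = toUnit (SL k L θ) ≫ η[G]) :
    g = toUnit (WL k L θ n) ≫ η[G] := by
  classical
  let ptL : Spec (CommRingCat.of L) := IsLocalRing.closedPoint L
  let ptk : Spec (CommRingCat.of k) := IsLocalRing.closedPoint k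
  -- (a) the image lies in `G0`
  haveI : IrreducibleSpace ↥(Spec (CommRingCat.of (MvPolynomial (Fin n) L))) :=
    inferInstanceAs (IrreducibleSpace (PrimeSpectrum (MvPolynomial (Fin n) L)))
  haveI : ConnectedSpace ↥(Spec (CommRingCat.of (MvPolynomial (Fin n) L))) := inferInstance
  have hw₀ : g.left.base ((zeroSec L n).base ptL) = η[G].left.base ptk := by
    have h1 := congrArg (fun f => f.left) hg
    have h2 : zeroSec L n ≫ g.left = Spec.map θ ≫ η[G].left := h1
    rw [← Scheme.Hom.comp_apply, h2, Scheme.Hom.comp_apply]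
    congr 1
    exact Subsingleton.elim (α := PrimeSpectrum k) _ _
  have hrange : Set.range g.left.base ⊆ Set.range e.left.base :=
    range_subset_of_connected k G G0 e (W := Spec (CommRingCat.of (MvPolynomial (Fin n) L)))
      g.left _ hw₀
  -- (b) the lift to `G0`
  let g0l : Spec (CommRingCat.of (MvPolynomial (Fin n) L)) ⟶ G0.left :=
    IsOpenImmersion.lift e.left g.left hrange
  have hg0l : g0l ≫ e.left = g.left := IsOpenImmersion.lift_fac _ _ _
  let g0 : WL k L θ n ⟶ G0 := Over.homMk g0l (by
    show g0l ≫ G0.hom = sA L n ≫ Spec.map θ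
    rw [← Over.w e, ← Category.assoc, hg0l]
    exact Over.w g)
  have hg0 : g0 ≫ e = g := by
    apply Over.OverMorphism.ext
    exact hg0l
  have hmono_e : ∀ {Z : Over (Spec (CommRingCat.of k))} (a b : Z ⟶ G0), a ≫ e = b ≫ e → a = b := by
    intro Z a b hab
    apply Over.OverMorphism.ext
    have h1 : a.left ≫ e.left = b.left ≫ e.left := congrArg (fun f => f.left) hab
    exact (cancel_mono e.left).mp h1
  have hz0 : zero k L θ n ≫ g0 = toUnit (SL k L θ) ≫ η[G0] := by
    apply hmono_e
    rw [Category.assoc, hg0, hg, Category.assoc, IsMonHom.one_hom]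
  -- (c) the abelian variety part
  have hq : g0 ≫ q = toUnit (WL k L θ n) ≫ η[A] := by
    obtain ⟨a, ha1, ha2⟩ := coreC_bc L A (Spec.map θ) n (g0 ≫ q).left (Over.w (g0 ≫ q))
    have h1 : zeroSec L n ≫ (g0 ≫ q).left = Spec.map θ ≫ η[A].left := by
      have h2 : zero k L θ n ≫ g0 ≫ q = toUnit (SL k L θ) ≫ η[A] := by
        rw [← Category.assoc, hz0, Category.assoc, IsMonHom.one_hom]
      exact congrArg (fun f => f.left) h2
    have ha3 : a = Spec.map θ ≫ η[A].left := by
      rw [← h1, ha2, ← Category.assoc, zeroSec_sA, Category.id_comp]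
    apply Over.OverMorphism.ext
    rw [ha2, ha3]
    rfl
  -- (d) the lift to the torus
  let gT : WL k L θ n ⟶ T := hker.lift g0 (toUnit (WL k L θ n)) hq
  have hgT : gT ≫ i = g0 := hker.lift_fst _ _ _
  have hmono_i : ∀ {Z : Over (Spec (CommRingCat.of k))} (a b : Z ⟶ T), a ≫ i = b ≫ i → a = b := by
    intro Z a b hab
    apply Over.OverMorphism.ext
    have h1 : a.left ≫ i.left = b.left ≫ i.left := congrArg (fun f => f.left) hab
    exact (cancel_mono i.left).mp h1
  have hzT : zero k L θ n ≫ gT = toUnit (SL k L θ) ≫ η[T] := by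
    apply hmono_i
    rw [Category.assoc, hgT, hz0, Category.assoc, IsMonHom.one_hom]
  -- (e) the torus part
  haveI : IsSeparated T.hom := by
    have h1 : T.hom = i.left ≫ e.left ≫ G.hom := by rw [Over.w e, Over.w i]
    rw [h1]
    infer_instance
  obtain ⟨S', f, -, hfs, -, hloc⟩ := hT
  obtain ⟨s', -⟩ := hfs.surj ptk
  obtain ⟨U, hs'U, r, ⟨Ψg⟩⟩ := hloc s'
  haveI : Nonempty ↥(U : Scheme.{u}) := ⟨⟨s', hs'U⟩⟩
  let Ψ : Red.bc (U.ι ≫ f) T ≅ Red.DS (U : Scheme.{u}) (Fin r → ℤ) := (Grp.forget _).mapIso Ψg
  have hgTtriv : gT = toUnit (WL k L θ n) ≫ η[T] := by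
    apply Over.OverMorphism.ext
    refine torus_core k T (Fin r → ℤ) (U.ι ≫ f) Ψ L θ n gT.left
      (toUnit (WL k L θ n) ≫ η[T]).left (Over.w gT) (Over.w (toUnit (WL k L θ n) ≫ η[T])) ?_
    have h1 : zeroSec L n ≫ gT.left = Spec.map θ ≫ η[T].left := congrArg (fun f => f.left) hzT
    rw [h1]
    show Spec.map θ ≫ η[T].left = zeroSec L n ≫ (sA L n ≫ Spec.map θ) ≫ η[T].left
    rw [Category.assoc, ← Category.assoc (zeroSec L n), zeroSec_sA, Category.id_comp]
  -- (f) conclusion
  rw [← hg0, ← hgT, hgTtriv, Category.assoc, Category.assoc, ← Category.assoc η[T],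
    IsMonHom.one_hom, IsMonHom.one_hom]

include e hT hker in
/-- every morphism from an affine space over `L` to a large group factors through `Spec L` -/
theorem fibre_const (g : WL k L θ n ⟶ G) : g = pr k L θ n ≫ zero k L θ n ≫ g := by
  let c : WL k L θ n ⟶ G := pr k L θ n ≫ zero k L θ n ≫ g
  have hc : zero k L θ n ≫ c = zero k L θ n ≫ g := by
    show zero k L θ n ≫ pr k L θ n ≫ zero k L θ n ≫ g = _
    rw [← Category.assoc, zero_pr, Category.id_comp]
  have h1 : zero k L θ n ≫ (g * c⁻¹) = toUnit (SL k L θ) ≫ η[G] := by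
    rw [MonObj.comp_mul, GrpObj.comp_inv, hc, mul_inv_cancel, Hom.one_def]
  have h2 : g * c⁻¹ = 1 := by
    rw [Hom.one_def]
    exact fibre_trivial G G0 T A e i hT q hker _ h1
  exact mul_inv_eq_one.mp h2

end Groth.Agent.Helper3.LgC
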