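import Mathlib
import Groth.Prelude
import Groth.Agent.Helper3.LgC
import Groth.Agent.Helper5.RedGrp

set_option autoImplicit false
set_option linter.style.haveILetI false
set_option linter.unusedSectionVars false
set_option linter.unusedVariables false
set_option linter.deprecated false
set_option linter.style.haveILetI false
set_option linter.unusedSectionVars false
set_option linter.unusedVariables false

/-!
# Morphisms `X × 𝔸ⁿ ⟶ G` to a large group factor through `X` (S18991, S18992)
-/

namespace Groth.Agent.Helper3.LgD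

open CategoryTheory Limits AlgebraicGeometry TopologicalSpace Topology TensorProduct
open MonoidalCategory CartesianMonoidalCategory MonObj
open Groth.Agent.Helper3.RatAbF Groth.Agent.Helper3.LgA Groth.Agent.Helper3.LgB
open Groth.Agent.Helper3.LgC

universe u

variable (k : Type u) [Field k] (n : ℕ)

/-- affine space over `k` -/
noncomputable abbrev AA : Over (Spec (CommRingCat.of k)) :=
  Over.mk (Spec.map (CommRingCat.ofHom (algebraMap k (MvPolynomial (Fin n) k))))

theorem AA_hom : (AA k n).hom = sA k n := rfl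

/-- the origin of affine space -/
noncomputable def zeroA : 𝟙_ (Over (Spec (CommRingCat.of k))) ⟶ AA k n :=
  Over.homMk (zeroSec k n) (by
    show zeroSec k n ≫ sA k n = 𝟙 _
    exact zeroSec_sA k n)

/-- the zero section of `X × 𝔸ⁿ` -/
noncomputable def zsec (X : Over (Spec (CommRingCat.of k))) : X ⟶ X ⊗ AA k n :=
  lift (𝟙 X) (toUnit X ≫ zeroA k n)

theorem zsec_fst (X : Over (Spec (CommRingCat.of k))) : zsec k n X ≫ fst X (AA k n) = 𝟙 X :=
  lift_fst _ _

variable {k n}
variable (G G0 T A : Over (Spec (CommRingCat.of k))) [GrpObj G] [IsSeparated G.hom]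
  [GrpObj G0] (e : G0 ⟶ G) [IsMonHom e] [IsOpenImmersion e.left]
  [GrpObj T] (i : T ⟶ G0) [IsMonHom i] [IsClosedImmersion i.left] (hT : Red.IsTorus T)
  [GrpObj A] [IsProper A.hom] (q : G0 ⟶ A) [IsMonHom q] (hker : AlgGrp.IsKernel i q)

include e hT hker in
set_option maxHeartbeats 16000000 in
/-- every morphism `X × 𝔸ⁿ ⟶ G` into a large group factors through the projection to `X` -/
theorem factor (X : Over (Spec (CommRingCat.of k))) [IsReduced (X ⊗ AA k n).left]
    (φ : X ⊗ AA k n ⟶ G) : φ = fst X (AA k n) ≫ zsec k n X ≫ φ := by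
  classical
  apply Over.OverMorphism.ext
  refine ext_of_jointly_surjective G.hom φ.left (fst X (AA k n) ≫ zsec k n X ≫ φ).left
    ((Over.w φ).trans (Over.w (fst X (AA k n) ≫ zsec k n X ≫ φ)).symm) (fun w => ?_)
  -- the point of `X` below `w`
  let x : X.left := (pullback.fst X.hom (AA k n).hom).base w
  let L : Type u := X.left.residueField x
  let xt : Spec (CommRingCat.of L) ⟶ X.left := X.left.fromSpecResidueField x
  let θ : CommRingCat.of k ⟶ CommRingCat.of L := Spec.preimage (xt ≫ X.hom)
  have hθ : Spec.map θ = xt ≫ X.hom := Spec.map_preimage _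
  have hsq := Groth.Agent.Helper8.QSecB.isPullback_mvPoly k n θ
  have hcond : (sA L n ≫ xt) ≫ X.hom =
      Spec.map (CommRingCat.ofHom (MvPolynomial.map (σ := Fin n) θ.hom)) ≫ (AA k n).hom := by
    rw [Category.assoc, ← hθ]
    exact hsq.w.symm
  let jl : Spec (CommRingCat.of (MvPolynomial (Fin n) L)) ⟶ (X ⊗ AA k n).left :=
    pullback.lift (sA L n ≫ xt) (Spec.map (CommRingCat.ofHom (MvPolynomial.map (σ := Fin n) θ.hom)))
      hcond
  have hjl1 : jl ≫ pullback.fst X.hom (AA k n).hom = sA L n ≫ xt := pullback.lift_fst _ _ _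
  have hjl2 : jl ≫ pullback.snd X.hom (AA k n).hom =
      Spec.map (CommRingCat.ofHom (MvPolynomial.map (σ := Fin n) θ.hom)) := pullback.lift_snd _ _ _
  -- `w` lies in the range of `jl`
  have hpb : IsPullback jl (sA L n) (pullback.fst X.hom (AA k n).hom) xt := by
    refine IsPullback.of_right ?_ hjl1 (IsPullback.of_hasPullback X.hom (AA k n).hom).flip
    rw [hjl2, ← hθ]
    exact hsq
  have hw : w ∈ Set.range jl.base := by
    have hx : (pullback.fst X.hom (AA k n).hom).base w = xt.base (IsLocalRing.closedPoint L) :=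
      (Scheme.fromSpecResidueField_apply x _).symm
    obtain ⟨z, hz1, -⟩ := Scheme.Pullback.exists_preimage_pullback
      (f := pullback.fst X.hom (AA k n).hom) (g := xt) w (IsLocalRing.closedPoint L) hx
    refine ⟨hpb.isoPullback.inv.base z, ?_⟩
    rw [← Scheme.Hom.comp_apply, hpb.isoPullback_inv_fst]
    exact hz1
  refine ⟨_, jl, hw, ?_⟩
  -- the morphisms over `Spec k`
  let jx : WL k L θ n ⟶ X ⊗ AA k n := Over.homMk jl (by
    show jl ≫ pullback.fst X.hom (AA k n).hom ≫ X.hom = sA L n ≫ Spec.map θ
    rw [← Category.assoc, hjl1, Category.assoc, hθ])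
  let xo : SL k L θ ⟶ X := Over.homMk xt hθ.symm
  have hF1 : jx ≫ fst X (AA k n) = pr k L θ n ≫ xo := by
    apply Over.OverMorphism.ext
    exact hjl1
  have hF2 : zero k L θ n ≫ jx = xo ≫ zsec k n X := by
    apply CartesianMonoidalCategory.hom_ext
    · rw [Category.assoc, hF1, ← Category.assoc, zero_pr, Category.id_comp, Category.assoc,
        zsec_fst, Category.comp_id]
    · apply Over.OverMorphism.ext
      show zeroSec L n ≫ jl ≫ pullback.snd X.hom (AA k n).hom =
        xt ≫ (zsec k n X ≫ snd X (AA k n)).left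
      have h1 : zsec k n X ≫ snd X (AA k n) = toUnit X ≫ zeroA k n := lift_snd _ _
      rw [hjl2, h1]
      show zeroSec L n ≫ Spec.map _ = xt ≫ X.hom ≫ zeroSec k n
      rw [← Category.assoc xt, ← hθ]
      show Spec.map _ ≫ Spec.map _ = Spec.map _ ≫ Spec.map _
      rw [← Spec.map_comp, ← Spec.map_comp]
      congr 1
  have hmain : jx ≫ φ = jx ≫ fst X (AA k n) ≫ zsec k n X ≫ φ := by
    rw [← Category.assoc jx, hF1, Category.assoc, ← Category.assoc xo, ← hF2, Category.assoc]
    exact fibre_const G G0 T A e i hT q hker (jx ≫ φ)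
  exact congrArg (fun f => f.left) hmain

include e hT hker in
/-- the same over a perfect field, for reduced `X` -/
theorem factor' [PerfectField k] (X : Over (Spec (CommRingCat.of k))) [IsReduced X.left]
    (φ : X ⊗ AA k n ⟶ G) : φ = fst X (AA k n) ≫ zsec k n X ≫ φ := by
  haveI : IsReduced (AA k n).left :=
    (inferInstance : IsReduced (Spec (CommRingCat.of (MvPolynomial (Fin n) k))))
  haveI : IsReduced (X ⊗ AA k n).left :=
    Groth.Agent.Helper5.RedGrp.isReduced_pullback_of_perfectField k X.hom (AA k n).hom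
  exact factor G G0 T A e i hT q hker X φ

end Groth.Agent.Helper3.LgD
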