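import Mathlib

/-!
# Limit of a presheaf as an equalizer of products over a covering family
-/

namespace Groth.Agent.Helper3.LimEqProd

open CategoryTheory CategoryTheory.Limits Opposite

universe w v₁ v₂ u₁ u₂

variable {I : Type u₁} [Category.{v₁} I] {C : Type u₂} [Category.{v₂} C] {A : Type w} (i : A → I)
  [∀ α β, HasBinaryProduct (i α) (i β)]
  (hcov : ∀ j : I, ∃ α, Nonempty (j ⟶ i α))
  (F : Iᵒᵖ ⥤ C)

/-- compatible families -/
def Compat {T : C} (x : ∀ α, T ⟶ F.obj (op (i α))) : Prop :=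
  ∀ α β, x α ≫ F.map (prod.fst : i α ⨯ i β ⟶ i α).op = x β ≫ F.map (prod.snd : i α ⨯ i β ⟶ i β).op

variable {i F}

lemma Compat.indep {T : C} {x : ∀ α, T ⟶ F.obj (op (i α))} (hx : Compat i F x)
    {j : I} {α β : A} (φ : j ⟶ i α) (ψ : j ⟶ i β) :
    x α ≫ F.map φ.op = x β ≫ F.map ψ.op := by
  have h1 : φ = prod.lift φ ψ ≫ prod.fst := (prod.lift_fst _ _).symm
  have h2 : ψ = prod.lift φ ψ ≫ prod.snd := (prod.lift_snd _ _).symm
  conv_lhs => rw [h1, op_comp, F.map_comp, ← Category.assoc, hx α β]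
  conv_rhs => rw [h2, op_comp, F.map_comp, ← Category.assoc]

include hcov in
/-- the cone associated to a compatible family -/
@[reducible] noncomputable def coneOf {T : C} (x : ∀ α, T ⟶ F.obj (op (i α))) (hx : Compat i F x) : Cone F where
  pt := T
  π :=
    { app := fun j => x (hcov j.unop).choose ≫ F.map (hcov j.unop).choose_spec.some.op
      naturality := by
        intro j j' θ
        dsimp
        rw [Category.id_comp, Category.assoc, ← F.map_comp]
        exact hx.indep _ (θ.unop ≫ (hcov j.unop).choose_spec.some) }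

lemma coneOf_π {T : C} (x : ∀ α, T ⟶ F.obj (op (i α))) (hx : Compat i F x) (j : I) {α : A}
    (φ : j ⟶ i α) : (coneOf hcov x hx).π.app (op j) = x α ≫ F.map φ.op :=
  hx.indep _ φ

lemma coneOf_π_i {T : C} (x : ∀ α, T ⟶ F.obj (op (i α))) (hx : Compat i F x) (α : A) :
    (coneOf hcov x hx).π.app (op (i α)) = x α := by
  rw [coneOf_π hcov x hx (i α) (𝟙 _), op_id, F.map_id, Category.comp_id]

lemma compat_of_cone (s : Cone F) : Compat i F (fun α => s.π.app (op (i α))) := by
  intro α β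
  rw [s.w, s.w]

section Main

variable (i F)
variable [HasProduct (fun α => F.obj (op (i α)))]
    [HasProduct (fun p : A × A => F.obj (op (i p.1 ⨯ i p.2)))]

/-- first map -/
noncomputable abbrev ma : ∏ᶜ (fun α => F.obj (op (i α))) ⟶
    ∏ᶜ (fun p : A × A => F.obj (op (i p.1 ⨯ i p.2))) :=
  Pi.lift (fun p : A × A =>
    Pi.π (fun α => F.obj (op (i α))) p.1 ≫ F.map (prod.fst : i p.1 ⨯ i p.2 ⟶ i p.1).op)

/-- second map -/
noncomputable abbrev mb : ∏ᶜ (fun α => F.obj (op (i α))) ⟶
    ∏ᶜ (fun p : A × A => F.obj (op (i p.1 ⨯ i p.2))) :=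
  Pi.lift (fun p : A × A =>
    Pi.π (fun α => F.obj (op (i α))) p.2 ≫ F.map (prod.snd : i p.1 ⨯ i p.2 ⟶ i p.2).op)

lemma compat_iff {T : C} (t : T ⟶ ∏ᶜ (fun α => F.obj (op (i α)))) :
    t ≫ ma i F = t ≫ mb i F ↔ Compat i F (fun α => t ≫ Pi.π _ α) := by
  constructor
  · intro h α β
    have := congrArg (fun m => m ≫ Pi.π (fun p : A × A => F.obj (op (i p.1 ⨯ i p.2))) (α, β)) h
    simpa [Category.assoc] using this
  · intro h
    apply Pi.hom_ext
    intro p
    have := h p.1 p.2
    simpa [Category.assoc] using this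

variable [HasEqualizers C]

include hcov in
theorem hasLimit : HasLimit F := by
  have hc : Compat i F (fun α => equalizer.ι (ma i F) (mb i F) ≫ Pi.π _ α) :=
    (compat_iff i F _).1 (equalizer.condition _ _)
  have hlift : ∀ s : Cone F, Pi.lift (fun α => s.π.app (op (i α))) ≫ ma i F =
      Pi.lift (fun α => s.π.app (op (i α))) ≫ mb i F := by
    intro s
    rw [compat_iff]
    intro α β
    have h1 : ∀ α, Pi.lift (fun α => s.π.app (op (i α))) ≫
        Pi.π (fun α => F.obj (op (i α))) α = s.π.app (op (i α)) := fun α => Pi.lift_π _ _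
    show (Pi.lift (fun α => s.π.app (op (i α))) ≫ Pi.π (fun α => F.obj (op (i α))) α) ≫ _ =
      (Pi.lift (fun α => s.π.app (op (i α))) ≫ Pi.π (fun α => F.obj (op (i α))) β) ≫ _
    rw [h1, h1]
    exact compat_of_cone (i := i) s α β
  refine HasLimit.mk ⟨coneOf hcov _ hc, ?_⟩
  refine
    { lift := fun s => equalizer.lift (Pi.lift (fun α => s.π.app (op (i α)))) (hlift s)
      fac := ?_
      uniq := ?_ }
  · intro s j
    obtain ⟨α, ⟨φ⟩⟩ := hcov j.unop
    have hj : (coneOf hcov _ hc).π.app j =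
        (equalizer.ι (ma i F) (mb i F) ≫ Pi.π (fun α => F.obj (op (i α))) α) ≫ F.map φ.op :=
      coneOf_π hcov _ hc j.unop φ
    rw [hj]
    have h2 : equalizer.lift (Pi.lift (fun α => s.π.app (op (i α)))) (hlift s) ≫
        equalizer.ι (ma i F) (mb i F) = Pi.lift (fun α => s.π.app (op (i α))) :=
      equalizer.lift_ι _ _
    rw [← Category.assoc, ← Category.assoc, h2, Pi.lift_π]
    exact s.w φ.op
  · intro s m hm
    let m' : s.pt ⟶ equalizer (ma i F) (mb i F) := m
    change m' = _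
    apply equalizer.hom_ext
    rw [equalizer.lift_ι]
    apply Pi.hom_ext
    intro α
    have h3 : m' ≫ (equalizer.ι (ma i F) (mb i F) ≫ Pi.π (fun α => F.obj (op (i α))) α) =
        s.π.app (op (i α)) := by
      rw [← coneOf_π_i hcov _ hc α]
      exact hm (op (i α))
    rw [Pi.lift_π, Category.assoc, h3]

include hcov in
theorem main :
    HasLimit F ∧ ∀ [HasLimit F],
      Mono (Pi.lift (fun α => limit.π F (op (i α)))) ∧
      ∀ (T : C) (t : T ⟶ ∏ᶜ (fun α => F.obj (op (i α)))),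
        (∃ s : T ⟶ limit F, s ≫ Pi.lift (fun α => limit.π F (op (i α))) = t) ↔
        t ≫ Pi.lift (fun p : A × A =>
            Pi.π (fun α => F.obj (op (i α))) p.1 ≫ F.map (prod.fst : i p.1 ⨯ i p.2 ⟶ i p.1).op) =
        t ≫ Pi.lift (fun p : A × A =>
            Pi.π (fun α => F.obj (op (i α))) p.2 ≫ F.map (prod.snd : i p.1 ⨯ i p.2 ⟶ i p.2).op) := by
  refine ⟨hasLimit i hcov F, ?_⟩
  intro _
  refine ⟨⟨?_⟩, ?_⟩
  · intro T s₁ s₂ h
    apply limit.hom_ext
    intro j
    obtain ⟨α, ⟨φ⟩⟩ := hcov j.unop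
    have hα := congrArg (fun m => m ≫ Pi.π (fun α => F.obj (op (i α))) α) h
    simp only [Category.assoc, Pi.lift_π] at hα
    have hw : limit.π F j = limit.π F (op (i α)) ≫ F.map φ.op := (limit.w F φ.op).symm
    rw [hw, ← Category.assoc, hα, Category.assoc]
  · intro T t
    constructor
    · rintro ⟨s, rfl⟩
      change _ ≫ ma i F = _ ≫ mb i F
      rw [compat_iff]
      intro α β
      simp only [Category.assoc, Pi.lift_π]
      rw [limit.w, limit.w]
    · intro h
      change _ ≫ ma i F = _ ≫ mb i F at h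
      rw [compat_iff] at h
      let ℓ : T ⟶ limit F := limit.lift F (coneOf hcov _ h)
      have hℓ : ∀ j, ℓ ≫ limit.π F j = (coneOf hcov _ h).π.app j := fun j => limit.lift_π _ _
      refine ⟨ℓ, ?_⟩
      apply Pi.hom_ext
      intro α
      rw [Category.assoc, Pi.lift_π, hℓ, coneOf_π_i]

end Main

end Groth.Agent.Helper3.LimEqProd
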