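import Mathlib
import Groth.Agent.Helper3.EtCodim1Sch
import Groth.Agent.Helper3.HtOne
import Groth.Agent.Helper3.AffNbhd1

set_option linter.style.haveILetI false
set_option linter.unusedSectionVars false
set_option linter.unusedVariables false
set_option linter.style.haveILetI false
set_option linter.unusedSectionVars false
set_option linter.unusedVariables false

namespace Groth.Agent.Helper3.LocFact

open AlgebraicGeometry CategoryTheory IsLocalRing

universe u

/-- A Noetherian local ring having a height-one prime generated by a non-zero-divisor is a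
domain. -/
theorem isDomain_of_prime_principal (R : Type u) [CommRing R] [IsNoetherianRing R] [IsLocalRing R]
    (P : Ideal R) [hPp : P.IsPrime] (hP : P.height = 1) (t : R) (ht : t ∈ nonZeroDivisors R)
    (hPt : P = Ideal.span {t}) : IsDomain R := by
  obtain ⟨P0, hP0, hP0P⟩ := Ideal.exists_minimalPrimes_le (bot_le : (⊥ : Ideal R) ≤ P)
  haveI : P0.IsPrime := hP0.1.1
  have hP0ht : P0.height = 0 := Ideal.height_eq_zero_iff.2 hP0
  have htP0 : t ∉ P0 := by
    intro hmem
    have h1 : P ≤ P0 := by rw [hPt, Ideal.span_singleton_le_iff_mem]; exact hmem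
    have h2 : P = P0 := le_antisymm h1 hP0P
    rw [h2, hP0ht] at hP
    exact zero_ne_one hP
  have hle : P0 ≤ (Ideal.span {t}) • P0 := by
    intro y hy
    have hyP : y ∈ Ideal.span {t} := hPt ▸ hP0P hy
    obtain ⟨z, rfl⟩ := Ideal.mem_span_singleton'.1 hyP
    have hz : z ∈ P0 := (‹P0.IsPrime›.mem_or_mem hy).resolve_right htP0
    rw [mul_comm, smul_eq_mul]
    exact Ideal.mul_mem_mul (Ideal.mem_span_singleton_self t) hz
  have htm : Ideal.span {t} ≤ Ideal.jacobson ⊥ := by
    refine le_trans ?_ (IsLocalRing.maximalIdeal_le_jacobson ⊥)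
    rw [← hPt]
    exact IsLocalRing.le_maximalIdeal hPp.ne_top
  have h0 : P0 = ⊥ :=
    Submodule.eq_bot_of_le_smul_of_le_jacobson_bot (Ideal.span {t}) P0
      (IsNoetherian.noetherian P0) hle htm
  haveI : (⊥ : Ideal R).IsPrime := h0 ▸ ‹P0.IsPrime›
  exact IsDomain.of_bot_isPrime R

variable {X : Scheme.{u}}

/-- the prime of `O_x` attached to a generization `ζ` of `x` -/
noncomputable def genPrime {ζ x : X} (h : ζ ⤳ x) : Ideal (X.presheaf.stalk x) :=
  (maximalIdeal (X.presheaf.stalk ζ)).comap (X.presheaf.stalkSpecializes h).hom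

instance {ζ x : X} (h : ζ ⤳ x) : (genPrime h).IsPrime := Ideal.comap_isPrime _ _

theorem exists_genPrime_eq (x : X) (Q : Ideal (X.presheaf.stalk x)) [hQ : Q.IsPrime] :
    ∃ (ζ : X) (h : ζ ⤳ x), genPrime h = Q := by
  let ζ : X := X.fromSpecStalk x ⟨Q, hQ⟩
  have hmem : ζ ∈ Set.range (X.fromSpecStalk x) := ⟨_, rfl⟩
  rw [Scheme.range_fromSpecStalk] at hmem
  have h : ζ ⤳ x := hmem
  refine ⟨ζ, h, ?_⟩
  have h1 := Scheme.SpecMap_stalkSpecializes_fromSpecStalk h
  have h2 : X.fromSpecStalk x ((Spec.map (X.presheaf.stalkSpecializes h))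
      (closedPoint (X.presheaf.stalk ζ))) = ζ := by
    rw [← Scheme.Hom.comp_apply, h1, Scheme.fromSpecStalk_closedPoint]
  have h3 := (X.fromSpecStalk x).isEmbedding.injective h2
  exact congrArg PrimeSpectrum.asIdeal h3

theorem ringKrullDim_stalk_eq_height_genPrime {ζ x : X} (h : ζ ⤳ x) :
    ringKrullDim (X.presheaf.stalk ζ) = ((genPrime h).height : WithBot ℕ∞) := by
  obtain ⟨U, hU, hxU, -⟩ := TopologicalSpace.Opens.isBasis_iff_nbhd.mp X.isBasis_affineOpens
    (TopologicalSpace.Opens.mem_top x)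
  have hζU : ζ ∈ U := h.mem_open U.2 hxU
  rw [Groth.Agent.Helper3.EtCodim1Sch.ringKrullDim_stalk_eq_height hU ζ hζU]
  letI algx := X.presheaf.algebra_section_stalk ⟨x, hxU⟩
  haveI locx := hU.isLocalization_stalk ⟨x, hxU⟩
  letI algζ := X.presheaf.algebra_section_stalk ⟨ζ, hζU⟩
  haveI locζ := hU.isLocalization_stalk ⟨ζ, hζU⟩
  congr 1
  rw [← IsLocalization.height_under (hU.primeIdealOf ⟨x, hxU⟩).asIdeal.primeCompl (genPrime h)]
  congr 1
  rw [← IsLocalization.AtPrime.under_maximalIdeal (X.presheaf.stalk ζ)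
    (hU.primeIdealOf ⟨ζ, hζU⟩).asIdeal]
  ext r
  simp only [Ideal.under, Ideal.mem_comap, genPrime]
  have : (X.presheaf.stalkSpecializes h).hom (algebraMap Γ(X, U) (X.presheaf.stalk x) r) =
      algebraMap Γ(X, U) (X.presheaf.stalk ζ) r := by
    show (X.presheaf.stalkSpecializes h).hom ((X.presheaf.germ U x hxU).hom r) =
      (X.presheaf.germ U ζ hζU).hom r
    rw [← CommRingCat.comp_apply, TopCat.Presheaf.germ_stalkSpecializes]
  rw [this]

/-- (a'') gives that stalks of positive dimension are factorial domains -/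
theorem ufd_of_dim_pos [IsLocallyNoetherian X]
    (ha : ∀ ζ : X, ringKrullDim (X.presheaf.stalk ζ) = 1 → ∀ (x : X) (h : ζ ⤳ x),
        ∃ t : X.presheaf.stalk x, t ∈ nonZeroDivisors (X.presheaf.stalk x) ∧
          genPrime h = Ideal.span {t})
    (x : X) (hx : 1 ≤ ringKrullDim (X.presheaf.stalk x)) :
    ∃ _ : IsDomain (X.presheaf.stalk x), UniqueFactorizationMonoid (X.presheaf.stalk x) := by
  have key : ∀ (Q : Ideal (X.presheaf.stalk x)) [Q.IsPrime], Q.height = 1 →
      ∃ t : X.presheaf.stalk x, t ∈ nonZeroDivisors (X.presheaf.stalk x) ∧ Q = Ideal.span {t} := by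
    intro Q _ hQ
    obtain ⟨ζ, h, rfl⟩ := exists_genPrime_eq x Q
    refine ha ζ ?_ x h
    rw [ringKrullDim_stalk_eq_height_genPrime h, hQ]
    rfl
  have hm : 1 ≤ (maximalIdeal (X.presheaf.stalk x)).height := by
    have := IsLocalRing.maximalIdeal_height_eq_ringKrullDim (R := X.presheaf.stalk x)
    rw [← this] at hx
    exact_mod_cast hx
  obtain ⟨P, hPp, -, hP1, -⟩ := Groth.Agent.Helper3.HtOne.exists_height_one_prime_mem
    (maximalIdeal (X.presheaf.stalk x)) hm 0 (Ideal.zero_mem _)
  haveI := hPp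
  obtain ⟨t, ht, hPt⟩ := key P hP1
  have hdom : IsDomain (X.presheaf.stalk x) := isDomain_of_prime_principal _ P hP1 t ht hPt
  refine ⟨hdom, ?_⟩
  rw [UniqueFactorizationMonoid.iff_forall_isPrincipal_of_height_eq_one]
  intro Q _ hQ
  obtain ⟨t, -, hQt⟩ := key Q hQ
  exact ⟨t, hQt⟩

/-- stalks of dimension zero are fields -/
theorem isField_of_dim_zero [IsLocallyNoetherian X]
    (hred : ∀ x : X, IsOpen ({x} : Set X) → IsReduced (X.presheaf.stalk x))
    (hpos : ∀ y : X, 1 ≤ ringKrullDim (X.presheaf.stalk y) → IsDomain (X.presheaf.stalk y))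
    (x : X) (hx : ¬ 1 ≤ ringKrullDim (X.presheaf.stalk x)) : IsField (X.presheaf.stalk x) := by
  classical
  obtain ⟨U, hU, hxU, -⟩ := TopologicalSpace.Opens.isBasis_iff_nbhd.mp X.isBasis_affineOpens
    (TopologicalSpace.Opens.mem_top x)
  haveI : IsNoetherianRing Γ(X, U) := IsLocallyNoetherian.component_noetherian ⟨U, hU⟩
  set P := (hU.primeIdealOf ⟨x, hxU⟩).asIdeal with hP
  have hdim := Groth.Agent.Helper3.EtCodim1Sch.ringKrullDim_stalk_eq_height hU x hxU
  have hP0 : P.height = 0 := by
    rw [hdim] at hx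
    have h1 : ¬ (1 : ℕ∞) ≤ P.height := fun h => hx (by exact_mod_cast h)
    rw [not_le] at h1
    exact ENat.lt_one_iff_eq_zero.1 h1
  haveI : Ring.KrullDimLE 0 (X.presheaf.stalk x) := by
    rw [Ring.krullDimLE_iff, hdim, hP0]
    rfl
  have hPmin : P ∈ minimalPrimes Γ(X, U) := Ideal.height_eq_zero_iff.1 hP0
  by_cases hPmax : P.IsMaximal
  · -- `{x}` is open
    haveI : IsReduced (X.presheaf.stalk x) := by
      apply hred
      have hfin := minimalPrimes.finite_of_isNoetherianRing Γ(X, U)
      set F : Finset (Ideal Γ(X, U)) := hfin.toFinset.erase P with hF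
      have hnot : ¬ F.inf id ≤ P := by
        rw [Ideal.IsPrime.inf_le' inferInstance]
        rintro ⟨p', hp', hle⟩
        rw [hF, Finset.mem_erase, Set.Finite.mem_toFinset] at hp'
        have : p' = P := by
          have h1 := hPmin.2 hp'.2.1 hle
          exact le_antisymm hle h1
        exact hp'.1 this
      obtain ⟨s, hsF, hsP⟩ := SetLike.not_le_iff_exists.1 hnot
      have hopen : (X.basicOpen s : Set X) = {x} := by
        ext y
        simp only [SetLike.mem_coe, Set.mem_singleton_iff]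
        constructor
        · intro hy
          have hyU : y ∈ U := X.basicOpen_le s hy
          rw [Groth.Agent.Helper3.AffNbhd1.mem_basicOpen_iff hU s y hyU] at hy
          set q := (hU.primeIdealOf ⟨y, hyU⟩).asIdeal with hq
          obtain ⟨p', hp', hp'q⟩ := Ideal.exists_minimalPrimes_le (bot_le : (⊥ : Ideal Γ(X, U)) ≤ q)
          have hp'P : p' = P := by
            by_contra hne
            have hmem : p' ∈ F := by
              rw [hF, Finset.mem_erase, Set.Finite.mem_toFinset]
              exact ⟨hne, hp'⟩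
            have : s ∈ p' := (Finset.inf_le hmem : F.inf id ≤ id p') hsF
            exact hy (hp'q this)
          rw [hp'P] at hp'q
          have hqP : q = P := (hPmax.eq_of_le (hU.primeIdealOf ⟨y, hyU⟩).2.ne_top hp'q).symm
          exact Groth.Agent.Helper3.EtCodim1Sch.primeIdealOf_injective hU y x hyU hxU
            (PrimeSpectrum.ext hqP)
        · rintro rfl
          rw [Groth.Agent.Helper3.AffNbhd1.mem_basicOpen_iff hU s y hxU]
          exact hsP
      rw [← hopen]
      exact (X.basicOpen s).2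
    exact Ring.KrullDimLE.isField_of_isReduced
  · -- a closed point `y` specializing `x`
    obtain ⟨M, hMmax, hPM⟩ := Ideal.exists_le_maximal P (hU.primeIdealOf ⟨x, hxU⟩).2.ne_top
    haveI := hMmax.isPrime
    have hPneM : P ≠ M := fun h => hPmax (h ▸ hMmax)
    obtain ⟨y, hyU, hyM, hyM'⟩ :=
      Groth.Agent.Helper3.EtCodim1Sch.exists_point_of_prime hU ⟨M, hMmax.isPrime⟩
    have hxy : x ⤳ y := by
      have h1 : (hU.primeIdealOf ⟨x, hxU⟩) ⤳ (⟨M, hMmax.isPrime⟩ : PrimeSpectrum Γ(X, U)) :=
        (PrimeSpectrum.le_iff_specializes _ _).1 hPM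
      have h2 := h1.map hU.fromSpec.continuous
      rw [hyM'] at h2
      have h3 : hU.fromSpec (hU.primeIdealOf ⟨x, hxU⟩) = x := hU.fromSpec_primeIdealOf ⟨x, hxU⟩
      rw [h3] at h2
      exact h2
    have hMht : 1 ≤ ringKrullDim (X.presheaf.stalk y) := by
      rw [Groth.Agent.Helper3.EtCodim1Sch.ringKrullDim_stalk_eq_height hU y hyU, hyM]
      have : (1 : ℕ∞) ≤ M.height := by
        rw [Order.one_le_iff_pos, pos_iff_ne_zero, Ne, Ideal.height_eq_zero_iff]
        intro hMmin
        have h1 : M ≤ P := hMmin.2 ⟨(hU.primeIdealOf ⟨x, hxU⟩).2, bot_le⟩ hPM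
        exact hPneM (le_antisymm hPM h1)
      exact_mod_cast this
    haveI hdomy : IsDomain (X.presheaf.stalk y) := hpos y hMht
    letI algx := X.presheaf.algebra_section_stalk ⟨x, hxU⟩
    haveI locx := hU.isLocalization_stalk ⟨x, hxU⟩
    letI algy := X.presheaf.algebra_section_stalk ⟨y, hyU⟩
    haveI locy := hU.isLocalization_stalk ⟨y, hyU⟩
    letI algyx : Algebra (X.presheaf.stalk y) (X.presheaf.stalk x) :=
      (X.presheaf.stalkSpecializes hxy).hom.toAlgebra
    haveI : IsScalarTower Γ(X, U) (X.presheaf.stalk y) (X.presheaf.stalk x) := by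
      refine IsScalarTower.of_algebraMap_eq fun r => ?_
      show (X.presheaf.germ U x hxU).hom r =
        (X.presheaf.stalkSpecializes hxy).hom ((X.presheaf.germ U y hyU).hom r)
      rw [← CommRingCat.comp_apply, TopCat.Presheaf.germ_stalkSpecializes]
    have hMeq' : (hU.primeIdealOf ⟨y, hyU⟩).asIdeal = M := congrArg PrimeSpectrum.asIdeal hyM
    have hle : (hU.primeIdealOf ⟨y, hyU⟩).asIdeal.primeCompl ≤ P.primeCompl := by
      intro r hr hrP
      have hr' : r ∉ (hU.primeIdealOf ⟨y, hyU⟩).asIdeal := hr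
      exact hr' (hMeq' ▸ hPM hrP)
    haveI hloc := IsLocalization.isLocalization_of_submonoid_le (X.presheaf.stalk y)
      (X.presheaf.stalk x) _ _ hle
    haveI : IsDomain (X.presheaf.stalk x) := by
      refine IsLocalization.isDomain_of_le_nonZeroDivisors (X.presheaf.stalk x)
        (M := P.primeCompl.map (algebraMap Γ(X, U) (X.presheaf.stalk y))) ?_
      rintro _ ⟨r, hr, rfl⟩
      rw [mem_nonZeroDivisors_iff_ne_zero]
      intro h0
      rw [IsLocalization.map_eq_zero_iff
        (hU.primeIdealOf ⟨y, hyU⟩).asIdeal.primeCompl] at h0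
      obtain ⟨⟨m, hm2⟩, hm⟩ := h0
      have hmem : m * r ∈ P := by rw [hm]; exact Ideal.zero_mem _
      rcases (hU.primeIdealOf ⟨x, hxU⟩).2.mem_or_mem hmem with h | h
      · have hm3 : m ∉ (hU.primeIdealOf ⟨y, hyU⟩).asIdeal := hm2
        have hm4 : m ∈ M := hPM h
        rw [← hMeq'] at hm4
        exact hm3 hm4
      · exact hr h
    exact Ring.KrullDimLE.isField_of_isReduced

theorem main (X : Scheme.{u}) [IsLocallyNoetherian X]
    (hred : ∀ x : ↥X, IsOpen ({x} : Set ↥X) → IsReduced ↑(X.presheaf.stalk x)) :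
    (∀ ζ : ↥X, ringKrullDim ↑(X.presheaf.stalk ζ) = 1 → ∀ (x : ↥X) (h : ζ ⤳ x),
        ∃ t : ↑(X.presheaf.stalk x), t ∈ nonZeroDivisors ↑(X.presheaf.stalk x) ∧
          (IsLocalRing.maximalIdeal ↑(X.presheaf.stalk ζ)).comap (X.presheaf.stalkSpecializes h).hom =
            Ideal.span {t}) ↔
      ∀ x : ↥X, ∃ _ : IsDomain ↑(X.presheaf.stalk x),
        UniqueFactorizationMonoid ↑(X.presheaf.stalk x) := by
  constructor
  · intro ha x
    by_cases hx : 1 ≤ ringKrullDim (X.presheaf.stalk x)
    · exact ufd_of_dim_pos ha x hx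
    · have hF := isField_of_dim_zero hred
        (fun y hy => (ufd_of_dim_pos ha y hy).1) x hx
      letI := hF.toField
      exact ⟨inferInstance, inferInstance⟩
  · intro hc ζ hdim x h
    obtain ⟨hdom, hufd⟩ := hc x
    have hQ : (genPrime h).height = 1 := by
      have := ringKrullDim_stalk_eq_height_genPrime h
      rw [hdim] at this
      exact_mod_cast this.symm
    have hprin := UniqueFactorizationMonoid.isPrincipal_of_height_eq_one hQ
    obtain ⟨t, ht⟩ := hprin
    refine ⟨t, ?_, ht⟩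
    apply mem_nonZeroDivisors_of_ne_zero
    rintro rfl
    have hbot : genPrime h = ⊥ := by
      rw [ht]; simp
    rw [hbot, Ideal.height_bot] at hQ
    exact zero_ne_one hQ

end Groth.Agent.Helper3.LocFact
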