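import Mathlib
import Groth.Agent.Helper3.PropFlat
set_option linter.style.haveILetI false
set_option linter.unusedSectionVars false
set_option linter.unusedVariables false

namespace Groth.Agent.Helper3.LocFlatSch
open TensorProduct AlgebraicGeometry CategoryTheory CategoryTheory.Limits

universe u

/-- flatness of a base change is inherited by a further base change of the base -/
theorem flat_snd_comp_right {X Y Y' Z : Scheme.{u}} (f : X ⟶ Z) (g : Y ⟶ Z) (c : Y' ⟶ Y)
    [Flat (pullback.snd f g)] : Flat (pullback.snd f (c ≫ g)) := by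
  have h := pullbackLeftPullbackSndIso_inv_snd_snd f g c
  rw [← h]
  infer_instance

/-- Affine-chart flatness modulo an ideal sheaf. -/
theorem flat_chart {X S : Scheme.{u}} (f : X ⟶ S) (J : S.IdealSheafData)
    [Flat (pullback.snd f J.subschemeι)] {U : S.Opens} (hU : IsAffineOpen U)
    {V : X.Opens} (hV : IsAffineOpen V) (e : V ≤ f ⁻¹ᵁ U) :
    letI := (f.appLE U V e).hom.toAlgebra
    Module.Flat (Γ(S, U) ⧸ J.ideal ⟨U, hU⟩) ((Γ(S, U) ⧸ J.ideal ⟨U, hU⟩) ⊗[Γ(S, U)] Γ(X, V)) := by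
  letI := (f.appLE U V e).hom.toAlgebra
  apply PropFlat.flat_tensor_of_flat_snd
  set a := Spec.map (CommRingCat.ofHom (algebraMap Γ(S, U) Γ(X, V))) with ha
  set b := Spec.map (CommRingCat.ofHom (Ideal.Quotient.mk (J.ideal ⟨U, hU⟩))) with hb
  have ha' : a ≫ hU.fromSpec = hV.fromSpec ≫ f :=
    IsAffineOpen.SpecMap_appLE_fromSpec f hU hV e
  have hb' : b ≫ hU.fromSpec = J.subschemeCover.f ⟨U, hU⟩ ≫ J.subschemeι := by
    rw [Scheme.IdealSheafData.subschemeCover_map_subschemeι, Scheme.IdealSheafData.glueDataObjι_ι]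
  -- the composite square
  have sq : IsPullback (pullback.fst a b) (pullback.snd a b) (a ≫ hU.fromSpec)
      (b ≫ hU.fromSpec) :=
    IsPullback.of_isLimit (pullbackIsPullbackOfCompMono a b hU.fromSpec)
  rw [ha', hb'] at sq
  haveI : Flat (pullback.snd f (J.subschemeCover.f ⟨U, hU⟩ ≫ J.subschemeι)) :=
    flat_snd_comp_right f J.subschemeι _
  have h3 : Flat (pullback.snd (hV.fromSpec ≫ f) (J.subschemeCover.f ⟨U, hU⟩ ≫ J.subschemeι)) :=
    PropFlat.flat_snd_comp f _ hV.fromSpec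
  rw [← sq.isoPullback_hom_snd]
  exact MorphismProperty.comp_mem _ _ _ (inferInstance : Flat sq.isoPullback.hom) h3

theorem main {X S : Scheme.{u}} (f : X ⟶ S) [IsLocallyNoetherian X] [IsLocallyNoetherian S]
    (I : S.IdealSheafData) (h : ∀ n : ℕ, Flat (pullback.snd f (I ^ (n + 1)).subschemeι)) (x : X)
    (hx : f x ∈ I.support) :
    (f.stalkMap x).hom.Flat := by
  obtain ⟨U, hU, hfxU, -⟩ := exists_isAffineOpen_mem_and_subset (x := f x) (U := ⊤) trivial
  obtain ⟨V, hV, hxV, hVU⟩ := exists_isAffineOpen_mem_and_subset (x := x) (U := f ⁻¹ᵁ U) hfxU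
  haveI : IsNoetherianRing Γ(S, U) := IsLocallyNoetherian.component_noetherian ⟨U, hU⟩
  haveI : IsNoetherianRing Γ(X, V) := IsLocallyNoetherian.component_noetherian ⟨V, hV⟩
  refine LocFlatCrit.flat_stalkMap_of_flat_quotients f hU hV hVU (I.ideal ⟨U, hU⟩) ?_ x hxV ?_ x
    specializes_rfl
  · letI := (f.appLE U V hVU).hom.toAlgebra
    intro k
    rcases k with _ | n
    · haveI : Subsingleton (Γ(S, U) ⧸ I.ideal ⟨U, hU⟩ ^ 0) := by
        rw [pow_zero, Ideal.one_eq_top]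
        exact Ideal.Quotient.subsingleton_iff.mpr rfl
      haveI : Subsingleton ((Γ(S, U) ⧸ I.ideal ⟨U, hU⟩ ^ 0) ⊗[Γ(S, U)] Γ(X, V)) :=
        Module.subsingleton (Γ(S, U) ⧸ I.ideal ⟨U, hU⟩ ^ 0) _
      infer_instance
    · haveI := h n
      exact flat_chart f (I ^ (n + 1)) hU hV hVU
  · have h1 : f x ∈ S.zeroLocus (U := U) (I.ideal ⟨U, hU⟩) :=
      (Scheme.IdealSheafData.mem_support_iff_of_mem (U := ⟨U, hU⟩) hfxU).mp hx
    have h2 : hU.primeIdealOf ⟨f x, hVU hxV⟩ ∈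
        hU.fromSpec ⁻¹' S.zeroLocus (U := U) (I.ideal ⟨U, hU⟩) := by
      show hU.fromSpec (hU.primeIdealOf ⟨f x, hVU hxV⟩) ∈
        S.zeroLocus (U := U) (I.ideal ⟨U, hU⟩)
      rw [hU.fromSpec_primeIdealOf ⟨f x, hVU hxV⟩]
      exact h1
    rw [hU.fromSpec_preimage_zeroLocus] at h2
    exact h2

end Groth.Agent.Helper3.LocFlatSch
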