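import Mathlib
import Groth.Prelude
import Groth.Agent.Helper3.LocPropB
import Groth.Agent.Helper5.CurveVal

set_option autoImplicit false
set_option linter.style.haveILetI false
set_option linter.unusedSectionVars false
set_option linter.unusedVariables false
set_option linter.deprecated false
set_option linter.style.haveILetI false
set_option linter.unusedSectionVars false
set_option linter.unusedVariables false

universe u

open CategoryTheory CategoryTheory.Limits AlgebraicGeometry TopologicalSpace Opposite IsLocalRing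

namespace Groth.Agent.Helper3.LocPropC

open Groth.Agent.Helper3.LocPropA Groth.Agent.Helper5.VcCenter

/-- all points of the spectrum of a local ring map into any open containing the image of the closed
point -/
theorem range_subset_of_closedPoint_mem {Y : Scheme.{u}} {R : Type u} [CommRing R] [IsLocalRing R]
    (g : Spec (.of R) ⟶ Y) (V : Y.Opens) (h : g (closedPoint R) ∈ V) :
    Set.range g ⊆ Set.range V.ι := by
  rintro _ ⟨z, rfl⟩
  rw [Scheme.Opens.range_ι]
  have hz : z ⤳ closedPoint R := IsLocalRing.specializes_closedPoint z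
  exact (hz.map g.continuous).mem_open V.isOpen h

/-- two morphisms from the spectrum of a valuation ring with the same closed point image and the
same generic restriction coincide (no separatedness needed). -/
theorem eq_of_generic_eq {Y : Scheme.{u}} {K : Type u} [Field K] (R : ValuationSubring K)
    (g₁ g₂ : Spec (.of R) ⟶ Y) (hc : g₁ (closedPoint R) = g₂ (closedPoint R))
    (hgen : Spec.map (CommRingCat.ofHom (algebraMap R K)) ≫ g₁ =
      Spec.map (CommRingCat.ofHom (algebraMap R K)) ≫ g₂) : g₁ = g₂ := by
  obtain ⟨V, hV, hyV⟩ : ∃ V : Y.Opens, IsAffineOpen V ∧ g₁ (closedPoint R) ∈ V := by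
    obtain ⟨_, ⟨V, hV, rfl⟩, hyV, -⟩ :=
      Y.isBasis_affineOpens.exists_subset_of_mem_open (Set.mem_univ (g₁ (closedPoint R)))
        isOpen_univ
    exact ⟨V, hV, hyV⟩
  haveI : IsAffine V.toScheme := hV
  have h1 := range_subset_of_closedPoint_mem g₁ V hyV
  have h2 := range_subset_of_closedPoint_mem g₂ V (hc ▸ hyV)
  let g₁' : Spec (.of R) ⟶ V.toScheme := IsOpenImmersion.lift V.ι g₁ h1
  let g₂' : Spec (.of R) ⟶ V.toScheme := IsOpenImmersion.lift V.ι g₂ h2
  have e1 : g₁' ≫ V.ι = g₁ := IsOpenImmersion.lift_fac _ _ _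
  have e2 : g₂' ≫ V.ι = g₂ := IsOpenImmersion.lift_fac _ _ _
  have : g₁' = g₂' := by
    apply eq_of_isSeparated (Z := V.toScheme) R K
    rw [← cancel_mono V.ι, Category.assoc, Category.assoc, e1, e2, hgen]
  rw [← e1, ← e2, this]

/-- existence of lifts for morphisms proper near the image of the closed point -/
theorem exists_lift_of_isProper_restrict {X Y : Scheme.{u}} (f : X ⟶ Y) (U : Y.Opens)
    [IsProper (f ∣_ U)] {K : Type u} [Field K] (R : ValuationSubring K)
    (φ : Spec (.of K) ⟶ X) (g : Spec (.of R) ⟶ Y) (hg : g (closedPoint R) ∈ U)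
    (hsq : Spec.map (CommRingCat.ofHom (algebraMap R K)) ≫ g = φ ≫ f) :
    ∃ l : Spec (.of R) ⟶ X, l ≫ f = g ∧
      Spec.map (CommRingCat.ofHom (algebraMap R K)) ≫ l = φ := by
  have h1 := range_subset_of_closedPoint_mem g U hg
  let g' : Spec (.of R) ⟶ U.toScheme := IsOpenImmersion.lift U.ι g h1
  have e1 : g' ≫ U.ι = g := IsOpenImmersion.lift_fac _ _ _
  have h2 : Set.range φ ⊆ Set.range (f ⁻¹ᵁ U).ι := by
    rintro _ ⟨z, rfl⟩
    rw [Scheme.Opens.range_ι]
    show f (φ z) ∈ U
    rw [← Scheme.Hom.comp_apply, ← hsq, Scheme.Hom.comp_apply]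
    have := h1 ⟨Spec.map (CommRingCat.ofHom (algebraMap R K)) z, rfl⟩
    rwa [Scheme.Opens.range_ι] at this
  let φ' : Spec (.of K) ⟶ (f ⁻¹ᵁ U).toScheme := IsOpenImmersion.lift (f ⁻¹ᵁ U).ι φ h2
  have e2 : φ' ≫ (f ⁻¹ᵁ U).ι = φ := IsOpenImmersion.lift_fac _ _ _
  have hv : ValuativeCriterion (f ∣_ U) := by
    have : IsProper (f ∣_ U) := inferInstance
    rw [IsProper.eq_valuativeCriterion] at this
    exact this.1.1.1
  let S : ValuativeCommSq (f ∣_ U) :=
    { R := R, K := K, i₁ := φ', i₂ := g', commSq := ⟨by
        rw [← cancel_mono U.ι, Category.assoc, Category.assoc, morphismRestrict_ι, e1,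
          ← Category.assoc, e2, hsq]⟩ }
  obtain ⟨⟨l, hl1, hl2⟩⟩ := (hv.existence S).exists_lift
  refine ⟨l ≫ (f ⁻¹ᵁ U).ι, ?_, ?_⟩
  · rw [Category.assoc, ← morphismRestrict_ι, ← Category.assoc]
    erw [hl2]
    exact e1
  · rw [← Category.assoc]
    erw [hl1]
    exact e2

/-- the centre of a valuation ring of the function field given by a morphism -/
theorem dom_of_lift {X : Scheme.{u}} [IsIntegral X] (R : ValuationSubring X.functionField)
    (l : Spec (.of R) ⟶ X)
    (hl : Spec.map (CommRingCat.ofHom (algebraMap R X.functionField)) ≫ l =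
      X.fromSpecStalk (genericPoint X)) :
    Dom R (l (closedPoint R))
      (X.presheaf.stalkSpecializes (genericPoint_specializes (l (closedPoint R)))).hom := by
  have hsp : (X.fromSpecStalk (genericPoint X)) (closedPoint X.functionField) ⤳
      l (closedPoint R) := by
    rw [Scheme.fromSpecStalk_closedPoint]
    exact genericPoint_specializes _
  have hsq2 := Groth.Agent.Helper5.CurveVal.triangle_ring R X.functionField
    (X.fromSpecStalk (genericPoint X)) l hl.symm hsp
  rw [Scheme.stalkClosedPointTo_fromSpecStalk, TopCat.Presheaf.stalkCongr_hom,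
    TopCat.Presheaf.stalkSpecializes_comp] at hsq2
  have hψ : ∀ a : X.presheaf.stalk (l (closedPoint R)),
      (X.presheaf.stalkSpecializes (genericPoint_specializes (l (closedPoint R)))).hom a =
        ((Scheme.stalkClosedPointTo l).hom a : X.functionField) := by
    intro a
    exact congrArg (fun g => g.hom a) hsq2
  haveI hloc : IsLocalHom (Scheme.stalkClosedPointTo l).hom :=
    Scheme.isLocalHom_stalkClosedPointTo' l
  refine ⟨fun a => ?_, fun a ha => ?_⟩
  · rw [hψ]; exact ((Scheme.stalkClosedPointTo l).hom a).2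
  · rw [hψ]
    apply (R.valuation_lt_one_iff _).1
    rw [mem_maximalIdeal]
    intro hu
    exact (mem_maximalIdeal _).1 ha (hloc.map_nonunit a hu)

/-- the generic point square -/
theorem sq_generic {X Y : Scheme.{u}} [IsIntegral X] (f : X ⟶ Y) (y : Y)
    (hξ : f (genericPoint X) ⤳ y) :
    X.fromSpecStalk (genericPoint X) ≫ f =
      Spec.map (Y.presheaf.stalkSpecializes hξ ≫ f.stalkMap (genericPoint X)) ≫
        Y.fromSpecStalk y := by
  rw [Spec.map_comp, Category.assoc, Scheme.SpecMap_stalkSpecializes_fromSpecStalk,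
    Scheme.SpecMap_stalkMap_fromSpecStalk]

theorem val_lt_one_iff {K : Type*} [Field K] (A : ValuationSubring K) (z : K) :
    A.valuation z < 1 ↔ z = 0 ∨ z⁻¹ ∉ A := by
  by_cases hz : z = 0
  · subst hz
    simp
  · rw [← not_le, Valuation.one_le_val_iff _ hz, A.valuation_le_one_iff]
    simp [hz]

theorem val_comap_lt_one_iff {K L : Type*} [Field K] [Field L] (A : ValuationSubring L)
    (ι : K →+* L) (z : K) : (A.comap ι).valuation z < 1 ↔ A.valuation (ι z) < 1 := by
  rw [val_lt_one_iff, val_lt_one_iff, ValuationSubring.mem_comap, map_inv₀, map_eq_zero]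

/-- the comap of a discrete valuation subring under a bijective ring map is discrete -/
theorem isDVR_comap {K L : Type*} [Field K] [Field L] (A : ValuationSubring L)
    [IsDiscreteValuationRing A] (ι : K →+* L) (hι : Function.Bijective ι) :
    IsDiscreteValuationRing (A.comap ι) := by
  let e : K ≃+* L := RingEquiv.ofBijective ι hι
  let e' : (A.comap ι) ≃+* A :=
    { toFun := fun z => ⟨ι z.1, z.2⟩
      invFun := fun w => ⟨e.symm w.1, by
        rw [ValuationSubring.mem_comap]
        have : ι (e.symm w.1) = w.1 := e.apply_symm_apply w.1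
        rw [this]; exact w.2⟩
      left_inv := fun z => Subtype.ext (e.symm_apply_apply z.1)
      right_inv := fun w => Subtype.ext (e.apply_symm_apply w.1)
      map_mul' := fun a b => Subtype.ext (map_mul ι a.1 b.1)
      map_add' := fun a b => Subtype.ext (map_add ι a.1 b.1) }
  exact IsDiscreteValuationRing.RingEquivClass.isDiscreteValuationRing e'.symm

end Groth.Agent.Helper3.LocPropC
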