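import Mathlib
import Groth.Prelude
import Groth.Agent.Helper3.LocPropC

set_option autoImplicit false
set_option linter.style.haveILetI false
set_option linter.unusedSectionVars false
set_option linter.unusedVariables false
set_option linter.deprecated false
set_option linter.style.haveILetI false
set_option linter.unusedSectionVars false
set_option linter.unusedVariables false

universe u

open CategoryTheory CategoryTheory.Limits AlgebraicGeometry TopologicalSpace Opposite IsLocalRing

namespace Groth.Agent.Helper3.LocPropD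

open Groth.Agent.Helper3.LocPropA Groth.Agent.Helper3.LocPropB Groth.Agent.Helper3.LocPropC
  Groth.Agent.Helper5.VcCenter

theorem forward {X Y : Scheme.{u}} [IsIntegral X] (f : X ⟶ Y) (y : Y)
    (hξ : f (genericPoint X) ⤳ y) (U : Y.Opens) (hyU : y ∈ U) [IsProper (f ∣_ U)]
    (A : ValuationSubring X.functionField)
    (hdom : Dom A y (Y.presheaf.stalkSpecializes hξ ≫ f.stalkMap (genericPoint X)).hom) :
    ∃ x : X, f x = y ∧
      Dom A x (X.presheaf.stalkSpecializes (genericPoint_specializes x)).hom := by
  have hgc := hdom.hom_closedPoint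
  have hgen := hdom.generic_hom
  have hsq : Spec.map (CommRingCat.ofHom (algebraMap A X.functionField)) ≫ hdom.hom =
      X.fromSpecStalk (genericPoint X) ≫ f := by
    rw [hgen, sq_generic f y hξ]
    rfl
  obtain ⟨l, hl1, hl2⟩ := exists_lift_of_isProper_restrict f U A
    (X.fromSpecStalk (genericPoint X)) hdom.hom (by rw [hgc]; exact hyU) hsq
  refine ⟨l (closedPoint A), ?_, dom_of_lift A l hl2⟩
  rw [← Scheme.Hom.comp_apply, hl1, hgc]

theorem backward {X Y : Scheme.{u}} [IsIntegral X] [IsLocallyNoetherian Y] (f : X ⟶ Y)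
    [IsSeparated f] [LocallyOfFiniteType f] [QuasiCompact f] (y : Y)
    (hξ : f (genericPoint X) ⤳ y)
    (H : ∀ A : ValuationSubring X.functionField, IsDiscreteValuationRing A →
      Dom A y (Y.presheaf.stalkSpecializes hξ ≫ f.stalkMap (genericPoint X)).hom →
      ∃ x : X, f x = y ∧
        Dom A x (X.presheaf.stalkSpecializes (genericPoint_specializes x)).hom) :
    ∃ U : Y.Opens, y ∈ U ∧ IsProper (f ∣_ U) := by
  apply core f y
  intro K _ R hR φ g hφ hmax hgy hsq
  haveI := hR
  have hpt : φ (closedPoint K) = genericPoint X :=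
    (hmax (genericPoint X) (genericPoint_specializes _)).symm
  -- the field isomorphism
  let eX : X.presheaf.stalk (genericPoint X) ≅ X.presheaf.stalk (φ (closedPoint K)) :=
    X.presheaf.stalkCongr (Inseparable.of_eq hpt.symm)
  let ι : X.presheaf.stalk (genericPoint X) ⟶ CommRingCat.of K :=
    eX.hom ≫ Scheme.stalkClosedPointTo φ
  have hφι : φ = Spec.map ι ≫ X.fromSpecStalk (genericPoint X) := by
    simp only [ι, eX, Spec.map_comp, Category.assoc, TopCat.Presheaf.stalkCongr_hom]
    rw [Scheme.SpecMap_stalkSpecializes_fromSpecStalk, Scheme.Spec_stalkClosedPointTo_fromSpecStalk]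
  have hιbij : Function.Bijective ι.hom := by
    refine ⟨(ι.hom : X.functionField →+* K).injective, ?_⟩
    have h1 : Function.Surjective eX.hom.hom := by
      intro z
      exact ⟨eX.inv.hom z, by
        rw [← CommRingCat.comp_apply, Iso.inv_hom_id]; rfl⟩
    have h2 : Function.Surjective (Scheme.stalkClosedPointTo φ).hom := by
      have h3 : Function.Surjective (φ.stalkMap (closedPoint K)).hom :=
        φ.stalkMap_surjective (closedPoint K)
      have h4 : Function.Surjective (stalkClosedPointIso (CommRingCat.of K)).hom.hom := by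
        intro z
        exact ⟨(stalkClosedPointIso (CommRingCat.of K)).inv.hom z, by
          rw [← CommRingCat.comp_apply, Iso.inv_hom_id]; rfl⟩
      exact h4.comp h3
    exact h2.comp h1
  let A : ValuationSubring X.functionField := R.comap ι.hom
  have hA : IsDiscreteValuationRing A := isDVR_comap R ι.hom hιbij
  -- `g` through the local ring at `y`
  let eY : Y.presheaf.stalk y ≅ Y.presheaf.stalk (g (closedPoint R)) :=
    Y.presheaf.stalkCongr (Inseparable.of_eq hgy.symm)
  let γ : Y.presheaf.stalk y ⟶ CommRingCat.of R := eY.hom ≫ Scheme.stalkClosedPointTo g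
  have hgγ : g = Spec.map γ ≫ Y.fromSpecStalk y := by
    simp only [γ, eY, Spec.map_comp, Category.assoc, TopCat.Presheaf.stalkCongr_hom]
    rw [Scheme.SpecMap_stalkSpecializes_fromSpecStalk, Scheme.Spec_stalkClosedPointTo_fromSpecStalk]
  haveI hγloc : IsLocalHom γ.hom := by
    haveI : IsLocalHom (Scheme.stalkClosedPointTo g).hom :=
      Scheme.isLocalHom_stalkClosedPointTo' g
    haveI : IsLocalHom eY.hom.hom := isLocalHom_of_isIso _
    exact CommRingCat.isLocalHom_comp _ _
  let β : Y.presheaf.stalk y ⟶ X.presheaf.stalk (genericPoint X) :=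
    Y.presheaf.stalkSpecializes hξ ≫ f.stalkMap (genericPoint X)
  -- compatibility `ι ∘ β = incl ∘ γ`
  have hcompat : β ≫ ι = γ ≫ CommRingCat.ofHom (algebraMap R K) := by
    rw [← Spec.map_inj, ← cancel_mono (Y.fromSpecStalk y)]
    simp only [Spec.map_comp, Category.assoc]
    rw [← hgγ, hsq, hφι, Category.assoc, sq_generic f y hξ]
  have hcompat' : ∀ a : Y.presheaf.stalk y, ι.hom (β.hom a) = ((γ.hom a : R) : K) := by
    intro a
    exact congrArg (fun q => q.hom a) hcompat
  have hdomA : Dom A y β.hom := by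
    refine ⟨fun a => ?_, fun a ha => ?_⟩
    · show β.hom a ∈ R.comap ι.hom
      rw [ValuationSubring.mem_comap, hcompat']
      exact (γ.hom a).2
    · show (R.comap ι.hom).valuation (β.hom a) < 1
      rw [val_comap_lt_one_iff, hcompat']
      apply (R.valuation_lt_one_iff _).1
      rw [mem_maximalIdeal] at ha ⊢
      intro hu
      exact ha (hγloc.map_nonunit a hu)
  obtain ⟨x, hfx, hdomx⟩ := H A hA hdomA
  let σ : X.presheaf.stalk x ⟶ X.presheaf.stalk (genericPoint X) :=
    X.presheaf.stalkSpecializes (genericPoint_specializes x)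
  let α' : X.presheaf.stalk x →+* K := (σ ≫ ι).hom
  have hα' : ∀ a, α' a = ι.hom (σ.hom a) := fun a => rfl
  have hdomR : Dom R x α' := by
    refine ⟨fun a => ?_, fun a ha => ?_⟩
    · rw [hα']
      exact ValuationSubring.mem_comap.1 (hdomx.1 a)
    · rw [hα', ← val_comap_lt_one_iff]
      exact hdomx.2 a ha
  have hl2 : Spec.map (CommRingCat.ofHom (algebraMap R K)) ≫ hdomR.hom = φ := by
    rw [hdomR.generic_hom, hφι]
    have : CommRingCat.ofHom α' = σ ≫ ι := rfl
    rw [this, Spec.map_comp, Category.assoc, Scheme.SpecMap_stalkSpecializes_fromSpecStalk]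
  refine ⟨hdomR.hom, ?_, hl2⟩
  apply eq_of_generic_eq R
  · rw [Scheme.Hom.comp_apply, hdomR.hom_closedPoint, hfx, hgy]
  · rw [← Category.assoc, hl2, hsq]

theorem main {X Y : Scheme.{u}} [IsIntegral X] [IsLocallyNoetherian Y]
    (f : X ⟶ Y) [IsSeparated f] [LocallyOfFiniteType f] [QuasiCompact f] (y : Y)
    (hξ : f.base (genericPoint X) ⤳ y) :
    (∃ U : Y.Opens, y ∈ U ∧ IsProper (f ∣_ U)) ↔
      ∀ A : ValuationSubring X.functionField, IsDiscreteValuationRing A →
        (∀ r : Y.presheaf.stalk y, A.valuation ((Y.presheaf.stalkSpecializes hξ ≫ f.stalkMap (genericPoint X)) r) ≤ 1) →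
        (∀ r ∈ IsLocalRing.maximalIdeal (Y.presheaf.stalk y),
            A.valuation ((Y.presheaf.stalkSpecializes hξ ≫ f.stalkMap (genericPoint X)) r) < 1) →
        ∃ x : X, f.base x = y ∧
          (∀ r : X.presheaf.stalk x, A.valuation (X.presheaf.stalkSpecializes (genericPoint_specializes x) r) ≤ 1) ∧
          (∀ r ∈ IsLocalRing.maximalIdeal (X.presheaf.stalk x),
            A.valuation (X.presheaf.stalkSpecializes (genericPoint_specializes x) r) < 1) := by
  constructor
  · rintro ⟨U, hyU, hprop⟩ A hA h1 h2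
    haveI := hprop
    have hdom : Dom A y (Y.presheaf.stalkSpecializes hξ ≫ f.stalkMap (genericPoint X)).hom :=
      ⟨fun r => (A.valuation_le_one_iff _).1 (h1 r), h2⟩
    obtain ⟨x, hx, hd⟩ := forward f y hξ U hyU A hdom
    exact ⟨x, hx, fun r => (A.valuation_le_one_iff _).2 (hd.1 r), hd.2⟩
  · intro H
    apply backward f y hξ
    intro A hA hdom
    obtain ⟨x, hx, h1, h2⟩ := H A hA (fun r => (A.valuation_le_one_iff _).2 (hdom.1 r)) hdom.2
    exact ⟨x, hx, fun r => (A.valuation_le_one_iff _).1 (h1 r), h2⟩

end Groth.Agent.Helper3.LocPropD
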