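import Mathlib
import Groth.Prelude
import Groth.Agent.Helper3.LocPropG

set_option autoImplicit false
set_option linter.style.haveILetI false
set_option linter.unusedSectionVars false
set_option linter.unusedVariables false
set_option linter.deprecated false
set_option linter.style.haveILetI false
set_option linter.unusedSectionVars false
set_option linter.unusedVariables false

universe u

open CategoryTheory CategoryTheory.Limits AlgebraicGeometry TopologicalSpace Opposite IsLocalRing

namespace Groth.Agent.Helper3.LocPropH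

open Groth.Agent.Helper3.LocPropA Groth.Agent.Helper3.LocPropB Groth.Agent.Helper3.LocPropE
  Groth.Agent.Helper3.LocPropF Groth.Agent.Helper3.LocPropG

/-- Over a complete DVR: a separated f.t. morphism which is a topological quotient map, with proper
closed fibre and connected generic fibre, lifts points of the generic fibre. -/
theorem dvr_lift_quot (A : Type u) [CommRing A] [IsDomain A] [IsDiscreteValuationRing A]
    [IsAdicComplete (maximalIdeal A) A] (K : Type u) [Field K] [Algebra A K] [IsFractionRing A K]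
    {XA : Scheme.{u}} (fA : XA ⟶ Spec (CommRingCat.of A)) [IsSeparated fA]
    [LocallyOfFiniteType fA] [QuasiCompact fA] (hq : Topology.IsQuotientMap fA)
    (F : Scheme.{u}) (i : F ⟶ XA) (hi : Set.range i = fA ⁻¹' {closedPoint A}) [IsProper (i ≫ fA)]
    (t₀ : Spec (CommRingCat.of A)) (ht₀ : PrimeSpectrum.asIdeal t₀ = ⊥)
    (hconn : _root_.IsPreconnected (fA ⁻¹' {t₀}))
    (φA : Spec (.of K) ⟶ XA)
    (hφA : φA ≫ fA = Spec.map (CommRingCat.ofHom (algebraMap A K))) :
    ∃ l : Spec (.of A) ⟶ XA, l ≫ fA = 𝟙 _ ∧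
      Spec.map (CommRingCat.ofHom (algebraMap A K)) ≫ l = φA := by
  set a : Spec (CommRingCat.of A) := closedPoint A with ha
  have hta : t₀ ≠ a := by
    intro h
    have h1 : maximalIdeal A = ⊥ := by
      rw [← ht₀, h]; rfl
    exact IsDiscreteValuationRing.not_a_field A h1
  have hpts : ∀ t : Spec (CommRingCat.of A), t = a ∨ t = t₀ := by
    intro t
    by_cases h : t = a
    · exact Or.inl h
    · exact Or.inr (PrimeSpectrum.ext ((eq_bot_of_ne_closedPoint A t h).trans ht₀.symm))
  haveI : IsNoetherian (Spec (CommRingCat.of A)) := inferInstance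
  haveI : IsNoetherian XA :=
    { toIsLocallyNoetherian := LocallyOfFiniteType.isLocallyNoetherian fA
      toCompactSpace := QuasiCompact.compactSpace_of_compactSpace fA }
  -- the open generic fibre
  have hDopen : IsOpen ({a}ᶜ : Set (Spec (CommRingCat.of A))) :=
    (IsLocalRing.isClosed_singleton_closedPoint A).isOpen_compl
  let W : XA.Opens := fA ⁻¹ᵁ ⟨{a}ᶜ, hDopen⟩
  have hW : (W : Set XA) = fA ⁻¹' {t₀} := by
    ext x
    show fA x ∈ ({a}ᶜ : Set _) ↔ fA x ∈ ({t₀} : Set _)
    simp only [Set.mem_compl_iff, Set.mem_singleton_iff]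
    constructor
    · intro h; exact (hpts _).resolve_left h
    · intro h; rw [h]; exact hta
  haveI : QuasiCompact W.ι := inferInstance
  let X₁ : Scheme.{u} := W.ι.image
  let c₁ : X₁ ⟶ XA := W.ι.imageι
  let j₁ : W.toScheme ⟶ X₁ := W.ι.toImage
  have hj₁c₁ : j₁ ≫ c₁ = W.ι := W.ι.toImage_imageι
  haveI : IsOpenImmersion j₁ := inferInstance
  have hj₁dense : Dense (Set.range j₁) := W.ι.toImage.denseRange
  let f₁ : X₁ ⟶ Spec (CommRingCat.of A) := c₁ ≫ fA
  haveI : IsNoetherian X₁ :=
    { toIsLocallyNoetherian := LocallyOfFiniteType.isLocallyNoetherian f₁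
      toCompactSpace := QuasiCompact.compactSpace_of_compactSpace f₁ }
  have hrc₁ : Set.range c₁ = closure (W : Set XA) := by
    show Set.range W.ι.ker.subschemeι = _
    rw [Scheme.IdealSheafData.range_subschemeι, Scheme.Hom.support_ker, Scheme.Opens.range_ι]
  have hf₁j₁ : ∀ w : W.toScheme, f₁ (j₁ w) = t₀ := by
    intro w
    have h1 : f₁ (j₁ w) = fA (W.ι w) := by
      rw [← hj₁c₁]; rfl
    rw [h1]
    have : (W.ι w) ∈ (W : Set XA) := w.2
    rw [hW] at this
    exact this
  -- generizing
  have hgen₁ : GeneralizingMap f₁ := by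
    intro x₁ t ht
    rcases hpts t with rfl | rfl
    · have : f₁ x₁ = a := by
        have h1 : IsClosed ({a} : Set (Spec (CommRingCat.of A))) :=
          IsLocalRing.isClosed_singleton_closedPoint A
        have := ht.mem_closed h1 rfl
        exact this
      exact ⟨x₁, specializes_rfl, this⟩
    · obtain ⟨ζ, hζ, hζx⟩ := exists_genericPoints_specializes x₁
      have hζj : ζ ∈ Set.range j₁ :=
        Groth.Agent.Helper3.ComplCurve.genericPoints_subset_of_dense _
          j₁.isOpenEmbedding.isOpen_range hj₁dense hζ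
      obtain ⟨w, rfl⟩ := hζj
      exact ⟨j₁ w, hζx, hf₁j₁ w⟩
  -- closed fibre
  let F₁ : Scheme.{u} := pullback c₁ i
  let i₁ : F₁ ⟶ X₁ := pullback.fst c₁ i
  have hi₁ : Set.range i₁ = f₁ ⁻¹' {a} := by
    rw [Scheme.Pullback.range_fst, hi]
    rfl
  haveI : IsProper (i₁ ≫ f₁) := by
    have : i₁ ≫ f₁ = pullback.snd c₁ i ≫ (i ≫ fA) := by
      simp only [i₁, f₁]
      rw [← Category.assoc, pullback.condition, Category.assoc]
    rw [this]
    infer_instance
  -- nonempty closed fibre
  have hne₁ : ∃ x₁, f₁ x₁ = a := by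
    by_contra hcon
    push Not at hcon
    have hsub : closure (W : Set XA) ⊆ (W : Set XA) := by
      rw [← hrc₁]
      rintro _ ⟨x₁, rfl⟩
      rw [hW]
      exact (hpts (f₁ x₁)).resolve_left (hcon x₁)
    have hWcl : IsClosed (W : Set XA) := closure_subset_iff_isClosed.1 hsub
    have hpre : fA ⁻¹' {a} = (W : Set XA)ᶜ := by
      ext x
      rw [hW]
      simp only [Set.mem_preimage, Set.mem_singleton_iff, Set.mem_compl_iff]
      constructor
      · intro h h'; exact hta (h'.symm.trans h)
      · intro h; exact (hpts _).resolve_right h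
    have hopen : IsOpen ({a} : Set (Spec (CommRingCat.of A))) := by
      rw [← hq.isOpen_preimage, hpre]
      exact hWcl.isOpen_compl
    have hsp : t₀ ⤳ a := IsLocalRing.specializes_closedPoint t₀
    exact hta (hsp.mem_open hopen rfl)
  -- connected generic fibre
  have hconn₁ : _root_.IsPreconnected (f₁ ⁻¹' {t₀}) := by
    have himg : c₁ '' (f₁ ⁻¹' {t₀}) = fA ⁻¹' {t₀} := by
      ext x
      constructor
      · rintro ⟨x₁, hx₁, rfl⟩
        exact hx₁
      · intro hx
        have hxW : x ∈ (W : Set XA) := by rw [hW]; exact hx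
        have : x ∈ Set.range c₁ := by rw [hrc₁]; exact subset_closure hxW
        obtain ⟨x₁, rfl⟩ := this
        exact ⟨x₁, hx, rfl⟩
    rw [← c₁.isEmbedding.isInducing.isPreconnected_image, himg]
    exact hconn
  haveI : IsProper f₁ := proper_of_complete_dvr A f₁ hgen₁ F₁ i₁ hi₁ hne₁ t₀ ht₀ hconn₁
  -- lift
  have hφW : Set.range φA ⊆ Set.range W.ι := by
    rintro _ ⟨z, rfl⟩
    rw [Scheme.Opens.range_ι, hW]
    show fA (φA z) = t₀
    rw [← Scheme.Hom.comp_apply, hφA]
    have : z = closedPoint K := Subsingleton.elim _ _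
    rw [this]
    exact PrimeSpectrum.ext ((asIdeal_generic A K).trans ht₀.symm)
  let φW : Spec (.of K) ⟶ W.toScheme := IsOpenImmersion.lift W.ι φA hφW
  have hφWι : φW ≫ W.ι = φA := IsOpenImmersion.lift_fac _ _ _
  let φ₁ : Spec (.of K) ⟶ X₁ := φW ≫ j₁
  have hφ₁ : φ₁ ≫ c₁ = φA := by
    simp only [φ₁, Category.assoc]
    rw [hj₁c₁, hφWι]
  have hv : ValuativeCriterion f₁ := by
    have : IsProper f₁ := inferInstance
    rw [IsProper.eq_valuativeCriterion] at this
    exact this.1.1.1
  let S' : ValuativeCommSq f₁ :=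
    { R := A, K := K, i₁ := φ₁, i₂ := 𝟙 _, commSq := ⟨by
        simp only [f₁]
        rw [← Category.assoc, hφ₁, hφA, Category.comp_id]⟩ }
  obtain ⟨⟨l, hl1, hl2⟩⟩ := (hv.existence S').exists_lift
  refine ⟨l ≫ c₁, ?_, ?_⟩
  · rw [Category.assoc]
    exact hl2
  · rw [← Category.assoc]
    erw [hl1]
    exact hφ₁

/-- S2569 -/
theorem proper_nhd_of_subm {X Y : Scheme.{u}} [IsLocallyNoetherian Y] (f : X ⟶ Y)
    [IsSeparated f] [LocallyOfFiniteType f] [QuasiCompact f]
    (hsub : MorphismProperty.universally (topologically fun g => Topology.IsQuotientMap g) f)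
    (hconn : ∀ y : Y, GeometricallyConnected (f.fiberToSpecResidueField y))
    (y : Y) (hy : IsProper (f.fiberToSpecResidueField y)) :
    ∃ U : Y.Opens, y ∈ U ∧ IsProper (f ∣_ U) := by
  apply core_C f y
  intro A _ _ _ _ K _ _ _ φ g hmax hgy hsq
  subst hgy
  let fA : pullback f g ⟶ Spec (.of A) := pullback.snd f g
  have hsqP := IsPullback.of_hasPullback f g
  have hq : Topology.IsQuotientMap fA := hsub (pullback.fst f g) g fA hsqP.flip
  set a : Spec (.of A) := closedPoint A with ha
  haveI : IsProper (fA.fiberToSpecResidueField a) :=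
    MorphismProperty.of_isPullback
      (isPullback_fiberToSpecResidueField_of_isPullback hsqP a) hy
  haveI := isClosedImmersion_fromSpecResidueField_closedPoint A
  haveI : IsProper (fA.fiberι a ≫ fA) := by
    rw [Scheme.Hom.fiber_fac]
    infer_instance
  let t₀ : Spec (.of A) := Spec.map (CommRingCat.ofHom (algebraMap A K)) (closedPoint K)
  have ht₀ : PrimeSpectrum.asIdeal t₀ = ⊥ := asIdeal_generic A K
  have hconn' : _root_.IsPreconnected (fA ⁻¹' {t₀}) := by
    haveI : GeometricallyConnected (fA.fiberToSpecResidueField t₀) :=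
      MorphismProperty.of_isPullback
        (isPullback_fiberToSpecResidueField_of_isPullback hsqP t₀) (hconn (g t₀))
    haveI : ConnectedSpace (fA.fiber t₀) :=
      GeometricallyConnected.connectedSpace_of_subsingleton
        (f := fA.fiberToSpecResidueField t₀)
    rw [← fA.range_fiberι t₀]
    exact isPreconnected_range (fA.fiberι t₀).continuous
  let φA : Spec (.of K) ⟶ pullback f g :=
    pullback.lift φ (Spec.map (CommRingCat.ofHom (algebraMap A K))) hsq.symm
  have hφA : φA ≫ fA = Spec.map (CommRingCat.ofHom (algebraMap A K)) := pullback.lift_snd _ _ _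
  obtain ⟨l, hl1, hl2⟩ := dvr_lift_quot A K fA hq (fA.fiber a) (fA.fiberι a) (fA.range_fiberι a)
    t₀ ht₀ hconn' φA hφA
  refine ⟨l ≫ pullback.fst f g, ?_, ?_⟩
  · rw [Category.assoc, pullback.condition, ← Category.assoc, hl1, Category.id_comp]
  · rw [← Category.assoc, hl2]
    exact pullback.lift_fst _ _ _

end Groth.Agent.Helper3.LocPropH
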