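import Mathlib
import Groth.Prelude
import Groth.Agent.Helper3.LocPropD
import Groth.Agent.Helper3.FibTr

set_option autoImplicit false
set_option linter.style.haveILetI false
set_option linter.unusedSectionVars false
set_option linter.unusedVariables false
set_option linter.deprecated false
set_option linter.style.haveILetI false
set_option linter.unusedSectionVars false
set_option linter.unusedVariables false

universe u

open CategoryTheory CategoryTheory.Limits AlgebraicGeometry IsLocalRing TopologicalSpace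

namespace Groth.Agent.Helper3.LocPropI

theorem isReduced_subscheme_of_radical (X : Scheme.{u}) (I : X.IdealSheafData)
    (h : I.radical = I) : IsReduced I.subscheme := by
  rw [IsReduced.iff_of_openCover (X := I.subscheme) I.subschemeCover.openCover]
  intro (U : X.affineOpens)
  change IsReduced (Spec (CommRingCat.of (Γ(X, U) ⧸ I.ideal U)))
  rw [affine_isReduced_iff]
  have h2 : (I.ideal U).IsRadical := by
    have := congrArg (fun J : X.IdealSheafData => J.ideal U) h
    exact Ideal.radical_eq_iff.mp this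
  exact (Ideal.isRadical_iff_quotient_reduced _).mp h2

theorem isReduced_vanishingIdeal_subscheme {X : Scheme.{u}} (C : Closeds X) :
    IsReduced (Scheme.IdealSheafData.vanishingIdeal C).subscheme := by
  apply isReduced_subscheme_of_radical
  have hs : (Scheme.IdealSheafData.vanishingIdeal C).support = C :=
    Closeds.ext (Scheme.IdealSheafData.coe_support_vanishingIdeal C)
  rw [← Scheme.IdealSheafData.vanishingIdeal_support, hs]

theorem ker_eq_vanishingIdeal_of_isReduced {X Y : Scheme.{u}} [IsReduced Y] (f : Y ⟶ X)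
    (Z : Closeds X) (hZ : (Z : Set X) = closure (Set.range f)) :
    f.ker = Scheme.IdealSheafData.vanishingIdeal Z := by
  have h1 : f.ker = (⊥ : Y.IdealSheafData).map f := (Scheme.IdealSheafData.map_bot f).symm
  have h2 : (⊥ : Y.IdealSheafData) = Scheme.IdealSheafData.vanishingIdeal ⊤ := by
    rw [Scheme.IdealSheafData.vanishingIdeal_top, Scheme.nilradical_eq_bot]
  rw [h1, h2, Scheme.IdealSheafData.map_vanishingIdeal]
  congr 1
  apply Closeds.ext
  rw [hZ]
  simp

/-- a morphism from a reduced scheme with range in a closed set factors through the reduced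
closed subscheme -/
theorem lift_reduced {X T : Scheme.{u}} [IsReduced T] (l : T ⟶ X) (C : Closeds X)
    (h : Set.range l ⊆ (C : Set X)) :
    ∃ l' : T ⟶ (Scheme.IdealSheafData.vanishingIdeal C).subscheme,
      l' ≫ (Scheme.IdealSheafData.vanishingIdeal C).subschemeι = l := by
  have hk : (Scheme.IdealSheafData.vanishingIdeal C).subschemeι.ker ≤ l.ker := by
    rw [Scheme.IdealSheafData.ker_subschemeι,
      ker_eq_vanishingIdeal_of_isReduced l (Closeds.closure (Set.range l)) rfl]
    apply Scheme.IdealSheafData.vanishingIdeal_antimono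
    exact Closeds.closure_le.mpr h
  exact ⟨IsClosedImmersion.lift _ l hk, IsClosedImmersion.lift_fac _ _ _⟩

/-- a closed immersion from a reduced scheme is the reduced closed subscheme on its range -/
theorem iso_reduced {T V : Scheme.{u}} [IsReduced T] (i : T ⟶ V) [IsClosedImmersion i]
    (S : Closeds V) (hS : (S : Set V) = Set.range i) :
    ∃ e : T ≅ (Scheme.IdealSheafData.vanishingIdeal S).subscheme,
      e.hom ≫ (Scheme.IdealSheafData.vanishingIdeal S).subschemeι = i := by
  have hk : i.ker = (Scheme.IdealSheafData.vanishingIdeal S).subschemeι.ker := by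
    rw [Scheme.IdealSheafData.ker_subschemeι]
    apply ker_eq_vanishingIdeal_of_isReduced
    rw [hS, i.isClosedEmbedding.isClosed_range.closure_eq]
  let e₀ := IsClosedImmersion.lift (Scheme.IdealSheafData.vanishingIdeal S).subschemeι i hk.ge
  have he₀ : e₀ ≫ (Scheme.IdealSheafData.vanishingIdeal S).subschemeι = i :=
    IsClosedImmersion.lift_fac _ _ _
  haveI : IsIso e₀ := IsClosedImmersion.isIso_of_ker_eq i _ e₀ he₀ hk
  exact ⟨asIso e₀, he₀⟩

/-- properness of the reduced trace over `U` in the two possible forms -/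
theorem isProper_iff {X Y : Scheme.{u}} (f : X ⟶ Y) (C : Closeds X) (U : Y.Opens)
    (hC : IsClosed ((f ⁻¹ᵁ U).ι.base ⁻¹' (C : Set X))) :
    IsProper ((Scheme.IdealSheafData.vanishingIdeal
        (⟨(f ⁻¹ᵁ U).ι.base ⁻¹' (C : Set X), hC⟩ : Closeds ↥(f ⁻¹ᵁ U))).subschemeι ≫ (f ∣_ U)) ↔
      IsProper (((Scheme.IdealSheafData.vanishingIdeal C).subschemeι ≫ f) ∣_ U) := by
  set ι := (Scheme.IdealSheafData.vanishingIdeal C).subschemeι with hι
  haveI : IsReduced (Scheme.IdealSheafData.vanishingIdeal C).subscheme :=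
    isReduced_vanishingIdeal_subscheme C
  have hcomp : (ι ≫ f) ∣_ U = ι ∣_ (f ⁻¹ᵁ U) ≫ f ∣_ U := morphismRestrict_comp ι f U
  have hrange : ((⟨(f ⁻¹ᵁ U).ι.base ⁻¹' (C : Set X), hC⟩ : Closeds ↥(f ⁻¹ᵁ U)) : Set ↥(f ⁻¹ᵁ U)) =
      Set.range (ι ∣_ (f ⁻¹ᵁ U)) := by
    rw [morphismRestrict_base]
    ext z
    simp only [Closeds.coe_mk, Set.mem_preimage, Set.mem_range]
    constructor
    · intro hz
      have : (z : X) ∈ Set.range ι := by
        rw [hι, Scheme.IdealSheafData.range_subschemeι,
          Scheme.IdealSheafData.coe_support_vanishingIdeal]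
        exact hz
      obtain ⟨w, hw⟩ := this
      refine ⟨⟨w, ?_⟩, ?_⟩
      · change ι w ∈ f ⁻¹ᵁ U
        rw [hw]; exact z.2
      · apply Subtype.ext
        exact hw
    · rintro ⟨w, rfl⟩
      have h0 : Set.range ι = (C : Set X) := by
        rw [hι, Scheme.IdealSheafData.range_subschemeι,
          Scheme.IdealSheafData.coe_support_vanishingIdeal]
      have : ι w.1 ∈ Set.range ι := ⟨_, rfl⟩
      rw [h0] at this
      exact this
  obtain ⟨e, he⟩ := iso_reduced (ι ∣_ (f ⁻¹ᵁ U)) _ hrange
  rw [hcomp, ← he, Category.assoc]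
  exact (MorphismProperty.cancel_left_of_respectsIso @IsProper e.hom _).symm

/-- existence of lifts for morphisms proper near the image of the closed point, abstract valuation
ring. -/
theorem exists_lift_of_isProper_restrict' {X Y : Scheme.{u}} (f : X ⟶ Y) (U : Y.Opens)
    [IsProper (f ∣_ U)] (A K : Type u) [CommRing A] [IsDomain A] [ValuationRing A] [Field K]
    [Algebra A K] [IsFractionRing A K]
    (φ : Spec (.of K) ⟶ X) (g : Spec (.of A) ⟶ Y) (hg : g (closedPoint A) ∈ U)
    (hsq : Spec.map (CommRingCat.ofHom (algebraMap A K)) ≫ g = φ ≫ f) :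
    ∃ l : Spec (.of A) ⟶ X, l ≫ f = g ∧
      Spec.map (CommRingCat.ofHom (algebraMap A K)) ≫ l = φ := by
  have h1 := LocPropC.range_subset_of_closedPoint_mem g U hg
  let g' : Spec (.of A) ⟶ U.toScheme := IsOpenImmersion.lift U.ι g h1
  have e1 : g' ≫ U.ι = g := IsOpenImmersion.lift_fac _ _ _
  have h2 : Set.range φ ⊆ Set.range (f ⁻¹ᵁ U).ι := by
    rintro _ ⟨z, rfl⟩
    rw [Scheme.Opens.range_ι]
    show f (φ z) ∈ U
    rw [← Scheme.Hom.comp_apply, ← hsq, Scheme.Hom.comp_apply]
    have := h1 ⟨Spec.map (CommRingCat.ofHom (algebraMap A K)) z, rfl⟩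
    rwa [Scheme.Opens.range_ι] at this
  let φ' : Spec (.of K) ⟶ (f ⁻¹ᵁ U).toScheme := IsOpenImmersion.lift (f ⁻¹ᵁ U).ι φ h2
  have e2 : φ' ≫ (f ⁻¹ᵁ U).ι = φ := IsOpenImmersion.lift_fac _ _ _
  have hv : ValuativeCriterion (f ∣_ U) := by
    have : IsProper (f ∣_ U) := inferInstance
    rw [IsProper.eq_valuativeCriterion] at this
    exact this.1.1.1
  let S : ValuativeCommSq (f ∣_ U) :=
    { R := A, K := K, i₁ := φ', i₂ := g', commSq := ⟨by
        rw [← cancel_mono U.ι, Category.assoc, Category.assoc, morphismRestrict_ι, e1,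
          ← Category.assoc, e2, hsq]⟩ }
  obtain ⟨⟨l, hl1, hl2⟩⟩ := (hv.existence S).exists_lift
  refine ⟨l ≫ (f ⁻¹ᵁ U).ι, ?_, ?_⟩
  · rw [Category.assoc, ← morphismRestrict_ι, ← Category.assoc]
    erw [hl2]
    exact e1
  · rw [← Category.assoc]
    erw [hl1]
    exact e2

/-- a field valued point factors through the residue field of its image point -/
theorem exists_desc {X : Scheme.{u}} {K : Type u} [Field K] (ψ : Spec (.of K) ⟶ X) (x : X)
    (h : ψ (closedPoint K) = x) :
    ∃ δ : X.residueField x ⟶ .of K, Spec.map δ ≫ X.fromSpecResidueField x = ψ := by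
  subst h
  exact ⟨_, Scheme.descResidueField_stalkClosedPointTo_fromSpecResidueField K X ψ⟩

/-- two `K`-points at a point rational over its image agree when their images agree -/
theorem eq_of_rational {X S : Scheme.{u}} (q : X ⟶ S) (x : X)
    (hρ : Function.Surjective (q.residueFieldMap x).hom)
    {K : Type u} [Field K] (ψ₁ ψ₂ : Spec (.of K) ⟶ X) (h₁ : ψ₁ (closedPoint K) = x)
    (h₂ : ψ₂ (closedPoint K) = x) (h : ψ₁ ≫ q = ψ₂ ≫ q) : ψ₁ = ψ₂ := by
  obtain ⟨δ₁, rfl⟩ := exists_desc ψ₁ x h₁
  obtain ⟨δ₂, rfl⟩ := exists_desc ψ₂ x h₂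
  rw [Category.assoc, Category.assoc,
    ← Scheme.Hom.SpecMap_residueFieldMap_fromSpecResidueField, ← Spec.map_comp_assoc,
    ← Spec.map_comp_assoc, cancel_mono, Spec.map_inj] at h
  have : δ₁ = δ₂ := by
    ext z
    obtain ⟨w, rfl⟩ := hρ z
    exact congrArg (fun t => t.hom w) h
  rw [this]

/-- the residue field at the generic point of the spectrum of a domain is its fraction field -/
theorem exists_fractionRing_residueField (A : Type u) [CommRing A] [IsDomain A]
    (t : Spec (.of A)) (ht : t = genericPoint (Spec (.of A))) :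
    ∃ a : A →+* (Spec (.of A)).residueField t,
      Spec.map (CommRingCat.ofHom a) = (Spec (.of A)).fromSpecResidueField t ∧
      Function.Injective a ∧ ∀ z, ∃ r s : A, a s ≠ 0 ∧ z = a r / a s := by
  have htbot : t.asIdeal = ⊥ := by
    rw [ht, genericPoint_eq_bot_of_affine]; rfl
  let iso := Scheme.Spec.residueFieldIso (.of A) t
  let alg : A →+* t.asIdeal.ResidueField := algebraMap A t.asIdeal.ResidueField
  let a : A →+* (Spec (.of A)).residueField t := iso.inv.hom.comp alg
  have hinv_inj : Function.Injective iso.inv.hom := by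
    have : Function.Bijective iso.inv.hom :=
      (ConcreteCategory.isIso_iff_bijective iso.inv).mp inferInstance
    exact this.1
  have halg_inj : Function.Injective alg := by
    rw [RingHom.injective_iff_ker_eq_bot, Ideal.ker_algebraMap_residueField, htbot]
  refine ⟨a, ?_, hinv_inj.comp halg_inj, ?_⟩
  · have := Scheme.Spec.map_residueFieldIso_inv_eq_fromSpecResidueField (.of A) t
    rw [← this, ← Spec.map_comp]
    rfl
  · intro z
    obtain ⟨x, y, hy, hxy⟩ := IsFractionRing.div_surjective (A := A ⧸ t.asIdeal) (iso.hom.hom z)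
    obtain ⟨r, rfl⟩ := Ideal.Quotient.mk_surjective x
    obtain ⟨s, rfl⟩ := Ideal.Quotient.mk_surjective y
    have h1 : ∀ r : A, algebraMap (A ⧸ t.asIdeal) t.asIdeal.ResidueField
        (Ideal.Quotient.mk t.asIdeal r) = alg r := fun r => rfl
    rw [h1, h1] at hxy
    have hs : alg s ≠ 0 := by
      rw [← h1]
      intro h0
      have := (IsFractionRing.injective (A ⧸ t.asIdeal) t.asIdeal.ResidueField)
        (h0.trans (map_zero _).symm)
      exact nonZeroDivisors.ne_zero hy this
    refine ⟨r, s, ?_, ?_⟩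
    · intro h0
      apply hs
      apply hinv_inj
      rw [map_zero]; exact h0
    · have hz : z = iso.inv.hom (iso.hom.hom z) := by
        change z = (iso.hom ≫ iso.inv).hom z
        rw [Iso.hom_inv_id]; rfl
      rw [hz, ← hxy, map_div₀]
      rfl

theorem bijective_desc_of_eq {R L : Type u} [CommRing R] [Field L] (ψ : R →+* L)
    (hψ : ∀ z : L, ∃ a b : R, ψ b ≠ 0 ∧ z = ψ a / ψ b)
    (j : Spec (.of L) ⟶ Spec (.of R)) (hj : j = Spec.map (CommRingCat.ofHom ψ)) :
    Function.Bijective (Scheme.descResidueField (Scheme.stalkClosedPointTo j)).hom := by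
  subst hj
  exact FibTr.bijective_desc ψ hψ

/-- (⇐) of S4978 -/
theorem backward {X Y : Scheme.{u}} [IsNoetherian Y] (f : X ⟶ Y) [IsSeparated f]
    [LocallyOfFiniteType f] [QuasiCompact f] (Z : Set X)
    (hZ : ∀ z ∈ closure Z, (∀ z' ∈ closure Z, z ∈ closure {z'} → z' = z) → z ∈ Z) (y : Y)
    (H : ∀ (A' : Type u) [CommRing A'] [IsDomain A'] [IsDiscreteValuationRing A']
        (g : Spec (CommRingCat.of A') ⟶ Y),
        g.base (IsLocalRing.closedPoint A') = y →
        ∀ x' : ↥(pullback f g), (pullback.fst f g).base x' ∈ Z →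
          (pullback.snd f g).base x' = genericPoint (Spec (CommRingCat.of A')) →
          Function.Bijective ((pullback.snd f g).residueFieldMap x').hom →
          ∃ s : Spec (CommRingCat.of A') ⟶ pullback f g, s ≫ pullback.snd f g = 𝟙 _ ∧
            x' ∈ Set.range s.base) :
    LocPropA.Hyp ((Scheme.IdealSheafData.vanishingIdeal
      (⟨closure Z, isClosed_closure⟩ : Closeds X)).subschemeι ≫ f) y := by
  set C : Closeds X := ⟨closure Z, isClosed_closure⟩ with hCdef
  set ι := (Scheme.IdealSheafData.vanishingIdeal C).subschemeι with hι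
  have hrange : Set.range ι = closure Z := by
    rw [hι, Scheme.IdealSheafData.range_subschemeι,
      Scheme.IdealSheafData.coe_support_vanishingIdeal]
    rfl
  intro K _ R hR φ g hφ hmax hg hsq
  haveI := hR
  set j := Spec.map (CommRingCat.ofHom (algebraMap R K)) with hj
  have hsq' : (φ ≫ ι) ≫ f = j ≫ g := by rw [Category.assoc]; exact hsq.symm
  let ψ : Spec (.of K) ⟶ pullback f g := pullback.lift (φ ≫ ι) j hsq'
  have hψp : ψ ≫ pullback.fst f g = φ ≫ ι := pullback.lift_fst _ _ _
  have hψq : ψ ≫ pullback.snd f g = j := pullback.lift_snd _ _ _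
  set x' := ψ (closedPoint K) with hx'
  -- (i)
  have hpx : (pullback.fst f g) x' = ι (φ (closedPoint K)) := by
    rw [hx', ← Scheme.Hom.comp_apply, hψp, Scheme.Hom.comp_apply]
  have hwZ : ι (φ (closedPoint K)) ∈ Z := by
    apply hZ
    · rw [← hrange]; exact ⟨_, rfl⟩
    · intro z' hz' hsp
      rw [← hrange] at hz'
      obtain ⟨w', rfl⟩ := hz'
      have h1 : ι w' ⤳ ι (φ (closedPoint K)) := specializes_iff_mem_closure.mpr hsp
      have h2 : w' ⤳ φ (closedPoint K) :=
        (ι.isEmbedding.isInducing.specializes_iff).mp h1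
      rw [hmax w' h2]
  -- (ii)
  have hjpt : j (closedPoint K) = genericPoint (Spec (CommRingCat.of R)) := by
    rw [genericPoint_eq_bot_of_affine]
    apply PrimeSpectrum.ext
    change Ideal.comap (algebraMap R K) (closedPoint K).asIdeal = ⊥
    rw [IsLocalRing.closedPoint]
    simp only
    rw [IsLocalRing.maximalIdeal_eq_bot, ← RingHom.ker_eq_comap_bot]
    exact (RingHom.injective_iff_ker_eq_bot _).mp (IsFractionRing.injective R K)
  have hqx : (pullback.snd f g) x' = genericPoint (Spec (CommRingCat.of R)) := by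
    rw [hx', ← Scheme.Hom.comp_apply, hψq, hjpt]
  -- (iii)
  have hψR : ∀ z : K, ∃ a b : R, (algebraMap R K) b ≠ 0 ∧
      z = (algebraMap R K) a / (algebraMap R K) b := by
    intro z
    obtain ⟨a, b, hb, rfl⟩ := IsFractionRing.div_surjective (A := R) z
    exact ⟨a, b, by simpa using nonZeroDivisors.ne_zero hb, rfl⟩
  have hbij : Function.Bijective ((pullback.snd f g).residueFieldMap x').hom := by
    have h1 := bijective_desc_of_eq (algebraMap R K) hψR (ψ ≫ pullback.snd f g) hψq
    have h2 := Scheme.descResidueField_stalkClosedPointTo_comp (pullback.snd f g) ψ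
    have h3 : Function.Bijective (((pullback.snd f g).residueFieldMap (ψ (closedPoint K)) ≫
        Scheme.descResidueField (Scheme.stalkClosedPointTo ψ))).hom := by
      rw [← h2]; exact h1
    have hδinj : Function.Injective (Scheme.descResidueField (Scheme.stalkClosedPointTo ψ)).hom :=
      (Scheme.descResidueField (Scheme.stalkClosedPointTo ψ)).hom.injective
    rw [CommRingCat.hom_comp, RingHom.coe_comp] at h3
    have hδsurj : Function.Surjective
        (Scheme.descResidueField (Scheme.stalkClosedPointTo ψ)).hom :=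
      Function.Surjective.of_comp h3.2
    exact (Function.Bijective.of_comp_iff' ⟨hδinj, hδsurj⟩ _).mp h3
  obtain ⟨s, hs1, hs2⟩ := H R g hg x' (hpx ▸ hwZ) hqx hbij
  -- the generic point goes to x'
  have hsj : s (j (closedPoint K)) = x' := by
    obtain ⟨t, ht⟩ := hs2
    have h1 : (pullback.snd f g) (s t) = t := by
      rw [← Scheme.Hom.comp_apply, hs1]; rfl
    have h2 : t = j (closedPoint K) := by
      rw [← h1, ht, hqx, hjpt]
    rw [← h2]; exact ht
  have hjs : j ≫ s = ψ := by
    refine eq_of_rational (pullback.snd f g) x' hbij.2 (j ≫ s) ψ ?_ rfl ?_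
    · rw [Scheme.Hom.comp_apply]; exact hsj
    · rw [Category.assoc, hs1, Category.comp_id, hψq]
  -- the lift
  let l : Spec (.of R) ⟶ X := s ≫ pullback.fst f g
  have hlf : l ≫ f = g := by
    change (s ≫ pullback.fst f g) ≫ f = g
    rw [Category.assoc, pullback.condition, ← Category.assoc, hs1, Category.id_comp]
  have hlrange : Set.range l ⊆ (C : Set X) := by
    rintro _ ⟨t, rfl⟩
    have h1 : j (closedPoint K) ⤳ t := by
      rw [hjpt]
      exact genericPoint_specializes t
    have h2 : l (j (closedPoint K)) ⤳ l t := h1.map l.continuous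
    have h3 : l (j (closedPoint K)) ∈ closure Z := by
      change (pullback.fst f g) (s (j (closedPoint K))) ∈ closure Z
      rw [hsj, hpx, ← hrange]; exact ⟨_, rfl⟩
    exact h2.mem_closed isClosed_closure h3
  haveI : IsReduced (Spec (CommRingCat.of R)) := inferInstance
  obtain ⟨l', hl'⟩ := lift_reduced l C hlrange
  refine ⟨l', ?_, ?_⟩
  · rw [← Category.assoc, hl', hlf]
  · rw [← cancel_mono ι, Category.assoc, hl']
    change j ≫ s ≫ pullback.fst f g = φ ≫ ι
    rw [← Category.assoc, hjs, hψp]

/-- (⇒) of S4978 -/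
theorem forward {X Y : Scheme.{u}} (f : X ⟶ Y) (Z : Set X) (y : Y) (U : Y.Opens) (hyU : y ∈ U)
    (hprop : IsProper (((Scheme.IdealSheafData.vanishingIdeal
      (⟨closure Z, isClosed_closure⟩ : Closeds X)).subschemeι ≫ f) ∣_ U))
    (A' : Type u) [CommRing A'] [IsDomain A'] [IsDiscreteValuationRing A']
    (g : Spec (CommRingCat.of A') ⟶ Y) (hg : g.base (IsLocalRing.closedPoint A') = y)
    (x' : ↥(pullback f g)) (hx'Z : (pullback.fst f g).base x' ∈ Z)
    (hx'gen : (pullback.snd f g).base x' = genericPoint (Spec (CommRingCat.of A')))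
    (hbij : Function.Bijective ((pullback.snd f g).residueFieldMap x').hom) :
    ∃ s : Spec (CommRingCat.of A') ⟶ pullback f g, s ≫ pullback.snd f g = 𝟙 _ ∧
      x' ∈ Set.range s.base := by
  set C : Closeds X := ⟨closure Z, isClosed_closure⟩ with hCdef
  set ι := (Scheme.IdealSheafData.vanishingIdeal C).subschemeι with hι
  set q := pullback.snd f g with hq
  set p := pullback.fst f g with hp
  set t := q x' with ht
  obtain ⟨a, ha1, ha2, ha3⟩ := exists_fractionRing_residueField A' t hx'gen
  let K : Type u := (Spec (CommRingCat.of A')).residueField t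
  letI : Algebra A' K := a.toAlgebra
  haveI : IsFractionRing A' K := by
    refine ⟨fun s => ?_, fun z => ?_, fun h => ?_⟩
    · have : a s.1 ≠ 0 := by
        intro h0
        exact nonZeroDivisors.ne_zero s.2 (ha2 (h0.trans (map_zero a).symm))
      exact IsUnit.mk0 _ this
    · obtain ⟨r, s, hs, rfl⟩ := ha3 z
      have hs' : s ∈ nonZeroDivisors A' := by
        apply mem_nonZeroDivisors_of_ne_zero
        rintro rfl
        exact hs (map_zero a)
      refine ⟨(r, ⟨s, hs'⟩), ?_⟩
      change a r / a s * a s = a r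
      field_simp
    · exact ⟨1, by
        have := ha2 h
        rw [this]⟩
  haveI : IsIso ((pullback.snd f g).residueFieldMap x') := by
    rw [ConcreteCategory.isIso_iff_bijective]; exact hbij
  let ρ := q.residueFieldMap x'
  let ψ : Spec (.of K) ⟶ pullback f g :=
    Spec.map (inv ρ) ≫ (pullback f g).fromSpecResidueField x'
  have hψq : ψ ≫ q = Spec.map (CommRingCat.ofHom (algebraMap A' K)) := by
    change (Spec.map (inv ρ) ≫ (pullback f g).fromSpecResidueField x') ≫ q =
      Spec.map (CommRingCat.ofHom a)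
    rw [Category.assoc, ← Scheme.Hom.SpecMap_residueFieldMap_fromSpecResidueField,
      ← Spec.map_comp_assoc, IsIso.hom_inv_id, Spec.map_id, Category.id_comp, ha1]
  have hψpt : ψ (closedPoint K) = x' := by
    change (Spec.map (inv ρ) ≫ (pullback f g).fromSpecResidueField x') (closedPoint K) = x'
    rw [Scheme.Hom.comp_apply, Scheme.fromSpecResidueField_apply]
  -- factor through the reduced closed subscheme
  have hrange : Set.range (ψ ≫ p) ⊆ (C : Set X) := by
    rintro _ ⟨z, rfl⟩
    have : z = closedPoint K := Subsingleton.elim _ _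
    rw [this, Scheme.Hom.comp_apply, hψpt]
    exact subset_closure hx'Z
  haveI : IsReduced (Spec (CommRingCat.of K)) := inferInstance
  obtain ⟨φ, hφ⟩ := lift_reduced (ψ ≫ p) C hrange
  haveI := hprop
  have hsq : Spec.map (CommRingCat.ofHom (algebraMap A' K)) ≫ g = φ ≫ (ι ≫ f) := by
    have hcond0 : p ≫ f = q ≫ g := pullback.condition
    calc Spec.map (CommRingCat.ofHom (algebraMap A' K)) ≫ g = (ψ ≫ q) ≫ g := by rw [hψq]
      _ = ψ ≫ p ≫ f := by rw [Category.assoc, hcond0]
      _ = (ψ ≫ p) ≫ f := (Category.assoc _ _ _).symm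
      _ = (φ ≫ ι) ≫ f := by rw [hφ]
      _ = φ ≫ (ι ≫ f) := Category.assoc _ _ _
  obtain ⟨l, hl1, hl2⟩ := exists_lift_of_isProper_restrict' (ι ≫ f) U A' K φ g
    (by rw [hg]; exact hyU) hsq
  have hcond : (l ≫ ι) ≫ f = 𝟙 _ ≫ g := by
    rw [Category.assoc, hl1, Category.id_comp]
  let s : Spec (.of A') ⟶ pullback f g := pullback.lift (l ≫ ι) (𝟙 _) hcond
  have hs1 : s ≫ q = 𝟙 _ := pullback.lift_snd _ _ _
  have hs2 : s ≫ p = l ≫ ι := pullback.lift_fst _ _ _
  refine ⟨s, hs1, ?_⟩
  have hjs : Spec.map (CommRingCat.ofHom (algebraMap A' K)) ≫ s = ψ := by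
    apply pullback.hom_ext
    · change (_ ≫ s) ≫ p = ψ ≫ p
      rw [Category.assoc, hs2, ← Category.assoc, hl2, hφ]
    · change (_ ≫ s) ≫ q = ψ ≫ q
      rw [Category.assoc, hs1, Category.comp_id, hψq]
  refine ⟨Spec.map (CommRingCat.ofHom (algebraMap A' K)) (closedPoint K), ?_⟩
  change (Spec.map (CommRingCat.ofHom (algebraMap A' K)) ≫ s) (closedPoint K) = x'
  rw [hjs, hψpt]

/-- S4978 -/
theorem main {X Y : Scheme.{u}} [IsNoetherian Y] (f : X ⟶ Y) [IsSeparated f]
    [LocallyOfFiniteType f] [QuasiCompact f] (Z : Set X)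
    (hZ : ∀ z ∈ closure Z, (∀ z' ∈ closure Z, z ∈ closure {z'} → z' = z) → z ∈ Z) (y : Y) :
    (∃ U : Y.Opens, y ∈ U ∧ ∃ hC : IsClosed ((f ⁻¹ᵁ U).ι.base ⁻¹' closure Z),
      IsProper ((Scheme.IdealSheafData.vanishingIdeal
        (⟨(f ⁻¹ᵁ U).ι.base ⁻¹' closure Z, hC⟩ : TopologicalSpace.Closeds ↥(f ⁻¹ᵁ U))).subschemeι ≫ (f ∣_ U))) ↔
      ∀ (A' : Type u) [CommRing A'] [IsDomain A'] [IsDiscreteValuationRing A'] (g : Spec (CommRingCat.of A') ⟶ Y),
        g.base (IsLocalRing.closedPoint A') = y →
        ∀ x' : ↥(pullback f g), (pullback.fst f g).base x' ∈ Z →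
          (pullback.snd f g).base x' = genericPoint (Spec (CommRingCat.of A')) →
          Function.Bijective ((pullback.snd f g).residueFieldMap x').hom →
          ∃ s : Spec (CommRingCat.of A') ⟶ pullback f g, s ≫ pullback.snd f g = 𝟙 _ ∧ x' ∈ Set.range s.base := by
  constructor
  · rintro ⟨U, hyU, hC, hprop⟩ A' _ _ _ g hg x' h1 h2 h3
    have hprop' := (isProper_iff f ⟨closure Z, isClosed_closure⟩ U hC).mp hprop
    exact forward f Z y U hyU hprop' A' g hg x' h1 h2 h3
  · intro H
    have hyp := backward f Z hZ y H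
    haveI : IsSeparated ((Scheme.IdealSheafData.vanishingIdeal
      (⟨closure Z, isClosed_closure⟩ : Closeds X)).subschemeι ≫ f) := inferInstance
    haveI : LocallyOfFiniteType ((Scheme.IdealSheafData.vanishingIdeal
      (⟨closure Z, isClosed_closure⟩ : Closeds X)).subschemeι ≫ f) := inferInstance
    haveI : QuasiCompact ((Scheme.IdealSheafData.vanishingIdeal
      (⟨closure Z, isClosed_closure⟩ : Closeds X)).subschemeι ≫ f) := inferInstance
    obtain ⟨U, hyU, hprop⟩ := LocPropB.core _ y hyp
    have hC : IsClosed ((f ⁻¹ᵁ U).ι.base ⁻¹' closure Z) :=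
      isClosed_closure.preimage (f ⁻¹ᵁ U).ι.continuous
    exact ⟨U, hyU, hC, (isProper_iff f ⟨closure Z, isClosed_closure⟩ U hC).mpr hprop⟩

end Groth.Agent.Helper3.LocPropI
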