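import Mathlib
import Groth.Prelude
import Groth.Agent.Helper3.LocPropI
import Groth.Agent.Helper3.LocPropF
import Groth.Agent.Helper3.LocPropG
import Groth.Agent.Helper4.SN409

set_option autoImplicit false
set_option linter.style.haveILetI false
set_option linter.unusedSectionVars false
set_option linter.unusedVariables false
set_option linter.deprecated false
set_option linter.style.haveILetI false
set_option linter.unusedSectionVars false
set_option linter.unusedVariables false

universe u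

open CategoryTheory CategoryTheory.Limits AlgebraicGeometry IsLocalRing TopologicalSpace

namespace Groth.Agent.Helper3.LocPropJ

/-- universal submersiveness of `Z` onto `f(Z)`, as in S4977 -/
def Subm {X Y : Scheme.{u}} (f : X ⟶ Y) (Z : Set X) : Prop :=
  ∀ (Y' : Scheme.{u}) (h : Y' ⟶ Y) (E : Set Y'), E ⊆ h.base ⁻¹' (f.base '' Z) →
    (∃ W : Set ↥(pullback f h), IsOpen W ∧
      W ∩ (pullback.fst f h).base ⁻¹' Z =
        (pullback.snd f h).base ⁻¹' E ∩ (pullback.fst f h).base ⁻¹' Z) →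
    ∃ V : Set Y', IsOpen V ∧ V ∩ h.base ⁻¹' (f.base '' Z) = E

/-- **Key lemma**: over a complete local ring, the part of `Z` over the closed point which is
proper extends to a clopen proper part containing the rest of `Z`. -/
theorem key {X Y : Scheme.{u}} (f : X ⟶ Y) [IsSeparated f] [LocallyOfFiniteType f]
    [QuasiCompact f] (Z : Set X) (h3 : Subm f Z)
    (A : Type u) [CommRing A] [IsLocalRing A]
    [IsAdicComplete (maximalIdeal A) A] (g : Spec (.of A) ⟶ Y)
    (V : Set ↥(pullback f g)) (hV : IsOpen V)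
    (hVT : V ∩ (pullback.snd f g) ⁻¹' ({closedPoint A} : Set ↥(Spec (CommRingCat.of A))) =
      (pullback.fst f g) ⁻¹' Z ∩ (pullback.snd f g) ⁻¹' ({closedPoint A} : Set ↥(Spec (CommRingCat.of A))))
    {Ysch : Scheme.{u}} (yY : Ysch ⟶ pullback f g) [IsProper (yY ≫ pullback.snd f g)]
    (hyY : Set.range yY =
      (pullback.fst f g) ⁻¹' Z ∩ (pullback.snd f g) ⁻¹' ({closedPoint A} : Set ↥(Spec (CommRingCat.of A))))
    (hne : ((pullback.fst f g) ⁻¹' Z ∩ (pullback.snd f g) ⁻¹' ({closedPoint A} : Set ↥(Spec (CommRingCat.of A)))).Nonempty)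
    (hconn : _root_.IsPreconnected
      ((pullback.fst f g) ⁻¹' Z ∩ ((pullback.snd f g) ⁻¹' ({closedPoint A} : Set ↥(Spec (CommRingCat.of A))))ᶜ)) :
    ∃ W₁ : (pullback f g).Opens, IsClosed (W₁ : Set ↥(pullback f g)) ∧
      IsProper (W₁.ι ≫ pullback.snd f g) ∧
      (W₁ : Set ↥(pullback f g)) ∩ (pullback.snd f g) ⁻¹' ({closedPoint A} : Set ↥(Spec (CommRingCat.of A))) =
        (pullback.fst f g) ⁻¹' Z ∩ (pullback.snd f g) ⁻¹' ({closedPoint A} : Set ↥(Spec (CommRingCat.of A))) ∧
      (pullback.fst f g) ⁻¹' Z ∩ ((pullback.snd f g) ⁻¹' ({closedPoint A} : Set ↥(Spec (CommRingCat.of A))))ᶜ ⊆ W₁ := by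
  set p := pullback.fst f g with hp
  set q := pullback.snd f g with hq
  set s : ↥(Spec (CommRingCat.of A)) := closedPoint A with hs
  have hz : (q ⁻¹' PrimeSpectrum.zeroLocus ((maximalIdeal A : Ideal A) : Set A) :
      Set ↥(pullback f g)) = q ⁻¹' ({s} : Set ↥(Spec (CommRingCat.of A))) := by
    rw [Groth.Agent.Helper4.SN405.zeroLocus_maximalIdeal A]; rfl
  obtain ⟨W₁, hW₁c, hW₁p, hW₁s⟩ := Groth.Agent.Helper4.SN409.core A (maximalIdeal A) q V hV yY
    (by rw [hz]; exact hyY.trans hVT.symm)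
  rw [hz] at hW₁s
  replace hW₁s := hW₁s.trans hVT
  refine ⟨W₁, hW₁c, hW₁p, hW₁s, ?_⟩
  by_contra hcon
  obtain ⟨x', hx'Z, hx'W⟩ := Set.not_subset.mp hcon
  have hclopen : IsClopen ((W₁ : Set ↥(pullback f g))ᶜ) := ⟨W₁.isOpen.isClosed_compl, hW₁c.isOpen_compl⟩
  have hsub : p ⁻¹' Z ∩ (q ⁻¹' {s})ᶜ ⊆ (W₁ : Set ↥(pullback f g))ᶜ :=
    hconn.subset_isClopen hclopen ⟨x', hx'Z, hx'W⟩
  have hWZ : (W₁ : Set ↥(pullback f g)) ∩ p ⁻¹' Z = q ⁻¹' {s} ∩ p ⁻¹' Z := by
    ext x''
    constructor
    · rintro ⟨h1, h2⟩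
      refine ⟨?_, h2⟩
      by_contra h3'
      exact hsub ⟨h2, h3'⟩ h1
    · rintro ⟨h1, h2⟩
      refine ⟨?_, h2⟩
      exact ((Set.ext_iff.mp hW₁s x'').mpr ⟨h2, h1⟩).1
  have hE : ({s} : Set (Spec (.of A))) ⊆ g.base ⁻¹' (f.base '' Z) := by
    rintro _ rfl
    obtain ⟨x'', hx''Z, hx''s⟩ := hne
    refine ⟨p x'', hx''Z, ?_⟩
    have h1 : f (p x'') = g (q x'') := by
      rw [← Scheme.Hom.comp_apply, ← Scheme.Hom.comp_apply, pullback.condition]
    rw [h1]
    exact congrArg g hx''s
  obtain ⟨V₀, hV₀, hV₀E⟩ := h3 (Spec (.of A)) g {s} hE ⟨W₁, W₁.isOpen, hWZ⟩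
  have hsV₀ : s ∈ V₀ := by
    exact ((Set.ext_iff.mp hV₀E s).mpr rfl).1
  have ht₀ : q x' ∈ V₀ := (IsLocalRing.specializes_closedPoint (q x')).mem_open hV₀ hsV₀
  have ht₀' : q x' ∈ g.base ⁻¹' (f.base '' Z) := by
    refine ⟨p x', hx'Z.1, ?_⟩
    rw [← Scheme.Hom.comp_apply, ← Scheme.Hom.comp_apply, pullback.condition]
  have : q x' ∈ ({s} : Set (Spec (.of A))) := (Set.ext_iff.mp hV₀E (q x')).mp ⟨ht₀, ht₀'⟩
  exact hx'Z.2 this

/-- the part of `Z` over the generic point of a DVR is preconnected when the fibre of `Z` there is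
geometrically connected -/
theorem preconnected_generic {X Y : Scheme.{u}} (f : X ⟶ Y) (Z : Set X)
    (A K : Type u) [CommRing A] [IsDomain A] [IsDiscreteValuationRing A] [Field K] [Algebra A K]
    [IsFractionRing A K] (g : Spec (.of A) ⟶ Y)
    (hconnF : ∀ (L : Type u) [Field L]
      [Algebra (IsLocalRing.ResidueField (Y.presheaf.stalk
        ((Spec.map (CommRingCat.ofHom (algebraMap A K)) ≫ g) (closedPoint K)))) L],
      _root_.IsPreconnected ((FBase.bcπ (f.fiberToSpecResidueField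
        ((Spec.map (CommRingCat.ofHom (algebraMap A K)) ≫ g) (closedPoint K))) L ≫
          f.fiberι _).base ⁻¹' Z)) :
    _root_.IsPreconnected ((pullback.fst f g) ⁻¹' Z ∩
      ((pullback.snd f g) ⁻¹' ({closedPoint A} : Set ↥(Spec (CommRingCat.of A))))ᶜ) := by
  set p := pullback.fst f g with hp
  set q := pullback.snd f g with hq
  set j := Spec.map (CommRingCat.ofHom (algebraMap A K)) with hj
  set y' := (j ≫ g) (closedPoint K) with hy'
  let δ : Y.residueField y' ⟶ .of K := Scheme.descResidueField (Scheme.stalkClosedPointTo (j ≫ g))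
  have hδ : Spec.map δ ≫ Y.fromSpecResidueField y' = j ≫ g :=
    Scheme.descResidueField_stalkClosedPointTo_fromSpecResidueField K Y (j ≫ g)
  letI : Algebra (IsLocalRing.ResidueField (Y.presheaf.stalk y')) K := δ.hom.toAlgebra
  have hS := hconnF K
  set B := FBase.bc (f.fiberToSpecResidueField y') K with hB
  set π := FBase.bcπ (f.fiberToSpecResidueField y') K with hπ
  let str : B ⟶ Spec (.of K) := FBase.bcStr (f.fiberToSpecResidueField y') K
  have hBcond : π ≫ f.fiberToSpecResidueField y' = str ≫ Spec.map δ := pullback.condition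
  have hcond : (π ≫ f.fiberι y') ≫ f = (str ≫ j) ≫ g := by
    rw [Category.assoc, Scheme.Hom.fiber_fac, ← Category.assoc, hBcond, Category.assoc, hδ,
      Category.assoc]
  let m : B ⟶ pullback f g := pullback.lift (π ≫ f.fiberι y') (str ≫ j) hcond
  have hmp : m ≫ p = π ≫ f.fiberι y' := pullback.lift_fst _ _ _
  have hmq : m ≫ q = str ≫ j := pullback.lift_snd _ _ _
  have hηbot : (j (closedPoint K)).asIdeal = ⊥ := LocPropG.asIdeal_generic A K
  have hηs : j (closedPoint K) ≠ closedPoint A := by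
    intro h
    have h1 : (closedPoint A).asIdeal = ⊥ := by rw [← h]; exact hηbot
    exact IsDiscreteValuationRing.not_a_field A h1
  have himg : p ⁻¹' Z ∩ (q ⁻¹' ({closedPoint A} : Set ↥(Spec (CommRingCat.of A))))ᶜ =
      m '' ((π ≫ f.fiberι y').base ⁻¹' Z) := by
    ext x''
    constructor
    · rintro ⟨hxZ, hxs⟩
      have hqx : q x'' = j (closedPoint K) := by
        apply PrimeSpectrum.ext
        rw [hηbot]
        exact LocPropG.eq_bot_of_ne_closedPoint A (q x'') hxs
      have hx_range : x'' ∈ Set.range (pullback.fst q j) := by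
        rw [Scheme.Pullback.range_fst]
        exact ⟨closedPoint K, hqx.symm⟩
      obtain ⟨t, rfl⟩ := hx_range
      have hc₁ : (pullback.fst q j ≫ p) ≫ f =
          (pullback.snd q j ≫ Spec.map δ) ≫ Y.fromSpecResidueField y' := by
        rw [Category.assoc, Category.assoc, hδ, ← Category.assoc (pullback.snd q j),
          ← pullback.condition (f := q) (g := j), Category.assoc]
        congr 1
        exact pullback.condition
      let n₁ : pullback q j ⟶ f.fiber y' := pullback.lift (pullback.fst q j ≫ p)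
        (pullback.snd q j ≫ Spec.map δ) hc₁
      have hn₁a : n₁ ≫ f.fiberι y' = pullback.fst q j ≫ p := pullback.lift_fst _ _ _
      have hn₁b : n₁ ≫ f.fiberToSpecResidueField y' = pullback.snd q j ≫ Spec.map δ :=
        pullback.lift_snd _ _ _
      let n : pullback q j ⟶ B := pullback.lift n₁ (pullback.snd q j) hn₁b
      have hnπ : n ≫ π = n₁ := pullback.lift_fst _ _ _
      have hnstr : n ≫ str = pullback.snd q j := pullback.lift_snd _ _ _
      have hnm : n ≫ m = pullback.fst q j := by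
        apply pullback.hom_ext
        · change (n ≫ m) ≫ p = pullback.fst q j ≫ p
          rw [Category.assoc, hmp, ← Category.assoc, hnπ, hn₁a]
        · change (n ≫ m) ≫ q = pullback.fst q j ≫ q
          rw [Category.assoc, hmq, ← Category.assoc, hnstr, pullback.condition]
      refine ⟨n t, ?_, ?_⟩
      · change (π ≫ f.fiberι y') (n t) ∈ Z
        rw [← hmp, Scheme.Hom.comp_apply, ← Scheme.Hom.comp_apply n m, hnm]
        exact hxZ
      · rw [← Scheme.Hom.comp_apply, hnm]
    · rintro ⟨t, ht, rfl⟩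
      refine ⟨?_, ?_⟩
      · change (m ≫ p) t ∈ Z
        rw [hmp]; exact ht
      · intro h
        apply hηs
        have h1 : q (m t) = j (str t) := by
          rw [← Scheme.Hom.comp_apply, hmq, Scheme.Hom.comp_apply]
        have h2 : str t = closedPoint K := Subsingleton.elim _ _
        rw [← h2, ← h1]
        exact h
  rw [himg]
  exact hS.image _ m.continuous.continuousOn

/-- the open set needed in `key` from relative openness of `Z` in the fibre -/
theorem exists_open_trace {X Y : Scheme.{u}} (f : X ⟶ Y) (Z : Set X)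
    (A : Type u) [CommRing A] [IsLocalRing A] (g : Spec (.of A) ⟶ Y)
    (V₀ : Set X) (hV₀ : IsOpen V₀)
    (hV₀Z : V₀ ∩ f ⁻¹' {g (closedPoint A)} = Z ∩ f ⁻¹' {g (closedPoint A)}) :
    ∃ V : Set ↥(pullback f g), IsOpen V ∧
      V ∩ (pullback.snd f g) ⁻¹' ({closedPoint A} : Set ↥(Spec (CommRingCat.of A))) =
        (pullback.fst f g) ⁻¹' Z ∩
          (pullback.snd f g) ⁻¹' ({closedPoint A} : Set ↥(Spec (CommRingCat.of A))) := by
  refine ⟨(pullback.fst f g) ⁻¹' V₀, hV₀.preimage (pullback.fst f g).continuous, ?_⟩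
  ext x''
  have hfib : (pullback.snd f g) x'' = closedPoint A →
      f ((pullback.fst f g) x'') = g (closedPoint A) := by
    intro h
    rw [← h, ← Scheme.Hom.comp_apply, ← Scheme.Hom.comp_apply, pullback.condition]
  constructor
  · rintro ⟨h1, h2⟩
    exact ⟨((Set.ext_iff.mp hV₀Z _).mp ⟨h1, hfib h2⟩).1, h2⟩
  · rintro ⟨h1, h2⟩
    exact ⟨((Set.ext_iff.mp hV₀Z _).mpr ⟨h1, hfib h2⟩).1, h2⟩

/-- the proper scheme over the closed point needed in `key` from properness of the part of the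
fibre in `Z`. -/
theorem exists_proper_part {X Y : Scheme.{u}} (f : X ⟶ Y) (Z : Set X) (y : Y)
    (hop : IsOpen ((f.fiberι y).base ⁻¹' Z))
    (h2 : IsProper (Scheme.Opens.ι (⟨(f.fiberι y).base ⁻¹' Z, hop⟩ : (f.fiber y).Opens) ≫
      f.fiberToSpecResidueField y))
    (A : Type u) [CommRing A] [IsLocalRing A] (g : Spec (.of A) ⟶ Y)
    (hg : g (closedPoint A) = y) :
    ∃ (Ysch : Scheme.{u}) (yY : Ysch ⟶ pullback f g), IsProper (yY ≫ pullback.snd f g) ∧
      Set.range yY = (pullback.fst f g) ⁻¹' Z ∩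
        (pullback.snd f g) ⁻¹' ({closedPoint A} : Set ↥(Spec (CommRingCat.of A))) := by
  set p := pullback.fst f g with hp
  set q := pullback.snd f g with hq
  set O : (f.fiber y).Opens := ⟨(f.fiberι y).base ⁻¹' Z, hop⟩ with hO
  let k := IsLocalRing.ResidueField A
  let b : Spec (.of k) ⟶ Spec (.of A) := Spec.map (CommRingCat.ofHom (IsLocalRing.residue A))
  haveI : IsClosedImmersion b :=
    IsClosedImmersion.spec_of_surjective _ IsLocalRing.residue_surjective
  have hbpt : ∀ t : Spec (.of k), b t = closedPoint A := by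
    intro t
    have ht : t = closedPoint k := Subsingleton.elim _ _
    rw [ht]
    apply PrimeSpectrum.ext
    change Ideal.comap (IsLocalRing.residue A) (closedPoint k).asIdeal = _
    rw [IsLocalRing.closedPoint]
    simp only
    rw [IsLocalRing.maximalIdeal_eq_bot, ← RingHom.ker_eq_comap_bot, IsLocalRing.ker_residue]
    rfl
  obtain ⟨δ, hδ⟩ := LocPropI.exists_desc (b ≫ g) y (by
    rw [Scheme.Hom.comp_apply, hbpt, hg])
  set c := Spec.map δ with hc
  haveI := h2
  let Ysch := pullback (O.ι ≫ f.fiberToSpecResidueField y) c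
  let pr₁ : Ysch ⟶ O.toScheme := pullback.fst _ _
  let pr₂ : Ysch ⟶ Spec (.of k) := pullback.snd _ _
  have hYcond : pr₁ ≫ O.ι ≫ f.fiberToSpecResidueField y = pr₂ ≫ c := pullback.condition
  haveI : IsProper pr₂ := by
    change IsProper (pullback.snd (O.ι ≫ f.fiberToSpecResidueField y) c)
    infer_instance
  have hcond : (pr₁ ≫ O.ι ≫ f.fiberι y) ≫ f = (pr₂ ≫ b) ≫ g := by
    rw [Category.assoc, Category.assoc, Scheme.Hom.fiber_fac, ← Category.assoc O.ι,
      ← Category.assoc pr₁, hYcond, Category.assoc, hδ, Category.assoc]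
  let yY : Ysch ⟶ pullback f g := pullback.lift (pr₁ ≫ O.ι ≫ f.fiberι y) (pr₂ ≫ b) hcond
  have hyp : yY ≫ p = pr₁ ≫ O.ι ≫ f.fiberι y := pullback.lift_fst _ _ _
  have hyq : yY ≫ q = pr₂ ≫ b := pullback.lift_snd _ _ _
  refine ⟨Ysch, yY, ?_, ?_⟩
  · rw [hyq]; infer_instance
  · ext x''
    constructor
    · rintro ⟨t, rfl⟩
      refine ⟨?_, ?_⟩
      · change (yY ≫ p) t ∈ Z
        rw [hyp]
        exact (pr₁ t).2
      · change (yY ≫ q) t = closedPoint A
        rw [hyq, Scheme.Hom.comp_apply, hbpt]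
    · rintro ⟨hxZ, hxs⟩
      have hx_range : x'' ∈ Set.range (pullback.fst q b) := by
        rw [Scheme.Pullback.range_fst]
        exact ⟨closedPoint k, (hbpt _).trans hxs.symm⟩
      obtain ⟨t₀, rfl⟩ := hx_range
      have hc₁ : (pullback.fst q b ≫ p) ≫ f =
          (pullback.snd q b ≫ c) ≫ Y.fromSpecResidueField y := by
        rw [Category.assoc, Category.assoc, hδ, ← Category.assoc (pullback.snd q b),
          ← pullback.condition (f := q) (g := b), Category.assoc]
        congr 1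
        exact pullback.condition
      let n₁ : pullback q b ⟶ f.fiber y := pullback.lift (pullback.fst q b ≫ p)
        (pullback.snd q b ≫ c) hc₁
      have hn₁a : n₁ ≫ f.fiberι y = pullback.fst q b ≫ p := pullback.lift_fst _ _ _
      have hn₁b : n₁ ≫ f.fiberToSpecResidueField y = pullback.snd q b ≫ c :=
        pullback.lift_snd _ _ _
      have ht₀O : n₁ t₀ ∈ O := by
        change (f.fiberι y) (n₁ t₀) ∈ Z
        rw [← Scheme.Hom.comp_apply, hn₁a]
        exact hxZ
      have hc₂ : (n₁ ∣_ O) ≫ O.ι ≫ f.fiberToSpecResidueField y =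
          ((n₁ ⁻¹ᵁ O).ι ≫ pullback.snd q b) ≫ c := by
        rw [← Category.assoc, morphismRestrict_ι, Category.assoc, hn₁b, Category.assoc]
      let n : (n₁ ⁻¹ᵁ O).toScheme ⟶ Ysch := pullback.lift (n₁ ∣_ O)
        ((n₁ ⁻¹ᵁ O).ι ≫ pullback.snd q b) hc₂
      have hn1 : n ≫ pr₁ = n₁ ∣_ O := pullback.lift_fst _ _ _
      have hn2 : n ≫ pr₂ = (n₁ ⁻¹ᵁ O).ι ≫ pullback.snd q b := pullback.lift_snd _ _ _
      have hny : n ≫ yY = (n₁ ⁻¹ᵁ O).ι ≫ pullback.fst q b := by
        apply pullback.hom_ext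
        · change (n ≫ yY) ≫ p = ((n₁ ⁻¹ᵁ O).ι ≫ pullback.fst q b) ≫ p
          rw [Category.assoc, hyp, ← Category.assoc, hn1, ← Category.assoc, morphismRestrict_ι,
            Category.assoc, hn₁a, Category.assoc]
        · change (n ≫ yY) ≫ q = ((n₁ ⁻¹ᵁ O).ι ≫ pullback.fst q b) ≫ q
          rw [Category.assoc, hyq, ← Category.assoc, hn2, Category.assoc, Category.assoc,
            pullback.condition]
      refine ⟨n ⟨t₀, ht₀O⟩, ?_⟩
      rw [← Scheme.Hom.comp_apply, hny, Scheme.Hom.comp_apply]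
      rfl

end Groth.Agent.Helper3.LocPropJ
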