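import Mathlib
import Groth.Prelude
import Groth.Agent.Helper3.LocPropJ
import Groth.Agent.Helper3.Topology
import Groth.Agent.Helper5.InvConn

set_option autoImplicit false
set_option linter.style.haveILetI false
set_option linter.unusedSectionVars false
set_option linter.unusedVariables false
set_option linter.deprecated false
set_option linter.style.haveILetI false
set_option linter.unusedSectionVars false
set_option linter.unusedVariables false

universe u

open CategoryTheory CategoryTheory.Limits AlgebraicGeometry IsLocalRing TopologicalSpace Topology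

namespace Groth.Agent.Helper3.LocPropK

open Groth.Agent.Helper3.LocPropJ

/-- in a Noetherian quasi-sober space, points of the closure of a constructible set are
specializations of points of the set -/
theorem exists_specializes_of_constructible {α : Type*} [TopologicalSpace α] [NoetherianSpace α]
    [QuasiSober α] {E : Set α} (hE : IsConstructible E) {x : α} (hx : x ∈ closure E) :
    ∃ ξ ∈ E, ξ ⤳ x := by
  obtain ⟨ξ, hξx, hdense, -⟩ := Groth.Agent.Helper3.exists_generic_of_mem_closure hx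
  refine ⟨ξ, ?_, hξx⟩
  by_contra hξE
  obtain ⟨U, hU, hξU, hsub⟩ :=
    (Groth.Agent.Helper3.IsConstructible.exists_isOpen_inter_closure_singleton hE ξ).2 hξE
  have h1 : ξ ∈ closure (closure {ξ} ∩ E) := hdense (subset_closure (Set.mem_singleton ξ))
  rw [mem_closure_iff] at h1
  obtain ⟨z, hzU, hz, hzE⟩ := h1 U hU hξU
  exact hsub ⟨hzU, hz⟩ hzE

/-- the same on a locally Noetherian scheme for locally constructible sets -/
theorem exists_specializes_of_mem_closure {X : Scheme.{u}} [IsLocallyNoetherian X] {E : Set X}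
    (hE : IsLocallyConstructible E) {x : X} (hx : x ∈ closure E) : ∃ ξ ∈ E, ξ ⤳ x := by
  obtain ⟨V, hV, hxV⟩ : ∃ V : X.Opens, IsAffineOpen V ∧ x ∈ V := by
    obtain ⟨_, ⟨V, hV, rfl⟩, hxV, -⟩ :=
      X.isBasis_affineOpens.exists_subset_of_mem_open (Set.mem_univ x) isOpen_univ
    exact ⟨V, hV, hxV⟩
  haveI : IsAffine V.toScheme := hV
  haveI : IsLocallyNoetherian V.toScheme := isLocallyNoetherian_of_isOpenImmersion V.ι
  haveI : IsNoetherian V.toScheme := { }
  haveI : NoetherianSpace ↥V.toScheme := inferInstance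
  have hEV : IsConstructible (V.ι ⁻¹' E) :=
    (hE.preimage_of_isOpenEmbedding V.ι.isOpenEmbedding).isConstructible
  have hxcl : (⟨x, hxV⟩ : ↥V.toScheme) ∈ closure (V.ι ⁻¹' E) := by
    rw [V.ι.isOpenEmbedding.isInducing.closure_eq_preimage_closure_image]
    change x ∈ closure (V.ι '' (V.ι ⁻¹' E))
    rw [mem_closure_iff] at hx ⊢
    intro O hO hxO
    obtain ⟨z, ⟨hzO, hzV⟩, hzE⟩ := hx (O ∩ V) (hO.inter V.isOpen) ⟨hxO, hxV⟩
    exact ⟨z, hzO, ⟨⟨z, hzV⟩, hzE, rfl⟩⟩
  obtain ⟨ξ, hξE, hξx⟩ := exists_specializes_of_constructible hEV hxcl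
  exact ⟨V.ι ξ, hξE, hξx.map V.ι.continuous⟩

/-- maximal points of the closure of a locally constructible set belong to the set -/
theorem mem_of_maximal {X : Scheme.{u}} [IsLocallyNoetherian X] {Z : Set X}
    (hZ : IsLocallyConstructible Z) (z : X) (hz : z ∈ closure Z)
    (hmax : ∀ z' ∈ closure Z, z' ⤳ z → z' = z) : z ∈ Z := by
  obtain ⟨ξ, hξZ, hξz⟩ := exists_specializes_of_mem_closure hZ hz
  rw [← hmax ξ (subset_closure hξZ) hξz]
  exact hξZ

theorem isLocallyConstructible_compl {α : Type*} [TopologicalSpace α] {s : Set α}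
    (hs : IsLocallyConstructible s) : IsLocallyConstructible sᶜ := by
  intro x
  obtain ⟨U, hU, hUo, hUs⟩ := hs x
  exact ⟨U, hU, hUo, hUs.compl⟩

theorem isLocallyConstructible_of_isClosed {X : Scheme.{u}} [IsLocallyNoetherian X] {C : Set X}
    (hC : IsClosed C) : IsLocallyConstructible C := by
  intro x
  obtain ⟨V, hV, hxV⟩ : ∃ V : X.Opens, IsAffineOpen V ∧ x ∈ V := by
    obtain ⟨_, ⟨V, hV, rfl⟩, hxV, -⟩ :=
      X.isBasis_affineOpens.exists_subset_of_mem_open (Set.mem_univ x) isOpen_univ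
    exact ⟨V, hV, hxV⟩
  haveI : IsAffine V.toScheme := hV
  haveI : IsLocallyNoetherian V.toScheme := isLocallyNoetherian_of_isOpenImmersion V.ι
  haveI : IsNoetherian V.toScheme := { }
  haveI : NoetherianSpace ↥V.toScheme := inferInstance
  refine ⟨V, V.isOpen.mem_nhds hxV, V.isOpen, ?_⟩
  have hcl : IsClosed (V.ι ⁻¹' C) := hC.preimage V.ι.continuous
  have hop : IsConstructible (V.ι ⁻¹' C)ᶜ :=
    IsRetrocompact.isConstructible hcl.isOpen_compl
      (fun W _ _ => NoetherianSpace.isCompact _)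
  have := hop.compl
  rw [compl_compl] at this
  exact this

/-- a specialization on a locally Noetherian scheme is realized by a complete DVR -/
theorem exists_complete_dvr_through {P : Scheme.{u}} [IsLocallyNoetherian P] {ζ b : P}
    (hsp : ζ ⤳ b) (hne : ζ ≠ b) :
    ∃ (A : Type u) (_ : CommRing A) (_ : IsDomain A) (_ : IsDiscreteValuationRing A)
      (_ : IsAdicComplete (maximalIdeal A) A) (g : Spec (.of A) ⟶ P),
      g (closedPoint A) = b ∧ ∀ t : Spec (.of A), t ≠ closedPoint A → g t = ζ := by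
  obtain ⟨K, _, R, hR, φ₀, g₀, hφ₀, hφ₀ζ, hg₀b, hgen⟩ := LocPropA.exists_dvr_through hsp hne
  haveI := hR
  haveI : IsNoetherianRing R := inferInstance
  obtain ⟨hdom, hdvr⟩ := (Groth.Agent.S0549.result R).1 ⟨inferInstance, hR⟩
  haveI := hdom
  haveI := hdvr
  have hcinj : Function.Injective (algebraMap R (AdicCompletion (maximalIdeal R) R)) := by
    haveI : IsHausdorff (maximalIdeal R) R := inferInstance
    exact AdicCompletion.of_injective (maximalIdeal R) R
  refine ⟨AdicCompletion (maximalIdeal R) R, inferInstance, hdom, hdvr, inferInstance,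
    Spec.map (CommRingCat.ofHom (algebraMap R (AdicCompletion (maximalIdeal R) R))) ≫ g₀, ?_, ?_⟩
  · rw [Scheme.Hom.comp_apply]
    have : Spec.map (CommRingCat.ofHom (algebraMap R (AdicCompletion (maximalIdeal R) R)))
        (closedPoint _) = closedPoint R :=
      comap_closedPoint (algebraMap R (AdicCompletion (maximalIdeal R) R))
    rw [this, hg₀b]
  · intro t ht
    have htbot : t.asIdeal = ⊥ :=
      LocPropG.eq_bot_of_ne_closedPoint (AdicCompletion (maximalIdeal R) R) t ht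
    rw [Scheme.Hom.comp_apply, ← hφ₀ζ, ← hgen, Scheme.Hom.comp_apply]
    congr 1
    apply PrimeSpectrum.ext
    rw [LocPropG.asIdeal_generic R K]
    change Ideal.comap (algebraMap R (AdicCompletion (maximalIdeal R) R)) t.asIdeal = ⊥
    rw [htbot, ← RingHom.ker_eq_comap_bot]
    exact (RingHom.injective_iff_ker_eq_bot _).mp hcinj

/-- relative openness of the trace of `Z` on a fibre, from openness in the scheme-theoretic fibre -/
theorem open_of_hop {X Y : Scheme.{u}} (f : X ⟶ Y) (Z : Set X) (y : Y)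
    (hop : IsOpen ((f.fiberι y).base ⁻¹' Z)) :
    ∃ V₀ : Set X, IsOpen V₀ ∧ V₀ ∩ f ⁻¹' {y} = Z ∩ f ⁻¹' {y} := by
  obtain ⟨V₀, hV₀, hV₀Z⟩ := (f.fiberι y).isEmbedding.isInducing.isOpen_iff.mp hop
  refine ⟨V₀, hV₀, ?_⟩
  ext x
  constructor
  · rintro ⟨h1, h2⟩
    refine ⟨?_, h2⟩
    have : x ∈ Set.range (f.fiberι y) := by rw [f.range_fiberι]; exact h2
    obtain ⟨t, rfl⟩ := this
    exact (Set.ext_iff.mp hV₀Z t).mp h1
  · rintro ⟨h1, h2⟩
    refine ⟨?_, h2⟩
    have : x ∈ Set.range (f.fiberι y) := by rw [f.range_fiberι]; exact h2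
    obtain ⟨t, rfl⟩ := this
    exact (Set.ext_iff.mp hV₀Z t).mpr h1

/-- a connected component of a fibre of a morphism of finite type is relatively open and closed -/
theorem clopen_of_component {X Y : Scheme.{u}} (f : X ⟶ Y) [LocallyOfFiniteType f]
    [QuasiCompact f] (y : Y) (x₀ : X) (hx₀ : f x₀ = y) :
    (∃ V₀ : Set X, IsOpen V₀ ∧ V₀ ∩ f ⁻¹' {y} = connectedComponentIn (f ⁻¹' {y}) x₀) ∧
    (∃ C₀ : Set X, IsClosed C₀ ∧ C₀ ∩ f ⁻¹' {y} = connectedComponentIn (f ⁻¹' {y}) x₀) := by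
  haveI : LocallyOfFiniteType (f.fiberToSpecResidueField y) :=
    inferInstanceAs (LocallyOfFiniteType (pullback.snd f (Y.fromSpecResidueField y)))
  haveI : QuasiCompact (f.fiberToSpecResidueField y) :=
    inferInstanceAs (QuasiCompact (pullback.snd f (Y.fromSpecResidueField y)))
  haveI : IsNoetherian (f.fiber y) :=
    { toIsLocallyNoetherian := LocallyOfFiniteType.isLocallyNoetherian
        (f.fiberToSpecResidueField y)
      toCompactSpace := QuasiCompact.compactSpace_of_compactSpace (f.fiberToSpecResidueField y) }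
  set F : Set X := f ⁻¹' {y} with hF
  have hx₀F : x₀ ∈ F := hx₀
  haveI : NoetherianSpace ↥F := by
    have hr : Set.range (f.fiberι y) = F := f.range_fiberι y
    let m : ↥(f.fiber y) → ↥F := fun t => ⟨f.fiberι y t, hr ▸ ⟨t, rfl⟩⟩
    have hm : Continuous m := (f.fiberι y).continuous.subtype_mk _
    have hms : Function.Surjective m := by
      rintro ⟨x, hx⟩
      rw [← hr] at hx
      obtain ⟨t, rfl⟩ := hx
      exact ⟨t, rfl⟩
    exact noetherianSpace_of_surjective m hm hms
  have hcomp : connectedComponentIn F x₀ =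
      Subtype.val '' connectedComponent (⟨x₀, hx₀F⟩ : ↥F) := connectedComponentIn_eq_image hx₀F
  constructor
  · have hopen : IsOpen (connectedComponent (⟨x₀, hx₀F⟩ : ↥F)) :=
      Groth.Agent.Helper5.InvConn.isOpen_connectedComponent_of_noetherian _
    obtain ⟨V₀, hV₀, hV₀c⟩ := isOpen_induced_iff.mp hopen
    refine ⟨V₀, hV₀, ?_⟩
    rw [hcomp, ← hV₀c, Subtype.image_preimage_coe, Set.inter_comm]
  · have hclosed : IsClosed (connectedComponent (⟨x₀, hx₀F⟩ : ↥F)) := isClosed_connectedComponent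
    obtain ⟨C₀, hC₀, hC₀c⟩ := isClosed_induced_iff.mp hclosed
    refine ⟨C₀, hC₀, ?_⟩
    rw [hcomp, ← hC₀c, Subtype.image_preimage_coe, Set.inter_comm]

/-- sections of proper morphisms over valuation rings through a given generic point -/
theorem exists_section_of_proper {T : Scheme.{u}} (A K : Type u) [CommRing A] [IsDomain A]
    [ValuationRing A] [Field K] [Algebra A K] [IsFractionRing A K]
    (f₁ : T ⟶ Spec (.of A)) [IsProper f₁] (ψ₁ : Spec (.of K) ⟶ T)
    (h : ψ₁ ≫ f₁ = Spec.map (CommRingCat.ofHom (algebraMap A K))) :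
    ∃ l₁ : Spec (.of A) ⟶ T, l₁ ≫ f₁ = 𝟙 _ ∧
      Spec.map (CommRingCat.ofHom (algebraMap A K)) ≫ l₁ = ψ₁ := by
  have hv : ValuativeCriterion f₁ := by
    have : IsProper f₁ := inferInstance
    rw [IsProper.eq_valuativeCriterion] at this
    exact this.1.1.1
  let S : ValuativeCommSq f₁ :=
    { R := A, K := K, i₁ := ψ₁, i₂ := 𝟙 _, commSq := ⟨by rw [h, Category.comp_id]⟩ }
  obtain ⟨⟨l, hl1, hl2⟩⟩ := (hv.existence S).exists_lift
  exact ⟨l, hl2, hl1⟩

/-- Step 1 of S4977: the complete-DVR lifting hypothesis for the closure of `Z`. -/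
theorem hypC {X Y : Scheme.{u}} [IsLocallyNoetherian Y] (y : Y) (f : X ⟶ Y) [IsSeparated f]
    [LocallyOfFiniteType f] [QuasiCompact f] (Z : Set X) (hZ : IsLocallyConstructible Z)
    (h1a : ∀ y' : Y, y' ⤳ y → ∃ x ∈ Z, f x = y')
    (h1b : ∀ y' : Y, y' ⤳ y → ∀ (K : Type u) [Field K]
      [Algebra (IsLocalRing.ResidueField (Y.presheaf.stalk y')) K],
      _root_.IsPreconnected
        ((FBase.bcπ (f.fiberToSpecResidueField y') K ≫ f.fiberι y').base ⁻¹' Z))
    (hop : IsOpen ((f.fiberι y).base ⁻¹' Z))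
    (h2 : IsProper (Scheme.Opens.ι (⟨(f.fiberι y).base ⁻¹' Z, hop⟩ : (f.fiber y).Opens) ≫
      f.fiberToSpecResidueField y))
    (h3 : Subm f Z) :
    LocPropF.HypC ((Scheme.IdealSheafData.vanishingIdeal
      (⟨closure Z, isClosed_closure⟩ : Closeds X)).subschemeι ≫ f) y := by
  haveI : IsLocallyNoetherian X := LocallyOfFiniteType.isLocallyNoetherian f
  set C : Closeds X := ⟨closure Z, isClosed_closure⟩ with hCdef
  set ι := (Scheme.IdealSheafData.vanishingIdeal C).subschemeι with hι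
  have hrange : Set.range ι = closure Z := by
    rw [hι, Scheme.IdealSheafData.range_subschemeι,
      Scheme.IdealSheafData.coe_support_vanishingIdeal]
    rfl
  intro A _ _ _ _ K _ _ _ φ g hmax hg hsq
  set j := Spec.map (CommRingCat.ofHom (algebraMap A K)) with hj
  set p := pullback.fst f g with hp
  set q := pullback.snd f g with hq
  have hsq' : (φ ≫ ι) ≫ f = j ≫ g := by rw [Category.assoc]; exact hsq.symm
  let ψ : Spec (.of K) ⟶ pullback f g := pullback.lift (φ ≫ ι) j hsq'
  have hψp : ψ ≫ p = φ ≫ ι := pullback.lift_fst _ _ _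
  have hψq : ψ ≫ q = j := pullback.lift_snd _ _ _
  set x' := ψ (closedPoint K) with hx'
  have hpx : p x' = ι (φ (closedPoint K)) := by
    rw [hx', ← Scheme.Hom.comp_apply, hψp, Scheme.Hom.comp_apply]
  have hwZ : ι (φ (closedPoint K)) ∈ Z := by
    apply mem_of_maximal hZ
    · rw [← hrange]; exact ⟨_, rfl⟩
    · intro z' hz' hsp
      rw [← hrange] at hz'
      obtain ⟨w', rfl⟩ := hz'
      have h2' : w' ⤳ φ (closedPoint K) :=
        (ι.isEmbedding.isInducing.specializes_iff).mp hsp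
      rw [hmax w' h2']
  have hηbot : (j (closedPoint K)).asIdeal = ⊥ := LocPropG.asIdeal_generic A K
  have hηs : j (closedPoint K) ≠ closedPoint A := by
    intro h
    have h1 : (closedPoint A).asIdeal = ⊥ := by rw [← h]; exact hηbot
    exact IsDiscreteValuationRing.not_a_field A h1
  have hqx : q x' = j (closedPoint K) := by
    rw [hx', ← Scheme.Hom.comp_apply, hψq]
  -- the generic point of the DVR maps to a generization of y
  have hy'' : (j ≫ g) (closedPoint K) ⤳ y := by
    rw [Scheme.Hom.comp_apply, ← hg]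
    exact (IsLocalRing.specializes_closedPoint (j (closedPoint K))).map g.continuous
  have hconn := preconnected_generic f Z A K g (h1b _ hy'')
  obtain ⟨V₀, hV₀, hV₀Z⟩ := open_of_hop f Z y hop
  obtain ⟨V, hV, hVT⟩ := exists_open_trace f Z A g V₀ hV₀ (by rw [hg]; exact hV₀Z)
  obtain ⟨Ysch, yY, hyYp, hyY⟩ := exists_proper_part f Z y hop h2 A g hg
  haveI := hyYp
  have hne : ((pullback.fst f g) ⁻¹' Z ∩
      (pullback.snd f g) ⁻¹' ({closedPoint A} : Set ↥(Spec (CommRingCat.of A)))).Nonempty := by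
    obtain ⟨x, hxZ, hxy⟩ := h1a y specializes_rfl
    obtain ⟨t, ht1, ht2⟩ := Scheme.Pullback.exists_preimage_pullback (f := f) (g := g) x
      (closedPoint A) (by rw [hxy, hg])
    exact ⟨t, by change p t ∈ Z; rw [ht1]; exact hxZ, ht2⟩
  obtain ⟨W₁, hW₁c, hW₁p, hW₁s, hW₁η⟩ := key f Z h3 A g V hV hVT yY hyY hne hconn
  haveI := hW₁p
  have hx'W : x' ∈ W₁ := by
    apply hW₁η
    refine ⟨?_, ?_⟩
    · change p x' ∈ Z
      rw [hpx]; exact hwZ
    · intro h
      apply hηs
      rw [← hqx]; exact h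
  have hψrange : Set.range ψ ⊆ Set.range W₁.ι := by
    rintro _ ⟨t, rfl⟩
    have : t = closedPoint K := Subsingleton.elim _ _
    rw [this, Scheme.Opens.range_ι]
    exact hx'W
  let ψ₁ : Spec (.of K) ⟶ W₁.toScheme := IsOpenImmersion.lift W₁.ι ψ hψrange
  have hψ₁ : ψ₁ ≫ W₁.ι = ψ := IsOpenImmersion.lift_fac _ _ _
  obtain ⟨l₁, hl₁a, hl₁b⟩ := exists_section_of_proper A K (W₁.ι ≫ q) ψ₁ (by
    rw [← Category.assoc, hψ₁, hψq])
  let l : Spec (.of A) ⟶ X := l₁ ≫ W₁.ι ≫ p
  have hcond0 : p ≫ f = q ≫ g := pullback.condition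
  have hlf : l ≫ f = g := by
    change (l₁ ≫ W₁.ι ≫ p) ≫ f = g
    rw [Category.assoc, Category.assoc, hcond0, ← Category.assoc W₁.ι, ← Category.assoc l₁,
      hl₁a, Category.id_comp]
  have hjl : j ≫ l = φ ≫ ι := by
    change j ≫ l₁ ≫ W₁.ι ≫ p = φ ≫ ι
    rw [← Category.assoc, hl₁b, ← Category.assoc, hψ₁, hψp]
  have hlrange : Set.range l ⊆ (C : Set X) := by
    rintro _ ⟨t, rfl⟩
    have h1 : j (closedPoint K) ⤳ t := by
      refine (PrimeSpectrum.le_iff_specializes (j (closedPoint K)) t).mp ?_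
      change (j (closedPoint K)).asIdeal ≤ t.asIdeal
      rw [hηbot]; exact bot_le
    have h2' : l (j (closedPoint K)) ⤳ l t := h1.map l.continuous
    have h3' : l (j (closedPoint K)) ∈ closure Z := by
      rw [← Scheme.Hom.comp_apply, hjl, Scheme.Hom.comp_apply, ← hrange]
      exact ⟨_, rfl⟩
    exact h2'.mem_closed isClosed_closure h3'
  haveI : IsReduced (Spec (CommRingCat.of A)) := inferInstance
  obtain ⟨l', hl'⟩ := LocPropI.lift_reduced l C hlrange
  refine ⟨l', ?_, ?_⟩
  · rw [← Category.assoc, hl', hlf]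
  · rw [← cancel_mono ι, Category.assoc, hl', hjl]

/-- properness of the second projection from properness over an open containing the image -/
theorem isProper_snd_of_restrict {X Y T : Scheme.{u}} (f' : X ⟶ Y) (U : Y.Opens)
    [IsProper (f' ∣_ U)] (g : T ⟶ Y) (hg : Set.range g ⊆ (U : Set Y)) :
    IsProper (pullback.snd f' g) := by
  have hgr : Set.range g ⊆ Set.range U.ι := by rw [Scheme.Opens.range_ι]; exact hg
  let gU : T ⟶ U.toScheme := IsOpenImmersion.lift U.ι g hgr
  have hgU : gU ≫ U.ι = g := IsOpenImmersion.lift_fac _ _ _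
  have h1 : IsProper (pullback.snd f' U.ι) := by
    have h0 : IsProper (f' ∣_ U) := inferInstance
    have he : f' ∣_ U = (pullbackRestrictIsoRestrict f' U).inv ≫ pullback.snd f' U.ι := rfl
    rw [he] at h0
    exact (MorphismProperty.cancel_left_of_respectsIso @IsProper _ _).mp h0
  have := FibTr.snd_comp_of_snd @IsProper f' U.ι gU h1
  rw [hgU] at this
  exact this

/-- Step 2 of S4977: over generizations of `y`, the closure of `Z` adds no points. -/
theorem mem_of_mem_closure {X Y : Scheme.{u}} [IsLocallyNoetherian Y] (y : Y) (f : X ⟶ Y)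
    [IsSeparated f] [LocallyOfFiniteType f] [QuasiCompact f] (Z : Set X)
    (hZ : IsLocallyConstructible Z)
    (h1a : ∀ y' : Y, y' ⤳ y → ∃ x ∈ Z, f x = y' ∧
      Z ∩ f ⁻¹' {y'} = connectedComponentIn (f ⁻¹' {y'}) x)
    (h1b : ∀ y' : Y, y' ⤳ y → ∀ (K : Type u) [Field K]
      [Algebra (IsLocalRing.ResidueField (Y.presheaf.stalk y')) K],
      _root_.IsPreconnected
        ((FBase.bcπ (f.fiberToSpecResidueField y') K ≫ f.fiberι y').base ⁻¹' Z))
    (h3 : Subm f Z) (U : Y.Opens) (hyU : y ∈ U)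
    (hprop : IsProper (((Scheme.IdealSheafData.vanishingIdeal
      (⟨closure Z, isClosed_closure⟩ : Closeds X)).subschemeι ≫ f) ∣_ U))
    (w : X) (hw : w ∈ closure Z) (hfw : f w ⤳ y) : w ∈ Z := by
  haveI : IsLocallyNoetherian X := LocallyOfFiniteType.isLocallyNoetherian f
  set C : Closeds X := ⟨closure Z, isClosed_closure⟩ with hCdef
  set ι := (Scheme.IdealSheafData.vanishingIdeal C).subschemeι with hι
  have hrange : Set.range ι = closure Z := by
    rw [hι, Scheme.IdealSheafData.range_subschemeι,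
      Scheme.IdealSheafData.coe_support_vanishingIdeal]
    rfl
  by_contra hwZ
  obtain ⟨z, hzZ, hzw⟩ := exists_specializes_of_mem_closure hZ hw
  have hne : z ≠ w := by rintro rfl; exact hwZ hzZ
  obtain ⟨A, _, _, _, _, g₁, hg₁s, hg₁η⟩ := exists_complete_dvr_through hzw hne
  let K := FractionRing A
  set g := g₁ ≫ f with hg
  set j := Spec.map (CommRingCat.ofHom (algebraMap A K)) with hj
  set p := pullback.fst f g with hp
  set q := pullback.snd f g with hq
  have hgs : g (closedPoint A) = f w := by rw [hg, Scheme.Hom.comp_apply, hg₁s]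
  have hηbot : (j (closedPoint K)).asIdeal = ⊥ := LocPropG.asIdeal_generic A K
  have hηs : j (closedPoint K) ≠ closedPoint A := by
    intro h
    have h1 : (closedPoint A).asIdeal = ⊥ := by rw [← h]; exact hηbot
    exact IsDiscreteValuationRing.not_a_field A h1
  have hy'' : (j ≫ g) (closedPoint K) ⤳ y := by
    rw [Scheme.Hom.comp_apply]
    refine Specializes.trans ?_ hfw
    rw [← hgs]
    exact (IsLocalRing.specializes_closedPoint (j (closedPoint K))).map g.continuous
  have hconn := preconnected_generic f Z A K g (h1b _ hy'')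
  obtain ⟨x₀, hx₀Z, hx₀y, hx₀c⟩ := h1a (f w) hfw
  obtain ⟨⟨V₀, hV₀, hV₀c⟩, ⟨C₀, hC₀, hC₀c⟩⟩ := clopen_of_component f (f w) x₀ hx₀y
  obtain ⟨V, hV, hVT⟩ := exists_open_trace f Z A g V₀ hV₀ (by rw [hgs, hV₀c, hx₀c])
  -- the closed set `T`
  set T : Set ↥(pullback f g) := p ⁻¹' Z ∩
    q ⁻¹' ({closedPoint A} : Set ↥(Spec (CommRingCat.of A))) with hT
  have hTeq : T = p ⁻¹' C₀ ∩ q ⁻¹' ({closedPoint A} : Set ↥(Spec (CommRingCat.of A))) := by
    ext x''
    have hfib : q x'' = closedPoint A → f (p x'') = f w := by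
      intro h
      rw [← hgs, ← h, ← Scheme.Hom.comp_apply, ← Scheme.Hom.comp_apply, pullback.condition]
    constructor
    · rintro ⟨h1, h2⟩
      refine ⟨?_, h2⟩
      have : p x'' ∈ Z ∩ f ⁻¹' {f w} := ⟨h1, hfib h2⟩
      rw [hx₀c, ← hC₀c] at this
      exact this.1
    · rintro ⟨h1, h2⟩
      refine ⟨?_, h2⟩
      have : p x'' ∈ C₀ ∩ f ⁻¹' {f w} := ⟨h1, hfib h2⟩
      rw [hC₀c, ← hx₀c] at this
      exact this.1
  have hTclosed : IsClosed T := by
    rw [hTeq]
    exact (hC₀.preimage p.continuous).inter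
      ((IsLocalRing.isClosed_singleton_closedPoint A).preimage q.continuous)
  -- the proper scheme on `T`
  let I := Scheme.IdealSheafData.vanishingIdeal (⟨T, hTclosed⟩ : Closeds ↥(pullback f g))
  let yY : I.subscheme ⟶ pullback f g := I.subschemeι
  have hyY : Set.range yY = T := by
    change Set.range I.subschemeι = T
    rw [Scheme.IdealSheafData.range_subschemeι, Scheme.IdealSheafData.coe_support_vanishingIdeal]
    rfl
  let e := pullback.snd ι p
  haveI : IsClosedImmersion e := inferInstance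
  have hgU : Set.range g ⊆ (U : Set Y) := by
    rintro _ ⟨t, rfl⟩
    have h1 : g t ⤳ y := by
      refine Specializes.trans ?_ hfw
      rw [← hgs]
      exact (IsLocalRing.specializes_closedPoint t).map g.continuous
    exact h1.mem_open U.isOpen hyU
  haveI := hprop
  haveI : IsProper (pullback.snd (ι ≫ f) g) := isProper_snd_of_restrict (ι ≫ f) U g hgU
  haveI : IsProper (e ≫ q) := by
    have h1 : (pullbackRightPullbackFstIso f g ι).hom ≫ pullback.snd (ι ≫ f) g =
        pullback.snd ι (pullback.fst f g) ≫ pullback.snd f g :=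
      pullbackRightPullbackFstIso_hom_snd f g ι
    change IsProper (pullback.snd ι (pullback.fst f g) ≫ pullback.snd f g)
    rw [← h1]
    infer_instance
  have hTe : T ⊆ Set.range e := by
    rintro x'' ⟨h1, -⟩
    change x'' ∈ Set.range (pullback.snd ι p)
    rw [Scheme.Pullback.range_snd, hrange]
    exact subset_closure h1
  have hker : e.ker ≤ yY.ker := by
    change e.ker ≤ I.subschemeι.ker
    rw [Scheme.IdealSheafData.ker_subschemeι]
    refine le_trans (Scheme.IdealSheafData.le_radical _) ?_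
    rw [← Scheme.IdealSheafData.vanishingIdeal_support]
    apply Scheme.IdealSheafData.vanishingIdeal_antimono
    intro x'' hx''
    have : x'' ∈ closure (Set.range e) := subset_closure (hTe hx'')
    rw [← Scheme.Hom.support_ker] at this
    exact this
  let lY := IsClosedImmersion.lift e yY hker
  have hlY : lY ≫ e = yY := IsClosedImmersion.lift_fac _ _ _
  haveI : IsClosedImmersion (lY ≫ e) := by rw [hlY]; infer_instance
  haveI : IsClosedImmersion lY := IsClosedImmersion.of_comp lY e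
  haveI : IsProper (yY ≫ q) := by
    rw [← hlY, Category.assoc]
    infer_instance
  have hne' : (p ⁻¹' Z ∩
      q ⁻¹' ({closedPoint A} : Set ↥(Spec (CommRingCat.of A)))).Nonempty := by
    obtain ⟨t, ht1, ht2⟩ := Scheme.Pullback.exists_preimage_pullback (f := f) (g := g) x₀
      (closedPoint A) (by rw [hx₀y, hgs])
    exact ⟨t, by change p t ∈ Z; rw [ht1]; exact hx₀Z, ht2⟩
  obtain ⟨W₁, hW₁c, hW₁p, hW₁s, hW₁η⟩ := key f Z h3 A g V hV hVT yY hyY hne' hconn
  -- the section
  have hσc : g₁ ≫ f = 𝟙 _ ≫ g := by rw [Category.id_comp]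
  let σ : Spec (.of A) ⟶ pullback f g := pullback.lift g₁ (𝟙 _) hσc
  have hσp : σ ≫ p = g₁ := pullback.lift_fst _ _ _
  have hσq : σ ≫ q = 𝟙 _ := pullback.lift_snd _ _ _
  have hσs : σ (closedPoint A) ∉ (W₁ : Set ↥(pullback f g)) := by
    intro h
    have h1 : q (σ (closedPoint A)) = closedPoint A := by
      rw [← Scheme.Hom.comp_apply, hσq]; rfl
    have h2 : σ (closedPoint A) ∈ T := (Set.ext_iff.mp hW₁s _).mp ⟨h, h1⟩
    apply hwZ
    have h3' : p (σ (closedPoint A)) ∈ Z := h2.1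
    rw [← Scheme.Hom.comp_apply, hσp, hg₁s] at h3'
    exact h3'
  have hση : σ (j (closedPoint K)) ∈ (W₁ : Set ↥(pullback f g)) := by
    apply hW₁η
    refine ⟨?_, ?_⟩
    · change p (σ (j (closedPoint K))) ∈ Z
      rw [← Scheme.Hom.comp_apply, hσp, hg₁η _ hηs]
      exact hzZ
    · intro h
      apply hηs
      have h1 : q (σ (j (closedPoint K))) = j (closedPoint K) := by
        rw [← Scheme.Hom.comp_apply, hσq]; rfl
      rw [← h1]; exact h
  have hsp : σ (j (closedPoint K)) ⤳ σ (closedPoint A) :=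
    (IsLocalRing.specializes_closedPoint (j (closedPoint K))).map σ.continuous
  exact hσs (hsp.mem_closed hW₁c hση)

theorem isProper_restrict_of_le {X Y : Scheme.{u}} (f' : X ⟶ Y) {U U' : Y.Opens} (h : U' ≤ U)
    [IsProper (f' ∣_ U)] : IsProper (f' ∣_ U') := by
  have h1 : IsProper (pullback.snd f' U'.ι) :=
    isProper_snd_of_restrict f' U U'.ι (by rw [Scheme.Opens.range_ι]; exact h)
  have he : f' ∣_ U' = (pullbackRestrictIsoRestrict f' U').inv ≫ pullback.snd f' U'.ι := rfl
  rw [he]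
  exact (MorphismProperty.cancel_left_of_respectsIso @IsProper _ _).mpr h1

/-- S4977 -/
theorem main {X Y : Scheme.{u}} [IsLocallyNoetherian Y] (y : Y)
    (f : X ⟶ Y) [IsSeparated f] [LocallyOfFiniteType f] [QuasiCompact f] (Z : Set X)
    (hZ : Topology.IsLocallyConstructible Z)
    (h1 : ∀ y' : Y, y' ⤳ y → (∃ x ∈ Z, f.base x = y' ∧ Z ∩ f.base ⁻¹' {y'} = connectedComponentIn (f.base ⁻¹' {y'}) x) ∧
      ∀ (K : Type u) [Field K] [Algebra (IsLocalRing.ResidueField (Y.presheaf.stalk y')) K],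
        _root_.IsPreconnected ((FBase.bcπ (f.fiberToSpecResidueField y') K ≫ f.fiberι y').base ⁻¹' Z))
    (hop : IsOpen ((f.fiberι y).base ⁻¹' Z))
    (h2 : IsProper (Scheme.Opens.ι (⟨(f.fiberι y).base ⁻¹' Z, hop⟩ : (f.fiber y).Opens) ≫ f.fiberToSpecResidueField y))
    (h3 : ∀ (Y' : Scheme.{u}) (h : Y' ⟶ Y) (E : Set Y'), E ⊆ h.base ⁻¹' (f.base '' Z) →
      (∃ W : Set ↥(pullback f h), IsOpen W ∧
        W ∩ (pullback.fst f h).base ⁻¹' Z = (pullback.snd f h).base ⁻¹' E ∩ (pullback.fst f h).base ⁻¹' Z) →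
      ∃ V : Set Y', IsOpen V ∧ V ∩ h.base ⁻¹' (f.base '' Z) = E) :
    ∃ U : Y.Opens, y ∈ U ∧ ∃ hC : IsClosed ((f ⁻¹ᵁ U).ι.base ⁻¹' Z),
      IsProper ((Scheme.IdealSheafData.vanishingIdeal
        (⟨(f ⁻¹ᵁ U).ι.base ⁻¹' Z, hC⟩ : TopologicalSpace.Closeds ↥(f ⁻¹ᵁ U))).subschemeι ≫ (f ∣_ U)) := by
  haveI : IsLocallyNoetherian X := LocallyOfFiniteType.isLocallyNoetherian f
  have h1a : ∀ y' : Y, y' ⤳ y → ∃ x ∈ Z, f x = y' ∧
      Z ∩ f ⁻¹' {y'} = connectedComponentIn (f ⁻¹' {y'}) x := fun y' hy' => (h1 y' hy').1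
  have h1b := fun y' hy' => (h1 y' hy').2
  have hyp := hypC y f Z hZ (fun y' hy' => by
    obtain ⟨x, hx, hxy, -⟩ := h1a y' hy'
    exact ⟨x, hx, hxy⟩) h1b hop h2 h3
  set C : Closeds X := ⟨closure Z, isClosed_closure⟩ with hCdef
  set ι := (Scheme.IdealSheafData.vanishingIdeal C).subschemeι with hι
  haveI : IsSeparated (ι ≫ f) := inferInstance
  haveI : LocallyOfFiniteType (ι ≫ f) := inferInstance
  haveI : QuasiCompact (ι ≫ f) := inferInstance
  obtain ⟨U, hyU, hprop⟩ := LocPropF.core_C (ι ≫ f) y hyp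
  -- shrink `U`
  set B : Set X := closure Z ∩ Zᶜ with hB
  have hBlc : IsLocallyConstructible B :=
    (isLocallyConstructible_of_isClosed isClosed_closure).inter (isLocallyConstructible_compl hZ)
  have hElc : IsLocallyConstructible (f '' B) := f.isLocallyConstructible_image hBlc
  have hyE : y ∉ closure (f '' B) := by
    intro h
    obtain ⟨y', hy'E, hy'y⟩ := exists_specializes_of_mem_closure hElc h
    obtain ⟨w, ⟨hwc, hwZ⟩, rfl⟩ := hy'E
    exact hwZ (mem_of_mem_closure y f Z hZ h1a h1b h3 U hyU hprop w hwc hy'y)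
  let U' : Y.Opens := U ⊓ ⟨(closure (f '' B))ᶜ, isClosed_closure.isOpen_compl⟩
  have hyU' : y ∈ U' := ⟨hyU, hyE⟩
  have hU'U : U' ≤ U := inf_le_left
  have htrace : (f ⁻¹ᵁ U').ι.base ⁻¹' Z = (f ⁻¹ᵁ U').ι.base ⁻¹' (C : Set X) := by
    ext x
    constructor
    · intro hx
      exact subset_closure hx
    · intro hx
      by_contra hxZ
      have h1' : f ((f ⁻¹ᵁ U').ι x) ∈ f '' B := ⟨_, ⟨hx, hxZ⟩, rfl⟩
      have h2' : f ((f ⁻¹ᵁ U').ι x) ∈ U' := x.2
      exact h2'.2 (subset_closure h1')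
  have hC' : IsClosed ((f ⁻¹ᵁ U').ι.base ⁻¹' (C : Set X)) :=
    C.isClosed.preimage (f ⁻¹ᵁ U').ι.continuous
  have hC : IsClosed ((f ⁻¹ᵁ U').ι.base ⁻¹' Z) := by rw [htrace]; exact hC'
  refine ⟨U', hyU', hC, ?_⟩
  haveI := hprop
  have hprop' : IsProper ((ι ≫ f) ∣_ U') := isProper_restrict_of_le (ι ≫ f) hU'U
  have hfin := (LocPropI.isProper_iff f C U' hC').mpr hprop'
  have hEq : (⟨(f ⁻¹ᵁ U').ι.base ⁻¹' Z, hC⟩ : Closeds ↥(f ⁻¹ᵁ U')) =
      ⟨(f ⁻¹ᵁ U').ι.base ⁻¹' (C : Set X), hC'⟩ := Closeds.ext htrace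
  rw [hEq]
  exact hfin

end Groth.Agent.Helper3.LocPropK
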