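import Mathlib
import Groth.Prelude
import Groth.Agent.Helper3.LocPropK

set_option autoImplicit false
set_option linter.style.haveILetI false
set_option linter.unusedSectionVars false
set_option linter.unusedVariables false
set_option linter.deprecated false
set_option linter.style.haveILetI false
set_option linter.unusedSectionVars false
set_option linter.unusedVariables false

universe u

namespace Groth.Agent.Helper3.LocPropL

open AlgebraicGeometry CategoryTheory CategoryTheory.Limits TopologicalSpace Topology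

/-- the conclusion "Z is proper over Y at y" in the form of the statements -/
def Concl {X Y : Scheme.{u}} (f : X ⟶ Y) (Z : Set X) (y : Y) : Prop :=
  ∃ U : Y.Opens, y ∈ U ∧ ∃ hC : IsClosed ((f ⁻¹ᵁ U).ι.base ⁻¹' Z),
    IsProper ((Scheme.IdealSheafData.vanishingIdeal
      (⟨(f ⁻¹ᵁ U).ι.base ⁻¹' Z, hC⟩ : TopologicalSpace.Closeds ↥(f ⁻¹ᵁ U))).subschemeι ≫ (f ∣_ U))

/-- a flexible form of "Z is proper over Y at y" -/
def Flex {X Y : Scheme.{u}} (f : X ⟶ Y) (Z : Set X) (y : Y) : Prop :=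
  ∃ U : Y.Opens, y ∈ U ∧ ∃ (P : Scheme.{u}) (a : P ⟶ X) (b : P ⟶ U.toScheme),
    a ≫ f = b ≫ U.ι ∧ IsProper b ∧ Mono a ∧ Set.range a = Z ∩ f ⁻¹' (U : Set Y)

theorem concl_of_flex {X Y : Scheme.{u}} (f : X ⟶ Y) [IsSeparated f] (Z : Set X) (y : Y)
    (h : Flex f Z y) : Concl f Z y := by
  obtain ⟨U, hyU, P, a, b, hab, hb, ha, hr⟩ := h
  let W : X.Opens := f ⁻¹ᵁ U
  have hrW : Set.range a ⊆ Set.range W.ι := by
    rw [Scheme.Opens.range_ι, hr]; exact Set.inter_subset_right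
  let a' : P ⟶ W.toScheme := IsOpenImmersion.lift W.ι a hrW
  have ha' : a' ≫ W.ι = a := IsOpenImmersion.lift_fac _ _ _
  have hab' : a' ≫ (f ∣_ U) = b := by
    rw [← cancel_mono U.ι, Category.assoc, morphismRestrict_ι, ← Category.assoc, ha', hab]
  haveI : IsProper (a' ≫ (f ∣_ U)) := by rw [hab']; exact hb
  haveI : IsSeparated (f ∣_ U) := inferInstance
  haveI : IsProper a' := IsProper.of_comp a' (f ∣_ U)
  haveI : Mono a' := by
    haveI : Mono (a' ≫ W.ι) := by rw [ha']; exact ha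
    exact mono_of_mono a' W.ι
  haveI : IsClosedImmersion a' :=
    (IsClosedImmersion.iff_isProper_and_mono a').mpr ⟨inferInstance, inferInstance⟩
  have hra' : Set.range a' = W.ι ⁻¹' Z := by
    ext w
    constructor
    · rintro ⟨p, rfl⟩
      show W.ι (a' p) ∈ Z
      rw [← Scheme.Hom.comp_apply, ha']
      have : a p ∈ Z ∩ f ⁻¹' (U : Set Y) := by rw [← hr]; exact Set.mem_range_self p
      exact this.1
    · intro hw
      have : W.ι w ∈ Set.range a := by rw [hr]; exact ⟨hw, w.2⟩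
      obtain ⟨p, hp⟩ := this
      refine ⟨p, W.ι.isOpenEmbedding.injective ?_⟩
      rw [← Scheme.Hom.comp_apply, ha', hp]
  have hC : IsClosed (W.ι ⁻¹' Z) := by rw [← hra']; exact a'.isClosedEmbedding.isClosed_range
  refine ⟨U, hyU, hC, ?_⟩
  set C : Closeds ↥W.toScheme := ⟨W.ι ⁻¹' Z, hC⟩ with hCdef
  set ιT := (Scheme.IdealSheafData.vanishingIdeal C).subschemeι with hιT
  have hk : a'.ker ≤ ιT.ker := by
    rw [hιT, Scheme.IdealSheafData.ker_subschemeι,
      ← Scheme.IdealSheafData.le_support_iff_le_vanishingIdeal]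
    intro w hw
    have : w ∈ Set.range a' := by rw [hra']; exact hw
    exact a'.range_subset_ker_support this
  let l := IsClosedImmersion.lift a' ιT hk
  have hl : l ≫ a' = ιT := IsClosedImmersion.lift_fac _ _ _
  haveI : IsClosedImmersion (l ≫ a') := by rw [hl]; infer_instance
  haveI : IsClosedImmersion l := IsClosedImmersion.of_comp l a'
  have : ιT ≫ (f ∣_ U) = l ≫ b := by rw [← hl, Category.assoc, hab']
  show IsProper (ιT ≫ (f ∣_ U))
  rw [this]
  haveI := hb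
  infer_instance

theorem flex_of_concl {X Y : Scheme.{u}} (f : X ⟶ Y) (Z : Set X) (y : Y)
    (h : Concl f Z y) : Flex f Z y := by
  obtain ⟨U, hyU, hC, hprop⟩ := h
  set W : X.Opens := f ⁻¹ᵁ U with hW
  set C : Closeds ↥W.toScheme := ⟨W.ι ⁻¹' Z, hC⟩ with hCdef
  set ιT := (Scheme.IdealSheafData.vanishingIdeal C).subschemeι with hιT
  refine ⟨U, hyU, _, ιT ≫ W.ι, ιT ≫ (f ∣_ U), ?_, hprop, inferInstance, ?_⟩
  · rw [Category.assoc, Category.assoc, morphismRestrict_ι]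
  · have h1 : Set.range ιT = W.ι ⁻¹' Z := by
      rw [hιT, Scheme.IdealSheafData.range_subschemeι,
        Scheme.IdealSheafData.coe_support_vanishingIdeal]
      rfl
    have : Set.range (ιT ≫ W.ι) = W.ι '' Set.range ιT := by
      rw [Scheme.Hom.comp_base, TopCat.coe_comp, Set.range_comp]
    rw [this, h1, Set.image_preimage_eq_inter_range, Scheme.Opens.range_ι]
    rfl

/-- the flexible form pulls back along any base change -/
theorem flex_pull {X S Xj Sj : Scheme.{u}} (q : X ⟶ Xj) (u : X ⟶ S) (uj : Xj ⟶ Sj) (h : S ⟶ Sj)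
    (hpb : IsPullback q u uj h) (Zj : Set Xj) (y : S) (H : Flex uj Zj (h y)) :
    Flex u (q ⁻¹' Zj) y := by
  obtain ⟨Uj, hyUj, Pj, aj, bj, habj, hbj, haj, hrj⟩ := H
  let U : S.Opens := h ⁻¹ᵁ Uj
  let b : pullback bj (h ∣_ Uj) ⟶ U.toScheme := pullback.snd bj (h ∣_ Uj)
  have hw : (pullback.fst bj (h ∣_ Uj) ≫ aj) ≫ uj = (b ≫ U.ι) ≫ h := by
    rw [Category.assoc, habj, ← Category.assoc, pullback.condition, Category.assoc,
      morphismRestrict_ι, Category.assoc]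
  let a : pullback bj (h ∣_ Uj) ⟶ X := hpb.lift (pullback.fst bj (h ∣_ Uj) ≫ aj) (b ≫ U.ι) hw
  have ha1 : a ≫ q = pullback.fst bj (h ∣_ Uj) ≫ aj := hpb.lift_fst _ _ _
  have ha2 : a ≫ u = b ≫ U.ι := hpb.lift_snd _ _ _
  have hbig : IsPullback (pullback.fst bj (h ∣_ Uj)) (b ≫ U.ι) (bj ≫ Uj.ι) h :=
    (IsPullback.of_hasPullback bj (h ∣_ Uj)).paste_vert (isPullback_morphismRestrict h Uj)
  have hbig' : IsPullback (pullback.fst bj (h ∣_ Uj)) (a ≫ u) (aj ≫ uj) h := by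
    rw [ha2, habj]; exact hbig
  have hsq : IsPullback (pullback.fst bj (h ∣_ Uj)) a aj q :=
    IsPullback.of_bot hbig' ha1.symm hpb
  haveI := haj
  have hmono : Mono a := PullbackCone.mono_snd_of_is_pullback_of_mono hsq.isLimit
  have hrange : Set.range a = q ⁻¹' Set.range aj := by
    have h1 : hsq.isoPullback.hom ≫ pullback.snd aj q = a := hsq.isoPullback_hom_snd
    rw [← h1, Scheme.Hom.comp_base, TopCat.coe_comp, Set.range_comp,
      Set.range_eq_univ.mpr hsq.isoPullback.hom.surjective, Set.image_univ,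
      Scheme.Pullback.range_snd]
  refine ⟨U, hyUj, _, a, b, ha2, ?_, hmono, ?_⟩
  · haveI := hbj
    exact MorphismProperty.pullback_snd _ _ hbj
  · rw [hrange, hrj]
    ext x
    have hx : uj (q x) = h (u x) := by
      rw [← Scheme.Hom.comp_apply, hpb.w, Scheme.Hom.comp_apply]
    constructor
    · rintro ⟨h1, h2⟩
      refine ⟨h1, ?_⟩
      show h (u x) ∈ Uj
      rw [← hx]; exact h2
    · rintro ⟨h1, h2⟩
      refine ⟨h1, ?_⟩
      show uj (q x) ∈ Uj
      rw [hx]; exact h2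

/-- the flexible form is local on the base -/
theorem flex_local {X Y : Scheme.{u}} (f : X ⟶ Y) (Z : Set X) (V : Y.Opens) (y : Y) (hy : y ∈ V)
    (H : Flex (f ∣_ V) ((f ⁻¹ᵁ V).ι ⁻¹' Z) ⟨y, hy⟩) : Flex f Z y := by
  obtain ⟨UV, hyUV, P, aV, bV, hab, hb, ha, hr⟩ := H
  let U : Y.Opens := V.ι ''ᵁ UV
  have hyU : y ∈ U := ⟨⟨y, hy⟩, hyUV, rfl⟩
  let e : UV.toScheme ≅ U.toScheme := V.ι.isoImage UV
  have he : e.hom ≫ U.ι = UV.ι ≫ V.ι := Scheme.Hom.isoImage_hom_ι _ _
  haveI := hb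
  haveI := ha
  refine ⟨U, hyU, P, aV ≫ (f ⁻¹ᵁ V).ι, bV ≫ e.hom, ?_, inferInstance, inferInstance, ?_⟩
  · rw [Category.assoc, Category.assoc, he, ← morphismRestrict_ι, ← Category.assoc, hab,
      Category.assoc]
  · have h1 : Set.range (aV ≫ (f ⁻¹ᵁ V).ι) = (f ⁻¹ᵁ V).ι '' Set.range aV := by
      rw [Scheme.Hom.comp_base, TopCat.coe_comp, Set.range_comp]
    rw [h1, hr]
    ext x
    constructor
    · rintro ⟨w, ⟨hwZ, hwU⟩, rfl⟩
      refine ⟨hwZ, ⟨(f ∣_ V) w, hwU, ?_⟩⟩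
      show V.ι ((f ∣_ V) w) = f ((f ⁻¹ᵁ V).ι w)
      rw [← Scheme.Hom.comp_apply, ← Scheme.Hom.comp_apply, morphismRestrict_ι]
    · rintro ⟨hxZ, ⟨v, hvU, hv⟩⟩
      have hxV : x ∈ f ⁻¹ᵁ V := by
        show f x ∈ V
        rw [← hv]; exact v.2
      refine ⟨⟨x, hxV⟩, ⟨hxZ, ?_⟩, rfl⟩
      have : (f ∣_ V) ⟨x, hxV⟩ = v := by
        apply V.ι.isOpenEmbedding.injective
        show V.ι ((f ∣_ V) ⟨x, hxV⟩) = V.ι v
        rw [← Scheme.Hom.comp_apply, morphismRestrict_ι, Scheme.Hom.comp_apply]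
        exact hv.symm
      show (f ∣_ V) ⟨x, hxV⟩ ∈ UV
      rw [this]; exact hvU

end Groth.Agent.Helper3.LocPropL
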