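import Mathlib
import Groth.Prelude
import Groth.Agent.Helper3.LocPropL

set_option autoImplicit false
set_option linter.style.haveILetI false
set_option linter.unusedSectionVars false
set_option linter.unusedVariables false
set_option linter.deprecated false
set_option linter.style.haveILetI false
set_option linter.unusedSectionVars false
set_option linter.unusedVariables false

universe u

namespace Groth.Agent.Helper3.LocPropM

open AlgebraicGeometry CategoryTheory CategoryTheory.Limits TopologicalSpace Topology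

/-- comparison of fibres for a base change -/
theorem exists_fibre_map {X S Xj Sj : Scheme.{u}} (q : X ⟶ Xj) (u : X ⟶ S) (uj : Xj ⟶ Sj)
    (h : S ⟶ Sj) (hpb : IsPullback q u uj h) (y : S) :
    ∃ ρ : u.fiber y ⟶ uj.fiber (h y), ρ ≫ uj.fiberι (h y) = u.fiberι y ≫ q ∧
      IsPullback ρ (u.fiberToSpecResidueField y) (uj.fiberToSpecResidueField (h y))
        (Spec.map (h.residueFieldMap y)) := by
  refine ⟨pullback.map _ _ _ _ q (Spec.map (h.residueFieldMap y)) h hpb.w.symm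
      (Scheme.Hom.SpecMap_residueFieldMap_fromSpecResidueField h y).symm, ?_,
    isPullback_fiberToSpecResidueField_of_isPullback hpb y⟩
  exact pullback.lift_fst _ _ _

/-- the square of open subschemes of the fibres -/
theorem isPullback_opens {X S Xj Sj : Scheme.{u}} (u : X ⟶ S) (uj : Xj ⟶ Sj)
    (h : S ⟶ Sj) (y : S) (ρ : u.fiber y ⟶ uj.fiber (h y))
    (hρ : IsPullback ρ (u.fiberToSpecResidueField y) (uj.fiberToSpecResidueField (h y))
        (Spec.map (h.residueFieldMap y))) (Oj : (uj.fiber (h y)).Opens) :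
    IsPullback (ρ ∣_ Oj) ((ρ ⁻¹ᵁ Oj).ι ≫ u.fiberToSpecResidueField y)
      (Oj.ι ≫ uj.fiberToSpecResidueField (h y)) (Spec.map (h.residueFieldMap y)) :=
  (isPullback_morphismRestrict ρ Oj).paste_vert hρ

/-- base change direction -/
theorem fibre_hyp_pull {X S Xj Sj : Scheme.{u}} (q : X ⟶ Xj) (u : X ⟶ S) (uj : Xj ⟶ Sj)
    (h : S ⟶ Sj) (hpb : IsPullback q u uj h) (y : S) (Zj : Set Xj)
    (hopj : IsOpen ((uj.fiberι (h y)).base ⁻¹' Zj))
    (hpropj : IsProper (Scheme.Opens.ι (⟨(uj.fiberι (h y)).base ⁻¹' Zj, hopj⟩ :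
      (uj.fiber (h y)).Opens) ≫ uj.fiberToSpecResidueField (h y))) :
    ∃ hop : IsOpen ((u.fiberι y).base ⁻¹' (q ⁻¹' Zj)),
      IsProper (Scheme.Opens.ι (⟨(u.fiberι y).base ⁻¹' (q ⁻¹' Zj), hop⟩ : (u.fiber y).Opens) ≫
        u.fiberToSpecResidueField y) := by
  obtain ⟨ρ, hρι, hρ⟩ := exists_fibre_map q u uj h hpb y
  set Oj : (uj.fiber (h y)).Opens := ⟨(uj.fiberι (h y)).base ⁻¹' Zj, hopj⟩ with hOj
  have hEq : (u.fiberι y).base ⁻¹' (q ⁻¹' Zj) = ((ρ ⁻¹ᵁ Oj : (u.fiber y).Opens) : Set _) := by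
    ext t
    show q (u.fiberι y t) ∈ Zj ↔ uj.fiberι (h y) (ρ t) ∈ Zj
    rw [← Scheme.Hom.comp_apply, ← Scheme.Hom.comp_apply, hρι]
  have hop : IsOpen ((u.fiberι y).base ⁻¹' (q ⁻¹' Zj)) := by
    rw [hEq]; exact (ρ ⁻¹ᵁ Oj).isOpen
  refine ⟨hop, ?_⟩
  have hE : (⟨(u.fiberι y).base ⁻¹' (q ⁻¹' Zj), hop⟩ : (u.fiber y).Opens) = ρ ⁻¹ᵁ Oj :=
    Opens.ext hEq
  rw [hE]
  exact MorphismProperty.of_isPullback (isPullback_opens u uj h y ρ hρ Oj) hpropj

/-- a morphism of spectra of fields is an fpqc covering -/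
theorem fpqc_of_fields {K L : Type u} [Field K] [Field L] (φ : K →+* L) :
    (@Surjective ⊓ @Flat ⊓ @QuasiCompact : MorphismProperty Scheme.{u})
      (Spec.map (CommRingCat.ofHom φ)) := by
  refine ⟨⟨⟨fun x => ⟨IsLocalRing.closedPoint L, Subsingleton.elim _ _⟩⟩, ?_⟩, inferInstance⟩
  rw [HasRingHomProperty.Spec_iff (P := @Flat)]
  letI := φ.toAlgebra
  show (algebraMap K L).Flat
  rw [RingHom.flat_algebraMap_iff]
  infer_instance

/-- descent direction -/
theorem fibre_hyp_descend {X S Xj Sj : Scheme.{u}} (q : X ⟶ Xj) (u : X ⟶ S) (uj : Xj ⟶ Sj)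
    [IsSeparated uj] [LocallyOfFiniteType uj] [QuasiCompact uj]
    (h : S ⟶ Sj) (hpb : IsPullback q u uj h) (y : S) (Zj : Set Xj)
    (hopj : IsOpen ((uj.fiberι (h y)).base ⁻¹' Zj))
    (hop : IsOpen ((u.fiberι y).base ⁻¹' (q ⁻¹' Zj)))
    (hprop : IsProper (Scheme.Opens.ι (⟨(u.fiberι y).base ⁻¹' (q ⁻¹' Zj), hop⟩ :
      (u.fiber y).Opens) ≫ u.fiberToSpecResidueField y)) :
    IsProper (Scheme.Opens.ι (⟨(uj.fiberι (h y)).base ⁻¹' Zj, hopj⟩ :
      (uj.fiber (h y)).Opens) ≫ uj.fiberToSpecResidueField (h y)) := by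
  obtain ⟨ρ, hρι, hρ⟩ := exists_fibre_map q u uj h hpb y
  set Oj : (uj.fiber (h y)).Opens := ⟨(uj.fiberι (h y)).base ⁻¹' Zj, hopj⟩ with hOj
  have hEq : (u.fiberι y).base ⁻¹' (q ⁻¹' Zj) = ((ρ ⁻¹ᵁ Oj : (u.fiber y).Opens) : Set _) := by
    ext t
    show q (u.fiberι y t) ∈ Zj ↔ uj.fiberι (h y) (ρ t) ∈ Zj
    rw [← Scheme.Hom.comp_apply, ← Scheme.Hom.comp_apply, hρι]
  have hE : (⟨(u.fiberι y).base ⁻¹' (q ⁻¹' Zj), hop⟩ : (u.fiber y).Opens) = ρ ⁻¹ᵁ Oj :=
    Opens.ext hEq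
  rw [hE] at hprop
  have sq := isPullback_opens u uj h y ρ hρ Oj
  haveI : IsSeparated (uj.fiberToSpecResidueField (h y)) :=
    inferInstanceAs (IsSeparated (pullback.snd uj (Sj.fromSpecResidueField (h y))))
  haveI : LocallyOfFiniteType (uj.fiberToSpecResidueField (h y)) :=
    inferInstanceAs (LocallyOfFiniteType (pullback.snd uj (Sj.fromSpecResidueField (h y))))
  haveI : QuasiCompact (uj.fiberToSpecResidueField (h y)) :=
    inferInstanceAs (QuasiCompact (pullback.snd uj (Sj.fromSpecResidueField (h y))))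
  haveI : IsNoetherian (uj.fiber (h y)) :=
    { toIsLocallyNoetherian := LocallyOfFiniteType.isLocallyNoetherian
        (uj.fiberToSpecResidueField (h y))
      toCompactSpace := QuasiCompact.compactSpace_of_compactSpace
        (uj.fiberToSpecResidueField (h y)) }
  haveI : NoetherianSpace ↥(uj.fiber (h y)) := inferInstance
  haveI : CompactSpace ↥Oj.toScheme :=
    isCompact_iff_compactSpace.mp (NoetherianSpace.isCompact (Oj : Set ↥(uj.fiber (h y))))
  haveI : QuasiCompact (Oj.ι ≫ uj.fiberToSpecResidueField (h y)) := inferInstance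
  haveI : UniversallyClosed (Oj.ι ≫ uj.fiberToSpecResidueField (h y)) := by
    have huc : UniversallyClosed ((ρ ⁻¹ᵁ Oj).ι ≫ u.fiberToSpecResidueField y) := by
      haveI := hprop
      infer_instance
    exact MorphismProperty.of_isPullback_of_descendsAlong (P := @UniversallyClosed)
      (Q := @Surjective ⊓ @Flat ⊓ @QuasiCompact) sq.flip (fpqc_of_fields (h.residueFieldMap y).hom) huc
  exact { }

end Groth.Agent.Helper3.LocPropM
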