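import Mathlib
import Groth.Prelude
import Groth.Agent.Helper3.LocPropM
import Groth.Agent.Helper5.SecCompH

set_option autoImplicit false
set_option linter.style.haveILetI false
set_option linter.unusedSectionVars false
set_option linter.unusedVariables false
set_option linter.deprecated false
set_option linter.style.haveILetI false
set_option linter.unusedSectionVars false
set_option linter.unusedVariables false

universe u

namespace Groth.Agent.Helper3.LocPropN

open AlgebraicGeometry CategoryTheory CategoryTheory.Limits TopologicalSpace Topology IsLocalRing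
open Groth.Agent.Helper3.LocPropL

theorem section_apply {X Y : Scheme.{u}} (f : X ⟶ Y) (g : Y ⟶ X) (hg : g ≫ f = 𝟙 Y) (y : Y) :
    f (g y) = y := by
  rw [← Scheme.Hom.comp_apply, hg]; rfl

/-- membership in `sectionComponents` over a given point -/
theorem mem_sectionComponents_iff {X Y : Scheme.{u}} (f : X ⟶ Y) (g : Y ⟶ X) {x : X} {y : Y}
    (hx : f x = y) :
    x ∈ MoreMor.sectionComponents f g ↔ x ∈ connectedComponentIn (f ⁻¹' {y}) (g y) := by
  subst hx
  rfl

/-- the trace of `sectionComponents` on a fibre -/
theorem preimage_sectionComponents {X Y : Scheme.{u}} (f : X ⟶ Y) (g : Y ⟶ X) (y : Y) :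
    (f.fiberι y).base ⁻¹' MoreMor.sectionComponents f g =
      (f.fiberι y).base ⁻¹' connectedComponentIn (f.base ⁻¹' {y}) (g.base y) := by
  ext t
  have ht : f (f.fiberι y t) = y := by
    have : f.fiberι y t ∈ Set.range (f.fiberι y) := ⟨t, rfl⟩
    rw [Scheme.Hom.range_fiberι] at this
    exact this
  exact mem_sectionComponents_iff f g ht

/-- the connected component of the section in a fibre is geometrically connected -/
theorem geom_preconnected {X Y : Scheme.{u}} (f : X ⟶ Y) (g : Y ⟶ X) (hg : g ≫ f = 𝟙 Y) (y' : Y)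
    (K : Type u) [Field K] [Algebra (IsLocalRing.ResidueField (Y.presheaf.stalk y')) K] :
    _root_.IsPreconnected ((FBase.bcπ (f.fiberToSpecResidueField y') K ≫ f.fiberι y').base ⁻¹'
      MoreMor.sectionComponents f g) := by
  let j : Spec (.of K) ⟶ Spec (Y.residueField y') :=
    Spec.map (CommRingCat.ofHom (algebraMap (IsLocalRing.ResidueField (Y.presheaf.stalk y')) K))
  set π := FBase.bcπ (f.fiberToSpecResidueField y') K with hπ
  let str : FBase.bc (f.fiberToSpecResidueField y') K ⟶ Spec (.of K) :=
    FBase.bcStr (f.fiberToSpecResidueField y') K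
  have h1 : IsPullback π str (f.fiberToSpecResidueField y') j :=
    IsPullback.of_hasPullback (f.fiberToSpecResidueField y') j
  have h2 : IsPullback (f.fiberι y') (f.fiberToSpecResidueField y') f
      (Y.fromSpecResidueField y') := IsPullback.of_hasPullback f (Y.fromSpecResidueField y')
  have hc : IsPullback (π ≫ f.fiberι y') str f (j ≫ Y.fromSpecResidueField y') :=
    h1.paste_horiz h2
  set pt : ↥(Spec (CommRingCat.of K)) := closedPoint K with hpt
  set y'' : Y := (j ≫ Y.fromSpecResidueField y') pt with hy''
  have hyy : y'' = y' := by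
    rw [hy'', Scheme.Hom.comp_apply, Scheme.fromSpecResidueField_apply]
  have hmem : g y'' ∈ f ⁻¹' {y''} := section_apply f g hg y''
  obtain ⟨Zc, hZc, hCZ⟩ :=
    Groth.Agent.Helper5.SecComp.exists_isClosed_connectedComponentIn (f ⁻¹' {y''}) (g y'') hmem
  have key := Groth.Agent.Helper5.SecComp.isPreconnected_preimage f g hg str (π ≫ f.fiberι y')
    (j ≫ Y.fromSpecResidueField y') hc pt (connectedComponentIn (f ⁻¹' {y''}) (g y'')) Zc hZc hCZ
    isPreconnected_connectedComponentIn (mem_connectedComponentIn hmem)
  have hset : (π ≫ f.fiberι y').base ⁻¹' MoreMor.sectionComponents f g =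
      str ⁻¹' {pt} ∩ (π ≫ f.fiberι y') ⁻¹' connectedComponentIn (f ⁻¹' {y''}) (g y'') := by
    ext t
    have ht : f ((π ≫ f.fiberι y') t) = y'' := by
      rw [hyy, Scheme.Hom.comp_apply]
      have : f.fiberι y' (π t) ∈ Set.range (f.fiberι y') := ⟨_, rfl⟩
      rw [Scheme.Hom.range_fiberι] at this
      exact this
    have hstr : str t = pt := Subsingleton.elim (α := PrimeSpectrum K) _ _
    constructor
    · intro h
      exact ⟨hstr, (mem_sectionComponents_iff f g ht).mp h⟩
    · rintro ⟨-, h⟩
      exact (mem_sectionComponents_iff f g ht).mpr h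
  rw [hset]
  exact key

/-- the Noetherian case of S4976 -/
theorem noeth {X Y : Scheme.{u}} [IsLocallyNoetherian Y] (f : X ⟶ Y) [IsSeparated f]
    [LocallyOfFinitePresentation f] [QuasiCompact f] (g : Y ⟶ X) (hg : g ≫ f = 𝟙 Y) (y : Y)
    (hop : IsOpen ((f.fiberι y).base ⁻¹' MoreMor.sectionComponents f g))
    (hprop : IsProper (Scheme.Opens.ι (⟨(f.fiberι y).base ⁻¹' MoreMor.sectionComponents f g, hop⟩ :
      (f.fiber y).Opens) ≫ f.fiberToSpecResidueField y)) :
    Concl f (MoreMor.sectionComponents f g) y := by
  haveI : QuasiSeparated f := inferInstance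
  refine LocPropK.main y f (MoreMor.sectionComponents f g)
    (Groth.Agent.Helper5.SecComp.s1326 f g hg) ?_ hop hprop ?_
  · intro y' _
    refine ⟨⟨g y', ?_, section_apply f g hg y', ?_⟩, fun K _ _ => geom_preconnected f g hg y' K⟩
    · exact (mem_sectionComponents_iff f g (section_apply f g hg y')).mpr
        (mem_connectedComponentIn (section_apply f g hg y'))
    · ext x
      constructor
      · rintro ⟨h1, h2⟩
        exact (mem_sectionComponents_iff f g h2).mp h1
      · intro h
        have h2 : f x = y' := connectedComponentIn_subset (f ⁻¹' {y'}) (g y') h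
        exact ⟨(mem_sectionComponents_iff f g h2).mpr h, h2⟩
  · intro Y' h E hE ⟨W, hW, hWE⟩
    let g' : Y' ⟶ pullback f h :=
      pullback.lift (h ≫ g) (𝟙 _) (by rw [Category.assoc, hg, Category.comp_id, Category.id_comp])
    have hg'1 : g' ≫ pullback.fst f h = h ≫ g := pullback.lift_fst _ _ _
    have hg'2 : g' ≫ pullback.snd f h = 𝟙 _ := pullback.lift_snd _ _ _
    refine ⟨g' ⁻¹' W, hW.preimage g'.continuous, ?_⟩
    have hZ' : ∀ y1 : Y', g' y1 ∈ (pullback.fst f h).base ⁻¹' MoreMor.sectionComponents f g := by
      intro y1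
      show (pullback.fst f h) (g' y1) ∈ MoreMor.sectionComponents f g
      rw [← Scheme.Hom.comp_apply, hg'1, Scheme.Hom.comp_apply]
      exact (mem_sectionComponents_iff f g (section_apply f g hg (h y1))).mpr
        (mem_connectedComponentIn (section_apply f g hg (h y1)))
    have hsnd : ∀ y1 : Y', (pullback.snd f h) (g' y1) = y1 := by
      intro y1
      rw [← Scheme.Hom.comp_apply, hg'2]; rfl
    ext y1
    constructor
    · rintro ⟨h1, -⟩
      have h2 : g' y1 ∈ W ∩ (pullback.fst f h).base ⁻¹' MoreMor.sectionComponents f g :=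
        ⟨h1, hZ' y1⟩
      rw [hWE] at h2
      have h3 : (pullback.snd f h) (g' y1) ∈ E := h2.1
      rwa [hsnd] at h3
    · intro h1
      refine ⟨?_, hE h1⟩
      have h2 : g' y1 ∈ (pullback.snd f h).base ⁻¹' E ∩
          (pullback.fst f h).base ⁻¹' MoreMor.sectionComponents f g := by
        refine ⟨?_, hZ' y1⟩
        show (pullback.snd f h) (g' y1) ∈ E
        rw [hsnd]; exact h1
      rw [← hWE] at h2
      exact h2.1

end Groth.Agent.Helper3.LocPropN
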