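import Mathlib
import Groth.Prelude
import Groth.Agent.Helper3.LocPropN
import Groth.Agent.Helper2.FlatNoeth2
import Groth.Agent.S9190

set_option autoImplicit false
set_option linter.style.haveILetI false
set_option linter.unusedSectionVars false
set_option linter.unusedVariables false
set_option linter.deprecated false
set_option linter.style.haveILetI false
set_option linter.unusedSectionVars false
set_option linter.unusedVariables false

universe u

namespace Groth.Agent.Helper3.LocPropO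

open AlgebraicGeometry CategoryTheory CategoryTheory.Limits TopologicalSpace Topology IsLocalRing
open Groth.Agent.Helper3.LocPropL Groth.Agent.Helper3.LocPropM Groth.Agent.Helper3.LocPropN
open Groth.Agent.Lead Groth.Agent.Helper5.ConsLc Groth.Agent.Helper5.SecComp

/-- the trace of `sectionComponents` on a fibre of a finite type morphism is open -/
theorem isOpen_trace {X Y : Scheme.{u}} (f : X ⟶ Y) [LocallyOfFiniteType f] [QuasiCompact f]
    (g : Y ⟶ X) (hg : g ≫ f = 𝟙 Y) (y : Y) :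
    IsOpen ((f.fiberι y).base ⁻¹' MoreMor.sectionComponents f g) := by
  rw [preimage_sectionComponents]
  obtain ⟨⟨V₀, hV₀, hV₀e⟩, -⟩ := LocPropK.clopen_of_component f y (g y) (section_apply f g hg y)
  have : (f.fiberι y).base ⁻¹' connectedComponentIn (f.base ⁻¹' {y}) (g.base y) =
      (f.fiberι y) ⁻¹' V₀ := by
    ext t
    have ht : f.fiberι y t ∈ f ⁻¹' {y} := by
      have : f.fiberι y t ∈ Set.range (f.fiberι y) := ⟨t, rfl⟩
      rw [Scheme.Hom.range_fiberι] at this
      exact this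
    constructor
    · intro h
      have : f.fiberι y t ∈ V₀ ∩ f ⁻¹' {y} := by rw [hV₀e]; exact h
      exact this.1
    · intro h
      have : f.fiberι y t ∈ V₀ ∩ f ⁻¹' {y} := ⟨h, ht⟩
      rw [hV₀e] at this
      exact this
  rw [this]
  exact hV₀.preimage (f.fiberι y).continuous

/-- transport to a Noetherian model -/
theorem flex_of_model {X S Xj Sj : Scheme.{u}} [IsLocallyNoetherian Sj] (q : X ⟶ Xj) (u : X ⟶ S)
    (uj : Xj ⟶ Sj) (h : S ⟶ Sj) (hpb : IsPullback q u uj h)
    [IsSeparated uj] [LocallyOfFinitePresentation uj] [QuasiCompact uj]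
    (s : S ⟶ X) (hs : s ≫ u = 𝟙 S) (sj : Sj ⟶ Xj) (hsj : sj ≫ uj = 𝟙 Sj)
    (hcompat : s ≫ q = h ≫ sj) (y : S)
    (hop : IsOpen ((u.fiberι y).base ⁻¹' MoreMor.sectionComponents u s))
    (hprop : IsProper (Scheme.Opens.ι (⟨(u.fiberι y).base ⁻¹' MoreMor.sectionComponents u s, hop⟩ :
      (u.fiber y).Opens) ≫ u.fiberToSpecResidueField y)) :
    Flex u (MoreMor.sectionComponents u s) y := by
  have hSC : MoreMor.sectionComponents u s = q ⁻¹' MoreMor.sectionComponents uj sj :=
    s1324 uj sj hsj u q h hpb s hs hcompat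
  have key : ∀ (Z : Set X) (hZ : Z = q ⁻¹' MoreMor.sectionComponents uj sj)
      (hop : IsOpen ((u.fiberι y).base ⁻¹' Z))
      (hprop : IsProper (Scheme.Opens.ι (⟨(u.fiberι y).base ⁻¹' Z, hop⟩ :
        (u.fiber y).Opens) ≫ u.fiberToSpecResidueField y)), Flex u Z y := by
    intro Z hZ
    subst hZ
    intro hop hprop
    have hopj := isOpen_trace uj sj hsj (h y)
    have hpropj := fibre_hyp_descend q u uj h hpb y (MoreMor.sectionComponents uj sj) hopj hop hprop
    exact flex_pull q u uj h hpb _ y (flex_of_concl uj _ (h y) (noeth uj sj hsj (h y) hopj hpropj))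
  exact key _ hSC hop hprop

set_option backward.isDefEq.respectTransparency false in
/-- the case of an affine base -/
theorem affine_case {S : Scheme.{u}} [IsAffine S] {X : Scheme.{u}} (u : X ⟶ S)
    [IsSeparated u] [LocallyOfFinitePresentation u] [QuasiCompact u]
    (s : S ⟶ X) (hs : s ≫ u = 𝟙 S) (y : S)
    (hop : IsOpen ((u.fiberι y).base ⁻¹' MoreMor.sectionComponents u s))
    (hprop : IsProper (Scheme.Opens.ι (⟨(u.fiberι y).base ⁻¹' MoreMor.sectionComponents u s, hop⟩ :
      (u.fiber y).Opens) ≫ u.fiberToSpecResidueField y)) :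
    Flex u (MoreMor.sectionComponents u s) y := by
  haveI : QuasiSeparated u := inferInstance
  have hfg : (⊥ : Subalgebra ℤ Γ(S, ⊤)).FG := Subalgebra.fg_bot
  haveI := SubalgSys.isCofiltered hfg
  have hc : IsLimit (SubalgSys.cone Γ(S, ⊤) ⊥) := SubalgSys.coneIsLimit hfg
  haveI : ∀ (i j : (SubalgSys.Idx Γ(S, ⊤) ⊥)ᵒᵖ) (f : i ⟶ j),
      IsAffineHom ((SubalgSys.D Γ(S, ⊤) ⊥).map f) := fun _ _ f => inferInstance
  haveI : ∀ i, CompactSpace ((SubalgSys.D Γ(S, ⊤) ⊥).obj i) := fun i => inferInstance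
  haveI : ∀ i, QuasiSeparatedSpace ((SubalgSys.D Γ(S, ⊤) ⊥).obj i) := fun i => inferInstance
  let D := SubalgSys.D Γ(S, ⊤) ⊥
  let c := SubalgSys.cone Γ(S, ⊤) ⊥
  let e : S ≅ c.pt := S.isoSpec
  have hs' : (e.inv ≫ s) ≫ (u ≫ e.hom) = 𝟙 _ := by
    rw [Category.assoc, ← Category.assoc s, hs, Category.id_comp, e.inv_hom_id]
  obtain ⟨k, -, Xk, uk, sk, q, h1, h2, H, hsk, hcompat⟩ :=
    exists_stage_model_section D c hc
      (u ≫ e.hom) (e.inv ≫ s) hs' (Opposite.op (SubalgSys.base _ ⊥ hfg))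
  haveI := h1
  haveI := h2
  haveI : IsNoetherian (D.obj k) := isNoetherian_stage k
  haveI : IsLocallyNoetherian Xk := LocallyOfFiniteType.isLocallyNoetherian uk
  haveI : CompactSpace Xk := QuasiCompact.compactSpace_of_compactSpace uk
  haveI : IsNoetherian Xk := {}
  haveI : QuasiSeparatedSpace Xk := inferInstance
  have hY : IsPullback (c.π.app k) (𝟙 c.pt) (𝟙 (D.obj k)) (c.π.app k) :=
    haveI : IsIso (𝟙 c.pt) := inferInstance
    IsPullback.of_vert_isIso ⟨(Category.comp_id _).trans (Category.id_comp _).symm⟩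
  haveI : IsSeparated (u ≫ e.hom) := inferInstance
  obtain ⟨i, φ, Xi, Yi, fi, gi, pY, pX, hYi, hXi, hsep⟩ :=
    Groth.Agent.S9190.result D c hc k uk (𝟙 (D.obj k)) (u ≫ e.hom) (𝟙 c.pt) (c.π.app k) q hY H
  obtain ⟨vX, hvX1, hgi, hpb, hlfp, hqc, vY, hvY1, hvY2, hvX2⟩ :=
    Groth.Agent.Helper2.FlatNoeth.assemble D c φ (u ≫ e.hom) uk q H fi gi pY pX hYi hXi
  haveI := hgi
  haveI := hsep
  haveI := hlfp
  haveI := hqc
  haveI : IsSeparated (fi ≫ gi) := inferInstance
  -- the section at the new stage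
  let si' : Yi ⟶ Xi := hXi.lift (pY ≫ sk) (𝟙 Yi)
    (by rw [Category.assoc, hsk, Category.comp_id, Category.id_comp])
  have hsi'1 : si' ≫ pX = pY ≫ sk := hXi.lift_fst _ _ _
  have hsi'2 : si' ≫ fi = 𝟙 Yi := hXi.lift_snd _ _ _
  let si : D.obj i ⟶ Xi := inv gi ≫ si'
  have hsi : si ≫ (fi ≫ gi) = 𝟙 _ := by
    show (inv gi ≫ si') ≫ fi ≫ gi = 𝟙 _
    rw [Category.assoc, ← Category.assoc si', hsi'2, Category.id_comp, IsIso.inv_hom_id]
  have hvY : c.π.app i ≫ inv gi = vY := by
    rw [← hvY2, Category.assoc, IsIso.hom_inv_id, Category.comp_id]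
  have hcompat1 : (e.inv ≫ s) ≫ vX = c.π.app i ≫ si := by
    apply hXi.hom_ext
    · rw [Category.assoc, hvX1, hcompat]
      show _ = (c.π.app i ≫ inv gi ≫ si') ≫ pX
      rw [← Category.assoc (c.π.app i), hvY, Category.assoc, hsi'1, ← Category.assoc, hvY1]
    · rw [Category.assoc, hvX2, ← Category.assoc, hs', Category.id_comp]
      show _ = (c.π.app i ≫ inv gi ≫ si') ≫ fi
      rw [← Category.assoc (c.π.app i), hvY, Category.assoc, hsi'2, Category.comp_id]
  have H' : IsPullback vX u (fi ≫ gi) (e.hom ≫ c.π.app i) := isPullback_of_comp_iso e hpb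
  have hcompat' : s ≫ vX = (e.hom ≫ c.π.app i) ≫ si := by
    rw [Category.assoc, ← hcompat1, ← Category.assoc, ← Category.assoc, e.hom_inv_id,
      Category.id_comp]
  haveI : IsNoetherian (D.obj i) := isNoetherian_stage i
  exact flex_of_model vX u (fi ≫ gi) (e.hom ≫ c.π.app i) H' s hs si hsi hcompat' y hop hprop

end Groth.Agent.Helper3.LocPropO
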