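import Mathlib
import Groth.Prelude
import Groth.Agent.Helper3.LocPropO

set_option autoImplicit false
set_option linter.style.haveILetI false
set_option linter.unusedSectionVars false
set_option linter.unusedVariables false
set_option linter.deprecated false
set_option linter.style.haveILetI false
set_option linter.unusedSectionVars false
set_option linter.unusedVariables false

universe u

namespace Groth.Agent.Helper3.LocPropP

open AlgebraicGeometry CategoryTheory CategoryTheory.Limits TopologicalSpace Topology IsLocalRing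
open Groth.Agent.Helper3.LocPropL Groth.Agent.Helper3.LocPropM Groth.Agent.Helper3.LocPropN
open Groth.Agent.Helper3.LocPropO
open Groth.Agent.Lead Groth.Agent.Helper5.ConsLc Groth.Agent.Helper5.SecComp

/-- the local case: the point lies in an affine open -/
theorem local_case {X Y : Scheme.{u}} (f : X ⟶ Y) [IsSeparated f]
    [LocallyOfFinitePresentation f] [QuasiCompact f] (g : Y ⟶ X) (hg : g ≫ f = 𝟙 Y)
    (V : Y.Opens) (hV : IsAffineOpen V) (yV : V.toScheme)
    (hop : IsOpen ((f.fiberι (V.ι yV)).base ⁻¹' MoreMor.sectionComponents f g))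
    (hprop : IsProper (Scheme.Opens.ι
      (⟨(f.fiberι (V.ι yV)).base ⁻¹' MoreMor.sectionComponents f g, hop⟩ :
      (f.fiber (V.ι yV)).Opens) ≫ f.fiberToSpecResidueField (V.ι yV))) :
    Flex f (MoreMor.sectionComponents f g) (V.ι yV) := by
  let U : X.Opens := f ⁻¹ᵁ V
  have sq : IsPullback U.ι (f ∣_ V) f V.ι := (isPullback_morphismRestrict f V).flip
  let sV : (V : Scheme.{u}) ⟶ (U : Scheme.{u}) :=
    sq.lift (V.ι ≫ g) (𝟙 _) (by rw [Category.assoc, hg, Category.comp_id, Category.id_comp])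
  have hsV1 : sV ≫ U.ι = V.ι ≫ g := sq.lift_fst _ _ _
  have hsV2 : sV ≫ (f ∣_ V) = 𝟙 _ := sq.lift_snd _ _ _
  have hSC : MoreMor.sectionComponents (f ∣_ V) sV = U.ι ⁻¹' MoreMor.sectionComponents f g :=
    s1324 f g hg (f ∣_ V) U.ι V.ι sq sV hsV2 hsV1
  haveI : IsAffine (V : Scheme.{u}) := hV
  obtain ⟨hop', hprop'⟩ := fibre_hyp_pull U.ι (f ∣_ V) f V.ι sq yV
    (MoreMor.sectionComponents f g) hop hprop
  have key : ∀ (Z : Set ↥U.toScheme) (hZ : Z = U.ι ⁻¹' MoreMor.sectionComponents f g)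
      (hF : Flex (f ∣_ V) Z yV), Flex (f ∣_ V) (U.ι ⁻¹' MoreMor.sectionComponents f g) yV := by
    intro Z hZ hF
    subst hZ
    exact hF
  have hF : Flex (f ∣_ V) (MoreMor.sectionComponents (f ∣_ V) sV) yV := by
    have key2 : ∀ (Z : Set ↥U.toScheme) (hZ : Z = MoreMor.sectionComponents (f ∣_ V) sV)
        (hop' : IsOpen (((f ∣_ V).fiberι yV).base ⁻¹' Z))
        (hprop' : IsProper (Scheme.Opens.ι (⟨((f ∣_ V).fiberι yV).base ⁻¹' Z, hop'⟩ :
          ((f ∣_ V).fiber yV).Opens) ≫ (f ∣_ V).fiberToSpecResidueField yV)),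
        Flex (f ∣_ V) (MoreMor.sectionComponents (f ∣_ V) sV) yV := by
      intro Z hZ
      subst hZ
      intro hop' hprop'
      exact affine_case (f ∣_ V) sV hsV2 yV hop' hprop'
    exact key2 _ hSC.symm hop' hprop'
  have hF' := key _ hSC hF
  exact flex_local f (MoreMor.sectionComponents f g) V (V.ι yV) yV.2 hF'

/-- S4976 -/
theorem main {X Y : Scheme.{u}} (f : X ⟶ Y) [IsSeparated f]
    [LocallyOfFinitePresentation f] [QuasiCompact f] [QuasiSeparated f] (g : Y ⟶ X) (hg : g ≫ f = 𝟙 Y) (y : Y)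
    (hop : IsOpen ((f.fiberι y).base ⁻¹' connectedComponentIn (f.base ⁻¹' {y}) (g.base y)))
    (hprop : IsProper (Scheme.Opens.ι (⟨(f.fiberι y).base ⁻¹' connectedComponentIn (f.base ⁻¹' {y}) (g.base y), hop⟩ : (f.fiber y).Opens) ≫
      f.fiberToSpecResidueField y)) :
    ∃ U : Y.Opens, y ∈ U ∧ ∃ hC : IsClosed ((f ⁻¹ᵁ U).ι.base ⁻¹' MoreMor.sectionComponents f g),
      IsProper ((Scheme.IdealSheafData.vanishingIdeal
        (⟨(f ⁻¹ᵁ U).ι.base ⁻¹' MoreMor.sectionComponents f g, hC⟩ : TopologicalSpace.Closeds ↥(f ⁻¹ᵁ U))).subschemeι ≫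
        (f ∣_ U)) := by
  have key : ∀ (T : Set ↥(f.fiber y))
      (hT : T = (f.fiberι y).base ⁻¹' MoreMor.sectionComponents f g)
      (hop : IsOpen T)
      (hprop : IsProper (Scheme.Opens.ι (⟨T, hop⟩ : (f.fiber y).Opens) ≫
        f.fiberToSpecResidueField y)), Concl f (MoreMor.sectionComponents f g) y := by
    intro T hT
    subst hT
    intro hop hprop
    obtain ⟨_, ⟨V₀, hV, rfl⟩, hyV, -⟩ :=
      Y.isBasis_affineOpens.exists_subset_of_mem_open (Set.mem_univ y) isOpen_univ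
    let V : Y.Opens := V₀
    obtain ⟨yV, rfl⟩ : ∃ yV : V.toScheme, V.ι yV = y := ⟨⟨y, hyV⟩, rfl⟩
    exact concl_of_flex f _ _ (local_case f g hg V hV yV hop hprop)
  exact key _ (preimage_sectionComponents f g y).symm hop hprop

end Groth.Agent.Helper3.LocPropP
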