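import Mathlib
import Groth.Prelude
import Groth.Agent.Helper3.LocPropP
import Groth.Agent.S0403

set_option autoImplicit false
set_option linter.style.haveILetI false
set_option linter.unusedSectionVars false
set_option linter.unusedVariables false
set_option linter.deprecated false
set_option linter.style.haveILetI false
set_option linter.unusedSectionVars false
set_option linter.unusedVariables false

universe u

namespace Groth.Agent.Helper3.LocPropQ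

open AlgebraicGeometry CategoryTheory CategoryTheory.Limits TopologicalSpace Topology IsLocalRing
open Groth.Agent.Helper3.LocPropL Groth.Agent.Helper3.LocPropN

theorem dim_eq_range {A B : Type*} [TopologicalSpace A] [TopologicalSpace B] (φ : A → B)
    (hφ : IsEmbedding φ) : topologicalKrullDim A = topologicalKrullDim ↥(Set.range φ) :=
  IsHomeomorph.topologicalKrullDim_eq _ hφ.toHomeomorph.isHomeomorph

/-- the dimension of the fibre of a trace -/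
theorem dim_fibre_trace' {X Y T : Scheme.{u}} (f : X ⟶ Y) (Z : Set X) (U : Y.Opens)
    (ιT : T ⟶ (f ⁻¹ᵁ U).toScheme) (hemb : IsEmbedding ιT)
    (hrT : Set.range ιT = (f ⁻¹ᵁ U).ι ⁻¹' Z) (yU : U.toScheme) :
    topologicalKrullDim ↥((ιT ≫ (f ∣_ U)).fiber yU) =
      topologicalKrullDim ↥(Z ∩ f ⁻¹' {U.ι yU}) := by
  have hφ : IsEmbedding ((ιT ≫ (f ∣_ U)).fiberι yU ≫ ιT ≫ (f ⁻¹ᵁ U).ι) := by
    have h1 : IsEmbedding ((ιT ≫ (f ∣_ U)).fiberι yU) :=
      ((ιT ≫ (f ∣_ U)).fiberι yU).isEmbedding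
    have h3 : IsEmbedding (f ⁻¹ᵁ U).ι := (f ⁻¹ᵁ U).ι.isOpenEmbedding.isEmbedding
    exact (h3.comp hemb).comp h1
  have hfU : ∀ z : ↥(f ⁻¹ᵁ U).toScheme, f ((f ⁻¹ᵁ U).ι z) = U.ι ((f ∣_ U) z) := by
    intro z
    calc f ((f ⁻¹ᵁ U).ι z) = ((f ⁻¹ᵁ U).ι ≫ f) z := rfl
      _ = ((f ∣_ U) ≫ U.ι) z := by rw [morphismRestrict_ι]
      _ = U.ι ((f ∣_ U) z) := rfl
  have hrange : Set.range ((ιT ≫ (f ∣_ U)).fiberι yU ≫ ιT ≫ (f ⁻¹ᵁ U).ι) =
      Z ∩ f ⁻¹' {U.ι yU} := by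
    ext x
    constructor
    · rintro ⟨t, rfl⟩
      have h1 : ((ιT ≫ (f ∣_ U)).fiberι yU) t ∈ (ιT ≫ (f ∣_ U)) ⁻¹' {yU} := by
        have : ((ιT ≫ (f ∣_ U)).fiberι yU) t ∈ Set.range ((ιT ≫ (f ∣_ U)).fiberι yU) := ⟨t, rfl⟩
        rw [Scheme.Hom.range_fiberι] at this
        exact this
      have h2 : ιT (((ιT ≫ (f ∣_ U)).fiberι yU) t) ∈ (f ⁻¹ᵁ U).ι ⁻¹' Z := by
        rw [← hrT]; exact ⟨_, rfl⟩
      refine ⟨h2, ?_⟩
      show f ((f ⁻¹ᵁ U).ι (ιT (((ιT ≫ (f ∣_ U)).fiberι yU) t))) = U.ι yU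
      have h3 : (f ∣_ U) (ιT (((ιT ≫ (f ∣_ U)).fiberι yU) t)) = yU := h1
      rw [hfU, h3]
    · rintro ⟨hxZ, hxy⟩
      have hxW : x ∈ f ⁻¹ᵁ U := by
        show f x ∈ U
        rw [show f x = U.ι yU from hxy]; exact yU.2
      have h1 : (⟨x, hxW⟩ : ↥(f ⁻¹ᵁ U).toScheme) ∈ Set.range ιT := by rw [hrT]; exact hxZ
      obtain ⟨t, ht⟩ := h1
      have h2 : t ∈ Set.range ((ιT ≫ (f ∣_ U)).fiberι yU) := by
        rw [Scheme.Hom.range_fiberι]
        show (f ∣_ U) (ιT t) = yU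
        rw [ht]
        apply U.ι.isOpenEmbedding.injective
        rw [← hfU]
        exact hxy
      obtain ⟨s, hs⟩ := h2
      refine ⟨s, ?_⟩
      show (f ⁻¹ᵁ U).ι (ιT (((ιT ≫ (f ∣_ U)).fiberι yU) s)) = x
      rw [hs, ht]
      rfl
  rw [dim_eq_range _ hφ, hrange]

/-- the dimension of the fibre of a proper trace -/
theorem dim_fibre_trace {X Y : Scheme.{u}} (f : X ⟶ Y) (Z : Set X) (U : Y.Opens)
    (hC : IsClosed ((f ⁻¹ᵁ U).ι.base ⁻¹' Z)) (yU : U.toScheme) :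
    topologicalKrullDim ↥(((Scheme.IdealSheafData.vanishingIdeal
        (⟨(f ⁻¹ᵁ U).ι.base ⁻¹' Z, hC⟩ : TopologicalSpace.Closeds ↥(f ⁻¹ᵁ U))).subschemeι ≫
          (f ∣_ U)).fiber yU) =
      topologicalKrullDim ↥(Z ∩ f ⁻¹' {U.ι yU}) := by
  apply dim_fibre_trace' f Z U _ (Scheme.Hom.isClosedEmbedding _).isEmbedding
  rw [Scheme.IdealSheafData.range_subschemeι, Scheme.IdealSheafData.coe_support_vanishingIdeal]
  rfl

/-- S4957 -/
theorem main {X Y : Scheme.{u}} (f : X ⟶ Y) [IsSeparated f]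
    [LocallyOfFinitePresentation f] [QuasiCompact f] [QuasiSeparated f] (g : Y ⟶ X) (hg : g ≫ f = 𝟙 Y) (y : Y)
    (hop : IsOpen ((f.fiberι y).base ⁻¹' connectedComponentIn (f.base ⁻¹' {y}) (g.base y)))
    (hprop : IsProper (Scheme.Opens.ι (⟨(f.fiberι y).base ⁻¹' connectedComponentIn (f.base ⁻¹' {y}) (g.base y), hop⟩ : (f.fiber y).Opens) ≫
      f.fiberToSpecResidueField y))
    (y' : Y) (hy' : y' ⤳ y) :
    topologicalKrullDim ↥(connectedComponentIn (f.base ⁻¹' {y'}) (g.base y')) ≤ topologicalKrullDim ↥(connectedComponentIn (f.base ⁻¹' {y}) (g.base y)) := by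
  obtain ⟨U, hyU, hC, hP⟩ := LocPropP.main f g hg y hop hprop
  have hy'U : y' ∈ U := hy'.mem_open U.isOpen hyU
  set Z := MoreMor.sectionComponents f g with hZ
  have hfib : ∀ z : Y, Z ∩ f ⁻¹' {z} = connectedComponentIn (f.base ⁻¹' {z}) (g.base z) := by
    intro z
    ext x
    constructor
    · rintro ⟨h1, h2⟩
      exact (mem_sectionComponents_iff f g h2).mp h1
    · intro h
      have h2 : f x = z := connectedComponentIn_subset (f ⁻¹' {z}) (g z) h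
      exact ⟨(mem_sectionComponents_iff f g h2).mpr h, h2⟩
  set p := (Scheme.IdealSheafData.vanishingIdeal
        (⟨(f ⁻¹ᵁ U).ι.base ⁻¹' Z, hC⟩ : TopologicalSpace.Closeds ↥(f ⁻¹ᵁ U))).subschemeι ≫
          (f ∣_ U) with hp
  haveI : IsProper p := hP
  have hopen := Groth.Agent.S0403.result p (topologicalKrullDim ↥(p.fiber ⟨y, hyU⟩))
  have hsp : (⟨y', hy'U⟩ : U.toScheme) ⤳ ⟨y, hyU⟩ :=
    U.ι.isOpenEmbedding.isInducing.specializes_iff.mp hy'
  have hmem : (⟨y', hy'U⟩ : U.toScheme) ∈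
      {s : U.toScheme | topologicalKrullDim ↥(p.fiber s) ≤ topologicalKrullDim ↥(p.fiber ⟨y, hyU⟩)} :=
    hsp.mem_open hopen (show topologicalKrullDim ↥(p.fiber ⟨y, hyU⟩) ≤
      topologicalKrullDim ↥(p.fiber ⟨y, hyU⟩) from le_refl _)
  have h1 := dim_fibre_trace f Z U hC ⟨y, hyU⟩
  have h2 := dim_fibre_trace f Z U hC ⟨y', hy'U⟩
  have h3 : topologicalKrullDim ↥(p.fiber ⟨y', hy'U⟩) ≤ topologicalKrullDim ↥(p.fiber ⟨y, hyU⟩) := hmem
  rw [h1, h2] at h3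
  have e1 : Z ∩ f ⁻¹' {U.ι ⟨y, hyU⟩} = connectedComponentIn (f.base ⁻¹' {y}) (g.base y) := hfib y
  have e2 : Z ∩ f ⁻¹' {U.ι ⟨y', hy'U⟩} = connectedComponentIn (f.base ⁻¹' {y'}) (g.base y') := hfib y'
  rw [e1, e2] at h3
  exact h3

end Groth.Agent.Helper3.LocPropQ
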