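import Mathlib
import Groth.Prelude
import Groth.Agent.Helper3.LocPropP

set_option autoImplicit false
set_option linter.style.haveILetI false
set_option linter.unusedSectionVars false
set_option linter.unusedVariables false
set_option linter.deprecated false
set_option linter.style.haveILetI false
set_option linter.unusedSectionVars false
set_option linter.unusedVariables false

universe u

namespace Groth.Agent.Helper3.LocPropR

open AlgebraicGeometry CategoryTheory CategoryTheory.Limits TopologicalSpace Topology IsLocalRing
open Groth.Agent.Helper3.LocPropL Groth.Agent.Helper3.LocPropM Groth.Agent.Helper3.LocPropN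

/-- properness of a fibre is invariant under base change -/
theorem isProper_fibre_iff {X S Xj Sj : Scheme.{u}} (q : X ⟶ Xj) (u : X ⟶ S) (uj : Xj ⟶ Sj)
    [IsSeparated uj] [LocallyOfFiniteType uj] [QuasiCompact uj]
    (h : S ⟶ Sj) (hpb : IsPullback q u uj h) (y : S) :
    IsProper (u.fiberToSpecResidueField y) ↔ IsProper (uj.fiberToSpecResidueField (h y)) := by
  obtain ⟨ρ, hρι, hρ⟩ := exists_fibre_map q u uj h hpb y
  constructor
  · intro hP
    haveI : IsSeparated (uj.fiberToSpecResidueField (h y)) :=
      inferInstanceAs (IsSeparated (pullback.snd uj (Sj.fromSpecResidueField (h y))))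
    haveI : LocallyOfFiniteType (uj.fiberToSpecResidueField (h y)) :=
      inferInstanceAs (LocallyOfFiniteType (pullback.snd uj (Sj.fromSpecResidueField (h y))))
    haveI : QuasiCompact (uj.fiberToSpecResidueField (h y)) :=
      inferInstanceAs (QuasiCompact (pullback.snd uj (Sj.fromSpecResidueField (h y))))
    haveI : UniversallyClosed (uj.fiberToSpecResidueField (h y)) := by
      have huc : UniversallyClosed (u.fiberToSpecResidueField y) := by
        haveI := hP
        infer_instance
      exact MorphismProperty.of_isPullback_of_descendsAlong (P := @UniversallyClosed)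
        (Q := @Surjective ⊓ @Flat ⊓ @QuasiCompact) hρ.flip
        (fpqc_of_fields (h.residueFieldMap y).hom) huc
    exact { }
  · intro hP
    exact MorphismProperty.of_isPullback hρ hP

/-- a fibre over a point of an open over which the morphism is proper is proper -/
theorem isProper_fibre_of_restrict {X Y : Scheme.{u}} (f : X ⟶ Y) (N : Y.Opens)
    [IsProper (f ∣_ N)] (y : Y) (hy : y ∈ N) : IsProper (f.fiberToSpecResidueField y) := by
  have : IsProper (pullback.snd f (Y.fromSpecResidueField y)) :=
    LocPropK.isProper_snd_of_restrict f N (Y.fromSpecResidueField y) (by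
      rw [Scheme.range_fromSpecResidueField]
      exact Set.singleton_subset_iff.mpr hy)
  exact this

/-- properness can be checked on a surjective closed subscheme -/
theorem isProper_of_comp_surjective {T W U : Scheme.{u}} (ι : T ⟶ W) [Surjective ι] (φ : W ⟶ U)
    [IsSeparated φ] [LocallyOfFiniteType φ] [QuasiCompact φ] [IsProper (ι ≫ φ)] : IsProper φ := by
  haveI : UniversallyClosed φ := UniversallyClosed.of_comp_surjective ι φ
  exact { }

/-- gluing: the locus of proper fibres is open and the morphism is proper over it, if every point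
with proper fibre has a neighbourhood over which the morphism is proper -/
theorem glue {X Y : Scheme.{u}} (f : X ⟶ Y)
    (H : ∀ y : Y, IsProper (f.fiberToSpecResidueField y) → ∃ N : Y.Opens, y ∈ N ∧ IsProper (f ∣_ N)) :
    ∃ U : Y.Opens, (U : Set Y) = {y : Y | IsProper (f.fiberToSpecResidueField y)} ∧
      IsProper (f ∣_ U) := by
  have hopen : IsOpen {y : Y | IsProper (f.fiberToSpecResidueField y)} := by
    rw [isOpen_iff_forall_mem_open]
    intro y hy
    obtain ⟨N, hyN, hN⟩ := H y hy
    haveI := hN
    exact ⟨N, fun z hz => isProper_fibre_of_restrict f N z hz, N.isOpen, hyN⟩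
  refine ⟨⟨_, hopen⟩, rfl, ?_⟩
  set S : Y.Opens := ⟨_, hopen⟩ with hS
  apply IsZariskiLocalAtTarget.of_forall_exists_morphismRestrict (P := @IsProper)
  intro x
  obtain ⟨N, hxN, hN⟩ := H x.1 x.2
  haveI := hN
  refine ⟨S.ι ⁻¹ᵁ N, hxN, ?_⟩
  rw [MorphismProperty.arrow_mk_iso_iff @IsProper (morphismRestrictRestrict f S (S.ι ⁻¹ᵁ N))]
  apply LocPropK.isProper_restrict_of_le f (U := N)
  rintro _ ⟨z, hz, rfl⟩
  exact hz

end Groth.Agent.Helper3.LocPropR
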