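import Mathlib
import Groth.Prelude
import Groth.Agent.Helper3.LscC
import Groth.Agent.Helper3.SteinGeom

set_option autoImplicit false
set_option linter.style.haveILetI false
set_option linter.unusedSectionVars false
set_option linter.unusedVariables false
set_option linter.deprecated false
set_option linter.style.haveILetI false
set_option linter.unusedSectionVars false
set_option linter.unusedVariables false

open CategoryTheory CategoryTheory.Limits AlgebraicGeometry Opposite EGA43 TensorProduct

universe u

namespace Groth.Agent.Helper3.Lsc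

theorem trivial_idem_of_ringEquiv {T T' : Type*} [CommRing T] [CommRing T'] (e : T ≃+* T')
    (h : Nontrivial T ∧ ∀ ε : T, IsIdempotentElem ε → ε = 0 ∨ ε = 1) :
    Nontrivial T' ∧ ∀ ε : T', IsIdempotentElem ε → ε = 0 ∨ ε = 1 := by
  obtain ⟨hnt, hid⟩ := h
  refine ⟨e.symm.toEquiv.nontrivial, fun ε hε => ?_⟩
  rcases hid (e.symm ε) (hε.map e.symm) with h | h
  · left; exact e.symm.injective (h.trans (map_zero e.symm).symm)
  · right; exact e.symm.injective (h.trans (map_one e.symm).symm)

theorem connectedSpace_primeSpectrum_iff (T : Type u) [CommRing T] :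
    ConnectedSpace (PrimeSpectrum T) ↔
      (Nontrivial T ∧ ∀ e : T, IsIdempotentElem e → e = 0 ∨ e = 1) := by
  have h1 : ConnectedSpace (PrimeSpectrum T) ↔ ConnectedSpace ↥(Spec (CommRingCat.of T)) := Iff.rfl
  rw [h1, SteinGeom.connectedSpace_iff_idem]
  let e : Γ(Spec (CommRingCat.of T), ⊤) ≃+* T :=
    (Scheme.ΓSpecIso (CommRingCat.of T)).commRingCatIsoToRingEquiv
  exact ⟨trivial_idem_of_ringEquiv e, trivial_idem_of_ringEquiv e.symm⟩

/-- A proper scheme over a field whose base change to the separable closure is connected is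
geometrically connected. -/
theorem geometricallyConnected_of_connectedSpace_sepClosure (k : Type u) [Field k]
    {F : Scheme.{u}} (g : F ⟶ Spec (CommRingCat.of k)) [IsProper g]
    (hc : ConnectedSpace ↥(pullback g
      (Spec.map (CommRingCat.ofHom (algebraMap k (SeparableClosure k)))))) :
    GeometricallyConnected g := by
  letI alg : Algebra k Γ(F, ⊤) :=
    (g.appTop.hom.comp (Scheme.ΓSpecIso (CommRingCat.of k)).inv.hom).toAlgebra
  have hφ : algebraMap k Γ(F, ⊤) =
      g.appTop.hom.comp (Scheme.ΓSpecIso (CommRingCat.of k)).inv.hom := rfl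
  haveI : ExpChar k (ringExpChar k) := inferInstance
  rw [SteinGeom.main k g]
  let y : Spec (CommRingCat.of (SeparableClosure k)) ⟶ Spec (CommRingCat.of k) :=
    Spec.map (CommRingCat.ofHom (algebraMap k (SeparableClosure k)))
  obtain ⟨e⟩ := SteinGeom.gamma_tensor_equiv k (SeparableClosure k) g (pullback.fst g y)
    (pullback.snd g y) (IsPullback.of_hasPullback g y) hφ
  have h1 := trivial_idem_of_ringEquiv e.symm ((SteinGeom.connectedSpace_iff_idem _).mp hc)
  have hcs : ConnectedSpace (PrimeSpectrum (SeparableClosure k ⊗[k] Γ(F, ⊤))) :=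
    (connectedSpace_primeSpectrum_iff _).mpr h1
  haveI : IsPurelyInseparable (SeparableClosure k) (AlgebraicClosure k) :=
    separableClosure.isPurelyInseparable k (AlgebraicClosure k)
  have hh := PrimeSpectrum.isHomeomorph_comap_tensorProductMap_of_isPurelyInseparable
    (R := k) (K := SeparableClosure k) (S := Γ(F, ⊤)) (AlgebraicClosure k)
  have hca : ConnectedSpace (PrimeSpectrum (AlgebraicClosure k ⊗[k] Γ(F, ⊤))) := by
    let hm := hh.homeomorph
    exact hm.symm.surjective.connectedSpace hm.symm.continuous
  obtain ⟨hnta, hida⟩ := (connectedSpace_primeSpectrum_iff _).mp hca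
  haveI : Algebra.IsIntegral k Γ(F, ⊤) := by
    rw [Algebra.isIntegral_iff]
    have h1 : g.appTop.hom.IsIntegral := isIntegral_appTop_of_universallyClosed g
    have h2 : ((Scheme.ΓSpecIso (CommRingCat.of k)).inv.hom).IsIntegral :=
      RingHom.isIntegral_of_surjective _
        (ConcreteCategory.bijective_of_isIso (Scheme.ΓSpecIso (CommRingCat.of k)).inv).2
    exact RingHom.IsIntegral.trans _ _ h2 h1
  obtain ⟨⟨hloc, hdim⟩, hres⟩ :=
    SteinAlg.of_trivial_idem_tensor (A := k) (R := Γ(F, ⊤)) (ringExpChar k) hnta hida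
  exact ⟨hloc, hdim, hres⟩

end Groth.Agent.Helper3.Lsc
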