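import Mathlib
import Groth.Prelude
import Groth.Agent.Helper3.LscD

set_option autoImplicit false
set_option linter.style.haveILetI false
set_option linter.unusedSectionVars false
set_option linter.unusedVariables false
set_option linter.deprecated false
set_option linter.style.haveILetI false
set_option linter.unusedSectionVars false
set_option linter.unusedVariables false

open CategoryTheory CategoryTheory.Limits AlgebraicGeometry Opposite EGA43 TensorProduct

universe u

namespace Groth.Agent.Helper3.Lsc

theorem preconnectedSpace_of_subsingleton_connectedComponents (α : Type*) [TopologicalSpace α]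
    [Subsingleton (_root_.ConnectedComponents α)] : PreconnectedSpace α := by
  rw [preconnectedSpace_iff_connectedComponent]
  intro y
  ext x
  simp only [Set.mem_univ, iff_true]
  rw [← ConnectedComponents.coe_eq_coe']
  exact Subsingleton.elim _ _

theorem surjective_SpecMap_of_field {K K' : Type u} [Field K] [Field K'] (incl : K →+* K') :
    Surjective (Spec.map (CommRingCat.ofHom incl)) :=
  ⟨fun x => ⟨IsLocalRing.closedPoint K', Subsingleton.elim _ _⟩⟩

/-- geometric fibre connected iff count is one -/
theorem connectedSpace_geomFiber_of_le_one {X S : Scheme.{u}} (f : X ⟶ S) [Surjective f] (s : S)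
    (h : MoreMor.nGeomConnComp f s ≤ 1) : ConnectedSpace ↥(MoreMor.geomFiber f s) := by
  haveI : Subsingleton (_root_.ConnectedComponents ↥(MoreMor.geomFiber f s)) :=
    (ENat.card_le_one_iff_subsingleton _).mp h
  haveI := preconnectedSpace_of_subsingleton_connectedComponents ↥(MoreMor.geomFiber f s)
  haveI : Nonempty ↥(MoreMor.geomFiber f s) := by
    obtain ⟨x, hx⟩ := f.surjective s
    have hx' : x ∈ Set.range (f.fiberι s) := by
      rw [Scheme.Hom.range_fiberι]; exact hx
    obtain ⟨x₀, -⟩ := hx'
    haveI := surjective_SpecMap_of_field
      (algebraMap (S.residueField s) (SeparableClosure (S.residueField s)))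
    haveI : Surjective (gfFst f s) :=
      MorphismProperty.pullback_fst (P := @Surjective) _ _ inferInstance
    obtain ⟨x₁, -⟩ := (gfFst f s).surjective x₀
    exact ⟨x₁⟩
  exact { toPreconnectedSpace := inferInstance, toNonempty := inferInstance }

theorem geometricallyConnected_of_generic {X S : Scheme.{u}}
    (f : X ⟶ S) [IsProper f] [Flat f] [Surjective f] [IsNoetherian S]
    (h : ∀ (Z : Set ↑S) (η : ↑S), Z ∈ irreducibleComponents ↑S → IsGenericPoint η Z →
      GeometricallyConnected (f.fiberToSpecResidueField η)) :
    GeometricallyConnected f := by
  haveI : LocallyOfFinitePresentation f := inferInstance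
  haveI : UniversallyOpen f := UniversallyOpen.of_flat f
  rw [GeometricallyConnected.iff_geometricallyConnected_fiber]
  intro s
  obtain ⟨V, hV, hle⟩ := exists_nhds_le f s (fun x _ => isUnivOpenAt_of_universallyOpen f x)
  obtain ⟨U, hUV, hUo, hsU⟩ := mem_nhds_iff.mp hV
  -- the generic point of a component through `s`
  have hZ : irreducibleComponent s ∈ irreducibleComponents ↑S :=
    irreducibleComponent_mem_irreducibleComponents s
  have hZirr : IsIrreducible (irreducibleComponent s) := isIrreducible_irreducibleComponent
  have hZcl : IsClosed (irreducibleComponent s) := isClosed_irreducibleComponent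
  let η : S := hZirr.genericPoint
  have hη : IsGenericPoint η (irreducibleComponent s) := hZirr.isGenericPoint_genericPoint hZcl
  have hspec : η ⤳ s := by
    rw [specializes_iff_mem_closure, hη.def]
    exact mem_irreducibleComponent
  have hηU : η ∈ U := hspec.mem_open hUo hsU
  have h1 : MoreMor.nGeomConnComp f s ≤ MoreMor.nGeomConnComp f η := hle η (hUV hηU)
  have h2 : MoreMor.nGeomConnComp f η ≤ 1 := by
    haveI := h _ η hZ hη
    haveI : ConnectedSpace ↥(MoreMor.geomFiber f η) :=
      GeometricallyConnected.geometrically_connectedSpace (f := f.fiberToSpecResidueField η)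
        (gfBase η) (gfFst f η) (gfStr f η) (IsPullback.of_hasPullback _ _)
    exact (ENat.card_le_one_iff_subsingleton _).mpr inferInstance
  haveI hc : ConnectedSpace ↥(MoreMor.geomFiber f s) :=
    connectedSpace_geomFiber_of_le_one f s (h1.trans h2)
  haveI : IsProper (f.fiberToSpecResidueField s) := by
    unfold Scheme.Hom.fiberToSpecResidueField
    exact MorphismProperty.pullback_snd (P := @IsProper) _ _ inferInstance
  exact geometricallyConnected_of_connectedSpace_sepClosure (S.residueField s)
    (f.fiberToSpecResidueField s) hc

end Groth.Agent.Helper3.Lsc
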