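import Mathlib
import Groth.Prelude
import Groth.Agent.Helper3.LocPropR
import Groth.Agent.Helper3.LscE

set_option autoImplicit false
set_option linter.style.haveILetI false
set_option linter.unusedSectionVars false
set_option linter.unusedVariables false
set_option linter.deprecated false
set_option linter.style.haveILetI false
set_option linter.unusedSectionVars false
set_option linter.unusedVariables false

universe u

namespace Groth.Agent.Helper3.LocPropS

open AlgebraicGeometry CategoryTheory CategoryTheory.Limits TopologicalSpace Topology IsLocalRing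
open Groth.Agent.Helper3.LocPropL Groth.Agent.Helper3.LocPropM Groth.Agent.Helper3.LocPropN
open Groth.Agent.Helper3.LocPropR

/-- a nonempty fibre with at most one geometric connected component is geometrically connected -/
theorem geometricallyConnected_fibre {X Y : Scheme.{u}} (f : X ⟶ Y) (y : Y) (x : X) (hx : f x = y)
    (h : MoreMor.nGeomConnComp f y ≤ 1) :
    GeometricallyConnected (f.fiberToSpecResidueField y) := by
  haveI : Subsingleton (_root_.ConnectedComponents ↥(MoreMor.geomFiber f y)) :=
    (ENat.card_le_one_iff_subsingleton _).mp h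
  haveI := Groth.Agent.Helper3.Lsc.preconnectedSpace_of_subsingleton_connectedComponents ↥(MoreMor.geomFiber f y)
  haveI : Nonempty ↥(MoreMor.geomFiber f y) := by
    have hx' : x ∈ Set.range (f.fiberι y) := by
      rw [Scheme.Hom.range_fiberι]; exact hx
    obtain ⟨x₀, -⟩ := hx'
    haveI := Groth.Agent.Helper3.Lsc.surjective_SpecMap_of_field
      (algebraMap (Y.residueField y) (SeparableClosure (Y.residueField y)))
    haveI : Surjective (pullback.fst (f.fiberToSpecResidueField y)
        (Spec.map (CommRingCat.ofHom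
          (algebraMap (Y.residueField y) (SeparableClosure (Y.residueField y)))))) :=
      MorphismProperty.pullback_fst (P := @Surjective) _ _ inferInstance
    obtain ⟨x₁, -⟩ := (pullback.fst (f.fiberToSpecResidueField y)
        (Spec.map (CommRingCat.ofHom
          (algebraMap (Y.residueField y) (SeparableClosure (Y.residueField y)))))).surjective x₀
    exact ⟨x₁⟩
  haveI : ConnectedSpace ↥(MoreMor.geomFiber f y) :=
    { toPreconnectedSpace := inferInstance, toNonempty := inferInstance }
  have hcs : ConnectedSpace ↥(MoreMor.geomFiber f y) :=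
    { toPreconnectedSpace := inferInstance, toNonempty := inferInstance }
  exact @Groth.Agent.Helper4.GeomConnSch.geometricallyConnected_of_sepClosure (Y.residueField y) _ _
    (f.fiberToSpecResidueField y) hcs

/-- all fibres of the base change are connected -/
theorem preconnected_fibre_bc {X Y Y' : Scheme.{u}} (f : X ⟶ Y) (g : Y' ⟶ Y) (σ : Y' ⟶ X)
    (hσ : σ ≫ f = g) (hconn : ∀ y : Y, MoreMor.nGeomConnComp f y ≤ 1) (y' : Y') :
    _root_.IsPreconnected ((pullback.snd f g) ⁻¹' {y'}) := by
  have hx : f (σ y') = g y' := by rw [← Scheme.Hom.comp_apply, hσ]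
  haveI hgc : GeometricallyConnected (f.fiberToSpecResidueField (g y')) :=
    geometricallyConnected_fibre f (g y') (σ y') hx (hconn (g y'))
  obtain ⟨ρ, -, hρ⟩ := exists_fibre_map (pullback.fst f g) (pullback.snd f g) f g
    (IsPullback.of_hasPullback f g) y'
  haveI : ConnectedSpace ↥((pullback.snd f g).fiber y') :=
    GeometricallyConnected.geometrically_connectedSpace (f := f.fiberToSpecResidueField (g y'))
      (K := Y'.residueField y') (Spec.map (g.residueFieldMap y')) ρ
      ((pullback.snd f g).fiberToSpecResidueField y') hρ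
  rw [← Scheme.Hom.range_fiberι]
  exact isPreconnected_range ((pullback.snd f g).fiberι y').continuous

theorem sectionComponents_eq_univ {X Y : Scheme.{u}} (f : X ⟶ Y) (s : Y ⟶ X) (hs : s ≫ f = 𝟙 Y)
    (hpre : ∀ y : Y, _root_.IsPreconnected (f ⁻¹' {y})) :
    MoreMor.sectionComponents f s = Set.univ := by
  ext x
  simp only [Set.mem_univ, iff_true]
  have h1 : s (f x) ∈ f ⁻¹' {f x} := section_apply f s hs (f x)
  exact (hpre (f x)).subset_connectedComponentIn h1 (le_refl _) (show x ∈ f ⁻¹' {f x} from rfl)

theorem snd_snd_iff (P : MorphismProperty Scheme.{u}) [P.RespectsIso] {X Y Z W : Scheme.{u}}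
    (f : X ⟶ Z) (g : Y ⟶ Z) (g' : W ⟶ Y) :
    P (pullback.snd (pullback.snd f g) g') ↔ P (pullback.snd f (g' ≫ g)) := by
  rw [← pullbackLeftPullbackSndIso_hom_snd f g g']
  exact P.cancel_left_of_respectsIso _ _

theorem isProper_top_comp {F K : Scheme.{u}} (φ : F ⟶ K) [IsProper φ] (T : Set ↥F)
    (hT : T = Set.univ) (hop : IsOpen T) :
    IsProper (Scheme.Opens.ι (⟨T, hop⟩ : F.Opens) ≫ φ) := by
  subst hT
  have : (⟨Set.univ, hop⟩ : F.Opens) = ⊤ := rfl
  rw [this]
  haveI : IsIso (⊤ : F.Opens).ι := (inferInstance : IsIso F.topIso.hom)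
  infer_instance

/-- the local step for the base-changed morphism with a section and connected fibres -/
theorem local_step {X Y : Scheme.{u}} (f : X ⟶ Y) [IsSeparated f]
    [LocallyOfFinitePresentation f] [QuasiCompact f] (s : Y ⟶ X) (hs : s ≫ f = 𝟙 Y)
    (hpre : ∀ y : Y, _root_.IsPreconnected (f ⁻¹' {y})) (y : Y)
    (hy : IsProper (f.fiberToSpecResidueField y)) :
    ∃ N : Y.Opens, y ∈ N ∧ IsProper (f ∣_ N) := by
  haveI : QuasiSeparated f := inferInstance
  have hSC := sectionComponents_eq_univ f s hs hpre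
  have hT : (f.fiberι y).base ⁻¹' connectedComponentIn (f.base ⁻¹' {y}) (s.base y) = Set.univ := by
    rw [← preimage_sectionComponents, hSC]
    rfl
  have hop : IsOpen ((f.fiberι y).base ⁻¹' connectedComponentIn (f.base ⁻¹' {y}) (s.base y)) := by
    rw [hT]; exact isOpen_univ
  haveI := hy
  have hprop := isProper_top_comp (f.fiberToSpecResidueField y) _ hT hop
  obtain ⟨N, hyN, hC, hP⟩ := LocPropP.main f s hs y hop hprop
  refine ⟨N, hyN, ?_⟩
  haveI := hP
  haveI : Surjective (Scheme.IdealSheafData.vanishingIdeal (X := (f ⁻¹ᵁ N).toScheme)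
      ⟨(f ⁻¹ᵁ N).ι.base ⁻¹' MoreMor.sectionComponents f s, hC⟩).subschemeι := by
    refine ⟨fun w => ?_⟩
    have : w ∈ Set.range (Scheme.IdealSheafData.vanishingIdeal (X := (f ⁻¹ᵁ N).toScheme)
      ⟨(f ⁻¹ᵁ N).ι.base ⁻¹' MoreMor.sectionComponents f s, hC⟩).subschemeι := by
      rw [Scheme.IdealSheafData.range_subschemeι,
        Scheme.IdealSheafData.coe_support_vanishingIdeal]
      show (f ⁻¹ᵁ N).ι w ∈ MoreMor.sectionComponents f s
      rw [hSC]; trivial
    exact this
  exact @isProper_of_comp_surjective _ _ _ (Scheme.IdealSheafData.vanishingIdeal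
      (X := (f ⁻¹ᵁ N).toScheme)
      ⟨(f ⁻¹ᵁ N).ι.base ⁻¹' MoreMor.sectionComponents f s, hC⟩).subschemeι this (f ∣_ N)
      inferInstance inferInstance inferInstance hP

/-- S3461 -/
theorem main {X Y Y' : Scheme.{u}} (f : X ⟶ Y)
    [IsSeparated f] [LocallyOfFinitePresentation f] [QuasiCompact f] [QuasiSeparated f]
    (g : Y' ⟶ Y) [Surjective g] [LocallyOfFinitePresentation g] [QuasiCompact g] [QuasiSeparated g]
    (hg : IsProper g ∨ Flat g) (σ : Y' ⟶ X) (hσ : σ ≫ f = g)
    (hconn : ∀ y : Y, MoreMor.nGeomConnComp f y ≤ 1) :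
    ∃ U : Y.Opens, (U : Set Y) = {y : Y | IsProper (f.fiberToSpecResidueField y)} ∧ IsProper (f ∣_ U) := by
  set f' := pullback.snd f g with hf'
  let s' : Y' ⟶ pullback f g := pullback.lift σ (𝟙 _) (by rw [hσ, Category.id_comp])
  have hs' : s' ≫ f' = 𝟙 _ := pullback.lift_snd _ _ _
  have hpre := preconnected_fibre_bc f g σ hσ hconn
  obtain ⟨U', hU', hPU'⟩ := glue f' (fun y' hy' => local_step f' s' hs' hpre y' hy')
  have hpb : IsPullback (pullback.fst f g) f' f g := IsPullback.of_hasPullback f g
  have hU'g : (U' : Set Y') = g ⁻¹' {y : Y | IsProper (f.fiberToSpecResidueField y)} := by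
    rw [hU']
    ext y'
    exact isProper_fibre_iff (pullback.fst f g) f' f g hpb y'
  have hquot : IsQuotientMap g := by
    rcases hg with hg | hg
    · haveI := hg
      exact g.isClosedMap.isQuotientMap g.continuous g.surjective
    · haveI := hg
      haveI : UniversallyOpen g := UniversallyOpen.of_flat g
      exact g.isOpenMap.isQuotientMap g.continuous g.surjective
  have hopen : IsOpen {y : Y | IsProper (f.fiberToSpecResidueField y)} := by
    rw [← hquot.isOpen_preimage, ← hU'g]
    exact U'.isOpen
  refine ⟨⟨_, hopen⟩, rfl, ?_⟩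
  set U : Y.Opens := ⟨_, hopen⟩ with hU
  have hUU' : g ⁻¹ᵁ U = U' := Opens.ext hU'g.symm
  -- descent
  have h1 : IsProper (f' ∣_ (g ⁻¹ᵁ U)) := by rw [hUU']; exact hPU'
  have h2 : IsProper (pullback.snd f' (g ⁻¹ᵁ U).ι) := by
    have he : f' ∣_ (g ⁻¹ᵁ U) =
        (pullbackRestrictIsoRestrict f' (g ⁻¹ᵁ U)).inv ≫ pullback.snd f' (g ⁻¹ᵁ U).ι := rfl
    rw [he] at h1
    exact (MorphismProperty.cancel_left_of_respectsIso @IsProper _ _).mp h1
  have h3 : IsProper (pullback.snd f ((g ⁻¹ᵁ U).ι ≫ g)) :=
    (snd_snd_iff @IsProper f g (g ⁻¹ᵁ U).ι).mp h2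
  have h4 : IsProper (pullback.snd f ((g ∣_ U) ≫ U.ι)) := by
    rw [morphismRestrict_ι]; exact h3
  have h5 : IsProper (pullback.snd (pullback.snd f U.ι) (g ∣_ U)) :=
    (snd_snd_iff @IsProper f U.ι (g ∣_ U)).mpr h4
  set φ := pullback.snd f U.ι with hφ
  haveI : Surjective (g ∣_ U) := IsZariskiLocalAtTarget.restrict (P := @Surjective) ‹Surjective g› U
  haveI : UniversallyClosed φ := by
    rcases hg with hg | hg
    · haveI := hg
      haveI : IsProper (g ∣_ U) := inferInstance
      haveI := h5
      haveI : UniversallyClosed (pullback.fst φ (g ∣_ U) ≫ φ) := by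
        rw [pullback.condition]
        infer_instance
      haveI : Surjective (pullback.fst φ (g ∣_ U)) :=
        MorphismProperty.pullback_fst (P := @Surjective) _ _ inferInstance
      exact UniversallyClosed.of_comp_surjective (pullback.fst φ (g ∣_ U)) φ
    · haveI := hg
      haveI : Flat (g ∣_ U) := inferInstance
      haveI : LocallyOfFinitePresentation (g ∣_ U) := inferInstance
      have huc : UniversallyClosed (pullback.snd φ (g ∣_ U)) := by
        haveI := h5
        infer_instance
      exact MorphismProperty.of_pullback_snd_of_descendsAlong (P := @UniversallyClosed)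
        (Q := @Surjective ⊓ @Flat ⊓ @LocallyOfFinitePresentation)
        ⟨⟨inferInstance, inferInstance⟩, inferInstance⟩ huc
  haveI : IsProper φ := { }
  have he : f ∣_ U = (pullbackRestrictIsoRestrict f U).inv ≫ pullback.snd f U.ι := rfl
  rw [he]
  infer_instance

end Groth.Agent.Helper3.LocPropS
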