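import Mathlib

set_option autoImplicit false
set_option linter.style.haveILetI false

namespace Groth.Agent.Helper3.LocStd

open IsLocalRing

universe u

section L3

variable {A T B : Type*} [CommRing A] [CommRing T] [CommRing B] [Algebra A T] [Algebra A B]
  [IsLocalRing B] (g : T →ₐ[A] B)

/-- The prime of `T` under the maximal ideal of `B`. -/
abbrev under : Ideal T := (maximalIdeal B).comap g.toRingHom

instance : (under g).IsPrime := Ideal.comap_isPrime _ _

lemma isUnit_of_notMem (y : (under g).primeCompl) : IsUnit (g y) := by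
  have := y.2
  rw [Ideal.mem_primeCompl_iff, Ideal.mem_comap] at this
  exact IsLocalRing.notMem_maximalIdeal.mp this

/-- The induced map from the localization. -/
noncomputable def locMap : Localization.AtPrime (under g) →ₐ[A] B :=
  IsLocalization.liftAlgHom (M := (under g).primeCompl) (f := g) (isUnit_of_notMem g)

lemma locMap_algebraMap (t : T) : locMap g (algebraMap T _ t) = g t := by
  simp [locMap]

theorem locMap_surjective (hs : ∀ b : B, ∃ t u : T, IsUnit (g u) ∧ b * g u = g t) :
    Function.Surjective (locMap g) := by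
  intro b
  obtain ⟨t, u, hu, hb⟩ := hs b
  have hu' : u ∈ (under g).primeCompl := by
    rw [Ideal.mem_primeCompl_iff, Ideal.mem_comap]
    exact IsLocalRing.notMem_maximalIdeal.mpr hu
  refine ⟨IsLocalization.mk' _ t ⟨u, hu'⟩, ?_⟩
  have h1 : locMap g (IsLocalization.mk' (Localization.AtPrime (under g)) t ⟨u, hu'⟩) * g u = g t := by
    rw [← locMap_algebraMap g u, ← map_mul, IsLocalization.mk'_spec, locMap_algebraMap]
  exact hu.mul_right_cancel (h1.trans hb.symm)

theorem locMap_injective (hi : ∀ t : T, g t = 0 → ∃ u : T, IsUnit (g u) ∧ u * t = 0) :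
    Function.Injective (locMap g) := by
  rw [injective_iff_map_eq_zero]
  intro x hx
  obtain ⟨t, s, rfl⟩ := IsLocalization.exists_mk'_eq (under g).primeCompl x
  have h1 : g t = 0 := by
    have := IsLocalization.mk'_spec (Localization.AtPrime (under g)) t s
    have h2 := congrArg (locMap g) this
    rw [map_mul, hx, zero_mul, locMap_algebraMap] at h2
    exact h2.symm
  obtain ⟨u, hu, hut⟩ := hi t h1
  have hu' : u ∈ (under g).primeCompl := by
    rw [Ideal.mem_primeCompl_iff, Ideal.mem_comap]
    exact IsLocalRing.notMem_maximalIdeal.mpr hu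
  rw [IsLocalization.mk'_eq_zero_iff]
  exact ⟨⟨u, hu'⟩, hut⟩

end L3


section Main

variable (A B : Type u) [CommRing A] [CommRing B] [IsLocalRing B]
  [Algebra A B] [Algebra.EssFiniteType A B]

local notation "C" => Algebra.EssFiniteType.subalgebra A B

/-- The prime of `C` under `m_B`. -/
noncomputable abbrev qC : Ideal C := (maximalIdeal B).comap (algebraMap C B)

lemma submonoid_eq : Algebra.EssFiniteType.submonoid A B = (qC A B).primeCompl := by
  ext c
  rw [Algebra.EssFiniteType.submonoid, Submonoid.mem_comap, IsUnit.mem_submonoid_iff,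
    Ideal.mem_primeCompl_iff, Ideal.mem_comap, IsLocalRing.notMem_maximalIdeal]

instance isLocalizationAtPrime : IsLocalization.AtPrime B (qC A B) := by
  unfold IsLocalization.AtPrime
  rw [← submonoid_eq]
  infer_instance

/-- `B ≃ C_q` as `A`-algebras. -/
noncomputable def equivLoc : B ≃ₐ[A] Localization.AtPrime (qC A B) :=
  (IsLocalization.algEquiv (qC A B).primeCompl B (Localization.AtPrime (qC A B))).restrictScalars A

theorem exists_surj (f : C) (hf : f ∉ qC A B) {T : Type u} [CommRing T] [Algebra A T]
    (φ : T →ₐ[A] Localization.Away f) (hφ : Function.Surjective φ) :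
    ∃ (𝔮 : Ideal T) (_ : 𝔮.IsPrime) (θ : Localization.AtPrime 𝔮 →ₐ[A] B),
      Function.Surjective θ ∧ (Function.Injective φ → Function.Injective θ) := by
  have hunit : ∀ c : C, c ∉ qC A B → IsUnit (algebraMap C B c) := fun c hc =>
    IsLocalization.map_units B (⟨c, hc⟩ : (qC A B).primeCompl)
  have hfu : ∀ y : Submonoid.powers f, IsUnit ((IsScalarTower.toAlgHom A C B) y) := by
    rintro ⟨_, n, rfl⟩
    rw [map_pow]
    exact (hunit f hf).pow n
  let ι : Localization.Away f →ₐ[A] B :=
    IsLocalization.liftAlgHom (M := Submonoid.powers f) (f := IsScalarTower.toAlgHom A C B) hfu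
  have hι : ∀ c : C, ι (algebraMap C _ c) = algebraMap C B c := fun c => by
    simp [ι]
  let g : T →ₐ[A] B := ι.comp φ
  refine ⟨under g, inferInstance, locMap g, locMap_surjective g ?_, fun hinj => locMap_injective g ?_⟩
  · intro b
    obtain ⟨⟨c, m⟩, hcm⟩ := IsLocalization.surj (qC A B).primeCompl b
    obtain ⟨t, ht⟩ := hφ (algebraMap C _ c)
    obtain ⟨u, hu⟩ := hφ (algebraMap C _ m.1)
    have hgu : g u = algebraMap C B m.1 := by
      change ι (φ u) = _
      rw [hu, hι]
    have hgt : g t = algebraMap C B c := by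
      change ι (φ t) = _
      rw [ht, hι]
    refine ⟨t, u, ?_, ?_⟩
    · rw [hgu]; exact hunit m.1 m.2
    · rw [hgu, hgt]; exact hcm
  · intro t ht
    obtain ⟨⟨c, ⟨_, n, rfl⟩⟩, hc⟩ := IsLocalization.surj (Submonoid.powers f) (φ t)
    have hc' : φ t * algebraMap C _ (f ^ n) = algebraMap C _ c := hc
    have h0 : algebraMap C B c = 0 := by
      have := congrArg ι hc'
      rw [map_mul, hι, hι] at this
      rw [← this]
      change g t * _ = 0
      rw [ht, zero_mul]
    obtain ⟨m, hm⟩ := (IsLocalization.map_eq_zero_iff (qC A B).primeCompl B c).mp h0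
    obtain ⟨u, hu⟩ := hφ (algebraMap C _ (m.1 * f ^ n))
    refine ⟨u, ?_, ?_⟩
    · change IsUnit (ι (φ u))
      rw [hu, hι, map_mul, map_pow]
      exact (hunit m.1 m.2).mul ((hunit f hf).pow n)
    · apply hinj
      rw [map_mul, hu, map_zero, map_mul, mul_assoc, mul_comm (algebraMap C _ (f ^ n)), hc',
        ← map_mul, hm, map_zero]

end Main


section Final

variable (A B : Type u) [CommRing A] [CommRing B] [IsLocalRing A] [IsLocalRing B]
  [IsNoetherianRing A] [Algebra A B] [IsLocalHom (algebraMap A B)] [Algebra.EssFiniteType A B]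
  (hm : (maximalIdeal A).map (algebraMap A B) = maximalIdeal B)
  [Algebra.IsSeparable (ResidueField A) (ResidueField B)]

include hm

/-- Unramified local homomorphisms are quotients of localizations of standard étale algebras. -/
theorem exists_standardEtale_quotient :
    ∃ (P : StandardEtalePair A) (𝔮 : Ideal P.Ring) (_ : 𝔮.IsPrime)
      (I : Ideal (Localization.AtPrime 𝔮)), Nonempty (B ≃ₐ[A] (Localization.AtPrime 𝔮 ⧸ I)) := by
  haveI : Algebra.FormallyUnramified A B := Algebra.FormallyUnramified.of_map_maximalIdeal hm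
  haveI : Algebra.IsUnramifiedAt A (qC A B) :=
    Algebra.FormallyUnramified.of_equiv (equivLoc A B)
  obtain ⟨f, hf, P, φ, hφ⟩ :=
    Algebra.IsUnramifiedAt.exists_hasStandardEtaleSurjectionOn (R := A) (qC A B)
  obtain ⟨𝔮, h𝔮, θ, hθ, -⟩ := exists_surj A B f hf φ hφ
  exact ⟨P, 𝔮, h𝔮, RingHom.ker θ, ⟨(Ideal.quotientKerAlgEquivOfSurjective hθ).symm⟩⟩

/-- Étale local homomorphisms are localizations of standard étale algebras. -/
theorem exists_standardEtale_localization [Module.Flat A B] :
    ∃ (P : StandardEtalePair A) (𝔮 : Ideal P.Ring) (_ : 𝔮.IsPrime),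
      Nonempty (B ≃ₐ[A] Localization.AtPrime 𝔮) := by
  haveI : Algebra.FormallyUnramified A B := Algebra.FormallyUnramified.of_map_maximalIdeal hm
  haveI : Algebra.FinitePresentation A (Algebra.EssFiniteType.subalgebra A B) :=
    Algebra.FinitePresentation.of_finiteType.mp inferInstance
  haveI : Algebra.FormallyEtale (ResidueField A) (TensorProduct A (ResidueField A) B) :=
    Algebra.FormallyEtale.of_formallyUnramified_of_field _ _
  haveI : Algebra.FormallySmooth A B :=
    Algebra.FormallySmooth.of_formallySmooth_residueField_tensor (R := A) (S := B)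
      (P := Algebra.EssFiniteType.subalgebra A B) (Algebra.EssFiniteType.submonoid A B)
  haveI : Algebra.FormallyEtale A B := Algebra.FormallyEtale.of_formallyUnramified_and_formallySmooth
  haveI : Algebra.IsEtaleAt A (qC A B) := Algebra.FormallyEtale.of_equiv (equivLoc A B)
  obtain ⟨f, hf, hstd⟩ := Algebra.IsEtaleAt.exists_isStandardEtale (R := A) (qC A B)
  let P : StandardEtalePresentation A (Localization.Away f) :=
    hstd.nonempty_standardEtalePresentation.some
  obtain ⟨𝔮, h𝔮, θ, hθ, hθ'⟩ := exists_surj A B f hf P.equivRing.symm.toAlgHom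
    P.equivRing.symm.surjective
  exact ⟨P.P, 𝔮, h𝔮, ⟨(AlgEquiv.ofBijective θ ⟨hθ' P.equivRing.symm.injective, hθ⟩).symm⟩⟩

end Final

end Groth.Agent.Helper3.LocStd
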