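import Mathlib
set_option autoImplicit false
set_option linter.style.haveILetI false
set_option linter.unusedSectionVars false
set_option linter.unusedVariables false
set_option linter.style.haveILetI false
set_option linter.unusedSectionVars false
set_option linter.unusedVariables false

universe u v

namespace Groth.Agent.Helper3.LocSub

variable {B : Type u} [CommRing B]

/-- the "localisation inside `B`" of a subring `B₁` at the elements which are units of `B`. -/
def locSub (B₁ : Subring B) : Subring B where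
  carrier := {x | ∃ a ∈ B₁, ∃ w ∈ B₁, IsUnit w ∧ x * w = a}
  mul_mem' := by
    rintro x y ⟨a, ha, w, hw, hwu, hx⟩ ⟨b, hb, v, hv, hvu, hy⟩
    exact ⟨a * b, mul_mem ha hb, w * v, mul_mem hw hv, hwu.mul hvu, by rw [← hx, ← hy]; ring⟩
  one_mem' := ⟨1, one_mem _, 1, one_mem _, isUnit_one, by ring⟩
  add_mem' := by
    rintro x y ⟨a, ha, w, hw, hwu, hx⟩ ⟨b, hb, v, hv, hvu, hy⟩
    exact ⟨a * v + b * w, add_mem (mul_mem ha hv) (mul_mem hb hw), w * v, mul_mem hw hv,
      hwu.mul hvu, by rw [← hx, ← hy]; ring⟩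
  zero_mem' := ⟨0, zero_mem _, 1, one_mem _, isUnit_one, by ring⟩
  neg_mem' := by
    rintro x ⟨a, ha, w, hw, hwu, hx⟩
    exact ⟨-a, neg_mem ha, w, hw, hwu, by rw [← hx]; ring⟩

lemma mem_locSub {B₁ : Subring B} {x : B} :
    x ∈ locSub B₁ ↔ ∃ a ∈ B₁, ∃ w ∈ B₁, IsUnit w ∧ x * w = a := Iff.rfl

lemma le_locSub (B₁ : Subring B) : B₁ ≤ locSub B₁ := fun x hx =>
  ⟨x, hx, 1, one_mem _, isUnit_one, by ring⟩

/-- a unit of `B` lying in `locSub B₁` has its inverse there. -/
lemma inv_mem {B₁ : Subring B} {x y : B} (hx : x ∈ locSub B₁) (hxy : x * y = 1) :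
    y ∈ locSub B₁ := by
  obtain ⟨a, ha, w, hw, hwu, hxw⟩ := hx
  have hxu : IsUnit x := IsUnit.of_mul_eq_one _ hxy
  refine ⟨w, hw, a, ha, ?_, ?_⟩
  · rw [← hxw]; exact hxu.mul hwu
  · rw [← hxw]
    calc y * (x * w) = (x * y) * w := by ring
      _ = w := by rw [hxy, one_mul]

lemma isUnit_of_isUnit {B₁ : Subring B} (x : locSub B₁) (hx : IsUnit (x : B)) : IsUnit x := by
  obtain ⟨y, hy⟩ := hx.exists_right_inv
  exact IsUnit.of_mul_eq_one (⟨y, inv_mem x.2 hy⟩ : locSub B₁) (Subtype.ext hy)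

instance isLocalHom_subtype (B₁ : Subring B) : IsLocalHom (locSub B₁).subtype :=
  ⟨fun x hx => isUnit_of_isUnit x hx⟩

lemma isLocalRing [IsLocalRing B] (B₁ : Subring B) : IsLocalRing (locSub B₁) := by
  refine IsLocalRing.of_isUnit_or_isUnit_one_sub_self fun a => ?_
  rcases IsLocalRing.isUnit_or_isUnit_one_sub_self (a : B) with h | h
  · exact Or.inl (isUnit_of_isUnit a h)
  · exact Or.inr (isUnit_of_isUnit (1 - a) h)


theorem essFiniteType {K : Type v} [CommRing K] (φ : K →+* B) (F : Finset B)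
    (φ₀ : K →+* locSub (Subring.closure (Set.range φ ∪ (F : Set B))))
    (hφ₀ : ∀ x, (φ₀ x : B) = φ x) : φ₀.EssFiniteType := by
  classical
  letI := φ₀.toAlgebra
  change Algebra.EssFiniteType K _
  rw [Algebra.essFiniteType_iff]
  obtain ⟨B₁, hB₁⟩ : ∃ B₁, B₁ = Subring.closure (Set.range φ ∪ (F : Set B)) := ⟨_, rfl⟩
  refine ⟨F.subtype (· ∈ locSub (Subring.closure (Set.range φ ∪ (F : Set B)))), ?_⟩
  set Ad := Algebra.adjoin K
    ((F.subtype (· ∈ locSub (Subring.closure (Set.range φ ∪ (F : Set B))))) :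
      Set (locSub (Subring.closure (Set.range φ ∪ (F : Set B))))) with hAd
  have key : ∀ b ∈ Subring.closure (Set.range φ ∪ (F : Set B)),
      ∃ c ∈ Ad, (c : B) = b := by
    intro b hb
    induction hb using Subring.closure_induction with
    | mem x hx =>
      rcases hx with ⟨k, rfl⟩ | hx
      · exact ⟨φ₀ k, Subalgebra.algebraMap_mem Ad k, hφ₀ k⟩
      · refine ⟨⟨x, le_locSub _ (Subring.subset_closure (Or.inr hx))⟩,
          Algebra.subset_adjoin ?_, rfl⟩
        simpa using hx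
    | zero => exact ⟨0, zero_mem _, rfl⟩
    | one => exact ⟨1, one_mem _, rfl⟩
    | add x y _ _ hx hy =>
      obtain ⟨c, hc, rfl⟩ := hx
      obtain ⟨d, hd, rfl⟩ := hy
      exact ⟨c + d, add_mem hc hd, rfl⟩
    | neg x _ hx =>
      obtain ⟨c, hc, rfl⟩ := hx
      exact ⟨-c, neg_mem hc, rfl⟩
    | mul x y _ _ hx hy =>
      obtain ⟨c, hc, rfl⟩ := hx
      obtain ⟨d, hd, rfl⟩ := hy
      exact ⟨c * d, mul_mem hc hd, rfl⟩
  intro s
  obtain ⟨a, ha, w, hw, hwu, hsw⟩ := s.2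
  obtain ⟨c, hc, hca⟩ := key a ha
  obtain ⟨t, ht, htw⟩ := key w hw
  refine ⟨t, ht, isUnit_of_isUnit t (htw ▸ hwu), ?_⟩
  have : s * t = c := Subtype.ext (by rw [Subring.coe_mul, htw, hca, hsw])
  rw [this]
  exact hc


theorem main (R S : Type u) [CommRing R] [CommRing S] [IsLocalRing R]
    [IsLocalRing S] [Algebra R S] [IsLocalHom (algebraMap R S)] (E : Finset R) (F : Finset S) :
    ∃ (R₀ : Subring R) (S₀ : Subring S) (h : ∀ x ∈ R₀, algebraMap R S x ∈ S₀),
      (E : Set R) ⊆ R₀ ∧ (F : Set S) ⊆ S₀ ∧ ∃ (_ : IsLocalRing R₀) (_ : IsLocalRing S₀),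
        IsLocalHom R₀.subtype ∧ IsLocalHom S₀.subtype ∧
          IsLocalHom ((algebraMap R S).restrict R₀ S₀ h) ∧
          (algebraMap ℤ R₀).EssFiniteType ∧
          ((algebraMap R S).restrict R₀ S₀ h).EssFiniteType := by
  obtain ⟨R₀, hR₀⟩ : ∃ R₀ : Subring R,
      R₀ = locSub (Subring.closure (Set.range (Int.castRingHom R) ∪ (E : Set R))) := ⟨_, rfl⟩
  obtain ⟨ψ, hψ⟩ : ∃ ψ : R₀ →+* S, ψ = (algebraMap R S).comp R₀.subtype := ⟨_, rfl⟩
  obtain ⟨S₀, hS₀⟩ : ∃ S₀ : Subring S,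
      S₀ = locSub (Subring.closure (Set.range ψ ∪ (F : Set S))) := ⟨_, rfl⟩
  have h : ∀ x ∈ R₀, algebraMap R S x ∈ S₀ := by
    intro x hx
    rw [hS₀]
    refine le_locSub _ (Subring.subset_closure (Or.inl ⟨⟨x, hx⟩, ?_⟩))
    rw [hψ]; rfl
  refine ⟨R₀, S₀, h, ?_, ?_, ?_⟩
  · intro x hx
    rw [hR₀]
    exact le_locSub _ (Subring.subset_closure (Or.inr hx))
  · intro x hx
    rw [hS₀]
    exact le_locSub _ (Subring.subset_closure (Or.inr hx))
  have hl1 : IsLocalRing R₀ := by rw [hR₀]; exact isLocalRing _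
  have hl2 : IsLocalRing S₀ := by rw [hS₀]; exact isLocalRing _
  have hh1 : IsLocalHom R₀.subtype := by subst hR₀; exact isLocalHom_subtype _
  have hh2 : IsLocalHom S₀.subtype := by subst hS₀; exact isLocalHom_subtype _
  refine ⟨hl1, hl2, hh1, hh2, ?_, ?_, ?_⟩
  · constructor
    intro x hx
    have h1 : IsUnit (S₀.subtype ((algebraMap R S).restrict R₀ S₀ h x)) := hx.map _
    have h2 : IsUnit (algebraMap R S (x : R)) := h1
    have h3 : IsUnit (x : R) := isUnit_of_map_unit (algebraMap R S) _ h2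
    exact isUnit_of_map_unit R₀.subtype x h3
  · subst hR₀
    have := essFiniteType (Int.castRingHom R) E (Int.castRingHom _) (fun x => by simp)
    convert this
    exact RingHom.ext_int _ _
  · subst hS₀
    exact essFiniteType ψ F _ (fun x => congrFun (congrArg DFunLike.coe hψ.symm) x)

end Groth.Agent.Helper3.LocSub
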