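import Mathlib
import Groth.Agent.Helper4.GeomIrrSch
import Groth.Agent.S4370

set_option linter.style.haveILetI false
set_option linter.unusedSectionVars false
set_option linter.unusedVariables false
set_option linter.style.haveILetI false
set_option linter.unusedSectionVars false
set_option linter.unusedVariables false

namespace Groth.Agent.Helper3.LocTrivIrr

open AlgebraicGeometry CategoryTheory Limits

universe u

theorem irreducibleSpace_of_surjective {A B : Type*} [TopologicalSpace A] [TopologicalSpace B]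
    [IrreducibleSpace A] (p : A → B) (hc : Continuous p) (hs : Function.Surjective p) :
    IrreducibleSpace B := by
  have := (IrreducibleSpace.isIrreducible_univ A).image p hc.continuousOn
  rw [Set.image_univ_of_surjective hs] at this
  exact (irreducibleSpace_def B).mpr this

/-- an irreducible scheme over an algebraically closed field times an irreducible scheme is
irreducible -/
theorem irreducibleSpace_pullback (k : Type u) [Field k] [IsAlgClosed k]
    {V F : Scheme.{u}} (qV : V ⟶ Spec (CommRingCat.of k))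
    (qF : F ⟶ Spec (CommRingCat.of k)) [IrreducibleSpace ↥F] [IrreducibleSpace ↥V] :
    IrreducibleSpace ↥(pullback qV qF) := by
  let F' := F.nilradical.subscheme
  let ι : F' ⟶ F := F.nilradical.subschemeι
  haveI : IsReduced F' := Groth.Agent.S4370.isReduced_nilradical_subscheme F
  haveI : Surjective ι := Groth.Agent.S4370.surjective_nilradical_subschemeι F
  haveI : Nonempty F' := by
    obtain ⟨x⟩ := (inferInstance : Nonempty F)
    obtain ⟨x', _⟩ := ι.surjective x
    exact ⟨x'⟩
  haveI : IrreducibleSpace F' := by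
    have hhomeo : IsHomeomorph ι := by
      rw [isHomeomorph_iff_isEmbedding_surjective]
      exact ⟨ι.isEmbedding, ι.surjective⟩
    exact (hhomeo.homeomorph).irreducibleSpace_iff.mpr inferInstance
  haveI : IsIntegral F' := isIntegral_of_irreducibleSpace_of_isReduced F'
  haveI : GeometricallyIrreducible (ι ≫ qF) :=
    Groth.Agent.Helper4.GeomIrrSch.geometricallyIrreducible_of_isIntegral _
  haveI : IrreducibleSpace ↥(pullback qV (ι ≫ qF)) := inferInstance
  let e := pullbackLeftPullbackSndIso qV qF ι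
  haveI : IrreducibleSpace ↥(pullback (pullback.snd qV qF) ι) :=
    e.hom.homeomorph.irreducibleSpace_iff.mpr inferInstance
  exact irreducibleSpace_of_surjective (pullback.fst (pullback.snd qV qF) ι)
    (pullback.fst (pullback.snd qV qF) ι).continuous
    (pullback.fst (pullback.snd qV qF) ι).surjective

theorem main (k : Type u) [Field k] [IsAlgClosed k]
    {X Y F : Scheme.{u}} (qX : X ⟶ Spec (CommRingCat.of k)) (qY : Y ⟶ Spec (CommRingCat.of k))
    (qF : F ⟶ Spec (CommRingCat.of k))
    [IrreducibleSpace ↥F] [IrreducibleSpace ↥Y]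
    (f : X ⟶ Y) (hf : f ≫ qY = qX)
    (htriv : ∀ y : ↥Y, ∃ V : Y.Opens, y ∈ V ∧
      ∃ e : (↑(f ⁻¹ᵁ V) : Scheme.{u}) ≅ pullback (V.ι ≫ qY) qF,
        e.hom ≫ pullback.fst (V.ι ≫ qY) qF = f ∣_ V) :
    IrreducibleSpace ↥X := by
  choose V hyV e he using htriv
  haveI : Subsingleton ↥(Spec (CommRingCat.of k)) :=
    inferInstanceAs (Subsingleton (PrimeSpectrum k))
  haveI : Surjective qF := ⟨fun s => ⟨Nonempty.some inferInstance, Subsingleton.elim _ _⟩⟩
  have hsurj : ∀ y : Y, ∀ v ∈ V y, ∃ x : X, x ∈ f ⁻¹ᵁ (V y) ∧ f x = v := by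
    intro y v hv
    haveI : Surjective (f ∣_ (V y)) := by
      rw [← he y]
      infer_instance
    obtain ⟨x', hx'⟩ := (f ∣_ (V y)).surjective ⟨v, hv⟩
    refine ⟨x'.1, x'.2, ?_⟩
    have h1 := congrArg (fun g : (↑(f ⁻¹ᵁ V y) : Scheme.{u}) ⟶ Y => g x') (morphismRestrict_ι f (V y))
    simp only [Scheme.Hom.comp_apply] at h1
    rw [hx'] at h1
    exact h1.symm
  haveI : Nonempty Y := inferInstance
  refine Groth.Agent.Helper4.GeomIrrSch.irreducibleSpace_of_openCover
    (fun y : Y => ((f ⁻¹ᵁ (V y) : X.Opens) : Set X)) (fun y => (f ⁻¹ᵁ (V y)).2) ?_ ?_ ?_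
  · intro y
    haveI : Nonempty ↥(V y : Scheme.{u}) := ⟨⟨y, hyV y⟩⟩
    haveI : IrreducibleSpace ↥(V y : Scheme.{u}) := (V y).ι.isOpenEmbedding.irreducibleSpace
    haveI : IrreducibleSpace ↥(pullback ((V y).ι ≫ qY) qF) := irreducibleSpace_pullback k _ _
    haveI : IrreducibleSpace ↥(↑(f ⁻¹ᵁ V y) : Scheme.{u}) :=
      (e y).hom.homeomorph.irreducibleSpace_iff.mpr inferInstance
    exact isIrreducible_iff_irreducibleSpace.mpr this
  · intro x
    exact ⟨f x, hyV (f x)⟩
  · intro y y'
    obtain ⟨v, hv1, hv2⟩ := nonempty_preirreducible_inter (V y).2 (V y').2 ⟨y, hyV y⟩ ⟨y', hyV y'⟩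
    obtain ⟨x, hx, hxv⟩ := hsurj y v hv1
    refine ⟨x, hx, ?_⟩
    show f x ∈ V y'
    rw [hxv]
    exact hv2

end Groth.Agent.Helper3.LocTrivIrr
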