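import Mathlib
import Groth.Prelude

set_option autoImplicit false
set_option linter.style.haveILetI false
set_option linter.unusedSectionVars false
set_option linter.unusedVariables false
set_option linter.deprecated false
set_option linter.style.haveILetI false
set_option linter.unusedSectionVars false
set_option linter.unusedVariables false

open TensorProduct EGA43 IsLocalRing

universe u

namespace Groth.Agent.Helper3.Lsc

section TorsionFree

variable {A C : Type u} [CommRing A] [IsDomain A] [IsDiscreteValuationRing A]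
  [CommRing C] [Algebra A C]

/-- an element killed by a power of the uniformizer lies in every prime over the closed point at
which `Spec C ⟶ Spec A` is open -/
theorem mem_prime_of_pow_mul_eq_zero (ϖ : A) (hϖ0 : ϖ ≠ 0)
    (x : PrimeSpectrum C)
    (hopen : IsOpenAt (PrimeSpectrum.comap (algebraMap A C)) x)
    (hx : PrimeSpectrum.comap (algebraMap A C) x = closedPoint A)
    (t : C) (n : ℕ) (h : algebraMap A C ϖ ^ n * t = 0) : t ∈ x.asIdeal := by
  by_contra ht
  have hU : (PrimeSpectrum.basicOpen t : Set (PrimeSpectrum C)) ∈ nhds x :=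
    (PrimeSpectrum.basicOpen t).isOpen.mem_nhds ht
  have h1 := hopen _ hU
  rw [hx] at h1
  -- the generic point lies in every neighbourhood of the closed point
  have hgen : (⟨⊥, Ideal.isPrime_bot⟩ : PrimeSpectrum A) ⤳ closedPoint A := by
    rw [← PrimeSpectrum.le_iff_specializes]
    exact bot_le (a := (closedPoint A).asIdeal)
  obtain ⟨V, hV, hVo, hsV⟩ := mem_nhds_iff.mp h1
  have hη : (⟨⊥, Ideal.isPrime_bot⟩ : PrimeSpectrum A) ∈
      PrimeSpectrum.comap (algebraMap A C) '' (PrimeSpectrum.basicOpen t : Set _) :=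
    hV (hgen.mem_open hVo hsV)
  obtain ⟨x', hx't, hx'⟩ := hη
  have h2 : algebraMap A C ϖ ^ n * t ∈ x'.asIdeal := by rw [h]; exact zero_mem _
  rcases x'.isPrime.mem_or_mem h2 with h3 | h3
  · have h4 : algebraMap A C ϖ ∈ x'.asIdeal := x'.isPrime.mem_of_pow_mem n h3
    have h5 : ϖ ∈ (PrimeSpectrum.comap (algebraMap A C) x').asIdeal := h4
    rw [hx'] at h5
    exact hϖ0 ((Ideal.mem_bot).mp h5)
  · exact hx't h3

/-- `C` is torsion free over the discrete valuation ring `A` if `Spec C ⟶ Spec A` is open at the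
points over the closed point and the closed fibre is reduced. -/
theorem eq_zero_of_pow_mul_eq_zero [IsNoetherianRing C] (ϖ : A)
    (hϖ : maximalIdeal A = Ideal.span {ϖ}) (hϖ0 : ϖ ≠ 0)
    (hopen : ∀ x : PrimeSpectrum C, PrimeSpectrum.comap (algebraMap A C) x = closedPoint A →
      IsOpenAt (PrimeSpectrum.comap (algebraMap A C)) x)
    (hred : IsReduced (C ⊗[A] ResidueField A))
    (t : C) (n : ℕ) (h : algebraMap A C ϖ ^ n * t = 0) : t = 0 := by
  set p : C := algebraMap A C ϖ with hp
  -- the torsion ideal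
  let T : Ideal C :=
    { carrier := {t | ∃ n : ℕ, p ^ n * t = 0}
      add_mem' := by
        rintro a b ⟨n, hn⟩ ⟨m, hm⟩
        refine ⟨n + m, ?_⟩
        have e1 : p ^ (n + m) * a = p ^ m * (p ^ n * a) := by rw [pow_add]; ring
        have e2 : p ^ (n + m) * b = p ^ n * (p ^ m * b) := by rw [pow_add]; ring
        rw [mul_add, e1, e2, hn, hm, mul_zero, mul_zero, add_zero]
      zero_mem' := ⟨0, by simp⟩
      smul_mem' := by
        rintro c a ⟨n, hn⟩
        refine ⟨n, ?_⟩
        rw [smul_eq_mul, mul_left_comm, hn, mul_zero] }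
  have hTmem : ∀ a : C, a ∈ T ↔ ∃ n : ℕ, p ^ n * a = 0 := fun a => Iff.rfl
  -- every torsion element is divisible by the uniformizer, with torsion quotient
  have hdiv : ∀ a ∈ T, ∃ b ∈ T, a = p * b := by
    rintro a ⟨n, hn⟩
    -- `a` lies in every prime containing `p`
    have hrad : a ∈ (Ideal.span {p} : Ideal C).radical := by
      rw [Ideal.radical_eq_sInf, Ideal.mem_sInf]
      rintro q ⟨hq1, hq2⟩
      have hpq : p ∈ q := hq1 (Ideal.subset_span (Set.mem_singleton p))
      have hx : PrimeSpectrum.comap (algebraMap A C) ⟨q, hq2⟩ = closedPoint A := by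
        apply PrimeSpectrum.ext
        have h1 : maximalIdeal A ≤ (PrimeSpectrum.comap (algebraMap A C) ⟨q, hq2⟩).asIdeal := by
          rw [hϖ, Ideal.span_le, Set.singleton_subset_iff]
          exact hpq
        exact ((maximalIdeal.isMaximal A).eq_of_le
          (PrimeSpectrum.comap (algebraMap A C) ⟨q, hq2⟩).isPrime.ne_top h1).symm
      exact mem_prime_of_pow_mul_eq_zero ϖ hϖ0 ⟨q, hq2⟩ (hopen _ hx) hx a n hn
    obtain ⟨N, hN⟩ := hrad
    -- hence `a ⊗ 1` is nilpotent, hence zero
    let e := Algebra.TensorProduct.quotIdealMapEquivTensorQuot C (maximalIdeal A)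
    have hmap : (maximalIdeal A).map (algebraMap A C) = Ideal.span {p} := by
      rw [hϖ, Ideal.map_span, Set.image_singleton]
    have h0 : Ideal.Quotient.mk ((maximalIdeal A).map (algebraMap A C)) (a ^ N) = 0 := by
      rw [Ideal.Quotient.eq_zero_iff_mem, hmap]; exact hN
    have h1 : (a ⊗ₜ[A] (1 : ResidueField A)) ^ N = 0 := by
      have : e (Ideal.Quotient.mk _ (a ^ N)) = (a ^ N) ⊗ₜ[A] (1 : A ⧸ maximalIdeal A) :=
        Algebra.TensorProduct.quotIdealMapEquivTensorQuot_mk C (maximalIdeal A) (a ^ N)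
      rw [h0, map_zero] at this
      rw [Algebra.TensorProduct.tmul_pow, one_pow]
      exact this.symm
    have h2 : a ⊗ₜ[A] (1 : ResidueField A) = 0 := by
      haveI := hred
      exact IsReduced.eq_zero _ ⟨N, h1⟩
    have h3 : Ideal.Quotient.mk ((maximalIdeal A).map (algebraMap A C)) a = 0 := by
      apply e.injective
      rw [map_zero]
      exact h2
    rw [Ideal.Quotient.eq_zero_iff_mem, hmap, Ideal.mem_span_singleton] at h3
    obtain ⟨b, hb⟩ := h3
    refine ⟨b, ⟨n + 1, ?_⟩, hb⟩
    rw [pow_succ, mul_assoc, ← hb, hn]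
  -- `T = p T`, hence `T = p ^ N T` for all `N`
  have hpow : ∀ N : ℕ, ∀ a ∈ T, ∃ b ∈ T, a = p ^ N * b := by
    intro N
    induction N with
    | zero => intro a ha; exact ⟨a, ha, by simp⟩
    | succ N ih =>
      intro a ha
      obtain ⟨b, hb, rfl⟩ := ih a ha
      obtain ⟨c, hc, rfl⟩ := hdiv b hb
      exact ⟨c, hc, by rw [pow_succ, mul_assoc]⟩
  -- a uniform exponent
  have hfg : T.FG := IsNoetherian.noetherian T
  obtain ⟨N, hN⟩ : ∃ N : ℕ, ∀ a ∈ T, p ^ N * a = 0 := by
    obtain ⟨S, hS⟩ := hfg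
    have hSmem : ∀ s ∈ S, s ∈ T := fun s hs => hS ▸ Ideal.subset_span hs
    choose! e he using fun s (hs : s ∈ S) => hSmem s hs
    refine ⟨S.sup e, ?_⟩
    intro a ha
    rw [← hS] at ha
    refine Submodule.span_induction ?_ ?_ ?_ ?_ ha
    · intro s hs
      have hle : e s ≤ S.sup e := Finset.le_sup hs
      obtain ⟨d, hd⟩ := Nat.exists_eq_add_of_le hle
      rw [hd, pow_add, mul_comm (p ^ e s), mul_assoc, he s hs, mul_zero]
    · simp
    · intro a b _ _ ha hb; rw [mul_add, ha, hb, add_zero]
    · intro c a _ ha; rw [smul_eq_mul, mul_left_comm, ha, mul_zero]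
  have htT : t ∈ T := ⟨n, h⟩
  obtain ⟨b, hb, rfl⟩ := hpow N t htT
  exact hN b hb

end TorsionFree

end Groth.Agent.Helper3.Lsc
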