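import Mathlib
import Groth.Prelude
import Groth.Agent.Helper3.LscF

set_option autoImplicit false
set_option linter.style.haveILetI false
set_option linter.unusedSectionVars false
set_option linter.unusedVariables false
set_option linter.deprecated false
set_option linter.style.haveILetI false
set_option linter.unusedSectionVars false
set_option linter.unusedVariables false

open CategoryTheory CategoryTheory.Limits AlgebraicGeometry Opposite EGA43 TensorProduct IsLocalRing

universe u

namespace Groth.Agent.Helper3.Lsc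

section Patch

variable {A : Type u} [CommRing A] {X : Scheme.{u}} (f : X ⟶ Spec (CommRingCat.of A))

/-- the structure map of the sections over an open subset of a scheme over `Spec A` -/
noncomputable def secAlg (U : X.Opens) : A →+* Γ(X, U) :=
  ((Scheme.ΓSpecIso (CommRingCat.of A)).inv ≫ f.appTop ≫
    X.presheaf.map (homOfLE (le_top : U ≤ ⊤)).op).hom

theorem secAlg_res {U V : X.Opens} (h : V ≤ U) (a : A) :
    (X.presheaf.map (homOfLE h).op).hom (secAlg f U a) = secAlg f V a := by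
  simp only [secAlg, CommRingCat.hom_comp, RingHom.comp_apply]
  rw [← CommRingCat.comp_apply, ← Functor.map_comp]
  rfl

theorem eq_toSpecΓ_comp :
    f = X.toSpecΓ ≫ Spec.map ((Scheme.ΓSpecIso (CommRingCat.of A)).inv ≫ f.appTop) := by
  have h1 := Scheme.toSpecΓ_naturality f
  rw [← SpecMap_ΓSpecIso_hom] at h1
  rw [Spec.map_comp, ← reassoc_of% h1, ← Spec.map_comp, Iso.inv_hom_id, Spec.map_id,
    Category.comp_id]

theorem fromSpec_comp {U : X.Opens} (hU : IsAffineOpen U) :
    hU.fromSpec ≫ f = Spec.map (CommRingCat.ofHom (secAlg f U)) := by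
  conv_lhs => rw [eq_toSpecΓ_comp f]
  rw [hU.fromSpec_toSpecΓ_assoc, ← Spec.map_comp]
  congr 1

theorem fromSpec_appTop {U : X.Opens} (hU : IsAffineOpen U) :
    hU.fromSpec.appTop = X.presheaf.map (homOfLE (le_top : U ≤ ⊤)).op ≫
      (Scheme.ΓSpecIso Γ(X, U)).inv := by
  have h1 := hU.fromSpec_toSpecΓ
  have h2 := congrArg Scheme.Hom.appTop h1
  rw [Scheme.Hom.comp_appTop, Scheme.toSpecΓ_appTop] at h2
  have h3 : (Spec.map (X.presheaf.map (homOfLE (le_top : U ≤ ⊤)).op)).appTop =
      (Scheme.ΓSpecIso Γ(X, ⊤)).hom ≫ X.presheaf.map (homOfLE (le_top : U ≤ ⊤)).op ≫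
        (Scheme.ΓSpecIso Γ(X, U)).inv := by
    rw [← Scheme.ΓSpecIso_naturality_assoc, Iso.hom_inv_id, Category.comp_id]
  rw [h3] at h2
  exact (cancel_epi (Scheme.ΓSpecIso Γ(X, ⊤)).hom).mp h2

end Patch

section Fibre

variable {A : Type u} [CommRing A] [IsLocalRing A] {X : Scheme.{u}}
  (f : X ⟶ Spec (CommRingCat.of A))

variable (A) in
/-- the inclusion of the closed point -/
noncomputable abbrev clPt : Spec (CommRingCat.of (ResidueField A)) ⟶ Spec (CommRingCat.of A) :=
  Spec.map (CommRingCat.ofHom (algebraMap A (ResidueField A)))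

/-- the patch of the closed fibre over an affine open -/
theorem exists_patch {U : X.Opens} (hU : IsAffineOpen U) :
    letI := (secAlg f U).toAlgebra
    ∃ u : Spec (CommRingCat.of (Γ(X, U) ⊗[A] ResidueField A)) ⟶ pullback f (clPt A),
      IsOpenImmersion u ∧
      u ≫ pullback.fst f (clPt A) = Spec.map (CommRingCat.ofHom
        (Algebra.TensorProduct.includeLeft : Γ(X, U) →ₐ[A] Γ(X, U) ⊗[A] ResidueField A).toRingHom) ≫
          hU.fromSpec := by
  letI := (secAlg f U).toAlgebra
  let j := hU.fromSpec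
  have hj : j ≫ f = Spec.map (CommRingCat.ofHom (algebraMap A Γ(X, U))) := fromSpec_comp f hU
  -- the comparison open immersion
  let o : pullback (j ≫ f) (clPt A) ⟶ pullback f (clPt A) :=
    pullback.lift (pullback.fst (j ≫ f) (clPt A) ≫ j) (pullback.snd (j ≫ f) (clPt A))
      (by rw [Category.assoc, pullback.condition])
  have ho1 : o ≫ pullback.fst f (clPt A) = pullback.fst (j ≫ f) (clPt A) ≫ j :=
    pullback.lift_fst _ _ _
  have ho2 : o ≫ pullback.snd f (clPt A) = pullback.snd (j ≫ f) (clPt A) :=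
    pullback.lift_snd _ _ _
  have hsq : IsPullback o (pullback.fst (j ≫ f) (clPt A)) (pullback.fst f (clPt A)) j := by
    have outer : IsPullback (o ≫ pullback.snd f (clPt A)) (pullback.fst (j ≫ f) (clPt A))
        (clPt A) (j ≫ f) := by
      rw [ho2]; exact (IsPullback.of_hasPullback (j ≫ f) (clPt A)).flip
    exact IsPullback.of_right outer ho1 (IsPullback.of_hasPullback f (clPt A)).flip
  haveI : IsOpenImmersion o := MorphismProperty.of_isPullback (P := @IsOpenImmersion) hsq.flip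
    inferInstance
  let e₂ : pullback (Spec.map (CommRingCat.ofHom (algebraMap A Γ(X, U)))) (clPt A) ≅
      pullback (j ≫ f) (clPt A) := pullback.congrHom hj.symm rfl
  have he₂ : e₂.hom ≫ pullback.fst (j ≫ f) (clPt A) =
      pullback.fst (Spec.map (CommRingCat.ofHom (algebraMap A Γ(X, U)))) (clPt A) := by
    simp only [e₂, pullback.congrHom_hom]
    rw [pullback.lift_fst, Category.comp_id]
  let e₁ := pullbackSpecIso A Γ(X, U) (ResidueField A)
  have he₁ : e₁.inv ≫ pullback.fst (Spec.map (CommRingCat.ofHom (algebraMap A Γ(X, U)))) (clPt A) =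
      Spec.map (CommRingCat.ofHom
        (Algebra.TensorProduct.includeLeft : Γ(X, U) →ₐ[A] Γ(X, U) ⊗[A] ResidueField A).toRingHom) :=
    pullbackSpecIso_inv_fst A Γ(X, U) (ResidueField A)
  refine ⟨e₁.inv ≫ e₂.hom ≫ o, inferInstance, ?_⟩
  rw [Category.assoc, Category.assoc, ho1, reassoc_of% he₂, reassoc_of% he₁]

theorem isReduced_patch {U : X.Opens} (hU : IsAffineOpen U)
    (hred : IsReduced (pullback f (clPt A))) :
    letI := (secAlg f U).toAlgebra
    _root_.IsReduced (Γ(X, U) ⊗[A] ResidueField A) := by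
  letI := (secAlg f U).toAlgebra
  obtain ⟨u, hu, -⟩ := exists_patch f hU
  haveI := hred
  haveI : IsReduced (Spec (CommRingCat.of (Γ(X, U) ⊗[A] ResidueField A))) :=
    isReduced_of_isOpenImmersion u
  exact (affine_isReduced_iff (CommRingCat.of (Γ(X, U) ⊗[A] ResidueField A))).mp inferInstance

theorem tmul_eq_zero_of_fst_appTop {U : X.Opens} (hU : IsAffineOpen U) (b : Γ(X, ⊤))
    (hb : (pullback.fst f (clPt A)).appTop.hom b = 0) :
    letI := (secAlg f U).toAlgebra
    ((X.presheaf.map (homOfLE (le_top : U ≤ ⊤)).op).hom b) ⊗ₜ[A] (1 : ResidueField A) = 0 := by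
  letI := (secAlg f U).toAlgebra
  obtain ⟨u, -, hu⟩ := exists_patch f hU
  have h1 := congrArg (fun g => g.appTop.hom b) hu
  simp only [Scheme.Hom.comp_appTop, CommRingCat.hom_comp, RingHom.comp_apply] at h1
  rw [hb, map_zero, fromSpec_appTop] at h1
  simp only [CommRingCat.hom_comp, RingHom.comp_apply] at h1
  have h2 := Scheme.ΓSpecIso_inv_naturality (CommRingCat.ofHom
    (Algebra.TensorProduct.includeLeft : Γ(X, U) →ₐ[A] Γ(X, U) ⊗[A] ResidueField A).toRingHom)
  have h3 := congrArg (fun g => g.hom ((X.presheaf.map (homOfLE (le_top : U ≤ ⊤)).op).hom b)) h2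
  simp only [CommRingCat.hom_comp, RingHom.comp_apply] at h3
  have h4 := h3.trans h1.symm
  have hinj : Function.Injective
      (Scheme.ΓSpecIso (CommRingCat.of (Γ(X, U) ⊗[A] ResidueField A))).inv.hom :=
    ((ConcreteCategory.isIso_iff_bijective _).mp inferInstance).1
  apply hinj
  rw [map_zero]
  exact h4

theorem isOpenAt_patch {U : X.Opens} (hU : IsAffineOpen U)
    (hopen : ∀ x : X, f x = closedPoint A → IsOpenAt f.base x) :
    letI := (secAlg f U).toAlgebra
    ∀ y : PrimeSpectrum Γ(X, U), PrimeSpectrum.comap (algebraMap A Γ(X, U)) y = closedPoint A →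
      IsOpenAt (PrimeSpectrum.comap (algebraMap A Γ(X, U))) y := by
  letI := (secAlg f U).toAlgebra
  intro y hy
  let j := hU.fromSpec
  have hj : j ≫ f = Spec.map (CommRingCat.ofHom (algebraMap A Γ(X, U))) := fromSpec_comp f hU
  have hjf : ∀ z : PrimeSpectrum Γ(X, U), f (j z) = PrimeSpectrum.comap (algebraMap A Γ(X, U)) z := by
    intro z
    rw [← Scheme.Hom.comp_apply, hj]
    rfl
  have h1 : IsOpenAt f.base (j y) := hopen _ ((hjf y).trans hy)
  intro W hW
  have hW' : j.base '' W ∈ nhds (j y) := j.isOpenEmbedding.isOpenMap.image_mem_nhds hW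
  have h2 := h1 _ hW'
  have h3 : f.base '' (j.base '' W) = PrimeSpectrum.comap (algebraMap A Γ(X, U)) '' W := by
    rw [← Set.image_comp]
    apply Set.image_congr
    intro z _
    exact hjf z
  rw [h3] at h2
  have h4 : f (j y) = PrimeSpectrum.comap (algebraMap A Γ(X, U)) y := hjf y
  rw [← h4]
  exact h2

end Fibre

section DVR

variable {A : Type u} [CommRing A] [IsDomain A] [IsDiscreteValuationRing A] {X : Scheme.{u}}
  (f : X ⟶ Spec (CommRingCat.of A)) [IsLocallyNoetherian X]
  (ϖ : A) (hϖ : maximalIdeal A = Ideal.span {ϖ}) (hϖ0 : ϖ ≠ 0)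
  (hopen : ∀ x : X, f x = closedPoint A → IsOpenAt f.base x)
  (hred : IsReduced (pullback f (clPt A)))

include hϖ hϖ0 hopen hred

theorem torsionFree_affine {U : X.Opens} (hU : IsAffineOpen U) (t : Γ(X, U)) (n : ℕ)
    (h : secAlg f U ϖ ^ n * t = 0) : t = 0 := by
  letI := (secAlg f U).toAlgebra
  haveI : IsNoetherianRing Γ(X, U) := IsLocallyNoetherian.component_noetherian ⟨U, hU⟩
  exact eq_zero_of_pow_mul_eq_zero ϖ hϖ hϖ0 (isOpenAt_patch f hU hopen)
    (isReduced_patch f hU hred) t n h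

theorem torsionFree_open (W : X.Opens) (t : Γ(X, W)) (h : secAlg f W ϖ * t = 0) : t = 0 := by
  let κ := {V : X.affineOpens // V.1 ≤ W}
  have hcov : W ≤ iSup (fun k : κ => k.1.1) := by
    intro x hx
    obtain ⟨_, ⟨V, hV, rfl⟩, hxV, hVW⟩ :=
      X.isBasis_affineOpens.exists_subset_of_mem_open hx W.isOpen
    exact TopologicalSpace.Opens.mem_iSup.mpr ⟨⟨⟨V, hV⟩, hVW⟩, hxV⟩
  refine X.sheaf.eq_of_locally_eq' (fun k : κ => k.1.1) W (fun k => homOfLE k.2) hcov t 0
    (fun k => ?_)
  rw [map_zero]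
  apply torsionFree_affine f ϖ hϖ hϖ0 hopen hred k.1.2 _ 1
  rw [pow_one]
  have h1 := congrArg (X.presheaf.map (homOfLE k.2).op).hom h
  rw [map_mul, map_zero, secAlg_res f k.2] at h1
  exact h1

theorem exists_eq_mul_of_fst_appTop (b : Γ(X, ⊤))
    (hb : (pullback.fst f (clPt A)).appTop.hom b = 0) :
    ∃ c : Γ(X, ⊤), b = secAlg f ⊤ ϖ * c := by
  -- local divisibility
  have hloc : ∀ U : X.affineOpens, ∃ c : Γ(X, U.1),
      (X.presheaf.map (homOfLE (le_top : U.1 ≤ ⊤)).op).hom b = secAlg f U.1 ϖ * c := by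
    intro U
    letI := (secAlg f U.1).toAlgebra
    have h0 := tmul_eq_zero_of_fst_appTop f U.2 b hb
    let e := Algebra.TensorProduct.quotIdealMapEquivTensorQuot Γ(X, U.1) (maximalIdeal A)
    have hmap : (maximalIdeal A).map (algebraMap A Γ(X, U.1)) =
        Ideal.span {secAlg f U.1 ϖ} := by
      rw [hϖ, Ideal.map_span, Set.image_singleton]
      rfl
    have h3 : Ideal.Quotient.mk ((maximalIdeal A).map (algebraMap A Γ(X, U.1)))
        ((X.presheaf.map (homOfLE (le_top : U.1 ≤ ⊤)).op).hom b) = 0 := by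
      apply e.injective
      rw [map_zero]
      exact h0
    rw [Ideal.Quotient.eq_zero_iff_mem, hmap, Ideal.mem_span_singleton] at h3
    obtain ⟨c, hc⟩ := h3
    exact ⟨c, hc⟩
  choose sf hsf using hloc
  have hcov : (⊤ : X.Opens) ≤ iSup (fun U : X.affineOpens => U.1) := by
    rw [iSup_affineOpens_eq_top]
  have hcompat : TopCat.Presheaf.IsCompatible X.sheaf.1 (fun U : X.affineOpens => U.1) sf := by
    intro U U'
    have hsub : X.presheaf.map (homOfLE (inf_le_left : U.1 ⊓ U'.1 ≤ U.1)).op (sf U) -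
        X.presheaf.map (homOfLE (inf_le_right : U.1 ⊓ U'.1 ≤ U'.1)).op (sf U') = 0 := by
      apply torsionFree_open f ϖ hϖ hϖ0 hopen hred (U.1 ⊓ U'.1)
      rw [mul_sub, sub_eq_zero]
      have e1 : secAlg f (U.1 ⊓ U'.1) ϖ *
          (X.presheaf.map (homOfLE (inf_le_left : U.1 ⊓ U'.1 ≤ U.1)).op).hom (sf U) =
          (X.presheaf.map (homOfLE (le_top : U.1 ⊓ U'.1 ≤ ⊤)).op).hom b := by
        rw [← secAlg_res f (inf_le_left : U.1 ⊓ U'.1 ≤ U.1), ← map_mul, ← hsf U]
        simp only [← CommRingCat.comp_apply, ← Functor.map_comp, ← op_comp]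
        rfl
      have e2 : secAlg f (U.1 ⊓ U'.1) ϖ *
          (X.presheaf.map (homOfLE (inf_le_right : U.1 ⊓ U'.1 ≤ U'.1)).op).hom (sf U') =
          (X.presheaf.map (homOfLE (le_top : U.1 ⊓ U'.1 ≤ ⊤)).op).hom b := by
        rw [← secAlg_res f (inf_le_right : U.1 ⊓ U'.1 ≤ U'.1), ← map_mul, ← hsf U']
        simp only [← CommRingCat.comp_apply, ← Functor.map_comp, ← op_comp]
        rfl
      exact e1.trans e2.symm
    exact sub_eq_zero.mp hsub
  obtain ⟨c', hc', -⟩ := X.sheaf.existsUnique_gluing' (fun U : X.affineOpens => U.1) ⊤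
    (fun U => homOfLE le_top) hcov sf hcompat
  obtain ⟨c, hc⟩ : ∃ c : Γ(X, ⊤), ∀ U : X.affineOpens,
      (X.presheaf.map (homOfLE (le_top : U.1 ≤ ⊤)).op).hom c = sf U := ⟨c', hc'⟩
  refine ⟨c, ?_⟩
  refine X.sheaf.eq_of_locally_eq' (fun U : X.affineOpens => U.1) ⊤
    (fun U => homOfLE le_top) hcov _ _ (fun U => ?_)
  have h1 : (X.presheaf.map (homOfLE (le_top : U.1 ≤ ⊤)).op).hom (secAlg f ⊤ ϖ * c) =
      secAlg f U.1 ϖ * sf U := by
    rw [map_mul, secAlg_res f (le_top : U.1 ≤ ⊤)]
    congr 1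
    exact hc U
  exact (hsf U).trans h1.symm

end DVR

end Groth.Agent.Helper3.Lsc
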