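import Mathlib
import Groth.Prelude

set_option autoImplicit false
set_option linter.style.haveILetI false
set_option linter.unusedSectionVars false
set_option linter.unusedVariables false
set_option linter.deprecated false
set_option linter.style.haveILetI false
set_option linter.unusedSectionVars false
set_option linter.unusedVariables false

open TensorProduct IsLocalRing

universe u

namespace Groth.Agent.Helper3.Lsc

/-- distinct algebra homomorphisms from a finite free algebra to a domain are bounded by the rank -/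
theorem le_finrank_of_injective {A B L : Type*} [CommRing A] [CommRing B] [Algebra A B]
    [Module.Free A B] [Module.Finite A B] [CommRing L] [IsDomain L] [Algebra A L] (m : ℕ)
    (ψ : Fin m → (B →+* L)) (hψ : Function.Injective ψ)
    (hc : ∀ i, (ψ i).comp (algebraMap A B) = algebraMap A L) : m ≤ Module.finrank A B := by
  let Ψ : Fin m → (B →ₐ[A] L) := fun i =>
    { toRingHom := ψ i
      commutes' := fun a => congrArg (fun χ : A →+* L => χ a) (hc i) }
  have hΨ : Function.Injective Ψ := by
    intro i j hij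
    apply hψ
    have := congrArg (fun χ : B →ₐ[A] L => χ.toRingHom) hij
    exact this
  have h1 : Nat.card (Fin m) ≤ Nat.card (B →ₐ[A] L) := Nat.card_le_card_of_injective Ψ hΨ
  rw [Nat.card_fin] at h1
  exact h1.trans (card_algHom_le_finrank A B L)

/-- a finite reduced algebra over an algebraically closed field has as many points as its
dimension -/
theorem finrank_le_card_algHom (Ω R : Type*) [Field Ω] [IsAlgClosed Ω] [CommRing R] [Algebra Ω R]
    [Module.Finite Ω R] [IsReduced R] : Module.finrank Ω R ≤ Nat.card (R →ₐ[Ω] Ω) := by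
  haveI : Finite (R →ₐ[Ω] Ω) := Finite.algHom Ω R Ω
  haveI : Fintype (R →ₐ[Ω] Ω) := Fintype.ofFinite _
  let ev : R →ₗ[Ω] ((R →ₐ[Ω] Ω) → Ω) :=
    { toFun := fun x χ => χ x
      map_add' := fun x y => by ext χ; simp
      map_smul' := fun c x => by ext χ; simp }
  have hinj : Function.Injective ev := by
    rw [← LinearMap.ker_eq_bot, eq_bot_iff]
    intro x hx
    have hx' : ∀ χ : R →ₐ[Ω] Ω, χ x = 0 := fun χ => congrFun hx χ
    haveI : IsArtinianRing R := isArtinian_of_tower Ω inferInstance
    have hnil : x ∈ nilradical R := by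
      rw [nilradical_eq_sInf, Ideal.mem_sInf]
      intro q hq
      haveI : q.IsPrime := hq
      haveI : q.IsMaximal := IsArtinianRing.isMaximal_of_isPrime q
      haveI : Algebra.IsIntegral Ω (R ⧸ q) := Algebra.IsIntegral.of_finite Ω (R ⧸ q)
      have hb : Function.Bijective (algebraMap Ω (R ⧸ q)) :=
        IsAlgClosed.algebraMap_bijective_of_isIntegral
      let e : Ω ≃ₐ[Ω] (R ⧸ q) := AlgEquiv.ofBijective (Algebra.ofId Ω (R ⧸ q)) hb
      let χ : R →ₐ[Ω] Ω := e.symm.toAlgHom.comp (Ideal.Quotient.mkₐ Ω q)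
      have h1 : χ x = 0 := hx' χ
      have h2 : e.symm (Ideal.Quotient.mk q x) = 0 := h1
      have h3 : Ideal.Quotient.mk q x = 0 := by
        have := congrArg e h2
        rwa [AlgEquiv.apply_symm_apply, map_zero] at this
      exact Ideal.Quotient.eq_zero_iff_mem.mp h3
    have : x = 0 := IsReduced.eq_zero x (mem_nilradical.mp hnil)
    rw [this]; exact Submodule.zero_mem _
  have h1 := LinearMap.finrank_le_finrank_of_injective hinj
  rw [Module.finrank_fintype_fun_eq_card] at h1
  rw [Nat.card_eq_fintype_card]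
  exact h1

/-- a reduced geometric closed fibre of a finite free algebra has as many geometric points as the
rank -/
theorem exists_injective_of_isReduced {A B Ω : Type u} [CommRing A] [Nontrivial A] [CommRing B]
    [Algebra A B]
    [Module.Free A B] [Module.Finite A B] [Field Ω] [IsAlgClosed Ω] [Algebra A Ω]
    (hred : IsReduced (Ω ⊗[A] B)) :
    ∃ ψ : Fin (Module.finrank A B) → (B →+* Ω), Function.Injective ψ ∧
      ∀ i, (ψ i).comp (algebraMap A B) = algebraMap A Ω := by
  haveI := hred
  have h1 : Module.finrank A B ≤ Nat.card ((Ω ⊗[A] B) →ₐ[Ω] Ω) := by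
    rw [← Module.finrank_baseChange (R := Ω) (S := A) (M' := B)]
    exact finrank_le_card_algHom Ω (Ω ⊗[A] B)
  haveI : Finite ((Ω ⊗[A] B) →ₐ[Ω] Ω) := Finite.algHom Ω _ Ω
  haveI : Fintype ((Ω ⊗[A] B) →ₐ[Ω] Ω) := Fintype.ofFinite _
  rw [Nat.card_eq_fintype_card] at h1
  have h2 : Fintype.card (Fin (Module.finrank A B)) ≤ Fintype.card ((Ω ⊗[A] B) →ₐ[Ω] Ω) := by
    rw [Fintype.card_fin]; exact h1
  obtain ⟨emb⟩ := Function.Embedding.nonempty_of_card_le h2
  let incl : B →ₐ[A] Ω ⊗[A] B := Algebra.TensorProduct.includeRight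
  refine ⟨fun i => ((emb i).toRingHom).comp incl.toRingHom, ?_, ?_⟩
  · intro i j hij
    apply emb.injective
    apply Algebra.TensorProduct.ext'
    intro c b
    have hb : emb i ((1 : Ω) ⊗ₜ[A] b) = emb j ((1 : Ω) ⊗ₜ[A] b) :=
      congrArg (fun χ : B →+* Ω => χ b) hij
    have hcb : c ⊗ₜ[A] b = c • ((1 : Ω) ⊗ₜ[A] b) := by
      rw [TensorProduct.smul_tmul', smul_eq_mul, mul_one]
    rw [hcb, map_smul, map_smul, hb]
  · intro i
    ext a
    show emb i ((1 : Ω) ⊗ₜ[A] (algebraMap A B a)) = algebraMap A Ω a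
    have : (1 : Ω) ⊗ₜ[A] (algebraMap A B a) = algebraMap Ω (Ω ⊗[A] B) (algebraMap A Ω a) := by
      rw [Algebra.TensorProduct.algebraMap_apply]
      simp only [Algebra.algebraMap_self, RingHom.id_apply]
      rw [Algebra.algebraMap_eq_smul_one a, Algebra.algebraMap_eq_smul_one a,
        TensorProduct.smul_tmul]
    rw [this, AlgHom.commutes]
    simp

/-- reducedness of the geometric closed fibre from an embedding of the closed fibre -/
theorem isReduced_tensor_of_ker_le {A B G Ω : Type u} [CommRing A] [IsLocalRing A]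
    [CommRing B] [Algebra A B] [CommRing G] [Algebra A G] [Algebra (ResidueField A) G]
    [IsScalarTower A (ResidueField A) G]
    [Field Ω] [Algebra (ResidueField A) Ω] [Algebra A Ω] [IsScalarTower A (ResidueField A) Ω]
    (ϖ : A) (hϖ : ϖ ∈ maximalIdeal A)
    (β : B →ₐ[A] G) (hβ : ∀ b, β b = 0 → ∃ b', b = ϖ • b')
    (hred : IsReduced (Ω ⊗[ResidueField A] G)) : IsReduced (Ω ⊗[A] B) := by
  let k := ResidueField A
  -- the map on the closed fibre
  let β' : k ⊗[A] B →ₐ[k] G := Algebra.TensorProduct.lift (Algebra.ofId k G) β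
    (fun _ _ => Commute.all _ _)
  have hsurj : ∀ z : k ⊗[A] B, ∃ b : B, z = (1 : k) ⊗ₜ[A] b := by
    intro z
    induction z using TensorProduct.induction_on with
    | zero => exact ⟨0, by simp⟩
    | tmul c b =>
      obtain ⟨a, rfl⟩ := Ideal.Quotient.mk_surjective c
      refine ⟨a • b, ?_⟩
      rw [TensorProduct.tmul_smul, TensorProduct.smul_tmul', Algebra.smul_def, mul_one]
      rfl
    | add x y hx hy =>
      obtain ⟨b, rfl⟩ := hx
      obtain ⟨b', rfl⟩ := hy
      exact ⟨b + b', by rw [TensorProduct.tmul_add]⟩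
  have hβ'inj : Function.Injective β' := by
    rw [injective_iff_map_eq_zero]
    intro z hz
    obtain ⟨b, rfl⟩ := hsurj z
    have h1 : β' ((1 : k) ⊗ₜ[A] b) = β b := by
      simp [β']
    rw [h1] at hz
    obtain ⟨b', rfl⟩ := hβ b hz
    rw [TensorProduct.tmul_smul, TensorProduct.smul_tmul']
    have : ϖ • (1 : k) = 0 := by
      rw [Algebra.smul_def, mul_one]
      exact (Ideal.Quotient.eq_zero_iff_mem).mpr hϖ
    rw [this, TensorProduct.zero_tmul]
  -- tensor up
  let e : Ω ⊗[k] (k ⊗[A] B) ≃ₐ[k] Ω ⊗[A] B := Algebra.TensorProduct.cancelBaseChange A k k Ω B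
  let γ : Ω ⊗[k] (k ⊗[A] B) →ₐ[k] Ω ⊗[k] G := Algebra.TensorProduct.map (AlgHom.id k Ω) β'
  have hγ : Function.Injective γ := by
    have := Module.Flat.lTensor_preserves_injective_linearMap (M := Ω) β'.toLinearMap hβ'inj
    exact this
  haveI := hred
  have hinj : Function.Injective (γ.toRingHom.comp e.symm.toRingEquiv.toRingHom) :=
    hγ.comp e.symm.injective
  exact isReduced_of_injective _ hinj

end Groth.Agent.Helper3.Lsc
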