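import Mathlib
import Groth.Prelude
import Groth.Agent.Helper3.LscG
import Groth.Agent.Helper3.LscH
import Groth.Agent.Helper3.LscC
import Groth.Agent.Helper3.SteinGeom
import Groth.Agent.Lead.ProperFinB
import Groth.Agent.S1340

set_option autoImplicit false
set_option linter.style.haveILetI false
set_option linter.unusedSectionVars false
set_option linter.unusedVariables false
set_option linter.deprecated false
set_option linter.style.haveILetI false
set_option linter.unusedSectionVars false
set_option linter.unusedVariables false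

open CategoryTheory CategoryTheory.Limits AlgebraicGeometry Opposite EGA43 TensorProduct IsLocalRing

universe u

namespace Groth.Agent.Helper3.Lsc

section Top

variable {A : Type u} [CommRing A] {X : Scheme.{u}} (f : X ⟶ Spec (CommRingCat.of A))

theorem secAlg_top : secAlg f ⊤ =
    f.appTop.hom.comp (Scheme.ΓSpecIso (CommRingCat.of A)).inv.hom := by
  have h1 : X.presheaf.map (homOfLE (le_top : (⊤ : X.Opens) ≤ ⊤)).op = 𝟙 _ :=
    X.presheaf.map_id _
  simp only [secAlg, h1, Category.comp_id, CommRingCat.hom_comp]

end Top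

section Norm

variable {A : Type u} [CommRing A] {X : Scheme.{u}} (f : X ⟶ Spec (CommRingCat.of A))
  [IsProper f]

instance : IsAffine f.normalization := isAffine_of_isAffineHom f.fromNormalization

theorem isIso_toNormalization_appTop : IsIso f.toNormalization.appTop :=
  Groth.Agent.S1340.result f ⊤

theorem appTop_fac : f.fromNormalization.appTop ≫ f.toNormalization.appTop = f.appTop := by
  rw [← Scheme.Hom.comp_appTop, f.toNormalization_fromNormalization]

/-- distinct geometric points of the normalization are bounded by the rank of the global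
functions -/
theorem le_finrank_of_hasDistinctLifts
    (hfree : letI := (secAlg f ⊤).toAlgebra; Module.Finite A Γ(X, ⊤) ∧ Module.Free A Γ(X, ⊤))
    (z : Spec (CommRingCat.of A)) (m : ℕ) (h : HasDistinctLifts f.fromNormalization m z) :
    letI := (secAlg f ⊤).toAlgebra
    m ≤ Module.finrank A Γ(X, ⊤) := by
  letI := (secAlg f ⊤).toAlgebra
  obtain ⟨hfin, hfr⟩ := hfree
  obtain ⟨K, _, ζ, w, hw, hinj, -⟩ := h
  let φ' : CommRingCat.of A ⟶ CommRingCat.of K := Spec.preimage ζ
  have hφ' : Spec.map φ' = ζ := Spec.map_preimage ζ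
  letI : Algebra A K := φ'.hom.toAlgebra
  haveI := isIso_toNormalization_appTop f
  let ψ : Fin m → (Γ(X, ⊤) →+* K) := fun i =>
    (inv f.toNormalization.appTop ≫ (w i).appTop ≫ (Scheme.ΓSpecIso (CommRingCat.of K)).hom).hom
  refine le_finrank_of_injective m ψ ?_ ?_
  · intro i j hij
    apply hinj
    have h1 : inv f.toNormalization.appTop ≫ (w i).appTop ≫
        (Scheme.ΓSpecIso (CommRingCat.of K)).hom =
        inv f.toNormalization.appTop ≫ (w j).appTop ≫
          (Scheme.ΓSpecIso (CommRingCat.of K)).hom := CommRingCat.hom_ext hij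
    have h2 := (cancel_epi (inv f.toNormalization.appTop)).mp h1
    have h3 := (cancel_mono (Scheme.ΓSpecIso (CommRingCat.of K)).hom).mp h2
    exact ext_of_isAffine h3
  · intro i
    have h1 : (Scheme.ΓSpecIso (CommRingCat.of A)).inv ≫ f.appTop ≫
        inv f.toNormalization.appTop ≫ (w i).appTop ≫
          (Scheme.ΓSpecIso (CommRingCat.of K)).hom = φ' := by
      rw [← appTop_fac f, Category.assoc, IsIso.hom_inv_id_assoc, ← Category.assoc _ (w i).appTop,
        ← Scheme.Hom.comp_appTop, hw i, ← hφ', Scheme.ΓSpecIso_naturality, Iso.inv_hom_id_assoc]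
    have h2 := congrArg CommRingCat.Hom.hom h1
    show (ψ i).comp (secAlg f ⊤) = φ'.hom
    rw [secAlg_top, ← h2]
    rfl

/-- geometric points of the ring of global functions give geometric points of the
normalization -/
theorem hasDistinctLifts_of_ringHoms {Ω : Type u} [Field Ω] [Algebra A Ω] (r : ℕ)
    (ψ : Fin r → (Γ(X, ⊤) →+* Ω)) (hψ : Function.Injective ψ)
    (hc : ∀ i, (ψ i).comp (secAlg f ⊤) = algebraMap A Ω)
    (z : Spec (CommRingCat.of A)) (hz : RingHom.ker (algebraMap A Ω) = z.asIdeal) :
    HasDistinctLifts f.fromNormalization r z := by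
  haveI := isIso_toNormalization_appTop f
  refine ⟨Ω, inferInstance, Spec.map (CommRingCat.ofHom (algebraMap A Ω)),
    fun i => Spec.map (f.toNormalization.appTop ≫ CommRingCat.ofHom (ψ i)) ≫
      f.normalization.isoSpec.inv, ?_, ?_, ?_⟩
  · intro i
    rw [Category.assoc, ← Scheme.isoSpec_inv_naturality, Scheme.isoSpec_Spec_inv,
      ← Spec.map_comp, ← Spec.map_comp]
    congr 1
    simp only [Category.assoc]
    rw [reassoc_of% (appTop_fac f)]
    apply CommRingCat.hom_ext
    rw [← hc i, secAlg_top]
    rfl
  · intro i j hij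
    apply hψ
    have h1 : Spec.map (f.toNormalization.appTop ≫ CommRingCat.ofHom (ψ i)) =
        Spec.map (f.toNormalization.appTop ≫ CommRingCat.ofHom (ψ j)) := by
      have := congrArg (· ≫ f.normalization.isoSpec.hom) hij
      simpa only [Category.assoc, Iso.inv_hom_id, Category.comp_id] using this
    have h2 := Spec.map_injective h1
    have h3 := (cancel_epi f.toNormalization.appTop).mp h2
    exact congrArg CommRingCat.Hom.hom h3
  · apply PrimeSpectrum.ext
    rw [← hz]
    ext a
    show algebraMap A Ω a ∈ (closedPoint Ω).asIdeal ↔ a ∈ RingHom.ker (algebraMap A Ω)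
    rw [RingHom.mem_ker]
    show algebraMap A Ω a ∈ maximalIdeal Ω ↔ _
    rw [IsLocalRing.maximalIdeal_eq_bot, Ideal.mem_bot]

end Norm

section DVR

variable {A : Type u} [CommRing A] [IsDomain A] [IsDiscreteValuationRing A] {X : Scheme.{u}}
  (f : X ⟶ Spec (CommRingCat.of A)) [IsProper f]
  (hopen : ∀ x : X, f x = closedPoint A → IsOpenAt f.base x)
  (hred : IsReduced (pullback f (clPt A)))

include hopen hred

theorem finite_free_top :
    letI := (secAlg f ⊤).toAlgebra
    Module.Finite A Γ(X, ⊤) ∧ Module.Free A Γ(X, ⊤) := by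
  letI := (secAlg f ⊤).toAlgebra
  haveI : IsLocallyNoetherian X := LocallyOfFiniteType.isLocallyNoetherian f
  obtain ⟨ϖ, hirr⟩ := IsDiscreteValuationRing.exists_irreducible A
  have hϖ : maximalIdeal A = Ideal.span {ϖ} := hirr.maximalIdeal_eq
  have hϖ0 : ϖ ≠ 0 := hirr.ne_zero
  -- finiteness
  have hfin : Module.Finite A Γ(X, ⊤) := by
    have h1 : (f.app ⊤).hom.Finite :=
      Groth.Agent.Lead.ProperFinB.finite_app f ⟨⊤, isAffineOpen_top _⟩
    have h2 : ((Scheme.ΓSpecIso (CommRingCat.of A)).inv).hom.Finite :=
      RingHom.Finite.of_surjective _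
        ((ConcreteCategory.isIso_iff_bijective _).mp inferInstance).2
    have h3 : (algebraMap A Γ(X, ⊤)).Finite := by
      show (secAlg f ⊤).Finite
      rw [secAlg_top]
      exact RingHom.Finite.comp h1 h2
    exact h3
  -- torsion freeness
  have htf : ∀ (n : ℕ) (b : Γ(X, ⊤)), secAlg f ⊤ ϖ ^ n * b = 0 → b = 0 := by
    intro n
    induction n with
    | zero => intro b hb; simpa using hb
    | succ n ih =>
      intro b hb
      apply ih
      apply torsionFree_open f ϖ hϖ hϖ0 hopen hred ⊤
      rw [← mul_assoc, ← pow_succ']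
      exact hb
  haveI : Module.IsTorsionFree A Γ(X, ⊤) := by
    apply Module.IsTorsionFree.of_smul_eq_zero
    intro a b hab
    by_cases ha : a = 0
    · exact Or.inl ha
    · right
      obtain ⟨n, v, hv⟩ := IsDiscreteValuationRing.eq_unit_mul_pow_irreducible ha hirr
      rw [hv, Algebra.smul_def, map_mul, map_pow, mul_assoc] at hab
      have hu : IsUnit (algebraMap A Γ(X, ⊤) (v : A)) := v.isUnit.map _
      have := hu.mul_left_cancel (hab.trans (mul_zero _).symm)
      exact htf n b this
  haveI := hfin
  exact ⟨hfin, inferInstance⟩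

omit hred in
/-- over a discrete valuation ring: openness along the closed fibre and geometric reducedness of
the closed fibre bound the geometric number of connected components of every fibre by that of the
closed fibre -/
theorem dvr_nGeomConnComp_le (hgred : GeometricallyReduced (pullback.snd f (clPt A)))
    (z : Spec (CommRingCat.of A)) :
    MoreMor.nGeomConnComp f z ≤ MoreMor.nGeomConnComp f (closedPoint A) := by
  have hredZ : IsReduced (pullback f (clPt A)) :=
    hgred.geometrically_isReduced (𝟙 _) (𝟙 _) (pullback.snd f (clPt A)) IsPullback.of_id_fst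
  letI := (secAlg f ⊤).toAlgebra
  obtain ⟨hfin, hfr⟩ := finite_free_top f hopen hredZ
  -- upper bound
  have hub : MoreMor.nGeomConnComp f z ≤ (Module.finrank A Γ(X, ⊤) : ℕ∞) := by
    obtain ⟨hlt, heq⟩ := SteinK.main f z
    obtain ⟨m, hm⟩ := ENat.ne_top_iff_exists.mp hlt.ne
    have hdl : HasDistinctLifts f.fromNormalization m z :=
      hasDistinctLifts_of_le _ z m (by rw [hm, ← heq])
    have := le_finrank_of_hasDistinctLifts f ⟨hfin, hfr⟩ z m hdl
    rw [← hm]
    exact_mod_cast this
  -- lower bound
  have hlb : (Module.finrank A Γ(X, ⊤) : ℕ∞) ≤ MoreMor.nGeomConnComp f (closedPoint A) := by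
    rw [(SteinK.main f _).2]
    apply le_nGeomConnComp_of_hasDistinctLifts
    obtain ⟨ϖ, hirr⟩ := IsDiscreteValuationRing.exists_irreducible A
    have hϖ : maximalIdeal A = Ideal.span {ϖ} := hirr.maximalIdeal_eq
    have hϖ0 : ϖ ≠ 0 := hirr.ne_zero
    have hϖmem : ϖ ∈ maximalIdeal A := by
      rw [hϖ]; exact Ideal.subset_span (Set.mem_singleton ϖ)
    haveI : IsLocallyNoetherian X := LocallyOfFiniteType.isLocallyNoetherian f
    let k := ResidueField A
    let Ω := AlgebraicClosure k
    haveI : IsScalarTower A k Ω := inferInstance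
    let g := pullback.snd f (clPt A)
    haveI : IsProper g := MorphismProperty.pullback_snd (P := @IsProper) _ _ inferInstance
    letI algkG : Algebra k Γ(pullback f (clPt A), ⊤) :=
      (g.appTop.hom.comp (Scheme.ΓSpecIso (CommRingCat.of k)).inv.hom).toAlgebra
    letI : Algebra A Γ(pullback f (clPt A), ⊤) :=
      ((algebraMap k Γ(pullback f (clPt A), ⊤)).comp (algebraMap A k)).toAlgebra
    haveI : IsScalarTower A k Γ(pullback f (clPt A), ⊤) :=
      IsScalarTower.of_algebraMap_eq (fun _ => rfl)
    -- the restriction to the closed fibre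
    have hcomm : (Scheme.ΓSpecIso (CommRingCat.of A)).inv ≫ f.appTop ≫
        (pullback.fst f (clPt A)).appTop =
        CommRingCat.ofHom (algebraMap A k) ≫ (Scheme.ΓSpecIso (CommRingCat.of k)).inv ≫
          g.appTop := by
      rw [← Scheme.Hom.comp_appTop, pullback.condition, Scheme.Hom.comp_appTop,
        ← Category.assoc, ← Category.assoc]
      congr 1
      exact (Scheme.ΓSpecIso_inv_naturality (CommRingCat.ofHom (algebraMap A k))).symm
    let β : Γ(X, ⊤) →ₐ[A] Γ(pullback f (clPt A), ⊤) :=
      { toRingHom := (pullback.fst f (clPt A)).appTop.hom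
        commutes' := by
          intro a
          have h1 := congrArg (fun χ => χ.hom a) hcomm
          show (pullback.fst f (clPt A)).appTop.hom (secAlg f ⊤ a) = _
          rw [secAlg_top]
          exact h1 }
    have hβ : ∀ b, β b = 0 → ∃ b', b = ϖ • b' := by
      intro b hb
      obtain ⟨c, hc⟩ := exists_eq_mul_of_fst_appTop f ϖ hϖ hϖ0 hopen hredZ b hb
      exact ⟨c, by rw [Algebra.smul_def]; exact hc⟩
    -- reducedness of the geometric closed fibre
    have hredΩ : _root_.IsReduced (Ω ⊗[k] Γ(pullback f (clPt A), ⊤)) := by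
      let y : Spec (CommRingCat.of Ω) ⟶ Spec (CommRingCat.of k) :=
        Spec.map (CommRingCat.ofHom (algebraMap k Ω))
      haveI : IsReduced (pullback g y) :=
        hgred.geometrically_isReduced y (pullback.fst g y) (pullback.snd g y)
          (IsPullback.of_hasPullback g y)
      obtain ⟨e⟩ := SteinGeom.gamma_tensor_equiv k Ω g (pullback.fst g y) (pullback.snd g y)
        (IsPullback.of_hasPullback g y) rfl
      exact isReduced_of_injective e.toRingHom e.injective
    have hredA : _root_.IsReduced (Ω ⊗[A] Γ(X, ⊤)) :=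
      isReduced_tensor_of_ker_le ϖ hϖmem β hβ hredΩ
    obtain ⟨ψ, hψ, hc⟩ := exists_injective_of_isReduced (A := A) (B := Γ(X, ⊤)) (Ω := Ω) hredA
    refine hasDistinctLifts_of_ringHoms f _ ψ hψ hc (closedPoint A) ?_
    ext a
    rw [RingHom.mem_ker]
    rw [IsScalarTower.algebraMap_apply A k Ω, map_eq_zero_iff _ (algebraMap k Ω).injective]
    exact Ideal.Quotient.eq_zero_iff_mem
  exact hub.trans hlb

end DVR

end Groth.Agent.Helper3.Lsc
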