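import Mathlib
import Groth.Prelude
import Groth.Agent.Helper3.LscI
import Groth.Agent.Helper4.GeomFibBC
import Groth.Agent.Helper5.GCntJ
import Groth.Agent.Helper5.KLem6
import Groth.Agent.Helper5.GenLift3

set_option autoImplicit false
set_option linter.style.haveILetI false
set_option linter.unusedSectionVars false
set_option linter.unusedVariables false
set_option linter.deprecated false
set_option linter.style.haveILetI false
set_option linter.unusedSectionVars false
set_option linter.unusedVariables false

open CategoryTheory CategoryTheory.Limits AlgebraicGeometry Opposite EGA43 TensorProduct IsLocalRing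

universe u

namespace Groth.Agent.Helper3.Lsc

/-- geometric reducedness of the fibre at the image point passes to base changes along
field-valued points -/
theorem geometricallyReduced_of_isPullback_field {X Y P : Scheme.{u}} (f : X ⟶ Y) {K : Type u}
    [Field K] (c : Spec (CommRingCat.of K) ⟶ Y) (p1 : P ⟶ X) (p2 : P ⟶ Spec (CommRingCat.of K))
    (sq : IsPullback p1 p2 f c)
    (hred : GeometricallyReduced (f.fiberToSpecResidueField (c (closedPoint K)))) :
    GeometricallyReduced p2 := by
  let y := c (closedPoint K)
  let φc : Y.residueField y ⟶ CommRingCat.of K :=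
    Scheme.descResidueField (Scheme.stalkClosedPointTo c)
  have hφc : Spec.map φc ≫ Y.fromSpecResidueField y = c :=
    Scheme.descResidueField_stalkClosedPointTo_fromSpecResidueField K Y c
  have hcond : p1 ≫ f = (p2 ≫ Spec.map φc) ≫ Y.fromSpecResidueField y := by
    rw [Category.assoc, hφc, sq.w]
  let l : P ⟶ f.fiber y := pullback.lift p1 (p2 ≫ Spec.map φc) hcond
  have hl1 : l ≫ f.fiberι y = p1 := pullback.lift_fst _ _ _
  have hl2 : l ≫ f.fiberToSpecResidueField y = p2 ≫ Spec.map φc := pullback.lift_snd _ _ _
  have outer : IsPullback (l ≫ f.fiberι y) p2 f (Spec.map φc ≫ Y.fromSpecResidueField y) := by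
    rw [hl1, hφc]; exact sq
  have right : IsPullback (f.fiberι y) (f.fiberToSpecResidueField y) f
      (Y.fromSpecResidueField y) := IsPullback.of_hasPullback _ _
  have left : IsPullback l p2 (f.fiberToSpecResidueField y) (Spec.map φc) :=
    IsPullback.of_right outer hl2 right
  exact MorphismProperty.of_isPullback (P := @GeometricallyReduced) left hred

/-- Constancy near `y` of the geometric number of connected components for a proper morphism
universally open along the fibre over `y` with geometrically reduced fibre over `y`. -/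
theorem exists_nhds_eq {X Y : Scheme.{u}} [IsLocallyNoetherian Y] (f : X ⟶ Y) [IsProper f]
    (y : Y) (h : ∀ x : X, f x = y → IsUnivOpenAt f x)
    (hred : GeometricallyReduced (f.fiberToSpecResidueField y)) :
    ∃ V ∈ nhds y, ∀ z ∈ V, MoreMor.nGeomConnComp f z = MoreMor.nGeomConnComp f y := by
  obtain ⟨V₁, hV₁, hle⟩ := exists_nhds_le f y h
  haveI : LocallyOfFinitePresentation f := inferInstance
  have hE : Topology.IsLocallyConstructible
      {z : Y | MoreMor.nGeomConnComp f z = MoreMor.nGeomConnComp f y} :=
    Groth.Agent.Helper5.GCnt.isLocallyConstructible_cnt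
      {p : ℕ∞ × ℕ∞ | p.2 = MoreMor.nGeomConnComp f y} f
  refine ⟨_, Groth.Agent.Helper5.KLem.mem_nhds_of_isLocallyConstructible _ hE y ?_,
    fun z hz => hz⟩
  intro y' hy'
  show MoreMor.nGeomConnComp f y' = MoreMor.nGeomConnComp f y
  by_cases hne : y' = y
  · rw [hne]
  -- lower bound
  have hlow : MoreMor.nGeomConnComp f y ≤ MoreMor.nGeomConnComp f y' := by
    apply hle
    obtain ⟨U, hUV, hUo, hyU⟩ := mem_nhds_iff.mp hV₁
    exact hUV (hy'.mem_open hUo hyU)
  refine le_antisymm ?_ hlow
  -- a discrete valuation ring through the specialization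
  obtain ⟨A, _, _, _, φ, hφ0, hφ1⟩ := Groth.Agent.Helper5.GenLift.exists_dvr_spec Y y' y hy' hne
  subst hφ0
  let fA : pullback f φ ⟶ Spec (CommRingCat.of A) := pullback.snd f φ
  have sq : IsPullback (pullback.fst f φ) fA f φ := IsPullback.of_hasPullback f φ
  haveI : IsProper fA := MorphismProperty.pullback_snd (P := @IsProper) _ _ inferInstance
  have hcard : ∀ z, MoreMor.nGeomConnComp fA z = MoreMor.nGeomConnComp f (φ z) := fun z =>
    (Groth.Agent.Helper4.GeomFibBC.geomFiber_card_eq f fA (pullback.fst f φ) φ sq z).2
  have hopenA : ∀ x : ↥(pullback f φ), fA x = closedPoint A → IsOpenAt fA.base x := by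
    intro x hx
    have h1 : f ((pullback.fst f φ) x) = φ (closedPoint A) := by
      rw [← Scheme.Hom.comp_apply, pullback.condition, Scheme.Hom.comp_apply]
      exact congrArg _ hx
    have h2 : IsUnivOpenAt fA x := isUnivOpenAt_of_isPullback f (h _ h1) sq x rfl
    exact isOpenAt_of_isUnivOpenAt fA h2
  have hgredA : GeometricallyReduced (pullback.snd fA (clPt A)) := by
    have sq' : IsPullback (pullback.fst fA (clPt A) ≫ pullback.fst f φ)
        (pullback.snd fA (clPt A)) f (clPt A ≫ φ) :=
      (IsPullback.of_hasPullback fA (clPt A)).paste_horiz sq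
    apply geometricallyReduced_of_isPullback_field f (clPt A ≫ φ) _ _ sq'
    have hpt : (clPt A ≫ φ) (closedPoint (ResidueField A)) = φ (closedPoint A) := by
      rw [Scheme.Hom.comp_apply]
      congr 1
      apply PrimeSpectrum.ext
      ext a
      show algebraMap A (ResidueField A) a ∈ maximalIdeal (ResidueField A) ↔ a ∈ maximalIdeal A
      rw [IsLocalRing.maximalIdeal_eq_bot, Ideal.mem_bot]
      exact Ideal.Quotient.eq_zero_iff_mem
    rw [hpt]
    exact hred
  have hmain := dvr_nGeomConnComp_le fA hopenA hgredA
    (⟨⊥, Ideal.isPrime_bot⟩ : PrimeSpectrum A)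
  rw [hcard, hcard, hφ1] at hmain
  exact hmain

end Groth.Agent.Helper3.Lsc
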