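import Mathlib
import Groth.Prelude
import Groth.Agent.Helper5.DvrSpec

set_option autoImplicit false
set_option linter.style.haveILetI false
set_option linter.unusedSectionVars false
set_option linter.unusedVariables false
set_option linter.deprecated false
set_option linter.style.haveILetI false
set_option linter.unusedSectionVars false
set_option linter.unusedVariables false

open CategoryTheory CategoryTheory.Limits AlgebraicGeometry Opposite

universe u

namespace Groth.Agent.Helper3.LscQ

/-- Given a Noetherian local ring `A`, a finite extension `E` of its residue field and a field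
`E'` essentially of finite type over `A` whose kernel is not the maximal ideal, there is a discrete
valuation ring `O` receiving `A`, whose residue field contains `E` and whose fraction field
contains `E'`, compatibly. -/
theorem exists_dvr_of_fields {A : Type u} [CommRing A] [IsLocalRing A] [IsNoetherianRing A]
    {E E' : Type u} [Field E] [Field E'] (ε : A →+* E) (hε : ε.Finite)
    (hεm : ∀ a ∈ IsLocalRing.maximalIdeal A, ε a = 0)
    (α : A →+* E') (hα : α.EssFiniteType)
    (hne : ∃ a ∈ IsLocalRing.maximalIdeal A, α a ≠ 0) :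
    ∃ (L : Type u) (_ : Field L) (O : ValuationSubring L) (_ : IsDiscreteValuationRing O)
      (θ : A →+* O) (a : E →+* IsLocalRing.ResidueField O) (a' : E' →+* L),
      a.comp ε = (IsLocalRing.residue O).comp θ ∧ a'.comp α = (algebraMap O L).comp θ := by
  classical
  letI : Algebra A E := ε.toAlgebra
  haveI : Module.Finite A E := hε
  haveI : Algebra.FiniteType A E := inferInstance
  obtain ⟨n, f, hf⟩ := Algebra.FiniteType.iff_quotient_mvPolynomial''.mp
    (inferInstance : Algebra.FiniteType A E)
  let B := MvPolynomial (Fin n) A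
  let π : B →+* E := f.toRingHom
  have hπ : Function.Surjective π := hf
  have hπC : ∀ x : A, π (MvPolynomial.C x) = ε x := fun x => f.commutes x
  let P' : Ideal B := RingHom.ker π
  haveI hP'max : P'.IsMaximal := RingHom.ker_isMaximal_of_surjective π hπ
  haveI : P'.IsPrime := hP'max.isPrime
  let R := Localization.AtPrime P'
  let L := FractionRing (MvPolynomial (Fin n) E')
  let ψ₀ : B →+* L := (algebraMap (MvPolynomial (Fin n) E') L).comp (MvPolynomial.map α)
  have hkerα : RingHom.ker α ≤ IsLocalRing.maximalIdeal A :=
    IsLocalRing.le_maximalIdeal (RingHom.ker_ne_top α)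
  have hker : RingHom.ker ψ₀ ≤ P' := by
    intro b hb
    have h1 : MvPolynomial.map α b = 0 := by
      have h2 : algebraMap (MvPolynomial (Fin n) E') L (MvPolynomial.map α b) = 0 := hb
      exact (IsFractionRing.injective (MvPolynomial (Fin n) E') L) (h2.trans (map_zero _).symm)
    have h3 : b ∈ RingHom.ker (MvPolynomial.map (σ := Fin n) α) := h1
    rw [MvPolynomial.ker_map] at h3
    have h4 : Ideal.map (MvPolynomial.C : A →+* B) (RingHom.ker α) ≤ P' := by
      rw [Ideal.map_le_iff_le_comap]
      intro x hx
      show π (MvPolynomial.C x) = 0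
      rw [hπC]
      exact hεm x (hkerα hx)
    exact h4 h3
  have hunits : ∀ s : P'.primeCompl, IsUnit (ψ₀ s) := by
    intro s
    apply IsUnit.mk0
    intro h0
    exact s.2 (hker h0)
  let ψ : R →+* L := IsLocalization.lift (M := P'.primeCompl) hunits
  have hψ : ψ.comp (algebraMap B R) = ψ₀ := IsLocalization.lift_comp hunits
  have hψ₀C : ψ₀.comp (MvPolynomial.C : A →+* B) =
      ((algebraMap (MvPolynomial (Fin n) E') L).comp
        (MvPolynomial.C : E' →+* MvPolynomial (Fin n) E')).comp α := by
    ext x
    show (algebraMap (MvPolynomial (Fin n) E') L) ((MvPolynomial.map α) (MvPolynomial.C x)) =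
      (algebraMap (MvPolynomial (Fin n) E') L) (MvPolynomial.C (α x))
    rw [MvPolynomial.map_C]
  have hfin : ψ.EssFiniteType := by
    apply RingHom.EssFiniteType.of_comp (algebraMap B R)
    rw [hψ]
    apply RingHom.EssFiniteType.of_comp (MvPolynomial.C : A →+* B)
    rw [hψ₀C]
    refine RingHom.EssFiniteType.comp hα (RingHom.EssFiniteType.comp ?_ ?_)
    · apply RingHom.FiniteType.essFiniteType
      exact (RingHom.finiteType_algebraMap (A := E') (B := MvPolynomial (Fin n) E')).mpr
        inferInstance
    · rw [RingHom.essFiniteType_algebraMap]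
      exact Algebra.EssFiniteType.of_isLocalization L
        (nonZeroDivisors (MvPolynomial (Fin n) E'))
  obtain ⟨a₀, ha₀m, ha₀⟩ := hne
  have hnl : ¬ IsLocalHom ψ := by
    intro hloc
    have h1 : IsUnit (ψ (algebraMap B R (MvPolynomial.C a₀))) := by
      have : ψ (algebraMap B R (MvPolynomial.C a₀)) =
          algebraMap (MvPolynomial (Fin n) E') L (MvPolynomial.C (α a₀)) := by
        have := congrArg (fun χ : A →+* L => χ a₀) hψ₀C
        rw [← hψ] at this
        exact this
      rw [this]
      apply IsUnit.mk0
      intro h0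
      have h2 : (MvPolynomial.C (α a₀) : MvPolynomial (Fin n) E') = 0 :=
        (IsFractionRing.injective (MvPolynomial (Fin n) E') L) (h0.trans (map_zero _).symm)
      exact ha₀ (MvPolynomial.C_injective (Fin n) E' (h2.trans MvPolynomial.C_0.symm))
    have h2 : IsUnit (algebraMap B R (MvPolynomial.C a₀)) := hloc.map_nonunit _ h1
    rw [IsLocalization.AtPrime.isUnit_to_map_iff R P'] at h2
    apply h2
    show π (MvPolynomial.C a₀) = 0
    rw [hπC]
    exact hεm a₀ ha₀m
  obtain ⟨O, hO, hdvr, hlocal⟩ := Groth.Agent.Helper5.DvrSpec.exists_factor_dvr ψ hfin hnl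
  let ψ' : R →+* O := ψ.codRestrict O.toSubring hO
  let θ : A →+* O := ψ'.comp ((algebraMap B R).comp (MvPolynomial.C : A →+* B))
  let a' : E' →+* L := (algebraMap (MvPolynomial (Fin n) E') L).comp
    (MvPolynomial.C : E' →+* MvPolynomial (Fin n) E')
  let ρ : B →+* IsLocalRing.ResidueField O :=
    (IsLocalRing.residue O).comp (ψ'.comp (algebraMap B R))
  have hρ : RingHom.ker π ≤ RingHom.ker ρ := by
    intro b hb
    have h1 : algebraMap B R b ∈ IsLocalRing.maximalIdeal R :=
      (IsLocalization.AtPrime.to_map_mem_maximal_iff R P' b).mpr hb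
    have h2 : ψ' (algebraMap B R b) ∈ IsLocalRing.maximalIdeal O := by
      rw [IsLocalRing.mem_maximalIdeal, mem_nonunits_iff] at h1 ⊢
      intro hu
      exact h1 (hlocal.map_nonunit _ hu)
    show (IsLocalRing.residue O) (ψ' (algebraMap B R b)) = 0
    rwa [IsLocalRing.residue_eq_zero_iff]
  let a : E →+* IsLocalRing.ResidueField O := RingHom.liftOfSurjective π hπ ⟨ρ, hρ⟩
  have haπ : ∀ b : B, a (π b) = ρ b := fun b =>
    RingHom.liftOfRightInverse_comp_apply _ _ _ _ b
  refine ⟨L, inferInstance, O, hdvr, θ, a, a', ?_, ?_⟩
  · ext x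
    show a (ε x) = IsLocalRing.residue O (θ x)
    rw [← hπC, haπ]
    rfl
  · ext x
    show a' (α x) = ((θ x : O) : L)
    have := congrArg (fun χ : A →+* L => χ x) hψ₀C
    rw [← hψ] at this
    exact this.symm

end Groth.Agent.Helper3.LscQ
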