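import Mathlib
import Groth.Prelude
import Groth.Agent.Helper3.LscQ3
import Groth.Agent.Helper3.LscQ4
import Groth.Agent.Helper4.GeomFibBC

set_option autoImplicit false
set_option linter.style.haveILetI false
set_option linter.unusedSectionVars false
set_option linter.unusedVariables false
set_option linter.deprecated false
set_option linter.style.haveILetI false
set_option linter.unusedSectionVars false
set_option linter.unusedVariables false

open CategoryTheory CategoryTheory.Limits AlgebraicGeometry Opposite

universe u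

namespace Groth.Agent.Helper3.LscQ

open Groth.Agent.Helper3.Lsc (HasDistinctLifts epi_SpecMap_of_field natCast_le_card_iff)

/-- if the specialization map of stalks kills the maximal ideal modulo the maximal ideal, the
points agree -/
theorem eq_of_stalkSpecializes_local {Y : Scheme.{u}} {y y' : Y} (hgen : y' ⤳ y)
    (h : ∀ a ∈ IsLocalRing.maximalIdeal (Y.presheaf.stalk y),
      (Y.presheaf.stalkSpecializes hgen).hom a ∈ IsLocalRing.maximalIdeal (Y.presheaf.stalk y')) :
    y' = y := by
  haveI : IsLocalHom (Y.presheaf.stalkSpecializes hgen).hom := by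
    constructor
    intro a ha
    by_contra hna
    have h1 := h a ((IsLocalRing.mem_maximalIdeal a).mpr hna)
    exact ((IsLocalRing.mem_maximalIdeal _).mp h1) ha
  have h1 : Spec.map (Y.presheaf.stalkSpecializes hgen)
      (IsLocalRing.closedPoint (Y.presheaf.stalk y')) =
      IsLocalRing.closedPoint (Y.presheaf.stalk y) :=
    IsLocalRing.comap_closedPoint (Y.presheaf.stalkSpecializes hgen).hom
  have h2 := Scheme.SpecMap_stalkSpecializes_fromSpecStalk (X := Y) hgen
  have h3 := congrArg (fun g => g (IsLocalRing.closedPoint (Y.presheaf.stalk y'))) h2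
  simp only [Scheme.Hom.comp_apply] at h3
  rw [h1, Scheme.fromSpecStalk_closedPoint, Scheme.fromSpecStalk_closedPoint] at h3
  exact h3.symm

/-- the key counting statement over a base `S` with a field-valued monomorphism -/
theorem card_fiber_eq {X Y S : Scheme.{u}} (f : X ⟶ Y) [LocallyQuasiFinite f] [QuasiCompact f]
    (g : S ⟶ Y) {K : Type u} [Field K] (j : Spec (CommRingCat.of K) ⟶ S) [Mono j] (s : S)
    (hs : j (IsLocalRing.closedPoint K) = s) {m : ℕ}
    (hm : (m : ℕ∞) = MoreMor.nGeomConnComp f (g s))
    (v : Fin m → (Spec (CommRingCat.of K) ⟶ X)) (hv : ∀ i, v i ≫ f = j ≫ g)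
    (hinj : Function.Injective v) :
    MoreMor.nGeomConnComp f (g s) = ENat.card ↥((pullback.snd f g).fiber s) := by
  haveI : LocallyQuasiFinite (pullback.snd f g) :=
    MorphismProperty.pullback_snd (P := @LocallyQuasiFinite) _ _ inferInstance
  haveI : QuasiCompact (pullback.snd f g) :=
    MorphismProperty.pullback_snd (P := @QuasiCompact) _ _ inferInstance
  apply le_antisymm
  · rw [← hm]
    let w : Fin m → (Spec (CommRingCat.of K) ⟶ pullback f g) := fun i =>
      pullback.lift (v i) j (hv i)
    have hw : ∀ i, w i ≫ pullback.snd f g = j := fun i => pullback.lift_snd _ _ _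
    have hwinj : Function.Injective w := by
      intro i i' hii
      apply hinj
      have h1 : ∀ i, w i ≫ pullback.fst f g = v i := fun i => pullback.lift_fst _ _ _
      rw [← h1 i, ← h1 i', hii]
    exact le_card_fiber_of_lifts (pullback.snd f g) j s hs w hw hwinj
  · have h1 := card_fiber_le (pullback.snd f g) s
    have h2 := (Groth.Agent.Helper4.GeomFibBC.geomFiber_card_eq f (pullback.snd f g)
      (pullback.fst f g) g (IsPullback.of_hasPullback f g) s).2
    exact h1.trans (le_of_eq h2)

/-- EGA IV 15.5.?: a discrete valuation ring realising the geometric numbers of points of the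
fibres of a quasi-finite morphism at a point and a generization. -/
theorem main {X Y : Scheme.{u}} [IsLocallyNoetherian Y] (f : X ⟶ Y)
    [LocallyQuasiFinite f] [QuasiCompact f] (y y' : Y) (hne : y' ≠ y) (hgen : y' ⤳ y) :
    ∃ (A : Type u) (_ : CommRing A) (_ : IsDomain A) (_ : IsDiscreteValuationRing A)
      (g : Spec (CommRingCat.of A) ⟶ Y),
      g.base (IsLocalRing.closedPoint A) = y ∧
      g.base (genericPoint (Spec (CommRingCat.of A))) = y' ∧
      MoreMor.nGeomConnComp f y =
        ENat.card ↥((pullback.snd f g).fiber (IsLocalRing.closedPoint A)) ∧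
      MoreMor.nGeomConnComp f y' =
        ENat.card ↥((pullback.snd f g).fiber (genericPoint (Spec (CommRingCat.of A)))) := by
  obtain ⟨m, hm⟩ := ENat.ne_top_iff_exists.mp (nGeomConnComp_ne_top f y)
  obtain ⟨m', hm'⟩ := ENat.ne_top_iff_exists.mp (nGeomConnComp_ne_top f y')
  obtain ⟨E, _, ε₀, w, hεfin, hw, hwinj⟩ := exists_finite_lifts f y m
    (hasDistinctLifts_of_le f y m (le_of_eq hm))
  obtain ⟨E', _, ε₀', w', hεfin', hw', hwinj'⟩ := exists_finite_lifts f y' m'
    (hasDistinctLifts_of_le f y' m' (le_of_eq hm'))
  -- ring maps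
  let ε : Y.presheaf.stalk y →+* E := ε₀.hom.comp (Y.residue y).hom
  have hεF : ε.Finite :=
    RingHom.Finite.comp hεfin (RingHom.Finite.of_surjective _ (Y.residue_surjective y))
  have hεm : ∀ a ∈ IsLocalRing.maximalIdeal (Y.presheaf.stalk y), ε a = 0 := by
    intro a ha
    show ε₀.hom ((Y.residue y).hom a) = 0
    have : (Y.residue y).hom a = 0 := (IsLocalRing.residue_eq_zero_iff a).mpr ha
    rw [this, map_zero]
  let α : Y.presheaf.stalk y →+* E' :=
    ε₀'.hom.comp ((Y.residue y').hom.comp (Y.presheaf.stalkSpecializes hgen).hom)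
  have hαF : α.EssFiniteType := by
    refine RingHom.EssFiniteType.comp (RingHom.EssFiniteType.comp
      (Groth.Agent.Helper5.DvrSpec.essFiniteType_stalkSpecializes hgen) ?_) ?_
    · apply RingHom.FiniteType.essFiniteType
      exact RingHom.FiniteType.of_surjective _ (Y.residue_surjective y')
    · apply RingHom.FiniteType.essFiniteType
      exact hεfin'.finiteType
  have hαne : ∃ a ∈ IsLocalRing.maximalIdeal (Y.presheaf.stalk y), α a ≠ 0 := by
    by_contra hcon
    push Not at hcon
    apply hne
    apply eq_of_stalkSpecializes_local hgen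
    intro a ha
    have h1 := hcon a ha
    have h2 : (Y.residue y').hom ((Y.presheaf.stalkSpecializes hgen).hom a) = 0 :=
      ε₀'.hom.injective (h1.trans (map_zero _).symm)
    exact (IsLocalRing.residue_eq_zero_iff _).mp h2
  obtain ⟨L, _, O, hdvr, θ, a, a', h1, h2⟩ := exists_dvr_of_fields ε hεF hεm α hαF hαne
  let g : Spec (CommRingCat.of O) ⟶ Y := Spec.map (CommRingCat.ofHom θ) ≫ Y.fromSpecStalk y
  let j₀ : Spec (CommRingCat.of (IsLocalRing.ResidueField O)) ⟶ Spec (CommRingCat.of O) :=
    Spec.map (CommRingCat.ofHom (IsLocalRing.residue O))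
  let j₁ : Spec (CommRingCat.of L) ⟶ Spec (CommRingCat.of O) :=
    Spec.map (CommRingCat.ofHom (algebraMap O L))
  haveI : Mono j₀ := by
    haveI : IsClosedImmersion j₀ :=
      IsClosedImmersion.spec_of_surjective _ Ideal.Quotient.mk_surjective
    infer_instance
  haveI : Mono j₁ := by
    haveI : IsPreimmersion j₁ := IsPreimmersion.of_isLocalization (nonZeroDivisors O)
    infer_instance
  have hj₀g : j₀ ≫ g =
      Spec.map (CommRingCat.ofHom a) ≫ Spec.map ε₀ ≫ Y.fromSpecResidueField y := by
    have e1 : CommRingCat.ofHom θ ≫ CommRingCat.ofHom (IsLocalRing.residue O) =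
        Y.residue y ≫ ε₀ ≫ CommRingCat.ofHom a := by
      ext x
      exact (congrArg (fun χ : Y.presheaf.stalk y →+* IsLocalRing.ResidueField O => χ x) h1).symm
    simp only [j₀, g, Scheme.fromSpecResidueField]
    rw [← Category.assoc, ← Spec.map_comp, e1, Spec.map_comp, Spec.map_comp, Category.assoc,
      Category.assoc]
  have hj₁g : j₁ ≫ g =
      Spec.map (CommRingCat.ofHom a') ≫ Spec.map ε₀' ≫ Y.fromSpecResidueField y' := by
    have e1 : CommRingCat.ofHom θ ≫ CommRingCat.ofHom (algebraMap O L) =
        Y.presheaf.stalkSpecializes hgen ≫ Y.residue y' ≫ ε₀' ≫ CommRingCat.ofHom a' := by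
      ext x
      exact (congrArg (fun χ : Y.presheaf.stalk y →+* L => χ x) h2).symm
    simp only [j₁, g, Scheme.fromSpecResidueField]
    rw [← Category.assoc, ← Spec.map_comp, e1, Spec.map_comp, Spec.map_comp, Spec.map_comp,
      Category.assoc, Category.assoc, Category.assoc,
      Scheme.SpecMap_stalkSpecializes_fromSpecStalk]
  have hs₀ : j₀ (IsLocalRing.closedPoint (IsLocalRing.ResidueField O)) =
      IsLocalRing.closedPoint O := IsLocalRing.comap_closedPoint (IsLocalRing.residue O)
  have hs₁ : j₁ (IsLocalRing.closedPoint L) = genericPoint (Spec (CommRingCat.of O)) := by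
    rw [genericPoint_eq_bot_of_affine]
    apply PrimeSpectrum.ext
    show Ideal.comap (algebraMap O L) (IsLocalRing.maximalIdeal L) = ⊥
    rw [IsLocalRing.maximalIdeal_eq_bot, ← RingHom.ker_eq_comap_bot]
    exact (RingHom.injective_iff_ker_eq_bot _).mp (IsFractionRing.injective O L)
  have hg₀ : g (IsLocalRing.closedPoint O) = y := by
    rw [← hs₀, ← Scheme.Hom.comp_apply, hj₀g, Scheme.Hom.comp_apply, Scheme.Hom.comp_apply,
      Scheme.fromSpecResidueField_apply]
  have hg₁ : g (genericPoint (Spec (CommRingCat.of O))) = y' := by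
    rw [← hs₁, ← Scheme.Hom.comp_apply, hj₁g, Scheme.Hom.comp_apply, Scheme.Hom.comp_apply,
      Scheme.fromSpecResidueField_apply]
  refine ⟨O, inferInstance, inferInstance, hdvr, g, hg₀, hg₁, ?_, ?_⟩
  · have key := card_fiber_eq f g j₀ (IsLocalRing.closedPoint O) hs₀ (m := m)
      (by rw [hg₀]; exact hm) (fun i => Spec.map (CommRingCat.ofHom a) ≫ w i)
      (fun i => by rw [Category.assoc, hw i, hj₀g])
      (fun i i' hii => by
        haveI := epi_SpecMap_of_field a
        exact hwinj ((cancel_epi _).mp hii))
    rw [hg₀] at key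
    exact key
  · have key := card_fiber_eq f g j₁ (genericPoint (Spec (CommRingCat.of O))) hs₁ (m := m')
      (by rw [hg₁]; exact hm') (fun i => Spec.map (CommRingCat.ofHom a') ≫ w' i)
      (fun i => by rw [Category.assoc, hw' i, hj₁g])
      (fun i i' hii => by
        haveI := epi_SpecMap_of_field a'
        exact hwinj' ((cancel_epi _).mp hii))
    rw [hg₁] at key
    exact key

end Groth.Agent.Helper3.LscQ
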