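import Mathlib

set_option linter.style.haveILetI false
set_option linter.unusedSectionVars false
set_option linter.unusedVariables false

namespace Groth.Agent.Helper3.ModifDecomp

universe u

section Prime

variable {R : Type*} [CommRing R]

/-- elements of a minimal prime over `I` are locally nilpotent modulo `I`. -/
theorem exists_pow_mul_mem {I p : Ideal R} (hp : p ∈ I.minimalPrimes) {x : R} (hx : x ∈ p) :
    ∃ y ∉ p, ∃ n : ℕ, x ^ n * y ∈ I := by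
  obtain ⟨⟨hp₁, hp₂⟩, hp₃⟩ := hp
  have : p.map (algebraMap R (Localization.AtPrime p)) ≤ (I.map (algebraMap _ _)).radical := by
    rw [Ideal.radical_eq_sInf, le_sInf_iff]
    rintro q ⟨hq', hq⟩
    obtain ⟨h₁, h₂⟩ := ((IsLocalization.AtPrime.orderIsoOfPrime _ p) ⟨q, hq⟩).2
    rw [Ideal.map_le_iff_le_comap] at hq' ⊢
    exact hp₃ ⟨h₁, hq'⟩ h₂
  obtain ⟨n, hn⟩ := this (Ideal.mem_map_of_mem _ hx)
  rw [IsLocalization.mem_map_algebraMap_iff (M := p.primeCompl)] at hn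
  obtain ⟨⟨a, b⟩, hn⟩ := hn
  rw [← map_pow, ← map_mul, IsLocalization.eq_iff_exists p.primeCompl] at hn
  obtain ⟨t, ht⟩ := hn
  refine ⟨t * b, (t * b).2, n, ?_⟩
  simp only at ht
  have : x ^ n * ((t : R) * (b : R)) = (t : R) * a := by
    rw [← ht]; ring
  rw [this]
  exact I.mul_mem_left _ a.2

end Prime

variable {A : Type u} [CommRing A] (π : A) {ι : Type} (𝔓 : ι → Ideal A) [∀ i, (𝔓 i).IsPrime]

section defs

variable (P : Type u) [AddCommGroup P] [Module A P]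

/-- elements of `P/πP` vanishing at the primes indexed by `T`. -/
noncomputable def Kp (T : Set ι) : Submodule A (P ⧸ Ideal.span {π} • (⊤ : Submodule A P)) :=
  ⨅ i ∈ T, LinearMap.ker
    (LocalizedModule.mkLinearMap (𝔓 i).primeCompl (P ⧸ Ideal.span {π} • (⊤ : Submodule A P)))

/-- preimage of `Kp` in `P`. -/
noncomputable def Np (T : Set ι) : Submodule A P :=
  (Kp π 𝔓 P T).comap (Submodule.mkQ (Ideal.span {π} • (⊤ : Submodule A P)))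

variable {P}

theorem mem_piP (x : P) : x ∈ Ideal.span {π} • (⊤ : Submodule A P) ↔ ∃ b : P, π • b = x := by
  rw [Submodule.ideal_span_singleton_smul, Submodule.mem_smul_pointwise_iff_exists]
  simp

theorem mem_Kp (T : Set ι) (x : P ⧸ Ideal.span {π} • (⊤ : Submodule A P)) :
    x ∈ Kp π 𝔓 P T ↔ ∀ i ∈ T, ∃ s ∉ 𝔓 i, s • x = 0 := by
  unfold Kp
  simp only [Submodule.mem_iInf, LocalizedModule.mem_ker_mkLinearMap_iff]
  rfl

theorem mem_Np (T : Set ι) (p : P) :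
    p ∈ Np π 𝔓 P T ↔ ∀ i ∈ T, ∃ s ∉ 𝔓 i, ∃ b : P, π • b = s • p := by
  unfold Np
  rw [Submodule.mem_comap, mem_Kp]
  refine forall₂_congr fun i _ => exists_congr fun s => and_congr_right fun _ => ?_
  rw [Submodule.mkQ_apply, ← Submodule.Quotient.mk_smul, Submodule.Quotient.mk_eq_zero, mem_piP]

theorem Kp_inf (S T : Set ι) : Kp π 𝔓 P S ⊓ Kp π 𝔓 P T = Kp π 𝔓 P (S ∪ T) := by
  ext x
  simp only [Submodule.mem_inf, mem_Kp, Set.mem_union]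
  constructor
  · rintro ⟨h1, h2⟩ i (hi | hi)
    · exact h1 i hi
    · exact h2 i hi
  · intro h
    exact ⟨fun i hi => h i (Or.inl hi), fun i hi => h i (Or.inr hi)⟩

theorem Kp_anti {S T : Set ι} (h : S ⊆ T) : Kp π 𝔓 P T ≤ Kp π 𝔓 P S := by
  intro x hx
  rw [mem_Kp] at hx ⊢
  exact fun i hi => hx i (h hi)

theorem Np_inf (S T : Set ι) : Np π 𝔓 P S ⊓ Np π 𝔓 P T = Np π 𝔓 P (S ∪ T) := by
  unfold Np
  rw [← Submodule.comap_inf, Kp_inf]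

theorem Np_univ (h : Kp π 𝔓 P Set.univ = ⊥) :
    Np π 𝔓 P Set.univ = Ideal.span {π} • (⊤ : Submodule A P) := by
  unfold Np
  rw [h, Submodule.comap_bot, Submodule.ker_mkQ]

theorem piP_le_Np (T : Set ι) : Ideal.span {π} • (⊤ : Submodule A P) ≤ Np π 𝔓 P T := by
  intro x hx
  unfold Np
  rw [Submodule.mem_comap, Submodule.mkQ_apply, (Submodule.Quotient.mk_eq_zero _).mpr hx]
  exact Submodule.zero_mem _

end defs

section Avoid

variable [Finite ι]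
  (h𝔓 : ∀ i, 𝔓 i ∈ (Ideal.span {π}).minimalPrimes) (h𝔓inj : Function.Injective 𝔓)

include h𝔓 h𝔓inj in
theorem exists_avoid (i : ι) :
    ∃ s ∉ 𝔓 i, ∀ j, j ≠ i → ∃ s' ∉ 𝔓 j, s' * s ∈ Ideal.span {π} := by
  classical
  haveI := Fintype.ofFinite ι
  have h1 : ∀ j, j ≠ i → ∃ x ∈ 𝔓 j, x ∉ 𝔓 i := by
    intro j hj
    by_contra hcon
    push Not at hcon
    have hle : 𝔓 j ≤ 𝔓 i := hcon
    have := (h𝔓 i).2 (h𝔓 j).1 hle
    exact hj (h𝔓inj (le_antisymm hle this))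
  have h2 : ∀ j, ∃ x y : A, ∃ n : ℕ, (j ≠ i → x ∉ 𝔓 i ∧ y ∉ 𝔓 j ∧ x ^ n * y ∈ Ideal.span {π}) := by
    intro j
    by_cases hj : j = i
    · exact ⟨0, 0, 0, fun h => absurd hj h⟩
    · obtain ⟨x, hxj, hxi⟩ := h1 j hj
      obtain ⟨y, hy, n, hn⟩ := exists_pow_mul_mem (h𝔓 j) hxj
      exact ⟨x, y, n, fun _ => ⟨hxi, hy, hn⟩⟩
  choose x y n hxyn using h2
  refine ⟨∏ j ∈ Finset.univ.erase i, x j ^ n j, ?_, fun j hj => ?_⟩
  · intro hmem
    rw [Ideal.IsPrime.prod_mem_iff] at hmem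
    obtain ⟨j, hj, hjm⟩ := hmem
    have hji : j ≠ i := (Finset.mem_erase.mp hj).1
    exact (hxyn j hji).1 (Ideal.IsPrime.mem_of_pow_mem inferInstance _ hjm)
  · refine ⟨y j, (hxyn j hj).2.1, ?_⟩
    have hjmem : j ∈ Finset.univ.erase i := Finset.mem_erase.mpr ⟨hj, Finset.mem_univ j⟩
    rw [← Finset.mul_prod_erase _ _ hjmem, ← mul_assoc, mul_comm (y j)]
    exact Ideal.mul_mem_right _ _ (hxyn j hj).2.2

end Avoid

section Main1

variable [Finite ι]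
  (h𝔓 : ∀ i, 𝔓 i ∈ (Ideal.span {π}).minimalPrimes) (h𝔓inj : Function.Injective 𝔓)
  (M : Type u) [AddCommGroup M] [Module A M]
  (htf : Kp π 𝔓 M Set.univ = ⊥)

include htf in
theorem N_inf_compl (Y : Set ι) :
    Np π 𝔓 M Y ⊓ Np π 𝔓 M Yᶜ = Ideal.span {π} • (⊤ : Submodule A M) := by
  rw [Np_inf, Set.union_compl_self, Np_univ π 𝔓 htf]

include h𝔓 h𝔓inj htf in
theorem main1 (Y : Set ι) :
    Submodule.map (Np π 𝔓 M Y).subtype (Np π 𝔓 (↥(Np π 𝔓 M Y)) Yᶜ) =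
      Np π 𝔓 M Y ⊓ Np π 𝔓 M Yᶜ := by
  apply le_antisymm
  · rintro _ ⟨n, hn, rfl⟩
    refine ⟨n.2, ?_⟩
    rw [SetLike.mem_coe, mem_Np] at hn
    rw [Submodule.subtype_apply, SetLike.mem_coe, mem_Np]
    intro i hi
    obtain ⟨s, hs, b, hb⟩ := hn i hi
    refine ⟨s, hs, (b : M), ?_⟩
    have := congrArg Subtype.val hb
    simpa using this
  · intro x hx
    have hxY : x ∈ Np π 𝔓 M Y := hx.1
    rw [N_inf_compl π 𝔓 M htf, mem_piP] at hx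
    obtain ⟨m, rfl⟩ := hx
    refine ⟨⟨π • m, hxY⟩, ?_, rfl⟩
    rw [SetLike.mem_coe, mem_Np]
    intro i hi
    obtain ⟨s, hs, hs'⟩ := exists_avoid π 𝔓 h𝔓 h𝔓inj i
    have hsm : s • m ∈ Np π 𝔓 M Y := by
      rw [mem_Np]
      intro j hj
      have hji : j ≠ i := by
        rintro rfl
        exact hi hj
      obtain ⟨s', hs'j, hmem⟩ := hs' j hji
      rw [Ideal.mem_span_singleton'] at hmem
      obtain ⟨c, hc⟩ := hmem
      refine ⟨s', hs'j, c • m, ?_⟩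
      rw [smul_smul, smul_smul, ← hc, mul_comm]
    refine ⟨s, hs, ⟨s • m, hsm⟩, ?_⟩
    apply Subtype.ext
    simp only [Submodule.coe_smul]
    rw [smul_comm]

end Main1

section Main2

variable {P : Type u} [AddCommGroup P] [Module A P]

theorem Np_anti {S T : Set ι} (h : S ⊆ T) : Np π 𝔓 P T ≤ Np π 𝔓 P S :=
  Submodule.comap_mono (Kp_anti π 𝔓 h)

theorem decomp_iff (S T : Set ι) :
    Kp π 𝔓 P S ⊔ Kp π 𝔓 P T = ⊤ ↔ Np π 𝔓 P S ⊔ Np π 𝔓 P T = ⊤ := by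
  constructor
  · intro h
    rw [eq_top_iff]
    intro p _
    have hp : Submodule.mkQ (Ideal.span {π} • (⊤ : Submodule A P)) p ∈
        Kp π 𝔓 P S ⊔ Kp π 𝔓 P T := by rw [h]; trivial
    rw [Submodule.mem_sup] at hp
    obtain ⟨u, hu, v, hv, huv⟩ := hp
    obtain ⟨a, rfl⟩ := Submodule.mkQ_surjective _ u
    obtain ⟨b, rfl⟩ := Submodule.mkQ_surjective _ v
    have hd : p - a - b ∈ Ideal.span {π} • (⊤ : Submodule A P) := by
      rw [← Submodule.ker_mkQ (Ideal.span {π} • (⊤ : Submodule A P)), LinearMap.mem_ker,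
        map_sub, map_sub, ← huv]
      abel
    rw [Submodule.mem_sup]
    refine ⟨a, hu, b + (p - a - b), Submodule.add_mem _ hv (piP_le_Np π 𝔓 T hd), by abel⟩
  · intro h
    rw [eq_top_iff]
    intro x _
    obtain ⟨p, rfl⟩ := Submodule.mkQ_surjective _ x
    have hp : p ∈ Np π 𝔓 P S ⊔ Np π 𝔓 P T := by rw [h]; trivial
    rw [Submodule.mem_sup] at hp
    obtain ⟨a, ha, b, hb, rfl⟩ := hp
    rw [map_add]
    exact Submodule.add_mem_sup ha hb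

variable (M : Type u) [AddCommGroup M] [Module A M]

theorem coe_mem_Np (Q : Submodule A M) (T : Set ι) (n : Q) (hn : n ∈ Np π 𝔓 (↥Q) T) :
    (n : M) ∈ Np π 𝔓 M T := by
  rw [mem_Np] at hn ⊢
  intro i hi
  obtain ⟨s, hs, b, hb⟩ := hn i hi
  refine ⟨s, hs, (b : M), ?_⟩
  have := congrArg Subtype.val hb
  simpa using this

variable (hπ : ∀ m : M, π • m = 0 → m = 0) (htf : Kp π 𝔓 M Set.univ = ⊥)
  (Y : Set ι) (hY : Np π 𝔓 M Y ⊔ Np π 𝔓 M Yᶜ = ⊤)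

include hπ hY in
theorem key (W : Set ι) (a : M) (h : π • a ∈ Np π 𝔓 M Y)
    (hW : (⟨π • a, h⟩ : Np π 𝔓 M Y) ∈ Np π 𝔓 (↥(Np π 𝔓 M Y)) W) :
    a ∈ Np π 𝔓 M W ⊔ Np π 𝔓 M Y := by
  have ha : a ∈ Np π 𝔓 M (W ∩ Y) := by
    rw [mem_Np] at hW ⊢
    rintro i ⟨hiW, hiY⟩
    obtain ⟨s, hs, b, hb⟩ := hW i hiW
    have hb' : π • (b : M) = s • (π • a) := by
      have := congrArg Subtype.val hb
      simpa using this
    have hbe : (b : M) = s • a := by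
      have h0 : π • ((b : M) - s • a) = 0 := by
        rw [smul_sub, hb', smul_comm, sub_self]
      exact sub_eq_zero.mp (hπ _ h0)
    have hsa : s • a ∈ Np π 𝔓 M Y := hbe ▸ b.2
    rw [mem_Np] at hsa
    obtain ⟨s', hs', c, hc⟩ := hsa i hiY
    refine ⟨s' * s, ?_, c, ?_⟩
    · intro hmem
      rcases Ideal.IsPrime.mem_or_mem inferInstance hmem with h1 | h1
      · exact hs' h1
      · exact hs h1
    · rw [hc, smul_smul]
  have hdec : a ∈ Np π 𝔓 M Y ⊔ Np π 𝔓 M Yᶜ := by rw [hY]; trivial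
  rw [Submodule.mem_sup] at hdec
  obtain ⟨u, hu, v, hv, rfl⟩ := hdec
  have hv1 : v ∈ Np π 𝔓 M (W ∩ Y) := by
    have : v = (u + v) - u := by abel
    rw [this]
    exact Submodule.sub_mem _ ha (Np_anti π 𝔓 Set.inter_subset_right hu)
  have hv2 : v ∈ Np π 𝔓 M W := by
    have : v ∈ Np π 𝔓 M (W ∩ Y) ⊓ Np π 𝔓 M Yᶜ := ⟨hv1, hv⟩
    rw [Np_inf] at this
    refine Np_anti π 𝔓 ?_ this
    intro i hi
    by_cases hiY : i ∈ Y
    · exact Or.inl ⟨hi, hiY⟩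
    · exact Or.inr hiY
  rw [add_comm]
  exact Submodule.add_mem_sup hv2 hu

include hπ htf hY in
theorem main2 (Z : Set ι)
    (hZ : Np π 𝔓 (↥(Np π 𝔓 M Y)) Z ⊔ Np π 𝔓 (↥(Np π 𝔓 M Y)) Zᶜ = ⊤) :
    Np π 𝔓 M Z ⊔ Np π 𝔓 M Zᶜ = ⊤ := by
  -- step 1
  have step1 : Np π 𝔓 M Y ≤ Np π 𝔓 M Z ⊔ Np π 𝔓 M Zᶜ := by
    intro n hn
    have hdec : (⟨n, hn⟩ : Np π 𝔓 M Y) ∈
        Np π 𝔓 (↥(Np π 𝔓 M Y)) Z ⊔ Np π 𝔓 (↥(Np π 𝔓 M Y)) Zᶜ := by rw [hZ]; trivial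
    rw [Submodule.mem_sup] at hdec
    obtain ⟨n₁, hn₁, n₂, hn₂, hsum⟩ := hdec
    have : n = (n₁ : M) + (n₂ : M) := by
      have := congrArg Subtype.val hsum
      simpa using this.symm
    rw [this]
    exact Submodule.add_mem_sup (coe_mem_Np π 𝔓 M _ Z n₁ hn₁) (coe_mem_Np π 𝔓 M _ Zᶜ n₂ hn₂)
  have step2 : Np π 𝔓 M Yᶜ ≤ Np π 𝔓 M Z ⊔ Np π 𝔓 M Zᶜ := by
    intro m' _
    have hπm : π • m' ∈ Np π 𝔓 M Y :=
      piP_le_Np π 𝔓 Y ((mem_piP π _).mpr ⟨m', rfl⟩)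
    have hdec : (⟨π • m', hπm⟩ : Np π 𝔓 M Y) ∈
        Np π 𝔓 (↥(Np π 𝔓 M Y)) Z ⊔ Np π 𝔓 (↥(Np π 𝔓 M Y)) Zᶜ := by rw [hZ]; trivial
    rw [Submodule.mem_sup] at hdec
    obtain ⟨n₁, hn₁, n₂, hn₂, hsum⟩ := hdec
    have hsum' : (n₁ : M) + (n₂ : M) = π • m' := by
      have := congrArg Subtype.val hsum
      simpa using this
    have h1 := coe_mem_Np π 𝔓 M _ Z n₁ hn₁
    have h2 := coe_mem_Np π 𝔓 M _ Zᶜ n₂ hn₂
    have hpi : π • m' ∈ Ideal.span {π} • (⊤ : Submodule A M) := (mem_piP π _).mpr ⟨m', rfl⟩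
    have hinf : Np π 𝔓 M Z ⊓ Np π 𝔓 M Zᶜ = Ideal.span {π} • (⊤ : Submodule A M) := by
      rw [Np_inf, Set.union_compl_self, Np_univ π 𝔓 htf]
    have h1' : (n₁ : M) ∈ Ideal.span {π} • (⊤ : Submodule A M) := by
      rw [← hinf]
      refine ⟨h1, ?_⟩
      have : (n₁ : M) = π • m' - (n₂ : M) := by rw [← hsum']; abel
      rw [this]
      exact Submodule.sub_mem _ (piP_le_Np π 𝔓 _ hpi) h2
    have h2' : (n₂ : M) ∈ Ideal.span {π} • (⊤ : Submodule A M) := by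
      rw [← hinf]
      refine ⟨?_, h2⟩
      have : (n₂ : M) = π • m' - (n₁ : M) := by rw [← hsum']; abel
      rw [this]
      exact Submodule.sub_mem _ (piP_le_Np π 𝔓 _ hpi) h1
    rw [mem_piP] at h1' h2'
    obtain ⟨a₁, ha₁⟩ := h1'
    obtain ⟨a₂, ha₂⟩ := h2'
    have hm' : m' = a₁ + a₂ := by
      have h0 : π • (m' - (a₁ + a₂)) = 0 := by
        rw [smul_sub, smul_add, ha₁, ha₂, hsum', sub_self]
      exact sub_eq_zero.mp (hπ _ h0)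
    have hk1 : a₁ ∈ Np π 𝔓 M Z ⊔ Np π 𝔓 M Y := by
      have hmem : π • a₁ ∈ Np π 𝔓 M Y := ha₁ ▸ n₁.2
      refine key π 𝔓 M hπ Y hY Z a₁ hmem ?_
      have : (⟨π • a₁, hmem⟩ : Np π 𝔓 M Y) = n₁ := Subtype.ext ha₁
      rw [this]
      exact hn₁
    have hk2 : a₂ ∈ Np π 𝔓 M Zᶜ ⊔ Np π 𝔓 M Y := by
      have hmem : π • a₂ ∈ Np π 𝔓 M Y := ha₂ ▸ n₂.2
      refine key π 𝔓 M hπ Y hY Zᶜ a₂ hmem ?_
      have : (⟨π • a₂, hmem⟩ : Np π 𝔓 M Y) = n₂ := Subtype.ext ha₂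
      rw [this]
      exact hn₂
    rw [hm']
    refine Submodule.add_mem _ (sup_le le_sup_left step1 hk1) (sup_le le_sup_right step1 hk2)
  rw [eq_top_iff, ← hY]
  exact sup_le step1 step2

end Main2

/-- S18364 in the form of the statement -/
theorem s18364 (A : Type u) [CommRing A] (π : A)
    (ι : Type) [Finite ι] (𝔓 : ι → Ideal A) [∀ i, (𝔓 i).IsPrime]
    (h𝔓 : ∀ i, 𝔓 i ∈ (Ideal.span {π}).minimalPrimes) (h𝔓inj : Function.Injective 𝔓)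
    (M : Type u) [AddCommGroup M] [Module A M]
    (K : Set ι → Submodule A (M ⧸ Ideal.span {π} • (⊤ : Submodule A M)))
    (hK : ∀ T : Set ι, K T = ⨅ i ∈ T, LinearMap.ker
      (LocalizedModule.mkLinearMap (𝔓 i).primeCompl (M ⧸ Ideal.span {π} • (⊤ : Submodule A M))))
    (htf : K Set.univ = ⊥)
    (N : Set ι → Submodule A M)
    (hN : ∀ T : Set ι, N T = (K T).comap (Submodule.mkQ (Ideal.span {π} • (⊤ : Submodule A M))))
    (Y : Set ι) :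
    N Y ⊓ N Yᶜ = Ideal.span {π} • (⊤ : Submodule A M) ∧
    Submodule.map (N Y).subtype
      ((⨅ i ∈ Yᶜ, LinearMap.ker (LocalizedModule.mkLinearMap (𝔓 i).primeCompl
          (↥(N Y) ⧸ Ideal.span {π} • (⊤ : Submodule A ↥(N Y))))).comap
        (Submodule.mkQ (Ideal.span {π} • (⊤ : Submodule A ↥(N Y)))))
      = N Y ⊓ N Yᶜ := by
  obtain rfl : K = fun T => Kp π 𝔓 M T := funext hK
  obtain rfl : N = fun T => Np π 𝔓 M T := funext hN
  exact ⟨N_inf_compl π 𝔓 M htf Y, main1 π 𝔓 h𝔓 h𝔓inj M htf Y⟩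

/-- S18365 in the form of the statement -/
theorem s18365 (A : Type u) [CommRing A] (π : A)
    (ι : Type) (𝔓 : ι → Ideal A) [∀ i, (𝔓 i).IsPrime]
    (M : Type u) [AddCommGroup M] [Module A M]
    (hπ : ∀ m : M, π • m = 0 → m = 0)
    (K : Set ι → Submodule A (M ⧸ Ideal.span {π} • (⊤ : Submodule A M)))
    (hK : ∀ T : Set ι, K T = ⨅ i ∈ T, LinearMap.ker
      (LocalizedModule.mkLinearMap (𝔓 i).primeCompl (M ⧸ Ideal.span {π} • (⊤ : Submodule A M))))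
    (htf : K Set.univ = ⊥)
    (N : Set ι → Submodule A M)
    (hN : ∀ T : Set ι, N T = (K T).comap (Submodule.mkQ (Ideal.span {π} • (⊤ : Submodule A M))))
    (Y Z : Set ι) (hY : K Y ⊔ K Yᶜ = ⊤)
    (K' : Set ι → Submodule A (↥(N Y) ⧸ Ideal.span {π} • (⊤ : Submodule A ↥(N Y))))
    (hK' : ∀ T : Set ι, K' T = ⨅ i ∈ T, LinearMap.ker
      (LocalizedModule.mkLinearMap (𝔓 i).primeCompl (↥(N Y) ⧸ Ideal.span {π} • (⊤ : Submodule A ↥(N Y)))))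
    (hZ : K' Z ⊔ K' Zᶜ = ⊤) :
    K Z ⊔ K Zᶜ = ⊤ := by
  obtain rfl : K = fun T => Kp π 𝔓 M T := funext hK
  obtain rfl : N = fun T => Np π 𝔓 M T := funext hN
  obtain rfl : K' = fun T => Kp π 𝔓 (↥(Np π 𝔓 M Y)) T := funext hK'
  rw [decomp_iff] at hY hZ ⊢
  exact main2 π 𝔓 M hπ htf Y hY Z hZ

end Groth.Agent.Helper3.ModifDecomp
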