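import Mathlib
set_option backward.isDefEq.respectTransparency.types false
set_option maxHeartbeats 4000000
set_option synthInstance.maxHeartbeats 400000

universe u
open CategoryTheory AlgebraicGeometry IsLocalRing Limits

namespace Groth.Agent.Helper3.MonoFib

theorem local_iff {R S : Type*} [CommRing R] [CommRing S] [IsLocalRing R] [IsLocalRing S]
    (φ : R →+* S) [IsLocalHom φ] :
    Function.Bijective (Ideal.quotientMap ((maximalIdeal R).map φ) φ Ideal.le_comap_map) ↔
      ((maximalIdeal R).map φ = maximalIdeal S ∧
        Function.Surjective (IsLocalRing.ResidueField.map φ)) := by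
  constructor
  · intro hψ
    have hfield : IsField (S ⧸ (maximalIdeal R).map φ) := by
      have h1 : IsField (R ⧸ maximalIdeal R) :=
        (Ideal.Quotient.maximal_ideal_iff_isField_quotient _).mp (maximalIdeal.isMaximal R)
      exact (RingEquiv.ofBijective _ hψ).symm.toMulEquiv.isField h1
    have hmax : ((maximalIdeal R).map φ).IsMaximal :=
      (Ideal.Quotient.maximal_ideal_iff_isField_quotient _).mpr hfield
    have heq : (maximalIdeal R).map φ = maximalIdeal S := IsLocalRing.eq_maximalIdeal hmax
    refine ⟨heq, ?_⟩
    intro s'
    obtain ⟨s, rfl⟩ := IsLocalRing.residue_surjective s'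
    obtain ⟨r', hr'⟩ := hψ.2 (Ideal.Quotient.mk _ s)
    obtain ⟨r, rfl⟩ := Ideal.Quotient.mk_surjective r'
    refine ⟨IsLocalRing.residue R r, ?_⟩
    rw [IsLocalRing.ResidueField.map_residue]
    rw [Ideal.quotientMap_mk, Ideal.Quotient.eq, heq] at hr'
    exact Ideal.Quotient.eq.mpr hr'
  · rintro ⟨heq, hsurj⟩
    constructor
    · rw [injective_iff_map_eq_zero]
      intro r' hr'
      obtain ⟨r, rfl⟩ := Ideal.Quotient.mk_surjective r'
      rw [Ideal.quotientMap_mk, Ideal.Quotient.eq_zero_iff_mem, heq] at hr'
      rw [Ideal.Quotient.eq_zero_iff_mem]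
      by_contra hr
      have hu : IsUnit r := by
        by_contra hnu
        exact hr ((IsLocalRing.mem_maximalIdeal r).mpr hnu)
      exact (IsLocalRing.mem_maximalIdeal _).mp hr' (hu.map φ)
    · intro s'
      obtain ⟨s, rfl⟩ := Ideal.Quotient.mk_surjective s'
      obtain ⟨r', hr'⟩ := hsurj (IsLocalRing.residue S s)
      obtain ⟨r, rfl⟩ := IsLocalRing.residue_surjective r'
      refine ⟨Ideal.Quotient.mk _ r, ?_⟩
      rw [IsLocalRing.ResidueField.map_residue] at hr'
      rw [Ideal.quotientMap_mk, Ideal.Quotient.eq, heq]
      exact Ideal.Quotient.eq.mp hr'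


theorem main {X Y : Scheme.{u}} (f : X ⟶ Y) [LocallyOfFiniteType f] :
    Mono f ↔ ∀ x : ↥X,
      (∀ x' : ↥X, f.base x' = f.base x → x' = x) ∧
        Function.Bijective
          (Ideal.quotientMap
            ((IsLocalRing.maximalIdeal ↑(Y.presheaf.stalk (f.base x))).map (f.stalkMap x).hom)
            (f.stalkMap x).hom Ideal.le_comap_map) := by
  constructor
  · intro hmono x
    haveI := hmono
    haveI : UniversallyInjective f := inferInstance
    have h02 := (tfae_universallyInjective f).out 0 2
    obtain ⟨hinj, hpi⟩ := h02.mp ‹_›
    haveI : IsIso (pullback.diagonal f) := inferInstance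
    haveI : FormallyUnramified f := inferInstance
    refine ⟨fun x' hx' => hinj hx', ?_⟩
    rw [local_iff]
    constructor
    · have h1 := FormallyUnramified.stalkMap f x
      have h2 := LocallyOfFiniteType.stalkMap f x
      algebraize [(f.stalkMap x).hom]
      have : IsLocalHom (algebraMap (Y.presheaf.stalk (f.base x)) (X.presheaf.stalk x)) :=
        inferInstanceAs <| IsLocalHom (f.stalkMap x).hom
      exact Algebra.FormallyUnramified.map_maximalIdeal
    · have hsep : letI : Algebra (Y.residueField (f.base x)) (X.residueField x) :=
          (f.residueFieldMap x).hom.toAlgebra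
          Algebra.IsSeparable (Y.residueField (f.base x)) (X.residueField x) := inferInstance
      have hp := hpi x
      letI : Algebra (Y.residueField (f.base x)) (X.residueField x) :=
        (f.residueFieldMap x).hom.toAlgebra
      have hp' : IsPurelyInseparable (Y.residueField (f.base x)) (X.residueField x) := hp
      exact IsPurelyInseparable.surjective_algebraMap_of_isSeparable
        (Y.residueField (f.base x)) (X.residueField x)
  · intro H
    have hloc := fun x => (local_iff (f.stalkMap x).hom).mp (H x).2
    have hinj : Function.Injective f.base := fun x x' h => ((H x').1 x h)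
    haveI hFU : FormallyUnramified f := by
      apply HasRingHomProperty.of_stalkMap (P := @FormallyUnramified)
        RingHom.FormallyUnramified.ofLocalizationPrime
      intro x
      obtain ⟨heq, hsurj⟩ := hloc x
      have h2 := LocallyOfFiniteType.stalkMap f x
      algebraize [(f.stalkMap x).hom]
      have : IsLocalHom (algebraMap (Y.presheaf.stalk (f.base x)) (X.presheaf.stalk x)) :=
        inferInstanceAs <| IsLocalHom (f.stalkMap x).hom
      haveI : Algebra.IsSeparable (ResidueField (Y.presheaf.stalk (f.base x)))
          (ResidueField (X.presheaf.stalk x)) := by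
        constructor
        intro s
        obtain ⟨r, rfl⟩ := hsurj s
        exact isSeparable_algebraMap r
      have h3 : Algebra.FormallyUnramified (Y.presheaf.stalk (f.base x)) (X.presheaf.stalk x) :=
        Algebra.FormallyUnramified.of_map_maximalIdeal heq
      exact RingHom.formallyUnramified_algebraMap.mpr h3
    haveI hUI : UniversallyInjective f := by
      have h02 := (tfae_universallyInjective f).out 0 2
      apply h02.mpr
      refine ⟨hinj, fun x => ?_⟩
      obtain ⟨-, hsurj⟩ := hloc x
      letI : Algebra (Y.residueField (f.base x)) (X.residueField x) :=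
        (f.residueFieldMap x).hom.toAlgebra
      show IsPurelyInseparable (Y.residueField (f.base x)) (X.residueField x)
      refine ⟨⟨fun s => ?_⟩, fun s _ => ?_⟩
      · obtain ⟨r, rfl⟩ := hsurj s
        exact isIntegral_algebraMap
      · obtain ⟨r, rfl⟩ := hsurj s
        exact ⟨r, rfl⟩
    have h03 := (tfae_universallyInjective f).out 0 3
    haveI : Surjective (pullback.diagonal f) := h03.mp hUI
    haveI : IsIso (pullback.diagonal f) :=
      (isIso_iff_isOpenImmersion_and_surjective _).mpr ⟨inferInstance, inferInstance⟩
    exact (pullback.isIso_diagonal_iff f).mp inferInstance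

end Groth.Agent.Helper3.MonoFib
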