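import Mathlib

set_option backward.isDefEq.respectTransparency.types false
set_option maxHeartbeats 4000000
set_option synthInstance.maxHeartbeats 400000
set_option autoImplicit false
universe u
open CategoryTheory CategoryTheory.Limits AlgebraicGeometry TopologicalSpace Opposite

namespace Groth.Agent.Helper3.MonoImmA

/-- In a Noetherian quasi-sober space, every point of the closure of the image of a continuous
map is a specialization of a point of the image. -/
theorem exists_specializes_of_mem_closure_range {Z X : Type*} [TopologicalSpace Z]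
    [TopologicalSpace X] [NoetherianSpace Z] [QuasiSober Z] (g : Z → X) (hg : Continuous g)
    (x : X) (hx : x ∈ closure (Set.range g)) : ∃ z, g z ⤳ x := by
  have hfin : (irreducibleComponents Z).Finite := NoetherianSpace.finite_irreducibleComponents
  have h1 : Set.range g = ⋃ C ∈ irreducibleComponents Z, g '' C := by
    rw [← Set.image_univ, ← sUnion_irreducibleComponents, Set.sUnion_eq_biUnion, Set.image_iUnion₂]
  rw [h1, hfin.closure_biUnion] at hx
  obtain ⟨C, hC, hxC⟩ := Set.mem_iUnion₂.mp hx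
  obtain ⟨z, hz⟩ := QuasiSober.sober hC.1
    (isClosed_of_mem_irreducibleComponents C hC)
  refine ⟨z, ?_⟩
  rw [specializes_iff_mem_closure]
  have h2 : g '' C ⊆ closure {g z} := by
    rw [← hz.def, ← Set.image_singleton]
    exact image_closure_subset_closure_image hg
  exact closure_minimal h2 isClosed_closure hxC

/-- `f` is inducing at `y`. -/
theorem inducing_at {X Y : Scheme.{u}} [IsLocallyNoetherian X] (f : Y ⟶ X)
    [LocallyOfFiniteType f] [QuasiCompact f]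
    (hrefl : ∀ y₁ y₀ : Y, f y₁ ⤳ f y₀ → y₁ ⤳ y₀) (y : Y) (Y₀ : Y.Opens) (hy : y ∈ Y₀) :
    ∃ V₁ : X.Opens, f y ∈ V₁ ∧ f ⁻¹ᵁ V₁ ≤ Y₀ := by
  haveI : IsLocallyNoetherian Y := LocallyOfFiniteType.isLocallyNoetherian f
  obtain ⟨_, ⟨V', hV' : IsAffineOpen V', rfl⟩, hxV', -⟩ :=
    X.isBasis_affineOpens.exists_subset_of_mem_open (Set.mem_univ (f y)) isOpen_univ
  have hc : IsCompact (f ⁻¹ᵁ V' : Set Y) := f.isCompact_preimage hV'.isCompact
  let P : Scheme.{u} := ↑(f ⁻¹ᵁ V')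
  haveI : CompactSpace ↥P := isCompact_iff_compactSpace.mp hc
  haveI : AlgebraicGeometry.IsNoetherian P := AlgebraicGeometry.IsNoetherian.mk
  haveI : NoetherianSpace ↥P := inferInstance
  let Zs : Set ↥P := {z | (f ⁻¹ᵁ V').ι z ∉ Y₀}
  have hZs : IsClosed Zs := by
    have : IsOpen {z : ↥P | (f ⁻¹ᵁ V').ι z ∈ Y₀} := Y₀.2.preimage (f ⁻¹ᵁ V').ι.continuous
    exact this.isClosed_compl
  haveI : QuasiSober ↥Zs := hZs.isClosedEmbedding_subtypeVal.quasiSober
  let g : ↥Zs → X := fun z => f ((f ⁻¹ᵁ V').ι z.1)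
  have hg : Continuous g :=
    f.continuous.comp ((f ⁻¹ᵁ V').ι.continuous.comp continuous_subtype_val)
  have hnot : f y ∉ closure (Set.range g) := by
    intro hmem
    obtain ⟨z, hz⟩ := exists_specializes_of_mem_closure_range g hg (f y) hmem
    have h1 : (f ⁻¹ᵁ V').ι z.1 ⤳ y := hrefl _ _ hz
    exact z.2 (h1.mem_open Y₀.2 hy)
  refine ⟨V' ⊓ ⟨(closure (Set.range g))ᶜ, isClosed_closure.isOpen_compl⟩, ⟨hxV', hnot⟩, ?_⟩
  intro y₁ hy₁
  by_contra hcon
  have hy₁' : y₁ ∈ f ⁻¹ᵁ V' := hy₁.1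
  let z₀ : ↥P := ⟨y₁, hy₁'⟩
  have hz₀ : (f ⁻¹ᵁ V').ι z₀ = y₁ := rfl
  exact hy₁.2 (subset_closure ⟨⟨z₀, by show (f ⁻¹ᵁ V').ι z₀ ∉ Y₀; rw [hz₀]; exact hcon⟩, by
    show f ((f ⁻¹ᵁ V').ι z₀) = f y₁
    rw [hz₀]⟩)

end Groth.Agent.Helper3.MonoImmA
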