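import Mathlib
import Groth.Agent.Helper3.MonoRes
import Groth.Agent.Helper5.DvrProper

set_option backward.isDefEq.respectTransparency.types false
set_option maxHeartbeats 4000000
set_option synthInstance.maxHeartbeats 400000
set_option autoImplicit false
universe u
open CategoryTheory CategoryTheory.Limits AlgebraicGeometry TopologicalSpace Opposite

namespace Groth.Agent.Helper3.MonoImmB

/-- The hypothesis `hb` as a definition. -/
def DvrLift {X Y : Scheme.{u}} (f : Y ⟶ X) : Prop :=
  ∀ S : ValuativeCommSq f, IsDiscreteValuationRing S.R →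
    (∃ l₀ : Spec (CommRingCat.of (IsLocalRing.ResidueField S.R)) ⟶ Y,
        l₀ ≫ f = Spec.map (CommRingCat.ofHom (IsLocalRing.residue S.R)) ≫ S.i₂) →
      S.commSq.HasLift

theorem immersion_of_LC {X Y : Scheme.{u}} [IsLocallyNoetherian X] (f : Y ⟶ X)
    [LocallyOfFiniteType f] [QuasiCompact f] [Mono f] (hb : DvrLift f)
    (U : X.Opens) (hU : Set.range f ⊆ U)
    (hLC : ∀ e ∈ Set.range f, ∀ v ∈ U, e ⤳ v → v ∈ Set.range f) : IsImmersion f := by
  have hU' : Set.range f ⊆ Set.range U.ι := by simpa using hU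
  let g : Y ⟶ ↑U := IsOpenImmersion.lift U.ι f hU'
  have hg : g ≫ U.ι = f := IsOpenImmersion.lift_fac _ _ _
  haveI : Mono g := mono_of_mono_fac hg
  haveI : LocallyOfFiniteType (g ≫ U.ι) := by rw [hg]; infer_instance
  haveI : LocallyOfFiniteType g := locallyOfFiniteType_of_comp g U.ι
  haveI : QuasiCompact (g ≫ U.ι) := by rw [hg]; infer_instance
  haveI : QuasiCompact g := QuasiCompact.of_comp g U.ι
  have hex : Groth.Agent.Helper5.DvrProper.DvrExistence g := by
    intro A _ _ _ x y hxy
    let S : ValuativeCommSq f :=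
      { R := A
        K := FractionRing A
        i₁ := x
        i₂ := y ≫ U.ι
        commSq := ⟨by rw [← hg, reassoc_of% hxy]⟩ }
    -- the closed point lands in the range
    let pt : ↥(Spec (CommRingCat.of (FractionRing A))) := IsLocalRing.closedPoint (FractionRing A)
    let η : ↥(Spec (CommRingCat.of A)) :=
      (Spec.map (CommRingCat.ofHom (algebraMap A (FractionRing A)))) pt
    have hsp : η ⤳ IsLocalRing.closedPoint A := IsLocalRing.specializes_closedPoint (R := A) η
    have hsp' := hsp.map (y ≫ U.ι).continuous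
    have he : (y ≫ U.ι) η = f (x pt) := by
      show (y ≫ U.ι) ((Spec.map (CommRingCat.ofHom (algebraMap A (FractionRing A)))) pt) = _
      rw [← Scheme.Hom.comp_apply, ← reassoc_of% hxy, hg, Scheme.Hom.comp_apply]
    rw [he] at hsp'
    have hvU : (y ≫ U.ι) (IsLocalRing.closedPoint A) ∈ U := by
      rw [Scheme.Hom.comp_apply]
      exact (y (IsLocalRing.closedPoint A)).2
    obtain ⟨yv, hyv⟩ := hLC _ ⟨x pt, rfl⟩ _ hvU hsp'
    have hcl' : (Spec.map (CommRingCat.ofHom (IsLocalRing.residue A)) ≫ y ≫ U.ι)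
        (IsLocalRing.closedPoint (IsLocalRing.ResidueField A)) = f yv := by
      haveI : IsLocalHom (CommRingCat.ofHom (IsLocalRing.residue A)).hom :=
        inferInstanceAs (IsLocalHom (IsLocalRing.residue A))
      rw [Scheme.Hom.comp_apply, Spec_closedPoint]
      exact hyv.symm
    obtain ⟨l₀, hl₀⟩ := Groth.Agent.Helper3.MonoRes.exists_lift_field_point f yv
      (IsLocalRing.ResidueField A) (Spec.map (CommRingCat.ofHom (IsLocalRing.residue A)) ≫ y ≫ U.ι)
      hcl'
    have hlift : S.commSq.HasLift :=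
      hb S (inferInstanceAs (IsDiscreteValuationRing A)) ⟨l₀, hl₀⟩
    obtain ⟨⟨l, hl1, hl2⟩⟩ := hlift
    have hl1' : Spec.map (CommRingCat.ofHom (algebraMap A (FractionRing A))) ≫ l = x := hl1
    have hl2' : l ≫ f = y ≫ U.ι := hl2
    refine ⟨l, ?_, hl1'⟩
    rw [← cancel_mono U.ι, Category.assoc, hg, hl2']
  haveI : UniversallyClosed g :=
    Groth.Agent.Helper5.DvrProper.universallyClosed_of_dvrExistence g hex
  haveI : IsProper g := {}
  haveI : IsClosedImmersion g := (IsClosedImmersion.iff_isProper_and_mono g).mpr ⟨inferInstance, inferInstance⟩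
  rw [← hg]
  infer_instance

end Groth.Agent.Helper3.MonoImmB
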