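import Mathlib
import Groth.Agent.Helper3.MonoImmB
import Groth.Agent.Helper3.DvrRefl
import Groth.Agent.Helper5.DvrSpec

set_option backward.isDefEq.respectTransparency.types false
set_option maxHeartbeats 4000000
set_option synthInstance.maxHeartbeats 400000
set_option autoImplicit false
universe u
open CategoryTheory CategoryTheory.Limits AlgebraicGeometry TopologicalSpace Opposite

namespace Groth.Agent.Helper3.MonoImmC
open Groth.Agent.Helper3.MonoImmB

/-- The DVR argument: in a separated model `T₀` of an open `Y₀` of `Y`, points of the fibre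
over `f y` that are specializations of points of `Y₀` lie in `Y₀`. -/
theorem dvr_arg {X Y : Scheme.{u}} (f : Y ⟶ X) [Mono f] (hb : DvrLift f)
    (T₀ : Scheme.{u}) [IsLocallyNoetherian T₀] (ν₀ : T₀ ⟶ X) [IsSeparated ν₀]
    (Y₀ : Y.Opens) (j₀ : (Y₀ : Scheme.{u}) ⟶ T₀) [LocallyOfFiniteType j₀]
    (hcomm : j₀ ≫ ν₀ = Y₀.ι ≫ f) (y : Y) (hy : y ∈ Y₀) (c : T₀) (y₁ : ↥(Y₀ : Scheme.{u}))
    (hsp : j₀ y₁ ⤳ c) (hc : ν₀ c = f y) : c ∈ Set.range j₀ := by
  have hinj : Function.Injective f := Groth.Agent.Helper3.DvrRefl.injective_of_mono f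
  by_cases hne : c = j₀ y₁
  · exact ⟨y₁, hne.symm⟩
  obtain ⟨A, h, hdvr, hcl, w⟩ := Groth.Agent.Helper5.DvrSpec.main j₀ y₁ c hsp hne
  -- closed field point lifts
  have hcl' : (Spec.map (CommRingCat.ofHom (IsLocalRing.residue A)) ≫ h ≫ ν₀)
      (IsLocalRing.closedPoint (IsLocalRing.ResidueField A)) = f y := by
    haveI : IsLocalHom (CommRingCat.ofHom (IsLocalRing.residue A)).hom :=
      inferInstanceAs (IsLocalHom (IsLocalRing.residue A))
    rw [Scheme.Hom.comp_apply, Spec_closedPoint, Scheme.Hom.comp_apply]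
    show ν₀ (h (IsLocalRing.closedPoint A)) = f y
    rw [hcl, hc]
  obtain ⟨l₀, hl₀⟩ := Groth.Agent.Helper3.MonoRes.exists_lift_field_point f y
    (IsLocalRing.ResidueField A) (Spec.map (CommRingCat.ofHom (IsLocalRing.residue A)) ≫ h ≫ ν₀)
    hcl'
  let K := (Y₀ : Scheme.{u}).residueField y₁
  let S : ValuativeCommSq f :=
    { R := A
      K := K
      i₁ := (Y₀ : Scheme.{u}).fromSpecResidueField y₁ ≫ Y₀.ι
      i₂ := h ≫ ν₀
      commSq := ⟨by
        rw [Category.assoc, ← hcomm, ← reassoc_of% w]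
        rfl⟩ }
  have hlift : S.commSq.HasLift := hb S hdvr ⟨l₀, hl₀⟩
  obtain ⟨⟨l, hl1, hl2⟩⟩ := hlift
  have hl1' : Spec.map (CommRingCat.ofHom (algebraMap A K)) ≫ l =
      (Y₀ : Scheme.{u}).fromSpecResidueField y₁ ≫ Y₀.ι := hl1
  have hl2' : l ≫ f = h ≫ ν₀ := hl2
  -- closed point goes to y
  have hlc : l (IsLocalRing.closedPoint A) = y := by
    apply hinj
    rw [← Scheme.Hom.comp_apply, hl2', Scheme.Hom.comp_apply, hcl, hc]
  -- l factors through Y₀
  have hlr : Set.range l ⊆ Set.range Y₀.ι := by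
    rintro _ ⟨a, rfl⟩
    have h1 : a ⤳ IsLocalRing.closedPoint A := IsLocalRing.specializes_closedPoint (R := A) a
    have h2 := h1.map l.continuous
    rw [hlc] at h2
    have : l a ∈ Y₀ := h2.mem_open Y₀.2 hy
    simpa using this
  let l' : Spec (CommRingCat.of A) ⟶ (Y₀ : Scheme.{u}) := IsOpenImmersion.lift Y₀.ι l hlr
  have hl' : l' ≫ Y₀.ι = l := IsOpenImmersion.lift_fac _ _ _
  -- uniqueness
  let S' : ValuativeCommSq ν₀ :=
    { R := A
      K := K
      i₁ := (Y₀ : Scheme.{u}).fromSpecResidueField y₁ ≫ j₀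
      i₂ := h ≫ ν₀
      commSq := ⟨by
        rw [← w, Category.assoc]
        rfl⟩ }
  have huniq : Subsingleton S'.commSq.LiftStruct := IsSeparated.valuativeCriterion ν₀ S'
  let L1 : S'.commSq.LiftStruct := ⟨h, w, rfl⟩
  let L2 : S'.commSq.LiftStruct := ⟨l' ≫ j₀, by
    have : Spec.map (CommRingCat.ofHom (algebraMap A K)) ≫ l' =
        (Y₀ : Scheme.{u}).fromSpecResidueField y₁ := by
      rw [← cancel_mono Y₀.ι, Category.assoc, hl', hl1']
    show Spec.map (CommRingCat.ofHom (algebraMap A K)) ≫ l' ≫ j₀ = _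
    rw [reassoc_of% this], by
    show (l' ≫ j₀) ≫ ν₀ = h ≫ ν₀
    rw [Category.assoc, hcomm, reassoc_of% hl', hl2']⟩
  have heq : L1 = L2 := Subsingleton.elim _ _
  have heq' : h = l' ≫ j₀ := congrArg CommSq.LiftStruct.l heq
  refine ⟨l' (IsLocalRing.closedPoint A), ?_⟩
  rw [← Scheme.Hom.comp_apply, ← heq', hcl]

end Groth.Agent.Helper3.MonoImmC
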