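import Mathlib

set_option backward.isDefEq.respectTransparency.types false
set_option maxHeartbeats 4000000
set_option synthInstance.maxHeartbeats 400000
set_option autoImplicit false
universe u
open CategoryTheory CategoryTheory.Limits AlgebraicGeometry TopologicalSpace Opposite

namespace Groth.Agent.Helper3.MonoImmD

/-- If `S'_r → S_r` is bijective and `B = S_r`, then `B = S'_r`. -/
theorem isLocalization_away_of_bijective {S' S B : Type u} [CommRing S'] [CommRing S] [CommRing B]
    [Algebra S' S] [Algebra S B] [Algebra S' B] [IsScalarTower S' S B] (r : S')
    [IsLocalization.Away (algebraMap S' S r) B]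
    (hbij : Function.Bijective (Localization.awayMap (algebraMap S' S) r)) :
    IsLocalization.Away r B := by
  have hu : IsUnit (algebraMap S' B r) := by
    rw [IsScalarTower.algebraMap_apply S' S B]
    exact IsLocalization.Away.algebraMap_isUnit (algebraMap S' S r)
  let g : Localization.Away r →+* B := IsLocalization.Away.lift r hu
  let e2 : Localization.Away (algebraMap S' S r) ≃ₐ[S] B :=
    IsLocalization.algEquiv (Submonoid.powers (algebraMap S' S r)) _ _
  have hg : g = (e2 : Localization.Away (algebraMap S' S r) →+* B).comp
      (Localization.awayMap (algebraMap S' S) r) := by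
    apply IsLocalization.ringHom_ext (Submonoid.powers r)
    ext x
    simp only [g, IsLocalization.Away.lift_comp, RingHom.comp_apply]
    simp only [Localization.awayMap, IsLocalization.Away.map, IsLocalization.map_eq]
    rw [IsScalarTower.algebraMap_apply S' S B]
    exact (e2.commutes (algebraMap S' S x)).symm
  have hgb : Function.Bijective g := by
    rw [hg]
    exact e2.bijective.comp hbij
  have hgc : ∀ x : S', g (algebraMap S' (Localization.Away r) x) = algebraMap S' B x := by
    intro x
    simp [g]
  let gA : Localization.Away r →ₐ[S'] B :=
    { g with commutes' := hgc }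
  exact IsLocalization.isLocalization_of_algEquiv (Submonoid.powers r)
    (AlgEquiv.ofBijective gA hgb)

end Groth.Agent.Helper3.MonoImmD
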