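import Mathlib
import Groth.Agent.Helper3.MonoImmC
import Groth.Agent.Helper3.MonoImmD

set_option backward.isDefEq.respectTransparency.types false
set_option maxHeartbeats 4000000
set_option synthInstance.maxHeartbeats 400000
set_option autoImplicit false
universe u
open CategoryTheory CategoryTheory.Limits AlgebraicGeometry TopologicalSpace Opposite

namespace Groth.Agent.Helper3.MonoImmE
open Groth.Agent.Helper3.MonoImmB

/-- ZMT data at a point. -/
theorem zmt_data {X Y : Scheme.{u}} (f : Y ⟶ X) [LocallyOfFiniteType f] [LocallyQuasiFinite f]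
    {V' : X.Opens} (hV' : IsAffineOpen V') {W : Y.Opens} (hW : IsAffineOpen W)
    (hle : W ≤ f ⁻¹ᵁ V') (y : Y) (hyW : y ∈ W) :
    ∃ (A' : CommRingCat.{u}) (ψ : Γ(X, V') ⟶ A') (incl : A' ⟶ Γ(Y, W)) (r : A'),
      ψ ≫ incl = f.appLE V' W hle ∧ ψ.hom.Finite ∧ Function.Injective incl.hom ∧
      y ∈ Y.basicOpen (incl.hom r) ∧
      Function.Bijective (Localization.awayMap incl.hom r) := by
  set φ := f.appLE V' W hle with hφ
  letI : Algebra Γ(X, V') Γ(Y, W) := φ.hom.toAlgebra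
  haveI : Algebra.FiniteType Γ(X, V') Γ(Y, W) := f.finiteType_appLE hV' hW hle
  set p : PrimeSpectrum Γ(Y, W) := hW.primeIdealOf ⟨y, hyW⟩ with hp
  haveI hqf : Algebra.QuasiFiniteAt Γ(X, V') p.asIdeal :=
    (f.quasiFiniteAt y).quasiFiniteAt hW hV' hle hyW
  obtain ⟨S', hS', r, hrp, hbij⟩ :=
    Algebra.QuasiFiniteAt.exists_fg_and_exists_notMem_and_awayMap_bijective
      (R := Γ(X, V')) (S := Γ(Y, W)) p.asIdeal
  refine ⟨CommRingCat.of S', CommRingCat.ofHom (algebraMap Γ(X, V') S'),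
    CommRingCat.ofHom S'.val.toRingHom, r, ?_, ?_, ?_, ?_, hbij⟩
  · ext x
    rfl
  · show (algebraMap Γ(X, V') S').Finite
    rw [RingHom.finite_algebraMap]
    exact ⟨(Submodule.fg_top _).mpr hS'⟩
  · exact Subtype.val_injective
  · show y ∈ Y.basicOpen (r : Γ(Y, W))
    have h1 : hW.fromSpec p = y := hW.fromSpec_primeIdealOf ⟨y, hyW⟩
    rw [← h1]
    show p ∈ hW.fromSpec ⁻¹ᵁ Y.basicOpen (r : Γ(Y, W))
    rw [hW.fromSpec_preimage_basicOpen]
    exact hrp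

/-- The model `T₀ = Spec A'` with its open piece `Y₀ = D(r)`. -/
theorem model_of_data {X Y : Scheme.{u}} (f : Y ⟶ X)
    {V' : X.Opens} (hV' : IsAffineOpen V') {W : Y.Opens} (hW : IsAffineOpen W)
    (hle : W ≤ f ⁻¹ᵁ V')
    (A' : CommRingCat.{u}) (ψ : Γ(X, V') ⟶ A') (incl : A' ⟶ Γ(Y, W)) (r : A')
    (h1 : ψ ≫ incl = f.appLE V' W hle)
    (h5 : Function.Bijective (Localization.awayMap incl.hom r)) :
    ∃ j₀ : (Y.basicOpen (incl.hom r) : Scheme.{u}) ⟶ Spec A', IsOpenImmersion j₀ ∧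
      j₀ ≫ Spec.map ψ ≫ hV'.fromSpec = (Y.basicOpen (incl.hom r)).ι ≫ f ∧
      Set.range j₀ = (PrimeSpectrum.basicOpen r : Set (PrimeSpectrum A')) := by
  set r' : Γ(Y, W) := incl.hom r with hr'
  set Y₀ : Y.Opens := Y.basicOpen r' with hY₀def
  have hY₀ : IsAffineOpen Y₀ := hW.basicOpen r'
  let ρ : Γ(Y, W) ⟶ Γ(Y, Y₀) := Y.presheaf.map (homOfLE (Y.basicOpen_le r')).op
  letI : Algebra A' Γ(Y, W) := incl.hom.toAlgebra
  letI : Algebra A' Γ(Y, Y₀) := (incl ≫ ρ).hom.toAlgebra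
  haveI : IsScalarTower A' Γ(Y, W) Γ(Y, Y₀) := IsScalarTower.of_algebraMap_eq' rfl
  haveI : IsLocalization.Away (algebraMap A' Γ(Y, W) r) Γ(Y, Y₀) :=
    hW.isLocalization_basicOpen r'
  haveI : IsLocalization.Away r Γ(Y, Y₀) :=
    MonoImmD.isLocalization_away_of_bijective (S' := A') (S := Γ(Y, W)) (B := Γ(Y, Y₀)) r h5
  haveI hoi : IsOpenImmersion (Spec.map (CommRingCat.ofHom (algebraMap A' Γ(Y, Y₀)))) :=
    IsOpenImmersion.of_isLocalization r
  have halg : CommRingCat.ofHom (algebraMap A' Γ(Y, Y₀)) = incl ≫ ρ := rfl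
  rw [halg] at hoi
  refine ⟨hY₀.isoSpec.hom ≫ Spec.map (incl ≫ ρ), inferInstance, ?_, ?_⟩
  · have hle' : Y₀ ≤ f ⁻¹ᵁ V' := (Y.basicOpen_le r').trans hle
    have h2 : ψ ≫ incl ≫ ρ = f.appLE V' Y₀ hle' := by
      rw [← Category.assoc, h1, Scheme.Hom.appLE_map]
    rw [Category.assoc, ← Spec.map_comp_assoc, h2,
      IsAffineOpen.SpecMap_appLE_fromSpec f hV' hY₀ hle']
    rw [IsAffineOpen.fromSpec, Category.assoc, Iso.hom_inv_id_assoc]
  · have hsurj : Function.Surjective hY₀.isoSpec.hom := hY₀.isoSpec.hom.homeomorph.surjective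
    rw [Scheme.Hom.comp_base, TopCat.coe_comp, Set.range_comp,
      Set.range_eq_univ.mpr hsurj, Set.image_univ]
    exact PrimeSpectrum.localization_away_comap_range Γ(Y, Y₀) r

end Groth.Agent.Helper3.MonoImmE
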