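import Mathlib
import Groth.Agent.Helper3.MonoImmE
import Groth.Agent.Helper3.MonoImmA

set_option backward.isDefEq.respectTransparency.types false
set_option maxHeartbeats 4000000
set_option synthInstance.maxHeartbeats 400000
set_option autoImplicit false
universe u
open CategoryTheory CategoryTheory.Limits AlgebraicGeometry TopologicalSpace Opposite

namespace Groth.Agent.Helper3.MonoImmF
open Groth.Agent.Helper3.MonoImmB

theorem chart_aux {X Y : Scheme.{u}} [IsLocallyNoetherian X] (f : Y ⟶ X) [LocallyOfFiniteType f]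
    [Mono f] (hb : DvrLift f) (hrefl : ∀ y₁ y₀ : Y, f y₁ ⤳ f y₀ → y₁ ⤳ y₀)
    {V' : X.Opens} (hV' : IsAffineOpen V') {W : Y.Opens} (hW : IsAffineOpen W)
    (hle : W ≤ f ⁻¹ᵁ V') (y : Y) (hxV' : f y ∈ V')
    (A' : CommRingCat.{u}) (ψ : Γ(X, V') ⟶ A') (incl : A' ⟶ Γ(Y, W)) (r : A')
    (h1 : ψ ≫ incl = f.appLE V' W hle) (h2 : ψ.hom.Finite)
    (h3 : Function.Injective incl.hom) (Y₀ : Y.Opens) (hY₀ : Y₀ = Y.basicOpen (incl.hom r))
    (h4 : y ∈ Y₀)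
    (j₀ : (Y₀ : Scheme.{u}) ⟶ Spec A') [IsOpenImmersion j₀]
    (hcomm : j₀ ≫ Spec.map ψ ≫ hV'.fromSpec = Y₀.ι ≫ f)
    (hrange : Set.range j₀ = (PrimeSpectrum.basicOpen r : Set (PrimeSpectrum A'))) :
    ∃ V₀ : X.Opens, f y ∈ V₀ ∧
      ∀ y₁ : Y, y₁ ∈ Y₀ → ∀ v ∈ V₀, f y₁ ⤳ v → v ∈ Set.range f := by
  let ν₀ : Spec A' ⟶ X := Spec.map ψ ≫ hV'.fromSpec
  have hν₀ : ν₀ = Spec.map ψ ≫ hV'.fromSpec := rfl
  -- Noetherian
  haveI : IsNoetherianRing Γ(X, V') := IsLocallyNoetherian.component_noetherian ⟨V', hV'⟩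
  haveI : IsNoetherianRing A' := by
    letI : Algebra Γ(X, V') A' := ψ.hom.toAlgebra
    haveI : Module.Finite Γ(X, V') A' := h2
    exact IsNoetherianRing.of_finite Γ(X, V') A'
  haveI : IsFinite (Spec.map ψ) := (IsFinite.SpecMap_iff ψ).mpr h2
  have hclosedmap : IsClosedMap (Spec.map ψ) := (Spec.map ψ).isClosedMap
  -- the square for W
  have hsqW : hW.fromSpec ≫ f = Spec.map incl ≫ ν₀ := by
    rw [hν₀, ← Spec.map_comp_assoc, h1]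
    exact (IsAffineOpen.SpecMap_appLE_fromSpec f hV' hW hle).symm
  -- key claim via the DVR argument
  have key : ∀ c : ↥(Spec A'), ν₀ c = f y → c ∈ Set.range j₀ := by
    intro c hc
    obtain ⟨pmin, hpmin, hpc⟩ := Ideal.exists_minimalPrimes_le (bot_le : ⊥ ≤ c.asIdeal)
    obtain ⟨p', hp', hp'c⟩ := Ideal.exists_comap_eq_of_mem_minimalPrimes_of_injective h3 pmin hpmin
    let w : ↥(Spec Γ(Y, W)) := ⟨p', hp'⟩
    have hπw : (Spec.map incl) w ⤳ c := by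
      haveI : (p'.comap incl.hom).IsPrime := Ideal.comap_isPrime _ _
      have hle2 : (⟨p'.comap incl.hom, inferInstance⟩ : PrimeSpectrum A') ≤ c := by
        show p'.comap incl.hom ≤ c.asIdeal
        rw [hp'c]; exact hpc
      exact (PrimeSpectrum.le_iff_specializes _ _).mp hle2
    have h6 : f (hW.fromSpec w) = ν₀ ((Spec.map incl) w) := by
      rw [← Scheme.Hom.comp_apply, ← Scheme.Hom.comp_apply, hsqW]
    have h7 : f (hW.fromSpec w) ⤳ f y := by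
      rw [h6, ← hc]
      exact hπw.map ν₀.continuous
    have h8 : hW.fromSpec w ⤳ y := hrefl _ _ h7
    have h9 : hW.fromSpec w ∈ Y₀ := h8.mem_open Y₀.2 h4
    have h10 : w ∈ hW.fromSpec ⁻¹ᵁ Y₀ := h9
    rw [hY₀, hW.fromSpec_preimage_basicOpen] at h10
    have h11 : (Spec.map incl) w ∈ Set.range j₀ := by
      rw [hrange]
      exact h10
    obtain ⟨y₁, hy₁⟩ := h11
    exact MonoImmC.dvr_arg f hb (Spec A') ν₀ Y₀ j₀ hcomm y h4 c y₁ (by rw [hy₁]; exact hπw) hc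
  -- the closed set F
  have hFclosed : IsClosed ((Spec.map ψ) '' (Set.range j₀)ᶜ) :=
    hclosedmap _ (j₀.isOpenEmbedding.isOpen_range.isClosed_compl)
  let G : (Spec Γ(X, V')).Opens := ⟨((Spec.map ψ) '' (Set.range j₀)ᶜ)ᶜ, hFclosed.isOpen_compl⟩
  refine ⟨hV'.fromSpec ''ᵁ G, ?_, ?_⟩
  · refine ⟨hV'.primeIdealOf ⟨f y, hxV'⟩, ?_, hV'.fromSpec_primeIdealOf ⟨f y, hxV'⟩⟩
    rintro ⟨c, hcn, hcx⟩
    apply hcn
    apply key
    rw [hν₀, Scheme.Hom.comp_apply, hcx]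
    exact hV'.fromSpec_primeIdealOf ⟨f y, hxV'⟩
  · rintro y₁ hy₁ v ⟨q, hqG, rfl⟩ hsp
    let t₁ : ↥(Spec A') := j₀ ⟨y₁, hy₁⟩
    have ht₁ : ν₀ t₁ = f y₁ := by
      show ν₀ (j₀ ⟨y₁, hy₁⟩) = f y₁
      rw [← Scheme.Hom.comp_apply, hcomm, Scheme.Hom.comp_apply]
      rfl
    have hsp2 : (Spec.map ψ) t₁ ⤳ q := by
      have : hV'.fromSpec ((Spec.map ψ) t₁) ⤳ hV'.fromSpec q := by
        rw [← Scheme.Hom.comp_apply]
        show ν₀ t₁ ⤳ _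
        rw [ht₁]; exact hsp
      exact (hV'.fromSpec.isOpenEmbedding.isInducing.specializes_iff).mp this
    obtain ⟨c, hc1, hc2⟩ := hclosedmap.specializingMap hsp2
    have hcr : c ∈ Set.range j₀ := by
      by_contra hcon
      exact hqG ⟨c, hcon, hc2⟩
    obtain ⟨y₂, rfl⟩ := hcr
    refine ⟨Y₀.ι y₂, ?_⟩
    rw [← Scheme.Hom.comp_apply, ← hcomm, Scheme.Hom.comp_apply, Scheme.Hom.comp_apply, hc2]
    rfl

theorem chart {X Y : Scheme.{u}} [IsLocallyNoetherian X] (f : Y ⟶ X) [LocallyOfFiniteType f]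
    [Mono f] (hb : DvrLift f) (hrefl : ∀ y₁ y₀ : Y, f y₁ ⤳ f y₀ → y₁ ⤳ y₀) (y : Y) :
    ∃ (Y₀ : Y.Opens) (V₀ : X.Opens), y ∈ Y₀ ∧ f y ∈ V₀ ∧
      ∀ y₁ : Y, y₁ ∈ Y₀ → ∀ v ∈ V₀, f y₁ ⤳ v → v ∈ Set.range f := by
  haveI : UniversallyInjective f := inferInstance
  haveI : LocallyQuasiFinite f := inferInstance
  obtain ⟨_, ⟨V', hV' : IsAffineOpen V', rfl⟩, hxV', -⟩ :=
    X.isBasis_affineOpens.exists_subset_of_mem_open (Set.mem_univ (f y)) isOpen_univ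
  obtain ⟨_, ⟨W, hW : IsAffineOpen W, rfl⟩, hyW, hle : W ≤ f ⁻¹ᵁ V'⟩ :=
    Y.isBasis_affineOpens.exists_subset_of_mem_open (show y ∈ (f ⁻¹ᵁ V' : Set Y) from hxV')
      (f ⁻¹ᵁ V').2
  obtain ⟨A', ψ, incl, r, h1, h2, h3, h4, h5⟩ := MonoImmE.zmt_data f hV' hW hle y hyW
  obtain ⟨j₀, hj₀oi, hcomm, hrange⟩ := MonoImmE.model_of_data f hV' hW hle A' ψ incl r h1 h5
  obtain ⟨V₀, hV₀1, hV₀2⟩ := chart_aux f hb hrefl hV' hW hle y hxV' A' ψ incl r h1 h2 h3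
    (Y.basicOpen (incl.hom r)) rfl h4 j₀ hcomm hrange
  exact ⟨Y.basicOpen (incl.hom r), V₀, h4, hV₀1, hV₀2⟩

end Groth.Agent.Helper3.MonoImmF
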