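import Mathlib
import Groth.Agent.Helper3.MonoRes
import Groth.Agent.Helper3.DvrRefl
set_option backward.isDefEq.respectTransparency.types false
set_option maxHeartbeats 4000000
set_option synthInstance.maxHeartbeats 400000
set_option autoImplicit false
universe u

open AlgebraicGeometry CategoryTheory CategoryTheory.Limits

namespace Groth.Agent.Helper3.MonoQC

/-- the dense-lift hypothesis -/
def DenseLift {X Y : Scheme.{u}} (f : Y ⟶ X) : Prop :=
  ∀ (A : Type u) [CommRing A] [IsDomain A] (s : Spec (CommRingCat.of A) ⟶ X)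
    (D : Set ↥(Spec (CommRingCat.of A))),
    Dense D →
    (∀ p ∈ D, ∃ l : Spec ((Spec (CommRingCat.of A)).residueField p) ⟶ Y,
        l ≫ f = (Spec (CommRingCat.of A)).fromSpecResidueField p ≫ s) →
      ∃ U : (Spec (CommRingCat.of A)).Opens, (U : Set ↥(Spec (CommRingCat.of A))).Nonempty ∧
        ∃ l : (U : Scheme.{u}) ⟶ Y, l ≫ f = U.ι ≫ s

theorem irr_step {X Y : Scheme.{u}} (f : Y ⟶ X) [Mono f] (hc : DenseLift f)
    {R : Type u} [CommRing R] [IsNoetherianRing R] (ι : Spec (.of R) ⟶ X)
    (P : Ideal R) [P.IsPrime]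
    (IH : ∀ T' : Set ↥(Spec (.of R)), IsClosed T' →
      T' ⊂ (PrimeSpectrum.zeroLocus (P : Set R) : Set (PrimeSpectrum R)) →
      IsCompact (f ⁻¹' (ι '' T'))) :
    IsCompact (f ⁻¹' (ι '' (PrimeSpectrum.zeroLocus (P : Set R) : Set (PrimeSpectrum R)))) := by
  have hfinj : Function.Injective f := Groth.Agent.Helper3.DvrRefl.injective_of_mono f
  let qS : Spec (.of (R ⧸ P)) ⟶ Spec (.of R) := Spec.map (CommRingCat.ofHom (Ideal.Quotient.mk P))
  have hq_emb : Topology.IsClosedEmbedding qS :=
    PrimeSpectrum.isClosedEmbedding_comap_of_surjective _ _ Ideal.Quotient.mk_surjective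
  have hq_range : Set.range qS = (PrimeSpectrum.zeroLocus (P : Set R) : Set (PrimeSpectrum R)) := by
    have := range_comap_of_surjective _ (Ideal.Quotient.mk P)
      Ideal.Quotient.mk_surjective
    rw [Ideal.mk_ker] at this
    exact this
  let s : Spec (.of (R ⧸ P)) ⟶ X := qS ≫ ι
  have hs : ∀ p, s p = ι (qS p) := fun p => Scheme.Hom.comp_apply _ _ _
  let D : Set ↥(Spec (.of (R ⧸ P))) := {p | s p ∈ Set.range f}
  rw [← hq_range]
  rw [← hq_range] at IH
  by_cases hD : Dense D
  · have hlift : ∀ p ∈ D, ∃ l : Spec ((Spec (.of (R ⧸ P))).residueField p) ⟶ Y,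
        l ≫ f = (Spec (.of (R ⧸ P))).fromSpecResidueField p ≫ s := by
      rintro p ⟨y, hy⟩
      have ht : ((Spec (.of (R ⧸ P))).fromSpecResidueField p ≫ s)
          (IsLocalRing.closedPoint ((Spec (.of (R ⧸ P))).residueField p)) = f y := by
        rw [Scheme.Hom.comp_apply, Scheme.fromSpecResidueField_apply]
        exact hy.symm
      exact Groth.Agent.Helper3.MonoRes.exists_lift_field_point f y
        ((Spec (.of (R ⧸ P))).residueField p)
        ((Spec (.of (R ⧸ P))).fromSpecResidueField p ≫ s) ht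
    obtain ⟨U, hUne, l, hl⟩ := hc (R ⧸ P) s D hD hlift
    let T' : Set ↥(Spec (.of R)) := qS '' (U : Set ↥(Spec (.of (R ⧸ P))))ᶜ
    have hT'c : IsClosed T' := hq_emb.isClosedMap _ U.isOpen.isClosed_compl
    have hT'sub : T' ⊂ Set.range qS := by
      constructor
      · exact Set.image_subset_range _ _
      · intro hsub
        obtain ⟨u, hu⟩ := hUne
        obtain ⟨v, hv, hvu⟩ := hsub ⟨u, rfl⟩
        exact hv (hq_emb.injective hvu ▸ hu)
    have hcompU : IsCompact (Set.range l) := by
      haveI : CompactSpace ↥(U : Scheme.{u}) :=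
        isCompact_iff_compactSpace.mp
          (TopologicalSpace.NoetherianSpace.isCompact (α := PrimeSpectrum (R ⧸ P)) _)
      exact isCompact_range l.continuous
    have hlf : ∀ u : ↥(U : Scheme.{u}), f (l u) = ι (qS u.1) := by
      intro u
      rw [← Scheme.Hom.comp_apply, hl, Scheme.Hom.comp_apply, hs]
      rfl
    have key : f ⁻¹' (ι '' Set.range qS) = f ⁻¹' (ι '' T') ∪ Set.range l := by
      ext y
      constructor
      · rintro ⟨_, ⟨p, rfl⟩, hy⟩
        by_cases hp : p ∈ U
        · right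
          refine ⟨⟨p, hp⟩, hfinj ?_⟩
          rw [hlf]
          exact hy
        · left
          exact ⟨qS p, ⟨p, hp, rfl⟩, hy⟩
      · rintro (⟨t, ht, hy⟩ | ⟨u, rfl⟩)
        · exact ⟨t, hT'sub.1 ht, hy⟩
        · exact ⟨qS u.1, ⟨u.1, rfl⟩, (hlf u).symm⟩
    rw [key]
    exact (IH T' hT'c hT'sub).union hcompU
  · let T' : Set ↥(Spec (.of R)) := qS '' (closure D)
    have hT'c : IsClosed T' := hq_emb.isClosedMap _ isClosed_closure
    have hT'sub : T' ⊂ Set.range qS := by
      constructor
      · exact Set.image_subset_range _ _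
      · intro hsub
        apply hD
        rw [dense_iff_closure_eq, Set.eq_univ_iff_forall]
        intro p
        obtain ⟨v, hv, hvu⟩ := hsub ⟨p, rfl⟩
        exact hq_emb.injective hvu ▸ hv
    have key : f ⁻¹' (ι '' Set.range qS) = f ⁻¹' (ι '' T') := by
      ext y
      constructor
      · rintro ⟨_, ⟨p, rfl⟩, hy⟩
        refine ⟨qS p, ⟨p, subset_closure ?_, rfl⟩, hy⟩
        show s p ∈ Set.range f
        rw [hs, hy]
        exact ⟨y, rfl⟩
      · rintro ⟨t, ht, hy⟩
        exact ⟨t, hT'sub.1 ht, hy⟩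
    rw [key]
    exact IH T' hT'c hT'sub

end Groth.Agent.Helper3.MonoQC

namespace Groth.Agent.Helper3.MonoQC

open TopologicalSpace in
theorem compact_preimage {X Y : Scheme.{u}} (f : Y ⟶ X) [Mono f] (hc : DenseLift f)
    {R : Type u} [CommRing R] [IsNoetherianRing R] (ι : Spec (.of R) ⟶ X)
    (T : Closeds (PrimeSpectrum R)) :
    IsCompact (f ⁻¹' ((fun a : PrimeSpectrum R => ι a) '' (T : Set (PrimeSpectrum R)))) := by
  induction T using WellFoundedLT.induction with
  | ind T IH =>
  by_cases hirr : IsIrreducible (T : Set (PrimeSpectrum R))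
  · have hP := PrimeSpectrum.isIrreducible_iff_vanishingIdeal_isPrime.mp hirr
    have hT : (T : Set (PrimeSpectrum R)) =
        PrimeSpectrum.zeroLocus (PrimeSpectrum.vanishingIdeal (T : Set (PrimeSpectrum R)) : Set R) := by
      rw [PrimeSpectrum.zeroLocus_vanishingIdeal_eq_closure, T.isClosed.closure_eq]
    rw [hT]
    refine irr_step f hc ι (PrimeSpectrum.vanishingIdeal (T : Set (PrimeSpectrum R))) ?_
    intro T' hT'c hT'sub
    rw [← hT] at hT'sub
    exact IH ⟨T', hT'c⟩ (SetLike.coe_ssubset_coe.mp hT'sub)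
  · rw [IsIrreducible, not_and_or] at hirr
    rcases hirr with hne | hpre
    · have : (T : Set (PrimeSpectrum R)) = ∅ := Set.not_nonempty_iff_eq_empty.mp hne
      rw [this, Set.image_empty, Set.preimage_empty]
      exact isCompact_empty
    · rw [isPreirreducible_iff_isClosed_union_isClosed] at hpre
      push Not at hpre
      obtain ⟨z₁, z₂, hz₁, hz₂, hsub, h1, h2⟩ := hpre
      have e : (T : Set (PrimeSpectrum R)) = ((T : Set (PrimeSpectrum R)) ∩ z₁) ∪
          ((T : Set (PrimeSpectrum R)) ∩ z₂) := by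
        rw [← Set.inter_union_distrib_left]
        exact (Set.inter_eq_left.mpr hsub).symm
      have hlt₁ : (⟨(T : Set (PrimeSpectrum R)) ∩ z₁, T.isClosed.inter hz₁⟩ : Closeds _) < T := by
        rw [← SetLike.coe_ssubset_coe]
        refine ⟨Set.inter_subset_left, fun h => h1 (fun x hx => (h hx).2)⟩
      have hlt₂ : (⟨(T : Set (PrimeSpectrum R)) ∩ z₂, T.isClosed.inter hz₂⟩ : Closeds _) < T := by
        rw [← SetLike.coe_ssubset_coe]
        refine ⟨Set.inter_subset_left, fun h => h2 (fun x hx => (h hx).2)⟩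
      rw [e, Set.image_union, Set.preimage_union]
      exact (IH _ hlt₁).union (IH _ hlt₂)

open TopologicalSpace in
theorem main {X Y : Scheme.{u}} [IsLocallyNoetherian X]
    (f : Y ⟶ X) [Mono f] (hc : DenseLift f) : QuasiCompact f := by
  rw [quasiCompact_iff_forall_isAffineOpen]
  intro W hW
  haveI : IsNoetherianRing Γ(X, W) := IsLocallyNoetherian.component_noetherian ⟨W, hW⟩
  have := compact_preimage f hc (R := Γ(X, W)) hW.fromSpec ⊤
  have h2 : ((f ⁻¹ᵁ W : Y.Opens) : Set Y) = f ⁻¹' ((fun a : PrimeSpectrum Γ(X, W) => hW.fromSpec a) ''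
      ((⊤ : Closeds (PrimeSpectrum Γ(X, W))) : Set (PrimeSpectrum Γ(X, W)))) := by
    rw [Closeds.coe_top, Set.image_univ]
    show f ⁻¹' (W : Set X) = f ⁻¹' (Set.range hW.fromSpec)
    rw [hW.range_fromSpec]
  rw [h2]
  exact this

end Groth.Agent.Helper3.MonoQC
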