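import Mathlib
import Groth.Agent.Helper3.MonoImmF
import Groth.Agent.Helper3.MonoQC

set_option backward.isDefEq.respectTransparency.types false
set_option maxHeartbeats 4000000
set_option synthInstance.maxHeartbeats 400000
set_option autoImplicit false
universe u
open CategoryTheory CategoryTheory.Limits AlgebraicGeometry TopologicalSpace Opposite

namespace Groth.Agent.Helper3.MonoImm
open Groth.Agent.Helper3.MonoImmB

theorem refl_spec {X Y : Scheme.{u}} [IsLocallyNoetherian X] (f : Y ⟶ X) [Mono f]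
    (hb : DvrLift f) (y₁ y₀ : Y) (h : f y₁ ⤳ f y₀) : y₁ ⤳ y₀ := by
  let e := pullback.fst f (𝟙 X)
  haveI : IsIso e := inferInstance
  have hsnd : ∀ y : Y, (pullback.snd f (𝟙 X)) ((inv e) y) = f y := by
    intro y
    rw [← Scheme.Hom.comp_apply]
    have : inv e ≫ pullback.snd f (𝟙 X) = f := by
      rw [IsIso.inv_comp_eq]
      have := pullback.condition (f := f) (g := 𝟙 X)
      rw [Category.comp_id] at this
      exact this.symm
    rw [this]
  have h2 := Groth.Agent.Helper3.DvrRefl.lft_case f hb X (𝟙 X) ((inv e) y₀) ((inv e) y₁)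
    (by
      show (pullback.snd f (𝟙 X)) ((inv e) y₁) ⤳ (pullback.snd f (𝟙 X)) ((inv e) y₀)
      rw [hsnd, hsnd]; exact h)
  have h3 := h2.map e.continuous
  have he : ∀ y : Y, e ((inv e) y) = y := by
    intro y
    rw [← Scheme.Hom.comp_apply, IsIso.inv_hom_id]
    rfl
  rwa [he, he] at h3

theorem main {X Y : Scheme.{u}} [IsLocallyNoetherian X]
    (f : Y ⟶ X) [LocallyOfFinitePresentation f] [Mono f]
    (hb : DvrLift f) (hc : Groth.Agent.Helper3.MonoQC.DenseLift f) : IsImmersion f := by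
  haveI : QuasiCompact f := Groth.Agent.Helper3.MonoQC.main f hc
  have hrefl : ∀ y₁ y₀ : Y, f y₁ ⤳ f y₀ → y₁ ⤳ y₀ := refl_spec f hb
  choose Y₀ V₀ hY₀ hV₀ hch using fun y : Y => MonoImmF.chart f hb hrefl y
  choose V₁ hV₁ hV₁' using fun y : Y => MonoImmA.inducing_at f hrefl y (Y₀ y) (hY₀ y)
  let U : X.Opens := ⨆ y : Y, V₀ y ⊓ V₁ y
  refine immersion_of_LC f hb U ?_ ?_
  · rintro _ ⟨y, rfl⟩
    exact Opens.mem_iSup.mpr ⟨y, hV₀ y, hV₁ y⟩
  · rintro _ ⟨y₁, rfl⟩ v hv hsp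
    obtain ⟨y, hvy⟩ := Opens.mem_iSup.mp hv
    have h1 : f y₁ ∈ V₁ y := hsp.mem_open (V₁ y).2 hvy.2
    have h2 : y₁ ∈ Y₀ y := hV₁' y h1
    exact hch y y₁ h2 v hvy.1 hsp

end Groth.Agent.Helper3.MonoImm
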