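import Mathlib

/-!
Standard smooth / standard étale affine charts over a prescribed affine open of the target.
-/

set_option autoImplicit false

namespace Groth.Agent.Helper3.StdChart

open AlgebraicGeometry CategoryTheory Limits

universe u

variable {X Y : Scheme.{u}}

lemma ι_comp_eq (f : X ⟶ Y) {V : X.Opens} (hV : IsAffineOpen V) {U : Y.Opens}
    (hU : IsAffineOpen U) (hVU : V ≤ f ⁻¹ᵁ U) :
    V.ι ≫ f = hV.isoSpec.hom ≫ Spec.map (f.appLE U V hVU) ≫ hU.fromSpec := by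
  rw [IsAffineOpen.SpecMap_appLE_fromSpec f hU hV hVU, ← Category.assoc]
  congr 1
  rw [← hV.isoSpec_inv_ι, Iso.hom_inv_id_assoc]

set_option backward.defeqAttrib.useBackward true in
set_option backward.isDefEq.respectTransparency false in
lemma exists_isStandardSmooth_chart (f : X ⟶ Y) [Smooth f] (x : X) (U : Y.Opens)
    (hU : IsAffineOpen U) (hxU : f x ∈ U) :
    ∃ (V : X.Opens) (_ : IsAffineOpen V) (_ : x ∈ V) (hVU : V ≤ f ⁻¹ᵁ U),
      (f.appLE U V hVU).hom.IsStandardSmooth := by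
  obtain ⟨_, ⟨V, hV, rfl⟩, hxV, hVU⟩ :=
    X.isBasis_affineOpens.exists_subset_of_mem_open hxU (U.2.preimage f.continuous)
  have := f.finitePresentation_appLE hU hV hVU
  have hsm := f.smooth_appLE hU hV hVU
  algebraize [(f.appLE U V hVU).hom]
  have : Algebra.IsSmoothAt Γ(Y, U) (hV.primeIdealOf ⟨x, hxV⟩).asIdeal := inferInstance
  obtain ⟨r, hrx, hr⟩ := Algebra.IsSmoothAt.exists_notMem_isStandardSmooth Γ(Y, U)
    (hV.primeIdealOf ⟨x, hxV⟩).asIdeal
  refine ⟨_, hV.basicOpen r, ?_, (X.basicOpen_le r).trans hVU, ?_⟩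
  · rwa [← PrimeSpectrum.mem_basicOpen, IsAffineOpen.primeIdealOf,
      ← hV.fromSpec_preimage_basicOpen, Scheme.Hom.mem_preimage, ← Scheme.Hom.comp_apply,
      IsAffineOpen.isoSpec_hom, IsAffineOpen.toSpecΓ_fromSpec] at hrx
  · have := hV.isLocalization_basicOpen r
    rw [← RingHom.isStandardSmooth_algebraMap] at hr
    convert!
      RingHom.isStandardSmooth_respectsIso.1 _
        (IsLocalization.algEquiv (.powers r) _ Γ(X, X.basicOpen r)).toRingEquiv hr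
    ext
    dsimp
    simp only [IsScalarTower.algebraMap_apply Γ(Y, U) Γ(X, V) (Localization _),
      IsLocalization.map_eq]
    simp only [RingHom.algebraMap_toAlgebra, RingHomCompTriple.comp_apply, ← ConcreteCategory.comp_apply,
      Scheme.Hom.appLE_map]

lemma appLE_ι_comp (f : X ⟶ Y) (W : X.Opens) (U : Y.Opens) (V'' : W.toScheme.Opens)
    (e'' : V'' ≤ (W.ι ≫ f) ⁻¹ᵁ U) (e : W.ι ''ᵁ V'' ≤ f ⁻¹ᵁ U) :
    (W.ι ≫ f).appLE U V'' e'' = f.appLE U (W.ι ''ᵁ V'') e := by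
  have he2 : V'' ≤ W.ι ⁻¹ᵁ (W.ι ''ᵁ V'') := fun z hz => ⟨z, hz, rfl⟩
  have h1 := Scheme.Hom.appLE_comp_appLE W.ι f U (W.ι ''ᵁ V'') V'' e he2
  have h2 : X.presheaf.map (homOfLE (le_refl (W.ι ''ᵁ V''))).op = 𝟙 _ := by
    have : homOfLE (le_refl (W.ι ''ᵁ V'')) = 𝟙 _ := Subsingleton.elim _ _
    rw [this, op_id, X.presheaf.map_id]
  have h3 : W.ι.appLE (W.ι ''ᵁ V'') V'' he2 = 𝟙 _ :=
    (Scheme.Opens.ι_appLE W (W.ι ''ᵁ V'') V'' he2).trans h2
  rw [← h1, h3]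
  exact (Category.comp_id _).symm

set_option backward.defeqAttrib.useBackward true in
set_option backward.isDefEq.respectTransparency false in
lemma exists_isStandardEtale_chart (f : X ⟶ Y) [Etale f] (x : X) (U : Y.Opens)
    (hU : IsAffineOpen U) (hxU : f x ∈ U) :
    ∃ (V : X.Opens) (_ : IsAffineOpen V) (_ : x ∈ V) (hVU : V ≤ f ⁻¹ᵁ U),
      @Algebra.IsStandardEtale Γ(Y, U) Γ(X, V) _ _ (f.appLE U V hVU).hom.toAlgebra := by
  obtain ⟨_, ⟨V, hV, rfl⟩, hxV, hVU⟩ :=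
    X.isBasis_affineOpens.exists_subset_of_mem_open hxU (U.2.preimage f.continuous)
  have := f.finitePresentation_appLE hU hV hVU
  have hsm := f.etale_appLE hU hV hVU
  algebraize [(f.appLE U V hVU).hom]
  have : Algebra.IsEtaleAt Γ(Y, U) (hV.primeIdealOf ⟨x, hxV⟩).asIdeal := inferInstance
  obtain ⟨r, hrx, hr⟩ := Algebra.IsEtaleAt.exists_isStandardEtale (R := Γ(Y, U))
    (hV.primeIdealOf ⟨x, hxV⟩).asIdeal
  refine ⟨_, hV.basicOpen r, ?_, (X.basicOpen_le r).trans hVU, ?_⟩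
  · rwa [← PrimeSpectrum.mem_basicOpen, IsAffineOpen.primeIdealOf,
      ← hV.fromSpec_preimage_basicOpen, Scheme.Hom.mem_preimage, ← Scheme.Hom.comp_apply,
      IsAffineOpen.isoSpec_hom, IsAffineOpen.toSpecΓ_fromSpec] at hrx
  · have := hV.isLocalization_basicOpen r
    let _ : Algebra Γ(Y, U) Γ(X, X.basicOpen r) :=
      (f.appLE U (X.basicOpen r) ((X.basicOpen_le r).trans hVU)).hom.toAlgebra
    have hst : IsScalarTower Γ(Y, U) Γ(X, V) Γ(X, X.basicOpen r) := by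
      refine IsScalarTower.of_algebraMap_eq fun a => ?_
      simp only [RingHom.algebraMap_toAlgebra, ← ConcreteCategory.comp_apply]
      have := Scheme.Hom.appLE_map f hVU (homOfLE (X.basicOpen_le r)).op
      exact (congrArg (fun t => t.hom a) this).symm
    let e : Localization.Away r ≃ₐ[Γ(Y, U)] Γ(X, X.basicOpen r) :=
      (IsLocalization.algEquiv (.powers r) _ Γ(X, X.basicOpen r)).restrictScalars Γ(Y, U)
    exact Algebra.IsStandardEtale.of_equiv e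

theorem smooth_nhd_iff {S : Scheme.{u}} (f : X ⟶ S) (x : X) (V : S.Opens) (hV : IsAffineOpen V)
    (hxV : f x ∈ V) :
    (∃ W : X.Opens, x ∈ W ∧ Smooth (W.ι ≫ f)) ↔
      ∃ (U : X.Opens) (_ : IsAffineOpen U) (_ : x ∈ U) (e : U ≤ f ⁻¹ᵁ V),
        (f.appLE V U e).hom.IsStandardSmooth := by
  constructor
  · rintro ⟨W, hxW, hsm⟩
    obtain ⟨V'', hV'', hxV'', e'', hstd⟩ :=
      exists_isStandardSmooth_chart (W.ι ≫ f) ⟨x, hxW⟩ V hV hxV
    have e : W.ι ''ᵁ V'' ≤ f ⁻¹ᵁ V := by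
      rintro _ ⟨z, hz, rfl⟩
      exact e'' hz
    refine ⟨W.ι ''ᵁ V'', hV''.image_of_isOpenImmersion W.ι, ⟨⟨x, hxW⟩, hxV'', rfl⟩, e, ?_⟩
    rw [← appLE_ι_comp f W V V'' e'' e]
    exact hstd
  · rintro ⟨U, hU, hxU, e, hstd⟩
    refine ⟨U, hxU, ?_⟩
    rw [ι_comp_eq f hU hV e]
    have : Smooth (Spec.map (f.appLE V U e)) :=
      (HasRingHomProperty.Spec_iff (P := @Smooth)).mpr hstd.smooth
    infer_instance

theorem etale_nhd_iff {S : Scheme.{u}} (f : X ⟶ S) (x : X) (V : S.Opens) (hV : IsAffineOpen V)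
    (hxV : f x ∈ V) :
    (∃ W : X.Opens, x ∈ W ∧ Etale (W.ι ≫ f)) ↔
      ∃ (U : X.Opens) (_ : IsAffineOpen U) (_ : x ∈ U) (e : U ≤ f ⁻¹ᵁ V),
        let _ := (f.appLE V U e).hom.toAlgebra
        Algebra.IsStandardEtale Γ(S, V) Γ(X, U) := by
  constructor
  · rintro ⟨W, hxW, hsm⟩
    obtain ⟨V'', hV'', hxV'', e'', hstd⟩ :=
      exists_isStandardEtale_chart (W.ι ≫ f) ⟨x, hxW⟩ V hV hxV
    have e : W.ι ''ᵁ V'' ≤ f ⁻¹ᵁ V := by
      rintro _ ⟨z, hz, rfl⟩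
      exact e'' hz
    refine ⟨W.ι ''ᵁ V'', hV''.image_of_isOpenImmersion W.ι, ⟨⟨x, hxW⟩, hxV'', rfl⟩, e, ?_⟩
    rw [← appLE_ι_comp f W V V'' e'' e]
    exact hstd
  · rintro ⟨U, hU, hxU, e, hstd⟩
    refine ⟨U, hxU, ?_⟩
    rw [ι_comp_eq f hU hV e]
    have h1 : (f.appLE V U e).hom.Etale := by
      let _ := (f.appLE V U e).hom.toAlgebra
      have : Algebra.Etale Γ(S, V) Γ(X, U) := inferInstance
      exact (RingHom.etale_algebraMap).mpr this
    have : Etale (Spec.map (f.appLE V U e)) :=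
      (HasRingHomProperty.Spec_iff (P := @Etale)).mpr h1
    infer_instance

end Groth.Agent.Helper3.StdChart
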