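import Mathlib
import Groth.Agent.Helper3.StdChart

set_option autoImplicit false
set_option linter.style.haveILetI false

namespace Groth.Agent.Helper3.Monogenic

open AlgebraicGeometry CategoryTheory Polynomial

universe u

theorem exists_monogenic {R S : Type u} [CommRing R] [CommRing S] [Algebra R S]
    [Algebra.IsStandardEtale R S] :
    ∃ (p : R[X]) (_ : p.Monic)
      (θ : Localization.Away (AdjoinRoot.mk p (derivative p)) →ₐ[R] S),
      IsOpenImmersion (Spec.map (CommRingCat.ofHom θ.toRingHom)) := by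
  let P : StandardEtalePresentation R S :=
    (Algebra.IsStandardEtale.nonempty_standardEtalePresentation (R := R) (S := S)).some
  let K := AdjoinRoot P.f
  let a : K := AdjoinRoot.mk P.f (derivative P.f)
  let b : K := AdjoinRoot.mk P.f P.g
  let e : S ≃ₐ[R] Localization.Away b := P.equivRing.trans P.P.equivAwayAdjoinRoot
  -- `a` divides a power of `b`
  obtain ⟨p₁, p₂, n, hcond⟩ := P.cond
  have hab : a * AdjoinRoot.mk P.f p₁ = b ^ n := by
    have := congrArg (AdjoinRoot.mk P.f) hcond
    rw [map_add, map_mul, map_mul, AdjoinRoot.mk_self, zero_mul, add_zero, map_pow] at this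
    exact this
  have hunit : IsUnit (algebraMap K (Localization.Away b) a) := by
    have h1 : IsUnit (algebraMap K (Localization.Away b) (b ^ n)) := by
      rw [map_pow]
      exact (IsLocalization.Away.algebraMap_isUnit b).pow n
    rw [← hab, map_mul] at h1
    exact isUnit_of_mul_isUnit_left h1
  have hunits : ∀ y : Submonoid.powers a,
      IsUnit ((IsScalarTower.toAlgHom R K (Localization.Away b)) y) := by
    rintro ⟨_, k, rfl⟩
    rw [map_pow]
    exact hunit.pow k
  let θ₀ : Localization.Away a →ₐ[R] Localization.Away b :=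
    IsLocalization.liftAlgHom (M := Submonoid.powers a)
      (f := IsScalarTower.toAlgHom R K (Localization.Away b)) hunits
  have hθ₀ : θ₀.toRingHom.comp (algebraMap K (Localization.Away a)) =
      algebraMap K (Localization.Away b) := by
    refine RingHom.ext fun x => ?_
    change θ₀ (algebraMap K _ x) = _
    rw [IsLocalization.liftAlgHom_apply, IsLocalization.lift_eq]
    rfl
  have hopen : IsOpenImmersion (Spec.map (CommRingCat.ofHom θ₀.toRingHom)) := by
    have h1 : Spec.map (CommRingCat.ofHom θ₀.toRingHom) ≫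
        Spec.map (CommRingCat.ofHom (algebraMap K (Localization.Away a))) =
        Spec.map (CommRingCat.ofHom (algebraMap K (Localization.Away b))) := by
      rw [← Spec.map_comp, ← CommRingCat.ofHom_comp, hθ₀]
    have h2 : IsOpenImmersion (Spec.map (CommRingCat.ofHom θ₀.toRingHom) ≫
        Spec.map (CommRingCat.ofHom (algebraMap K (Localization.Away a)))) := by
      rw [h1]; infer_instance
    exact IsOpenImmersion.of_comp _ (Spec.map (CommRingCat.ofHom (algebraMap K (Localization.Away a))))
  refine ⟨P.f, P.monic_f, e.symm.toAlgHom.comp θ₀, ?_⟩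
  have h3 : Spec.map (CommRingCat.ofHom (e.symm.toAlgHom.comp θ₀).toRingHom) =
      Spec.map (e.symm.toRingEquiv.toCommRingCatIso.hom) ≫
        Spec.map (CommRingCat.ofHom θ₀.toRingHom) := by
    rw [← Spec.map_comp]
    rfl
  rw [h3]
  infer_instance

theorem main {X Y : Scheme.{u}} (φ : X ⟶ Y) (x : X)
    (V : Y.Opens) (hV : IsAffineOpen V) (hxV : φ.base x ∈ V)
    (hφ : ∃ W : X.Opens, x ∈ W ∧ Etale (W.ι ≫ φ)) :
    ∃ (U : X.Opens) (hU : IsAffineOpen U) (_ : x ∈ U) (e : U ≤ φ ⁻¹ᵁ V)
      (p : Polynomial Γ(Y, V)) (_ : p.Monic)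
      (j : U.toScheme ⟶ Spec (CommRingCat.of (Localization.Away (AdjoinRoot.mk p (Polynomial.derivative p))))),
      IsOpenImmersion j ∧
        j ≫ Spec.map (CommRingCat.ofHom
            (algebraMap Γ(Y, V) (Localization.Away (AdjoinRoot.mk p (Polynomial.derivative p))))) =
          hU.isoSpec.hom ≫ Spec.map (φ.appLE V U e) := by
  obtain ⟨U, hU, hxU, e, hstd⟩ := (StdChart.etale_nhd_iff φ x V hV hxV).mp hφ
  letI := (φ.appLE V U e).hom.toAlgebra
  obtain ⟨p, hp, θ, hθ⟩ := exists_monogenic (R := Γ(Y, V)) (S := Γ(X, U))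
  refine ⟨U, hU, hxU, e, p, hp, hU.isoSpec.hom ≫ Spec.map (CommRingCat.ofHom θ.toRingHom),
    inferInstance, ?_⟩
  rw [Category.assoc, ← Spec.map_comp, ← CommRingCat.ofHom_comp]
  have h1 : θ.toRingHom.comp (algebraMap Γ(Y, V) _) = (φ.appLE V U e).hom := by
    rw [AlgHom.toRingHom_eq_coe, AlgHom.comp_algebraMap]
    rfl
  rw [h1]
  rfl

end Groth.Agent.Helper3.Monogenic
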