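import Mathlib
import Groth.Agent.Helper3.LciDescS

/-! Generic flat base change and fpqc descent for morphism properties induced by local ring hom
properties. -/

set_option autoImplicit false
set_option linter.style.haveILetI false
set_option linter.unusedSectionVars false
set_option linter.unusedVariables false
set_option linter.style.haveILetI false
set_option linter.unusedSectionVars false
set_option linter.unusedVariables false
universe u
open CategoryTheory CategoryTheory.Limits AlgebraicGeometry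

namespace Groth.Agent.Helper3.MorGen

variable (P : MorphismProperty Scheme.{u})
  {Pr : ∀ {R S : Type u} [CommRing R] [CommRing S], (R →+* S) → Prop} [HasRingHomProperty P Pr]

/-- **generic flat base change** -/
theorem baseChange
    (hsrc : RingHom.StableUnderCompositionWithLocalizationAwaySource Pr)
    (hbc : ∀ {A C A' C' : Type u} [CommRing A] [CommRing C] [CommRing A'] [CommRing C']
      (f : A →+* C) (g : A →+* A') (g' : C →+* C') (f' : A' →+* C'),
      IsPushout (CommRingCat.ofHom f) (CommRingCat.ofHom g) (CommRingCat.ofHom g')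
        (CommRingCat.ofHom f') → g.Flat → Pr f → Pr f')
    {X S X' S' : Scheme.{u}} (f : X ⟶ S) (f' : X' ⟶ S') (g' : X' ⟶ X) (g : S' ⟶ S)
    [Flat g] (hc : IsPullback g' f' f g) (hf : P f) : P f' := by
  rw [HasRingHomProperty.iff_exists_appLE (P := P) hsrc]
  intro x'
  obtain ⟨V, hV, hsV, -⟩ := TopologicalSpace.Opens.isBasis_iff_nbhd.mp S.isBasis_affineOpens
    (TopologicalSpace.Opens.mem_top (g (f' x')))
  obtain ⟨V', hV', hsV', hle⟩ := TopologicalSpace.Opens.isBasis_iff_nbhd.mp S'.isBasis_affineOpens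
    (show f' x' ∈ g ⁻¹ᵁ V from hsV)
  have hxx : f (g' x') = g (f' x') := by
    have := hc.w
    rw [← Scheme.Hom.comp_apply, ← Scheme.Hom.comp_apply, this]
  obtain ⟨U, hU, hxU, hUV⟩ := TopologicalSpace.Opens.isBasis_iff_nbhd.mp X.isBasis_affineOpens
    (show g' x' ∈ f ⁻¹ᵁ V by show f (g' x') ∈ V; rw [hxx]; exact hsV)
  let W : X'.Opens := g' ⁻¹ᵁ U ⊓ f' ⁻¹ᵁ V'
  have hWaff : IsAffineOpen W := by
    have : IsAffine (Scheme.Opens.toScheme V) := hV
    have : IsAffine (Scheme.Opens.toScheme V') := hV'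
    have : IsAffine (Scheme.Opens.toScheme U) := hU
    exact .of_isIso (Scheme.Hom.isPullback_resLE hc hle hUV rfl).isoPullback.hom
  refine ⟨⟨V', hV'⟩, ⟨W, hWaff⟩, ⟨hxU, hsV'⟩, inf_le_right, ?_⟩
  have hpo := (isIso_pushoutSection_iff hc hle hUV rfl).mp
      (isIso_pushoutSection_of_isAffineOpen hc hle hUV rfl hV hV' hU)
  refine hbc (f.appLE V U hUV).hom (g.appLE V V' hle).hom (g'.appLE U W inf_le_left).hom
    (f'.appLE V' W inf_le_right).hom hpo ?_ ?_
  · exact HasRingHomProperty.appLE (P := @Flat) g inferInstance ⟨V, hV⟩ ⟨V', hV'⟩ hle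
  · exact HasRingHomProperty.appLE (P := P) f hf ⟨V, hV⟩ ⟨U, hU⟩ hUV

/-- **generic fpqc descent** -/
theorem descent
    (hft : ∀ {R S : Type u} [CommRing R] [CommRing S] (φ : R →+* S), Pr φ → φ.FiniteType)
    (hdesc : ∀ {n : ℕ} {A C : Type u} [CommRing A] [CommRing C]
      (A' C' : Fin n → Type u) [∀ j, CommRing (A' j)] [∀ j, CommRing (C' j)]
      (f : A →+* C) (g : ∀ j, A →+* A' j) (f' : ∀ j, A' j →+* C' j) (g' : ∀ j, C →+* C' j),
      (∀ j, IsPushout (CommRingCat.ofHom f) (CommRingCat.ofHom (g j))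
        (CommRingCat.ofHom (g' j)) (CommRingCat.ofHom (f' j))) →
      (∀ j, (g j).Flat) →
      (∀ 𝔭 : PrimeSpectrum A, ∃ (j : Fin n) (𝔮 : PrimeSpectrum (A' j)),
        PrimeSpectrum.comap (g j) 𝔮 = 𝔭) →
      f.FiniteType → (∀ j, Pr (f' j)) → Pr f)
    {X S X' S' : Scheme.{u}} (f : X ⟶ S) (f' : X' ⟶ S') (g' : X' ⟶ X) (g : S' ⟶ S)
    [Flat g] [Surjective g] [QuasiCompact g] (hc : IsPullback g' f' f g) (hf' : P f') : P f := by
  rw [HasRingHomProperty.iff_appLE (P := P)]
  intro ⟨V, hV⟩ ⟨U, hU⟩ hUV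
  have hf'' := (HasRingHomProperty.iff_appLE (P := P)).mp hf'
  have hlft' : LocallyOfFiniteType f' := by
    rw [HasRingHomProperty.iff_appLE (P := @LocallyOfFiniteType)]
    intro V' U' e
    exact hft _ (hf'' V' U' e)
  have hlft : LocallyOfFiniteType f :=
    MorphismProperty.of_isPullback_of_descendsAlong (P := @LocallyOfFiniteType)
      (Q := @Surjective ⊓ @Flat ⊓ @QuasiCompact) hc.flip
      ⟨⟨inferInstance, inferInstance⟩, inferInstance⟩ hlft'
  have hft0 : (f.appLE V U hUV).hom.FiniteType :=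
    HasRingHomProperty.appLE (P := @LocallyOfFiniteType) f hlft ⟨V, hV⟩ ⟨U, hU⟩ hUV
  obtain ⟨n, V', hV', hle, hcov⟩ := FFDescS.exists_cover g V hV
  let W : Fin n → X'.Opens := fun j => g' ⁻¹ᵁ U ⊓ f' ⁻¹ᵁ (V' j)
  have hWaff : ∀ j, IsAffineOpen (W j) := fun j => by
    have : IsAffine V.toScheme := hV
    have : IsAffine (V' j).toScheme := hV' j
    have : IsAffine U.toScheme := hU
    exact .of_isIso (Scheme.Hom.isPullback_resLE hc (hle j) hUV rfl).isoPullback.hom
  refine hdesc (fun j => Γ(S', V' j)) (fun j => Γ(X', W j))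
    (f.appLE V U hUV).hom (fun j => (g.appLE V (V' j) (hle j)).hom)
    (fun j => (f'.appLE (V' j) (W j) inf_le_right).hom)
    (fun j => (g'.appLE U (W j) inf_le_left).hom) (fun j => ?_) (fun j => ?_) (fun 𝔭 => ?_) hft0
    (fun j => hf'' ⟨V' j, hV' j⟩ ⟨W j, hWaff j⟩ inf_le_right)
  · exact (isIso_pushoutSection_iff hc (hle j) hUV rfl).mp
      (isIso_pushoutSection_of_isAffineOpen hc (hle j) hUV rfl hV (hV' j) hU)
  · exact HasRingHomProperty.appLE (P := @Flat) g inferInstance ⟨V, hV⟩ ⟨V' j, hV' j⟩ (hle j)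
  · obtain ⟨x', hx'⟩ := g.surjective (hV.fromSpec 𝔭)
    have hx'V : g x' ∈ V := by
      rw [hx']
      exact FFDescS.fromSpec_mem hV 𝔭
    obtain ⟨j, hj⟩ := hcov x' hx'V
    refine ⟨j, (hV' j).primeIdealOf ⟨x', hj⟩, ?_⟩
    have h1 := IsAffineOpen.comap_primeIdealOf_appLE (f := g) V hV (V' j) (hV' j) (hle j) hj
    rw [h1]
    have h2 : hV.primeIdealOf ⟨g x', hle j hj⟩ =
        hV.primeIdealOf ⟨hV.fromSpec 𝔭, FFDescS.fromSpec_mem hV 𝔭⟩ := by
      congr 1
      exact Subtype.ext hx'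
    rw [h2, FFDescS.primeIdealOf_fromSpec]

end Groth.Agent.Helper3.MorGen
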