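import Mathlib
import Groth.Prelude.Def_SheafNL
import Groth.Agent.Helper3.NLA

set_option autoImplicit false
set_option linter.style.haveILetI false
set_option linter.unusedSectionVars false
set_option linter.unusedVariables false
set_option linter.style.haveILetI false
set_option linter.unusedSectionVars false
set_option linter.unusedVariables false

universe u

open CategoryTheory CategoryTheory.Limits TensorProduct Algebra

namespace Groth.Agent.Helper3.NLB

section Abs

variable {R R' P P' S S' : Type u} [CommRing R] [CommRing R'] [CommRing P] [CommRing P']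
  [CommRing S] [CommRing S']
  [Algebra R R'] [Algebra R P] [Algebra R' P'] [Algebra P P'] [Algebra R P']
  [IsScalarTower R R' P'] [IsScalarTower R P P']
  [Algebra R S] [Algebra R' S'] [Algebra S S'] [Algebra R S']
  [IsScalarTower R R' S'] [IsScalarTower R S S']
  [Algebra P S] [Algebra P' S'] [IsScalarTower R P S] [IsScalarTower R' P' S']
  [Algebra P S'] [IsScalarTower P S S'] [IsScalarTower P P' S']

variable (P P' S S') in
/-- the map on kernels induced by a commutative square. -/
def kerMap : RingHom.ker (algebraMap P S) →ₗ[P] RingHom.ker (algebraMap P' S') where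
  toFun x := ⟨algebraMap P P' x.1, by
    rw [RingHom.mem_ker, ← IsScalarTower.algebraMap_apply P P' S',
      IsScalarTower.algebraMap_apply P S S', (RingHom.mem_ker).mp x.2, map_zero]⟩
  map_add' x y := Subtype.ext (by simp)
  map_smul' p x := Subtype.ext (by
    simp only [SetLike.val_smul, smul_eq_mul, map_mul, RingHom.id_apply]
    rw [Submodule.coe_smul_of_tower, Algebra.smul_def])

@[simp] lemma kerMap_coe (x : RingHom.ker (algebraMap P S)) :
    ((kerMap P P' S S' x : RingHom.ker (algebraMap P' S')) : P') = algebraMap P P' x.1 := rfl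

variable (R R' P P' S) in
/-- `R' ⊗ I → P'`. -/
noncomputable def psi : R' ⊗[R] (RingHom.ker (algebraMap P S)) →ₗ[R'] P' :=
  LinearMap.liftBaseChange R' ((IsScalarTower.toAlgHom R P P').toLinearMap ∘ₗ
    ((RingHom.ker (algebraMap P S)).subtype.restrictScalars R))

lemma psi_tmul (r' : R') (x : RingHom.ker (algebraMap P S)) :
    psi R R' P P' S (r' ⊗ₜ x) = r' • algebraMap P P' x.1 := by
  simp [psi]

variable [Algebra.IsPushout R R' P P'] [Algebra.IsPushout R R' S S']

variable (R R' P P' S S') in
lemma mem_range_psi_iff (hπ : Function.Surjective (algebraMap P S)) (x' : P') :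
    x' ∈ LinearMap.range (psi R R' P P' S) ↔ algebraMap P' S' x' = 0 := by
  have hP : IsBaseChange R' (IsScalarTower.toAlgHom R P P').toLinearMap :=
    Algebra.IsPushout.out (R := R) (S := R') (R' := P) (S' := P')
  have hS : IsBaseChange R' (IsScalarTower.toAlgHom R S S').toLinearMap :=
    Algebra.IsPushout.out (R := R) (S := R') (R' := S) (S' := S')
  let ι : RingHom.ker (algebraMap P S) →ₗ[R] P :=
    (RingHom.ker (algebraMap P S)).subtype.restrictScalars R
  let πR : P →ₗ[R] S := (IsScalarTower.toAlgHom R P S).toLinearMap
  have hex : Function.Exact ι πR := by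
    intro p
    constructor
    · intro hp
      exact ⟨⟨p, hp⟩, rfl⟩
    · rintro ⟨y, rfl⟩
      exact y.2
  have hex' : Function.Exact (ι.lTensor R') (πR.lTensor R') := lTensor_exact R' hex hπ
  have h1 : ∀ w, psi R R' P P' S w = hP.equiv (ι.lTensor R' w) := by
    intro w
    induction w using TensorProduct.induction_on with
    | zero => simp
    | add a b ha hb => simp only [map_add, ha, hb]
    | tmul r' x =>
      rw [psi_tmul, LinearMap.lTensor_tmul, IsBaseChange.equiv_tmul]
      rfl
  have h2 : ∀ z, algebraMap P' S' (hP.equiv z) = hS.equiv (πR.lTensor R' z) := by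
    intro z
    induction z using TensorProduct.induction_on with
    | zero => simp
    | add a b ha hb => simp only [map_add, ha, hb]
    | tmul r' p =>
      rw [LinearMap.lTensor_tmul, IsBaseChange.equiv_tmul, IsBaseChange.equiv_tmul]
      change algebraMap P' S' (r' • algebraMap P P' p) = r' • algebraMap S S' (algebraMap P S p)
      rw [Algebra.smul_def, map_mul, ← IsScalarTower.algebraMap_apply R' P' S',
        ← IsScalarTower.algebraMap_apply P P' S', IsScalarTower.algebraMap_apply P S S',
        Algebra.smul_def]
  constructor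
  · rintro ⟨w, rfl⟩
    rw [h1, h2, (hex' _).mpr ⟨w, rfl⟩, map_zero]
  · intro hx'
    have : πR.lTensor R' (hP.equiv.symm x') = 0 := by
      apply hS.equiv.injective
      rw [← h2, LinearEquiv.apply_symm_apply, hx', map_zero]
    obtain ⟨w, hw⟩ := (hex' _).mp this
    exact ⟨w, by rw [h1, hw, LinearEquiv.apply_symm_apply]⟩

variable (R R' P P' S S') in
lemma psi_injective_iff :
    Function.Injective (psi R R' P P' S) ↔
      Function.Injective (((RingHom.ker (algebraMap P S)).subtype.restrictScalars R).lTensor R') := by
  have hP : IsBaseChange R' (IsScalarTower.toAlgHom R P P').toLinearMap :=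
    Algebra.IsPushout.out (R := R) (S := R') (R' := P) (S' := P')
  have h1 : ∀ w, psi R R' P P' S w = hP.equiv
      (((RingHom.ker (algebraMap P S)).subtype.restrictScalars R).lTensor R' w) := by
    intro w
    induction w using TensorProduct.induction_on with
    | zero => simp
    | add a b ha hb => simp only [map_add, ha, hb]
    | tmul r' x =>
      rw [psi_tmul, LinearMap.lTensor_tmul, IsBaseChange.equiv_tmul]
      rfl
  have : (psi R R' P P' S : _ → P') = hP.equiv ∘
      (((RingHom.ker (algebraMap P S)).subtype.restrictScalars R).lTensor R') := funext h1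
  rw [this]
  exact hP.equiv.injective.of_comp_iff _

variable (P P' S S') in
/-- `P' ⊗_P I → I'`. -/
noncomputable def L : P' ⊗[P] RingHom.ker (algebraMap P S) →ₗ[P'] RingHom.ker (algebraMap P' S') :=
  LinearMap.liftBaseChange P' (kerMap P P' S S')

lemma L_tmul (p' : P') (x : RingHom.ker (algebraMap P S)) :
    L P P' S S' (p' ⊗ₜ x) = p' • kerMap P P' S S' x := by
  simp [L]

variable (R R' P P' S S') in
lemma L_cancel (w : R' ⊗[R] RingHom.ker (algebraMap P S)) :
    ((L P P' S S' ((Algebra.IsPushout.cancelBaseChange R R' P P'
      (RingHom.ker (algebraMap P S))).symm w) : RingHom.ker (algebraMap P' S')) : P') =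
      psi R R' P P' S w := by
  induction w using TensorProduct.induction_on with
  | zero => simp
  | add a b ha hb => simp only [map_add, Submodule.coe_add, ha, hb]
  | tmul r' x =>
    rw [Algebra.IsPushout.cancelBaseChange_symm_tmul, L_tmul, psi_tmul]
    simp only [SetLike.val_smul, kerMap_coe, smul_eq_mul]
    rw [Algebra.smul_def]

variable (R R' P P' S S') in
include R R' in
theorem L_surjective (hπ : Function.Surjective (algebraMap P S)) :
    Function.Surjective (L P P' S S') := by
  intro y
  obtain ⟨w, hw⟩ := (mem_range_psi_iff R R' P P' S S' hπ y.1).mpr y.2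
  refine ⟨(Algebra.IsPushout.cancelBaseChange R R' P P' _).symm w, Subtype.ext ?_⟩
  rw [L_cancel, hw]

variable (R R' P P' S S') in
include R R' in
theorem L_injective
    (h : Function.Injective
      (((RingHom.ker (algebraMap P S)).subtype.restrictScalars R).lTensor R')) :
    Function.Injective (L P P' S S') := by
  rw [← psi_injective_iff R R' P P' S] at h
  rw [injective_iff_map_eq_zero]
  intro z hz
  obtain ⟨w, rfl⟩ := (Algebra.IsPushout.cancelBaseChange R R' P P' _).symm.surjective z
  have : psi R R' P P' S w = 0 := by rw [← L_cancel R R' P P' S S' w, hz]; rfl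
  rw [(injective_iff_map_eq_zero _).mp h w this, map_zero]

end Abs

section AbsCot

attribute [local instance] SMulCommClass.of_commMonoid

variable {P P' S S' : Type u} [CommRing P] [CommRing P'] [CommRing S] [CommRing S']
  [Algebra P P'] [Algebra S S'] [Algebra P S] [Algebra P' S'] [Algebra P S']
  [IsScalarTower P S S'] [IsScalarTower P P' S']
  {C C' : Type u} [AddCommGroup C] [AddCommGroup C']
  [Module S C] [Module P C] [IsScalarTower P S C]
  [Module S' C'] [Module P' C'] [IsScalarTower P' S' C'] [Module S C'] [IsScalarTower S S' C']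
  (mk : RingHom.ker (algebraMap P S) →ₗ[P] C) (mk' : RingHom.ker (algebraMap P' S') →ₗ[P'] C')
  (cmap : C →ₗ[S] C')
  (hc : ∀ x, cmap (mk x) = mk' (kerMap P P' S S' x))

include hc in
theorem lbc_surjective (hmk' : Function.Surjective mk')
    (hL : Function.Surjective (L P P' S S')) :
    Function.Surjective (LinearMap.liftBaseChange S' cmap) := by
  intro c'
  obtain ⟨z, rfl⟩ := hmk' c'
  obtain ⟨w, rfl⟩ := hL z
  induction w using TensorProduct.induction_on with
  | zero => exact ⟨0, by simp⟩
  | add a b ha hb =>
    obtain ⟨a', ha'⟩ := ha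
    obtain ⟨b', hb'⟩ := hb
    exact ⟨a' + b', by rw [map_add, ha', hb', map_add, map_add]⟩
  | tmul p' x =>
    refine ⟨algebraMap P' S' p' ⊗ₜ mk x, ?_⟩
    rw [LinearMap.liftBaseChange_tmul, hc, L_tmul, map_smul, algebraMap_smul]

include hc in
theorem lbc_injective (hmk : Function.Surjective mk) (hmk' : Function.Surjective mk')
    (hk' : LinearMap.ker mk' ≤ (RingHom.ker (algebraMap P' S')) •
      (⊤ : Submodule P' (RingHom.ker (algebraMap P' S'))))
    (hπ' : Function.Surjective (algebraMap P' S'))
    (hL : Function.Bijective (L P P' S S')) :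
    Function.Injective (LinearMap.liftBaseChange S' cmap) := by
  have hI : IsBaseChange P' (kerMap P P' S S') :=
    IsBaseChange.of_equiv (LinearEquiv.ofBijective (L P P' S S') hL) (fun x => by
      rw [LinearEquiv.ofBijective_apply, L_tmul, one_smul])
  let t : RingHom.ker (algebraMap P S) →ₗ[P] S' ⊗[S] C :=
    ((TensorProduct.mk S S' C 1).restrictScalars P) ∘ₗ mk
  let θ : RingHom.ker (algebraMap P' S') →ₗ[P'] S' ⊗[S] C := hI.lift t
  have hθ : ∀ x, θ (kerMap P P' S S' x) = (1 : S') ⊗ₜ[S] mk x := fun x => hI.lift_eq t x
  have hle : LinearMap.ker mk' ≤ LinearMap.ker θ := by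
    refine hk'.trans ?_
    rw [Submodule.smul_le]
    intro r hr n _
    rw [LinearMap.mem_ker, map_smul, ← algebraMap_smul S' r (θ n), (RingHom.mem_ker).mp hr,
      zero_smul]
  let θ' : C' →ₗ[P'] S' ⊗[S] C :=
    (LinearMap.ker mk').liftQ θ hle ∘ₗ (mk'.quotKerEquivOfSurjective hmk').symm.toLinearMap
  have hθ' : ∀ z, θ' (mk' z) = θ z := by
    intro z
    have : mk' z = mk'.quotKerEquivOfSurjective hmk' (Submodule.Quotient.mk z) := rfl
    change (LinearMap.ker mk').liftQ θ hle ((mk'.quotKerEquivOfSurjective hmk').symm (mk' z)) = _
    rw [this, LinearEquiv.symm_apply_apply, Submodule.liftQ_apply]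
  have key : ∀ a, θ' (LinearMap.liftBaseChange S' cmap a) = a := by
    intro a
    induction a using TensorProduct.induction_on with
    | zero => simp
    | add a b ha hb => rw [map_add, map_add, ha, hb]
    | tmul s' c =>
      obtain ⟨x, rfl⟩ := hmk c
      obtain ⟨p', rfl⟩ := hπ' s'
      rw [LinearMap.liftBaseChange_tmul, hc, algebraMap_smul, ← map_smul, hθ', map_smul, hθ,
        TensorProduct.smul_tmul', Algebra.smul_def, mul_one]
  exact Function.LeftInverse.injective key

end AbsCot

section SameVars

variable {R S R' S' : Type u} [CommRing R] [CommRing S] [CommRing R'] [CommRing S']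
  [Algebra R S] [Algebra R' S'] [Algebra R R'] [Algebra S S'] [Algebra R S']
  [IsScalarTower R R' S'] [IsScalarTower R S S']
  {ι : Type u} (G : Generators R S ι) (G' : Generators R' S' ι)
  (h : ∀ i, G'.val i = algebraMap S S' (G.val i))

/-- the same-variables hom is `MvPolynomial.map` -/
theorem toRingHom_eq (p : MvPolynomial ι R) :
    (NLCx.sameVarsHom G G' h).toExtensionHom.toRingHom p =
      MvPolynomial.map (algebraMap R R') p := by
  change (NLCx.sameVarsHom G G' h).toAlgHom p = _
  induction p using MvPolynomial.induction_on with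
  | C a =>
    simp only [Generators.Hom.toAlgHom, MvPolynomial.map_C]
    rw [MvPolynomial.aeval_C]
    rw [IsScalarTower.algebraMap_apply R R' (MvPolynomial ι R')]
    rfl
  | add p q hp hq => rw [map_add, map_add, hp, hq]
  | mul_X p i hp =>
    rw [map_mul, map_mul, hp]
    congr 1
    simp [Generators.Hom.toAlgHom, NLCx.sameVarsHom]

theorem lbcSp_bijective : Function.Bijective
    (LinearMap.liftBaseChange S'
      (Extension.CotangentSpace.map (NLCx.sameVarsHom G G' h).toExtensionHom)) := by
  have e : LinearMap.liftBaseChange S'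
      (Extension.CotangentSpace.map (NLCx.sameVarsHom G G' h).toExtensionHom) =
      ((G.cotangentSpaceBasis.baseChange S').equiv G'.cotangentSpaceBasis
        (Equiv.refl ι)).toLinearMap := by
    apply (G.cotangentSpaceBasis.baseChange S').ext
    intro i
    rw [LinearEquiv.coe_coe, Module.Basis.equiv_apply, Equiv.refl_apply,
      Module.Basis.baseChange_apply, LinearMap.liftBaseChange_tmul, one_smul]
    apply G'.cotangentSpaceBasis.ext_elem
    intro j
    rw [Generators.repr_CotangentSpaceMap]
    simp only [NLCx.sameVarsHom, Module.Basis.repr_self]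
    classical
    rw [MvPolynomial.pderiv_X, Finsupp.single_apply, Pi.single_apply]
    by_cases hij : i = j
    · subst hij; simp
    · rw [if_neg hij, if_neg hij, map_zero]
  rw [e]
  exact LinearEquiv.bijective _

variable [Algebra.IsPushout R R' S S']

theorem lbcCot_aux :
    Function.Surjective (LinearMap.liftBaseChange S'
      (Extension.Cotangent.map (NLCx.sameVarsHom G G' h).toExtensionHom)) ∧
    (Function.Injective ((G.toExtension.ker.subtype.restrictScalars R).lTensor R') →
      Function.Injective (LinearMap.liftBaseChange S'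
        (Extension.Cotangent.map (NLCx.sameVarsHom G G' h).toExtensionHom))) := by
  let f := (NLCx.sameVarsHom G G' h).toExtensionHom
  letI algPP' : Algebra G.toExtension.Ring G'.toExtension.Ring := f.toRingHom.toAlgebra
  letI algPS' : Algebra G.toExtension.Ring S' :=
    ((algebraMap S S').comp (algebraMap G.toExtension.Ring S)).toAlgebra
  haveI t1 : IsScalarTower G.toExtension.Ring S S' := IsScalarTower.of_algebraMap_eq' rfl
  haveI t2 : IsScalarTower G.toExtension.Ring G'.toExtension.Ring S' :=
    IsScalarTower.of_algebraMap_eq (fun x => (f.algebraMap_toRingHom x).symm)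
  haveI t3 : IsScalarTower R G.toExtension.Ring G'.toExtension.Ring :=
    IsScalarTower.of_algebraMap_eq (fun x => by
      change _ = f.toRingHom (algebraMap R G.toExtension.Ring x)
      rw [f.toRingHom_algebraMap, ← IsScalarTower.algebraMap_apply])
  haveI po : Algebra.IsPushout R R' G.toExtension.Ring G'.toExtension.Ring := by
    constructor
    refine IsBaseChange.of_equiv (MvPolynomial.algebraTensorAlgEquiv (σ := ι) R R').toLinearEquiv ?_
    intro x
    change MvPolynomial.algebraTensorAlgEquiv (σ := ι) R R' (1 ⊗ₜ x) = f.toRingHom x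
    rw [MvPolynomial.algebraTensorAlgEquiv_tmul, one_smul, toRingHom_eq]
  have hc : ∀ x, Extension.Cotangent.map f (Extension.Cotangent.mk x) =
      Extension.Cotangent.mk (kerMap G.toExtension.Ring G'.toExtension.Ring S S' x) := by
    intro x
    rw [Extension.Cotangent.map_mk]
    rfl
  refine ⟨lbc_surjective Extension.Cotangent.mk Extension.Cotangent.mk
    (Extension.Cotangent.map f) hc Extension.Cotangent.mk_surjective
    (L_surjective R R' _ _ S S' G.toExtension.algebraMap_surjective), fun htor => ?_⟩
  exact lbc_injective Extension.Cotangent.mk Extension.Cotangent.mk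
    (Extension.Cotangent.map f) hc Extension.Cotangent.mk_surjective
    Extension.Cotangent.mk_surjective (Extension.Cotangent.ker_mk G'.toExtension).le
    G'.toExtension.algebraMap_surjective
    ⟨L_injective R R' _ _ S S' htor,
      L_surjective R R' _ _ S S' G.toExtension.algebraMap_surjective⟩

end SameVars

end Groth.Agent.Helper3.NLB
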