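import Mathlib
import Groth.Prelude.Def_SheafNL
import Groth.Agent.Helper3.NLA
import Groth.Agent.Helper3.NLB

set_option autoImplicit false
set_option linter.style.haveILetI false
set_option linter.unusedSectionVars false
set_option linter.unusedVariables false
set_option linter.style.haveILetI false
set_option linter.unusedSectionVars false
set_option linter.unusedVariables false

universe u

open CategoryTheory CategoryTheory.Limits TensorProduct Algebra

namespace Groth.Agent.Helper3.NLC

open Groth.Agent.Helper3.NLA Groth.Agent.Helper3.NLB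

section Comp

variable {R S R' S' : Type u} [CommRing R] [CommRing S] [CommRing R'] [CommRing S']
  [Algebra R S] [Algebra R' S'] [Algebra R R'] [Algebra S S'] [Algebra R S']
  [IsScalarTower R R' S'] [IsScalarTower R S S']
  {P : Extension.{u} R S} {P' P'' : Extension.{u} R' S'}

lemma lbcCot_comp (f : P.Hom P') (g : P'.Hom P'') (x : S' ⊗[S] P.Cotangent) :
    LinearMap.liftBaseChange S' (Extension.Cotangent.map (g.comp f)) x =
      Extension.Cotangent.map g (LinearMap.liftBaseChange S' (Extension.Cotangent.map f) x) := by
  induction x using TensorProduct.induction_on with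
  | zero => simp
  | add a b ha hb => rw [map_add, map_add, map_add, ha, hb]
  | tmul s' c =>
    rw [LinearMap.liftBaseChange_tmul, LinearMap.liftBaseChange_tmul, map_smul,
      Extension.Cotangent.map_comp]
    rfl

lemma bcH1Map_comp (f : P.Hom P') (g : P'.Hom P'') (x : NLCx.bcH1 P S') :
    NLCx.bcH1Map (g.comp f) x = Extension.H1Cotangent.map g (NLCx.bcH1Map f x) := by
  apply Subtype.ext
  exact lbcCot_comp f g x.val

end Comp

section Self

variable {R S R' S' : Type u} [CommRing R] [CommRing S] [CommRing R'] [CommRing S']
  [Algebra R S] [Algebra R' S'] [Algebra R R'] [Algebra S S'] [Algebra R S']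
  [IsScalarTower R R' S'] [IsScalarTower R S S'] [Algebra.IsPushout R R' S S']

variable (R S R' S') in
include R in
lemma aeval_surjective :
    Function.Surjective (MvPolynomial.aeval (R := R') (fun s : S => algebraMap S S' s)) := by
  have hS : IsBaseChange R' (IsScalarTower.toAlgHom R S S').toLinearMap :=
    Algebra.IsPushout.out (R := R) (S := R') (R' := S) (S' := S')
  intro x
  induction x using hS.inductionOn with
  | zero => exact ⟨0, map_zero _⟩
  | tmul m => exact ⟨MvPolynomial.X m, by simp⟩
  | smul r' n hn =>
    obtain ⟨p, rfl⟩ := hn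
    exact ⟨r' • p, by rw [map_smul]⟩
  | add a b ha hb =>
    obtain ⟨p, rfl⟩ := ha
    obtain ⟨q, rfl⟩ := hb
    exact ⟨p + q, map_add _ _ _⟩

variable (R S R' S') in
/-- the base change of the presentation on all elements. -/
noncomputable def Gmid : Generators R' S' S :=
  Generators.ofSurjective (fun s : S => algebraMap S S' s) (aeval_surjective R S R' S')

lemma Gmid_val (s : S) : (Gmid R S R' S').val s = algebraMap S S' ((Generators.self R S).val s) := rfl

lemma comp_eq :
    ((Gmid R S R' S').defaultHom (Generators.self R' S')).comp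
      (NLCx.sameVarsHom (Generators.self R S) (Gmid R S R' S') Gmid_val) =
    (Generators.self R S).defaultHom (Generators.self R' S') := by
  ext s
  simp [NLCx.sameVarsHom, Gmid, Generators.ofSurjective, Generators.self]

theorem bcH1Map_sameVars_surjective {ι : Type u} (G : Generators R S ι) (G' : Generators R' S' ι)
    (h : ∀ i, G'.val i = algebraMap S S' (G.val i)) :
    Function.Surjective (NLCx.bcH1Map (NLCx.sameVarsHom G G' h).toExtensionHom) :=
  NLA.bcH1Map_surjective _ (lbcCot_aux G G' h).1 (lbcSp_bijective G G' h).1

theorem bcH1Map_self_surjective :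
    Function.Surjective (NLCx.bcH1Map
      ((Generators.self R S).defaultHom (Generators.self R' S')).toExtensionHom) := by
  rw [← comp_eq, Generators.Hom.toExtensionHom_comp]
  intro y
  let g := ((Gmid R S R' S').defaultHom (Generators.self R' S')).toExtensionHom
  let g' := ((Generators.self R' S').defaultHom (Gmid R S R' S')).toExtensionHom
  obtain ⟨z, rfl⟩ := (Extension.H1Cotangent.equiv g g').surjective y
  obtain ⟨x, rfl⟩ := bcH1Map_sameVars_surjective _ _ (Gmid_val (R := R) (R' := R')) z
  exact ⟨x, bcH1Map_comp _ _ x⟩

theorem s7221 {ι : Type u} (G : Generators R S ι) (G' : Generators R' S' ι)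
    (h : ∀ i, G'.val i = algebraMap S S' (G.val i)) :
    Function.Surjective (NLCx.bcH1Map (NLCx.sameVarsHom G G' h).toExtensionHom) ∧
      Function.Surjective (NLCx.bcH1Map
        ((Generators.self R S).defaultHom (Generators.self R' S')).toExtensionHom) :=
  ⟨bcH1Map_sameVars_surjective G G' h, bcH1Map_self_surjective⟩

/-- the Tor condition. -/
def TorCond {ι : Type u} (G : Generators R S ι) (R' : Type u) [CommRing R'] [Algebra R R'] : Prop :=
  Function.Injective ((G.toExtension.ker.subtype.restrictScalars R).lTensor R')

lemma torCond_of_flat_right {ι : Type u} (G : Generators R S ι) [Module.Flat R R'] :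
    TorCond G R' :=
  Module.Flat.lTensor_preserves_injective_linearMap (M := R')
    (G.toExtension.ker.subtype.restrictScalars R) Subtype.val_injective

lemma torCond_of_flat_left {ι : Type u} (G : Generators R S ι) [Module.Flat R S] :
    TorCond G R' := by
  refine LinearMap.lTensor_injective_of_exact_of_flat
    (IsScalarTower.toAlgHom R G.toExtension.Ring S).toLinearMap G.toExtension.algebraMap_surjective
    (G.toExtension.ker.subtype.restrictScalars R) Subtype.val_injective ?_ R'
  intro p
  constructor
  · intro hp
    exact ⟨⟨p, hp⟩, rfl⟩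
  · rintro ⟨y, rfl⟩
    exact y.2

theorem isIso_bcMap_sameVars {ι : Type u} (G : Generators R S ι) (G' : Generators R' S' ι)
    (h : ∀ i, G'.val i = algebraMap S S' (G.val i)) (htor : TorCond G R') :
    IsIso (NLCx.bcMap (S' := S') (NLCx.sameVarsHom G G' h).toExtensionHom) :=
  NLA.isIso_bcMap _ ⟨(lbcCot_aux G G' h).2 htor, (lbcCot_aux G G' h).1⟩ (lbcSp_bijective G G' h)

theorem exists_homotopyEquiv (htor : TorCond (Generators.self R S) R') :
    ∃ e : HomotopyEquiv (NLCx.bcCx (Generators.self R S).toExtension S')
        (NLCx.cx (Generators.self R' S').toExtension),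
      e.hom = NLCx.bcMapSelf R S R' S' := by
  let g := ((Gmid R S R' S').defaultHom (Generators.self R' S')).toExtensionHom
  let g' := ((Generators.self R' S').defaultHom (Gmid R S R' S')).toExtensionHom
  haveI := isIso_bcMap_sameVars (Generators.self R S) (Gmid R S R' S') Gmid_val htor
  let f₁ := (NLCx.sameVarsHom (Generators.self R S) (Gmid R S R' S') Gmid_val).toExtensionHom
  refine ⟨(HomotopyEquiv.ofIso (asIso (NLCx.bcMap (S' := S') f₁))).trans
    (NLA.homotopyEquiv g g'), ?_⟩
  change NLCx.bcMap f₁ ≫ NLCx.map g = _
  rw [← NLA.bcMap_comp, NLCx.bcMapSelf, ← comp_eq, Generators.Hom.toExtensionHom_comp]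

end Self

end Groth.Agent.Helper3.NLC
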