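import Mathlib
import Groth.Prelude.Def_SheafNL
import Groth.Agent.Helper3.NLA
import Groth.Agent.Helper3.NLC
import Groth.Agent.Helper3.DRingBC
import Groth.Agent.Helper3.DRingTor4
import Groth.Agent.Helper3.DRingTwoTerm3
import Groth.Agent.Helper6.LBCFibre
import Groth.Agent.Helper6.LBCFlatCx
import Groth.Agent.Helper6.TorAmpBridge2
import Groth.Agent.Helper6.TorAmpPd

set_option autoImplicit false
set_option linter.style.haveILetI false
set_option linter.unusedSectionVars false
set_option linter.unusedVariables false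
set_option linter.style.haveILetI false
set_option linter.unusedSectionVars false
set_option linter.unusedVariables false

universe u

open CategoryTheory CategoryTheory.Limits TensorProduct Algebra HomologicalComplex

attribute [local instance] HasDerivedCategory.standard

namespace Groth.Agent.Helper3.NLD

open Groth.Agent.Helper3.NLA Groth.Agent.Helper3.DRingLib

section Double

variable {S S' : Type u} [CommRing S] [CommRing S'] [Algebra S S']

/-- termwise extension of scalars of a two term complex. -/
theorem nonempty_iso_double {M N : ModuleCat.{u} S} (d : M ⟶ N)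
    (hr : (ComplexShape.up ℤ).Rel (-1) 0) :
    Nonempty (double (ModuleCat.ofHom (d.hom.baseChange S')) hr ≅
      ((ModuleCat.extendScalars.{u, u, u} (algebraMap S S')).mapHomologicalComplex
        (ComplexShape.up ℤ)).obj (double d hr)) := by
  let F := ModuleCat.extendScalars.{u, u, u} (algebraMap S S')
  let eM : F.obj M ≅ ModuleCat.of S' (S' ⊗[S] M) := (extendScalarsEquiv (B := S') M).toModuleIso
  let eN : F.obj N ≅ ModuleCat.of S' (S' ⊗[S] N) := (extendScalarsEquiv (B := S') N).toModuleIso
  have hnat : eM.inv ≫ F.map d = ModuleCat.ofHom (d.hom.baseChange S') ≫ eN.inv := by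
    rw [Iso.inv_comp_eq, ← Category.assoc, Iso.eq_comp_inv]
    apply ModuleCat.hom_ext
    apply LinearMap.ext
    intro x
    exact Groth.Agent.Helper6.LBCFibre.extendScalarsEquiv_naturality S' d x
  let ψ : double (ModuleCat.ofHom (d.hom.baseChange S')) hr ⟶
      (F.mapHomologicalComplex (ComplexShape.up ℤ)).obj (double d hr) :=
    mkHomFromDouble hr hne (eM.inv ≫ F.map (doubleXIso₀ d hr).inv)
      (eN.inv ≫ F.map (doubleXIso₁ d hr hne).inv)
      (by
        change (eM.inv ≫ F.map (doubleXIso₀ d hr).inv) ≫ F.map ((double d hr).d (-1) 0) = _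
        rw [double_d d hr hne, Category.assoc, ← F.map_comp, Iso.inv_hom_id_assoc, F.map_comp,
          ← Category.assoc, hnat, Category.assoc]
        rfl)
      (by
        intro k hk
        change (eN.inv ≫ F.map (doubleXIso₁ d hr hne).inv) ≫ F.map ((double d hr).d 0 k) = 0
        rw [double_d_eq_zero₀ d hr 0 k (by decide), F.map_zero, comp_zero])
  have : IsIso ψ := by
    apply (config := { allowSynthFailures := true }) HomologicalComplex.Hom.isIso_of_components
    intro i
    by_cases hi0 : i = -1
    · subst hi0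
      rw [mkHomFromDouble_f₀]
      have h1 : IsIso (F.map (doubleXIso₀ d hr).inv) := Functor.map_isIso _ _
      have h2 : IsIso (eM.inv ≫ F.map (doubleXIso₀ d hr).inv) :=
        @IsIso.comp_isIso _ _ _ _ _ _ _ inferInstance h1
      exact @IsIso.comp_isIso _ _ _ _ _ _ _ inferInstance h2
    · by_cases hi1 : i = 0
      · subst hi1
        rw [mkHomFromDouble_f₁]
        have h1 : IsIso (F.map (doubleXIso₁ d hr hne).inv) := Functor.map_isIso _ _
        have h2 : IsIso (eN.inv ≫ F.map (doubleXIso₁ d hr hne).inv) :=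
          @IsIso.comp_isIso _ _ _ _ _ _ _ inferInstance h1
        exact @IsIso.comp_isIso _ _ _ _ _ _ _ inferInstance h2
      · exact ⟨0, (isZero_double_X _ hr i hi0 hi1).eq_of_src _ _,
          (Functor.map_isZero F (isZero_double_X d hr i hi0 hi1)).eq_of_src _ _⟩
  exact ⟨asIso ψ⟩

lemma double_vanishesOutside {M N : ModuleCat.{u} S} (d : M ⟶ N)
    (hr : (ComplexShape.up ℤ).Rel (-1) 0) : DRing.VanishesOutside (double d hr) (-1) 0 := by
  intro i hi
  exact isZero_double_X d hr i (by omega) (by omega)

/-- a two term complex with flat degree `0` term and tor amplitude in `[-1, 0]` is termwise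
flat. -/
theorem double_termwiseFlat {M N : ModuleCat.{u} S} (d : M ⟶ N)
    (hr : (ComplexShape.up ℤ).Rel (-1) 0) [Module.Flat S N]
    (htor : DRing.HasTorAmplitudeIn S (-1) 0 (DRing.toD (double d hr))) :
    DRing.TermwiseFlat (double d hr) := by
  have hE := double_vanishesOutside d hr
  have hN : Module.Flat S ((double d hr).X 0) :=
    Module.Flat.of_linearEquiv (doubleXIso₁ d hr hne).toLinearEquiv
  obtain ⟨ι, π, hT⟩ := twoTerm_triangle (double d hr) hE
  have h₂ : DRing.HasTorAmplitudeIn S (-1 + 1) (0 + 1)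
      ((DerivedCategory.singleFunctor (ModuleCat.{u} S) 0).obj ((double d hr).X 0)) :=
    Groth.Agent.Helper6.TorAmpPd.hasTorAmplitudeIn_mono (by norm_num) (by norm_num)
      (Groth.Agent.Helper6.TorAmpPd.hasTorAmplitudeIn_of_flat _ hN)
  have h₁ := hasTorAmplitudeIn_obj₁ _ hT (-1) 0 h₂ htor
  have h₁' : DRing.HasTorAmplitudeIn S 0 0
      ((DerivedCategory.singleFunctor (ModuleCat.{u} S) 0).obj ((double d hr).X (-1))) := by
    rw [hasTorAmplitudeIn_iff'] at h₁ ⊢
    refine ⟨inferInstance, ?_⟩
    have := h₁.2
    simpa using this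
  have hM : Module.Flat S ((double d hr).X (-1)) :=
    Groth.Agent.Helper6.TorAmpBridge.flat_of_hasTorAmplitudeIn_zero _ h₁'
  intro i
  by_cases hi0 : i = -1
  · subst hi0; exact hM
  · by_cases hi1 : i = 0
    · subst hi1; exact hN
    · have := ModuleCat.subsingleton_of_isZero (isZero_double_X d hr i hi0 hi1)
      infer_instance

theorem nonempty_lbc_iso [DRing.HasLBaseChange (algebraMap S S')] {M N : ModuleCat.{u} S}
    (d : M ⟶ N) (hr : (ComplexShape.up ℤ).Rel (-1) 0) [Module.Flat S N]
    (htor : DRing.HasTorAmplitudeIn S (-1) 0 (DRing.toD (double d hr))) :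
    Nonempty ((DRing.LBaseChange (algebraMap S S')).obj (DRing.toD (double d hr)) ≅
      DRing.toD (double (ModuleCat.ofHom (d.hom.baseChange S')) hr)) := by
  have hf := double_termwiseFlat d hr htor
  have hv : DRing.VanishesAbove (double d hr) 0 := fun i hi =>
    double_vanishesOutside d hr i (Or.inr hi)
  obtain ⟨e1⟩ := Groth.Agent.Helper6.LBCFlatCx.nonempty_lbcIso_of_flat (algebraMap S S')
    (double d hr) 0 hv hf
  obtain ⟨e2⟩ := nonempty_iso_double (S' := S') d hr
  exact ⟨e1 ≪≫ (DerivedCategory.Q.mapIso e2).symm⟩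

end Double

section Main

variable (A B A' B' : Type u) [CommRing A] [CommRing B]
    [CommRing A'] [CommRing B'] [Algebra A B] [Algebra A' B'] [Algebra A A'] [Algebra B B'] [Algebra A B']
    [IsScalarTower A A' B'] [IsScalarTower A B B'] [Algebra.IsPushout A A' B B']

theorem quasiIso_bcMapSelf [Module.Flat A B] : QuasiIso (NLCx.bcMapSelf A B A' B') := by
  obtain ⟨e, he⟩ := NLC.exists_homotopyEquiv (R := A) (S := B) (R' := A') (S' := B')
    (NLC.torCond_of_flat_left _)
  rw [← he]
  infer_instance

theorem s7222 [Module.Flat A B] :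
    QuasiIso (NLCx.bcMapSelf A B A' B') ∧
      (DRing.HasTorAmplitudeIn B (-1) 0 (LCI.NL A B) → ∀ [DRing.HasLBaseChange (algebraMap B B')],
        Nonempty ((DRing.LBaseChange (algebraMap B B')).obj (LCI.NL A B) ≅ LCI.NL A' B')) := by
  have hq := quasiIso_bcMapSelf A B A' B'
  refine ⟨hq, fun htor _ => ?_⟩
  haveI : Module.Flat B (ModuleCat.of B (Generators.self A B).toExtension.CotangentSpace) :=
    inferInstanceAs (Module.Flat B (Generators.self A B).toExtension.CotangentSpace)
  obtain ⟨e1⟩ := nonempty_lbc_iso (S' := B')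
    (ModuleCat.ofHom (Generators.self A B).toExtension.cotangentComplex)
    (show (ComplexShape.up ℤ).Rel (-1) 0 by simp) htor
  have hiso : IsIso (DerivedCategory.Q.map (NLCx.bcMapSelf A B A' B')) :=
    (DerivedCategory.isIso_Q_map_iff_quasiIso _ _).mpr hq
  exact ⟨e1 ≪≫ @asIso _ _ _ _ (DerivedCategory.Q.map (NLCx.bcMapSelf A B A' B')) hiso⟩

end Main

end Groth.Agent.Helper3.NLD
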