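import Mathlib
import Groth.Prelude.Def_SheafNL
import Groth.Agent.Helper3.KzCot
import Groth.Agent.Helper3.NLB
import Groth.Agent.Helper3.NLA
import Groth.Agent.Helper3.NLD

set_option autoImplicit false
set_option linter.style.haveILetI false
set_option linter.unusedSectionVars false
set_option linter.unusedVariables false
set_option linter.style.haveILetI false
set_option linter.unusedSectionVars false
set_option linter.unusedVariables false

universe u

open CategoryTheory CategoryTheory.Limits TensorProduct Algebra

namespace Groth.Agent.Helper3.NLE

section Basis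

variable {R S : Type u} [CommRing R] [CommRing S] [Algebra R S] (P : Extension.{u} R S)

/-- the cotangent module of an extension whose kernel is generated by a Koszul-regular sequence is
finite free. -/
theorem free_finite_of_kreg (r : ℕ) (f : Fin r → P.Ring)
    (hf : LCI.IsKoszulRegularSeq P.Ring (List.ofFn f))
    (hfI : Ideal.span (Set.range f) = P.ker) :
    Module.Free S P.Cotangent ∧ Module.Finite S P.Cotangent := by
  classical
  have hmem : ∀ i, f i ∈ P.ker := fun i => hfI ▸ Ideal.subset_span ⟨i, rfl⟩
  let v : Fin r → P.Cotangent := fun i => Extension.Cotangent.mk ⟨f i, hmem i⟩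
  have hsp : ⊤ ≤ Submodule.span S (Set.range v) :=
    (Extension.Cotangent.span_eq_top_of_span_eq_ker f hfI).ge
  have hli : LinearIndependent S v := by
    rw [Fintype.linearIndependent_iff]
    intro g hg i
    choose a ha using fun i => P.algebraMap_surjective (g i)
    have h1 : Extension.Cotangent.mk (P := P) (∑ i, a i • (⟨f i, hmem i⟩ : P.ker)) = 0 := by
      rw [map_sum, ← hg]
      refine Finset.sum_congr rfl fun i _ => ?_
      rw [map_smul, ← ha i, algebraMap_smul]
    rw [Extension.Cotangent.mk_eq_zero_iff] at h1
    have h2 : ((∑ i, a i • (⟨f i, hmem i⟩ : P.ker) : P.ker) : P.Ring) ∈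
        P.ker • Submodule.span P.Ring (Set.range f) := by
      have : P.ker • Submodule.span P.Ring (Set.range f) = P.ker ^ 2 := by
        change P.ker • Ideal.span _ = _
        rw [hfI, smul_eq_mul, pow_two]
      rw [this]
      exact h1
    rw [Submodule.mem_ideal_smul_span_iff_exists_sum] at h2
    obtain ⟨b, hb, hsum⟩ := h2
    rw [Finsupp.sum_fintype _ _ (fun i => by simp)] at hsum
    have h3 : ∑ i, (a i - b i) * f i = 0 := by
      simp only [sub_mul, Finset.sum_sub_distrib]
      rw [sub_eq_zero]
      have : ((∑ i, a i • (⟨f i, hmem i⟩ : P.ker) : P.ker) : P.Ring) = ∑ i, a i * f i := by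
        simp
      rw [← this, ← hsum]
      simp
    have h4 := KzCot.coeff_mem_of_kreg f hf P.ker hmem _ h3 i
    have h5 : a i ∈ P.ker := by
      have := P.ker.add_mem h4 (hb i)
      simpa using this
    rw [← ha i]
    exact h5
  let b : Module.Basis (Fin r) S P.Cotangent := Module.Basis.mk hli hsp
  exact ⟨Module.Free.of_basis b, Module.Finite.of_basis b⟩

end Basis

section Loc

variable {A B : Type u} [CommRing A] [CommRing B] [Algebra A B] (P : Extension.{u} A B)
  (g : P.Ring)

/-- the localized ring map. -/
noncomputable def locMap : Localization.Away g →+* Localization.Away (algebraMap P.Ring B g) :=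
  IsLocalization.Away.map (Localization.Away g) (Localization.Away (algebraMap P.Ring B g))
    (algebraMap P.Ring B) g

noncomputable instance locAlg :
    Algebra (Localization.Away g) (Localization.Away (algebraMap P.Ring B g)) :=
  (locMap P g).toAlgebra

instance locTower : IsScalarTower P.Ring (Localization.Away g)
    (Localization.Away (algebraMap P.Ring B g)) :=
  IsScalarTower.of_algebraMap_eq (fun x => by
    change _ = locMap P g (algebraMap P.Ring (Localization.Away g) x)
    rw [locMap, IsLocalization.Away.map, IsLocalization.map_eq]
    rw [IsScalarTower.algebraMap_apply P.Ring B (Localization.Away (algebraMap P.Ring B g))])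

instance locTowerA : IsScalarTower A (Localization.Away g)
    (Localization.Away (algebraMap P.Ring B g)) :=
  IsScalarTower.of_algebraMap_eq (fun x => by
    rw [IsScalarTower.algebraMap_apply A P.Ring (Localization.Away g),
      ← IsScalarTower.algebraMap_apply P.Ring (Localization.Away g),
      ← IsScalarTower.algebraMap_apply A P.Ring])

lemma loc_surjective : Function.Surjective
    (algebraMap (Localization.Away g) (Localization.Away (algebraMap P.Ring B g))) := by
  haveI : IsLocalization (Submonoid.map (algebraMap P.Ring B) (Submonoid.powers g))
      (Localization.Away (algebraMap P.Ring B g)) := by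
    rw [Submonoid.map_powers]
    infer_instance
  exact IsLocalization.map_surjective_of_surjective _ _ _ P.algebraMap_surjective

instance locPushout : Algebra.IsPushout P.Ring (Localization.Away g) B
    (Localization.Away (algebraMap P.Ring B g)) := by
  haveI : IsLocalization (Algebra.algebraMapSubmonoid B (Submonoid.powers g))
      (Localization.Away (algebraMap P.Ring B g)) := by
    rw [Algebra.algebraMapSubmonoid, Submonoid.map_powers]
    infer_instance
  exact (Algebra.isPushout_of_isLocalization (Submonoid.powers g) (Localization.Away g) B
    (Localization.Away (algebraMap P.Ring B g))).symm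

lemma loc_ker : RingHom.ker (algebraMap (Localization.Away g)
    (Localization.Away (algebraMap P.Ring B g))) =
    P.ker.map (algebraMap P.Ring (Localization.Away g)) := by
  have := IsLocalization.ker_map (M := Submonoid.powers g) (S := Localization.Away g)
    (T := Submonoid.powers (algebraMap P.Ring B g))
    (Localization.Away (algebraMap P.Ring B g)) (algebraMap P.Ring B) (Submonoid.map_powers _ _)
  exact this

/-- the localized extension `P_g → B_ḡ` (over the base ring `A`). -/
@[reducible] noncomputable def locExt : Extension.{u} A
    (Localization.Away (algebraMap P.Ring B g)) where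
  Ring := Localization.Away g
  commRing := inferInstance
  algebra₁ := inferInstance
  algebra₂ := locAlg P g
  isScalarTower := locTowerA P g
  σ x := (loc_surjective P g x).choose
  algebraMap_σ x := (loc_surjective P g x).choose_spec

/-- the localization hom of extensions. -/
noncomputable def locHom : P.Hom (locExt P g) where
  toRingHom := algebraMap P.Ring (Localization.Away g)
  toRingHom_algebraMap x := by
    change _ = algebraMap A (Localization.Away g) x
    rw [IsScalarTower.algebraMap_apply A P.Ring (Localization.Away g)]
  algebraMap_toRingHom x := by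
    change algebraMap (Localization.Away g) (Localization.Away (algebraMap P.Ring B g))
      (algebraMap P.Ring (Localization.Away g) x) = _
    rw [← IsScalarTower.algebraMap_apply, ← IsScalarTower.algebraMap_apply]

lemma L_bijective : Function.Bijective
    (NLB.L P.Ring (Localization.Away g) B (Localization.Away (algebraMap P.Ring B g))) := by
  constructor
  · apply NLB.L_injective P.Ring (Localization.Away g) P.Ring (Localization.Away g) B
      (Localization.Away (algebraMap P.Ring B g))
    exact Module.Flat.lTensor_preserves_injective_linearMap _ (Subtype.val_injective)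
  · exact NLB.L_surjective P.Ring (Localization.Away g) P.Ring (Localization.Away g) B
      (Localization.Away (algebraMap P.Ring B g)) P.algebraMap_surjective

theorem lbc_bijective : Function.Bijective
    (LinearMap.liftBaseChange (Localization.Away (algebraMap P.Ring B g))
      (Extension.Cotangent.map (locHom P g))) := by
  have hc : ∀ x, Extension.Cotangent.map (locHom P g) (Extension.Cotangent.mk x) =
      Extension.Cotangent.mk (P := locExt P g) (NLB.kerMap P.Ring (Localization.Away g) B
        (Localization.Away (algebraMap P.Ring B g)) x) := by
    intro x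
    rw [Extension.Cotangent.map_mk]
    rfl
  constructor
  · refine NLB.lbc_injective (Extension.Cotangent.mk (P := P))
      (Extension.Cotangent.mk (P := locExt P g)) _ hc Extension.Cotangent.mk_surjective
      Extension.Cotangent.mk_surjective ?_ (loc_surjective P g) (L_bijective P g)
    rw [Extension.Cotangent.ker_mk]
  · exact NLB.lbc_surjective (Extension.Cotangent.mk (P := P))
      (Extension.Cotangent.mk (P := locExt P g)) _ hc
      Extension.Cotangent.mk_surjective (L_bijective P g).2

theorem loc_free_finite (l : List (Localization.Away g))
    (hl : LCI.IsKoszulRegularSeq (Localization.Away g) l)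
    (hI : P.ker.map (algebraMap P.Ring (Localization.Away g)) = Ideal.span {x | x ∈ l}) :
    Module.Free (Localization.Away (algebraMap P.Ring B g))
        (Localization.Away (algebraMap P.Ring B g) ⊗[B] P.Cotangent) ∧
      Module.Finite (Localization.Away (algebraMap P.Ring B g))
        (Localization.Away (algebraMap P.Ring B g) ⊗[B] P.Cotangent) := by
  have h1 := free_finite_of_kreg (locExt P g) l.length l.get (by rwa [List.ofFn_get])
    (by
      rw [Set.range_list_get]
      exact (hI.symm.trans (loc_ker P g).symm))
  let e := LinearEquiv.ofBijective _ (lbc_bijective P g)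
  haveI := h1.1
  haveI := h1.2
  exact ⟨Module.Free.of_equiv e.symm, Module.Finite.equiv e.symm⟩

/-- the good elements of `B`. -/
def Good (b : B) : Prop :=
  Module.Free (Localization.Away b) (Localization.Away b ⊗[B] P.Cotangent) ∧
    Module.Finite (Localization.Away b) (Localization.Away b ⊗[B] P.Cotangent)

theorem span_good (hK : LCI.IsKoszulRegularIdeal P.ker) :
    Ideal.span {b : B | Good P b} = ⊤ := by
  by_contra hne
  obtain ⟨m, hm, hle⟩ := Ideal.exists_le_maximal _ hne
  haveI := hm.isPrime
  let 𝔭 : PrimeSpectrum P.Ring := ⟨m.comap (algebraMap P.Ring B), inferInstance⟩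
  have hker : P.ker ≤ 𝔭.asIdeal := by
    intro x hx
    change algebraMap P.Ring B x ∈ m
    rw [(RingHom.mem_ker).mp hx]
    exact m.zero_mem
  obtain ⟨g, hg, l, hl, hI⟩ := hK 𝔭 hker
  have hgood : Good P (algebraMap P.Ring B g) := loc_free_finite P g l hl hI
  exact hg (hle (Ideal.subset_span hgood))

theorem finite_projective_of_kreg (hK : LCI.IsKoszulRegularIdeal P.ker) :
    Module.Finite B P.Cotangent ∧ Module.Projective B P.Cotangent := by
  have hs := span_good P hK
  haveI hloc : ∀ b : {b : B | Good P b}, IsLocalizedModule (Submonoid.powers b.1)
      (TensorProduct.mk B (Localization.Away b.1) P.Cotangent 1) := fun b =>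
    (isLocalizedModule_iff_isBaseChange (Submonoid.powers b.1) (Localization.Away b.1) _).mpr
      (TensorProduct.isBaseChange B P.Cotangent (Localization.Away b.1))
  haveI hfp : Module.FinitePresentation B P.Cotangent := by
    refine Module.FinitePresentation.of_localizationSpan' {b : B | Good P b} hs
      (Rₚ := fun b => Localization.Away b.1)
      (Mₚ := fun b => Localization.Away b.1 ⊗[B] P.Cotangent)
      (fun b => TensorProduct.mk B (Localization.Away b.1) P.Cotangent 1) (fun b => ?_)
    haveI := b.2.1
    haveI := b.2.2
    exact Module.finitePresentation_of_projective _ _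
  haveI hflat : Module.Flat B P.Cotangent := by
    refine Module.flat_of_isLocalized_span B P.Cotangent {b : B | Good P b} hs
      (fun b => Localization.Away b.1 ⊗[B] P.Cotangent)
      (fun b => TensorProduct.mk B (Localization.Away b.1) P.Cotangent 1) (fun b => ?_)
    haveI := b.2.1
    haveI : Module.Flat B (Localization.Away b.1) := IsLocalization.flat _ (Submonoid.powers b.1)
    exact Module.Flat.trans B (Localization.Away b.1) _
  exact ⟨inferInstance, Module.Flat.projective_of_finitePresentation⟩

end Loc

section Main

attribute [local instance] HasDerivedCategory.standard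

variable {A B : Type u} [CommRing A] [CommRing B] [Algebra A B]

/-- the naive cotangent complex of a presentation with finite projective conormal module and
finite projective cotangent space is a two-term complex of finite projectives. -/
theorem cx_termwise (P : Extension.{u} A B)
    (h0 : Module.Finite B P.Cotangent ∧ Module.Projective B P.Cotangent)
    (h1 : Module.Finite B P.CotangentSpace ∧ Module.Projective B P.CotangentSpace) :
    DRing.TermwiseFiniteProjective (NLCx.cx P) := by
  intro i
  by_cases hi0 : i = -1
  · subst hi0
    haveI := h0.1
    haveI := h0.2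
    exact ⟨Module.Finite.equiv (NLA.cxIso₀ P).toLinearEquiv.symm,
      Module.Projective.of_equiv (NLA.cxIso₀ P).toLinearEquiv.symm⟩
  · by_cases hi1 : i = 0
    · subst hi1
      haveI := h1.1
      haveI := h1.2
      exact ⟨Module.Finite.equiv (NLA.cxIso₁ P).toLinearEquiv.symm,
        Module.Projective.of_equiv (NLA.cxIso₁ P).toLinearEquiv.symm⟩
    · have := ModuleCat.subsingleton_of_isZero (NLA.isZero_cx_X P i hi0 hi1)
      exact ⟨inferInstance, inferInstance⟩

theorem main (h : LCI.IsLCI A B) :
    DRing.IsPerfect B (LCI.NL A B) ∧ DRing.HasTorAmplitudeIn B (-1) 0 (LCI.NL A B) := by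
  obtain ⟨_, n, f, hf, hK⟩ := h
  let G : Generators A B (Fin n) := Generators.ofAlgHom f hf
  have hK' : LCI.IsKoszulRegularIdeal G.toExtension.ker := by
    have h := Generators.ker_ofAlgHom f hf
    rw [show G.toExtension.ker = RingHom.ker f.toRingHom from h]
    exact hK
  have h0 := finite_projective_of_kreg G.toExtension hK'
  have h1 : Module.Finite B G.toExtension.CotangentSpace ∧
      Module.Projective B G.toExtension.CotangentSpace :=
    ⟨Module.Finite.of_basis G.cotangentSpaceBasis,
      Module.Projective.of_basis G.cotangentSpaceBasis⟩
  have hT := cx_termwise G.toExtension h0 h1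
  have hv : DRing.VanishesOutside (NLCx.cx G.toExtension) (-1) 0 := by
    intro i hi
    exact NLA.isZero_cx_X _ i (by omega) (by omega)
  let e := NLA.homotopyEquiv ((Generators.self A B).defaultHom G).toExtensionHom
    (G.defaultHom (Generators.self A B)).toExtensionHom
  have hq : QuasiIso e.hom := inferInstance
  have hiso : IsIso (DerivedCategory.Q.map e.hom) :=
    (DerivedCategory.isIso_Q_map_iff_quasiIso _ _).mpr hq
  let eD : DRing.toD (NLCx.cx G.toExtension) ≅ LCI.NL A B :=
    (@asIso _ _ _ _ (DerivedCategory.Q.map e.hom) hiso).symm
  refine ⟨⟨NLCx.cx G.toExtension, -1, 0, hv, hT, ⟨eD⟩⟩, ⟨NLCx.cx G.toExtension, hv, ?_, ⟨eD⟩⟩⟩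
  intro i
  haveI := (hT i).2
  infer_instance

end Main

end Groth.Agent.Helper3.NLE
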