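import Mathlib
set_option autoImplicit false
set_option linter.style.haveILetI false
set_option linter.unusedSectionVars false
set_option linter.unusedVariables false
set_option linter.style.haveILetI false
set_option linter.unusedSectionVars false
set_option linter.unusedVariables false

universe u
open Algebra MvPolynomial TensorProduct

namespace Groth.Agent.Helper3.Schan

variable {R S : Type u} [CommRing R] [CommRing S] [Algebra R S]

section Step1
variable {ι : Type} [Fintype ι]

/-- generators of `S` over `S` with prescribed values. -/
noncomputable def selfGen (b : ι → S) : Generators S S ι :=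
  Generators.ofSurjective b (fun s => ⟨C s, by simp⟩)

@[simp] lemma selfGen_val (b : ι → S) : (selfGen b).val = b := rfl

lemma cc_injective (Q : Generators S S ι) : Function.Injective Q.toExtension.cotangentComplex := by
  have : FormallySmooth S Q.toExtension.Ring :=
    inferInstanceAs (FormallySmooth S (MvPolynomial ι S))
  rw [Extension.cotangentComplex_injective_iff]
  infer_instance

lemma cc_surjective (Q : Generators S S ι) : Function.Surjective Q.toExtension.cotangentComplex := by
  intro y
  exact (Q.toExtension.exact_cotangentComplex_toKaehler y).mp (Subsingleton.elim _ _)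

noncomputable def selfCotEquiv (Q : Generators S S ι) : Q.toExtension.Cotangent ≃ₗ[S] (ι → S) :=
  (LinearEquiv.ofBijective Q.toExtension.cotangentComplex ⟨cc_injective Q, cc_surjective Q⟩).trans
    Q.cotangentSpaceBasis.equivFun

end Step1


section Step2
variable {ι σ : Type} (Q : Generators S S ι) (P : Generators R S σ)

/-- retraction `R[y,x] → R[x]`, `y_j ↦` a lift of `Q.val j`. -/
noncomputable def retr : Generators.Hom (Q.comp P) P where
  val := Sum.elim (fun j => P.σ (Q.val j)) X
  aeval_val i := by cases i <;> simp

lemma retr_comp : (retr Q P).comp (Q.toComp P) = Generators.Hom.id P := by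
  ext i
  simp [retr]

noncomputable def retrL : (Q.comp P).toExtension.Cotangent →ₗ[S] S ⊗[S] P.toExtension.Cotangent :=
  (TensorProduct.lid S _).symm.toLinearMap ∘ₗ Extension.Cotangent.map (retr Q P).toExtensionHom

lemma retrL_comp : retrL Q P ∘ₗ
    (Extension.Cotangent.map (Q.toComp P).toExtensionHom).liftBaseChange S = LinearMap.id := by
  ext x
  have h := Extension.Cotangent.map_comp (f := (Q.toComp P).toExtensionHom) (g := (retr Q P).toExtensionHom)
  rw [← Generators.Hom.toExtensionHom_comp, retr_comp, Generators.Hom.toExtensionHom_id,
    Extension.Cotangent.map_id] at h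
  have h2 := LinearMap.congr_fun h x
  simp only [LinearMap.coe_comp, LinearMap.coe_restrictScalars, Function.comp_apply,
    LinearMap.id_coe, id_eq] at h2
  simp [retrL, ← h2]

noncomputable def splitEquiv : (Q.comp P).toExtension.Cotangent ≃ₗ[S]
    (S ⊗[S] P.toExtension.Cotangent) × Q.toExtension.Cotangent :=
  ((Generators.Cotangent.exact Q P).splitInjectiveEquiv
    (Generators.Cotangent.surjective_map_ofComp Q P) ⟨retrL Q P, retrL_comp Q P⟩).1

end Step2


section Step3
variable {τ τ' : Type} (G : Generators R S τ) (G' : Generators R S τ') (e : τ ≃ τ')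
  (he : ∀ i, G'.val (e i) = G.val i)

noncomputable def reHom : Generators.Hom G G' where
  val i := X (e i)
  aeval_val i := by simp [he]

lemma reHom_comp (he' : ∀ i, G.val (e.symm i) = G'.val i) :
    (reHom G' G e.symm he').comp (reHom G G' e he) = Generators.Hom.id G := by
  ext i
  simp [reHom]

noncomputable def reEquiv : G.toExtension.Cotangent ≃ₗ[S] G'.toExtension.Cotangent := by
  have he' : ∀ i, G.val (e.symm i) = G'.val i := fun i => by rw [← he, Equiv.apply_symm_apply]
  have he'' : ∀ i, G'.val (e.symm.symm i) = G.val i := he
  refine LinearEquiv.ofLinear (Extension.Cotangent.map (reHom G G' e he).toExtensionHom)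
    (Extension.Cotangent.map (reHom G' G e.symm he').toExtensionHom) ?_ ?_
  · have h := Extension.Cotangent.map_comp (f := (reHom G' G e.symm he').toExtensionHom)
      (g := (reHom G G' e he).toExtensionHom)
    have h3 : (reHom G G' e he).comp (reHom G' G e.symm he') = Generators.Hom.id G' := by
      ext i
      simp [reHom]
    rw [← Generators.Hom.toExtensionHom_comp, h3, Generators.Hom.toExtensionHom_id,
      Extension.Cotangent.map_id] at h
    exact h.symm
  · have h := Extension.Cotangent.map_comp (f := (reHom G G' e he).toExtensionHom)
      (g := (reHom G' G e.symm he').toExtensionHom)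
    rw [← Generators.Hom.toExtensionHom_comp, reHom_comp, Generators.Hom.toExtensionHom_id,
      Extension.Cotangent.map_id] at h
    exact h.symm

end Step3

section Step4
variable {n : ℕ} (α : MvPolynomial (Fin n) R →ₐ[R] S) (hα : Function.Surjective α)

lemma algebraMap_ofSurjective (x : MvPolynomial (Fin n) R) :
    algebraMap (Extension.ofSurjective α hα).Ring S x = α x := rfl

lemma algebraMap_ofAlgHom (x : MvPolynomial (Fin n) R) :
    algebraMap (Generators.ofAlgHom α hα).toExtension.Ring S x = α x := by
  change algebraMap (Generators.ofAlgHom α hα).Ring S x = α x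
  rw [Generators.algebraMap_apply]
  have : aeval (Generators.ofAlgHom α hα).val = α := by
    apply MvPolynomial.algHom_ext
    intro i
    simp [Generators.ofAlgHom]
  rw [this]

noncomputable def toGen : (Extension.ofSurjective α hα).Hom (Generators.ofAlgHom α hα).toExtension where
  toRingHom := RingHom.id _
  toRingHom_algebraMap x := rfl
  algebraMap_toRingHom x := by
    rw [algebraMap_ofSurjective]
    exact algebraMap_ofAlgHom α hα x

noncomputable def ofGen : (Generators.ofAlgHom α hα).toExtension.Hom (Extension.ofSurjective α hα) where
  toRingHom := RingHom.id _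
  toRingHom_algebraMap x := rfl
  algebraMap_toRingHom x := by
    rw [algebraMap_ofAlgHom]
    rfl

noncomputable def genEquiv : (Extension.ofSurjective α hα).Cotangent ≃ₗ[S]
    (Generators.ofAlgHom α hα).toExtension.Cotangent := by
  refine LinearEquiv.ofLinear (Extension.Cotangent.map (toGen α hα))
    (Extension.Cotangent.map (ofGen α hα)) ?_ ?_
  · have h := Extension.Cotangent.map_comp (f := ofGen α hα) (g := toGen α hα)
    have h3 : (toGen α hα).comp (ofGen α hα) = Extension.Hom.id _ := by
      ext x
      rfl
    rw [h3, Extension.Cotangent.map_id] at h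
    exact h.symm
  · have h := Extension.Cotangent.map_comp (f := toGen α hα) (g := ofGen α hα)
    have h3 : (ofGen α hα).comp (toGen α hα) = Extension.Hom.id _ := by
      ext x
      rfl
    rw [h3, Extension.Cotangent.map_id] at h
    exact h.symm

end Step4


theorem main (R S : Type u) [CommRing R] [CommRing S]
    [Algebra R S] (n m : ℕ) (α : MvPolynomial (Fin n) R →ₐ[R] S) (hα : Function.Surjective α)
    (β : MvPolynomial (Fin m) R →ₐ[R] S) (hβ : Function.Surjective β) :
    Nonempty (((Algebra.Extension.ofSurjective α hα).Cotangent × (Fin m → S)) ≃ₗ[S]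
      ((Algebra.Extension.ofSurjective β hβ).Cotangent × (Fin n → S))) := by
  let P : Generators R S (Fin n) := Generators.ofAlgHom α hα
  let P' : Generators R S (Fin m) := Generators.ofAlgHom β hβ
  let Q : Generators S S (Fin m) := selfGen (fun j => β (X j))
  let Q' : Generators S S (Fin n) := selfGen (fun i => α (X i))
  have e1 : ((Extension.ofSurjective α hα).Cotangent × (Fin m → S)) ≃ₗ[S]
      (Q.comp P).toExtension.Cotangent :=
    (LinearEquiv.prodCongr ((genEquiv α hα).trans (TensorProduct.lid S _).symm)
      (selfCotEquiv Q).symm).trans (splitEquiv Q P).symm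
  have e2 : ((Extension.ofSurjective β hβ).Cotangent × (Fin n → S)) ≃ₗ[S]
      (Q'.comp P').toExtension.Cotangent :=
    (LinearEquiv.prodCongr ((genEquiv β hβ).trans (TensorProduct.lid S _).symm)
      (selfCotEquiv Q').symm).trans (splitEquiv Q' P').symm
  have e3 : (Q.comp P).toExtension.Cotangent ≃ₗ[S] (Q'.comp P').toExtension.Cotangent :=
    reEquiv (Q.comp P) (Q'.comp P') (Equiv.sumComm _ _) (by
      rintro (i | i) <;> simp [P, P', Q, Q', Generators.ofAlgHom])
  exact ⟨e1.trans (e3.trans e2.symm)⟩

end Groth.Agent.Helper3.Schan
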