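import Mathlib
import Groth.Prelude.Def_SheafNL
import Groth.Agent.Helper3.NLA
import Groth.Agent.Helper3.NLB
import Groth.Agent.Helper3.NLC
import Groth.Agent.Helper3.NLE
import Groth.Agent.Helper3.Schan

set_option autoImplicit false
set_option linter.style.haveILetI false
set_option linter.unusedSectionVars false
set_option linter.unusedVariables false
set_option linter.style.haveILetI false
set_option linter.unusedSectionVars false
set_option linter.unusedVariables false

universe u

open CategoryTheory CategoryTheory.Limits TensorProduct Algebra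

namespace Groth.Agent.Helper3.NLF

open Groth.Agent.Helper3.NLA Groth.Agent.Helper3.NLB

section SameVars0

variable {R S R' S' : Type u} [CommRing R] [CommRing S] [CommRing R'] [CommRing S']
  [Algebra R S] [Algebra R' S'] [Algebra R R'] [Algebra S S'] [Algebra R S']
  [IsScalarTower R R' S'] [IsScalarTower R S S']
  {ι : Type} (G : Generators R S ι) (G' : Generators R' S' ι)
  (h : ∀ i, G'.val i = algebraMap S S' (G.val i))

/-- same-variables hom, index type in `Type`. -/
noncomputable def sameVarsHom0 : G.Hom G' where
  val i := MvPolynomial.X i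
  aeval_val i := by simp [h]

/-- the same-variables hom is `MvPolynomial.map` -/
theorem toRingHom_eq (p : MvPolynomial ι R) :
    (sameVarsHom0 G G' h).toExtensionHom.toRingHom p =
      MvPolynomial.map (algebraMap R R') p := by
  change (sameVarsHom0 G G' h).toAlgHom p = _
  induction p using MvPolynomial.induction_on with
  | C a =>
    simp only [Generators.Hom.toAlgHom, MvPolynomial.map_C]
    rw [MvPolynomial.aeval_C]
    rw [IsScalarTower.algebraMap_apply R R' (MvPolynomial ι R')]
    rfl
  | add p q hp hq => rw [map_add, map_add, hp, hq]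
  | mul_X p i hp =>
    rw [map_mul, map_mul, hp]
    congr 1
    simp [Generators.Hom.toAlgHom, sameVarsHom0]

theorem lbcSp_bijective : Function.Bijective
    (LinearMap.liftBaseChange S'
      (Extension.CotangentSpace.map (sameVarsHom0 G G' h).toExtensionHom)) := by
  have e : LinearMap.liftBaseChange S'
      (Extension.CotangentSpace.map (sameVarsHom0 G G' h).toExtensionHom) =
      ((G.cotangentSpaceBasis.baseChange S').equiv G'.cotangentSpaceBasis
        (Equiv.refl ι)).toLinearMap := by
    apply (G.cotangentSpaceBasis.baseChange S').ext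
    intro i
    rw [LinearEquiv.coe_coe, Module.Basis.equiv_apply, Equiv.refl_apply,
      Module.Basis.baseChange_apply, LinearMap.liftBaseChange_tmul, one_smul]
    apply G'.cotangentSpaceBasis.ext_elem
    intro j
    rw [Generators.repr_CotangentSpaceMap]
    simp only [sameVarsHom0, Module.Basis.repr_self]
    classical
    rw [MvPolynomial.pderiv_X, Finsupp.single_apply, Pi.single_apply]
    by_cases hij : i = j
    · subst hij; simp
    · rw [if_neg hij, if_neg hij, map_zero]
  rw [e]
  exact LinearEquiv.bijective _

variable [Algebra.IsPushout R R' S S']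

theorem lbcCot_surjective :
    Function.Surjective (LinearMap.liftBaseChange S'
      (Extension.Cotangent.map (sameVarsHom0 G G' h).toExtensionHom)) := by
  let f := (sameVarsHom0 G G' h).toExtensionHom
  letI algPP' : Algebra G.toExtension.Ring G'.toExtension.Ring := f.toRingHom.toAlgebra
  letI algPS' : Algebra G.toExtension.Ring S' :=
    ((algebraMap S S').comp (algebraMap G.toExtension.Ring S)).toAlgebra
  haveI t1 : IsScalarTower G.toExtension.Ring S S' := IsScalarTower.of_algebraMap_eq' rfl
  haveI t2 : IsScalarTower G.toExtension.Ring G'.toExtension.Ring S' :=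
    IsScalarTower.of_algebraMap_eq (fun x => (f.algebraMap_toRingHom x).symm)
  haveI t3 : IsScalarTower R G.toExtension.Ring G'.toExtension.Ring :=
    IsScalarTower.of_algebraMap_eq (fun x => by
      change _ = f.toRingHom (algebraMap R G.toExtension.Ring x)
      rw [f.toRingHom_algebraMap, ← IsScalarTower.algebraMap_apply])
  haveI po : Algebra.IsPushout R R' G.toExtension.Ring G'.toExtension.Ring := by
    constructor
    refine IsBaseChange.of_equiv (MvPolynomial.algebraTensorAlgEquiv (σ := ι) R R').toLinearEquiv ?_
    intro x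
    change MvPolynomial.algebraTensorAlgEquiv (σ := ι) R R' (1 ⊗ₜ x) = f.toRingHom x
    rw [MvPolynomial.algebraTensorAlgEquiv_tmul, one_smul, toRingHom_eq]
  have hc : ∀ x, Extension.Cotangent.map f (Extension.Cotangent.mk x) =
      Extension.Cotangent.mk (kerMap G.toExtension.Ring G'.toExtension.Ring S S' x) := by
    intro x
    rw [Extension.Cotangent.map_mk]
    rfl
  exact lbc_surjective Extension.Cotangent.mk Extension.Cotangent.mk
    (Extension.Cotangent.map f) hc Extension.Cotangent.mk_surjective
    (L_surjective R R' _ _ S S' G.toExtension.algebraMap_surjective)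

end SameVars0

section Top

variable {R S : Type u} [CommRing R] [CommRing S] [Algebra R S]
  (S' : Type u) [CommRing S'] [Algebra S S']
  {P₁ P₂ P₃ : Extension.{u} R S}

/-- base change of `Cotangent.map` for a hom of extensions of the same ring. -/
noncomputable def topCot (h : P₁.Hom P₂) : S' ⊗[S] P₁.Cotangent →ₗ[S'] S' ⊗[S] P₂.Cotangent :=
  (Extension.Cotangent.map h).baseChange S'

lemma topCot_tmul (h : P₁.Hom P₂) (s : S') (c : P₁.Cotangent) :
    topCot S' h (s ⊗ₜ c) = s ⊗ₜ Extension.Cotangent.map h c := rfl

lemma topCot_comm (h : P₁.Hom P₂) (x : S' ⊗[S] P₁.Cotangent) :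
    P₂.cotangentComplex.baseChange S' (topCot S' h x) =
      (Extension.CotangentSpace.map h).baseChange S' (P₁.cotangentComplex.baseChange S' x) := by
  induction x using TensorProduct.induction_on with
  | zero => simp
  | add a b ha hb => rw [map_add, map_add, map_add, map_add, ha, hb]
  | tmul s c =>
    rw [topCot_tmul, LinearMap.baseChange_tmul, LinearMap.baseChange_tmul,
      LinearMap.baseChange_tmul, Extension.CotangentSpace.map_cotangentComplex]

/-- the induced map on `bcH1`. -/
noncomputable def topMap (h : P₁.Hom P₂) : NLCx.bcH1 P₁ S' →ₗ[S'] NLCx.bcH1 P₂ S' :=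
  (topCot S' h).restrict (p := NLCx.bcH1 P₁ S') (q := NLCx.bcH1 P₂ S') (fun x hx => by
    change P₂.cotangentComplex.baseChange S' (topCot S' h x) = 0
    have hx' : P₁.cotangentComplex.baseChange S' x = 0 := hx
    rw [topCot_comm, hx', map_zero])

lemma topMap_val (h : P₁.Hom P₂) (x : NLCx.bcH1 P₁ S') :
    (topMap S' h x).val = topCot S' h x.val := rfl

lemma topCot_eq_add (h h' : P₁.Hom P₂) (x : S' ⊗[S] P₁.Cotangent) :
    topCot S' h x = topCot S' h' x +
      (h.sub h').baseChange S' (P₁.cotangentComplex.baseChange S' x) := by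
  have key := Extension.Cotangent.map_sub_map h h'
  have key' : Extension.Cotangent.map h = Extension.Cotangent.map h' +
      (h.sub h') ∘ₗ P₁.cotangentComplex := by
    rw [← key]; abel
  induction x using TensorProduct.induction_on with
  | zero => simp
  | add a b ha hb => rw [map_add, map_add, map_add, map_add, ha, hb]; abel
  | tmul s c =>
    rw [topCot_tmul, topCot_tmul, LinearMap.baseChange_tmul, LinearMap.baseChange_tmul, key',
      LinearMap.add_apply, TensorProduct.tmul_add]
    rfl

lemma topMap_eq (h h' : P₁.Hom P₂) : topMap S' h = topMap S' h' := by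
  apply LinearMap.ext
  intro x
  apply Subtype.ext
  rw [topMap_val, topMap_val, topCot_eq_add S' h h']
  have hx : P₁.cotangentComplex.baseChange S' x.val = 0 := x.2
  rw [hx, map_zero, add_zero]

lemma topMap_id (x : NLCx.bcH1 P₁ S') : topMap S' (Extension.Hom.id P₁) x = x := by
  apply Subtype.ext
  rw [topMap_val, topCot, Extension.Cotangent.map_id, LinearMap.baseChange_id]
  rfl

lemma topMap_comp (h : P₁.Hom P₂) (h' : P₂.Hom P₃) (x : NLCx.bcH1 P₁ S') :
    topMap S' (h'.comp h) x = topMap S' h' (topMap S' h x) := by
  apply Subtype.ext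
  rw [topMap_val, topMap_val, topMap_val]
  generalize x.val = y
  induction y using TensorProduct.induction_on with
  | zero => simp
  | add a b ha hb => rw [map_add, map_add, map_add, ha, hb]
  | tmul s c =>
    rw [topCot_tmul, topCot_tmul, topCot_tmul, Extension.Cotangent.map_comp]
    rfl

/-- `bcH1` does not depend on the presentation. -/
noncomputable def topEquiv (h : P₁.Hom P₂) (h' : P₂.Hom P₁) :
    NLCx.bcH1 P₁ S' ≃ₗ[S'] NLCx.bcH1 P₂ S' :=
  LinearEquiv.ofLinear (topMap S' h) (topMap S' h')
    (by
      apply LinearMap.ext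
      intro x
      rw [LinearMap.comp_apply, ← topMap_comp, topMap_eq S' (h.comp h') (Extension.Hom.id P₂),
        topMap_id]
      rfl)
    (by
      apply LinearMap.ext
      intro x
      rw [LinearMap.comp_apply, ← topMap_comp, topMap_eq S' (h'.comp h) (Extension.Hom.id P₁),
        topMap_id]
      rfl)

end Top

section TopCompat

variable {R S R' S' : Type u} [CommRing R] [CommRing S] [CommRing R'] [CommRing S']
  [Algebra R S] [Algebra R' S'] [Algebra R R'] [Algebra S S'] [Algebra R S']
  [IsScalarTower R R' S'] [IsScalarTower R S S']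
  {P₁ P₂ : Extension.{u} R S} {Q : Extension.{u} R' S'}

lemma bcH1Map_comp_top (h : P₁.Hom P₂) (f : P₂.Hom Q) (x : NLCx.bcH1 P₁ S') :
    NLCx.bcH1Map (f.comp h) x = NLCx.bcH1Map f (topMap S' h x) := by
  apply Subtype.ext
  change LinearMap.liftBaseChange S' (Extension.Cotangent.map (f.comp h)) x.val =
    LinearMap.liftBaseChange S' (Extension.Cotangent.map f) (topCot S' h x.val)
  generalize x.val = y
  induction y using TensorProduct.induction_on with
  | zero => simp
  | add a b ha hb => rw [map_add, map_add, map_add, ha, hb]
  | tmul s c =>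
    rw [topCot_tmul, LinearMap.liftBaseChange_tmul, LinearMap.liftBaseChange_tmul,
      Extension.Cotangent.map_comp]
    rfl

end TopCompat

section Main

variable (A B A' B' : Type u) [CommRing A] [CommRing B] [CommRing A'] [CommRing B']
  [Algebra A B] [Algebra A' B'] [Algebra A A'] [Algebra B B'] [Algebra A B']
  [IsScalarTower A A' B'] [IsScalarTower A B B']

/-- for an lci algebra the conormal module of every finite polynomial presentation is finite
projective. -/
theorem cot_finite_projective_of_isLCI (h : LCI.IsLCI A B) (n : ℕ)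
    (α : MvPolynomial (Fin n) A →ₐ[A] B) (hα : Function.Surjective α) :
    Module.Finite B (Generators.ofAlgHom α hα).toExtension.Cotangent ∧
      Module.Projective B (Generators.ofAlgHom α hα).toExtension.Cotangent := by
  obtain ⟨_, m, β, hβ, hK⟩ := h
  have hK' : LCI.IsKoszulRegularIdeal (Generators.ofAlgHom β hβ).toExtension.ker := by
    have h := Generators.ker_ofAlgHom β hβ
    rw [show (Generators.ofAlgHom β hβ).toExtension.ker = RingHom.ker β.toRingHom from h]
    exact hK
  obtain ⟨h1, h2⟩ := NLE.finite_projective_of_kreg _ hK'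
  obtain ⟨e⟩ := Schan.main A B n m α hα β hβ
  let e' : ((Generators.ofAlgHom α hα).toExtension.Cotangent × (Fin m → B)) ≃ₗ[B]
      ((Generators.ofAlgHom β hβ).toExtension.Cotangent × (Fin n → B)) :=
    (LinearEquiv.prodCongr (Schan.genEquiv α hα).symm (LinearEquiv.refl _ _)).trans
      (e.trans (LinearEquiv.prodCongr (Schan.genEquiv β hβ) (LinearEquiv.refl _ _)))
  haveI hfinL : Module.Finite B
      ((Generators.ofAlgHom α hα).toExtension.Cotangent × (Fin m → B)) :=
    Module.Finite.equiv e'.symm
  haveI hprojL : Module.Projective B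
      ((Generators.ofAlgHom α hα).toExtension.Cotangent × (Fin m → B)) :=
    Module.Projective.of_equiv e'.symm
  exact ⟨Module.Finite.of_surjective
      (LinearMap.fst B (Generators.ofAlgHom α hα).toExtension.Cotangent (Fin m → B))
      LinearMap.fst_surjective,
    Module.Projective.of_split
      (LinearMap.inl B (Generators.ofAlgHom α hα).toExtension.Cotangent (Fin m → B))
      (LinearMap.fst B (Generators.ofAlgHom α hα).toExtension.Cotangent (Fin m → B))
      (by ext; simp)⟩

variable [Algebra.IsPushout A A' B B']

variable {A B} in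
include A in
lemma aeval_surjective0 {ι : Type} (G : Generators A B ι) :
    Function.Surjective (MvPolynomial.aeval (R := A') (fun i => algebraMap B B' (G.val i))) := by
  have hS : IsBaseChange A' (IsScalarTower.toAlgHom A B B').toLinearMap :=
    Algebra.IsPushout.out (R := A) (S := A') (R' := B) (S' := B')
  intro x
  induction x using hS.inductionOn with
  | zero => exact ⟨0, map_zero _⟩
  | tmul m =>
    refine ⟨MvPolynomial.map (algebraMap A A') (G.σ m), ?_⟩
    rw [MvPolynomial.aeval_map_algebraMap]
    have := MvPolynomial.aeval_algebraMap_apply (A := B) (B := B') G.val (G.σ m)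
    rw [G.aeval_val_σ] at this
    exact this
  | smul r' n hn =>
    obtain ⟨p, rfl⟩ := hn
    exact ⟨r' • p, by rw [map_smul]⟩
  | add a b ha hb =>
    obtain ⟨p, rfl⟩ := ha
    obtain ⟨q, rfl⟩ := hb
    exact ⟨p + q, map_add _ _ _⟩

theorem main (hB : LCI.IsLCI A B) (hB' : LCI.IsLCI A' B') :
    Module.Finite B' (LinearMap.ker (NLCx.bcH1Map
        ((Generators.self A B).defaultHom (Generators.self A' B')).toExtensionHom)) ∧
      Module.Projective B' (LinearMap.ker (NLCx.bcH1Map
        ((Generators.self A B).defaultHom (Generators.self A' B')).toExtensionHom)) := by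
  obtain ⟨_, n, α, hα, _⟩ := id hB
  let G : Generators A B (Fin n) := Generators.ofAlgHom α hα
  have hv' := aeval_surjective0 (A' := A') (B' := B') G
  let α' : MvPolynomial (Fin n) A' →ₐ[A'] B' :=
    MvPolynomial.aeval (fun i => algebraMap B B' (G.val i))
  let G' : Generators A' B' (Fin n) := Generators.ofAlgHom α' hv'
  have hval : ∀ i, G'.val i = algebraMap B B' (G.val i) := fun i => by
    simp [G', Generators.ofAlgHom, α', Generators.ofSurjective]
  let f₂ := (sameVarsHom0 G G' hval).toExtensionHom
  obtain ⟨hGf, hGp⟩ := cot_finite_projective_of_isLCI A B hB n α hα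
  obtain ⟨hG'f, hG'p⟩ := cot_finite_projective_of_isLCI A' B' hB' n α' hv'
  let φ : B' ⊗[B] G.toExtension.Cotangent →ₗ[B'] G'.toExtension.Cotangent :=
    LinearMap.liftBaseChange B' (Extension.Cotangent.map f₂)
  have hφ : Function.Surjective φ := lbcCot_surjective G G' hval
  obtain ⟨s, hs⟩ := Module.projective_lifting_property φ LinearMap.id hφ
  have hs' : ∀ y, φ (s y) = y := fun y => congr($hs y)
  let r : B' ⊗[B] G.toExtension.Cotangent →ₗ[B'] LinearMap.ker φ :=
    (LinearMap.id - s ∘ₗ φ).codRestrict (LinearMap.ker φ) (fun x => by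
      rw [LinearMap.mem_ker, LinearMap.sub_apply, map_sub, LinearMap.comp_apply, hs',
        LinearMap.id_apply, sub_self])
  have hr : r ∘ₗ (LinearMap.ker φ).subtype = LinearMap.id := by
    apply LinearMap.ext
    intro y
    apply Subtype.ext
    change (y : B' ⊗[B] G.toExtension.Cotangent) - s (φ y) = y
    rw [(LinearMap.mem_ker).mp y.2, map_zero, sub_zero]
  have hrs : Function.Surjective r := fun y => ⟨y.1, congr($hr y)⟩
  have hK2f : Module.Finite B' (LinearMap.ker φ) := Module.Finite.of_surjective r hrs
  have hK2p : Module.Projective B' (LinearMap.ker φ) :=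
    Module.Projective.of_split (LinearMap.ker φ).subtype r hr
  -- `ker φ ⊆ bcH1`
  have hle : LinearMap.ker φ ≤ NLCx.bcH1 G.toExtension B' := by
    intro x hx
    change G.toExtension.cotangentComplex.baseChange B' x = 0
    apply (lbcSp_bijective G G' hval).1
    rw [← NLA.lbc_comm_apply, (LinearMap.mem_ker).mp hx, map_zero, map_zero]
  have hK₂ : LinearMap.ker (NLCx.bcH1Map f₂) =
      (LinearMap.ker φ).comap (NLCx.bcH1 G.toExtension B').subtype := by
    ext x
    rw [LinearMap.mem_ker, Submodule.mem_comap, LinearMap.mem_ker]
    exact Subtype.ext_iff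
  let e₂ : LinearMap.ker (NLCx.bcH1Map f₂) ≃ₗ[B'] LinearMap.ker φ :=
    (LinearEquiv.ofEq _ _ hK₂).trans (Submodule.comapSubtypeEquivOfLe hle)
  -- change of presentations
  let a := ((Generators.self A B).defaultHom G).toExtensionHom
  let a' := (G.defaultHom (Generators.self A B)).toExtensionHom
  let b := (G'.defaultHom (Generators.self A' B')).toExtensionHom
  let b' := ((Generators.self A' B').defaultHom G').toExtensionHom
  let et := topEquiv B' a a'
  have hK₁ : LinearMap.ker (NLCx.bcH1Map
      ((Generators.self A B).defaultHom (Generators.self A' B')).toExtensionHom) =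
      (LinearMap.ker (NLCx.bcH1Map f₂)).comap et.toLinearMap := by
    ext x
    rw [LinearMap.mem_ker, Submodule.mem_comap, LinearMap.mem_ker,
      NLA.bcH1Map_eq _ (b.comp (f₂.comp a)), NLC.bcH1Map_comp, bcH1Map_comp_top]
    constructor
    · intro hx
      exact (Extension.H1Cotangent.equiv b b').injective (hx.trans (map_zero _).symm)
    · intro hx
      change Extension.H1Cotangent.map b (NLCx.bcH1Map f₂ (topMap B' a x)) = 0
      have hx' : NLCx.bcH1Map f₂ (topMap B' a x) = 0 := hx
      rw [hx', map_zero]
  let e₁ : LinearMap.ker (NLCx.bcH1Map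
      ((Generators.self A B).defaultHom (Generators.self A' B')).toExtensionHom) ≃ₗ[B']
      LinearMap.ker (NLCx.bcH1Map f₂) :=
    (LinearEquiv.ofEq _ _ hK₁).trans (LinearEquiv.ofSubmodule' et _)
  exact ⟨Module.Finite.equiv (e₁.trans e₂).symm, Module.Projective.of_equiv (e₁.trans e₂).symm⟩

end Main

end Groth.Agent.Helper3.NLF
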