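import Mathlib
import Groth.Prelude.Def_SheafNL
import Groth.Agent.Helper3.NLA
import Groth.Agent.Helper3.Schan
import Groth.Agent.Helper3.DRingTwoTerm3

set_option autoImplicit false
set_option linter.style.haveILetI false
set_option linter.unusedSectionVars false
set_option linter.unusedVariables false
set_option linter.style.haveILetI false
set_option linter.unusedSectionVars false
set_option linter.unusedVariables false

universe u

open CategoryTheory CategoryTheory.Limits TensorProduct Algebra

namespace Groth.Agent.Helper3.NLJ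

section Alg

variable {A : Type u} [CommRing A] {n m : ℕ} (hmn : m ≤ n) (f : Fin m → MvPolynomial (Fin n) A)

/-- the quotient presentation. -/
noncomputable def G : Generators A (MvPolynomial (Fin n) A ⧸ Ideal.span (Set.range f)) (Fin n) :=
  Generators.ofAlgHom (Ideal.Quotient.mkₐ A (Ideal.span (Set.range f)))
    (Ideal.Quotient.mkₐ_surjective A _)

lemma algebraMap_G (x : MvPolynomial (Fin n) A) :
    algebraMap (G f).toExtension.Ring (MvPolynomial (Fin n) A ⧸ Ideal.span (Set.range f)) x =
      Ideal.Quotient.mk _ x :=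
  Schan.algebraMap_ofAlgHom _ _ x

lemma ker_G : (G f).toExtension.ker = Ideal.span (Set.range f) := by
  have h := Generators.ker_ofAlgHom (Ideal.Quotient.mkₐ A (Ideal.span (Set.range f)))
    (Ideal.Quotient.mkₐ_surjective A _)
  rw [show (G f).toExtension.ker = _ from h]
  ext x
  simp [Ideal.Quotient.eq_zero_iff_mem]

lemma f_mem (j : Fin m) : f j ∈ (G f).toExtension.ker := by
  rw [ker_G]
  exact Ideal.subset_span ⟨j, rfl⟩

/-- classes of the generators. -/
noncomputable def fbar (j : Fin m) : (G f).toExtension.Cotangent :=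
  Extension.Cotangent.mk ⟨f j, f_mem f j⟩

lemma span_fbar : Submodule.span (MvPolynomial (Fin n) A ⧸ Ideal.span (Set.range f))
    (Set.range (fbar f)) = ⊤ := by
  have h := Extension.Cotangent.span_eq_top_of_span_eq_ker (P := (G f).toExtension) f (ker_G f).symm
  exact h

/-- the Jacobian minor over `B`. -/
noncomputable def Mb : Matrix (Fin m) (Fin m) (MvPolynomial (Fin n) A ⧸ Ideal.span (Set.range f)) :=
  (Matrix.of (fun i j : Fin m => MvPolynomial.pderiv (Fin.castLE hmn i) (f j))).map
    (Ideal.Quotient.mk (Ideal.span (Set.range f)))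

lemma det_Mb : (Mb hmn f).det = Ideal.Quotient.mk (Ideal.span (Set.range f))
    (Matrix.det (Matrix.of (fun i j : Fin m => MvPolynomial.pderiv (Fin.castLE hmn i) (f j)))) := by
  rw [Mb, RingHom.map_det, RingHom.mapMatrix_apply]

/-- the values of the homotopy on the basis. -/
noncomputable def w (i : Fin n) : (G f).toExtension.Cotangent :=
  if hi : (i : ℕ) < m then ∑ k, (Mb hmn f).adjugate k ⟨i, hi⟩ • fbar f k else 0

lemma w_castLE (i : Fin m) : w hmn f (Fin.castLE hmn i) =
    ∑ k, (Mb hmn f).adjugate k i • fbar f k := by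
  rw [w, dif_pos (by simp)]
  rfl

lemma w_of_not_lt (i : Fin n) (hi : ¬ (i : ℕ) < m) : w hmn f i = 0 := by
  rw [w, dif_neg hi]

/-- the contracting map. -/
noncomputable def hh : (G f).toExtension.CotangentSpace →ₗ[MvPolynomial (Fin n) A ⧸ Ideal.span (Set.range f)]
    (G f).toExtension.Cotangent :=
  (G f).cotangentSpaceBasis.constr (MvPolynomial (Fin n) A ⧸ Ideal.span (Set.range f)) (w hmn f)

lemma cc_fbar (j : Fin m) : (G f).toExtension.cotangentComplex (fbar f j) =
    ∑ i, Ideal.Quotient.mk (Ideal.span (Set.range f)) (MvPolynomial.pderiv i (f j)) •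
      (G f).cotangentSpaceBasis i := by
  rw [fbar, Extension.cotangentComplex_mk]
  conv_lhs => rw [← (G f).cotangentSpaceBasis.sum_repr ((1 : MvPolynomial (Fin n) A ⧸ Ideal.span (Set.range f)) ⊗ₜ[(G f).toExtension.Ring] (KaehlerDifferential.D A (G f).toExtension.Ring) (f j))]
  refine Finset.sum_congr rfl fun i _ => ?_
  congr 1
  rw [Generators.cotangentSpaceBasis_repr_one_tmul]
  exact algebraMap_G f _

lemma hh_cc_fbar (j : Fin m) : hh hmn f ((G f).toExtension.cotangentComplex (fbar f j)) =
    (Mb hmn f).det • fbar f j := by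
  rw [cc_fbar, map_sum]
  simp only [map_smul, hh, Module.Basis.constr_basis]
  rw [← Finset.sum_of_injOn (s := Finset.univ) (Fin.castLE hmn)
    (f := fun i' : Fin m => Ideal.Quotient.mk (Ideal.span (Set.range f))
      (MvPolynomial.pderiv (Fin.castLE hmn i') (f j)) • w hmn f (Fin.castLE hmn i'))
    (fun a _ b _ hab => Fin.castLE_injective hmn hab) (fun _ _ => Finset.mem_coe.mpr (Finset.mem_univ _))
    (fun i _ hi => by
      rw [w_of_not_lt, smul_zero]
      intro hlt
      exact hi ⟨⟨i, hlt⟩, Finset.mem_coe.mpr (Finset.mem_univ _), Fin.ext rfl⟩)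
    (fun _ _ => rfl)]
  simp only [w_castLE, Finset.smul_sum, smul_smul]
  rw [Finset.sum_comm]
  have key : ∀ k, ∑ i', (Ideal.Quotient.mk (Ideal.span (Set.range f))
      (MvPolynomial.pderiv (Fin.castLE hmn i') (f j)) * (Mb hmn f).adjugate k i') • fbar f k =
      ((Mb hmn f).adjugate * Mb hmn f) k j • fbar f k := by
    intro k
    rw [← Finset.sum_smul, Matrix.mul_apply]
    congr 1
    refine Finset.sum_congr rfl fun i' _ => ?_
    rw [mul_comm]
    rfl
  simp only [key, Matrix.adjugate_mul]
  simp [Matrix.smul_apply, Matrix.one_apply, Finset.sum_ite_eq']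

lemma hh_cc : hh hmn f ∘ₗ (G f).toExtension.cotangentComplex =
    (Mb hmn f).det • LinearMap.id := by
  apply LinearMap.ext_on (span_fbar f)
  rintro _ ⟨j, rfl⟩
  rw [LinearMap.comp_apply, hh_cc_fbar]
  rfl

lemma repr_cc_fbar (j : Fin m) (l : Fin n) :
    (G f).cotangentSpaceBasis.repr ((G f).toExtension.cotangentComplex (fbar f j)) l =
      Ideal.Quotient.mk (Ideal.span (Set.range f)) (MvPolynomial.pderiv l (f j)) := by
  rw [fbar, Extension.cotangentComplex_mk, Generators.cotangentSpaceBasis_repr_one_tmul]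
  exact algebraMap_G f _

lemma cc_hh_basis (hnm : n = m) (i : Fin n) :
    (G f).toExtension.cotangentComplex (hh hmn f ((G f).cotangentSpaceBasis i)) =
      (Mb hmn f).det • (G f).cotangentSpaceBasis i := by
  subst hnm
  have hcast : ∀ l : Fin n, Fin.castLE hmn l = l := fun l => Fin.ext rfl
  have hi : w hmn f i = ∑ k, (Mb hmn f).adjugate k i • fbar f k := by
    have := w_castLE hmn f i
    rwa [hcast] at this
  apply (G f).cotangentSpaceBasis.ext_elem
  intro l
  rw [hh, Module.Basis.constr_basis, hi, map_sum, map_sum, Finsupp.coe_finset_sum,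
    Finset.sum_apply]
  simp only [map_smul, Finsupp.smul_apply, repr_cc_fbar, Module.Basis.repr_self, smul_eq_mul]
  have h2 : ∑ k, (Mb hmn f).adjugate k i * Ideal.Quotient.mk (Ideal.span (Set.range f))
      (MvPolynomial.pderiv l (f k)) = (Mb hmn f * (Mb hmn f).adjugate) l i := by
    rw [Matrix.mul_apply]
    refine Finset.sum_congr rfl fun k _ => ?_
    rw [mul_comm]
    congr 1
  rw [h2, Matrix.mul_adjugate]
  classical
  simp [Matrix.smul_apply, Matrix.one_apply, Finsupp.single_apply, eq_comm]

lemma cc_hh (hnm : n = m) : (G f).toExtension.cotangentComplex ∘ₗ hh hmn f =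
    (Mb hmn f).det • LinearMap.id := by
  apply (G f).cotangentSpaceBasis.ext
  intro i
  rw [LinearMap.comp_apply, cc_hh_basis hmn f hnm]
  rfl

end Alg

section Derived

attribute [local instance] HasDerivedCategory.standard

open Groth.Agent.Helper3.DRingLib

variable (A : Type u) [CommRing A] (n m : ℕ) (hmn : m ≤ n) (f : Fin m → MvPolynomial (Fin n) A)

lemma conj_ofHom_smul {R : Type u} [CommRing R] {X : ModuleCat.{u} R} {M : Type u} [AddCommGroup M]
    [Module R M] (e : X ≅ ModuleCat.of R M) (a : R) :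
    e.hom ≫ ModuleCat.ofHom (a • (LinearMap.id : M →ₗ[R] M)) ≫ e.inv = a • 𝟙 X := by
  ext x
  simp

lemma Q_map_smul {B : Type u} [CommRing B] (E : CochainComplex (ModuleCat.{u} B) ℤ) (a : B) :
    DerivedCategory.Q.map (a • 𝟙 E) = a • 𝟙 (DerivedCategory.Q.obj E) := by
  rw [Functor.map_smul, CategoryTheory.Functor.map_id]

theorem main :
    (∀ (N : Type u) [AddCommGroup N]
      [Module (MvPolynomial (Fin n) A ⧸ Ideal.span (Set.range f)) N]
      (φ : LCI.NL A (MvPolynomial (Fin n) A ⧸ Ideal.span (Set.range f)) ⟶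
        (Dual.inD (MvPolynomial (Fin n) A ⧸ Ideal.span (Set.range f)) N)⟦(1 : ℤ)⟧),
      (Ideal.Quotient.mk (Ideal.span (Set.range f)) (Matrix.det (Matrix.of
        (fun i j : Fin m => MvPolynomial.pderiv (Fin.castLE hmn i) (f j))))) • φ = 0) ∧
    (n = m → (Ideal.Quotient.mk (Ideal.span (Set.range f)) (Matrix.det (Matrix.of
        (fun i j : Fin m => MvPolynomial.pderiv (Fin.castLE hmn i) (f j))))) •
      𝟙 (LCI.NL A (MvPolynomial (Fin n) A ⧸ Ideal.span (Set.range f))) = 0) := by
  rw [← det_Mb hmn f]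
  let P := (G f).toExtension
  let E := NLCx.cx P
  have hv : DRing.VanishesOutside E (-1) 0 := by
    intro i hi
    exact NLA.isZero_cx_X _ i (by omega) (by omega)
  let e := NLA.homotopyEquiv
    ((Generators.self A (MvPolynomial (Fin n) A ⧸ Ideal.span (Set.range f))).defaultHom
      (G f)).toExtensionHom
    ((G f).defaultHom
      (Generators.self A (MvPolynomial (Fin n) A ⧸ Ideal.span (Set.range f)))).toExtensionHom
  have hq : QuasiIso e.hom := inferInstance
  have hiso : IsIso (DerivedCategory.Q.map e.hom) :=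
    (DerivedCategory.isIso_Q_map_iff_quasiIso _ _).mpr hq
  let eD : DRing.toD E ≅ LCI.NL A (MvPolynomial (Fin n) A ⧸ Ideal.span (Set.range f)) :=
    (@asIso _ _ _ _ (DerivedCategory.Q.map e.hom) hiso).symm
  haveI hproj : Module.Projective (MvPolynomial (Fin n) A ⧸ Ideal.span (Set.range f)) (E.X 0) := by
    haveI : Module.Projective (MvPolynomial (Fin n) A ⧸ Ideal.span (Set.range f))
        P.CotangentSpace := Module.Projective.of_basis (G f).cotangentSpaceBasis
    exact Module.Projective.of_equiv (NLA.cxIso₁ P).toLinearEquiv.symm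
  let h' : E.X 0 ⟶ E.X (-1) :=
    (NLA.cxIso₁ P).hom ≫ ModuleCat.ofHom (hh hmn f) ≫ (NLA.cxIso₀ P).inv
  have hd : E.d (-1) 0 ≫ h' = (Mb hmn f).det • 𝟙 (E.X (-1)) := by
    change (NLCx.cx P).d (-1) 0 ≫ _ = _
    rw [NLA.cx_d]
    simp only [h', Category.assoc, Iso.inv_hom_id_assoc]
    rw [← Category.assoc (ModuleCat.ofHom P.cotangentComplex), ← ModuleCat.ofHom_comp, hh_cc]
    exact conj_ofHom_smul _ _
  constructor
  · intro N _ _ φ
    have h1 := smul_ext_eq_zero_of_twoTerm E hv (Mb hmn f).det h' hd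
      (ModuleCat.of (MvPolynomial (Fin n) A ⧸ Ideal.span (Set.range f)) N) (eD.hom ≫ φ)
    rw [← cancel_epi eD.hom, Linear.comp_smul, h1, comp_zero]
  · intro hnm
    have hd' : h' ≫ E.d (-1) 0 = (Mb hmn f).det • 𝟙 (E.X 0) := by
      change _ ≫ (NLCx.cx P).d (-1) 0 = _
      rw [NLA.cx_d]
      simp only [h', Category.assoc, Iso.inv_hom_id_assoc]
      rw [← Category.assoc (ModuleCat.ofHom (hh hmn f)), ← ModuleCat.ofHom_comp, cc_hh hmn f hnm]
      exact conj_ofHom_smul _ _
    have hE0 : (Mb hmn f).det • 𝟙 (DRing.toD E) = 0 := by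
      have hhtpy : Homotopy ((Mb hmn f).det • 𝟙 E) 0 :=
        NLA.doubleHomotopy _ _ _ _ _ _ (ModuleCat.ofHom (hh hmn f))
          (by
            have h0 : ((Mb hmn f).det • 𝟙 E).f (-1) = (Mb hmn f).det • 𝟙 (E.X (-1)) := by
              rw [HomologicalComplex.smul_f_apply, HomologicalComplex.id_f]
            refine (h0.trans hd.symm).trans (Eq.trans ?_ (add_zero _).symm)
            change (NLCx.cx P).d (-1) 0 ≫ _ = _
            rw [NLA.cx_d]
            simp only [h', Category.assoc, Iso.inv_hom_id_assoc]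
            rfl)
          (by
            have h0 : ((Mb hmn f).det • 𝟙 E).f 0 = (Mb hmn f).det • 𝟙 (E.X 0) := by
              rw [HomologicalComplex.smul_f_apply, HomologicalComplex.id_f]
            refine (h0.trans hd'.symm).trans (Eq.trans ?_ (add_zero _).symm)
            change _ ≫ (NLCx.cx P).d (-1) 0 = _
            rw [NLA.cx_d]
            simp only [h', Category.assoc, Iso.inv_hom_id_assoc]
            rfl)
      have h3 := DerivedCategory.Q_map_eq_of_homotopy (h := hhtpy)
      rw [Q_map_smul, Functor.map_zero] at h3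
      exact h3
    have : 𝟙 (LCI.NL A (MvPolynomial (Fin n) A ⧸ Ideal.span (Set.range f))) =
        eD.inv ≫ 𝟙 (DRing.toD E) ≫ eD.hom := by simp
    rw [this, ← Linear.comp_smul, ← Linear.smul_comp, hE0, zero_comp, comp_zero]

end Derived

end Groth.Agent.Helper3.NLJ
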