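import Mathlib

set_option autoImplicit false
set_option linter.style.haveILetI false
set_option linter.unusedSectionVars false
set_option linter.unusedVariables false
set_option linter.deprecated false
set_option linter.style.haveILetI false
set_option linter.unusedSectionVars false
set_option linter.unusedVariables false

universe v u

open CategoryTheory CategoryTheory.Limits

namespace Groth.Agent.Helper3.NMPbc1

variable {C : Type u} [Category.{v} C] [HasPullbacks C]
variable {S S' E E' : C} {g : S' ⟶ S} {ι : E ⟶ S} {ι' : E' ⟶ S'} {gE : E' ⟶ E}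
variable (sq : IsPullback ι' gE g ι) (N : Over S) (Y' : Over S')

/-- comparison `Y' ×_S E ⟶ Y' ×_{S'} E'` -/
noncomputable def cmp : pullback (Y'.hom ≫ g) ι ⟶ pullback Y'.hom ι' :=
  pullback.lift (pullback.fst _ _)
    (sq.lift (pullback.fst _ _ ≫ Y'.hom) (pullback.snd _ _)
      (by rw [Category.assoc]; exact pullback.condition))
    (by rw [sq.lift_fst])

noncomputable def cmpInv : pullback Y'.hom ι' ⟶ pullback (Y'.hom ≫ g) ι :=
  pullback.lift (pullback.fst _ _) (pullback.snd _ _ ≫ gE)
    (by rw [Category.assoc, ← sq.w, ← Category.assoc, ← Category.assoc, pullback.condition])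

theorem cmp_fst : cmp sq Y' ≫ pullback.fst _ _ = pullback.fst _ _ := pullback.lift_fst _ _ _

theorem cmp_snd_ι' : cmp sq Y' ≫ pullback.snd _ _ ≫ ι' = pullback.fst _ _ ≫ Y'.hom := by
  unfold cmp
  rw [pullback.lift_snd_assoc, sq.lift_fst]

theorem cmp_snd_gE : cmp sq Y' ≫ pullback.snd _ _ ≫ gE = pullback.snd _ _ := by
  unfold cmp
  rw [pullback.lift_snd_assoc, sq.lift_snd]

theorem cmp_cmpInv : cmp sq Y' ≫ cmpInv sq Y' = 𝟙 _ := by
  apply pullback.hom_ext
  · unfold cmpInv
    rw [Category.assoc, pullback.lift_fst, cmp_fst, Category.id_comp]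
  · unfold cmpInv
    rw [Category.assoc, pullback.lift_snd, cmp_snd_gE, Category.id_comp]

theorem cmpInv_cmp : cmpInv sq Y' ≫ cmp sq Y' = 𝟙 _ := by
  apply pullback.hom_ext
  · rw [Category.assoc, cmp_fst, Category.id_comp]
    exact pullback.lift_fst _ _ _
  · apply sq.hom_ext
    · rw [Category.assoc, Category.assoc, cmp_snd_ι', Category.id_comp]
      unfold cmpInv
      rw [pullback.lift_fst_assoc, pullback.condition]
    · rw [Category.assoc, Category.assoc, cmp_snd_gE, Category.id_comp]
      exact pullback.lift_snd _ _ _

instance : IsIso (cmp sq Y') := ⟨cmpInv sq Y', cmp_cmpInv sq Y', cmpInv_cmp sq Y'⟩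

theorem map_fst {T T' : C} (f : T' ⟶ T) {A B : Over T} (k : A ⟶ B) :
    ((Over.pullback f).map k).left ≫ pullback.fst B.hom f = pullback.fst A.hom f ≫ k.left := by
  simp only [Over.pullback_map_left]
  exact pullback.lift_fst _ _ _

theorem map_snd {T T' : C} (f : T' ⟶ T) {A B : Over T} (k : A ⟶ B) :
    ((Over.pullback f).map k).left ≫ pullback.snd B.hom f = pullback.snd A.hom f := by
  simp only [Over.pullback_map_left]
  exact pullback.lift_snd _ _ _

include sq in
/-- The Néron-type mapping property passes to a base change `g`, given a cartesian square of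
"generic points". -/
theorem bijective_baseChange
    (H : Function.Bijective
      (fun h : (Over.map g).obj Y' ⟶ N => (Over.pullback ι).map h)) :
    Function.Bijective
      (fun h : Y' ⟶ (Over.pullback g).obj N => (Over.pullback ι').map h) := by
  let adj := (Over.mapPullbackAdj g).homEquiv Y' N
  have hadj_symm_left : ∀ h : Y' ⟶ (Over.pullback g).obj N,
      (adj.symm h).left = h.left ≫ pullback.fst _ _ := fun h => by
    simp [adj, Adjunction.homEquiv_counit]
  have hadj_fst : ∀ a : (Over.map g).obj Y' ⟶ N,
      (adj a).left ≫ pullback.fst N.hom g = a.left := fun a => by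
    have := hadj_symm_left (adj a)
    rw [Equiv.symm_apply_apply] at this
    exact this.symm
  have hadj_snd : ∀ a : (Over.map g).obj Y' ⟶ N,
      (adj a).left ≫ pullback.snd N.hom g = Y'.hom := fun a => by
    simpa using Over.w (adj a)
  -- key formula
  have key : ∀ h : Y' ⟶ (Over.pullback g).obj N,
      ((Over.pullback ι).map (adj.symm h)).left ≫ pullback.fst _ _ =
        cmp sq Y' ≫ ((Over.pullback ι').map h).left ≫ pullback.fst _ _ ≫ pullback.fst _ _ := by
    intro h
    rw [map_fst, hadj_symm_left, ← Category.assoc ((Over.pullback ι').map h).left, map_fst,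
      Category.assoc, ← Category.assoc (cmp sq Y'), cmp_fst]
    rfl
  constructor
  · intro h₁ h₂ hh
    replace hh : (Over.pullback ι').map h₁ = (Over.pullback ι').map h₂ := hh
    apply adj.symm.injective
    apply H.1
    show (Over.pullback ι).map (adj.symm h₁) = (Over.pullback ι).map (adj.symm h₂)
    ext
    apply pullback.hom_ext
    · rw [key h₁, key h₂, hh]
    · rw [map_snd, map_snd]
  · intro u'
    have hcond : (cmp sq Y' ≫ u'.left ≫ pullback.fst _ _ ≫ pullback.fst _ _) ≫ N.hom =
        pullback.snd (Y'.hom ≫ g) ι ≫ ι := by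
      have h1 : u'.left ≫ pullback.snd _ _ = pullback.snd _ _ := by
        simpa using Over.w u'
      have h2 : (pullback.fst ((Over.pullback g).obj N).hom ι' ≫ pullback.fst N.hom g) ≫ N.hom =
          pullback.snd _ _ ≫ ι' ≫ g := by
        rw [Category.assoc, pullback.condition, ← Category.assoc]
        have : pullback.fst ((Over.pullback g).obj N).hom ι' ≫ pullback.snd N.hom g =
            pullback.snd _ _ ≫ ι' := pullback.condition
        rw [this, Category.assoc]
      rw [Category.assoc, Category.assoc, Category.assoc, ← Category.assoc (pullback.fst _ _),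
        h2, ← Category.assoc u'.left, h1, ← Category.assoc, ← Category.assoc,
        Category.assoc (cmp sq Y'), cmp_snd_ι', Category.assoc]
      exact pullback.condition
    let u : (Over.pullback ι).obj ((Over.map g).obj Y') ⟶ (Over.pullback ι).obj N :=
      Over.homMk (pullback.lift (cmp sq Y' ≫ u'.left ≫ pullback.fst _ _ ≫ pullback.fst _ _)
        (pullback.snd _ _) hcond) (pullback.lift_snd _ _ _)
    obtain ⟨a, ha⟩ := H.2 u
    replace ha : (Over.pullback ι).map a = u := ha
    refine ⟨adj a, ?_⟩
    show (Over.pullback ι').map (adj a) = u'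
    have hu'snd : u'.left ≫ pullback.snd _ _ = pullback.snd _ _ := by
      simpa using Over.w u'
    have h3 : pullback.fst Y'.hom ι' ≫ a.left = u'.left ≫ pullback.fst _ _ ≫ pullback.fst _ _ := by
      have h4 : ((Over.pullback ι).map a).left ≫ pullback.fst N.hom ι =
          u.left ≫ pullback.fst N.hom ι := by rw [ha]
      rw [map_fst] at h4
      have h5 : u.left ≫ pullback.fst N.hom ι =
          cmp sq Y' ≫ u'.left ≫ pullback.fst _ _ ≫ pullback.fst _ _ := pullback.lift_fst _ _ _
      rw [← cancel_epi (cmp sq Y'), ← Category.assoc, cmp_fst]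
      exact h4.trans h5
    ext
    apply pullback.hom_ext
    · rw [map_fst]
      apply pullback.hom_ext
      · rw [Category.assoc, hadj_fst, Category.assoc]
        exact h3
      · rw [Category.assoc, hadj_snd, Category.assoc]
        have : pullback.fst ((Over.pullback g).obj N).hom ι' ≫ pullback.snd N.hom g =
            pullback.snd _ _ ≫ ι' := pullback.condition
        rw [this, ← Category.assoc, hu'snd]
        exact pullback.condition
    · rw [map_snd, hu'snd]

end Groth.Agent.Helper3.NMPbc1
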