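import Mathlib
import Groth.Prelude.Def_Neron
import Groth.Agent.Helper3.NMPbc1

set_option autoImplicit false
set_option linter.style.haveILetI false
set_option linter.unusedSectionVars false
set_option linter.unusedVariables false
set_option linter.deprecated false
set_option linter.style.haveILetI false
set_option linter.unusedSectionVars false
set_option linter.unusedVariables false

universe u

open CategoryTheory CategoryTheory.Limits AlgebraicGeometry

namespace Groth.Agent.Helper3.NMPbc2

open nonZeroDivisors

attribute [local instance] FractionRing.liftAlgebra FractionRing.isScalarTower_liftAlgebra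

section
variable (R R' : Type u) [CommRing R] [IsDedekindDomain R] [CommRing R'] [IsDedekindDomain R']
  [Algebra R R'] [Module.Finite R R'] [Algebra.Etale R R']

theorem faithful : FaithfulSMul R R' := by
  haveI : Module.Flat R R' := inferInstance
  haveI : Module.IsTorsionFree R R' := inferInstance
  rw [faithfulSMul_iff_algebraMap_injective]
  intro a b hab
  have h : (a - b) • (1 : R') = 0 := by
    rw [Algebra.smul_def, mul_one, map_sub, hab, sub_self]
  by_contra hne
  have hne' : a - b ≠ 0 := sub_ne_zero.2 hne
  have := (smul_eq_zero_iff_right hne').1 h
  exact one_ne_zero this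

theorem isPullback_generic :
    haveI := faithful R R'
    IsPullback (Spec.map (CommRingCat.ofHom (algebraMap R' (FractionRing R'))))
      (Spec.map (CommRingCat.ofHom (algebraMap (FractionRing R) (FractionRing R'))))
      (Spec.map (CommRingCat.ofHom (algebraMap R R')))
      (Spec.map (CommRingCat.ofHom (algebraMap R (FractionRing R)))) := by
  haveI := faithful R R'
  haveI : Algebra.IsIntegral R R' := inferInstance
  haveI : IsIntegralClosure R' R (FractionRing R') :=
    IsIntegralClosure.of_isIntegrallyClosed _ _ _
  haveI : Algebra.IsAlgebraic (FractionRing R) (FractionRing R') :=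
    isAlgebraic_of_isFractionRing R R' ..
  haveI : IsLocalization (Algebra.algebraMapSubmonoid R' R⁰) (FractionRing R') :=
    IsIntegralClosure.isLocalization _ (FractionRing R) _ _
  haveI hloc2 : IsLocalization (Submonoid.map (algebraMap R R') R⁰) (FractionRing R') :=
    ‹IsLocalization (Algebra.algebraMapSubmonoid R' R⁰) (FractionRing R')›
  have hpo := CommRingCat.isPushout_of_isLocalization (algebraMap R R')
    (algebraMap (FractionRing R) (FractionRing R'))
    (by
      ext x
      simp only [RingHom.comp_apply]
      rw [← IsScalarTower.algebraMap_apply, ← IsScalarTower.algebraMap_apply]) R⁰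
  exact isPullback_SpecMap_of_isPushout _ _ _ _ hpo

end

theorem main (R R' : Type u) [CommRing R] [IsDedekindDomain R]
    [CommRing R'] [IsDedekindDomain R'] [Algebra R R'] [Module.Finite R R'] [Algebra.Etale R R']
    (N : Over (Spec (CommRingCat.of R)))
    (hN : Neron.IsNeronModelOf R N ((Neron.genericFibre R).obj N) (Iso.refl _)) :
    Neron.IsNeronModelOf R'
      ((Over.pullback (Spec.map (CommRingCat.ofHom (algebraMap R R')))).obj N)
      ((Neron.genericFibre R').obj ((Over.pullback (Spec.map (CommRingCat.ofHom (algebraMap R R')))).obj N))
      (Iso.refl _) := by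
  obtain ⟨hsm, hsep, hlft, hqc, hmp⟩ := hN
  haveI := faithful R R'
  have hsq := isPullback_generic R R'
  set g := Spec.map (CommRingCat.ofHom (algebraMap R R')) with hg
  haveI : Etale g := by
    rw [hg, HasRingHomProperty.Spec_iff (P := @Etale)]
    exact RingHom.etale_algebraMap.2 inferInstance
  refine ⟨?_, ?_, ?_, ?_, ?_⟩
  · show Smooth (pullback.snd N.hom g)
    infer_instance
  · show IsSeparated (pullback.snd N.hom g)
    infer_instance
  · show LocallyOfFiniteType (pullback.snd N.hom g)
    infer_instance
  · show QuasiCompact (pullback.snd N.hom g)
    infer_instance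
  · intro Y' hY'
    haveI : Smooth Y'.hom := hY'
    have hsmY : Smooth ((Over.map g).obj Y').hom := by
      show Smooth (Y'.hom ≫ g)
      infer_instance
    have H := hmp ((Over.map g).obj Y') hsmY
    have H' : Function.Bijective
        (fun h : (Over.map g).obj Y' ⟶ N => (Over.pullback (Neron.genPt R)).map h) := by
      convert H using 2
      simp
    have := Groth.Agent.Helper3.NMPbc1.bijective_baseChange hsq N Y' H'
    convert this using 2
    simp

end Groth.Agent.Helper3.NMPbc2
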