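import Mathlib
import Groth.Prelude

set_option autoImplicit false
set_option linter.style.haveILetI false
set_option linter.unusedSectionVars false
set_option linter.unusedVariables false
set_option linter.deprecated false
set_option linter.style.haveILetI false
set_option linter.unusedSectionVars false
set_option linter.unusedVariables false

universe u

namespace Groth.Agent.Helper3.NNorm

open Polynomial in
/-- Digits in base `N`: the weighted sums `∑ N^j m_j` separate exponent vectors with entries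
smaller than `N`. -/
theorem wt_injOn {n : ℕ} (N : ℕ) (hN : 2 ≤ N) (v w : Fin (n + 1) →₀ ℕ)
    (hv : ∀ i, v i < N) (hw : ∀ i, w i < N)
    (h : ∑ j : Fin (n + 1), v j * N ^ (j : ℕ) = ∑ j : Fin (n + 1), w j * N ^ (j : ℕ)) : v = w := by
  refine Finsupp.ext <| congrFun <| List.ofFn_inj.mp ?_
  apply Nat.ofDigits_inj_of_len_eq (b := N) (by omega) (by simp)
  · intro l hl
    obtain ⟨i, rfl⟩ := (List.mem_ofFn' _ _).mp hl
    exact hv i
  · intro l hl
    obtain ⟨i, rfl⟩ := (List.mem_ofFn' _ _).mp hl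
    exact hw i
  · simp only [Nat.ofDigits_eq_sum_mapIdx, List.mapIdx_eq_ofFn, List.get_ofFn, List.length_ofFn,
      Fin.val_cast, List.sum_ofFn]
    exact h

open Polynomial in
/-- Nagata's substitution: if `F(a)` is nilpotent for a nonzero polynomial `F` over a field with
exponents smaller than `N`, and `a_j = a_0^{N^j} + b_j` with `b_j` in a subalgebra, then `a_0` is
integral over that subalgebra. -/
theorem isIntegral_of_nilpotent_aeval {k : Type u} [Field k] {n : ℕ} (N : ℕ) (hN : 2 ≤ N)
    (F : MvPolynomial (Fin (n + 1)) k) (hF : F ≠ 0) (hdeg : ∀ m ∈ F.support, ∀ i, m i < N)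
    {A : Type u} [CommRing A] [Algebra k A] (T' : Subalgebra k A)
    (a : Fin (n + 1) → A) (b : Fin (n + 1) → T')
    (hab : ∀ j, a j = a 0 ^ (N ^ (j : ℕ)) + (b j : A))
    (hnil : IsNilpotent (MvPolynomial.aeval a F)) : IsIntegral T' (a 0) := by
  classical
  rcases subsingleton_or_nontrivial A with hsub | hnt
  · exact ⟨1, Polynomial.monic_one, Subsingleton.elim _ _⟩
  haveI : Nontrivial T' := inferInstance
  have hN0 : ∀ j : ℕ, N ^ j ≠ 0 := fun j => pow_ne_zero _ (by omega)
  let q : Fin (n + 1) → Polynomial T' := fun j => X ^ (N ^ (j : ℕ)) + C (b j)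
  have hq : ∀ j, (q j).Monic := fun j => monic_X_pow_add_C _ (hN0 _)
  have hqdeg : ∀ j, (q j).natDegree = N ^ (j : ℕ) := fun j => natDegree_X_pow_add_C
  let P : Polynomial T' := MvPolynomial.aeval q F
  -- evaluation
  have hcomp : ((Polynomial.aeval (R := T') (a 0)).restrictScalars k).comp (MvPolynomial.aeval q) =
      MvPolynomial.aeval a := by
    apply MvPolynomial.algHom_ext
    intro j
    simp only [AlgHom.coe_comp, AlgHom.coe_restrictScalars', Function.comp_apply,
      MvPolynomial.aeval_X, q, map_add, map_pow, Polynomial.aeval_X, Polynomial.aeval_C]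
    rw [hab j]
    rfl
  have hPeval : Polynomial.aeval (a 0) P = MvPolynomial.aeval a F := by
    have := congrArg (fun φ => φ F) hcomp
    simpa using this
  -- monomials
  let M : (Fin (n + 1) →₀ ℕ) → Polynomial T' := fun m => ∏ j, q j ^ m j
  have hM : ∀ m, (M m).Monic := fun m => monic_prod_of_monic _ _ (fun j _ => (hq j).pow _)
  have hMdeg : ∀ m, (M m).natDegree = ∑ j : Fin (n + 1), m j * N ^ (j : ℕ) := by
    intro m
    rw [natDegree_prod_of_monic _ _ (fun j _ => (hq j).pow _)]
    refine Finset.sum_congr rfl (fun j _ => ?_)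
    rw [(hq j).natDegree_pow, hqdeg]
  have hPsum : P = ∑ m ∈ F.support, C (algebraMap k T' (MvPolynomial.coeff m F)) * M m := by
    change MvPolynomial.aeval q F = _
    rw [MvPolynomial.aeval_def, MvPolynomial.eval₂_eq']
    rfl
  obtain ⟨m₀, hm₀, hmax⟩ := Finset.exists_max_image F.support
    (fun m => ∑ j : Fin (n + 1), m j * N ^ (j : ℕ)) (MvPolynomial.support_nonempty.mpr hF)
  have hc₀ : MvPolynomial.coeff m₀ F ≠ 0 := MvPolynomial.mem_support_iff.mp hm₀
  have hlt : ∀ m ∈ F.support.erase m₀,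
      (C (algebraMap k T' (MvPolynomial.coeff m F)) * M m).degree <
        (C (algebraMap k T' (MvPolynomial.coeff m₀ F)) * M m₀).degree := by
    intro m hm
    obtain ⟨hne, hmem⟩ := Finset.mem_erase.mp hm
    have hu : IsUnit (algebraMap k T' (MvPolynomial.coeff m₀ F)) := (IsUnit.mk0 _ hc₀).map _
    have h1 : (C (algebraMap k T' (MvPolynomial.coeff m₀ F)) * M m₀).degree =
        ((∑ j : Fin (n + 1), m₀ j * N ^ (j : ℕ) : ℕ) : WithBot ℕ) := by
      rw [degree_C_mul_of_isUnit hu, degree_eq_natDegree (hM m₀).ne_zero, hMdeg]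
    rw [h1]
    refine lt_of_le_of_lt degree_le_natDegree ?_
    refine lt_of_le_of_lt (WithBot.coe_le_coe.mpr (natDegree_C_mul_le _ _)) ?_
    rw [hMdeg]
    have h2 := hmax m hmem
    have h3 : ∑ j : Fin (n + 1), m j * N ^ (j : ℕ) ≠ ∑ j : Fin (n + 1), m₀ j * N ^ (j : ℕ) :=
      fun h => hne (wt_injOn N hN m m₀ (hdeg m hmem) (hdeg m₀ hm₀) h)
    exact WithBot.coe_lt_coe.mpr (lt_of_le_of_ne h2 h3)
  have hlead : P.leadingCoeff = algebraMap k T' (MvPolynomial.coeff m₀ F) := by
    have hu : IsUnit (algebraMap k T' (MvPolynomial.coeff m₀ F)) := (IsUnit.mk0 _ hc₀).map _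
    rw [hPsum, ← Finset.add_sum_erase _ _ hm₀, add_comm]
    rw [leadingCoeff_add_of_degree_lt]
    · rw [leadingCoeff_mul_monic (hM m₀), leadingCoeff_C]
    · refine lt_of_le_of_lt (degree_sum_le _ _) ?_
      have hne0 : (C (algebraMap k T' (MvPolynomial.coeff m₀ F)) * M m₀).degree ≠ ⊥ := by
        rw [degree_C_mul_of_isUnit hu, degree_eq_natDegree (hM m₀).ne_zero]
        exact WithBot.coe_ne_bot
      exact (Finset.sup_lt_iff (Ne.bot_lt hne0)).mpr hlt
  -- normalise
  let c₀ : k := MvPolynomial.coeff m₀ F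
  have hmonic : (C (algebraMap k T' c₀⁻¹) * P).Monic := by
    apply monic_C_mul_of_mul_leadingCoeff_eq_one
    rw [hlead, ← map_mul, inv_mul_cancel₀ hc₀, map_one]
  obtain ⟨e, he⟩ := hnil
  refine ⟨(C (algebraMap k T' c₀⁻¹) * P) ^ e, hmonic.pow e, ?_⟩
  rw [← Polynomial.aeval_def, map_pow, map_mul, hPeval, mul_pow, he, mul_zero]

end Groth.Agent.Helper3.NNorm
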