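import Mathlib
import Groth.Prelude

set_option autoImplicit false
set_option linter.style.haveILetI false
set_option linter.unusedSectionVars false
set_option linter.unusedVariables false
set_option linter.deprecated false
set_option linter.style.haveILetI false
set_option linter.unusedSectionVars false
set_option linter.unusedVariables false

universe u

namespace Groth.Agent.Helper3.NNorm

open PrimeSpectrum Topology

/-- Basic opens are open for the constructible topology. -/
theorem isOpen_ct_basicOpen {R : Type u} [CommRing R] (r : R) :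
    IsOpen[constructibleTopology (PrimeSpectrum R)] (basicOpen r : Set (PrimeSpectrum R)) :=
  IsCompact.isOpen_constructibleTopology_of_isOpen (isCompact_basicOpen r) (basicOpen r).isOpen

/-- Complements of basic opens are open for the constructible topology. -/
theorem isOpen_ct_compl_basicOpen {R : Type u} [CommRing R] (r : R) :
    IsOpen[constructibleTopology (PrimeSpectrum R)] ((basicOpen r : Set (PrimeSpectrum R))ᶜ) :=
  IsCompact.isOpen_constructibleTopology_of_isClosed (by rw [compl_compl]; exact isCompact_basicOpen r)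
    (basicOpen r).isOpen.isClosed_compl

/-- The image of a basic open under the map of spectra is closed for the constructible
topology. -/
theorem isOpen_ct_compl_image_comap {R S : Type u} [CommRing R] [CommRing S] (φ : R →+* S) (s : S) :
    IsOpen[constructibleTopology (PrimeSpectrum R)]
      ((comap φ '' (basicOpen s : Set (PrimeSpectrum S)))ᶜ) := by
  classical
  refine (@isOpen_iff_forall_mem_open (PrimeSpectrum R) (constructibleTopology (PrimeSpectrum R)) _).mpr ?_
  intro y hy
  -- the family of separating sets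
  let W : R × Bool → Set (PrimeSpectrum R) := fun j =>
    if j.2 then (basicOpen j.1 : Set (PrimeSpectrum R))ᶜ else (basicOpen j.1 : Set (PrimeSpectrum R))
  have hWopen : ∀ j, IsOpen[constructibleTopology (PrimeSpectrum R)] (W j) := by
    rintro ⟨r, b⟩
    cases b
    · exact isOpen_ct_basicOpen r
    · exact isOpen_ct_compl_basicOpen r
  have hWcopen : ∀ j, IsOpen[constructibleTopology (PrimeSpectrum R)] (W j)ᶜ := by
    rintro ⟨r, b⟩
    cases b
    · exact isOpen_ct_compl_basicOpen r
    · simp only [W, if_true, compl_compl]; exact isOpen_ct_basicOpen r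
  have hWpre : ∀ j, IsOpen[constructibleTopology (PrimeSpectrum S)] (comap φ ⁻¹' W j) := by
    rintro ⟨r, b⟩
    cases b
    · have : comap φ ⁻¹' W (r, false) = (basicOpen (φ r) : Set (PrimeSpectrum S)) := by
        ext x; simp [W]
      rw [this]; exact isOpen_ct_basicOpen _
    · have : comap φ ⁻¹' W (r, true) = (basicOpen (φ r) : Set (PrimeSpectrum S))ᶜ := by
        ext x; simp [W]
      rw [this]; exact isOpen_ct_compl_basicOpen _
  -- compactness of `D(s)` in the constructible topology
  let XS := WithConstructibleTopology (PrimeSpectrum S)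
  let K : Set XS := WithTopology.ofTopology ⁻¹' (basicOpen s : Set (PrimeSpectrum S))
  have hKclosed : IsClosed K := by
    rw [WithConstructibleTopology.isClosed_iff]
    rw [← @isOpen_compl_iff _ _ (constructibleTopology (PrimeSpectrum S))]
    exact isOpen_ct_compl_basicOpen s
  have hKcompact : IsCompact K := hKclosed.isCompact
  let J := {j : R × Bool // y ∉ W j}
  let O : J → Set XS := fun j => WithTopology.ofTopology ⁻¹' (comap φ ⁻¹' W j.1)
  have hOopen : ∀ j, IsOpen (O j) := by
    intro j
    rw [WithConstructibleTopology.isOpen_iff]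
    exact hWpre j.1
  have hcover : K ⊆ ⋃ j, O j := by
    intro x hx
    have hx' : WithTopology.ofTopology x ∈ (basicOpen s : Set (PrimeSpectrum S)) := hx
    have hne : comap φ (WithTopology.ofTopology x) ≠ y := by
      intro h
      exact hy ⟨_, hx', h⟩
    have hne' : (comap φ (WithTopology.ofTopology x)).asIdeal ≠ y.asIdeal :=
      fun h => hne (PrimeSpectrum.ext h)
    have : ∃ r : R, (r ∈ (comap φ (WithTopology.ofTopology x)).asIdeal ∧ r ∉ y.asIdeal) ∨
        (r ∉ (comap φ (WithTopology.ofTopology x)).asIdeal ∧ r ∈ y.asIdeal) := by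
      by_contra hcon
      apply hne'
      ext r
      constructor
      · intro hr; by_contra h; exact hcon ⟨r, Or.inl ⟨hr, h⟩⟩
      · intro hr; by_contra h; exact hcon ⟨r, Or.inr ⟨h, hr⟩⟩
    obtain ⟨r, h | h⟩ := this
    · refine Set.mem_iUnion.mpr ⟨⟨(r, true), ?_⟩, ?_⟩
      · simp only [W, if_true, Set.mem_compl_iff, not_not]
        exact h.2
      · change comap φ (WithTopology.ofTopology x) ∈ W (r, true)
        simp only [W, if_true, Set.mem_compl_iff]
        exact fun h' => h' h.1
    · refine Set.mem_iUnion.mpr ⟨⟨(r, false), ?_⟩, ?_⟩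
      · simp only [W]
        exact fun h' => h' h.2
      · change comap φ (WithTopology.ofTopology x) ∈ W (r, false)
        simp only [W]
        exact h.1
  obtain ⟨t, ht⟩ := hKcompact.elim_finite_subcover O hOopen hcover
  refine ⟨⋂ j ∈ t, (W j.1)ᶜ, ?_, ?_, ?_⟩
  · rintro z hz ⟨x, hx, rfl⟩
    have hxK : WithTopology.toTopology _ x ∈ K := hx
    obtain ⟨j, hj⟩ := Set.mem_iUnion.mp (ht hxK)
    obtain ⟨hjt, hxj⟩ := Set.mem_iUnion.mp hj
    have h1 : comap φ x ∈ W j.1 := hxj
    have h2 := Set.mem_iInter₂.mp hz j hjt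
    exact h2 h1
  · exact @isOpen_biInter_finset _ _ (constructibleTopology (PrimeSpectrum R)) _ _
      (fun j _ => hWcopen j.1)
  · exact Set.mem_iInter₂.mpr (fun j _ => j.2)

/-- Finite subcovers for covers of the spectrum by sets of the form
`(⋃_{r ∈ c} D(r)) ∖ image of D(s)`. -/
theorem exists_finset_cover {R S : Type u} [CommRing R] [CommRing S] (φ : R →+* S)
    {ι : Type*} (c : ι → Finset R) (s : ι → S)
    (hcov : ∀ p : PrimeSpectrum R, ∃ i, (∃ r ∈ c i, r ∉ p.asIdeal) ∧
      p ∉ comap φ '' (basicOpen (s i) : Set (PrimeSpectrum S))) :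
    ∃ t : Finset ι, ∀ p : PrimeSpectrum R, ∃ i ∈ t, (∃ r ∈ c i, r ∉ p.asIdeal) ∧
      p ∉ comap φ '' (basicOpen (s i) : Set (PrimeSpectrum S)) := by
  classical
  let XR := WithConstructibleTopology (PrimeSpectrum R)
  let E : ι → Set (PrimeSpectrum R) := fun i =>
    (⋃ r ∈ c i, (basicOpen r : Set (PrimeSpectrum R))) ∩
      (comap φ '' (basicOpen (s i) : Set (PrimeSpectrum S)))ᶜ
  have hEopen : ∀ i, IsOpen[constructibleTopology (PrimeSpectrum R)] (E i) := by
    intro i
    refine @IsOpen.inter _ (constructibleTopology (PrimeSpectrum R)) _ _ ?_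
      (isOpen_ct_compl_image_comap φ (s i))
    exact @isOpen_biUnion _ _ (constructibleTopology (PrimeSpectrum R)) _ _
      (fun r _ => isOpen_ct_basicOpen r)
  let E' : ι → Set XR := fun i => WithTopology.ofTopology ⁻¹' E i
  have hE'open : ∀ i, IsOpen (E' i) := fun i => by
    rw [WithConstructibleTopology.isOpen_iff]; exact hEopen i
  have hcover : (Set.univ : Set XR) ⊆ ⋃ i, E' i := by
    intro x _
    obtain ⟨i, ⟨r, hr, hrp⟩, hi⟩ := hcov (WithTopology.ofTopology x)
    refine Set.mem_iUnion.mpr ⟨i, ⟨?_, hi⟩⟩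
    exact Set.mem_iUnion₂.mpr ⟨r, hr, hrp⟩
  obtain ⟨t, ht⟩ := isCompact_univ.elim_finite_subcover E' hE'open hcover
  refine ⟨t, fun p => ?_⟩
  have hp := ht (Set.mem_univ (WithTopology.toTopology _ p))
  obtain ⟨i, hi⟩ := Set.mem_iUnion.mp hp
  obtain ⟨hit, hpi⟩ := Set.mem_iUnion.mp hi
  obtain ⟨h1, h2⟩ := hpi
  obtain ⟨r, hr, hrp⟩ := Set.mem_iUnion₂.mp h1
  exact ⟨i, hit, ⟨r, hr, hrp⟩, h2⟩

end Groth.Agent.Helper3.NNorm
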