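import Mathlib
import Groth.Prelude
import Groth.Agent.Helper3.NNormA
import Groth.Agent.Helper3.NNormB
import Groth.Agent.Helper5.IntegralDim

set_option autoImplicit false
set_option linter.style.haveILetI false
set_option linter.unusedSectionVars false
set_option linter.unusedVariables false
set_option linter.deprecated false
set_option linter.style.haveILetI false
set_option linter.unusedSectionVars false
set_option linter.unusedVariables false

universe u

namespace Groth.Agent.Helper3.NNorm

open TensorProduct PrimeSpectrum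

/-- Transitivity of integrality in a flexible form: if `x` is integral over the image of `j`,
and the images under `g` of all elements of the image of `j` are integral over `k`, then
`g x` is integral over `k`. -/
theorem isIntegral_map_of_isIntegralElem {k A A' T₀ : Type*} [CommRing k] [CommRing A]
    [CommRing A'] [CommRing T₀] [Algebra k A'] (j : T₀ →+* A) (g : A →+* A')
    (h : ∀ t, IsIntegral k (g (j t))) (x : A) (hx : j.IsIntegralElem x) :
    IsIntegral k (g x) := by
  obtain ⟨Q, hQ, hQx⟩ := hx
  let U := integralClosure k A'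
  let hh : T₀ →+* U := (g.comp j).codRestrict U.toSubring (fun t => h t)
  have hint : IsIntegral U (g x) := by
    refine ⟨Q.map hh, hQ.map _, ?_⟩
    rw [Polynomial.eval₂_map]
    have : (algebraMap U A').comp hh = g.comp j := by
      ext t; rfl
    rw [this, ← Polynomial.hom_eval₂, hQx, map_zero]
  exact isIntegral_trans (A := U) _ hint

variable {R S : Type u} [CommRing R] [CommRing S] [Algebra R S]

/-- The map on the fibre over `p` induced by `ψ`. -/
noncomputable def theta {n : ℕ} (ψ : MvPolynomial (Fin n) R →ₐ[R] S) (p : Ideal R) [p.IsPrime] :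
    MvPolynomial (Fin n) p.ResidueField →ₐ[p.ResidueField] p.Fiber S :=
  MvPolynomial.aeval (fun i => (1 : p.ResidueField) ⊗ₜ[R] ψ (MvPolynomial.X i))

/-- Fibrewise integrality of `ψ`. -/
def FI {n : ℕ} (ψ : MvPolynomial (Fin n) R →ₐ[R] S) : Prop :=
  ∀ (p : Ideal R) [p.IsPrime] (x : p.Fiber S), IsIntegral (theta ψ p).range x

theorem theta_map {n : ℕ} (ψ : MvPolynomial (Fin n) R →ₐ[R] S) (p : Ideal R) [p.IsPrime]
    (F : MvPolynomial (Fin n) R) :
    theta ψ p (MvPolynomial.map (algebraMap R p.ResidueField) F) = (1 : p.ResidueField) ⊗ₜ[R] ψ F := by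
  induction F using MvPolynomial.induction_on with
  | C r =>
    rw [MvPolynomial.map_C, theta, MvPolynomial.aeval_C, Algebra.TensorProduct.algebraMap_apply,
      ← MvPolynomial.algebraMap_eq, AlgHom.commutes, Algebra.algebraMap_self, RingHom.id_apply,
      Algebra.algebraMap_eq_smul_one r, Algebra.algebraMap_eq_smul_one (A := S) r,
      tmul_smul, ← smul_tmul']
  | add F G hF hG => rw [map_add, map_add, hF, hG, map_add, tmul_add]
  | mul_X F i hF =>
    rw [map_mul, map_mul, hF, MvPolynomial.map_X, map_mul, theta, MvPolynomial.aeval_X,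
      Algebra.TensorProduct.tmul_mul_tmul, mul_one]

/-- Clearing denominators of a polynomial over the residue field. -/
theorem exists_map_eq_smul (p : Ideal R) [p.IsPrime] {σ : Type*}
    (G : MvPolynomial σ p.ResidueField) :
    ∃ r ∉ p, ∃ F : MvPolynomial σ R,
      MvPolynomial.map (algebraMap R p.ResidueField) F = algebraMap R p.ResidueField r • G := by
  classical
  let e := MvPolynomial.algebraTensorAlgEquiv (σ := σ) R p.ResidueField
  obtain ⟨r, hr, F, h⟩ := Ideal.Fiber.exists_smul_eq_one_tmul p (S := MvPolynomial σ R) (e.symm G)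
  refine ⟨r, hr, F, ?_⟩
  have h2 := congrArg e h
  rw [MvPolynomial.algebraTensorAlgEquiv_tmul, one_smul] at h2
  rw [← h2, ← algebraMap_smul p.ResidueField r (e.symm G), map_smul, AlgEquiv.apply_symm_apply]

/-- `p` is not in the image of `D(s)` iff `1 ⊗ s` is nilpotent in the fibre over `p`. -/
theorem not_mem_image_iff (p : PrimeSpectrum R) (s : S) :
    p ∉ comap (algebraMap R S) '' (basicOpen s : Set (PrimeSpectrum S)) ↔
      IsNilpotent ((1 : p.asIdeal.ResidueField) ⊗ₜ[R] s : p.asIdeal.Fiber S) := by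
  constructor
  · intro h
    rw [nilpotent_iff_mem_prime]
    intro Q hQ
    let q := (preimageEquivFiber R S p).symm ⟨Q, hQ⟩
    by_contra hs
    apply h
    refine ⟨q.1, ?_, q.2⟩
    intro hs'
    apply hs
    exact hs'
  · rintro h ⟨q, hq, hqp⟩
    let Q := preimageEquivFiber R S p ⟨q, hqp⟩
    have h1 : (1 : p.asIdeal.ResidueField) ⊗ₜ[R] s ∈ Q.asIdeal :=
      (nilpotent_iff_mem_prime.mp h) Q.asIdeal Q.2
    have h2 : (preimageEquivFiber R S p).symm Q = ⟨q, hqp⟩ := Equiv.symm_apply_apply _ _
    have h3 : ((preimageEquivFiber R S p).symm Q).1.asIdeal = q.asIdeal := by rw [h2]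
    apply hq
    change s ∈ q.asIdeal
    rw [← h3]
    exact h1

/-- If the fibre has dimension `≤ d ≤ n`, then the integral map from a polynomial ring in
`n + 1` variables to the fibre has a nontrivial kernel. -/
theorem exists_ne_zero_theta_eq_zero {n d : ℕ} (ψ : MvPolynomial (Fin (n + 1)) R →ₐ[R] S)
    (hψ : FI ψ) (p : Ideal R) [p.IsPrime] (hd : ringKrullDim (p.Fiber S) ≤ (d : WithBot ℕ∞))
    (hdn : d ≤ n) : ∃ G : MvPolynomial (Fin (n + 1)) p.ResidueField, G ≠ 0 ∧ theta ψ p G = 0 := by
  by_contra hcon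
  push Not at hcon
  have hinj : Function.Injective (theta ψ p) := by
    rw [injective_iff_map_eq_zero]
    intro G hG
    by_contra hne
    exact hcon G hne hG
  let T := (theta ψ p).range
  haveI : Algebra.IsIntegral T (p.Fiber S) := ⟨hψ p⟩
  have h1 : ringKrullDim (p.Fiber S) = ringKrullDim T :=
    Groth.Agent.Helper5.IntegralDim.ringKrullDim_eq_of_isIntegral_of_injective
      (R := T) (S := p.Fiber S) Subtype.val_injective
  have h2 : ringKrullDim T = ringKrullDim (MvPolynomial (Fin (n + 1)) p.ResidueField) :=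
    (ringKrullDim_eq_of_ringEquiv (AlgEquiv.ofInjective (theta ψ p) hinj).toRingEquiv).symm
  rw [h1, h2, MvPolynomial.ringKrullDim_of_isNoetherianRing, ringKrullDim_eq_zero_of_field,
    Nat.card_fin, zero_add] at hd
  have : n + 1 ≤ d := by exact_mod_cast hd
  omega

/-- For each prime there is a polynomial over `R`, with a coefficient outside `p`, whose image
under `ψ` vanishes in the fibre over `p`. -/
theorem exists_poly {n d : ℕ} (ψ : MvPolynomial (Fin (n + 1)) R →ₐ[R] S) (hψ : FI ψ)
    (p : Ideal R) [p.IsPrime] (hd : ringKrullDim (p.Fiber S) ≤ (d : WithBot ℕ∞)) (hdn : d ≤ n) :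
    ∃ F : MvPolynomial (Fin (n + 1)) R, (∃ m, MvPolynomial.coeff m F ∉ p) ∧
      (1 : p.ResidueField) ⊗ₜ[R] ψ F = (0 : p.Fiber S) := by
  obtain ⟨G, hG, hG0⟩ := exists_ne_zero_theta_eq_zero ψ hψ p hd hdn
  obtain ⟨r, hr, F, hF⟩ := exists_map_eq_smul p G
  refine ⟨F, ?_, ?_⟩
  · obtain ⟨m, hm⟩ := MvPolynomial.ne_zero_iff.mp hG
    refine ⟨m, fun hmem => ?_⟩
    have := congrArg (MvPolynomial.coeff m) hF
    rw [MvPolynomial.coeff_map, MvPolynomial.coeff_smul, smul_eq_mul] at this
    have h0 : algebraMap R p.ResidueField (MvPolynomial.coeff m F) = 0 :=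
      (Ideal.algebraMap_residueField_eq_zero).mpr hmem
    rw [h0] at this
    have hr0 : algebraMap R p.ResidueField r ≠ 0 :=
      fun h => hr (Ideal.algebraMap_residueField_eq_zero.mp h)
    exact (mul_ne_zero hr0 hm) this.symm
  · rw [← theta_map, hF, map_smul, hG0, smul_zero]

/-- The reduction step: lowering the number of variables by one while keeping fibrewise
integrality. -/
theorem FI_step {n d : ℕ} (ψ : MvPolynomial (Fin (n + 1)) R →ₐ[R] S) (hψ : FI ψ)
    (hd : ∀ (p : Ideal R) [p.IsPrime], ringKrullDim (p.Fiber S) ≤ (d : WithBot ℕ∞))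
    (hdn : d ≤ n) : ∃ ψ' : MvPolynomial (Fin n) R →ₐ[R] S, FI ψ' := by
  classical
  have hcov : ∀ p : PrimeSpectrum R, ∃ F : MvPolynomial (Fin (n + 1)) R,
      (∃ r ∈ F.support.image (fun m => MvPolynomial.coeff m F), r ∉ p.asIdeal) ∧
      p ∉ comap (algebraMap R S) '' (basicOpen (ψ F) : Set (PrimeSpectrum S)) := by
    intro p
    obtain ⟨F, ⟨m, hm⟩, hF⟩ := exists_poly ψ hψ p.asIdeal (hd p.asIdeal) hdn
    refine ⟨F, ⟨MvPolynomial.coeff m F, ?_, hm⟩, ?_⟩
    · refine Finset.mem_image.mpr ⟨m, ?_, rfl⟩
      rw [MvPolynomial.mem_support_iff]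
      intro h0; rw [h0] at hm; exact hm (Ideal.zero_mem _)
    · rw [not_mem_image_iff, hF]; exact IsNilpotent.zero
  obtain ⟨t, ht⟩ := exists_finset_cover (algebraMap R S)
    (fun F : MvPolynomial (Fin (n + 1)) R => F.support.image (fun m => MvPolynomial.coeff m F))
    (fun F => ψ F) hcov
  let N : ℕ := 2 + t.sup (fun F => F.totalDegree)
  have hN : 2 ≤ N := Nat.le_add_right _ _
  have hdeg : ∀ F ∈ t, ∀ m ∈ F.support, ∀ i, m i < N := by
    intro F hF m hm i
    have h1 : m i ≤ F.totalDegree := by
      refine le_trans ?_ (MvPolynomial.le_totalDegree hm)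
      exact Finsupp.le_degree i m
    have h2 : F.totalDegree ≤ t.sup (fun F => F.totalDegree) :=
      Finset.le_sup (f := fun F : MvPolynomial (Fin (n + 1)) R => F.totalDegree) hF
    omega
  let σ : Fin n → MvPolynomial (Fin (n + 1)) R :=
    fun i => MvPolynomial.X i.succ - MvPolynomial.X 0 ^ (N ^ ((i : ℕ) + 1))
  let ψ' : MvPolynomial (Fin n) R →ₐ[R] S := ψ.comp (MvPolynomial.aeval σ)
  refine ⟨ψ', ?_⟩
  intro p _ x
  obtain ⟨F, hFt, ⟨r, hr, hrp⟩, hFp⟩ := ht ⟨p, inferInstance⟩
  rw [not_mem_image_iff] at hFp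
  let A := p.Fiber S
  let a : Fin (n + 1) → A := fun j => (1 : p.ResidueField) ⊗ₜ[R] ψ (MvPolynomial.X j)
  let T' : Subalgebra p.ResidueField A := (theta ψ' p).range
  let Fbar := MvPolynomial.map (algebraMap R p.ResidueField) F
  have hFbar : Fbar ≠ 0 := by
    obtain ⟨m, hm, rfl⟩ := Finset.mem_image.mp hr
    rw [MvPolynomial.ne_zero_iff]
    refine ⟨m, ?_⟩
    rw [MvPolynomial.coeff_map]
    exact fun h => hrp (Ideal.algebraMap_residueField_eq_zero.mp h)
  have hFdeg : ∀ m ∈ Fbar.support, ∀ i, m i < N := fun m hm i =>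
    hdeg F hFt m (MvPolynomial.support_map_subset _ _ hm) i
  have hnil : IsNilpotent (MvPolynomial.aeval a Fbar) := by
    have : MvPolynomial.aeval a Fbar = theta ψ p Fbar := rfl
    rw [this, theta_map]; exact hFp
  let b : Fin (n + 1) → T' :=
    Fin.cases 0 (fun i => ⟨theta ψ' p (MvPolynomial.X i), AlgHom.mem_range_self _ _⟩)
  have hab : ∀ j, a j = a 0 ^ (N ^ (j : ℕ)) + (b j : A) := by
    intro j
    refine Fin.cases ?_ (fun i => ?_) j
    · simp [b]
    · simp only [b, Fin.cases_succ, Fin.val_succ]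
      have : theta ψ' p (MvPolynomial.X i) = a i.succ - a 0 ^ (N ^ ((i : ℕ) + 1)) := by
        simp only [theta, MvPolynomial.aeval_X, ψ', AlgHom.comp_apply, σ, map_sub, map_pow, a,
          tmul_sub]
        rw [Algebra.TensorProduct.tmul_pow, one_pow]
      rw [this]; ring
  have h0 : IsIntegral T' (a 0) :=
    isIntegral_of_nilpotent_aeval N hN Fbar hFbar hFdeg T' a b hab hnil
  have hall : ∀ j, IsIntegral T' (a j) := by
    intro j; rw [hab j]; exact (h0.pow _).add isIntegral_algebraMap
  have hrange : ∀ G : MvPolynomial (Fin (n + 1)) p.ResidueField,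
      IsIntegral T' (theta ψ p G) := by
    intro G
    induction G using MvPolynomial.induction_on with
    | C c =>
      rw [theta, MvPolynomial.aeval_C]
      exact (isIntegral_algebraMap (x := algebraMap p.ResidueField T' c))
    | add G H hG hH => rw [map_add]; exact hG.add hH
    | mul_X G i hG =>
      rw [map_mul]
      refine hG.mul ?_
      rw [theta, MvPolynomial.aeval_X]; exact hall i
  refine isIntegral_map_of_isIntegralElem (k := T') (A := A) (A' := A)
    (T₀ := (theta ψ p).range) (algebraMap (theta ψ p).range A) (RingHom.id A) ?_ x (hψ p x)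
  rintro ⟨_, G, rfl⟩
  exact hrange G

/-- A surjection from a polynomial ring is fibrewise integral. -/
theorem FI_of_surjective {n : ℕ} (ψ : MvPolynomial (Fin n) R →ₐ[R] S)
    (hs : Function.Surjective ψ) : FI ψ := by
  intro p _ x
  have hmem : ∀ x : p.Fiber S, x ∈ (theta ψ p).range := by
    intro x
    induction x using TensorProduct.induction_on with
    | zero => exact Subalgebra.zero_mem _
    | tmul c s =>
      obtain ⟨G, rfl⟩ := hs s
      have : c ⊗ₜ[R] ψ G = algebraMap p.ResidueField (p.Fiber S) c * (1 ⊗ₜ ψ G) := by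
        rw [Algebra.TensorProduct.algebraMap_apply, Algebra.TensorProduct.tmul_mul_tmul, mul_one,
          one_mul]
        rfl
      rw [this, ← theta_map]
      exact Subalgebra.mul_mem _ (Subalgebra.algebraMap_mem _ c) (AlgHom.mem_range_self _ _)
    | add x y hx hy => exact Subalgebra.add_mem _ hx hy
  exact isIntegral_algebraMap (x := (⟨x, hmem x⟩ : (theta ψ p).range))

/-- A finite type algebra admits a fibrewise integral map from a polynomial ring in at least
`d` variables. -/
theorem exists_FI_start [Algebra.FiniteType R S] (d : ℕ) :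
    ∃ (k : ℕ) (ψ : MvPolynomial (Fin (d + k)) R →ₐ[R] S), FI ψ := by
  obtain ⟨k, f, hf⟩ := Algebra.FiniteType.iff_quotient_mvPolynomial''.mp
    (inferInstance : Algebra.FiniteType R S)
  let τ : Fin (d + k) → MvPolynomial (Fin k) R :=
    Fin.addCases (fun _ => 0) (fun i => MvPolynomial.X i)
  refine ⟨k, f.comp (MvPolynomial.aeval τ), FI_of_surjective _ ?_⟩
  intro s
  obtain ⟨G, rfl⟩ := hf s
  refine ⟨MvPolynomial.rename (Fin.natAdd d) G, ?_⟩
  rw [AlgHom.comp_apply, MvPolynomial.aeval_rename]
  have : τ ∘ Fin.natAdd d = MvPolynomial.X := by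
    ext i; simp [τ]
  rw [this, MvPolynomial.aeval_X_left, AlgHom.id_apply]

/-- Iterating the reduction step. -/
theorem exists_FI_of_dim (d : ℕ)
    (hd : ∀ (p : Ideal R) [p.IsPrime], ringKrullDim (p.Fiber S) ≤ (d : WithBot ℕ∞)) :
    ∀ (k : ℕ) (ψ : MvPolynomial (Fin (d + k)) R →ₐ[R] S), FI ψ →
      ∃ ψ' : MvPolynomial (Fin d) R →ₐ[R] S, FI ψ'
  | 0, ψ, h => ⟨ψ, h⟩
  | k + 1, ψ, h => by
    obtain ⟨ψ', h'⟩ := FI_step (n := d + k) ψ h hd (Nat.le_add_right _ _)
    exact exists_FI_of_dim d hd k ψ' h'

/-- Fibrewise integrality for a finite type algebra gives quasi-finiteness over the polynomial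
ring. -/
theorem quasiFinite_of_FI [Algebra.FiniteType R S] {d : ℕ}
    (ψ : MvPolynomial (Fin d) R →ₐ[R] S) (hψ : FI ψ) : ψ.toRingHom.QuasiFinite := by
  letI : Algebra (MvPolynomial (Fin d) R) S := ψ.toRingHom.toAlgebra
  haveI : IsScalarTower R (MvPolynomial (Fin d) R) S :=
    IsScalarTower.of_algebraMap_eq' ψ.comp_algebraMap.symm
  haveI : Algebra.FiniteType (MvPolynomial (Fin d) R) S :=
    Algebra.FiniteType.of_restrictScalars_finiteType R (MvPolynomial (Fin d) R) S
  change Algebra.QuasiFinite (MvPolynomial (Fin d) R) S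
  refine ⟨fun P hP => ?_⟩
  let p : Ideal R := P.comap (algebraMap R (MvPolynomial (Fin d) R))
  haveI : p.IsPrime := Ideal.comap_isPrime _ _
  let ι : p.ResidueField →ₐ[R] P.ResidueField :=
    Ideal.ResidueField.mapₐ p P (Algebra.ofId R (MvPolynomial (Fin d) R)) rfl
  let g : p.Fiber S →ₐ[R] P.Fiber S :=
    Algebra.TensorProduct.lift ((IsScalarTower.toAlgHom R P.ResidueField (P.Fiber S)).comp ι)
      ((Algebra.TensorProduct.includeRight (R := MvPolynomial (Fin d) R) (A := P.ResidueField)
        (B := S)).restrictScalars R) (fun _ _ => Commute.all _ _)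
  have hgen : ∀ s : S, IsIntegral P.ResidueField ((1 : P.ResidueField) ⊗ₜ[MvPolynomial (Fin d) R] s) := by
    intro s
    have key := isIntegral_map_of_isIntegralElem (k := P.ResidueField) (A := p.Fiber S)
      (A' := P.Fiber S) (T₀ := (theta ψ p).range) (algebraMap (theta ψ p).range (p.Fiber S))
      g.toRingHom ?_ ((1 : p.ResidueField) ⊗ₜ[R] s) (hψ p _)
    · have : g.toRingHom ((1 : p.ResidueField) ⊗ₜ[R] s) =
          (1 : P.ResidueField) ⊗ₜ[MvPolynomial (Fin d) R] s := by
        simp [g]
      rw [← this]; exact key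
    · rintro ⟨_, G, rfl⟩
      change IsIntegral P.ResidueField (g (theta ψ p G))
      induction G using MvPolynomial.induction_on with
      | C c =>
        rw [theta, MvPolynomial.aeval_C, Algebra.TensorProduct.algebraMap_apply,
          Algebra.algebraMap_self, RingHom.id_apply]
        have : g (c ⊗ₜ[R] (1 : S)) = algebraMap P.ResidueField (P.Fiber S) (ι c) := by
          simp [g, Algebra.TensorProduct.algebraMap_apply]
        rw [this]; exact isIntegral_algebraMap
      | add G H hG hH => rw [map_add, map_add]; exact hG.add hH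
      | mul_X G i hG =>
        rw [map_mul, map_mul]
        refine hG.mul ?_
        rw [theta, MvPolynomial.aeval_X]
        have : g ((1 : p.ResidueField) ⊗ₜ[R] ψ (MvPolynomial.X i)) =
            algebraMap P.ResidueField (P.Fiber S)
              (algebraMap (MvPolynomial (Fin d) R) P.ResidueField (MvPolynomial.X i)) := by
          simp [g, Algebra.TensorProduct.algebraMap_apply]
          have h1 : ψ (MvPolynomial.X i) =
              (MvPolynomial.X i : MvPolynomial (Fin d) R) • (1 : S) := by
            rw [Algebra.smul_def, mul_one]; rfl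
          rw [h1, tmul_smul, smul_tmul', Algebra.algebraMap_eq_smul_one]
        rw [this]; exact isIntegral_algebraMap
  haveI : Algebra.IsIntegral P.ResidueField (P.Fiber S) := by
    refine ⟨fun y => ?_⟩
    induction y using TensorProduct.induction_on with
    | zero => exact isIntegral_zero
    | tmul c s =>
      have : c ⊗ₜ[MvPolynomial (Fin d) R] s = algebraMap P.ResidueField (P.Fiber S) c *
          ((1 : P.ResidueField) ⊗ₜ[MvPolynomial (Fin d) R] s) := by
        rw [Algebra.TensorProduct.algebraMap_apply, Algebra.TensorProduct.tmul_mul_tmul, mul_one,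
          one_mul]
        rfl
      rw [this]
      exact isIntegral_algebraMap.mul (hgen s)
    | add x y hx hy => exact hx.add hy
  exact Algebra.IsIntegral.finite

/-- Weak relative Noether normalization: if all fibre rings of a finite type algebra have
dimension at most `d`, there is a quasi-finite map from the polynomial ring in `d` variables. -/
theorem exists_quasiFinite_of_fibre_dim_le [Algebra.FiniteType R S] (d : ℕ)
    (hd : ∀ (p : Ideal R) [p.IsPrime], ringKrullDim (p.Fiber S) ≤ (d : WithBot ℕ∞)) :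
    ∃ φ : MvPolynomial (Fin d) R →ₐ[R] S, φ.toRingHom.QuasiFinite := by
  obtain ⟨k, ψ, hψ⟩ := exists_FI_start (R := R) (S := S) d
  obtain ⟨ψ', hψ'⟩ := exists_FI_of_dim d hd k ψ hψ
  exact ⟨ψ', quasiFinite_of_FI ψ' hψ'⟩

/-- The same with the hypothesis on the supremum of the fibre dimensions. -/
theorem weak_relative_noether_normalization [Algebra.FiniteType R S] (d : ℕ)
    (hd : ⨆ p : PrimeSpectrum R, ringKrullDim (p.asIdeal.Fiber S) = (d : WithBot ℕ∞)) :
    ∃ φ : MvPolynomial (Fin d) R →ₐ[R] S, φ.toRingHom.QuasiFinite := by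
  refine exists_quasiFinite_of_fibre_dim_le d (fun p hp => ?_)
  rw [← hd]
  exact le_iSup (fun p : PrimeSpectrum R => ringKrullDim (p.asIdeal.Fiber S)) ⟨p, hp⟩

end Groth.Agent.Helper3.NNorm
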