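import Mathlib
import Groth.Prelude
import Groth.Agent.Helper3.NNormC

set_option autoImplicit false
set_option linter.style.haveILetI false
set_option linter.unusedSectionVars false
set_option linter.unusedVariables false
set_option linter.deprecated false
set_option linter.style.haveILetI false
set_option linter.unusedSectionVars false
set_option linter.unusedVariables false

universe u

namespace Groth.Agent.Helper3.NNorm

open TensorProduct PrimeSpectrum Polynomial

/-- If `1 ⊗ s` vanishes in the fibre over `p`, then a multiple of `s` by an element outside `p`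
lies in `p S`. -/
theorem exists_smul_mem_of_tmul_eq_zero {A S : Type u} [CommRing A] [CommRing S] [Algebra A S]
    (p : Ideal A) [p.IsPrime] (s : S) (h : (1 : p.ResidueField) ⊗ₜ[A] s = (0 : p.Fiber S)) :
    ∃ a ∉ p, algebraMap A S a * s ∈ p.map (algebraMap A S) := by
  letI : Algebra S (p.Fiber S) := Algebra.TensorProduct.rightAlgebra
  let e := Ideal.Fiber.algEquivAux₁ (S := S) p
  have h1 : e ((1 : p.ResidueField) ⊗ₜ[A] s) = 0 := by rw [h, map_zero]
  have h2 : (1 : p.ResidueField) ⊗ₜ[A] s = algebraMap S (p.Fiber S) s := rfl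
  rw [h2, AlgEquiv.commutes, IsScalarTower.algebraMap_apply S
    (Localization (Algebra.algebraMapSubmonoid S p.primeCompl)), Ideal.Quotient.algebraMap_eq,
    Ideal.Quotient.eq_zero_iff_mem, IsLocalization.mem_map_algebraMap_iff
      (Algebra.algebraMapSubmonoid S p.primeCompl)] at h1
  obtain ⟨⟨⟨x, hx⟩, ⟨m, a, ha, rfl⟩⟩, hxm⟩ := h1
  simp only at hxm
  rw [← map_mul, IsLocalization.eq_iff_exists (Algebra.algebraMapSubmonoid S p.primeCompl)] at hxm
  obtain ⟨⟨m', a', ha', rfl⟩, hm'⟩ := hxm
  refine ⟨a' * a, ?_, ?_⟩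
  · exact fun hmem => (Ideal.IsPrime.mem_or_mem inferInstance hmem).elim ha' ha
  · simp only at hm'
    rw [map_mul, mul_assoc, mul_comm _ s, hm']
    exact Ideal.mul_mem_left _ _ hx

/-- Clearing the denominator of an element of the residue field. -/
theorem exists_algebraMap_eq_mul {A : Type u} [CommRing A] (p : Ideal A) [p.IsPrime]
    (c : p.ResidueField) :
    ∃ h ∉ p, ∃ a : A, algebraMap A p.ResidueField a = algebraMap A p.ResidueField h * c := by
  obtain ⟨h, hh, F, hF⟩ := exists_map_eq_smul p (σ := PEmpty.{1}) (MvPolynomial.C c)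
  refine ⟨h, hh, MvPolynomial.coeff 0 F, ?_⟩
  have := congrArg (MvPolynomial.coeff 0) hF
  rw [MvPolynomial.coeff_map, MvPolynomial.coeff_smul, MvPolynomial.coeff_zero_C] at this
  exact this

/-- Clearing denominators of a polynomial over the residue field. -/
theorem exists_polynomial_map_eq_mul {A : Type u} [CommRing A] (p : Ideal A) [p.IsPrime]
    (m : p.ResidueField[X]) :
    ∃ h ∉ p, ∃ G : A[X], G.map (algebraMap A p.ResidueField) =
      C (algebraMap A p.ResidueField h) * m := by
  induction m using Polynomial.induction_on' with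
  | add m₁ m₂ h₁ h₂ =>
    obtain ⟨a₁, ha₁, G₁, hG₁⟩ := h₁
    obtain ⟨a₂, ha₂, G₂, hG₂⟩ := h₂
    refine ⟨a₁ * a₂, fun hmem => (Ideal.IsPrime.mem_or_mem inferInstance hmem).elim ha₁ ha₂,
      C a₂ * G₁ + C a₁ * G₂, ?_⟩
    rw [Polynomial.map_add, Polynomial.map_mul, Polynomial.map_mul, hG₁, hG₂, Polynomial.map_C,
      Polynomial.map_C, map_mul, C_mul]
    ring
  | monomial n c =>
    obtain ⟨h, hh, a, ha⟩ := exists_algebraMap_eq_mul p c
    refine ⟨h, hh, monomial n a, ?_⟩
    rw [Polynomial.map_monomial, ha, C_mul_monomial]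

/-- Substituting `c - X ^ n` for the outer variable in a nonzero two-variable polynomial over
a domain gives a nonzero polynomial, when `n` exceeds the inner degrees. -/
theorem eval_sub_pow_ne_zero {D : Type*} [CommRing D] [IsDomain D] (G : D[X][X]) (hG : G ≠ 0)
    (c : D) (n : ℕ) (hn : ∀ j, (G.coeff j).natDegree < n) :
    G.eval (C c - X ^ n) ≠ 0 := by
  have hn0 : 0 < n := lt_of_le_of_lt (Nat.zero_le _) (hn 0)
  set u : D[X] := C c - X ^ n with hu
  have hudeg : u.degree = (n : WithBot ℕ) := by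
    rw [hu, sub_eq_neg_add, degree_add_eq_left_of_degree_lt]
    · rw [degree_neg, degree_X_pow]
    · rw [degree_neg, degree_X_pow]
      exact lt_of_le_of_lt degree_C_le (by exact_mod_cast hn0)
  have hu0 : u ≠ 0 := by
    intro h; rw [h, degree_zero] at hudeg; exact WithBot.bot_ne_coe hudeg
  set J := G.natDegree with hJ
  have hGJ : G.coeff J ≠ 0 := by
    rw [hJ]; exact fun h => hG (leadingCoeff_eq_zero.mp h)
  rw [eval_eq_sum_range, Finset.sum_range_succ]
  have htop : (G.coeff J * u ^ J).degree = ((G.coeff J).natDegree + J * n : ℕ) := by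
    rw [degree_mul, degree_pow, hudeg, degree_eq_natDegree hGJ]
    push_cast
    rfl
  have hlow : (∑ i ∈ Finset.range J, G.coeff i * u ^ i).degree < ((J * n : ℕ) : WithBot ℕ) := by
    rw [← mem_degreeLT]
    refine Submodule.sum_mem _ (fun i hi => ?_)
    rw [mem_degreeLT]
    have hiJ : i < J := Finset.mem_range.mp hi
    by_cases h0 : G.coeff i = 0
    · rw [h0, zero_mul, degree_zero]; exact WithBot.bot_lt_coe _
    · rw [degree_mul, degree_pow, hudeg, degree_eq_natDegree h0]
      have h1 := hn i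
      have h2 : (G.coeff i).natDegree + i * n < J * n := by
        calc (G.coeff i).natDegree + i * n < n + i * n := by omega
          _ = (i + 1) * n := by ring
          _ ≤ J * n := Nat.mul_le_mul_right _ hiJ
      have : ((G.coeff i).natDegree : WithBot ℕ) + i • (n : WithBot ℕ) =
          (((G.coeff i).natDegree + i * n : ℕ) : WithBot ℕ) := by
        push_cast; rfl
      rw [this]
      exact_mod_cast h2
  have hlt : (∑ i ∈ Finset.range J, G.coeff i * u ^ i).degree < (G.coeff J * u ^ J).degree := by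
    rw [htop]
    refine lt_of_lt_of_le hlow ?_
    exact_mod_cast Nat.le_add_left _ _
  intro h
  have := degree_add_eq_right_of_degree_lt hlt
  rw [h, degree_zero, htop] at this
  exact WithBot.bot_ne_coe this

variable {R S : Type u} [CommRing R] [CommRing S] [Algebra R S]

/-- The ring map `R[t_1, …, t_d][X] → S` given by `t` and `a`. -/
noncomputable def Phi {d : ℕ} (t : Fin d → S) (a : S) : (MvPolynomial (Fin d) R)[X] →+* S :=
  Polynomial.eval₂RingHom (MvPolynomial.aeval t : MvPolynomial (Fin d) R →ₐ[R] S).toRingHom a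

theorem Phi_comp_algebraMap {d : ℕ} (t : Fin d → S) (a : S) :
    (Phi (R := R) t a).comp (algebraMap R (MvPolynomial (Fin d) R)[X]) = algebraMap R S := by
  ext r
  simp [Phi, Polynomial.algebraMap_apply, MvPolynomial.algebraMap_eq]

/-- The reduction map `R[t][X] → κ(p)[t][X]`. -/
noncomputable def rho (d : ℕ) (p : Ideal R) [p.IsPrime] :
    (MvPolynomial (Fin d) R)[X] →+* (MvPolynomial (Fin d) p.ResidueField)[X] :=
  Polynomial.mapRingHom (MvPolynomial.map (algebraMap R p.ResidueField))

theorem ker_rho_le {d : ℕ} (p : Ideal R) [p.IsPrime] (q : Ideal (MvPolynomial (Fin d) R)[X])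
    (hq : p ≤ q.comap (algebraMap R (MvPolynomial (Fin d) R)[X])) :
    RingHom.ker (rho d p) ≤ q := by
  rw [rho, Polynomial.ker_mapRingHom, MvPolynomial.ker_map, Ideal.ker_algebraMap_residueField,
    Ideal.map_le_iff_le_comap, Ideal.map_le_iff_le_comap]
  exact hq

/-- For each prime `p` of `R` there is a relation for `b` over `R[t][X]` which is nontrivial
modulo `p` and vanishes at all primes of `S` over `p`. -/
theorem exists_relation {d : ℕ} (t : Fin d → S) (a b : S)
    (hΦ : (Phi (R := R) t a).QuasiFinite) (p : PrimeSpectrum R) :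
    ∃ (G : (MvPolynomial (Fin d) R)[X][X]) (j i : ℕ) (m : Fin d →₀ ℕ),
      MvPolynomial.coeff m ((G.coeff j).coeff i) ∉ p.asIdeal ∧
      p ∉ comap (algebraMap R S) ''
        (basicOpen (G.eval₂ (Phi t a) b) : Set (PrimeSpectrum S)) := by
  classical
  letI : Algebra (MvPolynomial (Fin d) R)[X] S := (Phi t a).toAlgebra
  haveI : Algebra.QuasiFinite (MvPolynomial (Fin d) R)[X] S := hΦ
  let P : Ideal (MvPolynomial (Fin d) R)[X] := RingHom.ker (rho d p.asIdeal)
  haveI : P.IsPrime := RingHom.ker_isPrime _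
  obtain ⟨mm, hmonic, hmm⟩ := Algebra.IsIntegral.isIntegral (R := P.ResidueField)
    ((1 : P.ResidueField) ⊗ₜ[(MvPolynomial (Fin d) R)[X]] b : P.Fiber S)
  obtain ⟨h, hh, G, hG⟩ := exists_polynomial_map_eq_mul P mm
  have hcomp : (algebraMap P.ResidueField (P.Fiber S)).comp
      (algebraMap (MvPolynomial (Fin d) R)[X] P.ResidueField) =
      (Algebra.TensorProduct.includeRight : S →ₐ[(MvPolynomial (Fin d) R)[X]] P.Fiber S).toRingHom.comp
        (algebraMap (MvPolynomial (Fin d) R)[X] S) := by
    refine RingHom.ext (fun x => ?_)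
    rw [RingHom.comp_apply, RingHom.comp_apply, ← IsScalarTower.algebraMap_apply]
    exact ((Algebra.TensorProduct.includeRight :
      S →ₐ[(MvPolynomial (Fin d) R)[X]] P.Fiber S).commutes x).symm
  have hzero : (1 : P.ResidueField) ⊗ₜ[(MvPolynomial (Fin d) R)[X]]
      (G.eval₂ (algebraMap (MvPolynomial (Fin d) R)[X] S) b) = (0 : P.Fiber S) := by
    have h1 : (1 : P.ResidueField) ⊗ₜ[(MvPolynomial (Fin d) R)[X]]
        (G.eval₂ (algebraMap (MvPolynomial (Fin d) R)[X] S) b) =
        (Algebra.TensorProduct.includeRight : S →ₐ[(MvPolynomial (Fin d) R)[X]] P.Fiber S).toRingHom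
          (G.eval₂ (algebraMap (MvPolynomial (Fin d) R)[X] S) b) := rfl
    rw [h1, Polynomial.hom_eval₂, ← hcomp, ← Polynomial.eval₂_map, hG, Polynomial.eval₂_mul,
      Polynomial.eval₂_C]
    have h2 : Polynomial.eval₂ (algebraMap P.ResidueField (P.Fiber S))
        ((Algebra.TensorProduct.includeRight :
          S →ₐ[(MvPolynomial (Fin d) R)[X]] P.Fiber S).toRingHom b) mm = 0 := hmm
    rw [h2, mul_zero]
  obtain ⟨h', hh', hmem⟩ := exists_smul_mem_of_tmul_eq_zero P _ hzero
  let G' := C h' * G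
  have hG'eval : G'.eval₂ (Phi t a) b = Phi t a h' * G.eval₂ (Phi t a) b := by
    rw [Polynomial.eval₂_mul, Polynomial.eval₂_C]
  set J := mm.natDegree with hJ
  have hcoeffJ : G.coeff J ∉ P := by
    intro hmem
    have := congrArg (fun q => q.coeff J) hG
    simp only [Polynomial.coeff_map, Polynomial.coeff_C_mul] at this
    rw [(Ideal.algebraMap_residueField_eq_zero).mpr hmem, hmonic.coeff_natDegree, mul_one] at this
    exact hh (Ideal.algebraMap_residueField_eq_zero.mp this.symm)
  have hG'J : G'.coeff J ∉ P := by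
    rw [Polynomial.coeff_C_mul]
    exact fun hmem => (Ideal.IsPrime.mem_or_mem inferInstance hmem).elim hh' hcoeffJ
  have hne : rho d p.asIdeal (G'.coeff J) ≠ 0 := hG'J
  obtain ⟨i, hi⟩ : ∃ i, (rho d p.asIdeal (G'.coeff J)).coeff i ≠ 0 := by
    by_contra hcon
    push Not at hcon
    exact hne (Polynomial.ext (by simpa using hcon))
  rw [rho, Polynomial.coe_mapRingHom, Polynomial.coeff_map] at hi
  obtain ⟨m, hm⟩ := MvPolynomial.ne_zero_iff.mp hi
  rw [MvPolynomial.coeff_map] at hm
  refine ⟨G', J, i, m, fun hmem => hm (Ideal.algebraMap_residueField_eq_zero.mpr hmem), ?_⟩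
  rintro ⟨Q, hQ, hQp⟩
  apply hQ
  change G'.eval₂ (Phi t a) b ∈ Q.asIdeal
  rw [hG'eval]
  have hle : P.map (algebraMap (MvPolynomial (Fin d) R)[X] S) ≤ Q.asIdeal := by
    rw [Ideal.map_le_iff_le_comap]
    refine ker_rho_le p.asIdeal _ ?_
    rw [Ideal.comap_comap]
    have : (algebraMap (MvPolynomial (Fin d) R)[X] S).comp
        (algebraMap R (MvPolynomial (Fin d) R)[X]) = algebraMap R S := Phi_comp_algebraMap t a
    rw [this, ← hQp]
    rfl
  exact hle hmem

/-- The dimension bound for the fibres of `x ↦ a ^ n + b`, given a relation. -/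
theorem fiber_dim_le {d : ℕ} (t : Fin d → S) (a b : S) (hΦ : (Phi (R := R) t a).QuasiFinite)
    (G : (MvPolynomial (Fin d) R)[X][X]) (j i : ℕ) (m : Fin d →₀ ℕ)
    (n : ℕ) (hn : ∀ j', (G.coeff j').natDegree < n)
    (P : Ideal R[X]) [P.IsPrime]
    (hcoef : MvPolynomial.coeff m ((G.coeff j).coeff i) ∉ P.comap (algebraMap R R[X]))
    (himg : (⟨P.comap (algebraMap R R[X]), Ideal.comap_isPrime _ _⟩ : PrimeSpectrum R) ∉
      comap (algebraMap R S) '' (basicOpen (G.eval₂ (Phi t a) b) : Set (PrimeSpectrum S))) :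
    letI := (Polynomial.aeval (R := R) (a ^ n + b)).toRingHom.toAlgebra
    ringKrullDim (P.Fiber S) ≤ (d : WithBot ℕ∞) := by
  classical
  letI alg : Algebra R[X] S := (Polynomial.aeval (R := R) (a ^ n + b)).toRingHom.toAlgebra
  haveI : IsScalarTower R R[X] S := IsScalarTower.of_algebraMap_eq (fun r => by
    change algebraMap R S r = Polynomial.aeval (a ^ n + b) (algebraMap R R[X] r)
    rw [Polynomial.algebraMap_apply, Algebra.algebraMap_self, RingHom.id_apply, Polynomial.aeval_C])
  change ringKrullDim (P.Fiber S) ≤ (d : WithBot ℕ∞)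
  let L := P.ResidueField
  let D := MvPolynomial (Fin d) L
  let ρ' : (MvPolynomial (Fin d) R)[X] →+* D[X] :=
    Polynomial.mapRingHom (MvPolynomial.map (algebraMap R L))
  let W := P.Fiber S
  let Ψ : D[X] →+* W := Polynomial.eval₂RingHom
    (MvPolynomial.aeval (fun i => ((1 : L) ⊗ₜ[R[X]] t i : W)) : D →ₐ[L] W).toRingHom
    ((1 : L) ⊗ₜ[R[X]] a)
  let incl : S →+* W := (Algebra.TensorProduct.includeRight : S →ₐ[R[X]] W).toRingHom
  have hR : ∀ r : R, algebraMap L W (algebraMap R L r) = incl (algebraMap R S r) := by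
    intro r
    rw [IsScalarTower.algebraMap_apply R R[X] L, IsScalarTower.algebraMap_apply R R[X] S,
      ← IsScalarTower.algebraMap_apply R[X] L W]
    exact ((Algebra.TensorProduct.includeRight : S →ₐ[R[X]] W).commutes _).symm
  have key : ∀ e : MvPolynomial (Fin d) R,
      (MvPolynomial.aeval (fun i => ((1 : L) ⊗ₜ[R[X]] t i : W)) : D →ₐ[L] W)
        (MvPolynomial.map (algebraMap R L) e) = incl (MvPolynomial.aeval t e) := by
    intro e
    induction e using MvPolynomial.induction_on with
    | C r =>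
      rw [MvPolynomial.map_C, MvPolynomial.aeval_C, MvPolynomial.aeval_C]
      exact hR r
    | add e₁ e₂ h₁ h₂ => rw [map_add, map_add, map_add, map_add, h₁, h₂]
    | mul_X e i he =>
      rw [map_mul, map_mul, map_mul, map_mul, he, MvPolynomial.map_X, MvPolynomial.aeval_X,
        MvPolynomial.aeval_X]
      rfl
  have hsq : Ψ.comp ρ' = incl.comp (Phi t a) := by
    apply Polynomial.ringHom_ext
    · intro e
      have h1 : ρ' (C e) = C (MvPolynomial.map (algebraMap R L) e) := by simp [ρ']
      rw [RingHom.comp_apply, RingHom.comp_apply, h1]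
      simp only [Ψ, Phi, Polynomial.coe_eval₂RingHom, Polynomial.eval₂_C]
      exact key e
    · simp [Ψ, ρ', Phi, incl]
  let c : L := algebraMap R[X] L X
  let u : D[X] := C (MvPolynomial.C c) - X ^ n
  have hΨu : Ψ u = incl b := by
    have hc : algebraMap L W c = incl (a ^ n + b) := by
      rw [← IsScalarTower.algebraMap_apply R[X] L W]
      have h1 := (Algebra.TensorProduct.includeRight : S →ₐ[R[X]] W).commutes (X : R[X])
      rw [← h1]
      change incl (Polynomial.aeval (a ^ n + b) X) = _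
      rw [Polynomial.aeval_X]
    have h2 : Ψ u = algebraMap L W c - ((1 : L) ⊗ₜ[R[X]] a) ^ n := by
      simp only [u, Ψ, map_sub, map_pow, Polynomial.coe_eval₂RingHom, Polynomial.eval₂_C,
        Polynomial.eval₂_X, AlgHom.toRingHom_eq_coe, RingHom.coe_coe]
      rw [MvPolynomial.aeval_C]
    have h3 : ((1 : L) ⊗ₜ[R[X]] a : W) = incl a := rfl
    rw [h2, hc, h3, map_add, map_pow]
    ring
  let Gbar : D[X][X] := G.map ρ'
  let H : D[X] := Gbar.eval u
  have hΨH : Ψ H = incl (G.eval₂ (Phi t a) b) := by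
    simp only [H, Gbar]
    rw [Polynomial.eval, Polynomial.hom_eval₂, Polynomial.eval₂_map, RingHom.comp_id, hsq, hΨu,
      ← Polynomial.hom_eval₂]
  have hGbar : Gbar ≠ 0 := by
    intro h0
    have h1 : MvPolynomial.coeff m ((Gbar.coeff j).coeff i) = 0 := by rw [h0]; simp
    simp only [Gbar, ρ', Polynomial.coeff_map, Polynomial.coe_mapRingHom] at h1
    rw [MvPolynomial.coeff_map, IsScalarTower.algebraMap_apply R R[X] L,
      Ideal.algebraMap_residueField_eq_zero] at h1
    exact hcoef h1
  have hdegs : ∀ j', (Gbar.coeff j').natDegree < n := by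
    intro j'
    simp only [Gbar, Polynomial.coeff_map, ρ', Polynomial.coe_mapRingHom]
    exact lt_of_le_of_lt (Polynomial.natDegree_map_le) (hn j')
  have hH : H ≠ 0 := eval_sub_pow_ne_zero Gbar hGbar (MvPolynomial.C c) n hdegs
  have hprime : ∀ Q' : PrimeSpectrum W,
      comap (algebraMap R[X] S) (comap incl Q') = ⟨P, inferInstance⟩ := fun Q' =>
    ((preimageEquivFiber R[X] S ⟨P, inferInstance⟩).symm Q').2
  have hHmem : ∀ Q' : PrimeSpectrum W, H ∈ (comap Ψ Q').asIdeal := by
    intro Q'
    change Ψ H ∈ Q'.asIdeal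
    rw [hΨH]
    by_contra hnot
    apply himg
    refine ⟨comap incl Q', hnot, ?_⟩
    have h1 := hprime Q'
    rw [IsScalarTower.algebraMap_eq R R[X] S, comap_comp_apply, h1]
    rfl
  let f : PrimeSpectrum W → zeroLocus ((Ideal.span {H} : Ideal D[X]) : Set D[X]) := fun Q' =>
    ⟨comap Ψ Q', by
      rw [mem_zeroLocus, SetLike.coe_subset_coe, Ideal.span_le, Set.singleton_subset_iff]
      exact hHmem Q'⟩
  have hf : StrictMono f := by
    intro Q₁ Q₂ h12
    refine lt_of_le_of_ne ?_ ?_
    · change (comap Ψ Q₁).asIdeal ≤ (comap Ψ Q₂).asIdeal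
      exact Ideal.comap_mono (show Q₁.asIdeal ≤ Q₂.asIdeal from h12.le)
    · intro heq
      have heq' : comap Ψ Q₁ = comap Ψ Q₂ := congrArg Subtype.val heq
      have h1 : comap (Phi (R := R) t a) (comap incl Q₁) =
          comap (Phi (R := R) t a) (comap incl Q₂) := by
        rw [← comap_comp_apply, ← comap_comp_apply, ← hsq, comap_comp_apply, comap_comp_apply,
          heq']
      letI : Algebra (MvPolynomial (Fin d) R)[X] S := (Phi t a).toAlgebra
      haveI : Algebra.QuasiFinite (MvPolynomial (Fin d) R)[X] S := hΦ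
      have h2 : (comap incl Q₁).asIdeal = (comap incl Q₂).asIdeal :=
        Algebra.QuasiFinite.eq_of_le_of_under_eq (R := (MvPolynomial (Fin d) R)[X])
          (comap incl Q₁).asIdeal (comap incl Q₂).asIdeal
          (Ideal.comap_mono (show Q₁.asIdeal ≤ Q₂.asIdeal from h12.le))
          (congrArg PrimeSpectrum.asIdeal h1)
      have h3 : (preimageEquivFiber R[X] S ⟨P, inferInstance⟩).symm Q₁ =
          (preimageEquivFiber R[X] S ⟨P, inferInstance⟩).symm Q₂ :=
        Subtype.ext (PrimeSpectrum.ext h2)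
      exact h12.ne ((preimageEquivFiber R[X] S ⟨P, inferInstance⟩).symm.injective h3)
  have hdim1 : ringKrullDim W ≤ ringKrullDim (D[X] ⧸ (Ideal.span {H} : Ideal D[X])) := by
    rw [ringKrullDim_quotient]
    exact Order.krullDim_le_of_strictMono f hf
  have hdim2 : ringKrullDim (D[X] ⧸ (Ideal.span {H} : Ideal D[X])) + 1 ≤ ringKrullDim D[X] :=
    ringKrullDim_quotient_succ_le_of_nonZeroDivisor (mem_nonZeroDivisors_of_ne_zero hH)
  have hdim3 : ringKrullDim D[X] = (d : WithBot ℕ∞) + 1 := by
    rw [Polynomial.ringKrullDim_of_isNoetherianRing, MvPolynomial.ringKrullDim_of_isNoetherianRing,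
      ringKrullDim_eq_zero_of_field, Nat.card_fin, zero_add]
  rw [hdim3] at hdim2
  have hdim4 : ringKrullDim W + 1 ≤ (d : WithBot ℕ∞) + 1 :=
    le_trans (add_le_add_left hdim1 1) hdim2
  change ringKrullDim W ≤ (d : WithBot ℕ∞)
  generalize ringKrullDim W = x at hdim4
  induction x using WithBot.recBotCoe with
  | bot => exact bot_le
  | coe x =>
    induction x using ENat.recTopCoe with
    | top =>
      exfalso
      have h5 : ((⊤ : ℕ∞) : WithBot ℕ∞) + 1 = ((⊤ : ℕ∞) : WithBot ℕ∞) := rfl
      rw [h5] at hdim4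
      have h6 : ((d : WithBot ℕ∞) + 1) = (((d + 1 : ℕ) : ℕ∞) : WithBot ℕ∞) := by
        push_cast; rfl
      rw [h6, WithBot.coe_le_coe] at hdim4
      exact absurd hdim4 (by simp)
    | coe x =>
      have : x + 1 ≤ d + 1 := by exact_mod_cast hdim4
      exact_mod_cast Nat.le_of_succ_le_succ this

/-- Weak relative Noether normalization over `R[X]`, repackaged as a quasi-finite map from
`R[t_1, …, t_d][X]`. -/
theorem exists_Phi_quasiFinite [Algebra.FiniteType R S] (d : ℕ) (a : S)
    (ha : ∀ P : PrimeSpectrum R[X], letI := (Polynomial.aeval (R := R) a).toRingHom.toAlgebra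
      ringKrullDim (P.asIdeal.Fiber S) ≤ (d : WithBot ℕ∞)) :
    ∃ t : Fin d → S, (Phi (R := R) t a).QuasiFinite := by
  letI alg : Algebra R[X] S := (Polynomial.aeval (R := R) a).toRingHom.toAlgebra
  haveI : IsScalarTower R R[X] S := IsScalarTower.of_algebraMap_eq (fun r => by
    change algebraMap R S r = Polynomial.aeval a (algebraMap R R[X] r)
    rw [Polynomial.algebraMap_apply, Algebra.algebraMap_self, RingHom.id_apply, Polynomial.aeval_C])
  haveI : Algebra.FiniteType R[X] S := Algebra.FiniteType.of_restrictScalars_finiteType R R[X] S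
  obtain ⟨φ, hφ⟩ := exists_quasiFinite_of_fibre_dim_le (R := R[X]) (S := S) d
    (fun p hp => ha ⟨p, hp⟩)
  refine ⟨fun i => φ (MvPolynomial.X i), ?_⟩
  let μ : MvPolynomial (Fin d) R[X] →+* (MvPolynomial (Fin d) R)[X] :=
    MvPolynomial.eval₂Hom (Polynomial.mapRingHom MvPolynomial.C)
      (fun i => Polynomial.C (MvPolynomial.X i))
  have hcomp : (Phi (R := R) (fun i => φ (MvPolynomial.X i)) a).comp μ = φ.toRingHom := by
    apply MvPolynomial.ringHom_ext
    · intro f
      have h1 : μ (MvPolynomial.C f) = f.map MvPolynomial.C := by simp [μ]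
      rw [RingHom.comp_apply, h1, Phi, Polynomial.coe_eval₂RingHom, Polynomial.eval₂_map]
      have h2 : (MvPolynomial.aeval (fun i => φ (MvPolynomial.X i)) :
          MvPolynomial (Fin d) R →ₐ[R] S).toRingHom.comp MvPolynomial.C = algebraMap R S := by
        ext r; simp
      rw [h2]
      have h3 : φ.toRingHom (MvPolynomial.C f) = algebraMap R[X] S f := φ.commutes f
      rw [h3]
      rfl
    · intro i
      simp [μ, Phi]
  exact RingHom.QuasiFinite.of_comp (g := μ) (hcomp ▸ hφ)

/-- If the fibres of `x ↦ a` have dimension at most `d`, so do the fibres of `x ↦ a ^ n + b` for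
all large `n`. -/
theorem fibre_dimension_bound_stable [Algebra.FiniteType R S] (d : ℕ) (a b : S)
    (ha : ∀ P : PrimeSpectrum R[X], letI := (Polynomial.aeval (R := R) a).toRingHom.toAlgebra
      ringKrullDim (P.asIdeal.Fiber S) ≤ (d : WithBot ℕ∞)) :
    ∃ n₀ : ℕ, ∀ n ≥ n₀, ∀ P : PrimeSpectrum R[X],
      letI := (Polynomial.aeval (R := R) (a ^ n + b)).toRingHom.toAlgebra
      ringKrullDim (P.asIdeal.Fiber S) ≤ (d : WithBot ℕ∞) := by
  classical
  obtain ⟨t, hΦ⟩ := exists_Phi_quasiFinite d a ha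
  let ι := (MvPolynomial (Fin d) R)[X][X] × ℕ × ℕ × (Fin d →₀ ℕ)
  let cf : ι → Finset R :=
    fun x => {MvPolynomial.coeff x.2.2.2 ((x.1.coeff x.2.1).coeff x.2.2.1)}
  let sf : ι → S := fun x => x.1.eval₂ (Phi t a) b
  have hcov : ∀ p : PrimeSpectrum R, ∃ x : ι, (∃ r ∈ cf x, r ∉ p.asIdeal) ∧
      p ∉ comap (algebraMap R S) '' (basicOpen (sf x) : Set (PrimeSpectrum S)) := by
    intro p
    obtain ⟨G, j, i, m, h1, h2⟩ := exists_relation t a b hΦ p
    exact ⟨(G, j, i, m), ⟨_, Finset.mem_singleton_self _, h1⟩, h2⟩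
  obtain ⟨T, hT⟩ := exists_finset_cover (algebraMap R S) cf sf hcov
  let n₀ : ℕ := T.sup (fun x => x.1.support.sup (fun j' => (x.1.coeff j').natDegree)) + 1
  refine ⟨n₀, fun n hn P => ?_⟩
  obtain ⟨x, hxT, ⟨r, hr, hrp⟩, himg⟩ :=
    hT ⟨P.asIdeal.comap (algebraMap R R[X]), Ideal.comap_isPrime _ _⟩
  rw [Finset.mem_singleton] at hr
  subst hr
  refine fiber_dim_le t a b hΦ x.1 x.2.1 x.2.2.1 x.2.2.2 n ?_ P.asIdeal hrp himg
  intro j'
  by_cases hj : j' ∈ x.1.support
  · have h1 : (x.1.coeff j').natDegree ≤ x.1.support.sup (fun j' => (x.1.coeff j').natDegree) :=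
      Finset.le_sup (f := fun j' => (x.1.coeff j').natDegree) hj
    have h2 : x.1.support.sup (fun j' => (x.1.coeff j').natDegree) ≤
        T.sup (fun x => x.1.support.sup (fun j' => (x.1.coeff j').natDegree)) :=
      Finset.le_sup (f := fun x : ι => x.1.support.sup (fun j' => (x.1.coeff j').natDegree)) hxT
    omega
  · rw [Polynomial.notMem_support_iff.mp hj, natDegree_zero]
    omega

end Groth.Agent.Helper3.NNorm
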