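import Mathlib
import Groth.Prelude
import Groth.Agent.Helper3.WeilH3

set_option autoImplicit false
set_option linter.style.haveILetI false
set_option linter.unusedSectionVars false
set_option linter.unusedVariables false
set_option linter.deprecated false
set_option linter.style.haveILetI false
set_option linter.unusedSectionVars false
set_option linter.unusedVariables false

universe u

open AlgebraicGeometry CategoryTheory CategoryTheory.Limits IsLocalRing

namespace Groth.Agent.Helper3.NerLocA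

/-- the inclusion of the generic point -/
noncomputable abbrev gen (S : Scheme.{u}) [IsIntegral S] :
    Spec (S.presheaf.stalk (genericPoint S)) ⟶ S :=
  S.fromSpecStalk (genericPoint S)

lemma range_gen (S : Scheme.{u}) [IsIntegral S] : Set.range (gen S) = {genericPoint S} := by
  rw [Scheme.range_fromSpecStalk]
  ext x
  simp only [Set.mem_setOf_eq, Set.mem_singleton_iff]
  constructor
  · intro h
    exact (h.antisymm (genericPoint_specializes x)).eq
  · rintro rfl
    exact specializes_rfl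

section pb

variable {S : Scheme.{u}} [IsIntegral S] {Y T : Scheme.{u}} (pY : Y ⟶ S) (j : T ⟶ Y)
  (t : T ⟶ Spec (S.presheaf.stalk (genericPoint S))) (hpb : IsPullback j t pY (gen S))

include hpb in
theorem mem_range_iff (y : Y) : y ∈ Set.range j ↔ pY y = genericPoint S := by
  constructor
  · rintro ⟨τ, rfl⟩
    have h1 : pY (j τ) = gen S (t τ) := by
      rw [← Scheme.Hom.comp_apply, ← Scheme.Hom.comp_apply, hpb.w]
    have h2 : gen S (t τ) ∈ Set.range (gen S) := ⟨_, rfl⟩
    rw [range_gen] at h2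
    rw [h1]
    exact h2
  · intro hy
    have h2 : genericPoint S ∈ Set.range (gen S) := by
      rw [range_gen]; rfl
    obtain ⟨c, hc⟩ := h2
    obtain ⟨z, hz1, -⟩ := Scheme.Pullback.exists_preimage_pullback (f := pY) (g := gen S) y c
      (by rw [hy, hc])
    refine ⟨hpb.isoPullback.inv z, ?_⟩
    have := congrArg (fun g => g.base z) hpb.isoPullback_inv_fst
    simp only [Scheme.Hom.comp_base, TopCat.comp_app] at this
    rw [← hz1]
    exact this

include hpb in
/-- the generic fibre is dense -/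
theorem exists_mem_open [Flat pY] (O : Y.Opens) (hO : (O : Set Y).Nonempty) :
    ∃ τ : T, j τ ∈ O := by
  obtain ⟨y, hy⟩ := hO
  have hgen : GeneralizingMap pY := Flat.generalizingMap pY
  obtain ⟨y', hy', hy'η⟩ := hgen (genericPoint_specializes (pY y))
  have hy'O : y' ∈ O := O.isOpen.stableUnderGeneralization hy' hy
  obtain ⟨τ, hτ⟩ := (mem_range_iff pY j t hpb y').mpr hy'η
  exact ⟨τ, hτ ▸ hy'O⟩

include hpb in
theorem isDominant_of_isPullback [Flat pY] : IsDominant j := by
  constructor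
  rw [DenseRange, dense_iff_inter_open]
  intro O hO hne
  obtain ⟨τ, hτ⟩ := exists_mem_open pY j t hpb ⟨O, hO⟩ hne
  exact ⟨j τ, hτ, τ, rfl⟩

include hpb in
theorem genExt_unique {A : Scheme.{u}} (pA : A ⟶ S) [Flat pY] [IsReduced Y]
    [IsSeparated pA] (u v : Y ⟶ A) (hu : u ≫ pA = pY) (hv : v ≫ pA = pY)
    (h : j ≫ u = j ≫ v) : u = v := by
  haveI : IsDominant j := isDominant_of_isPullback pY j t hpb
  exact ext_of_isDominant_of_isSeparated pA (hu.trans hv.symm) j h

include hpb in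
theorem isPullback_restrict (W : Y.Opens) :
    IsPullback (j ∣_ W) ((j ⁻¹ᵁ W).ι ≫ t) (W.ι ≫ pY) (gen S) :=
  (isPullback_morphismRestrict j W).paste_vert hpb

end pb

open Groth.Agent.Helper3 in
set_option maxHeartbeats 16000000 in
/-- gluing local extensions -/
theorem glue {S : Scheme.{u}} [IsIntegral S] {Y A T : Scheme.{u}}
    (pY : Y ⟶ S) (pA : A ⟶ S) [Flat pY] [IsReduced Y] [IsSeparated pA]
    (j : T ⟶ Y) (t : T ⟶ Spec (S.presheaf.stalk (genericPoint S)))
    (hpb : IsPullback j t pY (gen S))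
    (φ : T ⟶ A) (hφ : φ ≫ pA = j ≫ pY)
    (hloc : ∀ y : Y, ∃ (W : Y.Opens) (_ : y ∈ W) (u : (W : Scheme.{u}) ⟶ A), u ≫ pA = W.ι ≫ pY ∧
      (j ∣_ W) ≫ u = (j ⁻¹ᵁ W).ι ≫ φ) :
    ∃ u : Y ⟶ A, u ≫ pA = pY ∧ j ≫ u = φ := by
  choose W hyW v hv1 hv2 using hloc
  have hcov : TopologicalSpace.IsOpenCover W := by
    rw [TopologicalSpace.IsOpenCover, eq_top_iff]
    intro y _
    exact TopologicalSpace.Opens.mem_iSup.mpr ⟨y, hyW y⟩
  let 𝒰 := Y.openCoverOfIsOpenCover W hcov
  have hag : ∀ y y' : Y, Y.homOfLE (inf_le_left : W y ⊓ W y' ≤ W y) ≫ v y =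
      Y.homOfLE (inf_le_right : W y ⊓ W y' ≤ W y') ≫ v y' := by
    intro y y'
    haveI : Flat ((W y ⊓ W y').ι ≫ pY) := inferInstance
    haveI : IsReduced ((W y ⊓ W y' : Y.Opens) : Scheme.{u}) := inferInstance
    refine genExt_unique ((W y ⊓ W y').ι ≫ pY) (j ∣_ (W y ⊓ W y')) _
      (isPullback_restrict pY j t hpb (W y ⊓ W y')) pA _ _ ?_ ?_ ?_
    · rw [Category.assoc, hv1, Scheme.homOfLE_ι_assoc]
    · rw [Category.assoc, hv1, Scheme.homOfLE_ι_assoc]
    · rw [← Category.assoc, ← Category.assoc, WeilH3.morphismRestrict_homOfLE, WeilH3.morphismRestrict_homOfLE,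
        Category.assoc, Category.assoc, hv2, hv2, Scheme.homOfLE_ι_assoc, Scheme.homOfLE_ι_assoc]
  have hf : ∀ y y' : Y, pullback.fst (𝒰.f y) (𝒰.f y') ≫ v y = pullback.snd _ _ ≫ v y' := by
    intro y y'
    have h0 := (isPullback_opens_inf (W y) (W y'))
    refine (cancel_epi h0.isoPullback.hom).mp ?_
    have e1 : h0.isoPullback.hom ≫ pullback.fst (W y).ι (W y').ι = _ := h0.isoPullback_hom_fst
    have e2 : h0.isoPullback.hom ≫ pullback.snd (W y).ι (W y').ι = _ := h0.isoPullback_hom_snd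
    calc h0.isoPullback.hom ≫ pullback.fst (W y).ι (W y').ι ≫ v y
        = (h0.isoPullback.hom ≫ pullback.fst (W y).ι (W y').ι) ≫ v y := (Category.assoc _ _ _).symm
      _ = Y.homOfLE inf_le_left ≫ v y := by rw [e1]
      _ = Y.homOfLE inf_le_right ≫ v y' := hag y y'
      _ = (h0.isoPullback.hom ≫ pullback.snd (W y).ι (W y').ι) ≫ v y' := by rw [e2]
      _ = _ := Category.assoc _ _ _
  have hu0 : ∀ y, (W y).ι ≫ 𝒰.glueMorphisms v hf = v y := fun y => 𝒰.ι_glueMorphisms v hf y
  have hu1 : 𝒰.glueMorphisms v hf ≫ pA = pY := by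
    apply Scheme.Cover.hom_ext 𝒰
    intro y
    show (W y).ι ≫ _ ≫ pA = (W y).ι ≫ pY
    rw [← Category.assoc, hu0, hv1]
  have hu2 : j ≫ 𝒰.glueMorphisms v hf = φ := by
    have hcovT : TopologicalSpace.IsOpenCover (fun y => j ⁻¹ᵁ (W y)) := by
      rw [TopologicalSpace.IsOpenCover, eq_top_iff]
      intro τ _
      exact TopologicalSpace.Opens.mem_iSup.mpr ⟨j τ, hyW (j τ)⟩
    apply Scheme.Cover.hom_ext (T.openCoverOfIsOpenCover _ hcovT)
    intro y
    show (j ⁻¹ᵁ (W y)).ι ≫ j ≫ _ = (j ⁻¹ᵁ (W y)).ι ≫ φ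
    rw [← Category.assoc, ← morphismRestrict_ι, Category.assoc, hu0, hv2]
  exact ⟨𝒰.glueMorphisms v hf, hu1, hu2⟩

end Groth.Agent.Helper3.NerLocA
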