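import Mathlib
import Groth.Prelude
import Groth.Agent.Helper3.NerLocA
import Groth.Agent.Helper5.LocInt

set_option autoImplicit false
set_option linter.style.haveILetI false
set_option linter.unusedSectionVars false
set_option linter.unusedVariables false
set_option linter.deprecated false
set_option linter.style.haveILetI false
set_option linter.unusedSectionVars false
set_option linter.unusedVariables false

universe u

open AlgebraicGeometry CategoryTheory CategoryTheory.Limits IsLocalRing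

namespace Groth.Agent.Helper3.NerLocB

open Groth.Agent.Helper3.NerLocA

variable {S : Scheme.{u}} [IsIntegral S] {Y A T : Scheme.{u}}
    (pY : Y ⟶ S) (pA : A ⟶ S)
    (j : T ⟶ Y) (t : T ⟶ Spec (S.presheaf.stalk (genericPoint S)))
    (hpb : IsPullback j t pY (gen S))
    (φ : T ⟶ A)

/-- a germ of an extension at `y`, compatible with `φ` -/
def GermExt (y : Y) : Prop :=
  ∃ g : Spec (Y.presheaf.stalk y) ⟶ A, g ≫ pA = Y.fromSpecStalk y ≫ pY ∧
    pullback.fst (Y.fromSpecStalk y) j ≫ g = pullback.snd (Y.fromSpecStalk y) j ≫ φ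

include hpb in
theorem isPreimmersion_j : IsPreimmersion j :=
  MorphismProperty.of_isPullback (P := @IsPreimmersion) hpb.flip inferInstance

set_option maxHeartbeats 16000000 in
include hpb in
theorem local_ext [Flat pY] [IsLocallyNoetherian Y] [IsReduced T]
    (hYd : ∀ y : Y, IsDomain (Y.presheaf.stalk y))
    [LocallyOfFiniteType pA] [IsSeparated pA] (hφ : φ ≫ pA = j ≫ pY)
    (y : Y) (hg : GermExt pY pA j φ y) :
    ∃ (W : Y.Opens) (_ : y ∈ W) (u : (W : Scheme.{u}) ⟶ A), u ≫ pA = W.ι ≫ pY ∧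
      (j ∣_ W) ≫ u = (j ⁻¹ᵁ W).ι ≫ φ := by
  obtain ⟨g, hg1, hg2⟩ := hg
  haveI := isPreimmersion_j pY j t hpb
  obtain ⟨V, hyV, f, hf1, hf2⟩ := spread_out_of_isGermInjective' pY pA g hg1
  -- integral neighbourhood
  obtain ⟨U, hyU, hUint⟩ : ∃ U : Y.Opens, y ∈ U ∧ IsIntegral (U : Scheme.{u}) := by
    obtain ⟨U₀, hU₀, hy, -⟩ := TopologicalSpace.Opens.isBasis_iff_nbhd.mp Y.isBasis_affineOpens
      (show y ∈ (⊤ : Y.Opens) from trivial)
    haveI : IsNoetherianRing Γ(Y, U₀) := IsLocallyNoetherian.component_noetherian ⟨U₀, hU₀⟩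
    haveI : TopologicalSpace.NoetherianSpace ↥U₀ := noetherianSpace_of_isAffineOpen U₀ hU₀
    exact Groth.Agent.Helper5.LocInt.exists_integral_nhd hYd U₀ y hy
  set W : Y.Opens := U ⊓ V with hW
  have hyW : y ∈ W := ⟨hyU, hyV⟩
  haveI : Nonempty ↥(W : Scheme.{u}) := ⟨⟨y, hyW⟩⟩
  haveI : IsIntegral (W : Scheme.{u}) :=
    isIntegral_of_isOpenImmersion (Y.homOfLE (inf_le_left : W ≤ U))
  set u : (W : Scheme.{u}) ⟶ A := Y.homOfLE (inf_le_right : W ≤ V) ≫ f with hu
  have hu1 : u ≫ pA = W.ι ≫ pY := by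
    rw [hu, Category.assoc, hf2, Scheme.homOfLE_ι_assoc]
  have hu2 : W.fromSpecStalkOfMem y hyW ≫ u = g := by
    rw [hu, hf1, ← Category.assoc]
    congr 1
    rw [← cancel_mono V.ι, Category.assoc, Scheme.homOfLE_ι, Scheme.Opens.fromSpecStalkOfMem_ι,
      Scheme.Opens.fromSpecStalkOfMem_ι]
  refine ⟨W, hyW, u, hu1, ?_⟩
  -- agreement on the generic fibre
  set TW : T.Opens := j ⁻¹ᵁ W with hTW
  have hrange : Set.range (pullback.snd (Y.fromSpecStalk y) j) ⊆ Set.range TW.ι := by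
    rintro _ ⟨x, rfl⟩
    rw [Scheme.Opens.range_ι]
    show j (pullback.snd (Y.fromSpecStalk y) j x) ∈ W
    have h1 : j (pullback.snd (Y.fromSpecStalk y) j x) =
        Y.fromSpecStalk y (pullback.fst (Y.fromSpecStalk y) j x) := by
      rw [← Scheme.Hom.comp_apply, ← Scheme.Hom.comp_apply, pullback.condition]
    rw [h1]
    have h2 : Y.fromSpecStalk y (pullback.fst (Y.fromSpecStalk y) j x) ∈
        Set.range (Y.fromSpecStalk y) := ⟨_, rfl⟩
    rw [Scheme.range_fromSpecStalk] at h2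
    exact W.isOpen.stableUnderGeneralization h2 hyW
  set d : pullback (Y.fromSpecStalk y) j ⟶ (TW : Scheme.{u}) :=
    IsOpenImmersion.lift TW.ι (pullback.snd (Y.fromSpecStalk y) j) hrange with hd
  have hdι : d ≫ TW.ι = pullback.snd (Y.fromSpecStalk y) j := IsOpenImmersion.lift_fac _ _ _
  have hdj : d ≫ (j ∣_ W) = pullback.fst (Y.fromSpecStalk y) j ≫ W.fromSpecStalkOfMem y hyW := by
    rw [← cancel_mono W.ι, Category.assoc, morphismRestrict_ι, ← Category.assoc, hdι,
      Category.assoc, Scheme.Opens.fromSpecStalkOfMem_ι, pullback.condition]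
  have heq : d ≫ (j ∣_ W) ≫ u = d ≫ TW.ι ≫ φ := by
    rw [← Category.assoc, hdj, Category.assoc, hu2, hg2, ← Category.assoc, hdι]
  have hover : ((j ∣_ W) ≫ u) ≫ pA = (TW.ι ≫ φ) ≫ pA := by
    rw [Category.assoc, hu1, ← Category.assoc, morphismRestrict_ι, Category.assoc, Category.assoc, hφ]
  haveI : IsDominant d := by
    constructor
    rw [DenseRange, dense_iff_inter_open]
    rintro O hO ⟨w, hw⟩
    -- the generic point of `W`
    set ξ : ↥(W : Scheme.{u}) := genericPoint ↥(W : Scheme.{u}) with hξ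
    have hξη : pY (W.ι ξ) = genericPoint S := by
      haveI : Flat (W.ι ≫ pY) := inferInstance
      obtain ⟨ξ2, hξ2, hξ2η⟩ := (Flat.generalizingMap (W.ι ≫ pY))
        (genericPoint_specializes ((W.ι ≫ pY) ξ))
      have h3 : ξ2 = ξ := (hξ2.antisymm (genericPoint_specializes ξ2)).eq
      rw [h3] at hξ2η
      rw [← Scheme.Hom.comp_apply]
      exact hξ2η
    obtain ⟨ξ', hξ'⟩ := (mem_range_iff pY j t hpb (W.ι ξ)).mpr hξη
    have hξ'W : ξ' ∈ TW := by
      show j ξ' ∈ W
      rw [hξ']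
      exact ξ.2
    -- `ξ' ⤳ w`
    have hjw : j w.1 ∈ W := w.2
    have h4 : W.ι ξ ⤳ j w.1 := by
      have h5 : ξ ⤳ (⟨j w.1, hjw⟩ : ↥(W : Scheme.{u})) := genericPoint_specializes _
      exact h5.map W.ι.continuous
    have h6 : ξ' ⤳ w.1 := by
      rw [← (j.isEmbedding.isInducing).specializes_iff, hξ']
      exact h4
    have h7 : (⟨ξ', hξ'W⟩ : ↥(TW : Scheme.{u})) ⤳ w := (subtype_specializes_iff _ _).mpr h6
    have h8 : (⟨ξ', hξ'W⟩ : ↥(TW : Scheme.{u})) ∈ O := hO.stableUnderGeneralization h7 hw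
    refine ⟨_, h8, ?_⟩
    -- `ξ'` is in the range of `d`
    have h9 : W.ι ξ ∈ Set.range (Y.fromSpecStalk y) := by
      rw [Scheme.range_fromSpecStalk]
      have h10 : ξ ⤳ (⟨y, hyW⟩ : ↥(W : Scheme.{u})) := genericPoint_specializes _
      exact h10.map W.ι.continuous
    obtain ⟨a, ha⟩ := h9
    obtain ⟨x, hx1, hx2⟩ := Scheme.Pullback.exists_preimage_pullback (f := Y.fromSpecStalk y)
      (g := j) a ξ' (by rw [ha, hξ'])
    refine ⟨x, ?_⟩
    apply Subtype.ext
    have h11 : (d x).1 = (d ≫ TW.ι) x := rfl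
    rw [h11, hdι, hx2]
  exact ext_of_isDominant_of_isSeparated pA hover d heq

end Groth.Agent.Helper3.NerLocB
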