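import Mathlib
import Groth.Prelude
import Groth.Agent.Helper3.NerLocB
import Groth.Agent.Helper2.SmoothStalk
import Groth.Agent.Lead.RegLocal
import Groth.Agent.Helper5.RedDesc

set_option autoImplicit false
set_option linter.style.haveILetI false
set_option linter.unusedSectionVars false
set_option linter.unusedVariables false
set_option linter.deprecated false
set_option linter.style.haveILetI false
set_option linter.unusedSectionVars false
set_option linter.unusedVariables false

universe u

open AlgebraicGeometry CategoryTheory CategoryTheory.Limits IsLocalRing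

namespace Groth.Agent.Helper3.NerLocC

open Groth.Agent.Helper3.NerLocA Groth.Agent.Helper3.NerLocB

/-- in an integral scheme of dimension one every point other than the generic point is closed -/
theorem isClosed_singleton_of_ne_genericPoint {S : Scheme.{u}} [IsIntegral S]
    (hdim : topologicalKrullDim S = 1) (p : S) (hp : p ≠ genericPoint S) :
    IsClosed ({p} : Set S) := by
  by_contra hcl
  have h1 : ∃ p' ∈ closure ({p} : Set S), p' ≠ p := by
    by_contra hcon
    push Not at hcon
    apply hcl
    have : closure ({p} : Set S) = {p} := by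
      refine Set.Subset.antisymm (fun x hx => ?_) subset_closure
      exact hcon x hx
    rw [← this]
    exact isClosed_closure
  obtain ⟨p', hp', hne⟩ := h1
  have hpp' : p ⤳ p' := specializes_iff_mem_closure.mpr hp'
  let c0 : TopologicalSpace.IrreducibleCloseds S :=
    ⟨closure {p'}, isIrreducible_singleton.closure, isClosed_closure⟩
  let c1 : TopologicalSpace.IrreducibleCloseds S :=
    ⟨closure {p}, isIrreducible_singleton.closure, isClosed_closure⟩
  let c2 : TopologicalSpace.IrreducibleCloseds S :=
    ⟨Set.univ, (inferInstance : IrreducibleSpace S).isIrreducible_univ, isClosed_univ⟩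
  have h01 : c0 < c1 := by
    refine lt_of_le_of_ne ?_ ?_
    · show closure ({p'} : Set S) ⊆ closure {p}
      exact hpp'.closure_subset
    · intro h
      have h2 : closure ({p'} : Set S) = closure {p} := congrArg (fun c => c.carrier) h
      have h3 : p' ⤳ p := by
        rw [specializes_iff_mem_closure, h2]
        exact subset_closure rfl
      exact hne ((h3.antisymm hpp').eq)
  have h12 : c1 < c2 := by
    refine lt_of_le_of_ne ?_ ?_
    · show closure ({p} : Set S) ⊆ Set.univ
      exact Set.subset_univ _
    · intro h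
      have h2 : closure ({p} : Set S) = Set.univ := congrArg (fun c => c.carrier) h
      have h3 : p ⤳ genericPoint S := by
        rw [specializes_iff_mem_closure, h2]
        trivial
      exact hp ((h3.antisymm (genericPoint_specializes p)).eq)
  let s : LTSeries (TopologicalSpace.IrreducibleCloseds S) :=
    RelSeries.cons (RelSeries.cons (RelSeries.singleton _ c2) c1 h12) c0 h01
  have h5 : (s.length : WithBot ℕ∞) ≤ Order.krullDim (TopologicalSpace.IrreducibleCloseds S) :=
    Order.LTSeries.length_le_krullDim s
  have h6 : s.length = 2 := rfl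
  rw [h6] at h5
  have h7 : Order.krullDim (TopologicalSpace.IrreducibleCloseds S) = 1 := hdim
  rw [h7] at h5
  norm_cast at h5

variable {S : Scheme.{u}} [IsIntegral S] {Y A T : Scheme.{u}}
    (pY : Y ⟶ S) (pA : A ⟶ S)
    (j : T ⟶ Y) (t : T ⟶ Spec (S.presheaf.stalk (genericPoint S)))
    (hpb : IsPullback j t pY (gen S))
    (φ : T ⟶ A)

include hpb in
/-- germs at points of the generic fibre -/
theorem germExt_generic (hφ : φ ≫ pA = j ≫ pY) (y : Y) (hy : pY y = genericPoint S) :
    GermExt pY pA j φ y := by
  haveI := isPreimmersion_j pY j t hpb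
  let l : Spec (Y.presheaf.stalk y) ⟶ T :=
    hpb.lift (Y.fromSpecStalk y)
      (Spec.map (pY.stalkMap y) ≫ Spec.map (S.presheaf.stalkSpecializes (specializes_of_eq hy)))
      (by
        rw [Category.assoc, Scheme.SpecMap_stalkSpecializes_fromSpecStalk,
          Scheme.SpecMap_stalkMap_fromSpecStalk])
  have hl : l ≫ j = Y.fromSpecStalk y := hpb.lift_fst _ _ _
  refine ⟨l ≫ φ, ?_, ?_⟩
  · rw [Category.assoc, hφ, ← Category.assoc, hl]
  · rw [← Category.assoc]
    congr 1
    rw [← cancel_mono j, Category.assoc, hl, pullback.condition]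

/-- the local extension hypothesis at a point `p` of the base -/
def LocExt (p : S) : Prop :=
  ∃ gp : pullback pY (S.fromSpecStalk p) ⟶ A, gp ≫ pA = pullback.fst pY (S.fromSpecStalk p) ≫ pY ∧
    ∀ (D : Scheme.{u}) (a : D ⟶ pullback pY (S.fromSpecStalk p)) (b : D ⟶ T),
      a ≫ pullback.fst pY (S.fromSpecStalk p) = b ≫ j → a ≫ gp = b ≫ φ

theorem germExt_of_locExt (y : Y) (h : LocExt pY pA j φ (pY y)) : GermExt pY pA j φ y := by
  obtain ⟨gp, hgp1, hgp2⟩ := h
  let ι : Spec (Y.presheaf.stalk y) ⟶ pullback pY (S.fromSpecStalk (pY y)) :=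
    pullback.lift (Y.fromSpecStalk y) (Spec.map (pY.stalkMap y))
      (Scheme.SpecMap_stalkMap_fromSpecStalk pY).symm
  have hι : ι ≫ pullback.fst pY (S.fromSpecStalk (pY y)) = Y.fromSpecStalk y :=
    pullback.lift_fst _ _ _
  refine ⟨ι ≫ gp, ?_, ?_⟩
  · rw [Category.assoc, hgp1, ← Category.assoc, hι]
  · rw [← Category.assoc]
    apply hgp2
    rw [Category.assoc, hι, pullback.condition]

include hpb in
/-- **local-to-global** for the Néron mapping property over a Dedekind scheme -/
theorem main [IsLocallyNoetherian S] (hreg : ∀ s : S, IsRegularLocalRing (S.presheaf.stalk s))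
    (hdim : topologicalKrullDim S = 1) [Smooth pY] [LocallyOfFiniteType pA] [IsSeparated pA]
    (hφ : φ ≫ pA = j ≫ pY)
    (hloc : ∀ p : S, IsClosed ({p} : Set S) → LocExt pY pA j φ p) :
    ∃ u : Y ⟶ A, u ≫ pA = pY ∧ j ≫ u = φ := by
  haveI : IsLocallyNoetherian Y := LocallyOfFiniteType.isLocallyNoetherian pY
  have hYd : ∀ y : Y, IsDomain (Y.presheaf.stalk y) := fun y => by
    haveI : IsRegularLocalRing (Y.presheaf.stalk y) :=
      (Groth.Agent.Helper2.SmoothStalk.s4991 pY y ⟨⊤, trivial, inferInstance⟩).mpr (hreg (pY y))
    exact Groth.Agent.Lead.RegLocal.isDomain_of_isRegularLocalRing _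
  haveI : IsReduced Y := Groth.Agent.Helper5.RedDesc.isReduced_of_smooth pY
  haveI : Smooth t := MorphismProperty.of_isPullback (P := @Smooth) hpb inferInstance
  haveI : IsReduced T := Groth.Agent.Helper5.RedDesc.isReduced_of_smooth t
  refine glue pY pA j t hpb φ hφ (fun y => ?_)
  refine local_ext pY pA j t hpb φ hYd hφ y ?_
  by_cases hy : pY y = genericPoint S
  · exact germExt_generic pY pA j t hpb φ hφ y hy
  · exact germExt_of_locExt pY pA j φ y
      (hloc (pY y) (isClosed_singleton_of_ne_genericPoint hdim (pY y) hy))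

end Groth.Agent.Helper3.NerLocC
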