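import Mathlib
import Groth.Prelude
import Groth.Agent.Helper3.NerLocC

set_option autoImplicit false
set_option linter.style.haveILetI false
set_option linter.unusedSectionVars false
set_option linter.unusedVariables false
set_option linter.deprecated false
set_option linter.style.haveILetI false
set_option linter.unusedSectionVars false
set_option linter.unusedVariables false

universe u

open AlgebraicGeometry CategoryTheory CategoryTheory.Limits IsLocalRing

namespace Groth.Agent.Helper3.NerLocD

open Groth.Agent.Helper3.NerLocA Groth.Agent.Helper3.NerLocB Groth.Agent.Helper3.NerLocC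

lemma map_left_fst {X Y : Scheme.{u}} (f : X ⟶ Y) {g h : Over Y} (i : g ⟶ h) :
    ((Over.pullback f).map i).left ≫ pullback.fst h.hom f = pullback.fst g.hom f ≫ i.left :=
  pullback.lift_fst _ _ _

set_option maxHeartbeats 16000000 in
theorem s15942 {S : Scheme.{u}} [IsIntegral S] [IsLocallyNoetherian S]
    (hreg : ∀ s : S, IsRegularLocalRing (S.presheaf.stalk s)) (hdim : topologicalKrullDim S = 1)
    (G : Over S) [Smooth G.hom] [IsSeparated G.hom]
    (hloc : ∀ p : S, IsClosed ({p} : Set S) →
      ∀ Y : Over (Spec (S.presheaf.stalk p)), Smooth Y.hom →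
        Function.Bijective (fun g : Y ⟶ (Over.pullback (S.fromSpecStalk p)).obj G =>
          (Over.pullback (Spec.map (S.presheaf.stalkSpecializes (genericPoint_specializes p)))).map g)) :
    ∀ Y : Over S, Smooth Y.hom →
      Function.Bijective (fun g : Y ⟶ G => (Over.pullback (S.fromSpecStalk (genericPoint S))).map g) := by
  intro Y hY
  haveI : Smooth Y.hom := hY
  set j : pullback Y.hom (gen S) ⟶ Y.left := pullback.fst Y.hom (gen S) with hj
  set t : pullback Y.hom (gen S) ⟶ Spec (S.presheaf.stalk (genericPoint S)) :=
    pullback.snd Y.hom (gen S) with ht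
  have hpb : IsPullback j t Y.hom (gen S) := IsPullback.of_hasPullback _ _
  haveI : IsReduced Y.left := Groth.Agent.Helper5.RedDesc.isReduced_of_smooth Y.hom
  constructor
  · intro g g' h
    have h1 : j ≫ g.left = j ≫ g'.left := by
      have := congrArg (fun f => f.left ≫ pullback.fst G.hom (gen S)) h
      simp only [map_left_fst] at this
      exact this
    have := genExt_unique Y.hom j t hpb G.hom g.left g'.left (Over.w g) (Over.w g') h1
    exact Over.OverMorphism.ext this
  · intro h
    set φ : pullback Y.hom (gen S) ⟶ G.left := h.left ≫ pullback.fst G.hom (gen S) with hφdef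
    have hhw : h.left ≫ pullback.snd G.hom (gen S) = t := Over.w h
    have hφ : φ ≫ G.hom = j ≫ Y.hom := by
      rw [hφdef, Category.assoc, pullback.condition, ← Category.assoc, hhw, hj, ht,
        pullback.condition]
    have hLoc : ∀ p : S, IsClosed ({p} : Set S) → LocExt Y.hom G.hom j φ p := by
      intro p hp
      set fs := S.fromSpecStalk p with hfs
      set ηp : Spec (S.presheaf.stalk (genericPoint S)) ⟶ Spec (S.presheaf.stalk p) :=
        Spec.map (S.presheaf.stalkSpecializes (genericPoint_specializes p)) with hηp
      have hηfs : ηp ≫ fs = gen S := Scheme.SpecMap_stalkSpecializes_fromSpecStalk _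
      let Yp : Over (Spec (S.presheaf.stalk p)) := (Over.pullback fs).obj Y
      let Gp : Over (Spec (S.presheaf.stalk p)) := (Over.pullback fs).obj G
      haveI : Smooth Yp.hom := by
        change Smooth (pullback.snd Y.hom fs)
        infer_instance
      -- the comparison of generic fibres
      let c : pullback (pullback.snd Y.hom fs) ηp ⟶ pullback Y.hom (gen S) :=
        pullback.lift (pullback.fst _ _ ≫ pullback.fst _ _) (pullback.snd _ _) (by
          rw [Category.assoc, pullback.condition, ← Category.assoc, pullback.condition,
            Category.assoc, hηfs])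
      have hcj : c ≫ j = pullback.fst _ _ ≫ pullback.fst _ _ := pullback.lift_fst _ _ _
      have hct : c ≫ t = pullback.snd _ _ := pullback.lift_snd _ _ _
      let l1 : pullback (pullback.snd Y.hom fs) ηp ⟶ pullback G.hom fs :=
        pullback.lift (c ≫ φ) (pullback.fst _ _ ≫ pullback.snd Y.hom fs) (by
          rw [Category.assoc, hφ, ← Category.assoc, hcj, Category.assoc, Category.assoc,
            pullback.condition])
      have hl1 : l1 ≫ pullback.fst G.hom fs = c ≫ φ := pullback.lift_fst _ _ _
      let hhl : pullback (pullback.snd Y.hom fs) ηp ⟶ pullback (pullback.snd G.hom fs) ηp :=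
        pullback.lift l1 (pullback.snd _ _) (by
          rw [pullback.lift_snd, pullback.condition])
      let hh : (Over.pullback ηp).obj Yp ⟶ (Over.pullback ηp).obj Gp :=
        Over.homMk hhl (pullback.lift_snd _ _ _)
      obtain ⟨g, hg⟩ := (hloc p hp Yp inferInstance).2 hh
      have hgw : g.left ≫ pullback.snd G.hom fs = pullback.snd Y.hom fs := Over.w g
      refine ⟨g.left ≫ pullback.fst G.hom fs, ?_, ?_⟩
      · rw [Category.assoc, pullback.condition, ← Category.assoc, hgw, pullback.condition]
      · intro D a b hab
        have hcond : a ≫ pullback.snd Y.hom fs = (b ≫ t) ≫ ηp := by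
          rw [← cancel_mono fs, Category.assoc, ← pullback.condition, ← Category.assoc, hab,
            Category.assoc, Category.assoc, Category.assoc, hηfs, hpb.w]
        let l : D ⟶ pullback (pullback.snd Y.hom fs) ηp := pullback.lift a (b ≫ t) hcond
        have hla : l ≫ pullback.fst _ _ = a := pullback.lift_fst _ _ _
        have hlc : l ≫ c = b := by
          apply hpb.hom_ext
          · rw [Category.assoc, hcj, ← Category.assoc, hla, hab]
          · rw [Category.assoc, hct, pullback.lift_snd]
        have hkey : pullback.fst (pullback.snd Y.hom fs) ηp ≫ g.left ≫ pullback.fst G.hom fs =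
            c ≫ φ := by
          have h3 : ((Over.pullback ηp).map g).left = hhl := congrArg (fun f => f.left) hg
          have h4 : ((Over.pullback ηp).map g).left ≫ pullback.fst (pullback.snd G.hom fs) ηp =
              pullback.fst (pullback.snd Y.hom fs) ηp ≫ g.left := map_left_fst ηp g
          rw [← Category.assoc, ← h4, h3, Category.assoc]
          show pullback.lift l1 _ _ ≫ pullback.fst (pullback.snd G.hom fs) ηp ≫ _ = _
          rw [← Category.assoc, pullback.lift_fst, hl1]
        rw [← hla, Category.assoc, hkey, ← Category.assoc, hlc]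
    obtain ⟨u, hu1, hu2⟩ := main Y.hom G.hom j t hpb φ hreg hdim hφ hLoc
    · refine ⟨Over.homMk u hu1, ?_⟩
      apply Over.OverMorphism.ext
      apply pullback.hom_ext
      · rw [map_left_fst]
        exact hu2
      · have h2 : ((Over.pullback (gen S)).map (Over.homMk u hu1 : Y ⟶ G)).left ≫
            pullback.snd G.hom (gen S) = t := Over.w ((Over.pullback (gen S)).map (Over.homMk u hu1 : Y ⟶ G))
        rw [h2, hhw]

end Groth.Agent.Helper3.NerLocD
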