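import Mathlib
import Groth.Prelude
import Groth.Agent.Helper3.CompGrpA

set_option autoImplicit false
set_option linter.style.haveILetI false
set_option linter.unusedSectionVars false
set_option linter.unusedVariables false
set_option linter.deprecated false
set_option linter.style.haveILetI false
set_option linter.unusedSectionVars false
set_option linter.unusedVariables false

universe u

open AlgebraicGeometry CategoryTheory Limits MonoidalCategory CartesianMonoidalCategory MonObj GrpObj
  IsLocalRing

namespace Groth.Agent.Helper3.NerPowB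

variable (R : Type u) [CommRing R] [HenselianLocalRing R] [IsSepClosed (ResidueField R)]

/-- over a strictly henselian local ring, a smooth scheme has a section through any open meeting
the closed fibre -/
theorem exists_section_mem {Y : Scheme.{u}} (f : Y ⟶ Spec (CommRingCat.of R)) [Smooth f]
    (V : Y.Opens) (y₀ : Y) (hy₀ : y₀ ∈ V) (hf : f y₀ = closedPoint R) :
    ∃ u : Spec (CommRingCat.of R) ⟶ Y, u ≫ f = 𝟙 _ ∧ u (closedPoint R) ∈ V := by
  let q : Spec (CommRingCat.of (ResidueField R)) ⟶ Spec (CommRingCat.of R) :=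
    Spec.map (CommRingCat.ofHom (residue R))
  have hq : q (closedPoint (ResidueField R)) = closedPoint R := by
    haveI : IsLocalHom (CommRingCat.ofHom (residue R)).hom :=
      inferInstanceAs (IsLocalHom (residue R))
    exact Spec_closedPoint (f := CommRingCat.ofHom (residue R))
  let Ok : (pullback f q).Opens := (pullback.fst f q) ⁻¹ᵁ V
  have hne : (Ok : Set ↥(pullback f q)).Nonempty := by
    obtain ⟨w, hw1, hw2⟩ := Scheme.Pullback.exists_preimage_pullback (f := f) (g := q) y₀
      (closedPoint (ResidueField R)) (by rw [hq]; exact hf)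
    refine ⟨w, ?_⟩
    show pullback.fst f q w ∈ V
    rw [hw1]
    exact hy₀
  haveI : Smooth (pullback.snd f q) := inferInstance
  haveI := Groth.Agent.Helper2.SmoothRegSch.geometricallyReduced_of_smooth (ResidueField R) _
    (pullback.snd f q)
  obtain ⟨y, hy1', hy2'⟩ := Groth.Agent.Helper3.SepClosedEq.exists_point_mem (ResidueField R)
    (ResidueField R) (pullback.snd f q) Ok hne
  have hid : Spec.map (CommRingCat.ofHom (algebraMap (ResidueField R) (ResidueField R))) =
      𝟙 (Spec (CommRingCat.of (ResidueField R))) := by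
    rw [← Spec.map_id]
    rfl
  rw [hid] at hy1'
  let u₀ : Spec (CommRingCat.of (ResidueField R)) ⟶ Y := y ≫ pullback.fst f q
  have h₀ : u₀ ≫ f = Spec.map (CommRingCat.ofHom (residue R)) := by
    show (y ≫ pullback.fst f q) ≫ f = q
    rw [Category.assoc, pullback.condition, ← Category.assoc, hy1', Category.id_comp]
  obtain ⟨u, hu1, hu2⟩ := Groth.Agent.Helper3.SmoothLift.exists_section R f u₀ h₀
  refine ⟨u, hu1, ?_⟩
  have h1 : u (closedPoint R) = u₀ (closedPoint (ResidueField R)) := by
    rw [← hu2, Scheme.Hom.comp_apply, hq]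
  rw [h1]
  exact hy2'

variable (N : Over (Spec (CommRingCat.of R)))

/-- sections of a smooth scheme are dense in the closed fibre -/
theorem exists_sec_mem [Smooth N.hom] (V : N.left.Opens) (a : N.left) (haV : a ∈ V)
    (ha : N.hom a = closedPoint R) :
    ∃ w : 𝟙_ (Over (Spec (CommRingCat.of R))) ⟶ N, w.left (closedPoint R) ∈ V := by
  obtain ⟨u, hu1, hu2⟩ := exists_section_mem R N.hom V a haV ha
  exact ⟨Over.homMk u hu1, hu2⟩

/-- Hensel lifting along an étale endomorphism: a point `a` over the closed point with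
`P a = z(s₀)` lying in an open `O` gives a section `w` with `P ∘ w = z` and `w(s₀) ∈ O`. -/
theorem exists_section_of_etale (P : N ⟶ N) [Etale P.left]
    (z : 𝟙_ (Over (Spec (CommRingCat.of R))) ⟶ N) (O : N.left.Opens) (a : N.left) (haO : a ∈ O)
    (ha : P.left a = z.left (closedPoint R)) :
    ∃ w : 𝟙_ (Over (Spec (CommRingCat.of R))) ⟶ N, w ≫ P = z ∧ w.left (closedPoint R) ∈ O := by
  let zl : Spec (CommRingCat.of R) ⟶ N.left := z.left
  have hzl : zl ≫ N.hom = 𝟙 _ := Over.w z
  let p₁ : pullback P.left zl ⟶ N.left := pullback.fst _ _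
  let p₂ : pullback P.left zl ⟶ Spec (CommRingCat.of R) := pullback.snd _ _
  haveI : Etale p₂ := inferInstanceAs (Etale (pullback.snd P.left zl))
  haveI : Smooth p₂ := inferInstance
  obtain ⟨y₀, hy1, hy2⟩ := Scheme.Pullback.exists_preimage_pullback (f := P.left) (g := zl) a
    (closedPoint R) ha
  obtain ⟨u, hu1, hu2⟩ := exists_section_mem R p₂ (p₁ ⁻¹ᵁ O) y₀
    (by show p₁ y₀ ∈ O; rw [hy1]; exact haO) hy2
  have hcond : p₁ ≫ P.left = p₂ ≫ zl := pullback.condition
  have hw : (u ≫ p₁) ≫ N.hom = 𝟙 _ := by
    have h1 : P.left ≫ N.hom = N.hom := Over.w P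
    rw [Category.assoc, ← h1, ← Category.assoc p₁, hcond, Category.assoc, hzl, Category.comp_id, hu1]
  let w : 𝟙_ (Over (Spec (CommRingCat.of R))) ⟶ N := Over.homMk (u ≫ p₁) hw
  refine ⟨w, ?_, ?_⟩
  · apply Over.OverMorphism.ext
    show (u ≫ p₁) ≫ P.left = zl
    rw [Category.assoc, hcond, ← Category.assoc, hu1, Category.id_comp]
  · show (u ≫ p₁) (closedPoint R) ∈ O
    rw [Scheme.Hom.comp_apply]
    exact hu2

end Groth.Agent.Helper3.NerPowB
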