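import Mathlib
import Groth.Prelude
import Groth.Agent.Helper3.CompGrpA
import Groth.Agent.Helper3.BcHom
import Groth.Agent.Helper2.HS6

set_option autoImplicit false
set_option linter.style.haveILetI false
set_option linter.unusedSectionVars false
set_option linter.unusedVariables false
set_option linter.deprecated false
set_option linter.style.haveILetI false
set_option linter.unusedSectionVars false
set_option linter.unusedVariables false

universe u

open AlgebraicGeometry CategoryTheory Limits MonoidalCategory CartesianMonoidalCategory MonObj GrpObj
  IsLocalRing

namespace Groth.Agent.Helper3.NerPowC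

variable (R : Type u) [CommRing R] [IsLocalRing R]
variable (N : Over (Spec (CommRingCat.of R))) [GrpObj N]

/-- the unit component of the special fibre of a group scheme over a local ring is irreducible -/
theorem isPreirreducible_unitComp :
    IsPreirreducible (connectedComponentIn (SGA7.specialFibreSet R N)
      (η[N].left (closedPoint R))) := by
  let q : Spec (CommRingCat.of (ResidueField R)) ⟶ Spec (CommRingCat.of R) :=
    Spec.map (CommRingCat.ofHom (residue R))
  have hq : q (closedPoint (ResidueField R)) = closedPoint R := by
    haveI : IsLocalHom (CommRingCat.ofHom (residue R)).hom :=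
      inferInstanceAs (IsLocalHom (residue R))
    exact Spec_closedPoint (f := CommRingCat.ofHom (residue R))
  haveI : IsClosedImmersion q :=
    IsClosedImmersion.spec_of_surjective _ (residue_surjective (R := R))
  let Nκ : Over (Spec (CommRingCat.of (ResidueField R))) := (Over.pullback q).obj N
  let jκ : Nκ.left ⟶ N.left := pullback.fst N.hom q
  haveI : IsClosedImmersion jκ := inferInstanceAs (IsClosedImmersion (pullback.fst N.hom q))
  let pt : ↥(𝟙_ (Over (Spec (CommRingCat.of (ResidueField R))))).left :=
    closedPoint (ResidueField R)
  set e₀ := η[N].left (closedPoint R) with he₀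
  set eκ := η[Nκ].left pt with heκ
  have hjκe : jκ eκ = e₀ := by
    have h1 := Groth.Agent.Helper3.BcHom.unit_fst q N
    have h2 := congrArg (fun f => f pt) h1
    simp only [Scheme.Hom.comp_apply] at h2
    rw [he₀, ← hq]
    exact h2
  have hrange : Set.range jκ = SGA7.specialFibreSet R N := by
    rw [Scheme.Pullback.range_fst]
    have h1 : Set.range q = {closedPoint R} := by
      ext s
      constructor
      · rintro ⟨p, rfl⟩
        have : p = closedPoint (ResidueField R) := Subsingleton.elim _ _
        rw [this, hq]
        exact Set.mem_singleton _
      · intro hs
        exact ⟨closedPoint (ResidueField R), by rw [hq]; exact (Set.mem_singleton_iff.mp hs).symm⟩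
    rw [h1]
    rfl
  have he₀F : e₀ ∈ SGA7.specialFibreSet R N := Groth.Agent.Helper3.CompGrpA.sec_mem R N η[N]
  -- the unit component of the fibre is irreducible
  have hirr : IsIrreducible (connectedComponent eκ) := by
    rw [Groth.Agent.Helper2.HS6.connectedComponent_eq Nκ (irreducibleComponent eκ)
      (irreducibleComponent_mem_irreducibleComponents _) pt mem_irreducibleComponent]
    exact isIrreducible_irreducibleComponent
  have heq : connectedComponentIn (SGA7.specialFibreSet R N) e₀ = jκ '' connectedComponent eκ := by
    apply Set.Subset.antisymm
    · set C := connectedComponentIn (SGA7.specialFibreSet R N) e₀ with hC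
      have hCF : C ⊆ Set.range jκ := by
        rw [hrange]
        exact connectedComponentIn_subset _ _
      have h1 : jκ '' (jκ ⁻¹' C) = C := by
        rw [Set.image_preimage_eq_inter_range, Set.inter_eq_left]
        exact hCF
      have h2 : _root_.IsPreconnected (jκ ⁻¹' C) := by
        rw [← jκ.isClosedEmbedding.isInducing.isPreconnected_image, h1]
        exact isPreconnected_connectedComponentIn
      have h3 : eκ ∈ jκ ⁻¹' C := by
        show jκ eκ ∈ C
        rw [hjκe]
        exact mem_connectedComponentIn he₀F
      have h4 := h2.subset_connectedComponent h3
      rw [← h1]
      exact Set.image_mono h4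
    · apply _root_.IsPreconnected.subset_connectedComponentIn
      · exact (isPreconnected_connectedComponent).image _ jκ.continuous.continuousOn
      · exact ⟨eκ, mem_connectedComponent, hjκe⟩
      · rw [← hrange]
        exact Set.image_subset_range _ _
  rw [heq]
  exact hirr.isPreirreducible.image _ jκ.continuous.continuousOn

end Groth.Agent.Helper3.NerPowC
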