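import Mathlib
import Groth.Prelude
import Groth.Agent.Helper3.NerPowA
import Groth.Agent.Helper3.NerPowB
import Groth.Agent.Helper3.NerPowC

set_option autoImplicit false
set_option linter.style.haveILetI false
set_option linter.unusedSectionVars false
set_option linter.unusedVariables false
set_option linter.deprecated false
set_option linter.style.haveILetI false
set_option linter.unusedSectionVars false
set_option linter.unusedVariables false

universe u

open AlgebraicGeometry CategoryTheory Limits MonoidalCategory CartesianMonoidalCategory MonObj GrpObj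
  IsLocalRing

namespace Groth.Agent.Helper3.NerPowD

open Groth.Agent.Helper3.CompGrpA

section div

variable (R : Type u) [CommRing R] [HenselianLocalRing R] [IsSepClosed (ResidueField R)]
variable (N : Over (Spec (CommRingCat.of R))) [GrpObj N] [IsCommMonObj N] [Smooth N.hom]
  [TopologicalSpace.NoetherianSpace N.left]

/-- the sections through the unit component form an `n`-divisible group when `[n]` is étale -/
theorem exists_pow_eq (n : ℕ) (hEt : Etale ((𝟙 N : N ⟶ N) ^ n).left)
    (g : 𝟙_ (Over (Spec (CommRingCat.of R))) ⟶ N) (hg : g ∈ SGA7.secUnitComp R N) :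
    ∃ w ∈ SGA7.secUnitComp R N, w ^ n = g := by
  set P : N ⟶ N := (𝟙 N : N ⟶ N) ^ n with hP
  haveI : Etale P.left := hEt
  set F := SGA7.specialFibreSet R N with hF
  set e₀ := η[N].left (closedPoint R) with he₀
  have he₀F : e₀ ∈ F := sec_mem R N η[N]
  obtain ⟨O, hO, hOF⟩ := NoethConn.exists_isOpen_inter_eq_connectedComponentIn F e₀ he₀F
  have hirr := Groth.Agent.Helper3.NerPowC.isPreirreducible_unitComp R N
  rw [← he₀, ← hOF] at hirr
  have he₀O : e₀ ∈ O := by
    have : e₀ ∈ O ∩ F := by rw [hOF]; exact mem_connectedComponentIn he₀F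
    exact this.1
  -- membership in the unit component
  have hmem : ∀ w : 𝟙_ (Over (Spec (CommRingCat.of R))) ⟶ N,
      w.left (closedPoint R) ∈ O → w ∈ SGA7.secUnitComp R N := by
    intro w hw
    show w.left (closedPoint R) ∈ connectedComponentIn F e₀
    rw [← hOF]
    exact ⟨hw, sec_mem R N w⟩
  have hU : IsOpen (P.left '' O) := P.left.isOpenMap _ hO
  have hPF : ∀ a : N.left, P.left a ∈ F → a ∈ F := by
    intro a ha
    show N.hom a = closedPoint R
    have h1 : P.left ≫ N.hom = N.hom := Over.w P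
    rw [← h1, Scheme.Hom.comp_apply]
    exact ha
  have hpow : ∀ w : 𝟙_ (Over (Spec (CommRingCat.of R))) ⟶ N, w ≫ P = w ^ n := by
    intro w
    rw [hP, MonObj.comp_pow, Category.comp_id]
  have hPe : P.left e₀ = e₀ := by
    have h1 : η[N] ≫ P = η[N] := by
      rw [hpow, ← one_eq, one_pow]
    rw [he₀, ← Scheme.Hom.comp_apply, ← Over.comp_left, h1]
  -- key claim
  have key : ∀ h : 𝟙_ (Over (Spec (CommRingCat.of R))) ⟶ N,
      h.left (closedPoint R) ∈ P.left '' O → ∃ w ∈ SGA7.secUnitComp R N, w ^ n = h := by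
    rintro h ⟨a, haO, ha⟩
    obtain ⟨w, hw1, hw2⟩ := Groth.Agent.Helper3.NerPowB.exists_section_of_etale R N P h ⟨O, hO⟩ a
      haO ha
    exact ⟨w, hmem w hw2, by rw [← hpow, hw1]⟩
  have hpt : ∀ (x g : 𝟙_ (Over (Spec (CommRingCat.of R))) ⟶ N),
      (Rt g).left (x.left (closedPoint R)) = (x * g).left (closedPoint R) := by
    intro x g
    rw [← point_comp_Rt, Over.comp_left, Scheme.Hom.comp_apply]
  have hgC : g.left (closedPoint R) ∈ O ∩ F := by
    rw [hOF]
    exact hg
  -- the two open subsets meet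
  have hV : IsOpen ((Rt g⁻¹).left ⁻¹' (P.left '' O)) := hU.preimage (Rt g⁻¹).left.continuous
  obtain ⟨a, haC, haU, haV⟩ := hirr (P.left '' O) ((Rt g⁻¹).left ⁻¹' (P.left '' O)) hU hV
    ⟨e₀, ⟨he₀O, he₀F⟩, ⟨e₀, he₀O, hPe⟩⟩
    ⟨g.left (closedPoint R), hgC, by
      show (Rt g⁻¹).left (g.left (closedPoint R)) ∈ P.left '' O
      rw [hpt, mul_inv_cancel, one_eq]
      exact ⟨e₀, he₀O, hPe⟩⟩
  obtain ⟨h, hh⟩ := Groth.Agent.Helper3.NerPowB.exists_sec_mem R N
    ⟨(P.left '' O) ∩ ((Rt g⁻¹).left ⁻¹' (P.left '' O)), hU.inter hV⟩ a ⟨haU, haV⟩ haC.2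
  obtain ⟨w₁, hw₁, hw₁n⟩ := key h hh.1
  obtain ⟨w₂, hw₂, hw₂n⟩ := key (h * g⁻¹) (by rw [← hpt]; exact hh.2)
  refine ⟨w₁ * w₂⁻¹, ?_, ?_⟩
  · rw [← secComp_eq_iff_mul_inv]
    show connectedComponentIn F _ = connectedComponentIn F _
    rw [← connectedComponentIn_eq hw₁, ← connectedComponentIn_eq hw₂]
  · rw [mul_pow, inv_pow, hw₁n, hw₂n, _root_.mul_inv_rev, _root_.inv_inv, _root_.mul_comm g, ← _root_.mul_assoc,
      _root_.mul_inv_cancel, _root_.one_mul]

end div


/-- the `n`-torsion of the component group of a Néron model lifts to `n`-torsion sections -/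
theorem main (R K : Type u) [CommRing R] [IsDomain R] [IsDiscreteValuationRing R]
    [HenselianLocalRing R] [IsSepClosed (IsLocalRing.ResidueField R)] [Field K] [Algebra R K]
    [IsFractionRing R K]
    (N : Over (Spec (CommRingCat.of R))) [GrpObj N] (hN : SGA7.IsNeron R K N)
    [IsProper ((SGA7.genFib R K).obj N).hom] [GeometricallyIntegral ((SGA7.genFib R K).obj N).hom]
    (n : ℕ) (hn : (n : IsLocalRing.ResidueField R) ≠ 0)
    (x : 𝟙_ (Over (Spec (CommRingCat.of R))) ⟶ N) (hx : x ^ n ∈ SGA7.secUnitComp R N) :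
    ∃ y : 𝟙_ (Over (Spec (CommRingCat.of R))) ⟶ N, y ^ n = 1 ∧ x * y⁻¹ ∈ SGA7.secUnitComp R N := by
  haveI : Smooth N.hom := hN.1
  haveI : QuasiCompact N.hom := hN.2.2.1
  haveI : IsLocallyNoetherian N.left := LocallyOfFiniteType.isLocallyNoetherian N.hom
  haveI : CompactSpace N.left := QuasiCompact.compactSpace_of_compactSpace N.hom
  haveI : IsNoetherian N.left := ⟨⟩
  haveI : TopologicalSpace.NoetherianSpace N.left := inferInstance
  haveI : IsCommMonObj ((SGA7.genFib R K).obj N) :=
    isCommMonObj_of_isProper_of_geometricallyIntegral _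
  haveI : IsCommMonObj N := Groth.Agent.Helper3.NerPowA.isCommMonObj_of_isNeron (K := K) N hN
  have hnU : IsUnit (n : R) := by
    by_contra h
    apply hn
    have : ((n : ℕ) : R) ∈ maximalIdeal R := (mem_maximalIdeal _).mpr h
    rw [← residue_eq_zero_iff] at this
    rw [← this, map_natCast]
  have hEt := Groth.Agent.Helper3.NerPowA.etale_pow N n hnU
  obtain ⟨w, hw, hwn⟩ := exists_pow_eq R N n hEt (x ^ n) hx
  refine ⟨x * w⁻¹, ?_, ?_⟩
  · rw [mul_pow, inv_pow, hwn, _root_.mul_inv_cancel]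
  · rw [_root_.mul_inv_rev, _root_.inv_inv, _root_.mul_comm w, ← _root_.mul_assoc,
      _root_.mul_inv_cancel, _root_.one_mul]
    exact hw

end Groth.Agent.Helper3.NerPowD
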