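import Mathlib
import Groth.Prelude
import Groth.Agent.Helper8.NeronTors

set_option autoImplicit false
set_option linter.style.haveILetI false
set_option linter.unusedSectionVars false
set_option linter.unusedVariables false
set_option linter.deprecated false
set_option linter.style.haveILetI false
set_option linter.unusedSectionVars false
set_option linter.unusedVariables false

universe u

open CategoryTheory CategoryTheory.Limits MonoidalCategory CartesianMonoidalCategory MonObj
  AlgebraicGeometry

namespace Groth.Agent.Helper3.NeronGrpA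

/-- smooth objects of `Over S` -/
def smoothP (S : Scheme.{u}) : ObjectProperty (Over S) := fun Y => Smooth Y.hom

theorem smoothP_iff {S : Scheme.{u}} (Y : Over S) : smoothP S Y ↔ Smooth Y.hom := Iff.rfl

instance closedIso (S : Scheme.{u}) : (smoothP S).IsClosedUnderIsomorphisms where
  of_iso {X Y} e hX := by
    change Smooth Y.hom
    have h : Y.hom = e.inv.left ≫ X.hom := (Over.w e.inv).symm
    rw [h]
    haveI : Smooth X.hom := hX
    infer_instance

instance closedTerminal (S : Scheme.{u}) :
    (smoothP S).IsClosedUnderLimitsOfShape (Discrete PEmpty.{1}) where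
  limitsOfShape_le := by
    rintro X ⟨p⟩
    have hX : IsTerminal X :=
      (IsLimit.equivOfNatIsoOfIso p.diag.uniqueFromEmpty _ _
        (by exact Cone.ext (Iso.refl _) (by rintro ⟨⟨⟩⟩))).1 p.isLimit
    let e : X ≅ 𝟙_ (Over S) := IsLimit.conePointUniqueUpToIso hX isTerminalTensorUnit
    refine (smoothP S).prop_of_iso e.symm ?_
    change Smooth (𝟙_ (Over S)).hom
    rw [Over.tensorUnit_hom]
    exact (inferInstance : Smooth (𝟙 S))

instance closedBinary (S : Scheme.{u}) :
    (smoothP S).IsClosedUnderLimitsOfShape (Discrete WalkingPair) where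
  limitsOfShape_le := by
    rintro X ⟨p⟩
    let A := p.diag.obj ⟨WalkingPair.left⟩
    let B := p.diag.obj ⟨WalkingPair.right⟩
    have hA : Smooth A.hom := p.prop_diag_obj ⟨WalkingPair.left⟩
    have hB : Smooth B.hom := p.prop_diag_obj ⟨WalkingPair.right⟩
    let e : X ≅ A ⊗ B :=
      IsLimit.conePointsIsoOfNatIso p.isLimit (tensorProductIsBinaryProduct A B)
        (diagramIsoPair p.diag)
    refine (smoothP S).prop_of_iso e.symm ?_
    change Smooth (A ⊗ B).hom
    rw [Over.tensorObj_hom]
    infer_instance

end Groth.Agent.Helper3.NeronGrpA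

namespace Groth.Agent.Helper3.NeronGrpA

variable (R : Type u) [CommRing R] [IsDomain R]

/-- category of smooth `Spec R`-schemes -/
abbrev Sm := (smoothP (Spec (CommRingCat.of R))).FullSubcategory

/-- the presheaf of groups `Y ↦ Hom_K(Y_K, A)` on smooth `R`-schemes -/
noncomputable def ptsFunctor (A : Over (Spec (CommRingCat.of (FractionRing R)))) [GrpObj A] :
    (Sm R)ᵒᵖ ⥤ GrpCat.{u} :=
  ((smoothP (Spec (CommRingCat.of R))).ι ⋙ Neron.genericFibre R).op ⋙ yonedaGrpObj A

/-- the Néron mapping property says that `N` represents `ptsFunctor` -/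
noncomputable def repr (A : Over (Spec (CommRingCat.of (FractionRing R)))) [GrpObj A]
    (N : Over (Spec (CommRingCat.of R))) (e : (Neron.genericFibre R).obj N ≅ A)
    (hN : Neron.IsNeronModelOf R N A e) :
    (ptsFunctor R A ⋙ forget _).RepresentableBy (⟨N, hN.1⟩ : Sm R) where
  homEquiv {X} := ((smoothP (Spec (CommRingCat.of R))).fullyFaithfulι.homEquiv).trans
    (Equiv.ofBijective _ (hN.2.2.2.2 X.obj X.property))
  homEquiv_comp {X X'} f g := by
    change (Neron.genericFibre R).map (f ≫ g).hom ≫ e.hom =
      (Neron.genericFibre R).map f.hom ≫ ((Neron.genericFibre R).map g.hom ≫ e.hom)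
    rw [← Category.assoc, ← Functor.map_comp]
    rfl

end Groth.Agent.Helper3.NeronGrpA

namespace Groth.Agent.Helper3.NeronGrpA

section transfer

variable {C : Type*} [Category C] [CartesianMonoidalCategory C] (P : ObjectProperty C)
  [P.IsClosedUnderLimitsOfShape (Discrete PEmpty.{1})]
  [P.IsClosedUnderLimitsOfShape (Discrete WalkingPair)]

/-- a group object of the full subcategory of a product-closed property is a group object of the
ambient category -/
@[reducible] def grpObjOfSub (X : P.FullSubcategory) [GrpObj X] : GrpObj X.obj where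
  one := (η[X]).hom
  mul := (μ[X]).hom
  one_mul := by
    have := congrArg (fun t => t.hom) (MonObj.one_mul X)
    exact this
  mul_one := by
    have := congrArg (fun t => t.hom) (MonObj.mul_one X)
    exact this
  mul_assoc := by
    have := congrArg (fun t => t.hom) (MonObj.mul_assoc X)
    exact this
  inv := (ι[X]).hom
  left_inv := by
    have := congrArg (fun t => t.hom) (GrpObj.left_inv X)
    exact this
  right_inv := by
    have := congrArg (fun t => t.hom) (GrpObj.right_inv X)
    exact this

end transfer

end Groth.Agent.Helper3.NeronGrpA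

namespace Groth.Agent.Helper3.NeronGrpA

variable (R : Type u) [CommRing R] [IsDomain R]

/-- **The Néron model of a group scheme is a group scheme** (group structure transported through the
Néron mapping property). -/
@[reducible] noncomputable def grpObj (A : Over (Spec (CommRingCat.of (FractionRing R)))) [GrpObj A]
    (N : Over (Spec (CommRingCat.of R))) (e : (Neron.genericFibre R).obj N ≅ A)
    (hN : Neron.IsNeronModelOf R N A e) : GrpObj N :=
  letI : GrpObj (⟨N, hN.1⟩ : Sm R) :=
    GrpObj.ofRepresentableBy (⟨N, hN.1⟩ : Sm R) (ptsFunctor R A) (repr R A N e hN)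
  grpObjOfSub (smoothP (Spec (CommRingCat.of R))) (⟨N, hN.1⟩ : Sm R)

end Groth.Agent.Helper3.NeronGrpA
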