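import Mathlib
import Groth.Agent.Helper2.FiberSmooth2
import Groth.Agent.Helper3.GenSmDense

set_option linter.style.haveILetI false
set_option linter.unusedSectionVars false
set_option linter.unusedVariables false
set_option linter.style.haveILetI false
set_option linter.unusedSectionVars false
set_option linter.unusedVariables false

open AlgebraicGeometry CategoryTheory CategoryTheory.Limits

namespace Groth.Agent.Helper3.SmFibOpen

universe u

/-- for flat lfp `f`: the fibre over `y` is smooth iff all points over `y` are smooth points. -/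
theorem smooth_fiber_iff {X Y : Scheme.{u}} (f : X ⟶ Y) [Flat f]
    [LocallyOfFinitePresentation f] (y : Y) :
    Smooth (f.fiberToSpecResidueField y) ↔ ∀ x : X, f x = y → x ∈ f.smoothLocus := by
  constructor
  · intro hsm x hx
    subst hx
    rw [Groth.Agent.Helper2.FiberSmooth2.mem_smoothLocus_iff_flat_and_fiber]
    refine ⟨(Flat.iff_flat_stalkMap f).mp inferInstance x, ?_⟩
    rw [Scheme.Hom.smoothLocus_eq_top]
    trivial
  · intro h
    rw [← Scheme.Hom.smoothLocus_eq_top_iff]
    rw [eq_top_iff]
    intro z _
    obtain ⟨x, hx, hzx⟩ : ∃ x, f x = y ∧ f.fiberι y z = x := by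
      refine ⟨f.fiberι y z, ?_, rfl⟩
      have : f.fiberι y z ∈ Set.range (f.fiberι y) := ⟨z, rfl⟩
      rw [f.range_fiberι] at this
      exact this
    subst hx
    have hz : z = f.asFiber x := by
      apply (f.fiberι (f x)).isEmbedding.injective
      rw [hzx, f.fiberι_asFiber]
    rw [hz]
    exact ((Groth.Agent.Helper2.FiberSmooth2.mem_smoothLocus_iff_flat_and_fiber f x).mp
      (h x rfl)).2

theorem main {X Y : Scheme.{u}} (f : X ⟶ Y) [IsProper f] [Flat f]
    [LocallyOfFinitePresentation f] :
    IsOpen {y : Y | Smooth (f.fiberToSpecResidueField y)} := by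
  have hZ : IsClosed ((f.smoothLocus : Set X)ᶜ) := f.smoothLocus.isOpen.isClosed_compl
  have hcl : IsClosed (f '' ((f.smoothLocus : Set X)ᶜ)) := f.isClosedMap _ hZ
  have : {y : Y | Smooth (f.fiberToSpecResidueField y)} = (f '' ((f.smoothLocus : Set X)ᶜ))ᶜ := by
    ext y
    rw [Set.mem_setOf_eq, smooth_fiber_iff, Set.mem_compl_iff, Set.mem_image]
    constructor
    · rintro h ⟨x, hx, hxy⟩
      exact hx (h x hxy)
    · intro h x hxy
      by_contra hx
      exact h ⟨x, hx, hxy⟩
  rw [this]
  exact hcl.isOpen_compl

end Groth.Agent.Helper3.SmFibOpen
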