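import Mathlib
import Groth.Prelude
import Groth.Agent.Helper3.NeronGrpA
import Groth.Agent.Helper9.NeronClosed
import Groth.Agent.Helper3.LocPropR
import Groth.Agent.Helper3.FibTr
import Groth.Agent.Lead.PropDvr

set_option autoImplicit false
set_option linter.style.haveILetI false
set_option linter.unusedSectionVars false
set_option linter.unusedVariables false
set_option linter.deprecated false
set_option linter.style.haveILetI false
set_option linter.unusedSectionVars false
set_option linter.unusedVariables false

universe u

open CategoryTheory CategoryTheory.Limits MonoidalCategory CartesianMonoidalCategory MonObj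
  AlgebraicGeometry

namespace Groth.Agent.Helper3.NeronGrpB

variable (R : Type u) [CommRing R] [IsDomain R]

/-- a proper smooth model maps onto the Néron model, which is therefore proper -/
theorem forward (A : Over (Spec (CommRingCat.of (FractionRing R))))
    (N : Over (Spec (CommRingCat.of R))) (e : (Neron.genericFibre R).obj N ≅ A)
    (hN : Neron.IsNeronModelOf R N A e)
    (B : Over (Spec (CommRingCat.of R))) (hBp : IsProper B.hom) (hBs : Smooth B.hom)
    (θ : (Neron.genericFibre R).obj B ≅ A) : IsProper N.hom := by
  obtain ⟨hNs, hNsep, hNft, hNqc, hNmp⟩ := hN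
  haveI := hNs
  haveI := hNsep
  haveI := hNft
  haveI := hNqc
  obtain ⟨u, hu⟩ := (hNmp B hBs).2 θ.hom
  have hu' : (Neron.genericFibre R).map u ≫ e.hom = θ.hom := hu
  have hiso : IsIso ((Neron.genericFibre R).map u) := by
    have : (Neron.genericFibre R).map u = θ.hom ≫ e.inv := by
      rw [← hu', Category.assoc, Iso.hom_inv_id, Category.comp_id]
    rw [this]; infer_instance
  have hw : u.left ≫ N.hom = B.hom := Over.w u
  haveI : IsProper (u.left ≫ N.hom) := by rw [hw]; exact hBp
  haveI : IsProper u.left := IsProper.of_comp u.left N.hom
  haveI : Flat N.hom := inferInstance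
  haveI : Surjective u.left := by
    constructor
    have hcl : IsClosed (Set.range u.left) := u.left.isClosedMap.isClosed_range
    have hdense : DenseRange (pullback.fst N.hom (Neron.genPt R)) :=
      (Groth.Agent.Helper8.NeronTors.isDominant_fst R N).denseRange
    have hsub : Set.range (pullback.fst N.hom (Neron.genPt R)) ⊆ Set.range u.left := by
      rintro _ ⟨z, rfl⟩
      haveI : IsIso ((Neron.genericFibre R).map u).left :=
        inferInstanceAs (IsIso ((Over.forget _).map ((Neron.genericFibre R).map u)))
      obtain ⟨w, rfl⟩ := ((Neron.genericFibre R).map u).left.surjective z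
      refine ⟨pullback.fst B.hom (Neron.genPt R) w, ?_⟩
      have := Groth.Agent.Helper9.NeronClosed.pullback_map_left_fst (Neron.genPt R) u
      have h2 := congrArg (fun f => f w) this
      simp only [Scheme.Hom.comp_apply] at h2
      exact h2.symm
    intro y
    have : closure (Set.range (pullback.fst N.hom (Neron.genPt R))) ⊆ Set.range u.left :=
      hcl.closure_subset_iff.mpr hsub
    exact this (hdense y)
  exact Groth.Agent.Helper3.LocPropR.isProper_of_comp_surjective u.left N.hom

theorem geomConn_of_integral {X Y : Scheme.{u}} (f : X ⟶ Y) [GeometricallyIntegral f] :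
    GeometricallyConnected f :=
  ⟨fun K _ y Z fst snd h => by
    haveI : IsIntegral Z := GeometricallyIntegral.geometrically_isIntegral y fst snd h
    infer_instance⟩

variable [IsDiscreteValuationRing R]

theorem point_cases (s : Spec (CommRingCat.of R)) :
    s = genericPoint ↥(Spec (CommRingCat.of R)) ∨ s = IsLocalRing.closedPoint R := by
  by_cases h : s.asIdeal = ⊥
  · left
    have h1 : genericPoint ↥(Spec (CommRingCat.of R)) ⤳ s := genericPoint_specializes s
    have h2 : (genericPoint ↥(Spec (CommRingCat.of R))).asIdeal ≤ s.asIdeal :=
      (PrimeSpectrum.le_iff_specializes _ _).mpr h1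
    apply PrimeSpectrum.ext
    rw [h]
    rw [h] at h2
    exact (le_bot_iff.mp h2).symm
  · right
    apply PrimeSpectrum.ext
    have hmax : s.asIdeal.IsMaximal := Ring.DimensionLEOne.maximalOfPrime h s.isPrime
    exact IsLocalRing.eq_maximalIdeal hmax

theorem genPt_closedPoint :
    (Neron.genPt R) (IsLocalRing.closedPoint (FractionRing R)) =
      genericPoint ↥(Spec (CommRingCat.of R)) := by
  rcases point_cases R ((Neron.genPt R) (IsLocalRing.closedPoint (FractionRing R))) with h | h
  · exact h
  · exfalso
    have h1 := congrArg PrimeSpectrum.asIdeal h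
    have h2 : ((Neron.genPt R) (IsLocalRing.closedPoint (FractionRing R))).asIdeal = ⊥ := by
      change Ideal.comap (algebraMap R (FractionRing R))
        (IsLocalRing.closedPoint (FractionRing R)).asIdeal = _
      rw [IsLocalRing.closedPoint]
      simp only
      rw [IsLocalRing.maximalIdeal_eq_bot, ← RingHom.ker_eq_comap_bot]
      exact (RingHom.injective_iff_ker_eq_bot _).mp (IsFractionRing.injective R (FractionRing R))
    rw [h2] at h1
    exact IsDiscreteValuationRing.not_a_field R h1.symm

/-- a proper Néron model of a geometrically integral proper `K`-scheme has geometrically connected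
fibres -/
theorem geomConn (A : Over (Spec (CommRingCat.of (FractionRing R))))
    [GeometricallyIntegral A.hom]
    (N : Over (Spec (CommRingCat.of R))) (e : (Neron.genericFibre R).obj N ≅ A)
    (hN : Neron.IsNeronModelOf R N A e) (hp : IsProper N.hom) :
    GeometricallyConnected N.hom := by
  obtain ⟨hNs, hNsep, hNft, hNqc, hNmp⟩ := hN
  haveI := hNs
  haveI := hNsep
  haveI := hNft
  haveI := hNqc
  haveI := hp
  haveI : Flat N.hom := inferInstance
  haveI hAc : GeometricallyConnected A.hom := geomConn_of_integral A.hom
  have hgenK : GeometricallyConnected (pullback.snd N.hom (Neron.genPt R)) := by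
    have h1 : e.hom.left ≫ A.hom = pullback.snd N.hom (Neron.genPt R) := Over.w e.hom
    rw [← h1]
    haveI : IsIso e.hom.left := inferInstanceAs (IsIso ((Over.forget _).map e.hom))
    exact (MorphismProperty.cancel_left_of_respectsIso @GeometricallyConnected _ _).mpr hAc
  have hψK : ∀ z : FractionRing R, ∃ a b : R, (algebraMap R (FractionRing R)) b ≠ 0 ∧
      z = (algebraMap R (FractionRing R)) a / (algebraMap R (FractionRing R)) b := by
    intro z
    obtain ⟨a, b, hb, rfl⟩ := IsFractionRing.div_surjective (A := R) z
    exact ⟨a, b, by simpa using nonZeroDivisors.ne_zero hb, rfl⟩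
  have hgenF := Groth.Agent.Helper3.FibTr.fiber_of_pullback @GeometricallyConnected
    (algebraMap R (FractionRing R)) hψK N.hom hgenK
  have hpt := genPt_closedPoint R
  rw [hpt] at hgenF
  haveI := hgenF
  -- the closed fibre is nonempty
  have hsurjA : Surjective A.hom := inferInstance
  obtain ⟨a, ha⟩ := A.hom.surjective (IsLocalRing.closedPoint (FractionRing R))
  have hgen_mem : genericPoint ↥(Spec (CommRingCat.of R)) ∈ Set.range N.hom := by
    refine ⟨pullback.fst N.hom (Neron.genPt R) (e.inv.left a), ?_⟩
    rw [← Scheme.Hom.comp_apply, pullback.condition, Scheme.Hom.comp_apply]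
    have h3 : pullback.snd N.hom (Neron.genPt R) (e.inv.left a) = A.hom a := by
      have h4 : e.inv.left ≫ pullback.snd N.hom (Neron.genPt R) = A.hom := Over.w e.inv
      rw [← h4, Scheme.Hom.comp_apply]
    rw [h3, ha, hpt]
  have hcl : IsClosed (Set.range N.hom) := N.hom.isClosedMap.isClosed_range
  have hcp : IsLocalRing.closedPoint R ∈ Set.range N.hom :=
    hcl.stableUnderSpecialization (genericPoint_specializes _) hgen_mem
  haveI : Nonempty ↥(N.hom.fiber (IsLocalRing.closedPoint R)) := by
    obtain ⟨x, hx⟩ := hcp
    rw [← hx]
    exact ⟨N.hom.asFiber x⟩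
  haveI : IsProper (N.hom.fiberToSpecResidueField (IsLocalRing.closedPoint R)) :=
    MorphismProperty.pullback_snd (P := @IsProper) _ _ hp
  have hres := (Groth.Agent.Lead.PropDvr.result' R N.left N.hom).2
  rw [GeometricallyConnected.iff_geometricallyConnected_fiber]
  intro s
  rcases point_cases R s with rfl | rfl
  · exact hgenF
  · exact hres

end Groth.Agent.Helper3.NeronGrpB
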