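import Mathlib

set_option linter.style.haveILetI false
set_option linter.unusedSectionVars false
set_option linter.unusedVariables false

namespace Groth.Agent.Helper3.NewtonHensel

universe u

open Polynomial IsLocalRing Function
open scoped Ring

/-- Hensel's lemma for an adically complete ring, without the monic hypothesis
(same Newton iteration as `IsAdicComplete.henselianRing`). -/
theorem hensel_nonmonic (R : Type*) [CommRing R] (I : Ideal R) [IsAdicComplete I R]
    (f : R[X]) (a₀ : R) (h₁ : f.eval a₀ ∈ I)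
    (h₂ : IsUnit (Ideal.Quotient.mk I (f.derivative.eval a₀))) :
    ∃ a : R, f.IsRoot a ∧ a - a₀ ∈ I := by
  classical
    let f' := derivative f
    let c : ℕ → R := fun n => Nat.recOn n a₀ fun _ b => b - f.eval b * (f'.eval b)⁻¹ʳ
    have hc : ∀ n, c (n + 1) = c n - f.eval (c n) * (f'.eval (c n))⁻¹ʳ := by
      intro n
      simp only [c]
    have hc_mod : ∀ n, c n ≡ a₀ [SMOD I] := by
      intro n
      induction n with
      | zero => rfl
      | succ n ih => ?_
      rw [hc, sub_eq_add_neg, ← add_zero a₀]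
      refine ih.add ?_
      rw [SModEq.zero, Ideal.neg_mem_iff]
      refine I.mul_mem_right _ ?_
      rw [← SModEq.zero] at h₁ ⊢
      exact (ih.eval f).trans h₁
    have hf'c : ∀ n, IsUnit (f'.eval (c n)) := by
      intro n
      have := isLocalHom_of_le_jacobson_bot I (IsAdicComplete.le_jacobson_bot I)
      apply IsUnit.of_map (Ideal.Quotient.mk I)
      convert! h₂ using 1
      exact SModEq.def.mp ((hc_mod n).eval _)
    have hfcI : ∀ n, f.eval (c n) ∈ I ^ (n + 1) := by
      intro n
      induction n with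
      | zero => simpa only [Nat.rec_zero, zero_add, pow_one] using! h₁
      | succ n ih => ?_
      rw [← taylor_eval_sub (c n), hc, sub_eq_add_neg, sub_eq_add_neg,
        add_neg_cancel_comm]
      rw [eval_eq_sum, sum_over_range' _ _ _ (lt_add_of_pos_right _ zero_lt_two), ←
        Finset.sum_range_add_sum_Ico _ (Nat.le_add_left _ _)]
      swap
      · intro i
        rw [zero_mul]
      refine Ideal.add_mem _ ?_ ?_
      · rw [← one_add_one_eq_two, Finset.sum_range_succ, Finset.range_one, Finset.sum_singleton,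
          taylor_coeff_zero, taylor_coeff_one, pow_zero, pow_one, mul_one, mul_neg,
          mul_left_comm, Ring.mul_inverse_cancel _ (hf'c n), mul_one, add_neg_cancel]
        exact Ideal.zero_mem _
      · refine Submodule.sum_mem _ ?_
        simp only [Finset.mem_Ico]
        rintro i ⟨h2i, _⟩
        have aux : n + 2 ≤ i * (n + 1) := by trans 2 * (n + 1) <;> nlinarith only [h2i]
        refine Ideal.mul_mem_left _ _ (Ideal.pow_le_pow_right aux ?_)
        rw [pow_mul']
        exact Ideal.pow_mem_pow ((Ideal.neg_mem_iff _).2 <| Ideal.mul_mem_right _ _ ih) _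
    have aux : ∀ m n, m ≤ n → c m ≡ c n [SMOD (I ^ m • ⊤ : Ideal R)] := by
      intro m n hmn
      rw [← Ideal.one_eq_top, Ideal.smul_eq_mul, mul_one]
      obtain ⟨k, rfl⟩ := Nat.exists_eq_add_of_le hmn
      clear hmn
      induction k with
      | zero => rw [add_zero]
      | succ k ih => ?_
      rw [← add_assoc, hc, ← add_zero (c m), sub_eq_add_neg]
      refine ih.add ?_
      symm
      rw [SModEq.zero, Ideal.neg_mem_iff]
      refine Ideal.mul_mem_right _ _ (Ideal.pow_le_pow_right ?_ (hfcI _))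
      rw [add_assoc]
      exact le_self_add
    obtain ⟨a, ha⟩ := IsPrecomplete.prec' c (aux _ _)
    refine ⟨a, ?_, ?_⟩
    · show f.IsRoot a
      suffices ∀ n, f.eval a ≡ 0 [SMOD (I ^ n • ⊤ : Ideal R)] by exact IsHausdorff.haus' _ this
      intro n
      specialize ha n
      rw [← Ideal.one_eq_top, Ideal.smul_eq_mul, mul_one] at ha ⊢
      refine (ha.symm.eval f).trans ?_
      rw [SModEq.zero]
      exact Ideal.pow_le_pow_right le_self_add (hfcI _)
    · show a - a₀ ∈ I
      specialize ha (0 + 1)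
      rw [hc, pow_one, ← Ideal.one_eq_top, Ideal.smul_eq_mul, mul_one, sub_eq_add_neg] at ha
      rw [← SModEq.sub_mem, ← add_zero a₀]
      refine ha.symm.trans (SModEq.rfl.add ?_)
      rw [SModEq.zero, Ideal.neg_mem_iff]
      exact Ideal.mul_mem_right _ _ h₁

/-- Newton's form of Hensel's lemma: if `f a = (f' a)^2 * c` with `c ∈ I`, there is a root
`a + f'(a) * y` with `y` in the ideal generated by `c`. -/
theorem newton (R : Type*) [CommRing R] (I : Ideal R) [IsAdicComplete I R]
    (f : R[X]) (a c : R) (hc : c ∈ I) (hfa : f.eval a = (f.derivative.eval a) ^ 2 * c) :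
    ∃ y ∈ Ideal.span {c}, f.eval (a + f.derivative.eval a * y) = 0 := by
  classical
  set h := f.derivative.eval a with hh
  set T := taylor a f with hT
  set D := T.natDegree with hD
  let G : R[X] := ∑ i ∈ Finset.range D, C (T.coeff (i + 2) * h ^ i) * X ^ i
  let F : R[X] := C c + X + X ^ 2 * G
  have hGeval : ∀ y, G.eval y = ∑ i ∈ Finset.range D, T.coeff (i + 2) * h ^ i * y ^ i := by
    intro y
    simp only [G, eval_finset_sum, eval_mul, eval_C, eval_pow, eval_X]
  have hFeval : ∀ y, F.eval y = c + y + y ^ 2 * G.eval y := by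
    intro y
    simp only [F, eval_add, eval_mul, eval_C, eval_pow, eval_X]
  have key : ∀ y, f.eval (a + h * y) = h ^ 2 * F.eval y := by
    intro y
    have h1 : f.eval (a + h * y) = T.eval (h * y) := by
      rw [hT, taylor_eval, add_comm]
    rw [h1, eval_eq_sum_range' (show T.natDegree < D + 2 by omega), Finset.sum_range_succ',
      Finset.sum_range_succ', hFeval, hGeval]
    have ht0 : T.coeff 0 = h ^ 2 * c := by rw [hT, taylor_coeff_zero, hfa]
    have ht1 : T.coeff 1 = h := by rw [hT, taylor_coeff_one]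
    rw [ht0, show (0 + 1) = 1 from rfl, ht1, pow_zero, pow_one, mul_one, Finset.mul_sum,
      mul_add, mul_add, Finset.mul_sum]
    have : ∀ i ∈ Finset.range D, T.coeff (i + 1 + 1) * (h * y) ^ (i + 1 + 1) =
        h ^ 2 * (y ^ 2 * (T.coeff (i + 2) * h ^ i * y ^ i)) := by
      intro i _
      ring
    rw [Finset.sum_congr rfl this]
    ring
  have hF0 : F.eval 0 ∈ I := by
    rw [hFeval]; simpa using hc
  have hF'0 : IsUnit (Ideal.Quotient.mk I (F.derivative.eval 0)) := by
    have : F.derivative.eval 0 = 1 := by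
      simp only [F, derivative_add, derivative_C, derivative_X, derivative_mul, zero_add, eval_add,
        eval_one, eval_mul, eval_pow, eval_X, derivative_X_pow, Nat.cast_ofNat, Nat.add_one_sub_one,
        pow_one, eval_C]
      ring
    rw [this, map_one]; exact isUnit_one
  obtain ⟨y, hy, hyI⟩ := hensel_nonmonic R I F 0 hF0 hF'0
  rw [sub_zero] at hyI
  refine ⟨y, ?_, ?_⟩
  · have hroot : c + y + y ^ 2 * G.eval y = 0 := by rw [← hFeval]; exact hy
    have hunit : IsUnit (y * G.eval y + 1) := by
      have hjac := IsAdicComplete.le_jacobson_bot I hyI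
      rw [Ideal.mem_jacobson_bot] at hjac
      exact hjac (G.eval y)
    obtain ⟨u, hu⟩ := hunit
    have h2 : y * (u : R) = -c := by rw [hu]; linear_combination hroot
    have h3 : y = -c * ((u⁻¹ : Rˣ) : R) := by
      rw [← h2, mul_assoc, Units.mul_inv, mul_one]
    rw [h3, Ideal.mem_span_singleton']
    exact ⟨-((u⁻¹ : Rˣ) : R), by ring⟩
  · rw [key, hy, mul_zero]

lemma eval_mem_of_coeff_mem {R : Type*} [CommRing R] (J : Ideal R) (Q : R[X])
    (hQ : ∀ i, Q.coeff i ∈ J) (x : R) : Q.eval x ∈ J := by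
  rw [eval_eq_sum_range]
  exact Ideal.sum_mem _ fun i _ => Ideal.mul_mem_right _ _ (hQ i)

lemma exists_pow_le_span {A : Type u} [CommRing A] [IsDomain A] [IsLocalRing A]
    [IsNoetherianRing A] (hdim : ringKrullDim A = 1) (d : A) (hd : d ≠ 0) :
    ∃ N, maximalIdeal A ^ N ≤ Ideal.span {d} := by
  haveI : Ring.KrullDimLE 1 A := by
    rw [Ring.KrullDimLE, Order.krullDimLE_iff]
    exact hdim.le
  have hrad : maximalIdeal A ≤ (Ideal.span {d}).radical := by
    rw [Ideal.radical_eq_sInf]
    refine le_sInf ?_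
    rintro q ⟨hle, hq⟩
    have hne : q ≠ ⊥ := by
      intro h
      have : d ∈ q := hle (Ideal.mem_span_singleton_self d)
      rw [h, Ideal.mem_bot] at this
      exact hd this
    have := hq.isMaximal_of_ne_bot hne
    rw [IsLocalRing.eq_maximalIdeal this]
  exact Ideal.exists_pow_le_of_le_radical_of_fg hrad (IsNoetherian.noetherian _)

theorem main (A : Type u) [CommRing A] [IsDomain A] [IsLocalRing A] [IsNoetherianRing A]
    [IsAdicComplete (maximalIdeal A) A] (hdim : ringKrullDim A = 1) (P : A[X]) (α : A)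
    (hα : P.eval α = 0) (hα' : (derivative P).eval α ≠ 0) (c : ℕ) :
    ∃ n : ℕ, ∀ Q : A[X], (∀ i, Q.coeff i ∈ maximalIdeal A ^ n) →
      ∃ β : A, (P + Q).eval β = 0 ∧ β - α ∈ maximalIdeal A ^ c := by
  set d := (derivative P).eval α with hd
  obtain ⟨N, hN⟩ := exists_pow_le_span hdim (d ^ 2) (pow_ne_zero 2 hα')
  refine ⟨(c + 1) + N, fun Q hQ => ?_⟩
  have hle : maximalIdeal A ^ ((c + 1) + N) ≤ maximalIdeal A ^ (c + 1) * Ideal.span {d ^ 2} := by
    rw [pow_add]
    exact Ideal.mul_mono_right hN
  have hQα : Q.eval α ∈ maximalIdeal A ^ (c + 1) * Ideal.span {d ^ 2} :=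
    hle (eval_mem_of_coeff_mem _ Q hQ α)
  have hQ'α : (derivative Q).eval α ∈ maximalIdeal A ^ (c + 1) * Ideal.span {d ^ 2} := by
    apply hle
    apply eval_mem_of_coeff_mem
    intro i
    rw [coeff_derivative]
    exact Ideal.mul_mem_right _ _ (hQ _)
  rw [Ideal.mem_mul_span_singleton] at hQα hQ'α
  obtain ⟨c'', hc'', hc''eq⟩ := hQα
  obtain ⟨e', he', he'eq⟩ := hQ'α
  have hpowle : maximalIdeal A ^ (c + 1) ≤ maximalIdeal A := Ideal.pow_le_self (Nat.succ_ne_zero c)
  have hu : IsUnit (1 + d * e') := by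
    rw [← IsLocalRing.notMem_maximalIdeal]
    intro hmem
    have h1 : d * e' ∈ maximalIdeal A := Ideal.mul_mem_left _ _ (hpowle he')
    have : (1 : A) ∈ maximalIdeal A := by
      have h2 := Ideal.sub_mem _ hmem h1
      rwa [add_sub_cancel_right] at h2
    exact (Ideal.ne_top_iff_one _).mp (Ideal.IsPrime.ne_top inferInstance) this
  obtain ⟨u, hu⟩ := hu
  have hh : (derivative (P + Q)).eval α = d * u := by
    rw [derivative_add, eval_add, ← hd, ← he'eq, hu]
    ring
  have hf : (P + Q).eval α = ((derivative (P + Q)).eval α) ^ 2 *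
      (((u⁻¹ : Aˣ) : A) ^ 2 * c'') := by
    rw [eval_add, hα, zero_add, hh, ← hc''eq]
    have : (u : A) * ((u⁻¹ : Aˣ) : A) = 1 := Units.mul_inv u
    linear_combination (-(d ^ 2 * c'') * (1 + (u : A) * ((u⁻¹ : Aˣ) : A))) * this
  have hc' : ((u⁻¹ : Aˣ) : A) ^ 2 * c'' ∈ maximalIdeal A ^ (c + 1) := Ideal.mul_mem_left _ _ hc''
  obtain ⟨y, hy, hroot⟩ := newton A (maximalIdeal A) (P + Q) α _ (hpowle hc') hf
  refine ⟨α + (derivative (P + Q)).eval α * y, hroot, ?_⟩
  have hy' : y ∈ maximalIdeal A ^ (c + 1) :=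
    ((Ideal.span_le (I := maximalIdeal A ^ (c + 1))).mpr (Set.singleton_subset_iff.mpr hc')) hy
  have : α + (derivative (P + Q)).eval α * y - α = (derivative (P + Q)).eval α * y := by ring
  rw [this]
  exact Ideal.mul_mem_left _ _ (Ideal.pow_le_pow_right (Nat.le_succ c) hy')

end Groth.Agent.Helper3.NewtonHensel
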