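import Mathlib
set_option linter.style.haveILetI false
set_option linter.unusedSectionVars false

namespace Groth.Agent.Helper3.NilFP

open Function

/-- nilpotent Nakayama for submodules. -/
theorem le_of_le_sup_smul {R M : Type*} [CommRing R] [AddCommGroup M] [Module R M]
    (I : Ideal R) (hI : IsNilpotent I) (N N' : Submodule R M) (h : N ≤ N' ⊔ I • N) : N ≤ N' := by
  obtain ⟨k, hk⟩ := hI
  have key : ∀ j : ℕ, N ≤ N' ⊔ (I ^ j) • N := by
    intro j
    induction j with
    | zero => simp
    | succ j ih =>
      refine ih.trans (sup_le le_sup_left ?_)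
      calc (I ^ j) • N ≤ (I ^ j) • (N' ⊔ I • N) := Submodule.smul_mono le_rfl h
        _ = (I ^ j) • N' ⊔ (I ^ j) • (I • N) := Submodule.smul_sup _ _ _
        _ ≤ N' ⊔ (I ^ (j + 1)) • N := by
          refine sup_le_sup Submodule.smul_le_right ?_
          rw [← Submodule.mul_smul, ← pow_succ]
  have := key k
  rw [hk] at this
  simpa using this

/-- Part (i): finite type lifts along nilpotent thickenings. -/
theorem finiteType_of_quotient {B C : Type*} [CommRing B] [CommRing C] [Algebra B C]
    (I : Ideal B) (hI : IsNilpotent I)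
    (h : Algebra.FiniteType B (C ⧸ I.map (algebraMap B C))) : Algebra.FiniteType B C := by
  classical
  obtain ⟨t, ht⟩ := h.out
  have hsurj : Surjective (Ideal.Quotient.mkₐ B (I.map (algebraMap B C))) :=
    Ideal.Quotient.mkₐ_surjective _ _
  let s : Finset C := t.image (Function.surjInv hsurj)
  have hs : (Ideal.Quotient.mkₐ B (I.map (algebraMap B C))) '' (s : Set C) = t := by
    ext x
    simp only [s, Finset.coe_image, Set.mem_image, Finset.mem_coe]
    constructor
    · rintro ⟨_, ⟨y, hy, rfl⟩, rfl⟩
      rwa [Function.surjInv_eq hsurj]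
    · intro hx
      exact ⟨_, ⟨x, hx, rfl⟩, Function.surjInv_eq hsurj x⟩
  refine ⟨⟨s, ?_⟩⟩
  set S := Algebra.adjoin B (s : Set C) with hS
  have hmap : S.map (Ideal.Quotient.mkₐ B (I.map (algebraMap B C))) = ⊤ := by
    rw [hS, AlgHom.map_adjoin, hs, ht]
  have h1 : (⊤ : Submodule B C) ≤ Subalgebra.toSubmodule S ⊔ I • (⊤ : Submodule B C) := by
    intro c _
    have hc : Ideal.Quotient.mkₐ B (I.map (algebraMap B C)) c ∈
        S.map (Ideal.Quotient.mkₐ B (I.map (algebraMap B C))) := by
      rw [hmap]; trivial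
    obtain ⟨s', hs', hs'c⟩ := hc
    have hd : c - s' ∈ I.map (algebraMap B C) := by
      rw [← Ideal.Quotient.eq]
      exact hs'c.symm
    have hd' : c - s' ∈ I • (⊤ : Submodule B C) := by
      rw [Ideal.smul_top_eq_map]
      exact hd
    have : c = s' + (c - s') := by ring
    rw [this]
    exact Submodule.add_mem_sup hs' hd'
  have h2 := le_of_le_sup_smul I hI ⊤ (Subalgebra.toSubmodule S) h1
  rw [eq_top_iff]
  intro c _
  exact h2 (Submodule.mem_top)

theorem mem_smul_ker_of_flat {A P C : Type*} [CommRing A] [AddCommGroup P] [Module A P]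
    [AddCommGroup C] [Module A C] [Module.Flat A C] (f : P →ₗ[A] C) (hf : Surjective f)
    (n : Ideal A) (x : P) (hx : x ∈ n • (⊤ : Submodule A P)) (hfx : f x = 0) :
    x ∈ n • LinearMap.ker f := by
  classical
  have h1 : x ∈ n • Submodule.span A (Set.range (id : P → P)) := by
    simpa using hx
  rw [Submodule.mem_ideal_smul_span_iff_exists_sum] at h1
  obtain ⟨a, ha, rfl⟩ := h1
  have hsum : ∑ i : a.support, a i • f i = 0 := by
    rw [← hfx, Finsupp.sum, map_sum, Finset.sum_coe_sort a.support (fun i => a i • f i)]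
    simp
  obtain ⟨k, b, y, hy, hb⟩ := Module.Flat.isTrivialRelation_of_sum_smul_eq_zero hsum
  choose q hq using fun j => hf (y j)
  have hz : ∀ i : a.support, (i : P) - ∑ j, b i j • q j ∈ LinearMap.ker f := by
    intro i
    have := hy i
    simp only at this
    rw [LinearMap.mem_ker, map_sub, map_sum, this, sub_eq_zero]
    simp [hq]
  have hb' : ∀ j, ∑ i : a.support, a i * b i j = 0 := hb
  have hx' : (a.sum fun i c => c • id i) =
      ∑ i : a.support, a i • ((i : P) - ∑ j, b i j • q j) := by
    rw [Finsupp.sum, ← Finset.sum_coe_sort a.support (fun i => a i • id i)]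
    simp only [id, smul_sub, Finset.sum_sub_distrib]
    rw [eq_comm, sub_eq_self]
    simp only [Finset.smul_sum, smul_smul]
    rw [Finset.sum_comm]
    refine Finset.sum_eq_zero fun j _ => ?_
    rw [← Finset.sum_smul, hb' j, zero_smul]
  rw [hx']
  exact Submodule.sum_mem _ fun i _ => Submodule.smul_mem_smul (ha _) (hz i)

theorem finitePresentation_of_quotient (A B C : Type*) [CommRing A] [CommRing B] [CommRing C]
    [Algebra A B] [Algebra B C] [Algebra A C] [IsScalarTower A B C] (n : Ideal A)
    (hn : IsNilpotent n) [Module.Flat A C]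
    (h : Algebra.FinitePresentation (B ⧸ n.map (algebraMap A B))
      (C ⧸ (n.map (algebraMap A B)).map (algebraMap B C))) :
    Algebra.FinitePresentation B C := by
  classical
  set I := n.map (algebraMap A B) with hI
  have hInil : IsNilpotent I := by
    obtain ⟨k, hk⟩ := hn
    refine ⟨k, ?_⟩
    rw [hI, ← Ideal.map_pow, hk, Ideal.zero_eq_bot, Ideal.map_bot]
    exact Ideal.zero_eq_bot.symm
  have hft : Algebra.FiniteType B C := by
    refine finiteType_of_quotient I hInil ?_
    haveI : Algebra.FiniteType (B ⧸ I) (C ⧸ I.map (algebraMap B C)) := inferInstance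
    exact Algebra.FiniteType.trans (inferInstance : Algebra.FiniteType B (B ⧸ I)) this
  obtain ⟨m, f, hf⟩ := Algebra.FiniteType.iff_quotient_mvPolynomial''.mp hft
  let ρ : MvPolynomial (Fin m) B →+* MvPolynomial (Fin m) (B ⧸ I) :=
    MvPolynomial.map (Ideal.Quotient.mk I)
  let φ : MvPolynomial (Fin m) (B ⧸ I) →ₐ[B ⧸ I] (C ⧸ I.map (algebraMap B C)) :=
    MvPolynomial.aeval (fun i => Ideal.Quotient.mk _ (f (MvPolynomial.X i)))
  have hρsurj : Surjective ρ := MvPolynomial.map_surjective _ Ideal.Quotient.mk_surjective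
  have hρker : RingHom.ker ρ = I.map (MvPolynomial.C) := by
    rw [MvPolynomial.ker_map, Ideal.mk_ker]
  have hcomp : φ.toRingHom.comp ρ = (Ideal.Quotient.mk (I.map (algebraMap B C))).comp f.toRingHom := by
    apply MvPolynomial.ringHom_ext
    · intro b
      simp only [ρ, φ, RingHom.comp_apply, MvPolynomial.map_C, AlgHom.toRingHom_eq_coe,
        RingHom.coe_coe, MvPolynomial.aeval_C]
      rw [← MvPolynomial.algebraMap_eq, f.commutes]
      rfl
    · intro i
      simp [ρ, φ]
  have hcomp' : ∀ p, φ (ρ p) = Ideal.Quotient.mk (I.map (algebraMap B C)) (f p) := fun p =>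
    congrFun (congrArg DFunLike.coe hcomp) p
  have hφ : Surjective φ := by
    intro c
    obtain ⟨c', rfl⟩ := Ideal.Quotient.mk_surjective c
    obtain ⟨p, rfl⟩ := hf c'
    exact ⟨ρ p, hcomp' p⟩
  have hK : (RingHom.ker φ.toRingHom).FG :=
    Algebra.FinitePresentation.ker_fG_of_surjective φ hφ
  set J := RingHom.ker f.toRingHom with hJ
  have hKJ : RingHom.ker φ.toRingHom = J.map ρ := by
    apply le_antisymm
    · intro y hy
      obtain ⟨p, rfl⟩ := hρsurj y
      have h0 : Ideal.Quotient.mk (I.map (algebraMap B C)) (f p) = 0 := by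
        rw [← hcomp' p]; exact hy
      rw [Ideal.Quotient.eq_zero_iff_mem] at h0
      have himg : ∀ I' : Ideal B, I'.map (algebraMap B C) =
          (I'.map (MvPolynomial.C)).map f.toRingHom := by
        intro I'
        rw [Ideal.map_map]
        congr 1
        ext b
        simp [← MvPolynomial.algebraMap_eq]
      rw [himg I, Ideal.mem_map_iff_of_surjective f.toRingHom hf] at h0
      obtain ⟨q, hq, hqp⟩ := h0
      have hpq : p - q ∈ J := by
        rw [hJ, RingHom.mem_ker, map_sub, sub_eq_zero]
        exact hqp.symm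
      have hρq : ρ q = 0 := by
        rw [← RingHom.mem_ker, hρker]; exact hq
      have : ρ p = ρ (p - q) := by rw [map_sub, hρq, sub_zero]
      rw [this]
      exact Ideal.mem_map_of_mem ρ hpq
    · rw [Ideal.map_le_iff_le_comap]
      intro x hx
      rw [Ideal.mem_comap, RingHom.mem_ker]
      have : φ (ρ x) = 0 := by
        rw [hcomp' x]
        have : f x = 0 := hx
        rw [this, map_zero]
      exact this
  have hK' : (Submodule.span (MvPolynomial (Fin m) (B ⧸ I)) (ρ '' (J : Set _))).FG := by
    rw [hKJ] at hK; exact hK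
  rw [Submodule.fg_span_iff_fg_span_finset_subset] at hK'
  obtain ⟨t, htJ, hspan⟩ := hK'
  rw [Finset.subset_set_image_iff] at htJ
  obtain ⟨g, hgJ, hgt⟩ := htJ
  -- A-algebra structure on the polynomial ring
  have hJle : J ≤ Ideal.span (g : Set (MvPolynomial (Fin m) B)) ⊔
      (I.map (MvPolynomial.C : B →+* MvPolynomial (Fin m) B)) • J := by
    intro x hx
    have h1 : ρ x ∈ Ideal.span ((t : Set (MvPolynomial (Fin m) (B ⧸ I)))) := by
      change ρ x ∈ Submodule.span _ _
      rw [← hspan]
      exact Submodule.subset_span ⟨x, hx, rfl⟩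
    have h2 : Ideal.span ((t : Set (MvPolynomial (Fin m) (B ⧸ I)))) =
        (Ideal.span (g : Set (MvPolynomial (Fin m) B))).map ρ := by
      rw [Ideal.map_span, ← hgt, Finset.coe_image]
    rw [h2, Ideal.mem_map_iff_of_surjective ρ hρsurj] at h1
    obtain ⟨y, hy, hyx⟩ := h1
    have hyJ : y ∈ J := (Ideal.span_le.mpr hgJ) hy
    have hd1 : x - y ∈ J := J.sub_mem hx hyJ
    have hd2 : x - y ∈ I.map MvPolynomial.C := by
      rw [← hρker, RingHom.mem_ker, map_sub, hyx, sub_self]
    have hd3 : x - y ∈ (I.map (MvPolynomial.C : B →+* MvPolynomial (Fin m) B)) • J := by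
      have e1 : I.map (MvPolynomial.C : B →+* MvPolynomial (Fin m) B) =
          n.map (algebraMap A (MvPolynomial (Fin m) B)) := by
        rw [hI, Ideal.map_map]
        congr 1
      have hmem : x - y ∈ n • (⊤ : Submodule A (MvPolynomial (Fin m) B)) := by
        rw [Ideal.smul_top_eq_map, ← e1]
        exact hd2
      have := mem_smul_ker_of_flat (A := A) ((f.restrictScalars A).toLinearMap)
        (by exact hf) n (x - y) hmem (by exact hd1)
      refine Submodule.smul_induction_on this ?_ ?_
      · intro a ha z hz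
        rw [Algebra.smul_def]
        refine Ideal.mul_mem_mul ?_ hz
        rw [e1]
        exact Ideal.mem_map_of_mem _ ha
      · intro z w hz hw
        exact Ideal.add_mem _ hz hw
    have : x = y + (x - y) := by ring
    rw [this]
    exact Submodule.add_mem_sup hy hd3
  have hPnil : IsNilpotent (I.map (MvPolynomial.C : B →+* MvPolynomial (Fin m) B)) := by
    obtain ⟨k, hk⟩ := hInil
    refine ⟨k, ?_⟩
    rw [← Ideal.map_pow, hk, Ideal.zero_eq_bot, Ideal.map_bot]
    exact Ideal.zero_eq_bot.symm
  have hJeq : J = Ideal.span (g : Set (MvPolynomial (Fin m) B)) :=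
    le_antisymm (le_of_le_sup_smul _ hPnil J _ hJle) (Ideal.span_le.mpr hgJ)
  exact Algebra.FinitePresentation.of_surjective hf ⟨g, hJeq.symm⟩

end Groth.Agent.Helper3.NilFP
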