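import Mathlib
set_option backward.isDefEq.respectTransparency.types false
set_option maxHeartbeats 4000000
set_option synthInstance.maxHeartbeats 400000

open AlgebraicGeometry CategoryTheory

namespace Groth.Agent.Helper3.NilThick

universe u

/-- If `π ∘ φ` is surjective and `ker π ⊆ K²` for a nilpotent ideal `K`, then `φ` is surjective. -/
theorem surjective_of_nilpotent {R S T : Type*} [CommRing R] [CommRing S] [CommRing T]
    (φ : R →+* S) (π : S →+* T) (K : Ideal S) (n : ℕ) (hK : K ^ n = ⊥)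
    (hker : RingHom.ker π ≤ K ^ 2) (hsurj : Function.Surjective (π.comp φ)) :
    Function.Surjective φ := by
  have P : ∀ m, 2 ≤ m → ∀ s : S, ∃ r : R, s - φ r ∈ K ^ m := by
    intro m hm
    induction m, hm using Nat.le_induction with
    | base =>
      intro s
      obtain ⟨r, hr⟩ := hsurj (π s)
      refine ⟨r, hker ?_⟩
      rw [RingHom.mem_ker, map_sub, ← hr]; simp
    | succ m hm ih =>
      have key : ∀ x ∈ K ^ m, ∃ r : R, x - φ r ∈ K ^ (m+1) := by
        intro x hx
        have hx' : x ∈ K ^ (m - 1) * K := by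
          rwa [← pow_succ, Nat.sub_add_cancel (by omega)]
        refine Submodule.mul_induction_on hx' ?_ ?_
        · intro a ha b hb
          obtain ⟨ra, hra⟩ := ih a
          obtain ⟨rb, hrb⟩ := ih b
          refine ⟨ra * rb, ?_⟩
          have h1 : (a - φ ra) * b ∈ K ^ (m+1) := by
            rw [pow_succ]; exact Ideal.mul_mem_mul hra hb
          have h2 : φ ra ∈ K ^ (m-1) := by
            have : φ ra = a - (a - φ ra) := by ring
            rw [this]
            exact (K ^ (m-1)).sub_mem ha (Ideal.pow_le_pow_right (by omega) hra)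
          have h3 : φ ra * (b - φ rb) ∈ K ^ (m+1) := by
            have : K ^ (m-1) * K ^ m ≤ K ^ (m+1) := by
              rw [← pow_add]; exact Ideal.pow_le_pow_right (by omega)
            exact this (Ideal.mul_mem_mul h2 hrb)
          have : a * b - φ (ra * rb) = (a - φ ra) * b + φ ra * (b - φ rb) := by
            rw [map_mul]; ring
          rw [this]; exact add_mem h1 h3
        · rintro x y ⟨rx, hx⟩ ⟨ry, hy⟩
          refine ⟨rx + ry, ?_⟩
          have : x + y - φ (rx + ry) = (x - φ rx) + (y - φ ry) := by rw [map_add]; ring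
          rw [this]; exact add_mem hx hy
      intro s
      obtain ⟨r, hr⟩ := ih s
      obtain ⟨r', hr'⟩ := key _ hr
      refine ⟨r + r', ?_⟩
      have : s - φ (r + r') = (s - φ r) - φ r' := by rw [map_add]; ring
      rw [this]; exact hr'
  intro s
  obtain ⟨r, hr⟩ := P (max n 2) (le_max_right _ _) s
  have : K ^ (max n 2) = ⊥ := by
    rw [eq_bot_iff, ← hK]; exact Ideal.pow_le_pow_right (le_max_left _ _)
  rw [this, Ideal.mem_bot, sub_eq_zero] at hr
  exact ⟨r, hr.symm⟩

/-- kernel of the stalk map of `(I^2).subschemeι` lies in the square of a nilpotent ideal. -/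
theorem ker_stalkMap_le {X : Scheme.{u}} (I : X.IdealSheafData) (N : ℕ) (hN : I ^ N = 0)
    (x₁ : (I ^ 2).subscheme) :
    ∃ K : Ideal (X.presheaf.stalk ((I ^ 2).subschemeι x₁)), K ^ N = ⊥ ∧
      RingHom.ker ((I ^ 2).subschemeι.stalkMap x₁).hom ≤ K ^ 2 := by
  set j := (I ^ 2).subschemeι with hj
  set x := j x₁ with hx
  obtain ⟨U, hU, hxU⟩ : ∃ U : X.Opens, IsAffineOpen U ∧ x ∈ U := by
    obtain ⟨_, ⟨U, hU, rfl⟩, hxU, -⟩ := X.isBasis_affineOpens.exists_subset_of_mem_open
      (Set.mem_univ x) isOpen_univ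
    exact ⟨U, hU, hxU⟩
  let Ua : X.affineOpens := ⟨U, hU⟩
  have hV : IsAffineOpen (j ⁻¹ᵁ U) := hU.preimage j
  have hx₁V : x₁ ∈ j ⁻¹ᵁ U := hxU
  let _ : Algebra Γ(X, U) (X.presheaf.stalk x) :=
    TopCat.Presheaf.algebra_section_stalk X.presheaf ⟨x, hxU⟩
  let _ : Algebra Γ((I ^ 2).subscheme, j ⁻¹ᵁ U) ((I ^ 2).subscheme.presheaf.stalk x₁) :=
    TopCat.Presheaf.algebra_section_stalk _ ⟨x₁, hx₁V⟩
  have hlocX := hU.isLocalization_stalk ⟨x, hxU⟩
  have hlocV := hV.isLocalization_stalk ⟨x₁, hx₁V⟩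
  have hpow : ∀ n : ℕ, (I ^ n).ideal Ua = I.ideal Ua ^ n := fun n => rfl
  refine ⟨(I.ideal Ua).map (X.presheaf.germ U x hxU).hom, ?_, ?_⟩
  · rw [← Ideal.map_pow, ← hpow, hN]
    change Ideal.map _ (Scheme.IdealSheafData.ideal ⊥ Ua) = ⊥
    rw [Scheme.IdealSheafData.ideal_bot]
    exact Ideal.map_bot
  · intro a ha
    rw [RingHom.mem_ker] at ha
    obtain ⟨⟨s, t⟩, hst⟩ := IsLocalization.surj (hU.primeIdealOf ⟨x, hxU⟩).asIdeal.primeCompl a
    -- a * germ t = germ s
    have hst' : a * X.presheaf.germ U x hxU t.1 = X.presheaf.germ U x hxU s := hst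
    have htu : IsUnit (X.presheaf.germ U x hxU t.1) :=
      IsLocalization.map_units (M := (hU.primeIdealOf ⟨x, hxU⟩).asIdeal.primeCompl)
        (X.presheaf.stalk x) t
    -- π (germ s) = 0
    have h0 : (j.stalkMap x₁).hom (X.presheaf.germ U x hxU s) = 0 := by
      rw [← hst', map_mul, ha, zero_mul]
    have h1 : (I ^ 2).subscheme.presheaf.germ (j ⁻¹ᵁ U) x₁ hx₁V (j.app U s) = 0 := by
      rw [← Scheme.Hom.germ_stalkMap_apply]; exact h0
    -- ∃ c ∉ prime with c * (j.app U s) = 0
    obtain ⟨c, hc⟩ := (IsLocalization.map_eq_zero_iff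
      (hV.primeIdealOf ⟨x₁, hx₁V⟩).asIdeal.primeCompl
      ((I ^ 2).subscheme.presheaf.stalk x₁) (j.app U s)).mp h1
    have hcu : IsUnit ((I ^ 2).subscheme.presheaf.germ (j ⁻¹ᵁ U) x₁ hx₁V c.1) :=
      IsLocalization.map_units (M := (hV.primeIdealOf ⟨x₁, hx₁V⟩).asIdeal.primeCompl)
        ((I ^ 2).subscheme.presheaf.stalk x₁) c
    obtain ⟨t₀, ht₀⟩ := (I ^ 2).subschemeι_app_surjective Ua c.1
    have ht₀u : IsUnit (X.presheaf.germ U x hxU t₀) := by
      have : IsUnit ((j.stalkMap x₁).hom (X.presheaf.germ U x hxU t₀)) := by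
        have e := Scheme.Hom.germ_stalkMap_apply j U x₁ hxU t₀
        rw [show (j.stalkMap x₁).hom (X.presheaf.germ U x hxU t₀) = _ from e]
        rw [show j.app U t₀ = c.1 from ht₀]
        exact hcu
      exact isUnit_of_map_unit (j.stalkMap x₁).hom _ this
    have hmem : t₀ * s ∈ (I.ideal Ua) ^ 2 := by
      rw [← hpow, ← Scheme.IdealSheafData.ker_subschemeι_app,
        RingHom.mem_ker, map_mul]
      rw [show (j.app U).hom t₀ = c.1 from ht₀]
      exact hc
    have hgs : X.presheaf.germ U x hxU s ∈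
        ((I.ideal Ua).map (X.presheaf.germ U x hxU).hom) ^ 2 := by
      rw [← Ideal.map_pow]
      have := Ideal.mem_map_of_mem (X.presheaf.germ U x hxU).hom hmem
      rw [map_mul] at this
      exact (Ideal.unit_mul_mem_iff_mem _ ht₀u).mp this
    have : a = X.presheaf.germ U x hxU s * ↑htu.unit⁻¹ := by
      rw [← hst', mul_assoc, IsUnit.mul_val_inv, mul_one]
    rw [this]
    exact Ideal.mul_mem_right _ _ hgs

theorem main (X Y : Scheme.{u}) (f : X ⟶ Y)
    (I : X.IdealSheafData) (hI : IsNilpotent I)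
    (h : IsClosedImmersion ((I ^ 2).subschemeι ≫ f)) :
    IsClosedImmersion f := by
  obtain ⟨n, hn⟩ := hI
  have hN : I ^ (n + 2) = 0 := by rw [pow_add, hn, zero_mul]
  set j := (I ^ 2).subschemeι with hj
  have hsupp : (I ^ 2).support = ⊤ := by
    have h1 : (I ^ (n + 2)).support = I.support :=
      Scheme.IdealSheafData.support_pow I (n + 2) (by omega)
    have h2 : (I ^ 2).support = I.support := Scheme.IdealSheafData.support_pow I 2 (by omega)
    rw [h2, ← h1, hN]
    exact Scheme.IdealSheafData.support_bot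
  have hjsurj : Function.Surjective j := by
    rw [← Set.range_eq_univ, hj, Scheme.IdealSheafData.range_subschemeι, hsupp]
    rfl
  have hjemb : Topology.IsClosedEmbedding j := j.isClosedEmbedding
  let e : (I ^ 2).subscheme ≃ₜ X := hjemb.isEmbedding.toHomeomorphOfSurjective hjsurj
  have hcomp : Topology.IsClosedEmbedding (j ≫ f) := (j ≫ f).isClosedEmbedding
  have hf : Topology.IsClosedEmbedding f := by
    have : (f : X → Y) = (j ≫ f : (I ^ 2).subscheme → Y) ∘ e.symm := by
      funext x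
      obtain ⟨x₁, rfl⟩ := hjsurj x
      have : e.symm (j x₁) = x₁ := e.symm_apply_apply x₁
      simp only [Function.comp_apply, this]
      rfl
    rw [this]
    exact hcomp.comp e.symm.isClosedEmbedding
  refine { toSurjectiveOnStalks := ⟨fun x => ?_⟩, isClosedEmbedding := hf }
  obtain ⟨x₁, rfl⟩ := hjsurj x
  obtain ⟨K, hK, hker⟩ := ker_stalkMap_le I (n + 2) hN x₁
  have hs : Function.Surjective ((j ≫ f).stalkMap x₁) := (j ≫ f).stalkMap_surjective x₁
  rw [Scheme.Hom.stalkMap_comp] at hs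
  exact surjective_of_nilpotent (f.stalkMap (j x₁)).hom (j.stalkMap x₁).hom K (n + 2) hK hker hs

end Groth.Agent.Helper3.NilThick
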