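import Mathlib
import Groth.Agent.Helper3.NodeRed
import Groth.Agent.Helper5.LocDim2

set_option autoImplicit false
set_option linter.style.haveILetI false
set_option linter.unusedSectionVars false
set_option linter.unusedVariables false
set_option linter.deprecated false
set_option linter.style.haveILetI false
set_option linter.unusedSectionVars false
set_option linter.unusedVariables false

universe u

open CategoryTheory CategoryTheory.Limits AlgebraicGeometry IsLocalRing TopologicalSpace

namespace Groth.Agent.Helper3.NodalNormal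

open Groth.Agent.Helper3.NodeRed

/-- if all irreducible components have dimension `≤ d`, all local rings have dimension `≤ d` -/
theorem stalk_dim_le_of_components (T : Scheme.{u}) (d : WithBot ℕ∞)
    (h : ∀ Z ∈ irreducibleComponents (T : Type u), topologicalKrullDim Z ≤ d) (z : T) :
    ringKrullDim (T.presheaf.stalk z) ≤ d := by
  rw [ringKrullDim_stalk_eq_coheight]
  suffices hp : ∀ p : LTSeries T, ((p.length : ℕ∞) : WithBot ℕ∞) ≤ d by
    have h0 := hp (RelSeries.singleton _ z)
    have hd : d ≠ ⊥ := by
      intro hbot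
      rw [hbot] at h0
      exact absurd h0 (by simp)
    obtain ⟨n, rfl⟩ := WithBot.ne_bot_iff_exists.mp hd
    have : Order.coheight z ≤ n :=
      Order.coheight_le_iff'.mpr (fun p _ => by exact_mod_cast hp p)
    exact_mod_cast this
  intro p
  -- the component containing the last point
  let w := p.last
  have hirr : IsIrreducible (closure ({w} : Set T)) := isIrreducible_singleton.closure
  obtain ⟨Z, hZ, hwZ, hZmax⟩ := exists_preirreducible (closure ({w} : Set T)) hirr.isPreirreducible
  have hZc : Z ∈ irreducibleComponents (T : Type u) := by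
    refine ⟨⟨⟨w, hwZ (subset_closure rfl)⟩, hZ⟩, fun t ht hZt => ?_⟩
    exact (hZmax t ht.isPreirreducible hZt).le
  have hmem : ∀ i, p i ∈ Z := by
    intro i
    apply hwZ
    have : p i ≤ p.last := LTSeries.monotone p (Fin.le_last i)
    exact specializes_iff_mem_closure.mp (Scheme.le_iff_specializes.mp this)
  -- the chain in `Z`
  let F : ↥Z → IrreducibleCloseds ↥Z := fun a =>
    ⟨closure {a}, isIrreducible_singleton.closure, isClosed_closure⟩
  have hF : ∀ a b : ↥Z, (a : T) < b → F a < F b := by
    intro a b hab
    have h1 : (b : T) ⤳ a := Scheme.le_iff_specializes.mp hab.le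
    have h2 : ¬ (a : T) ⤳ b := fun h' => hab.not_ge (Scheme.le_iff_specializes.mpr h')
    have h1' : b ⤳ a := (Topology.IsInducing.subtypeVal.specializes_iff).mp h1
    have h2' : ¬ a ⤳ b := fun h' => h2 ((Topology.IsInducing.subtypeVal.specializes_iff).mpr h')
    rw [lt_iff_le_not_ge]
    constructor
    · show closure {a} ⊆ closure {b}
      exact (specializes_iff_closure_subset).mp h1'
    · intro hle
      exact h2' ((specializes_iff_closure_subset).mpr hle)
  let q : LTSeries (IrreducibleCloseds ↥Z) :=
    { length := p.length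
      toFun := fun i => F ⟨p i, hmem i⟩
      step := fun i => hF _ _ (p.step i) }
  have hq : ((q.length : ℕ∞) : WithBot ℕ∞) ≤ topologicalKrullDim ↥Z := Order.LTSeries.length_le_krullDim q
  exact hq.trans (h Z hZc)

/-- all local rings of an at-worst-nodal scheme over a field are reduced -/
theorem isReduced_stalk_of_atWorstNodal (k : Type u) [Field k] (T : Scheme.{u})
    [T.Over (Spec (CommRingCat.of k))] [LocallyOfFiniteType (T ↘ Spec (CommRingCat.of k))]
    (h : Curv2.AtWorstNodal k T) (y : T) : _root_.IsReduced (T.presheaf.stalk y) := by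
  haveI : JacobsonSpace T := LocallyOfFiniteType.jacobsonSpace (T ↘ Spec (CommRingCat.of k))
  obtain ⟨x, hxcl, hyx, -⟩ :=
    Groth.Agent.Helper5.LocDim.exists_closed_specialization Set.univ isOpen_univ y trivial
  haveI : _root_.IsReduced (T.presheaf.stalk x) := by
    rcases h x hxcl with ⟨U, hxU, hsm⟩ | hnode
    · haveI := hsm
      haveI : IsReduced (U : Scheme.{u}) :=
        Groth.Agent.Helper2.SmoothRegSch.isReduced_of_smooth k U
          (U.ι ≫ (T ↘ Spec (CommRingCat.of k)))
      have hiso : IsIso (U.ι.stalkMap ⟨x, hxU⟩) := inferInstance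
      exact isReduced_of_injective (U.ι.stalkMap ⟨x, hxU⟩).hom
        (ConcreteCategory.bijective_of_isIso (U.ι.stalkMap ⟨x, hxU⟩)).1
    · exact isReduced_stalk_of_isNode k T x hnode
  exact isReduced_stalk_of_specializes hyx

/-- a normal Noetherian local domain of dimension at most one is regular -/
theorem regular_of_normal_dim_le_one (A : Type u) [CommRing A] [IsDomain A] [IsNoetherianRing A]
    [IsLocalRing A] [IsIntegrallyClosed A] (h : ringKrullDim A ≤ 1) : IsRegularLocalRing A := by
  apply IsRegularLocalRing.of_spanFinrank_maximalIdeal_le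
  by_cases hfield : IsField A
  · have hm : maximalIdeal A = ⊥ := IsLocalRing.isField_iff_maximalIdeal_eq.mp hfield
    rw [hm]
    have h0 : (⊥ : Ideal A).spanFinrank = 0 := by
      have := Submodule.spanFinrank_span_le_ncard_of_finite (R := A) (M := A) Set.finite_empty
      simpa using this
    rw [h0]
    exact_mod_cast ringKrullDim_nonneg_of_nontrivial
  · haveI : Ring.KrullDimLE 1 A := by rw [Ring.krullDimLE_iff]; exact h
    have hm : maximalIdeal A ≠ ⊥ := fun hm => hfield (IsLocalRing.isField_iff_maximalIdeal_eq.mpr hm)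
    have hprin : (maximalIdeal A).IsPrincipal := by
      have h3 : IsIntegrallyClosed A ∧ ∀ P : Ideal A, P ≠ ⊥ → P.IsPrime → P = maximalIdeal A :=
        ⟨inferInstance, fun P hP hPp => IsLocalRing.eq_maximalIdeal (hPp.isMaximal_of_ne_bot hP)⟩
      exact ((tfae_of_isNoetherianRing_of_isLocalRing_of_isDomain A).out 3 4).mp h3
    obtain ⟨π, hπ⟩ := hprin.principal
    have hdim : (1 : WithBot ℕ∞) ≤ ringKrullDim A := by
      by_contra hlt
      push Not at hlt
      haveI : Ring.KrullDimLE 0 A := by
        rw [Ring.krullDimLE_iff]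
        obtain ⟨n, hn⟩ := WithBot.ne_bot_iff_exists.mp
          (ne_of_gt (lt_of_lt_of_le (WithBot.bot_lt_coe (0 : ℕ∞))
            (ringKrullDim_nonneg_of_nontrivial (R := A))))
        rw [← hn] at hlt ⊢
        have h1 : n < 1 := by exact_mod_cast hlt
        have h2 : n = 0 := ENat.lt_one_iff_eq_zero.mp h1
        rw [h2]; rfl
      exact hfield Ring.KrullDimLE.isField_of_isDomain
    refine le_trans ?_ hdim
    rw [hπ]
    have := Submodule.spanFinrank_span_le_ncard_of_finite (R := A) (M := A)
      (Set.finite_singleton π)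
    rw [Set.ncard_singleton] at this
    exact_mod_cast this

theorem main {R : Type u} [CommRing R] [IsDedekindDomain R]
    {X : Scheme.{u}} (f : X ⟶ Spec (CommRingCat.of R)) (hf : Curv2.IsNodalFamily f)
    (hgen : ∀ x : X, (f.base x).asIdeal = ⊥ →
      IsDomain (X.presheaf.stalk x) ∧ IsIntegrallyClosed (X.presheaf.stalk x)) :
    ∀ x : X, IsDomain (X.presheaf.stalk x) ∧ IsIntegrallyClosed (X.presheaf.stalk x) := by
  obtain ⟨hflat, hlfp, hfib⟩ := hf
  haveI := hflat
  haveI := hlfp
  haveI : IsLocallyNoetherian X := LocallyOfFiniteType.isLocallyNoetherian f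
  -- facts about the base local rings
  have hbase : ∀ s : Spec (CommRingCat.of R),
      IsDomain ((Spec (CommRingCat.of R)).presheaf.stalk s) ∧
        IsIntegrallyClosed ((Spec (CommRingCat.of R)).presheaf.stalk s) ∧
        (s.asIdeal ≠ ⊥ → maximalIdeal ((Spec (CommRingCat.of R)).presheaf.stalk s) ≠ ⊥) := by
    intro s
    letI : Algebra R ((Spec (CommRingCat.of R)).presheaf.stalk s) :=
      StructureSheaf.stalkAlgebra R s
    haveI : IsLocalization.AtPrime ((Spec (CommRingCat.of R)).presheaf.stalk s) s.asIdeal :=
      StructureSheaf.IsLocalization.to_stalk R s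
    have hle : s.asIdeal.primeCompl ≤ nonZeroDivisors R :=
      Ideal.primeCompl_le_nonZeroDivisors _
    haveI hd : IsDomain ((Spec (CommRingCat.of R)).presheaf.stalk s) :=
      IsLocalization.isDomain_of_le_nonZeroDivisors
        ((Spec (CommRingCat.of R)).presheaf.stalk s) hle
    refine ⟨hd, isIntegrallyClosed_of_isLocalization
      ((Spec (CommRingCat.of R)).presheaf.stalk s) s.asIdeal.primeCompl hle, ?_⟩
    intro hs hm
    apply hs
    have h1 := IsLocalization.AtPrime.comap_maximalIdeal
      ((Spec (CommRingCat.of R)).presheaf.stalk s) s.asIdeal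
    rw [hm] at h1
    rw [← h1]
    ext r
    simp only [Ideal.mem_comap, Ideal.mem_bot]
    exact (IsLocalization.to_map_eq_zero_iff _ hle)
  -- facts about the fibre rings
  have hfibre : ∀ y : X,
      letI := (f.stalkMap y).hom.toAlgebra
      _root_.IsReduced (EGA4.FibRing ((Spec (CommRingCat.of R)).presheaf.stalk (f y))
        (X.presheaf.stalk y)) ∧
      ringKrullDim (EGA4.FibRing ((Spec (CommRingCat.of R)).presheaf.stalk (f y))
        (X.presheaf.stalk y)) ≤ 1 := by
    intro y
    letI := (f.stalkMap y).hom.toAlgebra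
    obtain ⟨e⟩ := Groth.Agent.Helper5.CMFib.fibre_stalk_equiv' f y
    have e' : EGA4.FibRing ((Spec (CommRingCat.of R)).presheaf.stalk (f y))
        (X.presheaf.stalk y) ≃+* (f.fiber (f y)).presheaf.stalk (f.asFiber y) := e
    obtain ⟨hcomp, hnodal⟩ := hfib (f y)
    letI : (f.fiber (f y)).Over (Spec ((Spec (CommRingCat.of R)).residueField (f y))) :=
      ⟨f.fiberToSpecResidueField (f y)⟩
    haveI : LocallyOfFiniteType ((f.fiber (f y)) ↘
        Spec (CommRingCat.of ((Spec (CommRingCat.of R)).residueField (f y)))) :=
      (MorphismProperty.pullback_snd (P := @LocallyOfFiniteType) _ _ inferInstance :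
        LocallyOfFiniteType (f.fiberToSpecResidueField (f y)))
    haveI : _root_.IsReduced ((f.fiber (f y)).presheaf.stalk (f.asFiber y)) :=
      isReduced_stalk_of_atWorstNodal ((Spec (CommRingCat.of R)).residueField (f y))
        (f.fiber (f y)) hnodal (f.asFiber y)
    constructor
    · exact isReduced_of_injective e'.toRingHom e'.injective
    · rw [ringKrullDim_eq_of_ringEquiv e']
      exact stalk_dim_le_of_components (f.fiber (f y)) 1 (fun Z hZ => (hcomp Z hZ).le) _
  apply Groth.Agent.Helper3.FamNormal.isNormalScheme_of_local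
  · intro y hy
    by_cases hgy : (f.base y).asIdeal = ⊥
    · obtain ⟨h1, h2⟩ := hgen y hgy
      haveI := h1
      haveI := h2
      exact regular_of_normal_dim_le_one _ hy
    · letI := (f.stalkMap y).hom.toAlgebra
      haveI : IsLocalHom (algebraMap ((Spec (CommRingCat.of R)).presheaf.stalk (f y))
          (X.presheaf.stalk y)) := inferInstanceAs (IsLocalHom (f.stalkMap y).hom)
      haveI : Module.Flat ((Spec (CommRingCat.of R)).presheaf.stalk (f y)) (X.presheaf.stalk y) :=
        Flat.stalkMap f y
      obtain ⟨hd, hic, hne⟩ := hbase (f y)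
      haveI := hd
      haveI := hic
      obtain ⟨hr, hdim⟩ := hfibre y
      haveI := hr
      exact Groth.Agent.Helper3.FamNormal.core_R1 _ _ (hne hgy) hy
  · intro y
    by_cases hgy : (f.base y).asIdeal = ⊥
    · obtain ⟨h1, h2⟩ := hgen y hgy
      haveI := h1
      haveI := h2
      obtain ⟨n, hn⟩ := WithBot.ne_bot_iff_exists.mp
        (ne_of_gt (lt_of_lt_of_le (WithBot.bot_lt_coe (0 : ℕ∞))
          (ringKrullDim_nonneg_of_nontrivial (R := X.presheaf.stalk y))))
      have := Groth.Agent.Helper3.FamNormal.depth_normal (X.presheaf.stalk y) n hn.symm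
      rw [← hn]
      have h2 : ((min (2 : ℕ∞) n : ℕ∞) : WithBot ℕ∞) ≤
          ((LocCoh.depth (X.presheaf.stalk y) (X.presheaf.stalk y) : ℕ∞) : WithBot ℕ∞) :=
        WithBot.coe_le_coe.mpr this
      rwa [WithBot.coe_min] at h2
    · letI := (f.stalkMap y).hom.toAlgebra
      haveI : IsLocalHom (algebraMap ((Spec (CommRingCat.of R)).presheaf.stalk (f y))
          (X.presheaf.stalk y)) := inferInstanceAs (IsLocalHom (f.stalkMap y).hom)
      haveI : Module.Flat ((Spec (CommRingCat.of R)).presheaf.stalk (f y)) (X.presheaf.stalk y) :=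
        Flat.stalkMap f y
      obtain ⟨hd, hic, hne⟩ := hbase (f y)
      haveI := hd
      haveI := hic
      obtain ⟨hr, hdim⟩ := hfibre y
      haveI := hr
      exact Groth.Agent.Helper3.FamNormal.core_S2 _ _ hdim

end Groth.Agent.Helper3.NodalNormal
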