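import Mathlib
import Groth.Agent.Helper3.NormGlue1
import Groth.Agent.Helper3.NormGlue2

set_option autoImplicit false
set_option linter.style.haveILetI false
set_option linter.unusedSectionVars false
set_option linter.unusedVariables false
set_option linter.deprecated false
set_option linter.style.haveILetI false
set_option linter.unusedSectionVars false
set_option linter.unusedVariables false

universe u

open CategoryTheory CategoryTheory.Limits AlgebraicGeometry TopologicalSpace Opposite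

namespace Groth.Agent.Helper3.NormGlue3

open Groth.Agent.Helper3.NormGlue1 Groth.Agent.Helper3.NormGlue2

theorem hinj_opens {X : Scheme.{u}} [IsIntegral X] (U : X.Opens) [hU : Nonempty U] (W : X.Opens) :
    Function.Injective (U.ι.app W).hom := by
  rw [Scheme.Opens.ι_app]
  rcases isEmpty_or_nonempty ↥(U.ι ''ᵁ U.ι ⁻¹ᵁ W) with hE | hNE
  · -- then W is empty
    have hWE : IsEmpty W := by
      constructor
      rintro ⟨w, hw⟩
      obtain ⟨⟨u, hu⟩⟩ := hU
      obtain ⟨z, hzW, hzU⟩ := nonempty_preirreducible_inter W.isOpen U.isOpen ⟨w, hw⟩ ⟨u, hu⟩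
      exact hE.false ⟨z, ⟨⟨z, hzU⟩, hzW, rfl⟩⟩
    have hss := subsingleton_of_isEmpty W hWE
    intro a b _
    exact @Subsingleton.elim _ hss a b
  · exact map_injective_of_isIntegral X (H := ⟨⟨hNE.some.1, hNE.some.2⟩⟩) _

theorem hcl_opens {X : Scheme.{u}} [IsIntegral X]
    (hN : ∀ x : X, IsIntegrallyClosed (X.presheaf.stalk x)) (U : X.Opens) [hU : Nonempty U]
    (W : X.Opens) {R : Type u} [CommRing R] (g : R →+* Γ(X, W)) (t : Γ(U, U.ι ⁻¹ᵁ W))
    (ht : ((U.ι.app W).hom.comp g).IsIntegralElem t) : t ∈ Set.range (U.ι.app W).hom := by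
  have hBW : U.ι ''ᵁ U.ι ⁻¹ᵁ W ≤ W := Set.image_preimage_subset _ _
  have ht' : (X.presheaf.map (homOfLE hBW).op).hom.IsIntegralElem t := by
    obtain ⟨P, hP, hPt⟩ := ht
    refine ⟨P.map g, hP.map _, ?_⟩
    rw [Polynomial.eval₂_map]
    exact hPt
  obtain ⟨s, hs⟩ := exists_extension hN W (U.ι ''ᵁ U.ι ⁻¹ᵁ W) U hBW hU
    (fun x hxW hxU => ⟨⟨x, hxU⟩, hxW, rfl⟩) t ht'
  exact ⟨s, hs⟩

theorem isIso_cmp_opens {X Y : Scheme.{u}} [IsIntegral X]
    (hN : ∀ x : X, IsIntegrallyClosed (X.presheaf.stalk x)) (f : X ⟶ Y) [QuasiCompact f]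
    [QuasiSeparated f] (U : X.Opens) [Nonempty U] [QuasiCompact (U.ι ≫ f)]
    [QuasiSeparated (U.ι ≫ f)] : IsIso (cmp f U.ι) :=
  isIso_cmp f U.ι (fun V _ => hinj_opens U (f ⁻¹ᵁ V))
    (fun V _ t ht => hcl_opens hN U (f ⁻¹ᵁ V) (f.app V).hom t ht)

theorem main {X Y : Scheme.{u}} [IsIntegral X] [IsIntegral Y]
    (hN : ∀ x : X, IsIntegrallyClosed (X.presheaf.stalk x)) (f : X ⟶ Y) [IsDominant f]
    [LocallyQuasiFinite f] [LocallyOfFiniteType f] [QuasiCompact f] [QuasiSeparated f] :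
    IsLocalIso f.toNormalization ∧ (IsOpenImmersion f.toNormalization ↔ IsSeparated f) := by
  refine ⟨⟨fun x => ?_⟩, ⟨fun h => ?_, fun h => inferInstance⟩⟩
  · obtain ⟨_, ⟨(V : Y.Opens), hV, rfl⟩, hxV, -⟩ := Y.isBasis_affineOpens.exists_subset_of_mem_open
      (Set.mem_univ (f x)) isOpen_univ
    let fV : pullback f V.ι ⟶ V := pullback.snd f V.ι
    let jV : pullback f V.ι ⟶ X := pullback.fst f V.ι
    have hxr : x ∈ Set.range jV := by
      rw [Scheme.Pullback.range_fst]
      show f x ∈ Set.range V.ι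
      rw [Scheme.Opens.range_ι]
      exact hxV
    obtain ⟨x', rfl⟩ := hxr
    haveI : Nonempty ↑(pullback f V.ι) := ⟨x'⟩
    haveI : IsIntegral (pullback f V.ι) := isIntegral_of_isOpenImmersion jV
    have hNV : ∀ z : ↑(pullback f V.ι), IsIntegrallyClosed ((pullback f V.ι).presheaf.stalk z) :=
      fun z => by
        haveI := hN (jV z)
        exact IsIntegrallyClosed.of_equiv (asIso (jV.stalkMap z)).commRingCatIsoToRingEquiv
    obtain ⟨_, ⟨(U' : (pullback f V.ι).Opens), hU', rfl⟩, hxU', -⟩ :=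
      (pullback f V.ι).isBasis_affineOpens.exists_subset_of_mem_open (Set.mem_univ x') isOpen_univ
    haveI : Nonempty U' := ⟨⟨x', hxU'⟩⟩
    haveI : IsAffine (V : Scheme) := hV
    haveI : IsAffine (U' : Scheme) := hU'
    haveI : IsAffineHom (U'.ι ≫ fV) := isAffineHom_of_isAffine _
    haveI : IsOpenImmersion (U'.ι ≫ fV).toNormalization := inferInstance
    haveI := isIso_cmp_opens hNV fV U'
    have e1 : (U'.ι ≫ fV).toNormalization ≫ cmp fV U'.ι = U'.ι ≫ fV.toNormalization :=
      toNorm_cmp fV U'.ι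
    haveI : IsOpenImmersion (U'.ι ≫ fV.toNormalization) := by rw [← e1]; infer_instance
    have e2 : fV.toNormalization ≫ f.normalizationPullback V.ι ≫ pullback.fst _ _ =
        jV ≫ f.toNormalization := f.toNormalization_normalizationPullback_fst V.ι
    haveI : IsOpenImmersion ((U'.ι ≫ jV) ≫ f.toNormalization) := by
      have : (U'.ι ≫ jV) ≫ f.toNormalization = (U'.ι ≫ fV.toNormalization) ≫
          f.normalizationPullback V.ι ≫ pullback.fst f.fromNormalization V.ι := by
        rw [Category.assoc, ← e2, Category.assoc]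
      rw [this]; infer_instance
    refine ⟨(U'.ι ≫ jV).opensRange, ⟨⟨x', hxU'⟩, rfl⟩, ?_⟩
    have hι : (U'.ι ≫ jV).opensRange.ι =
        (Scheme.Hom.isoOpensRange (U'.ι ≫ jV)).inv ≫ (U'.ι ≫ jV) := by
      rw [Iso.eq_inv_comp]; simp
    rw [hι, Category.assoc]
    infer_instance
  · rw [← f.toNormalization_fromNormalization]
    infer_instance

end Groth.Agent.Helper3.NormGlue3
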