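import Mathlib
import Groth.Prelude
import Groth.Agent.Helper3.ComplCurve
import Groth.Agent.Helper3.QProj1
import Groth.Agent.S7616
import Groth.Agent.Helper8.NormDVRB
import Groth.Agent.Helper5.NormFin3
import Groth.Agent.Helper3.CurveFlat
import Groth.Agent.Helper3.Dim1Top

set_option autoImplicit false
set_option linter.style.haveILetI false
set_option linter.unusedSectionVars false
set_option linter.unusedVariables false
set_option linter.deprecated false
set_option linter.style.haveILetI false
set_option linter.unusedSectionVars false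
set_option linter.unusedVariables false

universe u

open CategoryTheory CategoryTheory.Limits AlgebraicGeometry TopologicalSpace Opposite

namespace Groth.Agent.Helper3.NormInfA

/-- a point outside a dense open subset of a scheme of dimension `≤ 1` has a local ring of
dimension exactly one. -/
theorem ringKrullDim_stalk_eq_one (Y : Scheme.{u}) [NoetherianSpace Y] (hdim : topologicalKrullDim Y ≤ 1)
    (U : Y.Opens) (hU : Dense (U : Set Y)) (y : Y) (hy : y ∉ U) :
    ringKrullDim (Y.presheaf.stalk y) = 1 := by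
  apply le_antisymm ((Groth.Agent.Helper3.CurveFlat.ringKrullDim_stalk_le Y y).trans hdim)
  rw [ringKrullDim_stalk_eq_coheight]
  have hnm : ¬ IsMax y := by
    intro hmax
    obtain ⟨η, hη, hηy⟩ := Groth.Agent.Helper3.Dim1Top.exists_generic_specializes y
    have hηU : η ∈ (U : Set Y) :=
      Groth.Agent.Helper3.ComplCurve.genericPoints_subset_of_dense (U : Set Y) U.isOpen hU hη
    have hle : y ≤ η := hηy
    have hle' : η ≤ y := hmax hle
    have hsp : y ⤳ η := hle'
    exact hy (hsp.mem_open U.isOpen hηU)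
  have h0 : Order.coheight y ≠ 0 := fun h => hnm (Order.coheight_eq_zero.mp h)
  have h1 : (1 : ℕ∞) ≤ Order.coheight y := ENat.one_le_iff_ne_zero.mpr h0
  exact_mod_cast h1

theorem main (k : Type u) [Field k] (X : Scheme.{u}) [X.Over (Spec (CommRingCat.of k))]
    [IsReduced X] [IsSeparated (X ↘ (Spec (CommRingCat.of k)))]
    [LocallyOfFiniteType (X ↘ (Spec (CommRingCat.of k)))]
    [QuasiCompact (X ↘ (Spec (CommRingCat.of k)))] (hdim : topologicalKrullDim X ≤ 1) :
    ∃ (d : ℕ) (Y : Scheme.{u}) (c : Y ⟶ CohB1.ProjSpace d k) (j : X ⟶ Y), IsClosedImmersion c ∧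
      IsOpenImmersion j ∧
      j ≫ c ≫ CohB1.ProjSpace.toSpec d k = X ↘ (Spec (CommRingCat.of k)) ∧
      Dense (Set.range j.base) ∧ IsSchemeTheoreticallyDominant j ∧
      (Set.range j.base)ᶜ.Finite ∧ ∀ y ∈ (Set.range j.base)ᶜ, IsClosed ({y} : Set Y) ∧
        ∃ _ : IsDomain (Y.presheaf.stalk y), IsDiscreteValuationRing (Y.presheaf.stalk y) := by
  obtain ⟨d₀, Y₀, c₀, j₀, hc₀, hj₀, hcomp₀, hdense₀, -, -, -⟩ :=
    Groth.Agent.Helper3.ComplCurve.main k X hdim
  haveI := Groth.Agent.Helper3.QProj1.isNoetherian_of_lft k X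
  haveI := Groth.Agent.Helper6.HProj.isProper_toSpec d₀ k
  let s₀ : Y₀ ⟶ Spec (CommRingCat.of k) := c₀ ≫ CohB1.ProjSpace.toSpec d₀ k
  haveI : IsProper s₀ := inferInstance
  letI : Y₀.Over (Spec (CommRingCat.of k)) := ⟨s₀⟩
  haveI : IsProper (Y₀ ↘ (Spec (CommRingCat.of k))) := (inferInstance : IsProper s₀)
  haveI : LocallyOfFiniteType (Y₀ ↘ (Spec (CommRingCat.of k))) :=
    (inferInstance : LocallyOfFiniteType s₀)
  haveI : QuasiCompact (Y₀ ↘ (Spec (CommRingCat.of k))) := (inferInstance : QuasiCompact s₀)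
  haveI : IsNoetherian Y₀ := Groth.Agent.Helper3.QProj1.isNoetherian_of_lft k Y₀
  haveI : j₀.IsOver (Spec (CommRingCat.of k)) := ⟨hcomp₀⟩
  haveI : QuasiCompact j₀ := inferInstance
  haveI : QuasiSeparated j₀ := inferInstance
  haveI : IsFinite j₀.fromNormalization := Groth.Agent.S7616.result k Y₀ X j₀
  haveI : IsOpenImmersion j₀.toNormalization := inferInstance
  let q : j₀.normalization ⟶ Spec (CommRingCat.of k) := j₀.fromNormalization ≫ s₀
  haveI : IsProper q := inferInstance
  letI : (j₀.normalization).Over (Spec (CommRingCat.of k)) := ⟨q⟩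
  haveI : IsProper (j₀.normalization ↘ (Spec (CommRingCat.of k))) := (inferInstance : IsProper q)
  haveI : LocallyOfFiniteType (j₀.normalization ↘ (Spec (CommRingCat.of k))) :=
    (inferInstance : LocallyOfFiniteType q)
  haveI : QuasiCompact (j₀.normalization ↘ (Spec (CommRingCat.of k))) :=
    (inferInstance : QuasiCompact q)
  haveI : IsNoetherian j₀.normalization :=
    Groth.Agent.Helper3.QProj1.isNoetherian_of_lft k j₀.normalization
  have hdense : Dense (Set.range j₀.toNormalization) := j₀.toNormalization.denseRange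
  have hdimY₀ : topologicalKrullDim Y₀ ≤ 1 :=
    Groth.Agent.Helper3.ComplCurve.dim_le_of_dense_open k s₀ j₀ hdense₀ 1 hdim
  have hdimY : topologicalKrullDim j₀.normalization ≤ 1 :=
    Groth.Agent.Helper3.ComplCurve.dim_le_of_dense_open k q j₀.toNormalization hdense 1 hdim
  obtain ⟨hfin, hcl⟩ := Groth.Agent.Helper3.ComplCurve.finite_compl_of_dense_open
    j₀.normalization hdimY j₀.toNormalization.opensRange hdense
  obtain ⟨n, c, hc, hccomp⟩ := Groth.Agent.Helper3.QProj1.projective k j₀.normalization hdimY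
  refine ⟨n, j₀.normalization, c, j₀.toNormalization, hc, inferInstance, ?_, hdense,
    ⟨j₀.ker_toNormalization⟩, hfin, fun y hy => ⟨hcl y hy, ?_⟩⟩
  · rw [hccomp]
    show j₀.toNormalization ≫ j₀.fromNormalization ≫ s₀ = _
    rw [← Category.assoc, j₀.toNormalization_fromNormalization]
    exact hcomp₀
  · haveI : LocallyOfFiniteType j₀ := inferInstance
    have hy' : y ∉ j₀.toNormalization.opensRange := hy
    have hd1 := ringKrullDim_stalk_eq_one j₀.normalization hdimY j₀.toNormalization.opensRange
      hdense y hy'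
    exact Groth.Agent.Helper8.NormDVR.main j₀
      (fun U => Groth.Agent.Helper5.NormFin.isNagata_of_locallyOfFiniteType k Y₀ s₀ U.1 U.2)
      y hd1 hy

end Groth.Agent.Helper3.NormInfA
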