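import Mathlib
import Groth.Prelude
import Groth.Agent.Helper3.NormInfA
import Groth.Agent.Helper5.LocDim2
import Groth.Agent.Helper5.EtDim
import Groth.Agent.Lead.RatDom

set_option autoImplicit false
set_option linter.style.haveILetI false
set_option linter.unusedSectionVars false
set_option linter.unusedVariables false
set_option linter.deprecated false
set_option linter.style.haveILetI false
set_option linter.unusedSectionVars false
set_option linter.unusedVariables false

universe u

open CategoryTheory CategoryTheory.Limits AlgebraicGeometry TopologicalSpace Opposite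

namespace Groth.Agent.Helper3.NormInfC

/-- a Jacobson scheme whose closed points have local rings of dimension `≤ d` has dimension `≤ d` -/
theorem dim_le_of_closedPoints (X : Scheme.{u}) [JacobsonSpace X] (d : WithBot ℕ∞)
    (h : ∀ x : X, IsClosed ({x} : Set X) → ringKrullDim (X.presheaf.stalk x) ≤ d) :
    topologicalKrullDim X ≤ d := by
  rw [Groth.Agent.Helper5.EtDim.topologicalKrullDim_eq_iSup_coheight]
  refine iSup_le fun x => ?_
  obtain ⟨s, hs, hsp, -⟩ :=
    Groth.Agent.Helper5.LocDim.exists_closed_specialization Set.univ isOpen_univ x trivial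
  rw [← ringKrullDim_stalk_eq_coheight]
  exact (Groth.Agent.Lead.RatDom.ringKrullDim_stalk_mono hsp).trans (h s hs)

/-- S4444: a normal curve over a field has a normal completion -/
theorem main (k : Type u) [Field k] (X : Scheme.{u})
    [X.Over (Spec (CommRingCat.of k))] [LocallyOfFiniteType (X ↘ (Spec (CommRingCat.of k)))]
    [QuasiCompact (X ↘ (Spec (CommRingCat.of k)))] [IsSeparated (X ↘ (Spec (CommRingCat.of k)))]
    (hcurve : ∀ x : X, IsClosed ({x} : Set X) → ringKrullDim (X.presheaf.stalk x) = 1)
    (hnorm : Pi1.IsNormalScheme X) :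
    ∃ (Xc : Scheme.{u}) (sc : Xc ⟶ Spec (CommRingCat.of k)) (j : X ⟶ Xc), IsOpenImmersion j ∧
      Dense (Set.range j.base) ∧
      j ≫ sc = X ↘ (Spec (CommRingCat.of k)) ∧ IsProper sc ∧ Pi1.IsNormalScheme Xc ∧
      ∀ x : Xc, IsClosed ({x} : Set Xc) → ringKrullDim (Xc.presheaf.stalk x) = 1 := by
  haveI : JacobsonSpace X := LocallyOfFiniteType.jacobsonSpace (X ↘ (Spec (CommRingCat.of k)))
  have hdim : topologicalKrullDim X ≤ 1 :=
    dim_le_of_closedPoints X 1 (fun x hx => (hcurve x hx).le)
  haveI : IsReduced X := by
    refine @isReduced_of_isReduced_stalk X (fun x => ?_)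
    haveI := (hnorm x).1
    infer_instance
  obtain ⟨d, Y, c, j, hc, hj, hcomp, hdense, -, -, hinf⟩ :=
    Groth.Agent.Helper3.NormInfA.main k X hdim
  haveI := Groth.Agent.Helper6.HProj.isProper_toSpec d k
  refine ⟨Y, c ≫ CohB1.ProjSpace.toSpec d k, j, hj, hdense, hcomp, inferInstance, ?_, ?_⟩
  · intro y
    by_cases hy : y ∈ Set.range j.base
    · obtain ⟨x, rfl⟩ := hy
      have e : Y.presheaf.stalk (j.base x) ≅ X.presheaf.stalk x := asIso (j.stalkMap x)
      let e' : X.presheaf.stalk x ≃+* Y.presheaf.stalk (j.base x) :=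
        e.symm.commRingCatIsoToRingEquiv
      haveI := (hnorm x).1
      haveI := (hnorm x).2
      haveI : IsDomain (Y.presheaf.stalk (j.base x)) := e'.isDomain_iff.mp inferInstance
      exact ⟨inferInstance, IsIntegrallyClosed.of_equiv e'⟩
    · obtain ⟨-, hd, hdvr⟩ := hinf y hy
      haveI := hd
      haveI := hdvr
      exact ⟨inferInstance, inferInstance⟩
  · intro y hycl
    by_cases hy : y ∈ Set.range j.base
    · obtain ⟨x, rfl⟩ := hy
      have hxcl : IsClosed ({x} : Set X) := by
        have h1 : j.base ⁻¹' {j.base x} = {x} := by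
          ext z
          simp only [Set.mem_preimage, Set.mem_singleton_iff]
          exact ⟨fun h => j.isOpenEmbedding.injective h, fun h => by rw [h]⟩
        rw [← h1]
        exact hycl.preimage j.base.hom.continuous
      have e : Y.presheaf.stalk (j.base x) ≅ X.presheaf.stalk x := asIso (j.stalkMap x)
      rw [ringKrullDim_eq_of_ringEquiv e.commRingCatIsoToRingEquiv]
      exact hcurve x hxcl
    · obtain ⟨-, hd, hdvr⟩ := hinf y hy
      haveI := hd
      haveI := hdvr
      exact IsDiscreteValuationRing.ringKrullDim_eq_one _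

end Groth.Agent.Helper3.NormInfC
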