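import Mathlib
import Groth.Agent.Helper6.PrinRad2
import Groth.Agent.Helper3.FlatColon

set_option linter.style.haveILetI false
set_option linter.unusedSectionVars false
set_option linter.unusedVariables false
set_option linter.style.haveILetI false
set_option linter.unusedSectionVars false
set_option linter.unusedVariables false

namespace Groth.Agent.Helper3.NthRoot

open Groth.Agent.Helper6.PrinRad

universe u

section A
variable {A : Type u} [CommRing A] [IsDomain A] [IsNoetherianRing A] [IsIntegrallyClosed A]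

theorem exists_mul_eq_of_ord_le (p : Ideal A) [p.IsPrime] (hp : p.height = 1) (a b : A)
    (h : ord p hp a ≤ ord p hp b) : ∃ s c : A, s ∉ p ∧ s * b = a * c := by
  haveI := dvr p hp
  simp only [ord] at h
  obtain ⟨z, hz⟩ := IsDiscreteValuationRing.addVal_le_iff_dvd.1 h
  obtain ⟨⟨c, s⟩, hmk⟩ := IsLocalization.mk'_surjective p.primeCompl z
  refine ⟨s, c, s.2, ?_⟩
  apply IsLocalization.injective (Localization.AtPrime p) p.primeCompl_le_nonZeroDivisors
  rw [map_mul, map_mul, hz, ← hmk, mul_left_comm, IsLocalization.mk'_spec']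

theorem ord_ne_top (p : Ideal A) [p.IsPrime] (hp : p.height = 1) {a : A} (ha : a ≠ 0) :
    ord p hp a ≠ ⊤ := fun h => ha ((ord_eq_top_iff p hp a).1 h)

theorem ord_le_of_dvd (p : Ideal A) [p.IsPrime] (hp : p.height = 1) {a b : A} (h : a ∣ b) :
    ord p hp a ≤ ord p hp b := by
  obtain ⟨c, rfl⟩ := h
  rw [ord_mul]
  exact le_self_add

theorem ord_eq_zero_of_not_mem (p : Ideal A) [p.IsPrime] (hp : p.height = 1) {a : A} (h : a ∉ p) :
    ord p hp a = 0 := (ord_eq_zero_iff p hp a).2 h

end A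

section AB
variable {A B : Type u} [CommRing A] [IsDomain A] [IsNoetherianRing A] [IsIntegrallyClosed A]
  [CommRing B] [IsDomain B] [IsNoetherianRing B] [IsIntegrallyClosed B] [Algebra A B]

theorem ord_le_ord_of_le (p : Ideal A) [p.IsPrime] (hp : p.height = 1)
    (Q : Ideal B) [Q.IsPrime] (hQ : Q.height = 1) (hQp : Q.comap (algebraMap A B) = p)
    (a b : A) (h : ord p hp a ≤ ord p hp b) :
    ord Q hQ (algebraMap A B a) ≤ ord Q hQ (algebraMap A B b) := by
  obtain ⟨s, c, hs, hsc⟩ := exists_mul_eq_of_ord_le p hp a b h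
  have hs' : algebraMap A B s ∉ Q := fun hmem => hs (by rw [← hQp]; exact hmem)
  have h1 : ord Q hQ (algebraMap A B s * algebraMap A B b) =
      ord Q hQ (algebraMap A B a * algebraMap A B c) := by
    rw [← map_mul, ← map_mul, hsc]
  rw [ord_mul, ord_mul, ord_eq_zero_of_not_mem Q hQ hs', zero_add] at h1
  rw [h1]
  exact le_self_add

theorem ord_eq_ord_of_eq (p : Ideal A) [p.IsPrime] (hp : p.height = 1)
    (Q : Ideal B) [Q.IsPrime] (hQ : Q.height = 1) (hQp : Q.comap (algebraMap A B) = p)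
    (a b : A) (h : ord p hp a = ord p hp b) :
    ord Q hQ (algebraMap A B a) = ord Q hQ (algebraMap A B b) :=
  le_antisymm (ord_le_ord_of_le p hp Q hQ hQp a b h.le) (ord_le_ord_of_le p hp Q hQ hQp b a h.ge)

/-- weakly unramified: a uniformizer stays a uniformizer -/
theorem ord_uniformizer (p : Ideal A) [p.IsPrime] (hp : p.height = 1)
    (q : Ideal B) [q.IsPrime] (hq : q.height = 1) (hqp : q.comap (algebraMap A B) = p)
    (hmax : Ideal.map (algebraMap B (Localization.AtPrime q)) (Ideal.map (algebraMap A B) p) =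
          IsLocalRing.maximalIdeal (Localization.AtPrime q))
    (t : A) (ht : ord p hp t = 1) : ord q hq (algebraMap A B t) = 1 := by
  haveI := dvr q hq
  have htp : t ∈ p := by rw [← one_le_ord_iff p hp, ht]
  simp only [ord]
  apply IsDiscreteValuationRing.addVal_uniformizer
  rw [IsDiscreteValuationRing.irreducible_iff_uniformizer, ← hmax]
  apply le_antisymm
  · rw [Ideal.map_le_iff_le_comap, Ideal.map_le_iff_le_comap]
    intro x hx
    rw [Ideal.mem_comap, Ideal.mem_comap, Ideal.mem_span_singleton]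
    have h1 : ord p hp t ≤ ord p hp x := by rw [ht, one_le_ord_iff]; exact hx
    obtain ⟨s, c, hs, hsc⟩ := exists_mul_eq_of_ord_le p hp t x h1
    have hs' : algebraMap A B s ∉ q := fun hmem => hs (by rw [← hqp]; exact hmem)
    have hu : IsUnit (algebraMap B (Localization.AtPrime q) (algebraMap A B s)) :=
      IsLocalization.map_units (Localization.AtPrime q) (⟨_, hs'⟩ : q.primeCompl)
    obtain ⟨u, hu⟩ := hu
    refine ⟨algebraMap B (Localization.AtPrime q) (algebraMap A B c) * ↑u⁻¹, ?_⟩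
    have h2 : algebraMap B (Localization.AtPrime q) (algebraMap A B s) *
        algebraMap B (Localization.AtPrime q) (algebraMap A B x) =
        algebraMap B (Localization.AtPrime q) (algebraMap A B t) *
        algebraMap B (Localization.AtPrime q) (algebraMap A B c) := by
      rw [← map_mul, ← map_mul, ← map_mul, ← map_mul, hsc]
    rw [← hu] at h2
    have h3 : algebraMap B (Localization.AtPrime q) (algebraMap A B x) =
        ↑u⁻¹ * ((u : Localization.AtPrime q) *
          algebraMap B (Localization.AtPrime q) (algebraMap A B x)) := by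
      rw [← mul_assoc, Units.inv_mul, one_mul]
    rw [h3, h2]; ring
  · rw [Ideal.span_singleton_le_iff_mem]
    exact Ideal.mem_map_of_mem _ (Ideal.mem_map_of_mem _ htp)

theorem ord_eq_of_weaklyUnramified (p : Ideal A) [p.IsPrime] (hp : p.height = 1)
    (q : Ideal B) [q.IsPrime] (hq : q.height = 1) (hqp : q.comap (algebraMap A B) = p)
    (hmax : Ideal.map (algebraMap B (Localization.AtPrime q)) (Ideal.map (algebraMap A B) p) =
          IsLocalRing.maximalIdeal (Localization.AtPrime q))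
    (a : A) (ha : a ≠ 0) : ord q hq (algebraMap A B a) = ord p hp a := by
  obtain ⟨t, htp, ht⟩ := exists_ord_eq_one p hp
  have h1 := ord_uniformizer p hp q hq hqp hmax t ht
  have hv := ord_ne_top p hp ha
  obtain ⟨v, hv⟩ := ENat.ne_top_iff_exists.1 hv
  have h2 : ord p hp a = ord p hp (t ^ v) := by
    rw [ord_pow, ht, ← hv]; simp
  rw [ord_eq_ord_of_eq p hp q hq hqp a (t ^ v) h2, map_pow, ord_pow, h1, h2, ord_pow, ht]

end AB

section main
variable (A B : Type u) [CommRing A] [IsDomain A]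
    [IsNoetherianRing A] [IsLocalRing A] [IsIntegrallyClosed A] [CommRing B] [IsDomain B]
    [IsNoetherianRing B] [IsLocalRing B] [IsIntegrallyClosed B] [Algebra A B]
    [IsLocalHom (algebraMap A B)] [Module.Flat A B]

theorem main (f : A) (h : B) (n : ℕ) (hn : 1 < n) (w : Bˣ) (hf : algebraMap A B f = (w : B) * h ^ n)
    (hram : ∀ (p : Ideal A) [p.IsPrime], p.height = 1 →
      ∃ (q : Ideal B) (_ : q.IsPrime), q.height = 1 ∧ q.comap (algebraMap A B) = p ∧
        Ideal.map (algebraMap B (Localization.AtPrime q)) (Ideal.map (algebraMap A B) p) =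
          IsLocalRing.maximalIdeal (Localization.AtPrime q)) :
    ∃ (g : A) (u : Aˣ), f = (u : A) * g ^ n := by
  have hn0 : n ≠ 0 := by omega
  by_cases hf0 : f = 0
  · exact ⟨0, 1, by rw [hf0, zero_pow hn0, mul_zero]⟩
  haveI : Module.FaithfullyFlat A B := Module.FaithfullyFlat.of_flat_of_isLocalHom
  have hinj : Function.Injective (algebraMap A B) := FaithfulSMul.algebraMap_injective A B
  have hf0' : algebraMap A B f ≠ 0 := fun h0 => hf0 (hinj (by rw [h0, map_zero]))
  have hh0 : h ≠ 0 := by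
    rintro rfl
    rw [zero_pow hn0, mul_zero] at hf
    exact hf0' hf
  have hwQ : ∀ (Q : Ideal B) [Q.IsPrime], (w : B) ∉ Q := fun Q hQ hmem =>
    hQ.ne_top (Ideal.eq_top_of_isUnit_mem _ hmem w.isUnit)
  -- (iii)
  have hdiv : ∀ (p : Ideal A) [p.IsPrime] (hp : p.height = 1),
      ∃ k : ℕ, ord p hp f = ((n * k : ℕ) : ℕ∞) := by
    intro p _ hp
    obtain ⟨q, hqprime, hq, hqp, hmax⟩ := hram p hp
    haveI := hqprime
    have h1 := ord_eq_of_weaklyUnramified p hp q hq hqp hmax f hf0
    rw [hf, ord_mul, ord_pow, ord_eq_zero_of_not_mem q hq (hwQ q), zero_add] at h1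
    obtain ⟨k, hk⟩ := ENat.ne_top_iff_exists.1 (ord_ne_top q hq hh0)
    refine ⟨k, ?_⟩
    rw [← h1, ← hk, nsmul_eq_mul]
    push_cast
    rfl
  -- (A)
  have hA : ∀ (p : Ideal A) [p.IsPrime], p.height ≤ 1 → ∃ a d : A, a ^ n = f * d ∧ d ∉ p := by
    intro p hpp hp
    by_cases hfp : f ∈ p
    · have hp1 : p.height = 1 := by
        refine le_antisymm hp ?_
        rw [Order.one_le_iff_pos, pos_iff_ne_zero, Ne, Ideal.height_eq_zero_iff_eq_bot]
        rintro rfl
        exact hf0 hfp
      obtain ⟨k, hk⟩ := hdiv p hp1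
      obtain ⟨t, htp, ht⟩ := exists_ord_eq_one p hp1
      have h1 : ord p hp1 f ≤ ord p hp1 (t ^ (n * k)) := by
        rw [ord_pow, ht, hk]; simp
      obtain ⟨s, c, hs, hsc⟩ := exists_mul_eq_of_ord_le p hp1 f (t ^ (n * k)) h1
      have hc : c ∉ p := by
        rw [← ord_eq_zero_iff p hp1]
        have h2 : ord p hp1 (s * t ^ (n * k)) = ord p hp1 (f * c) := by rw [hsc]
        rw [ord_mul, ord_mul, ord_eq_zero_of_not_mem p hp1 hs, zero_add, ord_pow, ht, hk,
          nsmul_eq_mul, mul_one] at h2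
        have h3 : ((n * k : ℕ) : ℕ∞) + 0 = ((n * k : ℕ) : ℕ∞) + ord p hp1 c := by
          rw [add_zero]; exact h2
        exact (ENat.add_right_injective_of_ne_top (ENat.coe_ne_top _) h3).symm
      refine ⟨s * t ^ k, s ^ (n - 1) * c, ?_, ?_⟩
      · have e1 : s ^ n = s ^ (n - 1) * s := by
          rw [← pow_succ, Nat.sub_add_cancel (by omega)]
        rw [mul_pow, e1, ← pow_mul, mul_comm k n, mul_assoc, hsc]; ring
      · intro hmem
        rcases hpp.mem_or_mem hmem with h | h
        · exact hs (hpp.mem_of_pow_mem _ h)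
        · exact hc h
    · refine ⟨f, f ^ (n - 1), ?_, ?_⟩
      · rw [← pow_succ', Nat.sub_add_cancel (by omega)]
      · intro hmem; exact hfp (hpp.mem_of_pow_mem _ hmem)
  -- the set I and the ideal J
  set Iset : Set A := {a | f ∣ a ^ n} with hIset
  set J : Ideal A := (Ideal.span {f}).colon Iset with hJ
  have hJmem : ∀ x, x ∈ J ↔ ∀ a ∈ Iset, f ∣ x * a := by
    intro x
    rw [hJ, Submodule.mem_colon]
    simp only [smul_eq_mul, Ideal.mem_span_singleton]
  -- (E0)
  have hE0 : ∀ a ∈ Iset, a ^ (n - 1) ∈ J := by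
    intro a ha
    rw [hJmem]
    intro b hb
    rw [← IsIntegrallyClosed.pow_dvd_pow_iff hn0]
    have e1 : (a ^ (n - 1) * b) ^ n = (a ^ n) ^ (n - 1) * b ^ n := by ring
    have e2 : f ^ n = f ^ (n - 1) * f := by rw [← pow_succ, Nat.sub_add_cancel (by omega)]
    rw [e1, e2]
    exact mul_dvd_mul (pow_dvd_pow_of_dvd ha _) hb
  -- (E)
  have hE : ∀ y ∈ (Ideal.span {f}).colon (J : Set A), y ∈ Iset := by
    intro y hy
    rw [Submodule.mem_colon] at hy
    show f ∣ y ^ n
    by_cases hy0 : y = 0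
    · rw [hy0, zero_pow hn0]; exact dvd_zero _
    refine dvd_of_forall_ord_le f (y ^ n) hf0 ?_
    intro p _ hp
    obtain ⟨a, d, had, hd⟩ := hA p hp.le
    have haI : a ∈ Iset := ⟨d, had⟩
    have h1 := hy _ (hE0 a haI)
    rw [smul_eq_mul, Ideal.mem_span_singleton] at h1
    have h2 := ord_le_of_dvd p hp h1
    rw [ord_mul, ord_pow] at h2
    have h3 : ord p hp (a ^ n) = ord p hp (f * d) := by rw [had]
    rw [ord_pow, ord_mul, ord_eq_zero_of_not_mem p hp hd, add_zero] at h3
    have ha0 : a ≠ 0 := by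
      rintro rfl
      rw [zero_pow hn0] at had
      rcases mul_eq_zero.1 had.symm with h | h
      · exact hf0 h
      · exact hd (h ▸ Ideal.zero_mem p)
    obtain ⟨k, hk⟩ := ENat.ne_top_iff_exists.1 (ord_ne_top p hp ha0)
    obtain ⟨m, hm⟩ := ENat.ne_top_iff_exists.1 (ord_ne_top p hp hy0)
    rw [ord_pow, ← h3, ← hm, ← hk]
    rw [← h3, ← hm, ← hk] at h2
    simp only [nsmul_eq_mul] at h2 ⊢
    have h2' : n * k ≤ m + (n - 1) * k := by exact_mod_cast h2
    have e : n * k = (n - 1) * k + k := by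
      conv_lhs => rw [show n = (n - 1) + 1 by omega]
      ring
    have h4 : k ≤ m := by omega
    exact_mod_cast Nat.mul_le_mul_left n h4
  -- (C)
  have hC : ∀ x ∈ J, h ^ (n - 1) ∣ algebraMap A B x := by
    intro x hx
    by_cases hx0 : x = 0
    · rw [hx0, map_zero]; exact dvd_zero _
    have hx0' : algebraMap A B x ≠ 0 := fun h0 => hx0 (hinj (by rw [h0, map_zero]))
    refine dvd_of_forall_ord_le _ _ (pow_ne_zero _ hh0) ?_
    intro Q _ hQ
    set p := Q.comap (algebraMap A B) with hp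
    haveI : p.IsPrime := Ideal.comap_isPrime _ _
    haveI : Q.LiesOver p := ⟨rfl⟩
    have hpht : p.height ≤ 1 := by
      have := Ideal.height_eq_height_add_of_liesOver_of_hasGoingDown p Q
      rw [hQ] at this
      rw [this]; exact le_self_add
    obtain ⟨a, d, had, hd⟩ := hA p hpht
    have haI : a ∈ Iset := ⟨d, had⟩
    have hd' : algebraMap A B d ∉ Q := fun hmem => hd hmem
    have h3 : ord Q hQ (algebraMap A B (a ^ n)) = ord Q hQ (algebraMap A B (f * d)) := by rw [had]
    rw [map_pow, map_mul, ord_pow, ord_mul, ord_eq_zero_of_not_mem Q hQ hd', add_zero, hf,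
      ord_mul, ord_pow, ord_eq_zero_of_not_mem Q hQ (hwQ Q), zero_add] at h3
    have h1 := (hJmem x).1 hx a haI
    have h2 := ord_le_of_dvd Q hQ (map_dvd (algebraMap A B) h1)
    rw [map_mul, ord_mul, hf, ord_mul, ord_pow, ord_eq_zero_of_not_mem Q hQ (hwQ Q), zero_add] at h2
    have ha0 : algebraMap A B a ≠ 0 := by
      intro h0
      have : a = 0 := hinj (by rw [h0, map_zero])
      rw [this, zero_pow hn0] at had
      rcases mul_eq_zero.1 had.symm with h | h
      · exact hf0 h
      · exact hd (h ▸ Ideal.zero_mem p)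
    obtain ⟨k, hk⟩ := ENat.ne_top_iff_exists.1 (ord_ne_top Q hQ ha0)
    obtain ⟨K, hK⟩ := ENat.ne_top_iff_exists.1 (ord_ne_top Q hQ hh0)
    obtain ⟨m, hm⟩ := ENat.ne_top_iff_exists.1 (ord_ne_top Q hQ hx0')
    rw [ord_pow, ← hK, ← hm]
    rw [← hK, ← hk] at h3
    rw [← hK, ← hk, ← hm] at h2
    simp only [nsmul_eq_mul] at h2 h3 ⊢
    have h3' : n * k = n * K := by exact_mod_cast h3
    have h2' : n * K ≤ m + k := by exact_mod_cast h2
    have hkK : k = K := Nat.eq_of_mul_eq_mul_left (by omega) h3'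
    have e : n * K = (n - 1) * K + K := by
      conv_lhs => rw [show n = (n - 1) + 1 by omega]
      ring
    have h4 : (n - 1) * K ≤ m := by omega
    exact_mod_cast h4
  -- (F)
  have hF : h ∈ Ideal.span (algebraMap A B '' Iset) := by
    have h1 : h ∈ Ideal.map (algebraMap A B) ((Ideal.span {f}).colon (J : Set A)) := by
      refine Groth.Agent.Helper3.FlatColon.mem_map_colon f J
        ((isNoetherianRing_iff_ideal_fg A).1 inferInstance J) h ?_
      intro x hx
      obtain ⟨c, hc⟩ := hC x hx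
      refine ⟨↑w⁻¹ * c, ?_⟩
      rw [hc, hf]
      have e2 : h ^ n = h ^ (n - 1) * h := by rw [← pow_succ, Nat.sub_add_cancel (by omega)]
      rw [e2]
      have : (w : B) * ↑w⁻¹ = 1 := Units.mul_inv w
      linear_combination (-(h ^ (n - 1) * h * c)) * this
    refine (Ideal.map_le_iff_le_comap.2 ?_) h1
    intro y hy
    exact Ideal.subset_span ⟨y, hE y hy, rfl⟩
  -- (G)
  have hS : ∀ s ∈ algebraMap A B '' Iset, h ∣ s := by
    rintro _ ⟨a, ⟨c, hc⟩, rfl⟩
    rw [← IsIntegrallyClosed.pow_dvd_pow_iff hn0, ← map_pow, hc, map_mul, hf]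
    exact ⟨(w : B) * algebraMap A B c, by ring⟩
  have hG : ∃ g ∈ Iset, ∃ e : B, IsUnit e ∧ algebraMap A B g = h * e := by
    by_contra hcon
    push Not at hcon
    have h1 : Ideal.span (algebraMap A B '' Iset) ≤
        Ideal.span {h} * IsLocalRing.maximalIdeal B := by
      rw [Ideal.span_le]
      rintro _ ⟨a, ha, rfl⟩
      obtain ⟨e, he⟩ := hS _ ⟨a, ha, rfl⟩
      rw [SetLike.mem_coe, Ideal.mem_span_singleton_mul]
      refine ⟨e, ?_, he.symm⟩
      rw [IsLocalRing.mem_maximalIdeal, mem_nonunits_iff]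
      exact fun hu => hcon a ha e hu he
    have h2 := h1 hF
    rw [Ideal.mem_span_singleton_mul] at h2
    obtain ⟨z, hz, hzh⟩ := h2
    have h3 : z = 1 := by
      have : h * z = h * 1 := by rw [hzh, mul_one]
      exact mul_left_cancel₀ hh0 this
    rw [h3] at hz
    exact (IsLocalRing.maximalIdeal.isMaximal B).ne_top ((Ideal.eq_top_iff_one _).2 hz)
  obtain ⟨g, ⟨c, hc⟩, e, he, hge⟩ := hG
  obtain ⟨e, rfl⟩ := he
  -- g^n ∣ f in B
  have h1 : algebraMap A B f ∈ Ideal.map (algebraMap A B) (Ideal.span {g ^ n}) := by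
    rw [Ideal.map_span, Set.image_singleton, Ideal.mem_span_singleton, map_pow, hge, hf]
    refine ⟨(w : B) * ↑(e⁻¹ ^ n), ?_⟩
    have : ((e : B) ^ n) * ↑(e⁻¹ ^ n) = 1 := by
      rw [← Units.val_pow_eq_pow_val, ← Units.val_mul, ← mul_pow, mul_inv_cancel, one_pow,
        Units.val_one]
    linear_combination (-(w : B) * h ^ n) * this
  have h2 : f ∈ Ideal.span {g ^ n} := by
    rw [← Ideal.comap_map_eq_self_of_faithfullyFlat (B := B) (Ideal.span {g ^ n})]
    exact h1
  rw [Ideal.mem_span_singleton] at h2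
  obtain ⟨u, hu⟩ := h2
  have hcu : c * u = 1 := by
    have : f * (c * u) = f * 1 := by
      rw [mul_one]
      calc f * (c * u) = (f * c) * u := by ring
        _ = g ^ n * u := by rw [hc]
        _ = f := hu.symm
    exact mul_left_cancel₀ hf0 this
  refine ⟨g, ⟨u, c, by rw [mul_comm]; exact hcu, hcu⟩, ?_⟩
  show f = u * g ^ n
  rw [hu, mul_comm]

end main

end Groth.Agent.Helper3.NthRoot
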