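import Groth.Prelude.Def_Models
import Mathlib

/-!
Helper lemmas on numerical types: negative semi-definiteness of the intersection matrix.
-/

namespace Groth.Agent.Helper3.NumType

open Finset Models

variable {n : ℕ} (T : Models.NumericalType n)

theorem row_sum (i : Fin n) : ∑ j, T.a i j * T.m j = 0 := by
  have := congrFun T.mulVec_m i
  simpa [Matrix.mulVec, dotProduct] using this

theorem a_symm (i j : Fin n) : T.a i j = T.a j i := by
  have := T.symm
  exact (Matrix.IsSymm.apply this j i).symm ▸ rfl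

theorem row_sumQ (i : Fin n) : ∑ j, (T.a i j : ℚ) * (T.m j : ℚ) = 0 := by
  have := row_sum T i
  exact_mod_cast this

theorem mQ_pos (i : Fin n) : (0 : ℚ) < T.m i := by exact_mod_cast T.m_pos i

theorem Q_eq (x : Fin n → ℤ) :
    (2 : ℚ) * (∑ i, ∑ j, (T.a i j : ℚ) * x i * x j) =
      - ∑ i, ∑ j, (T.a i j : ℚ) * T.m i * T.m j *
        ((x i : ℚ) / T.m i - (x j : ℚ) / T.m j) ^ 2 := by
  set y : Fin n → ℚ := fun i => (x i : ℚ) / T.m i with hy
  have hx : ∀ i, (x i : ℚ) = T.m i * y i := by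
    intro i
    have := (mQ_pos T i).ne'
    simp only [hy]
    field_simp
  have h1 : ∑ i, ∑ j, (T.a i j : ℚ) * T.m i * T.m j * (y i) ^ 2 = 0 := by
    apply Finset.sum_eq_zero
    intro i _
    have : ∑ j, (T.a i j : ℚ) * T.m i * T.m j * (y i) ^ 2
        = (T.m i * (y i) ^ 2) * ∑ j, (T.a i j : ℚ) * T.m j := by
      rw [Finset.mul_sum]
      apply Finset.sum_congr rfl
      intro j _
      ring
    rw [this, row_sumQ, mul_zero]
  have h2 : ∑ i, ∑ j, (T.a i j : ℚ) * T.m i * T.m j * (y j) ^ 2 = 0 := by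
    rw [Finset.sum_comm]
    apply Finset.sum_eq_zero
    intro j _
    have : ∑ i, (T.a i j : ℚ) * T.m i * T.m j * (y j) ^ 2
        = (T.m j * (y j) ^ 2) * ∑ i, (T.a j i : ℚ) * T.m i := by
      rw [Finset.mul_sum]
      apply Finset.sum_congr rfl
      intro i _
      rw [a_symm T i j]
      ring
    rw [this, row_sumQ, mul_zero]
  have h3 : ∑ i, ∑ j, (T.a i j : ℚ) * T.m i * T.m j * (y i - y j) ^ 2
      = ∑ i, ∑ j, (T.a i j : ℚ) * T.m i * T.m j * (y i) ^ 2
        + ∑ i, ∑ j, (T.a i j : ℚ) * T.m i * T.m j * (y j) ^ 2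
        - 2 * ∑ i, ∑ j, (T.a i j : ℚ) * x i * x j := by
    rw [Finset.mul_sum, ← Finset.sum_add_distrib, ← Finset.sum_sub_distrib]
    apply Finset.sum_congr rfl
    intro i _
    rw [Finset.mul_sum, ← Finset.sum_add_distrib, ← Finset.sum_sub_distrib]
    apply Finset.sum_congr rfl
    intro j _
    rw [hx i, hx j]
    ring
  rw [h3, h1, h2]
  ring

theorem term_nonneg (x : Fin n → ℤ) (i j : Fin n) :
    0 ≤ (T.a i j : ℚ) * T.m i * T.m j * ((x i : ℚ) / T.m i - (x j : ℚ) / T.m j) ^ 2 := by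
  by_cases h : i = j
  · subst h
    simp
  · have ha : (0 : ℚ) ≤ T.a i j := by exact_mod_cast T.offDiag_nonneg i j h
    have := mQ_pos T i
    have := mQ_pos T j
    positivity

theorem Q_nonpos (x : Fin n → ℤ) : ∑ i, ∑ j, T.a i j * x i * x j ≤ 0 := by
  have h := Q_eq T x
  have h2 : (0 : ℚ) ≤ ∑ i, ∑ j, (T.a i j : ℚ) * T.m i * T.m j *
        ((x i : ℚ) / T.m i - (x j : ℚ) / T.m j) ^ 2 :=
    Finset.sum_nonneg fun i _ => Finset.sum_nonneg fun j _ => term_nonneg T x i j
  have h3 : (∑ i, ∑ j, (T.a i j : ℚ) * x i * x j) ≤ 0 := by linarith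
  exact_mod_cast h3

theorem Q_neg (x : Fin n → ℤ) (hx : x ≠ 0) (k : Fin n) (hk : x k = 0) :
    ∑ i, ∑ j, T.a i j * x i * x j < 0 := by
  rcases lt_or_eq_of_le (Q_nonpos T x) with h | h
  · exact h
  exfalso
  have hQ : (∑ i, ∑ j, (T.a i j : ℚ) * x i * x j) = 0 := by exact_mod_cast h
  have h0 : ∑ i, ∑ j, (T.a i j : ℚ) * T.m i * T.m j *
        ((x i : ℚ) / T.m i - (x j : ℚ) / T.m j) ^ 2 = 0 := by
    have := Q_eq T x
    rw [hQ] at this
    linarith
  have h1 : ∀ i j, (T.a i j : ℚ) * T.m i * T.m j *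
        ((x i : ℚ) / T.m i - (x j : ℚ) / T.m j) ^ 2 = 0 := by
    intro i j
    have hi := (Finset.sum_eq_zero_iff_of_nonneg
      (fun i _ => Finset.sum_nonneg fun j _ => term_nonneg T x i j)).mp h0 i (Finset.mem_univ i)
    exact (Finset.sum_eq_zero_iff_of_nonneg (fun j _ => term_nonneg T x i j)).mp hi j
      (Finset.mem_univ j)
  -- connectedness
  set I : Finset (Fin n) := Finset.univ.filter fun i => x i = 0 with hI
  have hIne : I.Nonempty := ⟨k, by simp [hI, hk]⟩
  have hIuniv : I ≠ Finset.univ := by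
    intro hu
    apply hx
    funext i
    have : i ∈ I := hu ▸ Finset.mem_univ i
    simpa [hI] using this
  obtain ⟨i, hi, j, hj, hij⟩ := T.connected I hIne hIuniv
  have hxi : x i = 0 := by simpa [hI] using hi
  have hxj : x j ≠ 0 := by simpa [hI] using hj
  have hmi := (mQ_pos T i).ne'
  have hmj := (mQ_pos T j).ne'
  have haQ : (T.a i j : ℚ) ≠ 0 := by exact_mod_cast hij
  have := h1 i j
  rw [hxi] at this
  simp only [Int.cast_zero, zero_div, zero_sub, mul_eq_zero, haQ, hmi, hmj, false_or,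
    ne_eq, OfNat.ofNat_ne_zero, not_false_eq_true, pow_eq_zero_iff, neg_eq_zero,
    div_eq_zero_iff, Int.cast_eq_zero, or_false] at this
  exact hxj this

/-- Negative definiteness on proper subsets, in embedded form. -/
theorem Q_sub_neg {r : ℕ} (v : Fin r ↪ Fin n) (hr : r < n) (c : Fin r → ℤ) (hc : c ≠ 0) :
    ∑ p, ∑ q, T.a (v p) (v q) * c p * c q < 0 := by
  classical
  set x : Fin n → ℤ := Function.extend v c 0 with hxdef
  have hxv : ∀ p, x (v p) = c p := fun p => v.injective.extend_apply c 0 p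
  have hx0 : ∀ i, i ∉ Finset.univ.map v → x i = 0 := by
    intro i hi
    have : ¬ ∃ p, v p = i := by
      intro ⟨p, hp⟩
      exact hi (by simp [← hp])
    simp [hxdef, Function.extend_apply' _ _ _ this]
  have hsum : ∀ f : Fin n → ℤ, ∑ i, f i * x i = ∑ p, f (v p) * c p := by
    intro f
    rw [← Finset.sum_subset (Finset.subset_univ (Finset.univ.map v))]
    · rw [Finset.sum_map]
      apply Finset.sum_congr rfl
      intro p _
      rw [hxv]
    · intro i _ hi
      rw [hx0 i hi, mul_zero]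
  have hQ : ∑ i, ∑ j, T.a i j * x i * x j = ∑ p, ∑ q, T.a (v p) (v q) * c p * c q := by
    have h1 : ∀ i, ∑ j, T.a i j * x i * x j = (∑ q, T.a i (v q) * c q) * x i := by
      intro i
      have := hsum (fun j => T.a i j * x i)
      rw [this, Finset.sum_mul]
      apply Finset.sum_congr rfl
      intro q _
      ring
    simp_rw [h1]
    rw [hsum (fun i => ∑ q, T.a i (v q) * c q)]
    apply Finset.sum_congr rfl
    intro p _
    rw [Finset.sum_mul]
    apply Finset.sum_congr rfl
    intro q _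
    ring
  rw [← hQ]
  -- find k outside the image
  have hk : ∃ k, k ∉ Finset.univ.map v := by
    by_contra hcon
    push Not at hcon
    have : (Finset.univ.map v).card = n := by
      have : Finset.univ.map v = Finset.univ := Finset.eq_univ_iff_forall.mpr hcon
      rw [this]
      simp
    rw [Finset.card_map] at this
    simp at this
    omega
  obtain ⟨k, hk⟩ := hk
  apply Q_neg T x _ k (hx0 k hk)
  intro hx
  apply hc
  funext p
  have := congrFun hx (v p)
  rw [hxv] at this
  simpa using this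

/-- Row inequality on a sub-configuration. -/
theorem row_sub_nonpos {r : ℕ} (v : Fin r ↪ Fin n) (p : Fin r) :
    ∑ q, T.a (v p) (v q) * T.m (v q) ≤ 0 := by
  have h := row_sum T (v p)
  have h2 : ∑ j ∈ Finset.univ.map v, T.a (v p) j * T.m j ≤ ∑ j, T.a (v p) j * T.m j := by
    apply Finset.sum_le_sum_of_subset_of_nonneg (Finset.subset_univ _)
    intro j _ hj
    have hne : v p ≠ j := by
      intro h
      exact hj (by simp [← h])
    exact mul_nonneg (T.offDiag_nonneg _ _ hne) (T.m_pos j).le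
  rw [Finset.sum_map] at h2
  linarith

end Groth.Agent.Helper3.NumType

namespace Groth.Agent.Helper3.NumType

open Finset Models

theorem diag_neg {n : ℕ} (T : Models.NumericalType n) (hn : 1 < n) (i : Fin n) : T.a i i < 0 := by
  classical
  have hk : ∃ k : Fin n, k ≠ i := by
    by_cases h : i.val = 0
    · exact ⟨⟨1, hn⟩, fun h' => by have := congrArg Fin.val h'; simp at this; omega⟩
    · exact ⟨⟨0, by omega⟩, fun h' => by have := congrArg Fin.val h'; simp at this; omega⟩
  obtain ⟨k, hk⟩ := hk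
  have h := Q_neg T (Pi.single i 1) (by
    intro h
    have := congrFun h i
    simp at this) k (by simp [hk])
  have h2 : ∑ i', ∑ j, T.a i' j * (Pi.single i 1 : Fin n → ℤ) i' * (Pi.single i 1 : Fin n → ℤ) j
      = T.a i i := by
    simp [Pi.single_apply]
  rw [h2] at h
  exact h

/-- Abstract data of a proper sub-configuration of `(-2)`-indices. -/
structure Sub (r : ℕ) where
  W : Fin r → ℤ
  A : Fin r → Fin r → ℤ
  M : Fin r → ℤ
  hW : ∀ p, 0 < W p
  hM : ∀ p, 0 < M p
  hsymm : ∀ p q, A p q = A q p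
  hdiag : ∀ p, A p p = -2 * W p
  hnn : ∀ p q, p ≠ q → 0 ≤ A p q
  hdvd : ∀ p q, W p ∣ A p q
  hQ : ∀ c : Fin r → ℤ, c ≠ 0 → ∑ p, ∑ q, A p q * c p * c q < 0
  hrow : ∀ p, ∑ q, A p q * M q ≤ 0

/-- The sub-configuration attached to an embedding of `(-2)`-indices. -/
def Sub.of {n : ℕ} (T : Models.NumericalType n) {r : ℕ} (v : Fin r ↪ Fin n) (hr : r < n)
    (hv : ∀ j, T.IsMinusTwo (v j)) : Sub r where
  W := fun p => T.w (v p)
  A := fun p q => T.a (v p) (v q)
  M := fun p => T.m (v p)
  hW := fun p => T.w_pos _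
  hM := fun p => T.m_pos _
  hsymm := fun p q => a_symm T _ _
  hdiag := fun p => (hv p).2
  hnn := fun p q h => T.offDiag_nonneg _ _ (fun h' => h (v.injective h'))
  hdvd := fun p q => T.w_dvd _ _
  hQ := fun c hc => Q_sub_neg T v hr c hc
  hrow := fun p => row_sub_nonpos T v p

namespace Sub

variable {r : ℕ} (S : Sub r)

theorem pos_of_ne {p q : Fin r} (hpq : p ≠ q) (h : S.A p q ≠ 0) : 0 < S.A p q :=
  lt_of_le_of_ne (S.hnn p q hpq) (Ne.symm h)

theorem ge_left {p q : Fin r} (h : 0 < S.A p q) : S.W p ≤ S.A p q :=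
  Int.le_of_dvd h (S.hdvd p q)

theorem ge_right {p q : Fin r} (h : 0 < S.A p q) : S.W q ≤ S.A p q := by
  have := S.hdvd q p
  rw [S.hsymm q p] at this
  exact Int.le_of_dvd h this

theorem Q2 {p q : Fin r} (hpq : p ≠ q) (s t : ℤ) (hst : s ≠ 0 ∨ t ≠ 0) :
    -2 * S.W p * s * s - 2 * S.W q * t * t + 2 * S.A p q * s * t < 0 := by
  classical
  set c : Fin r → ℤ := fun x => (if x = p then s else 0) + (if x = q then t else 0) with hc
  have hcp : c p = s := by simp [hc, hpq]
  have hcq : c q = t := by simp [hc, hpq.symm]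
  have hc0 : c ≠ 0 := by
    intro h
    rcases hst with h' | h'
    · exact h' (by rw [← hcp, h]; rfl)
    · exact h' (by rw [← hcq, h]; rfl)
  have hsum : ∀ f : Fin r → ℤ, ∑ x, f x * c x = f p * s + f q * t := by
    intro f
    simp only [hc, mul_add, Finset.sum_add_distrib, mul_ite, mul_zero]
    simp
  have h := S.hQ c hc0
  have h1 : ∀ x, ∑ y, S.A x y * c x * c y = (S.A x p * s + S.A x q * t) * c x := by
    intro x
    have := hsum (fun y => S.A x y * c x)
    rw [this]
    ring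
  simp_rw [h1] at h
  rw [hsum (fun x => S.A x p * s + S.A x q * t)] at h
  rw [S.hdiag p, S.hdiag q, S.hsymm q p] at h
  linarith

theorem edge_aux (Wp Wq A b c : ℤ) (hWp : 0 < Wp) (hWq : 0 < Wq) (hA : 0 < A)
    (hb : A = Wp * b) (hc : A = Wq * c)
    (h11 : -2 * Wp - 2 * Wq + 2 * A < 0) (h12 : -2 * Wp - 8 * Wq + 4 * A < 0)
    (h21 : -8 * Wp - 2 * Wq + 4 * A < 0) :
    (Wq = Wp ∧ A = Wp) ∨ (Wq = 2 * Wp ∧ A = 2 * Wp) ∨ (Wp = 2 * Wq ∧ A = 2 * Wq) ∨
      (Wq = 3 * Wp ∧ A = 3 * Wp) ∨ (Wp = 3 * Wq ∧ A = 3 * Wq) := by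
  have hb1 : 1 ≤ b := by
    by_contra h
    have : b ≤ 0 := by omega
    nlinarith
  have hc1 : 1 ≤ c := by
    by_contra h
    have : c ≤ 0 := by omega
    nlinarith
  by_cases hb2 : 2 ≤ b
  · by_cases hc2 : 2 ≤ c
    · exfalso
      nlinarith
    · have hc' : c = 1 := by omega
      subst hc'
      have hb4 : b < 4 := by
        by_contra h
        have : 4 ≤ b := by omega
        nlinarith
      have : b = 2 ∨ b = 3 := by omega
      rcases this with h | h <;> subst h
      · right; left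
        constructor <;> linarith
      · right; right; right; left
        constructor <;> linarith
  · have hb' : b = 1 := by omega
    subst hb'
    have hc4 : c < 4 := by
      by_contra h
      have : 4 ≤ c := by omega
      nlinarith
    have : c = 1 ∨ c = 2 ∨ c = 3 := by omega
    rcases this with h | h | h <;> subst h
    · left
      constructor <;> linarith
    · right; right; left
      constructor <;> linarith
    · right; right; right; right
      constructor <;> linarith

theorem edge_cases {p q : Fin r} (hpq : p ≠ q) (h : 0 < S.A p q) :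
    (S.W q = S.W p ∧ S.A p q = S.W p) ∨ (S.W q = 2 * S.W p ∧ S.A p q = 2 * S.W p) ∨
      (S.W p = 2 * S.W q ∧ S.A p q = 2 * S.W q) ∨
      (S.W q = 3 * S.W p ∧ S.A p q = 3 * S.W p) ∨ (S.W p = 3 * S.W q ∧ S.A p q = 3 * S.W q) := by
  obtain ⟨b, hb⟩ := S.hdvd p q
  have hd := S.hdvd q p
  rw [S.hsymm q p] at hd
  obtain ⟨c, hc⟩ := hd
  have h11 := S.Q2 hpq 1 1 (Or.inl one_ne_zero)
  have h12 := S.Q2 hpq 1 2 (Or.inl one_ne_zero)
  have h21 := S.Q2 hpq 2 1 (Or.inl two_ne_zero)
  exact edge_aux (S.W p) (S.W q) (S.A p q) b c (S.hW p) (S.hW q) h hb hc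
    (by linarith) (by linarith) (by linarith)

end Sub

end Groth.Agent.Helper3.NumType
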