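import Groth.Agent.Helper3.NumType

/-! General (arbitrary size) test-vector lemmas for sub-configurations. -/

namespace Groth.Agent.Helper3.NumType

open Finset Models

namespace Sub

variable {r : ℕ} (S : Sub r)

theorem false_of_rows_nonneg (x : Fin r → ℤ) (hx : ∀ p, 0 ≤ x p) (hne : x ≠ 0)
    (h : ∀ p, 0 ≤ ∑ q, S.A p q * x q) : False := by
  have h1 := S.hQ x hne
  have h2 : ∑ p, ∑ q, S.A p q * x p * x q = ∑ p, x p * ∑ q, S.A p q * x q := by
    apply Finset.sum_congr rfl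
    intro p _
    rw [Finset.mul_sum]
    apply Finset.sum_congr rfl
    intro q _
    ring
  rw [h2] at h1
  have h3 : 0 ≤ ∑ p, x p * ∑ q, S.A p q * x q :=
    Finset.sum_nonneg fun p _ => mul_nonneg (hx p) (h p)
  linarith

theorem row_ge (x : Fin r → ℤ) (hx : ∀ p, 0 ≤ x p) (p : Fin r) (N : Finset (Fin r))
    (hp : p ∉ N) :
    -2 * S.W p * x p + ∑ q ∈ N, S.A p q * x q ≤ ∑ q, S.A p q * x q := by
  have h1 : ∑ q ∈ insert p N, S.A p q * x q ≤ ∑ q, S.A p q * x q := by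
    apply Finset.sum_le_sum_of_subset_of_nonneg (Finset.subset_univ _)
    intro q _ hq
    have hqp : p ≠ q := by
      intro h
      exact hq (by simp [h])
    exact mul_nonneg (S.hnn p q hqp) (hx q)
  rw [Finset.sum_insert hp, S.hdiag p] at h1
  linarith

theorem row_ge1 (x : Fin r → ℤ) (hx : ∀ p, 0 ≤ x p) (p q1 : Fin r) (h1 : p ≠ q1) :
    -2 * S.W p * x p + S.A p q1 * x q1 ≤ ∑ q, S.A p q * x q := by
  have := S.row_ge x hx p {q1} (by simpa using h1)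
  simpa using this

theorem row_ge2 (x : Fin r → ℤ) (hx : ∀ p, 0 ≤ x p) (p q1 q2 : Fin r) (h1 : p ≠ q1)
    (h2 : p ≠ q2) (h12 : q1 ≠ q2) :
    -2 * S.W p * x p + (S.A p q1 * x q1 + S.A p q2 * x q2) ≤ ∑ q, S.A p q * x q := by
  have := S.row_ge x hx p {q1, q2} (by simp [h1, h2])
  rw [Finset.sum_insert (by simpa using h12), Finset.sum_singleton] at this
  exact this

theorem row_ge3 (x : Fin r → ℤ) (hx : ∀ p, 0 ≤ x p) (p q1 q2 q3 : Fin r) (h1 : p ≠ q1)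
    (h2 : p ≠ q2) (h3 : p ≠ q3) (h12 : q1 ≠ q2) (h13 : q1 ≠ q3) (h23 : q2 ≠ q3) :
    -2 * S.W p * x p + (S.A p q1 * x q1 + (S.A p q2 * x q2 + S.A p q3 * x q3))
      ≤ ∑ q, S.A p q * x q := by
  have := S.row_ge x hx p {q1, q2, q3} (by simp [h1, h2, h3])
  rw [Finset.sum_insert (by simp [h12, h13]), Finset.sum_insert (by simpa using h23),
    Finset.sum_singleton] at this
  exact this

theorem row_ge0 (x : Fin r → ℤ) (hx : ∀ p, 0 ≤ x p) (p : Fin r) :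
    -2 * S.W p * x p ≤ ∑ q, S.A p q * x q := by
  have := S.row_ge x hx p ∅ (by simp)
  simpa using this

theorem pos_symm {p q : Fin r} (h : 0 < S.A p q) : 0 < S.A q p := by
  rw [S.hsymm q p]; exact h

/-- one neighbour suffices -/
theorem row_nonneg1 (x : Fin r → ℤ) (hx : ∀ p, 0 ≤ x p) (p q1 : Fin r) (h1 : p ≠ q1)
    (hA1 : 0 < S.A p q1) (hs : 2 * x p ≤ x q1) : 0 ≤ ∑ q, S.A p q * x q := by
  have h := S.row_ge1 x hx p q1 h1
  have g1 := S.ge_left hA1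
  have hW := S.hW p
  have := hx p
  have := hx q1
  nlinarith [mul_le_mul_of_nonneg_right g1 (hx q1), mul_le_mul_of_nonneg_left hs hW.le]

theorem row_nonneg2 (x : Fin r → ℤ) (hx : ∀ p, 0 ≤ x p) (p q1 q2 : Fin r) (h1 : p ≠ q1)
    (h2 : p ≠ q2) (h12 : q1 ≠ q2) (hA1 : 0 < S.A p q1) (hA2 : 0 < S.A p q2)
    (hs : 2 * x p ≤ x q1 + x q2) : 0 ≤ ∑ q, S.A p q * x q := by
  have h := S.row_ge2 x hx p q1 q2 h1 h2 h12
  have g1 := S.ge_left hA1
  have g2 := S.ge_left hA2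
  have hW := S.hW p
  nlinarith [mul_le_mul_of_nonneg_right g1 (hx q1), mul_le_mul_of_nonneg_right g2 (hx q2),
    mul_le_mul_of_nonneg_left hs hW.le]

theorem row_nonneg3 (x : Fin r → ℤ) (hx : ∀ p, 0 ≤ x p) (p q1 q2 q3 : Fin r) (h1 : p ≠ q1)
    (h2 : p ≠ q2) (h3 : p ≠ q3) (h12 : q1 ≠ q2) (h13 : q1 ≠ q3) (h23 : q2 ≠ q3)
    (hA1 : 0 < S.A p q1) (hA2 : 0 < S.A p q2) (hA3 : 0 < S.A p q3)
    (hs : 2 * x p ≤ x q1 + x q2 + x q3) : 0 ≤ ∑ q, S.A p q * x q := by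
  have h := S.row_ge3 x hx p q1 q2 q3 h1 h2 h3 h12 h13 h23
  have g1 := S.ge_left hA1
  have g2 := S.ge_left hA2
  have g3 := S.ge_left hA3
  have hW := S.hW p
  nlinarith [mul_le_mul_of_nonneg_right g1 (hx q1), mul_le_mul_of_nonneg_right g2 (hx q2),
    mul_le_mul_of_nonneg_right g3 (hx q3), mul_le_mul_of_nonneg_left hs hW.le]

theorem row_nonneg0 (x : Fin r → ℤ) (hx : ∀ p, 0 ≤ x p) (p : Fin r) (h0 : x p = 0) :
    0 ≤ ∑ q, S.A p q * x q := by
  have h := S.row_ge0 x hx p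
  rw [h0] at h
  simpa using h

end Sub

end Groth.Agent.Helper3.NumType
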