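import Groth.Agent.Helper3.NumTypeS
import Groth.Agent.Helper3.NumTypeG

/-! Chains of arbitrary length inside sub-configurations of `(-2)`-indices. -/

namespace Groth.Agent.Helper3.NumType

open Finset Models

theorem sum_extend {r s : ℕ} (A : Fin r → Fin r → ℤ) (e : Fin s ↪ Fin r) (c : Fin s → ℤ) :
    ∑ i, ∑ j, A i j * (Function.extend e c 0) i * (Function.extend e c 0) j
      = ∑ p, ∑ q, A (e p) (e q) * c p * c q := by
  classical
  set x : Fin r → ℤ := Function.extend e c 0 with hxdef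
  have hxv : ∀ p, x (e p) = c p := fun p => e.injective.extend_apply c 0 p
  have hx0 : ∀ i, i ∉ Finset.univ.map e → x i = 0 := by
    intro i hi
    have : ¬ ∃ p, e p = i := by
      intro ⟨p, hp⟩
      exact hi (by simp [← hp])
    simp [hxdef, Function.extend_apply' _ _ _ this]
  have hsum : ∀ f : Fin r → ℤ, ∑ i, f i * x i = ∑ p, f (e p) * c p := by
    intro f
    rw [← Finset.sum_subset (Finset.subset_univ (Finset.univ.map e))]
    · rw [Finset.sum_map]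
      apply Finset.sum_congr rfl
      intro p _
      rw [hxv]
    · intro i _ hi
      rw [hx0 i hi, mul_zero]
  have h1 : ∀ i, ∑ j, A i j * x i * x j = (∑ q, A i (e q) * c q) * x i := by
    intro i
    have := hsum (fun j => A i j * x i)
    rw [this, Finset.sum_mul]
    apply Finset.sum_congr rfl
    intro q _
    ring
  simp_rw [h1]
  rw [hsum (fun i => ∑ q, A i (e q) * c q)]
  apply Finset.sum_congr rfl
  intro p _
  rw [Finset.sum_mul]
  apply Finset.sum_congr rfl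
  intro q _
  ring

namespace Sub

variable {r : ℕ} (S : Sub r)

/-- Restriction of a sub-configuration along an embedding. -/
def comap {s : ℕ} (e : Fin s ↪ Fin r) : Sub s where
  W := fun p => S.W (e p)
  A := fun p q => S.A (e p) (e q)
  M := fun p => S.M (e p)
  hW := fun p => S.hW _
  hM := fun p => S.hM _
  hsymm := fun p q => S.hsymm _ _
  hdiag := fun p => S.hdiag _
  hnn := fun p q h => S.hnn _ _ (fun h' => h (e.injective h'))
  hdvd := fun p q => S.hdvd _ _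
  hQ := by
    intro c hc
    rw [← sum_extend S.A e c]
    apply S.hQ
    intro h
    apply hc
    funext p
    have := congrFun h (e p)
    rw [e.injective.extend_apply] at this
    simpa using this
  hrow := by
    intro p
    have h := S.hrow (e p)
    have h2 : ∑ j ∈ Finset.univ.map e, S.A (e p) j * S.M j ≤ ∑ j, S.A (e p) j * S.M j := by
      apply Finset.sum_le_sum_of_subset_of_nonneg (Finset.subset_univ _)
      intro j _ hj
      have hne : e p ≠ j := by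
        intro h
        exact hj (by simp [← h])
      exact mul_nonneg (S.hnn _ _ hne) (S.hM j).le
    rw [Finset.sum_map] at h2
    linarith

/-- The window embedding `i ↦ s + i`. -/
def win (r s k : ℕ) (h : s + k ≤ r) : Fin k ↪ Fin r :=
  ⟨fun i => ⟨s + i.val, by omega⟩, fun a b hab => by
    have := congrArg Fin.val hab
    simp only at this
    exact Fin.ext (by omega)⟩

theorem two_nbrs_false (C : Finset (Fin r)) (hC : C.Nonempty)
    (h : ∀ p ∈ C, ∃ q1 ∈ C, ∃ q2 ∈ C, p ≠ q1 ∧ p ≠ q2 ∧ q1 ≠ q2 ∧ 0 < S.A p q1 ∧ 0 < S.A p q2) :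
    False := by
  classical
  let x : Fin r → ℤ := fun p => if p ∈ C then 1 else 0
  have hx1 : ∀ p ∈ C, x p = 1 := fun p hp => if_pos hp
  have hx0 : ∀ p, p ∉ C → x p = 0 := fun p hp => if_neg hp
  have hx : ∀ p, 0 ≤ x p := by
    intro p
    by_cases hp : p ∈ C
    · rw [hx1 p hp]; norm_num
    · rw [hx0 p hp]
  obtain ⟨p0, hp0⟩ := hC
  have hne : x ≠ 0 := by
    intro h0
    have := congrFun h0 p0
    rw [hx1 p0 hp0] at this
    simp at this
  apply S.false_of_rows_nonneg x hx hne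
  intro p
  by_cases hp : p ∈ C
  · obtain ⟨q1, hq1, q2, hq2, h1, h2, h12, hA1, hA2⟩ := h p hp
    apply S.row_nonneg2 x hx p q1 q2 h1 h2 h12 hA1 hA2
    rw [hx1 p hp, hx1 q1 hq1, hx1 q2 hq2]
    norm_num
  · exact S.row_nonneg0 x hx p (hx0 p hp)

section Chain

variable (t : ℕ)
  (hch : ∀ j j' : Fin r, j'.val = j.val + 1 → j'.val < t → S.A j j' ≠ 0)

include hch

theorem chain_pos (j j' : Fin r) (h1 : j'.val = j.val + 1) (h2 : j'.val < t) : 0 < S.A j j' :=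
  S.pos_of_ne (fun h => by rw [h] at h1; omega) (hch j j' h1 h2)

theorem chain_pos' (j j' : Fin r) (h1 : j'.val = j.val + 1) (h2 : j'.val < t) : 0 < S.A j' j :=
  S.pos_symm (S.chain_pos t hch j j' h1 h2)

/-- Chords of a chain vanish. -/
theorem chain_chord_zero (j k : Fin r) (hjk : j.val + 1 < k.val) (hk : k.val < t) :
    S.A j k = 0 := by
  classical
  by_contra hne
  have hjk' : j ≠ k := fun h => by rw [h] at hjk; omega
  have hpos : 0 < S.A j k := S.pos_of_ne hjk' hne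
  have hpos' : 0 < S.A k j := S.pos_symm hpos
  have hr : k.val < r := k.isLt
  apply S.two_nbrs_false (Finset.univ.filter fun p : Fin r => j.val ≤ p.val ∧ p.val ≤ k.val)
    ⟨j, by simp only [Finset.mem_filter, Finset.mem_univ, true_and]; omega⟩
  intro p hp
  simp only [Finset.mem_filter, Finset.mem_univ, true_and] at hp
  have mem : ∀ q : Fin r, j.val ≤ q.val → q.val ≤ k.val →
      q ∈ Finset.univ.filter fun p : Fin r => j.val ≤ p.val ∧ p.val ≤ k.val := by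
    intro q h1 h2
    simp only [Finset.mem_filter, Finset.mem_univ, true_and]
    exact ⟨h1, h2⟩
  have ne_of : ∀ a b : Fin r, a.val ≠ b.val → a ≠ b := fun a b h h' => h (congrArg Fin.val h')
  by_cases hpj : p = j
  · subst hpj
    obtain ⟨q1, hq1⟩ : ∃ q1 : Fin r, q1.val = p.val + 1 := ⟨⟨p.val + 1, by omega⟩, rfl⟩
    refine ⟨q1, mem q1 (by omega) (by omega), k, mem k (by omega) (by omega),
      ne_of _ _ (by omega), hjk', ne_of _ _ (by omega), ?_, hpos⟩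
    exact S.chain_pos t hch p q1 hq1 (by omega)
  by_cases hpk : p = k
  · subst hpk
    obtain ⟨q1, hq1⟩ : ∃ q1 : Fin r, q1.val = p.val - 1 := ⟨⟨p.val - 1, by omega⟩, rfl⟩
    refine ⟨q1, mem q1 (by omega) (by omega), j, mem j (by omega) (by omega),
      ne_of _ _ (by omega), fun h => hjk' h.symm, ne_of _ _ (by omega), ?_, hpos'⟩
    exact S.chain_pos' t hch q1 p (by omega) hk
  have hpj' : p.val ≠ j.val := fun h => hpj (Fin.ext h)
  have hpk' : p.val ≠ k.val := fun h => hpk (Fin.ext h)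
  obtain ⟨q1, hq1⟩ : ∃ q1 : Fin r, q1.val = p.val - 1 := ⟨⟨p.val - 1, by omega⟩, rfl⟩
  obtain ⟨q2, hq2⟩ : ∃ q2 : Fin r, q2.val = p.val + 1 := ⟨⟨p.val + 1, by omega⟩, rfl⟩
  refine ⟨q1, mem q1 (by omega) (by omega), q2, mem q2 (by omega) (by omega),
    ne_of _ _ (by omega), ne_of _ _ (by omega), ne_of _ _ (by omega), ?_, ?_⟩
  · exact S.chain_pos' t hch q1 p (by omega) (by omega)
  · exact S.chain_pos t hch p q2 hq2 (by omega)

omit hch in
theorem inj5_of_succ (v0 v1 v2 v3 v4 : Fin r) (h0 : v1.val = v0.val + 1) (h1 : v2.val = v1.val + 1)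
    (h2 : v3.val = v2.val + 1) (h3 : v4.val = v3.val + 1) :
    Function.Injective ![v0, v1, v2, v3, v4] := by
  intro a b hab
  fin_cases a <;> fin_cases b <;> first | rfl | (exfalso; have := congrArg Fin.val hab; simp at this; omega)

omit hch in
theorem five_window (v0 v1 v2 v3 v4 : Fin r) (hinj : Function.Injective ![v0, v1, v2, v3, v4])
    (h01 : S.A v0 v1 ≠ 0) (h12 : S.A v1 v2 ≠ 0) (h23 : S.A v2 v3 ≠ 0) (h34 : S.A v3 v4 ≠ 0) :
    ((S.W v1 = S.W v0 ∧ S.A v0 v1 = S.W v0 ∧ S.W v2 = S.W v1 ∧ S.A v1 v2 = S.W v1 ∧ S.W v3 = S.W v2 ∧ S.A v2 v3 = S.W v2 ∧ S.W v4 = S.W v3 ∧ S.A v3 v4 = S.W v3) ∨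
      (S.W v1 = S.W v0 ∧ S.A v0 v1 = S.W v0 ∧ S.W v2 = S.W v1 ∧ S.A v1 v2 = S.W v1 ∧ S.W v3 = S.W v2 ∧ S.A v2 v3 = S.W v2 ∧ S.W v4 = 2 * S.W v3 ∧ S.A v3 v4 = 2 * S.W v3) ∨
      (S.W v1 = S.W v0 ∧ S.A v0 v1 = S.W v0 ∧ S.W v2 = S.W v1 ∧ S.A v1 v2 = S.W v1 ∧ S.W v3 = S.W v2 ∧ S.A v2 v3 = S.W v2 ∧ S.W v3 = 2 * S.W v4 ∧ S.A v3 v4 = 2 * S.W v4) ∨
      (S.W v1 = 2 * S.W v0 ∧ S.A v0 v1 = 2 * S.W v0 ∧ S.W v2 = S.W v1 ∧ S.A v1 v2 = S.W v1 ∧ S.W v3 = S.W v2 ∧ S.A v2 v3 = S.W v2 ∧ S.W v4 = S.W v3 ∧ S.A v3 v4 = S.W v3) ∨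
      (S.W v0 = 2 * S.W v1 ∧ S.A v0 v1 = 2 * S.W v1 ∧ S.W v2 = S.W v1 ∧ S.A v1 v2 = S.W v1 ∧ S.W v3 = S.W v2 ∧ S.A v2 v3 = S.W v2 ∧ S.W v4 = S.W v3 ∧ S.A v3 v4 = S.W v3)) :=
  ((S.comap ⟨![v0, v1, v2, v3, v4], hinj⟩).chain5 h01 h12 h23 h34).2

omit hch in
theorem five_fork (v0 v1 v2 v3 v4 : Fin r) (hinj : Function.Injective ![v0, v1, v2, v3, v4])
    (h01 : S.A v0 v1 ≠ 0) (h12 : S.A v1 v2 ≠ 0) (h23 : S.A v2 v3 ≠ 0) (h24 : S.A v2 v4 ≠ 0) :
    (S.W v1 = S.W v0 ∧ S.A v0 v1 = S.W v0 ∧ S.W v2 = S.W v1 ∧ S.A v1 v2 = S.W v1 ∧ S.W v3 = S.W v2 ∧ S.A v2 v3 = S.W v2 ∧ S.W v4 = S.W v2 ∧ S.A v2 v4 = S.W v2) :=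
  ((S.comap ⟨![v0, v1, v2, v3, v4], hinj⟩).D5 h01 h12 h23 h24).2

/-- Middle edges of a chain of length at least five are of type `E`. -/
theorem chain_mid (ht : 5 ≤ t) (htr : t ≤ r) (j j' : Fin r) (h1 : 1 ≤ j.val)
    (h2 : j'.val = j.val + 1) (h3 : j'.val + 1 < t) : S.W j' = S.W j ∧ S.A j j' = S.W j := by
  by_cases hj : j.val + 4 ≤ t
  · obtain ⟨v0, hv0⟩ : ∃ v0 : Fin r, v0.val = j.val - 1 := ⟨⟨j.val - 1, by omega⟩, rfl⟩
    obtain ⟨v3, hv3⟩ : ∃ v3 : Fin r, v3.val = j.val + 2 := ⟨⟨j.val + 2, by omega⟩, rfl⟩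
    obtain ⟨v4, hv4⟩ : ∃ v4 : Fin r, v4.val = j.val + 3 := ⟨⟨j.val + 3, by omega⟩, rfl⟩
    have key := S.five_window v0 j j' v3 v4
      (inj5_of_succ v0 j j' v3 v4 (by omega) (by omega) (by omega) (by omega))
      (hch v0 j (by omega) (by omega)) (hch j j' (by omega) (by omega))
      (hch j' v3 (by omega) (by omega)) (hch v3 v4 (by omega) (by omega))
    rcases key with h | h | h | h | h <;> exact ⟨h.2.2.1, h.2.2.2.1⟩
  · obtain ⟨v0, hv0⟩ : ∃ v0 : Fin r, v0.val = j.val - 2 := ⟨⟨j.val - 2, by omega⟩, rfl⟩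
    obtain ⟨v1, hv1⟩ : ∃ v1 : Fin r, v1.val = j.val - 1 := ⟨⟨j.val - 1, by omega⟩, rfl⟩
    obtain ⟨v4, hv4⟩ : ∃ v4 : Fin r, v4.val = j.val + 2 := ⟨⟨j.val + 2, by omega⟩, rfl⟩
    have key := S.five_window v0 v1 j j' v4
      (inj5_of_succ v0 v1 j j' v4 (by omega) (by omega) (by omega) (by omega))
      (hch v0 v1 (by omega) (by omega)) (hch v1 j (by omega) (by omega))
      (hch j j' (by omega) (by omega)) (hch j' v4 (by omega) (by omega))
    rcases key with h | h | h | h | h <;> exact ⟨h.2.2.2.2.1, h.2.2.2.2.2.1⟩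

theorem chain_first (ht : 5 ≤ t) (htr : t ≤ r) (j0 j1 : Fin r) (h0 : j0.val = 0)
    (h1 : j1.val = 1) :
    (S.W j1 = S.W j0 ∧ S.A j0 j1 = S.W j0) ∨ (S.W j1 = 2 * S.W j0 ∧ S.A j0 j1 = 2 * S.W j0) ∨
      (S.W j0 = 2 * S.W j1 ∧ S.A j0 j1 = 2 * S.W j1) := by
  obtain ⟨v2, hv2⟩ : ∃ v2 : Fin r, v2.val = 2 := ⟨⟨2, by omega⟩, rfl⟩
  obtain ⟨v3, hv3⟩ : ∃ v3 : Fin r, v3.val = 3 := ⟨⟨3, by omega⟩, rfl⟩
  obtain ⟨v4, hv4⟩ : ∃ v4 : Fin r, v4.val = 4 := ⟨⟨4, by omega⟩, rfl⟩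
  have key := S.five_window j0 j1 v2 v3 v4
    (inj5_of_succ j0 j1 v2 v3 v4 (by omega) (by omega) (by omega) (by omega))
    (hch j0 j1 (by omega) (by omega)) (hch j1 v2 (by omega) (by omega))
    (hch v2 v3 (by omega) (by omega)) (hch v3 v4 (by omega) (by omega))
  rcases key with h | h | h | h | h
  · exact Or.inl ⟨h.1, h.2.1⟩
  · exact Or.inl ⟨h.1, h.2.1⟩
  · exact Or.inl ⟨h.1, h.2.1⟩
  · exact Or.inr (Or.inl ⟨h.1, h.2.1⟩)
  · exact Or.inr (Or.inr ⟨h.1, h.2.1⟩)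

theorem chain_last (ht : 5 ≤ t) (htr : t ≤ r) (jl' jl : Fin r) (hl' : jl'.val + 2 = t)
    (hl : jl.val + 1 = t) :
    (S.W jl = S.W jl' ∧ S.A jl' jl = S.W jl') ∨ (S.W jl = 2 * S.W jl' ∧ S.A jl' jl = 2 * S.W jl') ∨
      (S.W jl' = 2 * S.W jl ∧ S.A jl' jl = 2 * S.W jl) := by
  obtain ⟨v0, hv0⟩ : ∃ v0 : Fin r, v0.val = t - 5 := ⟨⟨t - 5, by omega⟩, rfl⟩
  obtain ⟨v1, hv1⟩ : ∃ v1 : Fin r, v1.val = t - 4 := ⟨⟨t - 4, by omega⟩, rfl⟩
  obtain ⟨v2, hv2⟩ : ∃ v2 : Fin r, v2.val = t - 3 := ⟨⟨t - 3, by omega⟩, rfl⟩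
  have key := S.five_window v0 v1 v2 jl' jl
    (inj5_of_succ v0 v1 v2 jl' jl (by omega) (by omega) (by omega) (by omega))
    (hch v0 v1 (by omega) (by omega)) (hch v1 v2 (by omega) (by omega))
    (hch v2 jl' (by omega) (by omega)) (hch jl' jl (by omega) (by omega))
  rcases key with h | h | h | h | h
  · exact Or.inl ⟨h.2.2.2.2.2.2.1, h.2.2.2.2.2.2.2⟩
  · exact Or.inr (Or.inl ⟨h.2.2.2.2.2.2.1, h.2.2.2.2.2.2.2⟩)
  · exact Or.inr (Or.inr ⟨h.2.2.2.2.2.2.1, h.2.2.2.2.2.2.2⟩)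
  · exact Or.inl ⟨h.2.2.2.2.2.2.1, h.2.2.2.2.2.2.2⟩
  · exact Or.inl ⟨h.2.2.2.2.2.2.1, h.2.2.2.2.2.2.2⟩

/-- Interior weights of a chain are all equal. -/
theorem chain_weights (ht : 5 ≤ t) (htr : t ≤ r) (j1 : Fin r) (h1 : j1.val = 1) (j : Fin r)
    (hj1 : 1 ≤ j.val) (hj2 : j.val + 1 < t) : S.W j = S.W j1 := by
  have key : ∀ k, 1 ≤ k → ∀ j : Fin r, j.val = k → k + 1 < t → S.W j = S.W j1 := by
    intro k hk
    induction k, hk using Nat.le_induction with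
    | base =>
      intro j hj _
      have : j = j1 := Fin.ext (by omega)
      rw [this]
    | succ k hk ih =>
      intro j hj hlt
      obtain ⟨jp, hjp⟩ : ∃ jp : Fin r, jp.val = k := ⟨⟨k, by omega⟩, rfl⟩
      have h := S.chain_mid t hch ht htr jp j (by omega) (by omega) (by omega)
      rw [h.1, ih jp hjp (by omega)]
  exact key j.val hj1 j rfl hj2

omit hch in
/-- A test vector constant on the interior of a chain. -/
theorem chain_ends_false (ht : 6 ≤ t) (htr : t ≤ r) (w : ℤ)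
    (hint : ∀ j : Fin r, 1 ≤ j.val → j.val + 1 < t → S.W j = w)
    (hmid : ∀ j j' : Fin r, 1 ≤ j.val → j'.val = j.val + 1 → j'.val + 1 < t → S.A j j' = w)
    (j0 j1 jl' jl : Fin r) (h0 : j0.val = 0) (h1 : j1.val = 1) (hl' : jl'.val + 2 = t)
    (hl : jl.val + 1 = t) (x0 xm xl : ℤ) (hx0 : 0 ≤ x0) (hxm : 0 < xm) (hxl : 0 ≤ xl)
    (r0 : 0 ≤ -2 * S.W j0 * x0 + S.A j0 j1 * xm)
    (r1 : 0 ≤ -2 * w * xm + S.A j0 j1 * x0 + w * xm)
    (rl' : 0 ≤ -2 * w * xm + w * xm + S.A jl' jl * xl)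
    (rl : 0 ≤ -2 * S.W jl * xl + S.A jl' jl * xm) : False := by
  classical
  let x : Fin r → ℤ := fun p =>
    if p.val = 0 then x0 else if p.val + 1 = t then xl else if p.val < t then xm else 0
  have hxa : ∀ p : Fin r, p.val = 0 → x p = x0 := fun p h => if_pos h
  have hxb : ∀ p : Fin r, p.val + 1 = t → x p = xl := fun p h => by
    simp only [x]
    rw [if_neg (by omega), if_pos h]
  have hxc : ∀ p : Fin r, 1 ≤ p.val → p.val + 1 < t → x p = xm := fun p h h' => by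
    simp only [x]
    rw [if_neg (by omega), if_neg (by omega), if_pos (by omega)]
  have hxd : ∀ p : Fin r, t ≤ p.val → x p = 0 := fun p h => by
    simp only [x]
    rw [if_neg (by omega), if_neg (by omega), if_neg (by omega)]
  have hx : ∀ p, 0 ≤ x p := by
    intro p
    by_cases ha : p.val = 0
    · rw [hxa p ha]; exact hx0
    by_cases hb : p.val + 1 = t
    · rw [hxb p hb]; exact hxl
    by_cases hc : p.val < t
    · rw [hxc p (by omega) (by omega)]; exact hxm.le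
    · rw [hxd p (by omega)]
  have hne : x ≠ 0 := by
    intro h
    have := congrFun h j1
    rw [hxc j1 (by omega) (by omega)] at this
    simp at this
    omega
  have ne_of : ∀ a b : Fin r, a.val ≠ b.val → a ≠ b := fun a b h h' => h (congrArg Fin.val h')
  apply S.false_of_rows_nonneg x hx hne
  intro p
  by_cases ha : p.val = 0
  · have hp : p = j0 := Fin.ext (by omega)
    subst hp
    have h := S.row_ge1 x hx p j1 (ne_of _ _ (by omega))
    rw [hxa p ha, hxc j1 (by omega) (by omega)] at h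
    linarith
  by_cases hb : p.val = 1
  · have hp : p = j1 := Fin.ext (by omega)
    subst hp
    obtain ⟨j2, hj2⟩ : ∃ j2 : Fin r, j2.val = 2 := ⟨⟨2, by omega⟩, rfl⟩
    have h := S.row_ge2 x hx p j0 j2 (ne_of _ _ (by omega)) (ne_of _ _ (by omega))
      (ne_of _ _ (by omega))
    rw [hxc p (by omega) (by omega), hxa j0 h0, hxc j2 (by omega) (by omega),
      hint p (by omega) (by omega), S.hsymm p j0, hmid p j2 (by omega) (by omega) (by omega)] at h
    linarith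
  by_cases hc : p.val + 2 < t
  · obtain ⟨q1, hq1⟩ : ∃ q1 : Fin r, q1.val = p.val - 1 := ⟨⟨p.val - 1, by omega⟩, rfl⟩
    obtain ⟨q2, hq2⟩ : ∃ q2 : Fin r, q2.val = p.val + 1 := ⟨⟨p.val + 1, by omega⟩, rfl⟩
    have h := S.row_ge2 x hx p q1 q2 (ne_of _ _ (by omega)) (ne_of _ _ (by omega))
      (ne_of _ _ (by omega))
    rw [hxc p (by omega) (by omega), hxc q1 (by omega) (by omega), hxc q2 (by omega) (by omega),
      hint p (by omega) (by omega), S.hsymm p q1, hmid q1 p (by omega) (by omega) (by omega),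
      hmid p q2 (by omega) (by omega) (by omega)] at h
    linarith
  by_cases hd : p.val + 2 = t
  · have hp : p = jl' := Fin.ext (by omega)
    subst hp
    obtain ⟨q1, hq1⟩ : ∃ q1 : Fin r, q1.val = p.val - 1 := ⟨⟨p.val - 1, by omega⟩, rfl⟩
    have h := S.row_ge2 x hx p q1 jl (ne_of _ _ (by omega)) (ne_of _ _ (by omega))
      (ne_of _ _ (by omega))
    rw [hxc p (by omega) (by omega), hxc q1 (by omega) (by omega), hxb jl hl,
      hint p (by omega) (by omega), S.hsymm p q1, hmid q1 p (by omega) (by omega) (by omega)] at h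
    linarith
  by_cases he : p.val + 1 = t
  · have hp : p = jl := Fin.ext (by omega)
    subst hp
    have h := S.row_ge1 x hx p jl' (ne_of _ _ (by omega))
    rw [hxb p he, hxc jl' (by omega) (by omega), S.hsymm p jl'] at h
    linarith
  · exact S.row_nonneg0 x hx p (hxd p (by omega))

end Chain

end Sub

end Groth.Agent.Helper3.NumType
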