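import Groth.Agent.Helper3.NumTypeC

/-! Classification of long chains of `(-2)`-indices. -/

namespace Groth.Agent.Helper3.NumType

open Finset Models

namespace Sub

/-- Classification of a chain of `t ≥ 6` `(-2)`-indices (abstract form). -/
theorem chain_classify {t : ℕ} (S : Sub t) (ht : 6 ≤ t)
    (hch : ∀ j j' : Fin t, j'.val = j.val + 1 → S.A j j' ≠ 0) :
    (∀ j k : Fin t, j.val + 1 < k.val → S.A j k = 0) ∧ ∃ w : ℤ,
      (((∀ j : Fin t, S.W j = w) ∧ (∀ j j' : Fin t, j'.val = j.val + 1 → S.A j j' = w)) ∨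
      ((∀ j : Fin t, j.val + 1 < t → S.W j = w) ∧ (∀ j : Fin t, j.val + 1 = t → S.W j = 2 * w) ∧
        (∀ j j' : Fin t, j'.val = j.val + 1 → j'.val + 1 < t → S.A j j' = w) ∧
        (∀ j j' : Fin t, j'.val = j.val + 1 → j'.val + 1 = t → S.A j j' = 2 * w)) ∨
      ((∀ j : Fin t, j.val + 1 < t → S.W j = 2 * w) ∧ (∀ j : Fin t, j.val + 1 = t → S.W j = w) ∧
        (∀ j j' : Fin t, j'.val = j.val + 1 → S.A j j' = 2 * w)) ∨
      ((∀ j : Fin t, 1 ≤ j.val → S.W j = w) ∧ (∀ j : Fin t, j.val = 0 → S.W j = 2 * w) ∧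
        (∀ j j' : Fin t, j'.val = j.val + 1 → 1 ≤ j.val → S.A j j' = w) ∧
        (∀ j j' : Fin t, j'.val = j.val + 1 → j.val = 0 → S.A j j' = 2 * w)) ∨
      ((∀ j : Fin t, 1 ≤ j.val → S.W j = 2 * w) ∧ (∀ j : Fin t, j.val = 0 → S.W j = w) ∧
        (∀ j j' : Fin t, j'.val = j.val + 1 → S.A j j' = 2 * w))) := by
  have hch' : ∀ j j' : Fin t, j'.val = j.val + 1 → j'.val < t → S.A j j' ≠ 0 :=
    fun j j' h _ => hch j j' h
  have h5 : 5 ≤ t := by omega
  refine ⟨fun j k hjk => S.chain_chord_zero t hch' j k hjk k.isLt, ?_⟩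
  obtain ⟨j0, h0⟩ : ∃ j0 : Fin t, j0.val = 0 := ⟨⟨0, by omega⟩, rfl⟩
  obtain ⟨j1, h1⟩ : ∃ j1 : Fin t, j1.val = 1 := ⟨⟨1, by omega⟩, rfl⟩
  obtain ⟨jl', hl'⟩ : ∃ jl' : Fin t, jl'.val + 2 = t := ⟨⟨t - 2, by omega⟩, by simp; omega⟩
  obtain ⟨jl, hl⟩ : ∃ jl : Fin t, jl.val + 1 = t := ⟨⟨t - 1, by omega⟩, by simp; omega⟩
  set w := S.W j1 with hw
  have hwpos : 0 < w := S.hW j1
  have hint : ∀ j : Fin t, 1 ≤ j.val → j.val + 1 < t → S.W j = w :=
    fun j a b => S.chain_weights t hch' h5 le_rfl j1 h1 j a b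
  have hmid : ∀ j j' : Fin t, 1 ≤ j.val → j'.val = j.val + 1 → j'.val + 1 < t → S.A j j' = w := by
    intro j j' a b c
    rw [(S.chain_mid t hch' h5 le_rfl j j' a b c).2, hint j a (by omega)]
  have hfirst := S.chain_first t hch' h5 le_rfl j0 j1 h0 h1
  have hlast := S.chain_last t hch' h5 le_rfl jl' jl hl' hl
  have hwl' : S.W jl' = w := hint jl' (by omega) (by omega)
  rw [hwl'] at hlast
  have eq0 : ∀ j : Fin t, j.val = 0 → j = j0 := fun j h => Fin.ext (by omega)
  have eql : ∀ j : Fin t, j.val + 1 = t → j = jl := fun j h => Fin.ext (by omega)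
  have eql' : ∀ j : Fin t, j.val + 2 = t → j = jl' := fun j h => Fin.ext (by omega)
  have eq1 : ∀ j : Fin t, j.val = 1 → j = j1 := fun j h => Fin.ext (by omega)
  -- general description of the weights and edges
  have Wcase : ∀ j : Fin t, j = j0 ∨ j = jl ∨ (1 ≤ j.val ∧ j.val + 1 < t) := by
    intro j
    by_cases a : j.val = 0
    · exact Or.inl (eq0 j a)
    by_cases b : j.val + 1 = t
    · exact Or.inr (Or.inl (eql j b))
    · exact Or.inr (Or.inr ⟨by omega, by have := j.isLt; omega⟩)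
  have Ecase : ∀ j j' : Fin t, j'.val = j.val + 1 →
      (j = j0 ∧ j' = j1) ∨ (j = jl' ∧ j' = jl) ∨ (1 ≤ j.val ∧ j'.val + 1 < t) := by
    intro j j' h
    by_cases a : j.val = 0
    · exact Or.inl ⟨eq0 j a, eq1 j' (by omega)⟩
    by_cases b : j'.val + 1 = t
    · exact Or.inr (Or.inl ⟨eql' j (by omega), eql j' b⟩)
    · exact Or.inr (Or.inr ⟨by omega, by have := j'.isLt; omega⟩)
  rcases hfirst with ⟨f1, f2⟩ | ⟨f1, f2⟩ | ⟨f1, f2⟩ <;> rcases hlast with ⟨l1, l2⟩ | ⟨l1, l2⟩ | ⟨l1, l2⟩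
  · -- E, E : type A
    refine ⟨w, Or.inl ⟨?_, ?_⟩⟩
    · intro j
      rcases Wcase j with rfl | rfl | ⟨a, b⟩
      · linarith
      · linarith
      · exact hint j a b
    · intro j j' h
      rcases Ecase j j' h with ⟨rfl, rfl⟩ | ⟨rfl, rfl⟩ | ⟨a, b⟩
      · linarith
      · linarith
      · exact hmid j j' a h b
  · -- E, U2 : type C
    refine ⟨w, Or.inr (Or.inl ⟨?_, ?_, ?_, ?_⟩)⟩
    · intro j hj
      rcases Wcase j with rfl | rfl | ⟨a, b⟩
      · linarith
      · omega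
      · exact hint j a b
    · intro j hj
      rw [eql j hj]; linarith
    · intro j j' h hj'
      rcases Ecase j j' h with ⟨rfl, rfl⟩ | ⟨rfl, rfl⟩ | ⟨a, b⟩
      · linarith
      · omega
      · exact hmid j j' a h b
    · intro j j' h hj'
      have e1 := eql j' hj'
      have e2 := eql' j (by omega)
      rw [e1, e2]; linarith
  · -- E, D2 : type B with w' = W jl
    refine ⟨S.W jl, Or.inr (Or.inr (Or.inl ⟨?_, ?_, ?_⟩))⟩
    · intro j hj
      rcases Wcase j with rfl | rfl | ⟨a, b⟩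
      · linarith
      · omega
      · rw [hint j a b]; linarith
    · intro j hj
      rw [eql j hj]
    · intro j j' h
      rcases Ecase j j' h with ⟨rfl, rfl⟩ | ⟨rfl, rfl⟩ | ⟨a, b⟩
      · linarith
      · linarith
      · rw [hmid j j' a h b]; linarith
  · -- U2, E : reversed B with w' = W j0
    refine ⟨S.W j0, Or.inr (Or.inr (Or.inr (Or.inr ⟨?_, ?_, ?_⟩)))⟩
    · intro j hj
      rcases Wcase j with rfl | rfl | ⟨a, b⟩
      · omega
      · linarith
      · rw [hint j a b]; linarith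
    · intro j hj
      rw [eq0 j hj]
    · intro j j' h
      rcases Ecase j j' h with ⟨rfl, rfl⟩ | ⟨rfl, rfl⟩ | ⟨a, b⟩
      · linarith
      · linarith
      · rw [hmid j j' a h b]; linarith
  · -- U2, U2 : impossible
    exfalso
    apply S.chain_ends_false t ht le_rfl w hint hmid j0 j1 jl' jl h0 h1 hl' hl 2 2 1
      (by norm_num) (by norm_num) (by norm_num) <;> linarith
  · -- U2, D2 : impossible
    exfalso
    apply S.chain_ends_false t ht le_rfl w hint hmid j0 j1 jl' jl h0 h1 hl' hl 1 1 1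
      (by norm_num) (by norm_num) (by norm_num) <;> linarith
  · -- D2, E : reversed C
    refine ⟨w, Or.inr (Or.inr (Or.inr (Or.inl ⟨?_, ?_, ?_, ?_⟩)))⟩
    · intro j hj
      rcases Wcase j with rfl | rfl | ⟨a, b⟩
      · omega
      · linarith
      · exact hint j a b
    · intro j hj
      rw [eq0 j hj]; linarith
    · intro j j' h hj
      rcases Ecase j j' h with ⟨rfl, rfl⟩ | ⟨rfl, rfl⟩ | ⟨a, b⟩
      · omega
      · linarith
      · exact hmid j j' a h b
    · intro j j' h hj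
      have e1 := eq0 j hj
      have e2 := eq1 j' (by omega)
      rw [e1, e2]; linarith
  · -- D2, U2 : impossible
    exfalso
    apply S.chain_ends_false t ht le_rfl w hint hmid j0 j1 jl' jl h0 h1 hl' hl 1 2 1
      (by norm_num) (by norm_num) (by norm_num) <;> linarith
  · -- D2, D2 : impossible
    exfalso
    apply S.chain_ends_false t ht le_rfl w hint hmid j0 j1 jl' jl h0 h1 hl' hl 1 2 2
      (by norm_num) (by norm_num) (by norm_num) <;> linarith

end Sub

end Groth.Agent.Helper3.NumType
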