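import Groth.Agent.Helper3.NumTypeC

/-! Classification of `D`-type configurations of `(-2)`-indices of arbitrary size. -/

namespace Groth.Agent.Helper3.NumType

open Finset Models

namespace Sub

/-- A test vector constant on the interior of a chain with a fork at the end. -/
theorem fork_ends_false {t : ℕ} (S : Sub (t + 1)) (ht : 5 ≤ t) (w : ℤ)
    (hint : ∀ j : Fin (t + 1), 1 ≤ j.val → S.W j = w)
    (hmid : ∀ j j' : Fin (t + 1), 1 ≤ j.val → j'.val = j.val + 1 → j'.val < t → S.A j j' = w)
    (j0 j1 jl' jl jt : Fin (t + 1)) (h0 : j0.val = 0) (h1 : j1.val = 1) (hl' : jl'.val + 2 = t)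
    (hl : jl.val + 1 = t) (hjt : jt.val = t) (hbr : S.A jl' jt = w)
    (x0 xm xe : ℤ) (hx0 : 0 ≤ x0) (hxm : 0 < xm) (hxe : 0 ≤ xe)
    (r0 : 0 ≤ -2 * S.W j0 * x0 + S.A j0 j1 * xm)
    (r1 : 0 ≤ -2 * w * xm + S.A j0 j1 * x0 + w * xm)
    (rf : 0 ≤ -2 * w * xm + w * xm + w * xe + w * xe)
    (re : 0 ≤ -2 * w * xe + w * xm) : False := by
  classical
  let x : Fin (t + 1) → ℤ := fun p =>
    if p.val = 0 then x0 else if t ≤ p.val + 1 then xe else xm
  have hxa : ∀ p : Fin (t + 1), p.val = 0 → x p = x0 := fun p h => if_pos h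
  have hxb : ∀ p : Fin (t + 1), t ≤ p.val + 1 → x p = xe := fun p h => by
    simp only [x]
    rw [if_neg (by omega), if_pos h]
  have hxc : ∀ p : Fin (t + 1), 1 ≤ p.val → p.val + 1 < t → x p = xm := fun p h h' => by
    simp only [x]
    rw [if_neg (by omega), if_neg (by omega)]
  have hx : ∀ p, 0 ≤ x p := by
    intro p
    by_cases ha : p.val = 0
    · rw [hxa p ha]; exact hx0
    by_cases hb : t ≤ p.val + 1
    · rw [hxb p hb]; exact hxe
    · rw [hxc p (by omega) (by omega)]; exact hxm.le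
  have hne : x ≠ 0 := by
    intro h
    have := congrFun h j1
    rw [hxc j1 (by omega) (by omega)] at this
    simp at this
    omega
  have ne_of : ∀ a b : Fin (t + 1), a.val ≠ b.val → a ≠ b :=
    fun a b h h' => h (congrArg Fin.val h')
  apply S.false_of_rows_nonneg x hx hne
  intro p
  have hplt := p.isLt
  by_cases ha : p.val = 0
  · have hp : p = j0 := Fin.ext (by omega)
    subst hp
    have h := S.row_ge1 x hx p j1 (ne_of _ _ (by omega))
    rw [hxa p ha, hxc j1 (by omega) (by omega)] at h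
    linarith
  by_cases hb : p.val = 1
  · have hp : p = j1 := Fin.ext (by omega)
    subst hp
    obtain ⟨j2, hj2⟩ : ∃ j2 : Fin (t + 1), j2.val = 2 := ⟨⟨2, by omega⟩, rfl⟩
    have h := S.row_ge2 x hx p j0 j2 (ne_of _ _ (by omega)) (ne_of _ _ (by omega))
      (ne_of _ _ (by omega))
    rw [hxc p (by omega) (by omega), hxa j0 h0, hxc j2 (by omega) (by omega),
      hint p (by omega), S.hsymm p j0, hmid p j2 (by omega) (by omega) (by omega)] at h
    linarith
  by_cases hc : p.val + 2 < t
  · obtain ⟨q1, hq1⟩ : ∃ q1 : Fin (t + 1), q1.val = p.val - 1 := ⟨⟨p.val - 1, by omega⟩, rfl⟩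
    obtain ⟨q2, hq2⟩ : ∃ q2 : Fin (t + 1), q2.val = p.val + 1 := ⟨⟨p.val + 1, by omega⟩, rfl⟩
    have h := S.row_ge2 x hx p q1 q2 (ne_of _ _ (by omega)) (ne_of _ _ (by omega))
      (ne_of _ _ (by omega))
    rw [hxc p (by omega) (by omega), hxc q1 (by omega) (by omega), hxc q2 (by omega) (by omega),
      hint p (by omega), S.hsymm p q1, hmid q1 p (by omega) (by omega) (by omega),
      hmid p q2 (by omega) (by omega) (by omega)] at h
    linarith
  by_cases hd : p.val + 2 = t
  · have hp : p = jl' := Fin.ext (by omega)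
    subst hp
    obtain ⟨q1, hq1⟩ : ∃ q1 : Fin (t + 1), q1.val = p.val - 1 := ⟨⟨p.val - 1, by omega⟩, rfl⟩
    have h := S.row_ge3 x hx p q1 jl jt (ne_of _ _ (by omega)) (ne_of _ _ (by omega))
      (ne_of _ _ (by omega)) (ne_of _ _ (by omega)) (ne_of _ _ (by omega)) (ne_of _ _ (by omega))
    rw [hxc p (by omega) (by omega), hxc q1 (by omega) (by omega), hxb jl (by omega),
      hxb jt (by omega), hint p (by omega), S.hsymm p q1,
      hmid q1 p (by omega) (by omega) (by omega), hmid p jl (by omega) (by omega) (by omega),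
      hbr] at h
    linarith
  by_cases he : p.val + 1 = t
  · have hp : p = jl := Fin.ext (by omega)
    subst hp
    have h := S.row_ge1 x hx p jl' (ne_of _ _ (by omega))
    rw [hxb p (by omega), hxc jl' (by omega) (by omega), hint p (by omega), S.hsymm p jl',
      hmid jl' p (by omega) (by omega) (by omega)] at h
    linarith
  · have hp : p = jt := Fin.ext (by omega)
    subst hp
    have h := S.row_ge1 x hx p jl' (ne_of _ _ (by omega))
    rw [hxb p (by omega), hxc jl' (by omega) (by omega), hint p (by omega), S.hsymm p jl',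
      hbr] at h
    linarith

/-- Classification of `D`-type configurations (abstract form). -/
theorem fork_classify {t : ℕ} (S : Sub (t + 1)) (ht : 5 ≤ t)
    (hch : ∀ j j' : Fin (t + 1), j'.val = j.val + 1 → j'.val < t → S.A j j' ≠ 0)
    (hbr : ∀ j j' : Fin (t + 1), j.val + 2 = t → j'.val = t → S.A j j' ≠ 0) :
    ∃ w : ℤ, (∀ j : Fin (t + 1), S.W j = w) ∧
      (∀ j j' : Fin (t + 1), j'.val = j.val + 1 → j'.val < t → S.A j j' = w) ∧
      (∀ j j' : Fin (t + 1), j.val + 2 = t → j'.val = t → S.A j j' = w) ∧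
      (∀ j k : Fin (t + 1), j.val < k.val → ¬ (k.val = j.val + 1 ∧ k.val < t) →
        ¬ (j.val + 2 = t ∧ k.val = t) → S.A j k = 0) := by
  classical
  obtain ⟨j0, h0⟩ : ∃ j0 : Fin (t + 1), j0.val = 0 := ⟨⟨0, by omega⟩, rfl⟩
  obtain ⟨j1, h1⟩ : ∃ j1 : Fin (t + 1), j1.val = 1 := ⟨⟨1, by omega⟩, rfl⟩
  obtain ⟨jl', hl'⟩ : ∃ jl' : Fin (t + 1), jl'.val + 2 = t := ⟨⟨t - 2, by omega⟩, by simp; omega⟩
  obtain ⟨jl, hl⟩ : ∃ jl : Fin (t + 1), jl.val + 1 = t := ⟨⟨t - 1, by omega⟩, by simp; omega⟩
  obtain ⟨jt, hjt⟩ : ∃ jt : Fin (t + 1), jt.val = t := ⟨⟨t, by omega⟩, rfl⟩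
  obtain ⟨ja, hja⟩ : ∃ ja : Fin (t + 1), ja.val + 4 = t := ⟨⟨t - 4, by omega⟩, by simp; omega⟩
  obtain ⟨jb, hjb⟩ : ∃ jb : Fin (t + 1), jb.val + 3 = t := ⟨⟨t - 3, by omega⟩, by simp; omega⟩
  have ne_of : ∀ a b : Fin (t + 1), a.val ≠ b.val → a ≠ b :=
    fun a b h h' => h (congrArg Fin.val h')
  have htr : t ≤ t + 1 := by omega
  -- fork window
  have hinj : Function.Injective ![ja, jb, jl', jl, jt] := by
    intro a b hab
    fin_cases a <;> fin_cases b <;>
      first | rfl | (exfalso; have := congrArg Fin.val hab; simp at this; omega)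
  have hfork := S.five_fork ja jb jl' jl jt hinj (hch ja jb (by omega) (by omega))
    (hch jb jl' (by omega) (by omega)) (hch jl' jl (by omega) (by omega))
    (hbr jl' jt hl' hjt)
  obtain ⟨f1, f2, f3, f4, f5, f6, f7, f8⟩ := hfork
  set w := S.W j1 with hw
  have hint0 : ∀ j : Fin (t + 1), 1 ≤ j.val → j.val + 1 < t → S.W j = w :=
    fun j a b => S.chain_weights t hch ht htr j1 h1 j a b
  have hwl' : S.W jl' = w := hint0 jl' (by omega) (by omega)
  have hwl : S.W jl = w := by rw [f5, hwl']
  have hwt : S.W jt = w := by rw [f7, hwl']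
  have hint : ∀ j : Fin (t + 1), 1 ≤ j.val → S.W j = w := by
    intro j hj
    have := j.isLt
    by_cases a : j.val + 1 < t
    · exact hint0 j hj a
    by_cases b : j.val + 1 = t
    · have : j = jl := Fin.ext (by omega)
      rw [this]; exact hwl
    · have : j = jt := Fin.ext (by omega)
      rw [this]; exact hwt
  have hmid : ∀ j j' : Fin (t + 1), 1 ≤ j.val → j'.val = j.val + 1 → j'.val < t →
      S.A j j' = w := by
    intro j j' a b c
    by_cases d : j'.val + 1 < t
    · rw [(S.chain_mid t hch ht htr j j' a b d).2, hint j a]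
    · have e1 : j' = jl := Fin.ext (by omega)
      have e2 : j = jl' := Fin.ext (by omega)
      rw [e1, e2, f6, hwl']
  have hbrw : S.A jl' jt = w := by rw [f8, hwl']
  -- first edge
  have hfirst := S.chain_first t hch ht htr j0 j1 h0 h1
  have hE : S.W j0 = w ∧ S.A j0 j1 = w := by
    rcases hfirst with ⟨a, b⟩ | ⟨a, b⟩ | ⟨a, b⟩
    · exact ⟨by linarith, by linarith⟩
    · exfalso
      apply S.fork_ends_false ht w hint hmid j0 j1 jl' jl jt h0 h1 hl' hl hjt hbrw 2 2 1
        (by norm_num) (by norm_num) (by norm_num) <;> linarith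
    · exfalso
      apply S.fork_ends_false ht w hint hmid j0 j1 jl' jl jt h0 h1 hl' hl hjt hbrw 1 2 1
        (by norm_num) (by norm_num) (by norm_num) <;> linarith
  refine ⟨w, ?_, ?_, ?_, ?_⟩
  · intro j
    by_cases a : j.val = 0
    · have : j = j0 := Fin.ext (by omega)
      rw [this]; exact hE.1
    · exact hint j (by omega)
  · intro j j' a b
    by_cases c : j.val = 0
    · have e1 : j = j0 := Fin.ext (by omega)
      have e2 : j' = j1 := Fin.ext (by omega)
      rw [e1, e2]; exact hE.2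
    · exact hmid j j' (by omega) a b
  · intro j j' a b
    have e1 : j = jl' := Fin.ext (by omega)
    have e2 : j' = jt := Fin.ext (by omega)
    rw [e1, e2]; exact hbrw
  · intro j k hjk hn1 hn2
    have hklt := k.isLt
    by_cases hk : k.val < t
    · exact S.chain_chord_zero t hch j k (by omega) hk
    have hkt : k = jt := Fin.ext (by omega)
    subst hkt
    by_contra hne
    have hjk' : j ≠ k := ne_of _ _ (by omega)
    have hpos : 0 < S.A j k := S.pos_of_ne hjk' hne
    have hpos' : 0 < S.A k j := S.pos_symm hpos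
    have hbpos : 0 < S.A jl' k := S.pos_of_ne (ne_of _ _ (by omega)) (hbr jl' k hl' hjt)
    have hbpos' : 0 < S.A k jl' := S.pos_symm hbpos
    by_cases hj1 : j.val + 1 = t
    · -- triangle
      have hj : j = jl := Fin.ext (by omega)
      subst hj
      have c1 : 0 < S.A jl' j := S.chain_pos t hch jl' j (by omega) (by omega)
      have c1' : 0 < S.A j jl' := S.pos_symm c1
      apply S.two_nbrs_false {jl', j, k} ⟨jl', by simp⟩
      intro p hp
      simp only [Finset.mem_insert, Finset.mem_singleton] at hp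
      rcases hp with rfl | rfl | rfl
      · exact ⟨j, by simp, k, by simp, ne_of _ _ (by omega), ne_of _ _ (by omega),
          ne_of _ _ (by omega), c1, hbpos⟩
      · exact ⟨jl', by simp, k, by simp, ne_of _ _ (by omega), ne_of _ _ (by omega),
          ne_of _ _ (by omega), c1', hpos⟩
      · exact ⟨jl', by simp, j, by simp, ne_of _ _ (by omega), ne_of _ _ (by omega),
          ne_of _ _ (by omega), hbpos', hpos'⟩
    · -- long cycle
      have hjlt : j.val + 2 < t := by omega
      have mem : ∀ q : Fin (t + 1), (j.val ≤ q.val ∧ q.val + 2 ≤ t) ∨ q = k →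
          q ∈ (Finset.univ.filter fun p : Fin (t + 1) => (j.val ≤ p.val ∧ p.val + 2 ≤ t) ∨ p = k) := by
        intro q h
        simp only [Finset.mem_filter, Finset.mem_univ, true_and]
        exact h
      apply S.two_nbrs_false
        (Finset.univ.filter fun p : Fin (t + 1) => (j.val ≤ p.val ∧ p.val + 2 ≤ t) ∨ p = k)
        ⟨j, mem j (Or.inl ⟨le_rfl, by omega⟩)⟩
      intro p hp
      simp only [Finset.mem_filter, Finset.mem_univ, true_and] at hp
      rcases hp with ⟨hp1, hp2⟩ | rfl
      · by_cases hpj : p = j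
        · subst hpj
          obtain ⟨q1, hq1⟩ : ∃ q1 : Fin (t + 1), q1.val = p.val + 1 := ⟨⟨p.val + 1, by omega⟩, rfl⟩
          exact ⟨q1, mem q1 (Or.inl ⟨by omega, by omega⟩), k, mem k (Or.inr rfl),
            ne_of _ _ (by omega), hjk', ne_of _ _ (by omega),
            S.chain_pos t hch p q1 hq1 (by omega), hpos⟩
        have hpj' : p.val ≠ j.val := fun h => hpj (Fin.ext h)
        by_cases hpl : p.val + 2 = t
        · have hp : p = jl' := Fin.ext (by omega)
          subst hp
          obtain ⟨q1, hq1⟩ : ∃ q1 : Fin (t + 1), q1.val = p.val - 1 := ⟨⟨p.val - 1, by omega⟩, rfl⟩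
          exact ⟨q1, mem q1 (Or.inl ⟨by omega, by omega⟩), k, mem k (Or.inr rfl),
            ne_of _ _ (by omega), ne_of _ _ (by omega), ne_of _ _ (by omega),
            S.chain_pos' t hch q1 p (by omega) (by omega), hbpos⟩
        · obtain ⟨q1, hq1⟩ : ∃ q1 : Fin (t + 1), q1.val = p.val - 1 := ⟨⟨p.val - 1, by omega⟩, rfl⟩
          obtain ⟨q2, hq2⟩ : ∃ q2 : Fin (t + 1), q2.val = p.val + 1 := ⟨⟨p.val + 1, by omega⟩, rfl⟩
          exact ⟨q1, mem q1 (Or.inl ⟨by omega, by omega⟩), q2, mem q2 (Or.inl ⟨by omega, by omega⟩),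
            ne_of _ _ (by omega), ne_of _ _ (by omega), ne_of _ _ (by omega),
            S.chain_pos' t hch q1 p (by omega) (by omega),
            S.chain_pos t hch p q2 hq2 (by omega)⟩
      · exact ⟨jl', mem jl' (Or.inl ⟨by omega, by omega⟩), j, mem j (Or.inl ⟨le_rfl, by omega⟩),
          ne_of _ _ (by omega), fun h => hjk' h.symm, ne_of _ _ (by omega), hbpos', hpos'⟩

end Sub

end Groth.Agent.Helper3.NumType
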