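import Groth.Agent.Helper3.NumType

/-! Numerical types all of whose indices are `(-2)`-indices (genus one, minimal). -/

namespace Groth.Agent.Helper3.NumType

open Finset Models

variable {n : ℕ} (T : Models.NumericalType n)

theorem isMinusOne_of_neg (hn : 1 < n) (i : Fin n)
    (h : T.m i * (2 * T.w i * (T.g i - 1) - T.a i i) < 0) : T.IsMinusOne i := by
  have hd := diag_neg T hn i
  obtain ⟨k, hk⟩ := T.w_dvd i i
  have hw := T.w_pos i
  have hm := T.m_pos i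
  have hg := T.g_nonneg i
  have hk1 : k ≤ -1 := by
    by_contra hcon
    have : 0 ≤ k := by omega
    nlinarith
  have h2 : 2 * T.w i * (T.g i - 1) - T.a i i < 0 := by
    by_contra hcon
    push Not at hcon
    nlinarith
  rw [hk] at h2
  have h3 : T.w i * (2 * (T.g i - 1) - k) < 0 := by linarith
  have h4 : 2 * (T.g i - 1) - k < 0 := by
    by_contra hcon
    push Not at hcon
    nlinarith
  have hg0 : T.g i = 0 := by omega
  have hk' : k = -1 := by omega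
  refine ⟨hg0, ?_⟩
  rw [hk, hk']
  ring

theorem isMinusTwo_of_zero (hn : 1 < n) (i : Fin n)
    (h : T.m i * (2 * T.w i * (T.g i - 1) - T.a i i) = 0) : T.IsMinusTwo i := by
  have hd := diag_neg T hn i
  obtain ⟨k, hk⟩ := T.w_dvd i i
  have hw := T.w_pos i
  have hm := T.m_pos i
  have hg := T.g_nonneg i
  have hk1 : k ≤ -1 := by
    by_contra hcon
    have : 0 ≤ k := by omega
    nlinarith
  have h2 : 2 * T.w i * (T.g i - 1) - T.a i i = 0 := by
    rcases mul_eq_zero.mp h with h' | h'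
    · omega
    · exact h'
  rw [hk] at h2
  have h3 : T.w i * (2 * (T.g i - 1) - k) = 0 := by linarith
  have h4 : 2 * (T.g i - 1) - k = 0 := by
    rcases mul_eq_zero.mp h3 with h' | h'
    · omega
    · exact h'
  have hg0 : T.g i = 0 := by omega
  have hk' : k = -2 := by omega
  refine ⟨hg0, ?_⟩
  rw [hk, hk']
  ring

theorem all_minusTwo (hn : 1 < n) (hmin : T.IsMinimal) (hg : T.genus = 1) :
    ∀ i, T.IsMinusTwo i := by
  have hc : ∀ i, 0 ≤ T.m i * (2 * T.w i * (T.g i - 1) - T.a i i) := by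
    intro i
    by_contra h
    push Not at h
    exact hmin i (isMinusOne_of_neg T hn i h)
  have hsum : ∑ i, T.m i * (2 * T.w i * (T.g i - 1) - T.a i i)
      = 2 * (∑ i, T.m i * T.w i * (T.g i - 1)) - ∑ i, T.m i * T.a i i := by
    rw [Finset.mul_sum, ← Finset.sum_sub_distrib]
    apply Finset.sum_congr rfl
    intro i _
    ring
  have hg' : 1 + (∑ i, T.m i * T.w i * (T.g i - 1)) - (∑ i, T.m i * T.a i i) / 2 = 1 := hg
  have hle : ∑ i, T.m i * (2 * T.w i * (T.g i - 1) - T.a i i) ≤ 0 := by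
    rw [hsum]
    omega
  have hzero : ∑ i, T.m i * (2 * T.w i * (T.g i - 1) - T.a i i) = 0 :=
    le_antisymm hle (Finset.sum_nonneg fun i _ => hc i)
  intro i
  have := (Finset.sum_eq_zero_iff_of_nonneg (fun i _ => hc i)).mp hzero i (Finset.mem_univ i)
  exact isMinusTwo_of_zero T hn i this

/-- Edge cases for a pair of `(-2)`-indices, when there is a third index. -/
theorem edge_casesT (h2 : ∀ i, T.IsMinusTwo i) (hn : 2 < n) {p q : Fin n} (hpq : p ≠ q)
    (h : 0 < T.a p q) :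
    (T.w q = T.w p ∧ T.a p q = T.w p) ∨ (T.w q = 2 * T.w p ∧ T.a p q = 2 * T.w p) ∨
      (T.w p = 2 * T.w q ∧ T.a p q = 2 * T.w q) ∨
      (T.w q = 3 * T.w p ∧ T.a p q = 3 * T.w p) ∨ (T.w p = 3 * T.w q ∧ T.a p q = 3 * T.w q) := by
  have hinj : Function.Injective ![p, q] := by
    intro a b hab
    fin_cases a <;> fin_cases b <;> simp_all
  exact (Sub.of T ⟨![p, q], hinj⟩ hn (fun j => h2 _)).edge_cases (p := 0) (q := 1) (by decide) h

theorem QT3 (T : Models.NumericalType 3) (h2 : ∀ i, T.IsMinusTwo i) (c0 c1 c2 : ℤ)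
    (hne : ¬(c0 = 0 ∧ c1 = 0 ∧ c2 = 0)) (hz : c0 = 0 ∨ c1 = 0 ∨ c2 = 0) :
    -2 * T.w 0 * (c0 * c0) + -2 * T.w 1 * (c1 * c1) + -2 * T.w 2 * (c2 * c2)
      + 2 * T.a 0 1 * (c0 * c1) + 2 * T.a 0 2 * (c0 * c2) + 2 * T.a 1 2 * (c1 * c2) < 0 := by
  have hk : ∃ k, ![c0, c1, c2] k = 0 := by
    rcases hz with h | h | h
    · exact ⟨0, by simpa using h⟩
    · exact ⟨1, by simpa using h⟩
    · exact ⟨2, by simpa using h⟩
  obtain ⟨k, hk⟩ := hk
  have t := Q_neg T ![c0, c1, c2] (by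
    intro h'
    apply hne
    refine ⟨?_, ?_, ?_⟩
    · simpa using congrFun h' 0
    · simpa using congrFun h' 1
    · simpa using congrFun h' 2) k hk
  simp only [Fin.sum_univ_three, Matrix.cons_val_zero, Matrix.cons_val_one, Matrix.cons_val] at t
  rw [(h2 0).2, (h2 1).2, (h2 2).2, a_symm T 1 0, a_symm T 2 0, a_symm T 2 1] at t
  linarith

theorem QT4 (T : Models.NumericalType 4) (h2 : ∀ i, T.IsMinusTwo i) (c0 c1 c2 c3 : ℤ)
    (hne : ¬(c0 = 0 ∧ c1 = 0 ∧ c2 = 0 ∧ c3 = 0)) (hz : c0 = 0 ∨ c1 = 0 ∨ c2 = 0 ∨ c3 = 0) :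
    -2 * T.w 0 * (c0 * c0) + -2 * T.w 1 * (c1 * c1) + -2 * T.w 2 * (c2 * c2)
      + -2 * T.w 3 * (c3 * c3)
      + 2 * T.a 0 1 * (c0 * c1) + 2 * T.a 0 2 * (c0 * c2) + 2 * T.a 0 3 * (c0 * c3)
      + 2 * T.a 1 2 * (c1 * c2) + 2 * T.a 1 3 * (c1 * c3) + 2 * T.a 2 3 * (c2 * c3) < 0 := by
  have hk : ∃ k, ![c0, c1, c2, c3] k = 0 := by
    rcases hz with h | h | h | h
    · exact ⟨0, by simpa using h⟩
    · exact ⟨1, by simpa using h⟩
    · exact ⟨2, by simpa using h⟩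
    · exact ⟨3, by simpa using h⟩
  obtain ⟨k, hk⟩ := hk
  have t := Q_neg T ![c0, c1, c2, c3] (by
    intro h'
    apply hne
    refine ⟨?_, ?_, ?_, ?_⟩
    · simpa using congrFun h' 0
    · simpa using congrFun h' 1
    · simpa using congrFun h' 2
    · simpa using congrFun h' 3) k hk
  simp only [Fin.sum_univ_four, Matrix.cons_val_zero, Matrix.cons_val_one, Matrix.cons_val] at t
  rw [(h2 0).2, (h2 1).2, (h2 2).2, (h2 3).2, a_symm T 1 0, a_symm T 2 0, a_symm T 3 0,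
    a_symm T 2 1, a_symm T 3 1, a_symm T 3 2] at t
  linarith

theorem RT3_0 (T : Models.NumericalType 3) (h2 : ∀ i, T.IsMinusTwo i) :
    -2 * T.w 0 * T.m 0 + T.a 0 1 * T.m 1 + T.a 0 2 * T.m 2 = 0 := by
  have t := row_sum T 0
  simp only [Fin.sum_univ_three] at t
  rw [(h2 0).2] at t
  linarith

theorem RT3_1 (T : Models.NumericalType 3) (h2 : ∀ i, T.IsMinusTwo i) :
    T.a 0 1 * T.m 0 + -2 * T.w 1 * T.m 1 + T.a 1 2 * T.m 2 = 0 := by
  have t := row_sum T 1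
  simp only [Fin.sum_univ_three] at t
  rw [(h2 1).2, a_symm T 1 0] at t
  linarith

theorem RT3_2 (T : Models.NumericalType 3) (h2 : ∀ i, T.IsMinusTwo i) :
    T.a 0 2 * T.m 0 + T.a 1 2 * T.m 1 + -2 * T.w 2 * T.m 2 = 0 := by
  have t := row_sum T 2
  simp only [Fin.sum_univ_three] at t
  rw [(h2 2).2, a_symm T 2 0, a_symm T 2 1] at t
  linarith

theorem RT4_0 (T : Models.NumericalType 4) (h2 : ∀ i, T.IsMinusTwo i) :
    -2 * T.w 0 * T.m 0 + T.a 0 1 * T.m 1 + T.a 0 2 * T.m 2 + T.a 0 3 * T.m 3 = 0 := by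
  have t := row_sum T 0
  simp only [Fin.sum_univ_four] at t
  rw [(h2 0).2] at t
  linarith

theorem RT4_1 (T : Models.NumericalType 4) (h2 : ∀ i, T.IsMinusTwo i) :
    T.a 0 1 * T.m 0 + -2 * T.w 1 * T.m 1 + T.a 1 2 * T.m 2 + T.a 1 3 * T.m 3 = 0 := by
  have t := row_sum T 1
  simp only [Fin.sum_univ_four] at t
  rw [(h2 1).2, a_symm T 1 0] at t
  linarith

theorem RT4_2 (T : Models.NumericalType 4) (h2 : ∀ i, T.IsMinusTwo i) :
    T.a 0 2 * T.m 0 + T.a 1 2 * T.m 1 + -2 * T.w 2 * T.m 2 + T.a 2 3 * T.m 3 = 0 := by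
  have t := row_sum T 2
  simp only [Fin.sum_univ_four] at t
  rw [(h2 2).2, a_symm T 2 0, a_symm T 2 1] at t
  linarith

theorem RT4_3 (T : Models.NumericalType 4) (h2 : ∀ i, T.IsMinusTwo i) :
    T.a 0 3 * T.m 0 + T.a 1 3 * T.m 1 + T.a 2 3 * T.m 2 + -2 * T.w 3 * T.m 3 = 0 := by
  have t := row_sum T 3
  simp only [Fin.sum_univ_four] at t
  rw [(h2 3).2, a_symm T 3 0, a_symm T 3 1, a_symm T 3 2] at t
  linarith

end Groth.Agent.Helper3.NumType
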