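import Groth.Agent.Helper3.NumTypeF

namespace Groth.Agent.Helper3.NumType

open Finset Models

theorem QT5 (T : Models.NumericalType 5) (h2 : ∀ i, T.IsMinusTwo i) (c0 c1 c2 c3 c4 : ℤ)
    (hne : ¬(c0 = 0 ∧ c1 = 0 ∧ c2 = 0 ∧ c3 = 0 ∧ c4 = 0)) (hz : c0 = 0 ∨ c1 = 0 ∨ c2 = 0 ∨ c3 = 0 ∨ c4 = 0) :
    -2 * T.w 0 * (c0 * c0)
      + -2 * T.w 1 * (c1 * c1)
      + -2 * T.w 2 * (c2 * c2)
      + -2 * T.w 3 * (c3 * c3)
      + -2 * T.w 4 * (c4 * c4)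
      + 2 * T.a 0 1 * (c0 * c1)
      + 2 * T.a 0 2 * (c0 * c2)
      + 2 * T.a 0 3 * (c0 * c3)
      + 2 * T.a 0 4 * (c0 * c4)
      + 2 * T.a 1 2 * (c1 * c2)
      + 2 * T.a 1 3 * (c1 * c3)
      + 2 * T.a 1 4 * (c1 * c4)
      + 2 * T.a 2 3 * (c2 * c3)
      + 2 * T.a 2 4 * (c2 * c4)
      + 2 * T.a 3 4 * (c3 * c4) < 0 := by
  have hk : ∃ k, ![c0, c1, c2, c3, c4] k = 0 := by
    rcases hz with h | h | h | h | h
    · exact ⟨0, by simpa using h⟩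
    · exact ⟨1, by simpa using h⟩
    · exact ⟨2, by simpa using h⟩
    · exact ⟨3, by simpa using h⟩
    · exact ⟨4, by simpa using h⟩
  obtain ⟨k, hk⟩ := hk
  have t := Q_neg T ![c0, c1, c2, c3, c4] (by
    intro h'
    apply hne
    refine ⟨?_, ?_, ?_, ?_, ?_⟩
    · simpa using congrFun h' 0
    · simpa using congrFun h' 1
    · simpa using congrFun h' 2
    · simpa using congrFun h' 3
    · simpa using congrFun h' 4) k hk
  simp only [Fin.sum_univ_five, Matrix.cons_val_zero, Matrix.cons_val_one, Matrix.cons_val] at t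
  rw [(h2 0).2, (h2 1).2, (h2 2).2, (h2 3).2, (h2 4).2, a_symm T 1 0, a_symm T 2 0, a_symm T 3 0, a_symm T 4 0, a_symm T 2 1, a_symm T 3 1, a_symm T 4 1, a_symm T 3 2, a_symm T 4 2, a_symm T 4 3] at t
  linarith

theorem RT5_0 (T : Models.NumericalType 5) (h2 : ∀ i, T.IsMinusTwo i) :
    -2 * T.w 0 * T.m 0 + T.a 0 1 * T.m 1 + T.a 0 2 * T.m 2 + T.a 0 3 * T.m 3 + T.a 0 4 * T.m 4 = 0 := by
  have t := row_sum T 0
  simp only [Fin.sum_univ_five] at t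
  rw [(h2 0).2] at t
  linarith

theorem RT5_1 (T : Models.NumericalType 5) (h2 : ∀ i, T.IsMinusTwo i) :
    T.a 0 1 * T.m 0 + -2 * T.w 1 * T.m 1 + T.a 1 2 * T.m 2 + T.a 1 3 * T.m 3 + T.a 1 4 * T.m 4 = 0 := by
  have t := row_sum T 1
  simp only [Fin.sum_univ_five] at t
  rw [(h2 1).2, a_symm T 1 0] at t
  linarith

theorem RT5_2 (T : Models.NumericalType 5) (h2 : ∀ i, T.IsMinusTwo i) :
    T.a 0 2 * T.m 0 + T.a 1 2 * T.m 1 + -2 * T.w 2 * T.m 2 + T.a 2 3 * T.m 3 + T.a 2 4 * T.m 4 = 0 := by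
  have t := row_sum T 2
  simp only [Fin.sum_univ_five] at t
  rw [(h2 2).2, a_symm T 2 0, a_symm T 2 1] at t
  linarith

theorem RT5_3 (T : Models.NumericalType 5) (h2 : ∀ i, T.IsMinusTwo i) :
    T.a 0 3 * T.m 0 + T.a 1 3 * T.m 1 + T.a 2 3 * T.m 2 + -2 * T.w 3 * T.m 3 + T.a 3 4 * T.m 4 = 0 := by
  have t := row_sum T 3
  simp only [Fin.sum_univ_five] at t
  rw [(h2 3).2, a_symm T 3 0, a_symm T 3 1, a_symm T 3 2] at t
  linarith

theorem RT5_4 (T : Models.NumericalType 5) (h2 : ∀ i, T.IsMinusTwo i) :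
    T.a 0 4 * T.m 0 + T.a 1 4 * T.m 1 + T.a 2 4 * T.m 2 + T.a 3 4 * T.m 3 + -2 * T.w 4 * T.m 4 = 0 := by
  have t := row_sum T 4
  simp only [Fin.sum_univ_five] at t
  rw [(h2 4).2, a_symm T 4 0, a_symm T 4 1, a_symm T 4 2, a_symm T 4 3] at t
  linarith

end Groth.Agent.Helper3.NumType
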