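import Groth.Agent.Helper3.NumTypeG4

namespace Groth.Agent.Helper3.NumType

open Finset Models

theorem g4_EE (T : Models.NumericalType 4) (h2 : ∀ i, T.IsMinusTwo i) (hp01 : 0 < T.a 0 1) (ea01 : T.w 1 = T.w 0) (eb01 : T.a 0 1 = T.w 0) (hp02 : 0 < T.a 0 2) (ea02 : T.w 2 = T.w 0) (eb02 : T.a 0 2 = T.w 0) :
    Goal4 T := by
  unfold Goal4
  have hw0 := T.w_pos 0
  have hm0 := T.m_pos 0
  have d0 := (h2 0).2
  have r0 := Groth.Agent.Helper3.NumType.RT4_0 T h2
  have hw1 := T.w_pos 1
  have hm1 := T.m_pos 1
  have d1 := (h2 1).2
  have r1 := Groth.Agent.Helper3.NumType.RT4_1 T h2
  have hw2 := T.w_pos 2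
  have hm2 := T.m_pos 2
  have d2 := (h2 2).2
  have r2 := Groth.Agent.Helper3.NumType.RT4_2 T h2
  have hw3 := T.w_pos 3
  have hm3 := T.m_pos 3
  have d3 := (h2 3).2
  have r3 := Groth.Agent.Helper3.NumType.RT4_3 T h2
  have nn01 := T.offDiag_nonneg 0 1 (by decide)
  have s10 := Groth.Agent.Helper3.NumType.a_symm T 1 0
  have nn02 := T.offDiag_nonneg 0 2 (by decide)
  have s20 := Groth.Agent.Helper3.NumType.a_symm T 2 0
  have nn03 := T.offDiag_nonneg 0 3 (by decide)
  have s30 := Groth.Agent.Helper3.NumType.a_symm T 3 0
  have nn12 := T.offDiag_nonneg 1 2 (by decide)
  have s21 := Groth.Agent.Helper3.NumType.a_symm T 2 1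
  have nn13 := T.offDiag_nonneg 1 3 (by decide)
  have s31 := Groth.Agent.Helper3.NumType.a_symm T 3 1
  have nn23 := T.offDiag_nonneg 2 3 (by decide)
  have s32 := Groth.Agent.Helper3.NumType.a_symm T 3 2
  rcases eq_or_lt_of_le nn03 with z | hp03
  · have z03 : T.a 0 3 = 0 := z.symm
    rcases eq_or_lt_of_le nn12 with z | hp12
    · have z12 : T.a 1 2 = 0 := z.symm
      rcases eq_or_lt_of_le nn13 with z | hp13
      · have z13 : T.a 1 3 = 0 := z.symm
        rcases eq_or_lt_of_le nn23 with z | hp23
        · have z23 : T.a 2 3 = 0 := z.symm
          exfalso
          obtain ⟨i, hi, j, hj, hij⟩ := T.connected ({0, 1, 2} : Finset (Fin 4)) (by decide) (by decide)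
          fin_cases i <;> fin_cases j <;> first | exact absurd hi (by decide) | exact hj (by decide) | (apply hij; first | exact z03 | exact z13 | exact z23)
        · rcases Groth.Agent.Helper3.NumType.edge_casesT T h2 (by norm_num) (p := 2) (q := 3) (by decide) hp23 with e | e | e | e | e
          · obtain ⟨ea23, eb23⟩ := e
            have hr0 : (-2) * T.m 0 + (1) * T.m 1 + (1) * T.m 2 = 0 := by
              have f1 : T.a 0 1 = T.w 0 := by linarith
              have f2 : T.a 0 2 = T.w 0 := by linarith
              have h : T.w 0 * ((-2) * T.m 0 + (1) * T.m 1 + (1) * T.m 2) = 0 := by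
                rw [f1, f2, z03] at r0
                linarith
              rcases mul_eq_zero.mp h with h' | h'
              · exfalso; linarith
              · exact h'
            have hr1 : (-2) * T.m 1 + (1) * T.m 0 = 0 := by
              have f0 : T.a 0 1 = T.w 1 := by linarith
              have h : T.w 1 * ((-2) * T.m 1 + (1) * T.m 0) = 0 := by
                rw [f0, z12, z13] at r1
                linarith
              rcases mul_eq_zero.mp h with h' | h'
              · exfalso; linarith
              · exact h'
            have hr2 : (-2) * T.m 2 + (1) * T.m 0 + (1) * T.m 3 = 0 := by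
              have f0 : T.a 0 2 = T.w 2 := by linarith
              have f3 : T.a 2 3 = T.w 2 := by linarith
              have h : T.w 2 * ((-2) * T.m 2 + (1) * T.m 0 + (1) * T.m 3) = 0 := by
                rw [f0, z12, f3] at r2
                linarith
              rcases mul_eq_zero.mp h with h' | h'
              · exfalso; linarith
              · exact h'
            have hr3 : (-2) * T.m 3 + (1) * T.m 2 = 0 := by
              have f2 : T.a 2 3 = T.w 3 := by linarith
              have h : T.w 3 * ((-2) * T.m 3 + (1) * T.m 2) = 0 := by
                rw [z03, z13, f2] at r3
                linarith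
              rcases mul_eq_zero.mp h with h' | h'
              · exfalso; linarith
              · exact h'
            exfalso
            linarith
          · obtain ⟨ea23, eb23⟩ := e
            have hr0 : (-2) * T.m 0 + (1) * T.m 1 + (1) * T.m 2 = 0 := by
              have f1 : T.a 0 1 = T.w 0 := by linarith
              have f2 : T.a 0 2 = T.w 0 := by linarith
              have h : T.w 0 * ((-2) * T.m 0 + (1) * T.m 1 + (1) * T.m 2) = 0 := by
                rw [f1, f2, z03] at r0
                linarith
              rcases mul_eq_zero.mp h with h' | h'
              · exfalso; linarith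
              · exact h'
            have hr1 : (-2) * T.m 1 + (1) * T.m 0 = 0 := by
              have f0 : T.a 0 1 = T.w 1 := by linarith
              have h : T.w 1 * ((-2) * T.m 1 + (1) * T.m 0) = 0 := by
                rw [f0, z12, z13] at r1
                linarith
              rcases mul_eq_zero.mp h with h' | h'
              · exfalso; linarith
              · exact h'
            have hr2 : (-2) * T.m 2 + (1) * T.m 0 + (2) * T.m 3 = 0 := by
              have f0 : T.a 0 2 = T.w 2 := by linarith
              have f3 : T.a 2 3 = 2 * T.w 2 := by linarith
              have h : T.w 2 * ((-2) * T.m 2 + (1) * T.m 0 + (2) * T.m 3) = 0 := by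
                rw [f0, z12, f3] at r2
                linarith
              rcases mul_eq_zero.mp h with h' | h'
              · exfalso; linarith
              · exact h'
            have hr3 : (-2) * T.m 3 + (1) * T.m 2 = 0 := by
              have f2 : T.a 2 3 = T.w 3 := by linarith
              have h : T.w 3 * ((-2) * T.m 3 + (1) * T.m 2) = 0 := by
                rw [z03, z13, f2] at r3
                linarith
              rcases mul_eq_zero.mp h with h' | h'
              · exfalso; linarith
              · exact h'
            exfalso
            linarith
          · obtain ⟨ea23, eb23⟩ := e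
            have hr0 : (-2) * T.m 0 + (1) * T.m 1 + (1) * T.m 2 = 0 := by
              have f1 : T.a 0 1 = T.w 0 := by linarith
              have f2 : T.a 0 2 = T.w 0 := by linarith
              have h : T.w 0 * ((-2) * T.m 0 + (1) * T.m 1 + (1) * T.m 2) = 0 := by
                rw [f1, f2, z03] at r0
                linarith
              rcases mul_eq_zero.mp h with h' | h'
              · exfalso; linarith
              · exact h'
            have hr1 : (-2) * T.m 1 + (1) * T.m 0 = 0 := by
              have f0 : T.a 0 1 = T.w 1 := by linarith
              have h : T.w 1 * ((-2) * T.m 1 + (1) * T.m 0) = 0 := by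
                rw [f0, z12, z13] at r1
                linarith
              rcases mul_eq_zero.mp h with h' | h'
              · exfalso; linarith
              · exact h'
            have hr2 : (-2) * T.m 2 + (1) * T.m 0 + (1) * T.m 3 = 0 := by
              have f0 : T.a 0 2 = T.w 2 := by linarith
              have f3 : T.a 2 3 = T.w 2 := by linarith
              have h : T.w 2 * ((-2) * T.m 2 + (1) * T.m 0 + (1) * T.m 3) = 0 := by
                rw [f0, z12, f3] at r2
                linarith
              rcases mul_eq_zero.mp h with h' | h'
              · exfalso; linarith
              · exact h'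
            have hr3 : (-2) * T.m 3 + (2) * T.m 2 = 0 := by
              have f2 : T.a 2 3 = 2 * T.w 3 := by linarith
              have h : T.w 3 * ((-2) * T.m 3 + (2) * T.m 2) = 0 := by
                rw [z03, z13, f2] at r3
                linarith
              rcases mul_eq_zero.mp h with h' | h'
              · exfalso; linarith
              · exact h'
            exfalso
            linarith
          · obtain ⟨ea23, eb23⟩ := e
            exfalso
            have t := Groth.Agent.Helper3.NumType.QT4 T h2 1 0 2 1 (by norm_num) (by norm_num)
            linarith
          · obtain ⟨ea23, eb23⟩ := e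
            exfalso
            have t := Groth.Agent.Helper3.NumType.QT4 T h2 1 0 2 3 (by norm_num) (by norm_num)
            linarith
      · rcases Groth.Agent.Helper3.NumType.edge_casesT T h2 (by norm_num) (p := 1) (q := 3) (by decide) hp13 with e | e | e | e | e
        · obtain ⟨ea13, eb13⟩ := e
          rcases eq_or_lt_of_le nn23 with z | hp23
          · have z23 : T.a 2 3 = 0 := z.symm
            have hr0 : (-2) * T.m 0 + (1) * T.m 1 + (1) * T.m 2 = 0 := by
              have f1 : T.a 0 1 = T.w 0 := by linarith
              have f2 : T.a 0 2 = T.w 0 := by linarith
              have h : T.w 0 * ((-2) * T.m 0 + (1) * T.m 1 + (1) * T.m 2) = 0 := by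
                rw [f1, f2, z03] at r0
                linarith
              rcases mul_eq_zero.mp h with h' | h'
              · exfalso; linarith
              · exact h'
            have hr1 : (-2) * T.m 1 + (1) * T.m 0 + (1) * T.m 3 = 0 := by
              have f0 : T.a 0 1 = T.w 1 := by linarith
              have f3 : T.a 1 3 = T.w 1 := by linarith
              have h : T.w 1 * ((-2) * T.m 1 + (1) * T.m 0 + (1) * T.m 3) = 0 := by
                rw [f0, z12, f3] at r1
                linarith
              rcases mul_eq_zero.mp h with h' | h'
              · exfalso; linarith
              · exact h'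
            have hr2 : (-2) * T.m 2 + (1) * T.m 0 = 0 := by
              have f0 : T.a 0 2 = T.w 2 := by linarith
              have h : T.w 2 * ((-2) * T.m 2 + (1) * T.m 0) = 0 := by
                rw [f0, z12, z23] at r2
                linarith
              rcases mul_eq_zero.mp h with h' | h'
              · exfalso; linarith
              · exact h'
            have hr3 : (-2) * T.m 3 + (1) * T.m 1 = 0 := by
              have f1 : T.a 1 3 = T.w 3 := by linarith
              have h : T.w 3 * ((-2) * T.m 3 + (1) * T.m 1) = 0 := by
                rw [z03, f1, z23] at r3
                linarith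
              rcases mul_eq_zero.mp h with h' | h'
              · exfalso; linarith
              · exact h'
            exfalso
            linarith
          · rcases Groth.Agent.Helper3.NumType.edge_casesT T h2 (by norm_num) (p := 2) (q := 3) (by decide) hp23 with e | e | e | e | e
            · obtain ⟨ea23, eb23⟩ := e
              have hr0 : (-2) * T.m 0 + (1) * T.m 1 + (1) * T.m 2 = 0 := by
                have f1 : T.a 0 1 = T.w 0 := by linarith
                have f2 : T.a 0 2 = T.w 0 := by linarith
                have h : T.w 0 * ((-2) * T.m 0 + (1) * T.m 1 + (1) * T.m 2) = 0 := by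
                  rw [f1, f2, z03] at r0
                  linarith
                rcases mul_eq_zero.mp h with h' | h'
                · exfalso; linarith
                · exact h'
              have hr1 : (-2) * T.m 1 + (1) * T.m 0 + (1) * T.m 3 = 0 := by
                have f0 : T.a 0 1 = T.w 1 := by linarith
                have f3 : T.a 1 3 = T.w 1 := by linarith
                have h : T.w 1 * ((-2) * T.m 1 + (1) * T.m 0 + (1) * T.m 3) = 0 := by
                  rw [f0, z12, f3] at r1
                  linarith
                rcases mul_eq_zero.mp h with h' | h'
                · exfalso; linarith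
                · exact h'
              have hr2 : (-2) * T.m 2 + (1) * T.m 0 + (1) * T.m 3 = 0 := by
                have f0 : T.a 0 2 = T.w 2 := by linarith
                have f3 : T.a 2 3 = T.w 2 := by linarith
                have h : T.w 2 * ((-2) * T.m 2 + (1) * T.m 0 + (1) * T.m 3) = 0 := by
                  rw [f0, z12, f3] at r2
                  linarith
                rcases mul_eq_zero.mp h with h' | h'
                · exfalso; linarith
                · exact h'
              have hr3 : (-2) * T.m 3 + (1) * T.m 1 + (1) * T.m 2 = 0 := by
                have f1 : T.a 1 3 = T.w 3 := by linarith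
                have f2 : T.a 2 3 = T.w 3 := by linarith
                have h : T.w 3 * ((-2) * T.m 3 + (1) * T.m 1 + (1) * T.m 2) = 0 := by
                  rw [z03, f1, f2] at r3
                  linarith
                rcases mul_eq_zero.mp h with h' | h'
                · exfalso; linarith
                · exact h'
              have w1 : T.w 1 = T.w 0 := by linarith
              have w2 : T.w 2 = T.w 0 := by linarith
              have w3 : T.w 3 = T.w 0 := by linarith
              have a01 : T.a 0 1 = T.w 0 := by linarith
              have a02 : T.a 0 2 = T.w 0 := by linarith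
              have a13 : T.a 1 3 = T.w 0 := by linarith
              have a23 : T.a 2 3 = T.w 0 := by linarith
              have m1 : T.m 1 = T.m 0 := by linarith
              have m2 : T.m 2 = T.m 0 := by linarith
              have m3 : T.m 3 = T.m 0 := by linarith
              refine ⟨Equiv.ofBijective ![0, 1, 3, 2] (by decide), T.m 0, T.w 0, ?_⟩
              simp only [Equiv.ofBijective_apply, Matrix.cons_val_zero, Matrix.cons_val_one, Matrix.cons_val]
              refine Or.inl ⟨?_, ?_, ?_, ?_, ?_, ?_, ?_, ?_, ?_, ?_, ?_, ?_, ?_, ?_, ?_, ?_, ?_, ?_⟩
              all_goals first | rfl | trivial | linarith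
            · obtain ⟨ea23, eb23⟩ := e
              exfalso
              linarith
            · obtain ⟨ea23, eb23⟩ := e
              exfalso
              linarith
            · obtain ⟨ea23, eb23⟩ := e
              exfalso
              have t := Groth.Agent.Helper3.NumType.QT4 T h2 1 0 2 1 (by norm_num) (by norm_num)
              linarith
            · obtain ⟨ea23, eb23⟩ := e
              exfalso
              have t := Groth.Agent.Helper3.NumType.QT4 T h2 1 0 2 3 (by norm_num) (by norm_num)
              linarith
        · obtain ⟨ea13, eb13⟩ := e
          rcases eq_or_lt_of_le nn23 with z | hp23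
          · have z23 : T.a 2 3 = 0 := z.symm
            have hr0 : (-2) * T.m 0 + (1) * T.m 1 + (1) * T.m 2 = 0 := by
              have f1 : T.a 0 1 = T.w 0 := by linarith
              have f2 : T.a 0 2 = T.w 0 := by linarith
              have h : T.w 0 * ((-2) * T.m 0 + (1) * T.m 1 + (1) * T.m 2) = 0 := by
                rw [f1, f2, z03] at r0
                linarith
              rcases mul_eq_zero.mp h with h' | h'
              · exfalso; linarith
              · exact h'
            have hr1 : (-2) * T.m 1 + (1) * T.m 0 + (2) * T.m 3 = 0 := by
              have f0 : T.a 0 1 = T.w 1 := by linarith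
              have f3 : T.a 1 3 = 2 * T.w 1 := by linarith
              have h : T.w 1 * ((-2) * T.m 1 + (1) * T.m 0 + (2) * T.m 3) = 0 := by
                rw [f0, z12, f3] at r1
                linarith
              rcases mul_eq_zero.mp h with h' | h'
              · exfalso; linarith
              · exact h'
            have hr2 : (-2) * T.m 2 + (1) * T.m 0 = 0 := by
              have f0 : T.a 0 2 = T.w 2 := by linarith
              have h : T.w 2 * ((-2) * T.m 2 + (1) * T.m 0) = 0 := by
                rw [f0, z12, z23] at r2
                linarith
              rcases mul_eq_zero.mp h with h' | h'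
              · exfalso; linarith
              · exact h'
            have hr3 : (-2) * T.m 3 + (1) * T.m 1 = 0 := by
              have f1 : T.a 1 3 = T.w 3 := by linarith
              have h : T.w 3 * ((-2) * T.m 3 + (1) * T.m 1) = 0 := by
                rw [z03, f1, z23] at r3
                linarith
              rcases mul_eq_zero.mp h with h' | h'
              · exfalso; linarith
              · exact h'
            exfalso
            linarith
          · rcases Groth.Agent.Helper3.NumType.edge_casesT T h2 (by norm_num) (p := 2) (q := 3) (by decide) hp23 with e | e | e | e | e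
            · obtain ⟨ea23, eb23⟩ := e
              exfalso
              linarith
            · obtain ⟨ea23, eb23⟩ := e
              exfalso
              have t := Groth.Agent.Helper3.NumType.QT4 T h2 0 1 1 1 (by norm_num) (by norm_num)
              linarith
            · obtain ⟨ea23, eb23⟩ := e
              exfalso
              have t := Groth.Agent.Helper3.NumType.QT4 T h2 0 2 1 2 (by norm_num) (by norm_num)
              linarith
            · obtain ⟨ea23, eb23⟩ := e
              exfalso
              have t := Groth.Agent.Helper3.NumType.QT4 T h2 1 0 2 1 (by norm_num) (by norm_num)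
              linarith
            · obtain ⟨ea23, eb23⟩ := e
              exfalso
              have t := Groth.Agent.Helper3.NumType.QT4 T h2 1 0 2 3 (by norm_num) (by norm_num)
              linarith
        · obtain ⟨ea13, eb13⟩ := e
          rcases eq_or_lt_of_le nn23 with z | hp23
          · have z23 : T.a 2 3 = 0 := z.symm
            have hr0 : (-2) * T.m 0 + (1) * T.m 1 + (1) * T.m 2 = 0 := by
              have f1 : T.a 0 1 = T.w 0 := by linarith
              have f2 : T.a 0 2 = T.w 0 := by linarith
              have h : T.w 0 * ((-2) * T.m 0 + (1) * T.m 1 + (1) * T.m 2) = 0 := by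
                rw [f1, f2, z03] at r0
                linarith
              rcases mul_eq_zero.mp h with h' | h'
              · exfalso; linarith
              · exact h'
            have hr1 : (-2) * T.m 1 + (1) * T.m 0 + (1) * T.m 3 = 0 := by
              have f0 : T.a 0 1 = T.w 1 := by linarith
              have f3 : T.a 1 3 = T.w 1 := by linarith
              have h : T.w 1 * ((-2) * T.m 1 + (1) * T.m 0 + (1) * T.m 3) = 0 := by
                rw [f0, z12, f3] at r1
                linarith
              rcases mul_eq_zero.mp h with h' | h'
              · exfalso; linarith
              · exact h'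
            have hr2 : (-2) * T.m 2 + (1) * T.m 0 = 0 := by
              have f0 : T.a 0 2 = T.w 2 := by linarith
              have h : T.w 2 * ((-2) * T.m 2 + (1) * T.m 0) = 0 := by
                rw [f0, z12, z23] at r2
                linarith
              rcases mul_eq_zero.mp h with h' | h'
              · exfalso; linarith
              · exact h'
            have hr3 : (-2) * T.m 3 + (2) * T.m 1 = 0 := by
              have f1 : T.a 1 3 = 2 * T.w 3 := by linarith
              have h : T.w 3 * ((-2) * T.m 3 + (2) * T.m 1) = 0 := by
                rw [z03, f1, z23] at r3
                linarith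
              rcases mul_eq_zero.mp h with h' | h'
              · exfalso; linarith
              · exact h'
            exfalso
            linarith
          · rcases Groth.Agent.Helper3.NumType.edge_casesT T h2 (by norm_num) (p := 2) (q := 3) (by decide) hp23 with e | e | e | e | e
            · obtain ⟨ea23, eb23⟩ := e
              exfalso
              linarith
            · obtain ⟨ea23, eb23⟩ := e
              exfalso
              have t := Groth.Agent.Helper3.NumType.QT4 T h2 0 1 2 2 (by norm_num) (by norm_num)
              linarith
            · obtain ⟨ea23, eb23⟩ := e
              exfalso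
              have t := Groth.Agent.Helper3.NumType.QT4 T h2 0 1 1 2 (by norm_num) (by norm_num)
              linarith
            · obtain ⟨ea23, eb23⟩ := e
              exfalso
              have t := Groth.Agent.Helper3.NumType.QT4 T h2 1 0 2 1 (by norm_num) (by norm_num)
              linarith
            · obtain ⟨ea23, eb23⟩ := e
              exfalso
              have t := Groth.Agent.Helper3.NumType.QT4 T h2 1 0 2 3 (by norm_num) (by norm_num)
              linarith
        · obtain ⟨ea13, eb13⟩ := e
          exfalso
          have t := Groth.Agent.Helper3.NumType.QT4 T h2 1 2 0 1 (by norm_num) (by norm_num)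
          linarith
        · obtain ⟨ea13, eb13⟩ := e
          exfalso
          have t := Groth.Agent.Helper3.NumType.QT4 T h2 1 2 0 3 (by norm_num) (by norm_num)
          linarith
    · rcases Groth.Agent.Helper3.NumType.edge_casesT T h2 (by norm_num) (p := 1) (q := 2) (by decide) hp12 with e | e | e | e | e
      · obtain ⟨ea12, eb12⟩ := e
        exfalso
        have t := Groth.Agent.Helper3.NumType.QT4 T h2 1 1 1 0 (by norm_num) (by norm_num)
        linarith
      · obtain ⟨ea12, eb12⟩ := e
        exfalso
        linarith
      · obtain ⟨ea12, eb12⟩ := e
        exfalso
        linarith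
      · obtain ⟨ea12, eb12⟩ := e
        exfalso
        linarith
      · obtain ⟨ea12, eb12⟩ := e
        exfalso
        linarith
  · rcases Groth.Agent.Helper3.NumType.edge_casesT T h2 (by norm_num) (p := 0) (q := 3) (by decide) hp03 with e | e | e | e | e
    · obtain ⟨ea03, eb03⟩ := e
      rcases eq_or_lt_of_le nn12 with z | hp12
      · have z12 : T.a 1 2 = 0 := z.symm
        rcases eq_or_lt_of_le nn13 with z | hp13
        · have z13 : T.a 1 3 = 0 := z.symm
          rcases eq_or_lt_of_le nn23 with z | hp23
          · have z23 : T.a 2 3 = 0 := z.symm
            have hr0 : (-2) * T.m 0 + (1) * T.m 1 + (1) * T.m 2 + (1) * T.m 3 = 0 := by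
              have f1 : T.a 0 1 = T.w 0 := by linarith
              have f2 : T.a 0 2 = T.w 0 := by linarith
              have f3 : T.a 0 3 = T.w 0 := by linarith
              have h : T.w 0 * ((-2) * T.m 0 + (1) * T.m 1 + (1) * T.m 2 + (1) * T.m 3) = 0 := by
                rw [f1, f2, f3] at r0
                linarith
              rcases mul_eq_zero.mp h with h' | h'
              · exfalso; linarith
              · exact h'
            have hr1 : (-2) * T.m 1 + (1) * T.m 0 = 0 := by
              have f0 : T.a 0 1 = T.w 1 := by linarith
              have h : T.w 1 * ((-2) * T.m 1 + (1) * T.m 0) = 0 := by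
                rw [f0, z12, z13] at r1
                linarith
              rcases mul_eq_zero.mp h with h' | h'
              · exfalso; linarith
              · exact h'
            have hr2 : (-2) * T.m 2 + (1) * T.m 0 = 0 := by
              have f0 : T.a 0 2 = T.w 2 := by linarith
              have h : T.w 2 * ((-2) * T.m 2 + (1) * T.m 0) = 0 := by
                rw [f0, z12, z23] at r2
                linarith
              rcases mul_eq_zero.mp h with h' | h'
              · exfalso; linarith
              · exact h'
            have hr3 : (-2) * T.m 3 + (1) * T.m 0 = 0 := by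
              have f0 : T.a 0 3 = T.w 3 := by linarith
              have h : T.w 3 * ((-2) * T.m 3 + (1) * T.m 0) = 0 := by
                rw [f0, z13, z23] at r3
                linarith
              rcases mul_eq_zero.mp h with h' | h'
              · exfalso; linarith
              · exact h'
            exfalso
            linarith
          · rcases Groth.Agent.Helper3.NumType.edge_casesT T h2 (by norm_num) (p := 2) (q := 3) (by decide) hp23 with e | e | e | e | e
            · obtain ⟨ea23, eb23⟩ := e
              exfalso
              have t := Groth.Agent.Helper3.NumType.QT4 T h2 1 0 1 1 (by norm_num) (by norm_num)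
              linarith
            · obtain ⟨ea23, eb23⟩ := e
              exfalso
              linarith
            · obtain ⟨ea23, eb23⟩ := e
              exfalso
              linarith
            · obtain ⟨ea23, eb23⟩ := e
              exfalso
              linarith
            · obtain ⟨ea23, eb23⟩ := e
              exfalso
              linarith
        · rcases Groth.Agent.Helper3.NumType.edge_casesT T h2 (by norm_num) (p := 1) (q := 3) (by decide) hp13 with e | e | e | e | e
          · obtain ⟨ea13, eb13⟩ := e
            exfalso
            have t := Groth.Agent.Helper3.NumType.QT4 T h2 1 1 0 1 (by norm_num) (by norm_num)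
            linarith
          · obtain ⟨ea13, eb13⟩ := e
            exfalso
            linarith
          · obtain ⟨ea13, eb13⟩ := e
            exfalso
            linarith
          · obtain ⟨ea13, eb13⟩ := e
            exfalso
            linarith
          · obtain ⟨ea13, eb13⟩ := e
            exfalso
            linarith
      · rcases Groth.Agent.Helper3.NumType.edge_casesT T h2 (by norm_num) (p := 1) (q := 2) (by decide) hp12 with e | e | e | e | e
        · obtain ⟨ea12, eb12⟩ := e
          exfalso
          have t := Groth.Agent.Helper3.NumType.QT4 T h2 1 1 1 0 (by norm_num) (by norm_num)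
          linarith
        · obtain ⟨ea12, eb12⟩ := e
          exfalso
          linarith
        · obtain ⟨ea12, eb12⟩ := e
          exfalso
          linarith
        · obtain ⟨ea12, eb12⟩ := e
          exfalso
          linarith
        · obtain ⟨ea12, eb12⟩ := e
          exfalso
          linarith
    · obtain ⟨ea03, eb03⟩ := e
      rcases eq_or_lt_of_le nn12 with z | hp12
      · have z12 : T.a 1 2 = 0 := z.symm
        rcases eq_or_lt_of_le nn13 with z | hp13
        · have z13 : T.a 1 3 = 0 := z.symm
          rcases eq_or_lt_of_le nn23 with z | hp23
          · have z23 : T.a 2 3 = 0 := z.symm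
            have hr0 : (-2) * T.m 0 + (1) * T.m 1 + (1) * T.m 2 + (2) * T.m 3 = 0 := by
              have f1 : T.a 0 1 = T.w 0 := by linarith
              have f2 : T.a 0 2 = T.w 0 := by linarith
              have f3 : T.a 0 3 = 2 * T.w 0 := by linarith
              have h : T.w 0 * ((-2) * T.m 0 + (1) * T.m 1 + (1) * T.m 2 + (2) * T.m 3) = 0 := by
                rw [f1, f2, f3] at r0
                linarith
              rcases mul_eq_zero.mp h with h' | h'
              · exfalso; linarith
              · exact h'
            have hr1 : (-2) * T.m 1 + (1) * T.m 0 = 0 := by
              have f0 : T.a 0 1 = T.w 1 := by linarith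
              have h : T.w 1 * ((-2) * T.m 1 + (1) * T.m 0) = 0 := by
                rw [f0, z12, z13] at r1
                linarith
              rcases mul_eq_zero.mp h with h' | h'
              · exfalso; linarith
              · exact h'
            have hr2 : (-2) * T.m 2 + (1) * T.m 0 = 0 := by
              have f0 : T.a 0 2 = T.w 2 := by linarith
              have h : T.w 2 * ((-2) * T.m 2 + (1) * T.m 0) = 0 := by
                rw [f0, z12, z23] at r2
                linarith
              rcases mul_eq_zero.mp h with h' | h'
              · exfalso; linarith
              · exact h'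
            have hr3 : (-2) * T.m 3 + (1) * T.m 0 = 0 := by
              have f0 : T.a 0 3 = T.w 3 := by linarith
              have h : T.w 3 * ((-2) * T.m 3 + (1) * T.m 0) = 0 := by
                rw [f0, z13, z23] at r3
                linarith
              rcases mul_eq_zero.mp h with h' | h'
              · exfalso; linarith
              · exact h'
            have w1 : T.w 1 = T.w 0 := by linarith
            have w2 : T.w 2 = T.w 0 := by linarith
            have w3 : T.w 3 = 2 * T.w 0 := by linarith
            have a01 : T.a 0 1 = T.w 0 := by linarith
            have a02 : T.a 0 2 = T.w 0 := by linarith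
            have a03 : T.a 0 3 = 2 * T.w 0 := by linarith
            have m0 : T.m 0 = 2 * T.m 1 := by linarith
            have m2 : T.m 2 = T.m 1 := by linarith
            have m3 : T.m 3 = T.m 1 := by linarith
            refine ⟨Equiv.ofBijective ![0, 1, 2, 3] (by decide), T.m 1, T.w 0, ?_⟩
            simp only [Equiv.ofBijective_apply, Matrix.cons_val_zero, Matrix.cons_val_one, Matrix.cons_val]
            refine Or.inr (Or.inr (Or.inr (Or.inr (Or.inl ⟨?_, ?_, ?_, ?_, ?_, ?_, ?_, ?_, ?_, ?_, ?_, ?_, ?_, ?_, ?_, ?_, ?_, ?_⟩))))
            all_goals first | rfl | trivial | linarith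
          · rcases Groth.Agent.Helper3.NumType.edge_casesT T h2 (by norm_num) (p := 2) (q := 3) (by decide) hp23 with e | e | e | e | e
            · obtain ⟨ea23, eb23⟩ := e
              exfalso
              linarith
            · obtain ⟨ea23, eb23⟩ := e
              exfalso
              have t := Groth.Agent.Helper3.NumType.QT4 T h2 1 0 1 1 (by norm_num) (by norm_num)
              linarith
            · obtain ⟨ea23, eb23⟩ := e
              exfalso
              linarith
            · obtain ⟨ea23, eb23⟩ := e
              exfalso
              linarith
            · obtain ⟨ea23, eb23⟩ := e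
              exfalso
              linarith
        · rcases Groth.Agent.Helper3.NumType.edge_casesT T h2 (by norm_num) (p := 1) (q := 3) (by decide) hp13 with e | e | e | e | e
          · obtain ⟨ea13, eb13⟩ := e
            exfalso
            linarith
          · obtain ⟨ea13, eb13⟩ := e
            exfalso
            have t := Groth.Agent.Helper3.NumType.QT4 T h2 1 1 0 1 (by norm_num) (by norm_num)
            linarith
          · obtain ⟨ea13, eb13⟩ := e
            exfalso
            linarith
          · obtain ⟨ea13, eb13⟩ := e
            exfalso
            linarith
          · obtain ⟨ea13, eb13⟩ := e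
            exfalso
            linarith
      · rcases Groth.Agent.Helper3.NumType.edge_casesT T h2 (by norm_num) (p := 1) (q := 2) (by decide) hp12 with e | e | e | e | e
        · obtain ⟨ea12, eb12⟩ := e
          exfalso
          have t := Groth.Agent.Helper3.NumType.QT4 T h2 1 1 1 0 (by norm_num) (by norm_num)
          linarith
        · obtain ⟨ea12, eb12⟩ := e
          exfalso
          linarith
        · obtain ⟨ea12, eb12⟩ := e
          exfalso
          linarith
        · obtain ⟨ea12, eb12⟩ := e
          exfalso
          linarith
        · obtain ⟨ea12, eb12⟩ := e
          exfalso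
          linarith
    · obtain ⟨ea03, eb03⟩ := e
      rcases eq_or_lt_of_le nn12 with z | hp12
      · have z12 : T.a 1 2 = 0 := z.symm
        rcases eq_or_lt_of_le nn13 with z | hp13
        · have z13 : T.a 1 3 = 0 := z.symm
          rcases eq_or_lt_of_le nn23 with z | hp23
          · have z23 : T.a 2 3 = 0 := z.symm
            have hr0 : (-2) * T.m 0 + (1) * T.m 1 + (1) * T.m 2 + (1) * T.m 3 = 0 := by
              have f1 : T.a 0 1 = T.w 0 := by linarith
              have f2 : T.a 0 2 = T.w 0 := by linarith
              have f3 : T.a 0 3 = T.w 0 := by linarith
              have h : T.w 0 * ((-2) * T.m 0 + (1) * T.m 1 + (1) * T.m 2 + (1) * T.m 3) = 0 := by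
                rw [f1, f2, f3] at r0
                linarith
              rcases mul_eq_zero.mp h with h' | h'
              · exfalso; linarith
              · exact h'
            have hr1 : (-2) * T.m 1 + (1) * T.m 0 = 0 := by
              have f0 : T.a 0 1 = T.w 1 := by linarith
              have h : T.w 1 * ((-2) * T.m 1 + (1) * T.m 0) = 0 := by
                rw [f0, z12, z13] at r1
                linarith
              rcases mul_eq_zero.mp h with h' | h'
              · exfalso; linarith
              · exact h'
            have hr2 : (-2) * T.m 2 + (1) * T.m 0 = 0 := by
              have f0 : T.a 0 2 = T.w 2 := by linarith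
              have h : T.w 2 * ((-2) * T.m 2 + (1) * T.m 0) = 0 := by
                rw [f0, z12, z23] at r2
                linarith
              rcases mul_eq_zero.mp h with h' | h'
              · exfalso; linarith
              · exact h'
            have hr3 : (-2) * T.m 3 + (2) * T.m 0 = 0 := by
              have f0 : T.a 0 3 = 2 * T.w 3 := by linarith
              have h : T.w 3 * ((-2) * T.m 3 + (2) * T.m 0) = 0 := by
                rw [f0, z13, z23] at r3
                linarith
              rcases mul_eq_zero.mp h with h' | h'
              · exfalso; linarith
              · exact h'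
            have w0 : T.w 0 = 2 * T.w 3 := by linarith
            have w1 : T.w 1 = 2 * T.w 3 := by linarith
            have w2 : T.w 2 = 2 * T.w 3 := by linarith
            have a01 : T.a 0 1 = 2 * T.w 3 := by linarith
            have a02 : T.a 0 2 = 2 * T.w 3 := by linarith
            have a03 : T.a 0 3 = 2 * T.w 3 := by linarith
            have m0 : T.m 0 = 2 * T.m 1 := by linarith
            have m2 : T.m 2 = T.m 1 := by linarith
            have m3 : T.m 3 = 2 * T.m 1 := by linarith
            refine ⟨Equiv.ofBijective ![0, 1, 2, 3] (by decide), T.m 1, T.w 3, ?_⟩
            simp only [Equiv.ofBijective_apply, Matrix.cons_val_zero, Matrix.cons_val_one, Matrix.cons_val]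
            refine Or.inr (Or.inr (Or.inr (Or.inr (Or.inr (⟨?_, ?_, ?_, ?_, ?_, ?_, ?_, ?_, ?_, ?_, ?_, ?_, ?_, ?_, ?_, ?_, ?_, ?_⟩)))))
            all_goals first | rfl | trivial | linarith
          · rcases Groth.Agent.Helper3.NumType.edge_casesT T h2 (by norm_num) (p := 2) (q := 3) (by decide) hp23 with e | e | e | e | e
            · obtain ⟨ea23, eb23⟩ := e
              exfalso
              linarith
            · obtain ⟨ea23, eb23⟩ := e
              exfalso
              linarith
            · obtain ⟨ea23, eb23⟩ := e
              exfalso
              have t := Groth.Agent.Helper3.NumType.QT4 T h2 1 0 1 1 (by norm_num) (by norm_num)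
              linarith
            · obtain ⟨ea23, eb23⟩ := e
              exfalso
              linarith
            · obtain ⟨ea23, eb23⟩ := e
              exfalso
              linarith
        · rcases Groth.Agent.Helper3.NumType.edge_casesT T h2 (by norm_num) (p := 1) (q := 3) (by decide) hp13 with e | e | e | e | e
          · obtain ⟨ea13, eb13⟩ := e
            exfalso
            linarith
          · obtain ⟨ea13, eb13⟩ := e
            exfalso
            linarith
          · obtain ⟨ea13, eb13⟩ := e
            exfalso
            have t := Groth.Agent.Helper3.NumType.QT4 T h2 1 1 0 1 (by norm_num) (by norm_num)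
            linarith
          · obtain ⟨ea13, eb13⟩ := e
            exfalso
            linarith
          · obtain ⟨ea13, eb13⟩ := e
            exfalso
            linarith
      · rcases Groth.Agent.Helper3.NumType.edge_casesT T h2 (by norm_num) (p := 1) (q := 2) (by decide) hp12 with e | e | e | e | e
        · obtain ⟨ea12, eb12⟩ := e
          exfalso
          have t := Groth.Agent.Helper3.NumType.QT4 T h2 1 1 1 0 (by norm_num) (by norm_num)
          linarith
        · obtain ⟨ea12, eb12⟩ := e
          exfalso
          linarith
        · obtain ⟨ea12, eb12⟩ := e
          exfalso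
          linarith
        · obtain ⟨ea12, eb12⟩ := e
          exfalso
          linarith
        · obtain ⟨ea12, eb12⟩ := e
          exfalso
          linarith
    · obtain ⟨ea03, eb03⟩ := e
      exfalso
      have t := Groth.Agent.Helper3.NumType.QT4 T h2 2 1 0 1 (by norm_num) (by norm_num)
      linarith
    · obtain ⟨ea03, eb03⟩ := e
      exfalso
      have t := Groth.Agent.Helper3.NumType.QT4 T h2 2 1 0 3 (by norm_num) (by norm_num)
      linarith

theorem g4_EU2 (T : Models.NumericalType 4) (h2 : ∀ i, T.IsMinusTwo i) (hp01 : 0 < T.a 0 1) (ea01 : T.w 1 = T.w 0) (eb01 : T.a 0 1 = T.w 0) (hp02 : 0 < T.a 0 2) (ea02 : T.w 2 = 2 * T.w 0) (eb02 : T.a 0 2 = 2 * T.w 0) :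
    Goal4 T := by
  unfold Goal4
  have hw0 := T.w_pos 0
  have hm0 := T.m_pos 0
  have d0 := (h2 0).2
  have r0 := Groth.Agent.Helper3.NumType.RT4_0 T h2
  have hw1 := T.w_pos 1
  have hm1 := T.m_pos 1
  have d1 := (h2 1).2
  have r1 := Groth.Agent.Helper3.NumType.RT4_1 T h2
  have hw2 := T.w_pos 2
  have hm2 := T.m_pos 2
  have d2 := (h2 2).2
  have r2 := Groth.Agent.Helper3.NumType.RT4_2 T h2
  have hw3 := T.w_pos 3
  have hm3 := T.m_pos 3
  have d3 := (h2 3).2
  have r3 := Groth.Agent.Helper3.NumType.RT4_3 T h2
  have nn01 := T.offDiag_nonneg 0 1 (by decide)
  have s10 := Groth.Agent.Helper3.NumType.a_symm T 1 0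
  have nn02 := T.offDiag_nonneg 0 2 (by decide)
  have s20 := Groth.Agent.Helper3.NumType.a_symm T 2 0
  have nn03 := T.offDiag_nonneg 0 3 (by decide)
  have s30 := Groth.Agent.Helper3.NumType.a_symm T 3 0
  have nn12 := T.offDiag_nonneg 1 2 (by decide)
  have s21 := Groth.Agent.Helper3.NumType.a_symm T 2 1
  have nn13 := T.offDiag_nonneg 1 3 (by decide)
  have s31 := Groth.Agent.Helper3.NumType.a_symm T 3 1
  have nn23 := T.offDiag_nonneg 2 3 (by decide)
  have s32 := Groth.Agent.Helper3.NumType.a_symm T 3 2
  rcases eq_or_lt_of_le nn03 with z | hp03
  · have z03 : T.a 0 3 = 0 := z.symm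
    rcases eq_or_lt_of_le nn12 with z | hp12
    · have z12 : T.a 1 2 = 0 := z.symm
      rcases eq_or_lt_of_le nn13 with z | hp13
      · have z13 : T.a 1 3 = 0 := z.symm
        rcases eq_or_lt_of_le nn23 with z | hp23
        · have z23 : T.a 2 3 = 0 := z.symm
          exfalso
          obtain ⟨i, hi, j, hj, hij⟩ := T.connected ({0, 1, 2} : Finset (Fin 4)) (by decide) (by decide)
          fin_cases i <;> fin_cases j <;> first | exact absurd hi (by decide) | exact hj (by decide) | (apply hij; first | exact z03 | exact z13 | exact z23)
        · rcases Groth.Agent.Helper3.NumType.edge_casesT T h2 (by norm_num) (p := 2) (q := 3) (by decide) hp23 with e | e | e | e | e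
          · obtain ⟨ea23, eb23⟩ := e
            have hr0 : (-2) * T.m 0 + (1) * T.m 1 + (2) * T.m 2 = 0 := by
              have f1 : T.a 0 1 = T.w 0 := by linarith
              have f2 : T.a 0 2 = 2 * T.w 0 := by linarith
              have h : T.w 0 * ((-2) * T.m 0 + (1) * T.m 1 + (2) * T.m 2) = 0 := by
                rw [f1, f2, z03] at r0
                linarith
              rcases mul_eq_zero.mp h with h' | h'
              · exfalso; linarith
              · exact h'
            have hr1 : (-2) * T.m 1 + (1) * T.m 0 = 0 := by
              have f0 : T.a 0 1 = T.w 1 := by linarith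
              have h : T.w 1 * ((-2) * T.m 1 + (1) * T.m 0) = 0 := by
                rw [f0, z12, z13] at r1
                linarith
              rcases mul_eq_zero.mp h with h' | h'
              · exfalso; linarith
              · exact h'
            have hr2 : (-2) * T.m 2 + (1) * T.m 0 + (1) * T.m 3 = 0 := by
              have f0 : T.a 0 2 = T.w 2 := by linarith
              have f3 : T.a 2 3 = T.w 2 := by linarith
              have h : T.w 2 * ((-2) * T.m 2 + (1) * T.m 0 + (1) * T.m 3) = 0 := by
                rw [f0, z12, f3] at r2
                linarith
              rcases mul_eq_zero.mp h with h' | h'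
              · exfalso; linarith
              · exact h'
            have hr3 : (-2) * T.m 3 + (1) * T.m 2 = 0 := by
              have f2 : T.a 2 3 = T.w 3 := by linarith
              have h : T.w 3 * ((-2) * T.m 3 + (1) * T.m 2) = 0 := by
                rw [z03, z13, f2] at r3
                linarith
              rcases mul_eq_zero.mp h with h' | h'
              · exfalso; linarith
              · exact h'
            exfalso
            linarith
          · obtain ⟨ea23, eb23⟩ := e
            exfalso
            have t := Groth.Agent.Helper3.NumType.QT4 T h2 2 0 2 1 (by norm_num) (by norm_num)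
            linarith
          · obtain ⟨ea23, eb23⟩ := e
            exfalso
            have t := Groth.Agent.Helper3.NumType.QT4 T h2 1 0 1 1 (by norm_num) (by norm_num)
            linarith
          · obtain ⟨ea23, eb23⟩ := e
            exfalso
            have t := Groth.Agent.Helper3.NumType.QT4 T h2 1 0 2 1 (by norm_num) (by norm_num)
            linarith
          · obtain ⟨ea23, eb23⟩ := e
            exfalso
            have t := Groth.Agent.Helper3.NumType.QT4 T h2 1 0 1 1 (by norm_num) (by norm_num)
            linarith
      · rcases Groth.Agent.Helper3.NumType.edge_casesT T h2 (by norm_num) (p := 1) (q := 3) (by decide) hp13 with e | e | e | e | e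
        · obtain ⟨ea13, eb13⟩ := e
          rcases eq_or_lt_of_le nn23 with z | hp23
          · have z23 : T.a 2 3 = 0 := z.symm
            have hr0 : (-2) * T.m 0 + (1) * T.m 1 + (2) * T.m 2 = 0 := by
              have f1 : T.a 0 1 = T.w 0 := by linarith
              have f2 : T.a 0 2 = 2 * T.w 0 := by linarith
              have h : T.w 0 * ((-2) * T.m 0 + (1) * T.m 1 + (2) * T.m 2) = 0 := by
                rw [f1, f2, z03] at r0
                linarith
              rcases mul_eq_zero.mp h with h' | h'
              · exfalso; linarith
              · exact h'
            have hr1 : (-2) * T.m 1 + (1) * T.m 0 + (1) * T.m 3 = 0 := by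
              have f0 : T.a 0 1 = T.w 1 := by linarith
              have f3 : T.a 1 3 = T.w 1 := by linarith
              have h : T.w 1 * ((-2) * T.m 1 + (1) * T.m 0 + (1) * T.m 3) = 0 := by
                rw [f0, z12, f3] at r1
                linarith
              rcases mul_eq_zero.mp h with h' | h'
              · exfalso; linarith
              · exact h'
            have hr2 : (-2) * T.m 2 + (1) * T.m 0 = 0 := by
              have f0 : T.a 0 2 = T.w 2 := by linarith
              have h : T.w 2 * ((-2) * T.m 2 + (1) * T.m 0) = 0 := by
                rw [f0, z12, z23] at r2
                linarith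
              rcases mul_eq_zero.mp h with h' | h'
              · exfalso; linarith
              · exact h'
            have hr3 : (-2) * T.m 3 + (1) * T.m 1 = 0 := by
              have f1 : T.a 1 3 = T.w 3 := by linarith
              have h : T.w 3 * ((-2) * T.m 3 + (1) * T.m 1) = 0 := by
                rw [z03, f1, z23] at r3
                linarith
              rcases mul_eq_zero.mp h with h' | h'
              · exfalso; linarith
              · exact h'
            exfalso
            linarith
          · rcases Groth.Agent.Helper3.NumType.edge_casesT T h2 (by norm_num) (p := 2) (q := 3) (by decide) hp23 with e | e | e | e | e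
            · obtain ⟨ea23, eb23⟩ := e
              exfalso
              linarith
            · obtain ⟨ea23, eb23⟩ := e
              exfalso
              have t := Groth.Agent.Helper3.NumType.QT4 T h2 2 0 2 1 (by norm_num) (by norm_num)
              linarith
            · obtain ⟨ea23, eb23⟩ := e
              exfalso
              have t := Groth.Agent.Helper3.NumType.QT4 T h2 1 0 1 1 (by norm_num) (by norm_num)
              linarith
            · obtain ⟨ea23, eb23⟩ := e
              exfalso
              have t := Groth.Agent.Helper3.NumType.QT4 T h2 1 0 2 1 (by norm_num) (by norm_num)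
              linarith
            · obtain ⟨ea23, eb23⟩ := e
              exfalso
              have t := Groth.Agent.Helper3.NumType.QT4 T h2 1 0 1 1 (by norm_num) (by norm_num)
              linarith
        · obtain ⟨ea13, eb13⟩ := e
          rcases eq_or_lt_of_le nn23 with z | hp23
          · have z23 : T.a 2 3 = 0 := z.symm
            have hr0 : (-2) * T.m 0 + (1) * T.m 1 + (2) * T.m 2 = 0 := by
              have f1 : T.a 0 1 = T.w 0 := by linarith
              have f2 : T.a 0 2 = 2 * T.w 0 := by linarith
              have h : T.w 0 * ((-2) * T.m 0 + (1) * T.m 1 + (2) * T.m 2) = 0 := by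
                rw [f1, f2, z03] at r0
                linarith
              rcases mul_eq_zero.mp h with h' | h'
              · exfalso; linarith
              · exact h'
            have hr1 : (-2) * T.m 1 + (1) * T.m 0 + (2) * T.m 3 = 0 := by
              have f0 : T.a 0 1 = T.w 1 := by linarith
              have f3 : T.a 1 3 = 2 * T.w 1 := by linarith
              have h : T.w 1 * ((-2) * T.m 1 + (1) * T.m 0 + (2) * T.m 3) = 0 := by
                rw [f0, z12, f3] at r1
                linarith
              rcases mul_eq_zero.mp h with h' | h'
              · exfalso; linarith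
              · exact h'
            have hr2 : (-2) * T.m 2 + (1) * T.m 0 = 0 := by
              have f0 : T.a 0 2 = T.w 2 := by linarith
              have h : T.w 2 * ((-2) * T.m 2 + (1) * T.m 0) = 0 := by
                rw [f0, z12, z23] at r2
                linarith
              rcases mul_eq_zero.mp h with h' | h'
              · exfalso; linarith
              · exact h'
            have hr3 : (-2) * T.m 3 + (1) * T.m 1 = 0 := by
              have f1 : T.a 1 3 = T.w 3 := by linarith
              have h : T.w 3 * ((-2) * T.m 3 + (1) * T.m 1) = 0 := by
                rw [z03, f1, z23] at r3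
                linarith
              rcases mul_eq_zero.mp h with h' | h'
              · exfalso; linarith
              · exact h'
            have w1 : T.w 1 = T.w 0 := by linarith
            have w2 : T.w 2 = 2 * T.w 0 := by linarith
            have w3 : T.w 3 = 2 * T.w 0 := by linarith
            have a01 : T.a 0 1 = T.w 0 := by linarith
            have a02 : T.a 0 2 = 2 * T.w 0 := by linarith
            have a13 : T.a 1 3 = 2 * T.w 0 := by linarith
            have m0 : T.m 0 = 2 * T.m 2 := by linarith
            have m1 : T.m 1 = 2 * T.m 2 := by linarith
            have m3 : T.m 3 = T.m 2 := by linarith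
            refine ⟨Equiv.ofBijective ![2, 0, 1, 3] (by decide), T.m 2, T.w 0, ?_⟩
            simp only [Equiv.ofBijective_apply, Matrix.cons_val_zero, Matrix.cons_val_one, Matrix.cons_val]
            refine Or.inr (Or.inr (Or.inr (Or.inl ⟨?_, ?_, ?_, ?_, ?_, ?_, ?_, ?_, ?_, ?_, ?_, ?_, ?_, ?_, ?_, ?_, ?_, ?_⟩)))
            all_goals first | rfl | trivial | linarith
          · rcases Groth.Agent.Helper3.NumType.edge_casesT T h2 (by norm_num) (p := 2) (q := 3) (by decide) hp23 with e | e | e | e | e
            · obtain ⟨ea23, eb23⟩ := e
              have hr0 : (-2) * T.m 0 + (1) * T.m 1 + (2) * T.m 2 = 0 := by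
                have f1 : T.a 0 1 = T.w 0 := by linarith
                have f2 : T.a 0 2 = 2 * T.w 0 := by linarith
                have h : T.w 0 * ((-2) * T.m 0 + (1) * T.m 1 + (2) * T.m 2) = 0 := by
                  rw [f1, f2, z03] at r0
                  linarith
                rcases mul_eq_zero.mp h with h' | h'
                · exfalso; linarith
                · exact h'
              have hr1 : (-2) * T.m 1 + (1) * T.m 0 + (2) * T.m 3 = 0 := by
                have f0 : T.a 0 1 = T.w 1 := by linarith
                have f3 : T.a 1 3 = 2 * T.w 1 := by linarith
                have h : T.w 1 * ((-2) * T.m 1 + (1) * T.m 0 + (2) * T.m 3) = 0 := by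
                  rw [f0, z12, f3] at r1
                  linarith
                rcases mul_eq_zero.mp h with h' | h'
                · exfalso; linarith
                · exact h'
              have hr2 : (-2) * T.m 2 + (1) * T.m 0 + (1) * T.m 3 = 0 := by
                have f0 : T.a 0 2 = T.w 2 := by linarith
                have f3 : T.a 2 3 = T.w 2 := by linarith
                have h : T.w 2 * ((-2) * T.m 2 + (1) * T.m 0 + (1) * T.m 3) = 0 := by
                  rw [f0, z12, f3] at r2
                  linarith
                rcases mul_eq_zero.mp h with h' | h'
                · exfalso; linarith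
                · exact h'
              have hr3 : (-2) * T.m 3 + (1) * T.m 1 + (1) * T.m 2 = 0 := by
                have f1 : T.a 1 3 = T.w 3 := by linarith
                have f2 : T.a 2 3 = T.w 3 := by linarith
                have h : T.w 3 * ((-2) * T.m 3 + (1) * T.m 1 + (1) * T.m 2) = 0 := by
                  rw [z03, f1, f2] at r3
                  linarith
                rcases mul_eq_zero.mp h with h' | h'
                · exfalso; linarith
                · exact h'
              exfalso
              linarith
            · obtain ⟨ea23, eb23⟩ := e
              exfalso
              have t := Groth.Agent.Helper3.NumType.QT4 T h2 2 0 2 1 (by norm_num) (by norm_num)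
              linarith
            · obtain ⟨ea23, eb23⟩ := e
              exfalso
              have t := Groth.Agent.Helper3.NumType.QT4 T h2 1 0 1 1 (by norm_num) (by norm_num)
              linarith
            · obtain ⟨ea23, eb23⟩ := e
              exfalso
              have t := Groth.Agent.Helper3.NumType.QT4 T h2 1 0 2 1 (by norm_num) (by norm_num)
              linarith
            · obtain ⟨ea23, eb23⟩ := e
              exfalso
              have t := Groth.Agent.Helper3.NumType.QT4 T h2 1 0 1 1 (by norm_num) (by norm_num)
              linarith
        · obtain ⟨ea13, eb13⟩ := e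
          rcases eq_or_lt_of_le nn23 with z | hp23
          · have z23 : T.a 2 3 = 0 := z.symm
            have hr0 : (-2) * T.m 0 + (1) * T.m 1 + (2) * T.m 2 = 0 := by
              have f1 : T.a 0 1 = T.w 0 := by linarith
              have f2 : T.a 0 2 = 2 * T.w 0 := by linarith
              have h : T.w 0 * ((-2) * T.m 0 + (1) * T.m 1 + (2) * T.m 2) = 0 := by
                rw [f1, f2, z03] at r0
                linarith
              rcases mul_eq_zero.mp h with h' | h'
              · exfalso; linarith
              · exact h'
            have hr1 : (-2) * T.m 1 + (1) * T.m 0 + (1) * T.m 3 = 0 := by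
              have f0 : T.a 0 1 = T.w 1 := by linarith
              have f3 : T.a 1 3 = T.w 1 := by linarith
              have h : T.w 1 * ((-2) * T.m 1 + (1) * T.m 0 + (1) * T.m 3) = 0 := by
                rw [f0, z12, f3] at r1
                linarith
              rcases mul_eq_zero.mp h with h' | h'
              · exfalso; linarith
              · exact h'
            have hr2 : (-2) * T.m 2 + (1) * T.m 0 = 0 := by
              have f0 : T.a 0 2 = T.w 2 := by linarith
              have h : T.w 2 * ((-2) * T.m 2 + (1) * T.m 0) = 0 := by
                rw [f0, z12, z23] at r2
                linarith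
              rcases mul_eq_zero.mp h with h' | h'
              · exfalso; linarith
              · exact h'
            have hr3 : (-2) * T.m 3 + (2) * T.m 1 = 0 := by
              have f1 : T.a 1 3 = 2 * T.w 3 := by linarith
              have h : T.w 3 * ((-2) * T.m 3 + (2) * T.m 1) = 0 := by
                rw [z03, f1, z23] at r3
                linarith
              rcases mul_eq_zero.mp h with h' | h'
              · exfalso; linarith
              · exact h'
            have w0 : T.w 0 = 2 * T.w 3 := by linarith
            have w1 : T.w 1 = 2 * T.w 3 := by linarith
            have w2 : T.w 2 = 4 * T.w 3 := by linarith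
            have a01 : T.a 0 1 = 2 * T.w 3 := by linarith
            have a02 : T.a 0 2 = 4 * T.w 3 := by linarith
            have a13 : T.a 1 3 = 2 * T.w 3 := by linarith
            have m0 : T.m 0 = 2 * T.m 2 := by linarith
            have m1 : T.m 1 = 2 * T.m 2 := by linarith
            have m3 : T.m 3 = 2 * T.m 2 := by linarith
            refine ⟨Equiv.ofBijective ![3, 1, 0, 2] (by decide), T.m 2, T.w 3, ?_⟩
            simp only [Equiv.ofBijective_apply, Matrix.cons_val_zero, Matrix.cons_val_one, Matrix.cons_val]
            refine Or.inr (Or.inl ⟨?_, ?_, ?_, ?_, ?_, ?_, ?_, ?_, ?_, ?_, ?_, ?_, ?_, ?_, ?_, ?_, ?_, ?_⟩)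
            all_goals first | rfl | trivial | linarith
          · rcases Groth.Agent.Helper3.NumType.edge_casesT T h2 (by norm_num) (p := 2) (q := 3) (by decide) hp23 with e | e | e | e | e
            · obtain ⟨ea23, eb23⟩ := e
              exfalso
              linarith
            · obtain ⟨ea23, eb23⟩ := e
              exfalso
              have t := Groth.Agent.Helper3.NumType.QT4 T h2 2 0 2 1 (by norm_num) (by norm_num)
              linarith
            · obtain ⟨ea23, eb23⟩ := e
              exfalso
              have t := Groth.Agent.Helper3.NumType.QT4 T h2 1 0 1 1 (by norm_num) (by norm_num)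
              linarith
            · obtain ⟨ea23, eb23⟩ := e
              exfalso
              have t := Groth.Agent.Helper3.NumType.QT4 T h2 1 0 2 1 (by norm_num) (by norm_num)
              linarith
            · obtain ⟨ea23, eb23⟩ := e
              exfalso
              have t := Groth.Agent.Helper3.NumType.QT4 T h2 1 0 1 1 (by norm_num) (by norm_num)
              linarith
        · obtain ⟨ea13, eb13⟩ := e
          exfalso
          have t := Groth.Agent.Helper3.NumType.QT4 T h2 1 2 0 1 (by norm_num) (by norm_num)
          linarith
        · obtain ⟨ea13, eb13⟩ := e
          exfalso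
          have t := Groth.Agent.Helper3.NumType.QT4 T h2 1 2 0 3 (by norm_num) (by norm_num)
          linarith
    · rcases Groth.Agent.Helper3.NumType.edge_casesT T h2 (by norm_num) (p := 1) (q := 2) (by decide) hp12 with e | e | e | e | e
      · obtain ⟨ea12, eb12⟩ := e
        exfalso
        linarith
      · obtain ⟨ea12, eb12⟩ := e
        exfalso
        have t := Groth.Agent.Helper3.NumType.QT4 T h2 1 1 1 0 (by norm_num) (by norm_num)
        linarith
      · obtain ⟨ea12, eb12⟩ := e
        exfalso
        linarith
      · obtain ⟨ea12, eb12⟩ := e
        exfalso
        linarith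
      · obtain ⟨ea12, eb12⟩ := e
        exfalso
        linarith
  · rcases Groth.Agent.Helper3.NumType.edge_casesT T h2 (by norm_num) (p := 0) (q := 3) (by decide) hp03 with e | e | e | e | e
    · obtain ⟨ea03, eb03⟩ := e
      rcases eq_or_lt_of_le nn12 with z | hp12
      · have z12 : T.a 1 2 = 0 := z.symm
        rcases eq_or_lt_of_le nn13 with z | hp13
        · have z13 : T.a 1 3 = 0 := z.symm
          rcases eq_or_lt_of_le nn23 with z | hp23
          · have z23 : T.a 2 3 = 0 := z.symm
            have hr0 : (-2) * T.m 0 + (1) * T.m 1 + (2) * T.m 2 + (1) * T.m 3 = 0 := by
              have f1 : T.a 0 1 = T.w 0 := by linarith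
              have f2 : T.a 0 2 = 2 * T.w 0 := by linarith
              have f3 : T.a 0 3 = T.w 0 := by linarith
              have h : T.w 0 * ((-2) * T.m 0 + (1) * T.m 1 + (2) * T.m 2 + (1) * T.m 3) = 0 := by
                rw [f1, f2, f3] at r0
                linarith
              rcases mul_eq_zero.mp h with h' | h'
              · exfalso; linarith
              · exact h'
            have hr1 : (-2) * T.m 1 + (1) * T.m 0 = 0 := by
              have f0 : T.a 0 1 = T.w 1 := by linarith
              have h : T.w 1 * ((-2) * T.m 1 + (1) * T.m 0) = 0 := by
                rw [f0, z12, z13] at r1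
                linarith
              rcases mul_eq_zero.mp h with h' | h'
              · exfalso; linarith
              · exact h'
            have hr2 : (-2) * T.m 2 + (1) * T.m 0 = 0 := by
              have f0 : T.a 0 2 = T.w 2 := by linarith
              have h : T.w 2 * ((-2) * T.m 2 + (1) * T.m 0) = 0 := by
                rw [f0, z12, z23] at r2
                linarith
              rcases mul_eq_zero.mp h with h' | h'
              · exfalso; linarith
              · exact h'
            have hr3 : (-2) * T.m 3 + (1) * T.m 0 = 0 := by
              have f0 : T.a 0 3 = T.w 3 := by linarith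
              have h : T.w 3 * ((-2) * T.m 3 + (1) * T.m 0) = 0 := by
                rw [f0, z13, z23] at r3
                linarith
              rcases mul_eq_zero.mp h with h' | h'
              · exfalso; linarith
              · exact h'
            have w1 : T.w 1 = T.w 0 := by linarith
            have w2 : T.w 2 = 2 * T.w 0 := by linarith
            have w3 : T.w 3 = T.w 0 := by linarith
            have a01 : T.a 0 1 = T.w 0 := by linarith
            have a02 : T.a 0 2 = 2 * T.w 0 := by linarith
            have a03 : T.a 0 3 = T.w 0 := by linarith
            have m0 : T.m 0 = 2 * T.m 1 := by linarith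
            have m2 : T.m 2 = T.m 1 := by linarith
            have m3 : T.m 3 = T.m 1 := by linarith
            refine ⟨Equiv.ofBijective ![0, 1, 3, 2] (by decide), T.m 1, T.w 0, ?_⟩
            simp only [Equiv.ofBijective_apply, Matrix.cons_val_zero, Matrix.cons_val_one, Matrix.cons_val]
            refine Or.inr (Or.inr (Or.inr (Or.inr (Or.inl ⟨?_, ?_, ?_, ?_, ?_, ?_, ?_, ?_, ?_, ?_, ?_, ?_, ?_, ?_, ?_, ?_, ?_, ?_⟩))))
            all_goals first | rfl | trivial | linarith
          · rcases Groth.Agent.Helper3.NumType.edge_casesT T h2 (by norm_num) (p := 2) (q := 3) (by decide) hp23 with e | e | e | e | e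
            · obtain ⟨ea23, eb23⟩ := e
              exfalso
              linarith
            · obtain ⟨ea23, eb23⟩ := e
              exfalso
              linarith
            · obtain ⟨ea23, eb23⟩ := e
              exfalso
              have t := Groth.Agent.Helper3.NumType.QT4 T h2 1 0 1 1 (by norm_num) (by norm_num)
              linarith
            · obtain ⟨ea23, eb23⟩ := e
              exfalso
              linarith
            · obtain ⟨ea23, eb23⟩ := e
              exfalso
              linarith
        · rcases Groth.Agent.Helper3.NumType.edge_casesT T h2 (by norm_num) (p := 1) (q := 3) (by decide) hp13 with e | e | e | e | e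
          · obtain ⟨ea13, eb13⟩ := e
            exfalso
            have t := Groth.Agent.Helper3.NumType.QT4 T h2 1 1 0 1 (by norm_num) (by norm_num)
            linarith
          · obtain ⟨ea13, eb13⟩ := e
            exfalso
            linarith
          · obtain ⟨ea13, eb13⟩ := e
            exfalso
            linarith
          · obtain ⟨ea13, eb13⟩ := e
            exfalso
            linarith
          · obtain ⟨ea13, eb13⟩ := e
            exfalso
            linarith
      · rcases Groth.Agent.Helper3.NumType.edge_casesT T h2 (by norm_num) (p := 1) (q := 2) (by decide) hp12 with e | e | e | e | e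
        · obtain ⟨ea12, eb12⟩ := e
          exfalso
          linarith
        · obtain ⟨ea12, eb12⟩ := e
          exfalso
          have t := Groth.Agent.Helper3.NumType.QT4 T h2 1 1 1 0 (by norm_num) (by norm_num)
          linarith
        · obtain ⟨ea12, eb12⟩ := e
          exfalso
          linarith
        · obtain ⟨ea12, eb12⟩ := e
          exfalso
          linarith
        · obtain ⟨ea12, eb12⟩ := e
          exfalso
          linarith
    · obtain ⟨ea03, eb03⟩ := e
      exfalso
      have t := Groth.Agent.Helper3.NumType.QT4 T h2 2 0 1 1 (by norm_num) (by norm_num)
      linarith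
    · obtain ⟨ea03, eb03⟩ := e
      exfalso
      have t := Groth.Agent.Helper3.NumType.QT4 T h2 2 0 1 2 (by norm_num) (by norm_num)
      linarith
    · obtain ⟨ea03, eb03⟩ := e
      exfalso
      have t := Groth.Agent.Helper3.NumType.QT4 T h2 2 1 0 1 (by norm_num) (by norm_num)
      linarith
    · obtain ⟨ea03, eb03⟩ := e
      exfalso
      have t := Groth.Agent.Helper3.NumType.QT4 T h2 2 1 0 3 (by norm_num) (by norm_num)
      linarith

theorem g4_ED2 (T : Models.NumericalType 4) (h2 : ∀ i, T.IsMinusTwo i) (hp01 : 0 < T.a 0 1) (ea01 : T.w 1 = T.w 0) (eb01 : T.a 0 1 = T.w 0) (hp02 : 0 < T.a 0 2) (ea02 : T.w 0 = 2 * T.w 2) (eb02 : T.a 0 2 = 2 * T.w 2) :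
    Goal4 T := by
  unfold Goal4
  have hw0 := T.w_pos 0
  have hm0 := T.m_pos 0
  have d0 := (h2 0).2
  have r0 := Groth.Agent.Helper3.NumType.RT4_0 T h2
  have hw1 := T.w_pos 1
  have hm1 := T.m_pos 1
  have d1 := (h2 1).2
  have r1 := Groth.Agent.Helper3.NumType.RT4_1 T h2
  have hw2 := T.w_pos 2
  have hm2 := T.m_pos 2
  have d2 := (h2 2).2
  have r2 := Groth.Agent.Helper3.NumType.RT4_2 T h2
  have hw3 := T.w_pos 3
  have hm3 := T.m_pos 3
  have d3 := (h2 3).2
  have r3 := Groth.Agent.Helper3.NumType.RT4_3 T h2
  have nn01 := T.offDiag_nonneg 0 1 (by decide)
  have s10 := Groth.Agent.Helper3.NumType.a_symm T 1 0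
  have nn02 := T.offDiag_nonneg 0 2 (by decide)
  have s20 := Groth.Agent.Helper3.NumType.a_symm T 2 0
  have nn03 := T.offDiag_nonneg 0 3 (by decide)
  have s30 := Groth.Agent.Helper3.NumType.a_symm T 3 0
  have nn12 := T.offDiag_nonneg 1 2 (by decide)
  have s21 := Groth.Agent.Helper3.NumType.a_symm T 2 1
  have nn13 := T.offDiag_nonneg 1 3 (by decide)
  have s31 := Groth.Agent.Helper3.NumType.a_symm T 3 1
  have nn23 := T.offDiag_nonneg 2 3 (by decide)
  have s32 := Groth.Agent.Helper3.NumType.a_symm T 3 2
  rcases eq_or_lt_of_le nn03 with z | hp03
  · have z03 : T.a 0 3 = 0 := z.symm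
    rcases eq_or_lt_of_le nn12 with z | hp12
    · have z12 : T.a 1 2 = 0 := z.symm
      rcases eq_or_lt_of_le nn13 with z | hp13
      · have z13 : T.a 1 3 = 0 := z.symm
        rcases eq_or_lt_of_le nn23 with z | hp23
        · have z23 : T.a 2 3 = 0 := z.symm
          exfalso
          obtain ⟨i, hi, j, hj, hij⟩ := T.connected ({0, 1, 2} : Finset (Fin 4)) (by decide) (by decide)
          fin_cases i <;> fin_cases j <;> first | exact absurd hi (by decide) | exact hj (by decide) | (apply hij; first | exact z03 | exact z13 | exact z23)
        · rcases Groth.Agent.Helper3.NumType.edge_casesT T h2 (by norm_num) (p := 2) (q := 3) (by decide) hp23 with e | e | e | e | e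
          · obtain ⟨ea23, eb23⟩ := e
            have hr0 : (-2) * T.m 0 + (1) * T.m 1 + (1) * T.m 2 = 0 := by
              have f1 : T.a 0 1 = T.w 0 := by linarith
              have f2 : T.a 0 2 = T.w 0 := by linarith
              have h : T.w 0 * ((-2) * T.m 0 + (1) * T.m 1 + (1) * T.m 2) = 0 := by
                rw [f1, f2, z03] at r0
                linarith
              rcases mul_eq_zero.mp h with h' | h'
              · exfalso; linarith
              · exact h'
            have hr1 : (-2) * T.m 1 + (1) * T.m 0 = 0 := by
              have f0 : T.a 0 1 = T.w 1 := by linarith
              have h : T.w 1 * ((-2) * T.m 1 + (1) * T.m 0) = 0 := by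
                rw [f0, z12, z13] at r1
                linarith
              rcases mul_eq_zero.mp h with h' | h'
              · exfalso; linarith
              · exact h'
            have hr2 : (-2) * T.m 2 + (2) * T.m 0 + (1) * T.m 3 = 0 := by
              have f0 : T.a 0 2 = 2 * T.w 2 := by linarith
              have f3 : T.a 2 3 = T.w 2 := by linarith
              have h : T.w 2 * ((-2) * T.m 2 + (2) * T.m 0 + (1) * T.m 3) = 0 := by
                rw [f0, z12, f3] at r2
                linarith
              rcases mul_eq_zero.mp h with h' | h'
              · exfalso; linarith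
              · exact h'
            have hr3 : (-2) * T.m 3 + (1) * T.m 2 = 0 := by
              have f2 : T.a 2 3 = T.w 3 := by linarith
              have h : T.w 3 * ((-2) * T.m 3 + (1) * T.m 2) = 0 := by
                rw [z03, z13, f2] at r3
                linarith
              rcases mul_eq_zero.mp h with h' | h'
              · exfalso; linarith
              · exact h'
            exfalso
            linarith
          · obtain ⟨ea23, eb23⟩ := e
            exfalso
            have t := Groth.Agent.Helper3.NumType.QT4 T h2 1 0 2 1 (by norm_num) (by norm_num)
            linarith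
          · obtain ⟨ea23, eb23⟩ := e
            exfalso
            have t := Groth.Agent.Helper3.NumType.QT4 T h2 1 0 2 2 (by norm_num) (by norm_num)
            linarith
          · obtain ⟨ea23, eb23⟩ := e
            exfalso
            have t := Groth.Agent.Helper3.NumType.QT4 T h2 1 0 2 1 (by norm_num) (by norm_num)
            linarith
          · obtain ⟨ea23, eb23⟩ := e
            exfalso
            have t := Groth.Agent.Helper3.NumType.QT4 T h2 1 0 2 2 (by norm_num) (by norm_num)
            linarith
      · rcases Groth.Agent.Helper3.NumType.edge_casesT T h2 (by norm_num) (p := 1) (q := 3) (by decide) hp13 with e | e | e | e | e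
        · obtain ⟨ea13, eb13⟩ := e
          rcases eq_or_lt_of_le nn23 with z | hp23
          · have z23 : T.a 2 3 = 0 := z.symm
            have hr0 : (-2) * T.m 0 + (1) * T.m 1 + (1) * T.m 2 = 0 := by
              have f1 : T.a 0 1 = T.w 0 := by linarith
              have f2 : T.a 0 2 = T.w 0 := by linarith
              have h : T.w 0 * ((-2) * T.m 0 + (1) * T.m 1 + (1) * T.m 2) = 0 := by
                rw [f1, f2, z03] at r0
                linarith
              rcases mul_eq_zero.mp h with h' | h'
              · exfalso; linarith
              · exact h'
            have hr1 : (-2) * T.m 1 + (1) * T.m 0 + (1) * T.m 3 = 0 := by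
              have f0 : T.a 0 1 = T.w 1 := by linarith
              have f3 : T.a 1 3 = T.w 1 := by linarith
              have h : T.w 1 * ((-2) * T.m 1 + (1) * T.m 0 + (1) * T.m 3) = 0 := by
                rw [f0, z12, f3] at r1
                linarith
              rcases mul_eq_zero.mp h with h' | h'
              · exfalso; linarith
              · exact h'
            have hr2 : (-2) * T.m 2 + (2) * T.m 0 = 0 := by
              have f0 : T.a 0 2 = 2 * T.w 2 := by linarith
              have h : T.w 2 * ((-2) * T.m 2 + (2) * T.m 0) = 0 := by
                rw [f0, z12, z23] at r2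
                linarith
              rcases mul_eq_zero.mp h with h' | h'
              · exfalso; linarith
              · exact h'
            have hr3 : (-2) * T.m 3 + (1) * T.m 1 = 0 := by
              have f1 : T.a 1 3 = T.w 3 := by linarith
              have h : T.w 3 * ((-2) * T.m 3 + (1) * T.m 1) = 0 := by
                rw [z03, f1, z23] at r3
                linarith
              rcases mul_eq_zero.mp h with h' | h'
              · exfalso; linarith
              · exact h'
            exfalso
            linarith
          · rcases Groth.Agent.Helper3.NumType.edge_casesT T h2 (by norm_num) (p := 2) (q := 3) (by decide) hp23 with e | e | e | e | e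
            · obtain ⟨ea23, eb23⟩ := e
              exfalso
              linarith
            · obtain ⟨ea23, eb23⟩ := e
              exfalso
              have t := Groth.Agent.Helper3.NumType.QT4 T h2 1 0 2 1 (by norm_num) (by norm_num)
              linarith
            · obtain ⟨ea23, eb23⟩ := e
              exfalso
              have t := Groth.Agent.Helper3.NumType.QT4 T h2 1 0 2 2 (by norm_num) (by norm_num)
              linarith
            · obtain ⟨ea23, eb23⟩ := e
              exfalso
              have t := Groth.Agent.Helper3.NumType.QT4 T h2 1 0 2 1 (by norm_num) (by norm_num)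
              linarith
            · obtain ⟨ea23, eb23⟩ := e
              exfalso
              have t := Groth.Agent.Helper3.NumType.QT4 T h2 1 0 2 2 (by norm_num) (by norm_num)
              linarith
        · obtain ⟨ea13, eb13⟩ := e
          rcases eq_or_lt_of_le nn23 with z | hp23
          · have z23 : T.a 2 3 = 0 := z.symm
            have hr0 : (-2) * T.m 0 + (1) * T.m 1 + (1) * T.m 2 = 0 := by
              have f1 : T.a 0 1 = T.w 0 := by linarith
              have f2 : T.a 0 2 = T.w 0 := by linarith
              have h : T.w 0 * ((-2) * T.m 0 + (1) * T.m 1 + (1) * T.m 2) = 0 := by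
                rw [f1, f2, z03] at r0
                linarith
              rcases mul_eq_zero.mp h with h' | h'
              · exfalso; linarith
              · exact h'
            have hr1 : (-2) * T.m 1 + (1) * T.m 0 + (2) * T.m 3 = 0 := by
              have f0 : T.a 0 1 = T.w 1 := by linarith
              have f3 : T.a 1 3 = 2 * T.w 1 := by linarith
              have h : T.w 1 * ((-2) * T.m 1 + (1) * T.m 0 + (2) * T.m 3) = 0 := by
                rw [f0, z12, f3] at r1
                linarith
              rcases mul_eq_zero.mp h with h' | h'
              · exfalso; linarith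
              · exact h'
            have hr2 : (-2) * T.m 2 + (2) * T.m 0 = 0 := by
              have f0 : T.a 0 2 = 2 * T.w 2 := by linarith
              have h : T.w 2 * ((-2) * T.m 2 + (2) * T.m 0) = 0 := by
                rw [f0, z12, z23] at r2
                linarith
              rcases mul_eq_zero.mp h with h' | h'
              · exfalso; linarith
              · exact h'
            have hr3 : (-2) * T.m 3 + (1) * T.m 1 = 0 := by
              have f1 : T.a 1 3 = T.w 3 := by linarith
              have h : T.w 3 * ((-2) * T.m 3 + (1) * T.m 1) = 0 := by
                rw [z03, f1, z23] at r3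
                linarith
              rcases mul_eq_zero.mp h with h' | h'
              · exfalso; linarith
              · exact h'
            have w0 : T.w 0 = 2 * T.w 2 := by linarith
            have w1 : T.w 1 = 2 * T.w 2 := by linarith
            have w3 : T.w 3 = 4 * T.w 2 := by linarith
            have a01 : T.a 0 1 = 2 * T.w 2 := by linarith
            have a02 : T.a 0 2 = 2 * T.w 2 := by linarith
            have a13 : T.a 1 3 = 4 * T.w 2 := by linarith
            have m0 : T.m 0 = 2 * T.m 3 := by linarith
            have m1 : T.m 1 = 2 * T.m 3 := by linarith
            have m2 : T.m 2 = 2 * T.m 3 := by linarith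
            refine ⟨Equiv.ofBijective ![2, 0, 1, 3] (by decide), T.m 3, T.w 2, ?_⟩
            simp only [Equiv.ofBijective_apply, Matrix.cons_val_zero, Matrix.cons_val_one, Matrix.cons_val]
            refine Or.inr (Or.inl ⟨?_, ?_, ?_, ?_, ?_, ?_, ?_, ?_, ?_, ?_, ?_, ?_, ?_, ?_, ?_, ?_, ?_, ?_⟩)
            all_goals first | rfl | trivial | linarith
          · rcases Groth.Agent.Helper3.NumType.edge_casesT T h2 (by norm_num) (p := 2) (q := 3) (by decide) hp23 with e | e | e | e | e
            · obtain ⟨ea23, eb23⟩ := e
              exfalso
              linarith
            · obtain ⟨ea23, eb23⟩ := e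
              exfalso
              have t := Groth.Agent.Helper3.NumType.QT4 T h2 1 0 2 1 (by norm_num) (by norm_num)
              linarith
            · obtain ⟨ea23, eb23⟩ := e
              exfalso
              have t := Groth.Agent.Helper3.NumType.QT4 T h2 1 0 2 2 (by norm_num) (by norm_num)
              linarith
            · obtain ⟨ea23, eb23⟩ := e
              exfalso
              have t := Groth.Agent.Helper3.NumType.QT4 T h2 1 0 2 1 (by norm_num) (by norm_num)
              linarith
            · obtain ⟨ea23, eb23⟩ := e
              exfalso
              have t := Groth.Agent.Helper3.NumType.QT4 T h2 1 0 2 2 (by norm_num) (by norm_num)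
              linarith
        · obtain ⟨ea13, eb13⟩ := e
          rcases eq_or_lt_of_le nn23 with z | hp23
          · have z23 : T.a 2 3 = 0 := z.symm
            have hr0 : (-2) * T.m 0 + (1) * T.m 1 + (1) * T.m 2 = 0 := by
              have f1 : T.a 0 1 = T.w 0 := by linarith
              have f2 : T.a 0 2 = T.w 0 := by linarith
              have h : T.w 0 * ((-2) * T.m 0 + (1) * T.m 1 + (1) * T.m 2) = 0 := by
                rw [f1, f2, z03] at r0
                linarith
              rcases mul_eq_zero.mp h with h' | h'
              · exfalso; linarith
              · exact h'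
            have hr1 : (-2) * T.m 1 + (1) * T.m 0 + (1) * T.m 3 = 0 := by
              have f0 : T.a 0 1 = T.w 1 := by linarith
              have f3 : T.a 1 3 = T.w 1 := by linarith
              have h : T.w 1 * ((-2) * T.m 1 + (1) * T.m 0 + (1) * T.m 3) = 0 := by
                rw [f0, z12, f3] at r1
                linarith
              rcases mul_eq_zero.mp h with h' | h'
              · exfalso; linarith
              · exact h'
            have hr2 : (-2) * T.m 2 + (2) * T.m 0 = 0 := by
              have f0 : T.a 0 2 = 2 * T.w 2 := by linarith
              have h : T.w 2 * ((-2) * T.m 2 + (2) * T.m 0) = 0 := by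
                rw [f0, z12, z23] at r2
                linarith
              rcases mul_eq_zero.mp h with h' | h'
              · exfalso; linarith
              · exact h'
            have hr3 : (-2) * T.m 3 + (2) * T.m 1 = 0 := by
              have f1 : T.a 1 3 = 2 * T.w 3 := by linarith
              have h : T.w 3 * ((-2) * T.m 3 + (2) * T.m 1) = 0 := by
                rw [z03, f1, z23] at r3
                linarith
              rcases mul_eq_zero.mp h with h' | h'
              · exfalso; linarith
              · exact h'
            have w0 : T.w 0 = 2 * T.w 2 := by linarith
            have w1 : T.w 1 = 2 * T.w 2 := by linarith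
            have w3 : T.w 3 = T.w 2 := by linarith
            have a01 : T.a 0 1 = 2 * T.w 2 := by linarith
            have a02 : T.a 0 2 = 2 * T.w 2 := by linarith
            have a13 : T.a 1 3 = 2 * T.w 2 := by linarith
            have m0 : T.m 0 = T.m 2 := by linarith
            have m1 : T.m 1 = T.m 2 := by linarith
            have m3 : T.m 3 = T.m 2 := by linarith
            refine ⟨Equiv.ofBijective ![2, 0, 1, 3] (by decide), T.m 2, T.w 2, ?_⟩
            simp only [Equiv.ofBijective_apply, Matrix.cons_val_zero, Matrix.cons_val_one, Matrix.cons_val]
            refine Or.inr (Or.inr (Or.inl ⟨?_, ?_, ?_, ?_, ?_, ?_, ?_, ?_, ?_, ?_, ?_, ?_, ?_, ?_, ?_, ?_, ?_, ?_⟩))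
            all_goals first | rfl | trivial | linarith
          · rcases Groth.Agent.Helper3.NumType.edge_casesT T h2 (by norm_num) (p := 2) (q := 3) (by decide) hp23 with e | e | e | e | e
            · obtain ⟨ea23, eb23⟩ := e
              have hr0 : (-2) * T.m 0 + (1) * T.m 1 + (1) * T.m 2 = 0 := by
                have f1 : T.a 0 1 = T.w 0 := by linarith
                have f2 : T.a 0 2 = T.w 0 := by linarith
                have h : T.w 0 * ((-2) * T.m 0 + (1) * T.m 1 + (1) * T.m 2) = 0 := by
                  rw [f1, f2, z03] at r0
                  linarith
                rcases mul_eq_zero.mp h with h' | h'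
                · exfalso; linarith
                · exact h'
              have hr1 : (-2) * T.m 1 + (1) * T.m 0 + (1) * T.m 3 = 0 := by
                have f0 : T.a 0 1 = T.w 1 := by linarith
                have f3 : T.a 1 3 = T.w 1 := by linarith
                have h : T.w 1 * ((-2) * T.m 1 + (1) * T.m 0 + (1) * T.m 3) = 0 := by
                  rw [f0, z12, f3] at r1
                  linarith
                rcases mul_eq_zero.mp h with h' | h'
                · exfalso; linarith
                · exact h'
              have hr2 : (-2) * T.m 2 + (2) * T.m 0 + (1) * T.m 3 = 0 := by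
                have f0 : T.a 0 2 = 2 * T.w 2 := by linarith
                have f3 : T.a 2 3 = T.w 2 := by linarith
                have h : T.w 2 * ((-2) * T.m 2 + (2) * T.m 0 + (1) * T.m 3) = 0 := by
                  rw [f0, z12, f3] at r2
                  linarith
                rcases mul_eq_zero.mp h with h' | h'
                · exfalso; linarith
                · exact h'
              have hr3 : (-2) * T.m 3 + (2) * T.m 1 + (1) * T.m 2 = 0 := by
                have f1 : T.a 1 3 = 2 * T.w 3 := by linarith
                have f2 : T.a 2 3 = T.w 3 := by linarith
                have h : T.w 3 * ((-2) * T.m 3 + (2) * T.m 1 + (1) * T.m 2) = 0 := by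
                  rw [z03, f1, f2] at r3
                  linarith
                rcases mul_eq_zero.mp h with h' | h'
                · exfalso; linarith
                · exact h'
              exfalso
              linarith
            · obtain ⟨ea23, eb23⟩ := e
              exfalso
              have t := Groth.Agent.Helper3.NumType.QT4 T h2 1 0 2 1 (by norm_num) (by norm_num)
              linarith
            · obtain ⟨ea23, eb23⟩ := e
              exfalso
              have t := Groth.Agent.Helper3.NumType.QT4 T h2 1 0 2 2 (by norm_num) (by norm_num)
              linarith
            · obtain ⟨ea23, eb23⟩ := e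
              exfalso
              have t := Groth.Agent.Helper3.NumType.QT4 T h2 1 0 2 1 (by norm_num) (by norm_num)
              linarith
            · obtain ⟨ea23, eb23⟩ := e
              exfalso
              have t := Groth.Agent.Helper3.NumType.QT4 T h2 1 0 2 2 (by norm_num) (by norm_num)
              linarith
        · obtain ⟨ea13, eb13⟩ := e
          exfalso
          have t := Groth.Agent.Helper3.NumType.QT4 T h2 1 2 0 1 (by norm_num) (by norm_num)
          linarith
        · obtain ⟨ea13, eb13⟩ := e
          exfalso
          have t := Groth.Agent.Helper3.NumType.QT4 T h2 1 2 0 3 (by norm_num) (by norm_num)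
          linarith
    · rcases Groth.Agent.Helper3.NumType.edge_casesT T h2 (by norm_num) (p := 1) (q := 2) (by decide) hp12 with e | e | e | e | e
      · obtain ⟨ea12, eb12⟩ := e
        exfalso
        linarith
      · obtain ⟨ea12, eb12⟩ := e
        exfalso
        linarith
      · obtain ⟨ea12, eb12⟩ := e
        exfalso
        have t := Groth.Agent.Helper3.NumType.QT4 T h2 1 1 1 0 (by norm_num) (by norm_num)
        linarith
      · obtain ⟨ea12, eb12⟩ := e
        exfalso
        linarith
      · obtain ⟨ea12, eb12⟩ := e
        exfalso
        linarith
  · rcases Groth.Agent.Helper3.NumType.edge_casesT T h2 (by norm_num) (p := 0) (q := 3) (by decide) hp03 with e | e | e | e | e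
    · obtain ⟨ea03, eb03⟩ := e
      rcases eq_or_lt_of_le nn12 with z | hp12
      · have z12 : T.a 1 2 = 0 := z.symm
        rcases eq_or_lt_of_le nn13 with z | hp13
        · have z13 : T.a 1 3 = 0 := z.symm
          rcases eq_or_lt_of_le nn23 with z | hp23
          · have z23 : T.a 2 3 = 0 := z.symm
            have hr0 : (-2) * T.m 0 + (1) * T.m 1 + (1) * T.m 2 + (1) * T.m 3 = 0 := by
              have f1 : T.a 0 1 = T.w 0 := by linarith
              have f2 : T.a 0 2 = T.w 0 := by linarith
              have f3 : T.a 0 3 = T.w 0 := by linarith
              have h : T.w 0 * ((-2) * T.m 0 + (1) * T.m 1 + (1) * T.m 2 + (1) * T.m 3) = 0 := by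
                rw [f1, f2, f3] at r0
                linarith
              rcases mul_eq_zero.mp h with h' | h'
              · exfalso; linarith
              · exact h'
            have hr1 : (-2) * T.m 1 + (1) * T.m 0 = 0 := by
              have f0 : T.a 0 1 = T.w 1 := by linarith
              have h : T.w 1 * ((-2) * T.m 1 + (1) * T.m 0) = 0 := by
                rw [f0, z12, z13] at r1
                linarith
              rcases mul_eq_zero.mp h with h' | h'
              · exfalso; linarith
              · exact h'
            have hr2 : (-2) * T.m 2 + (2) * T.m 0 = 0 := by
              have f0 : T.a 0 2 = 2 * T.w 2 := by linarith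
              have h : T.w 2 * ((-2) * T.m 2 + (2) * T.m 0) = 0 := by
                rw [f0, z12, z23] at r2
                linarith
              rcases mul_eq_zero.mp h with h' | h'
              · exfalso; linarith
              · exact h'
            have hr3 : (-2) * T.m 3 + (1) * T.m 0 = 0 := by
              have f0 : T.a 0 3 = T.w 3 := by linarith
              have h : T.w 3 * ((-2) * T.m 3 + (1) * T.m 0) = 0 := by
                rw [f0, z13, z23] at r3
                linarith
              rcases mul_eq_zero.mp h with h' | h'
              · exfalso; linarith
              · exact h'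
            have w0 : T.w 0 = 2 * T.w 2 := by linarith
            have w1 : T.w 1 = 2 * T.w 2 := by linarith
            have w3 : T.w 3 = 2 * T.w 2 := by linarith
            have a01 : T.a 0 1 = 2 * T.w 2 := by linarith
            have a02 : T.a 0 2 = 2 * T.w 2 := by linarith
            have a03 : T.a 0 3 = 2 * T.w 2 := by linarith
            have m0 : T.m 0 = 2 * T.m 1 := by linarith
            have m2 : T.m 2 = 2 * T.m 1 := by linarith
            have m3 : T.m 3 = T.m 1 := by linarith
            refine ⟨Equiv.ofBijective ![0, 1, 3, 2] (by decide), T.m 1, T.w 2, ?_⟩
            simp only [Equiv.ofBijective_apply, Matrix.cons_val_zero, Matrix.cons_val_one, Matrix.cons_val]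
            refine Or.inr (Or.inr (Or.inr (Or.inr (Or.inr (⟨?_, ?_, ?_, ?_, ?_, ?_, ?_, ?_, ?_, ?_, ?_, ?_, ?_, ?_, ?_, ?_, ?_, ?_⟩)))))
            all_goals first | rfl | trivial | linarith
          · rcases Groth.Agent.Helper3.NumType.edge_casesT T h2 (by norm_num) (p := 2) (q := 3) (by decide) hp23 with e | e | e | e | e
            · obtain ⟨ea23, eb23⟩ := e
              exfalso
              linarith
            · obtain ⟨ea23, eb23⟩ := e
              exfalso
              have t := Groth.Agent.Helper3.NumType.QT4 T h2 1 0 1 1 (by norm_num) (by norm_num)
              linarith
            · obtain ⟨ea23, eb23⟩ := e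
              exfalso
              linarith
            · obtain ⟨ea23, eb23⟩ := e
              exfalso
              linarith
            · obtain ⟨ea23, eb23⟩ := e
              exfalso
              linarith
        · rcases Groth.Agent.Helper3.NumType.edge_casesT T h2 (by norm_num) (p := 1) (q := 3) (by decide) hp13 with e | e | e | e | e
          · obtain ⟨ea13, eb13⟩ := e
            exfalso
            have t := Groth.Agent.Helper3.NumType.QT4 T h2 1 1 0 1 (by norm_num) (by norm_num)
            linarith
          · obtain ⟨ea13, eb13⟩ := e
            exfalso
            linarith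
          · obtain ⟨ea13, eb13⟩ := e
            exfalso
            linarith
          · obtain ⟨ea13, eb13⟩ := e
            exfalso
            linarith
          · obtain ⟨ea13, eb13⟩ := e
            exfalso
            linarith
      · rcases Groth.Agent.Helper3.NumType.edge_casesT T h2 (by norm_num) (p := 1) (q := 2) (by decide) hp12 with e | e | e | e | e
        · obtain ⟨ea12, eb12⟩ := e
          exfalso
          linarith
        · obtain ⟨ea12, eb12⟩ := e
          exfalso
          linarith
        · obtain ⟨ea12, eb12⟩ := e
          exfalso
          have t := Groth.Agent.Helper3.NumType.QT4 T h2 1 1 1 0 (by norm_num) (by norm_num)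
          linarith
        · obtain ⟨ea12, eb12⟩ := e
          exfalso
          linarith
        · obtain ⟨ea12, eb12⟩ := e
          exfalso
          linarith
    · obtain ⟨ea03, eb03⟩ := e
      exfalso
      have t := Groth.Agent.Helper3.NumType.QT4 T h2 2 0 2 1 (by norm_num) (by norm_num)
      linarith
    · obtain ⟨ea03, eb03⟩ := e
      exfalso
      have t := Groth.Agent.Helper3.NumType.QT4 T h2 1 0 1 1 (by norm_num) (by norm_num)
      linarith
    · obtain ⟨ea03, eb03⟩ := e
      exfalso
      have t := Groth.Agent.Helper3.NumType.QT4 T h2 2 1 0 1 (by norm_num) (by norm_num)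
      linarith
    · obtain ⟨ea03, eb03⟩ := e
      exfalso
      have t := Groth.Agent.Helper3.NumType.QT4 T h2 2 1 0 3 (by norm_num) (by norm_num)
      linarith

theorem g4_U2Z (T : Models.NumericalType 4) (h2 : ∀ i, T.IsMinusTwo i) (hp01 : 0 < T.a 0 1) (ea01 : T.w 1 = 2 * T.w 0) (eb01 : T.a 0 1 = 2 * T.w 0) (z02 : T.a 0 2 = 0) :
    Goal4 T := by
  unfold Goal4
  have hw0 := T.w_pos 0
  have hm0 := T.m_pos 0
  have d0 := (h2 0).2
  have r0 := Groth.Agent.Helper3.NumType.RT4_0 T h2
  have hw1 := T.w_pos 1
  have hm1 := T.m_pos 1
  have d1 := (h2 1).2
  have r1 := Groth.Agent.Helper3.NumType.RT4_1 T h2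
  have hw2 := T.w_pos 2
  have hm2 := T.m_pos 2
  have d2 := (h2 2).2
  have r2 := Groth.Agent.Helper3.NumType.RT4_2 T h2
  have hw3 := T.w_pos 3
  have hm3 := T.m_pos 3
  have d3 := (h2 3).2
  have r3 := Groth.Agent.Helper3.NumType.RT4_3 T h2
  have nn01 := T.offDiag_nonneg 0 1 (by decide)
  have s10 := Groth.Agent.Helper3.NumType.a_symm T 1 0
  have nn02 := T.offDiag_nonneg 0 2 (by decide)
  have s20 := Groth.Agent.Helper3.NumType.a_symm T 2 0
  have nn03 := T.offDiag_nonneg 0 3 (by decide)
  have s30 := Groth.Agent.Helper3.NumType.a_symm T 3 0
  have nn12 := T.offDiag_nonneg 1 2 (by decide)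
  have s21 := Groth.Agent.Helper3.NumType.a_symm T 2 1
  have nn13 := T.offDiag_nonneg 1 3 (by decide)
  have s31 := Groth.Agent.Helper3.NumType.a_symm T 3 1
  have nn23 := T.offDiag_nonneg 2 3 (by decide)
  have s32 := Groth.Agent.Helper3.NumType.a_symm T 3 2
  rcases eq_or_lt_of_le nn03 with z | hp03
  · have z03 : T.a 0 3 = 0 := z.symm
    rcases eq_or_lt_of_le nn12 with z | hp12
    · have z12 : T.a 1 2 = 0 := z.symm
      rcases eq_or_lt_of_le nn13 with z | hp13
      · have z13 : T.a 1 3 = 0 := z.symm
        exfalso
        obtain ⟨i, hi, j, hj, hij⟩ := T.connected ({0, 1} : Finset (Fin 4)) (by decide) (by decide)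
        fin_cases i <;> fin_cases j <;> first | exact absurd hi (by decide) | exact hj (by decide) | (apply hij; first | exact z02 | exact z03 | exact z12 | exact z13)
      · rcases Groth.Agent.Helper3.NumType.edge_casesT T h2 (by norm_num) (p := 1) (q := 3) (by decide) hp13 with e | e | e | e | e
        · obtain ⟨ea13, eb13⟩ := e
          rcases eq_or_lt_of_le nn23 with z | hp23
          · have z23 : T.a 2 3 = 0 := z.symm
            exfalso
            obtain ⟨i, hi, j, hj, hij⟩ := T.connected ({0, 1, 3} : Finset (Fin 4)) (by decide) (by decide)
            fin_cases i <;> fin_cases j <;> first | exact absurd hi (by decide) | exact hj (by decide) | (apply hij; first | exact z02 | exact z12 | exact s32.trans z23)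
          · rcases Groth.Agent.Helper3.NumType.edge_casesT T h2 (by norm_num) (p := 2) (q := 3) (by decide) hp23 with e | e | e | e | e
            · obtain ⟨ea23, eb23⟩ := e
              have hr0 : (-2) * T.m 0 + (2) * T.m 1 = 0 := by
                have f1 : T.a 0 1 = 2 * T.w 0 := by linarith
                have h : T.w 0 * ((-2) * T.m 0 + (2) * T.m 1) = 0 := by
                  rw [f1, z02, z03] at r0
                  linarith
                rcases mul_eq_zero.mp h with h' | h'
                · exfalso; linarith
                · exact h'
              have hr1 : (-2) * T.m 1 + (1) * T.m 0 + (1) * T.m 3 = 0 := by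
                have f0 : T.a 0 1 = T.w 1 := by linarith
                have f3 : T.a 1 3 = T.w 1 := by linarith
                have h : T.w 1 * ((-2) * T.m 1 + (1) * T.m 0 + (1) * T.m 3) = 0 := by
                  rw [f0, z12, f3] at r1
                  linarith
                rcases mul_eq_zero.mp h with h' | h'
                · exfalso; linarith
                · exact h'
              have hr2 : (-2) * T.m 2 + (1) * T.m 3 = 0 := by
                have f3 : T.a 2 3 = T.w 2 := by linarith
                have h : T.w 2 * ((-2) * T.m 2 + (1) * T.m 3) = 0 := by
                  rw [z02, z12, f3] at r2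
                  linarith
                rcases mul_eq_zero.mp h with h' | h'
                · exfalso; linarith
                · exact h'
              have hr3 : (-2) * T.m 3 + (1) * T.m 1 + (1) * T.m 2 = 0 := by
                have f1 : T.a 1 3 = T.w 3 := by linarith
                have f2 : T.a 2 3 = T.w 3 := by linarith
                have h : T.w 3 * ((-2) * T.m 3 + (1) * T.m 1 + (1) * T.m 2) = 0 := by
                  rw [z03, f1, f2] at r3
                  linarith
                rcases mul_eq_zero.mp h with h' | h'
                · exfalso; linarith
                · exact h'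
              exfalso
              linarith
            · obtain ⟨ea23, eb23⟩ := e
              have hr0 : (-2) * T.m 0 + (2) * T.m 1 = 0 := by
                have f1 : T.a 0 1 = 2 * T.w 0 := by linarith
                have h : T.w 0 * ((-2) * T.m 0 + (2) * T.m 1) = 0 := by
                  rw [f1, z02, z03] at r0
                  linarith
                rcases mul_eq_zero.mp h with h' | h'
                · exfalso; linarith
                · exact h'
              have hr1 : (-2) * T.m 1 + (1) * T.m 0 + (1) * T.m 3 = 0 := by
                have f0 : T.a 0 1 = T.w 1 := by linarith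
                have f3 : T.a 1 3 = T.w 1 := by linarith
                have h : T.w 1 * ((-2) * T.m 1 + (1) * T.m 0 + (1) * T.m 3) = 0 := by
                  rw [f0, z12, f3] at r1
                  linarith
                rcases mul_eq_zero.mp h with h' | h'
                · exfalso; linarith
                · exact h'
              have hr2 : (-2) * T.m 2 + (2) * T.m 3 = 0 := by
                have f3 : T.a 2 3 = 2 * T.w 2 := by linarith
                have h : T.w 2 * ((-2) * T.m 2 + (2) * T.m 3) = 0 := by
                  rw [z02, z12, f3] at r2
                  linarith
                rcases mul_eq_zero.mp h with h' | h'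
                · exfalso; linarith
                · exact h'
              have hr3 : (-2) * T.m 3 + (1) * T.m 1 + (1) * T.m 2 = 0 := by
                have f1 : T.a 1 3 = T.w 3 := by linarith
                have f2 : T.a 2 3 = T.w 3 := by linarith
                have h : T.w 3 * ((-2) * T.m 3 + (1) * T.m 1 + (1) * T.m 2) = 0 := by
                  rw [z03, f1, f2] at r3
                  linarith
                rcases mul_eq_zero.mp h with h' | h'
                · exfalso; linarith
                · exact h'
              have w1 : T.w 1 = 2 * T.w 0 := by linarith
              have w2 : T.w 2 = T.w 0 := by linarith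
              have w3 : T.w 3 = 2 * T.w 0 := by linarith
              have a01 : T.a 0 1 = 2 * T.w 0 := by linarith
              have a13 : T.a 1 3 = 2 * T.w 0 := by linarith
              have a23 : T.a 2 3 = 2 * T.w 0 := by linarith
              have m1 : T.m 1 = T.m 0 := by linarith
              have m2 : T.m 2 = T.m 0 := by linarith
              have m3 : T.m 3 = T.m 0 := by linarith
              refine ⟨Equiv.ofBijective ![0, 1, 3, 2] (by decide), T.m 0, T.w 0, ?_⟩
              simp only [Equiv.ofBijective_apply, Matrix.cons_val_zero, Matrix.cons_val_one, Matrix.cons_val]
              refine Or.inr (Or.inr (Or.inl ⟨?_, ?_, ?_, ?_, ?_, ?_, ?_, ?_, ?_, ?_, ?_, ?_, ?_, ?_, ?_, ?_, ?_, ?_⟩))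
              all_goals first | rfl | trivial | linarith
            · obtain ⟨ea23, eb23⟩ := e
              have hr0 : (-2) * T.m 0 + (2) * T.m 1 = 0 := by
                have f1 : T.a 0 1 = 2 * T.w 0 := by linarith
                have h : T.w 0 * ((-2) * T.m 0 + (2) * T.m 1) = 0 := by
                  rw [f1, z02, z03] at r0
                  linarith
                rcases mul_eq_zero.mp h with h' | h'
                · exfalso; linarith
                · exact h'
              have hr1 : (-2) * T.m 1 + (1) * T.m 0 + (1) * T.m 3 = 0 := by
                have f0 : T.a 0 1 = T.w 1 := by linarith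
                have f3 : T.a 1 3 = T.w 1 := by linarith
                have h : T.w 1 * ((-2) * T.m 1 + (1) * T.m 0 + (1) * T.m 3) = 0 := by
                  rw [f0, z12, f3] at r1
                  linarith
                rcases mul_eq_zero.mp h with h' | h'
                · exfalso; linarith
                · exact h'
              have hr2 : (-2) * T.m 2 + (1) * T.m 3 = 0 := by
                have f3 : T.a 2 3 = T.w 2 := by linarith
                have h : T.w 2 * ((-2) * T.m 2 + (1) * T.m 3) = 0 := by
                  rw [z02, z12, f3] at r2
                  linarith
                rcases mul_eq_zero.mp h with h' | h'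
                · exfalso; linarith
                · exact h'
              have hr3 : (-2) * T.m 3 + (1) * T.m 1 + (2) * T.m 2 = 0 := by
                have f1 : T.a 1 3 = T.w 3 := by linarith
                have f2 : T.a 2 3 = 2 * T.w 3 := by linarith
                have h : T.w 3 * ((-2) * T.m 3 + (1) * T.m 1 + (2) * T.m 2) = 0 := by
                  rw [z03, f1, f2] at r3
                  linarith
                rcases mul_eq_zero.mp h with h' | h'
                · exfalso; linarith
                · exact h'
              have w1 : T.w 1 = 2 * T.w 0 := by linarith
              have w2 : T.w 2 = 4 * T.w 0 := by linarith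
              have w3 : T.w 3 = 2 * T.w 0 := by linarith
              have a01 : T.a 0 1 = 2 * T.w 0 := by linarith
              have a13 : T.a 1 3 = 2 * T.w 0 := by linarith
              have a23 : T.a 2 3 = 4 * T.w 0 := by linarith
              have m0 : T.m 0 = 2 * T.m 2 := by linarith
              have m1 : T.m 1 = 2 * T.m 2 := by linarith
              have m3 : T.m 3 = 2 * T.m 2 := by linarith
              refine ⟨Equiv.ofBijective ![0, 1, 3, 2] (by decide), T.m 2, T.w 0, ?_⟩
              simp only [Equiv.ofBijective_apply, Matrix.cons_val_zero, Matrix.cons_val_one, Matrix.cons_val]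
              refine Or.inr (Or.inl ⟨?_, ?_, ?_, ?_, ?_, ?_, ?_, ?_, ?_, ?_, ?_, ?_, ?_, ?_, ?_, ?_, ?_, ?_⟩)
              all_goals first | rfl | trivial | linarith
            · obtain ⟨ea23, eb23⟩ := e
              exfalso
              have t := Groth.Agent.Helper3.NumType.QT4 T h2 0 1 3 2 (by norm_num) (by norm_num)
              linarith
            · obtain ⟨ea23, eb23⟩ := e
              exfalso
              have t := Groth.Agent.Helper3.NumType.QT4 T h2 0 1 1 2 (by norm_num) (by norm_num)
              linarith
        · obtain ⟨ea13, eb13⟩ := e
          exfalso
          have t := Groth.Agent.Helper3.NumType.QT4 T h2 2 2 0 1 (by norm_num) (by norm_num)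
          linarith
        · obtain ⟨ea13, eb13⟩ := e
          exfalso
          have t := Groth.Agent.Helper3.NumType.QT4 T h2 1 1 0 1 (by norm_num) (by norm_num)
          linarith
        · obtain ⟨ea13, eb13⟩ := e
          exfalso
          have t := Groth.Agent.Helper3.NumType.QT4 T h2 1 2 0 1 (by norm_num) (by norm_num)
          linarith
        · obtain ⟨ea13, eb13⟩ := e
          exfalso
          have t := Groth.Agent.Helper3.NumType.QT4 T h2 1 1 0 1 (by norm_num) (by norm_num)
          linarith
    · rcases Groth.Agent.Helper3.NumType.edge_casesT T h2 (by norm_num) (p := 1) (q := 2) (by decide) hp12 with e | e | e | e | e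
      · obtain ⟨ea12, eb12⟩ := e
        rcases eq_or_lt_of_le nn13 with z | hp13
        · have z13 : T.a 1 3 = 0 := z.symm
          rcases eq_or_lt_of_le nn23 with z | hp23
          · have z23 : T.a 2 3 = 0 := z.symm
            exfalso
            obtain ⟨i, hi, j, hj, hij⟩ := T.connected ({0, 1, 2} : Finset (Fin 4)) (by decide) (by decide)
            fin_cases i <;> fin_cases j <;> first | exact absurd hi (by decide) | exact hj (by decide) | (apply hij; first | exact z03 | exact z13 | exact z23)
          · rcases Groth.Agent.Helper3.NumType.edge_casesT T h2 (by norm_num) (p := 2) (q := 3) (by decide) hp23 with e | e | e | e | e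
            · obtain ⟨ea23, eb23⟩ := e
              have hr0 : (-2) * T.m 0 + (2) * T.m 1 = 0 := by
                have f1 : T.a 0 1 = 2 * T.w 0 := by linarith
                have h : T.w 0 * ((-2) * T.m 0 + (2) * T.m 1) = 0 := by
                  rw [f1, z02, z03] at r0
                  linarith
                rcases mul_eq_zero.mp h with h' | h'
                · exfalso; linarith
                · exact h'
              have hr1 : (-2) * T.m 1 + (1) * T.m 0 + (1) * T.m 2 = 0 := by
                have f0 : T.a 0 1 = T.w 1 := by linarith
                have f2 : T.a 1 2 = T.w 1 := by linarith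
                have h : T.w 1 * ((-2) * T.m 1 + (1) * T.m 0 + (1) * T.m 2) = 0 := by
                  rw [f0, f2, z13] at r1
                  linarith
                rcases mul_eq_zero.mp h with h' | h'
                · exfalso; linarith
                · exact h'
              have hr2 : (-2) * T.m 2 + (1) * T.m 1 + (1) * T.m 3 = 0 := by
                have f1 : T.a 1 2 = T.w 2 := by linarith
                have f3 : T.a 2 3 = T.w 2 := by linarith
                have h : T.w 2 * ((-2) * T.m 2 + (1) * T.m 1 + (1) * T.m 3) = 0 := by
                  rw [z02, f1, f3] at r2
                  linarith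
                rcases mul_eq_zero.mp h with h' | h'
                · exfalso; linarith
                · exact h'
              have hr3 : (-2) * T.m 3 + (1) * T.m 2 = 0 := by
                have f2 : T.a 2 3 = T.w 3 := by linarith
                have h : T.w 3 * ((-2) * T.m 3 + (1) * T.m 2) = 0 := by
                  rw [z03, z13, f2] at r3
                  linarith
                rcases mul_eq_zero.mp h with h' | h'
                · exfalso; linarith
                · exact h'
              exfalso
              linarith
            · obtain ⟨ea23, eb23⟩ := e
              have hr0 : (-2) * T.m 0 + (2) * T.m 1 = 0 := by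
                have f1 : T.a 0 1 = 2 * T.w 0 := by linarith
                have h : T.w 0 * ((-2) * T.m 0 + (2) * T.m 1) = 0 := by
                  rw [f1, z02, z03] at r0
                  linarith
                rcases mul_eq_zero.mp h with h' | h'
                · exfalso; linarith
                · exact h'
              have hr1 : (-2) * T.m 1 + (1) * T.m 0 + (1) * T.m 2 = 0 := by
                have f0 : T.a 0 1 = T.w 1 := by linarith
                have f2 : T.a 1 2 = T.w 1 := by linarith
                have h : T.w 1 * ((-2) * T.m 1 + (1) * T.m 0 + (1) * T.m 2) = 0 := by
                  rw [f0, f2, z13] at r1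
                  linarith
                rcases mul_eq_zero.mp h with h' | h'
                · exfalso; linarith
                · exact h'
              have hr2 : (-2) * T.m 2 + (1) * T.m 1 + (2) * T.m 3 = 0 := by
                have f1 : T.a 1 2 = T.w 2 := by linarith
                have f3 : T.a 2 3 = 2 * T.w 2 := by linarith
                have h : T.w 2 * ((-2) * T.m 2 + (1) * T.m 1 + (2) * T.m 3) = 0 := by
                  rw [z02, f1, f3] at r2
                  linarith
                rcases mul_eq_zero.mp h with h' | h'
                · exfalso; linarith
                · exact h'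
              have hr3 : (-2) * T.m 3 + (1) * T.m 2 = 0 := by
                have f2 : T.a 2 3 = T.w 3 := by linarith
                have h : T.w 3 * ((-2) * T.m 3 + (1) * T.m 2) = 0 := by
                  rw [z03, z13, f2] at r3
                  linarith
                rcases mul_eq_zero.mp h with h' | h'
                · exfalso; linarith
                · exact h'
              have w1 : T.w 1 = 2 * T.w 0 := by linarith
              have w2 : T.w 2 = 2 * T.w 0 := by linarith
              have w3 : T.w 3 = 4 * T.w 0 := by linarith
              have a01 : T.a 0 1 = 2 * T.w 0 := by linarith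
              have a12 : T.a 1 2 = 2 * T.w 0 := by linarith
              have a23 : T.a 2 3 = 4 * T.w 0 := by linarith
              have m0 : T.m 0 = 2 * T.m 3 := by linarith
              have m1 : T.m 1 = 2 * T.m 3 := by linarith
              have m2 : T.m 2 = 2 * T.m 3 := by linarith
              refine ⟨Equiv.ofBijective ![0, 1, 2, 3] (by decide), T.m 3, T.w 0, ?_⟩
              simp only [Equiv.ofBijective_apply, Matrix.cons_val_zero, Matrix.cons_val_one, Matrix.cons_val]
              refine Or.inr (Or.inl ⟨?_, ?_, ?_, ?_, ?_, ?_, ?_, ?_, ?_, ?_, ?_, ?_, ?_, ?_, ?_, ?_, ?_, ?_⟩)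
              all_goals first | rfl | trivial | linarith
            · obtain ⟨ea23, eb23⟩ := e
              have hr0 : (-2) * T.m 0 + (2) * T.m 1 = 0 := by
                have f1 : T.a 0 1 = 2 * T.w 0 := by linarith
                have h : T.w 0 * ((-2) * T.m 0 + (2) * T.m 1) = 0 := by
                  rw [f1, z02, z03] at r0
                  linarith
                rcases mul_eq_zero.mp h with h' | h'
                · exfalso; linarith
                · exact h'
              have hr1 : (-2) * T.m 1 + (1) * T.m 0 + (1) * T.m 2 = 0 := by
                have f0 : T.a 0 1 = T.w 1 := by linarith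
                have f2 : T.a 1 2 = T.w 1 := by linarith
                have h : T.w 1 * ((-2) * T.m 1 + (1) * T.m 0 + (1) * T.m 2) = 0 := by
                  rw [f0, f2, z13] at r1
                  linarith
                rcases mul_eq_zero.mp h with h' | h'
                · exfalso; linarith
                · exact h'
              have hr2 : (-2) * T.m 2 + (1) * T.m 1 + (1) * T.m 3 = 0 := by
                have f1 : T.a 1 2 = T.w 2 := by linarith
                have f3 : T.a 2 3 = T.w 2 := by linarith
                have h : T.w 2 * ((-2) * T.m 2 + (1) * T.m 1 + (1) * T.m 3) = 0 := by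
                  rw [z02, f1, f3] at r2
                  linarith
                rcases mul_eq_zero.mp h with h' | h'
                · exfalso; linarith
                · exact h'
              have hr3 : (-2) * T.m 3 + (2) * T.m 2 = 0 := by
                have f2 : T.a 2 3 = 2 * T.w 3 := by linarith
                have h : T.w 3 * ((-2) * T.m 3 + (2) * T.m 2) = 0 := by
                  rw [z03, z13, f2] at r3
                  linarith
                rcases mul_eq_zero.mp h with h' | h'
                · exfalso; linarith
                · exact h'
              have w1 : T.w 1 = 2 * T.w 0 := by linarith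
              have w2 : T.w 2 = 2 * T.w 0 := by linarith
              have w3 : T.w 3 = T.w 0 := by linarith
              have a01 : T.a 0 1 = 2 * T.w 0 := by linarith
              have a12 : T.a 1 2 = 2 * T.w 0 := by linarith
              have a23 : T.a 2 3 = 2 * T.w 0 := by linarith
              have m1 : T.m 1 = T.m 0 := by linarith
              have m2 : T.m 2 = T.m 0 := by linarith
              have m3 : T.m 3 = T.m 0 := by linarith
              refine ⟨Equiv.ofBijective ![0, 1, 2, 3] (by decide), T.m 0, T.w 0, ?_⟩
              simp only [Equiv.ofBijective_apply, Matrix.cons_val_zero, Matrix.cons_val_one, Matrix.cons_val]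
              refine Or.inr (Or.inr (Or.inl ⟨?_, ?_, ?_, ?_, ?_, ?_, ?_, ?_, ?_, ?_, ?_, ?_, ?_, ?_, ?_, ?_, ?_, ?_⟩))
              all_goals first | rfl | trivial | linarith
            · obtain ⟨ea23, eb23⟩ := e
              exfalso
              have t := Groth.Agent.Helper3.NumType.QT4 T h2 0 1 2 1 (by norm_num) (by norm_num)
              linarith
            · obtain ⟨ea23, eb23⟩ := e
              exfalso
              have t := Groth.Agent.Helper3.NumType.QT4 T h2 0 1 2 3 (by norm_num) (by norm_num)
              linarith
        · rcases Groth.Agent.Helper3.NumType.edge_casesT T h2 (by norm_num) (p := 1) (q := 3) (by decide) hp13 with e | e | e | e | e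
          · obtain ⟨ea13, eb13⟩ := e
            rcases eq_or_lt_of_le nn23 with z | hp23
            · have z23 : T.a 2 3 = 0 := z.symm
              have hr0 : (-2) * T.m 0 + (2) * T.m 1 = 0 := by
                have f1 : T.a 0 1 = 2 * T.w 0 := by linarith
                have h : T.w 0 * ((-2) * T.m 0 + (2) * T.m 1) = 0 := by
                  rw [f1, z02, z03] at r0
                  linarith
                rcases mul_eq_zero.mp h with h' | h'
                · exfalso; linarith
                · exact h'
              have hr1 : (-2) * T.m 1 + (1) * T.m 0 + (1) * T.m 2 + (1) * T.m 3 = 0 := by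
                have f0 : T.a 0 1 = T.w 1 := by linarith
                have f2 : T.a 1 2 = T.w 1 := by linarith
                have f3 : T.a 1 3 = T.w 1 := by linarith
                have h : T.w 1 * ((-2) * T.m 1 + (1) * T.m 0 + (1) * T.m 2 + (1) * T.m 3) = 0 := by
                  rw [f0, f2, f3] at r1
                  linarith
                rcases mul_eq_zero.mp h with h' | h'
                · exfalso; linarith
                · exact h'
              have hr2 : (-2) * T.m 2 + (1) * T.m 1 = 0 := by
                have f1 : T.a 1 2 = T.w 2 := by linarith
                have h : T.w 2 * ((-2) * T.m 2 + (1) * T.m 1) = 0 := by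
                  rw [z02, f1, z23] at r2
                  linarith
                rcases mul_eq_zero.mp h with h' | h'
                · exfalso; linarith
                · exact h'
              have hr3 : (-2) * T.m 3 + (1) * T.m 1 = 0 := by
                have f1 : T.a 1 3 = T.w 3 := by linarith
                have h : T.w 3 * ((-2) * T.m 3 + (1) * T.m 1) = 0 := by
                  rw [z03, f1, z23] at r3
                  linarith
                rcases mul_eq_zero.mp h with h' | h'
                · exfalso; linarith
                · exact h'
              have w1 : T.w 1 = 2 * T.w 0 := by linarith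
              have w2 : T.w 2 = 2 * T.w 0 := by linarith
              have w3 : T.w 3 = 2 * T.w 0 := by linarith
              have a01 : T.a 0 1 = 2 * T.w 0 := by linarith
              have a12 : T.a 1 2 = 2 * T.w 0 := by linarith
              have a13 : T.a 1 3 = 2 * T.w 0 := by linarith
              have m0 : T.m 0 = 2 * T.m 2 := by linarith
              have m1 : T.m 1 = 2 * T.m 2 := by linarith
              have m3 : T.m 3 = T.m 2 := by linarith
              refine ⟨Equiv.ofBijective ![1, 2, 3, 0] (by decide), T.m 2, T.w 0, ?_⟩
              simp only [Equiv.ofBijective_apply, Matrix.cons_val_zero, Matrix.cons_val_one, Matrix.cons_val]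
              refine Or.inr (Or.inr (Or.inr (Or.inr (Or.inr (⟨?_, ?_, ?_, ?_, ?_, ?_, ?_, ?_, ?_, ?_, ?_, ?_, ?_, ?_, ?_, ?_, ?_, ?_⟩)))))
              all_goals first | rfl | trivial | linarith
            · rcases Groth.Agent.Helper3.NumType.edge_casesT T h2 (by norm_num) (p := 2) (q := 3) (by decide) hp23 with e | e | e | e | e
              · obtain ⟨ea23, eb23⟩ := e
                exfalso
                have t := Groth.Agent.Helper3.NumType.QT4 T h2 0 1 1 1 (by norm_num) (by norm_num)
                linarith
              · obtain ⟨ea23, eb23⟩ := e
                exfalso
                linarith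
              · obtain ⟨ea23, eb23⟩ := e
                exfalso
                linarith
              · obtain ⟨ea23, eb23⟩ := e
                exfalso
                linarith
              · obtain ⟨ea23, eb23⟩ := e
                exfalso
                linarith
          · obtain ⟨ea13, eb13⟩ := e
            exfalso
            have t := Groth.Agent.Helper3.NumType.QT4 T h2 2 2 0 1 (by norm_num) (by norm_num)
            linarith
          · obtain ⟨ea13, eb13⟩ := e
            exfalso
            have t := Groth.Agent.Helper3.NumType.QT4 T h2 1 1 0 1 (by norm_num) (by norm_num)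
            linarith
          · obtain ⟨ea13, eb13⟩ := e
            exfalso
            have t := Groth.Agent.Helper3.NumType.QT4 T h2 1 2 0 1 (by norm_num) (by norm_num)
            linarith
          · obtain ⟨ea13, eb13⟩ := e
            exfalso
            have t := Groth.Agent.Helper3.NumType.QT4 T h2 1 1 0 1 (by norm_num) (by norm_num)
            linarith
      · obtain ⟨ea12, eb12⟩ := e
        exfalso
        have t := Groth.Agent.Helper3.NumType.QT4 T h2 2 2 1 0 (by norm_num) (by norm_num)
        linarith
      · obtain ⟨ea12, eb12⟩ := e
        exfalso
        have t := Groth.Agent.Helper3.NumType.QT4 T h2 1 1 1 0 (by norm_num) (by norm_num)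
        linarith
      · obtain ⟨ea12, eb12⟩ := e
        exfalso
        have t := Groth.Agent.Helper3.NumType.QT4 T h2 1 2 1 0 (by norm_num) (by norm_num)
        linarith
      · obtain ⟨ea12, eb12⟩ := e
        exfalso
        have t := Groth.Agent.Helper3.NumType.QT4 T h2 1 1 1 0 (by norm_num) (by norm_num)
        linarith
  · rcases Groth.Agent.Helper3.NumType.edge_casesT T h2 (by norm_num) (p := 0) (q := 3) (by decide) hp03 with e | e | e | e | e
    · obtain ⟨ea03, eb03⟩ := e
      rcases eq_or_lt_of_le nn12 with z | hp12
      · have z12 : T.a 1 2 = 0 := z.symm
        rcases eq_or_lt_of_le nn13 with z | hp13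
        · have z13 : T.a 1 3 = 0 := z.symm
          rcases eq_or_lt_of_le nn23 with z | hp23
          · have z23 : T.a 2 3 = 0 := z.symm
            exfalso
            obtain ⟨i, hi, j, hj, hij⟩ := T.connected ({0, 1, 3} : Finset (Fin 4)) (by decide) (by decide)
            fin_cases i <;> fin_cases j <;> first | exact absurd hi (by decide) | exact hj (by decide) | (apply hij; first | exact z02 | exact z12 | exact s32.trans z23)
          · rcases Groth.Agent.Helper3.NumType.edge_casesT T h2 (by norm_num) (p := 2) (q := 3) (by decide) hp23 with e | e | e | e | e
            · obtain ⟨ea23, eb23⟩ := e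
              have hr0 : (-2) * T.m 0 + (2) * T.m 1 + (1) * T.m 3 = 0 := by
                have f1 : T.a 0 1 = 2 * T.w 0 := by linarith
                have f3 : T.a 0 3 = T.w 0 := by linarith
                have h : T.w 0 * ((-2) * T.m 0 + (2) * T.m 1 + (1) * T.m 3) = 0 := by
                  rw [f1, z02, f3] at r0
                  linarith
                rcases mul_eq_zero.mp h with h' | h'
                · exfalso; linarith
                · exact h'
              have hr1 : (-2) * T.m 1 + (1) * T.m 0 = 0 := by
                have f0 : T.a 0 1 = T.w 1 := by linarith
                have h : T.w 1 * ((-2) * T.m 1 + (1) * T.m 0) = 0 := by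
                  rw [f0, z12, z13] at r1
                  linarith
                rcases mul_eq_zero.mp h with h' | h'
                · exfalso; linarith
                · exact h'
              have hr2 : (-2) * T.m 2 + (1) * T.m 3 = 0 := by
                have f3 : T.a 2 3 = T.w 2 := by linarith
                have h : T.w 2 * ((-2) * T.m 2 + (1) * T.m 3) = 0 := by
                  rw [z02, z12, f3] at r2
                  linarith
                rcases mul_eq_zero.mp h with h' | h'
                · exfalso; linarith
                · exact h'
              have hr3 : (-2) * T.m 3 + (1) * T.m 0 + (1) * T.m 2 = 0 := by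
                have f0 : T.a 0 3 = T.w 3 := by linarith
                have f2 : T.a 2 3 = T.w 3 := by linarith
                have h : T.w 3 * ((-2) * T.m 3 + (1) * T.m 0 + (1) * T.m 2) = 0 := by
                  rw [f0, z13, f2] at r3
                  linarith
                rcases mul_eq_zero.mp h with h' | h'
                · exfalso; linarith
                · exact h'
              exfalso
              linarith
            · obtain ⟨ea23, eb23⟩ := e
              have hr0 : (-2) * T.m 0 + (2) * T.m 1 + (1) * T.m 3 = 0 := by
                have f1 : T.a 0 1 = 2 * T.w 0 := by linarith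
                have f3 : T.a 0 3 = T.w 0 := by linarith
                have h : T.w 0 * ((-2) * T.m 0 + (2) * T.m 1 + (1) * T.m 3) = 0 := by
                  rw [f1, z02, f3] at r0
                  linarith
                rcases mul_eq_zero.mp h with h' | h'
                · exfalso; linarith
                · exact h'
              have hr1 : (-2) * T.m 1 + (1) * T.m 0 = 0 := by
                have f0 : T.a 0 1 = T.w 1 := by linarith
                have h : T.w 1 * ((-2) * T.m 1 + (1) * T.m 0) = 0 := by
                  rw [f0, z12, z13] at r1
                  linarith
                rcases mul_eq_zero.mp h with h' | h'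
                · exfalso; linarith
                · exact h'
              have hr2 : (-2) * T.m 2 + (2) * T.m 3 = 0 := by
                have f3 : T.a 2 3 = 2 * T.w 2 := by linarith
                have h : T.w 2 * ((-2) * T.m 2 + (2) * T.m 3) = 0 := by
                  rw [z02, z12, f3] at r2
                  linarith
                rcases mul_eq_zero.mp h with h' | h'
                · exfalso; linarith
                · exact h'
              have hr3 : (-2) * T.m 3 + (1) * T.m 0 + (1) * T.m 2 = 0 := by
                have f0 : T.a 0 3 = T.w 3 := by linarith
                have f2 : T.a 2 3 = T.w 3 := by linarith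
                have h : T.w 3 * ((-2) * T.m 3 + (1) * T.m 0 + (1) * T.m 2) = 0 := by
                  rw [f0, z13, f2] at r3
                  linarith
                rcases mul_eq_zero.mp h with h' | h'
                · exfalso; linarith
                · exact h'
              have w0 : T.w 0 = 2 * T.w 2 := by linarith
              have w1 : T.w 1 = 4 * T.w 2 := by linarith
              have w3 : T.w 3 = 2 * T.w 2 := by linarith
              have a01 : T.a 0 1 = 4 * T.w 2 := by linarith
              have a03 : T.a 0 3 = 2 * T.w 2 := by linarith
              have a23 : T.a 2 3 = 2 * T.w 2 := by linarith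
              have m0 : T.m 0 = 2 * T.m 1 := by linarith
              have m2 : T.m 2 = 2 * T.m 1 := by linarith
              have m3 : T.m 3 = 2 * T.m 1 := by linarith
              refine ⟨Equiv.ofBijective ![2, 3, 0, 1] (by decide), T.m 1, T.w 2, ?_⟩
              simp only [Equiv.ofBijective_apply, Matrix.cons_val_zero, Matrix.cons_val_one, Matrix.cons_val]
              refine Or.inr (Or.inl ⟨?_, ?_, ?_, ?_, ?_, ?_, ?_, ?_, ?_, ?_, ?_, ?_, ?_, ?_, ?_, ?_, ?_, ?_⟩)
              all_goals first | rfl | trivial | linarith
            · obtain ⟨ea23, eb23⟩ := e
              have hr0 : (-2) * T.m 0 + (2) * T.m 1 + (1) * T.m 3 = 0 := by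
                have f1 : T.a 0 1 = 2 * T.w 0 := by linarith
                have f3 : T.a 0 3 = T.w 0 := by linarith
                have h : T.w 0 * ((-2) * T.m 0 + (2) * T.m 1 + (1) * T.m 3) = 0 := by
                  rw [f1, z02, f3] at r0
                  linarith
                rcases mul_eq_zero.mp h with h' | h'
                · exfalso; linarith
                · exact h'
              have hr1 : (-2) * T.m 1 + (1) * T.m 0 = 0 := by
                have f0 : T.a 0 1 = T.w 1 := by linarith
                have h : T.w 1 * ((-2) * T.m 1 + (1) * T.m 0) = 0 := by
                  rw [f0, z12, z13] at r1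
                  linarith
                rcases mul_eq_zero.mp h with h' | h'
                · exfalso; linarith
                · exact h'
              have hr2 : (-2) * T.m 2 + (1) * T.m 3 = 0 := by
                have f3 : T.a 2 3 = T.w 2 := by linarith
                have h : T.w 2 * ((-2) * T.m 2 + (1) * T.m 3) = 0 := by
                  rw [z02, z12, f3] at r2
                  linarith
                rcases mul_eq_zero.mp h with h' | h'
                · exfalso; linarith
                · exact h'
              have hr3 : (-2) * T.m 3 + (1) * T.m 0 + (2) * T.m 2 = 0 := by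
                have f0 : T.a 0 3 = T.w 3 := by linarith
                have f2 : T.a 2 3 = 2 * T.w 3 := by linarith
                have h : T.w 3 * ((-2) * T.m 3 + (1) * T.m 0 + (2) * T.m 2) = 0 := by
                  rw [f0, z13, f2] at r3
                  linarith
                rcases mul_eq_zero.mp h with h' | h'
                · exfalso; linarith
                · exact h'
              have w1 : T.w 1 = 2 * T.w 0 := by linarith
              have w2 : T.w 2 = 2 * T.w 0 := by linarith
              have w3 : T.w 3 = T.w 0 := by linarith
              have a01 : T.a 0 1 = 2 * T.w 0 := by linarith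
              have a03 : T.a 0 3 = T.w 0 := by linarith
              have a23 : T.a 2 3 = 2 * T.w 0 := by linarith
              have m0 : T.m 0 = 2 * T.m 1 := by linarith
              have m2 : T.m 2 = T.m 1 := by linarith
              have m3 : T.m 3 = 2 * T.m 1 := by linarith
              refine ⟨Equiv.ofBijective ![1, 0, 3, 2] (by decide), T.m 1, T.w 0, ?_⟩
              simp only [Equiv.ofBijective_apply, Matrix.cons_val_zero, Matrix.cons_val_one, Matrix.cons_val]
              refine Or.inr (Or.inr (Or.inr (Or.inl ⟨?_, ?_, ?_, ?_, ?_, ?_, ?_, ?_, ?_, ?_, ?_, ?_, ?_, ?_, ?_, ?_, ?_, ?_⟩)))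
              all_goals first | rfl | trivial | linarith
            · obtain ⟨ea23, eb23⟩ := e
              exfalso
              have t := Groth.Agent.Helper3.NumType.QT4 T h2 1 0 3 2 (by norm_num) (by norm_num)
              linarith
            · obtain ⟨ea23, eb23⟩ := e
              exfalso
              have t := Groth.Agent.Helper3.NumType.QT4 T h2 1 0 1 2 (by norm_num) (by norm_num)
              linarith
        · rcases Groth.Agent.Helper3.NumType.edge_casesT T h2 (by norm_num) (p := 1) (q := 3) (by decide) hp13 with e | e | e | e | e
          · obtain ⟨ea13, eb13⟩ := e
            exfalso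
            linarith
          · obtain ⟨ea13, eb13⟩ := e
            exfalso
            linarith
          · obtain ⟨ea13, eb13⟩ := e
            exfalso
            have t := Groth.Agent.Helper3.NumType.QT4 T h2 1 1 0 1 (by norm_num) (by norm_num)
            linarith
          · obtain ⟨ea13, eb13⟩ := e
            exfalso
            linarith
          · obtain ⟨ea13, eb13⟩ := e
            exfalso
            linarith
      · rcases Groth.Agent.Helper3.NumType.edge_casesT T h2 (by norm_num) (p := 1) (q := 2) (by decide) hp12 with e | e | e | e | e
        · obtain ⟨ea12, eb12⟩ := e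
          rcases eq_or_lt_of_le nn13 with z | hp13
          · have z13 : T.a 1 3 = 0 := z.symm
            rcases eq_or_lt_of_le nn23 with z | hp23
            · have z23 : T.a 2 3 = 0 := z.symm
              have hr0 : (-2) * T.m 0 + (2) * T.m 1 + (1) * T.m 3 = 0 := by
                have f1 : T.a 0 1 = 2 * T.w 0 := by linarith
                have f3 : T.a 0 3 = T.w 0 := by linarith
                have h : T.w 0 * ((-2) * T.m 0 + (2) * T.m 1 + (1) * T.m 3) = 0 := by
                  rw [f1, z02, f3] at r0
                  linarith
                rcases mul_eq_zero.mp h with h' | h'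
                · exfalso; linarith
                · exact h'
              have hr1 : (-2) * T.m 1 + (1) * T.m 0 + (1) * T.m 2 = 0 := by
                have f0 : T.a 0 1 = T.w 1 := by linarith
                have f2 : T.a 1 2 = T.w 1 := by linarith
                have h : T.w 1 * ((-2) * T.m 1 + (1) * T.m 0 + (1) * T.m 2) = 0 := by
                  rw [f0, f2, z13] at r1
                  linarith
                rcases mul_eq_zero.mp h with h' | h'
                · exfalso; linarith
                · exact h'
              have hr2 : (-2) * T.m 2 + (1) * T.m 1 = 0 := by
                have f1 : T.a 1 2 = T.w 2 := by linarith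
                have h : T.w 2 * ((-2) * T.m 2 + (1) * T.m 1) = 0 := by
                  rw [z02, f1, z23] at r2
                  linarith
                rcases mul_eq_zero.mp h with h' | h'
                · exfalso; linarith
                · exact h'
              have hr3 : (-2) * T.m 3 + (1) * T.m 0 = 0 := by
                have f0 : T.a 0 3 = T.w 3 := by linarith
                have h : T.w 3 * ((-2) * T.m 3 + (1) * T.m 0) = 0 := by
                  rw [f0, z13, z23] at r3
                  linarith
                rcases mul_eq_zero.mp h with h' | h'
                · exfalso; linarith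
                · exact h'
              exfalso
              linarith
            · rcases Groth.Agent.Helper3.NumType.edge_casesT T h2 (by norm_num) (p := 2) (q := 3) (by decide) hp23 with e | e | e | e | e
              · obtain ⟨ea23, eb23⟩ := e
                exfalso
                linarith
              · obtain ⟨ea23, eb23⟩ := e
                exfalso
                linarith
              · obtain ⟨ea23, eb23⟩ := e
                have hr0 : (-2) * T.m 0 + (2) * T.m 1 + (1) * T.m 3 = 0 := by
                  have f1 : T.a 0 1 = 2 * T.w 0 := by linarith
                  have f3 : T.a 0 3 = T.w 0 := by linarith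
                  have h : T.w 0 * ((-2) * T.m 0 + (2) * T.m 1 + (1) * T.m 3) = 0 := by
                    rw [f1, z02, f3] at r0
                    linarith
                  rcases mul_eq_zero.mp h with h' | h'
                  · exfalso; linarith
                  · exact h'
                have hr1 : (-2) * T.m 1 + (1) * T.m 0 + (1) * T.m 2 = 0 := by
                  have f0 : T.a 0 1 = T.w 1 := by linarith
                  have f2 : T.a 1 2 = T.w 1 := by linarith
                  have h : T.w 1 * ((-2) * T.m 1 + (1) * T.m 0 + (1) * T.m 2) = 0 := by
                    rw [f0, f2, z13] at r1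
                    linarith
                  rcases mul_eq_zero.mp h with h' | h'
                  · exfalso; linarith
                  · exact h'
                have hr2 : (-2) * T.m 2 + (1) * T.m 1 + (1) * T.m 3 = 0 := by
                  have f1 : T.a 1 2 = T.w 2 := by linarith
                  have f3 : T.a 2 3 = T.w 2 := by linarith
                  have h : T.w 2 * ((-2) * T.m 2 + (1) * T.m 1 + (1) * T.m 3) = 0 := by
                    rw [z02, f1, f3] at r2
                    linarith
                  rcases mul_eq_zero.mp h with h' | h'
                  · exfalso; linarith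
                  · exact h'
                have hr3 : (-2) * T.m 3 + (1) * T.m 0 + (2) * T.m 2 = 0 := by
                  have f0 : T.a 0 3 = T.w 3 := by linarith
                  have f2 : T.a 2 3 = 2 * T.w 3 := by linarith
                  have h : T.w 3 * ((-2) * T.m 3 + (1) * T.m 0 + (2) * T.m 2) = 0 := by
                    rw [f0, z13, f2] at r3
                    linarith
                  rcases mul_eq_zero.mp h with h' | h'
                  · exfalso; linarith
                  · exact h'
                exfalso
                linarith
              · obtain ⟨ea23, eb23⟩ := e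
                exfalso
                have t := Groth.Agent.Helper3.NumType.QT4 T h2 1 0 3 2 (by norm_num) (by norm_num)
                linarith
              · obtain ⟨ea23, eb23⟩ := e
                exfalso
                have t := Groth.Agent.Helper3.NumType.QT4 T h2 1 0 1 2 (by norm_num) (by norm_num)
                linarith
          · rcases Groth.Agent.Helper3.NumType.edge_casesT T h2 (by norm_num) (p := 1) (q := 3) (by decide) hp13 with e | e | e | e | e
            · obtain ⟨ea13, eb13⟩ := e
              exfalso
              linarith
            · obtain ⟨ea13, eb13⟩ := e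
              exfalso
              linarith
            · obtain ⟨ea13, eb13⟩ := e
              exfalso
              have t := Groth.Agent.Helper3.NumType.QT4 T h2 1 1 0 1 (by norm_num) (by norm_num)
              linarith
            · obtain ⟨ea13, eb13⟩ := e
              exfalso
              linarith
            · obtain ⟨ea13, eb13⟩ := e
              exfalso
              linarith
        · obtain ⟨ea12, eb12⟩ := e
          exfalso
          have t := Groth.Agent.Helper3.NumType.QT4 T h2 2 2 1 0 (by norm_num) (by norm_num)
          linarith
        · obtain ⟨ea12, eb12⟩ := e
          exfalso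
          have t := Groth.Agent.Helper3.NumType.QT4 T h2 1 1 1 0 (by norm_num) (by norm_num)
          linarith
        · obtain ⟨ea12, eb12⟩ := e
          exfalso
          have t := Groth.Agent.Helper3.NumType.QT4 T h2 1 2 1 0 (by norm_num) (by norm_num)
          linarith
        · obtain ⟨ea12, eb12⟩ := e
          exfalso
          have t := Groth.Agent.Helper3.NumType.QT4 T h2 1 1 1 0 (by norm_num) (by norm_num)
          linarith
    · obtain ⟨ea03, eb03⟩ := e
      exfalso
      have t := Groth.Agent.Helper3.NumType.QT4 T h2 2 1 0 1 (by norm_num) (by norm_num)
      linarith
    · obtain ⟨ea03, eb03⟩ := e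
      exfalso
      have t := Groth.Agent.Helper3.NumType.QT4 T h2 2 1 0 2 (by norm_num) (by norm_num)
      linarith
    · obtain ⟨ea03, eb03⟩ := e
      exfalso
      have t := Groth.Agent.Helper3.NumType.QT4 T h2 2 1 0 1 (by norm_num) (by norm_num)
      linarith
    · obtain ⟨ea03, eb03⟩ := e
      exfalso
      have t := Groth.Agent.Helper3.NumType.QT4 T h2 2 1 0 2 (by norm_num) (by norm_num)
      linarith

theorem g4_U2E (T : Models.NumericalType 4) (h2 : ∀ i, T.IsMinusTwo i) (hp01 : 0 < T.a 0 1) (ea01 : T.w 1 = 2 * T.w 0) (eb01 : T.a 0 1 = 2 * T.w 0) (hp02 : 0 < T.a 0 2) (ea02 : T.w 2 = T.w 0) (eb02 : T.a 0 2 = T.w 0) :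
    Goal4 T := by
  unfold Goal4
  have hw0 := T.w_pos 0
  have hm0 := T.m_pos 0
  have d0 := (h2 0).2
  have r0 := Groth.Agent.Helper3.NumType.RT4_0 T h2
  have hw1 := T.w_pos 1
  have hm1 := T.m_pos 1
  have d1 := (h2 1).2
  have r1 := Groth.Agent.Helper3.NumType.RT4_1 T h2
  have hw2 := T.w_pos 2
  have hm2 := T.m_pos 2
  have d2 := (h2 2).2
  have r2 := Groth.Agent.Helper3.NumType.RT4_2 T h2
  have hw3 := T.w_pos 3
  have hm3 := T.m_pos 3
  have d3 := (h2 3).2
  have r3 := Groth.Agent.Helper3.NumType.RT4_3 T h2
  have nn01 := T.offDiag_nonneg 0 1 (by decide)
  have s10 := Groth.Agent.Helper3.NumType.a_symm T 1 0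
  have nn02 := T.offDiag_nonneg 0 2 (by decide)
  have s20 := Groth.Agent.Helper3.NumType.a_symm T 2 0
  have nn03 := T.offDiag_nonneg 0 3 (by decide)
  have s30 := Groth.Agent.Helper3.NumType.a_symm T 3 0
  have nn12 := T.offDiag_nonneg 1 2 (by decide)
  have s21 := Groth.Agent.Helper3.NumType.a_symm T 2 1
  have nn13 := T.offDiag_nonneg 1 3 (by decide)
  have s31 := Groth.Agent.Helper3.NumType.a_symm T 3 1
  have nn23 := T.offDiag_nonneg 2 3 (by decide)
  have s32 := Groth.Agent.Helper3.NumType.a_symm T 3 2
  rcases eq_or_lt_of_le nn03 with z | hp03
  · have z03 : T.a 0 3 = 0 := z.symm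
    rcases eq_or_lt_of_le nn12 with z | hp12
    · have z12 : T.a 1 2 = 0 := z.symm
      rcases eq_or_lt_of_le nn13 with z | hp13
      · have z13 : T.a 1 3 = 0 := z.symm
        rcases eq_or_lt_of_le nn23 with z | hp23
        · have z23 : T.a 2 3 = 0 := z.symm
          exfalso
          obtain ⟨i, hi, j, hj, hij⟩ := T.connected ({0, 1, 2} : Finset (Fin 4)) (by decide) (by decide)
          fin_cases i <;> fin_cases j <;> first | exact absurd hi (by decide) | exact hj (by decide) | (apply hij; first | exact z03 | exact z13 | exact z23)
        · rcases Groth.Agent.Helper3.NumType.edge_casesT T h2 (by norm_num) (p := 2) (q := 3) (by decide) hp23 with e | e | e | e | e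
          · obtain ⟨ea23, eb23⟩ := e
            have hr0 : (-2) * T.m 0 + (2) * T.m 1 + (1) * T.m 2 = 0 := by
              have f1 : T.a 0 1 = 2 * T.w 0 := by linarith
              have f2 : T.a 0 2 = T.w 0 := by linarith
              have h : T.w 0 * ((-2) * T.m 0 + (2) * T.m 1 + (1) * T.m 2) = 0 := by
                rw [f1, f2, z03] at r0
                linarith
              rcases mul_eq_zero.mp h with h' | h'
              · exfalso; linarith
              · exact h'
            have hr1 : (-2) * T.m 1 + (1) * T.m 0 = 0 := by
              have f0 : T.a 0 1 = T.w 1 := by linarith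
              have h : T.w 1 * ((-2) * T.m 1 + (1) * T.m 0) = 0 := by
                rw [f0, z12, z13] at r1
                linarith
              rcases mul_eq_zero.mp h with h' | h'
              · exfalso; linarith
              · exact h'
            have hr2 : (-2) * T.m 2 + (1) * T.m 0 + (1) * T.m 3 = 0 := by
              have f0 : T.a 0 2 = T.w 2 := by linarith
              have f3 : T.a 2 3 = T.w 2 := by linarith
              have h : T.w 2 * ((-2) * T.m 2 + (1) * T.m 0 + (1) * T.m 3) = 0 := by
                rw [f0, z12, f3] at r2
                linarith
              rcases mul_eq_zero.mp h with h' | h'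
              · exfalso; linarith
              · exact h'
            have hr3 : (-2) * T.m 3 + (1) * T.m 2 = 0 := by
              have f2 : T.a 2 3 = T.w 3 := by linarith
              have h : T.w 3 * ((-2) * T.m 3 + (1) * T.m 2) = 0 := by
                rw [z03, z13, f2] at r3
                linarith
              rcases mul_eq_zero.mp h with h' | h'
              · exfalso; linarith
              · exact h'
            exfalso
            linarith
          · obtain ⟨ea23, eb23⟩ := e
            have hr0 : (-2) * T.m 0 + (2) * T.m 1 + (1) * T.m 2 = 0 := by
              have f1 : T.a 0 1 = 2 * T.w 0 := by linarith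
              have f2 : T.a 0 2 = T.w 0 := by linarith
              have h : T.w 0 * ((-2) * T.m 0 + (2) * T.m 1 + (1) * T.m 2) = 0 := by
                rw [f1, f2, z03] at r0
                linarith
              rcases mul_eq_zero.mp h with h' | h'
              · exfalso; linarith
              · exact h'
            have hr1 : (-2) * T.m 1 + (1) * T.m 0 = 0 := by
              have f0 : T.a 0 1 = T.w 1 := by linarith
              have h : T.w 1 * ((-2) * T.m 1 + (1) * T.m 0) = 0 := by
                rw [f0, z12, z13] at r1
                linarith
              rcases mul_eq_zero.mp h with h' | h'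
              · exfalso; linarith
              · exact h'
            have hr2 : (-2) * T.m 2 + (1) * T.m 0 + (2) * T.m 3 = 0 := by
              have f0 : T.a 0 2 = T.w 2 := by linarith
              have f3 : T.a 2 3 = 2 * T.w 2 := by linarith
              have h : T.w 2 * ((-2) * T.m 2 + (1) * T.m 0 + (2) * T.m 3) = 0 := by
                rw [f0, z12, f3] at r2
                linarith
              rcases mul_eq_zero.mp h with h' | h'
              · exfalso; linarith
              · exact h'
            have hr3 : (-2) * T.m 3 + (1) * T.m 2 = 0 := by
              have f2 : T.a 2 3 = T.w 3 := by linarith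
              have h : T.w 3 * ((-2) * T.m 3 + (1) * T.m 2) = 0 := by
                rw [z03, z13, f2] at r3
                linarith
              rcases mul_eq_zero.mp h with h' | h'
              · exfalso; linarith
              · exact h'
            have w1 : T.w 1 = 2 * T.w 0 := by linarith
            have w2 : T.w 2 = T.w 0 := by linarith
            have w3 : T.w 3 = 2 * T.w 0 := by linarith
            have a01 : T.a 0 1 = 2 * T.w 0 := by linarith
            have a02 : T.a 0 2 = T.w 0 := by linarith
            have a23 : T.a 2 3 = 2 * T.w 0 := by linarith
            have m0 : T.m 0 = 2 * T.m 1 := by linarith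
            have m2 : T.m 2 = 2 * T.m 1 := by linarith
            have m3 : T.m 3 = T.m 1 := by linarith
            refine ⟨Equiv.ofBijective ![1, 0, 2, 3] (by decide), T.m 1, T.w 0, ?_⟩
            simp only [Equiv.ofBijective_apply, Matrix.cons_val_zero, Matrix.cons_val_one, Matrix.cons_val]
            refine Or.inr (Or.inr (Or.inr (Or.inl ⟨?_, ?_, ?_, ?_, ?_, ?_, ?_, ?_, ?_, ?_, ?_, ?_, ?_, ?_, ?_, ?_, ?_, ?_⟩)))
            all_goals first | rfl | trivial | linarith
          · obtain ⟨ea23, eb23⟩ := e
            have hr0 : (-2) * T.m 0 + (2) * T.m 1 + (1) * T.m 2 = 0 := by
              have f1 : T.a 0 1 = 2 * T.w 0 := by linarith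
              have f2 : T.a 0 2 = T.w 0 := by linarith
              have h : T.w 0 * ((-2) * T.m 0 + (2) * T.m 1 + (1) * T.m 2) = 0 := by
                rw [f1, f2, z03] at r0
                linarith
              rcases mul_eq_zero.mp h with h' | h'
              · exfalso; linarith
              · exact h'
            have hr1 : (-2) * T.m 1 + (1) * T.m 0 = 0 := by
              have f0 : T.a 0 1 = T.w 1 := by linarith
              have h : T.w 1 * ((-2) * T.m 1 + (1) * T.m 0) = 0 := by
                rw [f0, z12, z13] at r1
                linarith
              rcases mul_eq_zero.mp h with h' | h'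
              · exfalso; linarith
              · exact h'
            have hr2 : (-2) * T.m 2 + (1) * T.m 0 + (1) * T.m 3 = 0 := by
              have f0 : T.a 0 2 = T.w 2 := by linarith
              have f3 : T.a 2 3 = T.w 2 := by linarith
              have h : T.w 2 * ((-2) * T.m 2 + (1) * T.m 0 + (1) * T.m 3) = 0 := by
                rw [f0, z12, f3] at r2
                linarith
              rcases mul_eq_zero.mp h with h' | h'
              · exfalso; linarith
              · exact h'
            have hr3 : (-2) * T.m 3 + (2) * T.m 2 = 0 := by
              have f2 : T.a 2 3 = 2 * T.w 3 := by linarith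
              have h : T.w 3 * ((-2) * T.m 3 + (2) * T.m 2) = 0 := by
                rw [z03, z13, f2] at r3
                linarith
              rcases mul_eq_zero.mp h with h' | h'
              · exfalso; linarith
              · exact h'
            have w0 : T.w 0 = 2 * T.w 3 := by linarith
            have w1 : T.w 1 = 4 * T.w 3 := by linarith
            have w2 : T.w 2 = 2 * T.w 3 := by linarith
            have a01 : T.a 0 1 = 4 * T.w 3 := by linarith
            have a02 : T.a 0 2 = 2 * T.w 3 := by linarith
            have a23 : T.a 2 3 = 2 * T.w 3 := by linarith
            have m0 : T.m 0 = 2 * T.m 1 := by linarith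
            have m2 : T.m 2 = 2 * T.m 1 := by linarith
            have m3 : T.m 3 = 2 * T.m 1 := by linarith
            refine ⟨Equiv.ofBijective ![3, 2, 0, 1] (by decide), T.m 1, T.w 3, ?_⟩
            simp only [Equiv.ofBijective_apply, Matrix.cons_val_zero, Matrix.cons_val_one, Matrix.cons_val]
            refine Or.inr (Or.inl ⟨?_, ?_, ?_, ?_, ?_, ?_, ?_, ?_, ?_, ?_, ?_, ?_, ?_, ?_, ?_, ?_, ?_, ?_⟩)
            all_goals first | rfl | trivial | linarith
          · obtain ⟨ea23, eb23⟩ := e
            exfalso
            have t := Groth.Agent.Helper3.NumType.QT4 T h2 1 0 2 1 (by norm_num) (by norm_num)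
            linarith
          · obtain ⟨ea23, eb23⟩ := e
            exfalso
            have t := Groth.Agent.Helper3.NumType.QT4 T h2 1 0 2 3 (by norm_num) (by norm_num)
            linarith
      · rcases Groth.Agent.Helper3.NumType.edge_casesT T h2 (by norm_num) (p := 1) (q := 3) (by decide) hp13 with e | e | e | e | e
        · obtain ⟨ea13, eb13⟩ := e
          rcases eq_or_lt_of_le nn23 with z | hp23
          · have z23 : T.a 2 3 = 0 := z.symm
            have hr0 : (-2) * T.m 0 + (2) * T.m 1 + (1) * T.m 2 = 0 := by
              have f1 : T.a 0 1 = 2 * T.w 0 := by linarith
              have f2 : T.a 0 2 = T.w 0 := by linarith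
              have h : T.w 0 * ((-2) * T.m 0 + (2) * T.m 1 + (1) * T.m 2) = 0 := by
                rw [f1, f2, z03] at r0
                linarith
              rcases mul_eq_zero.mp h with h' | h'
              · exfalso; linarith
              · exact h'
            have hr1 : (-2) * T.m 1 + (1) * T.m 0 + (1) * T.m 3 = 0 := by
              have f0 : T.a 0 1 = T.w 1 := by linarith
              have f3 : T.a 1 3 = T.w 1 := by linarith
              have h : T.w 1 * ((-2) * T.m 1 + (1) * T.m 0 + (1) * T.m 3) = 0 := by
                rw [f0, z12, f3] at r1
                linarith
              rcases mul_eq_zero.mp h with h' | h'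
              · exfalso; linarith
              · exact h'
            have hr2 : (-2) * T.m 2 + (1) * T.m 0 = 0 := by
              have f0 : T.a 0 2 = T.w 2 := by linarith
              have h : T.w 2 * ((-2) * T.m 2 + (1) * T.m 0) = 0 := by
                rw [f0, z12, z23] at r2
                linarith
              rcases mul_eq_zero.mp h with h' | h'
              · exfalso; linarith
              · exact h'
            have hr3 : (-2) * T.m 3 + (1) * T.m 1 = 0 := by
              have f1 : T.a 1 3 = T.w 3 := by linarith
              have h : T.w 3 * ((-2) * T.m 3 + (1) * T.m 1) = 0 := by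
                rw [z03, f1, z23] at r3
                linarith
              rcases mul_eq_zero.mp h with h' | h'
              · exfalso; linarith
              · exact h'
            exfalso
            linarith
          · rcases Groth.Agent.Helper3.NumType.edge_casesT T h2 (by norm_num) (p := 2) (q := 3) (by decide) hp23 with e | e | e | e | e
            · obtain ⟨ea23, eb23⟩ := e
              exfalso
              linarith
            · obtain ⟨ea23, eb23⟩ := e
              have hr0 : (-2) * T.m 0 + (2) * T.m 1 + (1) * T.m 2 = 0 := by
                have f1 : T.a 0 1 = 2 * T.w 0 := by linarith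
                have f2 : T.a 0 2 = T.w 0 := by linarith
                have h : T.w 0 * ((-2) * T.m 0 + (2) * T.m 1 + (1) * T.m 2) = 0 := by
                  rw [f1, f2, z03] at r0
                  linarith
                rcases mul_eq_zero.mp h with h' | h'
                · exfalso; linarith
                · exact h'
              have hr1 : (-2) * T.m 1 + (1) * T.m 0 + (1) * T.m 3 = 0 := by
                have f0 : T.a 0 1 = T.w 1 := by linarith
                have f3 : T.a 1 3 = T.w 1 := by linarith
                have h : T.w 1 * ((-2) * T.m 1 + (1) * T.m 0 + (1) * T.m 3) = 0 := by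
                  rw [f0, z12, f3] at r1
                  linarith
                rcases mul_eq_zero.mp h with h' | h'
                · exfalso; linarith
                · exact h'
              have hr2 : (-2) * T.m 2 + (1) * T.m 0 + (2) * T.m 3 = 0 := by
                have f0 : T.a 0 2 = T.w 2 := by linarith
                have f3 : T.a 2 3 = 2 * T.w 2 := by linarith
                have h : T.w 2 * ((-2) * T.m 2 + (1) * T.m 0 + (2) * T.m 3) = 0 := by
                  rw [f0, z12, f3] at r2
                  linarith
                rcases mul_eq_zero.mp h with h' | h'
                · exfalso; linarith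
                · exact h'
              have hr3 : (-2) * T.m 3 + (1) * T.m 1 + (1) * T.m 2 = 0 := by
                have f1 : T.a 1 3 = T.w 3 := by linarith
                have f2 : T.a 2 3 = T.w 3 := by linarith
                have h : T.w 3 * ((-2) * T.m 3 + (1) * T.m 1 + (1) * T.m 2) = 0 := by
                  rw [z03, f1, f2] at r3
                  linarith
                rcases mul_eq_zero.mp h with h' | h'
                · exfalso; linarith
                · exact h'
              exfalso
              linarith
            · obtain ⟨ea23, eb23⟩ := e
              exfalso
              linarith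
            · obtain ⟨ea23, eb23⟩ := e
              exfalso
              have t := Groth.Agent.Helper3.NumType.QT4 T h2 1 0 2 1 (by norm_num) (by norm_num)
              linarith
            · obtain ⟨ea23, eb23⟩ := e
              exfalso
              have t := Groth.Agent.Helper3.NumType.QT4 T h2 1 0 2 3 (by norm_num) (by norm_num)
              linarith
        · obtain ⟨ea13, eb13⟩ := e
          exfalso
          have t := Groth.Agent.Helper3.NumType.QT4 T h2 2 2 0 1 (by norm_num) (by norm_num)
          linarith
        · obtain ⟨ea13, eb13⟩ := e
          exfalso
          have t := Groth.Agent.Helper3.NumType.QT4 T h2 1 1 0 1 (by norm_num) (by norm_num)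
          linarith
        · obtain ⟨ea13, eb13⟩ := e
          exfalso
          have t := Groth.Agent.Helper3.NumType.QT4 T h2 1 2 0 1 (by norm_num) (by norm_num)
          linarith
        · obtain ⟨ea13, eb13⟩ := e
          exfalso
          have t := Groth.Agent.Helper3.NumType.QT4 T h2 1 1 0 1 (by norm_num) (by norm_num)
          linarith
    · rcases Groth.Agent.Helper3.NumType.edge_casesT T h2 (by norm_num) (p := 1) (q := 2) (by decide) hp12 with e | e | e | e | e
      · obtain ⟨ea12, eb12⟩ := e
        exfalso
        linarith
      · obtain ⟨ea12, eb12⟩ := e
        exfalso
        linarith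
      · obtain ⟨ea12, eb12⟩ := e
        exfalso
        have t := Groth.Agent.Helper3.NumType.QT4 T h2 1 1 1 0 (by norm_num) (by norm_num)
        linarith
      · obtain ⟨ea12, eb12⟩ := e
        exfalso
        linarith
      · obtain ⟨ea12, eb12⟩ := e
        exfalso
        linarith
  · rcases Groth.Agent.Helper3.NumType.edge_casesT T h2 (by norm_num) (p := 0) (q := 3) (by decide) hp03 with e | e | e | e | e
    · obtain ⟨ea03, eb03⟩ := e
      rcases eq_or_lt_of_le nn12 with z | hp12
      · have z12 : T.a 1 2 = 0 := z.symm
        rcases eq_or_lt_of_le nn13 with z | hp13
        · have z13 : T.a 1 3 = 0 := z.symm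
          rcases eq_or_lt_of_le nn23 with z | hp23
          · have z23 : T.a 2 3 = 0 := z.symm
            have hr0 : (-2) * T.m 0 + (2) * T.m 1 + (1) * T.m 2 + (1) * T.m 3 = 0 := by
              have f1 : T.a 0 1 = 2 * T.w 0 := by linarith
              have f2 : T.a 0 2 = T.w 0 := by linarith
              have f3 : T.a 0 3 = T.w 0 := by linarith
              have h : T.w 0 * ((-2) * T.m 0 + (2) * T.m 1 + (1) * T.m 2 + (1) * T.m 3) = 0 := by
                rw [f1, f2, f3] at r0
                linarith
              rcases mul_eq_zero.mp h with h' | h'
              · exfalso; linarith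
              · exact h'
            have hr1 : (-2) * T.m 1 + (1) * T.m 0 = 0 := by
              have f0 : T.a 0 1 = T.w 1 := by linarith
              have h : T.w 1 * ((-2) * T.m 1 + (1) * T.m 0) = 0 := by
                rw [f0, z12, z13] at r1
                linarith
              rcases mul_eq_zero.mp h with h' | h'
              · exfalso; linarith
              · exact h'
            have hr2 : (-2) * T.m 2 + (1) * T.m 0 = 0 := by
              have f0 : T.a 0 2 = T.w 2 := by linarith
              have h : T.w 2 * ((-2) * T.m 2 + (1) * T.m 0) = 0 := by
                rw [f0, z12, z23] at r2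
                linarith
              rcases mul_eq_zero.mp h with h' | h'
              · exfalso; linarith
              · exact h'
            have hr3 : (-2) * T.m 3 + (1) * T.m 0 = 0 := by
              have f0 : T.a 0 3 = T.w 3 := by linarith
              have h : T.w 3 * ((-2) * T.m 3 + (1) * T.m 0) = 0 := by
                rw [f0, z13, z23] at r3
                linarith
              rcases mul_eq_zero.mp h with h' | h'
              · exfalso; linarith
              · exact h'
            have w1 : T.w 1 = 2 * T.w 0 := by linarith
            have w2 : T.w 2 = T.w 0 := by linarith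
            have w3 : T.w 3 = T.w 0 := by linarith
            have a01 : T.a 0 1 = 2 * T.w 0 := by linarith
            have a02 : T.a 0 2 = T.w 0 := by linarith
            have a03 : T.a 0 3 = T.w 0 := by linarith
            have m0 : T.m 0 = 2 * T.m 2 := by linarith
            have m1 : T.m 1 = T.m 2 := by linarith
            have m3 : T.m 3 = T.m 2 := by linarith
            refine ⟨Equiv.ofBijective ![0, 2, 3, 1] (by decide), T.m 2, T.w 0, ?_⟩
            simp only [Equiv.ofBijective_apply, Matrix.cons_val_zero, Matrix.cons_val_one, Matrix.cons_val]
            refine Or.inr (Or.inr (Or.inr (Or.inr (Or.inl ⟨?_, ?_, ?_, ?_, ?_, ?_, ?_, ?_, ?_, ?_, ?_, ?_, ?_, ?_, ?_, ?_, ?_, ?_⟩))))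
            all_goals first | rfl | trivial | linarith
          · rcases Groth.Agent.Helper3.NumType.edge_casesT T h2 (by norm_num) (p := 2) (q := 3) (by decide) hp23 with e | e | e | e | e
            · obtain ⟨ea23, eb23⟩ := e
              exfalso
              have t := Groth.Agent.Helper3.NumType.QT4 T h2 1 0 1 1 (by norm_num) (by norm_num)
              linarith
            · obtain ⟨ea23, eb23⟩ := e
              exfalso
              linarith
            · obtain ⟨ea23, eb23⟩ := e
              exfalso
              linarith
            · obtain ⟨ea23, eb23⟩ := e
              exfalso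
              linarith
            · obtain ⟨ea23, eb23⟩ := e
              exfalso
              linarith
        · rcases Groth.Agent.Helper3.NumType.edge_casesT T h2 (by norm_num) (p := 1) (q := 3) (by decide) hp13 with e | e | e | e | e
          · obtain ⟨ea13, eb13⟩ := e
            exfalso
            linarith
          · obtain ⟨ea13, eb13⟩ := e
            exfalso
            linarith
          · obtain ⟨ea13, eb13⟩ := e
            exfalso
            have t := Groth.Agent.Helper3.NumType.QT4 T h2 1 1 0 1 (by norm_num) (by norm_num)
            linarith
          · obtain ⟨ea13, eb13⟩ := e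
            exfalso
            linarith
          · obtain ⟨ea13, eb13⟩ := e
            exfalso
            linarith
      · rcases Groth.Agent.Helper3.NumType.edge_casesT T h2 (by norm_num) (p := 1) (q := 2) (by decide) hp12 with e | e | e | e | e
        · obtain ⟨ea12, eb12⟩ := e
          exfalso
          linarith
        · obtain ⟨ea12, eb12⟩ := e
          exfalso
          linarith
        · obtain ⟨ea12, eb12⟩ := e
          exfalso
          have t := Groth.Agent.Helper3.NumType.QT4 T h2 1 1 1 0 (by norm_num) (by norm_num)
          linarith
        · obtain ⟨ea12, eb12⟩ := e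
          exfalso
          linarith
        · obtain ⟨ea12, eb12⟩ := e
          exfalso
          linarith
    · obtain ⟨ea03, eb03⟩ := e
      exfalso
      have t := Groth.Agent.Helper3.NumType.QT4 T h2 2 1 0 1 (by norm_num) (by norm_num)
      linarith
    · obtain ⟨ea03, eb03⟩ := e
      exfalso
      have t := Groth.Agent.Helper3.NumType.QT4 T h2 2 1 0 2 (by norm_num) (by norm_num)
      linarith
    · obtain ⟨ea03, eb03⟩ := e
      exfalso
      have t := Groth.Agent.Helper3.NumType.QT4 T h2 2 1 0 1 (by norm_num) (by norm_num)
      linarith
    · obtain ⟨ea03, eb03⟩ := e
      exfalso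
      have t := Groth.Agent.Helper3.NumType.QT4 T h2 2 1 0 2 (by norm_num) (by norm_num)
      linarith

theorem g4_D2Z (T : Models.NumericalType 4) (h2 : ∀ i, T.IsMinusTwo i) (hp01 : 0 < T.a 0 1) (ea01 : T.w 0 = 2 * T.w 1) (eb01 : T.a 0 1 = 2 * T.w 1) (z02 : T.a 0 2 = 0) :
    Goal4 T := by
  unfold Goal4
  have hw0 := T.w_pos 0
  have hm0 := T.m_pos 0
  have d0 := (h2 0).2
  have r0 := Groth.Agent.Helper3.NumType.RT4_0 T h2
  have hw1 := T.w_pos 1
  have hm1 := T.m_pos 1
  have d1 := (h2 1).2
  have r1 := Groth.Agent.Helper3.NumType.RT4_1 T h2
  have hw2 := T.w_pos 2
  have hm2 := T.m_pos 2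
  have d2 := (h2 2).2
  have r2 := Groth.Agent.Helper3.NumType.RT4_2 T h2
  have hw3 := T.w_pos 3
  have hm3 := T.m_pos 3
  have d3 := (h2 3).2
  have r3 := Groth.Agent.Helper3.NumType.RT4_3 T h2
  have nn01 := T.offDiag_nonneg 0 1 (by decide)
  have s10 := Groth.Agent.Helper3.NumType.a_symm T 1 0
  have nn02 := T.offDiag_nonneg 0 2 (by decide)
  have s20 := Groth.Agent.Helper3.NumType.a_symm T 2 0
  have nn03 := T.offDiag_nonneg 0 3 (by decide)
  have s30 := Groth.Agent.Helper3.NumType.a_symm T 3 0
  have nn12 := T.offDiag_nonneg 1 2 (by decide)
  have s21 := Groth.Agent.Helper3.NumType.a_symm T 2 1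
  have nn13 := T.offDiag_nonneg 1 3 (by decide)
  have s31 := Groth.Agent.Helper3.NumType.a_symm T 3 1
  have nn23 := T.offDiag_nonneg 2 3 (by decide)
  have s32 := Groth.Agent.Helper3.NumType.a_symm T 3 2
  rcases eq_or_lt_of_le nn03 with z | hp03
  · have z03 : T.a 0 3 = 0 := z.symm
    rcases eq_or_lt_of_le nn12 with z | hp12
    · have z12 : T.a 1 2 = 0 := z.symm
      rcases eq_or_lt_of_le nn13 with z | hp13
      · have z13 : T.a 1 3 = 0 := z.symm
        exfalso
        obtain ⟨i, hi, j, hj, hij⟩ := T.connected ({0, 1} : Finset (Fin 4)) (by decide) (by decide)
        fin_cases i <;> fin_cases j <;> first | exact absurd hi (by decide) | exact hj (by decide) | (apply hij; first | exact z02 | exact z03 | exact z12 | exact z13)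
      · rcases Groth.Agent.Helper3.NumType.edge_casesT T h2 (by norm_num) (p := 1) (q := 3) (by decide) hp13 with e | e | e | e | e
        · obtain ⟨ea13, eb13⟩ := e
          rcases eq_or_lt_of_le nn23 with z | hp23
          · have z23 : T.a 2 3 = 0 := z.symm
            exfalso
            obtain ⟨i, hi, j, hj, hij⟩ := T.connected ({0, 1, 3} : Finset (Fin 4)) (by decide) (by decide)
            fin_cases i <;> fin_cases j <;> first | exact absurd hi (by decide) | exact hj (by decide) | (apply hij; first | exact z02 | exact z12 | exact s32.trans z23)
          · rcases Groth.Agent.Helper3.NumType.edge_casesT T h2 (by norm_num) (p := 2) (q := 3) (by decide) hp23 with e | e | e | e | e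
            · obtain ⟨ea23, eb23⟩ := e
              have hr0 : (-2) * T.m 0 + (1) * T.m 1 = 0 := by
                have f1 : T.a 0 1 = T.w 0 := by linarith
                have h : T.w 0 * ((-2) * T.m 0 + (1) * T.m 1) = 0 := by
                  rw [f1, z02, z03] at r0
                  linarith
                rcases mul_eq_zero.mp h with h' | h'
                · exfalso; linarith
                · exact h'
              have hr1 : (-2) * T.m 1 + (2) * T.m 0 + (1) * T.m 3 = 0 := by
                have f0 : T.a 0 1 = 2 * T.w 1 := by linarith
                have f3 : T.a 1 3 = T.w 1 := by linarith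
                have h : T.w 1 * ((-2) * T.m 1 + (2) * T.m 0 + (1) * T.m 3) = 0 := by
                  rw [f0, z12, f3] at r1
                  linarith
                rcases mul_eq_zero.mp h with h' | h'
                · exfalso; linarith
                · exact h'
              have hr2 : (-2) * T.m 2 + (1) * T.m 3 = 0 := by
                have f3 : T.a 2 3 = T.w 2 := by linarith
                have h : T.w 2 * ((-2) * T.m 2 + (1) * T.m 3) = 0 := by
                  rw [z02, z12, f3] at r2
                  linarith
                rcases mul_eq_zero.mp h with h' | h'
                · exfalso; linarith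
                · exact h'
              have hr3 : (-2) * T.m 3 + (1) * T.m 1 + (1) * T.m 2 = 0 := by
                have f1 : T.a 1 3 = T.w 3 := by linarith
                have f2 : T.a 2 3 = T.w 3 := by linarith
                have h : T.w 3 * ((-2) * T.m 3 + (1) * T.m 1 + (1) * T.m 2) = 0 := by
                  rw [z03, f1, f2] at r3
                  linarith
                rcases mul_eq_zero.mp h with h' | h'
                · exfalso; linarith
                · exact h'
              exfalso
              linarith
            · obtain ⟨ea23, eb23⟩ := e
              have hr0 : (-2) * T.m 0 + (1) * T.m 1 = 0 := by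
                have f1 : T.a 0 1 = T.w 0 := by linarith
                have h : T.w 0 * ((-2) * T.m 0 + (1) * T.m 1) = 0 := by
                  rw [f1, z02, z03] at r0
                  linarith
                rcases mul_eq_zero.mp h with h' | h'
                · exfalso; linarith
                · exact h'
              have hr1 : (-2) * T.m 1 + (2) * T.m 0 + (1) * T.m 3 = 0 := by
                have f0 : T.a 0 1 = 2 * T.w 1 := by linarith
                have f3 : T.a 1 3 = T.w 1 := by linarith
                have h : T.w 1 * ((-2) * T.m 1 + (2) * T.m 0 + (1) * T.m 3) = 0 := by
                  rw [f0, z12, f3] at r1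
                  linarith
                rcases mul_eq_zero.mp h with h' | h'
                · exfalso; linarith
                · exact h'
              have hr2 : (-2) * T.m 2 + (2) * T.m 3 = 0 := by
                have f3 : T.a 2 3 = 2 * T.w 2 := by linarith
                have h : T.w 2 * ((-2) * T.m 2 + (2) * T.m 3) = 0 := by
                  rw [z02, z12, f3] at r2
                  linarith
                rcases mul_eq_zero.mp h with h' | h'
                · exfalso; linarith
                · exact h'
              have hr3 : (-2) * T.m 3 + (1) * T.m 1 + (1) * T.m 2 = 0 := by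
                have f1 : T.a 1 3 = T.w 3 := by linarith
                have f2 : T.a 2 3 = T.w 3 := by linarith
                have h : T.w 3 * ((-2) * T.m 3 + (1) * T.m 1 + (1) * T.m 2) = 0 := by
                  rw [z03, f1, f2] at r3
                  linarith
                rcases mul_eq_zero.mp h with h' | h'
                · exfalso; linarith
                · exact h'
              have w0 : T.w 0 = 4 * T.w 2 := by linarith
              have w1 : T.w 1 = 2 * T.w 2 := by linarith
              have w3 : T.w 3 = 2 * T.w 2 := by linarith
              have a01 : T.a 0 1 = 4 * T.w 2 := by linarith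
              have a13 : T.a 1 3 = 2 * T.w 2 := by linarith
              have a23 : T.a 2 3 = 2 * T.w 2 := by linarith
              have m1 : T.m 1 = 2 * T.m 0 := by linarith
              have m2 : T.m 2 = 2 * T.m 0 := by linarith
              have m3 : T.m 3 = 2 * T.m 0 := by linarith
              refine ⟨Equiv.ofBijective ![2, 3, 1, 0] (by decide), T.m 0, T.w 2, ?_⟩
              simp only [Equiv.ofBijective_apply, Matrix.cons_val_zero, Matrix.cons_val_one, Matrix.cons_val]
              refine Or.inr (Or.inl ⟨?_, ?_, ?_, ?_, ?_, ?_, ?_, ?_, ?_, ?_, ?_, ?_, ?_, ?_, ?_, ?_, ?_, ?_⟩)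
              all_goals first | rfl | trivial | linarith
            · obtain ⟨ea23, eb23⟩ := e
              have hr0 : (-2) * T.m 0 + (1) * T.m 1 = 0 := by
                have f1 : T.a 0 1 = T.w 0 := by linarith
                have h : T.w 0 * ((-2) * T.m 0 + (1) * T.m 1) = 0 := by
                  rw [f1, z02, z03] at r0
                  linarith
                rcases mul_eq_zero.mp h with h' | h'
                · exfalso; linarith
                · exact h'
              have hr1 : (-2) * T.m 1 + (2) * T.m 0 + (1) * T.m 3 = 0 := by
                have f0 : T.a 0 1 = 2 * T.w 1 := by linarith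
                have f3 : T.a 1 3 = T.w 1 := by linarith
                have h : T.w 1 * ((-2) * T.m 1 + (2) * T.m 0 + (1) * T.m 3) = 0 := by
                  rw [f0, z12, f3] at r1
                  linarith
                rcases mul_eq_zero.mp h with h' | h'
                · exfalso; linarith
                · exact h'
              have hr2 : (-2) * T.m 2 + (1) * T.m 3 = 0 := by
                have f3 : T.a 2 3 = T.w 2 := by linarith
                have h : T.w 2 * ((-2) * T.m 2 + (1) * T.m 3) = 0 := by
                  rw [z02, z12, f3] at r2
                  linarith
                rcases mul_eq_zero.mp h with h' | h'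
                · exfalso; linarith
                · exact h'
              have hr3 : (-2) * T.m 3 + (1) * T.m 1 + (2) * T.m 2 = 0 := by
                have f1 : T.a 1 3 = T.w 3 := by linarith
                have f2 : T.a 2 3 = 2 * T.w 3 := by linarith
                have h : T.w 3 * ((-2) * T.m 3 + (1) * T.m 1 + (2) * T.m 2) = 0 := by
                  rw [z03, f1, f2] at r3
                  linarith
                rcases mul_eq_zero.mp h with h' | h'
                · exfalso; linarith
                · exact h'
              have w0 : T.w 0 = 2 * T.w 1 := by linarith
              have w2 : T.w 2 = 2 * T.w 1 := by linarith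
              have w3 : T.w 3 = T.w 1 := by linarith
              have a01 : T.a 0 1 = 2 * T.w 1 := by linarith
              have a13 : T.a 1 3 = T.w 1 := by linarith
              have a23 : T.a 2 3 = 2 * T.w 1 := by linarith
              have m1 : T.m 1 = 2 * T.m 0 := by linarith
              have m2 : T.m 2 = T.m 0 := by linarith
              have m3 : T.m 3 = 2 * T.m 0 := by linarith
              refine ⟨Equiv.ofBijective ![0, 1, 3, 2] (by decide), T.m 0, T.w 1, ?_⟩
              simp only [Equiv.ofBijective_apply, Matrix.cons_val_zero, Matrix.cons_val_one, Matrix.cons_val]
              refine Or.inr (Or.inr (Or.inr (Or.inl ⟨?_, ?_, ?_, ?_, ?_, ?_, ?_, ?_, ?_, ?_, ?_, ?_, ?_, ?_, ?_, ?_, ?_, ?_⟩)))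
              all_goals first | rfl | trivial | linarith
            · obtain ⟨ea23, eb23⟩ := e
              exfalso
              have t := Groth.Agent.Helper3.NumType.QT4 T h2 0 1 3 2 (by norm_num) (by norm_num)
              linarith
            · obtain ⟨ea23, eb23⟩ := e
              exfalso
              have t := Groth.Agent.Helper3.NumType.QT4 T h2 0 1 1 2 (by norm_num) (by norm_num)
              linarith
        · obtain ⟨ea13, eb13⟩ := e
          exfalso
          have t := Groth.Agent.Helper3.NumType.QT4 T h2 1 2 0 1 (by norm_num) (by norm_num)
          linarith
        · obtain ⟨ea13, eb13⟩ := e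
          exfalso
          have t := Groth.Agent.Helper3.NumType.QT4 T h2 1 2 0 2 (by norm_num) (by norm_num)
          linarith
        · obtain ⟨ea13, eb13⟩ := e
          exfalso
          have t := Groth.Agent.Helper3.NumType.QT4 T h2 1 2 0 1 (by norm_num) (by norm_num)
          linarith
        · obtain ⟨ea13, eb13⟩ := e
          exfalso
          have t := Groth.Agent.Helper3.NumType.QT4 T h2 1 2 0 2 (by norm_num) (by norm_num)
          linarith
    · rcases Groth.Agent.Helper3.NumType.edge_casesT T h2 (by norm_num) (p := 1) (q := 2) (by decide) hp12 with e | e | e | e | e
      · obtain ⟨ea12, eb12⟩ := e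
        rcases eq_or_lt_of_le nn13 with z | hp13
        · have z13 : T.a 1 3 = 0 := z.symm
          rcases eq_or_lt_of_le nn23 with z | hp23
          · have z23 : T.a 2 3 = 0 := z.symm
            exfalso
            obtain ⟨i, hi, j, hj, hij⟩ := T.connected ({0, 1, 2} : Finset (Fin 4)) (by decide) (by decide)
            fin_cases i <;> fin_cases j <;> first | exact absurd hi (by decide) | exact hj (by decide) | (apply hij; first | exact z03 | exact z13 | exact z23)
          · rcases Groth.Agent.Helper3.NumType.edge_casesT T h2 (by norm_num) (p := 2) (q := 3) (by decide) hp23 with e | e | e | e | e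
            · obtain ⟨ea23, eb23⟩ := e
              have hr0 : (-2) * T.m 0 + (1) * T.m 1 = 0 := by
                have f1 : T.a 0 1 = T.w 0 := by linarith
                have h : T.w 0 * ((-2) * T.m 0 + (1) * T.m 1) = 0 := by
                  rw [f1, z02, z03] at r0
                  linarith
                rcases mul_eq_zero.mp h with h' | h'
                · exfalso; linarith
                · exact h'
              have hr1 : (-2) * T.m 1 + (2) * T.m 0 + (1) * T.m 2 = 0 := by
                have f0 : T.a 0 1 = 2 * T.w 1 := by linarith
                have f2 : T.a 1 2 = T.w 1 := by linarith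
                have h : T.w 1 * ((-2) * T.m 1 + (2) * T.m 0 + (1) * T.m 2) = 0 := by
                  rw [f0, f2, z13] at r1
                  linarith
                rcases mul_eq_zero.mp h with h' | h'
                · exfalso; linarith
                · exact h'
              have hr2 : (-2) * T.m 2 + (1) * T.m 1 + (1) * T.m 3 = 0 := by
                have f1 : T.a 1 2 = T.w 2 := by linarith
                have f3 : T.a 2 3 = T.w 2 := by linarith
                have h : T.w 2 * ((-2) * T.m 2 + (1) * T.m 1 + (1) * T.m 3) = 0 := by
                  rw [z02, f1, f3] at r2
                  linarith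
                rcases mul_eq_zero.mp h with h' | h'
                · exfalso; linarith
                · exact h'
              have hr3 : (-2) * T.m 3 + (1) * T.m 2 = 0 := by
                have f2 : T.a 2 3 = T.w 3 := by linarith
                have h : T.w 3 * ((-2) * T.m 3 + (1) * T.m 2) = 0 := by
                  rw [z03, z13, f2] at r3
                  linarith
                rcases mul_eq_zero.mp h with h' | h'
                · exfalso; linarith
                · exact h'
              exfalso
              linarith
            · obtain ⟨ea23, eb23⟩ := e
              have hr0 : (-2) * T.m 0 + (1) * T.m 1 = 0 := by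
                have f1 : T.a 0 1 = T.w 0 := by linarith
                have h : T.w 0 * ((-2) * T.m 0 + (1) * T.m 1) = 0 := by
                  rw [f1, z02, z03] at r0
                  linarith
                rcases mul_eq_zero.mp h with h' | h'
                · exfalso; linarith
                · exact h'
              have hr1 : (-2) * T.m 1 + (2) * T.m 0 + (1) * T.m 2 = 0 := by
                have f0 : T.a 0 1 = 2 * T.w 1 := by linarith
                have f2 : T.a 1 2 = T.w 1 := by linarith
                have h : T.w 1 * ((-2) * T.m 1 + (2) * T.m 0 + (1) * T.m 2) = 0 := by
                  rw [f0, f2, z13] at r1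
                  linarith
                rcases mul_eq_zero.mp h with h' | h'
                · exfalso; linarith
                · exact h'
              have hr2 : (-2) * T.m 2 + (1) * T.m 1 + (2) * T.m 3 = 0 := by
                have f1 : T.a 1 2 = T.w 2 := by linarith
                have f3 : T.a 2 3 = 2 * T.w 2 := by linarith
                have h : T.w 2 * ((-2) * T.m 2 + (1) * T.m 1 + (2) * T.m 3) = 0 := by
                  rw [z02, f1, f3] at r2
                  linarith
                rcases mul_eq_zero.mp h with h' | h'
                · exfalso; linarith
                · exact h'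
              have hr3 : (-2) * T.m 3 + (1) * T.m 2 = 0 := by
                have f2 : T.a 2 3 = T.w 3 := by linarith
                have h : T.w 3 * ((-2) * T.m 3 + (1) * T.m 2) = 0 := by
                  rw [z03, z13, f2] at r3
                  linarith
                rcases mul_eq_zero.mp h with h' | h'
                · exfalso; linarith
                · exact h'
              have w0 : T.w 0 = 2 * T.w 1 := by linarith
              have w2 : T.w 2 = T.w 1 := by linarith
              have w3 : T.w 3 = 2 * T.w 1 := by linarith
              have a01 : T.a 0 1 = 2 * T.w 1 := by linarith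
              have a12 : T.a 1 2 = T.w 1 := by linarith
              have a23 : T.a 2 3 = 2 * T.w 1 := by linarith
              have m1 : T.m 1 = 2 * T.m 0 := by linarith
              have m2 : T.m 2 = 2 * T.m 0 := by linarith
              have m3 : T.m 3 = T.m 0 := by linarith
              refine ⟨Equiv.ofBijective ![0, 1, 2, 3] (by decide), T.m 0, T.w 1, ?_⟩
              simp only [Equiv.ofBijective_apply, Matrix.cons_val_zero, Matrix.cons_val_one, Matrix.cons_val]
              refine Or.inr (Or.inr (Or.inr (Or.inl ⟨?_, ?_, ?_, ?_, ?_, ?_, ?_, ?_, ?_, ?_, ?_, ?_, ?_, ?_, ?_, ?_, ?_, ?_⟩)))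
              all_goals first | rfl | trivial | linarith
            · obtain ⟨ea23, eb23⟩ := e
              have hr0 : (-2) * T.m 0 + (1) * T.m 1 = 0 := by
                have f1 : T.a 0 1 = T.w 0 := by linarith
                have h : T.w 0 * ((-2) * T.m 0 + (1) * T.m 1) = 0 := by
                  rw [f1, z02, z03] at r0
                  linarith
                rcases mul_eq_zero.mp h with h' | h'
                · exfalso; linarith
                · exact h'
              have hr1 : (-2) * T.m 1 + (2) * T.m 0 + (1) * T.m 2 = 0 := by
                have f0 : T.a 0 1 = 2 * T.w 1 := by linarith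
                have f2 : T.a 1 2 = T.w 1 := by linarith
                have h : T.w 1 * ((-2) * T.m 1 + (2) * T.m 0 + (1) * T.m 2) = 0 := by
                  rw [f0, f2, z13] at r1
                  linarith
                rcases mul_eq_zero.mp h with h' | h'
                · exfalso; linarith
                · exact h'
              have hr2 : (-2) * T.m 2 + (1) * T.m 1 + (1) * T.m 3 = 0 := by
                have f1 : T.a 1 2 = T.w 2 := by linarith
                have f3 : T.a 2 3 = T.w 2 := by linarith
                have h : T.w 2 * ((-2) * T.m 2 + (1) * T.m 1 + (1) * T.m 3) = 0 := by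
                  rw [z02, f1, f3] at r2
                  linarith
                rcases mul_eq_zero.mp h with h' | h'
                · exfalso; linarith
                · exact h'
              have hr3 : (-2) * T.m 3 + (2) * T.m 2 = 0 := by
                have f2 : T.a 2 3 = 2 * T.w 3 := by linarith
                have h : T.w 3 * ((-2) * T.m 3 + (2) * T.m 2) = 0 := by
                  rw [z03, z13, f2] at r3
                  linarith
                rcases mul_eq_zero.mp h with h' | h'
                · exfalso; linarith
                · exact h'
              have w0 : T.w 0 = 4 * T.w 3 := by linarith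
              have w1 : T.w 1 = 2 * T.w 3 := by linarith
              have w2 : T.w 2 = 2 * T.w 3 := by linarith
              have a01 : T.a 0 1 = 4 * T.w 3 := by linarith
              have a12 : T.a 1 2 = 2 * T.w 3 := by linarith
              have a23 : T.a 2 3 = 2 * T.w 3 := by linarith
              have m1 : T.m 1 = 2 * T.m 0 := by linarith
              have m2 : T.m 2 = 2 * T.m 0 := by linarith
              have m3 : T.m 3 = 2 * T.m 0 := by linarith
              refine ⟨Equiv.ofBijective ![3, 2, 1, 0] (by decide), T.m 0, T.w 3, ?_⟩
              simp only [Equiv.ofBijective_apply, Matrix.cons_val_zero, Matrix.cons_val_one, Matrix.cons_val]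
              refine Or.inr (Or.inl ⟨?_, ?_, ?_, ?_, ?_, ?_, ?_, ?_, ?_, ?_, ?_, ?_, ?_, ?_, ?_, ?_, ?_, ?_⟩)
              all_goals first | rfl | trivial | linarith
            · obtain ⟨ea23, eb23⟩ := e
              exfalso
              have t := Groth.Agent.Helper3.NumType.QT4 T h2 0 1 2 1 (by norm_num) (by norm_num)
              linarith
            · obtain ⟨ea23, eb23⟩ := e
              exfalso
              have t := Groth.Agent.Helper3.NumType.QT4 T h2 0 1 2 3 (by norm_num) (by norm_num)
              linarith
        · rcases Groth.Agent.Helper3.NumType.edge_casesT T h2 (by norm_num) (p := 1) (q := 3) (by decide) hp13 with e | e | e | e | e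
          · obtain ⟨ea13, eb13⟩ := e
            rcases eq_or_lt_of_le nn23 with z | hp23
            · have z23 : T.a 2 3 = 0 := z.symm
              have hr0 : (-2) * T.m 0 + (1) * T.m 1 = 0 := by
                have f1 : T.a 0 1 = T.w 0 := by linarith
                have h : T.w 0 * ((-2) * T.m 0 + (1) * T.m 1) = 0 := by
                  rw [f1, z02, z03] at r0
                  linarith
                rcases mul_eq_zero.mp h with h' | h'
                · exfalso; linarith
                · exact h'
              have hr1 : (-2) * T.m 1 + (2) * T.m 0 + (1) * T.m 2 + (1) * T.m 3 = 0 := by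
                have f0 : T.a 0 1 = 2 * T.w 1 := by linarith
                have f2 : T.a 1 2 = T.w 1 := by linarith
                have f3 : T.a 1 3 = T.w 1 := by linarith
                have h : T.w 1 * ((-2) * T.m 1 + (2) * T.m 0 + (1) * T.m 2 + (1) * T.m 3) = 0 := by
                  rw [f0, f2, f3] at r1
                  linarith
                rcases mul_eq_zero.mp h with h' | h'
                · exfalso; linarith
                · exact h'
              have hr2 : (-2) * T.m 2 + (1) * T.m 1 = 0 := by
                have f1 : T.a 1 2 = T.w 2 := by linarith
                have h : T.w 2 * ((-2) * T.m 2 + (1) * T.m 1) = 0 := by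
                  rw [z02, f1, z23] at r2
                  linarith
                rcases mul_eq_zero.mp h with h' | h'
                · exfalso; linarith
                · exact h'
              have hr3 : (-2) * T.m 3 + (1) * T.m 1 = 0 := by
                have f1 : T.a 1 3 = T.w 3 := by linarith
                have h : T.w 3 * ((-2) * T.m 3 + (1) * T.m 1) = 0 := by
                  rw [z03, f1, z23] at r3
                  linarith
                rcases mul_eq_zero.mp h with h' | h'
                · exfalso; linarith
                · exact h'
              have w0 : T.w 0 = 2 * T.w 1 := by linarith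
              have w2 : T.w 2 = T.w 1 := by linarith
              have w3 : T.w 3 = T.w 1 := by linarith
              have a01 : T.a 0 1 = 2 * T.w 1 := by linarith
              have a12 : T.a 1 2 = T.w 1 := by linarith
              have a13 : T.a 1 3 = T.w 1 := by linarith
              have m0 : T.m 0 = T.m 2 := by linarith
              have m1 : T.m 1 = 2 * T.m 2 := by linarith
              have m3 : T.m 3 = T.m 2 := by linarith
              refine ⟨Equiv.ofBijective ![1, 2, 3, 0] (by decide), T.m 2, T.w 1, ?_⟩
              simp only [Equiv.ofBijective_apply, Matrix.cons_val_zero, Matrix.cons_val_one, Matrix.cons_val]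
              refine Or.inr (Or.inr (Or.inr (Or.inr (Or.inl ⟨?_, ?_, ?_, ?_, ?_, ?_, ?_, ?_, ?_, ?_, ?_, ?_, ?_, ?_, ?_, ?_, ?_, ?_⟩))))
              all_goals first | rfl | trivial | linarith
            · rcases Groth.Agent.Helper3.NumType.edge_casesT T h2 (by norm_num) (p := 2) (q := 3) (by decide) hp23 with e | e | e | e | e
              · obtain ⟨ea23, eb23⟩ := e
                exfalso
                have t := Groth.Agent.Helper3.NumType.QT4 T h2 0 1 1 1 (by norm_num) (by norm_num)
                linarith
              · obtain ⟨ea23, eb23⟩ := e
                exfalso
                linarith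
              · obtain ⟨ea23, eb23⟩ := e
                exfalso
                linarith
              · obtain ⟨ea23, eb23⟩ := e
                exfalso
                linarith
              · obtain ⟨ea23, eb23⟩ := e
                exfalso
                linarith
          · obtain ⟨ea13, eb13⟩ := e
            exfalso
            have t := Groth.Agent.Helper3.NumType.QT4 T h2 1 2 0 1 (by norm_num) (by norm_num)
            linarith
          · obtain ⟨ea13, eb13⟩ := e
            exfalso
            have t := Groth.Agent.Helper3.NumType.QT4 T h2 1 2 0 2 (by norm_num) (by norm_num)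
            linarith
          · obtain ⟨ea13, eb13⟩ := e
            exfalso
            have t := Groth.Agent.Helper3.NumType.QT4 T h2 1 2 0 1 (by norm_num) (by norm_num)
            linarith
          · obtain ⟨ea13, eb13⟩ := e
            exfalso
            have t := Groth.Agent.Helper3.NumType.QT4 T h2 1 2 0 2 (by norm_num) (by norm_num)
            linarith
      · obtain ⟨ea12, eb12⟩ := e
        exfalso
        have t := Groth.Agent.Helper3.NumType.QT4 T h2 1 2 1 0 (by norm_num) (by norm_num)
        linarith
      · obtain ⟨ea12, eb12⟩ := e
        exfalso
        have t := Groth.Agent.Helper3.NumType.QT4 T h2 1 2 2 0 (by norm_num) (by norm_num)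
        linarith
      · obtain ⟨ea12, eb12⟩ := e
        exfalso
        have t := Groth.Agent.Helper3.NumType.QT4 T h2 1 2 1 0 (by norm_num) (by norm_num)
        linarith
      · obtain ⟨ea12, eb12⟩ := e
        exfalso
        have t := Groth.Agent.Helper3.NumType.QT4 T h2 1 2 2 0 (by norm_num) (by norm_num)
        linarith
  · rcases Groth.Agent.Helper3.NumType.edge_casesT T h2 (by norm_num) (p := 0) (q := 3) (by decide) hp03 with e | e | e | e | e
    · obtain ⟨ea03, eb03⟩ := e
      rcases eq_or_lt_of_le nn12 with z | hp12
      · have z12 : T.a 1 2 = 0 := z.symm
        rcases eq_or_lt_of_le nn13 with z | hp13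
        · have z13 : T.a 1 3 = 0 := z.symm
          rcases eq_or_lt_of_le nn23 with z | hp23
          · have z23 : T.a 2 3 = 0 := z.symm
            exfalso
            obtain ⟨i, hi, j, hj, hij⟩ := T.connected ({0, 1, 3} : Finset (Fin 4)) (by decide) (by decide)
            fin_cases i <;> fin_cases j <;> first | exact absurd hi (by decide) | exact hj (by decide) | (apply hij; first | exact z02 | exact z12 | exact s32.trans z23)
          · rcases Groth.Agent.Helper3.NumType.edge_casesT T h2 (by norm_num) (p := 2) (q := 3) (by decide) hp23 with e | e | e | e | e
            · obtain ⟨ea23, eb23⟩ := e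
              have hr0 : (-2) * T.m 0 + (1) * T.m 1 + (1) * T.m 3 = 0 := by
                have f1 : T.a 0 1 = T.w 0 := by linarith
                have f3 : T.a 0 3 = T.w 0 := by linarith
                have h : T.w 0 * ((-2) * T.m 0 + (1) * T.m 1 + (1) * T.m 3) = 0 := by
                  rw [f1, z02, f3] at r0
                  linarith
                rcases mul_eq_zero.mp h with h' | h'
                · exfalso; linarith
                · exact h'
              have hr1 : (-2) * T.m 1 + (2) * T.m 0 = 0 := by
                have f0 : T.a 0 1 = 2 * T.w 1 := by linarith
                have h : T.w 1 * ((-2) * T.m 1 + (2) * T.m 0) = 0 := by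
                  rw [f0, z12, z13] at r1
                  linarith
                rcases mul_eq_zero.mp h with h' | h'
                · exfalso; linarith
                · exact h'
              have hr2 : (-2) * T.m 2 + (1) * T.m 3 = 0 := by
                have f3 : T.a 2 3 = T.w 2 := by linarith
                have h : T.w 2 * ((-2) * T.m 2 + (1) * T.m 3) = 0 := by
                  rw [z02, z12, f3] at r2
                  linarith
                rcases mul_eq_zero.mp h with h' | h'
                · exfalso; linarith
                · exact h'
              have hr3 : (-2) * T.m 3 + (1) * T.m 0 + (1) * T.m 2 = 0 := by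
                have f0 : T.a 0 3 = T.w 3 := by linarith
                have f2 : T.a 2 3 = T.w 3 := by linarith
                have h : T.w 3 * ((-2) * T.m 3 + (1) * T.m 0 + (1) * T.m 2) = 0 := by
                  rw [f0, z13, f2] at r3
                  linarith
                rcases mul_eq_zero.mp h with h' | h'
                · exfalso; linarith
                · exact h'
              exfalso
              linarith
            · obtain ⟨ea23, eb23⟩ := e
              have hr0 : (-2) * T.m 0 + (1) * T.m 1 + (1) * T.m 3 = 0 := by
                have f1 : T.a 0 1 = T.w 0 := by linarith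
                have f3 : T.a 0 3 = T.w 0 := by linarith
                have h : T.w 0 * ((-2) * T.m 0 + (1) * T.m 1 + (1) * T.m 3) = 0 := by
                  rw [f1, z02, f3] at r0
                  linarith
                rcases mul_eq_zero.mp h with h' | h'
                · exfalso; linarith
                · exact h'
              have hr1 : (-2) * T.m 1 + (2) * T.m 0 = 0 := by
                have f0 : T.a 0 1 = 2 * T.w 1 := by linarith
                have h : T.w 1 * ((-2) * T.m 1 + (2) * T.m 0) = 0 := by
                  rw [f0, z12, z13] at r1
                  linarith
                rcases mul_eq_zero.mp h with h' | h'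
                · exfalso; linarith
                · exact h'
              have hr2 : (-2) * T.m 2 + (2) * T.m 3 = 0 := by
                have f3 : T.a 2 3 = 2 * T.w 2 := by linarith
                have h : T.w 2 * ((-2) * T.m 2 + (2) * T.m 3) = 0 := by
                  rw [z02, z12, f3] at r2
                  linarith
                rcases mul_eq_zero.mp h with h' | h'
                · exfalso; linarith
                · exact h'
              have hr3 : (-2) * T.m 3 + (1) * T.m 0 + (1) * T.m 2 = 0 := by
                have f0 : T.a 0 3 = T.w 3 := by linarith
                have f2 : T.a 2 3 = T.w 3 := by linarith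
                have h : T.w 3 * ((-2) * T.m 3 + (1) * T.m 0 + (1) * T.m 2) = 0 := by
                  rw [f0, z13, f2] at r3
                  linarith
                rcases mul_eq_zero.mp h with h' | h'
                · exfalso; linarith
                · exact h'
              have w0 : T.w 0 = 2 * T.w 1 := by linarith
              have w2 : T.w 2 = T.w 1 := by linarith
              have w3 : T.w 3 = 2 * T.w 1 := by linarith
              have a01 : T.a 0 1 = 2 * T.w 1 := by linarith
              have a03 : T.a 0 3 = 2 * T.w 1 := by linarith
              have a23 : T.a 2 3 = 2 * T.w 1 := by linarith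
              have m0 : T.m 0 = T.m 1 := by linarith
              have m2 : T.m 2 = T.m 1 := by linarith
              have m3 : T.m 3 = T.m 1 := by linarith
              refine ⟨Equiv.ofBijective ![1, 0, 3, 2] (by decide), T.m 1, T.w 1, ?_⟩
              simp only [Equiv.ofBijective_apply, Matrix.cons_val_zero, Matrix.cons_val_one, Matrix.cons_val]
              refine Or.inr (Or.inr (Or.inl ⟨?_, ?_, ?_, ?_, ?_, ?_, ?_, ?_, ?_, ?_, ?_, ?_, ?_, ?_, ?_, ?_, ?_, ?_⟩))
              all_goals first | rfl | trivial | linarith
            · obtain ⟨ea23, eb23⟩ := e
              have hr0 : (-2) * T.m 0 + (1) * T.m 1 + (1) * T.m 3 = 0 := by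
                have f1 : T.a 0 1 = T.w 0 := by linarith
                have f3 : T.a 0 3 = T.w 0 := by linarith
                have h : T.w 0 * ((-2) * T.m 0 + (1) * T.m 1 + (1) * T.m 3) = 0 := by
                  rw [f1, z02, f3] at r0
                  linarith
                rcases mul_eq_zero.mp h with h' | h'
                · exfalso; linarith
                · exact h'
              have hr1 : (-2) * T.m 1 + (2) * T.m 0 = 0 := by
                have f0 : T.a 0 1 = 2 * T.w 1 := by linarith
                have h : T.w 1 * ((-2) * T.m 1 + (2) * T.m 0) = 0 := by
                  rw [f0, z12, z13] at r1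
                  linarith
                rcases mul_eq_zero.mp h with h' | h'
                · exfalso; linarith
                · exact h'
              have hr2 : (-2) * T.m 2 + (1) * T.m 3 = 0 := by
                have f3 : T.a 2 3 = T.w 2 := by linarith
                have h : T.w 2 * ((-2) * T.m 2 + (1) * T.m 3) = 0 := by
                  rw [z02, z12, f3] at r2
                  linarith
                rcases mul_eq_zero.mp h with h' | h'
                · exfalso; linarith
                · exact h'
              have hr3 : (-2) * T.m 3 + (1) * T.m 0 + (2) * T.m 2 = 0 := by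
                have f0 : T.a 0 3 = T.w 3 := by linarith
                have f2 : T.a 2 3 = 2 * T.w 3 := by linarith
                have h : T.w 3 * ((-2) * T.m 3 + (1) * T.m 0 + (2) * T.m 2) = 0 := by
                  rw [f0, z13, f2] at r3
                  linarith
                rcases mul_eq_zero.mp h with h' | h'
                · exfalso; linarith
                · exact h'
              have w0 : T.w 0 = 2 * T.w 1 := by linarith
              have w2 : T.w 2 = 4 * T.w 1 := by linarith
              have w3 : T.w 3 = 2 * T.w 1 := by linarith
              have a01 : T.a 0 1 = 2 * T.w 1 := by linarith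
              have a03 : T.a 0 3 = 2 * T.w 1 := by linarith
              have a23 : T.a 2 3 = 4 * T.w 1 := by linarith
              have m0 : T.m 0 = 2 * T.m 2 := by linarith
              have m1 : T.m 1 = 2 * T.m 2 := by linarith
              have m3 : T.m 3 = 2 * T.m 2 := by linarith
              refine ⟨Equiv.ofBijective ![1, 0, 3, 2] (by decide), T.m 2, T.w 1, ?_⟩
              simp only [Equiv.ofBijective_apply, Matrix.cons_val_zero, Matrix.cons_val_one, Matrix.cons_val]
              refine Or.inr (Or.inl ⟨?_, ?_, ?_, ?_, ?_, ?_, ?_, ?_, ?_, ?_, ?_, ?_, ?_, ?_, ?_, ?_, ?_, ?_⟩)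
              all_goals first | rfl | trivial | linarith
            · obtain ⟨ea23, eb23⟩ := e
              exfalso
              have t := Groth.Agent.Helper3.NumType.QT4 T h2 1 0 3 2 (by norm_num) (by norm_num)
              linarith
            · obtain ⟨ea23, eb23⟩ := e
              exfalso
              have t := Groth.Agent.Helper3.NumType.QT4 T h2 1 0 1 2 (by norm_num) (by norm_num)
              linarith
        · rcases Groth.Agent.Helper3.NumType.edge_casesT T h2 (by norm_num) (p := 1) (q := 3) (by decide) hp13 with e | e | e | e | e
          · obtain ⟨ea13, eb13⟩ := e
            exfalso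
            linarith
          · obtain ⟨ea13, eb13⟩ := e
            exfalso
            have t := Groth.Agent.Helper3.NumType.QT4 T h2 1 1 0 1 (by norm_num) (by norm_num)
            linarith
          · obtain ⟨ea13, eb13⟩ := e
            exfalso
            linarith
          · obtain ⟨ea13, eb13⟩ := e
            exfalso
            linarith
          · obtain ⟨ea13, eb13⟩ := e
            exfalso
            linarith
      · rcases Groth.Agent.Helper3.NumType.edge_casesT T h2 (by norm_num) (p := 1) (q := 2) (by decide) hp12 with e | e | e | e | e
        · obtain ⟨ea12, eb12⟩ := e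
          rcases eq_or_lt_of_le nn13 with z | hp13
          · have z13 : T.a 1 3 = 0 := z.symm
            rcases eq_or_lt_of_le nn23 with z | hp23
            · have z23 : T.a 2 3 = 0 := z.symm
              have hr0 : (-2) * T.m 0 + (1) * T.m 1 + (1) * T.m 3 = 0 := by
                have f1 : T.a 0 1 = T.w 0 := by linarith
                have f3 : T.a 0 3 = T.w 0 := by linarith
                have h : T.w 0 * ((-2) * T.m 0 + (1) * T.m 1 + (1) * T.m 3) = 0 := by
                  rw [f1, z02, f3] at r0
                  linarith
                rcases mul_eq_zero.mp h with h' | h'
                · exfalso; linarith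
                · exact h'
              have hr1 : (-2) * T.m 1 + (2) * T.m 0 + (1) * T.m 2 = 0 := by
                have f0 : T.a 0 1 = 2 * T.w 1 := by linarith
                have f2 : T.a 1 2 = T.w 1 := by linarith
                have h : T.w 1 * ((-2) * T.m 1 + (2) * T.m 0 + (1) * T.m 2) = 0 := by
                  rw [f0, f2, z13] at r1
                  linarith
                rcases mul_eq_zero.mp h with h' | h'
                · exfalso; linarith
                · exact h'
              have hr2 : (-2) * T.m 2 + (1) * T.m 1 = 0 := by
                have f1 : T.a 1 2 = T.w 2 := by linarith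
                have h : T.w 2 * ((-2) * T.m 2 + (1) * T.m 1) = 0 := by
                  rw [z02, f1, z23] at r2
                  linarith
                rcases mul_eq_zero.mp h with h' | h'
                · exfalso; linarith
                · exact h'
              have hr3 : (-2) * T.m 3 + (1) * T.m 0 = 0 := by
                have f0 : T.a 0 3 = T.w 3 := by linarith
                have h : T.w 3 * ((-2) * T.m 3 + (1) * T.m 0) = 0 := by
                  rw [f0, z13, z23] at r3
                  linarith
                rcases mul_eq_zero.mp h with h' | h'
                · exfalso; linarith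
                · exact h'
              exfalso
              linarith
            · rcases Groth.Agent.Helper3.NumType.edge_casesT T h2 (by norm_num) (p := 2) (q := 3) (by decide) hp23 with e | e | e | e | e
              · obtain ⟨ea23, eb23⟩ := e
                exfalso
                linarith
              · obtain ⟨ea23, eb23⟩ := e
                have hr0 : (-2) * T.m 0 + (1) * T.m 1 + (1) * T.m 3 = 0 := by
                  have f1 : T.a 0 1 = T.w 0 := by linarith
                  have f3 : T.a 0 3 = T.w 0 := by linarith
                  have h : T.w 0 * ((-2) * T.m 0 + (1) * T.m 1 + (1) * T.m 3) = 0 := by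
                    rw [f1, z02, f3] at r0
                    linarith
                  rcases mul_eq_zero.mp h with h' | h'
                  · exfalso; linarith
                  · exact h'
                have hr1 : (-2) * T.m 1 + (2) * T.m 0 + (1) * T.m 2 = 0 := by
                  have f0 : T.a 0 1 = 2 * T.w 1 := by linarith
                  have f2 : T.a 1 2 = T.w 1 := by linarith
                  have h : T.w 1 * ((-2) * T.m 1 + (2) * T.m 0 + (1) * T.m 2) = 0 := by
                    rw [f0, f2, z13] at r1
                    linarith
                  rcases mul_eq_zero.mp h with h' | h'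
                  · exfalso; linarith
                  · exact h'
                have hr2 : (-2) * T.m 2 + (1) * T.m 1 + (2) * T.m 3 = 0 := by
                  have f1 : T.a 1 2 = T.w 2 := by linarith
                  have f3 : T.a 2 3 = 2 * T.w 2 := by linarith
                  have h : T.w 2 * ((-2) * T.m 2 + (1) * T.m 1 + (2) * T.m 3) = 0 := by
                    rw [z02, f1, f3] at r2
                    linarith
                  rcases mul_eq_zero.mp h with h' | h'
                  · exfalso; linarith
                  · exact h'
                have hr3 : (-2) * T.m 3 + (1) * T.m 0 + (1) * T.m 2 = 0 := by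
                  have f0 : T.a 0 3 = T.w 3 := by linarith
                  have f2 : T.a 2 3 = T.w 3 := by linarith
                  have h : T.w 3 * ((-2) * T.m 3 + (1) * T.m 0 + (1) * T.m 2) = 0 := by
                    rw [f0, z13, f2] at r3
                    linarith
                  rcases mul_eq_zero.mp h with h' | h'
                  · exfalso; linarith
                  · exact h'
                exfalso
                linarith
              · obtain ⟨ea23, eb23⟩ := e
                exfalso
                linarith
              · obtain ⟨ea23, eb23⟩ := e
                exfalso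
                have t := Groth.Agent.Helper3.NumType.QT4 T h2 1 0 3 2 (by norm_num) (by norm_num)
                linarith
              · obtain ⟨ea23, eb23⟩ := e
                exfalso
                have t := Groth.Agent.Helper3.NumType.QT4 T h2 1 0 1 2 (by norm_num) (by norm_num)
                linarith
          · rcases Groth.Agent.Helper3.NumType.edge_casesT T h2 (by norm_num) (p := 1) (q := 3) (by decide) hp13 with e | e | e | e | e
            · obtain ⟨ea13, eb13⟩ := e
              exfalso
              linarith
            · obtain ⟨ea13, eb13⟩ := e
              exfalso
              have t := Groth.Agent.Helper3.NumType.QT4 T h2 1 1 0 1 (by norm_num) (by norm_num)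
              linarith
            · obtain ⟨ea13, eb13⟩ := e
              exfalso
              linarith
            · obtain ⟨ea13, eb13⟩ := e
              exfalso
              linarith
            · obtain ⟨ea13, eb13⟩ := e
              exfalso
              linarith
        · obtain ⟨ea12, eb12⟩ := e
          exfalso
          have t := Groth.Agent.Helper3.NumType.QT4 T h2 1 2 1 0 (by norm_num) (by norm_num)
          linarith
        · obtain ⟨ea12, eb12⟩ := e
          exfalso
          have t := Groth.Agent.Helper3.NumType.QT4 T h2 1 2 2 0 (by norm_num) (by norm_num)
          linarith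
        · obtain ⟨ea12, eb12⟩ := e
          exfalso
          have t := Groth.Agent.Helper3.NumType.QT4 T h2 1 2 1 0 (by norm_num) (by norm_num)
          linarith
        · obtain ⟨ea12, eb12⟩ := e
          exfalso
          have t := Groth.Agent.Helper3.NumType.QT4 T h2 1 2 2 0 (by norm_num) (by norm_num)
          linarith
    · obtain ⟨ea03, eb03⟩ := e
      exfalso
      have t := Groth.Agent.Helper3.NumType.QT4 T h2 2 2 0 1 (by norm_num) (by norm_num)
      linarith
    · obtain ⟨ea03, eb03⟩ := e
      exfalso
      have t := Groth.Agent.Helper3.NumType.QT4 T h2 1 1 0 1 (by norm_num) (by norm_num)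
      linarith
    · obtain ⟨ea03, eb03⟩ := e
      exfalso
      have t := Groth.Agent.Helper3.NumType.QT4 T h2 2 1 0 1 (by norm_num) (by norm_num)
      linarith
    · obtain ⟨ea03, eb03⟩ := e
      exfalso
      have t := Groth.Agent.Helper3.NumType.QT4 T h2 1 1 0 1 (by norm_num) (by norm_num)
      linarith

theorem g4_D2E (T : Models.NumericalType 4) (h2 : ∀ i, T.IsMinusTwo i) (hp01 : 0 < T.a 0 1) (ea01 : T.w 0 = 2 * T.w 1) (eb01 : T.a 0 1 = 2 * T.w 1) (hp02 : 0 < T.a 0 2) (ea02 : T.w 2 = T.w 0) (eb02 : T.a 0 2 = T.w 0) :
    Goal4 T := by
  unfold Goal4
  have hw0 := T.w_pos 0
  have hm0 := T.m_pos 0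
  have d0 := (h2 0).2
  have r0 := Groth.Agent.Helper3.NumType.RT4_0 T h2
  have hw1 := T.w_pos 1
  have hm1 := T.m_pos 1
  have d1 := (h2 1).2
  have r1 := Groth.Agent.Helper3.NumType.RT4_1 T h2
  have hw2 := T.w_pos 2
  have hm2 := T.m_pos 2
  have d2 := (h2 2).2
  have r2 := Groth.Agent.Helper3.NumType.RT4_2 T h2
  have hw3 := T.w_pos 3
  have hm3 := T.m_pos 3
  have d3 := (h2 3).2
  have r3 := Groth.Agent.Helper3.NumType.RT4_3 T h2
  have nn01 := T.offDiag_nonneg 0 1 (by decide)
  have s10 := Groth.Agent.Helper3.NumType.a_symm T 1 0
  have nn02 := T.offDiag_nonneg 0 2 (by decide)
  have s20 := Groth.Agent.Helper3.NumType.a_symm T 2 0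
  have nn03 := T.offDiag_nonneg 0 3 (by decide)
  have s30 := Groth.Agent.Helper3.NumType.a_symm T 3 0
  have nn12 := T.offDiag_nonneg 1 2 (by decide)
  have s21 := Groth.Agent.Helper3.NumType.a_symm T 2 1
  have nn13 := T.offDiag_nonneg 1 3 (by decide)
  have s31 := Groth.Agent.Helper3.NumType.a_symm T 3 1
  have nn23 := T.offDiag_nonneg 2 3 (by decide)
  have s32 := Groth.Agent.Helper3.NumType.a_symm T 3 2
  rcases eq_or_lt_of_le nn03 with z | hp03
  · have z03 : T.a 0 3 = 0 := z.symm
    rcases eq_or_lt_of_le nn12 with z | hp12
    · have z12 : T.a 1 2 = 0 := z.symm
      rcases eq_or_lt_of_le nn13 with z | hp13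
      · have z13 : T.a 1 3 = 0 := z.symm
        rcases eq_or_lt_of_le nn23 with z | hp23
        · have z23 : T.a 2 3 = 0 := z.symm
          exfalso
          obtain ⟨i, hi, j, hj, hij⟩ := T.connected ({0, 1, 2} : Finset (Fin 4)) (by decide) (by decide)
          fin_cases i <;> fin_cases j <;> first | exact absurd hi (by decide) | exact hj (by decide) | (apply hij; first | exact z03 | exact z13 | exact z23)
        · rcases Groth.Agent.Helper3.NumType.edge_casesT T h2 (by norm_num) (p := 2) (q := 3) (by decide) hp23 with e | e | e | e | e
          · obtain ⟨ea23, eb23⟩ := e
            have hr0 : (-2) * T.m 0 + (1) * T.m 1 + (1) * T.m 2 = 0 := by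
              have f1 : T.a 0 1 = T.w 0 := by linarith
              have f2 : T.a 0 2 = T.w 0 := by linarith
              have h : T.w 0 * ((-2) * T.m 0 + (1) * T.m 1 + (1) * T.m 2) = 0 := by
                rw [f1, f2, z03] at r0
                linarith
              rcases mul_eq_zero.mp h with h' | h'
              · exfalso; linarith
              · exact h'
            have hr1 : (-2) * T.m 1 + (2) * T.m 0 = 0 := by
              have f0 : T.a 0 1 = 2 * T.w 1 := by linarith
              have h : T.w 1 * ((-2) * T.m 1 + (2) * T.m 0) = 0 := by
                rw [f0, z12, z13] at r1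
                linarith
              rcases mul_eq_zero.mp h with h' | h'
              · exfalso; linarith
              · exact h'
            have hr2 : (-2) * T.m 2 + (1) * T.m 0 + (1) * T.m 3 = 0 := by
              have f0 : T.a 0 2 = T.w 2 := by linarith
              have f3 : T.a 2 3 = T.w 2 := by linarith
              have h : T.w 2 * ((-2) * T.m 2 + (1) * T.m 0 + (1) * T.m 3) = 0 := by
                rw [f0, z12, f3] at r2
                linarith
              rcases mul_eq_zero.mp h with h' | h'
              · exfalso; linarith
              · exact h'
            have hr3 : (-2) * T.m 3 + (1) * T.m 2 = 0 := by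
              have f2 : T.a 2 3 = T.w 3 := by linarith
              have h : T.w 3 * ((-2) * T.m 3 + (1) * T.m 2) = 0 := by
                rw [z03, z13, f2] at r3
                linarith
              rcases mul_eq_zero.mp h with h' | h'
              · exfalso; linarith
              · exact h'
            exfalso
            linarith
          · obtain ⟨ea23, eb23⟩ := e
            have hr0 : (-2) * T.m 0 + (1) * T.m 1 + (1) * T.m 2 = 0 := by
              have f1 : T.a 0 1 = T.w 0 := by linarith
              have f2 : T.a 0 2 = T.w 0 := by linarith
              have h : T.w 0 * ((-2) * T.m 0 + (1) * T.m 1 + (1) * T.m 2) = 0 := by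
                rw [f1, f2, z03] at r0
                linarith
              rcases mul_eq_zero.mp h with h' | h'
              · exfalso; linarith
              · exact h'
            have hr1 : (-2) * T.m 1 + (2) * T.m 0 = 0 := by
              have f0 : T.a 0 1 = 2 * T.w 1 := by linarith
              have h : T.w 1 * ((-2) * T.m 1 + (2) * T.m 0) = 0 := by
                rw [f0, z12, z13] at r1
                linarith
              rcases mul_eq_zero.mp h with h' | h'
              · exfalso; linarith
              · exact h'
            have hr2 : (-2) * T.m 2 + (1) * T.m 0 + (2) * T.m 3 = 0 := by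
              have f0 : T.a 0 2 = T.w 2 := by linarith
              have f3 : T.a 2 3 = 2 * T.w 2 := by linarith
              have h : T.w 2 * ((-2) * T.m 2 + (1) * T.m 0 + (2) * T.m 3) = 0 := by
                rw [f0, z12, f3] at r2
                linarith
              rcases mul_eq_zero.mp h with h' | h'
              · exfalso; linarith
              · exact h'
            have hr3 : (-2) * T.m 3 + (1) * T.m 2 = 0 := by
              have f2 : T.a 2 3 = T.w 3 := by linarith
              have h : T.w 3 * ((-2) * T.m 3 + (1) * T.m 2) = 0 := by
                rw [z03, z13, f2] at r3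
                linarith
              rcases mul_eq_zero.mp h with h' | h'
              · exfalso; linarith
              · exact h'
            have w0 : T.w 0 = 2 * T.w 1 := by linarith
            have w2 : T.w 2 = 2 * T.w 1 := by linarith
            have w3 : T.w 3 = 4 * T.w 1 := by linarith
            have a01 : T.a 0 1 = 2 * T.w 1 := by linarith
            have a02 : T.a 0 2 = 2 * T.w 1 := by linarith
            have a23 : T.a 2 3 = 4 * T.w 1 := by linarith
            have m0 : T.m 0 = 2 * T.m 3 := by linarith
            have m1 : T.m 1 = 2 * T.m 3 := by linarith
            have m2 : T.m 2 = 2 * T.m 3 := by linarith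
            refine ⟨Equiv.ofBijective ![1, 0, 2, 3] (by decide), T.m 3, T.w 1, ?_⟩
            simp only [Equiv.ofBijective_apply, Matrix.cons_val_zero, Matrix.cons_val_one, Matrix.cons_val]
            refine Or.inr (Or.inl ⟨?_, ?_, ?_, ?_, ?_, ?_, ?_, ?_, ?_, ?_, ?_, ?_, ?_, ?_, ?_, ?_, ?_, ?_⟩)
            all_goals first | rfl | trivial | linarith
          · obtain ⟨ea23, eb23⟩ := e
            have hr0 : (-2) * T.m 0 + (1) * T.m 1 + (1) * T.m 2 = 0 := by
              have f1 : T.a 0 1 = T.w 0 := by linarith
              have f2 : T.a 0 2 = T.w 0 := by linarith
              have h : T.w 0 * ((-2) * T.m 0 + (1) * T.m 1 + (1) * T.m 2) = 0 := by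
                rw [f1, f2, z03] at r0
                linarith
              rcases mul_eq_zero.mp h with h' | h'
              · exfalso; linarith
              · exact h'
            have hr1 : (-2) * T.m 1 + (2) * T.m 0 = 0 := by
              have f0 : T.a 0 1 = 2 * T.w 1 := by linarith
              have h : T.w 1 * ((-2) * T.m 1 + (2) * T.m 0) = 0 := by
                rw [f0, z12, z13] at r1
                linarith
              rcases mul_eq_zero.mp h with h' | h'
              · exfalso; linarith
              · exact h'
            have hr2 : (-2) * T.m 2 + (1) * T.m 0 + (1) * T.m 3 = 0 := by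
              have f0 : T.a 0 2 = T.w 2 := by linarith
              have f3 : T.a 2 3 = T.w 2 := by linarith
              have h : T.w 2 * ((-2) * T.m 2 + (1) * T.m 0 + (1) * T.m 3) = 0 := by
                rw [f0, z12, f3] at r2
                linarith
              rcases mul_eq_zero.mp h with h' | h'
              · exfalso; linarith
              · exact h'
            have hr3 : (-2) * T.m 3 + (2) * T.m 2 = 0 := by
              have f2 : T.a 2 3 = 2 * T.w 3 := by linarith
              have h : T.w 3 * ((-2) * T.m 3 + (2) * T.m 2) = 0 := by
                rw [z03, z13, f2] at r3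
                linarith
              rcases mul_eq_zero.mp h with h' | h'
              · exfalso; linarith
              · exact h'
            have w0 : T.w 0 = 2 * T.w 1 := by linarith
            have w2 : T.w 2 = 2 * T.w 1 := by linarith
            have w3 : T.w 3 = T.w 1 := by linarith
            have a01 : T.a 0 1 = 2 * T.w 1 := by linarith
            have a02 : T.a 0 2 = 2 * T.w 1 := by linarith
            have a23 : T.a 2 3 = 2 * T.w 1 := by linarith
            have m0 : T.m 0 = T.m 1 := by linarith
            have m2 : T.m 2 = T.m 1 := by linarith
            have m3 : T.m 3 = T.m 1 := by linarith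
            refine ⟨Equiv.ofBijective ![1, 0, 2, 3] (by decide), T.m 1, T.w 1, ?_⟩
            simp only [Equiv.ofBijective_apply, Matrix.cons_val_zero, Matrix.cons_val_one, Matrix.cons_val]
            refine Or.inr (Or.inr (Or.inl ⟨?_, ?_, ?_, ?_, ?_, ?_, ?_, ?_, ?_, ?_, ?_, ?_, ?_, ?_, ?_, ?_, ?_, ?_⟩))
            all_goals first | rfl | trivial | linarith
          · obtain ⟨ea23, eb23⟩ := e
            exfalso
            have t := Groth.Agent.Helper3.NumType.QT4 T h2 1 0 2 1 (by norm_num) (by norm_num)
            linarith
          · obtain ⟨ea23, eb23⟩ := e
            exfalso
            have t := Groth.Agent.Helper3.NumType.QT4 T h2 1 0 2 3 (by norm_num) (by norm_num)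
            linarith
      · rcases Groth.Agent.Helper3.NumType.edge_casesT T h2 (by norm_num) (p := 1) (q := 3) (by decide) hp13 with e | e | e | e | e
        · obtain ⟨ea13, eb13⟩ := e
          rcases eq_or_lt_of_le nn23 with z | hp23
          · have z23 : T.a 2 3 = 0 := z.symm
            have hr0 : (-2) * T.m 0 + (1) * T.m 1 + (1) * T.m 2 = 0 := by
              have f1 : T.a 0 1 = T.w 0 := by linarith
              have f2 : T.a 0 2 = T.w 0 := by linarith
              have h : T.w 0 * ((-2) * T.m 0 + (1) * T.m 1 + (1) * T.m 2) = 0 := by
                rw [f1, f2, z03] at r0
                linarith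
              rcases mul_eq_zero.mp h with h' | h'
              · exfalso; linarith
              · exact h'
            have hr1 : (-2) * T.m 1 + (2) * T.m 0 + (1) * T.m 3 = 0 := by
              have f0 : T.a 0 1 = 2 * T.w 1 := by linarith
              have f3 : T.a 1 3 = T.w 1 := by linarith
              have h : T.w 1 * ((-2) * T.m 1 + (2) * T.m 0 + (1) * T.m 3) = 0 := by
                rw [f0, z12, f3] at r1
                linarith
              rcases mul_eq_zero.mp h with h' | h'
              · exfalso; linarith
              · exact h'
            have hr2 : (-2) * T.m 2 + (1) * T.m 0 = 0 := by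
              have f0 : T.a 0 2 = T.w 2 := by linarith
              have h : T.w 2 * ((-2) * T.m 2 + (1) * T.m 0) = 0 := by
                rw [f0, z12, z23] at r2
                linarith
              rcases mul_eq_zero.mp h with h' | h'
              · exfalso; linarith
              · exact h'
            have hr3 : (-2) * T.m 3 + (1) * T.m 1 = 0 := by
              have f1 : T.a 1 3 = T.w 3 := by linarith
              have h : T.w 3 * ((-2) * T.m 3 + (1) * T.m 1) = 0 := by
                rw [z03, f1, z23] at r3
                linarith
              rcases mul_eq_zero.mp h with h' | h'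
              · exfalso; linarith
              · exact h'
            exfalso
            linarith
          · rcases Groth.Agent.Helper3.NumType.edge_casesT T h2 (by norm_num) (p := 2) (q := 3) (by decide) hp23 with e | e | e | e | e
            · obtain ⟨ea23, eb23⟩ := e
              exfalso
              linarith
            · obtain ⟨ea23, eb23⟩ := e
              exfalso
              linarith
            · obtain ⟨ea23, eb23⟩ := e
              have hr0 : (-2) * T.m 0 + (1) * T.m 1 + (1) * T.m 2 = 0 := by
                have f1 : T.a 0 1 = T.w 0 := by linarith
                have f2 : T.a 0 2 = T.w 0 := by linarith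
                have h : T.w 0 * ((-2) * T.m 0 + (1) * T.m 1 + (1) * T.m 2) = 0 := by
                  rw [f1, f2, z03] at r0
                  linarith
                rcases mul_eq_zero.mp h with h' | h'
                · exfalso; linarith
                · exact h'
              have hr1 : (-2) * T.m 1 + (2) * T.m 0 + (1) * T.m 3 = 0 := by
                have f0 : T.a 0 1 = 2 * T.w 1 := by linarith
                have f3 : T.a 1 3 = T.w 1 := by linarith
                have h : T.w 1 * ((-2) * T.m 1 + (2) * T.m 0 + (1) * T.m 3) = 0 := by
                  rw [f0, z12, f3] at r1
                  linarith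
                rcases mul_eq_zero.mp h with h' | h'
                · exfalso; linarith
                · exact h'
              have hr2 : (-2) * T.m 2 + (1) * T.m 0 + (1) * T.m 3 = 0 := by
                have f0 : T.a 0 2 = T.w 2 := by linarith
                have f3 : T.a 2 3 = T.w 2 := by linarith
                have h : T.w 2 * ((-2) * T.m 2 + (1) * T.m 0 + (1) * T.m 3) = 0 := by
                  rw [f0, z12, f3] at r2
                  linarith
                rcases mul_eq_zero.mp h with h' | h'
                · exfalso; linarith
                · exact h'
              have hr3 : (-2) * T.m 3 + (1) * T.m 1 + (2) * T.m 2 = 0 := by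
                have f1 : T.a 1 3 = T.w 3 := by linarith
                have f2 : T.a 2 3 = 2 * T.w 3 := by linarith
                have h : T.w 3 * ((-2) * T.m 3 + (1) * T.m 1 + (2) * T.m 2) = 0 := by
                  rw [z03, f1, f2] at r3
                  linarith
                rcases mul_eq_zero.mp h with h' | h'
                · exfalso; linarith
                · exact h'
              exfalso
              linarith
            · obtain ⟨ea23, eb23⟩ := e
              exfalso
              have t := Groth.Agent.Helper3.NumType.QT4 T h2 1 0 2 1 (by norm_num) (by norm_num)
              linarith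
            · obtain ⟨ea23, eb23⟩ := e
              exfalso
              have t := Groth.Agent.Helper3.NumType.QT4 T h2 1 0 2 3 (by norm_num) (by norm_num)
              linarith
        · obtain ⟨ea13, eb13⟩ := e
          exfalso
          have t := Groth.Agent.Helper3.NumType.QT4 T h2 1 2 0 1 (by norm_num) (by norm_num)
          linarith
        · obtain ⟨ea13, eb13⟩ := e
          exfalso
          have t := Groth.Agent.Helper3.NumType.QT4 T h2 1 2 0 2 (by norm_num) (by norm_num)
          linarith
        · obtain ⟨ea13, eb13⟩ := e
          exfalso
          have t := Groth.Agent.Helper3.NumType.QT4 T h2 1 2 0 1 (by norm_num) (by norm_num)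
          linarith
        · obtain ⟨ea13, eb13⟩ := e
          exfalso
          have t := Groth.Agent.Helper3.NumType.QT4 T h2 1 2 0 2 (by norm_num) (by norm_num)
          linarith
    · rcases Groth.Agent.Helper3.NumType.edge_casesT T h2 (by norm_num) (p := 1) (q := 2) (by decide) hp12 with e | e | e | e | e
      · obtain ⟨ea12, eb12⟩ := e
        exfalso
        linarith
      · obtain ⟨ea12, eb12⟩ := e
        exfalso
        have t := Groth.Agent.Helper3.NumType.QT4 T h2 1 1 1 0 (by norm_num) (by norm_num)
        linarith
      · obtain ⟨ea12, eb12⟩ := e
        exfalso
        linarith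
      · obtain ⟨ea12, eb12⟩ := e
        exfalso
        linarith
      · obtain ⟨ea12, eb12⟩ := e
        exfalso
        linarith
  · rcases Groth.Agent.Helper3.NumType.edge_casesT T h2 (by norm_num) (p := 0) (q := 3) (by decide) hp03 with e | e | e | e | e
    · obtain ⟨ea03, eb03⟩ := e
      rcases eq_or_lt_of_le nn12 with z | hp12
      · have z12 : T.a 1 2 = 0 := z.symm
        rcases eq_or_lt_of_le nn13 with z | hp13
        · have z13 : T.a 1 3 = 0 := z.symm
          rcases eq_or_lt_of_le nn23 with z | hp23
          · have z23 : T.a 2 3 = 0 := z.symm
            have hr0 : (-2) * T.m 0 + (1) * T.m 1 + (1) * T.m 2 + (1) * T.m 3 = 0 := by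
              have f1 : T.a 0 1 = T.w 0 := by linarith
              have f2 : T.a 0 2 = T.w 0 := by linarith
              have f3 : T.a 0 3 = T.w 0 := by linarith
              have h : T.w 0 * ((-2) * T.m 0 + (1) * T.m 1 + (1) * T.m 2 + (1) * T.m 3) = 0 := by
                rw [f1, f2, f3] at r0
                linarith
              rcases mul_eq_zero.mp h with h' | h'
              · exfalso; linarith
              · exact h'
            have hr1 : (-2) * T.m 1 + (2) * T.m 0 = 0 := by
              have f0 : T.a 0 1 = 2 * T.w 1 := by linarith
              have h : T.w 1 * ((-2) * T.m 1 + (2) * T.m 0) = 0 := by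
                rw [f0, z12, z13] at r1
                linarith
              rcases mul_eq_zero.mp h with h' | h'
              · exfalso; linarith
              · exact h'
            have hr2 : (-2) * T.m 2 + (1) * T.m 0 = 0 := by
              have f0 : T.a 0 2 = T.w 2 := by linarith
              have h : T.w 2 * ((-2) * T.m 2 + (1) * T.m 0) = 0 := by
                rw [f0, z12, z23] at r2
                linarith
              rcases mul_eq_zero.mp h with h' | h'
              · exfalso; linarith
              · exact h'
            have hr3 : (-2) * T.m 3 + (1) * T.m 0 = 0 := by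
              have f0 : T.a 0 3 = T.w 3 := by linarith
              have h : T.w 3 * ((-2) * T.m 3 + (1) * T.m 0) = 0 := by
                rw [f0, z13, z23] at r3
                linarith
              rcases mul_eq_zero.mp h with h' | h'
              · exfalso; linarith
              · exact h'
            have w0 : T.w 0 = 2 * T.w 1 := by linarith
            have w2 : T.w 2 = 2 * T.w 1 := by linarith
            have w3 : T.w 3 = 2 * T.w 1 := by linarith
            have a01 : T.a 0 1 = 2 * T.w 1 := by linarith
            have a02 : T.a 0 2 = 2 * T.w 1 := by linarith
            have a03 : T.a 0 3 = 2 * T.w 1 := by linarith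
            have m0 : T.m 0 = 2 * T.m 2 := by linarith
            have m1 : T.m 1 = 2 * T.m 2 := by linarith
            have m3 : T.m 3 = T.m 2 := by linarith
            refine ⟨Equiv.ofBijective ![0, 2, 3, 1] (by decide), T.m 2, T.w 1, ?_⟩
            simp only [Equiv.ofBijective_apply, Matrix.cons_val_zero, Matrix.cons_val_one, Matrix.cons_val]
            refine Or.inr (Or.inr (Or.inr (Or.inr (Or.inr (⟨?_, ?_, ?_, ?_, ?_, ?_, ?_, ?_, ?_, ?_, ?_, ?_, ?_, ?_, ?_, ?_, ?_, ?_⟩)))))
            all_goals first | rfl | trivial | linarith
          · rcases Groth.Agent.Helper3.NumType.edge_casesT T h2 (by norm_num) (p := 2) (q := 3) (by decide) hp23 with e | e | e | e | e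
            · obtain ⟨ea23, eb23⟩ := e
              exfalso
              have t := Groth.Agent.Helper3.NumType.QT4 T h2 1 0 1 1 (by norm_num) (by norm_num)
              linarith
            · obtain ⟨ea23, eb23⟩ := e
              exfalso
              linarith
            · obtain ⟨ea23, eb23⟩ := e
              exfalso
              linarith
            · obtain ⟨ea23, eb23⟩ := e
              exfalso
              linarith
            · obtain ⟨ea23, eb23⟩ := e
              exfalso
              linarith
        · rcases Groth.Agent.Helper3.NumType.edge_casesT T h2 (by norm_num) (p := 1) (q := 3) (by decide) hp13 with e | e | e | e | e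
          · obtain ⟨ea13, eb13⟩ := e
            exfalso
            linarith
          · obtain ⟨ea13, eb13⟩ := e
            exfalso
            have t := Groth.Agent.Helper3.NumType.QT4 T h2 1 1 0 1 (by norm_num) (by norm_num)
            linarith
          · obtain ⟨ea13, eb13⟩ := e
            exfalso
            linarith
          · obtain ⟨ea13, eb13⟩ := e
            exfalso
            linarith
          · obtain ⟨ea13, eb13⟩ := e
            exfalso
            linarith
      · rcases Groth.Agent.Helper3.NumType.edge_casesT T h2 (by norm_num) (p := 1) (q := 2) (by decide) hp12 with e | e | e | e | e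
        · obtain ⟨ea12, eb12⟩ := e
          exfalso
          linarith
        · obtain ⟨ea12, eb12⟩ := e
          exfalso
          have t := Groth.Agent.Helper3.NumType.QT4 T h2 1 1 1 0 (by norm_num) (by norm_num)
          linarith
        · obtain ⟨ea12, eb12⟩ := e
          exfalso
          linarith
        · obtain ⟨ea12, eb12⟩ := e
          exfalso
          linarith
        · obtain ⟨ea12, eb12⟩ := e
          exfalso
          linarith
    · obtain ⟨ea03, eb03⟩ := e
      exfalso
      have t := Groth.Agent.Helper3.NumType.QT4 T h2 2 2 0 1 (by norm_num) (by norm_num)
      linarith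
    · obtain ⟨ea03, eb03⟩ := e
      exfalso
      have t := Groth.Agent.Helper3.NumType.QT4 T h2 1 1 0 1 (by norm_num) (by norm_num)
      linarith
    · obtain ⟨ea03, eb03⟩ := e
      exfalso
      have t := Groth.Agent.Helper3.NumType.QT4 T h2 2 1 0 1 (by norm_num) (by norm_num)
      linarith
    · obtain ⟨ea03, eb03⟩ := e
      exfalso
      have t := Groth.Agent.Helper3.NumType.QT4 T h2 1 1 0 1 (by norm_num) (by norm_num)
      linarith

theorem g4_U3Z (T : Models.NumericalType 4) (h2 : ∀ i, T.IsMinusTwo i) (hp01 : 0 < T.a 0 1) (ea01 : T.w 1 = 3 * T.w 0) (eb01 : T.a 0 1 = 3 * T.w 0) (z02 : T.a 0 2 = 0) :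
    Goal4 T := by
  unfold Goal4
  have hw0 := T.w_pos 0
  have hm0 := T.m_pos 0
  have d0 := (h2 0).2
  have r0 := Groth.Agent.Helper3.NumType.RT4_0 T h2
  have hw1 := T.w_pos 1
  have hm1 := T.m_pos 1
  have d1 := (h2 1).2
  have r1 := Groth.Agent.Helper3.NumType.RT4_1 T h2
  have hw2 := T.w_pos 2
  have hm2 := T.m_pos 2
  have d2 := (h2 2).2
  have r2 := Groth.Agent.Helper3.NumType.RT4_2 T h2
  have hw3 := T.w_pos 3
  have hm3 := T.m_pos 3
  have d3 := (h2 3).2
  have r3 := Groth.Agent.Helper3.NumType.RT4_3 T h2
  have nn01 := T.offDiag_nonneg 0 1 (by decide)
  have s10 := Groth.Agent.Helper3.NumType.a_symm T 1 0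
  have nn02 := T.offDiag_nonneg 0 2 (by decide)
  have s20 := Groth.Agent.Helper3.NumType.a_symm T 2 0
  have nn03 := T.offDiag_nonneg 0 3 (by decide)
  have s30 := Groth.Agent.Helper3.NumType.a_symm T 3 0
  have nn12 := T.offDiag_nonneg 1 2 (by decide)
  have s21 := Groth.Agent.Helper3.NumType.a_symm T 2 1
  have nn13 := T.offDiag_nonneg 1 3 (by decide)
  have s31 := Groth.Agent.Helper3.NumType.a_symm T 3 1
  have nn23 := T.offDiag_nonneg 2 3 (by decide)
  have s32 := Groth.Agent.Helper3.NumType.a_symm T 3 2
  rcases eq_or_lt_of_le nn03 with z | hp03
  · have z03 : T.a 0 3 = 0 := z.symm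
    rcases eq_or_lt_of_le nn12 with z | hp12
    · have z12 : T.a 1 2 = 0 := z.symm
      rcases eq_or_lt_of_le nn13 with z | hp13
      · have z13 : T.a 1 3 = 0 := z.symm
        exfalso
        obtain ⟨i, hi, j, hj, hij⟩ := T.connected ({0, 1} : Finset (Fin 4)) (by decide) (by decide)
        fin_cases i <;> fin_cases j <;> first | exact absurd hi (by decide) | exact hj (by decide) | (apply hij; first | exact z02 | exact z03 | exact z12 | exact z13)
      · rcases Groth.Agent.Helper3.NumType.edge_casesT T h2 (by norm_num) (p := 1) (q := 3) (by decide) hp13 with e | e | e | e | e
        · obtain ⟨ea13, eb13⟩ := e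
          exfalso
          have t := Groth.Agent.Helper3.NumType.QT4 T h2 3 2 0 1 (by norm_num) (by norm_num)
          linarith
        · obtain ⟨ea13, eb13⟩ := e
          exfalso
          have t := Groth.Agent.Helper3.NumType.QT4 T h2 2 2 0 1 (by norm_num) (by norm_num)
          linarith
        · obtain ⟨ea13, eb13⟩ := e
          exfalso
          have t := Groth.Agent.Helper3.NumType.QT4 T h2 1 1 0 1 (by norm_num) (by norm_num)
          linarith
        · obtain ⟨ea13, eb13⟩ := e
          exfalso
          have t := Groth.Agent.Helper3.NumType.QT4 T h2 1 2 0 1 (by norm_num) (by norm_num)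
          linarith
        · obtain ⟨ea13, eb13⟩ := e
          exfalso
          have t := Groth.Agent.Helper3.NumType.QT4 T h2 1 1 0 1 (by norm_num) (by norm_num)
          linarith
    · rcases Groth.Agent.Helper3.NumType.edge_casesT T h2 (by norm_num) (p := 1) (q := 2) (by decide) hp12 with e | e | e | e | e
      · obtain ⟨ea12, eb12⟩ := e
        exfalso
        have t := Groth.Agent.Helper3.NumType.QT4 T h2 3 2 1 0 (by norm_num) (by norm_num)
        linarith
      · obtain ⟨ea12, eb12⟩ := e
        exfalso
        have t := Groth.Agent.Helper3.NumType.QT4 T h2 2 2 1 0 (by norm_num) (by norm_num)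
        linarith
      · obtain ⟨ea12, eb12⟩ := e
        exfalso
        have t := Groth.Agent.Helper3.NumType.QT4 T h2 1 1 1 0 (by norm_num) (by norm_num)
        linarith
      · obtain ⟨ea12, eb12⟩ := e
        exfalso
        have t := Groth.Agent.Helper3.NumType.QT4 T h2 1 2 1 0 (by norm_num) (by norm_num)
        linarith
      · obtain ⟨ea12, eb12⟩ := e
        exfalso
        have t := Groth.Agent.Helper3.NumType.QT4 T h2 1 1 1 0 (by norm_num) (by norm_num)
        linarith
  · rcases Groth.Agent.Helper3.NumType.edge_casesT T h2 (by norm_num) (p := 0) (q := 3) (by decide) hp03 with e | e | e | e | e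
    · obtain ⟨ea03, eb03⟩ := e
      exfalso
      have t := Groth.Agent.Helper3.NumType.QT4 T h2 2 1 0 1 (by norm_num) (by norm_num)
      linarith
    · obtain ⟨ea03, eb03⟩ := e
      exfalso
      have t := Groth.Agent.Helper3.NumType.QT4 T h2 2 1 0 1 (by norm_num) (by norm_num)
      linarith
    · obtain ⟨ea03, eb03⟩ := e
      exfalso
      have t := Groth.Agent.Helper3.NumType.QT4 T h2 2 1 0 1 (by norm_num) (by norm_num)
      linarith
    · obtain ⟨ea03, eb03⟩ := e
      exfalso
      have t := Groth.Agent.Helper3.NumType.QT4 T h2 2 1 0 1 (by norm_num) (by norm_num)
      linarith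
    · obtain ⟨ea03, eb03⟩ := e
      exfalso
      have t := Groth.Agent.Helper3.NumType.QT4 T h2 2 1 0 1 (by norm_num) (by norm_num)
      linarith

theorem g4_D3Z (T : Models.NumericalType 4) (h2 : ∀ i, T.IsMinusTwo i) (hp01 : 0 < T.a 0 1) (ea01 : T.w 0 = 3 * T.w 1) (eb01 : T.a 0 1 = 3 * T.w 1) (z02 : T.a 0 2 = 0) :
    Goal4 T := by
  unfold Goal4
  have hw0 := T.w_pos 0
  have hm0 := T.m_pos 0
  have d0 := (h2 0).2
  have r0 := Groth.Agent.Helper3.NumType.RT4_0 T h2
  have hw1 := T.w_pos 1
  have hm1 := T.m_pos 1
  have d1 := (h2 1).2
  have r1 := Groth.Agent.Helper3.NumType.RT4_1 T h2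
  have hw2 := T.w_pos 2
  have hm2 := T.m_pos 2
  have d2 := (h2 2).2
  have r2 := Groth.Agent.Helper3.NumType.RT4_2 T h2
  have hw3 := T.w_pos 3
  have hm3 := T.m_pos 3
  have d3 := (h2 3).2
  have r3 := Groth.Agent.Helper3.NumType.RT4_3 T h2
  have nn01 := T.offDiag_nonneg 0 1 (by decide)
  have s10 := Groth.Agent.Helper3.NumType.a_symm T 1 0
  have nn02 := T.offDiag_nonneg 0 2 (by decide)
  have s20 := Groth.Agent.Helper3.NumType.a_symm T 2 0
  have nn03 := T.offDiag_nonneg 0 3 (by decide)
  have s30 := Groth.Agent.Helper3.NumType.a_symm T 3 0
  have nn12 := T.offDiag_nonneg 1 2 (by decide)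
  have s21 := Groth.Agent.Helper3.NumType.a_symm T 2 1
  have nn13 := T.offDiag_nonneg 1 3 (by decide)
  have s31 := Groth.Agent.Helper3.NumType.a_symm T 3 1
  have nn23 := T.offDiag_nonneg 2 3 (by decide)
  have s32 := Groth.Agent.Helper3.NumType.a_symm T 3 2
  rcases eq_or_lt_of_le nn03 with z | hp03
  · have z03 : T.a 0 3 = 0 := z.symm
    rcases eq_or_lt_of_le nn12 with z | hp12
    · have z12 : T.a 1 2 = 0 := z.symm
      rcases eq_or_lt_of_le nn13 with z | hp13
      · have z13 : T.a 1 3 = 0 := z.symm
        exfalso
        obtain ⟨i, hi, j, hj, hij⟩ := T.connected ({0, 1} : Finset (Fin 4)) (by decide) (by decide)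
        fin_cases i <;> fin_cases j <;> first | exact absurd hi (by decide) | exact hj (by decide) | (apply hij; first | exact z02 | exact z03 | exact z12 | exact z13)
      · rcases Groth.Agent.Helper3.NumType.edge_casesT T h2 (by norm_num) (p := 1) (q := 3) (by decide) hp13 with e | e | e | e | e
        · obtain ⟨ea13, eb13⟩ := e
          exfalso
          have t := Groth.Agent.Helper3.NumType.QT4 T h2 1 2 0 1 (by norm_num) (by norm_num)
          linarith
        · obtain ⟨ea13, eb13⟩ := e
          exfalso
          have t := Groth.Agent.Helper3.NumType.QT4 T h2 1 2 0 1 (by norm_num) (by norm_num)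
          linarith
        · obtain ⟨ea13, eb13⟩ := e
          exfalso
          have t := Groth.Agent.Helper3.NumType.QT4 T h2 1 2 0 1 (by norm_num) (by norm_num)
          linarith
        · obtain ⟨ea13, eb13⟩ := e
          exfalso
          have t := Groth.Agent.Helper3.NumType.QT4 T h2 1 2 0 1 (by norm_num) (by norm_num)
          linarith
        · obtain ⟨ea13, eb13⟩ := e
          exfalso
          have t := Groth.Agent.Helper3.NumType.QT4 T h2 1 2 0 1 (by norm_num) (by norm_num)
          linarith
    · rcases Groth.Agent.Helper3.NumType.edge_casesT T h2 (by norm_num) (p := 1) (q := 2) (by decide) hp12 with e | e | e | e | e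
      · obtain ⟨ea12, eb12⟩ := e
        exfalso
        have t := Groth.Agent.Helper3.NumType.QT4 T h2 1 2 1 0 (by norm_num) (by norm_num)
        linarith
      · obtain ⟨ea12, eb12⟩ := e
        exfalso
        have t := Groth.Agent.Helper3.NumType.QT4 T h2 1 2 1 0 (by norm_num) (by norm_num)
        linarith
      · obtain ⟨ea12, eb12⟩ := e
        exfalso
        have t := Groth.Agent.Helper3.NumType.QT4 T h2 1 2 1 0 (by norm_num) (by norm_num)
        linarith
      · obtain ⟨ea12, eb12⟩ := e
        exfalso
        have t := Groth.Agent.Helper3.NumType.QT4 T h2 1 2 1 0 (by norm_num) (by norm_num)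
        linarith
      · obtain ⟨ea12, eb12⟩ := e
        exfalso
        have t := Groth.Agent.Helper3.NumType.QT4 T h2 1 2 1 0 (by norm_num) (by norm_num)
        linarith
  · rcases Groth.Agent.Helper3.NumType.edge_casesT T h2 (by norm_num) (p := 0) (q := 3) (by decide) hp03 with e | e | e | e | e
    · obtain ⟨ea03, eb03⟩ := e
      exfalso
      have t := Groth.Agent.Helper3.NumType.QT4 T h2 2 3 0 1 (by norm_num) (by norm_num)
      linarith
    · obtain ⟨ea03, eb03⟩ := e
      exfalso
      have t := Groth.Agent.Helper3.NumType.QT4 T h2 2 2 0 1 (by norm_num) (by norm_num)
      linarith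
    · obtain ⟨ea03, eb03⟩ := e
      exfalso
      have t := Groth.Agent.Helper3.NumType.QT4 T h2 1 1 0 1 (by norm_num) (by norm_num)
      linarith
    · obtain ⟨ea03, eb03⟩ := e
      exfalso
      have t := Groth.Agent.Helper3.NumType.QT4 T h2 2 1 0 1 (by norm_num) (by norm_num)
      linarith
    · obtain ⟨ea03, eb03⟩ := e
      exfalso
      have t := Groth.Agent.Helper3.NumType.QT4 T h2 1 1 0 1 (by norm_num) (by norm_num)
      linarith

end Groth.Agent.Helper3.NumType
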