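import Groth.Agent.Helper3.NumTypeG5

namespace Groth.Agent.Helper3.NumType

open Finset Models

theorem g5_ZZZU2Z (T : Models.NumericalType 5) (h2 : ∀ i, T.IsMinusTwo i) (z01 : T.a 0 1 = 0) (z02 : T.a 0 2 = 0) (z03 : T.a 0 3 = 0) (hp04 : 0 < T.a 0 4) (ea04 : T.w 4 = 2 * T.w 0) (eb04 : T.a 0 4 = 2 * T.w 0) (z12 : T.a 1 2 = 0) :
    Goal5 T := by
  unfold Goal5
  have hw0 := T.w_pos 0
  have hm0 := T.m_pos 0
  have d0 := (h2 0).2
  have r0 := Groth.Agent.Helper3.NumType.RT5_0 T h2
  have hw1 := T.w_pos 1
  have hm1 := T.m_pos 1
  have d1 := (h2 1).2
  have r1 := Groth.Agent.Helper3.NumType.RT5_1 T h2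
  have hw2 := T.w_pos 2
  have hm2 := T.m_pos 2
  have d2 := (h2 2).2
  have r2 := Groth.Agent.Helper3.NumType.RT5_2 T h2
  have hw3 := T.w_pos 3
  have hm3 := T.m_pos 3
  have d3 := (h2 3).2
  have r3 := Groth.Agent.Helper3.NumType.RT5_3 T h2
  have hw4 := T.w_pos 4
  have hm4 := T.m_pos 4
  have d4 := (h2 4).2
  have r4 := Groth.Agent.Helper3.NumType.RT5_4 T h2
  have nn01 := T.offDiag_nonneg 0 1 (by decide)
  have s10 := Groth.Agent.Helper3.NumType.a_symm T 1 0
  have nn02 := T.offDiag_nonneg 0 2 (by decide)
  have s20 := Groth.Agent.Helper3.NumType.a_symm T 2 0
  have nn03 := T.offDiag_nonneg 0 3 (by decide)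
  have s30 := Groth.Agent.Helper3.NumType.a_symm T 3 0
  have nn04 := T.offDiag_nonneg 0 4 (by decide)
  have s40 := Groth.Agent.Helper3.NumType.a_symm T 4 0
  have nn12 := T.offDiag_nonneg 1 2 (by decide)
  have s21 := Groth.Agent.Helper3.NumType.a_symm T 2 1
  have nn13 := T.offDiag_nonneg 1 3 (by decide)
  have s31 := Groth.Agent.Helper3.NumType.a_symm T 3 1
  have nn14 := T.offDiag_nonneg 1 4 (by decide)
  have s41 := Groth.Agent.Helper3.NumType.a_symm T 4 1
  have nn23 := T.offDiag_nonneg 2 3 (by decide)
  have s32 := Groth.Agent.Helper3.NumType.a_symm T 3 2
  have nn24 := T.offDiag_nonneg 2 4 (by decide)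
  have s42 := Groth.Agent.Helper3.NumType.a_symm T 4 2
  have nn34 := T.offDiag_nonneg 3 4 (by decide)
  have s43 := Groth.Agent.Helper3.NumType.a_symm T 4 3
  rcases eq_or_lt_of_le nn13 with z | hp13
  · have z13 : T.a 1 3 = 0 := z.symm
    rcases eq_or_lt_of_le nn14 with z | hp14
    · have z14 : T.a 1 4 = 0 := z.symm
      exfalso
      obtain ⟨i, hi, j, hj, hij⟩ := T.connected ({1} : Finset (Fin 5)) (by decide) (by decide)
      fin_cases i <;> fin_cases j <;> first | exact absurd hi (by decide) | exact hj (by decide) | (apply hij; first | exact s10.trans z01 | exact z12 | exact z13 | exact z14)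
    · rcases Groth.Agent.Helper3.NumType.edge_casesT T h2 (by norm_num) (p := 1) (q := 4) (by decide) hp14 with e | e | e | e | e
      · obtain ⟨ea14, eb14⟩ := e
        rcases eq_or_lt_of_le nn23 with z | hp23
        · have z23 : T.a 2 3 = 0 := z.symm
          rcases eq_or_lt_of_le nn24 with z | hp24
          · have z24 : T.a 2 4 = 0 := z.symm
            exfalso
            obtain ⟨i, hi, j, hj, hij⟩ := T.connected ({2} : Finset (Fin 5)) (by decide) (by decide)
            fin_cases i <;> fin_cases j <;> first | exact absurd hi (by decide) | exact hj (by decide) | (apply hij; first | exact s20.trans z02 | exact s21.trans z12 | exact z23 | exact z24)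
          · rcases Groth.Agent.Helper3.NumType.edge_casesT T h2 (by norm_num) (p := 2) (q := 4) (by decide) hp24 with e | e | e | e | e
            · obtain ⟨ea24, eb24⟩ := e
              exfalso
              have t := Groth.Agent.Helper3.NumType.QT5 T h2 2 1 1 0 2 (by norm_num) (by norm_num)
              linarith only [t, z01, z02, ea04, eb04, z12, ea14, eb14, ea24, eb24, hw0, hw1, hw2, hw4]
            · obtain ⟨ea24, eb24⟩ := e
              exfalso
              have t := Groth.Agent.Helper3.NumType.QT5 T h2 1 0 1 0 1 (by norm_num) (by norm_num)
              linarith only [t, z02, ea04, eb04, ea24, eb24, hw0, hw2, hw4]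
            · obtain ⟨ea24, eb24⟩ := e
              exfalso
              have t := Groth.Agent.Helper3.NumType.QT5 T h2 2 0 1 0 2 (by norm_num) (by norm_num)
              linarith only [t, z02, ea04, eb04, ea24, eb24, hw0, hw2, hw4]
            · obtain ⟨ea24, eb24⟩ := e
              exfalso
              have t := Groth.Agent.Helper3.NumType.QT5 T h2 1 0 1 0 1 (by norm_num) (by norm_num)
              linarith only [t, z02, ea04, eb04, ea24, eb24, hw0, hw2, hw4]
            · obtain ⟨ea24, eb24⟩ := e
              exfalso
              have t := Groth.Agent.Helper3.NumType.QT5 T h2 1 0 1 0 2 (by norm_num) (by norm_num)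
              linarith only [t, z02, ea04, eb04, ea24, eb24, hw0, hw2, hw4]
        · rcases Groth.Agent.Helper3.NumType.edge_casesT T h2 (by norm_num) (p := 2) (q := 3) (by decide) hp23 with e | e | e | e | e
          · obtain ⟨ea23, eb23⟩ := e
            rcases eq_or_lt_of_le nn24 with z | hp24
            · have z24 : T.a 2 4 = 0 := z.symm
              rcases eq_or_lt_of_le nn34 with z | hp34
              · have z34 : T.a 3 4 = 0 := z.symm
                exfalso
                obtain ⟨i, hi, j, hj, hij⟩ := T.connected ({0, 1, 4} : Finset (Fin 5)) (by decide) (by decide)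
                fin_cases i <;> fin_cases j <;> first | exact absurd hi (by decide) | exact hj (by decide) | (apply hij; first | exact z02 | exact z03 | exact z12 | exact z13 | exact s42.trans z24 | exact s43.trans z34)
              · rcases Groth.Agent.Helper3.NumType.edge_casesT T h2 (by norm_num) (p := 3) (q := 4) (by decide) hp34 with e | e | e | e | e
                · obtain ⟨ea34, eb34⟩ := e
                  exfalso
                  have t := Groth.Agent.Helper3.NumType.QT5 T h2 2 1 0 1 2 (by norm_num) (by norm_num)
                  linarith only [t, z01, z03, ea04, eb04, z13, ea14, eb14, ea34, eb34, hw0, hw1, hw3, hw4]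
                · obtain ⟨ea34, eb34⟩ := e
                  exfalso
                  have t := Groth.Agent.Helper3.NumType.QT5 T h2 1 0 0 1 1 (by norm_num) (by norm_num)
                  linarith only [t, z03, ea04, eb04, ea34, eb34, hw0, hw3, hw4]
                · obtain ⟨ea34, eb34⟩ := e
                  exfalso
                  have t := Groth.Agent.Helper3.NumType.QT5 T h2 2 0 0 1 2 (by norm_num) (by norm_num)
                  linarith only [t, z03, ea04, eb04, ea34, eb34, hw0, hw3, hw4]
                · obtain ⟨ea34, eb34⟩ := e
                  exfalso
                  have t := Groth.Agent.Helper3.NumType.QT5 T h2 1 0 0 1 1 (by norm_num) (by norm_num)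
                  linarith only [t, z03, ea04, eb04, ea34, eb34, hw0, hw3, hw4]
                · obtain ⟨ea34, eb34⟩ := e
                  exfalso
                  have t := Groth.Agent.Helper3.NumType.QT5 T h2 1 0 0 1 2 (by norm_num) (by norm_num)
                  linarith only [t, z03, ea04, eb04, ea34, eb34, hw0, hw3, hw4]
            · rcases Groth.Agent.Helper3.NumType.edge_casesT T h2 (by norm_num) (p := 2) (q := 4) (by decide) hp24 with e | e | e | e | e
              · obtain ⟨ea24, eb24⟩ := e
                exfalso
                have t := Groth.Agent.Helper3.NumType.QT5 T h2 2 1 1 0 2 (by norm_num) (by norm_num)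
                linarith only [t, z01, z02, ea04, eb04, z12, ea14, eb14, ea24, eb24, hw0, hw1, hw2, hw4]
              · obtain ⟨ea24, eb24⟩ := e
                exfalso
                have t := Groth.Agent.Helper3.NumType.QT5 T h2 1 0 1 0 1 (by norm_num) (by norm_num)
                linarith only [t, z02, ea04, eb04, ea24, eb24, hw0, hw2, hw4]
              · obtain ⟨ea24, eb24⟩ := e
                exfalso
                have t := Groth.Agent.Helper3.NumType.QT5 T h2 2 0 1 0 2 (by norm_num) (by norm_num)
                linarith only [t, z02, ea04, eb04, ea24, eb24, hw0, hw2, hw4]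
              · obtain ⟨ea24, eb24⟩ := e
                exfalso
                have t := Groth.Agent.Helper3.NumType.QT5 T h2 1 0 1 0 1 (by norm_num) (by norm_num)
                linarith only [t, z02, ea04, eb04, ea24, eb24, hw0, hw2, hw4]
              · obtain ⟨ea24, eb24⟩ := e
                exfalso
                have t := Groth.Agent.Helper3.NumType.QT5 T h2 1 0 1 0 2 (by norm_num) (by norm_num)
                linarith only [t, z02, ea04, eb04, ea24, eb24, hw0, hw2, hw4]
          · obtain ⟨ea23, eb23⟩ := e
            rcases eq_or_lt_of_le nn24 with z | hp24
            · have z24 : T.a 2 4 = 0 := z.symm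
              rcases eq_or_lt_of_le nn34 with z | hp34
              · have z34 : T.a 3 4 = 0 := z.symm
                exfalso
                obtain ⟨i, hi, j, hj, hij⟩ := T.connected ({0, 1, 4} : Finset (Fin 5)) (by decide) (by decide)
                fin_cases i <;> fin_cases j <;> first | exact absurd hi (by decide) | exact hj (by decide) | (apply hij; first | exact z02 | exact z03 | exact z12 | exact z13 | exact s42.trans z24 | exact s43.trans z34)
              · rcases Groth.Agent.Helper3.NumType.edge_casesT T h2 (by norm_num) (p := 3) (q := 4) (by decide) hp34 with e | e | e | e | e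
                · obtain ⟨ea34, eb34⟩ := e
                  exfalso
                  have t := Groth.Agent.Helper3.NumType.QT5 T h2 2 1 0 1 2 (by norm_num) (by norm_num)
                  linarith only [t, z01, z03, ea04, eb04, z13, ea14, eb14, ea34, eb34, hw0, hw1, hw3, hw4]
                · obtain ⟨ea34, eb34⟩ := e
                  exfalso
                  have t := Groth.Agent.Helper3.NumType.QT5 T h2 1 0 0 1 1 (by norm_num) (by norm_num)
                  linarith only [t, z03, ea04, eb04, ea34, eb34, hw0, hw3, hw4]
                · obtain ⟨ea34, eb34⟩ := e
                  exfalso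
                  have t := Groth.Agent.Helper3.NumType.QT5 T h2 2 0 0 1 2 (by norm_num) (by norm_num)
                  linarith only [t, z03, ea04, eb04, ea34, eb34, hw0, hw3, hw4]
                · obtain ⟨ea34, eb34⟩ := e
                  exfalso
                  have t := Groth.Agent.Helper3.NumType.QT5 T h2 1 0 0 1 1 (by norm_num) (by norm_num)
                  linarith only [t, z03, ea04, eb04, ea34, eb34, hw0, hw3, hw4]
                · obtain ⟨ea34, eb34⟩ := e
                  exfalso
                  have t := Groth.Agent.Helper3.NumType.QT5 T h2 1 0 0 1 2 (by norm_num) (by norm_num)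
                  linarith only [t, z03, ea04, eb04, ea34, eb34, hw0, hw3, hw4]
            · rcases Groth.Agent.Helper3.NumType.edge_casesT T h2 (by norm_num) (p := 2) (q := 4) (by decide) hp24 with e | e | e | e | e
              · obtain ⟨ea24, eb24⟩ := e
                exfalso
                have t := Groth.Agent.Helper3.NumType.QT5 T h2 2 1 1 0 2 (by norm_num) (by norm_num)
                linarith only [t, z01, z02, ea04, eb04, z12, ea14, eb14, ea24, eb24, hw0, hw1, hw2, hw4]
              · obtain ⟨ea24, eb24⟩ := e
                exfalso
                have t := Groth.Agent.Helper3.NumType.QT5 T h2 1 0 1 0 1 (by norm_num) (by norm_num)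
                linarith only [t, z02, ea04, eb04, ea24, eb24, hw0, hw2, hw4]
              · obtain ⟨ea24, eb24⟩ := e
                exfalso
                have t := Groth.Agent.Helper3.NumType.QT5 T h2 2 0 1 0 2 (by norm_num) (by norm_num)
                linarith only [t, z02, ea04, eb04, ea24, eb24, hw0, hw2, hw4]
              · obtain ⟨ea24, eb24⟩ := e
                exfalso
                have t := Groth.Agent.Helper3.NumType.QT5 T h2 1 0 1 0 1 (by norm_num) (by norm_num)
                linarith only [t, z02, ea04, eb04, ea24, eb24, hw0, hw2, hw4]
              · obtain ⟨ea24, eb24⟩ := e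
                exfalso
                have t := Groth.Agent.Helper3.NumType.QT5 T h2 1 0 1 0 2 (by norm_num) (by norm_num)
                linarith only [t, z02, ea04, eb04, ea24, eb24, hw0, hw2, hw4]
          · obtain ⟨ea23, eb23⟩ := e
            rcases eq_or_lt_of_le nn24 with z | hp24
            · have z24 : T.a 2 4 = 0 := z.symm
              rcases eq_or_lt_of_le nn34 with z | hp34
              · have z34 : T.a 3 4 = 0 := z.symm
                exfalso
                obtain ⟨i, hi, j, hj, hij⟩ := T.connected ({0, 1, 4} : Finset (Fin 5)) (by decide) (by decide)
                fin_cases i <;> fin_cases j <;> first | exact absurd hi (by decide) | exact hj (by decide) | (apply hij; first | exact z02 | exact z03 | exact z12 | exact z13 | exact s42.trans z24 | exact s43.trans z34)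
              · rcases Groth.Agent.Helper3.NumType.edge_casesT T h2 (by norm_num) (p := 3) (q := 4) (by decide) hp34 with e | e | e | e | e
                · obtain ⟨ea34, eb34⟩ := e
                  exfalso
                  have t := Groth.Agent.Helper3.NumType.QT5 T h2 2 1 0 1 2 (by norm_num) (by norm_num)
                  linarith only [t, z01, z03, ea04, eb04, z13, ea14, eb14, ea34, eb34, hw0, hw1, hw3, hw4]
                · obtain ⟨ea34, eb34⟩ := e
                  exfalso
                  have t := Groth.Agent.Helper3.NumType.QT5 T h2 1 0 0 1 1 (by norm_num) (by norm_num)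
                  linarith only [t, z03, ea04, eb04, ea34, eb34, hw0, hw3, hw4]
                · obtain ⟨ea34, eb34⟩ := e
                  exfalso
                  have t := Groth.Agent.Helper3.NumType.QT5 T h2 2 0 0 1 2 (by norm_num) (by norm_num)
                  linarith only [t, z03, ea04, eb04, ea34, eb34, hw0, hw3, hw4]
                · obtain ⟨ea34, eb34⟩ := e
                  exfalso
                  have t := Groth.Agent.Helper3.NumType.QT5 T h2 1 0 0 1 1 (by norm_num) (by norm_num)
                  linarith only [t, z03, ea04, eb04, ea34, eb34, hw0, hw3, hw4]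
                · obtain ⟨ea34, eb34⟩ := e
                  exfalso
                  have t := Groth.Agent.Helper3.NumType.QT5 T h2 1 0 0 1 2 (by norm_num) (by norm_num)
                  linarith only [t, z03, ea04, eb04, ea34, eb34, hw0, hw3, hw4]
            · rcases Groth.Agent.Helper3.NumType.edge_casesT T h2 (by norm_num) (p := 2) (q := 4) (by decide) hp24 with e | e | e | e | e
              · obtain ⟨ea24, eb24⟩ := e
                exfalso
                have t := Groth.Agent.Helper3.NumType.QT5 T h2 2 1 1 0 2 (by norm_num) (by norm_num)
                linarith only [t, z01, z02, ea04, eb04, z12, ea14, eb14, ea24, eb24, hw0, hw1, hw2, hw4]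
              · obtain ⟨ea24, eb24⟩ := e
                exfalso
                have t := Groth.Agent.Helper3.NumType.QT5 T h2 1 0 1 0 1 (by norm_num) (by norm_num)
                linarith only [t, z02, ea04, eb04, ea24, eb24, hw0, hw2, hw4]
              · obtain ⟨ea24, eb24⟩ := e
                exfalso
                have t := Groth.Agent.Helper3.NumType.QT5 T h2 2 0 1 0 2 (by norm_num) (by norm_num)
                linarith only [t, z02, ea04, eb04, ea24, eb24, hw0, hw2, hw4]
              · obtain ⟨ea24, eb24⟩ := e
                exfalso
                have t := Groth.Agent.Helper3.NumType.QT5 T h2 1 0 1 0 1 (by norm_num) (by norm_num)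
                linarith only [t, z02, ea04, eb04, ea24, eb24, hw0, hw2, hw4]
              · obtain ⟨ea24, eb24⟩ := e
                exfalso
                have t := Groth.Agent.Helper3.NumType.QT5 T h2 1 0 1 0 2 (by norm_num) (by norm_num)
                linarith only [t, z02, ea04, eb04, ea24, eb24, hw0, hw2, hw4]
          · obtain ⟨ea23, eb23⟩ := e
            rcases eq_or_lt_of_le nn24 with z | hp24
            · have z24 : T.a 2 4 = 0 := z.symm
              rcases eq_or_lt_of_le nn34 with z | hp34
              · have z34 : T.a 3 4 = 0 := z.symm
                exfalso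
                obtain ⟨i, hi, j, hj, hij⟩ := T.connected ({0, 1, 4} : Finset (Fin 5)) (by decide) (by decide)
                fin_cases i <;> fin_cases j <;> first | exact absurd hi (by decide) | exact hj (by decide) | (apply hij; first | exact z02 | exact z03 | exact z12 | exact z13 | exact s42.trans z24 | exact s43.trans z34)
              · rcases Groth.Agent.Helper3.NumType.edge_casesT T h2 (by norm_num) (p := 3) (q := 4) (by decide) hp34 with e | e | e | e | e
                · obtain ⟨ea34, eb34⟩ := e
                  exfalso
                  have t := Groth.Agent.Helper3.NumType.QT5 T h2 0 0 3 2 1 (by norm_num) (by norm_num)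
                  linarith only [t, ea23, eb23, z24, ea34, eb34, hw2, hw3, hw4]
                · obtain ⟨ea34, eb34⟩ := e
                  exfalso
                  have t := Groth.Agent.Helper3.NumType.QT5 T h2 1 0 0 1 1 (by norm_num) (by norm_num)
                  linarith only [t, z03, ea04, eb04, ea34, eb34, hw0, hw3, hw4]
                · obtain ⟨ea34, eb34⟩ := e
                  exfalso
                  have t := Groth.Agent.Helper3.NumType.QT5 T h2 2 0 0 1 2 (by norm_num) (by norm_num)
                  linarith only [t, z03, ea04, eb04, ea34, eb34, hw0, hw3, hw4]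
                · obtain ⟨ea34, eb34⟩ := e
                  exfalso
                  have t := Groth.Agent.Helper3.NumType.QT5 T h2 1 0 0 1 1 (by norm_num) (by norm_num)
                  linarith only [t, z03, ea04, eb04, ea34, eb34, hw0, hw3, hw4]
                · obtain ⟨ea34, eb34⟩ := e
                  exfalso
                  have t := Groth.Agent.Helper3.NumType.QT5 T h2 1 0 0 1 2 (by norm_num) (by norm_num)
                  linarith only [t, z03, ea04, eb04, ea34, eb34, hw0, hw3, hw4]
            · rcases Groth.Agent.Helper3.NumType.edge_casesT T h2 (by norm_num) (p := 2) (q := 4) (by decide) hp24 with e | e | e | e | e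
              · obtain ⟨ea24, eb24⟩ := e
                exfalso
                have t := Groth.Agent.Helper3.NumType.QT5 T h2 0 0 2 1 1 (by norm_num) (by norm_num)
                linarith only [t, ea23, eb23, ea24, eb24, nn34, hw2, hw3, hw4]
              · obtain ⟨ea24, eb24⟩ := e
                exfalso
                have t := Groth.Agent.Helper3.NumType.QT5 T h2 1 0 1 0 1 (by norm_num) (by norm_num)
                linarith only [t, z02, ea04, eb04, ea24, eb24, hw0, hw2, hw4]
              · obtain ⟨ea24, eb24⟩ := e
                exfalso
                have t := Groth.Agent.Helper3.NumType.QT5 T h2 2 0 1 0 2 (by norm_num) (by norm_num)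
                linarith only [t, z02, ea04, eb04, ea24, eb24, hw0, hw2, hw4]
              · obtain ⟨ea24, eb24⟩ := e
                exfalso
                have t := Groth.Agent.Helper3.NumType.QT5 T h2 1 0 1 0 1 (by norm_num) (by norm_num)
                linarith only [t, z02, ea04, eb04, ea24, eb24, hw0, hw2, hw4]
              · obtain ⟨ea24, eb24⟩ := e
                exfalso
                have t := Groth.Agent.Helper3.NumType.QT5 T h2 1 0 1 0 2 (by norm_num) (by norm_num)
                linarith only [t, z02, ea04, eb04, ea24, eb24, hw0, hw2, hw4]
          · obtain ⟨ea23, eb23⟩ := e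
            rcases eq_or_lt_of_le nn24 with z | hp24
            · have z24 : T.a 2 4 = 0 := z.symm
              rcases eq_or_lt_of_le nn34 with z | hp34
              · have z34 : T.a 3 4 = 0 := z.symm
                exfalso
                obtain ⟨i, hi, j, hj, hij⟩ := T.connected ({0, 1, 4} : Finset (Fin 5)) (by decide) (by decide)
                fin_cases i <;> fin_cases j <;> first | exact absurd hi (by decide) | exact hj (by decide) | (apply hij; first | exact z02 | exact z03 | exact z12 | exact z13 | exact s42.trans z24 | exact s43.trans z34)
              · rcases Groth.Agent.Helper3.NumType.edge_casesT T h2 (by norm_num) (p := 3) (q := 4) (by decide) hp34 with e | e | e | e | e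
                · obtain ⟨ea34, eb34⟩ := e
                  exfalso
                  have t := Groth.Agent.Helper3.NumType.QT5 T h2 0 0 1 2 1 (by norm_num) (by norm_num)
                  linarith only [t, ea23, eb23, z24, ea34, eb34, hw2, hw3, hw4]
                · obtain ⟨ea34, eb34⟩ := e
                  exfalso
                  have t := Groth.Agent.Helper3.NumType.QT5 T h2 1 0 0 1 1 (by norm_num) (by norm_num)
                  linarith only [t, z03, ea04, eb04, ea34, eb34, hw0, hw3, hw4]
                · obtain ⟨ea34, eb34⟩ := e
                  exfalso
                  have t := Groth.Agent.Helper3.NumType.QT5 T h2 2 0 0 1 2 (by norm_num) (by norm_num)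
                  linarith only [t, z03, ea04, eb04, ea34, eb34, hw0, hw3, hw4]
                · obtain ⟨ea34, eb34⟩ := e
                  exfalso
                  have t := Groth.Agent.Helper3.NumType.QT5 T h2 1 0 0 1 1 (by norm_num) (by norm_num)
                  linarith only [t, z03, ea04, eb04, ea34, eb34, hw0, hw3, hw4]
                · obtain ⟨ea34, eb34⟩ := e
                  exfalso
                  have t := Groth.Agent.Helper3.NumType.QT5 T h2 1 0 0 1 2 (by norm_num) (by norm_num)
                  linarith only [t, z03, ea04, eb04, ea34, eb34, hw0, hw3, hw4]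
            · rcases Groth.Agent.Helper3.NumType.edge_casesT T h2 (by norm_num) (p := 2) (q := 4) (by decide) hp24 with e | e | e | e | e
              · obtain ⟨ea24, eb24⟩ := e
                exfalso
                have t := Groth.Agent.Helper3.NumType.QT5 T h2 0 0 2 3 1 (by norm_num) (by norm_num)
                linarith only [t, ea23, eb23, ea24, eb24, nn34, hw2, hw3, hw4]
              · obtain ⟨ea24, eb24⟩ := e
                exfalso
                have t := Groth.Agent.Helper3.NumType.QT5 T h2 1 0 1 0 1 (by norm_num) (by norm_num)
                linarith only [t, z02, ea04, eb04, ea24, eb24, hw0, hw2, hw4]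
              · obtain ⟨ea24, eb24⟩ := e
                exfalso
                have t := Groth.Agent.Helper3.NumType.QT5 T h2 2 0 1 0 2 (by norm_num) (by norm_num)
                linarith only [t, z02, ea04, eb04, ea24, eb24, hw0, hw2, hw4]
              · obtain ⟨ea24, eb24⟩ := e
                exfalso
                have t := Groth.Agent.Helper3.NumType.QT5 T h2 1 0 1 0 1 (by norm_num) (by norm_num)
                linarith only [t, z02, ea04, eb04, ea24, eb24, hw0, hw2, hw4]
              · obtain ⟨ea24, eb24⟩ := e
                exfalso
                have t := Groth.Agent.Helper3.NumType.QT5 T h2 1 0 1 0 2 (by norm_num) (by norm_num)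
                linarith only [t, z02, ea04, eb04, ea24, eb24, hw0, hw2, hw4]
      · obtain ⟨ea14, eb14⟩ := e
        exfalso
        have t := Groth.Agent.Helper3.NumType.QT5 T h2 1 1 0 0 1 (by norm_num) (by norm_num)
        linarith only [t, z01, ea04, eb04, ea14, eb14, hw0, hw1, hw4]
      · obtain ⟨ea14, eb14⟩ := e
        exfalso
        have t := Groth.Agent.Helper3.NumType.QT5 T h2 2 1 0 0 2 (by norm_num) (by norm_num)
        linarith only [t, z01, ea04, eb04, ea14, eb14, hw0, hw1, hw4]
      · obtain ⟨ea14, eb14⟩ := e
        exfalso
        have t := Groth.Agent.Helper3.NumType.QT5 T h2 1 1 0 0 1 (by norm_num) (by norm_num)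
        linarith only [t, z01, ea04, eb04, ea14, eb14, hw0, hw1, hw4]
      · obtain ⟨ea14, eb14⟩ := e
        exfalso
        have t := Groth.Agent.Helper3.NumType.QT5 T h2 1 1 0 0 2 (by norm_num) (by norm_num)
        linarith only [t, z01, ea04, eb04, ea14, eb14, hw0, hw1, hw4]
  · rcases Groth.Agent.Helper3.NumType.edge_casesT T h2 (by norm_num) (p := 1) (q := 3) (by decide) hp13 with e | e | e | e | e
    · obtain ⟨ea13, eb13⟩ := e
      rcases eq_or_lt_of_le nn14 with z | hp14
      · have z14 : T.a 1 4 = 0 := z.symm
        rcases eq_or_lt_of_le nn23 with z | hp23
        · have z23 : T.a 2 3 = 0 := z.symm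
          rcases eq_or_lt_of_le nn24 with z | hp24
          · have z24 : T.a 2 4 = 0 := z.symm
            exfalso
            obtain ⟨i, hi, j, hj, hij⟩ := T.connected ({2} : Finset (Fin 5)) (by decide) (by decide)
            fin_cases i <;> fin_cases j <;> first | exact absurd hi (by decide) | exact hj (by decide) | (apply hij; first | exact s20.trans z02 | exact s21.trans z12 | exact z23 | exact z24)
          · rcases Groth.Agent.Helper3.NumType.edge_casesT T h2 (by norm_num) (p := 2) (q := 4) (by decide) hp24 with e | e | e | e | e
            · obtain ⟨ea24, eb24⟩ := e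
              rcases eq_or_lt_of_le nn34 with z | hp34
              · have z34 : T.a 3 4 = 0 := z.symm
                exfalso
                obtain ⟨i, hi, j, hj, hij⟩ := T.connected ({0, 2, 4} : Finset (Fin 5)) (by decide) (by decide)
                fin_cases i <;> fin_cases j <;> first | exact absurd hi (by decide) | exact hj (by decide) | (apply hij; first | exact z01 | exact z03 | exact s21.trans z12 | exact z23 | exact s41.trans z14 | exact s43.trans z34)
              · rcases Groth.Agent.Helper3.NumType.edge_casesT T h2 (by norm_num) (p := 3) (q := 4) (by decide) hp34 with e | e | e | e | e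
                · obtain ⟨ea34, eb34⟩ := e
                  exfalso
                  have t := Groth.Agent.Helper3.NumType.QT5 T h2 2 0 1 1 2 (by norm_num) (by norm_num)
                  linarith only [t, z02, z03, ea04, eb04, z23, ea24, eb24, ea34, eb34, hw0, hw2, hw3, hw4]
                · obtain ⟨ea34, eb34⟩ := e
                  exfalso
                  have t := Groth.Agent.Helper3.NumType.QT5 T h2 1 0 0 1 1 (by norm_num) (by norm_num)
                  linarith only [t, z03, ea04, eb04, ea34, eb34, hw0, hw3, hw4]
                · obtain ⟨ea34, eb34⟩ := e
                  exfalso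
                  have t := Groth.Agent.Helper3.NumType.QT5 T h2 2 0 0 1 2 (by norm_num) (by norm_num)
                  linarith only [t, z03, ea04, eb04, ea34, eb34, hw0, hw3, hw4]
                · obtain ⟨ea34, eb34⟩ := e
                  exfalso
                  have t := Groth.Agent.Helper3.NumType.QT5 T h2 1 0 0 1 1 (by norm_num) (by norm_num)
                  linarith only [t, z03, ea04, eb04, ea34, eb34, hw0, hw3, hw4]
                · obtain ⟨ea34, eb34⟩ := e
                  exfalso
                  have t := Groth.Agent.Helper3.NumType.QT5 T h2 1 0 0 1 2 (by norm_num) (by norm_num)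
                  linarith only [t, z03, ea04, eb04, ea34, eb34, hw0, hw3, hw4]
            · obtain ⟨ea24, eb24⟩ := e
              exfalso
              have t := Groth.Agent.Helper3.NumType.QT5 T h2 1 0 1 0 1 (by norm_num) (by norm_num)
              linarith only [t, z02, ea04, eb04, ea24, eb24, hw0, hw2, hw4]
            · obtain ⟨ea24, eb24⟩ := e
              exfalso
              have t := Groth.Agent.Helper3.NumType.QT5 T h2 2 0 1 0 2 (by norm_num) (by norm_num)
              linarith only [t, z02, ea04, eb04, ea24, eb24, hw0, hw2, hw4]
            · obtain ⟨ea24, eb24⟩ := e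
              exfalso
              have t := Groth.Agent.Helper3.NumType.QT5 T h2 1 0 1 0 1 (by norm_num) (by norm_num)
              linarith only [t, z02, ea04, eb04, ea24, eb24, hw0, hw2, hw4]
            · obtain ⟨ea24, eb24⟩ := e
              exfalso
              have t := Groth.Agent.Helper3.NumType.QT5 T h2 1 0 1 0 2 (by norm_num) (by norm_num)
              linarith only [t, z02, ea04, eb04, ea24, eb24, hw0, hw2, hw4]
        · rcases Groth.Agent.Helper3.NumType.edge_casesT T h2 (by norm_num) (p := 2) (q := 3) (by decide) hp23 with e | e | e | e | e
          · obtain ⟨ea23, eb23⟩ := e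
            rcases eq_or_lt_of_le nn24 with z | hp24
            · have z24 : T.a 2 4 = 0 := z.symm
              rcases eq_or_lt_of_le nn34 with z | hp34
              · have z34 : T.a 3 4 = 0 := z.symm
                exfalso
                obtain ⟨i, hi, j, hj, hij⟩ := T.connected ({0, 4} : Finset (Fin 5)) (by decide) (by decide)
                fin_cases i <;> fin_cases j <;> first | exact absurd hi (by decide) | exact hj (by decide) | (apply hij; first | exact z01 | exact z02 | exact z03 | exact s41.trans z14 | exact s42.trans z24 | exact s43.trans z34)
              · rcases Groth.Agent.Helper3.NumType.edge_casesT T h2 (by norm_num) (p := 3) (q := 4) (by decide) hp34 with e | e | e | e | e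
                · obtain ⟨ea34, eb34⟩ := e
                  have hr0 : (-2) * T.m 0 + (2) * T.m 4 = 0 := by
                    have f4 : T.a 0 4 = 2 * T.w 0 := by linarith only [ea04, eb04]
                    have h : T.w 0 * ((-2) * T.m 0 + (2) * T.m 4) = 0 := by
                      rw [z01, z02, z03, f4] at r0
                      linarith only [r0]
                    rcases mul_eq_zero.mp h with h' | h'
                    · exfalso; linarith only [h', hw0]
                    · exact h'
                  have hr1 : (-2) * T.m 1 + (1) * T.m 3 = 0 := by
                    have f3 : T.a 1 3 = T.w 1 := by linarith only [ea13, eb13]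
                    have h : T.w 1 * ((-2) * T.m 1 + (1) * T.m 3) = 0 := by
                      rw [z01, z12, f3, z14] at r1
                      linarith only [r1]
                    rcases mul_eq_zero.mp h with h' | h'
                    · exfalso; linarith only [h', hw1]
                    · exact h'
                  have hr2 : (-2) * T.m 2 + (1) * T.m 3 = 0 := by
                    have f3 : T.a 2 3 = T.w 2 := by linarith only [ea23, eb23]
                    have h : T.w 2 * ((-2) * T.m 2 + (1) * T.m 3) = 0 := by
                      rw [z02, z12, f3, z24] at r2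
                      linarith only [r2]
                    rcases mul_eq_zero.mp h with h' | h'
                    · exfalso; linarith only [h', hw2]
                    · exact h'
                  have hr3 : (-2) * T.m 3 + (1) * T.m 1 + (1) * T.m 2 + (1) * T.m 4 = 0 := by
                    have f1 : T.a 1 3 = T.w 3 := by linarith only [ea13, eb13]
                    have f2 : T.a 2 3 = T.w 3 := by linarith only [ea23, eb23]
                    have f4 : T.a 3 4 = T.w 3 := by linarith only [ea34, eb34]
                    have h : T.w 3 * ((-2) * T.m 3 + (1) * T.m 1 + (1) * T.m 2 + (1) * T.m 4) = 0 := by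
                      rw [z03, f1, f2, f4] at r3
                      linarith only [r3]
                    rcases mul_eq_zero.mp h with h' | h'
                    · exfalso; linarith only [h', hw3]
                    · exact h'
                  have hr4 : (-2) * T.m 4 + (1) * T.m 0 + (1) * T.m 3 = 0 := by
                    have f0 : T.a 0 4 = T.w 4 := by linarith only [ea04, eb04]
                    have f3 : T.a 3 4 = T.w 4 := by linarith only [ea34, eb34]
                    have h : T.w 4 * ((-2) * T.m 4 + (1) * T.m 0 + (1) * T.m 3) = 0 := by
                      rw [f0, z14, z24, f3] at r4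
                      linarith only [r4]
                    rcases mul_eq_zero.mp h with h' | h'
                    · exfalso; linarith only [h', hw4]
                    · exact h'
                  have w1 : T.w 1 = 2 * T.w 0 := by linarith only [ea04, ea13, ea23, ea34]
                  have w2 : T.w 2 = 2 * T.w 0 := by linarith only [ea04, ea13, ea23, ea34]
                  have w3 : T.w 3 = 2 * T.w 0 := by linarith only [ea04, ea13, ea23, ea34]
                  have w4 : T.w 4 = 2 * T.w 0 := by linarith only [ea04, ea13, ea23, ea34]
                  have a04 : T.a 0 4 = 2 * T.w 0 := by linarith only [ea04, eb04, ea13, eb13, ea23, eb23, ea34, eb34]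
                  have a13 : T.a 1 3 = 2 * T.w 0 := by linarith only [ea04, eb04, ea13, eb13, ea23, eb23, ea34, eb34]
                  have a23 : T.a 2 3 = 2 * T.w 0 := by linarith only [ea04, eb04, ea13, eb13, ea23, eb23, ea34, eb34]
                  have a34 : T.a 3 4 = 2 * T.w 0 := by linarith only [ea04, eb04, ea13, eb13, ea23, eb23, ea34, eb34]
                  have m0 : T.m 0 = 2 * T.m 1 := by linarith only [hr0, hr1, hr2, hr3, hr4]
                  have m2 : T.m 2 = T.m 1 := by linarith only [hr0, hr1, hr2, hr3, hr4]
                  have m3 : T.m 3 = 2 * T.m 1 := by linarith only [hr0, hr1, hr2, hr3, hr4]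
                  have m4 : T.m 4 = 2 * T.m 1 := by linarith only [hr0, hr1, hr2, hr3, hr4]
                  refine ⟨Equiv.ofBijective ![0, 4, 3, 1, 2] (by decide), T.m 1, T.w 0, ?_⟩
                  simp only [Equiv.ofBijective_apply, Matrix.cons_val_zero, Matrix.cons_val_one, Matrix.cons_val]
                  refine Or.inr (Or.inr (Or.inr (Or.inr (Or.inr (Or.inr (Or.inr (Or.inr (⟨?_, ?_, ?_, ?_, ?_, ?_, ?_, ?_, ?_, ?_, ?_, ?_, ?_, ?_, ?_, ?_, ?_, ?_, ?_, ?_, ?_, ?_, ?_, ?_, ?_⟩))))))))
                  all_goals first | rfl | trivial | linarith only [w1, w2, w3, w4, z01, z02, z03, a04, z12, a13, z14, a23, z24, a34, m0, m2, m3, m4, d0, d1, d2, d3, d4, s10, s20, s30, s40, s21, s31, s41, s32, s42, s43]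
                · obtain ⟨ea34, eb34⟩ := e
                  exfalso
                  have t := Groth.Agent.Helper3.NumType.QT5 T h2 1 0 0 1 1 (by norm_num) (by norm_num)
                  linarith only [t, z03, ea04, eb04, ea34, eb34, hw0, hw3, hw4]
                · obtain ⟨ea34, eb34⟩ := e
                  exfalso
                  have t := Groth.Agent.Helper3.NumType.QT5 T h2 2 0 0 1 2 (by norm_num) (by norm_num)
                  linarith only [t, z03, ea04, eb04, ea34, eb34, hw0, hw3, hw4]
                · obtain ⟨ea34, eb34⟩ := e
                  exfalso
                  have t := Groth.Agent.Helper3.NumType.QT5 T h2 1 0 0 1 1 (by norm_num) (by norm_num)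
                  linarith only [t, z03, ea04, eb04, ea34, eb34, hw0, hw3, hw4]
                · obtain ⟨ea34, eb34⟩ := e
                  exfalso
                  have t := Groth.Agent.Helper3.NumType.QT5 T h2 1 0 0 1 2 (by norm_num) (by norm_num)
                  linarith only [t, z03, ea04, eb04, ea34, eb34, hw0, hw3, hw4]
            · rcases Groth.Agent.Helper3.NumType.edge_casesT T h2 (by norm_num) (p := 2) (q := 4) (by decide) hp24 with e | e | e | e | e
              · obtain ⟨ea24, eb24⟩ := e
                rcases eq_or_lt_of_le nn34 with z | hp34
                · have z34 : T.a 3 4 = 0 := z.symm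
                  have hr0 : (-2) * T.m 0 + (2) * T.m 4 = 0 := by
                    have f4 : T.a 0 4 = 2 * T.w 0 := by linarith only [ea04, eb04]
                    have h : T.w 0 * ((-2) * T.m 0 + (2) * T.m 4) = 0 := by
                      rw [z01, z02, z03, f4] at r0
                      linarith only [r0]
                    rcases mul_eq_zero.mp h with h' | h'
                    · exfalso; linarith only [h', hw0]
                    · exact h'
                  have hr1 : (-2) * T.m 1 + (1) * T.m 3 = 0 := by
                    have f3 : T.a 1 3 = T.w 1 := by linarith only [ea13, eb13]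
                    have h : T.w 1 * ((-2) * T.m 1 + (1) * T.m 3) = 0 := by
                      rw [z01, z12, f3, z14] at r1
                      linarith only [r1]
                    rcases mul_eq_zero.mp h with h' | h'
                    · exfalso; linarith only [h', hw1]
                    · exact h'
                  have hr2 : (-2) * T.m 2 + (1) * T.m 3 + (1) * T.m 4 = 0 := by
                    have f3 : T.a 2 3 = T.w 2 := by linarith only [ea23, eb23]
                    have f4 : T.a 2 4 = T.w 2 := by linarith only [ea24, eb24]
                    have h : T.w 2 * ((-2) * T.m 2 + (1) * T.m 3 + (1) * T.m 4) = 0 := by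
                      rw [z02, z12, f3, f4] at r2
                      linarith only [r2]
                    rcases mul_eq_zero.mp h with h' | h'
                    · exfalso; linarith only [h', hw2]
                    · exact h'
                  have hr3 : (-2) * T.m 3 + (1) * T.m 1 + (1) * T.m 2 = 0 := by
                    have f1 : T.a 1 3 = T.w 3 := by linarith only [ea13, eb13]
                    have f2 : T.a 2 3 = T.w 3 := by linarith only [ea23, eb23]
                    have h : T.w 3 * ((-2) * T.m 3 + (1) * T.m 1 + (1) * T.m 2) = 0 := by
                      rw [z03, f1, f2, z34] at r3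
                      linarith only [r3]
                    rcases mul_eq_zero.mp h with h' | h'
                    · exfalso; linarith only [h', hw3]
                    · exact h'
                  have hr4 : (-2) * T.m 4 + (1) * T.m 0 + (1) * T.m 2 = 0 := by
                    have f0 : T.a 0 4 = T.w 4 := by linarith only [ea04, eb04]
                    have f2 : T.a 2 4 = T.w 4 := by linarith only [ea24, eb24]
                    have h : T.w 4 * ((-2) * T.m 4 + (1) * T.m 0 + (1) * T.m 2) = 0 := by
                      rw [f0, z14, f2, z34] at r4
                      linarith only [r4]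
                    rcases mul_eq_zero.mp h with h' | h'
                    · exfalso; linarith only [h', hw4]
                    · exact h'
                  exfalso
                  linarith only [hr0, hr1, hr2, hr3, hr4, hm0, hm1, hm2, hm3, hm4]
                · rcases Groth.Agent.Helper3.NumType.edge_casesT T h2 (by norm_num) (p := 3) (q := 4) (by decide) hp34 with e | e | e | e | e
                  · obtain ⟨ea34, eb34⟩ := e
                    exfalso
                    have t := Groth.Agent.Helper3.NumType.QT5 T h2 0 0 1 1 1 (by norm_num) (by norm_num)
                    linarith only [t, ea23, eb23, ea24, eb24, ea34, eb34, hw2, hw3, hw4]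
                  · obtain ⟨ea34, eb34⟩ := e
                    exfalso
                    have t := Groth.Agent.Helper3.NumType.QT5 T h2 1 0 0 1 1 (by norm_num) (by norm_num)
                    linarith only [t, z03, ea04, eb04, ea34, eb34, hw0, hw3, hw4]
                  · obtain ⟨ea34, eb34⟩ := e
                    exfalso
                    have t := Groth.Agent.Helper3.NumType.QT5 T h2 2 0 0 1 2 (by norm_num) (by norm_num)
                    linarith only [t, z03, ea04, eb04, ea34, eb34, hw0, hw3, hw4]
                  · obtain ⟨ea34, eb34⟩ := e
                    exfalso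
                    have t := Groth.Agent.Helper3.NumType.QT5 T h2 1 0 0 1 1 (by norm_num) (by norm_num)
                    linarith only [t, z03, ea04, eb04, ea34, eb34, hw0, hw3, hw4]
                  · obtain ⟨ea34, eb34⟩ := e
                    exfalso
                    have t := Groth.Agent.Helper3.NumType.QT5 T h2 1 0 0 1 2 (by norm_num) (by norm_num)
                    linarith only [t, z03, ea04, eb04, ea34, eb34, hw0, hw3, hw4]
              · obtain ⟨ea24, eb24⟩ := e
                exfalso
                have t := Groth.Agent.Helper3.NumType.QT5 T h2 1 0 1 0 1 (by norm_num) (by norm_num)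
                linarith only [t, z02, ea04, eb04, ea24, eb24, hw0, hw2, hw4]
              · obtain ⟨ea24, eb24⟩ := e
                exfalso
                have t := Groth.Agent.Helper3.NumType.QT5 T h2 2 0 1 0 2 (by norm_num) (by norm_num)
                linarith only [t, z02, ea04, eb04, ea24, eb24, hw0, hw2, hw4]
              · obtain ⟨ea24, eb24⟩ := e
                exfalso
                have t := Groth.Agent.Helper3.NumType.QT5 T h2 1 0 1 0 1 (by norm_num) (by norm_num)
                linarith only [t, z02, ea04, eb04, ea24, eb24, hw0, hw2, hw4]
              · obtain ⟨ea24, eb24⟩ := e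
                exfalso
                have t := Groth.Agent.Helper3.NumType.QT5 T h2 1 0 1 0 2 (by norm_num) (by norm_num)
                linarith only [t, z02, ea04, eb04, ea24, eb24, hw0, hw2, hw4]
          · obtain ⟨ea23, eb23⟩ := e
            rcases eq_or_lt_of_le nn24 with z | hp24
            · have z24 : T.a 2 4 = 0 := z.symm
              rcases eq_or_lt_of_le nn34 with z | hp34
              · have z34 : T.a 3 4 = 0 := z.symm
                exfalso
                obtain ⟨i, hi, j, hj, hij⟩ := T.connected ({0, 4} : Finset (Fin 5)) (by decide) (by decide)
                fin_cases i <;> fin_cases j <;> first | exact absurd hi (by decide) | exact hj (by decide) | (apply hij; first | exact z01 | exact z02 | exact z03 | exact s41.trans z14 | exact s42.trans z24 | exact s43.trans z34)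
              · rcases Groth.Agent.Helper3.NumType.edge_casesT T h2 (by norm_num) (p := 3) (q := 4) (by decide) hp34 with e | e | e | e | e
                · obtain ⟨ea34, eb34⟩ := e
                  exfalso
                  have t := Groth.Agent.Helper3.NumType.QT5 T h2 1 0 1 1 1 (by norm_num) (by norm_num)
                  linarith only [t, z02, z03, ea04, eb04, ea23, eb23, z24, ea34, eb34, hw0, hw2, hw3, hw4]
                · obtain ⟨ea34, eb34⟩ := e
                  exfalso
                  have t := Groth.Agent.Helper3.NumType.QT5 T h2 1 0 0 1 1 (by norm_num) (by norm_num)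
                  linarith only [t, z03, ea04, eb04, ea34, eb34, hw0, hw3, hw4]
                · obtain ⟨ea34, eb34⟩ := e
                  exfalso
                  have t := Groth.Agent.Helper3.NumType.QT5 T h2 2 0 0 1 2 (by norm_num) (by norm_num)
                  linarith only [t, z03, ea04, eb04, ea34, eb34, hw0, hw3, hw4]
                · obtain ⟨ea34, eb34⟩ := e
                  exfalso
                  have t := Groth.Agent.Helper3.NumType.QT5 T h2 1 0 0 1 1 (by norm_num) (by norm_num)
                  linarith only [t, z03, ea04, eb04, ea34, eb34, hw0, hw3, hw4]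
                · obtain ⟨ea34, eb34⟩ := e
                  exfalso
                  have t := Groth.Agent.Helper3.NumType.QT5 T h2 1 0 0 1 2 (by norm_num) (by norm_num)
                  linarith only [t, z03, ea04, eb04, ea34, eb34, hw0, hw3, hw4]
            · rcases Groth.Agent.Helper3.NumType.edge_casesT T h2 (by norm_num) (p := 2) (q := 4) (by decide) hp24 with e | e | e | e | e
              · obtain ⟨ea24, eb24⟩ := e
                exfalso
                have t := Groth.Agent.Helper3.NumType.QT5 T h2 2 0 2 1 2 (by norm_num) (by norm_num)
                linarith only [t, z02, z03, ea04, eb04, ea23, eb23, ea24, eb24, nn34, hw0, hw2, hw3, hw4]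
              · obtain ⟨ea24, eb24⟩ := e
                exfalso
                have t := Groth.Agent.Helper3.NumType.QT5 T h2 1 0 1 0 1 (by norm_num) (by norm_num)
                linarith only [t, z02, ea04, eb04, ea24, eb24, hw0, hw2, hw4]
              · obtain ⟨ea24, eb24⟩ := e
                exfalso
                have t := Groth.Agent.Helper3.NumType.QT5 T h2 2 0 1 0 2 (by norm_num) (by norm_num)
                linarith only [t, z02, ea04, eb04, ea24, eb24, hw0, hw2, hw4]
              · obtain ⟨ea24, eb24⟩ := e
                exfalso
                have t := Groth.Agent.Helper3.NumType.QT5 T h2 1 0 1 0 1 (by norm_num) (by norm_num)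
                linarith only [t, z02, ea04, eb04, ea24, eb24, hw0, hw2, hw4]
              · obtain ⟨ea24, eb24⟩ := e
                exfalso
                have t := Groth.Agent.Helper3.NumType.QT5 T h2 1 0 1 0 2 (by norm_num) (by norm_num)
                linarith only [t, z02, ea04, eb04, ea24, eb24, hw0, hw2, hw4]
          · obtain ⟨ea23, eb23⟩ := e
            rcases eq_or_lt_of_le nn24 with z | hp24
            · have z24 : T.a 2 4 = 0 := z.symm
              rcases eq_or_lt_of_le nn34 with z | hp34
              · have z34 : T.a 3 4 = 0 := z.symm
                exfalso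
                obtain ⟨i, hi, j, hj, hij⟩ := T.connected ({0, 4} : Finset (Fin 5)) (by decide) (by decide)
                fin_cases i <;> fin_cases j <;> first | exact absurd hi (by decide) | exact hj (by decide) | (apply hij; first | exact z01 | exact z02 | exact z03 | exact s41.trans z14 | exact s42.trans z24 | exact s43.trans z34)
              · rcases Groth.Agent.Helper3.NumType.edge_casesT T h2 (by norm_num) (p := 3) (q := 4) (by decide) hp34 with e | e | e | e | e
                · obtain ⟨ea34, eb34⟩ := e
                  exfalso
                  have t := Groth.Agent.Helper3.NumType.QT5 T h2 2 0 1 2 2 (by norm_num) (by norm_num)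
                  linarith only [t, z02, z03, ea04, eb04, ea23, eb23, z24, ea34, eb34, hw0, hw2, hw3, hw4]
                · obtain ⟨ea34, eb34⟩ := e
                  exfalso
                  have t := Groth.Agent.Helper3.NumType.QT5 T h2 1 0 0 1 1 (by norm_num) (by norm_num)
                  linarith only [t, z03, ea04, eb04, ea34, eb34, hw0, hw3, hw4]
                · obtain ⟨ea34, eb34⟩ := e
                  exfalso
                  have t := Groth.Agent.Helper3.NumType.QT5 T h2 2 0 0 1 2 (by norm_num) (by norm_num)
                  linarith only [t, z03, ea04, eb04, ea34, eb34, hw0, hw3, hw4]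
                · obtain ⟨ea34, eb34⟩ := e
                  exfalso
                  have t := Groth.Agent.Helper3.NumType.QT5 T h2 1 0 0 1 1 (by norm_num) (by norm_num)
                  linarith only [t, z03, ea04, eb04, ea34, eb34, hw0, hw3, hw4]
                · obtain ⟨ea34, eb34⟩ := e
                  exfalso
                  have t := Groth.Agent.Helper3.NumType.QT5 T h2 1 0 0 1 2 (by norm_num) (by norm_num)
                  linarith only [t, z03, ea04, eb04, ea34, eb34, hw0, hw3, hw4]
            · rcases Groth.Agent.Helper3.NumType.edge_casesT T h2 (by norm_num) (p := 2) (q := 4) (by decide) hp24 with e | e | e | e | e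
              · obtain ⟨ea24, eb24⟩ := e
                exfalso
                have t := Groth.Agent.Helper3.NumType.QT5 T h2 1 0 1 1 1 (by norm_num) (by norm_num)
                linarith only [t, z02, z03, ea04, eb04, ea23, eb23, ea24, eb24, nn34, hw0, hw2, hw3, hw4]
              · obtain ⟨ea24, eb24⟩ := e
                exfalso
                have t := Groth.Agent.Helper3.NumType.QT5 T h2 1 0 1 0 1 (by norm_num) (by norm_num)
                linarith only [t, z02, ea04, eb04, ea24, eb24, hw0, hw2, hw4]
              · obtain ⟨ea24, eb24⟩ := e
                exfalso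
                have t := Groth.Agent.Helper3.NumType.QT5 T h2 2 0 1 0 2 (by norm_num) (by norm_num)
                linarith only [t, z02, ea04, eb04, ea24, eb24, hw0, hw2, hw4]
              · obtain ⟨ea24, eb24⟩ := e
                exfalso
                have t := Groth.Agent.Helper3.NumType.QT5 T h2 1 0 1 0 1 (by norm_num) (by norm_num)
                linarith only [t, z02, ea04, eb04, ea24, eb24, hw0, hw2, hw4]
              · obtain ⟨ea24, eb24⟩ := e
                exfalso
                have t := Groth.Agent.Helper3.NumType.QT5 T h2 1 0 1 0 2 (by norm_num) (by norm_num)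
                linarith only [t, z02, ea04, eb04, ea24, eb24, hw0, hw2, hw4]
          · obtain ⟨ea23, eb23⟩ := e
            exfalso
            have t := Groth.Agent.Helper3.NumType.QT5 T h2 0 1 3 2 0 (by norm_num) (by norm_num)
            linarith only [t, z12, ea13, eb13, ea23, eb23, hw1, hw2, hw3]
          · obtain ⟨ea23, eb23⟩ := e
            exfalso
            have t := Groth.Agent.Helper3.NumType.QT5 T h2 0 1 1 2 0 (by norm_num) (by norm_num)
            linarith only [t, z12, ea13, eb13, ea23, eb23, hw1, hw2, hw3]
      · rcases Groth.Agent.Helper3.NumType.edge_casesT T h2 (by norm_num) (p := 1) (q := 4) (by decide) hp14 with e | e | e | e | e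
        · obtain ⟨ea14, eb14⟩ := e
          rcases eq_or_lt_of_le nn23 with z | hp23
          · have z23 : T.a 2 3 = 0 := z.symm
            rcases eq_or_lt_of_le nn24 with z | hp24
            · have z24 : T.a 2 4 = 0 := z.symm
              exfalso
              obtain ⟨i, hi, j, hj, hij⟩ := T.connected ({0, 1, 3, 4} : Finset (Fin 5)) (by decide) (by decide)
              fin_cases i <;> fin_cases j <;> first | exact absurd hi (by decide) | exact hj (by decide) | (apply hij; first | exact z02 | exact z12 | exact s32.trans z23 | exact s42.trans z24)
            · rcases Groth.Agent.Helper3.NumType.edge_casesT T h2 (by norm_num) (p := 2) (q := 4) (by decide) hp24 with e | e | e | e | e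
              · obtain ⟨ea24, eb24⟩ := e
                exfalso
                have t := Groth.Agent.Helper3.NumType.QT5 T h2 2 1 1 0 2 (by norm_num) (by norm_num)
                linarith only [t, z01, z02, ea04, eb04, z12, ea14, eb14, ea24, eb24, hw0, hw1, hw2, hw4]
              · obtain ⟨ea24, eb24⟩ := e
                exfalso
                have t := Groth.Agent.Helper3.NumType.QT5 T h2 1 0 1 0 1 (by norm_num) (by norm_num)
                linarith only [t, z02, ea04, eb04, ea24, eb24, hw0, hw2, hw4]
              · obtain ⟨ea24, eb24⟩ := e
                exfalso
                have t := Groth.Agent.Helper3.NumType.QT5 T h2 2 0 1 0 2 (by norm_num) (by norm_num)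
                linarith only [t, z02, ea04, eb04, ea24, eb24, hw0, hw2, hw4]
              · obtain ⟨ea24, eb24⟩ := e
                exfalso
                have t := Groth.Agent.Helper3.NumType.QT5 T h2 1 0 1 0 1 (by norm_num) (by norm_num)
                linarith only [t, z02, ea04, eb04, ea24, eb24, hw0, hw2, hw4]
              · obtain ⟨ea24, eb24⟩ := e
                exfalso
                have t := Groth.Agent.Helper3.NumType.QT5 T h2 1 0 1 0 2 (by norm_num) (by norm_num)
                linarith only [t, z02, ea04, eb04, ea24, eb24, hw0, hw2, hw4]
          · rcases Groth.Agent.Helper3.NumType.edge_casesT T h2 (by norm_num) (p := 2) (q := 3) (by decide) hp23 with e | e | e | e | e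
            · obtain ⟨ea23, eb23⟩ := e
              rcases eq_or_lt_of_le nn24 with z | hp24
              · have z24 : T.a 2 4 = 0 := z.symm
                rcases eq_or_lt_of_le nn34 with z | hp34
                · have z34 : T.a 3 4 = 0 := z.symm
                  have hr0 : (-2) * T.m 0 + (2) * T.m 4 = 0 := by
                    have f4 : T.a 0 4 = 2 * T.w 0 := by linarith only [ea04, eb04]
                    have h : T.w 0 * ((-2) * T.m 0 + (2) * T.m 4) = 0 := by
                      rw [z01, z02, z03, f4] at r0
                      linarith only [r0]
                    rcases mul_eq_zero.mp h with h' | h'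
                    · exfalso; linarith only [h', hw0]
                    · exact h'
                  have hr1 : (-2) * T.m 1 + (1) * T.m 3 + (1) * T.m 4 = 0 := by
                    have f3 : T.a 1 3 = T.w 1 := by linarith only [ea13, eb13]
                    have f4 : T.a 1 4 = T.w 1 := by linarith only [ea14, eb14]
                    have h : T.w 1 * ((-2) * T.m 1 + (1) * T.m 3 + (1) * T.m 4) = 0 := by
                      rw [z01, z12, f3, f4] at r1
                      linarith only [r1]
                    rcases mul_eq_zero.mp h with h' | h'
                    · exfalso; linarith only [h', hw1]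
                    · exact h'
                  have hr2 : (-2) * T.m 2 + (1) * T.m 3 = 0 := by
                    have f3 : T.a 2 3 = T.w 2 := by linarith only [ea23, eb23]
                    have h : T.w 2 * ((-2) * T.m 2 + (1) * T.m 3) = 0 := by
                      rw [z02, z12, f3, z24] at r2
                      linarith only [r2]
                    rcases mul_eq_zero.mp h with h' | h'
                    · exfalso; linarith only [h', hw2]
                    · exact h'
                  have hr3 : (-2) * T.m 3 + (1) * T.m 1 + (1) * T.m 2 = 0 := by
                    have f1 : T.a 1 3 = T.w 3 := by linarith only [ea13, eb13]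
                    have f2 : T.a 2 3 = T.w 3 := by linarith only [ea23, eb23]
                    have h : T.w 3 * ((-2) * T.m 3 + (1) * T.m 1 + (1) * T.m 2) = 0 := by
                      rw [z03, f1, f2, z34] at r3
                      linarith only [r3]
                    rcases mul_eq_zero.mp h with h' | h'
                    · exfalso; linarith only [h', hw3]
                    · exact h'
                  have hr4 : (-2) * T.m 4 + (1) * T.m 0 + (1) * T.m 1 = 0 := by
                    have f0 : T.a 0 4 = T.w 4 := by linarith only [ea04, eb04]
                    have f1 : T.a 1 4 = T.w 4 := by linarith only [ea14, eb14]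
                    have h : T.w 4 * ((-2) * T.m 4 + (1) * T.m 0 + (1) * T.m 1) = 0 := by
                      rw [f0, f1, z24, z34] at r4
                      linarith only [r4]
                    rcases mul_eq_zero.mp h with h' | h'
                    · exfalso; linarith only [h', hw4]
                    · exact h'
                  exfalso
                  linarith only [hr0, hr1, hr2, hr3, hr4, hm0, hm1, hm2, hm3, hm4]
                · rcases Groth.Agent.Helper3.NumType.edge_casesT T h2 (by norm_num) (p := 3) (q := 4) (by decide) hp34 with e | e | e | e | e
                  · obtain ⟨ea34, eb34⟩ := e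
                    exfalso
                    have t := Groth.Agent.Helper3.NumType.QT5 T h2 0 1 0 1 1 (by norm_num) (by norm_num)
                    linarith only [t, ea13, eb13, ea14, eb14, ea34, eb34, hw1, hw3, hw4]
                  · obtain ⟨ea34, eb34⟩ := e
                    exfalso
                    have t := Groth.Agent.Helper3.NumType.QT5 T h2 1 0 0 1 1 (by norm_num) (by norm_num)
                    linarith only [t, z03, ea04, eb04, ea34, eb34, hw0, hw3, hw4]
                  · obtain ⟨ea34, eb34⟩ := e
                    exfalso
                    have t := Groth.Agent.Helper3.NumType.QT5 T h2 2 0 0 1 2 (by norm_num) (by norm_num)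
                    linarith only [t, z03, ea04, eb04, ea34, eb34, hw0, hw3, hw4]
                  · obtain ⟨ea34, eb34⟩ := e
                    exfalso
                    have t := Groth.Agent.Helper3.NumType.QT5 T h2 1 0 0 1 1 (by norm_num) (by norm_num)
                    linarith only [t, z03, ea04, eb04, ea34, eb34, hw0, hw3, hw4]
                  · obtain ⟨ea34, eb34⟩ := e
                    exfalso
                    have t := Groth.Agent.Helper3.NumType.QT5 T h2 1 0 0 1 2 (by norm_num) (by norm_num)
                    linarith only [t, z03, ea04, eb04, ea34, eb34, hw0, hw3, hw4]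
              · rcases Groth.Agent.Helper3.NumType.edge_casesT T h2 (by norm_num) (p := 2) (q := 4) (by decide) hp24 with e | e | e | e | e
                · obtain ⟨ea24, eb24⟩ := e
                  exfalso
                  have t := Groth.Agent.Helper3.NumType.QT5 T h2 2 1 1 0 2 (by norm_num) (by norm_num)
                  linarith only [t, z01, z02, ea04, eb04, z12, ea14, eb14, ea24, eb24, hw0, hw1, hw2, hw4]
                · obtain ⟨ea24, eb24⟩ := e
                  exfalso
                  have t := Groth.Agent.Helper3.NumType.QT5 T h2 1 0 1 0 1 (by norm_num) (by norm_num)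
                  linarith only [t, z02, ea04, eb04, ea24, eb24, hw0, hw2, hw4]
                · obtain ⟨ea24, eb24⟩ := e
                  exfalso
                  have t := Groth.Agent.Helper3.NumType.QT5 T h2 2 0 1 0 2 (by norm_num) (by norm_num)
                  linarith only [t, z02, ea04, eb04, ea24, eb24, hw0, hw2, hw4]
                · obtain ⟨ea24, eb24⟩ := e
                  exfalso
                  have t := Groth.Agent.Helper3.NumType.QT5 T h2 1 0 1 0 1 (by norm_num) (by norm_num)
                  linarith only [t, z02, ea04, eb04, ea24, eb24, hw0, hw2, hw4]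
                · obtain ⟨ea24, eb24⟩ := e
                  exfalso
                  have t := Groth.Agent.Helper3.NumType.QT5 T h2 1 0 1 0 2 (by norm_num) (by norm_num)
                  linarith only [t, z02, ea04, eb04, ea24, eb24, hw0, hw2, hw4]
            · obtain ⟨ea23, eb23⟩ := e
              rcases eq_or_lt_of_le nn24 with z | hp24
              · have z24 : T.a 2 4 = 0 := z.symm
                rcases eq_or_lt_of_le nn34 with z | hp34
                · have z34 : T.a 3 4 = 0 := z.symm
                  have hr0 : (-2) * T.m 0 + (2) * T.m 4 = 0 := by
                    have f4 : T.a 0 4 = 2 * T.w 0 := by linarith only [ea04, eb04]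
                    have h : T.w 0 * ((-2) * T.m 0 + (2) * T.m 4) = 0 := by
                      rw [z01, z02, z03, f4] at r0
                      linarith only [r0]
                    rcases mul_eq_zero.mp h with h' | h'
                    · exfalso; linarith only [h', hw0]
                    · exact h'
                  have hr1 : (-2) * T.m 1 + (1) * T.m 3 + (1) * T.m 4 = 0 := by
                    have f3 : T.a 1 3 = T.w 1 := by linarith only [ea13, eb13]
                    have f4 : T.a 1 4 = T.w 1 := by linarith only [ea14, eb14]
                    have h : T.w 1 * ((-2) * T.m 1 + (1) * T.m 3 + (1) * T.m 4) = 0 := by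
                      rw [z01, z12, f3, f4] at r1
                      linarith only [r1]
                    rcases mul_eq_zero.mp h with h' | h'
                    · exfalso; linarith only [h', hw1]
                    · exact h'
                  have hr2 : (-2) * T.m 2 + (2) * T.m 3 = 0 := by
                    have f3 : T.a 2 3 = 2 * T.w 2 := by linarith only [ea23, eb23]
                    have h : T.w 2 * ((-2) * T.m 2 + (2) * T.m 3) = 0 := by
                      rw [z02, z12, f3, z24] at r2
                      linarith only [r2]
                    rcases mul_eq_zero.mp h with h' | h'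
                    · exfalso; linarith only [h', hw2]
                    · exact h'
                  have hr3 : (-2) * T.m 3 + (1) * T.m 1 + (1) * T.m 2 = 0 := by
                    have f1 : T.a 1 3 = T.w 3 := by linarith only [ea13, eb13]
                    have f2 : T.a 2 3 = T.w 3 := by linarith only [ea23, eb23]
                    have h : T.w 3 * ((-2) * T.m 3 + (1) * T.m 1 + (1) * T.m 2) = 0 := by
                      rw [z03, f1, f2, z34] at r3
                      linarith only [r3]
                    rcases mul_eq_zero.mp h with h' | h'
                    · exfalso; linarith only [h', hw3]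
                    · exact h'
                  have hr4 : (-2) * T.m 4 + (1) * T.m 0 + (1) * T.m 1 = 0 := by
                    have f0 : T.a 0 4 = T.w 4 := by linarith only [ea04, eb04]
                    have f1 : T.a 1 4 = T.w 4 := by linarith only [ea14, eb14]
                    have h : T.w 4 * ((-2) * T.m 4 + (1) * T.m 0 + (1) * T.m 1) = 0 := by
                      rw [f0, f1, z24, z34] at r4
                      linarith only [r4]
                    rcases mul_eq_zero.mp h with h' | h'
                    · exfalso; linarith only [h', hw4]
                    · exact h'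
                  have w1 : T.w 1 = 2 * T.w 0 := by linarith only [ea04, ea13, ea14, ea23]
                  have w2 : T.w 2 = T.w 0 := by linarith only [ea04, ea13, ea14, ea23]
                  have w3 : T.w 3 = 2 * T.w 0 := by linarith only [ea04, ea13, ea14, ea23]
                  have w4 : T.w 4 = 2 * T.w 0 := by linarith only [ea04, ea13, ea14, ea23]
                  have a04 : T.a 0 4 = 2 * T.w 0 := by linarith only [ea04, eb04, ea13, eb13, ea14, eb14, ea23, eb23]
                  have a13 : T.a 1 3 = 2 * T.w 0 := by linarith only [ea04, eb04, ea13, eb13, ea14, eb14, ea23, eb23]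
                  have a14 : T.a 1 4 = 2 * T.w 0 := by linarith only [ea04, eb04, ea13, eb13, ea14, eb14, ea23, eb23]
                  have a23 : T.a 2 3 = 2 * T.w 0 := by linarith only [ea04, eb04, ea13, eb13, ea14, eb14, ea23, eb23]
                  have m1 : T.m 1 = T.m 0 := by linarith only [hr0, hr1, hr2, hr3, hr4]
                  have m2 : T.m 2 = T.m 0 := by linarith only [hr0, hr1, hr2, hr3, hr4]
                  have m3 : T.m 3 = T.m 0 := by linarith only [hr0, hr1, hr2, hr3, hr4]
                  have m4 : T.m 4 = T.m 0 := by linarith only [hr0, hr1, hr2, hr3, hr4]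
                  refine ⟨Equiv.ofBijective ![0, 4, 1, 3, 2] (by decide), T.m 0, T.w 0, ?_⟩
                  simp only [Equiv.ofBijective_apply, Matrix.cons_val_zero, Matrix.cons_val_one, Matrix.cons_val]
                  refine Or.inr (Or.inr (Or.inr (Or.inr (Or.inl ⟨?_, ?_, ?_, ?_, ?_, ?_, ?_, ?_, ?_, ?_, ?_, ?_, ?_, ?_, ?_, ?_, ?_, ?_, ?_, ?_, ?_, ?_, ?_, ?_, ?_⟩))))
                  all_goals first | rfl | trivial | linarith only [w1, w2, w3, w4, z01, z02, z03, a04, z12, a13, a14, a23, z24, z34, m1, m2, m3, m4, d0, d1, d2, d3, d4, s10, s20, s30, s40, s21, s31, s41, s32, s42, s43]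
                · rcases Groth.Agent.Helper3.NumType.edge_casesT T h2 (by norm_num) (p := 3) (q := 4) (by decide) hp34 with e | e | e | e | e
                  · obtain ⟨ea34, eb34⟩ := e
                    exfalso
                    have t := Groth.Agent.Helper3.NumType.QT5 T h2 0 1 0 1 1 (by norm_num) (by norm_num)
                    linarith only [t, ea13, eb13, ea14, eb14, ea34, eb34, hw1, hw3, hw4]
                  · obtain ⟨ea34, eb34⟩ := e
                    exfalso
                    have t := Groth.Agent.Helper3.NumType.QT5 T h2 1 0 0 1 1 (by norm_num) (by norm_num)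
                    linarith only [t, z03, ea04, eb04, ea34, eb34, hw0, hw3, hw4]
                  · obtain ⟨ea34, eb34⟩ := e
                    exfalso
                    have t := Groth.Agent.Helper3.NumType.QT5 T h2 2 0 0 1 2 (by norm_num) (by norm_num)
                    linarith only [t, z03, ea04, eb04, ea34, eb34, hw0, hw3, hw4]
                  · obtain ⟨ea34, eb34⟩ := e
                    exfalso
                    have t := Groth.Agent.Helper3.NumType.QT5 T h2 1 0 0 1 1 (by norm_num) (by norm_num)
                    linarith only [t, z03, ea04, eb04, ea34, eb34, hw0, hw3, hw4]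
                  · obtain ⟨ea34, eb34⟩ := e
                    exfalso
                    have t := Groth.Agent.Helper3.NumType.QT5 T h2 1 0 0 1 2 (by norm_num) (by norm_num)
                    linarith only [t, z03, ea04, eb04, ea34, eb34, hw0, hw3, hw4]
              · rcases Groth.Agent.Helper3.NumType.edge_casesT T h2 (by norm_num) (p := 2) (q := 4) (by decide) hp24 with e | e | e | e | e
                · obtain ⟨ea24, eb24⟩ := e
                  exfalso
                  have t := Groth.Agent.Helper3.NumType.QT5 T h2 2 1 1 0 2 (by norm_num) (by norm_num)
                  linarith only [t, z01, z02, ea04, eb04, z12, ea14, eb14, ea24, eb24, hw0, hw1, hw2, hw4]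
                · obtain ⟨ea24, eb24⟩ := e
                  exfalso
                  have t := Groth.Agent.Helper3.NumType.QT5 T h2 1 0 1 0 1 (by norm_num) (by norm_num)
                  linarith only [t, z02, ea04, eb04, ea24, eb24, hw0, hw2, hw4]
                · obtain ⟨ea24, eb24⟩ := e
                  exfalso
                  have t := Groth.Agent.Helper3.NumType.QT5 T h2 2 0 1 0 2 (by norm_num) (by norm_num)
                  linarith only [t, z02, ea04, eb04, ea24, eb24, hw0, hw2, hw4]
                · obtain ⟨ea24, eb24⟩ := e
                  exfalso
                  have t := Groth.Agent.Helper3.NumType.QT5 T h2 1 0 1 0 1 (by norm_num) (by norm_num)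
                  linarith only [t, z02, ea04, eb04, ea24, eb24, hw0, hw2, hw4]
                · obtain ⟨ea24, eb24⟩ := e
                  exfalso
                  have t := Groth.Agent.Helper3.NumType.QT5 T h2 1 0 1 0 2 (by norm_num) (by norm_num)
                  linarith only [t, z02, ea04, eb04, ea24, eb24, hw0, hw2, hw4]
            · obtain ⟨ea23, eb23⟩ := e
              rcases eq_or_lt_of_le nn24 with z | hp24
              · have z24 : T.a 2 4 = 0 := z.symm
                rcases eq_or_lt_of_le nn34 with z | hp34
                · have z34 : T.a 3 4 = 0 := z.symm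
                  have hr0 : (-2) * T.m 0 + (2) * T.m 4 = 0 := by
                    have f4 : T.a 0 4 = 2 * T.w 0 := by linarith only [ea04, eb04]
                    have h : T.w 0 * ((-2) * T.m 0 + (2) * T.m 4) = 0 := by
                      rw [z01, z02, z03, f4] at r0
                      linarith only [r0]
                    rcases mul_eq_zero.mp h with h' | h'
                    · exfalso; linarith only [h', hw0]
                    · exact h'
                  have hr1 : (-2) * T.m 1 + (1) * T.m 3 + (1) * T.m 4 = 0 := by
                    have f3 : T.a 1 3 = T.w 1 := by linarith only [ea13, eb13]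
                    have f4 : T.a 1 4 = T.w 1 := by linarith only [ea14, eb14]
                    have h : T.w 1 * ((-2) * T.m 1 + (1) * T.m 3 + (1) * T.m 4) = 0 := by
                      rw [z01, z12, f3, f4] at r1
                      linarith only [r1]
                    rcases mul_eq_zero.mp h with h' | h'
                    · exfalso; linarith only [h', hw1]
                    · exact h'
                  have hr2 : (-2) * T.m 2 + (1) * T.m 3 = 0 := by
                    have f3 : T.a 2 3 = T.w 2 := by linarith only [ea23, eb23]
                    have h : T.w 2 * ((-2) * T.m 2 + (1) * T.m 3) = 0 := by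
                      rw [z02, z12, f3, z24] at r2
                      linarith only [r2]
                    rcases mul_eq_zero.mp h with h' | h'
                    · exfalso; linarith only [h', hw2]
                    · exact h'
                  have hr3 : (-2) * T.m 3 + (1) * T.m 1 + (2) * T.m 2 = 0 := by
                    have f1 : T.a 1 3 = T.w 3 := by linarith only [ea13, eb13]
                    have f2 : T.a 2 3 = 2 * T.w 3 := by linarith only [ea23, eb23]
                    have h : T.w 3 * ((-2) * T.m 3 + (1) * T.m 1 + (2) * T.m 2) = 0 := by
                      rw [z03, f1, f2, z34] at r3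
                      linarith only [r3]
                    rcases mul_eq_zero.mp h with h' | h'
                    · exfalso; linarith only [h', hw3]
                    · exact h'
                  have hr4 : (-2) * T.m 4 + (1) * T.m 0 + (1) * T.m 1 = 0 := by
                    have f0 : T.a 0 4 = T.w 4 := by linarith only [ea04, eb04]
                    have f1 : T.a 1 4 = T.w 4 := by linarith only [ea14, eb14]
                    have h : T.w 4 * ((-2) * T.m 4 + (1) * T.m 0 + (1) * T.m 1) = 0 := by
                      rw [f0, f1, z24, z34] at r4
                      linarith only [r4]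
                    rcases mul_eq_zero.mp h with h' | h'
                    · exfalso; linarith only [h', hw4]
                    · exact h'
                  have w1 : T.w 1 = 2 * T.w 0 := by linarith only [ea04, ea13, ea14, ea23]
                  have w2 : T.w 2 = 4 * T.w 0 := by linarith only [ea04, ea13, ea14, ea23]
                  have w3 : T.w 3 = 2 * T.w 0 := by linarith only [ea04, ea13, ea14, ea23]
                  have w4 : T.w 4 = 2 * T.w 0 := by linarith only [ea04, ea13, ea14, ea23]
                  have a04 : T.a 0 4 = 2 * T.w 0 := by linarith only [ea04, eb04, ea13, eb13, ea14, eb14, ea23, eb23]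
                  have a13 : T.a 1 3 = 2 * T.w 0 := by linarith only [ea04, eb04, ea13, eb13, ea14, eb14, ea23, eb23]
                  have a14 : T.a 1 4 = 2 * T.w 0 := by linarith only [ea04, eb04, ea13, eb13, ea14, eb14, ea23, eb23]
                  have a23 : T.a 2 3 = 4 * T.w 0 := by linarith only [ea04, eb04, ea13, eb13, ea14, eb14, ea23, eb23]
                  have m0 : T.m 0 = 2 * T.m 2 := by linarith only [hr0, hr1, hr2, hr3, hr4]
                  have m1 : T.m 1 = 2 * T.m 2 := by linarith only [hr0, hr1, hr2, hr3, hr4]
                  have m3 : T.m 3 = 2 * T.m 2 := by linarith only [hr0, hr1, hr2, hr3, hr4]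
                  have m4 : T.m 4 = 2 * T.m 2 := by linarith only [hr0, hr1, hr2, hr3, hr4]
                  refine ⟨Equiv.ofBijective ![0, 4, 1, 3, 2] (by decide), T.m 2, T.w 0, ?_⟩
                  simp only [Equiv.ofBijective_apply, Matrix.cons_val_zero, Matrix.cons_val_one, Matrix.cons_val]
                  refine Or.inr (Or.inr (Or.inr (Or.inl ⟨?_, ?_, ?_, ?_, ?_, ?_, ?_, ?_, ?_, ?_, ?_, ?_, ?_, ?_, ?_, ?_, ?_, ?_, ?_, ?_, ?_, ?_, ?_, ?_, ?_⟩)))
                  all_goals first | rfl | trivial | linarith only [w1, w2, w3, w4, z01, z02, z03, a04, z12, a13, a14, a23, z24, z34, m0, m1, m3, m4, d0, d1, d2, d3, d4, s10, s20, s30, s40, s21, s31, s41, s32, s42, s43]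
                · rcases Groth.Agent.Helper3.NumType.edge_casesT T h2 (by norm_num) (p := 3) (q := 4) (by decide) hp34 with e | e | e | e | e
                  · obtain ⟨ea34, eb34⟩ := e
                    exfalso
                    have t := Groth.Agent.Helper3.NumType.QT5 T h2 0 1 0 1 1 (by norm_num) (by norm_num)
                    linarith only [t, ea13, eb13, ea14, eb14, ea34, eb34, hw1, hw3, hw4]
                  · obtain ⟨ea34, eb34⟩ := e
                    exfalso
                    have t := Groth.Agent.Helper3.NumType.QT5 T h2 1 0 0 1 1 (by norm_num) (by norm_num)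
                    linarith only [t, z03, ea04, eb04, ea34, eb34, hw0, hw3, hw4]
                  · obtain ⟨ea34, eb34⟩ := e
                    exfalso
                    have t := Groth.Agent.Helper3.NumType.QT5 T h2 2 0 0 1 2 (by norm_num) (by norm_num)
                    linarith only [t, z03, ea04, eb04, ea34, eb34, hw0, hw3, hw4]
                  · obtain ⟨ea34, eb34⟩ := e
                    exfalso
                    have t := Groth.Agent.Helper3.NumType.QT5 T h2 1 0 0 1 1 (by norm_num) (by norm_num)
                    linarith only [t, z03, ea04, eb04, ea34, eb34, hw0, hw3, hw4]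
                  · obtain ⟨ea34, eb34⟩ := e
                    exfalso
                    have t := Groth.Agent.Helper3.NumType.QT5 T h2 1 0 0 1 2 (by norm_num) (by norm_num)
                    linarith only [t, z03, ea04, eb04, ea34, eb34, hw0, hw3, hw4]
              · rcases Groth.Agent.Helper3.NumType.edge_casesT T h2 (by norm_num) (p := 2) (q := 4) (by decide) hp24 with e | e | e | e | e
                · obtain ⟨ea24, eb24⟩ := e
                  exfalso
                  have t := Groth.Agent.Helper3.NumType.QT5 T h2 2 1 1 0 2 (by norm_num) (by norm_num)
                  linarith only [t, z01, z02, ea04, eb04, z12, ea14, eb14, ea24, eb24, hw0, hw1, hw2, hw4]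
                · obtain ⟨ea24, eb24⟩ := e
                  exfalso
                  have t := Groth.Agent.Helper3.NumType.QT5 T h2 1 0 1 0 1 (by norm_num) (by norm_num)
                  linarith only [t, z02, ea04, eb04, ea24, eb24, hw0, hw2, hw4]
                · obtain ⟨ea24, eb24⟩ := e
                  exfalso
                  have t := Groth.Agent.Helper3.NumType.QT5 T h2 2 0 1 0 2 (by norm_num) (by norm_num)
                  linarith only [t, z02, ea04, eb04, ea24, eb24, hw0, hw2, hw4]
                · obtain ⟨ea24, eb24⟩ := e
                  exfalso
                  have t := Groth.Agent.Helper3.NumType.QT5 T h2 1 0 1 0 1 (by norm_num) (by norm_num)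
                  linarith only [t, z02, ea04, eb04, ea24, eb24, hw0, hw2, hw4]
                · obtain ⟨ea24, eb24⟩ := e
                  exfalso
                  have t := Groth.Agent.Helper3.NumType.QT5 T h2 1 0 1 0 2 (by norm_num) (by norm_num)
                  linarith only [t, z02, ea04, eb04, ea24, eb24, hw0, hw2, hw4]
            · obtain ⟨ea23, eb23⟩ := e
              exfalso
              have t := Groth.Agent.Helper3.NumType.QT5 T h2 0 1 3 2 0 (by norm_num) (by norm_num)
              linarith only [t, z12, ea13, eb13, ea23, eb23, hw1, hw2, hw3]
            · obtain ⟨ea23, eb23⟩ := e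
              exfalso
              have t := Groth.Agent.Helper3.NumType.QT5 T h2 0 1 1 2 0 (by norm_num) (by norm_num)
              linarith only [t, z12, ea13, eb13, ea23, eb23, hw1, hw2, hw3]
        · obtain ⟨ea14, eb14⟩ := e
          exfalso
          have t := Groth.Agent.Helper3.NumType.QT5 T h2 1 1 0 0 1 (by norm_num) (by norm_num)
          linarith only [t, z01, ea04, eb04, ea14, eb14, hw0, hw1, hw4]
        · obtain ⟨ea14, eb14⟩ := e
          exfalso
          have t := Groth.Agent.Helper3.NumType.QT5 T h2 2 1 0 0 2 (by norm_num) (by norm_num)
          linarith only [t, z01, ea04, eb04, ea14, eb14, hw0, hw1, hw4]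
        · obtain ⟨ea14, eb14⟩ := e
          exfalso
          have t := Groth.Agent.Helper3.NumType.QT5 T h2 1 1 0 0 1 (by norm_num) (by norm_num)
          linarith only [t, z01, ea04, eb04, ea14, eb14, hw0, hw1, hw4]
        · obtain ⟨ea14, eb14⟩ := e
          exfalso
          have t := Groth.Agent.Helper3.NumType.QT5 T h2 1 1 0 0 2 (by norm_num) (by norm_num)
          linarith only [t, z01, ea04, eb04, ea14, eb14, hw0, hw1, hw4]
    · obtain ⟨ea13, eb13⟩ := e
      rcases eq_or_lt_of_le nn14 with z | hp14
      · have z14 : T.a 1 4 = 0 := z.symm
        rcases eq_or_lt_of_le nn23 with z | hp23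
        · have z23 : T.a 2 3 = 0 := z.symm
          rcases eq_or_lt_of_le nn24 with z | hp24
          · have z24 : T.a 2 4 = 0 := z.symm
            exfalso
            obtain ⟨i, hi, j, hj, hij⟩ := T.connected ({2} : Finset (Fin 5)) (by decide) (by decide)
            fin_cases i <;> fin_cases j <;> first | exact absurd hi (by decide) | exact hj (by decide) | (apply hij; first | exact s20.trans z02 | exact s21.trans z12 | exact z23 | exact z24)
          · rcases Groth.Agent.Helper3.NumType.edge_casesT T h2 (by norm_num) (p := 2) (q := 4) (by decide) hp24 with e | e | e | e | e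
            · obtain ⟨ea24, eb24⟩ := e
              rcases eq_or_lt_of_le nn34 with z | hp34
              · have z34 : T.a 3 4 = 0 := z.symm
                exfalso
                obtain ⟨i, hi, j, hj, hij⟩ := T.connected ({0, 2, 4} : Finset (Fin 5)) (by decide) (by decide)
                fin_cases i <;> fin_cases j <;> first | exact absurd hi (by decide) | exact hj (by decide) | (apply hij; first | exact z01 | exact z03 | exact s21.trans z12 | exact z23 | exact s41.trans z14 | exact s43.trans z34)
              · rcases Groth.Agent.Helper3.NumType.edge_casesT T h2 (by norm_num) (p := 3) (q := 4) (by decide) hp34 with e | e | e | e | e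
                · obtain ⟨ea34, eb34⟩ := e
                  exfalso
                  have t := Groth.Agent.Helper3.NumType.QT5 T h2 1 1 0 1 1 (by norm_num) (by norm_num)
                  linarith only [t, z01, z03, ea04, eb04, ea13, eb13, z14, ea34, eb34, hw0, hw1, hw3, hw4]
                · obtain ⟨ea34, eb34⟩ := e
                  exfalso
                  have t := Groth.Agent.Helper3.NumType.QT5 T h2 1 0 0 1 1 (by norm_num) (by norm_num)
                  linarith only [t, z03, ea04, eb04, ea34, eb34, hw0, hw3, hw4]
                · obtain ⟨ea34, eb34⟩ := e
                  exfalso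
                  have t := Groth.Agent.Helper3.NumType.QT5 T h2 2 0 0 1 2 (by norm_num) (by norm_num)
                  linarith only [t, z03, ea04, eb04, ea34, eb34, hw0, hw3, hw4]
                · obtain ⟨ea34, eb34⟩ := e
                  exfalso
                  have t := Groth.Agent.Helper3.NumType.QT5 T h2 1 0 0 1 1 (by norm_num) (by norm_num)
                  linarith only [t, z03, ea04, eb04, ea34, eb34, hw0, hw3, hw4]
                · obtain ⟨ea34, eb34⟩ := e
                  exfalso
                  have t := Groth.Agent.Helper3.NumType.QT5 T h2 1 0 0 1 2 (by norm_num) (by norm_num)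
                  linarith only [t, z03, ea04, eb04, ea34, eb34, hw0, hw3, hw4]
            · obtain ⟨ea24, eb24⟩ := e
              exfalso
              have t := Groth.Agent.Helper3.NumType.QT5 T h2 1 0 1 0 1 (by norm_num) (by norm_num)
              linarith only [t, z02, ea04, eb04, ea24, eb24, hw0, hw2, hw4]
            · obtain ⟨ea24, eb24⟩ := e
              exfalso
              have t := Groth.Agent.Helper3.NumType.QT5 T h2 2 0 1 0 2 (by norm_num) (by norm_num)
              linarith only [t, z02, ea04, eb04, ea24, eb24, hw0, hw2, hw4]
            · obtain ⟨ea24, eb24⟩ := e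
              exfalso
              have t := Groth.Agent.Helper3.NumType.QT5 T h2 1 0 1 0 1 (by norm_num) (by norm_num)
              linarith only [t, z02, ea04, eb04, ea24, eb24, hw0, hw2, hw4]
            · obtain ⟨ea24, eb24⟩ := e
              exfalso
              have t := Groth.Agent.Helper3.NumType.QT5 T h2 1 0 1 0 2 (by norm_num) (by norm_num)
              linarith only [t, z02, ea04, eb04, ea24, eb24, hw0, hw2, hw4]
        · rcases Groth.Agent.Helper3.NumType.edge_casesT T h2 (by norm_num) (p := 2) (q := 3) (by decide) hp23 with e | e | e | e | e
          · obtain ⟨ea23, eb23⟩ := e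
            rcases eq_or_lt_of_le nn24 with z | hp24
            · have z24 : T.a 2 4 = 0 := z.symm
              rcases eq_or_lt_of_le nn34 with z | hp34
              · have z34 : T.a 3 4 = 0 := z.symm
                exfalso
                obtain ⟨i, hi, j, hj, hij⟩ := T.connected ({0, 4} : Finset (Fin 5)) (by decide) (by decide)
                fin_cases i <;> fin_cases j <;> first | exact absurd hi (by decide) | exact hj (by decide) | (apply hij; first | exact z01 | exact z02 | exact z03 | exact s41.trans z14 | exact s42.trans z24 | exact s43.trans z34)
              · rcases Groth.Agent.Helper3.NumType.edge_casesT T h2 (by norm_num) (p := 3) (q := 4) (by decide) hp34 with e | e | e | e | e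
                · obtain ⟨ea34, eb34⟩ := e
                  exfalso
                  have t := Groth.Agent.Helper3.NumType.QT5 T h2 1 1 0 1 1 (by norm_num) (by norm_num)
                  linarith only [t, z01, z03, ea04, eb04, ea13, eb13, z14, ea34, eb34, hw0, hw1, hw3, hw4]
                · obtain ⟨ea34, eb34⟩ := e
                  exfalso
                  have t := Groth.Agent.Helper3.NumType.QT5 T h2 1 0 0 1 1 (by norm_num) (by norm_num)
                  linarith only [t, z03, ea04, eb04, ea34, eb34, hw0, hw3, hw4]
                · obtain ⟨ea34, eb34⟩ := e
                  exfalso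
                  have t := Groth.Agent.Helper3.NumType.QT5 T h2 2 0 0 1 2 (by norm_num) (by norm_num)
                  linarith only [t, z03, ea04, eb04, ea34, eb34, hw0, hw3, hw4]
                · obtain ⟨ea34, eb34⟩ := e
                  exfalso
                  have t := Groth.Agent.Helper3.NumType.QT5 T h2 1 0 0 1 1 (by norm_num) (by norm_num)
                  linarith only [t, z03, ea04, eb04, ea34, eb34, hw0, hw3, hw4]
                · obtain ⟨ea34, eb34⟩ := e
                  exfalso
                  have t := Groth.Agent.Helper3.NumType.QT5 T h2 1 0 0 1 2 (by norm_num) (by norm_num)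
                  linarith only [t, z03, ea04, eb04, ea34, eb34, hw0, hw3, hw4]
            · rcases Groth.Agent.Helper3.NumType.edge_casesT T h2 (by norm_num) (p := 2) (q := 4) (by decide) hp24 with e | e | e | e | e
              · obtain ⟨ea24, eb24⟩ := e
                rcases eq_or_lt_of_le nn34 with z | hp34
                · have z34 : T.a 3 4 = 0 := z.symm
                  have hr0 : (-2) * T.m 0 + (2) * T.m 4 = 0 := by
                    have f4 : T.a 0 4 = 2 * T.w 0 := by linarith only [ea04, eb04]
                    have h : T.w 0 * ((-2) * T.m 0 + (2) * T.m 4) = 0 := by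
                      rw [z01, z02, z03, f4] at r0
                      linarith only [r0]
                    rcases mul_eq_zero.mp h with h' | h'
                    · exfalso; linarith only [h', hw0]
                    · exact h'
                  have hr1 : (-2) * T.m 1 + (2) * T.m 3 = 0 := by
                    have f3 : T.a 1 3 = 2 * T.w 1 := by linarith only [ea13, eb13]
                    have h : T.w 1 * ((-2) * T.m 1 + (2) * T.m 3) = 0 := by
                      rw [z01, z12, f3, z14] at r1
                      linarith only [r1]
                    rcases mul_eq_zero.mp h with h' | h'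
                    · exfalso; linarith only [h', hw1]
                    · exact h'
                  have hr2 : (-2) * T.m 2 + (1) * T.m 3 + (1) * T.m 4 = 0 := by
                    have f3 : T.a 2 3 = T.w 2 := by linarith only [ea23, eb23]
                    have f4 : T.a 2 4 = T.w 2 := by linarith only [ea24, eb24]
                    have h : T.w 2 * ((-2) * T.m 2 + (1) * T.m 3 + (1) * T.m 4) = 0 := by
                      rw [z02, z12, f3, f4] at r2
                      linarith only [r2]
                    rcases mul_eq_zero.mp h with h' | h'
                    · exfalso; linarith only [h', hw2]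
                    · exact h'
                  have hr3 : (-2) * T.m 3 + (1) * T.m 1 + (1) * T.m 2 = 0 := by
                    have f1 : T.a 1 3 = T.w 3 := by linarith only [ea13, eb13]
                    have f2 : T.a 2 3 = T.w 3 := by linarith only [ea23, eb23]
                    have h : T.w 3 * ((-2) * T.m 3 + (1) * T.m 1 + (1) * T.m 2) = 0 := by
                      rw [z03, f1, f2, z34] at r3
                      linarith only [r3]
                    rcases mul_eq_zero.mp h with h' | h'
                    · exfalso; linarith only [h', hw3]
                    · exact h'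
                  have hr4 : (-2) * T.m 4 + (1) * T.m 0 + (1) * T.m 2 = 0 := by
                    have f0 : T.a 0 4 = T.w 4 := by linarith only [ea04, eb04]
                    have f2 : T.a 2 4 = T.w 4 := by linarith only [ea24, eb24]
                    have h : T.w 4 * ((-2) * T.m 4 + (1) * T.m 0 + (1) * T.m 2) = 0 := by
                      rw [f0, z14, f2, z34] at r4
                      linarith only [r4]
                    rcases mul_eq_zero.mp h with h' | h'
                    · exfalso; linarith only [h', hw4]
                    · exact h'
                  have w1 : T.w 1 = T.w 0 := by linarith only [ea04, ea13, ea23, ea24]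
                  have w2 : T.w 2 = 2 * T.w 0 := by linarith only [ea04, ea13, ea23, ea24]
                  have w3 : T.w 3 = 2 * T.w 0 := by linarith only [ea04, ea13, ea23, ea24]
                  have w4 : T.w 4 = 2 * T.w 0 := by linarith only [ea04, ea13, ea23, ea24]
                  have a04 : T.a 0 4 = 2 * T.w 0 := by linarith only [ea04, eb04, ea13, eb13, ea23, eb23, ea24, eb24]
                  have a13 : T.a 1 3 = 2 * T.w 0 := by linarith only [ea04, eb04, ea13, eb13, ea23, eb23, ea24, eb24]
                  have a23 : T.a 2 3 = 2 * T.w 0 := by linarith only [ea04, eb04, ea13, eb13, ea23, eb23, ea24, eb24]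
                  have a24 : T.a 2 4 = 2 * T.w 0 := by linarith only [ea04, eb04, ea13, eb13, ea23, eb23, ea24, eb24]
                  have m1 : T.m 1 = T.m 0 := by linarith only [hr0, hr1, hr2, hr3, hr4]
                  have m2 : T.m 2 = T.m 0 := by linarith only [hr0, hr1, hr2, hr3, hr4]
                  have m3 : T.m 3 = T.m 0 := by linarith only [hr0, hr1, hr2, hr3, hr4]
                  have m4 : T.m 4 = T.m 0 := by linarith only [hr0, hr1, hr2, hr3, hr4]
                  refine ⟨Equiv.ofBijective ![0, 4, 2, 3, 1] (by decide), T.m 0, T.w 0, ?_⟩
                  simp only [Equiv.ofBijective_apply, Matrix.cons_val_zero, Matrix.cons_val_one, Matrix.cons_val]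
                  refine Or.inr (Or.inr (Or.inr (Or.inr (Or.inl ⟨?_, ?_, ?_, ?_, ?_, ?_, ?_, ?_, ?_, ?_, ?_, ?_, ?_, ?_, ?_, ?_, ?_, ?_, ?_, ?_, ?_, ?_, ?_, ?_, ?_⟩))))
                  all_goals first | rfl | trivial | linarith only [w1, w2, w3, w4, z01, z02, z03, a04, z12, a13, z14, a23, a24, z34, m1, m2, m3, m4, d0, d1, d2, d3, d4, s10, s20, s30, s40, s21, s31, s41, s32, s42, s43]
                · rcases Groth.Agent.Helper3.NumType.edge_casesT T h2 (by norm_num) (p := 3) (q := 4) (by decide) hp34 with e | e | e | e | e
                  · obtain ⟨ea34, eb34⟩ := e
                    exfalso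
                    have t := Groth.Agent.Helper3.NumType.QT5 T h2 0 0 1 1 1 (by norm_num) (by norm_num)
                    linarith only [t, ea23, eb23, ea24, eb24, ea34, eb34, hw2, hw3, hw4]
                  · obtain ⟨ea34, eb34⟩ := e
                    exfalso
                    have t := Groth.Agent.Helper3.NumType.QT5 T h2 1 0 0 1 1 (by norm_num) (by norm_num)
                    linarith only [t, z03, ea04, eb04, ea34, eb34, hw0, hw3, hw4]
                  · obtain ⟨ea34, eb34⟩ := e
                    exfalso
                    have t := Groth.Agent.Helper3.NumType.QT5 T h2 2 0 0 1 2 (by norm_num) (by norm_num)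
                    linarith only [t, z03, ea04, eb04, ea34, eb34, hw0, hw3, hw4]
                  · obtain ⟨ea34, eb34⟩ := e
                    exfalso
                    have t := Groth.Agent.Helper3.NumType.QT5 T h2 1 0 0 1 1 (by norm_num) (by norm_num)
                    linarith only [t, z03, ea04, eb04, ea34, eb34, hw0, hw3, hw4]
                  · obtain ⟨ea34, eb34⟩ := e
                    exfalso
                    have t := Groth.Agent.Helper3.NumType.QT5 T h2 1 0 0 1 2 (by norm_num) (by norm_num)
                    linarith only [t, z03, ea04, eb04, ea34, eb34, hw0, hw3, hw4]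
              · obtain ⟨ea24, eb24⟩ := e
                exfalso
                have t := Groth.Agent.Helper3.NumType.QT5 T h2 1 0 1 0 1 (by norm_num) (by norm_num)
                linarith only [t, z02, ea04, eb04, ea24, eb24, hw0, hw2, hw4]
              · obtain ⟨ea24, eb24⟩ := e
                exfalso
                have t := Groth.Agent.Helper3.NumType.QT5 T h2 2 0 1 0 2 (by norm_num) (by norm_num)
                linarith only [t, z02, ea04, eb04, ea24, eb24, hw0, hw2, hw4]
              · obtain ⟨ea24, eb24⟩ := e
                exfalso
                have t := Groth.Agent.Helper3.NumType.QT5 T h2 1 0 1 0 1 (by norm_num) (by norm_num)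
                linarith only [t, z02, ea04, eb04, ea24, eb24, hw0, hw2, hw4]
              · obtain ⟨ea24, eb24⟩ := e
                exfalso
                have t := Groth.Agent.Helper3.NumType.QT5 T h2 1 0 1 0 2 (by norm_num) (by norm_num)
                linarith only [t, z02, ea04, eb04, ea24, eb24, hw0, hw2, hw4]
          · obtain ⟨ea23, eb23⟩ := e
            exfalso
            have t := Groth.Agent.Helper3.NumType.QT5 T h2 0 1 1 1 0 (by norm_num) (by norm_num)
            linarith only [t, z12, ea13, eb13, ea23, eb23, hw1, hw2, hw3]
          · obtain ⟨ea23, eb23⟩ := e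
            exfalso
            have t := Groth.Agent.Helper3.NumType.QT5 T h2 0 2 1 2 0 (by norm_num) (by norm_num)
            linarith only [t, z12, ea13, eb13, ea23, eb23, hw1, hw2, hw3]
          · obtain ⟨ea23, eb23⟩ := e
            exfalso
            have t := Groth.Agent.Helper3.NumType.QT5 T h2 0 1 1 1 0 (by norm_num) (by norm_num)
            linarith only [t, z12, ea13, eb13, ea23, eb23, hw1, hw2, hw3]
          · obtain ⟨ea23, eb23⟩ := e
            exfalso
            have t := Groth.Agent.Helper3.NumType.QT5 T h2 0 1 1 2 0 (by norm_num) (by norm_num)
            linarith only [t, z12, ea13, eb13, ea23, eb23, hw1, hw2, hw3]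
      · rcases Groth.Agent.Helper3.NumType.edge_casesT T h2 (by norm_num) (p := 1) (q := 4) (by decide) hp14 with e | e | e | e | e
        · obtain ⟨ea14, eb14⟩ := e
          exfalso
          have t := Groth.Agent.Helper3.NumType.QT5 T h2 2 2 0 1 2 (by norm_num) (by norm_num)
          linarith only [t, z01, z03, ea04, eb04, ea13, eb13, ea14, eb14, nn34, hw0, hw1, hw3, hw4]
        · obtain ⟨ea14, eb14⟩ := e
          exfalso
          have t := Groth.Agent.Helper3.NumType.QT5 T h2 1 1 0 0 1 (by norm_num) (by norm_num)
          linarith only [t, z01, ea04, eb04, ea14, eb14, hw0, hw1, hw4]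
        · obtain ⟨ea14, eb14⟩ := e
          exfalso
          have t := Groth.Agent.Helper3.NumType.QT5 T h2 2 1 0 0 2 (by norm_num) (by norm_num)
          linarith only [t, z01, ea04, eb04, ea14, eb14, hw0, hw1, hw4]
        · obtain ⟨ea14, eb14⟩ := e
          exfalso
          have t := Groth.Agent.Helper3.NumType.QT5 T h2 1 1 0 0 1 (by norm_num) (by norm_num)
          linarith only [t, z01, ea04, eb04, ea14, eb14, hw0, hw1, hw4]
        · obtain ⟨ea14, eb14⟩ := e
          exfalso
          have t := Groth.Agent.Helper3.NumType.QT5 T h2 1 1 0 0 2 (by norm_num) (by norm_num)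
          linarith only [t, z01, ea04, eb04, ea14, eb14, hw0, hw1, hw4]
    · obtain ⟨ea13, eb13⟩ := e
      rcases eq_or_lt_of_le nn14 with z | hp14
      · have z14 : T.a 1 4 = 0 := z.symm
        rcases eq_or_lt_of_le nn23 with z | hp23
        · have z23 : T.a 2 3 = 0 := z.symm
          rcases eq_or_lt_of_le nn24 with z | hp24
          · have z24 : T.a 2 4 = 0 := z.symm
            exfalso
            obtain ⟨i, hi, j, hj, hij⟩ := T.connected ({2} : Finset (Fin 5)) (by decide) (by decide)
            fin_cases i <;> fin_cases j <;> first | exact absurd hi (by decide) | exact hj (by decide) | (apply hij; first | exact s20.trans z02 | exact s21.trans z12 | exact z23 | exact z24)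
          · rcases Groth.Agent.Helper3.NumType.edge_casesT T h2 (by norm_num) (p := 2) (q := 4) (by decide) hp24 with e | e | e | e | e
            · obtain ⟨ea24, eb24⟩ := e
              rcases eq_or_lt_of_le nn34 with z | hp34
              · have z34 : T.a 3 4 = 0 := z.symm
                exfalso
                obtain ⟨i, hi, j, hj, hij⟩ := T.connected ({0, 2, 4} : Finset (Fin 5)) (by decide) (by decide)
                fin_cases i <;> fin_cases j <;> first | exact absurd hi (by decide) | exact hj (by decide) | (apply hij; first | exact z01 | exact z03 | exact s21.trans z12 | exact z23 | exact s41.trans z14 | exact s43.trans z34)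
              · rcases Groth.Agent.Helper3.NumType.edge_casesT T h2 (by norm_num) (p := 3) (q := 4) (by decide) hp34 with e | e | e | e | e
                · obtain ⟨ea34, eb34⟩ := e
                  exfalso
                  have t := Groth.Agent.Helper3.NumType.QT5 T h2 2 1 0 2 2 (by norm_num) (by norm_num)
                  linarith only [t, z01, z03, ea04, eb04, ea13, eb13, z14, ea34, eb34, hw0, hw1, hw3, hw4]
                · obtain ⟨ea34, eb34⟩ := e
                  exfalso
                  have t := Groth.Agent.Helper3.NumType.QT5 T h2 1 0 0 1 1 (by norm_num) (by norm_num)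
                  linarith only [t, z03, ea04, eb04, ea34, eb34, hw0, hw3, hw4]
                · obtain ⟨ea34, eb34⟩ := e
                  exfalso
                  have t := Groth.Agent.Helper3.NumType.QT5 T h2 2 0 0 1 2 (by norm_num) (by norm_num)
                  linarith only [t, z03, ea04, eb04, ea34, eb34, hw0, hw3, hw4]
                · obtain ⟨ea34, eb34⟩ := e
                  exfalso
                  have t := Groth.Agent.Helper3.NumType.QT5 T h2 1 0 0 1 1 (by norm_num) (by norm_num)
                  linarith only [t, z03, ea04, eb04, ea34, eb34, hw0, hw3, hw4]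
                · obtain ⟨ea34, eb34⟩ := e
                  exfalso
                  have t := Groth.Agent.Helper3.NumType.QT5 T h2 1 0 0 1 2 (by norm_num) (by norm_num)
                  linarith only [t, z03, ea04, eb04, ea34, eb34, hw0, hw3, hw4]
            · obtain ⟨ea24, eb24⟩ := e
              exfalso
              have t := Groth.Agent.Helper3.NumType.QT5 T h2 1 0 1 0 1 (by norm_num) (by norm_num)
              linarith only [t, z02, ea04, eb04, ea24, eb24, hw0, hw2, hw4]
            · obtain ⟨ea24, eb24⟩ := e
              exfalso
              have t := Groth.Agent.Helper3.NumType.QT5 T h2 2 0 1 0 2 (by norm_num) (by norm_num)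
              linarith only [t, z02, ea04, eb04, ea24, eb24, hw0, hw2, hw4]
            · obtain ⟨ea24, eb24⟩ := e
              exfalso
              have t := Groth.Agent.Helper3.NumType.QT5 T h2 1 0 1 0 1 (by norm_num) (by norm_num)
              linarith only [t, z02, ea04, eb04, ea24, eb24, hw0, hw2, hw4]
            · obtain ⟨ea24, eb24⟩ := e
              exfalso
              have t := Groth.Agent.Helper3.NumType.QT5 T h2 1 0 1 0 2 (by norm_num) (by norm_num)
              linarith only [t, z02, ea04, eb04, ea24, eb24, hw0, hw2, hw4]
        · rcases Groth.Agent.Helper3.NumType.edge_casesT T h2 (by norm_num) (p := 2) (q := 3) (by decide) hp23 with e | e | e | e | e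
          · obtain ⟨ea23, eb23⟩ := e
            rcases eq_or_lt_of_le nn24 with z | hp24
            · have z24 : T.a 2 4 = 0 := z.symm
              rcases eq_or_lt_of_le nn34 with z | hp34
              · have z34 : T.a 3 4 = 0 := z.symm
                exfalso
                obtain ⟨i, hi, j, hj, hij⟩ := T.connected ({0, 4} : Finset (Fin 5)) (by decide) (by decide)
                fin_cases i <;> fin_cases j <;> first | exact absurd hi (by decide) | exact hj (by decide) | (apply hij; first | exact z01 | exact z02 | exact z03 | exact s41.trans z14 | exact s42.trans z24 | exact s43.trans z34)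
              · rcases Groth.Agent.Helper3.NumType.edge_casesT T h2 (by norm_num) (p := 3) (q := 4) (by decide) hp34 with e | e | e | e | e
                · obtain ⟨ea34, eb34⟩ := e
                  exfalso
                  have t := Groth.Agent.Helper3.NumType.QT5 T h2 2 1 0 2 2 (by norm_num) (by norm_num)
                  linarith only [t, z01, z03, ea04, eb04, ea13, eb13, z14, ea34, eb34, hw0, hw1, hw3, hw4]
                · obtain ⟨ea34, eb34⟩ := e
                  exfalso
                  have t := Groth.Agent.Helper3.NumType.QT5 T h2 1 0 0 1 1 (by norm_num) (by norm_num)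
                  linarith only [t, z03, ea04, eb04, ea34, eb34, hw0, hw3, hw4]
                · obtain ⟨ea34, eb34⟩ := e
                  exfalso
                  have t := Groth.Agent.Helper3.NumType.QT5 T h2 2 0 0 1 2 (by norm_num) (by norm_num)
                  linarith only [t, z03, ea04, eb04, ea34, eb34, hw0, hw3, hw4]
                · obtain ⟨ea34, eb34⟩ := e
                  exfalso
                  have t := Groth.Agent.Helper3.NumType.QT5 T h2 1 0 0 1 1 (by norm_num) (by norm_num)
                  linarith only [t, z03, ea04, eb04, ea34, eb34, hw0, hw3, hw4]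
                · obtain ⟨ea34, eb34⟩ := e
                  exfalso
                  have t := Groth.Agent.Helper3.NumType.QT5 T h2 1 0 0 1 2 (by norm_num) (by norm_num)
                  linarith only [t, z03, ea04, eb04, ea34, eb34, hw0, hw3, hw4]
            · rcases Groth.Agent.Helper3.NumType.edge_casesT T h2 (by norm_num) (p := 2) (q := 4) (by decide) hp24 with e | e | e | e | e
              · obtain ⟨ea24, eb24⟩ := e
                rcases eq_or_lt_of_le nn34 with z | hp34
                · have z34 : T.a 3 4 = 0 := z.symm
                  have hr0 : (-2) * T.m 0 + (2) * T.m 4 = 0 := by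
                    have f4 : T.a 0 4 = 2 * T.w 0 := by linarith only [ea04, eb04]
                    have h : T.w 0 * ((-2) * T.m 0 + (2) * T.m 4) = 0 := by
                      rw [z01, z02, z03, f4] at r0
                      linarith only [r0]
                    rcases mul_eq_zero.mp h with h' | h'
                    · exfalso; linarith only [h', hw0]
                    · exact h'
                  have hr1 : (-2) * T.m 1 + (1) * T.m 3 = 0 := by
                    have f3 : T.a 1 3 = T.w 1 := by linarith only [ea13, eb13]
                    have h : T.w 1 * ((-2) * T.m 1 + (1) * T.m 3) = 0 := by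
                      rw [z01, z12, f3, z14] at r1
                      linarith only [r1]
                    rcases mul_eq_zero.mp h with h' | h'
                    · exfalso; linarith only [h', hw1]
                    · exact h'
                  have hr2 : (-2) * T.m 2 + (1) * T.m 3 + (1) * T.m 4 = 0 := by
                    have f3 : T.a 2 3 = T.w 2 := by linarith only [ea23, eb23]
                    have f4 : T.a 2 4 = T.w 2 := by linarith only [ea24, eb24]
                    have h : T.w 2 * ((-2) * T.m 2 + (1) * T.m 3 + (1) * T.m 4) = 0 := by
                      rw [z02, z12, f3, f4] at r2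
                      linarith only [r2]
                    rcases mul_eq_zero.mp h with h' | h'
                    · exfalso; linarith only [h', hw2]
                    · exact h'
                  have hr3 : (-2) * T.m 3 + (2) * T.m 1 + (1) * T.m 2 = 0 := by
                    have f1 : T.a 1 3 = 2 * T.w 3 := by linarith only [ea13, eb13]
                    have f2 : T.a 2 3 = T.w 3 := by linarith only [ea23, eb23]
                    have h : T.w 3 * ((-2) * T.m 3 + (2) * T.m 1 + (1) * T.m 2) = 0 := by
                      rw [z03, f1, f2, z34] at r3
                      linarith only [r3]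
                    rcases mul_eq_zero.mp h with h' | h'
                    · exfalso; linarith only [h', hw3]
                    · exact h'
                  have hr4 : (-2) * T.m 4 + (1) * T.m 0 + (1) * T.m 2 = 0 := by
                    have f0 : T.a 0 4 = T.w 4 := by linarith only [ea04, eb04]
                    have f2 : T.a 2 4 = T.w 4 := by linarith only [ea24, eb24]
                    have h : T.w 4 * ((-2) * T.m 4 + (1) * T.m 0 + (1) * T.m 2) = 0 := by
                      rw [f0, z14, f2, z34] at r4
                      linarith only [r4]
                    rcases mul_eq_zero.mp h with h' | h'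
                    · exfalso; linarith only [h', hw4]
                    · exact h'
                  have w1 : T.w 1 = 4 * T.w 0 := by linarith only [ea04, ea13, ea23, ea24]
                  have w2 : T.w 2 = 2 * T.w 0 := by linarith only [ea04, ea13, ea23, ea24]
                  have w3 : T.w 3 = 2 * T.w 0 := by linarith only [ea04, ea13, ea23, ea24]
                  have w4 : T.w 4 = 2 * T.w 0 := by linarith only [ea04, ea13, ea23, ea24]
                  have a04 : T.a 0 4 = 2 * T.w 0 := by linarith only [ea04, eb04, ea13, eb13, ea23, eb23, ea24, eb24]
                  have a13 : T.a 1 3 = 4 * T.w 0 := by linarith only [ea04, eb04, ea13, eb13, ea23, eb23, ea24, eb24]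
                  have a23 : T.a 2 3 = 2 * T.w 0 := by linarith only [ea04, eb04, ea13, eb13, ea23, eb23, ea24, eb24]
                  have a24 : T.a 2 4 = 2 * T.w 0 := by linarith only [ea04, eb04, ea13, eb13, ea23, eb23, ea24, eb24]
                  have m0 : T.m 0 = 2 * T.m 1 := by linarith only [hr0, hr1, hr2, hr3, hr4]
                  have m2 : T.m 2 = 2 * T.m 1 := by linarith only [hr0, hr1, hr2, hr3, hr4]
                  have m3 : T.m 3 = 2 * T.m 1 := by linarith only [hr0, hr1, hr2, hr3, hr4]
                  have m4 : T.m 4 = 2 * T.m 1 := by linarith only [hr0, hr1, hr2, hr3, hr4]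
                  refine ⟨Equiv.ofBijective ![0, 4, 2, 3, 1] (by decide), T.m 1, T.w 0, ?_⟩
                  simp only [Equiv.ofBijective_apply, Matrix.cons_val_zero, Matrix.cons_val_one, Matrix.cons_val]
                  refine Or.inr (Or.inr (Or.inr (Or.inl ⟨?_, ?_, ?_, ?_, ?_, ?_, ?_, ?_, ?_, ?_, ?_, ?_, ?_, ?_, ?_, ?_, ?_, ?_, ?_, ?_, ?_, ?_, ?_, ?_, ?_⟩)))
                  all_goals first | rfl | trivial | linarith only [w1, w2, w3, w4, z01, z02, z03, a04, z12, a13, z14, a23, a24, z34, m0, m2, m3, m4, d0, d1, d2, d3, d4, s10, s20, s30, s40, s21, s31, s41, s32, s42, s43]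
                · rcases Groth.Agent.Helper3.NumType.edge_casesT T h2 (by norm_num) (p := 3) (q := 4) (by decide) hp34 with e | e | e | e | e
                  · obtain ⟨ea34, eb34⟩ := e
                    exfalso
                    have t := Groth.Agent.Helper3.NumType.QT5 T h2 0 0 1 1 1 (by norm_num) (by norm_num)
                    linarith only [t, ea23, eb23, ea24, eb24, ea34, eb34, hw2, hw3, hw4]
                  · obtain ⟨ea34, eb34⟩ := e
                    exfalso
                    have t := Groth.Agent.Helper3.NumType.QT5 T h2 1 0 0 1 1 (by norm_num) (by norm_num)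
                    linarith only [t, z03, ea04, eb04, ea34, eb34, hw0, hw3, hw4]
                  · obtain ⟨ea34, eb34⟩ := e
                    exfalso
                    have t := Groth.Agent.Helper3.NumType.QT5 T h2 2 0 0 1 2 (by norm_num) (by norm_num)
                    linarith only [t, z03, ea04, eb04, ea34, eb34, hw0, hw3, hw4]
                  · obtain ⟨ea34, eb34⟩ := e
                    exfalso
                    have t := Groth.Agent.Helper3.NumType.QT5 T h2 1 0 0 1 1 (by norm_num) (by norm_num)
                    linarith only [t, z03, ea04, eb04, ea34, eb34, hw0, hw3, hw4]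
                  · obtain ⟨ea34, eb34⟩ := e
                    exfalso
                    have t := Groth.Agent.Helper3.NumType.QT5 T h2 1 0 0 1 2 (by norm_num) (by norm_num)
                    linarith only [t, z03, ea04, eb04, ea34, eb34, hw0, hw3, hw4]
              · obtain ⟨ea24, eb24⟩ := e
                exfalso
                have t := Groth.Agent.Helper3.NumType.QT5 T h2 1 0 1 0 1 (by norm_num) (by norm_num)
                linarith only [t, z02, ea04, eb04, ea24, eb24, hw0, hw2, hw4]
              · obtain ⟨ea24, eb24⟩ := e
                exfalso
                have t := Groth.Agent.Helper3.NumType.QT5 T h2 2 0 1 0 2 (by norm_num) (by norm_num)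
                linarith only [t, z02, ea04, eb04, ea24, eb24, hw0, hw2, hw4]
              · obtain ⟨ea24, eb24⟩ := e
                exfalso
                have t := Groth.Agent.Helper3.NumType.QT5 T h2 1 0 1 0 1 (by norm_num) (by norm_num)
                linarith only [t, z02, ea04, eb04, ea24, eb24, hw0, hw2, hw4]
              · obtain ⟨ea24, eb24⟩ := e
                exfalso
                have t := Groth.Agent.Helper3.NumType.QT5 T h2 1 0 1 0 2 (by norm_num) (by norm_num)
                linarith only [t, z02, ea04, eb04, ea24, eb24, hw0, hw2, hw4]
          · obtain ⟨ea23, eb23⟩ := e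
            exfalso
            have t := Groth.Agent.Helper3.NumType.QT5 T h2 0 1 2 2 0 (by norm_num) (by norm_num)
            linarith only [t, z12, ea13, eb13, ea23, eb23, hw1, hw2, hw3]
          · obtain ⟨ea23, eb23⟩ := e
            exfalso
            have t := Groth.Agent.Helper3.NumType.QT5 T h2 0 1 1 2 0 (by norm_num) (by norm_num)
            linarith only [t, z12, ea13, eb13, ea23, eb23, hw1, hw2, hw3]
          · obtain ⟨ea23, eb23⟩ := e
            exfalso
            have t := Groth.Agent.Helper3.NumType.QT5 T h2 0 1 2 2 0 (by norm_num) (by norm_num)
            linarith only [t, z12, ea13, eb13, ea23, eb23, hw1, hw2, hw3]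
          · obtain ⟨ea23, eb23⟩ := e
            exfalso
            have t := Groth.Agent.Helper3.NumType.QT5 T h2 0 1 1 2 0 (by norm_num) (by norm_num)
            linarith only [t, z12, ea13, eb13, ea23, eb23, hw1, hw2, hw3]
      · rcases Groth.Agent.Helper3.NumType.edge_casesT T h2 (by norm_num) (p := 1) (q := 4) (by decide) hp14 with e | e | e | e | e
        · obtain ⟨ea14, eb14⟩ := e
          exfalso
          have t := Groth.Agent.Helper3.NumType.QT5 T h2 1 1 0 1 1 (by norm_num) (by norm_num)
          linarith only [t, z01, z03, ea04, eb04, ea13, eb13, ea14, eb14, nn34, hw0, hw1, hw3, hw4]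
        · obtain ⟨ea14, eb14⟩ := e
          exfalso
          have t := Groth.Agent.Helper3.NumType.QT5 T h2 1 1 0 0 1 (by norm_num) (by norm_num)
          linarith only [t, z01, ea04, eb04, ea14, eb14, hw0, hw1, hw4]
        · obtain ⟨ea14, eb14⟩ := e
          exfalso
          have t := Groth.Agent.Helper3.NumType.QT5 T h2 2 1 0 0 2 (by norm_num) (by norm_num)
          linarith only [t, z01, ea04, eb04, ea14, eb14, hw0, hw1, hw4]
        · obtain ⟨ea14, eb14⟩ := e
          exfalso
          have t := Groth.Agent.Helper3.NumType.QT5 T h2 1 1 0 0 1 (by norm_num) (by norm_num)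
          linarith only [t, z01, ea04, eb04, ea14, eb14, hw0, hw1, hw4]
        · obtain ⟨ea14, eb14⟩ := e
          exfalso
          have t := Groth.Agent.Helper3.NumType.QT5 T h2 1 1 0 0 2 (by norm_num) (by norm_num)
          linarith only [t, z01, ea04, eb04, ea14, eb14, hw0, hw1, hw4]
    · obtain ⟨ea13, eb13⟩ := e
      rcases eq_or_lt_of_le nn14 with z | hp14
      · have z14 : T.a 1 4 = 0 := z.symm
        rcases eq_or_lt_of_le nn23 with z | hp23
        · have z23 : T.a 2 3 = 0 := z.symm
          rcases eq_or_lt_of_le nn24 with z | hp24
          · have z24 : T.a 2 4 = 0 := z.symm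
            exfalso
            obtain ⟨i, hi, j, hj, hij⟩ := T.connected ({2} : Finset (Fin 5)) (by decide) (by decide)
            fin_cases i <;> fin_cases j <;> first | exact absurd hi (by decide) | exact hj (by decide) | (apply hij; first | exact s20.trans z02 | exact s21.trans z12 | exact z23 | exact z24)
          · rcases Groth.Agent.Helper3.NumType.edge_casesT T h2 (by norm_num) (p := 2) (q := 4) (by decide) hp24 with e | e | e | e | e
            · obtain ⟨ea24, eb24⟩ := e
              rcases eq_or_lt_of_le nn34 with z | hp34
              · have z34 : T.a 3 4 = 0 := z.symm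
                exfalso
                obtain ⟨i, hi, j, hj, hij⟩ := T.connected ({0, 2, 4} : Finset (Fin 5)) (by decide) (by decide)
                fin_cases i <;> fin_cases j <;> first | exact absurd hi (by decide) | exact hj (by decide) | (apply hij; first | exact z01 | exact z03 | exact s21.trans z12 | exact z23 | exact s41.trans z14 | exact s43.trans z34)
              · rcases Groth.Agent.Helper3.NumType.edge_casesT T h2 (by norm_num) (p := 3) (q := 4) (by decide) hp34 with e | e | e | e | e
                · obtain ⟨ea34, eb34⟩ := e
                  exfalso
                  have t := Groth.Agent.Helper3.NumType.QT5 T h2 0 3 0 2 1 (by norm_num) (by norm_num)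
                  linarith only [t, ea13, eb13, z14, ea34, eb34, hw1, hw3, hw4]
                · obtain ⟨ea34, eb34⟩ := e
                  exfalso
                  have t := Groth.Agent.Helper3.NumType.QT5 T h2 1 0 0 1 1 (by norm_num) (by norm_num)
                  linarith only [t, z03, ea04, eb04, ea34, eb34, hw0, hw3, hw4]
                · obtain ⟨ea34, eb34⟩ := e
                  exfalso
                  have t := Groth.Agent.Helper3.NumType.QT5 T h2 2 0 0 1 2 (by norm_num) (by norm_num)
                  linarith only [t, z03, ea04, eb04, ea34, eb34, hw0, hw3, hw4]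
                · obtain ⟨ea34, eb34⟩ := e
                  exfalso
                  have t := Groth.Agent.Helper3.NumType.QT5 T h2 1 0 0 1 1 (by norm_num) (by norm_num)
                  linarith only [t, z03, ea04, eb04, ea34, eb34, hw0, hw3, hw4]
                · obtain ⟨ea34, eb34⟩ := e
                  exfalso
                  have t := Groth.Agent.Helper3.NumType.QT5 T h2 1 0 0 1 2 (by norm_num) (by norm_num)
                  linarith only [t, z03, ea04, eb04, ea34, eb34, hw0, hw3, hw4]
            · obtain ⟨ea24, eb24⟩ := e
              exfalso
              have t := Groth.Agent.Helper3.NumType.QT5 T h2 1 0 1 0 1 (by norm_num) (by norm_num)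
              linarith only [t, z02, ea04, eb04, ea24, eb24, hw0, hw2, hw4]
            · obtain ⟨ea24, eb24⟩ := e
              exfalso
              have t := Groth.Agent.Helper3.NumType.QT5 T h2 2 0 1 0 2 (by norm_num) (by norm_num)
              linarith only [t, z02, ea04, eb04, ea24, eb24, hw0, hw2, hw4]
            · obtain ⟨ea24, eb24⟩ := e
              exfalso
              have t := Groth.Agent.Helper3.NumType.QT5 T h2 1 0 1 0 1 (by norm_num) (by norm_num)
              linarith only [t, z02, ea04, eb04, ea24, eb24, hw0, hw2, hw4]
            · obtain ⟨ea24, eb24⟩ := e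
              exfalso
              have t := Groth.Agent.Helper3.NumType.QT5 T h2 1 0 1 0 2 (by norm_num) (by norm_num)
              linarith only [t, z02, ea04, eb04, ea24, eb24, hw0, hw2, hw4]
        · rcases Groth.Agent.Helper3.NumType.edge_casesT T h2 (by norm_num) (p := 2) (q := 3) (by decide) hp23 with e | e | e | e | e
          · obtain ⟨ea23, eb23⟩ := e
            exfalso
            have t := Groth.Agent.Helper3.NumType.QT5 T h2 0 3 1 2 0 (by norm_num) (by norm_num)
            linarith only [t, z12, ea13, eb13, ea23, eb23, hw1, hw2, hw3]
          · obtain ⟨ea23, eb23⟩ := e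
            exfalso
            have t := Groth.Agent.Helper3.NumType.QT5 T h2 0 1 1 1 0 (by norm_num) (by norm_num)
            linarith only [t, z12, ea13, eb13, ea23, eb23, hw1, hw2, hw3]
          · obtain ⟨ea23, eb23⟩ := e
            exfalso
            have t := Groth.Agent.Helper3.NumType.QT5 T h2 0 2 1 2 0 (by norm_num) (by norm_num)
            linarith only [t, z12, ea13, eb13, ea23, eb23, hw1, hw2, hw3]
          · obtain ⟨ea23, eb23⟩ := e
            exfalso
            have t := Groth.Agent.Helper3.NumType.QT5 T h2 0 1 1 1 0 (by norm_num) (by norm_num)
            linarith only [t, z12, ea13, eb13, ea23, eb23, hw1, hw2, hw3]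
          · obtain ⟨ea23, eb23⟩ := e
            exfalso
            have t := Groth.Agent.Helper3.NumType.QT5 T h2 0 1 1 2 0 (by norm_num) (by norm_num)
            linarith only [t, z12, ea13, eb13, ea23, eb23, hw1, hw2, hw3]
      · rcases Groth.Agent.Helper3.NumType.edge_casesT T h2 (by norm_num) (p := 1) (q := 4) (by decide) hp14 with e | e | e | e | e
        · obtain ⟨ea14, eb14⟩ := e
          exfalso
          have t := Groth.Agent.Helper3.NumType.QT5 T h2 0 2 0 1 1 (by norm_num) (by norm_num)
          linarith only [t, ea13, eb13, ea14, eb14, nn34, hw1, hw3, hw4]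
        · obtain ⟨ea14, eb14⟩ := e
          exfalso
          have t := Groth.Agent.Helper3.NumType.QT5 T h2 1 1 0 0 1 (by norm_num) (by norm_num)
          linarith only [t, z01, ea04, eb04, ea14, eb14, hw0, hw1, hw4]
        · obtain ⟨ea14, eb14⟩ := e
          exfalso
          have t := Groth.Agent.Helper3.NumType.QT5 T h2 2 1 0 0 2 (by norm_num) (by norm_num)
          linarith only [t, z01, ea04, eb04, ea14, eb14, hw0, hw1, hw4]
        · obtain ⟨ea14, eb14⟩ := e
          exfalso
          have t := Groth.Agent.Helper3.NumType.QT5 T h2 1 1 0 0 1 (by norm_num) (by norm_num)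
          linarith only [t, z01, ea04, eb04, ea14, eb14, hw0, hw1, hw4]
        · obtain ⟨ea14, eb14⟩ := e
          exfalso
          have t := Groth.Agent.Helper3.NumType.QT5 T h2 1 1 0 0 2 (by norm_num) (by norm_num)
          linarith only [t, z01, ea04, eb04, ea14, eb14, hw0, hw1, hw4]
    · obtain ⟨ea13, eb13⟩ := e
      rcases eq_or_lt_of_le nn14 with z | hp14
      · have z14 : T.a 1 4 = 0 := z.symm
        rcases eq_or_lt_of_le nn23 with z | hp23
        · have z23 : T.a 2 3 = 0 := z.symm
          rcases eq_or_lt_of_le nn24 with z | hp24
          · have z24 : T.a 2 4 = 0 := z.symm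
            exfalso
            obtain ⟨i, hi, j, hj, hij⟩ := T.connected ({2} : Finset (Fin 5)) (by decide) (by decide)
            fin_cases i <;> fin_cases j <;> first | exact absurd hi (by decide) | exact hj (by decide) | (apply hij; first | exact s20.trans z02 | exact s21.trans z12 | exact z23 | exact z24)
          · rcases Groth.Agent.Helper3.NumType.edge_casesT T h2 (by norm_num) (p := 2) (q := 4) (by decide) hp24 with e | e | e | e | e
            · obtain ⟨ea24, eb24⟩ := e
              rcases eq_or_lt_of_le nn34 with z | hp34
              · have z34 : T.a 3 4 = 0 := z.symm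
                exfalso
                obtain ⟨i, hi, j, hj, hij⟩ := T.connected ({0, 2, 4} : Finset (Fin 5)) (by decide) (by decide)
                fin_cases i <;> fin_cases j <;> first | exact absurd hi (by decide) | exact hj (by decide) | (apply hij; first | exact z01 | exact z03 | exact s21.trans z12 | exact z23 | exact s41.trans z14 | exact s43.trans z34)
              · rcases Groth.Agent.Helper3.NumType.edge_casesT T h2 (by norm_num) (p := 3) (q := 4) (by decide) hp34 with e | e | e | e | e
                · obtain ⟨ea34, eb34⟩ := e
                  exfalso
                  have t := Groth.Agent.Helper3.NumType.QT5 T h2 0 1 0 2 1 (by norm_num) (by norm_num)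
                  linarith only [t, ea13, eb13, z14, ea34, eb34, hw1, hw3, hw4]
                · obtain ⟨ea34, eb34⟩ := e
                  exfalso
                  have t := Groth.Agent.Helper3.NumType.QT5 T h2 1 0 0 1 1 (by norm_num) (by norm_num)
                  linarith only [t, z03, ea04, eb04, ea34, eb34, hw0, hw3, hw4]
                · obtain ⟨ea34, eb34⟩ := e
                  exfalso
                  have t := Groth.Agent.Helper3.NumType.QT5 T h2 2 0 0 1 2 (by norm_num) (by norm_num)
                  linarith only [t, z03, ea04, eb04, ea34, eb34, hw0, hw3, hw4]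
                · obtain ⟨ea34, eb34⟩ := e
                  exfalso
                  have t := Groth.Agent.Helper3.NumType.QT5 T h2 1 0 0 1 1 (by norm_num) (by norm_num)
                  linarith only [t, z03, ea04, eb04, ea34, eb34, hw0, hw3, hw4]
                · obtain ⟨ea34, eb34⟩ := e
                  exfalso
                  have t := Groth.Agent.Helper3.NumType.QT5 T h2 1 0 0 1 2 (by norm_num) (by norm_num)
                  linarith only [t, z03, ea04, eb04, ea34, eb34, hw0, hw3, hw4]
            · obtain ⟨ea24, eb24⟩ := e
              exfalso
              have t := Groth.Agent.Helper3.NumType.QT5 T h2 1 0 1 0 1 (by norm_num) (by norm_num)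
              linarith only [t, z02, ea04, eb04, ea24, eb24, hw0, hw2, hw4]
            · obtain ⟨ea24, eb24⟩ := e
              exfalso
              have t := Groth.Agent.Helper3.NumType.QT5 T h2 2 0 1 0 2 (by norm_num) (by norm_num)
              linarith only [t, z02, ea04, eb04, ea24, eb24, hw0, hw2, hw4]
            · obtain ⟨ea24, eb24⟩ := e
              exfalso
              have t := Groth.Agent.Helper3.NumType.QT5 T h2 1 0 1 0 1 (by norm_num) (by norm_num)
              linarith only [t, z02, ea04, eb04, ea24, eb24, hw0, hw2, hw4]
            · obtain ⟨ea24, eb24⟩ := e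
              exfalso
              have t := Groth.Agent.Helper3.NumType.QT5 T h2 1 0 1 0 2 (by norm_num) (by norm_num)
              linarith only [t, z02, ea04, eb04, ea24, eb24, hw0, hw2, hw4]
        · rcases Groth.Agent.Helper3.NumType.edge_casesT T h2 (by norm_num) (p := 2) (q := 3) (by decide) hp23 with e | e | e | e | e
          · obtain ⟨ea23, eb23⟩ := e
            exfalso
            have t := Groth.Agent.Helper3.NumType.QT5 T h2 0 1 1 2 0 (by norm_num) (by norm_num)
            linarith only [t, z12, ea13, eb13, ea23, eb23, hw1, hw2, hw3]
          · obtain ⟨ea23, eb23⟩ := e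
            exfalso
            have t := Groth.Agent.Helper3.NumType.QT5 T h2 0 1 1 2 0 (by norm_num) (by norm_num)
            linarith only [t, z12, ea13, eb13, ea23, eb23, hw1, hw2, hw3]
          · obtain ⟨ea23, eb23⟩ := e
            exfalso
            have t := Groth.Agent.Helper3.NumType.QT5 T h2 0 1 1 2 0 (by norm_num) (by norm_num)
            linarith only [t, z12, ea13, eb13, ea23, eb23, hw1, hw2, hw3]
          · obtain ⟨ea23, eb23⟩ := e
            exfalso
            have t := Groth.Agent.Helper3.NumType.QT5 T h2 0 1 1 2 0 (by norm_num) (by norm_num)
            linarith only [t, z12, ea13, eb13, ea23, eb23, hw1, hw2, hw3]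
          · obtain ⟨ea23, eb23⟩ := e
            exfalso
            have t := Groth.Agent.Helper3.NumType.QT5 T h2 0 1 1 2 0 (by norm_num) (by norm_num)
            linarith only [t, z12, ea13, eb13, ea23, eb23, hw1, hw2, hw3]
      · rcases Groth.Agent.Helper3.NumType.edge_casesT T h2 (by norm_num) (p := 1) (q := 4) (by decide) hp14 with e | e | e | e | e
        · obtain ⟨ea14, eb14⟩ := e
          exfalso
          have t := Groth.Agent.Helper3.NumType.QT5 T h2 0 2 0 3 1 (by norm_num) (by norm_num)
          linarith only [t, ea13, eb13, ea14, eb14, nn34, hw1, hw3, hw4]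
        · obtain ⟨ea14, eb14⟩ := e
          exfalso
          have t := Groth.Agent.Helper3.NumType.QT5 T h2 1 1 0 0 1 (by norm_num) (by norm_num)
          linarith only [t, z01, ea04, eb04, ea14, eb14, hw0, hw1, hw4]
        · obtain ⟨ea14, eb14⟩ := e
          exfalso
          have t := Groth.Agent.Helper3.NumType.QT5 T h2 2 1 0 0 2 (by norm_num) (by norm_num)
          linarith only [t, z01, ea04, eb04, ea14, eb14, hw0, hw1, hw4]
        · obtain ⟨ea14, eb14⟩ := e
          exfalso
          have t := Groth.Agent.Helper3.NumType.QT5 T h2 1 1 0 0 1 (by norm_num) (by norm_num)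
          linarith only [t, z01, ea04, eb04, ea14, eb14, hw0, hw1, hw4]
        · obtain ⟨ea14, eb14⟩ := e
          exfalso
          have t := Groth.Agent.Helper3.NumType.QT5 T h2 1 1 0 0 2 (by norm_num) (by norm_num)
          linarith only [t, z01, ea04, eb04, ea14, eb14, hw0, hw1, hw4]

theorem g5_ZZZU2E (T : Models.NumericalType 5) (h2 : ∀ i, T.IsMinusTwo i) (z01 : T.a 0 1 = 0) (z02 : T.a 0 2 = 0) (z03 : T.a 0 3 = 0) (hp04 : 0 < T.a 0 4) (ea04 : T.w 4 = 2 * T.w 0) (eb04 : T.a 0 4 = 2 * T.w 0) (hp12 : 0 < T.a 1 2) (ea12 : T.w 2 = T.w 1) (eb12 : T.a 1 2 = T.w 1) :
    Goal5 T := by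
  unfold Goal5
  have hw0 := T.w_pos 0
  have hm0 := T.m_pos 0
  have d0 := (h2 0).2
  have r0 := Groth.Agent.Helper3.NumType.RT5_0 T h2
  have hw1 := T.w_pos 1
  have hm1 := T.m_pos 1
  have d1 := (h2 1).2
  have r1 := Groth.Agent.Helper3.NumType.RT5_1 T h2
  have hw2 := T.w_pos 2
  have hm2 := T.m_pos 2
  have d2 := (h2 2).2
  have r2 := Groth.Agent.Helper3.NumType.RT5_2 T h2
  have hw3 := T.w_pos 3
  have hm3 := T.m_pos 3
  have d3 := (h2 3).2
  have r3 := Groth.Agent.Helper3.NumType.RT5_3 T h2
  have hw4 := T.w_pos 4
  have hm4 := T.m_pos 4
  have d4 := (h2 4).2
  have r4 := Groth.Agent.Helper3.NumType.RT5_4 T h2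
  have nn01 := T.offDiag_nonneg 0 1 (by decide)
  have s10 := Groth.Agent.Helper3.NumType.a_symm T 1 0
  have nn02 := T.offDiag_nonneg 0 2 (by decide)
  have s20 := Groth.Agent.Helper3.NumType.a_symm T 2 0
  have nn03 := T.offDiag_nonneg 0 3 (by decide)
  have s30 := Groth.Agent.Helper3.NumType.a_symm T 3 0
  have nn04 := T.offDiag_nonneg 0 4 (by decide)
  have s40 := Groth.Agent.Helper3.NumType.a_symm T 4 0
  have nn12 := T.offDiag_nonneg 1 2 (by decide)
  have s21 := Groth.Agent.Helper3.NumType.a_symm T 2 1
  have nn13 := T.offDiag_nonneg 1 3 (by decide)
  have s31 := Groth.Agent.Helper3.NumType.a_symm T 3 1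
  have nn14 := T.offDiag_nonneg 1 4 (by decide)
  have s41 := Groth.Agent.Helper3.NumType.a_symm T 4 1
  have nn23 := T.offDiag_nonneg 2 3 (by decide)
  have s32 := Groth.Agent.Helper3.NumType.a_symm T 3 2
  have nn24 := T.offDiag_nonneg 2 4 (by decide)
  have s42 := Groth.Agent.Helper3.NumType.a_symm T 4 2
  have nn34 := T.offDiag_nonneg 3 4 (by decide)
  have s43 := Groth.Agent.Helper3.NumType.a_symm T 4 3
  rcases eq_or_lt_of_le nn13 with z | hp13
  · have z13 : T.a 1 3 = 0 := z.symm
    rcases eq_or_lt_of_le nn14 with z | hp14
    · have z14 : T.a 1 4 = 0 := z.symm
      rcases eq_or_lt_of_le nn23 with z | hp23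
      · have z23 : T.a 2 3 = 0 := z.symm
        rcases eq_or_lt_of_le nn24 with z | hp24
        · have z24 : T.a 2 4 = 0 := z.symm
          exfalso
          obtain ⟨i, hi, j, hj, hij⟩ := T.connected ({1, 2} : Finset (Fin 5)) (by decide) (by decide)
          fin_cases i <;> fin_cases j <;> first | exact absurd hi (by decide) | exact hj (by decide) | (apply hij; first | exact s10.trans z01 | exact z13 | exact z14 | exact s20.trans z02 | exact z23 | exact z24)
        · rcases Groth.Agent.Helper3.NumType.edge_casesT T h2 (by norm_num) (p := 2) (q := 4) (by decide) hp24 with e | e | e | e | e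
          · obtain ⟨ea24, eb24⟩ := e
            rcases eq_or_lt_of_le nn34 with z | hp34
            · have z34 : T.a 3 4 = 0 := z.symm
              exfalso
              obtain ⟨i, hi, j, hj, hij⟩ := T.connected ({0, 1, 2, 4} : Finset (Fin 5)) (by decide) (by decide)
              fin_cases i <;> fin_cases j <;> first | exact absurd hi (by decide) | exact hj (by decide) | (apply hij; first | exact z03 | exact z13 | exact z23 | exact s43.trans z34)
            · rcases Groth.Agent.Helper3.NumType.edge_casesT T h2 (by norm_num) (p := 3) (q := 4) (by decide) hp34 with e | e | e | e | e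
              · obtain ⟨ea34, eb34⟩ := e
                exfalso
                have t := Groth.Agent.Helper3.NumType.QT5 T h2 2 0 1 1 2 (by norm_num) (by norm_num)
                linarith only [t, z02, z03, ea04, eb04, z23, ea24, eb24, ea34, eb34, hw0, hw2, hw3, hw4]
              · obtain ⟨ea34, eb34⟩ := e
                exfalso
                have t := Groth.Agent.Helper3.NumType.QT5 T h2 1 0 0 1 1 (by norm_num) (by norm_num)
                linarith only [t, z03, ea04, eb04, ea34, eb34, hw0, hw3, hw4]
              · obtain ⟨ea34, eb34⟩ := e
                exfalso
                have t := Groth.Agent.Helper3.NumType.QT5 T h2 2 0 0 1 2 (by norm_num) (by norm_num)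
                linarith only [t, z03, ea04, eb04, ea34, eb34, hw0, hw3, hw4]
              · obtain ⟨ea34, eb34⟩ := e
                exfalso
                have t := Groth.Agent.Helper3.NumType.QT5 T h2 1 0 0 1 1 (by norm_num) (by norm_num)
                linarith only [t, z03, ea04, eb04, ea34, eb34, hw0, hw3, hw4]
              · obtain ⟨ea34, eb34⟩ := e
                exfalso
                have t := Groth.Agent.Helper3.NumType.QT5 T h2 1 0 0 1 2 (by norm_num) (by norm_num)
                linarith only [t, z03, ea04, eb04, ea34, eb34, hw0, hw3, hw4]
          · obtain ⟨ea24, eb24⟩ := e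
            exfalso
            have t := Groth.Agent.Helper3.NumType.QT5 T h2 1 0 1 0 1 (by norm_num) (by norm_num)
            linarith only [t, z02, ea04, eb04, ea24, eb24, hw0, hw2, hw4]
          · obtain ⟨ea24, eb24⟩ := e
            exfalso
            have t := Groth.Agent.Helper3.NumType.QT5 T h2 2 0 1 0 2 (by norm_num) (by norm_num)
            linarith only [t, z02, ea04, eb04, ea24, eb24, hw0, hw2, hw4]
          · obtain ⟨ea24, eb24⟩ := e
            exfalso
            have t := Groth.Agent.Helper3.NumType.QT5 T h2 1 0 1 0 1 (by norm_num) (by norm_num)
            linarith only [t, z02, ea04, eb04, ea24, eb24, hw0, hw2, hw4]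
          · obtain ⟨ea24, eb24⟩ := e
            exfalso
            have t := Groth.Agent.Helper3.NumType.QT5 T h2 1 0 1 0 2 (by norm_num) (by norm_num)
            linarith only [t, z02, ea04, eb04, ea24, eb24, hw0, hw2, hw4]
      · rcases Groth.Agent.Helper3.NumType.edge_casesT T h2 (by norm_num) (p := 2) (q := 3) (by decide) hp23 with e | e | e | e | e
        · obtain ⟨ea23, eb23⟩ := e
          rcases eq_or_lt_of_le nn24 with z | hp24
          · have z24 : T.a 2 4 = 0 := z.symm
            rcases eq_or_lt_of_le nn34 with z | hp34
            · have z34 : T.a 3 4 = 0 := z.symm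
              exfalso
              obtain ⟨i, hi, j, hj, hij⟩ := T.connected ({0, 4} : Finset (Fin 5)) (by decide) (by decide)
              fin_cases i <;> fin_cases j <;> first | exact absurd hi (by decide) | exact hj (by decide) | (apply hij; first | exact z01 | exact z02 | exact z03 | exact s41.trans z14 | exact s42.trans z24 | exact s43.trans z34)
            · rcases Groth.Agent.Helper3.NumType.edge_casesT T h2 (by norm_num) (p := 3) (q := 4) (by decide) hp34 with e | e | e | e | e
              · obtain ⟨ea34, eb34⟩ := e
                have hr0 : (-2) * T.m 0 + (2) * T.m 4 = 0 := by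
                  have f4 : T.a 0 4 = 2 * T.w 0 := by linarith only [ea04, eb04]
                  have h : T.w 0 * ((-2) * T.m 0 + (2) * T.m 4) = 0 := by
                    rw [z01, z02, z03, f4] at r0
                    linarith only [r0]
                  rcases mul_eq_zero.mp h with h' | h'
                  · exfalso; linarith only [h', hw0]
                  · exact h'
                have hr1 : (-2) * T.m 1 + (1) * T.m 2 = 0 := by
                  have f2 : T.a 1 2 = T.w 1 := by linarith only [ea12, eb12]
                  have h : T.w 1 * ((-2) * T.m 1 + (1) * T.m 2) = 0 := by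
                    rw [z01, f2, z13, z14] at r1
                    linarith only [r1]
                  rcases mul_eq_zero.mp h with h' | h'
                  · exfalso; linarith only [h', hw1]
                  · exact h'
                have hr2 : (-2) * T.m 2 + (1) * T.m 1 + (1) * T.m 3 = 0 := by
                  have f1 : T.a 1 2 = T.w 2 := by linarith only [ea12, eb12]
                  have f3 : T.a 2 3 = T.w 2 := by linarith only [ea23, eb23]
                  have h : T.w 2 * ((-2) * T.m 2 + (1) * T.m 1 + (1) * T.m 3) = 0 := by
                    rw [z02, f1, f3, z24] at r2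
                    linarith only [r2]
                  rcases mul_eq_zero.mp h with h' | h'
                  · exfalso; linarith only [h', hw2]
                  · exact h'
                have hr3 : (-2) * T.m 3 + (1) * T.m 2 + (1) * T.m 4 = 0 := by
                  have f2 : T.a 2 3 = T.w 3 := by linarith only [ea23, eb23]
                  have f4 : T.a 3 4 = T.w 3 := by linarith only [ea34, eb34]
                  have h : T.w 3 * ((-2) * T.m 3 + (1) * T.m 2 + (1) * T.m 4) = 0 := by
                    rw [z03, z13, f2, f4] at r3
                    linarith only [r3]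
                  rcases mul_eq_zero.mp h with h' | h'
                  · exfalso; linarith only [h', hw3]
                  · exact h'
                have hr4 : (-2) * T.m 4 + (1) * T.m 0 + (1) * T.m 3 = 0 := by
                  have f0 : T.a 0 4 = T.w 4 := by linarith only [ea04, eb04]
                  have f3 : T.a 3 4 = T.w 4 := by linarith only [ea34, eb34]
                  have h : T.w 4 * ((-2) * T.m 4 + (1) * T.m 0 + (1) * T.m 3) = 0 := by
                    rw [f0, z14, z24, f3] at r4
                    linarith only [r4]
                  rcases mul_eq_zero.mp h with h' | h'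
                  · exfalso; linarith only [h', hw4]
                  · exact h'
                exfalso
                linarith only [hr0, hr1, hr2, hr3, hr4, hm0, hm1, hm2, hm3, hm4]
              · obtain ⟨ea34, eb34⟩ := e
                exfalso
                have t := Groth.Agent.Helper3.NumType.QT5 T h2 1 0 0 1 1 (by norm_num) (by norm_num)
                linarith only [t, z03, ea04, eb04, ea34, eb34, hw0, hw3, hw4]
              · obtain ⟨ea34, eb34⟩ := e
                exfalso
                have t := Groth.Agent.Helper3.NumType.QT5 T h2 2 0 0 1 2 (by norm_num) (by norm_num)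
                linarith only [t, z03, ea04, eb04, ea34, eb34, hw0, hw3, hw4]
              · obtain ⟨ea34, eb34⟩ := e
                exfalso
                have t := Groth.Agent.Helper3.NumType.QT5 T h2 1 0 0 1 1 (by norm_num) (by norm_num)
                linarith only [t, z03, ea04, eb04, ea34, eb34, hw0, hw3, hw4]
              · obtain ⟨ea34, eb34⟩ := e
                exfalso
                have t := Groth.Agent.Helper3.NumType.QT5 T h2 1 0 0 1 2 (by norm_num) (by norm_num)
                linarith only [t, z03, ea04, eb04, ea34, eb34, hw0, hw3, hw4]
          · rcases Groth.Agent.Helper3.NumType.edge_casesT T h2 (by norm_num) (p := 2) (q := 4) (by decide) hp24 with e | e | e | e | e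
            · obtain ⟨ea24, eb24⟩ := e
              rcases eq_or_lt_of_le nn34 with z | hp34
              · have z34 : T.a 3 4 = 0 := z.symm
                have hr0 : (-2) * T.m 0 + (2) * T.m 4 = 0 := by
                  have f4 : T.a 0 4 = 2 * T.w 0 := by linarith only [ea04, eb04]
                  have h : T.w 0 * ((-2) * T.m 0 + (2) * T.m 4) = 0 := by
                    rw [z01, z02, z03, f4] at r0
                    linarith only [r0]
                  rcases mul_eq_zero.mp h with h' | h'
                  · exfalso; linarith only [h', hw0]
                  · exact h'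
                have hr1 : (-2) * T.m 1 + (1) * T.m 2 = 0 := by
                  have f2 : T.a 1 2 = T.w 1 := by linarith only [ea12, eb12]
                  have h : T.w 1 * ((-2) * T.m 1 + (1) * T.m 2) = 0 := by
                    rw [z01, f2, z13, z14] at r1
                    linarith only [r1]
                  rcases mul_eq_zero.mp h with h' | h'
                  · exfalso; linarith only [h', hw1]
                  · exact h'
                have hr2 : (-2) * T.m 2 + (1) * T.m 1 + (1) * T.m 3 + (1) * T.m 4 = 0 := by
                  have f1 : T.a 1 2 = T.w 2 := by linarith only [ea12, eb12]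
                  have f3 : T.a 2 3 = T.w 2 := by linarith only [ea23, eb23]
                  have f4 : T.a 2 4 = T.w 2 := by linarith only [ea24, eb24]
                  have h : T.w 2 * ((-2) * T.m 2 + (1) * T.m 1 + (1) * T.m 3 + (1) * T.m 4) = 0 := by
                    rw [z02, f1, f3, f4] at r2
                    linarith only [r2]
                  rcases mul_eq_zero.mp h with h' | h'
                  · exfalso; linarith only [h', hw2]
                  · exact h'
                have hr3 : (-2) * T.m 3 + (1) * T.m 2 = 0 := by
                  have f2 : T.a 2 3 = T.w 3 := by linarith only [ea23, eb23]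
                  have h : T.w 3 * ((-2) * T.m 3 + (1) * T.m 2) = 0 := by
                    rw [z03, z13, f2, z34] at r3
                    linarith only [r3]
                  rcases mul_eq_zero.mp h with h' | h'
                  · exfalso; linarith only [h', hw3]
                  · exact h'
                have hr4 : (-2) * T.m 4 + (1) * T.m 0 + (1) * T.m 2 = 0 := by
                  have f0 : T.a 0 4 = T.w 4 := by linarith only [ea04, eb04]
                  have f2 : T.a 2 4 = T.w 4 := by linarith only [ea24, eb24]
                  have h : T.w 4 * ((-2) * T.m 4 + (1) * T.m 0 + (1) * T.m 2) = 0 := by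
                    rw [f0, z14, f2, z34] at r4
                    linarith only [r4]
                  rcases mul_eq_zero.mp h with h' | h'
                  · exfalso; linarith only [h', hw4]
                  · exact h'
                have w1 : T.w 1 = 2 * T.w 0 := by linarith only [ea04, ea12, ea23, ea24]
                have w2 : T.w 2 = 2 * T.w 0 := by linarith only [ea04, ea12, ea23, ea24]
                have w3 : T.w 3 = 2 * T.w 0 := by linarith only [ea04, ea12, ea23, ea24]
                have w4 : T.w 4 = 2 * T.w 0 := by linarith only [ea04, ea12, ea23, ea24]
                have a04 : T.a 0 4 = 2 * T.w 0 := by linarith only [ea04, eb04, ea12, eb12, ea23, eb23, ea24, eb24]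
                have a12 : T.a 1 2 = 2 * T.w 0 := by linarith only [ea04, eb04, ea12, eb12, ea23, eb23, ea24, eb24]
                have a23 : T.a 2 3 = 2 * T.w 0 := by linarith only [ea04, eb04, ea12, eb12, ea23, eb23, ea24, eb24]
                have a24 : T.a 2 4 = 2 * T.w 0 := by linarith only [ea04, eb04, ea12, eb12, ea23, eb23, ea24, eb24]
                have m0 : T.m 0 = 2 * T.m 1 := by linarith only [hr0, hr1, hr2, hr3, hr4]
                have m2 : T.m 2 = 2 * T.m 1 := by linarith only [hr0, hr1, hr2, hr3, hr4]
                have m3 : T.m 3 = T.m 1 := by linarith only [hr0, hr1, hr2, hr3, hr4]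
                have m4 : T.m 4 = 2 * T.m 1 := by linarith only [hr0, hr1, hr2, hr3, hr4]
                refine ⟨Equiv.ofBijective ![0, 4, 2, 1, 3] (by decide), T.m 1, T.w 0, ?_⟩
                simp only [Equiv.ofBijective_apply, Matrix.cons_val_zero, Matrix.cons_val_one, Matrix.cons_val]
                refine Or.inr (Or.inr (Or.inr (Or.inr (Or.inr (Or.inr (Or.inr (Or.inr (⟨?_, ?_, ?_, ?_, ?_, ?_, ?_, ?_, ?_, ?_, ?_, ?_, ?_, ?_, ?_, ?_, ?_, ?_, ?_, ?_, ?_, ?_, ?_, ?_, ?_⟩))))))))
                all_goals first | rfl | trivial | linarith only [w1, w2, w3, w4, z01, z02, z03, a04, a12, z13, z14, a23, a24, z34, m0, m2, m3, m4, d0, d1, d2, d3, d4, s10, s20, s30, s40, s21, s31, s41, s32, s42, s43]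
              · rcases Groth.Agent.Helper3.NumType.edge_casesT T h2 (by norm_num) (p := 3) (q := 4) (by decide) hp34 with e | e | e | e | e
                · obtain ⟨ea34, eb34⟩ := e
                  exfalso
                  have t := Groth.Agent.Helper3.NumType.QT5 T h2 0 0 1 1 1 (by norm_num) (by norm_num)
                  linarith only [t, ea23, eb23, ea24, eb24, ea34, eb34, hw2, hw3, hw4]
                · obtain ⟨ea34, eb34⟩ := e
                  exfalso
                  have t := Groth.Agent.Helper3.NumType.QT5 T h2 1 0 0 1 1 (by norm_num) (by norm_num)
                  linarith only [t, z03, ea04, eb04, ea34, eb34, hw0, hw3, hw4]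
                · obtain ⟨ea34, eb34⟩ := e
                  exfalso
                  have t := Groth.Agent.Helper3.NumType.QT5 T h2 2 0 0 1 2 (by norm_num) (by norm_num)
                  linarith only [t, z03, ea04, eb04, ea34, eb34, hw0, hw3, hw4]
                · obtain ⟨ea34, eb34⟩ := e
                  exfalso
                  have t := Groth.Agent.Helper3.NumType.QT5 T h2 1 0 0 1 1 (by norm_num) (by norm_num)
                  linarith only [t, z03, ea04, eb04, ea34, eb34, hw0, hw3, hw4]
                · obtain ⟨ea34, eb34⟩ := e
                  exfalso
                  have t := Groth.Agent.Helper3.NumType.QT5 T h2 1 0 0 1 2 (by norm_num) (by norm_num)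
                  linarith only [t, z03, ea04, eb04, ea34, eb34, hw0, hw3, hw4]
            · obtain ⟨ea24, eb24⟩ := e
              exfalso
              have t := Groth.Agent.Helper3.NumType.QT5 T h2 1 0 1 0 1 (by norm_num) (by norm_num)
              linarith only [t, z02, ea04, eb04, ea24, eb24, hw0, hw2, hw4]
            · obtain ⟨ea24, eb24⟩ := e
              exfalso
              have t := Groth.Agent.Helper3.NumType.QT5 T h2 2 0 1 0 2 (by norm_num) (by norm_num)
              linarith only [t, z02, ea04, eb04, ea24, eb24, hw0, hw2, hw4]
            · obtain ⟨ea24, eb24⟩ := e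
              exfalso
              have t := Groth.Agent.Helper3.NumType.QT5 T h2 1 0 1 0 1 (by norm_num) (by norm_num)
              linarith only [t, z02, ea04, eb04, ea24, eb24, hw0, hw2, hw4]
            · obtain ⟨ea24, eb24⟩ := e
              exfalso
              have t := Groth.Agent.Helper3.NumType.QT5 T h2 1 0 1 0 2 (by norm_num) (by norm_num)
              linarith only [t, z02, ea04, eb04, ea24, eb24, hw0, hw2, hw4]
        · obtain ⟨ea23, eb23⟩ := e
          rcases eq_or_lt_of_le nn24 with z | hp24
          · have z24 : T.a 2 4 = 0 := z.symm
            rcases eq_or_lt_of_le nn34 with z | hp34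
            · have z34 : T.a 3 4 = 0 := z.symm
              exfalso
              obtain ⟨i, hi, j, hj, hij⟩ := T.connected ({0, 4} : Finset (Fin 5)) (by decide) (by decide)
              fin_cases i <;> fin_cases j <;> first | exact absurd hi (by decide) | exact hj (by decide) | (apply hij; first | exact z01 | exact z02 | exact z03 | exact s41.trans z14 | exact s42.trans z24 | exact s43.trans z34)
            · rcases Groth.Agent.Helper3.NumType.edge_casesT T h2 (by norm_num) (p := 3) (q := 4) (by decide) hp34 with e | e | e | e | e
              · obtain ⟨ea34, eb34⟩ := e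
                exfalso
                have t := Groth.Agent.Helper3.NumType.QT5 T h2 1 0 1 1 1 (by norm_num) (by norm_num)
                linarith only [t, z02, z03, ea04, eb04, ea23, eb23, z24, ea34, eb34, hw0, hw2, hw3, hw4]
              · obtain ⟨ea34, eb34⟩ := e
                exfalso
                have t := Groth.Agent.Helper3.NumType.QT5 T h2 1 0 0 1 1 (by norm_num) (by norm_num)
                linarith only [t, z03, ea04, eb04, ea34, eb34, hw0, hw3, hw4]
              · obtain ⟨ea34, eb34⟩ := e
                exfalso
                have t := Groth.Agent.Helper3.NumType.QT5 T h2 2 0 0 1 2 (by norm_num) (by norm_num)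
                linarith only [t, z03, ea04, eb04, ea34, eb34, hw0, hw3, hw4]
              · obtain ⟨ea34, eb34⟩ := e
                exfalso
                have t := Groth.Agent.Helper3.NumType.QT5 T h2 1 0 0 1 1 (by norm_num) (by norm_num)
                linarith only [t, z03, ea04, eb04, ea34, eb34, hw0, hw3, hw4]
              · obtain ⟨ea34, eb34⟩ := e
                exfalso
                have t := Groth.Agent.Helper3.NumType.QT5 T h2 1 0 0 1 2 (by norm_num) (by norm_num)
                linarith only [t, z03, ea04, eb04, ea34, eb34, hw0, hw3, hw4]
          · rcases Groth.Agent.Helper3.NumType.edge_casesT T h2 (by norm_num) (p := 2) (q := 4) (by decide) hp24 with e | e | e | e | e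
            · obtain ⟨ea24, eb24⟩ := e
              exfalso
              have t := Groth.Agent.Helper3.NumType.QT5 T h2 2 0 2 1 2 (by norm_num) (by norm_num)
              linarith only [t, z02, z03, ea04, eb04, ea23, eb23, ea24, eb24, nn34, hw0, hw2, hw3, hw4]
            · obtain ⟨ea24, eb24⟩ := e
              exfalso
              have t := Groth.Agent.Helper3.NumType.QT5 T h2 1 0 1 0 1 (by norm_num) (by norm_num)
              linarith only [t, z02, ea04, eb04, ea24, eb24, hw0, hw2, hw4]
            · obtain ⟨ea24, eb24⟩ := e
              exfalso
              have t := Groth.Agent.Helper3.NumType.QT5 T h2 2 0 1 0 2 (by norm_num) (by norm_num)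
              linarith only [t, z02, ea04, eb04, ea24, eb24, hw0, hw2, hw4]
            · obtain ⟨ea24, eb24⟩ := e
              exfalso
              have t := Groth.Agent.Helper3.NumType.QT5 T h2 1 0 1 0 1 (by norm_num) (by norm_num)
              linarith only [t, z02, ea04, eb04, ea24, eb24, hw0, hw2, hw4]
            · obtain ⟨ea24, eb24⟩ := e
              exfalso
              have t := Groth.Agent.Helper3.NumType.QT5 T h2 1 0 1 0 2 (by norm_num) (by norm_num)
              linarith only [t, z02, ea04, eb04, ea24, eb24, hw0, hw2, hw4]
        · obtain ⟨ea23, eb23⟩ := e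
          rcases eq_or_lt_of_le nn24 with z | hp24
          · have z24 : T.a 2 4 = 0 := z.symm
            rcases eq_or_lt_of_le nn34 with z | hp34
            · have z34 : T.a 3 4 = 0 := z.symm
              exfalso
              obtain ⟨i, hi, j, hj, hij⟩ := T.connected ({0, 4} : Finset (Fin 5)) (by decide) (by decide)
              fin_cases i <;> fin_cases j <;> first | exact absurd hi (by decide) | exact hj (by decide) | (apply hij; first | exact z01 | exact z02 | exact z03 | exact s41.trans z14 | exact s42.trans z24 | exact s43.trans z34)
            · rcases Groth.Agent.Helper3.NumType.edge_casesT T h2 (by norm_num) (p := 3) (q := 4) (by decide) hp34 with e | e | e | e | e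
              · obtain ⟨ea34, eb34⟩ := e
                exfalso
                have t := Groth.Agent.Helper3.NumType.QT5 T h2 2 0 1 2 2 (by norm_num) (by norm_num)
                linarith only [t, z02, z03, ea04, eb04, ea23, eb23, z24, ea34, eb34, hw0, hw2, hw3, hw4]
              · obtain ⟨ea34, eb34⟩ := e
                exfalso
                have t := Groth.Agent.Helper3.NumType.QT5 T h2 1 0 0 1 1 (by norm_num) (by norm_num)
                linarith only [t, z03, ea04, eb04, ea34, eb34, hw0, hw3, hw4]
              · obtain ⟨ea34, eb34⟩ := e
                exfalso
                have t := Groth.Agent.Helper3.NumType.QT5 T h2 2 0 0 1 2 (by norm_num) (by norm_num)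
                linarith only [t, z03, ea04, eb04, ea34, eb34, hw0, hw3, hw4]
              · obtain ⟨ea34, eb34⟩ := e
                exfalso
                have t := Groth.Agent.Helper3.NumType.QT5 T h2 1 0 0 1 1 (by norm_num) (by norm_num)
                linarith only [t, z03, ea04, eb04, ea34, eb34, hw0, hw3, hw4]
              · obtain ⟨ea34, eb34⟩ := e
                exfalso
                have t := Groth.Agent.Helper3.NumType.QT5 T h2 1 0 0 1 2 (by norm_num) (by norm_num)
                linarith only [t, z03, ea04, eb04, ea34, eb34, hw0, hw3, hw4]
          · rcases Groth.Agent.Helper3.NumType.edge_casesT T h2 (by norm_num) (p := 2) (q := 4) (by decide) hp24 with e | e | e | e | e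
            · obtain ⟨ea24, eb24⟩ := e
              exfalso
              have t := Groth.Agent.Helper3.NumType.QT5 T h2 1 0 1 1 1 (by norm_num) (by norm_num)
              linarith only [t, z02, z03, ea04, eb04, ea23, eb23, ea24, eb24, nn34, hw0, hw2, hw3, hw4]
            · obtain ⟨ea24, eb24⟩ := e
              exfalso
              have t := Groth.Agent.Helper3.NumType.QT5 T h2 1 0 1 0 1 (by norm_num) (by norm_num)
              linarith only [t, z02, ea04, eb04, ea24, eb24, hw0, hw2, hw4]
            · obtain ⟨ea24, eb24⟩ := e
              exfalso
              have t := Groth.Agent.Helper3.NumType.QT5 T h2 2 0 1 0 2 (by norm_num) (by norm_num)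
              linarith only [t, z02, ea04, eb04, ea24, eb24, hw0, hw2, hw4]
            · obtain ⟨ea24, eb24⟩ := e
              exfalso
              have t := Groth.Agent.Helper3.NumType.QT5 T h2 1 0 1 0 1 (by norm_num) (by norm_num)
              linarith only [t, z02, ea04, eb04, ea24, eb24, hw0, hw2, hw4]
            · obtain ⟨ea24, eb24⟩ := e
              exfalso
              have t := Groth.Agent.Helper3.NumType.QT5 T h2 1 0 1 0 2 (by norm_num) (by norm_num)
              linarith only [t, z02, ea04, eb04, ea24, eb24, hw0, hw2, hw4]
        · obtain ⟨ea23, eb23⟩ := e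
          exfalso
          have t := Groth.Agent.Helper3.NumType.QT5 T h2 0 1 2 1 0 (by norm_num) (by norm_num)
          linarith only [t, ea12, eb12, z13, ea23, eb23, hw1, hw2, hw3]
        · obtain ⟨ea23, eb23⟩ := e
          exfalso
          have t := Groth.Agent.Helper3.NumType.QT5 T h2 0 1 2 3 0 (by norm_num) (by norm_num)
          linarith only [t, ea12, eb12, z13, ea23, eb23, hw1, hw2, hw3]
    · rcases Groth.Agent.Helper3.NumType.edge_casesT T h2 (by norm_num) (p := 1) (q := 4) (by decide) hp14 with e | e | e | e | e
      · obtain ⟨ea14, eb14⟩ := e
        rcases eq_or_lt_of_le nn23 with z | hp23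
        · have z23 : T.a 2 3 = 0 := z.symm
          rcases eq_or_lt_of_le nn24 with z | hp24
          · have z24 : T.a 2 4 = 0 := z.symm
            rcases eq_or_lt_of_le nn34 with z | hp34
            · have z34 : T.a 3 4 = 0 := z.symm
              exfalso
              obtain ⟨i, hi, j, hj, hij⟩ := T.connected ({0, 1, 2, 4} : Finset (Fin 5)) (by decide) (by decide)
              fin_cases i <;> fin_cases j <;> first | exact absurd hi (by decide) | exact hj (by decide) | (apply hij; first | exact z03 | exact z13 | exact z23 | exact s43.trans z34)
            · rcases Groth.Agent.Helper3.NumType.edge_casesT T h2 (by norm_num) (p := 3) (q := 4) (by decide) hp34 with e | e | e | e | e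
              · obtain ⟨ea34, eb34⟩ := e
                exfalso
                have t := Groth.Agent.Helper3.NumType.QT5 T h2 2 1 0 1 2 (by norm_num) (by norm_num)
                linarith only [t, z01, z03, ea04, eb04, z13, ea14, eb14, ea34, eb34, hw0, hw1, hw3, hw4]
              · obtain ⟨ea34, eb34⟩ := e
                exfalso
                have t := Groth.Agent.Helper3.NumType.QT5 T h2 1 0 0 1 1 (by norm_num) (by norm_num)
                linarith only [t, z03, ea04, eb04, ea34, eb34, hw0, hw3, hw4]
              · obtain ⟨ea34, eb34⟩ := e
                exfalso
                have t := Groth.Agent.Helper3.NumType.QT5 T h2 2 0 0 1 2 (by norm_num) (by norm_num)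
                linarith only [t, z03, ea04, eb04, ea34, eb34, hw0, hw3, hw4]
              · obtain ⟨ea34, eb34⟩ := e
                exfalso
                have t := Groth.Agent.Helper3.NumType.QT5 T h2 1 0 0 1 1 (by norm_num) (by norm_num)
                linarith only [t, z03, ea04, eb04, ea34, eb34, hw0, hw3, hw4]
              · obtain ⟨ea34, eb34⟩ := e
                exfalso
                have t := Groth.Agent.Helper3.NumType.QT5 T h2 1 0 0 1 2 (by norm_num) (by norm_num)
                linarith only [t, z03, ea04, eb04, ea34, eb34, hw0, hw3, hw4]
          · rcases Groth.Agent.Helper3.NumType.edge_casesT T h2 (by norm_num) (p := 2) (q := 4) (by decide) hp24 with e | e | e | e | e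
            · obtain ⟨ea24, eb24⟩ := e
              exfalso
              have t := Groth.Agent.Helper3.NumType.QT5 T h2 0 1 1 0 1 (by norm_num) (by norm_num)
              linarith only [t, ea12, eb12, ea14, eb14, ea24, eb24, hw1, hw2, hw4]
            · obtain ⟨ea24, eb24⟩ := e
              exfalso
              have t := Groth.Agent.Helper3.NumType.QT5 T h2 1 0 1 0 1 (by norm_num) (by norm_num)
              linarith only [t, z02, ea04, eb04, ea24, eb24, hw0, hw2, hw4]
            · obtain ⟨ea24, eb24⟩ := e
              exfalso
              have t := Groth.Agent.Helper3.NumType.QT5 T h2 2 0 1 0 2 (by norm_num) (by norm_num)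
              linarith only [t, z02, ea04, eb04, ea24, eb24, hw0, hw2, hw4]
            · obtain ⟨ea24, eb24⟩ := e
              exfalso
              have t := Groth.Agent.Helper3.NumType.QT5 T h2 1 0 1 0 1 (by norm_num) (by norm_num)
              linarith only [t, z02, ea04, eb04, ea24, eb24, hw0, hw2, hw4]
            · obtain ⟨ea24, eb24⟩ := e
              exfalso
              have t := Groth.Agent.Helper3.NumType.QT5 T h2 1 0 1 0 2 (by norm_num) (by norm_num)
              linarith only [t, z02, ea04, eb04, ea24, eb24, hw0, hw2, hw4]
        · rcases Groth.Agent.Helper3.NumType.edge_casesT T h2 (by norm_num) (p := 2) (q := 3) (by decide) hp23 with e | e | e | e | e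
          · obtain ⟨ea23, eb23⟩ := e
            rcases eq_or_lt_of_le nn24 with z | hp24
            · have z24 : T.a 2 4 = 0 := z.symm
              rcases eq_or_lt_of_le nn34 with z | hp34
              · have z34 : T.a 3 4 = 0 := z.symm
                have hr0 : (-2) * T.m 0 + (2) * T.m 4 = 0 := by
                  have f4 : T.a 0 4 = 2 * T.w 0 := by linarith only [ea04, eb04]
                  have h : T.w 0 * ((-2) * T.m 0 + (2) * T.m 4) = 0 := by
                    rw [z01, z02, z03, f4] at r0
                    linarith only [r0]
                  rcases mul_eq_zero.mp h with h' | h'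
                  · exfalso; linarith only [h', hw0]
                  · exact h'
                have hr1 : (-2) * T.m 1 + (1) * T.m 2 + (1) * T.m 4 = 0 := by
                  have f2 : T.a 1 2 = T.w 1 := by linarith only [ea12, eb12]
                  have f4 : T.a 1 4 = T.w 1 := by linarith only [ea14, eb14]
                  have h : T.w 1 * ((-2) * T.m 1 + (1) * T.m 2 + (1) * T.m 4) = 0 := by
                    rw [z01, f2, z13, f4] at r1
                    linarith only [r1]
                  rcases mul_eq_zero.mp h with h' | h'
                  · exfalso; linarith only [h', hw1]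
                  · exact h'
                have hr2 : (-2) * T.m 2 + (1) * T.m 1 + (1) * T.m 3 = 0 := by
                  have f1 : T.a 1 2 = T.w 2 := by linarith only [ea12, eb12]
                  have f3 : T.a 2 3 = T.w 2 := by linarith only [ea23, eb23]
                  have h : T.w 2 * ((-2) * T.m 2 + (1) * T.m 1 + (1) * T.m 3) = 0 := by
                    rw [z02, f1, f3, z24] at r2
                    linarith only [r2]
                  rcases mul_eq_zero.mp h with h' | h'
                  · exfalso; linarith only [h', hw2]
                  · exact h'
                have hr3 : (-2) * T.m 3 + (1) * T.m 2 = 0 := by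
                  have f2 : T.a 2 3 = T.w 3 := by linarith only [ea23, eb23]
                  have h : T.w 3 * ((-2) * T.m 3 + (1) * T.m 2) = 0 := by
                    rw [z03, z13, f2, z34] at r3
                    linarith only [r3]
                  rcases mul_eq_zero.mp h with h' | h'
                  · exfalso; linarith only [h', hw3]
                  · exact h'
                have hr4 : (-2) * T.m 4 + (1) * T.m 0 + (1) * T.m 1 = 0 := by
                  have f0 : T.a 0 4 = T.w 4 := by linarith only [ea04, eb04]
                  have f1 : T.a 1 4 = T.w 4 := by linarith only [ea14, eb14]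
                  have h : T.w 4 * ((-2) * T.m 4 + (1) * T.m 0 + (1) * T.m 1) = 0 := by
                    rw [f0, f1, z24, z34] at r4
                    linarith only [r4]
                  rcases mul_eq_zero.mp h with h' | h'
                  · exfalso; linarith only [h', hw4]
                  · exact h'
                exfalso
                linarith only [hr0, hr1, hr2, hr3, hr4, hm0, hm1, hm2, hm3, hm4]
              · rcases Groth.Agent.Helper3.NumType.edge_casesT T h2 (by norm_num) (p := 3) (q := 4) (by decide) hp34 with e | e | e | e | e
                · obtain ⟨ea34, eb34⟩ := e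
                  exfalso
                  have t := Groth.Agent.Helper3.NumType.QT5 T h2 2 1 0 1 2 (by norm_num) (by norm_num)
                  linarith only [t, z01, z03, ea04, eb04, z13, ea14, eb14, ea34, eb34, hw0, hw1, hw3, hw4]
                · obtain ⟨ea34, eb34⟩ := e
                  exfalso
                  have t := Groth.Agent.Helper3.NumType.QT5 T h2 1 0 0 1 1 (by norm_num) (by norm_num)
                  linarith only [t, z03, ea04, eb04, ea34, eb34, hw0, hw3, hw4]
                · obtain ⟨ea34, eb34⟩ := e
                  exfalso
                  have t := Groth.Agent.Helper3.NumType.QT5 T h2 2 0 0 1 2 (by norm_num) (by norm_num)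
                  linarith only [t, z03, ea04, eb04, ea34, eb34, hw0, hw3, hw4]
                · obtain ⟨ea34, eb34⟩ := e
                  exfalso
                  have t := Groth.Agent.Helper3.NumType.QT5 T h2 1 0 0 1 1 (by norm_num) (by norm_num)
                  linarith only [t, z03, ea04, eb04, ea34, eb34, hw0, hw3, hw4]
                · obtain ⟨ea34, eb34⟩ := e
                  exfalso
                  have t := Groth.Agent.Helper3.NumType.QT5 T h2 1 0 0 1 2 (by norm_num) (by norm_num)
                  linarith only [t, z03, ea04, eb04, ea34, eb34, hw0, hw3, hw4]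
            · rcases Groth.Agent.Helper3.NumType.edge_casesT T h2 (by norm_num) (p := 2) (q := 4) (by decide) hp24 with e | e | e | e | e
              · obtain ⟨ea24, eb24⟩ := e
                exfalso
                have t := Groth.Agent.Helper3.NumType.QT5 T h2 0 1 1 0 1 (by norm_num) (by norm_num)
                linarith only [t, ea12, eb12, ea14, eb14, ea24, eb24, hw1, hw2, hw4]
              · obtain ⟨ea24, eb24⟩ := e
                exfalso
                have t := Groth.Agent.Helper3.NumType.QT5 T h2 1 0 1 0 1 (by norm_num) (by norm_num)
                linarith only [t, z02, ea04, eb04, ea24, eb24, hw0, hw2, hw4]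
              · obtain ⟨ea24, eb24⟩ := e
                exfalso
                have t := Groth.Agent.Helper3.NumType.QT5 T h2 2 0 1 0 2 (by norm_num) (by norm_num)
                linarith only [t, z02, ea04, eb04, ea24, eb24, hw0, hw2, hw4]
              · obtain ⟨ea24, eb24⟩ := e
                exfalso
                have t := Groth.Agent.Helper3.NumType.QT5 T h2 1 0 1 0 1 (by norm_num) (by norm_num)
                linarith only [t, z02, ea04, eb04, ea24, eb24, hw0, hw2, hw4]
              · obtain ⟨ea24, eb24⟩ := e
                exfalso
                have t := Groth.Agent.Helper3.NumType.QT5 T h2 1 0 1 0 2 (by norm_num) (by norm_num)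
                linarith only [t, z02, ea04, eb04, ea24, eb24, hw0, hw2, hw4]
          · obtain ⟨ea23, eb23⟩ := e
            rcases eq_or_lt_of_le nn24 with z | hp24
            · have z24 : T.a 2 4 = 0 := z.symm
              rcases eq_or_lt_of_le nn34 with z | hp34
              · have z34 : T.a 3 4 = 0 := z.symm
                have hr0 : (-2) * T.m 0 + (2) * T.m 4 = 0 := by
                  have f4 : T.a 0 4 = 2 * T.w 0 := by linarith only [ea04, eb04]
                  have h : T.w 0 * ((-2) * T.m 0 + (2) * T.m 4) = 0 := by
                    rw [z01, z02, z03, f4] at r0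
                    linarith only [r0]
                  rcases mul_eq_zero.mp h with h' | h'
                  · exfalso; linarith only [h', hw0]
                  · exact h'
                have hr1 : (-2) * T.m 1 + (1) * T.m 2 + (1) * T.m 4 = 0 := by
                  have f2 : T.a 1 2 = T.w 1 := by linarith only [ea12, eb12]
                  have f4 : T.a 1 4 = T.w 1 := by linarith only [ea14, eb14]
                  have h : T.w 1 * ((-2) * T.m 1 + (1) * T.m 2 + (1) * T.m 4) = 0 := by
                    rw [z01, f2, z13, f4] at r1
                    linarith only [r1]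
                  rcases mul_eq_zero.mp h with h' | h'
                  · exfalso; linarith only [h', hw1]
                  · exact h'
                have hr2 : (-2) * T.m 2 + (1) * T.m 1 + (2) * T.m 3 = 0 := by
                  have f1 : T.a 1 2 = T.w 2 := by linarith only [ea12, eb12]
                  have f3 : T.a 2 3 = 2 * T.w 2 := by linarith only [ea23, eb23]
                  have h : T.w 2 * ((-2) * T.m 2 + (1) * T.m 1 + (2) * T.m 3) = 0 := by
                    rw [z02, f1, f3, z24] at r2
                    linarith only [r2]
                  rcases mul_eq_zero.mp h with h' | h'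
                  · exfalso; linarith only [h', hw2]
                  · exact h'
                have hr3 : (-2) * T.m 3 + (1) * T.m 2 = 0 := by
                  have f2 : T.a 2 3 = T.w 3 := by linarith only [ea23, eb23]
                  have h : T.w 3 * ((-2) * T.m 3 + (1) * T.m 2) = 0 := by
                    rw [z03, z13, f2, z34] at r3
                    linarith only [r3]
                  rcases mul_eq_zero.mp h with h' | h'
                  · exfalso; linarith only [h', hw3]
                  · exact h'
                have hr4 : (-2) * T.m 4 + (1) * T.m 0 + (1) * T.m 1 = 0 := by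
                  have f0 : T.a 0 4 = T.w 4 := by linarith only [ea04, eb04]
                  have f1 : T.a 1 4 = T.w 4 := by linarith only [ea14, eb14]
                  have h : T.w 4 * ((-2) * T.m 4 + (1) * T.m 0 + (1) * T.m 1) = 0 := by
                    rw [f0, f1, z24, z34] at r4
                    linarith only [r4]
                  rcases mul_eq_zero.mp h with h' | h'
                  · exfalso; linarith only [h', hw4]
                  · exact h'
                have w1 : T.w 1 = 2 * T.w 0 := by linarith only [ea04, ea12, ea14, ea23]
                have w2 : T.w 2 = 2 * T.w 0 := by linarith only [ea04, ea12, ea14, ea23]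
                have w3 : T.w 3 = 4 * T.w 0 := by linarith only [ea04, ea12, ea14, ea23]
                have w4 : T.w 4 = 2 * T.w 0 := by linarith only [ea04, ea12, ea14, ea23]
                have a04 : T.a 0 4 = 2 * T.w 0 := by linarith only [ea04, eb04, ea12, eb12, ea14, eb14, ea23, eb23]
                have a12 : T.a 1 2 = 2 * T.w 0 := by linarith only [ea04, eb04, ea12, eb12, ea14, eb14, ea23, eb23]
                have a14 : T.a 1 4 = 2 * T.w 0 := by linarith only [ea04, eb04, ea12, eb12, ea14, eb14, ea23, eb23]
                have a23 : T.a 2 3 = 4 * T.w 0 := by linarith only [ea04, eb04, ea12, eb12, ea14, eb14, ea23, eb23]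
                have m0 : T.m 0 = 2 * T.m 3 := by linarith only [hr0, hr1, hr2, hr3, hr4]
                have m1 : T.m 1 = 2 * T.m 3 := by linarith only [hr0, hr1, hr2, hr3, hr4]
                have m2 : T.m 2 = 2 * T.m 3 := by linarith only [hr0, hr1, hr2, hr3, hr4]
                have m4 : T.m 4 = 2 * T.m 3 := by linarith only [hr0, hr1, hr2, hr3, hr4]
                refine ⟨Equiv.ofBijective ![0, 4, 1, 2, 3] (by decide), T.m 3, T.w 0, ?_⟩
                simp only [Equiv.ofBijective_apply, Matrix.cons_val_zero, Matrix.cons_val_one, Matrix.cons_val]
                refine Or.inr (Or.inr (Or.inr (Or.inl ⟨?_, ?_, ?_, ?_, ?_, ?_, ?_, ?_, ?_, ?_, ?_, ?_, ?_, ?_, ?_, ?_, ?_, ?_, ?_, ?_, ?_, ?_, ?_, ?_, ?_⟩)))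
                all_goals first | rfl | trivial | linarith only [w1, w2, w3, w4, z01, z02, z03, a04, a12, z13, a14, a23, z24, z34, m0, m1, m2, m4, d0, d1, d2, d3, d4, s10, s20, s30, s40, s21, s31, s41, s32, s42, s43]
              · rcases Groth.Agent.Helper3.NumType.edge_casesT T h2 (by norm_num) (p := 3) (q := 4) (by decide) hp34 with e | e | e | e | e
                · obtain ⟨ea34, eb34⟩ := e
                  exfalso
                  have t := Groth.Agent.Helper3.NumType.QT5 T h2 2 1 0 1 2 (by norm_num) (by norm_num)
                  linarith only [t, z01, z03, ea04, eb04, z13, ea14, eb14, ea34, eb34, hw0, hw1, hw3, hw4]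
                · obtain ⟨ea34, eb34⟩ := e
                  exfalso
                  have t := Groth.Agent.Helper3.NumType.QT5 T h2 1 0 0 1 1 (by norm_num) (by norm_num)
                  linarith only [t, z03, ea04, eb04, ea34, eb34, hw0, hw3, hw4]
                · obtain ⟨ea34, eb34⟩ := e
                  exfalso
                  have t := Groth.Agent.Helper3.NumType.QT5 T h2 2 0 0 1 2 (by norm_num) (by norm_num)
                  linarith only [t, z03, ea04, eb04, ea34, eb34, hw0, hw3, hw4]
                · obtain ⟨ea34, eb34⟩ := e
                  exfalso
                  have t := Groth.Agent.Helper3.NumType.QT5 T h2 1 0 0 1 1 (by norm_num) (by norm_num)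
                  linarith only [t, z03, ea04, eb04, ea34, eb34, hw0, hw3, hw4]
                · obtain ⟨ea34, eb34⟩ := e
                  exfalso
                  have t := Groth.Agent.Helper3.NumType.QT5 T h2 1 0 0 1 2 (by norm_num) (by norm_num)
                  linarith only [t, z03, ea04, eb04, ea34, eb34, hw0, hw3, hw4]
            · rcases Groth.Agent.Helper3.NumType.edge_casesT T h2 (by norm_num) (p := 2) (q := 4) (by decide) hp24 with e | e | e | e | e
              · obtain ⟨ea24, eb24⟩ := e
                exfalso
                have t := Groth.Agent.Helper3.NumType.QT5 T h2 0 1 1 0 1 (by norm_num) (by norm_num)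
                linarith only [t, ea12, eb12, ea14, eb14, ea24, eb24, hw1, hw2, hw4]
              · obtain ⟨ea24, eb24⟩ := e
                exfalso
                have t := Groth.Agent.Helper3.NumType.QT5 T h2 1 0 1 0 1 (by norm_num) (by norm_num)
                linarith only [t, z02, ea04, eb04, ea24, eb24, hw0, hw2, hw4]
              · obtain ⟨ea24, eb24⟩ := e
                exfalso
                have t := Groth.Agent.Helper3.NumType.QT5 T h2 2 0 1 0 2 (by norm_num) (by norm_num)
                linarith only [t, z02, ea04, eb04, ea24, eb24, hw0, hw2, hw4]
              · obtain ⟨ea24, eb24⟩ := e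
                exfalso
                have t := Groth.Agent.Helper3.NumType.QT5 T h2 1 0 1 0 1 (by norm_num) (by norm_num)
                linarith only [t, z02, ea04, eb04, ea24, eb24, hw0, hw2, hw4]
              · obtain ⟨ea24, eb24⟩ := e
                exfalso
                have t := Groth.Agent.Helper3.NumType.QT5 T h2 1 0 1 0 2 (by norm_num) (by norm_num)
                linarith only [t, z02, ea04, eb04, ea24, eb24, hw0, hw2, hw4]
          · obtain ⟨ea23, eb23⟩ := e
            rcases eq_or_lt_of_le nn24 with z | hp24
            · have z24 : T.a 2 4 = 0 := z.symm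
              rcases eq_or_lt_of_le nn34 with z | hp34
              · have z34 : T.a 3 4 = 0 := z.symm
                have hr0 : (-2) * T.m 0 + (2) * T.m 4 = 0 := by
                  have f4 : T.a 0 4 = 2 * T.w 0 := by linarith only [ea04, eb04]
                  have h : T.w 0 * ((-2) * T.m 0 + (2) * T.m 4) = 0 := by
                    rw [z01, z02, z03, f4] at r0
                    linarith only [r0]
                  rcases mul_eq_zero.mp h with h' | h'
                  · exfalso; linarith only [h', hw0]
                  · exact h'
                have hr1 : (-2) * T.m 1 + (1) * T.m 2 + (1) * T.m 4 = 0 := by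
                  have f2 : T.a 1 2 = T.w 1 := by linarith only [ea12, eb12]
                  have f4 : T.a 1 4 = T.w 1 := by linarith only [ea14, eb14]
                  have h : T.w 1 * ((-2) * T.m 1 + (1) * T.m 2 + (1) * T.m 4) = 0 := by
                    rw [z01, f2, z13, f4] at r1
                    linarith only [r1]
                  rcases mul_eq_zero.mp h with h' | h'
                  · exfalso; linarith only [h', hw1]
                  · exact h'
                have hr2 : (-2) * T.m 2 + (1) * T.m 1 + (1) * T.m 3 = 0 := by
                  have f1 : T.a 1 2 = T.w 2 := by linarith only [ea12, eb12]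
                  have f3 : T.a 2 3 = T.w 2 := by linarith only [ea23, eb23]
                  have h : T.w 2 * ((-2) * T.m 2 + (1) * T.m 1 + (1) * T.m 3) = 0 := by
                    rw [z02, f1, f3, z24] at r2
                    linarith only [r2]
                  rcases mul_eq_zero.mp h with h' | h'
                  · exfalso; linarith only [h', hw2]
                  · exact h'
                have hr3 : (-2) * T.m 3 + (2) * T.m 2 = 0 := by
                  have f2 : T.a 2 3 = 2 * T.w 3 := by linarith only [ea23, eb23]
                  have h : T.w 3 * ((-2) * T.m 3 + (2) * T.m 2) = 0 := by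
                    rw [z03, z13, f2, z34] at r3
                    linarith only [r3]
                  rcases mul_eq_zero.mp h with h' | h'
                  · exfalso; linarith only [h', hw3]
                  · exact h'
                have hr4 : (-2) * T.m 4 + (1) * T.m 0 + (1) * T.m 1 = 0 := by
                  have f0 : T.a 0 4 = T.w 4 := by linarith only [ea04, eb04]
                  have f1 : T.a 1 4 = T.w 4 := by linarith only [ea14, eb14]
                  have h : T.w 4 * ((-2) * T.m 4 + (1) * T.m 0 + (1) * T.m 1) = 0 := by
                    rw [f0, f1, z24, z34] at r4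
                    linarith only [r4]
                  rcases mul_eq_zero.mp h with h' | h'
                  · exfalso; linarith only [h', hw4]
                  · exact h'
                have w1 : T.w 1 = 2 * T.w 0 := by linarith only [ea04, ea12, ea14, ea23]
                have w2 : T.w 2 = 2 * T.w 0 := by linarith only [ea04, ea12, ea14, ea23]
                have w3 : T.w 3 = T.w 0 := by linarith only [ea04, ea12, ea14, ea23]
                have w4 : T.w 4 = 2 * T.w 0 := by linarith only [ea04, ea12, ea14, ea23]
                have a04 : T.a 0 4 = 2 * T.w 0 := by linarith only [ea04, eb04, ea12, eb12, ea14, eb14, ea23, eb23]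
                have a12 : T.a 1 2 = 2 * T.w 0 := by linarith only [ea04, eb04, ea12, eb12, ea14, eb14, ea23, eb23]
                have a14 : T.a 1 4 = 2 * T.w 0 := by linarith only [ea04, eb04, ea12, eb12, ea14, eb14, ea23, eb23]
                have a23 : T.a 2 3 = 2 * T.w 0 := by linarith only [ea04, eb04, ea12, eb12, ea14, eb14, ea23, eb23]
                have m1 : T.m 1 = T.m 0 := by linarith only [hr0, hr1, hr2, hr3, hr4]
                have m2 : T.m 2 = T.m 0 := by linarith only [hr0, hr1, hr2, hr3, hr4]
                have m3 : T.m 3 = T.m 0 := by linarith only [hr0, hr1, hr2, hr3, hr4]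
                have m4 : T.m 4 = T.m 0 := by linarith only [hr0, hr1, hr2, hr3, hr4]
                refine ⟨Equiv.ofBijective ![0, 4, 1, 2, 3] (by decide), T.m 0, T.w 0, ?_⟩
                simp only [Equiv.ofBijective_apply, Matrix.cons_val_zero, Matrix.cons_val_one, Matrix.cons_val]
                refine Or.inr (Or.inr (Or.inr (Or.inr (Or.inl ⟨?_, ?_, ?_, ?_, ?_, ?_, ?_, ?_, ?_, ?_, ?_, ?_, ?_, ?_, ?_, ?_, ?_, ?_, ?_, ?_, ?_, ?_, ?_, ?_, ?_⟩))))
                all_goals first | rfl | trivial | linarith only [w1, w2, w3, w4, z01, z02, z03, a04, a12, z13, a14, a23, z24, z34, m1, m2, m3, m4, d0, d1, d2, d3, d4, s10, s20, s30, s40, s21, s31, s41, s32, s42, s43]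
              · rcases Groth.Agent.Helper3.NumType.edge_casesT T h2 (by norm_num) (p := 3) (q := 4) (by decide) hp34 with e | e | e | e | e
                · obtain ⟨ea34, eb34⟩ := e
                  exfalso
                  have t := Groth.Agent.Helper3.NumType.QT5 T h2 2 1 0 1 2 (by norm_num) (by norm_num)
                  linarith only [t, z01, z03, ea04, eb04, z13, ea14, eb14, ea34, eb34, hw0, hw1, hw3, hw4]
                · obtain ⟨ea34, eb34⟩ := e
                  exfalso
                  have t := Groth.Agent.Helper3.NumType.QT5 T h2 1 0 0 1 1 (by norm_num) (by norm_num)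
                  linarith only [t, z03, ea04, eb04, ea34, eb34, hw0, hw3, hw4]
                · obtain ⟨ea34, eb34⟩ := e
                  exfalso
                  have t := Groth.Agent.Helper3.NumType.QT5 T h2 2 0 0 1 2 (by norm_num) (by norm_num)
                  linarith only [t, z03, ea04, eb04, ea34, eb34, hw0, hw3, hw4]
                · obtain ⟨ea34, eb34⟩ := e
                  exfalso
                  have t := Groth.Agent.Helper3.NumType.QT5 T h2 1 0 0 1 1 (by norm_num) (by norm_num)
                  linarith only [t, z03, ea04, eb04, ea34, eb34, hw0, hw3, hw4]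
                · obtain ⟨ea34, eb34⟩ := e
                  exfalso
                  have t := Groth.Agent.Helper3.NumType.QT5 T h2 1 0 0 1 2 (by norm_num) (by norm_num)
                  linarith only [t, z03, ea04, eb04, ea34, eb34, hw0, hw3, hw4]
            · rcases Groth.Agent.Helper3.NumType.edge_casesT T h2 (by norm_num) (p := 2) (q := 4) (by decide) hp24 with e | e | e | e | e
              · obtain ⟨ea24, eb24⟩ := e
                exfalso
                have t := Groth.Agent.Helper3.NumType.QT5 T h2 0 1 1 0 1 (by norm_num) (by norm_num)
                linarith only [t, ea12, eb12, ea14, eb14, ea24, eb24, hw1, hw2, hw4]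
              · obtain ⟨ea24, eb24⟩ := e
                exfalso
                have t := Groth.Agent.Helper3.NumType.QT5 T h2 1 0 1 0 1 (by norm_num) (by norm_num)
                linarith only [t, z02, ea04, eb04, ea24, eb24, hw0, hw2, hw4]
              · obtain ⟨ea24, eb24⟩ := e
                exfalso
                have t := Groth.Agent.Helper3.NumType.QT5 T h2 2 0 1 0 2 (by norm_num) (by norm_num)
                linarith only [t, z02, ea04, eb04, ea24, eb24, hw0, hw2, hw4]
              · obtain ⟨ea24, eb24⟩ := e
                exfalso
                have t := Groth.Agent.Helper3.NumType.QT5 T h2 1 0 1 0 1 (by norm_num) (by norm_num)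
                linarith only [t, z02, ea04, eb04, ea24, eb24, hw0, hw2, hw4]
              · obtain ⟨ea24, eb24⟩ := e
                exfalso
                have t := Groth.Agent.Helper3.NumType.QT5 T h2 1 0 1 0 2 (by norm_num) (by norm_num)
                linarith only [t, z02, ea04, eb04, ea24, eb24, hw0, hw2, hw4]
          · obtain ⟨ea23, eb23⟩ := e
            exfalso
            have t := Groth.Agent.Helper3.NumType.QT5 T h2 0 1 2 1 0 (by norm_num) (by norm_num)
            linarith only [t, ea12, eb12, z13, ea23, eb23, hw1, hw2, hw3]
          · obtain ⟨ea23, eb23⟩ := e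
            exfalso
            have t := Groth.Agent.Helper3.NumType.QT5 T h2 0 1 2 3 0 (by norm_num) (by norm_num)
            linarith only [t, ea12, eb12, z13, ea23, eb23, hw1, hw2, hw3]
      · obtain ⟨ea14, eb14⟩ := e
        exfalso
        have t := Groth.Agent.Helper3.NumType.QT5 T h2 1 1 0 0 1 (by norm_num) (by norm_num)
        linarith only [t, z01, ea04, eb04, ea14, eb14, hw0, hw1, hw4]
      · obtain ⟨ea14, eb14⟩ := e
        exfalso
        have t := Groth.Agent.Helper3.NumType.QT5 T h2 2 1 0 0 2 (by norm_num) (by norm_num)
        linarith only [t, z01, ea04, eb04, ea14, eb14, hw0, hw1, hw4]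
      · obtain ⟨ea14, eb14⟩ := e
        exfalso
        have t := Groth.Agent.Helper3.NumType.QT5 T h2 1 1 0 0 1 (by norm_num) (by norm_num)
        linarith only [t, z01, ea04, eb04, ea14, eb14, hw0, hw1, hw4]
      · obtain ⟨ea14, eb14⟩ := e
        exfalso
        have t := Groth.Agent.Helper3.NumType.QT5 T h2 1 1 0 0 2 (by norm_num) (by norm_num)
        linarith only [t, z01, ea04, eb04, ea14, eb14, hw0, hw1, hw4]
  · rcases Groth.Agent.Helper3.NumType.edge_casesT T h2 (by norm_num) (p := 1) (q := 3) (by decide) hp13 with e | e | e | e | e
    · obtain ⟨ea13, eb13⟩ := e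
      rcases eq_or_lt_of_le nn14 with z | hp14
      · have z14 : T.a 1 4 = 0 := z.symm
        rcases eq_or_lt_of_le nn23 with z | hp23
        · have z23 : T.a 2 3 = 0 := z.symm
          rcases eq_or_lt_of_le nn24 with z | hp24
          · have z24 : T.a 2 4 = 0 := z.symm
            rcases eq_or_lt_of_le nn34 with z | hp34
            · have z34 : T.a 3 4 = 0 := z.symm
              exfalso
              obtain ⟨i, hi, j, hj, hij⟩ := T.connected ({0, 4} : Finset (Fin 5)) (by decide) (by decide)
              fin_cases i <;> fin_cases j <;> first | exact absurd hi (by decide) | exact hj (by decide) | (apply hij; first | exact z01 | exact z02 | exact z03 | exact s41.trans z14 | exact s42.trans z24 | exact s43.trans z34)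
            · rcases Groth.Agent.Helper3.NumType.edge_casesT T h2 (by norm_num) (p := 3) (q := 4) (by decide) hp34 with e | e | e | e | e
              · obtain ⟨ea34, eb34⟩ := e
                have hr0 : (-2) * T.m 0 + (2) * T.m 4 = 0 := by
                  have f4 : T.a 0 4 = 2 * T.w 0 := by linarith only [ea04, eb04]
                  have h : T.w 0 * ((-2) * T.m 0 + (2) * T.m 4) = 0 := by
                    rw [z01, z02, z03, f4] at r0
                    linarith only [r0]
                  rcases mul_eq_zero.mp h with h' | h'
                  · exfalso; linarith only [h', hw0]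
                  · exact h'
                have hr1 : (-2) * T.m 1 + (1) * T.m 2 + (1) * T.m 3 = 0 := by
                  have f2 : T.a 1 2 = T.w 1 := by linarith only [ea12, eb12]
                  have f3 : T.a 1 3 = T.w 1 := by linarith only [ea13, eb13]
                  have h : T.w 1 * ((-2) * T.m 1 + (1) * T.m 2 + (1) * T.m 3) = 0 := by
                    rw [z01, f2, f3, z14] at r1
                    linarith only [r1]
                  rcases mul_eq_zero.mp h with h' | h'
                  · exfalso; linarith only [h', hw1]
                  · exact h'
                have hr2 : (-2) * T.m 2 + (1) * T.m 1 = 0 := by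
                  have f1 : T.a 1 2 = T.w 2 := by linarith only [ea12, eb12]
                  have h : T.w 2 * ((-2) * T.m 2 + (1) * T.m 1) = 0 := by
                    rw [z02, f1, z23, z24] at r2
                    linarith only [r2]
                  rcases mul_eq_zero.mp h with h' | h'
                  · exfalso; linarith only [h', hw2]
                  · exact h'
                have hr3 : (-2) * T.m 3 + (1) * T.m 1 + (1) * T.m 4 = 0 := by
                  have f1 : T.a 1 3 = T.w 3 := by linarith only [ea13, eb13]
                  have f4 : T.a 3 4 = T.w 3 := by linarith only [ea34, eb34]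
                  have h : T.w 3 * ((-2) * T.m 3 + (1) * T.m 1 + (1) * T.m 4) = 0 := by
                    rw [z03, f1, z23, f4] at r3
                    linarith only [r3]
                  rcases mul_eq_zero.mp h with h' | h'
                  · exfalso; linarith only [h', hw3]
                  · exact h'
                have hr4 : (-2) * T.m 4 + (1) * T.m 0 + (1) * T.m 3 = 0 := by
                  have f0 : T.a 0 4 = T.w 4 := by linarith only [ea04, eb04]
                  have f3 : T.a 3 4 = T.w 4 := by linarith only [ea34, eb34]
                  have h : T.w 4 * ((-2) * T.m 4 + (1) * T.m 0 + (1) * T.m 3) = 0 := by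
                    rw [f0, z14, z24, f3] at r4
                    linarith only [r4]
                  rcases mul_eq_zero.mp h with h' | h'
                  · exfalso; linarith only [h', hw4]
                  · exact h'
                exfalso
                linarith only [hr0, hr1, hr2, hr3, hr4, hm0, hm1, hm2, hm3, hm4]
              · obtain ⟨ea34, eb34⟩ := e
                exfalso
                have t := Groth.Agent.Helper3.NumType.QT5 T h2 1 0 0 1 1 (by norm_num) (by norm_num)
                linarith only [t, z03, ea04, eb04, ea34, eb34, hw0, hw3, hw4]
              · obtain ⟨ea34, eb34⟩ := e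
                exfalso
                have t := Groth.Agent.Helper3.NumType.QT5 T h2 2 0 0 1 2 (by norm_num) (by norm_num)
                linarith only [t, z03, ea04, eb04, ea34, eb34, hw0, hw3, hw4]
              · obtain ⟨ea34, eb34⟩ := e
                exfalso
                have t := Groth.Agent.Helper3.NumType.QT5 T h2 1 0 0 1 1 (by norm_num) (by norm_num)
                linarith only [t, z03, ea04, eb04, ea34, eb34, hw0, hw3, hw4]
              · obtain ⟨ea34, eb34⟩ := e
                exfalso
                have t := Groth.Agent.Helper3.NumType.QT5 T h2 1 0 0 1 2 (by norm_num) (by norm_num)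
                linarith only [t, z03, ea04, eb04, ea34, eb34, hw0, hw3, hw4]
          · rcases Groth.Agent.Helper3.NumType.edge_casesT T h2 (by norm_num) (p := 2) (q := 4) (by decide) hp24 with e | e | e | e | e
            · obtain ⟨ea24, eb24⟩ := e
              rcases eq_or_lt_of_le nn34 with z | hp34
              · have z34 : T.a 3 4 = 0 := z.symm
                have hr0 : (-2) * T.m 0 + (2) * T.m 4 = 0 := by
                  have f4 : T.a 0 4 = 2 * T.w 0 := by linarith only [ea04, eb04]
                  have h : T.w 0 * ((-2) * T.m 0 + (2) * T.m 4) = 0 := by
                    rw [z01, z02, z03, f4] at r0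
                    linarith only [r0]
                  rcases mul_eq_zero.mp h with h' | h'
                  · exfalso; linarith only [h', hw0]
                  · exact h'
                have hr1 : (-2) * T.m 1 + (1) * T.m 2 + (1) * T.m 3 = 0 := by
                  have f2 : T.a 1 2 = T.w 1 := by linarith only [ea12, eb12]
                  have f3 : T.a 1 3 = T.w 1 := by linarith only [ea13, eb13]
                  have h : T.w 1 * ((-2) * T.m 1 + (1) * T.m 2 + (1) * T.m 3) = 0 := by
                    rw [z01, f2, f3, z14] at r1
                    linarith only [r1]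
                  rcases mul_eq_zero.mp h with h' | h'
                  · exfalso; linarith only [h', hw1]
                  · exact h'
                have hr2 : (-2) * T.m 2 + (1) * T.m 1 + (1) * T.m 4 = 0 := by
                  have f1 : T.a 1 2 = T.w 2 := by linarith only [ea12, eb12]
                  have f4 : T.a 2 4 = T.w 2 := by linarith only [ea24, eb24]
                  have h : T.w 2 * ((-2) * T.m 2 + (1) * T.m 1 + (1) * T.m 4) = 0 := by
                    rw [z02, f1, z23, f4] at r2
                    linarith only [r2]
                  rcases mul_eq_zero.mp h with h' | h'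
                  · exfalso; linarith only [h', hw2]
                  · exact h'
                have hr3 : (-2) * T.m 3 + (1) * T.m 1 = 0 := by
                  have f1 : T.a 1 3 = T.w 3 := by linarith only [ea13, eb13]
                  have h : T.w 3 * ((-2) * T.m 3 + (1) * T.m 1) = 0 := by
                    rw [z03, f1, z23, z34] at r3
                    linarith only [r3]
                  rcases mul_eq_zero.mp h with h' | h'
                  · exfalso; linarith only [h', hw3]
                  · exact h'
                have hr4 : (-2) * T.m 4 + (1) * T.m 0 + (1) * T.m 2 = 0 := by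
                  have f0 : T.a 0 4 = T.w 4 := by linarith only [ea04, eb04]
                  have f2 : T.a 2 4 = T.w 4 := by linarith only [ea24, eb24]
                  have h : T.w 4 * ((-2) * T.m 4 + (1) * T.m 0 + (1) * T.m 2) = 0 := by
                    rw [f0, z14, f2, z34] at r4
                    linarith only [r4]
                  rcases mul_eq_zero.mp h with h' | h'
                  · exfalso; linarith only [h', hw4]
                  · exact h'
                exfalso
                linarith only [hr0, hr1, hr2, hr3, hr4, hm0, hm1, hm2, hm3, hm4]
              · rcases Groth.Agent.Helper3.NumType.edge_casesT T h2 (by norm_num) (p := 3) (q := 4) (by decide) hp34 with e | e | e | e | e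
                · obtain ⟨ea34, eb34⟩ := e
                  exfalso
                  have t := Groth.Agent.Helper3.NumType.QT5 T h2 2 0 1 1 2 (by norm_num) (by norm_num)
                  linarith only [t, z02, z03, ea04, eb04, z23, ea24, eb24, ea34, eb34, hw0, hw2, hw3, hw4]
                · obtain ⟨ea34, eb34⟩ := e
                  exfalso
                  have t := Groth.Agent.Helper3.NumType.QT5 T h2 1 0 0 1 1 (by norm_num) (by norm_num)
                  linarith only [t, z03, ea04, eb04, ea34, eb34, hw0, hw3, hw4]
                · obtain ⟨ea34, eb34⟩ := e
                  exfalso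
                  have t := Groth.Agent.Helper3.NumType.QT5 T h2 2 0 0 1 2 (by norm_num) (by norm_num)
                  linarith only [t, z03, ea04, eb04, ea34, eb34, hw0, hw3, hw4]
                · obtain ⟨ea34, eb34⟩ := e
                  exfalso
                  have t := Groth.Agent.Helper3.NumType.QT5 T h2 1 0 0 1 1 (by norm_num) (by norm_num)
                  linarith only [t, z03, ea04, eb04, ea34, eb34, hw0, hw3, hw4]
                · obtain ⟨ea34, eb34⟩ := e
                  exfalso
                  have t := Groth.Agent.Helper3.NumType.QT5 T h2 1 0 0 1 2 (by norm_num) (by norm_num)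
                  linarith only [t, z03, ea04, eb04, ea34, eb34, hw0, hw3, hw4]
            · obtain ⟨ea24, eb24⟩ := e
              exfalso
              have t := Groth.Agent.Helper3.NumType.QT5 T h2 1 0 1 0 1 (by norm_num) (by norm_num)
              linarith only [t, z02, ea04, eb04, ea24, eb24, hw0, hw2, hw4]
            · obtain ⟨ea24, eb24⟩ := e
              exfalso
              have t := Groth.Agent.Helper3.NumType.QT5 T h2 2 0 1 0 2 (by norm_num) (by norm_num)
              linarith only [t, z02, ea04, eb04, ea24, eb24, hw0, hw2, hw4]
            · obtain ⟨ea24, eb24⟩ := e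
              exfalso
              have t := Groth.Agent.Helper3.NumType.QT5 T h2 1 0 1 0 1 (by norm_num) (by norm_num)
              linarith only [t, z02, ea04, eb04, ea24, eb24, hw0, hw2, hw4]
            · obtain ⟨ea24, eb24⟩ := e
              exfalso
              have t := Groth.Agent.Helper3.NumType.QT5 T h2 1 0 1 0 2 (by norm_num) (by norm_num)
              linarith only [t, z02, ea04, eb04, ea24, eb24, hw0, hw2, hw4]
        · rcases Groth.Agent.Helper3.NumType.edge_casesT T h2 (by norm_num) (p := 2) (q := 3) (by decide) hp23 with e | e | e | e | e
          · obtain ⟨ea23, eb23⟩ := e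
            exfalso
            have t := Groth.Agent.Helper3.NumType.QT5 T h2 0 1 1 1 0 (by norm_num) (by norm_num)
            linarith only [t, ea12, eb12, ea13, eb13, ea23, eb23, hw1, hw2, hw3]
          · obtain ⟨ea23, eb23⟩ := e
            exfalso
            linarith only [ea12, ea13, ea23, hw1, hw2, hw3]
          · obtain ⟨ea23, eb23⟩ := e
            exfalso
            linarith only [ea12, ea13, ea23, hw1, hw2, hw3]
          · obtain ⟨ea23, eb23⟩ := e
            exfalso
            linarith only [ea12, ea13, ea23, hw1, hw2, hw3]
          · obtain ⟨ea23, eb23⟩ := e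
            exfalso
            linarith only [ea12, ea13, ea23, hw1, hw2, hw3]
      · rcases Groth.Agent.Helper3.NumType.edge_casesT T h2 (by norm_num) (p := 1) (q := 4) (by decide) hp14 with e | e | e | e | e
        · obtain ⟨ea14, eb14⟩ := e
          rcases eq_or_lt_of_le nn23 with z | hp23
          · have z23 : T.a 2 3 = 0 := z.symm
            rcases eq_or_lt_of_le nn24 with z | hp24
            · have z24 : T.a 2 4 = 0 := z.symm
              rcases eq_or_lt_of_le nn34 with z | hp34
              · have z34 : T.a 3 4 = 0 := z.symm
                have hr0 : (-2) * T.m 0 + (2) * T.m 4 = 0 := by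
                  have f4 : T.a 0 4 = 2 * T.w 0 := by linarith only [ea04, eb04]
                  have h : T.w 0 * ((-2) * T.m 0 + (2) * T.m 4) = 0 := by
                    rw [z01, z02, z03, f4] at r0
                    linarith only [r0]
                  rcases mul_eq_zero.mp h with h' | h'
                  · exfalso; linarith only [h', hw0]
                  · exact h'
                have hr1 : (-2) * T.m 1 + (1) * T.m 2 + (1) * T.m 3 + (1) * T.m 4 = 0 := by
                  have f2 : T.a 1 2 = T.w 1 := by linarith only [ea12, eb12]
                  have f3 : T.a 1 3 = T.w 1 := by linarith only [ea13, eb13]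
                  have f4 : T.a 1 4 = T.w 1 := by linarith only [ea14, eb14]
                  have h : T.w 1 * ((-2) * T.m 1 + (1) * T.m 2 + (1) * T.m 3 + (1) * T.m 4) = 0 := by
                    rw [z01, f2, f3, f4] at r1
                    linarith only [r1]
                  rcases mul_eq_zero.mp h with h' | h'
                  · exfalso; linarith only [h', hw1]
                  · exact h'
                have hr2 : (-2) * T.m 2 + (1) * T.m 1 = 0 := by
                  have f1 : T.a 1 2 = T.w 2 := by linarith only [ea12, eb12]
                  have h : T.w 2 * ((-2) * T.m 2 + (1) * T.m 1) = 0 := by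
                    rw [z02, f1, z23, z24] at r2
                    linarith only [r2]
                  rcases mul_eq_zero.mp h with h' | h'
                  · exfalso; linarith only [h', hw2]
                  · exact h'
                have hr3 : (-2) * T.m 3 + (1) * T.m 1 = 0 := by
                  have f1 : T.a 1 3 = T.w 3 := by linarith only [ea13, eb13]
                  have h : T.w 3 * ((-2) * T.m 3 + (1) * T.m 1) = 0 := by
                    rw [z03, f1, z23, z34] at r3
                    linarith only [r3]
                  rcases mul_eq_zero.mp h with h' | h'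
                  · exfalso; linarith only [h', hw3]
                  · exact h'
                have hr4 : (-2) * T.m 4 + (1) * T.m 0 + (1) * T.m 1 = 0 := by
                  have f0 : T.a 0 4 = T.w 4 := by linarith only [ea04, eb04]
                  have f1 : T.a 1 4 = T.w 4 := by linarith only [ea14, eb14]
                  have h : T.w 4 * ((-2) * T.m 4 + (1) * T.m 0 + (1) * T.m 1) = 0 := by
                    rw [f0, f1, z24, z34] at r4
                    linarith only [r4]
                  rcases mul_eq_zero.mp h with h' | h'
                  · exfalso; linarith only [h', hw4]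
                  · exact h'
                have w1 : T.w 1 = 2 * T.w 0 := by linarith only [ea04, ea12, ea13, ea14]
                have w2 : T.w 2 = 2 * T.w 0 := by linarith only [ea04, ea12, ea13, ea14]
                have w3 : T.w 3 = 2 * T.w 0 := by linarith only [ea04, ea12, ea13, ea14]
                have w4 : T.w 4 = 2 * T.w 0 := by linarith only [ea04, ea12, ea13, ea14]
                have a04 : T.a 0 4 = 2 * T.w 0 := by linarith only [ea04, eb04, ea12, eb12, ea13, eb13, ea14, eb14]
                have a12 : T.a 1 2 = 2 * T.w 0 := by linarith only [ea04, eb04, ea12, eb12, ea13, eb13, ea14, eb14]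
                have a13 : T.a 1 3 = 2 * T.w 0 := by linarith only [ea04, eb04, ea12, eb12, ea13, eb13, ea14, eb14]
                have a14 : T.a 1 4 = 2 * T.w 0 := by linarith only [ea04, eb04, ea12, eb12, ea13, eb13, ea14, eb14]
                have m0 : T.m 0 = 2 * T.m 2 := by linarith only [hr0, hr1, hr2, hr3, hr4]
                have m1 : T.m 1 = 2 * T.m 2 := by linarith only [hr0, hr1, hr2, hr3, hr4]
                have m3 : T.m 3 = T.m 2 := by linarith only [hr0, hr1, hr2, hr3, hr4]
                have m4 : T.m 4 = 2 * T.m 2 := by linarith only [hr0, hr1, hr2, hr3, hr4]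
                refine ⟨Equiv.ofBijective ![0, 4, 1, 2, 3] (by decide), T.m 2, T.w 0, ?_⟩
                simp only [Equiv.ofBijective_apply, Matrix.cons_val_zero, Matrix.cons_val_one, Matrix.cons_val]
                refine Or.inr (Or.inr (Or.inr (Or.inr (Or.inr (Or.inr (Or.inr (Or.inr (⟨?_, ?_, ?_, ?_, ?_, ?_, ?_, ?_, ?_, ?_, ?_, ?_, ?_, ?_, ?_, ?_, ?_, ?_, ?_, ?_, ?_, ?_, ?_, ?_, ?_⟩))))))))
                all_goals first | rfl | trivial | linarith only [w1, w2, w3, w4, z01, z02, z03, a04, a12, a13, a14, z23, z24, z34, m0, m1, m3, m4, d0, d1, d2, d3, d4, s10, s20, s30, s40, s21, s31, s41, s32, s42, s43]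
              · rcases Groth.Agent.Helper3.NumType.edge_casesT T h2 (by norm_num) (p := 3) (q := 4) (by decide) hp34 with e | e | e | e | e
                · obtain ⟨ea34, eb34⟩ := e
                  exfalso
                  have t := Groth.Agent.Helper3.NumType.QT5 T h2 0 1 0 1 1 (by norm_num) (by norm_num)
                  linarith only [t, ea13, eb13, ea14, eb14, ea34, eb34, hw1, hw3, hw4]
                · obtain ⟨ea34, eb34⟩ := e
                  exfalso
                  have t := Groth.Agent.Helper3.NumType.QT5 T h2 1 0 0 1 1 (by norm_num) (by norm_num)
                  linarith only [t, z03, ea04, eb04, ea34, eb34, hw0, hw3, hw4]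
                · obtain ⟨ea34, eb34⟩ := e
                  exfalso
                  have t := Groth.Agent.Helper3.NumType.QT5 T h2 2 0 0 1 2 (by norm_num) (by norm_num)
                  linarith only [t, z03, ea04, eb04, ea34, eb34, hw0, hw3, hw4]
                · obtain ⟨ea34, eb34⟩ := e
                  exfalso
                  have t := Groth.Agent.Helper3.NumType.QT5 T h2 1 0 0 1 1 (by norm_num) (by norm_num)
                  linarith only [t, z03, ea04, eb04, ea34, eb34, hw0, hw3, hw4]
                · obtain ⟨ea34, eb34⟩ := e
                  exfalso
                  have t := Groth.Agent.Helper3.NumType.QT5 T h2 1 0 0 1 2 (by norm_num) (by norm_num)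
                  linarith only [t, z03, ea04, eb04, ea34, eb34, hw0, hw3, hw4]
            · rcases Groth.Agent.Helper3.NumType.edge_casesT T h2 (by norm_num) (p := 2) (q := 4) (by decide) hp24 with e | e | e | e | e
              · obtain ⟨ea24, eb24⟩ := e
                exfalso
                have t := Groth.Agent.Helper3.NumType.QT5 T h2 0 1 1 0 1 (by norm_num) (by norm_num)
                linarith only [t, ea12, eb12, ea14, eb14, ea24, eb24, hw1, hw2, hw4]
              · obtain ⟨ea24, eb24⟩ := e
                exfalso
                have t := Groth.Agent.Helper3.NumType.QT5 T h2 1 0 1 0 1 (by norm_num) (by norm_num)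
                linarith only [t, z02, ea04, eb04, ea24, eb24, hw0, hw2, hw4]
              · obtain ⟨ea24, eb24⟩ := e
                exfalso
                have t := Groth.Agent.Helper3.NumType.QT5 T h2 2 0 1 0 2 (by norm_num) (by norm_num)
                linarith only [t, z02, ea04, eb04, ea24, eb24, hw0, hw2, hw4]
              · obtain ⟨ea24, eb24⟩ := e
                exfalso
                have t := Groth.Agent.Helper3.NumType.QT5 T h2 1 0 1 0 1 (by norm_num) (by norm_num)
                linarith only [t, z02, ea04, eb04, ea24, eb24, hw0, hw2, hw4]
              · obtain ⟨ea24, eb24⟩ := e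
                exfalso
                have t := Groth.Agent.Helper3.NumType.QT5 T h2 1 0 1 0 2 (by norm_num) (by norm_num)
                linarith only [t, z02, ea04, eb04, ea24, eb24, hw0, hw2, hw4]
          · rcases Groth.Agent.Helper3.NumType.edge_casesT T h2 (by norm_num) (p := 2) (q := 3) (by decide) hp23 with e | e | e | e | e
            · obtain ⟨ea23, eb23⟩ := e
              exfalso
              have t := Groth.Agent.Helper3.NumType.QT5 T h2 0 1 1 1 0 (by norm_num) (by norm_num)
              linarith only [t, ea12, eb12, ea13, eb13, ea23, eb23, hw1, hw2, hw3]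
            · obtain ⟨ea23, eb23⟩ := e
              exfalso
              linarith only [ea12, ea13, ea23, hw1, hw2, hw3]
            · obtain ⟨ea23, eb23⟩ := e
              exfalso
              linarith only [ea12, ea13, ea23, hw1, hw2, hw3]
            · obtain ⟨ea23, eb23⟩ := e
              exfalso
              linarith only [ea12, ea13, ea23, hw1, hw2, hw3]
            · obtain ⟨ea23, eb23⟩ := e
              exfalso
              linarith only [ea12, ea13, ea23, hw1, hw2, hw3]
        · obtain ⟨ea14, eb14⟩ := e
          exfalso
          have t := Groth.Agent.Helper3.NumType.QT5 T h2 1 1 0 0 1 (by norm_num) (by norm_num)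
          linarith only [t, z01, ea04, eb04, ea14, eb14, hw0, hw1, hw4]
        · obtain ⟨ea14, eb14⟩ := e
          exfalso
          have t := Groth.Agent.Helper3.NumType.QT5 T h2 2 1 0 0 2 (by norm_num) (by norm_num)
          linarith only [t, z01, ea04, eb04, ea14, eb14, hw0, hw1, hw4]
        · obtain ⟨ea14, eb14⟩ := e
          exfalso
          have t := Groth.Agent.Helper3.NumType.QT5 T h2 1 1 0 0 1 (by norm_num) (by norm_num)
          linarith only [t, z01, ea04, eb04, ea14, eb14, hw0, hw1, hw4]
        · obtain ⟨ea14, eb14⟩ := e
          exfalso
          have t := Groth.Agent.Helper3.NumType.QT5 T h2 1 1 0 0 2 (by norm_num) (by norm_num)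
          linarith only [t, z01, ea04, eb04, ea14, eb14, hw0, hw1, hw4]
    · obtain ⟨ea13, eb13⟩ := e
      rcases eq_or_lt_of_le nn14 with z | hp14
      · have z14 : T.a 1 4 = 0 := z.symm
        rcases eq_or_lt_of_le nn23 with z | hp23
        · have z23 : T.a 2 3 = 0 := z.symm
          rcases eq_or_lt_of_le nn24 with z | hp24
          · have z24 : T.a 2 4 = 0 := z.symm
            rcases eq_or_lt_of_le nn34 with z | hp34
            · have z34 : T.a 3 4 = 0 := z.symm
              exfalso
              obtain ⟨i, hi, j, hj, hij⟩ := T.connected ({0, 4} : Finset (Fin 5)) (by decide) (by decide)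
              fin_cases i <;> fin_cases j <;> first | exact absurd hi (by decide) | exact hj (by decide) | (apply hij; first | exact z01 | exact z02 | exact z03 | exact s41.trans z14 | exact s42.trans z24 | exact s43.trans z34)
            · rcases Groth.Agent.Helper3.NumType.edge_casesT T h2 (by norm_num) (p := 3) (q := 4) (by decide) hp34 with e | e | e | e | e
              · obtain ⟨ea34, eb34⟩ := e
                exfalso
                have t := Groth.Agent.Helper3.NumType.QT5 T h2 1 1 0 1 1 (by norm_num) (by norm_num)
                linarith only [t, z01, z03, ea04, eb04, ea13, eb13, z14, ea34, eb34, hw0, hw1, hw3, hw4]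
              · obtain ⟨ea34, eb34⟩ := e
                exfalso
                have t := Groth.Agent.Helper3.NumType.QT5 T h2 1 0 0 1 1 (by norm_num) (by norm_num)
                linarith only [t, z03, ea04, eb04, ea34, eb34, hw0, hw3, hw4]
              · obtain ⟨ea34, eb34⟩ := e
                exfalso
                have t := Groth.Agent.Helper3.NumType.QT5 T h2 2 0 0 1 2 (by norm_num) (by norm_num)
                linarith only [t, z03, ea04, eb04, ea34, eb34, hw0, hw3, hw4]
              · obtain ⟨ea34, eb34⟩ := e
                exfalso
                have t := Groth.Agent.Helper3.NumType.QT5 T h2 1 0 0 1 1 (by norm_num) (by norm_num)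
                linarith only [t, z03, ea04, eb04, ea34, eb34, hw0, hw3, hw4]
              · obtain ⟨ea34, eb34⟩ := e
                exfalso
                have t := Groth.Agent.Helper3.NumType.QT5 T h2 1 0 0 1 2 (by norm_num) (by norm_num)
                linarith only [t, z03, ea04, eb04, ea34, eb34, hw0, hw3, hw4]
          · rcases Groth.Agent.Helper3.NumType.edge_casesT T h2 (by norm_num) (p := 2) (q := 4) (by decide) hp24 with e | e | e | e | e
            · obtain ⟨ea24, eb24⟩ := e
              rcases eq_or_lt_of_le nn34 with z | hp34
              · have z34 : T.a 3 4 = 0 := z.symm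
                have hr0 : (-2) * T.m 0 + (2) * T.m 4 = 0 := by
                  have f4 : T.a 0 4 = 2 * T.w 0 := by linarith only [ea04, eb04]
                  have h : T.w 0 * ((-2) * T.m 0 + (2) * T.m 4) = 0 := by
                    rw [z01, z02, z03, f4] at r0
                    linarith only [r0]
                  rcases mul_eq_zero.mp h with h' | h'
                  · exfalso; linarith only [h', hw0]
                  · exact h'
                have hr1 : (-2) * T.m 1 + (1) * T.m 2 + (2) * T.m 3 = 0 := by
                  have f2 : T.a 1 2 = T.w 1 := by linarith only [ea12, eb12]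
                  have f3 : T.a 1 3 = 2 * T.w 1 := by linarith only [ea13, eb13]
                  have h : T.w 1 * ((-2) * T.m 1 + (1) * T.m 2 + (2) * T.m 3) = 0 := by
                    rw [z01, f2, f3, z14] at r1
                    linarith only [r1]
                  rcases mul_eq_zero.mp h with h' | h'
                  · exfalso; linarith only [h', hw1]
                  · exact h'
                have hr2 : (-2) * T.m 2 + (1) * T.m 1 + (1) * T.m 4 = 0 := by
                  have f1 : T.a 1 2 = T.w 2 := by linarith only [ea12, eb12]
                  have f4 : T.a 2 4 = T.w 2 := by linarith only [ea24, eb24]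
                  have h : T.w 2 * ((-2) * T.m 2 + (1) * T.m 1 + (1) * T.m 4) = 0 := by
                    rw [z02, f1, z23, f4] at r2
                    linarith only [r2]
                  rcases mul_eq_zero.mp h with h' | h'
                  · exfalso; linarith only [h', hw2]
                  · exact h'
                have hr3 : (-2) * T.m 3 + (1) * T.m 1 = 0 := by
                  have f1 : T.a 1 3 = T.w 3 := by linarith only [ea13, eb13]
                  have h : T.w 3 * ((-2) * T.m 3 + (1) * T.m 1) = 0 := by
                    rw [z03, f1, z23, z34] at r3
                    linarith only [r3]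
                  rcases mul_eq_zero.mp h with h' | h'
                  · exfalso; linarith only [h', hw3]
                  · exact h'
                have hr4 : (-2) * T.m 4 + (1) * T.m 0 + (1) * T.m 2 = 0 := by
                  have f0 : T.a 0 4 = T.w 4 := by linarith only [ea04, eb04]
                  have f2 : T.a 2 4 = T.w 4 := by linarith only [ea24, eb24]
                  have h : T.w 4 * ((-2) * T.m 4 + (1) * T.m 0 + (1) * T.m 2) = 0 := by
                    rw [f0, z14, f2, z34] at r4
                    linarith only [r4]
                  rcases mul_eq_zero.mp h with h' | h'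
                  · exfalso; linarith only [h', hw4]
                  · exact h'
                have w1 : T.w 1 = 2 * T.w 0 := by linarith only [ea04, ea12, ea13, ea24]
                have w2 : T.w 2 = 2 * T.w 0 := by linarith only [ea04, ea12, ea13, ea24]
                have w3 : T.w 3 = 4 * T.w 0 := by linarith only [ea04, ea12, ea13, ea24]
                have w4 : T.w 4 = 2 * T.w 0 := by linarith only [ea04, ea12, ea13, ea24]
                have a04 : T.a 0 4 = 2 * T.w 0 := by linarith only [ea04, eb04, ea12, eb12, ea13, eb13, ea24, eb24]
                have a12 : T.a 1 2 = 2 * T.w 0 := by linarith only [ea04, eb04, ea12, eb12, ea13, eb13, ea24, eb24]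
                have a13 : T.a 1 3 = 4 * T.w 0 := by linarith only [ea04, eb04, ea12, eb12, ea13, eb13, ea24, eb24]
                have a24 : T.a 2 4 = 2 * T.w 0 := by linarith only [ea04, eb04, ea12, eb12, ea13, eb13, ea24, eb24]
                have m0 : T.m 0 = 2 * T.m 3 := by linarith only [hr0, hr1, hr2, hr3, hr4]
                have m1 : T.m 1 = 2 * T.m 3 := by linarith only [hr0, hr1, hr2, hr3, hr4]
                have m2 : T.m 2 = 2 * T.m 3 := by linarith only [hr0, hr1, hr2, hr3, hr4]
                have m4 : T.m 4 = 2 * T.m 3 := by linarith only [hr0, hr1, hr2, hr3, hr4]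
                refine ⟨Equiv.ofBijective ![0, 4, 2, 1, 3] (by decide), T.m 3, T.w 0, ?_⟩
                simp only [Equiv.ofBijective_apply, Matrix.cons_val_zero, Matrix.cons_val_one, Matrix.cons_val]
                refine Or.inr (Or.inr (Or.inr (Or.inl ⟨?_, ?_, ?_, ?_, ?_, ?_, ?_, ?_, ?_, ?_, ?_, ?_, ?_, ?_, ?_, ?_, ?_, ?_, ?_, ?_, ?_, ?_, ?_, ?_, ?_⟩)))
                all_goals first | rfl | trivial | linarith only [w1, w2, w3, w4, z01, z02, z03, a04, a12, a13, z14, z23, a24, z34, m0, m1, m2, m4, d0, d1, d2, d3, d4, s10, s20, s30, s40, s21, s31, s41, s32, s42, s43]
              · rcases Groth.Agent.Helper3.NumType.edge_casesT T h2 (by norm_num) (p := 3) (q := 4) (by decide) hp34 with e | e | e | e | e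
                · obtain ⟨ea34, eb34⟩ := e
                  exfalso
                  have t := Groth.Agent.Helper3.NumType.QT5 T h2 1 1 0 1 1 (by norm_num) (by norm_num)
                  linarith only [t, z01, z03, ea04, eb04, ea13, eb13, z14, ea34, eb34, hw0, hw1, hw3, hw4]
                · obtain ⟨ea34, eb34⟩ := e
                  exfalso
                  have t := Groth.Agent.Helper3.NumType.QT5 T h2 1 0 0 1 1 (by norm_num) (by norm_num)
                  linarith only [t, z03, ea04, eb04, ea34, eb34, hw0, hw3, hw4]
                · obtain ⟨ea34, eb34⟩ := e
                  exfalso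
                  have t := Groth.Agent.Helper3.NumType.QT5 T h2 2 0 0 1 2 (by norm_num) (by norm_num)
                  linarith only [t, z03, ea04, eb04, ea34, eb34, hw0, hw3, hw4]
                · obtain ⟨ea34, eb34⟩ := e
                  exfalso
                  have t := Groth.Agent.Helper3.NumType.QT5 T h2 1 0 0 1 1 (by norm_num) (by norm_num)
                  linarith only [t, z03, ea04, eb04, ea34, eb34, hw0, hw3, hw4]
                · obtain ⟨ea34, eb34⟩ := e
                  exfalso
                  have t := Groth.Agent.Helper3.NumType.QT5 T h2 1 0 0 1 2 (by norm_num) (by norm_num)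
                  linarith only [t, z03, ea04, eb04, ea34, eb34, hw0, hw3, hw4]
            · obtain ⟨ea24, eb24⟩ := e
              exfalso
              have t := Groth.Agent.Helper3.NumType.QT5 T h2 1 0 1 0 1 (by norm_num) (by norm_num)
              linarith only [t, z02, ea04, eb04, ea24, eb24, hw0, hw2, hw4]
            · obtain ⟨ea24, eb24⟩ := e
              exfalso
              have t := Groth.Agent.Helper3.NumType.QT5 T h2 2 0 1 0 2 (by norm_num) (by norm_num)
              linarith only [t, z02, ea04, eb04, ea24, eb24, hw0, hw2, hw4]
            · obtain ⟨ea24, eb24⟩ := e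
              exfalso
              have t := Groth.Agent.Helper3.NumType.QT5 T h2 1 0 1 0 1 (by norm_num) (by norm_num)
              linarith only [t, z02, ea04, eb04, ea24, eb24, hw0, hw2, hw4]
            · obtain ⟨ea24, eb24⟩ := e
              exfalso
              have t := Groth.Agent.Helper3.NumType.QT5 T h2 1 0 1 0 2 (by norm_num) (by norm_num)
              linarith only [t, z02, ea04, eb04, ea24, eb24, hw0, hw2, hw4]
        · rcases Groth.Agent.Helper3.NumType.edge_casesT T h2 (by norm_num) (p := 2) (q := 3) (by decide) hp23 with e | e | e | e | e
          · obtain ⟨ea23, eb23⟩ := e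
            exfalso
            linarith only [ea12, ea13, ea23, hw1, hw2, hw3]
          · obtain ⟨ea23, eb23⟩ := e
            exfalso
            have t := Groth.Agent.Helper3.NumType.QT5 T h2 0 1 1 1 0 (by norm_num) (by norm_num)
            linarith only [t, ea12, eb12, ea13, eb13, ea23, eb23, hw1, hw2, hw3]
          · obtain ⟨ea23, eb23⟩ := e
            exfalso
            linarith only [ea12, ea13, ea23, hw1, hw2, hw3]
          · obtain ⟨ea23, eb23⟩ := e
            exfalso
            linarith only [ea12, ea13, ea23, hw1, hw2, hw3]
          · obtain ⟨ea23, eb23⟩ := e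
            exfalso
            linarith only [ea12, ea13, ea23, hw1, hw2, hw3]
      · rcases Groth.Agent.Helper3.NumType.edge_casesT T h2 (by norm_num) (p := 1) (q := 4) (by decide) hp14 with e | e | e | e | e
        · obtain ⟨ea14, eb14⟩ := e
          exfalso
          have t := Groth.Agent.Helper3.NumType.QT5 T h2 2 2 0 1 2 (by norm_num) (by norm_num)
          linarith only [t, z01, z03, ea04, eb04, ea13, eb13, ea14, eb14, nn34, hw0, hw1, hw3, hw4]
        · obtain ⟨ea14, eb14⟩ := e
          exfalso
          have t := Groth.Agent.Helper3.NumType.QT5 T h2 1 1 0 0 1 (by norm_num) (by norm_num)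
          linarith only [t, z01, ea04, eb04, ea14, eb14, hw0, hw1, hw4]
        · obtain ⟨ea14, eb14⟩ := e
          exfalso
          have t := Groth.Agent.Helper3.NumType.QT5 T h2 2 1 0 0 2 (by norm_num) (by norm_num)
          linarith only [t, z01, ea04, eb04, ea14, eb14, hw0, hw1, hw4]
        · obtain ⟨ea14, eb14⟩ := e
          exfalso
          have t := Groth.Agent.Helper3.NumType.QT5 T h2 1 1 0 0 1 (by norm_num) (by norm_num)
          linarith only [t, z01, ea04, eb04, ea14, eb14, hw0, hw1, hw4]
        · obtain ⟨ea14, eb14⟩ := e
          exfalso
          have t := Groth.Agent.Helper3.NumType.QT5 T h2 1 1 0 0 2 (by norm_num) (by norm_num)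
          linarith only [t, z01, ea04, eb04, ea14, eb14, hw0, hw1, hw4]
    · obtain ⟨ea13, eb13⟩ := e
      rcases eq_or_lt_of_le nn14 with z | hp14
      · have z14 : T.a 1 4 = 0 := z.symm
        rcases eq_or_lt_of_le nn23 with z | hp23
        · have z23 : T.a 2 3 = 0 := z.symm
          rcases eq_or_lt_of_le nn24 with z | hp24
          · have z24 : T.a 2 4 = 0 := z.symm
            rcases eq_or_lt_of_le nn34 with z | hp34
            · have z34 : T.a 3 4 = 0 := z.symm
              exfalso
              obtain ⟨i, hi, j, hj, hij⟩ := T.connected ({0, 4} : Finset (Fin 5)) (by decide) (by decide)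
              fin_cases i <;> fin_cases j <;> first | exact absurd hi (by decide) | exact hj (by decide) | (apply hij; first | exact z01 | exact z02 | exact z03 | exact s41.trans z14 | exact s42.trans z24 | exact s43.trans z34)
            · rcases Groth.Agent.Helper3.NumType.edge_casesT T h2 (by norm_num) (p := 3) (q := 4) (by decide) hp34 with e | e | e | e | e
              · obtain ⟨ea34, eb34⟩ := e
                exfalso
                have t := Groth.Agent.Helper3.NumType.QT5 T h2 2 1 0 2 2 (by norm_num) (by norm_num)
                linarith only [t, z01, z03, ea04, eb04, ea13, eb13, z14, ea34, eb34, hw0, hw1, hw3, hw4]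
              · obtain ⟨ea34, eb34⟩ := e
                exfalso
                have t := Groth.Agent.Helper3.NumType.QT5 T h2 1 0 0 1 1 (by norm_num) (by norm_num)
                linarith only [t, z03, ea04, eb04, ea34, eb34, hw0, hw3, hw4]
              · obtain ⟨ea34, eb34⟩ := e
                exfalso
                have t := Groth.Agent.Helper3.NumType.QT5 T h2 2 0 0 1 2 (by norm_num) (by norm_num)
                linarith only [t, z03, ea04, eb04, ea34, eb34, hw0, hw3, hw4]
              · obtain ⟨ea34, eb34⟩ := e
                exfalso
                have t := Groth.Agent.Helper3.NumType.QT5 T h2 1 0 0 1 1 (by norm_num) (by norm_num)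
                linarith only [t, z03, ea04, eb04, ea34, eb34, hw0, hw3, hw4]
              · obtain ⟨ea34, eb34⟩ := e
                exfalso
                have t := Groth.Agent.Helper3.NumType.QT5 T h2 1 0 0 1 2 (by norm_num) (by norm_num)
                linarith only [t, z03, ea04, eb04, ea34, eb34, hw0, hw3, hw4]
          · rcases Groth.Agent.Helper3.NumType.edge_casesT T h2 (by norm_num) (p := 2) (q := 4) (by decide) hp24 with e | e | e | e | e
            · obtain ⟨ea24, eb24⟩ := e
              rcases eq_or_lt_of_le nn34 with z | hp34
              · have z34 : T.a 3 4 = 0 := z.symm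
                have hr0 : (-2) * T.m 0 + (2) * T.m 4 = 0 := by
                  have f4 : T.a 0 4 = 2 * T.w 0 := by linarith only [ea04, eb04]
                  have h : T.w 0 * ((-2) * T.m 0 + (2) * T.m 4) = 0 := by
                    rw [z01, z02, z03, f4] at r0
                    linarith only [r0]
                  rcases mul_eq_zero.mp h with h' | h'
                  · exfalso; linarith only [h', hw0]
                  · exact h'
                have hr1 : (-2) * T.m 1 + (1) * T.m 2 + (1) * T.m 3 = 0 := by
                  have f2 : T.a 1 2 = T.w 1 := by linarith only [ea12, eb12]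
                  have f3 : T.a 1 3 = T.w 1 := by linarith only [ea13, eb13]
                  have h : T.w 1 * ((-2) * T.m 1 + (1) * T.m 2 + (1) * T.m 3) = 0 := by
                    rw [z01, f2, f3, z14] at r1
                    linarith only [r1]
                  rcases mul_eq_zero.mp h with h' | h'
                  · exfalso; linarith only [h', hw1]
                  · exact h'
                have hr2 : (-2) * T.m 2 + (1) * T.m 1 + (1) * T.m 4 = 0 := by
                  have f1 : T.a 1 2 = T.w 2 := by linarith only [ea12, eb12]
                  have f4 : T.a 2 4 = T.w 2 := by linarith only [ea24, eb24]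
                  have h : T.w 2 * ((-2) * T.m 2 + (1) * T.m 1 + (1) * T.m 4) = 0 := by
                    rw [z02, f1, z23, f4] at r2
                    linarith only [r2]
                  rcases mul_eq_zero.mp h with h' | h'
                  · exfalso; linarith only [h', hw2]
                  · exact h'
                have hr3 : (-2) * T.m 3 + (2) * T.m 1 = 0 := by
                  have f1 : T.a 1 3 = 2 * T.w 3 := by linarith only [ea13, eb13]
                  have h : T.w 3 * ((-2) * T.m 3 + (2) * T.m 1) = 0 := by
                    rw [z03, f1, z23, z34] at r3
                    linarith only [r3]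
                  rcases mul_eq_zero.mp h with h' | h'
                  · exfalso; linarith only [h', hw3]
                  · exact h'
                have hr4 : (-2) * T.m 4 + (1) * T.m 0 + (1) * T.m 2 = 0 := by
                  have f0 : T.a 0 4 = T.w 4 := by linarith only [ea04, eb04]
                  have f2 : T.a 2 4 = T.w 4 := by linarith only [ea24, eb24]
                  have h : T.w 4 * ((-2) * T.m 4 + (1) * T.m 0 + (1) * T.m 2) = 0 := by
                    rw [f0, z14, f2, z34] at r4
                    linarith only [r4]
                  rcases mul_eq_zero.mp h with h' | h'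
                  · exfalso; linarith only [h', hw4]
                  · exact h'
                have w1 : T.w 1 = 2 * T.w 0 := by linarith only [ea04, ea12, ea13, ea24]
                have w2 : T.w 2 = 2 * T.w 0 := by linarith only [ea04, ea12, ea13, ea24]
                have w3 : T.w 3 = T.w 0 := by linarith only [ea04, ea12, ea13, ea24]
                have w4 : T.w 4 = 2 * T.w 0 := by linarith only [ea04, ea12, ea13, ea24]
                have a04 : T.a 0 4 = 2 * T.w 0 := by linarith only [ea04, eb04, ea12, eb12, ea13, eb13, ea24, eb24]
                have a12 : T.a 1 2 = 2 * T.w 0 := by linarith only [ea04, eb04, ea12, eb12, ea13, eb13, ea24, eb24]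
                have a13 : T.a 1 3 = 2 * T.w 0 := by linarith only [ea04, eb04, ea12, eb12, ea13, eb13, ea24, eb24]
                have a24 : T.a 2 4 = 2 * T.w 0 := by linarith only [ea04, eb04, ea12, eb12, ea13, eb13, ea24, eb24]
                have m1 : T.m 1 = T.m 0 := by linarith only [hr0, hr1, hr2, hr3, hr4]
                have m2 : T.m 2 = T.m 0 := by linarith only [hr0, hr1, hr2, hr3, hr4]
                have m3 : T.m 3 = T.m 0 := by linarith only [hr0, hr1, hr2, hr3, hr4]
                have m4 : T.m 4 = T.m 0 := by linarith only [hr0, hr1, hr2, hr3, hr4]
                refine ⟨Equiv.ofBijective ![0, 4, 2, 1, 3] (by decide), T.m 0, T.w 0, ?_⟩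
                simp only [Equiv.ofBijective_apply, Matrix.cons_val_zero, Matrix.cons_val_one, Matrix.cons_val]
                refine Or.inr (Or.inr (Or.inr (Or.inr (Or.inl ⟨?_, ?_, ?_, ?_, ?_, ?_, ?_, ?_, ?_, ?_, ?_, ?_, ?_, ?_, ?_, ?_, ?_, ?_, ?_, ?_, ?_, ?_, ?_, ?_, ?_⟩))))
                all_goals first | rfl | trivial | linarith only [w1, w2, w3, w4, z01, z02, z03, a04, a12, a13, z14, z23, a24, z34, m1, m2, m3, m4, d0, d1, d2, d3, d4, s10, s20, s30, s40, s21, s31, s41, s32, s42, s43]
              · rcases Groth.Agent.Helper3.NumType.edge_casesT T h2 (by norm_num) (p := 3) (q := 4) (by decide) hp34 with e | e | e | e | e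
                · obtain ⟨ea34, eb34⟩ := e
                  exfalso
                  have t := Groth.Agent.Helper3.NumType.QT5 T h2 2 1 0 2 2 (by norm_num) (by norm_num)
                  linarith only [t, z01, z03, ea04, eb04, ea13, eb13, z14, ea34, eb34, hw0, hw1, hw3, hw4]
                · obtain ⟨ea34, eb34⟩ := e
                  exfalso
                  have t := Groth.Agent.Helper3.NumType.QT5 T h2 1 0 0 1 1 (by norm_num) (by norm_num)
                  linarith only [t, z03, ea04, eb04, ea34, eb34, hw0, hw3, hw4]
                · obtain ⟨ea34, eb34⟩ := e
                  exfalso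
                  have t := Groth.Agent.Helper3.NumType.QT5 T h2 2 0 0 1 2 (by norm_num) (by norm_num)
                  linarith only [t, z03, ea04, eb04, ea34, eb34, hw0, hw3, hw4]
                · obtain ⟨ea34, eb34⟩ := e
                  exfalso
                  have t := Groth.Agent.Helper3.NumType.QT5 T h2 1 0 0 1 1 (by norm_num) (by norm_num)
                  linarith only [t, z03, ea04, eb04, ea34, eb34, hw0, hw3, hw4]
                · obtain ⟨ea34, eb34⟩ := e
                  exfalso
                  have t := Groth.Agent.Helper3.NumType.QT5 T h2 1 0 0 1 2 (by norm_num) (by norm_num)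
                  linarith only [t, z03, ea04, eb04, ea34, eb34, hw0, hw3, hw4]
            · obtain ⟨ea24, eb24⟩ := e
              exfalso
              have t := Groth.Agent.Helper3.NumType.QT5 T h2 1 0 1 0 1 (by norm_num) (by norm_num)
              linarith only [t, z02, ea04, eb04, ea24, eb24, hw0, hw2, hw4]
            · obtain ⟨ea24, eb24⟩ := e
              exfalso
              have t := Groth.Agent.Helper3.NumType.QT5 T h2 2 0 1 0 2 (by norm_num) (by norm_num)
              linarith only [t, z02, ea04, eb04, ea24, eb24, hw0, hw2, hw4]
            · obtain ⟨ea24, eb24⟩ := e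
              exfalso
              have t := Groth.Agent.Helper3.NumType.QT5 T h2 1 0 1 0 1 (by norm_num) (by norm_num)
              linarith only [t, z02, ea04, eb04, ea24, eb24, hw0, hw2, hw4]
            · obtain ⟨ea24, eb24⟩ := e
              exfalso
              have t := Groth.Agent.Helper3.NumType.QT5 T h2 1 0 1 0 2 (by norm_num) (by norm_num)
              linarith only [t, z02, ea04, eb04, ea24, eb24, hw0, hw2, hw4]
        · rcases Groth.Agent.Helper3.NumType.edge_casesT T h2 (by norm_num) (p := 2) (q := 3) (by decide) hp23 with e | e | e | e | e
          · obtain ⟨ea23, eb23⟩ := e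
            exfalso
            linarith only [ea12, ea13, ea23, hw1, hw2, hw3]
          · obtain ⟨ea23, eb23⟩ := e
            exfalso
            linarith only [ea12, ea13, ea23, hw1, hw2, hw3]
          · obtain ⟨ea23, eb23⟩ := e
            exfalso
            have t := Groth.Agent.Helper3.NumType.QT5 T h2 0 1 1 1 0 (by norm_num) (by norm_num)
            linarith only [t, ea12, eb12, ea13, eb13, ea23, eb23, hw1, hw2, hw3]
          · obtain ⟨ea23, eb23⟩ := e
            exfalso
            linarith only [ea12, ea13, ea23, hw1, hw2, hw3]
          · obtain ⟨ea23, eb23⟩ := e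
            exfalso
            linarith only [ea12, ea13, ea23, hw1, hw2, hw3]
      · rcases Groth.Agent.Helper3.NumType.edge_casesT T h2 (by norm_num) (p := 1) (q := 4) (by decide) hp14 with e | e | e | e | e
        · obtain ⟨ea14, eb14⟩ := e
          exfalso
          have t := Groth.Agent.Helper3.NumType.QT5 T h2 1 1 0 1 1 (by norm_num) (by norm_num)
          linarith only [t, z01, z03, ea04, eb04, ea13, eb13, ea14, eb14, nn34, hw0, hw1, hw3, hw4]
        · obtain ⟨ea14, eb14⟩ := e
          exfalso
          have t := Groth.Agent.Helper3.NumType.QT5 T h2 1 1 0 0 1 (by norm_num) (by norm_num)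
          linarith only [t, z01, ea04, eb04, ea14, eb14, hw0, hw1, hw4]
        · obtain ⟨ea14, eb14⟩ := e
          exfalso
          have t := Groth.Agent.Helper3.NumType.QT5 T h2 2 1 0 0 2 (by norm_num) (by norm_num)
          linarith only [t, z01, ea04, eb04, ea14, eb14, hw0, hw1, hw4]
        · obtain ⟨ea14, eb14⟩ := e
          exfalso
          have t := Groth.Agent.Helper3.NumType.QT5 T h2 1 1 0 0 1 (by norm_num) (by norm_num)
          linarith only [t, z01, ea04, eb04, ea14, eb14, hw0, hw1, hw4]
        · obtain ⟨ea14, eb14⟩ := e
          exfalso
          have t := Groth.Agent.Helper3.NumType.QT5 T h2 1 1 0 0 2 (by norm_num) (by norm_num)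
          linarith only [t, z01, ea04, eb04, ea14, eb14, hw0, hw1, hw4]
    · obtain ⟨ea13, eb13⟩ := e
      exfalso
      have t := Groth.Agent.Helper3.NumType.QT5 T h2 0 2 1 1 0 (by norm_num) (by norm_num)
      linarith only [t, ea12, eb12, ea13, eb13, nn23, hw1, hw2, hw3]
    · obtain ⟨ea13, eb13⟩ := e
      exfalso
      have t := Groth.Agent.Helper3.NumType.QT5 T h2 0 2 1 3 0 (by norm_num) (by norm_num)
      linarith only [t, ea12, eb12, ea13, eb13, nn23, hw1, hw2, hw3]

theorem g5_ZZZU2U2 (T : Models.NumericalType 5) (h2 : ∀ i, T.IsMinusTwo i) (z01 : T.a 0 1 = 0) (z02 : T.a 0 2 = 0) (z03 : T.a 0 3 = 0) (hp04 : 0 < T.a 0 4) (ea04 : T.w 4 = 2 * T.w 0) (eb04 : T.a 0 4 = 2 * T.w 0) (hp12 : 0 < T.a 1 2) (ea12 : T.w 2 = 2 * T.w 1) (eb12 : T.a 1 2 = 2 * T.w 1) :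
    Goal5 T := by
  unfold Goal5
  have hw0 := T.w_pos 0
  have hm0 := T.m_pos 0
  have d0 := (h2 0).2
  have r0 := Groth.Agent.Helper3.NumType.RT5_0 T h2
  have hw1 := T.w_pos 1
  have hm1 := T.m_pos 1
  have d1 := (h2 1).2
  have r1 := Groth.Agent.Helper3.NumType.RT5_1 T h2
  have hw2 := T.w_pos 2
  have hm2 := T.m_pos 2
  have d2 := (h2 2).2
  have r2 := Groth.Agent.Helper3.NumType.RT5_2 T h2
  have hw3 := T.w_pos 3
  have hm3 := T.m_pos 3
  have d3 := (h2 3).2
  have r3 := Groth.Agent.Helper3.NumType.RT5_3 T h2
  have hw4 := T.w_pos 4
  have hm4 := T.m_pos 4
  have d4 := (h2 4).2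
  have r4 := Groth.Agent.Helper3.NumType.RT5_4 T h2
  have nn01 := T.offDiag_nonneg 0 1 (by decide)
  have s10 := Groth.Agent.Helper3.NumType.a_symm T 1 0
  have nn02 := T.offDiag_nonneg 0 2 (by decide)
  have s20 := Groth.Agent.Helper3.NumType.a_symm T 2 0
  have nn03 := T.offDiag_nonneg 0 3 (by decide)
  have s30 := Groth.Agent.Helper3.NumType.a_symm T 3 0
  have nn04 := T.offDiag_nonneg 0 4 (by decide)
  have s40 := Groth.Agent.Helper3.NumType.a_symm T 4 0
  have nn12 := T.offDiag_nonneg 1 2 (by decide)
  have s21 := Groth.Agent.Helper3.NumType.a_symm T 2 1
  have nn13 := T.offDiag_nonneg 1 3 (by decide)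
  have s31 := Groth.Agent.Helper3.NumType.a_symm T 3 1
  have nn14 := T.offDiag_nonneg 1 4 (by decide)
  have s41 := Groth.Agent.Helper3.NumType.a_symm T 4 1
  have nn23 := T.offDiag_nonneg 2 3 (by decide)
  have s32 := Groth.Agent.Helper3.NumType.a_symm T 3 2
  have nn24 := T.offDiag_nonneg 2 4 (by decide)
  have s42 := Groth.Agent.Helper3.NumType.a_symm T 4 2
  have nn34 := T.offDiag_nonneg 3 4 (by decide)
  have s43 := Groth.Agent.Helper3.NumType.a_symm T 4 3
  rcases eq_or_lt_of_le nn13 with z | hp13
  · have z13 : T.a 1 3 = 0 := z.symm
    rcases eq_or_lt_of_le nn14 with z | hp14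
    · have z14 : T.a 1 4 = 0 := z.symm
      rcases eq_or_lt_of_le nn23 with z | hp23
      · have z23 : T.a 2 3 = 0 := z.symm
        rcases eq_or_lt_of_le nn24 with z | hp24
        · have z24 : T.a 2 4 = 0 := z.symm
          exfalso
          obtain ⟨i, hi, j, hj, hij⟩ := T.connected ({1, 2} : Finset (Fin 5)) (by decide) (by decide)
          fin_cases i <;> fin_cases j <;> first | exact absurd hi (by decide) | exact hj (by decide) | (apply hij; first | exact s10.trans z01 | exact z13 | exact z14 | exact s20.trans z02 | exact z23 | exact z24)
        · rcases Groth.Agent.Helper3.NumType.edge_casesT T h2 (by norm_num) (p := 2) (q := 4) (by decide) hp24 with e | e | e | e | e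
          · obtain ⟨ea24, eb24⟩ := e
            exfalso
            have t := Groth.Agent.Helper3.NumType.QT5 T h2 1 1 1 0 1 (by norm_num) (by norm_num)
            linarith only [t, z01, z02, ea04, eb04, ea12, eb12, z14, ea24, eb24, hw0, hw1, hw2, hw4]
          · obtain ⟨ea24, eb24⟩ := e
            exfalso
            have t := Groth.Agent.Helper3.NumType.QT5 T h2 1 0 1 0 1 (by norm_num) (by norm_num)
            linarith only [t, z02, ea04, eb04, ea24, eb24, hw0, hw2, hw4]
          · obtain ⟨ea24, eb24⟩ := e
            exfalso
            have t := Groth.Agent.Helper3.NumType.QT5 T h2 2 0 1 0 2 (by norm_num) (by norm_num)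
            linarith only [t, z02, ea04, eb04, ea24, eb24, hw0, hw2, hw4]
          · obtain ⟨ea24, eb24⟩ := e
            exfalso
            have t := Groth.Agent.Helper3.NumType.QT5 T h2 1 0 1 0 1 (by norm_num) (by norm_num)
            linarith only [t, z02, ea04, eb04, ea24, eb24, hw0, hw2, hw4]
          · obtain ⟨ea24, eb24⟩ := e
            exfalso
            have t := Groth.Agent.Helper3.NumType.QT5 T h2 1 0 1 0 2 (by norm_num) (by norm_num)
            linarith only [t, z02, ea04, eb04, ea24, eb24, hw0, hw2, hw4]
      · rcases Groth.Agent.Helper3.NumType.edge_casesT T h2 (by norm_num) (p := 2) (q := 3) (by decide) hp23 with e | e | e | e | e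
        · obtain ⟨ea23, eb23⟩ := e
          rcases eq_or_lt_of_le nn24 with z | hp24
          · have z24 : T.a 2 4 = 0 := z.symm
            rcases eq_or_lt_of_le nn34 with z | hp34
            · have z34 : T.a 3 4 = 0 := z.symm
              exfalso
              obtain ⟨i, hi, j, hj, hij⟩ := T.connected ({0, 4} : Finset (Fin 5)) (by decide) (by decide)
              fin_cases i <;> fin_cases j <;> first | exact absurd hi (by decide) | exact hj (by decide) | (apply hij; first | exact z01 | exact z02 | exact z03 | exact s41.trans z14 | exact s42.trans z24 | exact s43.trans z34)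
            · rcases Groth.Agent.Helper3.NumType.edge_casesT T h2 (by norm_num) (p := 3) (q := 4) (by decide) hp34 with e | e | e | e | e
              · obtain ⟨ea34, eb34⟩ := e
                have hr0 : (-2) * T.m 0 + (2) * T.m 4 = 0 := by
                  have f4 : T.a 0 4 = 2 * T.w 0 := by linarith only [ea04, eb04]
                  have h : T.w 0 * ((-2) * T.m 0 + (2) * T.m 4) = 0 := by
                    rw [z01, z02, z03, f4] at r0
                    linarith only [r0]
                  rcases mul_eq_zero.mp h with h' | h'
                  · exfalso; linarith only [h', hw0]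
                  · exact h'
                have hr1 : (-2) * T.m 1 + (2) * T.m 2 = 0 := by
                  have f2 : T.a 1 2 = 2 * T.w 1 := by linarith only [ea12, eb12]
                  have h : T.w 1 * ((-2) * T.m 1 + (2) * T.m 2) = 0 := by
                    rw [z01, f2, z13, z14] at r1
                    linarith only [r1]
                  rcases mul_eq_zero.mp h with h' | h'
                  · exfalso; linarith only [h', hw1]
                  · exact h'
                have hr2 : (-2) * T.m 2 + (1) * T.m 1 + (1) * T.m 3 = 0 := by
                  have f1 : T.a 1 2 = T.w 2 := by linarith only [ea12, eb12]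
                  have f3 : T.a 2 3 = T.w 2 := by linarith only [ea23, eb23]
                  have h : T.w 2 * ((-2) * T.m 2 + (1) * T.m 1 + (1) * T.m 3) = 0 := by
                    rw [z02, f1, f3, z24] at r2
                    linarith only [r2]
                  rcases mul_eq_zero.mp h with h' | h'
                  · exfalso; linarith only [h', hw2]
                  · exact h'
                have hr3 : (-2) * T.m 3 + (1) * T.m 2 + (1) * T.m 4 = 0 := by
                  have f2 : T.a 2 3 = T.w 3 := by linarith only [ea23, eb23]
                  have f4 : T.a 3 4 = T.w 3 := by linarith only [ea34, eb34]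
                  have h : T.w 3 * ((-2) * T.m 3 + (1) * T.m 2 + (1) * T.m 4) = 0 := by
                    rw [z03, z13, f2, f4] at r3
                    linarith only [r3]
                  rcases mul_eq_zero.mp h with h' | h'
                  · exfalso; linarith only [h', hw3]
                  · exact h'
                have hr4 : (-2) * T.m 4 + (1) * T.m 0 + (1) * T.m 3 = 0 := by
                  have f0 : T.a 0 4 = T.w 4 := by linarith only [ea04, eb04]
                  have f3 : T.a 3 4 = T.w 4 := by linarith only [ea34, eb34]
                  have h : T.w 4 * ((-2) * T.m 4 + (1) * T.m 0 + (1) * T.m 3) = 0 := by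
                    rw [f0, z14, z24, f3] at r4
                    linarith only [r4]
                  rcases mul_eq_zero.mp h with h' | h'
                  · exfalso; linarith only [h', hw4]
                  · exact h'
                have w1 : T.w 1 = T.w 0 := by linarith only [ea04, ea12, ea23, ea34]
                have w2 : T.w 2 = 2 * T.w 0 := by linarith only [ea04, ea12, ea23, ea34]
                have w3 : T.w 3 = 2 * T.w 0 := by linarith only [ea04, ea12, ea23, ea34]
                have w4 : T.w 4 = 2 * T.w 0 := by linarith only [ea04, ea12, ea23, ea34]
                have a04 : T.a 0 4 = 2 * T.w 0 := by linarith only [ea04, eb04, ea12, eb12, ea23, eb23, ea34, eb34]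
                have a12 : T.a 1 2 = 2 * T.w 0 := by linarith only [ea04, eb04, ea12, eb12, ea23, eb23, ea34, eb34]
                have a23 : T.a 2 3 = 2 * T.w 0 := by linarith only [ea04, eb04, ea12, eb12, ea23, eb23, ea34, eb34]
                have a34 : T.a 3 4 = 2 * T.w 0 := by linarith only [ea04, eb04, ea12, eb12, ea23, eb23, ea34, eb34]
                have m1 : T.m 1 = T.m 0 := by linarith only [hr0, hr1, hr2, hr3, hr4]
                have m2 : T.m 2 = T.m 0 := by linarith only [hr0, hr1, hr2, hr3, hr4]
                have m3 : T.m 3 = T.m 0 := by linarith only [hr0, hr1, hr2, hr3, hr4]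
                have m4 : T.m 4 = T.m 0 := by linarith only [hr0, hr1, hr2, hr3, hr4]
                refine ⟨Equiv.ofBijective ![0, 4, 3, 2, 1] (by decide), T.m 0, T.w 0, ?_⟩
                simp only [Equiv.ofBijective_apply, Matrix.cons_val_zero, Matrix.cons_val_one, Matrix.cons_val]
                refine Or.inr (Or.inr (Or.inr (Or.inr (Or.inl ⟨?_, ?_, ?_, ?_, ?_, ?_, ?_, ?_, ?_, ?_, ?_, ?_, ?_, ?_, ?_, ?_, ?_, ?_, ?_, ?_, ?_, ?_, ?_, ?_, ?_⟩))))
                all_goals first | rfl | trivial | linarith only [w1, w2, w3, w4, z01, z02, z03, a04, a12, z13, z14, a23, z24, a34, m1, m2, m3, m4, d0, d1, d2, d3, d4, s10, s20, s30, s40, s21, s31, s41, s32, s42, s43]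
              · obtain ⟨ea34, eb34⟩ := e
                exfalso
                have t := Groth.Agent.Helper3.NumType.QT5 T h2 1 0 0 1 1 (by norm_num) (by norm_num)
                linarith only [t, z03, ea04, eb04, ea34, eb34, hw0, hw3, hw4]
              · obtain ⟨ea34, eb34⟩ := e
                exfalso
                have t := Groth.Agent.Helper3.NumType.QT5 T h2 2 0 0 1 2 (by norm_num) (by norm_num)
                linarith only [t, z03, ea04, eb04, ea34, eb34, hw0, hw3, hw4]
              · obtain ⟨ea34, eb34⟩ := e
                exfalso
                have t := Groth.Agent.Helper3.NumType.QT5 T h2 1 0 0 1 1 (by norm_num) (by norm_num)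
                linarith only [t, z03, ea04, eb04, ea34, eb34, hw0, hw3, hw4]
              · obtain ⟨ea34, eb34⟩ := e
                exfalso
                have t := Groth.Agent.Helper3.NumType.QT5 T h2 1 0 0 1 2 (by norm_num) (by norm_num)
                linarith only [t, z03, ea04, eb04, ea34, eb34, hw0, hw3, hw4]
          · rcases Groth.Agent.Helper3.NumType.edge_casesT T h2 (by norm_num) (p := 2) (q := 4) (by decide) hp24 with e | e | e | e | e
            · obtain ⟨ea24, eb24⟩ := e
              exfalso
              have t := Groth.Agent.Helper3.NumType.QT5 T h2 1 1 1 0 1 (by norm_num) (by norm_num)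
              linarith only [t, z01, z02, ea04, eb04, ea12, eb12, z14, ea24, eb24, hw0, hw1, hw2, hw4]
            · obtain ⟨ea24, eb24⟩ := e
              exfalso
              have t := Groth.Agent.Helper3.NumType.QT5 T h2 1 0 1 0 1 (by norm_num) (by norm_num)
              linarith only [t, z02, ea04, eb04, ea24, eb24, hw0, hw2, hw4]
            · obtain ⟨ea24, eb24⟩ := e
              exfalso
              have t := Groth.Agent.Helper3.NumType.QT5 T h2 2 0 1 0 2 (by norm_num) (by norm_num)
              linarith only [t, z02, ea04, eb04, ea24, eb24, hw0, hw2, hw4]
            · obtain ⟨ea24, eb24⟩ := e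
              exfalso
              have t := Groth.Agent.Helper3.NumType.QT5 T h2 1 0 1 0 1 (by norm_num) (by norm_num)
              linarith only [t, z02, ea04, eb04, ea24, eb24, hw0, hw2, hw4]
            · obtain ⟨ea24, eb24⟩ := e
              exfalso
              have t := Groth.Agent.Helper3.NumType.QT5 T h2 1 0 1 0 2 (by norm_num) (by norm_num)
              linarith only [t, z02, ea04, eb04, ea24, eb24, hw0, hw2, hw4]
        · obtain ⟨ea23, eb23⟩ := e
          exfalso
          have t := Groth.Agent.Helper3.NumType.QT5 T h2 0 2 2 1 0 (by norm_num) (by norm_num)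
          linarith only [t, ea12, eb12, z13, ea23, eb23, hw1, hw2, hw3]
        · obtain ⟨ea23, eb23⟩ := e
          exfalso
          have t := Groth.Agent.Helper3.NumType.QT5 T h2 0 1 1 1 0 (by norm_num) (by norm_num)
          linarith only [t, ea12, eb12, z13, ea23, eb23, hw1, hw2, hw3]
        · obtain ⟨ea23, eb23⟩ := e
          exfalso
          have t := Groth.Agent.Helper3.NumType.QT5 T h2 0 1 2 1 0 (by norm_num) (by norm_num)
          linarith only [t, ea12, eb12, z13, ea23, eb23, hw1, hw2, hw3]
        · obtain ⟨ea23, eb23⟩ := e
          exfalso
          have t := Groth.Agent.Helper3.NumType.QT5 T h2 0 1 1 1 0 (by norm_num) (by norm_num)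
          linarith only [t, ea12, eb12, z13, ea23, eb23, hw1, hw2, hw3]
    · rcases Groth.Agent.Helper3.NumType.edge_casesT T h2 (by norm_num) (p := 1) (q := 4) (by decide) hp14 with e | e | e | e | e
      · obtain ⟨ea14, eb14⟩ := e
        exfalso
        have t := Groth.Agent.Helper3.NumType.QT5 T h2 2 2 1 0 2 (by norm_num) (by norm_num)
        linarith only [t, z01, z02, ea04, eb04, ea12, eb12, ea14, eb14, nn24, hw0, hw1, hw2, hw4]
      · obtain ⟨ea14, eb14⟩ := e
        exfalso
        have t := Groth.Agent.Helper3.NumType.QT5 T h2 1 1 0 0 1 (by norm_num) (by norm_num)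
        linarith only [t, z01, ea04, eb04, ea14, eb14, hw0, hw1, hw4]
      · obtain ⟨ea14, eb14⟩ := e
        exfalso
        have t := Groth.Agent.Helper3.NumType.QT5 T h2 2 1 0 0 2 (by norm_num) (by norm_num)
        linarith only [t, z01, ea04, eb04, ea14, eb14, hw0, hw1, hw4]
      · obtain ⟨ea14, eb14⟩ := e
        exfalso
        have t := Groth.Agent.Helper3.NumType.QT5 T h2 1 1 0 0 1 (by norm_num) (by norm_num)
        linarith only [t, z01, ea04, eb04, ea14, eb14, hw0, hw1, hw4]
      · obtain ⟨ea14, eb14⟩ := e
        exfalso
        have t := Groth.Agent.Helper3.NumType.QT5 T h2 1 1 0 0 2 (by norm_num) (by norm_num)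
        linarith only [t, z01, ea04, eb04, ea14, eb14, hw0, hw1, hw4]
  · rcases Groth.Agent.Helper3.NumType.edge_casesT T h2 (by norm_num) (p := 1) (q := 3) (by decide) hp13 with e | e | e | e | e
    · obtain ⟨ea13, eb13⟩ := e
      rcases eq_or_lt_of_le nn14 with z | hp14
      · have z14 : T.a 1 4 = 0 := z.symm
        rcases eq_or_lt_of_le nn23 with z | hp23
        · have z23 : T.a 2 3 = 0 := z.symm
          rcases eq_or_lt_of_le nn24 with z | hp24
          · have z24 : T.a 2 4 = 0 := z.symm
            rcases eq_or_lt_of_le nn34 with z | hp34
            · have z34 : T.a 3 4 = 0 := z.symm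
              exfalso
              obtain ⟨i, hi, j, hj, hij⟩ := T.connected ({0, 4} : Finset (Fin 5)) (by decide) (by decide)
              fin_cases i <;> fin_cases j <;> first | exact absurd hi (by decide) | exact hj (by decide) | (apply hij; first | exact z01 | exact z02 | exact z03 | exact s41.trans z14 | exact s42.trans z24 | exact s43.trans z34)
            · rcases Groth.Agent.Helper3.NumType.edge_casesT T h2 (by norm_num) (p := 3) (q := 4) (by decide) hp34 with e | e | e | e | e
              · obtain ⟨ea34, eb34⟩ := e
                have hr0 : (-2) * T.m 0 + (2) * T.m 4 = 0 := by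
                  have f4 : T.a 0 4 = 2 * T.w 0 := by linarith only [ea04, eb04]
                  have h : T.w 0 * ((-2) * T.m 0 + (2) * T.m 4) = 0 := by
                    rw [z01, z02, z03, f4] at r0
                    linarith only [r0]
                  rcases mul_eq_zero.mp h with h' | h'
                  · exfalso; linarith only [h', hw0]
                  · exact h'
                have hr1 : (-2) * T.m 1 + (2) * T.m 2 + (1) * T.m 3 = 0 := by
                  have f2 : T.a 1 2 = 2 * T.w 1 := by linarith only [ea12, eb12]
                  have f3 : T.a 1 3 = T.w 1 := by linarith only [ea13, eb13]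
                  have h : T.w 1 * ((-2) * T.m 1 + (2) * T.m 2 + (1) * T.m 3) = 0 := by
                    rw [z01, f2, f3, z14] at r1
                    linarith only [r1]
                  rcases mul_eq_zero.mp h with h' | h'
                  · exfalso; linarith only [h', hw1]
                  · exact h'
                have hr2 : (-2) * T.m 2 + (1) * T.m 1 = 0 := by
                  have f1 : T.a 1 2 = T.w 2 := by linarith only [ea12, eb12]
                  have h : T.w 2 * ((-2) * T.m 2 + (1) * T.m 1) = 0 := by
                    rw [z02, f1, z23, z24] at r2
                    linarith only [r2]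
                  rcases mul_eq_zero.mp h with h' | h'
                  · exfalso; linarith only [h', hw2]
                  · exact h'
                have hr3 : (-2) * T.m 3 + (1) * T.m 1 + (1) * T.m 4 = 0 := by
                  have f1 : T.a 1 3 = T.w 3 := by linarith only [ea13, eb13]
                  have f4 : T.a 3 4 = T.w 3 := by linarith only [ea34, eb34]
                  have h : T.w 3 * ((-2) * T.m 3 + (1) * T.m 1 + (1) * T.m 4) = 0 := by
                    rw [z03, f1, z23, f4] at r3
                    linarith only [r3]
                  rcases mul_eq_zero.mp h with h' | h'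
                  · exfalso; linarith only [h', hw3]
                  · exact h'
                have hr4 : (-2) * T.m 4 + (1) * T.m 0 + (1) * T.m 3 = 0 := by
                  have f0 : T.a 0 4 = T.w 4 := by linarith only [ea04, eb04]
                  have f3 : T.a 3 4 = T.w 4 := by linarith only [ea34, eb34]
                  have h : T.w 4 * ((-2) * T.m 4 + (1) * T.m 0 + (1) * T.m 3) = 0 := by
                    rw [f0, z14, z24, f3] at r4
                    linarith only [r4]
                  rcases mul_eq_zero.mp h with h' | h'
                  · exfalso; linarith only [h', hw4]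
                  · exact h'
                have w1 : T.w 1 = 2 * T.w 0 := by linarith only [ea04, ea12, ea13, ea34]
                have w2 : T.w 2 = 4 * T.w 0 := by linarith only [ea04, ea12, ea13, ea34]
                have w3 : T.w 3 = 2 * T.w 0 := by linarith only [ea04, ea12, ea13, ea34]
                have w4 : T.w 4 = 2 * T.w 0 := by linarith only [ea04, ea12, ea13, ea34]
                have a04 : T.a 0 4 = 2 * T.w 0 := by linarith only [ea04, eb04, ea12, eb12, ea13, eb13, ea34, eb34]
                have a12 : T.a 1 2 = 4 * T.w 0 := by linarith only [ea04, eb04, ea12, eb12, ea13, eb13, ea34, eb34]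
                have a13 : T.a 1 3 = 2 * T.w 0 := by linarith only [ea04, eb04, ea12, eb12, ea13, eb13, ea34, eb34]
                have a34 : T.a 3 4 = 2 * T.w 0 := by linarith only [ea04, eb04, ea12, eb12, ea13, eb13, ea34, eb34]
                have m0 : T.m 0 = 2 * T.m 2 := by linarith only [hr0, hr1, hr2, hr3, hr4]
                have m1 : T.m 1 = 2 * T.m 2 := by linarith only [hr0, hr1, hr2, hr3, hr4]
                have m3 : T.m 3 = 2 * T.m 2 := by linarith only [hr0, hr1, hr2, hr3, hr4]
                have m4 : T.m 4 = 2 * T.m 2 := by linarith only [hr0, hr1, hr2, hr3, hr4]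
                refine ⟨Equiv.ofBijective ![0, 4, 3, 1, 2] (by decide), T.m 2, T.w 0, ?_⟩
                simp only [Equiv.ofBijective_apply, Matrix.cons_val_zero, Matrix.cons_val_one, Matrix.cons_val]
                refine Or.inr (Or.inr (Or.inr (Or.inl ⟨?_, ?_, ?_, ?_, ?_, ?_, ?_, ?_, ?_, ?_, ?_, ?_, ?_, ?_, ?_, ?_, ?_, ?_, ?_, ?_, ?_, ?_, ?_, ?_, ?_⟩)))
                all_goals first | rfl | trivial | linarith only [w1, w2, w3, w4, z01, z02, z03, a04, a12, a13, z14, z23, z24, a34, m0, m1, m3, m4, d0, d1, d2, d3, d4, s10, s20, s30, s40, s21, s31, s41, s32, s42, s43]
              · obtain ⟨ea34, eb34⟩ := e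
                exfalso
                have t := Groth.Agent.Helper3.NumType.QT5 T h2 1 0 0 1 1 (by norm_num) (by norm_num)
                linarith only [t, z03, ea04, eb04, ea34, eb34, hw0, hw3, hw4]
              · obtain ⟨ea34, eb34⟩ := e
                exfalso
                have t := Groth.Agent.Helper3.NumType.QT5 T h2 2 0 0 1 2 (by norm_num) (by norm_num)
                linarith only [t, z03, ea04, eb04, ea34, eb34, hw0, hw3, hw4]
              · obtain ⟨ea34, eb34⟩ := e
                exfalso
                have t := Groth.Agent.Helper3.NumType.QT5 T h2 1 0 0 1 1 (by norm_num) (by norm_num)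
                linarith only [t, z03, ea04, eb04, ea34, eb34, hw0, hw3, hw4]
              · obtain ⟨ea34, eb34⟩ := e
                exfalso
                have t := Groth.Agent.Helper3.NumType.QT5 T h2 1 0 0 1 2 (by norm_num) (by norm_num)
                linarith only [t, z03, ea04, eb04, ea34, eb34, hw0, hw3, hw4]
          · rcases Groth.Agent.Helper3.NumType.edge_casesT T h2 (by norm_num) (p := 2) (q := 4) (by decide) hp24 with e | e | e | e | e
            · obtain ⟨ea24, eb24⟩ := e
              exfalso
              have t := Groth.Agent.Helper3.NumType.QT5 T h2 1 1 1 0 1 (by norm_num) (by norm_num)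
              linarith only [t, z01, z02, ea04, eb04, ea12, eb12, z14, ea24, eb24, hw0, hw1, hw2, hw4]
            · obtain ⟨ea24, eb24⟩ := e
              exfalso
              have t := Groth.Agent.Helper3.NumType.QT5 T h2 1 0 1 0 1 (by norm_num) (by norm_num)
              linarith only [t, z02, ea04, eb04, ea24, eb24, hw0, hw2, hw4]
            · obtain ⟨ea24, eb24⟩ := e
              exfalso
              have t := Groth.Agent.Helper3.NumType.QT5 T h2 2 0 1 0 2 (by norm_num) (by norm_num)
              linarith only [t, z02, ea04, eb04, ea24, eb24, hw0, hw2, hw4]
            · obtain ⟨ea24, eb24⟩ := e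
              exfalso
              have t := Groth.Agent.Helper3.NumType.QT5 T h2 1 0 1 0 1 (by norm_num) (by norm_num)
              linarith only [t, z02, ea04, eb04, ea24, eb24, hw0, hw2, hw4]
            · obtain ⟨ea24, eb24⟩ := e
              exfalso
              have t := Groth.Agent.Helper3.NumType.QT5 T h2 1 0 1 0 2 (by norm_num) (by norm_num)
              linarith only [t, z02, ea04, eb04, ea24, eb24, hw0, hw2, hw4]
        · rcases Groth.Agent.Helper3.NumType.edge_casesT T h2 (by norm_num) (p := 2) (q := 3) (by decide) hp23 with e | e | e | e | e
          · obtain ⟨ea23, eb23⟩ := e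
            exfalso
            linarith only [ea12, ea13, ea23, hw1, hw2, hw3]
          · obtain ⟨ea23, eb23⟩ := e
            exfalso
            linarith only [ea12, ea13, ea23, hw1, hw2, hw3]
          · obtain ⟨ea23, eb23⟩ := e
            exfalso
            have t := Groth.Agent.Helper3.NumType.QT5 T h2 0 1 1 1 0 (by norm_num) (by norm_num)
            linarith only [t, ea12, eb12, ea13, eb13, ea23, eb23, hw1, hw2, hw3]
          · obtain ⟨ea23, eb23⟩ := e
            exfalso
            linarith only [ea12, ea13, ea23, hw1, hw2, hw3]
          · obtain ⟨ea23, eb23⟩ := e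
            exfalso
            linarith only [ea12, ea13, ea23, hw1, hw2, hw3]
      · rcases Groth.Agent.Helper3.NumType.edge_casesT T h2 (by norm_num) (p := 1) (q := 4) (by decide) hp14 with e | e | e | e | e
        · obtain ⟨ea14, eb14⟩ := e
          exfalso
          have t := Groth.Agent.Helper3.NumType.QT5 T h2 2 2 1 0 2 (by norm_num) (by norm_num)
          linarith only [t, z01, z02, ea04, eb04, ea12, eb12, ea14, eb14, nn24, hw0, hw1, hw2, hw4]
        · obtain ⟨ea14, eb14⟩ := e
          exfalso
          have t := Groth.Agent.Helper3.NumType.QT5 T h2 1 1 0 0 1 (by norm_num) (by norm_num)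
          linarith only [t, z01, ea04, eb04, ea14, eb14, hw0, hw1, hw4]
        · obtain ⟨ea14, eb14⟩ := e
          exfalso
          have t := Groth.Agent.Helper3.NumType.QT5 T h2 2 1 0 0 2 (by norm_num) (by norm_num)
          linarith only [t, z01, ea04, eb04, ea14, eb14, hw0, hw1, hw4]
        · obtain ⟨ea14, eb14⟩ := e
          exfalso
          have t := Groth.Agent.Helper3.NumType.QT5 T h2 1 1 0 0 1 (by norm_num) (by norm_num)
          linarith only [t, z01, ea04, eb04, ea14, eb14, hw0, hw1, hw4]
        · obtain ⟨ea14, eb14⟩ := e
          exfalso
          have t := Groth.Agent.Helper3.NumType.QT5 T h2 1 1 0 0 2 (by norm_num) (by norm_num)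
          linarith only [t, z01, ea04, eb04, ea14, eb14, hw0, hw1, hw4]
    · obtain ⟨ea13, eb13⟩ := e
      exfalso
      have t := Groth.Agent.Helper3.NumType.QT5 T h2 0 2 1 1 0 (by norm_num) (by norm_num)
      linarith only [t, ea12, eb12, ea13, eb13, nn23, hw1, hw2, hw3]
    · obtain ⟨ea13, eb13⟩ := e
      exfalso
      have t := Groth.Agent.Helper3.NumType.QT5 T h2 0 2 1 2 0 (by norm_num) (by norm_num)
      linarith only [t, ea12, eb12, ea13, eb13, nn23, hw1, hw2, hw3]
    · obtain ⟨ea13, eb13⟩ := e
      exfalso
      have t := Groth.Agent.Helper3.NumType.QT5 T h2 0 2 1 1 0 (by norm_num) (by norm_num)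
      linarith only [t, ea12, eb12, ea13, eb13, nn23, hw1, hw2, hw3]
    · obtain ⟨ea13, eb13⟩ := e
      exfalso
      have t := Groth.Agent.Helper3.NumType.QT5 T h2 0 2 1 2 0 (by norm_num) (by norm_num)
      linarith only [t, ea12, eb12, ea13, eb13, nn23, hw1, hw2, hw3]

theorem g5_ZZZU2D2 (T : Models.NumericalType 5) (h2 : ∀ i, T.IsMinusTwo i) (z01 : T.a 0 1 = 0) (z02 : T.a 0 2 = 0) (z03 : T.a 0 3 = 0) (hp04 : 0 < T.a 0 4) (ea04 : T.w 4 = 2 * T.w 0) (eb04 : T.a 0 4 = 2 * T.w 0) (hp12 : 0 < T.a 1 2) (ea12 : T.w 1 = 2 * T.w 2) (eb12 : T.a 1 2 = 2 * T.w 2) :
    Goal5 T := by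
  unfold Goal5
  have hw0 := T.w_pos 0
  have hm0 := T.m_pos 0
  have d0 := (h2 0).2
  have r0 := Groth.Agent.Helper3.NumType.RT5_0 T h2
  have hw1 := T.w_pos 1
  have hm1 := T.m_pos 1
  have d1 := (h2 1).2
  have r1 := Groth.Agent.Helper3.NumType.RT5_1 T h2
  have hw2 := T.w_pos 2
  have hm2 := T.m_pos 2
  have d2 := (h2 2).2
  have r2 := Groth.Agent.Helper3.NumType.RT5_2 T h2
  have hw3 := T.w_pos 3
  have hm3 := T.m_pos 3
  have d3 := (h2 3).2
  have r3 := Groth.Agent.Helper3.NumType.RT5_3 T h2
  have hw4 := T.w_pos 4
  have hm4 := T.m_pos 4
  have d4 := (h2 4).2
  have r4 := Groth.Agent.Helper3.NumType.RT5_4 T h2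
  have nn01 := T.offDiag_nonneg 0 1 (by decide)
  have s10 := Groth.Agent.Helper3.NumType.a_symm T 1 0
  have nn02 := T.offDiag_nonneg 0 2 (by decide)
  have s20 := Groth.Agent.Helper3.NumType.a_symm T 2 0
  have nn03 := T.offDiag_nonneg 0 3 (by decide)
  have s30 := Groth.Agent.Helper3.NumType.a_symm T 3 0
  have nn04 := T.offDiag_nonneg 0 4 (by decide)
  have s40 := Groth.Agent.Helper3.NumType.a_symm T 4 0
  have nn12 := T.offDiag_nonneg 1 2 (by decide)
  have s21 := Groth.Agent.Helper3.NumType.a_symm T 2 1
  have nn13 := T.offDiag_nonneg 1 3 (by decide)
  have s31 := Groth.Agent.Helper3.NumType.a_symm T 3 1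
  have nn14 := T.offDiag_nonneg 1 4 (by decide)
  have s41 := Groth.Agent.Helper3.NumType.a_symm T 4 1
  have nn23 := T.offDiag_nonneg 2 3 (by decide)
  have s32 := Groth.Agent.Helper3.NumType.a_symm T 3 2
  have nn24 := T.offDiag_nonneg 2 4 (by decide)
  have s42 := Groth.Agent.Helper3.NumType.a_symm T 4 2
  have nn34 := T.offDiag_nonneg 3 4 (by decide)
  have s43 := Groth.Agent.Helper3.NumType.a_symm T 4 3
  rcases eq_or_lt_of_le nn13 with z | hp13
  · have z13 : T.a 1 3 = 0 := z.symm
    rcases eq_or_lt_of_le nn14 with z | hp14
    · have z14 : T.a 1 4 = 0 := z.symm
      rcases eq_or_lt_of_le nn23 with z | hp23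
      · have z23 : T.a 2 3 = 0 := z.symm
        rcases eq_or_lt_of_le nn24 with z | hp24
        · have z24 : T.a 2 4 = 0 := z.symm
          exfalso
          obtain ⟨i, hi, j, hj, hij⟩ := T.connected ({1, 2} : Finset (Fin 5)) (by decide) (by decide)
          fin_cases i <;> fin_cases j <;> first | exact absurd hi (by decide) | exact hj (by decide) | (apply hij; first | exact s10.trans z01 | exact z13 | exact z14 | exact s20.trans z02 | exact z23 | exact z24)
        · rcases Groth.Agent.Helper3.NumType.edge_casesT T h2 (by norm_num) (p := 2) (q := 4) (by decide) hp24 with e | e | e | e | e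
          · obtain ⟨ea24, eb24⟩ := e
            exfalso
            have t := Groth.Agent.Helper3.NumType.QT5 T h2 2 1 2 0 2 (by norm_num) (by norm_num)
            linarith only [t, z01, z02, ea04, eb04, ea12, eb12, z14, ea24, eb24, hw0, hw1, hw2, hw4]
          · obtain ⟨ea24, eb24⟩ := e
            exfalso
            have t := Groth.Agent.Helper3.NumType.QT5 T h2 1 0 1 0 1 (by norm_num) (by norm_num)
            linarith only [t, z02, ea04, eb04, ea24, eb24, hw0, hw2, hw4]
          · obtain ⟨ea24, eb24⟩ := e
            exfalso
            have t := Groth.Agent.Helper3.NumType.QT5 T h2 2 0 1 0 2 (by norm_num) (by norm_num)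
            linarith only [t, z02, ea04, eb04, ea24, eb24, hw0, hw2, hw4]
          · obtain ⟨ea24, eb24⟩ := e
            exfalso
            have t := Groth.Agent.Helper3.NumType.QT5 T h2 1 0 1 0 1 (by norm_num) (by norm_num)
            linarith only [t, z02, ea04, eb04, ea24, eb24, hw0, hw2, hw4]
          · obtain ⟨ea24, eb24⟩ := e
            exfalso
            have t := Groth.Agent.Helper3.NumType.QT5 T h2 1 0 1 0 2 (by norm_num) (by norm_num)
            linarith only [t, z02, ea04, eb04, ea24, eb24, hw0, hw2, hw4]
      · rcases Groth.Agent.Helper3.NumType.edge_casesT T h2 (by norm_num) (p := 2) (q := 3) (by decide) hp23 with e | e | e | e | e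
        · obtain ⟨ea23, eb23⟩ := e
          rcases eq_or_lt_of_le nn24 with z | hp24
          · have z24 : T.a 2 4 = 0 := z.symm
            rcases eq_or_lt_of_le nn34 with z | hp34
            · have z34 : T.a 3 4 = 0 := z.symm
              exfalso
              obtain ⟨i, hi, j, hj, hij⟩ := T.connected ({0, 4} : Finset (Fin 5)) (by decide) (by decide)
              fin_cases i <;> fin_cases j <;> first | exact absurd hi (by decide) | exact hj (by decide) | (apply hij; first | exact z01 | exact z02 | exact z03 | exact s41.trans z14 | exact s42.trans z24 | exact s43.trans z34)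
            · rcases Groth.Agent.Helper3.NumType.edge_casesT T h2 (by norm_num) (p := 3) (q := 4) (by decide) hp34 with e | e | e | e | e
              · obtain ⟨ea34, eb34⟩ := e
                have hr0 : (-2) * T.m 0 + (2) * T.m 4 = 0 := by
                  have f4 : T.a 0 4 = 2 * T.w 0 := by linarith only [ea04, eb04]
                  have h : T.w 0 * ((-2) * T.m 0 + (2) * T.m 4) = 0 := by
                    rw [z01, z02, z03, f4] at r0
                    linarith only [r0]
                  rcases mul_eq_zero.mp h with h' | h'
                  · exfalso; linarith only [h', hw0]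
                  · exact h'
                have hr1 : (-2) * T.m 1 + (1) * T.m 2 = 0 := by
                  have f2 : T.a 1 2 = T.w 1 := by linarith only [ea12, eb12]
                  have h : T.w 1 * ((-2) * T.m 1 + (1) * T.m 2) = 0 := by
                    rw [z01, f2, z13, z14] at r1
                    linarith only [r1]
                  rcases mul_eq_zero.mp h with h' | h'
                  · exfalso; linarith only [h', hw1]
                  · exact h'
                have hr2 : (-2) * T.m 2 + (2) * T.m 1 + (1) * T.m 3 = 0 := by
                  have f1 : T.a 1 2 = 2 * T.w 2 := by linarith only [ea12, eb12]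
                  have f3 : T.a 2 3 = T.w 2 := by linarith only [ea23, eb23]
                  have h : T.w 2 * ((-2) * T.m 2 + (2) * T.m 1 + (1) * T.m 3) = 0 := by
                    rw [z02, f1, f3, z24] at r2
                    linarith only [r2]
                  rcases mul_eq_zero.mp h with h' | h'
                  · exfalso; linarith only [h', hw2]
                  · exact h'
                have hr3 : (-2) * T.m 3 + (1) * T.m 2 + (1) * T.m 4 = 0 := by
                  have f2 : T.a 2 3 = T.w 3 := by linarith only [ea23, eb23]
                  have f4 : T.a 3 4 = T.w 3 := by linarith only [ea34, eb34]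
                  have h : T.w 3 * ((-2) * T.m 3 + (1) * T.m 2 + (1) * T.m 4) = 0 := by
                    rw [z03, z13, f2, f4] at r3
                    linarith only [r3]
                  rcases mul_eq_zero.mp h with h' | h'
                  · exfalso; linarith only [h', hw3]
                  · exact h'
                have hr4 : (-2) * T.m 4 + (1) * T.m 0 + (1) * T.m 3 = 0 := by
                  have f0 : T.a 0 4 = T.w 4 := by linarith only [ea04, eb04]
                  have f3 : T.a 3 4 = T.w 4 := by linarith only [ea34, eb34]
                  have h : T.w 4 * ((-2) * T.m 4 + (1) * T.m 0 + (1) * T.m 3) = 0 := by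
                    rw [f0, z14, z24, f3] at r4
                    linarith only [r4]
                  rcases mul_eq_zero.mp h with h' | h'
                  · exfalso; linarith only [h', hw4]
                  · exact h'
                have w1 : T.w 1 = 4 * T.w 0 := by linarith only [ea04, ea12, ea23, ea34]
                have w2 : T.w 2 = 2 * T.w 0 := by linarith only [ea04, ea12, ea23, ea34]
                have w3 : T.w 3 = 2 * T.w 0 := by linarith only [ea04, ea12, ea23, ea34]
                have w4 : T.w 4 = 2 * T.w 0 := by linarith only [ea04, ea12, ea23, ea34]
                have a04 : T.a 0 4 = 2 * T.w 0 := by linarith only [ea04, eb04, ea12, eb12, ea23, eb23, ea34, eb34]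
                have a12 : T.a 1 2 = 4 * T.w 0 := by linarith only [ea04, eb04, ea12, eb12, ea23, eb23, ea34, eb34]
                have a23 : T.a 2 3 = 2 * T.w 0 := by linarith only [ea04, eb04, ea12, eb12, ea23, eb23, ea34, eb34]
                have a34 : T.a 3 4 = 2 * T.w 0 := by linarith only [ea04, eb04, ea12, eb12, ea23, eb23, ea34, eb34]
                have m0 : T.m 0 = 2 * T.m 1 := by linarith only [hr0, hr1, hr2, hr3, hr4]
                have m2 : T.m 2 = 2 * T.m 1 := by linarith only [hr0, hr1, hr2, hr3, hr4]
                have m3 : T.m 3 = 2 * T.m 1 := by linarith only [hr0, hr1, hr2, hr3, hr4]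
                have m4 : T.m 4 = 2 * T.m 1 := by linarith only [hr0, hr1, hr2, hr3, hr4]
                refine ⟨Equiv.ofBijective ![0, 4, 3, 2, 1] (by decide), T.m 1, T.w 0, ?_⟩
                simp only [Equiv.ofBijective_apply, Matrix.cons_val_zero, Matrix.cons_val_one, Matrix.cons_val]
                refine Or.inr (Or.inr (Or.inr (Or.inl ⟨?_, ?_, ?_, ?_, ?_, ?_, ?_, ?_, ?_, ?_, ?_, ?_, ?_, ?_, ?_, ?_, ?_, ?_, ?_, ?_, ?_, ?_, ?_, ?_, ?_⟩)))
                all_goals first | rfl | trivial | linarith only [w1, w2, w3, w4, z01, z02, z03, a04, a12, z13, z14, a23, z24, a34, m0, m2, m3, m4, d0, d1, d2, d3, d4, s10, s20, s30, s40, s21, s31, s41, s32, s42, s43]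
              · obtain ⟨ea34, eb34⟩ := e
                exfalso
                have t := Groth.Agent.Helper3.NumType.QT5 T h2 1 0 0 1 1 (by norm_num) (by norm_num)
                linarith only [t, z03, ea04, eb04, ea34, eb34, hw0, hw3, hw4]
              · obtain ⟨ea34, eb34⟩ := e
                exfalso
                have t := Groth.Agent.Helper3.NumType.QT5 T h2 2 0 0 1 2 (by norm_num) (by norm_num)
                linarith only [t, z03, ea04, eb04, ea34, eb34, hw0, hw3, hw4]
              · obtain ⟨ea34, eb34⟩ := e
                exfalso
                have t := Groth.Agent.Helper3.NumType.QT5 T h2 1 0 0 1 1 (by norm_num) (by norm_num)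
                linarith only [t, z03, ea04, eb04, ea34, eb34, hw0, hw3, hw4]
              · obtain ⟨ea34, eb34⟩ := e
                exfalso
                have t := Groth.Agent.Helper3.NumType.QT5 T h2 1 0 0 1 2 (by norm_num) (by norm_num)
                linarith only [t, z03, ea04, eb04, ea34, eb34, hw0, hw3, hw4]
          · rcases Groth.Agent.Helper3.NumType.edge_casesT T h2 (by norm_num) (p := 2) (q := 4) (by decide) hp24 with e | e | e | e | e
            · obtain ⟨ea24, eb24⟩ := e
              exfalso
              have t := Groth.Agent.Helper3.NumType.QT5 T h2 2 1 2 0 2 (by norm_num) (by norm_num)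
              linarith only [t, z01, z02, ea04, eb04, ea12, eb12, z14, ea24, eb24, hw0, hw1, hw2, hw4]
            · obtain ⟨ea24, eb24⟩ := e
              exfalso
              have t := Groth.Agent.Helper3.NumType.QT5 T h2 1 0 1 0 1 (by norm_num) (by norm_num)
              linarith only [t, z02, ea04, eb04, ea24, eb24, hw0, hw2, hw4]
            · obtain ⟨ea24, eb24⟩ := e
              exfalso
              have t := Groth.Agent.Helper3.NumType.QT5 T h2 2 0 1 0 2 (by norm_num) (by norm_num)
              linarith only [t, z02, ea04, eb04, ea24, eb24, hw0, hw2, hw4]
            · obtain ⟨ea24, eb24⟩ := e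
              exfalso
              have t := Groth.Agent.Helper3.NumType.QT5 T h2 1 0 1 0 1 (by norm_num) (by norm_num)
              linarith only [t, z02, ea04, eb04, ea24, eb24, hw0, hw2, hw4]
            · obtain ⟨ea24, eb24⟩ := e
              exfalso
              have t := Groth.Agent.Helper3.NumType.QT5 T h2 1 0 1 0 2 (by norm_num) (by norm_num)
              linarith only [t, z02, ea04, eb04, ea24, eb24, hw0, hw2, hw4]
        · obtain ⟨ea23, eb23⟩ := e
          exfalso
          have t := Groth.Agent.Helper3.NumType.QT5 T h2 0 1 2 1 0 (by norm_num) (by norm_num)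
          linarith only [t, ea12, eb12, z13, ea23, eb23, hw1, hw2, hw3]
        · obtain ⟨ea23, eb23⟩ := e
          exfalso
          have t := Groth.Agent.Helper3.NumType.QT5 T h2 0 1 2 2 0 (by norm_num) (by norm_num)
          linarith only [t, ea12, eb12, z13, ea23, eb23, hw1, hw2, hw3]
        · obtain ⟨ea23, eb23⟩ := e
          exfalso
          have t := Groth.Agent.Helper3.NumType.QT5 T h2 0 1 2 1 0 (by norm_num) (by norm_num)
          linarith only [t, ea12, eb12, z13, ea23, eb23, hw1, hw2, hw3]
        · obtain ⟨ea23, eb23⟩ := e
          exfalso
          have t := Groth.Agent.Helper3.NumType.QT5 T h2 0 1 2 2 0 (by norm_num) (by norm_num)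
          linarith only [t, ea12, eb12, z13, ea23, eb23, hw1, hw2, hw3]
    · rcases Groth.Agent.Helper3.NumType.edge_casesT T h2 (by norm_num) (p := 1) (q := 4) (by decide) hp14 with e | e | e | e | e
      · obtain ⟨ea14, eb14⟩ := e
        exfalso
        have t := Groth.Agent.Helper3.NumType.QT5 T h2 1 1 1 0 1 (by norm_num) (by norm_num)
        linarith only [t, z01, z02, ea04, eb04, ea12, eb12, ea14, eb14, nn24, hw0, hw1, hw2, hw4]
      · obtain ⟨ea14, eb14⟩ := e
        exfalso
        have t := Groth.Agent.Helper3.NumType.QT5 T h2 1 1 0 0 1 (by norm_num) (by norm_num)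
        linarith only [t, z01, ea04, eb04, ea14, eb14, hw0, hw1, hw4]
      · obtain ⟨ea14, eb14⟩ := e
        exfalso
        have t := Groth.Agent.Helper3.NumType.QT5 T h2 2 1 0 0 2 (by norm_num) (by norm_num)
        linarith only [t, z01, ea04, eb04, ea14, eb14, hw0, hw1, hw4]
      · obtain ⟨ea14, eb14⟩ := e
        exfalso
        have t := Groth.Agent.Helper3.NumType.QT5 T h2 1 1 0 0 1 (by norm_num) (by norm_num)
        linarith only [t, z01, ea04, eb04, ea14, eb14, hw0, hw1, hw4]
      · obtain ⟨ea14, eb14⟩ := e
        exfalso
        have t := Groth.Agent.Helper3.NumType.QT5 T h2 1 1 0 0 2 (by norm_num) (by norm_num)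
        linarith only [t, z01, ea04, eb04, ea14, eb14, hw0, hw1, hw4]
  · rcases Groth.Agent.Helper3.NumType.edge_casesT T h2 (by norm_num) (p := 1) (q := 3) (by decide) hp13 with e | e | e | e | e
    · obtain ⟨ea13, eb13⟩ := e
      rcases eq_or_lt_of_le nn14 with z | hp14
      · have z14 : T.a 1 4 = 0 := z.symm
        rcases eq_or_lt_of_le nn23 with z | hp23
        · have z23 : T.a 2 3 = 0 := z.symm
          rcases eq_or_lt_of_le nn24 with z | hp24
          · have z24 : T.a 2 4 = 0 := z.symm
            rcases eq_or_lt_of_le nn34 with z | hp34
            · have z34 : T.a 3 4 = 0 := z.symm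
              exfalso
              obtain ⟨i, hi, j, hj, hij⟩ := T.connected ({0, 4} : Finset (Fin 5)) (by decide) (by decide)
              fin_cases i <;> fin_cases j <;> first | exact absurd hi (by decide) | exact hj (by decide) | (apply hij; first | exact z01 | exact z02 | exact z03 | exact s41.trans z14 | exact s42.trans z24 | exact s43.trans z34)
            · rcases Groth.Agent.Helper3.NumType.edge_casesT T h2 (by norm_num) (p := 3) (q := 4) (by decide) hp34 with e | e | e | e | e
              · obtain ⟨ea34, eb34⟩ := e
                have hr0 : (-2) * T.m 0 + (2) * T.m 4 = 0 := by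
                  have f4 : T.a 0 4 = 2 * T.w 0 := by linarith only [ea04, eb04]
                  have h : T.w 0 * ((-2) * T.m 0 + (2) * T.m 4) = 0 := by
                    rw [z01, z02, z03, f4] at r0
                    linarith only [r0]
                  rcases mul_eq_zero.mp h with h' | h'
                  · exfalso; linarith only [h', hw0]
                  · exact h'
                have hr1 : (-2) * T.m 1 + (1) * T.m 2 + (1) * T.m 3 = 0 := by
                  have f2 : T.a 1 2 = T.w 1 := by linarith only [ea12, eb12]
                  have f3 : T.a 1 3 = T.w 1 := by linarith only [ea13, eb13]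
                  have h : T.w 1 * ((-2) * T.m 1 + (1) * T.m 2 + (1) * T.m 3) = 0 := by
                    rw [z01, f2, f3, z14] at r1
                    linarith only [r1]
                  rcases mul_eq_zero.mp h with h' | h'
                  · exfalso; linarith only [h', hw1]
                  · exact h'
                have hr2 : (-2) * T.m 2 + (2) * T.m 1 = 0 := by
                  have f1 : T.a 1 2 = 2 * T.w 2 := by linarith only [ea12, eb12]
                  have h : T.w 2 * ((-2) * T.m 2 + (2) * T.m 1) = 0 := by
                    rw [z02, f1, z23, z24] at r2
                    linarith only [r2]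
                  rcases mul_eq_zero.mp h with h' | h'
                  · exfalso; linarith only [h', hw2]
                  · exact h'
                have hr3 : (-2) * T.m 3 + (1) * T.m 1 + (1) * T.m 4 = 0 := by
                  have f1 : T.a 1 3 = T.w 3 := by linarith only [ea13, eb13]
                  have f4 : T.a 3 4 = T.w 3 := by linarith only [ea34, eb34]
                  have h : T.w 3 * ((-2) * T.m 3 + (1) * T.m 1 + (1) * T.m 4) = 0 := by
                    rw [z03, f1, z23, f4] at r3
                    linarith only [r3]
                  rcases mul_eq_zero.mp h with h' | h'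
                  · exfalso; linarith only [h', hw3]
                  · exact h'
                have hr4 : (-2) * T.m 4 + (1) * T.m 0 + (1) * T.m 3 = 0 := by
                  have f0 : T.a 0 4 = T.w 4 := by linarith only [ea04, eb04]
                  have f3 : T.a 3 4 = T.w 4 := by linarith only [ea34, eb34]
                  have h : T.w 4 * ((-2) * T.m 4 + (1) * T.m 0 + (1) * T.m 3) = 0 := by
                    rw [f0, z14, z24, f3] at r4
                    linarith only [r4]
                  rcases mul_eq_zero.mp h with h' | h'
                  · exfalso; linarith only [h', hw4]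
                  · exact h'
                have w1 : T.w 1 = 2 * T.w 0 := by linarith only [ea04, ea12, ea13, ea34]
                have w2 : T.w 2 = T.w 0 := by linarith only [ea04, ea12, ea13, ea34]
                have w3 : T.w 3 = 2 * T.w 0 := by linarith only [ea04, ea12, ea13, ea34]
                have w4 : T.w 4 = 2 * T.w 0 := by linarith only [ea04, ea12, ea13, ea34]
                have a04 : T.a 0 4 = 2 * T.w 0 := by linarith only [ea04, eb04, ea12, eb12, ea13, eb13, ea34, eb34]
                have a12 : T.a 1 2 = 2 * T.w 0 := by linarith only [ea04, eb04, ea12, eb12, ea13, eb13, ea34, eb34]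
                have a13 : T.a 1 3 = 2 * T.w 0 := by linarith only [ea04, eb04, ea12, eb12, ea13, eb13, ea34, eb34]
                have a34 : T.a 3 4 = 2 * T.w 0 := by linarith only [ea04, eb04, ea12, eb12, ea13, eb13, ea34, eb34]
                have m1 : T.m 1 = T.m 0 := by linarith only [hr0, hr1, hr2, hr3, hr4]
                have m2 : T.m 2 = T.m 0 := by linarith only [hr0, hr1, hr2, hr3, hr4]
                have m3 : T.m 3 = T.m 0 := by linarith only [hr0, hr1, hr2, hr3, hr4]
                have m4 : T.m 4 = T.m 0 := by linarith only [hr0, hr1, hr2, hr3, hr4]
                refine ⟨Equiv.ofBijective ![0, 4, 3, 1, 2] (by decide), T.m 0, T.w 0, ?_⟩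
                simp only [Equiv.ofBijective_apply, Matrix.cons_val_zero, Matrix.cons_val_one, Matrix.cons_val]
                refine Or.inr (Or.inr (Or.inr (Or.inr (Or.inl ⟨?_, ?_, ?_, ?_, ?_, ?_, ?_, ?_, ?_, ?_, ?_, ?_, ?_, ?_, ?_, ?_, ?_, ?_, ?_, ?_, ?_, ?_, ?_, ?_, ?_⟩))))
                all_goals first | rfl | trivial | linarith only [w1, w2, w3, w4, z01, z02, z03, a04, a12, a13, z14, z23, z24, a34, m1, m2, m3, m4, d0, d1, d2, d3, d4, s10, s20, s30, s40, s21, s31, s41, s32, s42, s43]
              · obtain ⟨ea34, eb34⟩ := e
                exfalso
                have t := Groth.Agent.Helper3.NumType.QT5 T h2 1 0 0 1 1 (by norm_num) (by norm_num)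
                linarith only [t, z03, ea04, eb04, ea34, eb34, hw0, hw3, hw4]
              · obtain ⟨ea34, eb34⟩ := e
                exfalso
                have t := Groth.Agent.Helper3.NumType.QT5 T h2 2 0 0 1 2 (by norm_num) (by norm_num)
                linarith only [t, z03, ea04, eb04, ea34, eb34, hw0, hw3, hw4]
              · obtain ⟨ea34, eb34⟩ := e
                exfalso
                have t := Groth.Agent.Helper3.NumType.QT5 T h2 1 0 0 1 1 (by norm_num) (by norm_num)
                linarith only [t, z03, ea04, eb04, ea34, eb34, hw0, hw3, hw4]
              · obtain ⟨ea34, eb34⟩ := e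
                exfalso
                have t := Groth.Agent.Helper3.NumType.QT5 T h2 1 0 0 1 2 (by norm_num) (by norm_num)
                linarith only [t, z03, ea04, eb04, ea34, eb34, hw0, hw3, hw4]
          · rcases Groth.Agent.Helper3.NumType.edge_casesT T h2 (by norm_num) (p := 2) (q := 4) (by decide) hp24 with e | e | e | e | e
            · obtain ⟨ea24, eb24⟩ := e
              exfalso
              have t := Groth.Agent.Helper3.NumType.QT5 T h2 2 1 2 0 2 (by norm_num) (by norm_num)
              linarith only [t, z01, z02, ea04, eb04, ea12, eb12, z14, ea24, eb24, hw0, hw1, hw2, hw4]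
            · obtain ⟨ea24, eb24⟩ := e
              exfalso
              have t := Groth.Agent.Helper3.NumType.QT5 T h2 1 0 1 0 1 (by norm_num) (by norm_num)
              linarith only [t, z02, ea04, eb04, ea24, eb24, hw0, hw2, hw4]
            · obtain ⟨ea24, eb24⟩ := e
              exfalso
              have t := Groth.Agent.Helper3.NumType.QT5 T h2 2 0 1 0 2 (by norm_num) (by norm_num)
              linarith only [t, z02, ea04, eb04, ea24, eb24, hw0, hw2, hw4]
            · obtain ⟨ea24, eb24⟩ := e
              exfalso
              have t := Groth.Agent.Helper3.NumType.QT5 T h2 1 0 1 0 1 (by norm_num) (by norm_num)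
              linarith only [t, z02, ea04, eb04, ea24, eb24, hw0, hw2, hw4]
            · obtain ⟨ea24, eb24⟩ := e
              exfalso
              have t := Groth.Agent.Helper3.NumType.QT5 T h2 1 0 1 0 2 (by norm_num) (by norm_num)
              linarith only [t, z02, ea04, eb04, ea24, eb24, hw0, hw2, hw4]
        · rcases Groth.Agent.Helper3.NumType.edge_casesT T h2 (by norm_num) (p := 2) (q := 3) (by decide) hp23 with e | e | e | e | e
          · obtain ⟨ea23, eb23⟩ := e
            exfalso
            linarith only [ea12, ea13, ea23, hw1, hw2, hw3]
          · obtain ⟨ea23, eb23⟩ := e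
            exfalso
            have t := Groth.Agent.Helper3.NumType.QT5 T h2 0 1 1 1 0 (by norm_num) (by norm_num)
            linarith only [t, ea12, eb12, ea13, eb13, ea23, eb23, hw1, hw2, hw3]
          · obtain ⟨ea23, eb23⟩ := e
            exfalso
            linarith only [ea12, ea13, ea23, hw1, hw2, hw3]
          · obtain ⟨ea23, eb23⟩ := e
            exfalso
            linarith only [ea12, ea13, ea23, hw1, hw2, hw3]
          · obtain ⟨ea23, eb23⟩ := e
            exfalso
            linarith only [ea12, ea13, ea23, hw1, hw2, hw3]
      · rcases Groth.Agent.Helper3.NumType.edge_casesT T h2 (by norm_num) (p := 1) (q := 4) (by decide) hp14 with e | e | e | e | e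
        · obtain ⟨ea14, eb14⟩ := e
          exfalso
          have t := Groth.Agent.Helper3.NumType.QT5 T h2 1 1 1 0 1 (by norm_num) (by norm_num)
          linarith only [t, z01, z02, ea04, eb04, ea12, eb12, ea14, eb14, nn24, hw0, hw1, hw2, hw4]
        · obtain ⟨ea14, eb14⟩ := e
          exfalso
          have t := Groth.Agent.Helper3.NumType.QT5 T h2 1 1 0 0 1 (by norm_num) (by norm_num)
          linarith only [t, z01, ea04, eb04, ea14, eb14, hw0, hw1, hw4]
        · obtain ⟨ea14, eb14⟩ := e
          exfalso
          have t := Groth.Agent.Helper3.NumType.QT5 T h2 2 1 0 0 2 (by norm_num) (by norm_num)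
          linarith only [t, z01, ea04, eb04, ea14, eb14, hw0, hw1, hw4]
        · obtain ⟨ea14, eb14⟩ := e
          exfalso
          have t := Groth.Agent.Helper3.NumType.QT5 T h2 1 1 0 0 1 (by norm_num) (by norm_num)
          linarith only [t, z01, ea04, eb04, ea14, eb14, hw0, hw1, hw4]
        · obtain ⟨ea14, eb14⟩ := e
          exfalso
          have t := Groth.Agent.Helper3.NumType.QT5 T h2 1 1 0 0 2 (by norm_num) (by norm_num)
          linarith only [t, z01, ea04, eb04, ea14, eb14, hw0, hw1, hw4]
    · obtain ⟨ea13, eb13⟩ := e
      exfalso
      have t := Groth.Agent.Helper3.NumType.QT5 T h2 0 2 2 1 0 (by norm_num) (by norm_num)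
      linarith only [t, ea12, eb12, ea13, eb13, nn23, hw1, hw2, hw3]
    · obtain ⟨ea13, eb13⟩ := e
      exfalso
      have t := Groth.Agent.Helper3.NumType.QT5 T h2 0 1 1 1 0 (by norm_num) (by norm_num)
      linarith only [t, ea12, eb12, ea13, eb13, nn23, hw1, hw2, hw3]
    · obtain ⟨ea13, eb13⟩ := e
      exfalso
      have t := Groth.Agent.Helper3.NumType.QT5 T h2 0 2 1 1 0 (by norm_num) (by norm_num)
      linarith only [t, ea12, eb12, ea13, eb13, nn23, hw1, hw2, hw3]
    · obtain ⟨ea13, eb13⟩ := e
      exfalso
      have t := Groth.Agent.Helper3.NumType.QT5 T h2 0 1 1 1 0 (by norm_num) (by norm_num)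
      linarith only [t, ea12, eb12, ea13, eb13, nn23, hw1, hw2, hw3]

theorem g5_ZZZU2U3 (T : Models.NumericalType 5) (h2 : ∀ i, T.IsMinusTwo i) (z01 : T.a 0 1 = 0) (z02 : T.a 0 2 = 0) (z03 : T.a 0 3 = 0) (hp04 : 0 < T.a 0 4) (ea04 : T.w 4 = 2 * T.w 0) (eb04 : T.a 0 4 = 2 * T.w 0) (hp12 : 0 < T.a 1 2) (ea12 : T.w 2 = 3 * T.w 1) (eb12 : T.a 1 2 = 3 * T.w 1) :
    Goal5 T := by
  unfold Goal5
  have hw0 := T.w_pos 0
  have hm0 := T.m_pos 0
  have d0 := (h2 0).2
  have r0 := Groth.Agent.Helper3.NumType.RT5_0 T h2
  have hw1 := T.w_pos 1
  have hm1 := T.m_pos 1
  have d1 := (h2 1).2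
  have r1 := Groth.Agent.Helper3.NumType.RT5_1 T h2
  have hw2 := T.w_pos 2
  have hm2 := T.m_pos 2
  have d2 := (h2 2).2
  have r2 := Groth.Agent.Helper3.NumType.RT5_2 T h2
  have hw3 := T.w_pos 3
  have hm3 := T.m_pos 3
  have d3 := (h2 3).2
  have r3 := Groth.Agent.Helper3.NumType.RT5_3 T h2
  have hw4 := T.w_pos 4
  have hm4 := T.m_pos 4
  have d4 := (h2 4).2
  have r4 := Groth.Agent.Helper3.NumType.RT5_4 T h2
  have nn01 := T.offDiag_nonneg 0 1 (by decide)
  have s10 := Groth.Agent.Helper3.NumType.a_symm T 1 0
  have nn02 := T.offDiag_nonneg 0 2 (by decide)
  have s20 := Groth.Agent.Helper3.NumType.a_symm T 2 0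
  have nn03 := T.offDiag_nonneg 0 3 (by decide)
  have s30 := Groth.Agent.Helper3.NumType.a_symm T 3 0
  have nn04 := T.offDiag_nonneg 0 4 (by decide)
  have s40 := Groth.Agent.Helper3.NumType.a_symm T 4 0
  have nn12 := T.offDiag_nonneg 1 2 (by decide)
  have s21 := Groth.Agent.Helper3.NumType.a_symm T 2 1
  have nn13 := T.offDiag_nonneg 1 3 (by decide)
  have s31 := Groth.Agent.Helper3.NumType.a_symm T 3 1
  have nn14 := T.offDiag_nonneg 1 4 (by decide)
  have s41 := Groth.Agent.Helper3.NumType.a_symm T 4 1
  have nn23 := T.offDiag_nonneg 2 3 (by decide)
  have s32 := Groth.Agent.Helper3.NumType.a_symm T 3 2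
  have nn24 := T.offDiag_nonneg 2 4 (by decide)
  have s42 := Groth.Agent.Helper3.NumType.a_symm T 4 2
  have nn34 := T.offDiag_nonneg 3 4 (by decide)
  have s43 := Groth.Agent.Helper3.NumType.a_symm T 4 3
  rcases eq_or_lt_of_le nn13 with z | hp13
  · have z13 : T.a 1 3 = 0 := z.symm
    rcases eq_or_lt_of_le nn14 with z | hp14
    · have z14 : T.a 1 4 = 0 := z.symm
      rcases eq_or_lt_of_le nn23 with z | hp23
      · have z23 : T.a 2 3 = 0 := z.symm
        rcases eq_or_lt_of_le nn24 with z | hp24
        · have z24 : T.a 2 4 = 0 := z.symm
          exfalso
          obtain ⟨i, hi, j, hj, hij⟩ := T.connected ({1, 2} : Finset (Fin 5)) (by decide) (by decide)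
          fin_cases i <;> fin_cases j <;> first | exact absurd hi (by decide) | exact hj (by decide) | (apply hij; first | exact s10.trans z01 | exact z13 | exact z14 | exact s20.trans z02 | exact z23 | exact z24)
        · rcases Groth.Agent.Helper3.NumType.edge_casesT T h2 (by norm_num) (p := 2) (q := 4) (by decide) hp24 with e | e | e | e | e
          · obtain ⟨ea24, eb24⟩ := e
            exfalso
            have t := Groth.Agent.Helper3.NumType.QT5 T h2 0 3 2 0 1 (by norm_num) (by norm_num)
            linarith only [t, ea12, eb12, z14, ea24, eb24, hw1, hw2, hw4]
          · obtain ⟨ea24, eb24⟩ := e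
            exfalso
            have t := Groth.Agent.Helper3.NumType.QT5 T h2 1 0 1 0 1 (by norm_num) (by norm_num)
            linarith only [t, z02, ea04, eb04, ea24, eb24, hw0, hw2, hw4]
          · obtain ⟨ea24, eb24⟩ := e
            exfalso
            have t := Groth.Agent.Helper3.NumType.QT5 T h2 2 0 1 0 2 (by norm_num) (by norm_num)
            linarith only [t, z02, ea04, eb04, ea24, eb24, hw0, hw2, hw4]
          · obtain ⟨ea24, eb24⟩ := e
            exfalso
            have t := Groth.Agent.Helper3.NumType.QT5 T h2 1 0 1 0 1 (by norm_num) (by norm_num)
            linarith only [t, z02, ea04, eb04, ea24, eb24, hw0, hw2, hw4]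
          · obtain ⟨ea24, eb24⟩ := e
            exfalso
            have t := Groth.Agent.Helper3.NumType.QT5 T h2 1 0 1 0 2 (by norm_num) (by norm_num)
            linarith only [t, z02, ea04, eb04, ea24, eb24, hw0, hw2, hw4]
      · rcases Groth.Agent.Helper3.NumType.edge_casesT T h2 (by norm_num) (p := 2) (q := 3) (by decide) hp23 with e | e | e | e | e
        · obtain ⟨ea23, eb23⟩ := e
          exfalso
          have t := Groth.Agent.Helper3.NumType.QT5 T h2 0 3 2 1 0 (by norm_num) (by norm_num)
          linarith only [t, ea12, eb12, z13, ea23, eb23, hw1, hw2, hw3]
        · obtain ⟨ea23, eb23⟩ := e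
          exfalso
          have t := Groth.Agent.Helper3.NumType.QT5 T h2 0 2 2 1 0 (by norm_num) (by norm_num)
          linarith only [t, ea12, eb12, z13, ea23, eb23, hw1, hw2, hw3]
        · obtain ⟨ea23, eb23⟩ := e
          exfalso
          have t := Groth.Agent.Helper3.NumType.QT5 T h2 0 1 1 1 0 (by norm_num) (by norm_num)
          linarith only [t, ea12, eb12, z13, ea23, eb23, hw1, hw2, hw3]
        · obtain ⟨ea23, eb23⟩ := e
          exfalso
          have t := Groth.Agent.Helper3.NumType.QT5 T h2 0 1 2 1 0 (by norm_num) (by norm_num)
          linarith only [t, ea12, eb12, z13, ea23, eb23, hw1, hw2, hw3]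
        · obtain ⟨ea23, eb23⟩ := e
          exfalso
          have t := Groth.Agent.Helper3.NumType.QT5 T h2 0 1 1 1 0 (by norm_num) (by norm_num)
          linarith only [t, ea12, eb12, z13, ea23, eb23, hw1, hw2, hw3]
    · rcases Groth.Agent.Helper3.NumType.edge_casesT T h2 (by norm_num) (p := 1) (q := 4) (by decide) hp14 with e | e | e | e | e
      · obtain ⟨ea14, eb14⟩ := e
        exfalso
        have t := Groth.Agent.Helper3.NumType.QT5 T h2 0 2 1 0 1 (by norm_num) (by norm_num)
        linarith only [t, ea12, eb12, ea14, eb14, nn24, hw1, hw2, hw4]
      · obtain ⟨ea14, eb14⟩ := e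
        exfalso
        have t := Groth.Agent.Helper3.NumType.QT5 T h2 1 1 0 0 1 (by norm_num) (by norm_num)
        linarith only [t, z01, ea04, eb04, ea14, eb14, hw0, hw1, hw4]
      · obtain ⟨ea14, eb14⟩ := e
        exfalso
        have t := Groth.Agent.Helper3.NumType.QT5 T h2 2 1 0 0 2 (by norm_num) (by norm_num)
        linarith only [t, z01, ea04, eb04, ea14, eb14, hw0, hw1, hw4]
      · obtain ⟨ea14, eb14⟩ := e
        exfalso
        have t := Groth.Agent.Helper3.NumType.QT5 T h2 1 1 0 0 1 (by norm_num) (by norm_num)
        linarith only [t, z01, ea04, eb04, ea14, eb14, hw0, hw1, hw4]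
      · obtain ⟨ea14, eb14⟩ := e
        exfalso
        have t := Groth.Agent.Helper3.NumType.QT5 T h2 1 1 0 0 2 (by norm_num) (by norm_num)
        linarith only [t, z01, ea04, eb04, ea14, eb14, hw0, hw1, hw4]
  · rcases Groth.Agent.Helper3.NumType.edge_casesT T h2 (by norm_num) (p := 1) (q := 3) (by decide) hp13 with e | e | e | e | e
    · obtain ⟨ea13, eb13⟩ := e
      exfalso
      have t := Groth.Agent.Helper3.NumType.QT5 T h2 0 2 1 1 0 (by norm_num) (by norm_num)
      linarith only [t, ea12, eb12, ea13, eb13, nn23, hw1, hw2, hw3]
    · obtain ⟨ea13, eb13⟩ := e
      exfalso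
      have t := Groth.Agent.Helper3.NumType.QT5 T h2 0 2 1 1 0 (by norm_num) (by norm_num)
      linarith only [t, ea12, eb12, ea13, eb13, nn23, hw1, hw2, hw3]
    · obtain ⟨ea13, eb13⟩ := e
      exfalso
      have t := Groth.Agent.Helper3.NumType.QT5 T h2 0 2 1 1 0 (by norm_num) (by norm_num)
      linarith only [t, ea12, eb12, ea13, eb13, nn23, hw1, hw2, hw3]
    · obtain ⟨ea13, eb13⟩ := e
      exfalso
      have t := Groth.Agent.Helper3.NumType.QT5 T h2 0 2 1 1 0 (by norm_num) (by norm_num)
      linarith only [t, ea12, eb12, ea13, eb13, nn23, hw1, hw2, hw3]
    · obtain ⟨ea13, eb13⟩ := e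
      exfalso
      have t := Groth.Agent.Helper3.NumType.QT5 T h2 0 2 1 1 0 (by norm_num) (by norm_num)
      linarith only [t, ea12, eb12, ea13, eb13, nn23, hw1, hw2, hw3]

theorem g5_ZZZU2D3 (T : Models.NumericalType 5) (h2 : ∀ i, T.IsMinusTwo i) (z01 : T.a 0 1 = 0) (z02 : T.a 0 2 = 0) (z03 : T.a 0 3 = 0) (hp04 : 0 < T.a 0 4) (ea04 : T.w 4 = 2 * T.w 0) (eb04 : T.a 0 4 = 2 * T.w 0) (hp12 : 0 < T.a 1 2) (ea12 : T.w 1 = 3 * T.w 2) (eb12 : T.a 1 2 = 3 * T.w 2) :
    Goal5 T := by
  unfold Goal5
  have hw0 := T.w_pos 0
  have hm0 := T.m_pos 0
  have d0 := (h2 0).2
  have r0 := Groth.Agent.Helper3.NumType.RT5_0 T h2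
  have hw1 := T.w_pos 1
  have hm1 := T.m_pos 1
  have d1 := (h2 1).2
  have r1 := Groth.Agent.Helper3.NumType.RT5_1 T h2
  have hw2 := T.w_pos 2
  have hm2 := T.m_pos 2
  have d2 := (h2 2).2
  have r2 := Groth.Agent.Helper3.NumType.RT5_2 T h2
  have hw3 := T.w_pos 3
  have hm3 := T.m_pos 3
  have d3 := (h2 3).2
  have r3 := Groth.Agent.Helper3.NumType.RT5_3 T h2
  have hw4 := T.w_pos 4
  have hm4 := T.m_pos 4
  have d4 := (h2 4).2
  have r4 := Groth.Agent.Helper3.NumType.RT5_4 T h2
  have nn01 := T.offDiag_nonneg 0 1 (by decide)
  have s10 := Groth.Agent.Helper3.NumType.a_symm T 1 0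
  have nn02 := T.offDiag_nonneg 0 2 (by decide)
  have s20 := Groth.Agent.Helper3.NumType.a_symm T 2 0
  have nn03 := T.offDiag_nonneg 0 3 (by decide)
  have s30 := Groth.Agent.Helper3.NumType.a_symm T 3 0
  have nn04 := T.offDiag_nonneg 0 4 (by decide)
  have s40 := Groth.Agent.Helper3.NumType.a_symm T 4 0
  have nn12 := T.offDiag_nonneg 1 2 (by decide)
  have s21 := Groth.Agent.Helper3.NumType.a_symm T 2 1
  have nn13 := T.offDiag_nonneg 1 3 (by decide)
  have s31 := Groth.Agent.Helper3.NumType.a_symm T 3 1
  have nn14 := T.offDiag_nonneg 1 4 (by decide)
  have s41 := Groth.Agent.Helper3.NumType.a_symm T 4 1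
  have nn23 := T.offDiag_nonneg 2 3 (by decide)
  have s32 := Groth.Agent.Helper3.NumType.a_symm T 3 2
  have nn24 := T.offDiag_nonneg 2 4 (by decide)
  have s42 := Groth.Agent.Helper3.NumType.a_symm T 4 2
  have nn34 := T.offDiag_nonneg 3 4 (by decide)
  have s43 := Groth.Agent.Helper3.NumType.a_symm T 4 3
  rcases eq_or_lt_of_le nn13 with z | hp13
  · have z13 : T.a 1 3 = 0 := z.symm
    rcases eq_or_lt_of_le nn14 with z | hp14
    · have z14 : T.a 1 4 = 0 := z.symm
      rcases eq_or_lt_of_le nn23 with z | hp23
      · have z23 : T.a 2 3 = 0 := z.symm
        rcases eq_or_lt_of_le nn24 with z | hp24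
        · have z24 : T.a 2 4 = 0 := z.symm
          exfalso
          obtain ⟨i, hi, j, hj, hij⟩ := T.connected ({1, 2} : Finset (Fin 5)) (by decide) (by decide)
          fin_cases i <;> fin_cases j <;> first | exact absurd hi (by decide) | exact hj (by decide) | (apply hij; first | exact s10.trans z01 | exact z13 | exact z14 | exact s20.trans z02 | exact z23 | exact z24)
        · rcases Groth.Agent.Helper3.NumType.edge_casesT T h2 (by norm_num) (p := 2) (q := 4) (by decide) hp24 with e | e | e | e | e
          · obtain ⟨ea24, eb24⟩ := e
            exfalso
            have t := Groth.Agent.Helper3.NumType.QT5 T h2 0 1 2 0 1 (by norm_num) (by norm_num)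
            linarith only [t, ea12, eb12, z14, ea24, eb24, hw1, hw2, hw4]
          · obtain ⟨ea24, eb24⟩ := e
            exfalso
            have t := Groth.Agent.Helper3.NumType.QT5 T h2 1 0 1 0 1 (by norm_num) (by norm_num)
            linarith only [t, z02, ea04, eb04, ea24, eb24, hw0, hw2, hw4]
          · obtain ⟨ea24, eb24⟩ := e
            exfalso
            have t := Groth.Agent.Helper3.NumType.QT5 T h2 2 0 1 0 2 (by norm_num) (by norm_num)
            linarith only [t, z02, ea04, eb04, ea24, eb24, hw0, hw2, hw4]
          · obtain ⟨ea24, eb24⟩ := e
            exfalso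
            have t := Groth.Agent.Helper3.NumType.QT5 T h2 1 0 1 0 1 (by norm_num) (by norm_num)
            linarith only [t, z02, ea04, eb04, ea24, eb24, hw0, hw2, hw4]
          · obtain ⟨ea24, eb24⟩ := e
            exfalso
            have t := Groth.Agent.Helper3.NumType.QT5 T h2 1 0 1 0 2 (by norm_num) (by norm_num)
            linarith only [t, z02, ea04, eb04, ea24, eb24, hw0, hw2, hw4]
      · rcases Groth.Agent.Helper3.NumType.edge_casesT T h2 (by norm_num) (p := 2) (q := 3) (by decide) hp23 with e | e | e | e | e
        · obtain ⟨ea23, eb23⟩ := e
          exfalso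
          have t := Groth.Agent.Helper3.NumType.QT5 T h2 0 1 2 1 0 (by norm_num) (by norm_num)
          linarith only [t, ea12, eb12, z13, ea23, eb23, hw1, hw2, hw3]
        · obtain ⟨ea23, eb23⟩ := e
          exfalso
          have t := Groth.Agent.Helper3.NumType.QT5 T h2 0 1 2 1 0 (by norm_num) (by norm_num)
          linarith only [t, ea12, eb12, z13, ea23, eb23, hw1, hw2, hw3]
        · obtain ⟨ea23, eb23⟩ := e
          exfalso
          have t := Groth.Agent.Helper3.NumType.QT5 T h2 0 1 2 1 0 (by norm_num) (by norm_num)
          linarith only [t, ea12, eb12, z13, ea23, eb23, hw1, hw2, hw3]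
        · obtain ⟨ea23, eb23⟩ := e
          exfalso
          have t := Groth.Agent.Helper3.NumType.QT5 T h2 0 1 2 1 0 (by norm_num) (by norm_num)
          linarith only [t, ea12, eb12, z13, ea23, eb23, hw1, hw2, hw3]
        · obtain ⟨ea23, eb23⟩ := e
          exfalso
          have t := Groth.Agent.Helper3.NumType.QT5 T h2 0 1 2 1 0 (by norm_num) (by norm_num)
          linarith only [t, ea12, eb12, z13, ea23, eb23, hw1, hw2, hw3]
    · rcases Groth.Agent.Helper3.NumType.edge_casesT T h2 (by norm_num) (p := 1) (q := 4) (by decide) hp14 with e | e | e | e | e
      · obtain ⟨ea14, eb14⟩ := e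
        exfalso
        have t := Groth.Agent.Helper3.NumType.QT5 T h2 0 2 3 0 1 (by norm_num) (by norm_num)
        linarith only [t, ea12, eb12, ea14, eb14, nn24, hw1, hw2, hw4]
      · obtain ⟨ea14, eb14⟩ := e
        exfalso
        have t := Groth.Agent.Helper3.NumType.QT5 T h2 1 1 0 0 1 (by norm_num) (by norm_num)
        linarith only [t, z01, ea04, eb04, ea14, eb14, hw0, hw1, hw4]
      · obtain ⟨ea14, eb14⟩ := e
        exfalso
        have t := Groth.Agent.Helper3.NumType.QT5 T h2 2 1 0 0 2 (by norm_num) (by norm_num)
        linarith only [t, z01, ea04, eb04, ea14, eb14, hw0, hw1, hw4]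
      · obtain ⟨ea14, eb14⟩ := e
        exfalso
        have t := Groth.Agent.Helper3.NumType.QT5 T h2 1 1 0 0 1 (by norm_num) (by norm_num)
        linarith only [t, z01, ea04, eb04, ea14, eb14, hw0, hw1, hw4]
      · obtain ⟨ea14, eb14⟩ := e
        exfalso
        have t := Groth.Agent.Helper3.NumType.QT5 T h2 1 1 0 0 2 (by norm_num) (by norm_num)
        linarith only [t, z01, ea04, eb04, ea14, eb14, hw0, hw1, hw4]
  · rcases Groth.Agent.Helper3.NumType.edge_casesT T h2 (by norm_num) (p := 1) (q := 3) (by decide) hp13 with e | e | e | e | e
    · obtain ⟨ea13, eb13⟩ := e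
      exfalso
      have t := Groth.Agent.Helper3.NumType.QT5 T h2 0 2 3 1 0 (by norm_num) (by norm_num)
      linarith only [t, ea12, eb12, ea13, eb13, nn23, hw1, hw2, hw3]
    · obtain ⟨ea13, eb13⟩ := e
      exfalso
      have t := Groth.Agent.Helper3.NumType.QT5 T h2 0 2 2 1 0 (by norm_num) (by norm_num)
      linarith only [t, ea12, eb12, ea13, eb13, nn23, hw1, hw2, hw3]
    · obtain ⟨ea13, eb13⟩ := e
      exfalso
      have t := Groth.Agent.Helper3.NumType.QT5 T h2 0 1 1 1 0 (by norm_num) (by norm_num)
      linarith only [t, ea12, eb12, ea13, eb13, nn23, hw1, hw2, hw3]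
    · obtain ⟨ea13, eb13⟩ := e
      exfalso
      have t := Groth.Agent.Helper3.NumType.QT5 T h2 0 2 1 1 0 (by norm_num) (by norm_num)
      linarith only [t, ea12, eb12, ea13, eb13, nn23, hw1, hw2, hw3]
    · obtain ⟨ea13, eb13⟩ := e
      exfalso
      have t := Groth.Agent.Helper3.NumType.QT5 T h2 0 1 1 1 0 (by norm_num) (by norm_num)
      linarith only [t, ea12, eb12, ea13, eb13, nn23, hw1, hw2, hw3]

theorem g5_ZZZD2Z (T : Models.NumericalType 5) (h2 : ∀ i, T.IsMinusTwo i) (z01 : T.a 0 1 = 0) (z02 : T.a 0 2 = 0) (z03 : T.a 0 3 = 0) (hp04 : 0 < T.a 0 4) (ea04 : T.w 0 = 2 * T.w 4) (eb04 : T.a 0 4 = 2 * T.w 4) (z12 : T.a 1 2 = 0) :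
    Goal5 T := by
  unfold Goal5
  have hw0 := T.w_pos 0
  have hm0 := T.m_pos 0
  have d0 := (h2 0).2
  have r0 := Groth.Agent.Helper3.NumType.RT5_0 T h2
  have hw1 := T.w_pos 1
  have hm1 := T.m_pos 1
  have d1 := (h2 1).2
  have r1 := Groth.Agent.Helper3.NumType.RT5_1 T h2
  have hw2 := T.w_pos 2
  have hm2 := T.m_pos 2
  have d2 := (h2 2).2
  have r2 := Groth.Agent.Helper3.NumType.RT5_2 T h2
  have hw3 := T.w_pos 3
  have hm3 := T.m_pos 3
  have d3 := (h2 3).2
  have r3 := Groth.Agent.Helper3.NumType.RT5_3 T h2
  have hw4 := T.w_pos 4
  have hm4 := T.m_pos 4
  have d4 := (h2 4).2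
  have r4 := Groth.Agent.Helper3.NumType.RT5_4 T h2
  have nn01 := T.offDiag_nonneg 0 1 (by decide)
  have s10 := Groth.Agent.Helper3.NumType.a_symm T 1 0
  have nn02 := T.offDiag_nonneg 0 2 (by decide)
  have s20 := Groth.Agent.Helper3.NumType.a_symm T 2 0
  have nn03 := T.offDiag_nonneg 0 3 (by decide)
  have s30 := Groth.Agent.Helper3.NumType.a_symm T 3 0
  have nn04 := T.offDiag_nonneg 0 4 (by decide)
  have s40 := Groth.Agent.Helper3.NumType.a_symm T 4 0
  have nn12 := T.offDiag_nonneg 1 2 (by decide)
  have s21 := Groth.Agent.Helper3.NumType.a_symm T 2 1
  have nn13 := T.offDiag_nonneg 1 3 (by decide)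
  have s31 := Groth.Agent.Helper3.NumType.a_symm T 3 1
  have nn14 := T.offDiag_nonneg 1 4 (by decide)
  have s41 := Groth.Agent.Helper3.NumType.a_symm T 4 1
  have nn23 := T.offDiag_nonneg 2 3 (by decide)
  have s32 := Groth.Agent.Helper3.NumType.a_symm T 3 2
  have nn24 := T.offDiag_nonneg 2 4 (by decide)
  have s42 := Groth.Agent.Helper3.NumType.a_symm T 4 2
  have nn34 := T.offDiag_nonneg 3 4 (by decide)
  have s43 := Groth.Agent.Helper3.NumType.a_symm T 4 3
  rcases eq_or_lt_of_le nn13 with z | hp13
  · have z13 : T.a 1 3 = 0 := z.symm
    rcases eq_or_lt_of_le nn14 with z | hp14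
    · have z14 : T.a 1 4 = 0 := z.symm
      exfalso
      obtain ⟨i, hi, j, hj, hij⟩ := T.connected ({1} : Finset (Fin 5)) (by decide) (by decide)
      fin_cases i <;> fin_cases j <;> first | exact absurd hi (by decide) | exact hj (by decide) | (apply hij; first | exact s10.trans z01 | exact z12 | exact z13 | exact z14)
    · rcases Groth.Agent.Helper3.NumType.edge_casesT T h2 (by norm_num) (p := 1) (q := 4) (by decide) hp14 with e | e | e | e | e
      · obtain ⟨ea14, eb14⟩ := e
        rcases eq_or_lt_of_le nn23 with z | hp23
        · have z23 : T.a 2 3 = 0 := z.symm
          rcases eq_or_lt_of_le nn24 with z | hp24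
          · have z24 : T.a 2 4 = 0 := z.symm
            exfalso
            obtain ⟨i, hi, j, hj, hij⟩ := T.connected ({2} : Finset (Fin 5)) (by decide) (by decide)
            fin_cases i <;> fin_cases j <;> first | exact absurd hi (by decide) | exact hj (by decide) | (apply hij; first | exact s20.trans z02 | exact s21.trans z12 | exact z23 | exact z24)
          · rcases Groth.Agent.Helper3.NumType.edge_casesT T h2 (by norm_num) (p := 2) (q := 4) (by decide) hp24 with e | e | e | e | e
            · obtain ⟨ea24, eb24⟩ := e
              exfalso
              have t := Groth.Agent.Helper3.NumType.QT5 T h2 1 1 1 0 2 (by norm_num) (by norm_num)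
              linarith only [t, z01, z02, ea04, eb04, z12, ea14, eb14, ea24, eb24, hw0, hw1, hw2, hw4]
            · obtain ⟨ea24, eb24⟩ := e
              exfalso
              have t := Groth.Agent.Helper3.NumType.QT5 T h2 1 0 2 0 2 (by norm_num) (by norm_num)
              linarith only [t, z02, ea04, eb04, ea24, eb24, hw0, hw2, hw4]
            · obtain ⟨ea24, eb24⟩ := e
              exfalso
              have t := Groth.Agent.Helper3.NumType.QT5 T h2 1 0 1 0 2 (by norm_num) (by norm_num)
              linarith only [t, z02, ea04, eb04, ea24, eb24, hw0, hw2, hw4]
            · obtain ⟨ea24, eb24⟩ := e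
              exfalso
              have t := Groth.Agent.Helper3.NumType.QT5 T h2 1 0 2 0 2 (by norm_num) (by norm_num)
              linarith only [t, z02, ea04, eb04, ea24, eb24, hw0, hw2, hw4]
            · obtain ⟨ea24, eb24⟩ := e
              exfalso
              have t := Groth.Agent.Helper3.NumType.QT5 T h2 1 0 1 0 2 (by norm_num) (by norm_num)
              linarith only [t, z02, ea04, eb04, ea24, eb24, hw0, hw2, hw4]
        · rcases Groth.Agent.Helper3.NumType.edge_casesT T h2 (by norm_num) (p := 2) (q := 3) (by decide) hp23 with e | e | e | e | e
          · obtain ⟨ea23, eb23⟩ := e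
            rcases eq_or_lt_of_le nn24 with z | hp24
            · have z24 : T.a 2 4 = 0 := z.symm
              rcases eq_or_lt_of_le nn34 with z | hp34
              · have z34 : T.a 3 4 = 0 := z.symm
                exfalso
                obtain ⟨i, hi, j, hj, hij⟩ := T.connected ({0, 1, 4} : Finset (Fin 5)) (by decide) (by decide)
                fin_cases i <;> fin_cases j <;> first | exact absurd hi (by decide) | exact hj (by decide) | (apply hij; first | exact z02 | exact z03 | exact z12 | exact z13 | exact s42.trans z24 | exact s43.trans z34)
              · rcases Groth.Agent.Helper3.NumType.edge_casesT T h2 (by norm_num) (p := 3) (q := 4) (by decide) hp34 with e | e | e | e | e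
                · obtain ⟨ea34, eb34⟩ := e
                  exfalso
                  have t := Groth.Agent.Helper3.NumType.QT5 T h2 1 1 0 1 2 (by norm_num) (by norm_num)
                  linarith only [t, z01, z03, ea04, eb04, z13, ea14, eb14, ea34, eb34, hw0, hw1, hw3, hw4]
                · obtain ⟨ea34, eb34⟩ := e
                  exfalso
                  have t := Groth.Agent.Helper3.NumType.QT5 T h2 1 0 0 2 2 (by norm_num) (by norm_num)
                  linarith only [t, z03, ea04, eb04, ea34, eb34, hw0, hw3, hw4]
                · obtain ⟨ea34, eb34⟩ := e
                  exfalso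
                  have t := Groth.Agent.Helper3.NumType.QT5 T h2 1 0 0 1 2 (by norm_num) (by norm_num)
                  linarith only [t, z03, ea04, eb04, ea34, eb34, hw0, hw3, hw4]
                · obtain ⟨ea34, eb34⟩ := e
                  exfalso
                  have t := Groth.Agent.Helper3.NumType.QT5 T h2 1 0 0 2 2 (by norm_num) (by norm_num)
                  linarith only [t, z03, ea04, eb04, ea34, eb34, hw0, hw3, hw4]
                · obtain ⟨ea34, eb34⟩ := e
                  exfalso
                  have t := Groth.Agent.Helper3.NumType.QT5 T h2 1 0 0 1 2 (by norm_num) (by norm_num)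
                  linarith only [t, z03, ea04, eb04, ea34, eb34, hw0, hw3, hw4]
            · rcases Groth.Agent.Helper3.NumType.edge_casesT T h2 (by norm_num) (p := 2) (q := 4) (by decide) hp24 with e | e | e | e | e
              · obtain ⟨ea24, eb24⟩ := e
                exfalso
                have t := Groth.Agent.Helper3.NumType.QT5 T h2 1 1 1 0 2 (by norm_num) (by norm_num)
                linarith only [t, z01, z02, ea04, eb04, z12, ea14, eb14, ea24, eb24, hw0, hw1, hw2, hw4]
              · obtain ⟨ea24, eb24⟩ := e
                exfalso
                have t := Groth.Agent.Helper3.NumType.QT5 T h2 1 0 2 0 2 (by norm_num) (by norm_num)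
                linarith only [t, z02, ea04, eb04, ea24, eb24, hw0, hw2, hw4]
              · obtain ⟨ea24, eb24⟩ := e
                exfalso
                have t := Groth.Agent.Helper3.NumType.QT5 T h2 1 0 1 0 2 (by norm_num) (by norm_num)
                linarith only [t, z02, ea04, eb04, ea24, eb24, hw0, hw2, hw4]
              · obtain ⟨ea24, eb24⟩ := e
                exfalso
                have t := Groth.Agent.Helper3.NumType.QT5 T h2 1 0 2 0 2 (by norm_num) (by norm_num)
                linarith only [t, z02, ea04, eb04, ea24, eb24, hw0, hw2, hw4]
              · obtain ⟨ea24, eb24⟩ := e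
                exfalso
                have t := Groth.Agent.Helper3.NumType.QT5 T h2 1 0 1 0 2 (by norm_num) (by norm_num)
                linarith only [t, z02, ea04, eb04, ea24, eb24, hw0, hw2, hw4]
          · obtain ⟨ea23, eb23⟩ := e
            rcases eq_or_lt_of_le nn24 with z | hp24
            · have z24 : T.a 2 4 = 0 := z.symm
              rcases eq_or_lt_of_le nn34 with z | hp34
              · have z34 : T.a 3 4 = 0 := z.symm
                exfalso
                obtain ⟨i, hi, j, hj, hij⟩ := T.connected ({0, 1, 4} : Finset (Fin 5)) (by decide) (by decide)
                fin_cases i <;> fin_cases j <;> first | exact absurd hi (by decide) | exact hj (by decide) | (apply hij; first | exact z02 | exact z03 | exact z12 | exact z13 | exact s42.trans z24 | exact s43.trans z34)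
              · rcases Groth.Agent.Helper3.NumType.edge_casesT T h2 (by norm_num) (p := 3) (q := 4) (by decide) hp34 with e | e | e | e | e
                · obtain ⟨ea34, eb34⟩ := e
                  exfalso
                  have t := Groth.Agent.Helper3.NumType.QT5 T h2 1 1 0 1 2 (by norm_num) (by norm_num)
                  linarith only [t, z01, z03, ea04, eb04, z13, ea14, eb14, ea34, eb34, hw0, hw1, hw3, hw4]
                · obtain ⟨ea34, eb34⟩ := e
                  exfalso
                  have t := Groth.Agent.Helper3.NumType.QT5 T h2 1 0 0 2 2 (by norm_num) (by norm_num)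
                  linarith only [t, z03, ea04, eb04, ea34, eb34, hw0, hw3, hw4]
                · obtain ⟨ea34, eb34⟩ := e
                  exfalso
                  have t := Groth.Agent.Helper3.NumType.QT5 T h2 1 0 0 1 2 (by norm_num) (by norm_num)
                  linarith only [t, z03, ea04, eb04, ea34, eb34, hw0, hw3, hw4]
                · obtain ⟨ea34, eb34⟩ := e
                  exfalso
                  have t := Groth.Agent.Helper3.NumType.QT5 T h2 1 0 0 2 2 (by norm_num) (by norm_num)
                  linarith only [t, z03, ea04, eb04, ea34, eb34, hw0, hw3, hw4]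
                · obtain ⟨ea34, eb34⟩ := e
                  exfalso
                  have t := Groth.Agent.Helper3.NumType.QT5 T h2 1 0 0 1 2 (by norm_num) (by norm_num)
                  linarith only [t, z03, ea04, eb04, ea34, eb34, hw0, hw3, hw4]
            · rcases Groth.Agent.Helper3.NumType.edge_casesT T h2 (by norm_num) (p := 2) (q := 4) (by decide) hp24 with e | e | e | e | e
              · obtain ⟨ea24, eb24⟩ := e
                exfalso
                have t := Groth.Agent.Helper3.NumType.QT5 T h2 1 1 1 0 2 (by norm_num) (by norm_num)
                linarith only [t, z01, z02, ea04, eb04, z12, ea14, eb14, ea24, eb24, hw0, hw1, hw2, hw4]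
              · obtain ⟨ea24, eb24⟩ := e
                exfalso
                have t := Groth.Agent.Helper3.NumType.QT5 T h2 1 0 2 0 2 (by norm_num) (by norm_num)
                linarith only [t, z02, ea04, eb04, ea24, eb24, hw0, hw2, hw4]
              · obtain ⟨ea24, eb24⟩ := e
                exfalso
                have t := Groth.Agent.Helper3.NumType.QT5 T h2 1 0 1 0 2 (by norm_num) (by norm_num)
                linarith only [t, z02, ea04, eb04, ea24, eb24, hw0, hw2, hw4]
              · obtain ⟨ea24, eb24⟩ := e
                exfalso
                have t := Groth.Agent.Helper3.NumType.QT5 T h2 1 0 2 0 2 (by norm_num) (by norm_num)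
                linarith only [t, z02, ea04, eb04, ea24, eb24, hw0, hw2, hw4]
              · obtain ⟨ea24, eb24⟩ := e
                exfalso
                have t := Groth.Agent.Helper3.NumType.QT5 T h2 1 0 1 0 2 (by norm_num) (by norm_num)
                linarith only [t, z02, ea04, eb04, ea24, eb24, hw0, hw2, hw4]
          · obtain ⟨ea23, eb23⟩ := e
            rcases eq_or_lt_of_le nn24 with z | hp24
            · have z24 : T.a 2 4 = 0 := z.symm
              rcases eq_or_lt_of_le nn34 with z | hp34
              · have z34 : T.a 3 4 = 0 := z.symm
                exfalso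
                obtain ⟨i, hi, j, hj, hij⟩ := T.connected ({0, 1, 4} : Finset (Fin 5)) (by decide) (by decide)
                fin_cases i <;> fin_cases j <;> first | exact absurd hi (by decide) | exact hj (by decide) | (apply hij; first | exact z02 | exact z03 | exact z12 | exact z13 | exact s42.trans z24 | exact s43.trans z34)
              · rcases Groth.Agent.Helper3.NumType.edge_casesT T h2 (by norm_num) (p := 3) (q := 4) (by decide) hp34 with e | e | e | e | e
                · obtain ⟨ea34, eb34⟩ := e
                  exfalso
                  have t := Groth.Agent.Helper3.NumType.QT5 T h2 1 1 0 1 2 (by norm_num) (by norm_num)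
                  linarith only [t, z01, z03, ea04, eb04, z13, ea14, eb14, ea34, eb34, hw0, hw1, hw3, hw4]
                · obtain ⟨ea34, eb34⟩ := e
                  exfalso
                  have t := Groth.Agent.Helper3.NumType.QT5 T h2 1 0 0 2 2 (by norm_num) (by norm_num)
                  linarith only [t, z03, ea04, eb04, ea34, eb34, hw0, hw3, hw4]
                · obtain ⟨ea34, eb34⟩ := e
                  exfalso
                  have t := Groth.Agent.Helper3.NumType.QT5 T h2 1 0 0 1 2 (by norm_num) (by norm_num)
                  linarith only [t, z03, ea04, eb04, ea34, eb34, hw0, hw3, hw4]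
                · obtain ⟨ea34, eb34⟩ := e
                  exfalso
                  have t := Groth.Agent.Helper3.NumType.QT5 T h2 1 0 0 2 2 (by norm_num) (by norm_num)
                  linarith only [t, z03, ea04, eb04, ea34, eb34, hw0, hw3, hw4]
                · obtain ⟨ea34, eb34⟩ := e
                  exfalso
                  have t := Groth.Agent.Helper3.NumType.QT5 T h2 1 0 0 1 2 (by norm_num) (by norm_num)
                  linarith only [t, z03, ea04, eb04, ea34, eb34, hw0, hw3, hw4]
            · rcases Groth.Agent.Helper3.NumType.edge_casesT T h2 (by norm_num) (p := 2) (q := 4) (by decide) hp24 with e | e | e | e | e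
              · obtain ⟨ea24, eb24⟩ := e
                exfalso
                have t := Groth.Agent.Helper3.NumType.QT5 T h2 1 1 1 0 2 (by norm_num) (by norm_num)
                linarith only [t, z01, z02, ea04, eb04, z12, ea14, eb14, ea24, eb24, hw0, hw1, hw2, hw4]
              · obtain ⟨ea24, eb24⟩ := e
                exfalso
                have t := Groth.Agent.Helper3.NumType.QT5 T h2 1 0 2 0 2 (by norm_num) (by norm_num)
                linarith only [t, z02, ea04, eb04, ea24, eb24, hw0, hw2, hw4]
              · obtain ⟨ea24, eb24⟩ := e
                exfalso
                have t := Groth.Agent.Helper3.NumType.QT5 T h2 1 0 1 0 2 (by norm_num) (by norm_num)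
                linarith only [t, z02, ea04, eb04, ea24, eb24, hw0, hw2, hw4]
              · obtain ⟨ea24, eb24⟩ := e
                exfalso
                have t := Groth.Agent.Helper3.NumType.QT5 T h2 1 0 2 0 2 (by norm_num) (by norm_num)
                linarith only [t, z02, ea04, eb04, ea24, eb24, hw0, hw2, hw4]
              · obtain ⟨ea24, eb24⟩ := e
                exfalso
                have t := Groth.Agent.Helper3.NumType.QT5 T h2 1 0 1 0 2 (by norm_num) (by norm_num)
                linarith only [t, z02, ea04, eb04, ea24, eb24, hw0, hw2, hw4]
          · obtain ⟨ea23, eb23⟩ := e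
            rcases eq_or_lt_of_le nn24 with z | hp24
            · have z24 : T.a 2 4 = 0 := z.symm
              rcases eq_or_lt_of_le nn34 with z | hp34
              · have z34 : T.a 3 4 = 0 := z.symm
                exfalso
                obtain ⟨i, hi, j, hj, hij⟩ := T.connected ({0, 1, 4} : Finset (Fin 5)) (by decide) (by decide)
                fin_cases i <;> fin_cases j <;> first | exact absurd hi (by decide) | exact hj (by decide) | (apply hij; first | exact z02 | exact z03 | exact z12 | exact z13 | exact s42.trans z24 | exact s43.trans z34)
              · rcases Groth.Agent.Helper3.NumType.edge_casesT T h2 (by norm_num) (p := 3) (q := 4) (by decide) hp34 with e | e | e | e | e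
                · obtain ⟨ea34, eb34⟩ := e
                  exfalso
                  have t := Groth.Agent.Helper3.NumType.QT5 T h2 0 0 3 2 1 (by norm_num) (by norm_num)
                  linarith only [t, ea23, eb23, z24, ea34, eb34, hw2, hw3, hw4]
                · obtain ⟨ea34, eb34⟩ := e
                  exfalso
                  have t := Groth.Agent.Helper3.NumType.QT5 T h2 1 0 0 2 2 (by norm_num) (by norm_num)
                  linarith only [t, z03, ea04, eb04, ea34, eb34, hw0, hw3, hw4]
                · obtain ⟨ea34, eb34⟩ := e
                  exfalso
                  have t := Groth.Agent.Helper3.NumType.QT5 T h2 1 0 0 1 2 (by norm_num) (by norm_num)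
                  linarith only [t, z03, ea04, eb04, ea34, eb34, hw0, hw3, hw4]
                · obtain ⟨ea34, eb34⟩ := e
                  exfalso
                  have t := Groth.Agent.Helper3.NumType.QT5 T h2 1 0 0 2 2 (by norm_num) (by norm_num)
                  linarith only [t, z03, ea04, eb04, ea34, eb34, hw0, hw3, hw4]
                · obtain ⟨ea34, eb34⟩ := e
                  exfalso
                  have t := Groth.Agent.Helper3.NumType.QT5 T h2 1 0 0 1 2 (by norm_num) (by norm_num)
                  linarith only [t, z03, ea04, eb04, ea34, eb34, hw0, hw3, hw4]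
            · rcases Groth.Agent.Helper3.NumType.edge_casesT T h2 (by norm_num) (p := 2) (q := 4) (by decide) hp24 with e | e | e | e | e
              · obtain ⟨ea24, eb24⟩ := e
                exfalso
                have t := Groth.Agent.Helper3.NumType.QT5 T h2 0 0 2 1 1 (by norm_num) (by norm_num)
                linarith only [t, ea23, eb23, ea24, eb24, nn34, hw2, hw3, hw4]
              · obtain ⟨ea24, eb24⟩ := e
                exfalso
                have t := Groth.Agent.Helper3.NumType.QT5 T h2 1 0 2 0 2 (by norm_num) (by norm_num)
                linarith only [t, z02, ea04, eb04, ea24, eb24, hw0, hw2, hw4]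
              · obtain ⟨ea24, eb24⟩ := e
                exfalso
                have t := Groth.Agent.Helper3.NumType.QT5 T h2 1 0 1 0 2 (by norm_num) (by norm_num)
                linarith only [t, z02, ea04, eb04, ea24, eb24, hw0, hw2, hw4]
              · obtain ⟨ea24, eb24⟩ := e
                exfalso
                have t := Groth.Agent.Helper3.NumType.QT5 T h2 1 0 2 0 2 (by norm_num) (by norm_num)
                linarith only [t, z02, ea04, eb04, ea24, eb24, hw0, hw2, hw4]
              · obtain ⟨ea24, eb24⟩ := e
                exfalso
                have t := Groth.Agent.Helper3.NumType.QT5 T h2 1 0 1 0 2 (by norm_num) (by norm_num)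
                linarith only [t, z02, ea04, eb04, ea24, eb24, hw0, hw2, hw4]
          · obtain ⟨ea23, eb23⟩ := e
            rcases eq_or_lt_of_le nn24 with z | hp24
            · have z24 : T.a 2 4 = 0 := z.symm
              rcases eq_or_lt_of_le nn34 with z | hp34
              · have z34 : T.a 3 4 = 0 := z.symm
                exfalso
                obtain ⟨i, hi, j, hj, hij⟩ := T.connected ({0, 1, 4} : Finset (Fin 5)) (by decide) (by decide)
                fin_cases i <;> fin_cases j <;> first | exact absurd hi (by decide) | exact hj (by decide) | (apply hij; first | exact z02 | exact z03 | exact z12 | exact z13 | exact s42.trans z24 | exact s43.trans z34)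
              · rcases Groth.Agent.Helper3.NumType.edge_casesT T h2 (by norm_num) (p := 3) (q := 4) (by decide) hp34 with e | e | e | e | e
                · obtain ⟨ea34, eb34⟩ := e
                  exfalso
                  have t := Groth.Agent.Helper3.NumType.QT5 T h2 0 0 1 2 1 (by norm_num) (by norm_num)
                  linarith only [t, ea23, eb23, z24, ea34, eb34, hw2, hw3, hw4]
                · obtain ⟨ea34, eb34⟩ := e
                  exfalso
                  have t := Groth.Agent.Helper3.NumType.QT5 T h2 1 0 0 2 2 (by norm_num) (by norm_num)
                  linarith only [t, z03, ea04, eb04, ea34, eb34, hw0, hw3, hw4]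
                · obtain ⟨ea34, eb34⟩ := e
                  exfalso
                  have t := Groth.Agent.Helper3.NumType.QT5 T h2 1 0 0 1 2 (by norm_num) (by norm_num)
                  linarith only [t, z03, ea04, eb04, ea34, eb34, hw0, hw3, hw4]
                · obtain ⟨ea34, eb34⟩ := e
                  exfalso
                  have t := Groth.Agent.Helper3.NumType.QT5 T h2 1 0 0 2 2 (by norm_num) (by norm_num)
                  linarith only [t, z03, ea04, eb04, ea34, eb34, hw0, hw3, hw4]
                · obtain ⟨ea34, eb34⟩ := e
                  exfalso
                  have t := Groth.Agent.Helper3.NumType.QT5 T h2 1 0 0 1 2 (by norm_num) (by norm_num)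
                  linarith only [t, z03, ea04, eb04, ea34, eb34, hw0, hw3, hw4]
            · rcases Groth.Agent.Helper3.NumType.edge_casesT T h2 (by norm_num) (p := 2) (q := 4) (by decide) hp24 with e | e | e | e | e
              · obtain ⟨ea24, eb24⟩ := e
                exfalso
                have t := Groth.Agent.Helper3.NumType.QT5 T h2 0 0 2 3 1 (by norm_num) (by norm_num)
                linarith only [t, ea23, eb23, ea24, eb24, nn34, hw2, hw3, hw4]
              · obtain ⟨ea24, eb24⟩ := e
                exfalso
                have t := Groth.Agent.Helper3.NumType.QT5 T h2 1 0 2 0 2 (by norm_num) (by norm_num)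
                linarith only [t, z02, ea04, eb04, ea24, eb24, hw0, hw2, hw4]
              · obtain ⟨ea24, eb24⟩ := e
                exfalso
                have t := Groth.Agent.Helper3.NumType.QT5 T h2 1 0 1 0 2 (by norm_num) (by norm_num)
                linarith only [t, z02, ea04, eb04, ea24, eb24, hw0, hw2, hw4]
              · obtain ⟨ea24, eb24⟩ := e
                exfalso
                have t := Groth.Agent.Helper3.NumType.QT5 T h2 1 0 2 0 2 (by norm_num) (by norm_num)
                linarith only [t, z02, ea04, eb04, ea24, eb24, hw0, hw2, hw4]
              · obtain ⟨ea24, eb24⟩ := e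
                exfalso
                have t := Groth.Agent.Helper3.NumType.QT5 T h2 1 0 1 0 2 (by norm_num) (by norm_num)
                linarith only [t, z02, ea04, eb04, ea24, eb24, hw0, hw2, hw4]
      · obtain ⟨ea14, eb14⟩ := e
        exfalso
        have t := Groth.Agent.Helper3.NumType.QT5 T h2 1 2 0 0 2 (by norm_num) (by norm_num)
        linarith only [t, z01, ea04, eb04, ea14, eb14, hw0, hw1, hw4]
      · obtain ⟨ea14, eb14⟩ := e
        exfalso
        have t := Groth.Agent.Helper3.NumType.QT5 T h2 1 1 0 0 2 (by norm_num) (by norm_num)
        linarith only [t, z01, ea04, eb04, ea14, eb14, hw0, hw1, hw4]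
      · obtain ⟨ea14, eb14⟩ := e
        exfalso
        have t := Groth.Agent.Helper3.NumType.QT5 T h2 1 2 0 0 2 (by norm_num) (by norm_num)
        linarith only [t, z01, ea04, eb04, ea14, eb14, hw0, hw1, hw4]
      · obtain ⟨ea14, eb14⟩ := e
        exfalso
        have t := Groth.Agent.Helper3.NumType.QT5 T h2 1 1 0 0 2 (by norm_num) (by norm_num)
        linarith only [t, z01, ea04, eb04, ea14, eb14, hw0, hw1, hw4]
  · rcases Groth.Agent.Helper3.NumType.edge_casesT T h2 (by norm_num) (p := 1) (q := 3) (by decide) hp13 with e | e | e | e | e
    · obtain ⟨ea13, eb13⟩ := e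
      rcases eq_or_lt_of_le nn14 with z | hp14
      · have z14 : T.a 1 4 = 0 := z.symm
        rcases eq_or_lt_of_le nn23 with z | hp23
        · have z23 : T.a 2 3 = 0 := z.symm
          rcases eq_or_lt_of_le nn24 with z | hp24
          · have z24 : T.a 2 4 = 0 := z.symm
            exfalso
            obtain ⟨i, hi, j, hj, hij⟩ := T.connected ({2} : Finset (Fin 5)) (by decide) (by decide)
            fin_cases i <;> fin_cases j <;> first | exact absurd hi (by decide) | exact hj (by decide) | (apply hij; first | exact s20.trans z02 | exact s21.trans z12 | exact z23 | exact z24)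
          · rcases Groth.Agent.Helper3.NumType.edge_casesT T h2 (by norm_num) (p := 2) (q := 4) (by decide) hp24 with e | e | e | e | e
            · obtain ⟨ea24, eb24⟩ := e
              rcases eq_or_lt_of_le nn34 with z | hp34
              · have z34 : T.a 3 4 = 0 := z.symm
                exfalso
                obtain ⟨i, hi, j, hj, hij⟩ := T.connected ({0, 2, 4} : Finset (Fin 5)) (by decide) (by decide)
                fin_cases i <;> fin_cases j <;> first | exact absurd hi (by decide) | exact hj (by decide) | (apply hij; first | exact z01 | exact z03 | exact s21.trans z12 | exact z23 | exact s41.trans z14 | exact s43.trans z34)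
              · rcases Groth.Agent.Helper3.NumType.edge_casesT T h2 (by norm_num) (p := 3) (q := 4) (by decide) hp34 with e | e | e | e | e
                · obtain ⟨ea34, eb34⟩ := e
                  exfalso
                  have t := Groth.Agent.Helper3.NumType.QT5 T h2 1 0 1 1 2 (by norm_num) (by norm_num)
                  linarith only [t, z02, z03, ea04, eb04, z23, ea24, eb24, ea34, eb34, hw0, hw2, hw3, hw4]
                · obtain ⟨ea34, eb34⟩ := e
                  exfalso
                  have t := Groth.Agent.Helper3.NumType.QT5 T h2 1 0 0 2 2 (by norm_num) (by norm_num)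
                  linarith only [t, z03, ea04, eb04, ea34, eb34, hw0, hw3, hw4]
                · obtain ⟨ea34, eb34⟩ := e
                  exfalso
                  have t := Groth.Agent.Helper3.NumType.QT5 T h2 1 0 0 1 2 (by norm_num) (by norm_num)
                  linarith only [t, z03, ea04, eb04, ea34, eb34, hw0, hw3, hw4]
                · obtain ⟨ea34, eb34⟩ := e
                  exfalso
                  have t := Groth.Agent.Helper3.NumType.QT5 T h2 1 0 0 2 2 (by norm_num) (by norm_num)
                  linarith only [t, z03, ea04, eb04, ea34, eb34, hw0, hw3, hw4]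
                · obtain ⟨ea34, eb34⟩ := e
                  exfalso
                  have t := Groth.Agent.Helper3.NumType.QT5 T h2 1 0 0 1 2 (by norm_num) (by norm_num)
                  linarith only [t, z03, ea04, eb04, ea34, eb34, hw0, hw3, hw4]
            · obtain ⟨ea24, eb24⟩ := e
              exfalso
              have t := Groth.Agent.Helper3.NumType.QT5 T h2 1 0 2 0 2 (by norm_num) (by norm_num)
              linarith only [t, z02, ea04, eb04, ea24, eb24, hw0, hw2, hw4]
            · obtain ⟨ea24, eb24⟩ := e
              exfalso
              have t := Groth.Agent.Helper3.NumType.QT5 T h2 1 0 1 0 2 (by norm_num) (by norm_num)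
              linarith only [t, z02, ea04, eb04, ea24, eb24, hw0, hw2, hw4]
            · obtain ⟨ea24, eb24⟩ := e
              exfalso
              have t := Groth.Agent.Helper3.NumType.QT5 T h2 1 0 2 0 2 (by norm_num) (by norm_num)
              linarith only [t, z02, ea04, eb04, ea24, eb24, hw0, hw2, hw4]
            · obtain ⟨ea24, eb24⟩ := e
              exfalso
              have t := Groth.Agent.Helper3.NumType.QT5 T h2 1 0 1 0 2 (by norm_num) (by norm_num)
              linarith only [t, z02, ea04, eb04, ea24, eb24, hw0, hw2, hw4]
        · rcases Groth.Agent.Helper3.NumType.edge_casesT T h2 (by norm_num) (p := 2) (q := 3) (by decide) hp23 with e | e | e | e | e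
          · obtain ⟨ea23, eb23⟩ := e
            rcases eq_or_lt_of_le nn24 with z | hp24
            · have z24 : T.a 2 4 = 0 := z.symm
              rcases eq_or_lt_of_le nn34 with z | hp34
              · have z34 : T.a 3 4 = 0 := z.symm
                exfalso
                obtain ⟨i, hi, j, hj, hij⟩ := T.connected ({0, 4} : Finset (Fin 5)) (by decide) (by decide)
                fin_cases i <;> fin_cases j <;> first | exact absurd hi (by decide) | exact hj (by decide) | (apply hij; first | exact z01 | exact z02 | exact z03 | exact s41.trans z14 | exact s42.trans z24 | exact s43.trans z34)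
              · rcases Groth.Agent.Helper3.NumType.edge_casesT T h2 (by norm_num) (p := 3) (q := 4) (by decide) hp34 with e | e | e | e | e
                · obtain ⟨ea34, eb34⟩ := e
                  have hr0 : (-2) * T.m 0 + (1) * T.m 4 = 0 := by
                    have f4 : T.a 0 4 = T.w 0 := by linarith only [ea04, eb04]
                    have h : T.w 0 * ((-2) * T.m 0 + (1) * T.m 4) = 0 := by
                      rw [z01, z02, z03, f4] at r0
                      linarith only [r0]
                    rcases mul_eq_zero.mp h with h' | h'
                    · exfalso; linarith only [h', hw0]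
                    · exact h'
                  have hr1 : (-2) * T.m 1 + (1) * T.m 3 = 0 := by
                    have f3 : T.a 1 3 = T.w 1 := by linarith only [ea13, eb13]
                    have h : T.w 1 * ((-2) * T.m 1 + (1) * T.m 3) = 0 := by
                      rw [z01, z12, f3, z14] at r1
                      linarith only [r1]
                    rcases mul_eq_zero.mp h with h' | h'
                    · exfalso; linarith only [h', hw1]
                    · exact h'
                  have hr2 : (-2) * T.m 2 + (1) * T.m 3 = 0 := by
                    have f3 : T.a 2 3 = T.w 2 := by linarith only [ea23, eb23]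
                    have h : T.w 2 * ((-2) * T.m 2 + (1) * T.m 3) = 0 := by
                      rw [z02, z12, f3, z24] at r2
                      linarith only [r2]
                    rcases mul_eq_zero.mp h with h' | h'
                    · exfalso; linarith only [h', hw2]
                    · exact h'
                  have hr3 : (-2) * T.m 3 + (1) * T.m 1 + (1) * T.m 2 + (1) * T.m 4 = 0 := by
                    have f1 : T.a 1 3 = T.w 3 := by linarith only [ea13, eb13]
                    have f2 : T.a 2 3 = T.w 3 := by linarith only [ea23, eb23]
                    have f4 : T.a 3 4 = T.w 3 := by linarith only [ea34, eb34]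
                    have h : T.w 3 * ((-2) * T.m 3 + (1) * T.m 1 + (1) * T.m 2 + (1) * T.m 4) = 0 := by
                      rw [z03, f1, f2, f4] at r3
                      linarith only [r3]
                    rcases mul_eq_zero.mp h with h' | h'
                    · exfalso; linarith only [h', hw3]
                    · exact h'
                  have hr4 : (-2) * T.m 4 + (2) * T.m 0 + (1) * T.m 3 = 0 := by
                    have f0 : T.a 0 4 = 2 * T.w 4 := by linarith only [ea04, eb04]
                    have f3 : T.a 3 4 = T.w 4 := by linarith only [ea34, eb34]
                    have h : T.w 4 * ((-2) * T.m 4 + (2) * T.m 0 + (1) * T.m 3) = 0 := by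
                      rw [f0, z14, z24, f3] at r4
                      linarith only [r4]
                    rcases mul_eq_zero.mp h with h' | h'
                    · exfalso; linarith only [h', hw4]
                    · exact h'
                  have w0 : T.w 0 = 2 * T.w 1 := by linarith only [ea04, ea13, ea23, ea34]
                  have w2 : T.w 2 = T.w 1 := by linarith only [ea04, ea13, ea23, ea34]
                  have w3 : T.w 3 = T.w 1 := by linarith only [ea04, ea13, ea23, ea34]
                  have w4 : T.w 4 = T.w 1 := by linarith only [ea04, ea13, ea23, ea34]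
                  have a04 : T.a 0 4 = 2 * T.w 1 := by linarith only [ea04, eb04, ea13, eb13, ea23, eb23, ea34, eb34]
                  have a13 : T.a 1 3 = T.w 1 := by linarith only [ea04, eb04, ea13, eb13, ea23, eb23, ea34, eb34]
                  have a23 : T.a 2 3 = T.w 1 := by linarith only [ea04, eb04, ea13, eb13, ea23, eb23, ea34, eb34]
                  have a34 : T.a 3 4 = T.w 1 := by linarith only [ea04, eb04, ea13, eb13, ea23, eb23, ea34, eb34]
                  have m1 : T.m 1 = T.m 0 := by linarith only [hr0, hr1, hr2, hr3, hr4]
                  have m2 : T.m 2 = T.m 0 := by linarith only [hr0, hr1, hr2, hr3, hr4]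
                  have m3 : T.m 3 = 2 * T.m 0 := by linarith only [hr0, hr1, hr2, hr3, hr4]
                  have m4 : T.m 4 = 2 * T.m 0 := by linarith only [hr0, hr1, hr2, hr3, hr4]
                  refine ⟨Equiv.ofBijective ![0, 4, 3, 1, 2] (by decide), T.m 0, T.w 4, ?_⟩
                  simp only [Equiv.ofBijective_apply, Matrix.cons_val_zero, Matrix.cons_val_one, Matrix.cons_val]
                  refine Or.inr (Or.inr (Or.inr (Or.inr (Or.inr (Or.inr (Or.inr (Or.inl ⟨?_, ?_, ?_, ?_, ?_, ?_, ?_, ?_, ?_, ?_, ?_, ?_, ?_, ?_, ?_, ?_, ?_, ?_, ?_, ?_, ?_, ?_, ?_, ?_, ?_⟩)))))))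
                  all_goals first | rfl | trivial | linarith only [w0, w2, w3, w4, z01, z02, z03, a04, z12, a13, z14, a23, z24, a34, m1, m2, m3, m4, d0, d1, d2, d3, d4, s10, s20, s30, s40, s21, s31, s41, s32, s42, s43]
                · obtain ⟨ea34, eb34⟩ := e
                  exfalso
                  have t := Groth.Agent.Helper3.NumType.QT5 T h2 1 0 0 2 2 (by norm_num) (by norm_num)
                  linarith only [t, z03, ea04, eb04, ea34, eb34, hw0, hw3, hw4]
                · obtain ⟨ea34, eb34⟩ := e
                  exfalso
                  have t := Groth.Agent.Helper3.NumType.QT5 T h2 1 0 0 1 2 (by norm_num) (by norm_num)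
                  linarith only [t, z03, ea04, eb04, ea34, eb34, hw0, hw3, hw4]
                · obtain ⟨ea34, eb34⟩ := e
                  exfalso
                  have t := Groth.Agent.Helper3.NumType.QT5 T h2 1 0 0 2 2 (by norm_num) (by norm_num)
                  linarith only [t, z03, ea04, eb04, ea34, eb34, hw0, hw3, hw4]
                · obtain ⟨ea34, eb34⟩ := e
                  exfalso
                  have t := Groth.Agent.Helper3.NumType.QT5 T h2 1 0 0 1 2 (by norm_num) (by norm_num)
                  linarith only [t, z03, ea04, eb04, ea34, eb34, hw0, hw3, hw4]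
            · rcases Groth.Agent.Helper3.NumType.edge_casesT T h2 (by norm_num) (p := 2) (q := 4) (by decide) hp24 with e | e | e | e | e
              · obtain ⟨ea24, eb24⟩ := e
                rcases eq_or_lt_of_le nn34 with z | hp34
                · have z34 : T.a 3 4 = 0 := z.symm
                  have hr0 : (-2) * T.m 0 + (1) * T.m 4 = 0 := by
                    have f4 : T.a 0 4 = T.w 0 := by linarith only [ea04, eb04]
                    have h : T.w 0 * ((-2) * T.m 0 + (1) * T.m 4) = 0 := by
                      rw [z01, z02, z03, f4] at r0
                      linarith only [r0]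
                    rcases mul_eq_zero.mp h with h' | h'
                    · exfalso; linarith only [h', hw0]
                    · exact h'
                  have hr1 : (-2) * T.m 1 + (1) * T.m 3 = 0 := by
                    have f3 : T.a 1 3 = T.w 1 := by linarith only [ea13, eb13]
                    have h : T.w 1 * ((-2) * T.m 1 + (1) * T.m 3) = 0 := by
                      rw [z01, z12, f3, z14] at r1
                      linarith only [r1]
                    rcases mul_eq_zero.mp h with h' | h'
                    · exfalso; linarith only [h', hw1]
                    · exact h'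
                  have hr2 : (-2) * T.m 2 + (1) * T.m 3 + (1) * T.m 4 = 0 := by
                    have f3 : T.a 2 3 = T.w 2 := by linarith only [ea23, eb23]
                    have f4 : T.a 2 4 = T.w 2 := by linarith only [ea24, eb24]
                    have h : T.w 2 * ((-2) * T.m 2 + (1) * T.m 3 + (1) * T.m 4) = 0 := by
                      rw [z02, z12, f3, f4] at r2
                      linarith only [r2]
                    rcases mul_eq_zero.mp h with h' | h'
                    · exfalso; linarith only [h', hw2]
                    · exact h'
                  have hr3 : (-2) * T.m 3 + (1) * T.m 1 + (1) * T.m 2 = 0 := by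
                    have f1 : T.a 1 3 = T.w 3 := by linarith only [ea13, eb13]
                    have f2 : T.a 2 3 = T.w 3 := by linarith only [ea23, eb23]
                    have h : T.w 3 * ((-2) * T.m 3 + (1) * T.m 1 + (1) * T.m 2) = 0 := by
                      rw [z03, f1, f2, z34] at r3
                      linarith only [r3]
                    rcases mul_eq_zero.mp h with h' | h'
                    · exfalso; linarith only [h', hw3]
                    · exact h'
                  have hr4 : (-2) * T.m 4 + (2) * T.m 0 + (1) * T.m 2 = 0 := by
                    have f0 : T.a 0 4 = 2 * T.w 4 := by linarith only [ea04, eb04]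
                    have f2 : T.a 2 4 = T.w 4 := by linarith only [ea24, eb24]
                    have h : T.w 4 * ((-2) * T.m 4 + (2) * T.m 0 + (1) * T.m 2) = 0 := by
                      rw [f0, z14, f2, z34] at r4
                      linarith only [r4]
                    rcases mul_eq_zero.mp h with h' | h'
                    · exfalso; linarith only [h', hw4]
                    · exact h'
                  exfalso
                  linarith only [hr0, hr1, hr2, hr3, hr4, hm0, hm1, hm2, hm3, hm4]
                · rcases Groth.Agent.Helper3.NumType.edge_casesT T h2 (by norm_num) (p := 3) (q := 4) (by decide) hp34 with e | e | e | e | e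
                  · obtain ⟨ea34, eb34⟩ := e
                    exfalso
                    have t := Groth.Agent.Helper3.NumType.QT5 T h2 0 0 1 1 1 (by norm_num) (by norm_num)
                    linarith only [t, ea23, eb23, ea24, eb24, ea34, eb34, hw2, hw3, hw4]
                  · obtain ⟨ea34, eb34⟩ := e
                    exfalso
                    have t := Groth.Agent.Helper3.NumType.QT5 T h2 1 0 0 2 2 (by norm_num) (by norm_num)
                    linarith only [t, z03, ea04, eb04, ea34, eb34, hw0, hw3, hw4]
                  · obtain ⟨ea34, eb34⟩ := e
                    exfalso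
                    have t := Groth.Agent.Helper3.NumType.QT5 T h2 1 0 0 1 2 (by norm_num) (by norm_num)
                    linarith only [t, z03, ea04, eb04, ea34, eb34, hw0, hw3, hw4]
                  · obtain ⟨ea34, eb34⟩ := e
                    exfalso
                    have t := Groth.Agent.Helper3.NumType.QT5 T h2 1 0 0 2 2 (by norm_num) (by norm_num)
                    linarith only [t, z03, ea04, eb04, ea34, eb34, hw0, hw3, hw4]
                  · obtain ⟨ea34, eb34⟩ := e
                    exfalso
                    have t := Groth.Agent.Helper3.NumType.QT5 T h2 1 0 0 1 2 (by norm_num) (by norm_num)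
                    linarith only [t, z03, ea04, eb04, ea34, eb34, hw0, hw3, hw4]
              · obtain ⟨ea24, eb24⟩ := e
                exfalso
                have t := Groth.Agent.Helper3.NumType.QT5 T h2 1 0 2 0 2 (by norm_num) (by norm_num)
                linarith only [t, z02, ea04, eb04, ea24, eb24, hw0, hw2, hw4]
              · obtain ⟨ea24, eb24⟩ := e
                exfalso
                have t := Groth.Agent.Helper3.NumType.QT5 T h2 1 0 1 0 2 (by norm_num) (by norm_num)
                linarith only [t, z02, ea04, eb04, ea24, eb24, hw0, hw2, hw4]
              · obtain ⟨ea24, eb24⟩ := e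
                exfalso
                have t := Groth.Agent.Helper3.NumType.QT5 T h2 1 0 2 0 2 (by norm_num) (by norm_num)
                linarith only [t, z02, ea04, eb04, ea24, eb24, hw0, hw2, hw4]
              · obtain ⟨ea24, eb24⟩ := e
                exfalso
                have t := Groth.Agent.Helper3.NumType.QT5 T h2 1 0 1 0 2 (by norm_num) (by norm_num)
                linarith only [t, z02, ea04, eb04, ea24, eb24, hw0, hw2, hw4]
          · obtain ⟨ea23, eb23⟩ := e
            rcases eq_or_lt_of_le nn24 with z | hp24
            · have z24 : T.a 2 4 = 0 := z.symm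
              rcases eq_or_lt_of_le nn34 with z | hp34
              · have z34 : T.a 3 4 = 0 := z.symm
                exfalso
                obtain ⟨i, hi, j, hj, hij⟩ := T.connected ({0, 4} : Finset (Fin 5)) (by decide) (by decide)
                fin_cases i <;> fin_cases j <;> first | exact absurd hi (by decide) | exact hj (by decide) | (apply hij; first | exact z01 | exact z02 | exact z03 | exact s41.trans z14 | exact s42.trans z24 | exact s43.trans z34)
              · rcases Groth.Agent.Helper3.NumType.edge_casesT T h2 (by norm_num) (p := 3) (q := 4) (by decide) hp34 with e | e | e | e | e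
                · obtain ⟨ea34, eb34⟩ := e
                  exfalso
                  have t := Groth.Agent.Helper3.NumType.QT5 T h2 1 0 2 2 2 (by norm_num) (by norm_num)
                  linarith only [t, z02, z03, ea04, eb04, ea23, eb23, z24, ea34, eb34, hw0, hw2, hw3, hw4]
                · obtain ⟨ea34, eb34⟩ := e
                  exfalso
                  have t := Groth.Agent.Helper3.NumType.QT5 T h2 1 0 0 2 2 (by norm_num) (by norm_num)
                  linarith only [t, z03, ea04, eb04, ea34, eb34, hw0, hw3, hw4]
                · obtain ⟨ea34, eb34⟩ := e
                  exfalso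
                  have t := Groth.Agent.Helper3.NumType.QT5 T h2 1 0 0 1 2 (by norm_num) (by norm_num)
                  linarith only [t, z03, ea04, eb04, ea34, eb34, hw0, hw3, hw4]
                · obtain ⟨ea34, eb34⟩ := e
                  exfalso
                  have t := Groth.Agent.Helper3.NumType.QT5 T h2 1 0 0 2 2 (by norm_num) (by norm_num)
                  linarith only [t, z03, ea04, eb04, ea34, eb34, hw0, hw3, hw4]
                · obtain ⟨ea34, eb34⟩ := e
                  exfalso
                  have t := Groth.Agent.Helper3.NumType.QT5 T h2 1 0 0 1 2 (by norm_num) (by norm_num)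
                  linarith only [t, z03, ea04, eb04, ea34, eb34, hw0, hw3, hw4]
            · rcases Groth.Agent.Helper3.NumType.edge_casesT T h2 (by norm_num) (p := 2) (q := 4) (by decide) hp24 with e | e | e | e | e
              · obtain ⟨ea24, eb24⟩ := e
                exfalso
                have t := Groth.Agent.Helper3.NumType.QT5 T h2 1 0 2 1 2 (by norm_num) (by norm_num)
                linarith only [t, z02, z03, ea04, eb04, ea23, eb23, ea24, eb24, nn34, hw0, hw2, hw3, hw4]
              · obtain ⟨ea24, eb24⟩ := e
                exfalso
                have t := Groth.Agent.Helper3.NumType.QT5 T h2 1 0 2 0 2 (by norm_num) (by norm_num)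
                linarith only [t, z02, ea04, eb04, ea24, eb24, hw0, hw2, hw4]
              · obtain ⟨ea24, eb24⟩ := e
                exfalso
                have t := Groth.Agent.Helper3.NumType.QT5 T h2 1 0 1 0 2 (by norm_num) (by norm_num)
                linarith only [t, z02, ea04, eb04, ea24, eb24, hw0, hw2, hw4]
              · obtain ⟨ea24, eb24⟩ := e
                exfalso
                have t := Groth.Agent.Helper3.NumType.QT5 T h2 1 0 2 0 2 (by norm_num) (by norm_num)
                linarith only [t, z02, ea04, eb04, ea24, eb24, hw0, hw2, hw4]
              · obtain ⟨ea24, eb24⟩ := e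
                exfalso
                have t := Groth.Agent.Helper3.NumType.QT5 T h2 1 0 1 0 2 (by norm_num) (by norm_num)
                linarith only [t, z02, ea04, eb04, ea24, eb24, hw0, hw2, hw4]
          · obtain ⟨ea23, eb23⟩ := e
            rcases eq_or_lt_of_le nn24 with z | hp24
            · have z24 : T.a 2 4 = 0 := z.symm
              rcases eq_or_lt_of_le nn34 with z | hp34
              · have z34 : T.a 3 4 = 0 := z.symm
                exfalso
                obtain ⟨i, hi, j, hj, hij⟩ := T.connected ({0, 4} : Finset (Fin 5)) (by decide) (by decide)
                fin_cases i <;> fin_cases j <;> first | exact absurd hi (by decide) | exact hj (by decide) | (apply hij; first | exact z01 | exact z02 | exact z03 | exact s41.trans z14 | exact s42.trans z24 | exact s43.trans z34)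
              · rcases Groth.Agent.Helper3.NumType.edge_casesT T h2 (by norm_num) (p := 3) (q := 4) (by decide) hp34 with e | e | e | e | e
                · obtain ⟨ea34, eb34⟩ := e
                  exfalso
                  have t := Groth.Agent.Helper3.NumType.QT5 T h2 1 0 1 2 2 (by norm_num) (by norm_num)
                  linarith only [t, z02, z03, ea04, eb04, ea23, eb23, z24, ea34, eb34, hw0, hw2, hw3, hw4]
                · obtain ⟨ea34, eb34⟩ := e
                  exfalso
                  have t := Groth.Agent.Helper3.NumType.QT5 T h2 1 0 0 2 2 (by norm_num) (by norm_num)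
                  linarith only [t, z03, ea04, eb04, ea34, eb34, hw0, hw3, hw4]
                · obtain ⟨ea34, eb34⟩ := e
                  exfalso
                  have t := Groth.Agent.Helper3.NumType.QT5 T h2 1 0 0 1 2 (by norm_num) (by norm_num)
                  linarith only [t, z03, ea04, eb04, ea34, eb34, hw0, hw3, hw4]
                · obtain ⟨ea34, eb34⟩ := e
                  exfalso
                  have t := Groth.Agent.Helper3.NumType.QT5 T h2 1 0 0 2 2 (by norm_num) (by norm_num)
                  linarith only [t, z03, ea04, eb04, ea34, eb34, hw0, hw3, hw4]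
                · obtain ⟨ea34, eb34⟩ := e
                  exfalso
                  have t := Groth.Agent.Helper3.NumType.QT5 T h2 1 0 0 1 2 (by norm_num) (by norm_num)
                  linarith only [t, z03, ea04, eb04, ea34, eb34, hw0, hw3, hw4]
            · rcases Groth.Agent.Helper3.NumType.edge_casesT T h2 (by norm_num) (p := 2) (q := 4) (by decide) hp24 with e | e | e | e | e
              · obtain ⟨ea24, eb24⟩ := e
                exfalso
                have t := Groth.Agent.Helper3.NumType.QT5 T h2 1 0 2 2 2 (by norm_num) (by norm_num)
                linarith only [t, z02, z03, ea04, eb04, ea23, eb23, ea24, eb24, nn34, hw0, hw2, hw3, hw4]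
              · obtain ⟨ea24, eb24⟩ := e
                exfalso
                have t := Groth.Agent.Helper3.NumType.QT5 T h2 1 0 2 0 2 (by norm_num) (by norm_num)
                linarith only [t, z02, ea04, eb04, ea24, eb24, hw0, hw2, hw4]
              · obtain ⟨ea24, eb24⟩ := e
                exfalso
                have t := Groth.Agent.Helper3.NumType.QT5 T h2 1 0 1 0 2 (by norm_num) (by norm_num)
                linarith only [t, z02, ea04, eb04, ea24, eb24, hw0, hw2, hw4]
              · obtain ⟨ea24, eb24⟩ := e
                exfalso
                have t := Groth.Agent.Helper3.NumType.QT5 T h2 1 0 2 0 2 (by norm_num) (by norm_num)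
                linarith only [t, z02, ea04, eb04, ea24, eb24, hw0, hw2, hw4]
              · obtain ⟨ea24, eb24⟩ := e
                exfalso
                have t := Groth.Agent.Helper3.NumType.QT5 T h2 1 0 1 0 2 (by norm_num) (by norm_num)
                linarith only [t, z02, ea04, eb04, ea24, eb24, hw0, hw2, hw4]
          · obtain ⟨ea23, eb23⟩ := e
            exfalso
            have t := Groth.Agent.Helper3.NumType.QT5 T h2 0 1 3 2 0 (by norm_num) (by norm_num)
            linarith only [t, z12, ea13, eb13, ea23, eb23, hw1, hw2, hw3]
          · obtain ⟨ea23, eb23⟩ := e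
            exfalso
            have t := Groth.Agent.Helper3.NumType.QT5 T h2 0 1 1 2 0 (by norm_num) (by norm_num)
            linarith only [t, z12, ea13, eb13, ea23, eb23, hw1, hw2, hw3]
      · rcases Groth.Agent.Helper3.NumType.edge_casesT T h2 (by norm_num) (p := 1) (q := 4) (by decide) hp14 with e | e | e | e | e
        · obtain ⟨ea14, eb14⟩ := e
          rcases eq_or_lt_of_le nn23 with z | hp23
          · have z23 : T.a 2 3 = 0 := z.symm
            rcases eq_or_lt_of_le nn24 with z | hp24
            · have z24 : T.a 2 4 = 0 := z.symm
              exfalso
              obtain ⟨i, hi, j, hj, hij⟩ := T.connected ({0, 1, 3, 4} : Finset (Fin 5)) (by decide) (by decide)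
              fin_cases i <;> fin_cases j <;> first | exact absurd hi (by decide) | exact hj (by decide) | (apply hij; first | exact z02 | exact z12 | exact s32.trans z23 | exact s42.trans z24)
            · rcases Groth.Agent.Helper3.NumType.edge_casesT T h2 (by norm_num) (p := 2) (q := 4) (by decide) hp24 with e | e | e | e | e
              · obtain ⟨ea24, eb24⟩ := e
                exfalso
                have t := Groth.Agent.Helper3.NumType.QT5 T h2 1 1 1 0 2 (by norm_num) (by norm_num)
                linarith only [t, z01, z02, ea04, eb04, z12, ea14, eb14, ea24, eb24, hw0, hw1, hw2, hw4]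
              · obtain ⟨ea24, eb24⟩ := e
                exfalso
                have t := Groth.Agent.Helper3.NumType.QT5 T h2 1 0 2 0 2 (by norm_num) (by norm_num)
                linarith only [t, z02, ea04, eb04, ea24, eb24, hw0, hw2, hw4]
              · obtain ⟨ea24, eb24⟩ := e
                exfalso
                have t := Groth.Agent.Helper3.NumType.QT5 T h2 1 0 1 0 2 (by norm_num) (by norm_num)
                linarith only [t, z02, ea04, eb04, ea24, eb24, hw0, hw2, hw4]
              · obtain ⟨ea24, eb24⟩ := e
                exfalso
                have t := Groth.Agent.Helper3.NumType.QT5 T h2 1 0 2 0 2 (by norm_num) (by norm_num)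
                linarith only [t, z02, ea04, eb04, ea24, eb24, hw0, hw2, hw4]
              · obtain ⟨ea24, eb24⟩ := e
                exfalso
                have t := Groth.Agent.Helper3.NumType.QT5 T h2 1 0 1 0 2 (by norm_num) (by norm_num)
                linarith only [t, z02, ea04, eb04, ea24, eb24, hw0, hw2, hw4]
          · rcases Groth.Agent.Helper3.NumType.edge_casesT T h2 (by norm_num) (p := 2) (q := 3) (by decide) hp23 with e | e | e | e | e
            · obtain ⟨ea23, eb23⟩ := e
              rcases eq_or_lt_of_le nn24 with z | hp24
              · have z24 : T.a 2 4 = 0 := z.symm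
                rcases eq_or_lt_of_le nn34 with z | hp34
                · have z34 : T.a 3 4 = 0 := z.symm
                  have hr0 : (-2) * T.m 0 + (1) * T.m 4 = 0 := by
                    have f4 : T.a 0 4 = T.w 0 := by linarith only [ea04, eb04]
                    have h : T.w 0 * ((-2) * T.m 0 + (1) * T.m 4) = 0 := by
                      rw [z01, z02, z03, f4] at r0
                      linarith only [r0]
                    rcases mul_eq_zero.mp h with h' | h'
                    · exfalso; linarith only [h', hw0]
                    · exact h'
                  have hr1 : (-2) * T.m 1 + (1) * T.m 3 + (1) * T.m 4 = 0 := by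
                    have f3 : T.a 1 3 = T.w 1 := by linarith only [ea13, eb13]
                    have f4 : T.a 1 4 = T.w 1 := by linarith only [ea14, eb14]
                    have h : T.w 1 * ((-2) * T.m 1 + (1) * T.m 3 + (1) * T.m 4) = 0 := by
                      rw [z01, z12, f3, f4] at r1
                      linarith only [r1]
                    rcases mul_eq_zero.mp h with h' | h'
                    · exfalso; linarith only [h', hw1]
                    · exact h'
                  have hr2 : (-2) * T.m 2 + (1) * T.m 3 = 0 := by
                    have f3 : T.a 2 3 = T.w 2 := by linarith only [ea23, eb23]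
                    have h : T.w 2 * ((-2) * T.m 2 + (1) * T.m 3) = 0 := by
                      rw [z02, z12, f3, z24] at r2
                      linarith only [r2]
                    rcases mul_eq_zero.mp h with h' | h'
                    · exfalso; linarith only [h', hw2]
                    · exact h'
                  have hr3 : (-2) * T.m 3 + (1) * T.m 1 + (1) * T.m 2 = 0 := by
                    have f1 : T.a 1 3 = T.w 3 := by linarith only [ea13, eb13]
                    have f2 : T.a 2 3 = T.w 3 := by linarith only [ea23, eb23]
                    have h : T.w 3 * ((-2) * T.m 3 + (1) * T.m 1 + (1) * T.m 2) = 0 := by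
                      rw [z03, f1, f2, z34] at r3
                      linarith only [r3]
                    rcases mul_eq_zero.mp h with h' | h'
                    · exfalso; linarith only [h', hw3]
                    · exact h'
                  have hr4 : (-2) * T.m 4 + (2) * T.m 0 + (1) * T.m 1 = 0 := by
                    have f0 : T.a 0 4 = 2 * T.w 4 := by linarith only [ea04, eb04]
                    have f1 : T.a 1 4 = T.w 4 := by linarith only [ea14, eb14]
                    have h : T.w 4 * ((-2) * T.m 4 + (2) * T.m 0 + (1) * T.m 1) = 0 := by
                      rw [f0, f1, z24, z34] at r4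
                      linarith only [r4]
                    rcases mul_eq_zero.mp h with h' | h'
                    · exfalso; linarith only [h', hw4]
                    · exact h'
                  exfalso
                  linarith only [hr0, hr1, hr2, hr3, hr4, hm0, hm1, hm2, hm3, hm4]
                · rcases Groth.Agent.Helper3.NumType.edge_casesT T h2 (by norm_num) (p := 3) (q := 4) (by decide) hp34 with e | e | e | e | e
                  · obtain ⟨ea34, eb34⟩ := e
                    exfalso
                    have t := Groth.Agent.Helper3.NumType.QT5 T h2 0 1 0 1 1 (by norm_num) (by norm_num)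
                    linarith only [t, ea13, eb13, ea14, eb14, ea34, eb34, hw1, hw3, hw4]
                  · obtain ⟨ea34, eb34⟩ := e
                    exfalso
                    have t := Groth.Agent.Helper3.NumType.QT5 T h2 1 0 0 2 2 (by norm_num) (by norm_num)
                    linarith only [t, z03, ea04, eb04, ea34, eb34, hw0, hw3, hw4]
                  · obtain ⟨ea34, eb34⟩ := e
                    exfalso
                    have t := Groth.Agent.Helper3.NumType.QT5 T h2 1 0 0 1 2 (by norm_num) (by norm_num)
                    linarith only [t, z03, ea04, eb04, ea34, eb34, hw0, hw3, hw4]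
                  · obtain ⟨ea34, eb34⟩ := e
                    exfalso
                    have t := Groth.Agent.Helper3.NumType.QT5 T h2 1 0 0 2 2 (by norm_num) (by norm_num)
                    linarith only [t, z03, ea04, eb04, ea34, eb34, hw0, hw3, hw4]
                  · obtain ⟨ea34, eb34⟩ := e
                    exfalso
                    have t := Groth.Agent.Helper3.NumType.QT5 T h2 1 0 0 1 2 (by norm_num) (by norm_num)
                    linarith only [t, z03, ea04, eb04, ea34, eb34, hw0, hw3, hw4]
              · rcases Groth.Agent.Helper3.NumType.edge_casesT T h2 (by norm_num) (p := 2) (q := 4) (by decide) hp24 with e | e | e | e | e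
                · obtain ⟨ea24, eb24⟩ := e
                  exfalso
                  have t := Groth.Agent.Helper3.NumType.QT5 T h2 1 1 1 0 2 (by norm_num) (by norm_num)
                  linarith only [t, z01, z02, ea04, eb04, z12, ea14, eb14, ea24, eb24, hw0, hw1, hw2, hw4]
                · obtain ⟨ea24, eb24⟩ := e
                  exfalso
                  have t := Groth.Agent.Helper3.NumType.QT5 T h2 1 0 2 0 2 (by norm_num) (by norm_num)
                  linarith only [t, z02, ea04, eb04, ea24, eb24, hw0, hw2, hw4]
                · obtain ⟨ea24, eb24⟩ := e
                  exfalso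
                  have t := Groth.Agent.Helper3.NumType.QT5 T h2 1 0 1 0 2 (by norm_num) (by norm_num)
                  linarith only [t, z02, ea04, eb04, ea24, eb24, hw0, hw2, hw4]
                · obtain ⟨ea24, eb24⟩ := e
                  exfalso
                  have t := Groth.Agent.Helper3.NumType.QT5 T h2 1 0 2 0 2 (by norm_num) (by norm_num)
                  linarith only [t, z02, ea04, eb04, ea24, eb24, hw0, hw2, hw4]
                · obtain ⟨ea24, eb24⟩ := e
                  exfalso
                  have t := Groth.Agent.Helper3.NumType.QT5 T h2 1 0 1 0 2 (by norm_num) (by norm_num)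
                  linarith only [t, z02, ea04, eb04, ea24, eb24, hw0, hw2, hw4]
            · obtain ⟨ea23, eb23⟩ := e
              rcases eq_or_lt_of_le nn24 with z | hp24
              · have z24 : T.a 2 4 = 0 := z.symm
                rcases eq_or_lt_of_le nn34 with z | hp34
                · have z34 : T.a 3 4 = 0 := z.symm
                  have hr0 : (-2) * T.m 0 + (1) * T.m 4 = 0 := by
                    have f4 : T.a 0 4 = T.w 0 := by linarith only [ea04, eb04]
                    have h : T.w 0 * ((-2) * T.m 0 + (1) * T.m 4) = 0 := by
                      rw [z01, z02, z03, f4] at r0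
                      linarith only [r0]
                    rcases mul_eq_zero.mp h with h' | h'
                    · exfalso; linarith only [h', hw0]
                    · exact h'
                  have hr1 : (-2) * T.m 1 + (1) * T.m 3 + (1) * T.m 4 = 0 := by
                    have f3 : T.a 1 3 = T.w 1 := by linarith only [ea13, eb13]
                    have f4 : T.a 1 4 = T.w 1 := by linarith only [ea14, eb14]
                    have h : T.w 1 * ((-2) * T.m 1 + (1) * T.m 3 + (1) * T.m 4) = 0 := by
                      rw [z01, z12, f3, f4] at r1
                      linarith only [r1]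
                    rcases mul_eq_zero.mp h with h' | h'
                    · exfalso; linarith only [h', hw1]
                    · exact h'
                  have hr2 : (-2) * T.m 2 + (2) * T.m 3 = 0 := by
                    have f3 : T.a 2 3 = 2 * T.w 2 := by linarith only [ea23, eb23]
                    have h : T.w 2 * ((-2) * T.m 2 + (2) * T.m 3) = 0 := by
                      rw [z02, z12, f3, z24] at r2
                      linarith only [r2]
                    rcases mul_eq_zero.mp h with h' | h'
                    · exfalso; linarith only [h', hw2]
                    · exact h'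
                  have hr3 : (-2) * T.m 3 + (1) * T.m 1 + (1) * T.m 2 = 0 := by
                    have f1 : T.a 1 3 = T.w 3 := by linarith only [ea13, eb13]
                    have f2 : T.a 2 3 = T.w 3 := by linarith only [ea23, eb23]
                    have h : T.w 3 * ((-2) * T.m 3 + (1) * T.m 1 + (1) * T.m 2) = 0 := by
                      rw [z03, f1, f2, z34] at r3
                      linarith only [r3]
                    rcases mul_eq_zero.mp h with h' | h'
                    · exfalso; linarith only [h', hw3]
                    · exact h'
                  have hr4 : (-2) * T.m 4 + (2) * T.m 0 + (1) * T.m 1 = 0 := by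
                    have f0 : T.a 0 4 = 2 * T.w 4 := by linarith only [ea04, eb04]
                    have f1 : T.a 1 4 = T.w 4 := by linarith only [ea14, eb14]
                    have h : T.w 4 * ((-2) * T.m 4 + (2) * T.m 0 + (1) * T.m 1) = 0 := by
                      rw [f0, f1, z24, z34] at r4
                      linarith only [r4]
                    rcases mul_eq_zero.mp h with h' | h'
                    · exfalso; linarith only [h', hw4]
                    · exact h'
                  have w0 : T.w 0 = 4 * T.w 2 := by linarith only [ea04, ea13, ea14, ea23]
                  have w1 : T.w 1 = 2 * T.w 2 := by linarith only [ea04, ea13, ea14, ea23]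
                  have w3 : T.w 3 = 2 * T.w 2 := by linarith only [ea04, ea13, ea14, ea23]
                  have w4 : T.w 4 = 2 * T.w 2 := by linarith only [ea04, ea13, ea14, ea23]
                  have a04 : T.a 0 4 = 4 * T.w 2 := by linarith only [ea04, eb04, ea13, eb13, ea14, eb14, ea23, eb23]
                  have a13 : T.a 1 3 = 2 * T.w 2 := by linarith only [ea04, eb04, ea13, eb13, ea14, eb14, ea23, eb23]
                  have a14 : T.a 1 4 = 2 * T.w 2 := by linarith only [ea04, eb04, ea13, eb13, ea14, eb14, ea23, eb23]
                  have a23 : T.a 2 3 = 2 * T.w 2 := by linarith only [ea04, eb04, ea13, eb13, ea14, eb14, ea23, eb23]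
                  have m1 : T.m 1 = 2 * T.m 0 := by linarith only [hr0, hr1, hr2, hr3, hr4]
                  have m2 : T.m 2 = 2 * T.m 0 := by linarith only [hr0, hr1, hr2, hr3, hr4]
                  have m3 : T.m 3 = 2 * T.m 0 := by linarith only [hr0, hr1, hr2, hr3, hr4]
                  have m4 : T.m 4 = 2 * T.m 0 := by linarith only [hr0, hr1, hr2, hr3, hr4]
                  refine ⟨Equiv.ofBijective ![2, 3, 1, 4, 0] (by decide), T.m 0, T.w 2, ?_⟩
                  simp only [Equiv.ofBijective_apply, Matrix.cons_val_zero, Matrix.cons_val_one, Matrix.cons_val]
                  refine Or.inr (Or.inr (Or.inr (Or.inl ⟨?_, ?_, ?_, ?_, ?_, ?_, ?_, ?_, ?_, ?_, ?_, ?_, ?_, ?_, ?_, ?_, ?_, ?_, ?_, ?_, ?_, ?_, ?_, ?_, ?_⟩)))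
                  all_goals first | rfl | trivial | linarith only [w0, w1, w3, w4, z01, z02, z03, a04, z12, a13, a14, a23, z24, z34, m1, m2, m3, m4, d0, d1, d2, d3, d4, s10, s20, s30, s40, s21, s31, s41, s32, s42, s43]
                · rcases Groth.Agent.Helper3.NumType.edge_casesT T h2 (by norm_num) (p := 3) (q := 4) (by decide) hp34 with e | e | e | e | e
                  · obtain ⟨ea34, eb34⟩ := e
                    exfalso
                    have t := Groth.Agent.Helper3.NumType.QT5 T h2 0 1 0 1 1 (by norm_num) (by norm_num)
                    linarith only [t, ea13, eb13, ea14, eb14, ea34, eb34, hw1, hw3, hw4]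
                  · obtain ⟨ea34, eb34⟩ := e
                    exfalso
                    have t := Groth.Agent.Helper3.NumType.QT5 T h2 1 0 0 2 2 (by norm_num) (by norm_num)
                    linarith only [t, z03, ea04, eb04, ea34, eb34, hw0, hw3, hw4]
                  · obtain ⟨ea34, eb34⟩ := e
                    exfalso
                    have t := Groth.Agent.Helper3.NumType.QT5 T h2 1 0 0 1 2 (by norm_num) (by norm_num)
                    linarith only [t, z03, ea04, eb04, ea34, eb34, hw0, hw3, hw4]
                  · obtain ⟨ea34, eb34⟩ := e
                    exfalso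
                    have t := Groth.Agent.Helper3.NumType.QT5 T h2 1 0 0 2 2 (by norm_num) (by norm_num)
                    linarith only [t, z03, ea04, eb04, ea34, eb34, hw0, hw3, hw4]
                  · obtain ⟨ea34, eb34⟩ := e
                    exfalso
                    have t := Groth.Agent.Helper3.NumType.QT5 T h2 1 0 0 1 2 (by norm_num) (by norm_num)
                    linarith only [t, z03, ea04, eb04, ea34, eb34, hw0, hw3, hw4]
              · rcases Groth.Agent.Helper3.NumType.edge_casesT T h2 (by norm_num) (p := 2) (q := 4) (by decide) hp24 with e | e | e | e | e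
                · obtain ⟨ea24, eb24⟩ := e
                  exfalso
                  have t := Groth.Agent.Helper3.NumType.QT5 T h2 1 1 1 0 2 (by norm_num) (by norm_num)
                  linarith only [t, z01, z02, ea04, eb04, z12, ea14, eb14, ea24, eb24, hw0, hw1, hw2, hw4]
                · obtain ⟨ea24, eb24⟩ := e
                  exfalso
                  have t := Groth.Agent.Helper3.NumType.QT5 T h2 1 0 2 0 2 (by norm_num) (by norm_num)
                  linarith only [t, z02, ea04, eb04, ea24, eb24, hw0, hw2, hw4]
                · obtain ⟨ea24, eb24⟩ := e
                  exfalso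
                  have t := Groth.Agent.Helper3.NumType.QT5 T h2 1 0 1 0 2 (by norm_num) (by norm_num)
                  linarith only [t, z02, ea04, eb04, ea24, eb24, hw0, hw2, hw4]
                · obtain ⟨ea24, eb24⟩ := e
                  exfalso
                  have t := Groth.Agent.Helper3.NumType.QT5 T h2 1 0 2 0 2 (by norm_num) (by norm_num)
                  linarith only [t, z02, ea04, eb04, ea24, eb24, hw0, hw2, hw4]
                · obtain ⟨ea24, eb24⟩ := e
                  exfalso
                  have t := Groth.Agent.Helper3.NumType.QT5 T h2 1 0 1 0 2 (by norm_num) (by norm_num)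
                  linarith only [t, z02, ea04, eb04, ea24, eb24, hw0, hw2, hw4]
            · obtain ⟨ea23, eb23⟩ := e
              rcases eq_or_lt_of_le nn24 with z | hp24
              · have z24 : T.a 2 4 = 0 := z.symm
                rcases eq_or_lt_of_le nn34 with z | hp34
                · have z34 : T.a 3 4 = 0 := z.symm
                  have hr0 : (-2) * T.m 0 + (1) * T.m 4 = 0 := by
                    have f4 : T.a 0 4 = T.w 0 := by linarith only [ea04, eb04]
                    have h : T.w 0 * ((-2) * T.m 0 + (1) * T.m 4) = 0 := by
                      rw [z01, z02, z03, f4] at r0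
                      linarith only [r0]
                    rcases mul_eq_zero.mp h with h' | h'
                    · exfalso; linarith only [h', hw0]
                    · exact h'
                  have hr1 : (-2) * T.m 1 + (1) * T.m 3 + (1) * T.m 4 = 0 := by
                    have f3 : T.a 1 3 = T.w 1 := by linarith only [ea13, eb13]
                    have f4 : T.a 1 4 = T.w 1 := by linarith only [ea14, eb14]
                    have h : T.w 1 * ((-2) * T.m 1 + (1) * T.m 3 + (1) * T.m 4) = 0 := by
                      rw [z01, z12, f3, f4] at r1
                      linarith only [r1]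
                    rcases mul_eq_zero.mp h with h' | h'
                    · exfalso; linarith only [h', hw1]
                    · exact h'
                  have hr2 : (-2) * T.m 2 + (1) * T.m 3 = 0 := by
                    have f3 : T.a 2 3 = T.w 2 := by linarith only [ea23, eb23]
                    have h : T.w 2 * ((-2) * T.m 2 + (1) * T.m 3) = 0 := by
                      rw [z02, z12, f3, z24] at r2
                      linarith only [r2]
                    rcases mul_eq_zero.mp h with h' | h'
                    · exfalso; linarith only [h', hw2]
                    · exact h'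
                  have hr3 : (-2) * T.m 3 + (1) * T.m 1 + (2) * T.m 2 = 0 := by
                    have f1 : T.a 1 3 = T.w 3 := by linarith only [ea13, eb13]
                    have f2 : T.a 2 3 = 2 * T.w 3 := by linarith only [ea23, eb23]
                    have h : T.w 3 * ((-2) * T.m 3 + (1) * T.m 1 + (2) * T.m 2) = 0 := by
                      rw [z03, f1, f2, z34] at r3
                      linarith only [r3]
                    rcases mul_eq_zero.mp h with h' | h'
                    · exfalso; linarith only [h', hw3]
                    · exact h'
                  have hr4 : (-2) * T.m 4 + (2) * T.m 0 + (1) * T.m 1 = 0 := by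
                    have f0 : T.a 0 4 = 2 * T.w 4 := by linarith only [ea04, eb04]
                    have f1 : T.a 1 4 = T.w 4 := by linarith only [ea14, eb14]
                    have h : T.w 4 * ((-2) * T.m 4 + (2) * T.m 0 + (1) * T.m 1) = 0 := by
                      rw [f0, f1, z24, z34] at r4
                      linarith only [r4]
                    rcases mul_eq_zero.mp h with h' | h'
                    · exfalso; linarith only [h', hw4]
                    · exact h'
                  have w0 : T.w 0 = 2 * T.w 1 := by linarith only [ea04, ea13, ea14, ea23]
                  have w2 : T.w 2 = 2 * T.w 1 := by linarith only [ea04, ea13, ea14, ea23]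
                  have w3 : T.w 3 = T.w 1 := by linarith only [ea04, ea13, ea14, ea23]
                  have w4 : T.w 4 = T.w 1 := by linarith only [ea04, ea13, ea14, ea23]
                  have a04 : T.a 0 4 = 2 * T.w 1 := by linarith only [ea04, eb04, ea13, eb13, ea14, eb14, ea23, eb23]
                  have a13 : T.a 1 3 = T.w 1 := by linarith only [ea04, eb04, ea13, eb13, ea14, eb14, ea23, eb23]
                  have a14 : T.a 1 4 = T.w 1 := by linarith only [ea04, eb04, ea13, eb13, ea14, eb14, ea23, eb23]
                  have a23 : T.a 2 3 = 2 * T.w 1 := by linarith only [ea04, eb04, ea13, eb13, ea14, eb14, ea23, eb23]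
                  have m1 : T.m 1 = 2 * T.m 0 := by linarith only [hr0, hr1, hr2, hr3, hr4]
                  have m2 : T.m 2 = T.m 0 := by linarith only [hr0, hr1, hr2, hr3, hr4]
                  have m3 : T.m 3 = 2 * T.m 0 := by linarith only [hr0, hr1, hr2, hr3, hr4]
                  have m4 : T.m 4 = 2 * T.m 0 := by linarith only [hr0, hr1, hr2, hr3, hr4]
                  refine ⟨Equiv.ofBijective ![0, 4, 1, 3, 2] (by decide), T.m 0, T.w 4, ?_⟩
                  simp only [Equiv.ofBijective_apply, Matrix.cons_val_zero, Matrix.cons_val_one, Matrix.cons_val]
                  refine Or.inr (Or.inr (Or.inr (Or.inr (Or.inr (Or.inl ⟨?_, ?_, ?_, ?_, ?_, ?_, ?_, ?_, ?_, ?_, ?_, ?_, ?_, ?_, ?_, ?_, ?_, ?_, ?_, ?_, ?_, ?_, ?_, ?_, ?_⟩)))))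
                  all_goals first | rfl | trivial | linarith only [w0, w2, w3, w4, z01, z02, z03, a04, z12, a13, a14, a23, z24, z34, m1, m2, m3, m4, d0, d1, d2, d3, d4, s10, s20, s30, s40, s21, s31, s41, s32, s42, s43]
                · rcases Groth.Agent.Helper3.NumType.edge_casesT T h2 (by norm_num) (p := 3) (q := 4) (by decide) hp34 with e | e | e | e | e
                  · obtain ⟨ea34, eb34⟩ := e
                    exfalso
                    have t := Groth.Agent.Helper3.NumType.QT5 T h2 0 1 0 1 1 (by norm_num) (by norm_num)
                    linarith only [t, ea13, eb13, ea14, eb14, ea34, eb34, hw1, hw3, hw4]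
                  · obtain ⟨ea34, eb34⟩ := e
                    exfalso
                    have t := Groth.Agent.Helper3.NumType.QT5 T h2 1 0 0 2 2 (by norm_num) (by norm_num)
                    linarith only [t, z03, ea04, eb04, ea34, eb34, hw0, hw3, hw4]
                  · obtain ⟨ea34, eb34⟩ := e
                    exfalso
                    have t := Groth.Agent.Helper3.NumType.QT5 T h2 1 0 0 1 2 (by norm_num) (by norm_num)
                    linarith only [t, z03, ea04, eb04, ea34, eb34, hw0, hw3, hw4]
                  · obtain ⟨ea34, eb34⟩ := e
                    exfalso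
                    have t := Groth.Agent.Helper3.NumType.QT5 T h2 1 0 0 2 2 (by norm_num) (by norm_num)
                    linarith only [t, z03, ea04, eb04, ea34, eb34, hw0, hw3, hw4]
                  · obtain ⟨ea34, eb34⟩ := e
                    exfalso
                    have t := Groth.Agent.Helper3.NumType.QT5 T h2 1 0 0 1 2 (by norm_num) (by norm_num)
                    linarith only [t, z03, ea04, eb04, ea34, eb34, hw0, hw3, hw4]
              · rcases Groth.Agent.Helper3.NumType.edge_casesT T h2 (by norm_num) (p := 2) (q := 4) (by decide) hp24 with e | e | e | e | e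
                · obtain ⟨ea24, eb24⟩ := e
                  exfalso
                  have t := Groth.Agent.Helper3.NumType.QT5 T h2 1 1 1 0 2 (by norm_num) (by norm_num)
                  linarith only [t, z01, z02, ea04, eb04, z12, ea14, eb14, ea24, eb24, hw0, hw1, hw2, hw4]
                · obtain ⟨ea24, eb24⟩ := e
                  exfalso
                  have t := Groth.Agent.Helper3.NumType.QT5 T h2 1 0 2 0 2 (by norm_num) (by norm_num)
                  linarith only [t, z02, ea04, eb04, ea24, eb24, hw0, hw2, hw4]
                · obtain ⟨ea24, eb24⟩ := e
                  exfalso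
                  have t := Groth.Agent.Helper3.NumType.QT5 T h2 1 0 1 0 2 (by norm_num) (by norm_num)
                  linarith only [t, z02, ea04, eb04, ea24, eb24, hw0, hw2, hw4]
                · obtain ⟨ea24, eb24⟩ := e
                  exfalso
                  have t := Groth.Agent.Helper3.NumType.QT5 T h2 1 0 2 0 2 (by norm_num) (by norm_num)
                  linarith only [t, z02, ea04, eb04, ea24, eb24, hw0, hw2, hw4]
                · obtain ⟨ea24, eb24⟩ := e
                  exfalso
                  have t := Groth.Agent.Helper3.NumType.QT5 T h2 1 0 1 0 2 (by norm_num) (by norm_num)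
                  linarith only [t, z02, ea04, eb04, ea24, eb24, hw0, hw2, hw4]
            · obtain ⟨ea23, eb23⟩ := e
              exfalso
              have t := Groth.Agent.Helper3.NumType.QT5 T h2 0 1 3 2 0 (by norm_num) (by norm_num)
              linarith only [t, z12, ea13, eb13, ea23, eb23, hw1, hw2, hw3]
            · obtain ⟨ea23, eb23⟩ := e
              exfalso
              have t := Groth.Agent.Helper3.NumType.QT5 T h2 0 1 1 2 0 (by norm_num) (by norm_num)
              linarith only [t, z12, ea13, eb13, ea23, eb23, hw1, hw2, hw3]
        · obtain ⟨ea14, eb14⟩ := e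
          exfalso
          have t := Groth.Agent.Helper3.NumType.QT5 T h2 1 2 0 0 2 (by norm_num) (by norm_num)
          linarith only [t, z01, ea04, eb04, ea14, eb14, hw0, hw1, hw4]
        · obtain ⟨ea14, eb14⟩ := e
          exfalso
          have t := Groth.Agent.Helper3.NumType.QT5 T h2 1 1 0 0 2 (by norm_num) (by norm_num)
          linarith only [t, z01, ea04, eb04, ea14, eb14, hw0, hw1, hw4]
        · obtain ⟨ea14, eb14⟩ := e
          exfalso
          have t := Groth.Agent.Helper3.NumType.QT5 T h2 1 2 0 0 2 (by norm_num) (by norm_num)
          linarith only [t, z01, ea04, eb04, ea14, eb14, hw0, hw1, hw4]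
        · obtain ⟨ea14, eb14⟩ := e
          exfalso
          have t := Groth.Agent.Helper3.NumType.QT5 T h2 1 1 0 0 2 (by norm_num) (by norm_num)
          linarith only [t, z01, ea04, eb04, ea14, eb14, hw0, hw1, hw4]
    · obtain ⟨ea13, eb13⟩ := e
      rcases eq_or_lt_of_le nn14 with z | hp14
      · have z14 : T.a 1 4 = 0 := z.symm
        rcases eq_or_lt_of_le nn23 with z | hp23
        · have z23 : T.a 2 3 = 0 := z.symm
          rcases eq_or_lt_of_le nn24 with z | hp24
          · have z24 : T.a 2 4 = 0 := z.symm
            exfalso
            obtain ⟨i, hi, j, hj, hij⟩ := T.connected ({2} : Finset (Fin 5)) (by decide) (by decide)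
            fin_cases i <;> fin_cases j <;> first | exact absurd hi (by decide) | exact hj (by decide) | (apply hij; first | exact s20.trans z02 | exact s21.trans z12 | exact z23 | exact z24)
          · rcases Groth.Agent.Helper3.NumType.edge_casesT T h2 (by norm_num) (p := 2) (q := 4) (by decide) hp24 with e | e | e | e | e
            · obtain ⟨ea24, eb24⟩ := e
              rcases eq_or_lt_of_le nn34 with z | hp34
              · have z34 : T.a 3 4 = 0 := z.symm
                exfalso
                obtain ⟨i, hi, j, hj, hij⟩ := T.connected ({0, 2, 4} : Finset (Fin 5)) (by decide) (by decide)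
                fin_cases i <;> fin_cases j <;> first | exact absurd hi (by decide) | exact hj (by decide) | (apply hij; first | exact z01 | exact z03 | exact s21.trans z12 | exact z23 | exact s41.trans z14 | exact s43.trans z34)
              · rcases Groth.Agent.Helper3.NumType.edge_casesT T h2 (by norm_num) (p := 3) (q := 4) (by decide) hp34 with e | e | e | e | e
                · obtain ⟨ea34, eb34⟩ := e
                  exfalso
                  have t := Groth.Agent.Helper3.NumType.QT5 T h2 1 2 0 2 2 (by norm_num) (by norm_num)
                  linarith only [t, z01, z03, ea04, eb04, ea13, eb13, z14, ea34, eb34, hw0, hw1, hw3, hw4]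
                · obtain ⟨ea34, eb34⟩ := e
                  exfalso
                  have t := Groth.Agent.Helper3.NumType.QT5 T h2 1 0 0 2 2 (by norm_num) (by norm_num)
                  linarith only [t, z03, ea04, eb04, ea34, eb34, hw0, hw3, hw4]
                · obtain ⟨ea34, eb34⟩ := e
                  exfalso
                  have t := Groth.Agent.Helper3.NumType.QT5 T h2 1 0 0 1 2 (by norm_num) (by norm_num)
                  linarith only [t, z03, ea04, eb04, ea34, eb34, hw0, hw3, hw4]
                · obtain ⟨ea34, eb34⟩ := e
                  exfalso
                  have t := Groth.Agent.Helper3.NumType.QT5 T h2 1 0 0 2 2 (by norm_num) (by norm_num)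
                  linarith only [t, z03, ea04, eb04, ea34, eb34, hw0, hw3, hw4]
                · obtain ⟨ea34, eb34⟩ := e
                  exfalso
                  have t := Groth.Agent.Helper3.NumType.QT5 T h2 1 0 0 1 2 (by norm_num) (by norm_num)
                  linarith only [t, z03, ea04, eb04, ea34, eb34, hw0, hw3, hw4]
            · obtain ⟨ea24, eb24⟩ := e
              exfalso
              have t := Groth.Agent.Helper3.NumType.QT5 T h2 1 0 2 0 2 (by norm_num) (by norm_num)
              linarith only [t, z02, ea04, eb04, ea24, eb24, hw0, hw2, hw4]
            · obtain ⟨ea24, eb24⟩ := e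
              exfalso
              have t := Groth.Agent.Helper3.NumType.QT5 T h2 1 0 1 0 2 (by norm_num) (by norm_num)
              linarith only [t, z02, ea04, eb04, ea24, eb24, hw0, hw2, hw4]
            · obtain ⟨ea24, eb24⟩ := e
              exfalso
              have t := Groth.Agent.Helper3.NumType.QT5 T h2 1 0 2 0 2 (by norm_num) (by norm_num)
              linarith only [t, z02, ea04, eb04, ea24, eb24, hw0, hw2, hw4]
            · obtain ⟨ea24, eb24⟩ := e
              exfalso
              have t := Groth.Agent.Helper3.NumType.QT5 T h2 1 0 1 0 2 (by norm_num) (by norm_num)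
              linarith only [t, z02, ea04, eb04, ea24, eb24, hw0, hw2, hw4]
        · rcases Groth.Agent.Helper3.NumType.edge_casesT T h2 (by norm_num) (p := 2) (q := 3) (by decide) hp23 with e | e | e | e | e
          · obtain ⟨ea23, eb23⟩ := e
            rcases eq_or_lt_of_le nn24 with z | hp24
            · have z24 : T.a 2 4 = 0 := z.symm
              rcases eq_or_lt_of_le nn34 with z | hp34
              · have z34 : T.a 3 4 = 0 := z.symm
                exfalso
                obtain ⟨i, hi, j, hj, hij⟩ := T.connected ({0, 4} : Finset (Fin 5)) (by decide) (by decide)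
                fin_cases i <;> fin_cases j <;> first | exact absurd hi (by decide) | exact hj (by decide) | (apply hij; first | exact z01 | exact z02 | exact z03 | exact s41.trans z14 | exact s42.trans z24 | exact s43.trans z34)
              · rcases Groth.Agent.Helper3.NumType.edge_casesT T h2 (by norm_num) (p := 3) (q := 4) (by decide) hp34 with e | e | e | e | e
                · obtain ⟨ea34, eb34⟩ := e
                  exfalso
                  have t := Groth.Agent.Helper3.NumType.QT5 T h2 1 2 0 2 2 (by norm_num) (by norm_num)
                  linarith only [t, z01, z03, ea04, eb04, ea13, eb13, z14, ea34, eb34, hw0, hw1, hw3, hw4]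
                · obtain ⟨ea34, eb34⟩ := e
                  exfalso
                  have t := Groth.Agent.Helper3.NumType.QT5 T h2 1 0 0 2 2 (by norm_num) (by norm_num)
                  linarith only [t, z03, ea04, eb04, ea34, eb34, hw0, hw3, hw4]
                · obtain ⟨ea34, eb34⟩ := e
                  exfalso
                  have t := Groth.Agent.Helper3.NumType.QT5 T h2 1 0 0 1 2 (by norm_num) (by norm_num)
                  linarith only [t, z03, ea04, eb04, ea34, eb34, hw0, hw3, hw4]
                · obtain ⟨ea34, eb34⟩ := e
                  exfalso
                  have t := Groth.Agent.Helper3.NumType.QT5 T h2 1 0 0 2 2 (by norm_num) (by norm_num)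
                  linarith only [t, z03, ea04, eb04, ea34, eb34, hw0, hw3, hw4]
                · obtain ⟨ea34, eb34⟩ := e
                  exfalso
                  have t := Groth.Agent.Helper3.NumType.QT5 T h2 1 0 0 1 2 (by norm_num) (by norm_num)
                  linarith only [t, z03, ea04, eb04, ea34, eb34, hw0, hw3, hw4]
            · rcases Groth.Agent.Helper3.NumType.edge_casesT T h2 (by norm_num) (p := 2) (q := 4) (by decide) hp24 with e | e | e | e | e
              · obtain ⟨ea24, eb24⟩ := e
                rcases eq_or_lt_of_le nn34 with z | hp34
                · have z34 : T.a 3 4 = 0 := z.symm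
                  have hr0 : (-2) * T.m 0 + (1) * T.m 4 = 0 := by
                    have f4 : T.a 0 4 = T.w 0 := by linarith only [ea04, eb04]
                    have h : T.w 0 * ((-2) * T.m 0 + (1) * T.m 4) = 0 := by
                      rw [z01, z02, z03, f4] at r0
                      linarith only [r0]
                    rcases mul_eq_zero.mp h with h' | h'
                    · exfalso; linarith only [h', hw0]
                    · exact h'
                  have hr1 : (-2) * T.m 1 + (2) * T.m 3 = 0 := by
                    have f3 : T.a 1 3 = 2 * T.w 1 := by linarith only [ea13, eb13]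
                    have h : T.w 1 * ((-2) * T.m 1 + (2) * T.m 3) = 0 := by
                      rw [z01, z12, f3, z14] at r1
                      linarith only [r1]
                    rcases mul_eq_zero.mp h with h' | h'
                    · exfalso; linarith only [h', hw1]
                    · exact h'
                  have hr2 : (-2) * T.m 2 + (1) * T.m 3 + (1) * T.m 4 = 0 := by
                    have f3 : T.a 2 3 = T.w 2 := by linarith only [ea23, eb23]
                    have f4 : T.a 2 4 = T.w 2 := by linarith only [ea24, eb24]
                    have h : T.w 2 * ((-2) * T.m 2 + (1) * T.m 3 + (1) * T.m 4) = 0 := by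
                      rw [z02, z12, f3, f4] at r2
                      linarith only [r2]
                    rcases mul_eq_zero.mp h with h' | h'
                    · exfalso; linarith only [h', hw2]
                    · exact h'
                  have hr3 : (-2) * T.m 3 + (1) * T.m 1 + (1) * T.m 2 = 0 := by
                    have f1 : T.a 1 3 = T.w 3 := by linarith only [ea13, eb13]
                    have f2 : T.a 2 3 = T.w 3 := by linarith only [ea23, eb23]
                    have h : T.w 3 * ((-2) * T.m 3 + (1) * T.m 1 + (1) * T.m 2) = 0 := by
                      rw [z03, f1, f2, z34] at r3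
                      linarith only [r3]
                    rcases mul_eq_zero.mp h with h' | h'
                    · exfalso; linarith only [h', hw3]
                    · exact h'
                  have hr4 : (-2) * T.m 4 + (2) * T.m 0 + (1) * T.m 2 = 0 := by
                    have f0 : T.a 0 4 = 2 * T.w 4 := by linarith only [ea04, eb04]
                    have f2 : T.a 2 4 = T.w 4 := by linarith only [ea24, eb24]
                    have h : T.w 4 * ((-2) * T.m 4 + (2) * T.m 0 + (1) * T.m 2) = 0 := by
                      rw [f0, z14, f2, z34] at r4
                      linarith only [r4]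
                    rcases mul_eq_zero.mp h with h' | h'
                    · exfalso; linarith only [h', hw4]
                    · exact h'
                  have w0 : T.w 0 = 4 * T.w 1 := by linarith only [ea04, ea13, ea23, ea24]
                  have w2 : T.w 2 = 2 * T.w 1 := by linarith only [ea04, ea13, ea23, ea24]
                  have w3 : T.w 3 = 2 * T.w 1 := by linarith only [ea04, ea13, ea23, ea24]
                  have w4 : T.w 4 = 2 * T.w 1 := by linarith only [ea04, ea13, ea23, ea24]
                  have a04 : T.a 0 4 = 4 * T.w 1 := by linarith only [ea04, eb04, ea13, eb13, ea23, eb23, ea24, eb24]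
                  have a13 : T.a 1 3 = 2 * T.w 1 := by linarith only [ea04, eb04, ea13, eb13, ea23, eb23, ea24, eb24]
                  have a23 : T.a 2 3 = 2 * T.w 1 := by linarith only [ea04, eb04, ea13, eb13, ea23, eb23, ea24, eb24]
                  have a24 : T.a 2 4 = 2 * T.w 1 := by linarith only [ea04, eb04, ea13, eb13, ea23, eb23, ea24, eb24]
                  have m1 : T.m 1 = 2 * T.m 0 := by linarith only [hr0, hr1, hr2, hr3, hr4]
                  have m2 : T.m 2 = 2 * T.m 0 := by linarith only [hr0, hr1, hr2, hr3, hr4]
                  have m3 : T.m 3 = 2 * T.m 0 := by linarith only [hr0, hr1, hr2, hr3, hr4]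
                  have m4 : T.m 4 = 2 * T.m 0 := by linarith only [hr0, hr1, hr2, hr3, hr4]
                  refine ⟨Equiv.ofBijective ![1, 3, 2, 4, 0] (by decide), T.m 0, T.w 1, ?_⟩
                  simp only [Equiv.ofBijective_apply, Matrix.cons_val_zero, Matrix.cons_val_one, Matrix.cons_val]
                  refine Or.inr (Or.inr (Or.inr (Or.inl ⟨?_, ?_, ?_, ?_, ?_, ?_, ?_, ?_, ?_, ?_, ?_, ?_, ?_, ?_, ?_, ?_, ?_, ?_, ?_, ?_, ?_, ?_, ?_, ?_, ?_⟩)))
                  all_goals first | rfl | trivial | linarith only [w0, w2, w3, w4, z01, z02, z03, a04, z12, a13, z14, a23, a24, z34, m1, m2, m3, m4, d0, d1, d2, d3, d4, s10, s20, s30, s40, s21, s31, s41, s32, s42, s43]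
                · rcases Groth.Agent.Helper3.NumType.edge_casesT T h2 (by norm_num) (p := 3) (q := 4) (by decide) hp34 with e | e | e | e | e
                  · obtain ⟨ea34, eb34⟩ := e
                    exfalso
                    have t := Groth.Agent.Helper3.NumType.QT5 T h2 0 0 1 1 1 (by norm_num) (by norm_num)
                    linarith only [t, ea23, eb23, ea24, eb24, ea34, eb34, hw2, hw3, hw4]
                  · obtain ⟨ea34, eb34⟩ := e
                    exfalso
                    have t := Groth.Agent.Helper3.NumType.QT5 T h2 1 0 0 2 2 (by norm_num) (by norm_num)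
                    linarith only [t, z03, ea04, eb04, ea34, eb34, hw0, hw3, hw4]
                  · obtain ⟨ea34, eb34⟩ := e
                    exfalso
                    have t := Groth.Agent.Helper3.NumType.QT5 T h2 1 0 0 1 2 (by norm_num) (by norm_num)
                    linarith only [t, z03, ea04, eb04, ea34, eb34, hw0, hw3, hw4]
                  · obtain ⟨ea34, eb34⟩ := e
                    exfalso
                    have t := Groth.Agent.Helper3.NumType.QT5 T h2 1 0 0 2 2 (by norm_num) (by norm_num)
                    linarith only [t, z03, ea04, eb04, ea34, eb34, hw0, hw3, hw4]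
                  · obtain ⟨ea34, eb34⟩ := e
                    exfalso
                    have t := Groth.Agent.Helper3.NumType.QT5 T h2 1 0 0 1 2 (by norm_num) (by norm_num)
                    linarith only [t, z03, ea04, eb04, ea34, eb34, hw0, hw3, hw4]
              · obtain ⟨ea24, eb24⟩ := e
                exfalso
                have t := Groth.Agent.Helper3.NumType.QT5 T h2 1 0 2 0 2 (by norm_num) (by norm_num)
                linarith only [t, z02, ea04, eb04, ea24, eb24, hw0, hw2, hw4]
              · obtain ⟨ea24, eb24⟩ := e
                exfalso
                have t := Groth.Agent.Helper3.NumType.QT5 T h2 1 0 1 0 2 (by norm_num) (by norm_num)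
                linarith only [t, z02, ea04, eb04, ea24, eb24, hw0, hw2, hw4]
              · obtain ⟨ea24, eb24⟩ := e
                exfalso
                have t := Groth.Agent.Helper3.NumType.QT5 T h2 1 0 2 0 2 (by norm_num) (by norm_num)
                linarith only [t, z02, ea04, eb04, ea24, eb24, hw0, hw2, hw4]
              · obtain ⟨ea24, eb24⟩ := e
                exfalso
                have t := Groth.Agent.Helper3.NumType.QT5 T h2 1 0 1 0 2 (by norm_num) (by norm_num)
                linarith only [t, z02, ea04, eb04, ea24, eb24, hw0, hw2, hw4]
          · obtain ⟨ea23, eb23⟩ := e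
            exfalso
            have t := Groth.Agent.Helper3.NumType.QT5 T h2 0 1 1 1 0 (by norm_num) (by norm_num)
            linarith only [t, z12, ea13, eb13, ea23, eb23, hw1, hw2, hw3]
          · obtain ⟨ea23, eb23⟩ := e
            exfalso
            have t := Groth.Agent.Helper3.NumType.QT5 T h2 0 2 1 2 0 (by norm_num) (by norm_num)
            linarith only [t, z12, ea13, eb13, ea23, eb23, hw1, hw2, hw3]
          · obtain ⟨ea23, eb23⟩ := e
            exfalso
            have t := Groth.Agent.Helper3.NumType.QT5 T h2 0 1 1 1 0 (by norm_num) (by norm_num)
            linarith only [t, z12, ea13, eb13, ea23, eb23, hw1, hw2, hw3]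
          · obtain ⟨ea23, eb23⟩ := e
            exfalso
            have t := Groth.Agent.Helper3.NumType.QT5 T h2 0 1 1 2 0 (by norm_num) (by norm_num)
            linarith only [t, z12, ea13, eb13, ea23, eb23, hw1, hw2, hw3]
      · rcases Groth.Agent.Helper3.NumType.edge_casesT T h2 (by norm_num) (p := 1) (q := 4) (by decide) hp14 with e | e | e | e | e
        · obtain ⟨ea14, eb14⟩ := e
          exfalso
          have t := Groth.Agent.Helper3.NumType.QT5 T h2 1 2 0 1 2 (by norm_num) (by norm_num)
          linarith only [t, z01, z03, ea04, eb04, ea13, eb13, ea14, eb14, nn34, hw0, hw1, hw3, hw4]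
        · obtain ⟨ea14, eb14⟩ := e
          exfalso
          have t := Groth.Agent.Helper3.NumType.QT5 T h2 1 2 0 0 2 (by norm_num) (by norm_num)
          linarith only [t, z01, ea04, eb04, ea14, eb14, hw0, hw1, hw4]
        · obtain ⟨ea14, eb14⟩ := e
          exfalso
          have t := Groth.Agent.Helper3.NumType.QT5 T h2 1 1 0 0 2 (by norm_num) (by norm_num)
          linarith only [t, z01, ea04, eb04, ea14, eb14, hw0, hw1, hw4]
        · obtain ⟨ea14, eb14⟩ := e
          exfalso
          have t := Groth.Agent.Helper3.NumType.QT5 T h2 1 2 0 0 2 (by norm_num) (by norm_num)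
          linarith only [t, z01, ea04, eb04, ea14, eb14, hw0, hw1, hw4]
        · obtain ⟨ea14, eb14⟩ := e
          exfalso
          have t := Groth.Agent.Helper3.NumType.QT5 T h2 1 1 0 0 2 (by norm_num) (by norm_num)
          linarith only [t, z01, ea04, eb04, ea14, eb14, hw0, hw1, hw4]
    · obtain ⟨ea13, eb13⟩ := e
      rcases eq_or_lt_of_le nn14 with z | hp14
      · have z14 : T.a 1 4 = 0 := z.symm
        rcases eq_or_lt_of_le nn23 with z | hp23
        · have z23 : T.a 2 3 = 0 := z.symm
          rcases eq_or_lt_of_le nn24 with z | hp24
          · have z24 : T.a 2 4 = 0 := z.symm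
            exfalso
            obtain ⟨i, hi, j, hj, hij⟩ := T.connected ({2} : Finset (Fin 5)) (by decide) (by decide)
            fin_cases i <;> fin_cases j <;> first | exact absurd hi (by decide) | exact hj (by decide) | (apply hij; first | exact s20.trans z02 | exact s21.trans z12 | exact z23 | exact z24)
          · rcases Groth.Agent.Helper3.NumType.edge_casesT T h2 (by norm_num) (p := 2) (q := 4) (by decide) hp24 with e | e | e | e | e
            · obtain ⟨ea24, eb24⟩ := e
              rcases eq_or_lt_of_le nn34 with z | hp34
              · have z34 : T.a 3 4 = 0 := z.symm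
                exfalso
                obtain ⟨i, hi, j, hj, hij⟩ := T.connected ({0, 2, 4} : Finset (Fin 5)) (by decide) (by decide)
                fin_cases i <;> fin_cases j <;> first | exact absurd hi (by decide) | exact hj (by decide) | (apply hij; first | exact z01 | exact z03 | exact s21.trans z12 | exact z23 | exact s41.trans z14 | exact s43.trans z34)
              · rcases Groth.Agent.Helper3.NumType.edge_casesT T h2 (by norm_num) (p := 3) (q := 4) (by decide) hp34 with e | e | e | e | e
                · obtain ⟨ea34, eb34⟩ := e
                  exfalso
                  have t := Groth.Agent.Helper3.NumType.QT5 T h2 1 1 0 2 2 (by norm_num) (by norm_num)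
                  linarith only [t, z01, z03, ea04, eb04, ea13, eb13, z14, ea34, eb34, hw0, hw1, hw3, hw4]
                · obtain ⟨ea34, eb34⟩ := e
                  exfalso
                  have t := Groth.Agent.Helper3.NumType.QT5 T h2 1 0 0 2 2 (by norm_num) (by norm_num)
                  linarith only [t, z03, ea04, eb04, ea34, eb34, hw0, hw3, hw4]
                · obtain ⟨ea34, eb34⟩ := e
                  exfalso
                  have t := Groth.Agent.Helper3.NumType.QT5 T h2 1 0 0 1 2 (by norm_num) (by norm_num)
                  linarith only [t, z03, ea04, eb04, ea34, eb34, hw0, hw3, hw4]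
                · obtain ⟨ea34, eb34⟩ := e
                  exfalso
                  have t := Groth.Agent.Helper3.NumType.QT5 T h2 1 0 0 2 2 (by norm_num) (by norm_num)
                  linarith only [t, z03, ea04, eb04, ea34, eb34, hw0, hw3, hw4]
                · obtain ⟨ea34, eb34⟩ := e
                  exfalso
                  have t := Groth.Agent.Helper3.NumType.QT5 T h2 1 0 0 1 2 (by norm_num) (by norm_num)
                  linarith only [t, z03, ea04, eb04, ea34, eb34, hw0, hw3, hw4]
            · obtain ⟨ea24, eb24⟩ := e
              exfalso
              have t := Groth.Agent.Helper3.NumType.QT5 T h2 1 0 2 0 2 (by norm_num) (by norm_num)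
              linarith only [t, z02, ea04, eb04, ea24, eb24, hw0, hw2, hw4]
            · obtain ⟨ea24, eb24⟩ := e
              exfalso
              have t := Groth.Agent.Helper3.NumType.QT5 T h2 1 0 1 0 2 (by norm_num) (by norm_num)
              linarith only [t, z02, ea04, eb04, ea24, eb24, hw0, hw2, hw4]
            · obtain ⟨ea24, eb24⟩ := e
              exfalso
              have t := Groth.Agent.Helper3.NumType.QT5 T h2 1 0 2 0 2 (by norm_num) (by norm_num)
              linarith only [t, z02, ea04, eb04, ea24, eb24, hw0, hw2, hw4]
            · obtain ⟨ea24, eb24⟩ := e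
              exfalso
              have t := Groth.Agent.Helper3.NumType.QT5 T h2 1 0 1 0 2 (by norm_num) (by norm_num)
              linarith only [t, z02, ea04, eb04, ea24, eb24, hw0, hw2, hw4]
        · rcases Groth.Agent.Helper3.NumType.edge_casesT T h2 (by norm_num) (p := 2) (q := 3) (by decide) hp23 with e | e | e | e | e
          · obtain ⟨ea23, eb23⟩ := e
            rcases eq_or_lt_of_le nn24 with z | hp24
            · have z24 : T.a 2 4 = 0 := z.symm
              rcases eq_or_lt_of_le nn34 with z | hp34
              · have z34 : T.a 3 4 = 0 := z.symm
                exfalso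
                obtain ⟨i, hi, j, hj, hij⟩ := T.connected ({0, 4} : Finset (Fin 5)) (by decide) (by decide)
                fin_cases i <;> fin_cases j <;> first | exact absurd hi (by decide) | exact hj (by decide) | (apply hij; first | exact z01 | exact z02 | exact z03 | exact s41.trans z14 | exact s42.trans z24 | exact s43.trans z34)
              · rcases Groth.Agent.Helper3.NumType.edge_casesT T h2 (by norm_num) (p := 3) (q := 4) (by decide) hp34 with e | e | e | e | e
                · obtain ⟨ea34, eb34⟩ := e
                  exfalso
                  have t := Groth.Agent.Helper3.NumType.QT5 T h2 1 1 0 2 2 (by norm_num) (by norm_num)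
                  linarith only [t, z01, z03, ea04, eb04, ea13, eb13, z14, ea34, eb34, hw0, hw1, hw3, hw4]
                · obtain ⟨ea34, eb34⟩ := e
                  exfalso
                  have t := Groth.Agent.Helper3.NumType.QT5 T h2 1 0 0 2 2 (by norm_num) (by norm_num)
                  linarith only [t, z03, ea04, eb04, ea34, eb34, hw0, hw3, hw4]
                · obtain ⟨ea34, eb34⟩ := e
                  exfalso
                  have t := Groth.Agent.Helper3.NumType.QT5 T h2 1 0 0 1 2 (by norm_num) (by norm_num)
                  linarith only [t, z03, ea04, eb04, ea34, eb34, hw0, hw3, hw4]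
                · obtain ⟨ea34, eb34⟩ := e
                  exfalso
                  have t := Groth.Agent.Helper3.NumType.QT5 T h2 1 0 0 2 2 (by norm_num) (by norm_num)
                  linarith only [t, z03, ea04, eb04, ea34, eb34, hw0, hw3, hw4]
                · obtain ⟨ea34, eb34⟩ := e
                  exfalso
                  have t := Groth.Agent.Helper3.NumType.QT5 T h2 1 0 0 1 2 (by norm_num) (by norm_num)
                  linarith only [t, z03, ea04, eb04, ea34, eb34, hw0, hw3, hw4]
            · rcases Groth.Agent.Helper3.NumType.edge_casesT T h2 (by norm_num) (p := 2) (q := 4) (by decide) hp24 with e | e | e | e | e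
              · obtain ⟨ea24, eb24⟩ := e
                rcases eq_or_lt_of_le nn34 with z | hp34
                · have z34 : T.a 3 4 = 0 := z.symm
                  have hr0 : (-2) * T.m 0 + (1) * T.m 4 = 0 := by
                    have f4 : T.a 0 4 = T.w 0 := by linarith only [ea04, eb04]
                    have h : T.w 0 * ((-2) * T.m 0 + (1) * T.m 4) = 0 := by
                      rw [z01, z02, z03, f4] at r0
                      linarith only [r0]
                    rcases mul_eq_zero.mp h with h' | h'
                    · exfalso; linarith only [h', hw0]
                    · exact h'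
                  have hr1 : (-2) * T.m 1 + (1) * T.m 3 = 0 := by
                    have f3 : T.a 1 3 = T.w 1 := by linarith only [ea13, eb13]
                    have h : T.w 1 * ((-2) * T.m 1 + (1) * T.m 3) = 0 := by
                      rw [z01, z12, f3, z14] at r1
                      linarith only [r1]
                    rcases mul_eq_zero.mp h with h' | h'
                    · exfalso; linarith only [h', hw1]
                    · exact h'
                  have hr2 : (-2) * T.m 2 + (1) * T.m 3 + (1) * T.m 4 = 0 := by
                    have f3 : T.a 2 3 = T.w 2 := by linarith only [ea23, eb23]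
                    have f4 : T.a 2 4 = T.w 2 := by linarith only [ea24, eb24]
                    have h : T.w 2 * ((-2) * T.m 2 + (1) * T.m 3 + (1) * T.m 4) = 0 := by
                      rw [z02, z12, f3, f4] at r2
                      linarith only [r2]
                    rcases mul_eq_zero.mp h with h' | h'
                    · exfalso; linarith only [h', hw2]
                    · exact h'
                  have hr3 : (-2) * T.m 3 + (2) * T.m 1 + (1) * T.m 2 = 0 := by
                    have f1 : T.a 1 3 = 2 * T.w 3 := by linarith only [ea13, eb13]
                    have f2 : T.a 2 3 = T.w 3 := by linarith only [ea23, eb23]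
                    have h : T.w 3 * ((-2) * T.m 3 + (2) * T.m 1 + (1) * T.m 2) = 0 := by
                      rw [z03, f1, f2, z34] at r3
                      linarith only [r3]
                    rcases mul_eq_zero.mp h with h' | h'
                    · exfalso; linarith only [h', hw3]
                    · exact h'
                  have hr4 : (-2) * T.m 4 + (2) * T.m 0 + (1) * T.m 2 = 0 := by
                    have f0 : T.a 0 4 = 2 * T.w 4 := by linarith only [ea04, eb04]
                    have f2 : T.a 2 4 = T.w 4 := by linarith only [ea24, eb24]
                    have h : T.w 4 * ((-2) * T.m 4 + (2) * T.m 0 + (1) * T.m 2) = 0 := by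
                      rw [f0, z14, f2, z34] at r4
                      linarith only [r4]
                    rcases mul_eq_zero.mp h with h' | h'
                    · exfalso; linarith only [h', hw4]
                    · exact h'
                  have w0 : T.w 0 = 2 * T.w 2 := by linarith only [ea04, ea13, ea23, ea24]
                  have w1 : T.w 1 = 2 * T.w 2 := by linarith only [ea04, ea13, ea23, ea24]
                  have w3 : T.w 3 = T.w 2 := by linarith only [ea04, ea13, ea23, ea24]
                  have w4 : T.w 4 = T.w 2 := by linarith only [ea04, ea13, ea23, ea24]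
                  have a04 : T.a 0 4 = 2 * T.w 2 := by linarith only [ea04, eb04, ea13, eb13, ea23, eb23, ea24, eb24]
                  have a13 : T.a 1 3 = 2 * T.w 2 := by linarith only [ea04, eb04, ea13, eb13, ea23, eb23, ea24, eb24]
                  have a23 : T.a 2 3 = T.w 2 := by linarith only [ea04, eb04, ea13, eb13, ea23, eb23, ea24, eb24]
                  have a24 : T.a 2 4 = T.w 2 := by linarith only [ea04, eb04, ea13, eb13, ea23, eb23, ea24, eb24]
                  have m1 : T.m 1 = T.m 0 := by linarith only [hr0, hr1, hr2, hr3, hr4]
                  have m2 : T.m 2 = 2 * T.m 0 := by linarith only [hr0, hr1, hr2, hr3, hr4]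
                  have m3 : T.m 3 = 2 * T.m 0 := by linarith only [hr0, hr1, hr2, hr3, hr4]
                  have m4 : T.m 4 = 2 * T.m 0 := by linarith only [hr0, hr1, hr2, hr3, hr4]
                  refine ⟨Equiv.ofBijective ![0, 4, 2, 3, 1] (by decide), T.m 0, T.w 4, ?_⟩
                  simp only [Equiv.ofBijective_apply, Matrix.cons_val_zero, Matrix.cons_val_one, Matrix.cons_val]
                  refine Or.inr (Or.inr (Or.inr (Or.inr (Or.inr (Or.inl ⟨?_, ?_, ?_, ?_, ?_, ?_, ?_, ?_, ?_, ?_, ?_, ?_, ?_, ?_, ?_, ?_, ?_, ?_, ?_, ?_, ?_, ?_, ?_, ?_, ?_⟩)))))
                  all_goals first | rfl | trivial | linarith only [w0, w1, w3, w4, z01, z02, z03, a04, z12, a13, z14, a23, a24, z34, m1, m2, m3, m4, d0, d1, d2, d3, d4, s10, s20, s30, s40, s21, s31, s41, s32, s42, s43]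
                · rcases Groth.Agent.Helper3.NumType.edge_casesT T h2 (by norm_num) (p := 3) (q := 4) (by decide) hp34 with e | e | e | e | e
                  · obtain ⟨ea34, eb34⟩ := e
                    exfalso
                    have t := Groth.Agent.Helper3.NumType.QT5 T h2 0 0 1 1 1 (by norm_num) (by norm_num)
                    linarith only [t, ea23, eb23, ea24, eb24, ea34, eb34, hw2, hw3, hw4]
                  · obtain ⟨ea34, eb34⟩ := e
                    exfalso
                    have t := Groth.Agent.Helper3.NumType.QT5 T h2 1 0 0 2 2 (by norm_num) (by norm_num)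
                    linarith only [t, z03, ea04, eb04, ea34, eb34, hw0, hw3, hw4]
                  · obtain ⟨ea34, eb34⟩ := e
                    exfalso
                    have t := Groth.Agent.Helper3.NumType.QT5 T h2 1 0 0 1 2 (by norm_num) (by norm_num)
                    linarith only [t, z03, ea04, eb04, ea34, eb34, hw0, hw3, hw4]
                  · obtain ⟨ea34, eb34⟩ := e
                    exfalso
                    have t := Groth.Agent.Helper3.NumType.QT5 T h2 1 0 0 2 2 (by norm_num) (by norm_num)
                    linarith only [t, z03, ea04, eb04, ea34, eb34, hw0, hw3, hw4]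
                  · obtain ⟨ea34, eb34⟩ := e
                    exfalso
                    have t := Groth.Agent.Helper3.NumType.QT5 T h2 1 0 0 1 2 (by norm_num) (by norm_num)
                    linarith only [t, z03, ea04, eb04, ea34, eb34, hw0, hw3, hw4]
              · obtain ⟨ea24, eb24⟩ := e
                exfalso
                have t := Groth.Agent.Helper3.NumType.QT5 T h2 1 0 2 0 2 (by norm_num) (by norm_num)
                linarith only [t, z02, ea04, eb04, ea24, eb24, hw0, hw2, hw4]
              · obtain ⟨ea24, eb24⟩ := e
                exfalso
                have t := Groth.Agent.Helper3.NumType.QT5 T h2 1 0 1 0 2 (by norm_num) (by norm_num)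
                linarith only [t, z02, ea04, eb04, ea24, eb24, hw0, hw2, hw4]
              · obtain ⟨ea24, eb24⟩ := e
                exfalso
                have t := Groth.Agent.Helper3.NumType.QT5 T h2 1 0 2 0 2 (by norm_num) (by norm_num)
                linarith only [t, z02, ea04, eb04, ea24, eb24, hw0, hw2, hw4]
              · obtain ⟨ea24, eb24⟩ := e
                exfalso
                have t := Groth.Agent.Helper3.NumType.QT5 T h2 1 0 1 0 2 (by norm_num) (by norm_num)
                linarith only [t, z02, ea04, eb04, ea24, eb24, hw0, hw2, hw4]
          · obtain ⟨ea23, eb23⟩ := e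
            exfalso
            have t := Groth.Agent.Helper3.NumType.QT5 T h2 0 1 2 2 0 (by norm_num) (by norm_num)
            linarith only [t, z12, ea13, eb13, ea23, eb23, hw1, hw2, hw3]
          · obtain ⟨ea23, eb23⟩ := e
            exfalso
            have t := Groth.Agent.Helper3.NumType.QT5 T h2 0 1 1 2 0 (by norm_num) (by norm_num)
            linarith only [t, z12, ea13, eb13, ea23, eb23, hw1, hw2, hw3]
          · obtain ⟨ea23, eb23⟩ := e
            exfalso
            have t := Groth.Agent.Helper3.NumType.QT5 T h2 0 1 2 2 0 (by norm_num) (by norm_num)
            linarith only [t, z12, ea13, eb13, ea23, eb23, hw1, hw2, hw3]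
          · obtain ⟨ea23, eb23⟩ := e
            exfalso
            have t := Groth.Agent.Helper3.NumType.QT5 T h2 0 1 1 2 0 (by norm_num) (by norm_num)
            linarith only [t, z12, ea13, eb13, ea23, eb23, hw1, hw2, hw3]
      · rcases Groth.Agent.Helper3.NumType.edge_casesT T h2 (by norm_num) (p := 1) (q := 4) (by decide) hp14 with e | e | e | e | e
        · obtain ⟨ea14, eb14⟩ := e
          exfalso
          have t := Groth.Agent.Helper3.NumType.QT5 T h2 1 2 0 2 2 (by norm_num) (by norm_num)
          linarith only [t, z01, z03, ea04, eb04, ea13, eb13, ea14, eb14, nn34, hw0, hw1, hw3, hw4]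
        · obtain ⟨ea14, eb14⟩ := e
          exfalso
          have t := Groth.Agent.Helper3.NumType.QT5 T h2 1 2 0 0 2 (by norm_num) (by norm_num)
          linarith only [t, z01, ea04, eb04, ea14, eb14, hw0, hw1, hw4]
        · obtain ⟨ea14, eb14⟩ := e
          exfalso
          have t := Groth.Agent.Helper3.NumType.QT5 T h2 1 1 0 0 2 (by norm_num) (by norm_num)
          linarith only [t, z01, ea04, eb04, ea14, eb14, hw0, hw1, hw4]
        · obtain ⟨ea14, eb14⟩ := e
          exfalso
          have t := Groth.Agent.Helper3.NumType.QT5 T h2 1 2 0 0 2 (by norm_num) (by norm_num)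
          linarith only [t, z01, ea04, eb04, ea14, eb14, hw0, hw1, hw4]
        · obtain ⟨ea14, eb14⟩ := e
          exfalso
          have t := Groth.Agent.Helper3.NumType.QT5 T h2 1 1 0 0 2 (by norm_num) (by norm_num)
          linarith only [t, z01, ea04, eb04, ea14, eb14, hw0, hw1, hw4]
    · obtain ⟨ea13, eb13⟩ := e
      rcases eq_or_lt_of_le nn14 with z | hp14
      · have z14 : T.a 1 4 = 0 := z.symm
        rcases eq_or_lt_of_le nn23 with z | hp23
        · have z23 : T.a 2 3 = 0 := z.symm
          rcases eq_or_lt_of_le nn24 with z | hp24
          · have z24 : T.a 2 4 = 0 := z.symm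
            exfalso
            obtain ⟨i, hi, j, hj, hij⟩ := T.connected ({2} : Finset (Fin 5)) (by decide) (by decide)
            fin_cases i <;> fin_cases j <;> first | exact absurd hi (by decide) | exact hj (by decide) | (apply hij; first | exact s20.trans z02 | exact s21.trans z12 | exact z23 | exact z24)
          · rcases Groth.Agent.Helper3.NumType.edge_casesT T h2 (by norm_num) (p := 2) (q := 4) (by decide) hp24 with e | e | e | e | e
            · obtain ⟨ea24, eb24⟩ := e
              rcases eq_or_lt_of_le nn34 with z | hp34
              · have z34 : T.a 3 4 = 0 := z.symm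
                exfalso
                obtain ⟨i, hi, j, hj, hij⟩ := T.connected ({0, 2, 4} : Finset (Fin 5)) (by decide) (by decide)
                fin_cases i <;> fin_cases j <;> first | exact absurd hi (by decide) | exact hj (by decide) | (apply hij; first | exact z01 | exact z03 | exact s21.trans z12 | exact z23 | exact s41.trans z14 | exact s43.trans z34)
              · rcases Groth.Agent.Helper3.NumType.edge_casesT T h2 (by norm_num) (p := 3) (q := 4) (by decide) hp34 with e | e | e | e | e
                · obtain ⟨ea34, eb34⟩ := e
                  exfalso
                  have t := Groth.Agent.Helper3.NumType.QT5 T h2 0 3 0 2 1 (by norm_num) (by norm_num)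
                  linarith only [t, ea13, eb13, z14, ea34, eb34, hw1, hw3, hw4]
                · obtain ⟨ea34, eb34⟩ := e
                  exfalso
                  have t := Groth.Agent.Helper3.NumType.QT5 T h2 1 0 0 2 2 (by norm_num) (by norm_num)
                  linarith only [t, z03, ea04, eb04, ea34, eb34, hw0, hw3, hw4]
                · obtain ⟨ea34, eb34⟩ := e
                  exfalso
                  have t := Groth.Agent.Helper3.NumType.QT5 T h2 1 0 0 1 2 (by norm_num) (by norm_num)
                  linarith only [t, z03, ea04, eb04, ea34, eb34, hw0, hw3, hw4]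
                · obtain ⟨ea34, eb34⟩ := e
                  exfalso
                  have t := Groth.Agent.Helper3.NumType.QT5 T h2 1 0 0 2 2 (by norm_num) (by norm_num)
                  linarith only [t, z03, ea04, eb04, ea34, eb34, hw0, hw3, hw4]
                · obtain ⟨ea34, eb34⟩ := e
                  exfalso
                  have t := Groth.Agent.Helper3.NumType.QT5 T h2 1 0 0 1 2 (by norm_num) (by norm_num)
                  linarith only [t, z03, ea04, eb04, ea34, eb34, hw0, hw3, hw4]
            · obtain ⟨ea24, eb24⟩ := e
              exfalso
              have t := Groth.Agent.Helper3.NumType.QT5 T h2 1 0 2 0 2 (by norm_num) (by norm_num)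
              linarith only [t, z02, ea04, eb04, ea24, eb24, hw0, hw2, hw4]
            · obtain ⟨ea24, eb24⟩ := e
              exfalso
              have t := Groth.Agent.Helper3.NumType.QT5 T h2 1 0 1 0 2 (by norm_num) (by norm_num)
              linarith only [t, z02, ea04, eb04, ea24, eb24, hw0, hw2, hw4]
            · obtain ⟨ea24, eb24⟩ := e
              exfalso
              have t := Groth.Agent.Helper3.NumType.QT5 T h2 1 0 2 0 2 (by norm_num) (by norm_num)
              linarith only [t, z02, ea04, eb04, ea24, eb24, hw0, hw2, hw4]
            · obtain ⟨ea24, eb24⟩ := e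
              exfalso
              have t := Groth.Agent.Helper3.NumType.QT5 T h2 1 0 1 0 2 (by norm_num) (by norm_num)
              linarith only [t, z02, ea04, eb04, ea24, eb24, hw0, hw2, hw4]
        · rcases Groth.Agent.Helper3.NumType.edge_casesT T h2 (by norm_num) (p := 2) (q := 3) (by decide) hp23 with e | e | e | e | e
          · obtain ⟨ea23, eb23⟩ := e
            exfalso
            have t := Groth.Agent.Helper3.NumType.QT5 T h2 0 3 1 2 0 (by norm_num) (by norm_num)
            linarith only [t, z12, ea13, eb13, ea23, eb23, hw1, hw2, hw3]
          · obtain ⟨ea23, eb23⟩ := e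
            exfalso
            have t := Groth.Agent.Helper3.NumType.QT5 T h2 0 1 1 1 0 (by norm_num) (by norm_num)
            linarith only [t, z12, ea13, eb13, ea23, eb23, hw1, hw2, hw3]
          · obtain ⟨ea23, eb23⟩ := e
            exfalso
            have t := Groth.Agent.Helper3.NumType.QT5 T h2 0 2 1 2 0 (by norm_num) (by norm_num)
            linarith only [t, z12, ea13, eb13, ea23, eb23, hw1, hw2, hw3]
          · obtain ⟨ea23, eb23⟩ := e
            exfalso
            have t := Groth.Agent.Helper3.NumType.QT5 T h2 0 1 1 1 0 (by norm_num) (by norm_num)
            linarith only [t, z12, ea13, eb13, ea23, eb23, hw1, hw2, hw3]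
          · obtain ⟨ea23, eb23⟩ := e
            exfalso
            have t := Groth.Agent.Helper3.NumType.QT5 T h2 0 1 1 2 0 (by norm_num) (by norm_num)
            linarith only [t, z12, ea13, eb13, ea23, eb23, hw1, hw2, hw3]
      · rcases Groth.Agent.Helper3.NumType.edge_casesT T h2 (by norm_num) (p := 1) (q := 4) (by decide) hp14 with e | e | e | e | e
        · obtain ⟨ea14, eb14⟩ := e
          exfalso
          have t := Groth.Agent.Helper3.NumType.QT5 T h2 0 2 0 1 1 (by norm_num) (by norm_num)
          linarith only [t, ea13, eb13, ea14, eb14, nn34, hw1, hw3, hw4]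
        · obtain ⟨ea14, eb14⟩ := e
          exfalso
          have t := Groth.Agent.Helper3.NumType.QT5 T h2 1 2 0 0 2 (by norm_num) (by norm_num)
          linarith only [t, z01, ea04, eb04, ea14, eb14, hw0, hw1, hw4]
        · obtain ⟨ea14, eb14⟩ := e
          exfalso
          have t := Groth.Agent.Helper3.NumType.QT5 T h2 1 1 0 0 2 (by norm_num) (by norm_num)
          linarith only [t, z01, ea04, eb04, ea14, eb14, hw0, hw1, hw4]
        · obtain ⟨ea14, eb14⟩ := e
          exfalso
          have t := Groth.Agent.Helper3.NumType.QT5 T h2 1 2 0 0 2 (by norm_num) (by norm_num)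
          linarith only [t, z01, ea04, eb04, ea14, eb14, hw0, hw1, hw4]
        · obtain ⟨ea14, eb14⟩ := e
          exfalso
          have t := Groth.Agent.Helper3.NumType.QT5 T h2 1 1 0 0 2 (by norm_num) (by norm_num)
          linarith only [t, z01, ea04, eb04, ea14, eb14, hw0, hw1, hw4]
    · obtain ⟨ea13, eb13⟩ := e
      rcases eq_or_lt_of_le nn14 with z | hp14
      · have z14 : T.a 1 4 = 0 := z.symm
        rcases eq_or_lt_of_le nn23 with z | hp23
        · have z23 : T.a 2 3 = 0 := z.symm
          rcases eq_or_lt_of_le nn24 with z | hp24
          · have z24 : T.a 2 4 = 0 := z.symm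
            exfalso
            obtain ⟨i, hi, j, hj, hij⟩ := T.connected ({2} : Finset (Fin 5)) (by decide) (by decide)
            fin_cases i <;> fin_cases j <;> first | exact absurd hi (by decide) | exact hj (by decide) | (apply hij; first | exact s20.trans z02 | exact s21.trans z12 | exact z23 | exact z24)
          · rcases Groth.Agent.Helper3.NumType.edge_casesT T h2 (by norm_num) (p := 2) (q := 4) (by decide) hp24 with e | e | e | e | e
            · obtain ⟨ea24, eb24⟩ := e
              rcases eq_or_lt_of_le nn34 with z | hp34
              · have z34 : T.a 3 4 = 0 := z.symm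
                exfalso
                obtain ⟨i, hi, j, hj, hij⟩ := T.connected ({0, 2, 4} : Finset (Fin 5)) (by decide) (by decide)
                fin_cases i <;> fin_cases j <;> first | exact absurd hi (by decide) | exact hj (by decide) | (apply hij; first | exact z01 | exact z03 | exact s21.trans z12 | exact z23 | exact s41.trans z14 | exact s43.trans z34)
              · rcases Groth.Agent.Helper3.NumType.edge_casesT T h2 (by norm_num) (p := 3) (q := 4) (by decide) hp34 with e | e | e | e | e
                · obtain ⟨ea34, eb34⟩ := e
                  exfalso
                  have t := Groth.Agent.Helper3.NumType.QT5 T h2 0 1 0 2 1 (by norm_num) (by norm_num)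
                  linarith only [t, ea13, eb13, z14, ea34, eb34, hw1, hw3, hw4]
                · obtain ⟨ea34, eb34⟩ := e
                  exfalso
                  have t := Groth.Agent.Helper3.NumType.QT5 T h2 1 0 0 2 2 (by norm_num) (by norm_num)
                  linarith only [t, z03, ea04, eb04, ea34, eb34, hw0, hw3, hw4]
                · obtain ⟨ea34, eb34⟩ := e
                  exfalso
                  have t := Groth.Agent.Helper3.NumType.QT5 T h2 1 0 0 1 2 (by norm_num) (by norm_num)
                  linarith only [t, z03, ea04, eb04, ea34, eb34, hw0, hw3, hw4]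
                · obtain ⟨ea34, eb34⟩ := e
                  exfalso
                  have t := Groth.Agent.Helper3.NumType.QT5 T h2 1 0 0 2 2 (by norm_num) (by norm_num)
                  linarith only [t, z03, ea04, eb04, ea34, eb34, hw0, hw3, hw4]
                · obtain ⟨ea34, eb34⟩ := e
                  exfalso
                  have t := Groth.Agent.Helper3.NumType.QT5 T h2 1 0 0 1 2 (by norm_num) (by norm_num)
                  linarith only [t, z03, ea04, eb04, ea34, eb34, hw0, hw3, hw4]
            · obtain ⟨ea24, eb24⟩ := e
              exfalso
              have t := Groth.Agent.Helper3.NumType.QT5 T h2 1 0 2 0 2 (by norm_num) (by norm_num)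
              linarith only [t, z02, ea04, eb04, ea24, eb24, hw0, hw2, hw4]
            · obtain ⟨ea24, eb24⟩ := e
              exfalso
              have t := Groth.Agent.Helper3.NumType.QT5 T h2 1 0 1 0 2 (by norm_num) (by norm_num)
              linarith only [t, z02, ea04, eb04, ea24, eb24, hw0, hw2, hw4]
            · obtain ⟨ea24, eb24⟩ := e
              exfalso
              have t := Groth.Agent.Helper3.NumType.QT5 T h2 1 0 2 0 2 (by norm_num) (by norm_num)
              linarith only [t, z02, ea04, eb04, ea24, eb24, hw0, hw2, hw4]
            · obtain ⟨ea24, eb24⟩ := e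
              exfalso
              have t := Groth.Agent.Helper3.NumType.QT5 T h2 1 0 1 0 2 (by norm_num) (by norm_num)
              linarith only [t, z02, ea04, eb04, ea24, eb24, hw0, hw2, hw4]
        · rcases Groth.Agent.Helper3.NumType.edge_casesT T h2 (by norm_num) (p := 2) (q := 3) (by decide) hp23 with e | e | e | e | e
          · obtain ⟨ea23, eb23⟩ := e
            exfalso
            have t := Groth.Agent.Helper3.NumType.QT5 T h2 0 1 1 2 0 (by norm_num) (by norm_num)
            linarith only [t, z12, ea13, eb13, ea23, eb23, hw1, hw2, hw3]
          · obtain ⟨ea23, eb23⟩ := e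
            exfalso
            have t := Groth.Agent.Helper3.NumType.QT5 T h2 0 1 1 2 0 (by norm_num) (by norm_num)
            linarith only [t, z12, ea13, eb13, ea23, eb23, hw1, hw2, hw3]
          · obtain ⟨ea23, eb23⟩ := e
            exfalso
            have t := Groth.Agent.Helper3.NumType.QT5 T h2 0 1 1 2 0 (by norm_num) (by norm_num)
            linarith only [t, z12, ea13, eb13, ea23, eb23, hw1, hw2, hw3]
          · obtain ⟨ea23, eb23⟩ := e
            exfalso
            have t := Groth.Agent.Helper3.NumType.QT5 T h2 0 1 1 2 0 (by norm_num) (by norm_num)
            linarith only [t, z12, ea13, eb13, ea23, eb23, hw1, hw2, hw3]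
          · obtain ⟨ea23, eb23⟩ := e
            exfalso
            have t := Groth.Agent.Helper3.NumType.QT5 T h2 0 1 1 2 0 (by norm_num) (by norm_num)
            linarith only [t, z12, ea13, eb13, ea23, eb23, hw1, hw2, hw3]
      · rcases Groth.Agent.Helper3.NumType.edge_casesT T h2 (by norm_num) (p := 1) (q := 4) (by decide) hp14 with e | e | e | e | e
        · obtain ⟨ea14, eb14⟩ := e
          exfalso
          have t := Groth.Agent.Helper3.NumType.QT5 T h2 0 2 0 3 1 (by norm_num) (by norm_num)
          linarith only [t, ea13, eb13, ea14, eb14, nn34, hw1, hw3, hw4]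
        · obtain ⟨ea14, eb14⟩ := e
          exfalso
          have t := Groth.Agent.Helper3.NumType.QT5 T h2 1 2 0 0 2 (by norm_num) (by norm_num)
          linarith only [t, z01, ea04, eb04, ea14, eb14, hw0, hw1, hw4]
        · obtain ⟨ea14, eb14⟩ := e
          exfalso
          have t := Groth.Agent.Helper3.NumType.QT5 T h2 1 1 0 0 2 (by norm_num) (by norm_num)
          linarith only [t, z01, ea04, eb04, ea14, eb14, hw0, hw1, hw4]
        · obtain ⟨ea14, eb14⟩ := e
          exfalso
          have t := Groth.Agent.Helper3.NumType.QT5 T h2 1 2 0 0 2 (by norm_num) (by norm_num)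
          linarith only [t, z01, ea04, eb04, ea14, eb14, hw0, hw1, hw4]
        · obtain ⟨ea14, eb14⟩ := e
          exfalso
          have t := Groth.Agent.Helper3.NumType.QT5 T h2 1 1 0 0 2 (by norm_num) (by norm_num)
          linarith only [t, z01, ea04, eb04, ea14, eb14, hw0, hw1, hw4]

theorem g5_ZZZD2E (T : Models.NumericalType 5) (h2 : ∀ i, T.IsMinusTwo i) (z01 : T.a 0 1 = 0) (z02 : T.a 0 2 = 0) (z03 : T.a 0 3 = 0) (hp04 : 0 < T.a 0 4) (ea04 : T.w 0 = 2 * T.w 4) (eb04 : T.a 0 4 = 2 * T.w 4) (hp12 : 0 < T.a 1 2) (ea12 : T.w 2 = T.w 1) (eb12 : T.a 1 2 = T.w 1) :
    Goal5 T := by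
  unfold Goal5
  have hw0 := T.w_pos 0
  have hm0 := T.m_pos 0
  have d0 := (h2 0).2
  have r0 := Groth.Agent.Helper3.NumType.RT5_0 T h2
  have hw1 := T.w_pos 1
  have hm1 := T.m_pos 1
  have d1 := (h2 1).2
  have r1 := Groth.Agent.Helper3.NumType.RT5_1 T h2
  have hw2 := T.w_pos 2
  have hm2 := T.m_pos 2
  have d2 := (h2 2).2
  have r2 := Groth.Agent.Helper3.NumType.RT5_2 T h2
  have hw3 := T.w_pos 3
  have hm3 := T.m_pos 3
  have d3 := (h2 3).2
  have r3 := Groth.Agent.Helper3.NumType.RT5_3 T h2
  have hw4 := T.w_pos 4
  have hm4 := T.m_pos 4
  have d4 := (h2 4).2
  have r4 := Groth.Agent.Helper3.NumType.RT5_4 T h2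
  have nn01 := T.offDiag_nonneg 0 1 (by decide)
  have s10 := Groth.Agent.Helper3.NumType.a_symm T 1 0
  have nn02 := T.offDiag_nonneg 0 2 (by decide)
  have s20 := Groth.Agent.Helper3.NumType.a_symm T 2 0
  have nn03 := T.offDiag_nonneg 0 3 (by decide)
  have s30 := Groth.Agent.Helper3.NumType.a_symm T 3 0
  have nn04 := T.offDiag_nonneg 0 4 (by decide)
  have s40 := Groth.Agent.Helper3.NumType.a_symm T 4 0
  have nn12 := T.offDiag_nonneg 1 2 (by decide)
  have s21 := Groth.Agent.Helper3.NumType.a_symm T 2 1
  have nn13 := T.offDiag_nonneg 1 3 (by decide)
  have s31 := Groth.Agent.Helper3.NumType.a_symm T 3 1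
  have nn14 := T.offDiag_nonneg 1 4 (by decide)
  have s41 := Groth.Agent.Helper3.NumType.a_symm T 4 1
  have nn23 := T.offDiag_nonneg 2 3 (by decide)
  have s32 := Groth.Agent.Helper3.NumType.a_symm T 3 2
  have nn24 := T.offDiag_nonneg 2 4 (by decide)
  have s42 := Groth.Agent.Helper3.NumType.a_symm T 4 2
  have nn34 := T.offDiag_nonneg 3 4 (by decide)
  have s43 := Groth.Agent.Helper3.NumType.a_symm T 4 3
  rcases eq_or_lt_of_le nn13 with z | hp13
  · have z13 : T.a 1 3 = 0 := z.symm
    rcases eq_or_lt_of_le nn14 with z | hp14
    · have z14 : T.a 1 4 = 0 := z.symm
      rcases eq_or_lt_of_le nn23 with z | hp23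
      · have z23 : T.a 2 3 = 0 := z.symm
        rcases eq_or_lt_of_le nn24 with z | hp24
        · have z24 : T.a 2 4 = 0 := z.symm
          exfalso
          obtain ⟨i, hi, j, hj, hij⟩ := T.connected ({1, 2} : Finset (Fin 5)) (by decide) (by decide)
          fin_cases i <;> fin_cases j <;> first | exact absurd hi (by decide) | exact hj (by decide) | (apply hij; first | exact s10.trans z01 | exact z13 | exact z14 | exact s20.trans z02 | exact z23 | exact z24)
        · rcases Groth.Agent.Helper3.NumType.edge_casesT T h2 (by norm_num) (p := 2) (q := 4) (by decide) hp24 with e | e | e | e | e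
          · obtain ⟨ea24, eb24⟩ := e
            rcases eq_or_lt_of_le nn34 with z | hp34
            · have z34 : T.a 3 4 = 0 := z.symm
              exfalso
              obtain ⟨i, hi, j, hj, hij⟩ := T.connected ({0, 1, 2, 4} : Finset (Fin 5)) (by decide) (by decide)
              fin_cases i <;> fin_cases j <;> first | exact absurd hi (by decide) | exact hj (by decide) | (apply hij; first | exact z03 | exact z13 | exact z23 | exact s43.trans z34)
            · rcases Groth.Agent.Helper3.NumType.edge_casesT T h2 (by norm_num) (p := 3) (q := 4) (by decide) hp34 with e | e | e | e | e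
              · obtain ⟨ea34, eb34⟩ := e
                exfalso
                have t := Groth.Agent.Helper3.NumType.QT5 T h2 1 0 1 1 2 (by norm_num) (by norm_num)
                linarith only [t, z02, z03, ea04, eb04, z23, ea24, eb24, ea34, eb34, hw0, hw2, hw3, hw4]
              · obtain ⟨ea34, eb34⟩ := e
                exfalso
                have t := Groth.Agent.Helper3.NumType.QT5 T h2 1 0 0 2 2 (by norm_num) (by norm_num)
                linarith only [t, z03, ea04, eb04, ea34, eb34, hw0, hw3, hw4]
              · obtain ⟨ea34, eb34⟩ := e
                exfalso
                have t := Groth.Agent.Helper3.NumType.QT5 T h2 1 0 0 1 2 (by norm_num) (by norm_num)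
                linarith only [t, z03, ea04, eb04, ea34, eb34, hw0, hw3, hw4]
              · obtain ⟨ea34, eb34⟩ := e
                exfalso
                have t := Groth.Agent.Helper3.NumType.QT5 T h2 1 0 0 2 2 (by norm_num) (by norm_num)
                linarith only [t, z03, ea04, eb04, ea34, eb34, hw0, hw3, hw4]
              · obtain ⟨ea34, eb34⟩ := e
                exfalso
                have t := Groth.Agent.Helper3.NumType.QT5 T h2 1 0 0 1 2 (by norm_num) (by norm_num)
                linarith only [t, z03, ea04, eb04, ea34, eb34, hw0, hw3, hw4]
          · obtain ⟨ea24, eb24⟩ := e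
            exfalso
            have t := Groth.Agent.Helper3.NumType.QT5 T h2 1 0 2 0 2 (by norm_num) (by norm_num)
            linarith only [t, z02, ea04, eb04, ea24, eb24, hw0, hw2, hw4]
          · obtain ⟨ea24, eb24⟩ := e
            exfalso
            have t := Groth.Agent.Helper3.NumType.QT5 T h2 1 0 1 0 2 (by norm_num) (by norm_num)
            linarith only [t, z02, ea04, eb04, ea24, eb24, hw0, hw2, hw4]
          · obtain ⟨ea24, eb24⟩ := e
            exfalso
            have t := Groth.Agent.Helper3.NumType.QT5 T h2 1 0 2 0 2 (by norm_num) (by norm_num)
            linarith only [t, z02, ea04, eb04, ea24, eb24, hw0, hw2, hw4]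
          · obtain ⟨ea24, eb24⟩ := e
            exfalso
            have t := Groth.Agent.Helper3.NumType.QT5 T h2 1 0 1 0 2 (by norm_num) (by norm_num)
            linarith only [t, z02, ea04, eb04, ea24, eb24, hw0, hw2, hw4]
      · rcases Groth.Agent.Helper3.NumType.edge_casesT T h2 (by norm_num) (p := 2) (q := 3) (by decide) hp23 with e | e | e | e | e
        · obtain ⟨ea23, eb23⟩ := e
          rcases eq_or_lt_of_le nn24 with z | hp24
          · have z24 : T.a 2 4 = 0 := z.symm
            rcases eq_or_lt_of_le nn34 with z | hp34
            · have z34 : T.a 3 4 = 0 := z.symm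
              exfalso
              obtain ⟨i, hi, j, hj, hij⟩ := T.connected ({0, 4} : Finset (Fin 5)) (by decide) (by decide)
              fin_cases i <;> fin_cases j <;> first | exact absurd hi (by decide) | exact hj (by decide) | (apply hij; first | exact z01 | exact z02 | exact z03 | exact s41.trans z14 | exact s42.trans z24 | exact s43.trans z34)
            · rcases Groth.Agent.Helper3.NumType.edge_casesT T h2 (by norm_num) (p := 3) (q := 4) (by decide) hp34 with e | e | e | e | e
              · obtain ⟨ea34, eb34⟩ := e
                have hr0 : (-2) * T.m 0 + (1) * T.m 4 = 0 := by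
                  have f4 : T.a 0 4 = T.w 0 := by linarith only [ea04, eb04]
                  have h : T.w 0 * ((-2) * T.m 0 + (1) * T.m 4) = 0 := by
                    rw [z01, z02, z03, f4] at r0
                    linarith only [r0]
                  rcases mul_eq_zero.mp h with h' | h'
                  · exfalso; linarith only [h', hw0]
                  · exact h'
                have hr1 : (-2) * T.m 1 + (1) * T.m 2 = 0 := by
                  have f2 : T.a 1 2 = T.w 1 := by linarith only [ea12, eb12]
                  have h : T.w 1 * ((-2) * T.m 1 + (1) * T.m 2) = 0 := by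
                    rw [z01, f2, z13, z14] at r1
                    linarith only [r1]
                  rcases mul_eq_zero.mp h with h' | h'
                  · exfalso; linarith only [h', hw1]
                  · exact h'
                have hr2 : (-2) * T.m 2 + (1) * T.m 1 + (1) * T.m 3 = 0 := by
                  have f1 : T.a 1 2 = T.w 2 := by linarith only [ea12, eb12]
                  have f3 : T.a 2 3 = T.w 2 := by linarith only [ea23, eb23]
                  have h : T.w 2 * ((-2) * T.m 2 + (1) * T.m 1 + (1) * T.m 3) = 0 := by
                    rw [z02, f1, f3, z24] at r2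
                    linarith only [r2]
                  rcases mul_eq_zero.mp h with h' | h'
                  · exfalso; linarith only [h', hw2]
                  · exact h'
                have hr3 : (-2) * T.m 3 + (1) * T.m 2 + (1) * T.m 4 = 0 := by
                  have f2 : T.a 2 3 = T.w 3 := by linarith only [ea23, eb23]
                  have f4 : T.a 3 4 = T.w 3 := by linarith only [ea34, eb34]
                  have h : T.w 3 * ((-2) * T.m 3 + (1) * T.m 2 + (1) * T.m 4) = 0 := by
                    rw [z03, z13, f2, f4] at r3
                    linarith only [r3]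
                  rcases mul_eq_zero.mp h with h' | h'
                  · exfalso; linarith only [h', hw3]
                  · exact h'
                have hr4 : (-2) * T.m 4 + (2) * T.m 0 + (1) * T.m 3 = 0 := by
                  have f0 : T.a 0 4 = 2 * T.w 4 := by linarith only [ea04, eb04]
                  have f3 : T.a 3 4 = T.w 4 := by linarith only [ea34, eb34]
                  have h : T.w 4 * ((-2) * T.m 4 + (2) * T.m 0 + (1) * T.m 3) = 0 := by
                    rw [f0, z14, z24, f3] at r4
                    linarith only [r4]
                  rcases mul_eq_zero.mp h with h' | h'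
                  · exfalso; linarith only [h', hw4]
                  · exact h'
                exfalso
                linarith only [hr0, hr1, hr2, hr3, hr4, hm0, hm1, hm2, hm3, hm4]
              · obtain ⟨ea34, eb34⟩ := e
                exfalso
                have t := Groth.Agent.Helper3.NumType.QT5 T h2 1 0 0 2 2 (by norm_num) (by norm_num)
                linarith only [t, z03, ea04, eb04, ea34, eb34, hw0, hw3, hw4]
              · obtain ⟨ea34, eb34⟩ := e
                exfalso
                have t := Groth.Agent.Helper3.NumType.QT5 T h2 1 0 0 1 2 (by norm_num) (by norm_num)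
                linarith only [t, z03, ea04, eb04, ea34, eb34, hw0, hw3, hw4]
              · obtain ⟨ea34, eb34⟩ := e
                exfalso
                have t := Groth.Agent.Helper3.NumType.QT5 T h2 1 0 0 2 2 (by norm_num) (by norm_num)
                linarith only [t, z03, ea04, eb04, ea34, eb34, hw0, hw3, hw4]
              · obtain ⟨ea34, eb34⟩ := e
                exfalso
                have t := Groth.Agent.Helper3.NumType.QT5 T h2 1 0 0 1 2 (by norm_num) (by norm_num)
                linarith only [t, z03, ea04, eb04, ea34, eb34, hw0, hw3, hw4]
          · rcases Groth.Agent.Helper3.NumType.edge_casesT T h2 (by norm_num) (p := 2) (q := 4) (by decide) hp24 with e | e | e | e | e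
            · obtain ⟨ea24, eb24⟩ := e
              rcases eq_or_lt_of_le nn34 with z | hp34
              · have z34 : T.a 3 4 = 0 := z.symm
                have hr0 : (-2) * T.m 0 + (1) * T.m 4 = 0 := by
                  have f4 : T.a 0 4 = T.w 0 := by linarith only [ea04, eb04]
                  have h : T.w 0 * ((-2) * T.m 0 + (1) * T.m 4) = 0 := by
                    rw [z01, z02, z03, f4] at r0
                    linarith only [r0]
                  rcases mul_eq_zero.mp h with h' | h'
                  · exfalso; linarith only [h', hw0]
                  · exact h'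
                have hr1 : (-2) * T.m 1 + (1) * T.m 2 = 0 := by
                  have f2 : T.a 1 2 = T.w 1 := by linarith only [ea12, eb12]
                  have h : T.w 1 * ((-2) * T.m 1 + (1) * T.m 2) = 0 := by
                    rw [z01, f2, z13, z14] at r1
                    linarith only [r1]
                  rcases mul_eq_zero.mp h with h' | h'
                  · exfalso; linarith only [h', hw1]
                  · exact h'
                have hr2 : (-2) * T.m 2 + (1) * T.m 1 + (1) * T.m 3 + (1) * T.m 4 = 0 := by
                  have f1 : T.a 1 2 = T.w 2 := by linarith only [ea12, eb12]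
                  have f3 : T.a 2 3 = T.w 2 := by linarith only [ea23, eb23]
                  have f4 : T.a 2 4 = T.w 2 := by linarith only [ea24, eb24]
                  have h : T.w 2 * ((-2) * T.m 2 + (1) * T.m 1 + (1) * T.m 3 + (1) * T.m 4) = 0 := by
                    rw [z02, f1, f3, f4] at r2
                    linarith only [r2]
                  rcases mul_eq_zero.mp h with h' | h'
                  · exfalso; linarith only [h', hw2]
                  · exact h'
                have hr3 : (-2) * T.m 3 + (1) * T.m 2 = 0 := by
                  have f2 : T.a 2 3 = T.w 3 := by linarith only [ea23, eb23]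
                  have h : T.w 3 * ((-2) * T.m 3 + (1) * T.m 2) = 0 := by
                    rw [z03, z13, f2, z34] at r3
                    linarith only [r3]
                  rcases mul_eq_zero.mp h with h' | h'
                  · exfalso; linarith only [h', hw3]
                  · exact h'
                have hr4 : (-2) * T.m 4 + (2) * T.m 0 + (1) * T.m 2 = 0 := by
                  have f0 : T.a 0 4 = 2 * T.w 4 := by linarith only [ea04, eb04]
                  have f2 : T.a 2 4 = T.w 4 := by linarith only [ea24, eb24]
                  have h : T.w 4 * ((-2) * T.m 4 + (2) * T.m 0 + (1) * T.m 2) = 0 := by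
                    rw [f0, z14, f2, z34] at r4
                    linarith only [r4]
                  rcases mul_eq_zero.mp h with h' | h'
                  · exfalso; linarith only [h', hw4]
                  · exact h'
                have w0 : T.w 0 = 2 * T.w 1 := by linarith only [ea04, ea12, ea23, ea24]
                have w2 : T.w 2 = T.w 1 := by linarith only [ea04, ea12, ea23, ea24]
                have w3 : T.w 3 = T.w 1 := by linarith only [ea04, ea12, ea23, ea24]
                have w4 : T.w 4 = T.w 1 := by linarith only [ea04, ea12, ea23, ea24]
                have a04 : T.a 0 4 = 2 * T.w 1 := by linarith only [ea04, eb04, ea12, eb12, ea23, eb23, ea24, eb24]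
                have a12 : T.a 1 2 = T.w 1 := by linarith only [ea04, eb04, ea12, eb12, ea23, eb23, ea24, eb24]
                have a23 : T.a 2 3 = T.w 1 := by linarith only [ea04, eb04, ea12, eb12, ea23, eb23, ea24, eb24]
                have a24 : T.a 2 4 = T.w 1 := by linarith only [ea04, eb04, ea12, eb12, ea23, eb23, ea24, eb24]
                have m1 : T.m 1 = T.m 0 := by linarith only [hr0, hr1, hr2, hr3, hr4]
                have m2 : T.m 2 = 2 * T.m 0 := by linarith only [hr0, hr1, hr2, hr3, hr4]
                have m3 : T.m 3 = T.m 0 := by linarith only [hr0, hr1, hr2, hr3, hr4]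
                have m4 : T.m 4 = 2 * T.m 0 := by linarith only [hr0, hr1, hr2, hr3, hr4]
                refine ⟨Equiv.ofBijective ![0, 4, 2, 1, 3] (by decide), T.m 0, T.w 4, ?_⟩
                simp only [Equiv.ofBijective_apply, Matrix.cons_val_zero, Matrix.cons_val_one, Matrix.cons_val]
                refine Or.inr (Or.inr (Or.inr (Or.inr (Or.inr (Or.inr (Or.inr (Or.inl ⟨?_, ?_, ?_, ?_, ?_, ?_, ?_, ?_, ?_, ?_, ?_, ?_, ?_, ?_, ?_, ?_, ?_, ?_, ?_, ?_, ?_, ?_, ?_, ?_, ?_⟩)))))))
                all_goals first | rfl | trivial | linarith only [w0, w2, w3, w4, z01, z02, z03, a04, a12, z13, z14, a23, a24, z34, m1, m2, m3, m4, d0, d1, d2, d3, d4, s10, s20, s30, s40, s21, s31, s41, s32, s42, s43]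
              · rcases Groth.Agent.Helper3.NumType.edge_casesT T h2 (by norm_num) (p := 3) (q := 4) (by decide) hp34 with e | e | e | e | e
                · obtain ⟨ea34, eb34⟩ := e
                  exfalso
                  have t := Groth.Agent.Helper3.NumType.QT5 T h2 0 0 1 1 1 (by norm_num) (by norm_num)
                  linarith only [t, ea23, eb23, ea24, eb24, ea34, eb34, hw2, hw3, hw4]
                · obtain ⟨ea34, eb34⟩ := e
                  exfalso
                  have t := Groth.Agent.Helper3.NumType.QT5 T h2 1 0 0 2 2 (by norm_num) (by norm_num)
                  linarith only [t, z03, ea04, eb04, ea34, eb34, hw0, hw3, hw4]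
                · obtain ⟨ea34, eb34⟩ := e
                  exfalso
                  have t := Groth.Agent.Helper3.NumType.QT5 T h2 1 0 0 1 2 (by norm_num) (by norm_num)
                  linarith only [t, z03, ea04, eb04, ea34, eb34, hw0, hw3, hw4]
                · obtain ⟨ea34, eb34⟩ := e
                  exfalso
                  have t := Groth.Agent.Helper3.NumType.QT5 T h2 1 0 0 2 2 (by norm_num) (by norm_num)
                  linarith only [t, z03, ea04, eb04, ea34, eb34, hw0, hw3, hw4]
                · obtain ⟨ea34, eb34⟩ := e
                  exfalso
                  have t := Groth.Agent.Helper3.NumType.QT5 T h2 1 0 0 1 2 (by norm_num) (by norm_num)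
                  linarith only [t, z03, ea04, eb04, ea34, eb34, hw0, hw3, hw4]
            · obtain ⟨ea24, eb24⟩ := e
              exfalso
              have t := Groth.Agent.Helper3.NumType.QT5 T h2 1 0 2 0 2 (by norm_num) (by norm_num)
              linarith only [t, z02, ea04, eb04, ea24, eb24, hw0, hw2, hw4]
            · obtain ⟨ea24, eb24⟩ := e
              exfalso
              have t := Groth.Agent.Helper3.NumType.QT5 T h2 1 0 1 0 2 (by norm_num) (by norm_num)
              linarith only [t, z02, ea04, eb04, ea24, eb24, hw0, hw2, hw4]
            · obtain ⟨ea24, eb24⟩ := e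
              exfalso
              have t := Groth.Agent.Helper3.NumType.QT5 T h2 1 0 2 0 2 (by norm_num) (by norm_num)
              linarith only [t, z02, ea04, eb04, ea24, eb24, hw0, hw2, hw4]
            · obtain ⟨ea24, eb24⟩ := e
              exfalso
              have t := Groth.Agent.Helper3.NumType.QT5 T h2 1 0 1 0 2 (by norm_num) (by norm_num)
              linarith only [t, z02, ea04, eb04, ea24, eb24, hw0, hw2, hw4]
        · obtain ⟨ea23, eb23⟩ := e
          rcases eq_or_lt_of_le nn24 with z | hp24
          · have z24 : T.a 2 4 = 0 := z.symm
            rcases eq_or_lt_of_le nn34 with z | hp34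
            · have z34 : T.a 3 4 = 0 := z.symm
              exfalso
              obtain ⟨i, hi, j, hj, hij⟩ := T.connected ({0, 4} : Finset (Fin 5)) (by decide) (by decide)
              fin_cases i <;> fin_cases j <;> first | exact absurd hi (by decide) | exact hj (by decide) | (apply hij; first | exact z01 | exact z02 | exact z03 | exact s41.trans z14 | exact s42.trans z24 | exact s43.trans z34)
            · rcases Groth.Agent.Helper3.NumType.edge_casesT T h2 (by norm_num) (p := 3) (q := 4) (by decide) hp34 with e | e | e | e | e
              · obtain ⟨ea34, eb34⟩ := e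
                exfalso
                have t := Groth.Agent.Helper3.NumType.QT5 T h2 1 0 2 2 2 (by norm_num) (by norm_num)
                linarith only [t, z02, z03, ea04, eb04, ea23, eb23, z24, ea34, eb34, hw0, hw2, hw3, hw4]
              · obtain ⟨ea34, eb34⟩ := e
                exfalso
                have t := Groth.Agent.Helper3.NumType.QT5 T h2 1 0 0 2 2 (by norm_num) (by norm_num)
                linarith only [t, z03, ea04, eb04, ea34, eb34, hw0, hw3, hw4]
              · obtain ⟨ea34, eb34⟩ := e
                exfalso
                have t := Groth.Agent.Helper3.NumType.QT5 T h2 1 0 0 1 2 (by norm_num) (by norm_num)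
                linarith only [t, z03, ea04, eb04, ea34, eb34, hw0, hw3, hw4]
              · obtain ⟨ea34, eb34⟩ := e
                exfalso
                have t := Groth.Agent.Helper3.NumType.QT5 T h2 1 0 0 2 2 (by norm_num) (by norm_num)
                linarith only [t, z03, ea04, eb04, ea34, eb34, hw0, hw3, hw4]
              · obtain ⟨ea34, eb34⟩ := e
                exfalso
                have t := Groth.Agent.Helper3.NumType.QT5 T h2 1 0 0 1 2 (by norm_num) (by norm_num)
                linarith only [t, z03, ea04, eb04, ea34, eb34, hw0, hw3, hw4]
          · rcases Groth.Agent.Helper3.NumType.edge_casesT T h2 (by norm_num) (p := 2) (q := 4) (by decide) hp24 with e | e | e | e | e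
            · obtain ⟨ea24, eb24⟩ := e
              exfalso
              have t := Groth.Agent.Helper3.NumType.QT5 T h2 1 0 2 1 2 (by norm_num) (by norm_num)
              linarith only [t, z02, z03, ea04, eb04, ea23, eb23, ea24, eb24, nn34, hw0, hw2, hw3, hw4]
            · obtain ⟨ea24, eb24⟩ := e
              exfalso
              have t := Groth.Agent.Helper3.NumType.QT5 T h2 1 0 2 0 2 (by norm_num) (by norm_num)
              linarith only [t, z02, ea04, eb04, ea24, eb24, hw0, hw2, hw4]
            · obtain ⟨ea24, eb24⟩ := e
              exfalso
              have t := Groth.Agent.Helper3.NumType.QT5 T h2 1 0 1 0 2 (by norm_num) (by norm_num)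
              linarith only [t, z02, ea04, eb04, ea24, eb24, hw0, hw2, hw4]
            · obtain ⟨ea24, eb24⟩ := e
              exfalso
              have t := Groth.Agent.Helper3.NumType.QT5 T h2 1 0 2 0 2 (by norm_num) (by norm_num)
              linarith only [t, z02, ea04, eb04, ea24, eb24, hw0, hw2, hw4]
            · obtain ⟨ea24, eb24⟩ := e
              exfalso
              have t := Groth.Agent.Helper3.NumType.QT5 T h2 1 0 1 0 2 (by norm_num) (by norm_num)
              linarith only [t, z02, ea04, eb04, ea24, eb24, hw0, hw2, hw4]
        · obtain ⟨ea23, eb23⟩ := e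
          rcases eq_or_lt_of_le nn24 with z | hp24
          · have z24 : T.a 2 4 = 0 := z.symm
            rcases eq_or_lt_of_le nn34 with z | hp34
            · have z34 : T.a 3 4 = 0 := z.symm
              exfalso
              obtain ⟨i, hi, j, hj, hij⟩ := T.connected ({0, 4} : Finset (Fin 5)) (by decide) (by decide)
              fin_cases i <;> fin_cases j <;> first | exact absurd hi (by decide) | exact hj (by decide) | (apply hij; first | exact z01 | exact z02 | exact z03 | exact s41.trans z14 | exact s42.trans z24 | exact s43.trans z34)
            · rcases Groth.Agent.Helper3.NumType.edge_casesT T h2 (by norm_num) (p := 3) (q := 4) (by decide) hp34 with e | e | e | e | e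
              · obtain ⟨ea34, eb34⟩ := e
                exfalso
                have t := Groth.Agent.Helper3.NumType.QT5 T h2 1 0 1 2 2 (by norm_num) (by norm_num)
                linarith only [t, z02, z03, ea04, eb04, ea23, eb23, z24, ea34, eb34, hw0, hw2, hw3, hw4]
              · obtain ⟨ea34, eb34⟩ := e
                exfalso
                have t := Groth.Agent.Helper3.NumType.QT5 T h2 1 0 0 2 2 (by norm_num) (by norm_num)
                linarith only [t, z03, ea04, eb04, ea34, eb34, hw0, hw3, hw4]
              · obtain ⟨ea34, eb34⟩ := e
                exfalso
                have t := Groth.Agent.Helper3.NumType.QT5 T h2 1 0 0 1 2 (by norm_num) (by norm_num)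
                linarith only [t, z03, ea04, eb04, ea34, eb34, hw0, hw3, hw4]
              · obtain ⟨ea34, eb34⟩ := e
                exfalso
                have t := Groth.Agent.Helper3.NumType.QT5 T h2 1 0 0 2 2 (by norm_num) (by norm_num)
                linarith only [t, z03, ea04, eb04, ea34, eb34, hw0, hw3, hw4]
              · obtain ⟨ea34, eb34⟩ := e
                exfalso
                have t := Groth.Agent.Helper3.NumType.QT5 T h2 1 0 0 1 2 (by norm_num) (by norm_num)
                linarith only [t, z03, ea04, eb04, ea34, eb34, hw0, hw3, hw4]
          · rcases Groth.Agent.Helper3.NumType.edge_casesT T h2 (by norm_num) (p := 2) (q := 4) (by decide) hp24 with e | e | e | e | e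
            · obtain ⟨ea24, eb24⟩ := e
              exfalso
              have t := Groth.Agent.Helper3.NumType.QT5 T h2 1 0 2 2 2 (by norm_num) (by norm_num)
              linarith only [t, z02, z03, ea04, eb04, ea23, eb23, ea24, eb24, nn34, hw0, hw2, hw3, hw4]
            · obtain ⟨ea24, eb24⟩ := e
              exfalso
              have t := Groth.Agent.Helper3.NumType.QT5 T h2 1 0 2 0 2 (by norm_num) (by norm_num)
              linarith only [t, z02, ea04, eb04, ea24, eb24, hw0, hw2, hw4]
            · obtain ⟨ea24, eb24⟩ := e
              exfalso
              have t := Groth.Agent.Helper3.NumType.QT5 T h2 1 0 1 0 2 (by norm_num) (by norm_num)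
              linarith only [t, z02, ea04, eb04, ea24, eb24, hw0, hw2, hw4]
            · obtain ⟨ea24, eb24⟩ := e
              exfalso
              have t := Groth.Agent.Helper3.NumType.QT5 T h2 1 0 2 0 2 (by norm_num) (by norm_num)
              linarith only [t, z02, ea04, eb04, ea24, eb24, hw0, hw2, hw4]
            · obtain ⟨ea24, eb24⟩ := e
              exfalso
              have t := Groth.Agent.Helper3.NumType.QT5 T h2 1 0 1 0 2 (by norm_num) (by norm_num)
              linarith only [t, z02, ea04, eb04, ea24, eb24, hw0, hw2, hw4]
        · obtain ⟨ea23, eb23⟩ := e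
          exfalso
          have t := Groth.Agent.Helper3.NumType.QT5 T h2 0 1 2 1 0 (by norm_num) (by norm_num)
          linarith only [t, ea12, eb12, z13, ea23, eb23, hw1, hw2, hw3]
        · obtain ⟨ea23, eb23⟩ := e
          exfalso
          have t := Groth.Agent.Helper3.NumType.QT5 T h2 0 1 2 3 0 (by norm_num) (by norm_num)
          linarith only [t, ea12, eb12, z13, ea23, eb23, hw1, hw2, hw3]
    · rcases Groth.Agent.Helper3.NumType.edge_casesT T h2 (by norm_num) (p := 1) (q := 4) (by decide) hp14 with e | e | e | e | e
      · obtain ⟨ea14, eb14⟩ := e
        rcases eq_or_lt_of_le nn23 with z | hp23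
        · have z23 : T.a 2 3 = 0 := z.symm
          rcases eq_or_lt_of_le nn24 with z | hp24
          · have z24 : T.a 2 4 = 0 := z.symm
            rcases eq_or_lt_of_le nn34 with z | hp34
            · have z34 : T.a 3 4 = 0 := z.symm
              exfalso
              obtain ⟨i, hi, j, hj, hij⟩ := T.connected ({0, 1, 2, 4} : Finset (Fin 5)) (by decide) (by decide)
              fin_cases i <;> fin_cases j <;> first | exact absurd hi (by decide) | exact hj (by decide) | (apply hij; first | exact z03 | exact z13 | exact z23 | exact s43.trans z34)
            · rcases Groth.Agent.Helper3.NumType.edge_casesT T h2 (by norm_num) (p := 3) (q := 4) (by decide) hp34 with e | e | e | e | e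
              · obtain ⟨ea34, eb34⟩ := e
                exfalso
                have t := Groth.Agent.Helper3.NumType.QT5 T h2 1 1 0 1 2 (by norm_num) (by norm_num)
                linarith only [t, z01, z03, ea04, eb04, z13, ea14, eb14, ea34, eb34, hw0, hw1, hw3, hw4]
              · obtain ⟨ea34, eb34⟩ := e
                exfalso
                have t := Groth.Agent.Helper3.NumType.QT5 T h2 1 0 0 2 2 (by norm_num) (by norm_num)
                linarith only [t, z03, ea04, eb04, ea34, eb34, hw0, hw3, hw4]
              · obtain ⟨ea34, eb34⟩ := e
                exfalso
                have t := Groth.Agent.Helper3.NumType.QT5 T h2 1 0 0 1 2 (by norm_num) (by norm_num)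
                linarith only [t, z03, ea04, eb04, ea34, eb34, hw0, hw3, hw4]
              · obtain ⟨ea34, eb34⟩ := e
                exfalso
                have t := Groth.Agent.Helper3.NumType.QT5 T h2 1 0 0 2 2 (by norm_num) (by norm_num)
                linarith only [t, z03, ea04, eb04, ea34, eb34, hw0, hw3, hw4]
              · obtain ⟨ea34, eb34⟩ := e
                exfalso
                have t := Groth.Agent.Helper3.NumType.QT5 T h2 1 0 0 1 2 (by norm_num) (by norm_num)
                linarith only [t, z03, ea04, eb04, ea34, eb34, hw0, hw3, hw4]
          · rcases Groth.Agent.Helper3.NumType.edge_casesT T h2 (by norm_num) (p := 2) (q := 4) (by decide) hp24 with e | e | e | e | e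
            · obtain ⟨ea24, eb24⟩ := e
              exfalso
              have t := Groth.Agent.Helper3.NumType.QT5 T h2 0 1 1 0 1 (by norm_num) (by norm_num)
              linarith only [t, ea12, eb12, ea14, eb14, ea24, eb24, hw1, hw2, hw4]
            · obtain ⟨ea24, eb24⟩ := e
              exfalso
              have t := Groth.Agent.Helper3.NumType.QT5 T h2 1 0 2 0 2 (by norm_num) (by norm_num)
              linarith only [t, z02, ea04, eb04, ea24, eb24, hw0, hw2, hw4]
            · obtain ⟨ea24, eb24⟩ := e
              exfalso
              have t := Groth.Agent.Helper3.NumType.QT5 T h2 1 0 1 0 2 (by norm_num) (by norm_num)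
              linarith only [t, z02, ea04, eb04, ea24, eb24, hw0, hw2, hw4]
            · obtain ⟨ea24, eb24⟩ := e
              exfalso
              have t := Groth.Agent.Helper3.NumType.QT5 T h2 1 0 2 0 2 (by norm_num) (by norm_num)
              linarith only [t, z02, ea04, eb04, ea24, eb24, hw0, hw2, hw4]
            · obtain ⟨ea24, eb24⟩ := e
              exfalso
              have t := Groth.Agent.Helper3.NumType.QT5 T h2 1 0 1 0 2 (by norm_num) (by norm_num)
              linarith only [t, z02, ea04, eb04, ea24, eb24, hw0, hw2, hw4]
        · rcases Groth.Agent.Helper3.NumType.edge_casesT T h2 (by norm_num) (p := 2) (q := 3) (by decide) hp23 with e | e | e | e | e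
          · obtain ⟨ea23, eb23⟩ := e
            rcases eq_or_lt_of_le nn24 with z | hp24
            · have z24 : T.a 2 4 = 0 := z.symm
              rcases eq_or_lt_of_le nn34 with z | hp34
              · have z34 : T.a 3 4 = 0 := z.symm
                have hr0 : (-2) * T.m 0 + (1) * T.m 4 = 0 := by
                  have f4 : T.a 0 4 = T.w 0 := by linarith only [ea04, eb04]
                  have h : T.w 0 * ((-2) * T.m 0 + (1) * T.m 4) = 0 := by
                    rw [z01, z02, z03, f4] at r0
                    linarith only [r0]
                  rcases mul_eq_zero.mp h with h' | h'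
                  · exfalso; linarith only [h', hw0]
                  · exact h'
                have hr1 : (-2) * T.m 1 + (1) * T.m 2 + (1) * T.m 4 = 0 := by
                  have f2 : T.a 1 2 = T.w 1 := by linarith only [ea12, eb12]
                  have f4 : T.a 1 4 = T.w 1 := by linarith only [ea14, eb14]
                  have h : T.w 1 * ((-2) * T.m 1 + (1) * T.m 2 + (1) * T.m 4) = 0 := by
                    rw [z01, f2, z13, f4] at r1
                    linarith only [r1]
                  rcases mul_eq_zero.mp h with h' | h'
                  · exfalso; linarith only [h', hw1]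
                  · exact h'
                have hr2 : (-2) * T.m 2 + (1) * T.m 1 + (1) * T.m 3 = 0 := by
                  have f1 : T.a 1 2 = T.w 2 := by linarith only [ea12, eb12]
                  have f3 : T.a 2 3 = T.w 2 := by linarith only [ea23, eb23]
                  have h : T.w 2 * ((-2) * T.m 2 + (1) * T.m 1 + (1) * T.m 3) = 0 := by
                    rw [z02, f1, f3, z24] at r2
                    linarith only [r2]
                  rcases mul_eq_zero.mp h with h' | h'
                  · exfalso; linarith only [h', hw2]
                  · exact h'
                have hr3 : (-2) * T.m 3 + (1) * T.m 2 = 0 := by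
                  have f2 : T.a 2 3 = T.w 3 := by linarith only [ea23, eb23]
                  have h : T.w 3 * ((-2) * T.m 3 + (1) * T.m 2) = 0 := by
                    rw [z03, z13, f2, z34] at r3
                    linarith only [r3]
                  rcases mul_eq_zero.mp h with h' | h'
                  · exfalso; linarith only [h', hw3]
                  · exact h'
                have hr4 : (-2) * T.m 4 + (2) * T.m 0 + (1) * T.m 1 = 0 := by
                  have f0 : T.a 0 4 = 2 * T.w 4 := by linarith only [ea04, eb04]
                  have f1 : T.a 1 4 = T.w 4 := by linarith only [ea14, eb14]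
                  have h : T.w 4 * ((-2) * T.m 4 + (2) * T.m 0 + (1) * T.m 1) = 0 := by
                    rw [f0, f1, z24, z34] at r4
                    linarith only [r4]
                  rcases mul_eq_zero.mp h with h' | h'
                  · exfalso; linarith only [h', hw4]
                  · exact h'
                exfalso
                linarith only [hr0, hr1, hr2, hr3, hr4, hm0, hm1, hm2, hm3, hm4]
              · rcases Groth.Agent.Helper3.NumType.edge_casesT T h2 (by norm_num) (p := 3) (q := 4) (by decide) hp34 with e | e | e | e | e
                · obtain ⟨ea34, eb34⟩ := e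
                  exfalso
                  have t := Groth.Agent.Helper3.NumType.QT5 T h2 1 1 0 1 2 (by norm_num) (by norm_num)
                  linarith only [t, z01, z03, ea04, eb04, z13, ea14, eb14, ea34, eb34, hw0, hw1, hw3, hw4]
                · obtain ⟨ea34, eb34⟩ := e
                  exfalso
                  have t := Groth.Agent.Helper3.NumType.QT5 T h2 1 0 0 2 2 (by norm_num) (by norm_num)
                  linarith only [t, z03, ea04, eb04, ea34, eb34, hw0, hw3, hw4]
                · obtain ⟨ea34, eb34⟩ := e
                  exfalso
                  have t := Groth.Agent.Helper3.NumType.QT5 T h2 1 0 0 1 2 (by norm_num) (by norm_num)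
                  linarith only [t, z03, ea04, eb04, ea34, eb34, hw0, hw3, hw4]
                · obtain ⟨ea34, eb34⟩ := e
                  exfalso
                  have t := Groth.Agent.Helper3.NumType.QT5 T h2 1 0 0 2 2 (by norm_num) (by norm_num)
                  linarith only [t, z03, ea04, eb04, ea34, eb34, hw0, hw3, hw4]
                · obtain ⟨ea34, eb34⟩ := e
                  exfalso
                  have t := Groth.Agent.Helper3.NumType.QT5 T h2 1 0 0 1 2 (by norm_num) (by norm_num)
                  linarith only [t, z03, ea04, eb04, ea34, eb34, hw0, hw3, hw4]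
            · rcases Groth.Agent.Helper3.NumType.edge_casesT T h2 (by norm_num) (p := 2) (q := 4) (by decide) hp24 with e | e | e | e | e
              · obtain ⟨ea24, eb24⟩ := e
                exfalso
                have t := Groth.Agent.Helper3.NumType.QT5 T h2 0 1 1 0 1 (by norm_num) (by norm_num)
                linarith only [t, ea12, eb12, ea14, eb14, ea24, eb24, hw1, hw2, hw4]
              · obtain ⟨ea24, eb24⟩ := e
                exfalso
                have t := Groth.Agent.Helper3.NumType.QT5 T h2 1 0 2 0 2 (by norm_num) (by norm_num)
                linarith only [t, z02, ea04, eb04, ea24, eb24, hw0, hw2, hw4]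
              · obtain ⟨ea24, eb24⟩ := e
                exfalso
                have t := Groth.Agent.Helper3.NumType.QT5 T h2 1 0 1 0 2 (by norm_num) (by norm_num)
                linarith only [t, z02, ea04, eb04, ea24, eb24, hw0, hw2, hw4]
              · obtain ⟨ea24, eb24⟩ := e
                exfalso
                have t := Groth.Agent.Helper3.NumType.QT5 T h2 1 0 2 0 2 (by norm_num) (by norm_num)
                linarith only [t, z02, ea04, eb04, ea24, eb24, hw0, hw2, hw4]
              · obtain ⟨ea24, eb24⟩ := e
                exfalso
                have t := Groth.Agent.Helper3.NumType.QT5 T h2 1 0 1 0 2 (by norm_num) (by norm_num)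
                linarith only [t, z02, ea04, eb04, ea24, eb24, hw0, hw2, hw4]
          · obtain ⟨ea23, eb23⟩ := e
            rcases eq_or_lt_of_le nn24 with z | hp24
            · have z24 : T.a 2 4 = 0 := z.symm
              rcases eq_or_lt_of_le nn34 with z | hp34
              · have z34 : T.a 3 4 = 0 := z.symm
                have hr0 : (-2) * T.m 0 + (1) * T.m 4 = 0 := by
                  have f4 : T.a 0 4 = T.w 0 := by linarith only [ea04, eb04]
                  have h : T.w 0 * ((-2) * T.m 0 + (1) * T.m 4) = 0 := by
                    rw [z01, z02, z03, f4] at r0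
                    linarith only [r0]
                  rcases mul_eq_zero.mp h with h' | h'
                  · exfalso; linarith only [h', hw0]
                  · exact h'
                have hr1 : (-2) * T.m 1 + (1) * T.m 2 + (1) * T.m 4 = 0 := by
                  have f2 : T.a 1 2 = T.w 1 := by linarith only [ea12, eb12]
                  have f4 : T.a 1 4 = T.w 1 := by linarith only [ea14, eb14]
                  have h : T.w 1 * ((-2) * T.m 1 + (1) * T.m 2 + (1) * T.m 4) = 0 := by
                    rw [z01, f2, z13, f4] at r1
                    linarith only [r1]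
                  rcases mul_eq_zero.mp h with h' | h'
                  · exfalso; linarith only [h', hw1]
                  · exact h'
                have hr2 : (-2) * T.m 2 + (1) * T.m 1 + (2) * T.m 3 = 0 := by
                  have f1 : T.a 1 2 = T.w 2 := by linarith only [ea12, eb12]
                  have f3 : T.a 2 3 = 2 * T.w 2 := by linarith only [ea23, eb23]
                  have h : T.w 2 * ((-2) * T.m 2 + (1) * T.m 1 + (2) * T.m 3) = 0 := by
                    rw [z02, f1, f3, z24] at r2
                    linarith only [r2]
                  rcases mul_eq_zero.mp h with h' | h'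
                  · exfalso; linarith only [h', hw2]
                  · exact h'
                have hr3 : (-2) * T.m 3 + (1) * T.m 2 = 0 := by
                  have f2 : T.a 2 3 = T.w 3 := by linarith only [ea23, eb23]
                  have h : T.w 3 * ((-2) * T.m 3 + (1) * T.m 2) = 0 := by
                    rw [z03, z13, f2, z34] at r3
                    linarith only [r3]
                  rcases mul_eq_zero.mp h with h' | h'
                  · exfalso; linarith only [h', hw3]
                  · exact h'
                have hr4 : (-2) * T.m 4 + (2) * T.m 0 + (1) * T.m 1 = 0 := by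
                  have f0 : T.a 0 4 = 2 * T.w 4 := by linarith only [ea04, eb04]
                  have f1 : T.a 1 4 = T.w 4 := by linarith only [ea14, eb14]
                  have h : T.w 4 * ((-2) * T.m 4 + (2) * T.m 0 + (1) * T.m 1) = 0 := by
                    rw [f0, f1, z24, z34] at r4
                    linarith only [r4]
                  rcases mul_eq_zero.mp h with h' | h'
                  · exfalso; linarith only [h', hw4]
                  · exact h'
                have w0 : T.w 0 = 2 * T.w 1 := by linarith only [ea04, ea12, ea14, ea23]
                have w2 : T.w 2 = T.w 1 := by linarith only [ea04, ea12, ea14, ea23]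
                have w3 : T.w 3 = 2 * T.w 1 := by linarith only [ea04, ea12, ea14, ea23]
                have w4 : T.w 4 = T.w 1 := by linarith only [ea04, ea12, ea14, ea23]
                have a04 : T.a 0 4 = 2 * T.w 1 := by linarith only [ea04, eb04, ea12, eb12, ea14, eb14, ea23, eb23]
                have a12 : T.a 1 2 = T.w 1 := by linarith only [ea04, eb04, ea12, eb12, ea14, eb14, ea23, eb23]
                have a14 : T.a 1 4 = T.w 1 := by linarith only [ea04, eb04, ea12, eb12, ea14, eb14, ea23, eb23]
                have a23 : T.a 2 3 = 2 * T.w 1 := by linarith only [ea04, eb04, ea12, eb12, ea14, eb14, ea23, eb23]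
                have m1 : T.m 1 = 2 * T.m 0 := by linarith only [hr0, hr1, hr2, hr3, hr4]
                have m2 : T.m 2 = 2 * T.m 0 := by linarith only [hr0, hr1, hr2, hr3, hr4]
                have m3 : T.m 3 = T.m 0 := by linarith only [hr0, hr1, hr2, hr3, hr4]
                have m4 : T.m 4 = 2 * T.m 0 := by linarith only [hr0, hr1, hr2, hr3, hr4]
                refine ⟨Equiv.ofBijective ![0, 4, 1, 2, 3] (by decide), T.m 0, T.w 4, ?_⟩
                simp only [Equiv.ofBijective_apply, Matrix.cons_val_zero, Matrix.cons_val_one, Matrix.cons_val]
                refine Or.inr (Or.inr (Or.inr (Or.inr (Or.inr (Or.inl ⟨?_, ?_, ?_, ?_, ?_, ?_, ?_, ?_, ?_, ?_, ?_, ?_, ?_, ?_, ?_, ?_, ?_, ?_, ?_, ?_, ?_, ?_, ?_, ?_, ?_⟩)))))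
                all_goals first | rfl | trivial | linarith only [w0, w2, w3, w4, z01, z02, z03, a04, a12, z13, a14, a23, z24, z34, m1, m2, m3, m4, d0, d1, d2, d3, d4, s10, s20, s30, s40, s21, s31, s41, s32, s42, s43]
              · rcases Groth.Agent.Helper3.NumType.edge_casesT T h2 (by norm_num) (p := 3) (q := 4) (by decide) hp34 with e | e | e | e | e
                · obtain ⟨ea34, eb34⟩ := e
                  exfalso
                  have t := Groth.Agent.Helper3.NumType.QT5 T h2 1 1 0 1 2 (by norm_num) (by norm_num)
                  linarith only [t, z01, z03, ea04, eb04, z13, ea14, eb14, ea34, eb34, hw0, hw1, hw3, hw4]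
                · obtain ⟨ea34, eb34⟩ := e
                  exfalso
                  have t := Groth.Agent.Helper3.NumType.QT5 T h2 1 0 0 2 2 (by norm_num) (by norm_num)
                  linarith only [t, z03, ea04, eb04, ea34, eb34, hw0, hw3, hw4]
                · obtain ⟨ea34, eb34⟩ := e
                  exfalso
                  have t := Groth.Agent.Helper3.NumType.QT5 T h2 1 0 0 1 2 (by norm_num) (by norm_num)
                  linarith only [t, z03, ea04, eb04, ea34, eb34, hw0, hw3, hw4]
                · obtain ⟨ea34, eb34⟩ := e
                  exfalso
                  have t := Groth.Agent.Helper3.NumType.QT5 T h2 1 0 0 2 2 (by norm_num) (by norm_num)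
                  linarith only [t, z03, ea04, eb04, ea34, eb34, hw0, hw3, hw4]
                · obtain ⟨ea34, eb34⟩ := e
                  exfalso
                  have t := Groth.Agent.Helper3.NumType.QT5 T h2 1 0 0 1 2 (by norm_num) (by norm_num)
                  linarith only [t, z03, ea04, eb04, ea34, eb34, hw0, hw3, hw4]
            · rcases Groth.Agent.Helper3.NumType.edge_casesT T h2 (by norm_num) (p := 2) (q := 4) (by decide) hp24 with e | e | e | e | e
              · obtain ⟨ea24, eb24⟩ := e
                exfalso
                have t := Groth.Agent.Helper3.NumType.QT5 T h2 0 1 1 0 1 (by norm_num) (by norm_num)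
                linarith only [t, ea12, eb12, ea14, eb14, ea24, eb24, hw1, hw2, hw4]
              · obtain ⟨ea24, eb24⟩ := e
                exfalso
                have t := Groth.Agent.Helper3.NumType.QT5 T h2 1 0 2 0 2 (by norm_num) (by norm_num)
                linarith only [t, z02, ea04, eb04, ea24, eb24, hw0, hw2, hw4]
              · obtain ⟨ea24, eb24⟩ := e
                exfalso
                have t := Groth.Agent.Helper3.NumType.QT5 T h2 1 0 1 0 2 (by norm_num) (by norm_num)
                linarith only [t, z02, ea04, eb04, ea24, eb24, hw0, hw2, hw4]
              · obtain ⟨ea24, eb24⟩ := e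
                exfalso
                have t := Groth.Agent.Helper3.NumType.QT5 T h2 1 0 2 0 2 (by norm_num) (by norm_num)
                linarith only [t, z02, ea04, eb04, ea24, eb24, hw0, hw2, hw4]
              · obtain ⟨ea24, eb24⟩ := e
                exfalso
                have t := Groth.Agent.Helper3.NumType.QT5 T h2 1 0 1 0 2 (by norm_num) (by norm_num)
                linarith only [t, z02, ea04, eb04, ea24, eb24, hw0, hw2, hw4]
          · obtain ⟨ea23, eb23⟩ := e
            rcases eq_or_lt_of_le nn24 with z | hp24
            · have z24 : T.a 2 4 = 0 := z.symm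
              rcases eq_or_lt_of_le nn34 with z | hp34
              · have z34 : T.a 3 4 = 0 := z.symm
                have hr0 : (-2) * T.m 0 + (1) * T.m 4 = 0 := by
                  have f4 : T.a 0 4 = T.w 0 := by linarith only [ea04, eb04]
                  have h : T.w 0 * ((-2) * T.m 0 + (1) * T.m 4) = 0 := by
                    rw [z01, z02, z03, f4] at r0
                    linarith only [r0]
                  rcases mul_eq_zero.mp h with h' | h'
                  · exfalso; linarith only [h', hw0]
                  · exact h'
                have hr1 : (-2) * T.m 1 + (1) * T.m 2 + (1) * T.m 4 = 0 := by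
                  have f2 : T.a 1 2 = T.w 1 := by linarith only [ea12, eb12]
                  have f4 : T.a 1 4 = T.w 1 := by linarith only [ea14, eb14]
                  have h : T.w 1 * ((-2) * T.m 1 + (1) * T.m 2 + (1) * T.m 4) = 0 := by
                    rw [z01, f2, z13, f4] at r1
                    linarith only [r1]
                  rcases mul_eq_zero.mp h with h' | h'
                  · exfalso; linarith only [h', hw1]
                  · exact h'
                have hr2 : (-2) * T.m 2 + (1) * T.m 1 + (1) * T.m 3 = 0 := by
                  have f1 : T.a 1 2 = T.w 2 := by linarith only [ea12, eb12]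
                  have f3 : T.a 2 3 = T.w 2 := by linarith only [ea23, eb23]
                  have h : T.w 2 * ((-2) * T.m 2 + (1) * T.m 1 + (1) * T.m 3) = 0 := by
                    rw [z02, f1, f3, z24] at r2
                    linarith only [r2]
                  rcases mul_eq_zero.mp h with h' | h'
                  · exfalso; linarith only [h', hw2]
                  · exact h'
                have hr3 : (-2) * T.m 3 + (2) * T.m 2 = 0 := by
                  have f2 : T.a 2 3 = 2 * T.w 3 := by linarith only [ea23, eb23]
                  have h : T.w 3 * ((-2) * T.m 3 + (2) * T.m 2) = 0 := by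
                    rw [z03, z13, f2, z34] at r3
                    linarith only [r3]
                  rcases mul_eq_zero.mp h with h' | h'
                  · exfalso; linarith only [h', hw3]
                  · exact h'
                have hr4 : (-2) * T.m 4 + (2) * T.m 0 + (1) * T.m 1 = 0 := by
                  have f0 : T.a 0 4 = 2 * T.w 4 := by linarith only [ea04, eb04]
                  have f1 : T.a 1 4 = T.w 4 := by linarith only [ea14, eb14]
                  have h : T.w 4 * ((-2) * T.m 4 + (2) * T.m 0 + (1) * T.m 1) = 0 := by
                    rw [f0, f1, z24, z34] at r4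
                    linarith only [r4]
                  rcases mul_eq_zero.mp h with h' | h'
                  · exfalso; linarith only [h', hw4]
                  · exact h'
                have w0 : T.w 0 = 4 * T.w 3 := by linarith only [ea04, ea12, ea14, ea23]
                have w1 : T.w 1 = 2 * T.w 3 := by linarith only [ea04, ea12, ea14, ea23]
                have w2 : T.w 2 = 2 * T.w 3 := by linarith only [ea04, ea12, ea14, ea23]
                have w4 : T.w 4 = 2 * T.w 3 := by linarith only [ea04, ea12, ea14, ea23]
                have a04 : T.a 0 4 = 4 * T.w 3 := by linarith only [ea04, eb04, ea12, eb12, ea14, eb14, ea23, eb23]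
                have a12 : T.a 1 2 = 2 * T.w 3 := by linarith only [ea04, eb04, ea12, eb12, ea14, eb14, ea23, eb23]
                have a14 : T.a 1 4 = 2 * T.w 3 := by linarith only [ea04, eb04, ea12, eb12, ea14, eb14, ea23, eb23]
                have a23 : T.a 2 3 = 2 * T.w 3 := by linarith only [ea04, eb04, ea12, eb12, ea14, eb14, ea23, eb23]
                have m1 : T.m 1 = 2 * T.m 0 := by linarith only [hr0, hr1, hr2, hr3, hr4]
                have m2 : T.m 2 = 2 * T.m 0 := by linarith only [hr0, hr1, hr2, hr3, hr4]
                have m3 : T.m 3 = 2 * T.m 0 := by linarith only [hr0, hr1, hr2, hr3, hr4]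
                have m4 : T.m 4 = 2 * T.m 0 := by linarith only [hr0, hr1, hr2, hr3, hr4]
                refine ⟨Equiv.ofBijective ![3, 2, 1, 4, 0] (by decide), T.m 0, T.w 3, ?_⟩
                simp only [Equiv.ofBijective_apply, Matrix.cons_val_zero, Matrix.cons_val_one, Matrix.cons_val]
                refine Or.inr (Or.inr (Or.inr (Or.inl ⟨?_, ?_, ?_, ?_, ?_, ?_, ?_, ?_, ?_, ?_, ?_, ?_, ?_, ?_, ?_, ?_, ?_, ?_, ?_, ?_, ?_, ?_, ?_, ?_, ?_⟩)))
                all_goals first | rfl | trivial | linarith only [w0, w1, w2, w4, z01, z02, z03, a04, a12, z13, a14, a23, z24, z34, m1, m2, m3, m4, d0, d1, d2, d3, d4, s10, s20, s30, s40, s21, s31, s41, s32, s42, s43]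
              · rcases Groth.Agent.Helper3.NumType.edge_casesT T h2 (by norm_num) (p := 3) (q := 4) (by decide) hp34 with e | e | e | e | e
                · obtain ⟨ea34, eb34⟩ := e
                  exfalso
                  have t := Groth.Agent.Helper3.NumType.QT5 T h2 1 1 0 1 2 (by norm_num) (by norm_num)
                  linarith only [t, z01, z03, ea04, eb04, z13, ea14, eb14, ea34, eb34, hw0, hw1, hw3, hw4]
                · obtain ⟨ea34, eb34⟩ := e
                  exfalso
                  have t := Groth.Agent.Helper3.NumType.QT5 T h2 1 0 0 2 2 (by norm_num) (by norm_num)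
                  linarith only [t, z03, ea04, eb04, ea34, eb34, hw0, hw3, hw4]
                · obtain ⟨ea34, eb34⟩ := e
                  exfalso
                  have t := Groth.Agent.Helper3.NumType.QT5 T h2 1 0 0 1 2 (by norm_num) (by norm_num)
                  linarith only [t, z03, ea04, eb04, ea34, eb34, hw0, hw3, hw4]
                · obtain ⟨ea34, eb34⟩ := e
                  exfalso
                  have t := Groth.Agent.Helper3.NumType.QT5 T h2 1 0 0 2 2 (by norm_num) (by norm_num)
                  linarith only [t, z03, ea04, eb04, ea34, eb34, hw0, hw3, hw4]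
                · obtain ⟨ea34, eb34⟩ := e
                  exfalso
                  have t := Groth.Agent.Helper3.NumType.QT5 T h2 1 0 0 1 2 (by norm_num) (by norm_num)
                  linarith only [t, z03, ea04, eb04, ea34, eb34, hw0, hw3, hw4]
            · rcases Groth.Agent.Helper3.NumType.edge_casesT T h2 (by norm_num) (p := 2) (q := 4) (by decide) hp24 with e | e | e | e | e
              · obtain ⟨ea24, eb24⟩ := e
                exfalso
                have t := Groth.Agent.Helper3.NumType.QT5 T h2 0 1 1 0 1 (by norm_num) (by norm_num)
                linarith only [t, ea12, eb12, ea14, eb14, ea24, eb24, hw1, hw2, hw4]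
              · obtain ⟨ea24, eb24⟩ := e
                exfalso
                have t := Groth.Agent.Helper3.NumType.QT5 T h2 1 0 2 0 2 (by norm_num) (by norm_num)
                linarith only [t, z02, ea04, eb04, ea24, eb24, hw0, hw2, hw4]
              · obtain ⟨ea24, eb24⟩ := e
                exfalso
                have t := Groth.Agent.Helper3.NumType.QT5 T h2 1 0 1 0 2 (by norm_num) (by norm_num)
                linarith only [t, z02, ea04, eb04, ea24, eb24, hw0, hw2, hw4]
              · obtain ⟨ea24, eb24⟩ := e
                exfalso
                have t := Groth.Agent.Helper3.NumType.QT5 T h2 1 0 2 0 2 (by norm_num) (by norm_num)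
                linarith only [t, z02, ea04, eb04, ea24, eb24, hw0, hw2, hw4]
              · obtain ⟨ea24, eb24⟩ := e
                exfalso
                have t := Groth.Agent.Helper3.NumType.QT5 T h2 1 0 1 0 2 (by norm_num) (by norm_num)
                linarith only [t, z02, ea04, eb04, ea24, eb24, hw0, hw2, hw4]
          · obtain ⟨ea23, eb23⟩ := e
            exfalso
            have t := Groth.Agent.Helper3.NumType.QT5 T h2 0 1 2 1 0 (by norm_num) (by norm_num)
            linarith only [t, ea12, eb12, z13, ea23, eb23, hw1, hw2, hw3]
          · obtain ⟨ea23, eb23⟩ := e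
            exfalso
            have t := Groth.Agent.Helper3.NumType.QT5 T h2 0 1 2 3 0 (by norm_num) (by norm_num)
            linarith only [t, ea12, eb12, z13, ea23, eb23, hw1, hw2, hw3]
      · obtain ⟨ea14, eb14⟩ := e
        exfalso
        have t := Groth.Agent.Helper3.NumType.QT5 T h2 1 2 0 0 2 (by norm_num) (by norm_num)
        linarith only [t, z01, ea04, eb04, ea14, eb14, hw0, hw1, hw4]
      · obtain ⟨ea14, eb14⟩ := e
        exfalso
        have t := Groth.Agent.Helper3.NumType.QT5 T h2 1 1 0 0 2 (by norm_num) (by norm_num)
        linarith only [t, z01, ea04, eb04, ea14, eb14, hw0, hw1, hw4]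
      · obtain ⟨ea14, eb14⟩ := e
        exfalso
        have t := Groth.Agent.Helper3.NumType.QT5 T h2 1 2 0 0 2 (by norm_num) (by norm_num)
        linarith only [t, z01, ea04, eb04, ea14, eb14, hw0, hw1, hw4]
      · obtain ⟨ea14, eb14⟩ := e
        exfalso
        have t := Groth.Agent.Helper3.NumType.QT5 T h2 1 1 0 0 2 (by norm_num) (by norm_num)
        linarith only [t, z01, ea04, eb04, ea14, eb14, hw0, hw1, hw4]
  · rcases Groth.Agent.Helper3.NumType.edge_casesT T h2 (by norm_num) (p := 1) (q := 3) (by decide) hp13 with e | e | e | e | e
    · obtain ⟨ea13, eb13⟩ := e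
      rcases eq_or_lt_of_le nn14 with z | hp14
      · have z14 : T.a 1 4 = 0 := z.symm
        rcases eq_or_lt_of_le nn23 with z | hp23
        · have z23 : T.a 2 3 = 0 := z.symm
          rcases eq_or_lt_of_le nn24 with z | hp24
          · have z24 : T.a 2 4 = 0 := z.symm
            rcases eq_or_lt_of_le nn34 with z | hp34
            · have z34 : T.a 3 4 = 0 := z.symm
              exfalso
              obtain ⟨i, hi, j, hj, hij⟩ := T.connected ({0, 4} : Finset (Fin 5)) (by decide) (by decide)
              fin_cases i <;> fin_cases j <;> first | exact absurd hi (by decide) | exact hj (by decide) | (apply hij; first | exact z01 | exact z02 | exact z03 | exact s41.trans z14 | exact s42.trans z24 | exact s43.trans z34)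
            · rcases Groth.Agent.Helper3.NumType.edge_casesT T h2 (by norm_num) (p := 3) (q := 4) (by decide) hp34 with e | e | e | e | e
              · obtain ⟨ea34, eb34⟩ := e
                have hr0 : (-2) * T.m 0 + (1) * T.m 4 = 0 := by
                  have f4 : T.a 0 4 = T.w 0 := by linarith only [ea04, eb04]
                  have h : T.w 0 * ((-2) * T.m 0 + (1) * T.m 4) = 0 := by
                    rw [z01, z02, z03, f4] at r0
                    linarith only [r0]
                  rcases mul_eq_zero.mp h with h' | h'
                  · exfalso; linarith only [h', hw0]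
                  · exact h'
                have hr1 : (-2) * T.m 1 + (1) * T.m 2 + (1) * T.m 3 = 0 := by
                  have f2 : T.a 1 2 = T.w 1 := by linarith only [ea12, eb12]
                  have f3 : T.a 1 3 = T.w 1 := by linarith only [ea13, eb13]
                  have h : T.w 1 * ((-2) * T.m 1 + (1) * T.m 2 + (1) * T.m 3) = 0 := by
                    rw [z01, f2, f3, z14] at r1
                    linarith only [r1]
                  rcases mul_eq_zero.mp h with h' | h'
                  · exfalso; linarith only [h', hw1]
                  · exact h'
                have hr2 : (-2) * T.m 2 + (1) * T.m 1 = 0 := by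
                  have f1 : T.a 1 2 = T.w 2 := by linarith only [ea12, eb12]
                  have h : T.w 2 * ((-2) * T.m 2 + (1) * T.m 1) = 0 := by
                    rw [z02, f1, z23, z24] at r2
                    linarith only [r2]
                  rcases mul_eq_zero.mp h with h' | h'
                  · exfalso; linarith only [h', hw2]
                  · exact h'
                have hr3 : (-2) * T.m 3 + (1) * T.m 1 + (1) * T.m 4 = 0 := by
                  have f1 : T.a 1 3 = T.w 3 := by linarith only [ea13, eb13]
                  have f4 : T.a 3 4 = T.w 3 := by linarith only [ea34, eb34]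
                  have h : T.w 3 * ((-2) * T.m 3 + (1) * T.m 1 + (1) * T.m 4) = 0 := by
                    rw [z03, f1, z23, f4] at r3
                    linarith only [r3]
                  rcases mul_eq_zero.mp h with h' | h'
                  · exfalso; linarith only [h', hw3]
                  · exact h'
                have hr4 : (-2) * T.m 4 + (2) * T.m 0 + (1) * T.m 3 = 0 := by
                  have f0 : T.a 0 4 = 2 * T.w 4 := by linarith only [ea04, eb04]
                  have f3 : T.a 3 4 = T.w 4 := by linarith only [ea34, eb34]
                  have h : T.w 4 * ((-2) * T.m 4 + (2) * T.m 0 + (1) * T.m 3) = 0 := by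
                    rw [f0, z14, z24, f3] at r4
                    linarith only [r4]
                  rcases mul_eq_zero.mp h with h' | h'
                  · exfalso; linarith only [h', hw4]
                  · exact h'
                exfalso
                linarith only [hr0, hr1, hr2, hr3, hr4, hm0, hm1, hm2, hm3, hm4]
              · obtain ⟨ea34, eb34⟩ := e
                exfalso
                have t := Groth.Agent.Helper3.NumType.QT5 T h2 1 0 0 2 2 (by norm_num) (by norm_num)
                linarith only [t, z03, ea04, eb04, ea34, eb34, hw0, hw3, hw4]
              · obtain ⟨ea34, eb34⟩ := e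
                exfalso
                have t := Groth.Agent.Helper3.NumType.QT5 T h2 1 0 0 1 2 (by norm_num) (by norm_num)
                linarith only [t, z03, ea04, eb04, ea34, eb34, hw0, hw3, hw4]
              · obtain ⟨ea34, eb34⟩ := e
                exfalso
                have t := Groth.Agent.Helper3.NumType.QT5 T h2 1 0 0 2 2 (by norm_num) (by norm_num)
                linarith only [t, z03, ea04, eb04, ea34, eb34, hw0, hw3, hw4]
              · obtain ⟨ea34, eb34⟩ := e
                exfalso
                have t := Groth.Agent.Helper3.NumType.QT5 T h2 1 0 0 1 2 (by norm_num) (by norm_num)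
                linarith only [t, z03, ea04, eb04, ea34, eb34, hw0, hw3, hw4]
          · rcases Groth.Agent.Helper3.NumType.edge_casesT T h2 (by norm_num) (p := 2) (q := 4) (by decide) hp24 with e | e | e | e | e
            · obtain ⟨ea24, eb24⟩ := e
              rcases eq_or_lt_of_le nn34 with z | hp34
              · have z34 : T.a 3 4 = 0 := z.symm
                have hr0 : (-2) * T.m 0 + (1) * T.m 4 = 0 := by
                  have f4 : T.a 0 4 = T.w 0 := by linarith only [ea04, eb04]
                  have h : T.w 0 * ((-2) * T.m 0 + (1) * T.m 4) = 0 := by
                    rw [z01, z02, z03, f4] at r0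
                    linarith only [r0]
                  rcases mul_eq_zero.mp h with h' | h'
                  · exfalso; linarith only [h', hw0]
                  · exact h'
                have hr1 : (-2) * T.m 1 + (1) * T.m 2 + (1) * T.m 3 = 0 := by
                  have f2 : T.a 1 2 = T.w 1 := by linarith only [ea12, eb12]
                  have f3 : T.a 1 3 = T.w 1 := by linarith only [ea13, eb13]
                  have h : T.w 1 * ((-2) * T.m 1 + (1) * T.m 2 + (1) * T.m 3) = 0 := by
                    rw [z01, f2, f3, z14] at r1
                    linarith only [r1]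
                  rcases mul_eq_zero.mp h with h' | h'
                  · exfalso; linarith only [h', hw1]
                  · exact h'
                have hr2 : (-2) * T.m 2 + (1) * T.m 1 + (1) * T.m 4 = 0 := by
                  have f1 : T.a 1 2 = T.w 2 := by linarith only [ea12, eb12]
                  have f4 : T.a 2 4 = T.w 2 := by linarith only [ea24, eb24]
                  have h : T.w 2 * ((-2) * T.m 2 + (1) * T.m 1 + (1) * T.m 4) = 0 := by
                    rw [z02, f1, z23, f4] at r2
                    linarith only [r2]
                  rcases mul_eq_zero.mp h with h' | h'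
                  · exfalso; linarith only [h', hw2]
                  · exact h'
                have hr3 : (-2) * T.m 3 + (1) * T.m 1 = 0 := by
                  have f1 : T.a 1 3 = T.w 3 := by linarith only [ea13, eb13]
                  have h : T.w 3 * ((-2) * T.m 3 + (1) * T.m 1) = 0 := by
                    rw [z03, f1, z23, z34] at r3
                    linarith only [r3]
                  rcases mul_eq_zero.mp h with h' | h'
                  · exfalso; linarith only [h', hw3]
                  · exact h'
                have hr4 : (-2) * T.m 4 + (2) * T.m 0 + (1) * T.m 2 = 0 := by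
                  have f0 : T.a 0 4 = 2 * T.w 4 := by linarith only [ea04, eb04]
                  have f2 : T.a 2 4 = T.w 4 := by linarith only [ea24, eb24]
                  have h : T.w 4 * ((-2) * T.m 4 + (2) * T.m 0 + (1) * T.m 2) = 0 := by
                    rw [f0, z14, f2, z34] at r4
                    linarith only [r4]
                  rcases mul_eq_zero.mp h with h' | h'
                  · exfalso; linarith only [h', hw4]
                  · exact h'
                exfalso
                linarith only [hr0, hr1, hr2, hr3, hr4, hm0, hm1, hm2, hm3, hm4]
              · rcases Groth.Agent.Helper3.NumType.edge_casesT T h2 (by norm_num) (p := 3) (q := 4) (by decide) hp34 with e | e | e | e | e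
                · obtain ⟨ea34, eb34⟩ := e
                  exfalso
                  have t := Groth.Agent.Helper3.NumType.QT5 T h2 1 0 1 1 2 (by norm_num) (by norm_num)
                  linarith only [t, z02, z03, ea04, eb04, z23, ea24, eb24, ea34, eb34, hw0, hw2, hw3, hw4]
                · obtain ⟨ea34, eb34⟩ := e
                  exfalso
                  have t := Groth.Agent.Helper3.NumType.QT5 T h2 1 0 0 2 2 (by norm_num) (by norm_num)
                  linarith only [t, z03, ea04, eb04, ea34, eb34, hw0, hw3, hw4]
                · obtain ⟨ea34, eb34⟩ := e
                  exfalso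
                  have t := Groth.Agent.Helper3.NumType.QT5 T h2 1 0 0 1 2 (by norm_num) (by norm_num)
                  linarith only [t, z03, ea04, eb04, ea34, eb34, hw0, hw3, hw4]
                · obtain ⟨ea34, eb34⟩ := e
                  exfalso
                  have t := Groth.Agent.Helper3.NumType.QT5 T h2 1 0 0 2 2 (by norm_num) (by norm_num)
                  linarith only [t, z03, ea04, eb04, ea34, eb34, hw0, hw3, hw4]
                · obtain ⟨ea34, eb34⟩ := e
                  exfalso
                  have t := Groth.Agent.Helper3.NumType.QT5 T h2 1 0 0 1 2 (by norm_num) (by norm_num)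
                  linarith only [t, z03, ea04, eb04, ea34, eb34, hw0, hw3, hw4]
            · obtain ⟨ea24, eb24⟩ := e
              exfalso
              have t := Groth.Agent.Helper3.NumType.QT5 T h2 1 0 2 0 2 (by norm_num) (by norm_num)
              linarith only [t, z02, ea04, eb04, ea24, eb24, hw0, hw2, hw4]
            · obtain ⟨ea24, eb24⟩ := e
              exfalso
              have t := Groth.Agent.Helper3.NumType.QT5 T h2 1 0 1 0 2 (by norm_num) (by norm_num)
              linarith only [t, z02, ea04, eb04, ea24, eb24, hw0, hw2, hw4]
            · obtain ⟨ea24, eb24⟩ := e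
              exfalso
              have t := Groth.Agent.Helper3.NumType.QT5 T h2 1 0 2 0 2 (by norm_num) (by norm_num)
              linarith only [t, z02, ea04, eb04, ea24, eb24, hw0, hw2, hw4]
            · obtain ⟨ea24, eb24⟩ := e
              exfalso
              have t := Groth.Agent.Helper3.NumType.QT5 T h2 1 0 1 0 2 (by norm_num) (by norm_num)
              linarith only [t, z02, ea04, eb04, ea24, eb24, hw0, hw2, hw4]
        · rcases Groth.Agent.Helper3.NumType.edge_casesT T h2 (by norm_num) (p := 2) (q := 3) (by decide) hp23 with e | e | e | e | e
          · obtain ⟨ea23, eb23⟩ := e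
            exfalso
            have t := Groth.Agent.Helper3.NumType.QT5 T h2 0 1 1 1 0 (by norm_num) (by norm_num)
            linarith only [t, ea12, eb12, ea13, eb13, ea23, eb23, hw1, hw2, hw3]
          · obtain ⟨ea23, eb23⟩ := e
            exfalso
            linarith only [ea12, ea13, ea23, hw1, hw2, hw3]
          · obtain ⟨ea23, eb23⟩ := e
            exfalso
            linarith only [ea12, ea13, ea23, hw1, hw2, hw3]
          · obtain ⟨ea23, eb23⟩ := e
            exfalso
            linarith only [ea12, ea13, ea23, hw1, hw2, hw3]
          · obtain ⟨ea23, eb23⟩ := e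
            exfalso
            linarith only [ea12, ea13, ea23, hw1, hw2, hw3]
      · rcases Groth.Agent.Helper3.NumType.edge_casesT T h2 (by norm_num) (p := 1) (q := 4) (by decide) hp14 with e | e | e | e | e
        · obtain ⟨ea14, eb14⟩ := e
          rcases eq_or_lt_of_le nn23 with z | hp23
          · have z23 : T.a 2 3 = 0 := z.symm
            rcases eq_or_lt_of_le nn24 with z | hp24
            · have z24 : T.a 2 4 = 0 := z.symm
              rcases eq_or_lt_of_le nn34 with z | hp34
              · have z34 : T.a 3 4 = 0 := z.symm
                have hr0 : (-2) * T.m 0 + (1) * T.m 4 = 0 := by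
                  have f4 : T.a 0 4 = T.w 0 := by linarith only [ea04, eb04]
                  have h : T.w 0 * ((-2) * T.m 0 + (1) * T.m 4) = 0 := by
                    rw [z01, z02, z03, f4] at r0
                    linarith only [r0]
                  rcases mul_eq_zero.mp h with h' | h'
                  · exfalso; linarith only [h', hw0]
                  · exact h'
                have hr1 : (-2) * T.m 1 + (1) * T.m 2 + (1) * T.m 3 + (1) * T.m 4 = 0 := by
                  have f2 : T.a 1 2 = T.w 1 := by linarith only [ea12, eb12]
                  have f3 : T.a 1 3 = T.w 1 := by linarith only [ea13, eb13]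
                  have f4 : T.a 1 4 = T.w 1 := by linarith only [ea14, eb14]
                  have h : T.w 1 * ((-2) * T.m 1 + (1) * T.m 2 + (1) * T.m 3 + (1) * T.m 4) = 0 := by
                    rw [z01, f2, f3, f4] at r1
                    linarith only [r1]
                  rcases mul_eq_zero.mp h with h' | h'
                  · exfalso; linarith only [h', hw1]
                  · exact h'
                have hr2 : (-2) * T.m 2 + (1) * T.m 1 = 0 := by
                  have f1 : T.a 1 2 = T.w 2 := by linarith only [ea12, eb12]
                  have h : T.w 2 * ((-2) * T.m 2 + (1) * T.m 1) = 0 := by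
                    rw [z02, f1, z23, z24] at r2
                    linarith only [r2]
                  rcases mul_eq_zero.mp h with h' | h'
                  · exfalso; linarith only [h', hw2]
                  · exact h'
                have hr3 : (-2) * T.m 3 + (1) * T.m 1 = 0 := by
                  have f1 : T.a 1 3 = T.w 3 := by linarith only [ea13, eb13]
                  have h : T.w 3 * ((-2) * T.m 3 + (1) * T.m 1) = 0 := by
                    rw [z03, f1, z23, z34] at r3
                    linarith only [r3]
                  rcases mul_eq_zero.mp h with h' | h'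
                  · exfalso; linarith only [h', hw3]
                  · exact h'
                have hr4 : (-2) * T.m 4 + (2) * T.m 0 + (1) * T.m 1 = 0 := by
                  have f0 : T.a 0 4 = 2 * T.w 4 := by linarith only [ea04, eb04]
                  have f1 : T.a 1 4 = T.w 4 := by linarith only [ea14, eb14]
                  have h : T.w 4 * ((-2) * T.m 4 + (2) * T.m 0 + (1) * T.m 1) = 0 := by
                    rw [f0, f1, z24, z34] at r4
                    linarith only [r4]
                  rcases mul_eq_zero.mp h with h' | h'
                  · exfalso; linarith only [h', hw4]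
                  · exact h'
                have w0 : T.w 0 = 2 * T.w 1 := by linarith only [ea04, ea12, ea13, ea14]
                have w2 : T.w 2 = T.w 1 := by linarith only [ea04, ea12, ea13, ea14]
                have w3 : T.w 3 = T.w 1 := by linarith only [ea04, ea12, ea13, ea14]
                have w4 : T.w 4 = T.w 1 := by linarith only [ea04, ea12, ea13, ea14]
                have a04 : T.a 0 4 = 2 * T.w 1 := by linarith only [ea04, eb04, ea12, eb12, ea13, eb13, ea14, eb14]
                have a12 : T.a 1 2 = T.w 1 := by linarith only [ea04, eb04, ea12, eb12, ea13, eb13, ea14, eb14]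
                have a13 : T.a 1 3 = T.w 1 := by linarith only [ea04, eb04, ea12, eb12, ea13, eb13, ea14, eb14]
                have a14 : T.a 1 4 = T.w 1 := by linarith only [ea04, eb04, ea12, eb12, ea13, eb13, ea14, eb14]
                have m1 : T.m 1 = 2 * T.m 0 := by linarith only [hr0, hr1, hr2, hr3, hr4]
                have m2 : T.m 2 = T.m 0 := by linarith only [hr0, hr1, hr2, hr3, hr4]
                have m3 : T.m 3 = T.m 0 := by linarith only [hr0, hr1, hr2, hr3, hr4]
                have m4 : T.m 4 = 2 * T.m 0 := by linarith only [hr0, hr1, hr2, hr3, hr4]
                refine ⟨Equiv.ofBijective ![0, 4, 1, 2, 3] (by decide), T.m 0, T.w 4, ?_⟩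
                simp only [Equiv.ofBijective_apply, Matrix.cons_val_zero, Matrix.cons_val_one, Matrix.cons_val]
                refine Or.inr (Or.inr (Or.inr (Or.inr (Or.inr (Or.inr (Or.inr (Or.inl ⟨?_, ?_, ?_, ?_, ?_, ?_, ?_, ?_, ?_, ?_, ?_, ?_, ?_, ?_, ?_, ?_, ?_, ?_, ?_, ?_, ?_, ?_, ?_, ?_, ?_⟩)))))))
                all_goals first | rfl | trivial | linarith only [w0, w2, w3, w4, z01, z02, z03, a04, a12, a13, a14, z23, z24, z34, m1, m2, m3, m4, d0, d1, d2, d3, d4, s10, s20, s30, s40, s21, s31, s41, s32, s42, s43]
              · rcases Groth.Agent.Helper3.NumType.edge_casesT T h2 (by norm_num) (p := 3) (q := 4) (by decide) hp34 with e | e | e | e | e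
                · obtain ⟨ea34, eb34⟩ := e
                  exfalso
                  have t := Groth.Agent.Helper3.NumType.QT5 T h2 0 1 0 1 1 (by norm_num) (by norm_num)
                  linarith only [t, ea13, eb13, ea14, eb14, ea34, eb34, hw1, hw3, hw4]
                · obtain ⟨ea34, eb34⟩ := e
                  exfalso
                  have t := Groth.Agent.Helper3.NumType.QT5 T h2 1 0 0 2 2 (by norm_num) (by norm_num)
                  linarith only [t, z03, ea04, eb04, ea34, eb34, hw0, hw3, hw4]
                · obtain ⟨ea34, eb34⟩ := e
                  exfalso
                  have t := Groth.Agent.Helper3.NumType.QT5 T h2 1 0 0 1 2 (by norm_num) (by norm_num)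
                  linarith only [t, z03, ea04, eb04, ea34, eb34, hw0, hw3, hw4]
                · obtain ⟨ea34, eb34⟩ := e
                  exfalso
                  have t := Groth.Agent.Helper3.NumType.QT5 T h2 1 0 0 2 2 (by norm_num) (by norm_num)
                  linarith only [t, z03, ea04, eb04, ea34, eb34, hw0, hw3, hw4]
                · obtain ⟨ea34, eb34⟩ := e
                  exfalso
                  have t := Groth.Agent.Helper3.NumType.QT5 T h2 1 0 0 1 2 (by norm_num) (by norm_num)
                  linarith only [t, z03, ea04, eb04, ea34, eb34, hw0, hw3, hw4]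
            · rcases Groth.Agent.Helper3.NumType.edge_casesT T h2 (by norm_num) (p := 2) (q := 4) (by decide) hp24 with e | e | e | e | e
              · obtain ⟨ea24, eb24⟩ := e
                exfalso
                have t := Groth.Agent.Helper3.NumType.QT5 T h2 0 1 1 0 1 (by norm_num) (by norm_num)
                linarith only [t, ea12, eb12, ea14, eb14, ea24, eb24, hw1, hw2, hw4]
              · obtain ⟨ea24, eb24⟩ := e
                exfalso
                have t := Groth.Agent.Helper3.NumType.QT5 T h2 1 0 2 0 2 (by norm_num) (by norm_num)
                linarith only [t, z02, ea04, eb04, ea24, eb24, hw0, hw2, hw4]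
              · obtain ⟨ea24, eb24⟩ := e
                exfalso
                have t := Groth.Agent.Helper3.NumType.QT5 T h2 1 0 1 0 2 (by norm_num) (by norm_num)
                linarith only [t, z02, ea04, eb04, ea24, eb24, hw0, hw2, hw4]
              · obtain ⟨ea24, eb24⟩ := e
                exfalso
                have t := Groth.Agent.Helper3.NumType.QT5 T h2 1 0 2 0 2 (by norm_num) (by norm_num)
                linarith only [t, z02, ea04, eb04, ea24, eb24, hw0, hw2, hw4]
              · obtain ⟨ea24, eb24⟩ := e
                exfalso
                have t := Groth.Agent.Helper3.NumType.QT5 T h2 1 0 1 0 2 (by norm_num) (by norm_num)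
                linarith only [t, z02, ea04, eb04, ea24, eb24, hw0, hw2, hw4]
          · rcases Groth.Agent.Helper3.NumType.edge_casesT T h2 (by norm_num) (p := 2) (q := 3) (by decide) hp23 with e | e | e | e | e
            · obtain ⟨ea23, eb23⟩ := e
              exfalso
              have t := Groth.Agent.Helper3.NumType.QT5 T h2 0 1 1 1 0 (by norm_num) (by norm_num)
              linarith only [t, ea12, eb12, ea13, eb13, ea23, eb23, hw1, hw2, hw3]
            · obtain ⟨ea23, eb23⟩ := e
              exfalso
              linarith only [ea12, ea13, ea23, hw1, hw2, hw3]
            · obtain ⟨ea23, eb23⟩ := e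
              exfalso
              linarith only [ea12, ea13, ea23, hw1, hw2, hw3]
            · obtain ⟨ea23, eb23⟩ := e
              exfalso
              linarith only [ea12, ea13, ea23, hw1, hw2, hw3]
            · obtain ⟨ea23, eb23⟩ := e
              exfalso
              linarith only [ea12, ea13, ea23, hw1, hw2, hw3]
        · obtain ⟨ea14, eb14⟩ := e
          exfalso
          have t := Groth.Agent.Helper3.NumType.QT5 T h2 1 2 0 0 2 (by norm_num) (by norm_num)
          linarith only [t, z01, ea04, eb04, ea14, eb14, hw0, hw1, hw4]
        · obtain ⟨ea14, eb14⟩ := e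
          exfalso
          have t := Groth.Agent.Helper3.NumType.QT5 T h2 1 1 0 0 2 (by norm_num) (by norm_num)
          linarith only [t, z01, ea04, eb04, ea14, eb14, hw0, hw1, hw4]
        · obtain ⟨ea14, eb14⟩ := e
          exfalso
          have t := Groth.Agent.Helper3.NumType.QT5 T h2 1 2 0 0 2 (by norm_num) (by norm_num)
          linarith only [t, z01, ea04, eb04, ea14, eb14, hw0, hw1, hw4]
        · obtain ⟨ea14, eb14⟩ := e
          exfalso
          have t := Groth.Agent.Helper3.NumType.QT5 T h2 1 1 0 0 2 (by norm_num) (by norm_num)
          linarith only [t, z01, ea04, eb04, ea14, eb14, hw0, hw1, hw4]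
    · obtain ⟨ea13, eb13⟩ := e
      rcases eq_or_lt_of_le nn14 with z | hp14
      · have z14 : T.a 1 4 = 0 := z.symm
        rcases eq_or_lt_of_le nn23 with z | hp23
        · have z23 : T.a 2 3 = 0 := z.symm
          rcases eq_or_lt_of_le nn24 with z | hp24
          · have z24 : T.a 2 4 = 0 := z.symm
            rcases eq_or_lt_of_le nn34 with z | hp34
            · have z34 : T.a 3 4 = 0 := z.symm
              exfalso
              obtain ⟨i, hi, j, hj, hij⟩ := T.connected ({0, 4} : Finset (Fin 5)) (by decide) (by decide)
              fin_cases i <;> fin_cases j <;> first | exact absurd hi (by decide) | exact hj (by decide) | (apply hij; first | exact z01 | exact z02 | exact z03 | exact s41.trans z14 | exact s42.trans z24 | exact s43.trans z34)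
            · rcases Groth.Agent.Helper3.NumType.edge_casesT T h2 (by norm_num) (p := 3) (q := 4) (by decide) hp34 with e | e | e | e | e
              · obtain ⟨ea34, eb34⟩ := e
                exfalso
                have t := Groth.Agent.Helper3.NumType.QT5 T h2 1 2 0 2 2 (by norm_num) (by norm_num)
                linarith only [t, z01, z03, ea04, eb04, ea13, eb13, z14, ea34, eb34, hw0, hw1, hw3, hw4]
              · obtain ⟨ea34, eb34⟩ := e
                exfalso
                have t := Groth.Agent.Helper3.NumType.QT5 T h2 1 0 0 2 2 (by norm_num) (by norm_num)
                linarith only [t, z03, ea04, eb04, ea34, eb34, hw0, hw3, hw4]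
              · obtain ⟨ea34, eb34⟩ := e
                exfalso
                have t := Groth.Agent.Helper3.NumType.QT5 T h2 1 0 0 1 2 (by norm_num) (by norm_num)
                linarith only [t, z03, ea04, eb04, ea34, eb34, hw0, hw3, hw4]
              · obtain ⟨ea34, eb34⟩ := e
                exfalso
                have t := Groth.Agent.Helper3.NumType.QT5 T h2 1 0 0 2 2 (by norm_num) (by norm_num)
                linarith only [t, z03, ea04, eb04, ea34, eb34, hw0, hw3, hw4]
              · obtain ⟨ea34, eb34⟩ := e
                exfalso
                have t := Groth.Agent.Helper3.NumType.QT5 T h2 1 0 0 1 2 (by norm_num) (by norm_num)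
                linarith only [t, z03, ea04, eb04, ea34, eb34, hw0, hw3, hw4]
          · rcases Groth.Agent.Helper3.NumType.edge_casesT T h2 (by norm_num) (p := 2) (q := 4) (by decide) hp24 with e | e | e | e | e
            · obtain ⟨ea24, eb24⟩ := e
              rcases eq_or_lt_of_le nn34 with z | hp34
              · have z34 : T.a 3 4 = 0 := z.symm
                have hr0 : (-2) * T.m 0 + (1) * T.m 4 = 0 := by
                  have f4 : T.a 0 4 = T.w 0 := by linarith only [ea04, eb04]
                  have h : T.w 0 * ((-2) * T.m 0 + (1) * T.m 4) = 0 := by
                    rw [z01, z02, z03, f4] at r0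
                    linarith only [r0]
                  rcases mul_eq_zero.mp h with h' | h'
                  · exfalso; linarith only [h', hw0]
                  · exact h'
                have hr1 : (-2) * T.m 1 + (1) * T.m 2 + (2) * T.m 3 = 0 := by
                  have f2 : T.a 1 2 = T.w 1 := by linarith only [ea12, eb12]
                  have f3 : T.a 1 3 = 2 * T.w 1 := by linarith only [ea13, eb13]
                  have h : T.w 1 * ((-2) * T.m 1 + (1) * T.m 2 + (2) * T.m 3) = 0 := by
                    rw [z01, f2, f3, z14] at r1
                    linarith only [r1]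
                  rcases mul_eq_zero.mp h with h' | h'
                  · exfalso; linarith only [h', hw1]
                  · exact h'
                have hr2 : (-2) * T.m 2 + (1) * T.m 1 + (1) * T.m 4 = 0 := by
                  have f1 : T.a 1 2 = T.w 2 := by linarith only [ea12, eb12]
                  have f4 : T.a 2 4 = T.w 2 := by linarith only [ea24, eb24]
                  have h : T.w 2 * ((-2) * T.m 2 + (1) * T.m 1 + (1) * T.m 4) = 0 := by
                    rw [z02, f1, z23, f4] at r2
                    linarith only [r2]
                  rcases mul_eq_zero.mp h with h' | h'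
                  · exfalso; linarith only [h', hw2]
                  · exact h'
                have hr3 : (-2) * T.m 3 + (1) * T.m 1 = 0 := by
                  have f1 : T.a 1 3 = T.w 3 := by linarith only [ea13, eb13]
                  have h : T.w 3 * ((-2) * T.m 3 + (1) * T.m 1) = 0 := by
                    rw [z03, f1, z23, z34] at r3
                    linarith only [r3]
                  rcases mul_eq_zero.mp h with h' | h'
                  · exfalso; linarith only [h', hw3]
                  · exact h'
                have hr4 : (-2) * T.m 4 + (2) * T.m 0 + (1) * T.m 2 = 0 := by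
                  have f0 : T.a 0 4 = 2 * T.w 4 := by linarith only [ea04, eb04]
                  have f2 : T.a 2 4 = T.w 4 := by linarith only [ea24, eb24]
                  have h : T.w 4 * ((-2) * T.m 4 + (2) * T.m 0 + (1) * T.m 2) = 0 := by
                    rw [f0, z14, f2, z34] at r4
                    linarith only [r4]
                  rcases mul_eq_zero.mp h with h' | h'
                  · exfalso; linarith only [h', hw4]
                  · exact h'
                have w0 : T.w 0 = 2 * T.w 1 := by linarith only [ea04, ea12, ea13, ea24]
                have w2 : T.w 2 = T.w 1 := by linarith only [ea04, ea12, ea13, ea24]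
                have w3 : T.w 3 = 2 * T.w 1 := by linarith only [ea04, ea12, ea13, ea24]
                have w4 : T.w 4 = T.w 1 := by linarith only [ea04, ea12, ea13, ea24]
                have a04 : T.a 0 4 = 2 * T.w 1 := by linarith only [ea04, eb04, ea12, eb12, ea13, eb13, ea24, eb24]
                have a12 : T.a 1 2 = T.w 1 := by linarith only [ea04, eb04, ea12, eb12, ea13, eb13, ea24, eb24]
                have a13 : T.a 1 3 = 2 * T.w 1 := by linarith only [ea04, eb04, ea12, eb12, ea13, eb13, ea24, eb24]
                have a24 : T.a 2 4 = T.w 1 := by linarith only [ea04, eb04, ea12, eb12, ea13, eb13, ea24, eb24]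
                have m1 : T.m 1 = 2 * T.m 0 := by linarith only [hr0, hr1, hr2, hr3, hr4]
                have m2 : T.m 2 = 2 * T.m 0 := by linarith only [hr0, hr1, hr2, hr3, hr4]
                have m3 : T.m 3 = T.m 0 := by linarith only [hr0, hr1, hr2, hr3, hr4]
                have m4 : T.m 4 = 2 * T.m 0 := by linarith only [hr0, hr1, hr2, hr3, hr4]
                refine ⟨Equiv.ofBijective ![0, 4, 2, 1, 3] (by decide), T.m 0, T.w 4, ?_⟩
                simp only [Equiv.ofBijective_apply, Matrix.cons_val_zero, Matrix.cons_val_one, Matrix.cons_val]
                refine Or.inr (Or.inr (Or.inr (Or.inr (Or.inr (Or.inl ⟨?_, ?_, ?_, ?_, ?_, ?_, ?_, ?_, ?_, ?_, ?_, ?_, ?_, ?_, ?_, ?_, ?_, ?_, ?_, ?_, ?_, ?_, ?_, ?_, ?_⟩)))))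
                all_goals first | rfl | trivial | linarith only [w0, w2, w3, w4, z01, z02, z03, a04, a12, a13, z14, z23, a24, z34, m1, m2, m3, m4, d0, d1, d2, d3, d4, s10, s20, s30, s40, s21, s31, s41, s32, s42, s43]
              · rcases Groth.Agent.Helper3.NumType.edge_casesT T h2 (by norm_num) (p := 3) (q := 4) (by decide) hp34 with e | e | e | e | e
                · obtain ⟨ea34, eb34⟩ := e
                  exfalso
                  have t := Groth.Agent.Helper3.NumType.QT5 T h2 1 2 0 2 2 (by norm_num) (by norm_num)
                  linarith only [t, z01, z03, ea04, eb04, ea13, eb13, z14, ea34, eb34, hw0, hw1, hw3, hw4]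
                · obtain ⟨ea34, eb34⟩ := e
                  exfalso
                  have t := Groth.Agent.Helper3.NumType.QT5 T h2 1 0 0 2 2 (by norm_num) (by norm_num)
                  linarith only [t, z03, ea04, eb04, ea34, eb34, hw0, hw3, hw4]
                · obtain ⟨ea34, eb34⟩ := e
                  exfalso
                  have t := Groth.Agent.Helper3.NumType.QT5 T h2 1 0 0 1 2 (by norm_num) (by norm_num)
                  linarith only [t, z03, ea04, eb04, ea34, eb34, hw0, hw3, hw4]
                · obtain ⟨ea34, eb34⟩ := e
                  exfalso
                  have t := Groth.Agent.Helper3.NumType.QT5 T h2 1 0 0 2 2 (by norm_num) (by norm_num)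
                  linarith only [t, z03, ea04, eb04, ea34, eb34, hw0, hw3, hw4]
                · obtain ⟨ea34, eb34⟩ := e
                  exfalso
                  have t := Groth.Agent.Helper3.NumType.QT5 T h2 1 0 0 1 2 (by norm_num) (by norm_num)
                  linarith only [t, z03, ea04, eb04, ea34, eb34, hw0, hw3, hw4]
            · obtain ⟨ea24, eb24⟩ := e
              exfalso
              have t := Groth.Agent.Helper3.NumType.QT5 T h2 1 0 2 0 2 (by norm_num) (by norm_num)
              linarith only [t, z02, ea04, eb04, ea24, eb24, hw0, hw2, hw4]
            · obtain ⟨ea24, eb24⟩ := e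
              exfalso
              have t := Groth.Agent.Helper3.NumType.QT5 T h2 1 0 1 0 2 (by norm_num) (by norm_num)
              linarith only [t, z02, ea04, eb04, ea24, eb24, hw0, hw2, hw4]
            · obtain ⟨ea24, eb24⟩ := e
              exfalso
              have t := Groth.Agent.Helper3.NumType.QT5 T h2 1 0 2 0 2 (by norm_num) (by norm_num)
              linarith only [t, z02, ea04, eb04, ea24, eb24, hw0, hw2, hw4]
            · obtain ⟨ea24, eb24⟩ := e
              exfalso
              have t := Groth.Agent.Helper3.NumType.QT5 T h2 1 0 1 0 2 (by norm_num) (by norm_num)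
              linarith only [t, z02, ea04, eb04, ea24, eb24, hw0, hw2, hw4]
        · rcases Groth.Agent.Helper3.NumType.edge_casesT T h2 (by norm_num) (p := 2) (q := 3) (by decide) hp23 with e | e | e | e | e
          · obtain ⟨ea23, eb23⟩ := e
            exfalso
            linarith only [ea12, ea13, ea23, hw1, hw2, hw3]
          · obtain ⟨ea23, eb23⟩ := e
            exfalso
            have t := Groth.Agent.Helper3.NumType.QT5 T h2 0 1 1 1 0 (by norm_num) (by norm_num)
            linarith only [t, ea12, eb12, ea13, eb13, ea23, eb23, hw1, hw2, hw3]
          · obtain ⟨ea23, eb23⟩ := e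
            exfalso
            linarith only [ea12, ea13, ea23, hw1, hw2, hw3]
          · obtain ⟨ea23, eb23⟩ := e
            exfalso
            linarith only [ea12, ea13, ea23, hw1, hw2, hw3]
          · obtain ⟨ea23, eb23⟩ := e
            exfalso
            linarith only [ea12, ea13, ea23, hw1, hw2, hw3]
      · rcases Groth.Agent.Helper3.NumType.edge_casesT T h2 (by norm_num) (p := 1) (q := 4) (by decide) hp14 with e | e | e | e | e
        · obtain ⟨ea14, eb14⟩ := e
          exfalso
          have t := Groth.Agent.Helper3.NumType.QT5 T h2 1 2 0 1 2 (by norm_num) (by norm_num)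
          linarith only [t, z01, z03, ea04, eb04, ea13, eb13, ea14, eb14, nn34, hw0, hw1, hw3, hw4]
        · obtain ⟨ea14, eb14⟩ := e
          exfalso
          have t := Groth.Agent.Helper3.NumType.QT5 T h2 1 2 0 0 2 (by norm_num) (by norm_num)
          linarith only [t, z01, ea04, eb04, ea14, eb14, hw0, hw1, hw4]
        · obtain ⟨ea14, eb14⟩ := e
          exfalso
          have t := Groth.Agent.Helper3.NumType.QT5 T h2 1 1 0 0 2 (by norm_num) (by norm_num)
          linarith only [t, z01, ea04, eb04, ea14, eb14, hw0, hw1, hw4]
        · obtain ⟨ea14, eb14⟩ := e
          exfalso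
          have t := Groth.Agent.Helper3.NumType.QT5 T h2 1 2 0 0 2 (by norm_num) (by norm_num)
          linarith only [t, z01, ea04, eb04, ea14, eb14, hw0, hw1, hw4]
        · obtain ⟨ea14, eb14⟩ := e
          exfalso
          have t := Groth.Agent.Helper3.NumType.QT5 T h2 1 1 0 0 2 (by norm_num) (by norm_num)
          linarith only [t, z01, ea04, eb04, ea14, eb14, hw0, hw1, hw4]
    · obtain ⟨ea13, eb13⟩ := e
      rcases eq_or_lt_of_le nn14 with z | hp14
      · have z14 : T.a 1 4 = 0 := z.symm
        rcases eq_or_lt_of_le nn23 with z | hp23
        · have z23 : T.a 2 3 = 0 := z.symm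
          rcases eq_or_lt_of_le nn24 with z | hp24
          · have z24 : T.a 2 4 = 0 := z.symm
            rcases eq_or_lt_of_le nn34 with z | hp34
            · have z34 : T.a 3 4 = 0 := z.symm
              exfalso
              obtain ⟨i, hi, j, hj, hij⟩ := T.connected ({0, 4} : Finset (Fin 5)) (by decide) (by decide)
              fin_cases i <;> fin_cases j <;> first | exact absurd hi (by decide) | exact hj (by decide) | (apply hij; first | exact z01 | exact z02 | exact z03 | exact s41.trans z14 | exact s42.trans z24 | exact s43.trans z34)
            · rcases Groth.Agent.Helper3.NumType.edge_casesT T h2 (by norm_num) (p := 3) (q := 4) (by decide) hp34 with e | e | e | e | e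
              · obtain ⟨ea34, eb34⟩ := e
                exfalso
                have t := Groth.Agent.Helper3.NumType.QT5 T h2 1 1 0 2 2 (by norm_num) (by norm_num)
                linarith only [t, z01, z03, ea04, eb04, ea13, eb13, z14, ea34, eb34, hw0, hw1, hw3, hw4]
              · obtain ⟨ea34, eb34⟩ := e
                exfalso
                have t := Groth.Agent.Helper3.NumType.QT5 T h2 1 0 0 2 2 (by norm_num) (by norm_num)
                linarith only [t, z03, ea04, eb04, ea34, eb34, hw0, hw3, hw4]
              · obtain ⟨ea34, eb34⟩ := e
                exfalso
                have t := Groth.Agent.Helper3.NumType.QT5 T h2 1 0 0 1 2 (by norm_num) (by norm_num)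
                linarith only [t, z03, ea04, eb04, ea34, eb34, hw0, hw3, hw4]
              · obtain ⟨ea34, eb34⟩ := e
                exfalso
                have t := Groth.Agent.Helper3.NumType.QT5 T h2 1 0 0 2 2 (by norm_num) (by norm_num)
                linarith only [t, z03, ea04, eb04, ea34, eb34, hw0, hw3, hw4]
              · obtain ⟨ea34, eb34⟩ := e
                exfalso
                have t := Groth.Agent.Helper3.NumType.QT5 T h2 1 0 0 1 2 (by norm_num) (by norm_num)
                linarith only [t, z03, ea04, eb04, ea34, eb34, hw0, hw3, hw4]
          · rcases Groth.Agent.Helper3.NumType.edge_casesT T h2 (by norm_num) (p := 2) (q := 4) (by decide) hp24 with e | e | e | e | e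
            · obtain ⟨ea24, eb24⟩ := e
              rcases eq_or_lt_of_le nn34 with z | hp34
              · have z34 : T.a 3 4 = 0 := z.symm
                have hr0 : (-2) * T.m 0 + (1) * T.m 4 = 0 := by
                  have f4 : T.a 0 4 = T.w 0 := by linarith only [ea04, eb04]
                  have h : T.w 0 * ((-2) * T.m 0 + (1) * T.m 4) = 0 := by
                    rw [z01, z02, z03, f4] at r0
                    linarith only [r0]
                  rcases mul_eq_zero.mp h with h' | h'
                  · exfalso; linarith only [h', hw0]
                  · exact h'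
                have hr1 : (-2) * T.m 1 + (1) * T.m 2 + (1) * T.m 3 = 0 := by
                  have f2 : T.a 1 2 = T.w 1 := by linarith only [ea12, eb12]
                  have f3 : T.a 1 3 = T.w 1 := by linarith only [ea13, eb13]
                  have h : T.w 1 * ((-2) * T.m 1 + (1) * T.m 2 + (1) * T.m 3) = 0 := by
                    rw [z01, f2, f3, z14] at r1
                    linarith only [r1]
                  rcases mul_eq_zero.mp h with h' | h'
                  · exfalso; linarith only [h', hw1]
                  · exact h'
                have hr2 : (-2) * T.m 2 + (1) * T.m 1 + (1) * T.m 4 = 0 := by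
                  have f1 : T.a 1 2 = T.w 2 := by linarith only [ea12, eb12]
                  have f4 : T.a 2 4 = T.w 2 := by linarith only [ea24, eb24]
                  have h : T.w 2 * ((-2) * T.m 2 + (1) * T.m 1 + (1) * T.m 4) = 0 := by
                    rw [z02, f1, z23, f4] at r2
                    linarith only [r2]
                  rcases mul_eq_zero.mp h with h' | h'
                  · exfalso; linarith only [h', hw2]
                  · exact h'
                have hr3 : (-2) * T.m 3 + (2) * T.m 1 = 0 := by
                  have f1 : T.a 1 3 = 2 * T.w 3 := by linarith only [ea13, eb13]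
                  have h : T.w 3 * ((-2) * T.m 3 + (2) * T.m 1) = 0 := by
                    rw [z03, f1, z23, z34] at r3
                    linarith only [r3]
                  rcases mul_eq_zero.mp h with h' | h'
                  · exfalso; linarith only [h', hw3]
                  · exact h'
                have hr4 : (-2) * T.m 4 + (2) * T.m 0 + (1) * T.m 2 = 0 := by
                  have f0 : T.a 0 4 = 2 * T.w 4 := by linarith only [ea04, eb04]
                  have f2 : T.a 2 4 = T.w 4 := by linarith only [ea24, eb24]
                  have h : T.w 4 * ((-2) * T.m 4 + (2) * T.m 0 + (1) * T.m 2) = 0 := by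
                    rw [f0, z14, f2, z34] at r4
                    linarith only [r4]
                  rcases mul_eq_zero.mp h with h' | h'
                  · exfalso; linarith only [h', hw4]
                  · exact h'
                have w0 : T.w 0 = 4 * T.w 3 := by linarith only [ea04, ea12, ea13, ea24]
                have w1 : T.w 1 = 2 * T.w 3 := by linarith only [ea04, ea12, ea13, ea24]
                have w2 : T.w 2 = 2 * T.w 3 := by linarith only [ea04, ea12, ea13, ea24]
                have w4 : T.w 4 = 2 * T.w 3 := by linarith only [ea04, ea12, ea13, ea24]
                have a04 : T.a 0 4 = 4 * T.w 3 := by linarith only [ea04, eb04, ea12, eb12, ea13, eb13, ea24, eb24]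
                have a12 : T.a 1 2 = 2 * T.w 3 := by linarith only [ea04, eb04, ea12, eb12, ea13, eb13, ea24, eb24]
                have a13 : T.a 1 3 = 2 * T.w 3 := by linarith only [ea04, eb04, ea12, eb12, ea13, eb13, ea24, eb24]
                have a24 : T.a 2 4 = 2 * T.w 3 := by linarith only [ea04, eb04, ea12, eb12, ea13, eb13, ea24, eb24]
                have m1 : T.m 1 = 2 * T.m 0 := by linarith only [hr0, hr1, hr2, hr3, hr4]
                have m2 : T.m 2 = 2 * T.m 0 := by linarith only [hr0, hr1, hr2, hr3, hr4]
                have m3 : T.m 3 = 2 * T.m 0 := by linarith only [hr0, hr1, hr2, hr3, hr4]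
                have m4 : T.m 4 = 2 * T.m 0 := by linarith only [hr0, hr1, hr2, hr3, hr4]
                refine ⟨Equiv.ofBijective ![3, 1, 2, 4, 0] (by decide), T.m 0, T.w 3, ?_⟩
                simp only [Equiv.ofBijective_apply, Matrix.cons_val_zero, Matrix.cons_val_one, Matrix.cons_val]
                refine Or.inr (Or.inr (Or.inr (Or.inl ⟨?_, ?_, ?_, ?_, ?_, ?_, ?_, ?_, ?_, ?_, ?_, ?_, ?_, ?_, ?_, ?_, ?_, ?_, ?_, ?_, ?_, ?_, ?_, ?_, ?_⟩)))
                all_goals first | rfl | trivial | linarith only [w0, w1, w2, w4, z01, z02, z03, a04, a12, a13, z14, z23, a24, z34, m1, m2, m3, m4, d0, d1, d2, d3, d4, s10, s20, s30, s40, s21, s31, s41, s32, s42, s43]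
              · rcases Groth.Agent.Helper3.NumType.edge_casesT T h2 (by norm_num) (p := 3) (q := 4) (by decide) hp34 with e | e | e | e | e
                · obtain ⟨ea34, eb34⟩ := e
                  exfalso
                  have t := Groth.Agent.Helper3.NumType.QT5 T h2 1 1 0 2 2 (by norm_num) (by norm_num)
                  linarith only [t, z01, z03, ea04, eb04, ea13, eb13, z14, ea34, eb34, hw0, hw1, hw3, hw4]
                · obtain ⟨ea34, eb34⟩ := e
                  exfalso
                  have t := Groth.Agent.Helper3.NumType.QT5 T h2 1 0 0 2 2 (by norm_num) (by norm_num)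
                  linarith only [t, z03, ea04, eb04, ea34, eb34, hw0, hw3, hw4]
                · obtain ⟨ea34, eb34⟩ := e
                  exfalso
                  have t := Groth.Agent.Helper3.NumType.QT5 T h2 1 0 0 1 2 (by norm_num) (by norm_num)
                  linarith only [t, z03, ea04, eb04, ea34, eb34, hw0, hw3, hw4]
                · obtain ⟨ea34, eb34⟩ := e
                  exfalso
                  have t := Groth.Agent.Helper3.NumType.QT5 T h2 1 0 0 2 2 (by norm_num) (by norm_num)
                  linarith only [t, z03, ea04, eb04, ea34, eb34, hw0, hw3, hw4]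
                · obtain ⟨ea34, eb34⟩ := e
                  exfalso
                  have t := Groth.Agent.Helper3.NumType.QT5 T h2 1 0 0 1 2 (by norm_num) (by norm_num)
                  linarith only [t, z03, ea04, eb04, ea34, eb34, hw0, hw3, hw4]
            · obtain ⟨ea24, eb24⟩ := e
              exfalso
              have t := Groth.Agent.Helper3.NumType.QT5 T h2 1 0 2 0 2 (by norm_num) (by norm_num)
              linarith only [t, z02, ea04, eb04, ea24, eb24, hw0, hw2, hw4]
            · obtain ⟨ea24, eb24⟩ := e
              exfalso
              have t := Groth.Agent.Helper3.NumType.QT5 T h2 1 0 1 0 2 (by norm_num) (by norm_num)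
              linarith only [t, z02, ea04, eb04, ea24, eb24, hw0, hw2, hw4]
            · obtain ⟨ea24, eb24⟩ := e
              exfalso
              have t := Groth.Agent.Helper3.NumType.QT5 T h2 1 0 2 0 2 (by norm_num) (by norm_num)
              linarith only [t, z02, ea04, eb04, ea24, eb24, hw0, hw2, hw4]
            · obtain ⟨ea24, eb24⟩ := e
              exfalso
              have t := Groth.Agent.Helper3.NumType.QT5 T h2 1 0 1 0 2 (by norm_num) (by norm_num)
              linarith only [t, z02, ea04, eb04, ea24, eb24, hw0, hw2, hw4]
        · rcases Groth.Agent.Helper3.NumType.edge_casesT T h2 (by norm_num) (p := 2) (q := 3) (by decide) hp23 with e | e | e | e | e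
          · obtain ⟨ea23, eb23⟩ := e
            exfalso
            linarith only [ea12, ea13, ea23, hw1, hw2, hw3]
          · obtain ⟨ea23, eb23⟩ := e
            exfalso
            linarith only [ea12, ea13, ea23, hw1, hw2, hw3]
          · obtain ⟨ea23, eb23⟩ := e
            exfalso
            have t := Groth.Agent.Helper3.NumType.QT5 T h2 0 1 1 1 0 (by norm_num) (by norm_num)
            linarith only [t, ea12, eb12, ea13, eb13, ea23, eb23, hw1, hw2, hw3]
          · obtain ⟨ea23, eb23⟩ := e
            exfalso
            linarith only [ea12, ea13, ea23, hw1, hw2, hw3]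
          · obtain ⟨ea23, eb23⟩ := e
            exfalso
            linarith only [ea12, ea13, ea23, hw1, hw2, hw3]
      · rcases Groth.Agent.Helper3.NumType.edge_casesT T h2 (by norm_num) (p := 1) (q := 4) (by decide) hp14 with e | e | e | e | e
        · obtain ⟨ea14, eb14⟩ := e
          exfalso
          have t := Groth.Agent.Helper3.NumType.QT5 T h2 1 2 0 2 2 (by norm_num) (by norm_num)
          linarith only [t, z01, z03, ea04, eb04, ea13, eb13, ea14, eb14, nn34, hw0, hw1, hw3, hw4]
        · obtain ⟨ea14, eb14⟩ := e
          exfalso
          have t := Groth.Agent.Helper3.NumType.QT5 T h2 1 2 0 0 2 (by norm_num) (by norm_num)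
          linarith only [t, z01, ea04, eb04, ea14, eb14, hw0, hw1, hw4]
        · obtain ⟨ea14, eb14⟩ := e
          exfalso
          have t := Groth.Agent.Helper3.NumType.QT5 T h2 1 1 0 0 2 (by norm_num) (by norm_num)
          linarith only [t, z01, ea04, eb04, ea14, eb14, hw0, hw1, hw4]
        · obtain ⟨ea14, eb14⟩ := e
          exfalso
          have t := Groth.Agent.Helper3.NumType.QT5 T h2 1 2 0 0 2 (by norm_num) (by norm_num)
          linarith only [t, z01, ea04, eb04, ea14, eb14, hw0, hw1, hw4]
        · obtain ⟨ea14, eb14⟩ := e
          exfalso
          have t := Groth.Agent.Helper3.NumType.QT5 T h2 1 1 0 0 2 (by norm_num) (by norm_num)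
          linarith only [t, z01, ea04, eb04, ea14, eb14, hw0, hw1, hw4]
    · obtain ⟨ea13, eb13⟩ := e
      exfalso
      have t := Groth.Agent.Helper3.NumType.QT5 T h2 0 2 1 1 0 (by norm_num) (by norm_num)
      linarith only [t, ea12, eb12, ea13, eb13, nn23, hw1, hw2, hw3]
    · obtain ⟨ea13, eb13⟩ := e
      exfalso
      have t := Groth.Agent.Helper3.NumType.QT5 T h2 0 2 1 3 0 (by norm_num) (by norm_num)
      linarith only [t, ea12, eb12, ea13, eb13, nn23, hw1, hw2, hw3]

end Groth.Agent.Helper3.NumType
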