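import Groth.Agent.Helper3.NumType

namespace Groth.Agent.Helper3.NumType

open Finset Models

theorem sum_univ_nine (f : Fin 9 → ℤ) :
    ∑ i, f i = f 0 + f 1 + f 2 + f 3 + f 4 + f 5 + f 6 + f 7 + f 8 := by
  rw [Fin.sum_univ_castSucc, Fin.sum_univ_eight]
  rfl

theorem Sub.Q3 (S : Sub 3) (c0 c1 c2 : ℤ) (h : ¬(c0 = 0 ∧ c1 = 0 ∧ c2 = 0)) :
    -2 * S.W 0 * (c0 * c0) + -2 * S.W 1 * (c1 * c1) + -2 * S.W 2 * (c2 * c2) + 2 * S.A 0 1 * (c0 * c1) + 2 * S.A 0 2 * (c0 * c2) + 2 * S.A 1 2 * (c1 * c2) < 0 := by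
  have t := S.hQ ![c0, c1, c2] (by
    intro h'
    apply h
    refine ⟨?_, ?_, ?_⟩
    · simpa using congrFun h' 0
    · simpa using congrFun h' 1
    · simpa using congrFun h' 2
    )
  simp only [Fin.sum_univ_three, Matrix.cons_val_zero, Matrix.cons_val_one, Matrix.cons_val] at t
  rw [S.hdiag 0, S.hdiag 1, S.hdiag 2, S.hsymm 1 0, S.hsymm 2 0, S.hsymm 2 1] at t
  linarith


theorem Sub.Q4 (S : Sub 4) (c0 c1 c2 c3 : ℤ) (h : ¬(c0 = 0 ∧ c1 = 0 ∧ c2 = 0 ∧ c3 = 0)) :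
    -2 * S.W 0 * (c0 * c0) + -2 * S.W 1 * (c1 * c1) + -2 * S.W 2 * (c2 * c2) + -2 * S.W 3 * (c3 * c3) + 2 * S.A 0 1 * (c0 * c1) + 2 * S.A 0 2 * (c0 * c2) + 2 * S.A 0 3 * (c0 * c3) + 2 * S.A 1 2 * (c1 * c2) + 2 * S.A 1 3 * (c1 * c3) + 2 * S.A 2 3 * (c2 * c3) < 0 := by
  have t := S.hQ ![c0, c1, c2, c3] (by
    intro h'
    apply h
    refine ⟨?_, ?_, ?_, ?_⟩
    · simpa using congrFun h' 0
    · simpa using congrFun h' 1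
    · simpa using congrFun h' 2
    · simpa using congrFun h' 3
    )
  simp only [Fin.sum_univ_four, Matrix.cons_val_zero, Matrix.cons_val_one, Matrix.cons_val] at t
  rw [S.hdiag 0, S.hdiag 1, S.hdiag 2, S.hdiag 3, S.hsymm 1 0, S.hsymm 2 0, S.hsymm 3 0, S.hsymm 2 1, S.hsymm 3 1, S.hsymm 3 2] at t
  linarith


theorem Sub.Q5 (S : Sub 5) (c0 c1 c2 c3 c4 : ℤ) (h : ¬(c0 = 0 ∧ c1 = 0 ∧ c2 = 0 ∧ c3 = 0 ∧ c4 = 0)) :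
    -2 * S.W 0 * (c0 * c0) + -2 * S.W 1 * (c1 * c1) + -2 * S.W 2 * (c2 * c2) + -2 * S.W 3 * (c3 * c3) + -2 * S.W 4 * (c4 * c4) + 2 * S.A 0 1 * (c0 * c1) + 2 * S.A 0 2 * (c0 * c2) + 2 * S.A 0 3 * (c0 * c3) + 2 * S.A 0 4 * (c0 * c4) + 2 * S.A 1 2 * (c1 * c2) + 2 * S.A 1 3 * (c1 * c3) + 2 * S.A 1 4 * (c1 * c4) + 2 * S.A 2 3 * (c2 * c3) + 2 * S.A 2 4 * (c2 * c4) + 2 * S.A 3 4 * (c3 * c4) < 0 := by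
  have t := S.hQ ![c0, c1, c2, c3, c4] (by
    intro h'
    apply h
    refine ⟨?_, ?_, ?_, ?_, ?_⟩
    · simpa using congrFun h' 0
    · simpa using congrFun h' 1
    · simpa using congrFun h' 2
    · simpa using congrFun h' 3
    · simpa using congrFun h' 4
    )
  simp only [Fin.sum_univ_five, Matrix.cons_val_zero, Matrix.cons_val_one, Matrix.cons_val] at t
  rw [S.hdiag 0, S.hdiag 1, S.hdiag 2, S.hdiag 3, S.hdiag 4, S.hsymm 1 0, S.hsymm 2 0, S.hsymm 3 0, S.hsymm 4 0, S.hsymm 2 1, S.hsymm 3 1, S.hsymm 4 1, S.hsymm 3 2, S.hsymm 4 2, S.hsymm 4 3] at t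
  linarith


theorem Sub.Q6 (S : Sub 6) (c0 c1 c2 c3 c4 c5 : ℤ) (h : ¬(c0 = 0 ∧ c1 = 0 ∧ c2 = 0 ∧ c3 = 0 ∧ c4 = 0 ∧ c5 = 0)) :
    -2 * S.W 0 * (c0 * c0) + -2 * S.W 1 * (c1 * c1) + -2 * S.W 2 * (c2 * c2) + -2 * S.W 3 * (c3 * c3) + -2 * S.W 4 * (c4 * c4) + -2 * S.W 5 * (c5 * c5) + 2 * S.A 0 1 * (c0 * c1) + 2 * S.A 0 2 * (c0 * c2) + 2 * S.A 0 3 * (c0 * c3) + 2 * S.A 0 4 * (c0 * c4) + 2 * S.A 0 5 * (c0 * c5) + 2 * S.A 1 2 * (c1 * c2) + 2 * S.A 1 3 * (c1 * c3) + 2 * S.A 1 4 * (c1 * c4) + 2 * S.A 1 5 * (c1 * c5) + 2 * S.A 2 3 * (c2 * c3) + 2 * S.A 2 4 * (c2 * c4) + 2 * S.A 2 5 * (c2 * c5) + 2 * S.A 3 4 * (c3 * c4) + 2 * S.A 3 5 * (c3 * c5) + 2 * S.A 4 5 * (c4 * c5) < 0 := by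
  have t := S.hQ ![c0, c1, c2, c3, c4, c5] (by
    intro h'
    apply h
    refine ⟨?_, ?_, ?_, ?_, ?_, ?_⟩
    · simpa using congrFun h' 0
    · simpa using congrFun h' 1
    · simpa using congrFun h' 2
    · simpa using congrFun h' 3
    · simpa using congrFun h' 4
    · simpa using congrFun h' 5
    )
  simp only [Fin.sum_univ_six, Matrix.cons_val_zero, Matrix.cons_val_one, Matrix.cons_val] at t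
  rw [S.hdiag 0, S.hdiag 1, S.hdiag 2, S.hdiag 3, S.hdiag 4, S.hdiag 5, S.hsymm 1 0, S.hsymm 2 0, S.hsymm 3 0, S.hsymm 4 0, S.hsymm 5 0, S.hsymm 2 1, S.hsymm 3 1, S.hsymm 4 1, S.hsymm 5 1, S.hsymm 3 2, S.hsymm 4 2, S.hsymm 5 2, S.hsymm 4 3, S.hsymm 5 3, S.hsymm 5 4] at t
  linarith


theorem Sub.Q7 (S : Sub 7) (c0 c1 c2 c3 c4 c5 c6 : ℤ) (h : ¬(c0 = 0 ∧ c1 = 0 ∧ c2 = 0 ∧ c3 = 0 ∧ c4 = 0 ∧ c5 = 0 ∧ c6 = 0)) :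
    -2 * S.W 0 * (c0 * c0) + -2 * S.W 1 * (c1 * c1) + -2 * S.W 2 * (c2 * c2) + -2 * S.W 3 * (c3 * c3) + -2 * S.W 4 * (c4 * c4) + -2 * S.W 5 * (c5 * c5) + -2 * S.W 6 * (c6 * c6) + 2 * S.A 0 1 * (c0 * c1) + 2 * S.A 0 2 * (c0 * c2) + 2 * S.A 0 3 * (c0 * c3) + 2 * S.A 0 4 * (c0 * c4) + 2 * S.A 0 5 * (c0 * c5) + 2 * S.A 0 6 * (c0 * c6) + 2 * S.A 1 2 * (c1 * c2) + 2 * S.A 1 3 * (c1 * c3) + 2 * S.A 1 4 * (c1 * c4) + 2 * S.A 1 5 * (c1 * c5) + 2 * S.A 1 6 * (c1 * c6) + 2 * S.A 2 3 * (c2 * c3) + 2 * S.A 2 4 * (c2 * c4) + 2 * S.A 2 5 * (c2 * c5) + 2 * S.A 2 6 * (c2 * c6) + 2 * S.A 3 4 * (c3 * c4) + 2 * S.A 3 5 * (c3 * c5) + 2 * S.A 3 6 * (c3 * c6) + 2 * S.A 4 5 * (c4 * c5) + 2 * S.A 4 6 * (c4 * c6) + 2 * S.A 5 6 * (c5 * c6) < 0 := by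
  have t := S.hQ ![c0, c1, c2, c3, c4, c5, c6] (by
    intro h'
    apply h
    refine ⟨?_, ?_, ?_, ?_, ?_, ?_, ?_⟩
    · simpa using congrFun h' 0
    · simpa using congrFun h' 1
    · simpa using congrFun h' 2
    · simpa using congrFun h' 3
    · simpa using congrFun h' 4
    · simpa using congrFun h' 5
    · simpa using congrFun h' 6
    )
  simp only [Fin.sum_univ_seven, Matrix.cons_val_zero, Matrix.cons_val_one, Matrix.cons_val] at t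
  rw [S.hdiag 0, S.hdiag 1, S.hdiag 2, S.hdiag 3, S.hdiag 4, S.hdiag 5, S.hdiag 6, S.hsymm 1 0, S.hsymm 2 0, S.hsymm 3 0, S.hsymm 4 0, S.hsymm 5 0, S.hsymm 6 0, S.hsymm 2 1, S.hsymm 3 1, S.hsymm 4 1, S.hsymm 5 1, S.hsymm 6 1, S.hsymm 3 2, S.hsymm 4 2, S.hsymm 5 2, S.hsymm 6 2, S.hsymm 4 3, S.hsymm 5 3, S.hsymm 6 3, S.hsymm 5 4, S.hsymm 6 4, S.hsymm 6 5] at t
  linarith


theorem Sub.Q8 (S : Sub 8) (c0 c1 c2 c3 c4 c5 c6 c7 : ℤ) (h : ¬(c0 = 0 ∧ c1 = 0 ∧ c2 = 0 ∧ c3 = 0 ∧ c4 = 0 ∧ c5 = 0 ∧ c6 = 0 ∧ c7 = 0)) :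
    -2 * S.W 0 * (c0 * c0) + -2 * S.W 1 * (c1 * c1) + -2 * S.W 2 * (c2 * c2) + -2 * S.W 3 * (c3 * c3) + -2 * S.W 4 * (c4 * c4) + -2 * S.W 5 * (c5 * c5) + -2 * S.W 6 * (c6 * c6) + -2 * S.W 7 * (c7 * c7) + 2 * S.A 0 1 * (c0 * c1) + 2 * S.A 0 2 * (c0 * c2) + 2 * S.A 0 3 * (c0 * c3) + 2 * S.A 0 4 * (c0 * c4) + 2 * S.A 0 5 * (c0 * c5) + 2 * S.A 0 6 * (c0 * c6) + 2 * S.A 0 7 * (c0 * c7) + 2 * S.A 1 2 * (c1 * c2) + 2 * S.A 1 3 * (c1 * c3) + 2 * S.A 1 4 * (c1 * c4) + 2 * S.A 1 5 * (c1 * c5) + 2 * S.A 1 6 * (c1 * c6) + 2 * S.A 1 7 * (c1 * c7) + 2 * S.A 2 3 * (c2 * c3) + 2 * S.A 2 4 * (c2 * c4) + 2 * S.A 2 5 * (c2 * c5) + 2 * S.A 2 6 * (c2 * c6) + 2 * S.A 2 7 * (c2 * c7) + 2 * S.A 3 4 * (c3 * c4) + 2 * S.A 3 5 * (c3 * c5) + 2 * S.A 3 6 * (c3 * c6) + 2 * S.A 3 7 * (c3 * c7) + 2 * S.A 4 5 *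 (c4 * c5) + 2 * S.A 4 6 * (c4 * c6) + 2 * S.A 4 7 * (c4 * c7) + 2 * S.A 5 6 * (c5 * c6) + 2 * S.A 5 7 * (c5 * c7) + 2 * S.A 6 7 * (c6 * c7) < 0 := by
  have t := S.hQ ![c0, c1, c2, c3, c4, c5, c6, c7] (by
    intro h'
    apply h
    refine ⟨?_, ?_, ?_, ?_, ?_, ?_, ?_, ?_⟩
    · simpa using congrFun h' 0
    · simpa using congrFun h' 1
    · simpa using congrFun h' 2
    · simpa using congrFun h' 3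
    · simpa using congrFun h' 4
    · simpa using congrFun h' 5
    · simpa using congrFun h' 6
    · simpa using congrFun h' 7
    )
  simp only [Fin.sum_univ_eight, Matrix.cons_val_zero, Matrix.cons_val_one, Matrix.cons_val] at t
  rw [S.hdiag 0, S.hdiag 1, S.hdiag 2, S.hdiag 3, S.hdiag 4, S.hdiag 5, S.hdiag 6, S.hdiag 7, S.hsymm 1 0, S.hsymm 2 0, S.hsymm 3 0, S.hsymm 4 0, S.hsymm 5 0, S.hsymm 6 0, S.hsymm 7 0, S.hsymm 2 1, S.hsymm 3 1, S.hsymm 4 1, S.hsymm 5 1, S.hsymm 6 1, S.hsymm 7 1, S.hsymm 3 2, S.hsymm 4 2, S.hsymm 5 2, S.hsymm 6 2, S.hsymm 7 2, S.hsymm 4 3, S.hsymm 5 3, S.hsymm 6 3, S.hsymm 7 3, S.hsymm 5 4, S.hsymm 6 4, S.hsymm 7 4, S.hsymm 6 5, S.hsymm 7 5, S.hsymm 7 6] at t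
  linarith


theorem Sub.Q9 (S : Sub 9) (c0 c1 c2 c3 c4 c5 c6 c7 c8 : ℤ) (h : ¬(c0 = 0 ∧ c1 = 0 ∧ c2 = 0 ∧ c3 = 0 ∧ c4 = 0 ∧ c5 = 0 ∧ c6 = 0 ∧ c7 = 0 ∧ c8 = 0)) :
    -2 * S.W 0 * (c0 * c0) + -2 * S.W 1 * (c1 * c1) + -2 * S.W 2 * (c2 * c2) + -2 * S.W 3 * (c3 * c3) + -2 * S.W 4 * (c4 * c4) + -2 * S.W 5 * (c5 * c5) + -2 * S.W 6 * (c6 * c6) + -2 * S.W 7 * (c7 * c7) + -2 * S.W 8 * (c8 * c8) + 2 * S.A 0 1 * (c0 * c1) + 2 * S.A 0 2 * (c0 * c2) + 2 * S.A 0 3 * (c0 * c3) + 2 * S.A 0 4 * (c0 * c4) + 2 * S.A 0 5 * (c0 * c5) + 2 * S.A 0 6 * (c0 * c6) + 2 * S.A 0 7 * (c0 * c7) + 2 * S.A 0 8 * (c0 * c8) + 2 * S.A 1 2 * (c1 * c2) + 2 * S.A 1 3 * (c1 * c3) + 2 * S.A 1 4 * (c1 * c4) + 2 * S.A 1 5 * (c1 * c5) + 2 * S.A 1 6 * (c1 * c6) + 2 * S.A 1 7 * (c1 * c7) + 2 * S.A 1 8 * (c1 * c8) + 2 * S.A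 2 3 * (c2 * c3) + 2 * S.A 2 4 * (c2 * c4) + 2 * S.A 2 5 * (c2 * c5) + 2 * S.A 2 6 * (c2 * c6) + 2 * S.A 2 7 * (c2 * c7) + 2 * S.A 2 8 * (c2 * c8) + 2 * S.A 3 4 * (c3 * c4) + 2 * S.A 3 5 * (c3 * c5) + 2 * S.A 3 6 * (c3 * c6) + 2 * S.A 3 7 * (c3 * c7) + 2 * S.A 3 8 * (c3 * c8) + 2 * S.A 4 5 * (c4 * c5) + 2 * S.A 4 6 * (c4 * c6) + 2 * S.A 4 7 * (c4 * c7) + 2 * S.A 4 8 * (c4 * c8) + 2 * S.A 5 6 * (c5 * c6) + 2 * S.A 5 7 * (c5 * c7) + 2 * S.A 5 8 * (c5 * c8) + 2 * S.A 6 7 * (c6 * c7) + 2 * S.A 6 8 * (c6 * c8) + 2 * S.A 7 8 * (c7 * c8) < 0 := by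
  have t := S.hQ ![c0, c1, c2, c3, c4, c5, c6, c7, c8] (by
    intro h'
    apply h
    refine ⟨?_, ?_, ?_, ?_, ?_, ?_, ?_, ?_, ?_⟩
    · simpa using congrFun h' 0
    · simpa using congrFun h' 1
    · simpa using congrFun h' 2
    · simpa using congrFun h' 3
    · simpa using congrFun h' 4
    · simpa using congrFun h' 5
    · simpa using congrFun h' 6
    · simpa using congrFun h' 7
    · simpa using congrFun h' 8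
    )
  simp only [sum_univ_nine, Matrix.cons_val_zero, Matrix.cons_val_one, Matrix.cons_val] at t
  rw [S.hdiag 0, S.hdiag 1, S.hdiag 2, S.hdiag 3, S.hdiag 4, S.hdiag 5, S.hdiag 6, S.hdiag 7, S.hdiag 8, S.hsymm 1 0, S.hsymm 2 0, S.hsymm 3 0, S.hsymm 4 0, S.hsymm 5 0, S.hsymm 6 0, S.hsymm 7 0, S.hsymm 8 0, S.hsymm 2 1, S.hsymm 3 1, S.hsymm 4 1, S.hsymm 5 1, S.hsymm 6 1, S.hsymm 7 1, S.hsymm 8 1, S.hsymm 3 2, S.hsymm 4 2, S.hsymm 5 2, S.hsymm 6 2, S.hsymm 7 2, S.hsymm 8 2, S.hsymm 4 3, S.hsymm 5 3, S.hsymm 6 3, S.hsymm 7 3, S.hsymm 8 3, S.hsymm 5 4, S.hsymm 6 4, S.hsymm 7 4, S.hsymm 8 4, S.hsymm 6 5, S.hsymm 7 5, S.hsymm 8 5, S.hsymm 7 6, S.hsymm 8 6, S.hsymm 8 7] at t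
  linarith


theorem Sub.R3_0 (S : Sub 3) :
    -2 * S.W 0 * S.M 0 + S.A 0 1 * S.M 1 + S.A 0 2 * S.M 2 ≤ 0 := by
  have t := S.hrow 0
  simp only [Fin.sum_univ_three] at t
  rw [S.hdiag 0] at t
  linarith

theorem Sub.R3_1 (S : Sub 3) :
    S.A 0 1 * S.M 0 + -2 * S.W 1 * S.M 1 + S.A 1 2 * S.M 2 ≤ 0 := by
  have t := S.hrow 1
  simp only [Fin.sum_univ_three] at t
  rw [S.hdiag 1, S.hsymm 1 0] at t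
  linarith

theorem Sub.R3_2 (S : Sub 3) :
    S.A 0 2 * S.M 0 + S.A 1 2 * S.M 1 + -2 * S.W 2 * S.M 2 ≤ 0 := by
  have t := S.hrow 2
  simp only [Fin.sum_univ_three] at t
  rw [S.hdiag 2, S.hsymm 2 0, S.hsymm 2 1] at t
  linarith


theorem Sub.R4_0 (S : Sub 4) :
    -2 * S.W 0 * S.M 0 + S.A 0 1 * S.M 1 + S.A 0 2 * S.M 2 + S.A 0 3 * S.M 3 ≤ 0 := by
  have t := S.hrow 0
  simp only [Fin.sum_univ_four] at t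
  rw [S.hdiag 0] at t
  linarith

theorem Sub.R4_1 (S : Sub 4) :
    S.A 0 1 * S.M 0 + -2 * S.W 1 * S.M 1 + S.A 1 2 * S.M 2 + S.A 1 3 * S.M 3 ≤ 0 := by
  have t := S.hrow 1
  simp only [Fin.sum_univ_four] at t
  rw [S.hdiag 1, S.hsymm 1 0] at t
  linarith

theorem Sub.R4_2 (S : Sub 4) :
    S.A 0 2 * S.M 0 + S.A 1 2 * S.M 1 + -2 * S.W 2 * S.M 2 + S.A 2 3 * S.M 3 ≤ 0 := by
  have t := S.hrow 2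
  simp only [Fin.sum_univ_four] at t
  rw [S.hdiag 2, S.hsymm 2 0, S.hsymm 2 1] at t
  linarith

theorem Sub.R4_3 (S : Sub 4) :
    S.A 0 3 * S.M 0 + S.A 1 3 * S.M 1 + S.A 2 3 * S.M 2 + -2 * S.W 3 * S.M 3 ≤ 0 := by
  have t := S.hrow 3
  simp only [Fin.sum_univ_four] at t
  rw [S.hdiag 3, S.hsymm 3 0, S.hsymm 3 1, S.hsymm 3 2] at t
  linarith


theorem Sub.R5_0 (S : Sub 5) :
    -2 * S.W 0 * S.M 0 + S.A 0 1 * S.M 1 + S.A 0 2 * S.M 2 + S.A 0 3 * S.M 3 + S.A 0 4 * S.M 4 ≤ 0 := by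
  have t := S.hrow 0
  simp only [Fin.sum_univ_five] at t
  rw [S.hdiag 0] at t
  linarith

theorem Sub.R5_1 (S : Sub 5) :
    S.A 0 1 * S.M 0 + -2 * S.W 1 * S.M 1 + S.A 1 2 * S.M 2 + S.A 1 3 * S.M 3 + S.A 1 4 * S.M 4 ≤ 0 := by
  have t := S.hrow 1
  simp only [Fin.sum_univ_five] at t
  rw [S.hdiag 1, S.hsymm 1 0] at t
  linarith

theorem Sub.R5_2 (S : Sub 5) :
    S.A 0 2 * S.M 0 + S.A 1 2 * S.M 1 + -2 * S.W 2 * S.M 2 + S.A 2 3 * S.M 3 + S.A 2 4 * S.M 4 ≤ 0 := by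
  have t := S.hrow 2
  simp only [Fin.sum_univ_five] at t
  rw [S.hdiag 2, S.hsymm 2 0, S.hsymm 2 1] at t
  linarith

theorem Sub.R5_3 (S : Sub 5) :
    S.A 0 3 * S.M 0 + S.A 1 3 * S.M 1 + S.A 2 3 * S.M 2 + -2 * S.W 3 * S.M 3 + S.A 3 4 * S.M 4 ≤ 0 := by
  have t := S.hrow 3
  simp only [Fin.sum_univ_five] at t
  rw [S.hdiag 3, S.hsymm 3 0, S.hsymm 3 1, S.hsymm 3 2] at t
  linarith

theorem Sub.R5_4 (S : Sub 5) :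
    S.A 0 4 * S.M 0 + S.A 1 4 * S.M 1 + S.A 2 4 * S.M 2 + S.A 3 4 * S.M 3 + -2 * S.W 4 * S.M 4 ≤ 0 := by
  have t := S.hrow 4
  simp only [Fin.sum_univ_five] at t
  rw [S.hdiag 4, S.hsymm 4 0, S.hsymm 4 1, S.hsymm 4 2, S.hsymm 4 3] at t
  linarith


theorem Sub.R6_0 (S : Sub 6) :
    -2 * S.W 0 * S.M 0 + S.A 0 1 * S.M 1 + S.A 0 2 * S.M 2 + S.A 0 3 * S.M 3 + S.A 0 4 * S.M 4 + S.A 0 5 * S.M 5 ≤ 0 := by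
  have t := S.hrow 0
  simp only [Fin.sum_univ_six] at t
  rw [S.hdiag 0] at t
  linarith

theorem Sub.R6_1 (S : Sub 6) :
    S.A 0 1 * S.M 0 + -2 * S.W 1 * S.M 1 + S.A 1 2 * S.M 2 + S.A 1 3 * S.M 3 + S.A 1 4 * S.M 4 + S.A 1 5 * S.M 5 ≤ 0 := by
  have t := S.hrow 1
  simp only [Fin.sum_univ_six] at t
  rw [S.hdiag 1, S.hsymm 1 0] at t
  linarith

theorem Sub.R6_2 (S : Sub 6) :
    S.A 0 2 * S.M 0 + S.A 1 2 * S.M 1 + -2 * S.W 2 * S.M 2 + S.A 2 3 * S.M 3 + S.A 2 4 * S.M 4 + S.A 2 5 * S.M 5 ≤ 0 := by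
  have t := S.hrow 2
  simp only [Fin.sum_univ_six] at t
  rw [S.hdiag 2, S.hsymm 2 0, S.hsymm 2 1] at t
  linarith

theorem Sub.R6_3 (S : Sub 6) :
    S.A 0 3 * S.M 0 + S.A 1 3 * S.M 1 + S.A 2 3 * S.M 2 + -2 * S.W 3 * S.M 3 + S.A 3 4 * S.M 4 + S.A 3 5 * S.M 5 ≤ 0 := by
  have t := S.hrow 3
  simp only [Fin.sum_univ_six] at t
  rw [S.hdiag 3, S.hsymm 3 0, S.hsymm 3 1, S.hsymm 3 2] at t
  linarith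

theorem Sub.R6_4 (S : Sub 6) :
    S.A 0 4 * S.M 0 + S.A 1 4 * S.M 1 + S.A 2 4 * S.M 2 + S.A 3 4 * S.M 3 + -2 * S.W 4 * S.M 4 + S.A 4 5 * S.M 5 ≤ 0 := by
  have t := S.hrow 4
  simp only [Fin.sum_univ_six] at t
  rw [S.hdiag 4, S.hsymm 4 0, S.hsymm 4 1, S.hsymm 4 2, S.hsymm 4 3] at t
  linarith

theorem Sub.R6_5 (S : Sub 6) :
    S.A 0 5 * S.M 0 + S.A 1 5 * S.M 1 + S.A 2 5 * S.M 2 + S.A 3 5 * S.M 3 + S.A 4 5 * S.M 4 + -2 * S.W 5 * S.M 5 ≤ 0 := by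
  have t := S.hrow 5
  simp only [Fin.sum_univ_six] at t
  rw [S.hdiag 5, S.hsymm 5 0, S.hsymm 5 1, S.hsymm 5 2, S.hsymm 5 3, S.hsymm 5 4] at t
  linarith


theorem Sub.R7_0 (S : Sub 7) :
    -2 * S.W 0 * S.M 0 + S.A 0 1 * S.M 1 + S.A 0 2 * S.M 2 + S.A 0 3 * S.M 3 + S.A 0 4 * S.M 4 + S.A 0 5 * S.M 5 + S.A 0 6 * S.M 6 ≤ 0 := by
  have t := S.hrow 0
  simp only [Fin.sum_univ_seven] at t
  rw [S.hdiag 0] at t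
  linarith

theorem Sub.R7_1 (S : Sub 7) :
    S.A 0 1 * S.M 0 + -2 * S.W 1 * S.M 1 + S.A 1 2 * S.M 2 + S.A 1 3 * S.M 3 + S.A 1 4 * S.M 4 + S.A 1 5 * S.M 5 + S.A 1 6 * S.M 6 ≤ 0 := by
  have t := S.hrow 1
  simp only [Fin.sum_univ_seven] at t
  rw [S.hdiag 1, S.hsymm 1 0] at t
  linarith

theorem Sub.R7_2 (S : Sub 7) :
    S.A 0 2 * S.M 0 + S.A 1 2 * S.M 1 + -2 * S.W 2 * S.M 2 + S.A 2 3 * S.M 3 + S.A 2 4 * S.M 4 + S.A 2 5 * S.M 5 + S.A 2 6 * S.M 6 ≤ 0 := by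
  have t := S.hrow 2
  simp only [Fin.sum_univ_seven] at t
  rw [S.hdiag 2, S.hsymm 2 0, S.hsymm 2 1] at t
  linarith

theorem Sub.R7_3 (S : Sub 7) :
    S.A 0 3 * S.M 0 + S.A 1 3 * S.M 1 + S.A 2 3 * S.M 2 + -2 * S.W 3 * S.M 3 + S.A 3 4 * S.M 4 + S.A 3 5 * S.M 5 + S.A 3 6 * S.M 6 ≤ 0 := by
  have t := S.hrow 3
  simp only [Fin.sum_univ_seven] at t
  rw [S.hdiag 3, S.hsymm 3 0, S.hsymm 3 1, S.hsymm 3 2] at t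
  linarith

theorem Sub.R7_4 (S : Sub 7) :
    S.A 0 4 * S.M 0 + S.A 1 4 * S.M 1 + S.A 2 4 * S.M 2 + S.A 3 4 * S.M 3 + -2 * S.W 4 * S.M 4 + S.A 4 5 * S.M 5 + S.A 4 6 * S.M 6 ≤ 0 := by
  have t := S.hrow 4
  simp only [Fin.sum_univ_seven] at t
  rw [S.hdiag 4, S.hsymm 4 0, S.hsymm 4 1, S.hsymm 4 2, S.hsymm 4 3] at t
  linarith

theorem Sub.R7_5 (S : Sub 7) :
    S.A 0 5 * S.M 0 + S.A 1 5 * S.M 1 + S.A 2 5 * S.M 2 + S.A 3 5 * S.M 3 + S.A 4 5 * S.M 4 + -2 * S.W 5 * S.M 5 + S.A 5 6 * S.M 6 ≤ 0 := by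
  have t := S.hrow 5
  simp only [Fin.sum_univ_seven] at t
  rw [S.hdiag 5, S.hsymm 5 0, S.hsymm 5 1, S.hsymm 5 2, S.hsymm 5 3, S.hsymm 5 4] at t
  linarith

theorem Sub.R7_6 (S : Sub 7) :
    S.A 0 6 * S.M 0 + S.A 1 6 * S.M 1 + S.A 2 6 * S.M 2 + S.A 3 6 * S.M 3 + S.A 4 6 * S.M 4 + S.A 5 6 * S.M 5 + -2 * S.W 6 * S.M 6 ≤ 0 := by
  have t := S.hrow 6
  simp only [Fin.sum_univ_seven] at t
  rw [S.hdiag 6, S.hsymm 6 0, S.hsymm 6 1, S.hsymm 6 2, S.hsymm 6 3, S.hsymm 6 4, S.hsymm 6 5] at t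
  linarith


theorem Sub.R8_0 (S : Sub 8) :
    -2 * S.W 0 * S.M 0 + S.A 0 1 * S.M 1 + S.A 0 2 * S.M 2 + S.A 0 3 * S.M 3 + S.A 0 4 * S.M 4 + S.A 0 5 * S.M 5 + S.A 0 6 * S.M 6 + S.A 0 7 * S.M 7 ≤ 0 := by
  have t := S.hrow 0
  simp only [Fin.sum_univ_eight] at t
  rw [S.hdiag 0] at t
  linarith

theorem Sub.R8_1 (S : Sub 8) :
    S.A 0 1 * S.M 0 + -2 * S.W 1 * S.M 1 + S.A 1 2 * S.M 2 + S.A 1 3 * S.M 3 + S.A 1 4 * S.M 4 + S.A 1 5 * S.M 5 + S.A 1 6 * S.M 6 + S.A 1 7 * S.M 7 ≤ 0 := by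
  have t := S.hrow 1
  simp only [Fin.sum_univ_eight] at t
  rw [S.hdiag 1, S.hsymm 1 0] at t
  linarith

theorem Sub.R8_2 (S : Sub 8) :
    S.A 0 2 * S.M 0 + S.A 1 2 * S.M 1 + -2 * S.W 2 * S.M 2 + S.A 2 3 * S.M 3 + S.A 2 4 * S.M 4 + S.A 2 5 * S.M 5 + S.A 2 6 * S.M 6 + S.A 2 7 * S.M 7 ≤ 0 := by
  have t := S.hrow 2
  simp only [Fin.sum_univ_eight] at t
  rw [S.hdiag 2, S.hsymm 2 0, S.hsymm 2 1] at t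
  linarith

theorem Sub.R8_3 (S : Sub 8) :
    S.A 0 3 * S.M 0 + S.A 1 3 * S.M 1 + S.A 2 3 * S.M 2 + -2 * S.W 3 * S.M 3 + S.A 3 4 * S.M 4 + S.A 3 5 * S.M 5 + S.A 3 6 * S.M 6 + S.A 3 7 * S.M 7 ≤ 0 := by
  have t := S.hrow 3
  simp only [Fin.sum_univ_eight] at t
  rw [S.hdiag 3, S.hsymm 3 0, S.hsymm 3 1, S.hsymm 3 2] at t
  linarith

theorem Sub.R8_4 (S : Sub 8) :
    S.A 0 4 * S.M 0 + S.A 1 4 * S.M 1 + S.A 2 4 * S.M 2 + S.A 3 4 * S.M 3 + -2 * S.W 4 * S.M 4 + S.A 4 5 * S.M 5 + S.A 4 6 * S.M 6 + S.A 4 7 * S.M 7 ≤ 0 := by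
  have t := S.hrow 4
  simp only [Fin.sum_univ_eight] at t
  rw [S.hdiag 4, S.hsymm 4 0, S.hsymm 4 1, S.hsymm 4 2, S.hsymm 4 3] at t
  linarith

theorem Sub.R8_5 (S : Sub 8) :
    S.A 0 5 * S.M 0 + S.A 1 5 * S.M 1 + S.A 2 5 * S.M 2 + S.A 3 5 * S.M 3 + S.A 4 5 * S.M 4 + -2 * S.W 5 * S.M 5 + S.A 5 6 * S.M 6 + S.A 5 7 * S.M 7 ≤ 0 := by
  have t := S.hrow 5
  simp only [Fin.sum_univ_eight] at t
  rw [S.hdiag 5, S.hsymm 5 0, S.hsymm 5 1, S.hsymm 5 2, S.hsymm 5 3, S.hsymm 5 4] at t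
  linarith

theorem Sub.R8_6 (S : Sub 8) :
    S.A 0 6 * S.M 0 + S.A 1 6 * S.M 1 + S.A 2 6 * S.M 2 + S.A 3 6 * S.M 3 + S.A 4 6 * S.M 4 + S.A 5 6 * S.M 5 + -2 * S.W 6 * S.M 6 + S.A 6 7 * S.M 7 ≤ 0 := by
  have t := S.hrow 6
  simp only [Fin.sum_univ_eight] at t
  rw [S.hdiag 6, S.hsymm 6 0, S.hsymm 6 1, S.hsymm 6 2, S.hsymm 6 3, S.hsymm 6 4, S.hsymm 6 5] at t
  linarith

theorem Sub.R8_7 (S : Sub 8) :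
    S.A 0 7 * S.M 0 + S.A 1 7 * S.M 1 + S.A 2 7 * S.M 2 + S.A 3 7 * S.M 3 + S.A 4 7 * S.M 4 + S.A 5 7 * S.M 5 + S.A 6 7 * S.M 6 + -2 * S.W 7 * S.M 7 ≤ 0 := by
  have t := S.hrow 7
  simp only [Fin.sum_univ_eight] at t
  rw [S.hdiag 7, S.hsymm 7 0, S.hsymm 7 1, S.hsymm 7 2, S.hsymm 7 3, S.hsymm 7 4, S.hsymm 7 5, S.hsymm 7 6] at t
  linarith


end Groth.Agent.Helper3.NumType
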