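import Groth.Agent.Helper3.NumTypeQ

namespace Groth.Agent.Helper3.NumType

open Finset Models

theorem Sub.chain3 (S : Sub 3) (h01 : S.A 0 1 ≠ 0) (h12 : S.A 1 2 ≠ 0) :
    (S.A 0 2 = 0) ∧
      ((S.W 1 = S.W 0 ∧ S.A 0 1 = S.W 0 ∧ S.W 2 = S.W 1 ∧ S.A 1 2 = S.W 1) ∨
      (S.W 1 = S.W 0 ∧ S.A 0 1 = S.W 0 ∧ S.W 2 = 2 * S.W 1 ∧ S.A 1 2 = 2 * S.W 1) ∨
      (S.W 1 = S.W 0 ∧ S.A 0 1 = S.W 0 ∧ S.W 1 = 2 * S.W 2 ∧ S.A 1 2 = 2 * S.W 2) ∨
      (S.W 1 = 2 * S.W 0 ∧ S.A 0 1 = 2 * S.W 0 ∧ S.W 2 = S.W 1 ∧ S.A 1 2 = S.W 1) ∨
      (S.W 0 = 2 * S.W 1 ∧ S.A 0 1 = 2 * S.W 1 ∧ S.W 2 = S.W 1 ∧ S.A 1 2 = S.W 1)) := by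
  have hW0 := S.hW 0
  have hW1 := S.hW 1
  have hW2 := S.hW 2
  have hp01 : 0 < S.A 0 1 := S.pos_of_ne (by decide) h01
  have gl01 := S.ge_left hp01
  have gr01 := S.ge_right hp01
  have hp12 : 0 < S.A 1 2 := S.pos_of_ne (by decide) h12
  have gl12 := S.ge_left hp12
  have gr12 := S.ge_right hp12
  have nn02 := S.hnn 0 2 (by decide)
  have z02 : S.A 0 2 = 0 := by
    by_contra hne
    have pp := S.pos_of_ne (by decide) hne
    have g1 := S.ge_left pp
    have g2 := S.ge_right pp
    have t := S.Q3 1 1 1 (by norm_num)
    linarith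
  refine ⟨z02, ?_⟩
  rcases S.edge_cases (p := 0) (q := 1) (by decide) hp01 with e0 | e0 | e0 | e0 | e0
  · -- edge 01 type E
    obtain ⟨e0a, e0b⟩ := e0
    rcases S.edge_cases (p := 1) (q := 2) (by decide) hp12 with e1 | e1 | e1 | e1 | e1
    · -- edge 12 type E
      obtain ⟨e1a, e1b⟩ := e1
      exact Or.inl ⟨e0a, e0b, e1a, e1b⟩
    · -- edge 12 type U2
      obtain ⟨e1a, e1b⟩ := e1
      exact Or.inr (Or.inl ⟨e0a, e0b, e1a, e1b⟩)
    · -- edge 12 type D2
      obtain ⟨e1a, e1b⟩ := e1
      exact Or.inr (Or.inr (Or.inl ⟨e0a, e0b, e1a, e1b⟩))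
    · -- edge 12 type U3
      obtain ⟨e1a, e1b⟩ := e1
      exfalso
      have t := S.Q3 1 2 1 (by norm_num)
      linarith
    · -- edge 12 type D3
      obtain ⟨e1a, e1b⟩ := e1
      exfalso
      have t := S.Q3 1 2 3 (by norm_num)
      linarith
  · -- edge 01 type U2
    obtain ⟨e0a, e0b⟩ := e0
    rcases S.edge_cases (p := 1) (q := 2) (by decide) hp12 with e1 | e1 | e1 | e1 | e1
    · -- edge 12 type E
      obtain ⟨e1a, e1b⟩ := e1
      exact Or.inr (Or.inr (Or.inr (Or.inl ⟨e0a, e0b, e1a, e1b⟩)))
    · -- edge 12 type U2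
      obtain ⟨e1a, e1b⟩ := e1
      exfalso
      have t := S.Q3 2 2 1 (by norm_num)
      linarith
    · -- edge 12 type D2
      obtain ⟨e1a, e1b⟩ := e1
      exfalso
      have t := S.Q3 1 1 1 (by norm_num)
      linarith
    · -- edge 12 type U3
      obtain ⟨e1a, e1b⟩ := e1
      exfalso
      have t := S.Q3 1 2 1 (by norm_num)
      linarith
    · -- edge 12 type D3
      obtain ⟨e1a, e1b⟩ := e1
      exfalso
      have t := S.Q3 1 1 1 (by norm_num)
      linarith
  · -- edge 01 type D2
    obtain ⟨e0a, e0b⟩ := e0
    rcases S.edge_cases (p := 1) (q := 2) (by decide) hp12 with e1 | e1 | e1 | e1 | e1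
    · -- edge 12 type E
      obtain ⟨e1a, e1b⟩ := e1
      exact Or.inr (Or.inr (Or.inr (Or.inr (⟨e0a, e0b, e1a, e1b⟩))))
    · -- edge 12 type U2
      obtain ⟨e1a, e1b⟩ := e1
      exfalso
      have t := S.Q3 1 2 1 (by norm_num)
      linarith
    · -- edge 12 type D2
      obtain ⟨e1a, e1b⟩ := e1
      exfalso
      have t := S.Q3 1 2 2 (by norm_num)
      linarith
    · -- edge 12 type U3
      obtain ⟨e1a, e1b⟩ := e1
      exfalso
      have t := S.Q3 1 2 1 (by norm_num)
      linarith
    · -- edge 12 type D3
      obtain ⟨e1a, e1b⟩ := e1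
      exfalso
      have t := S.Q3 1 2 2 (by norm_num)
      linarith
  · -- edge 01 type U3
    obtain ⟨e0a, e0b⟩ := e0
    rcases S.edge_cases (p := 1) (q := 2) (by decide) hp12 with e1 | e1 | e1 | e1 | e1
    · -- edge 12 type E
      obtain ⟨e1a, e1b⟩ := e1
      exfalso
      have t := S.Q3 3 2 1 (by norm_num)
      linarith
    · -- edge 12 type U2
      obtain ⟨e1a, e1b⟩ := e1
      exfalso
      have t := S.Q3 2 2 1 (by norm_num)
      linarith
    · -- edge 12 type D2
      obtain ⟨e1a, e1b⟩ := e1
      exfalso
      have t := S.Q3 1 1 1 (by norm_num)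
      linarith
    · -- edge 12 type U3
      obtain ⟨e1a, e1b⟩ := e1
      exfalso
      have t := S.Q3 1 2 1 (by norm_num)
      linarith
    · -- edge 12 type D3
      obtain ⟨e1a, e1b⟩ := e1
      exfalso
      have t := S.Q3 1 1 1 (by norm_num)
      linarith
  · -- edge 01 type D3
    obtain ⟨e0a, e0b⟩ := e0
    rcases S.edge_cases (p := 1) (q := 2) (by decide) hp12 with e1 | e1 | e1 | e1 | e1
    · -- edge 12 type E
      obtain ⟨e1a, e1b⟩ := e1
      exfalso
      have t := S.Q3 1 2 1 (by norm_num)
      linarith
    · -- edge 12 type U2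
      obtain ⟨e1a, e1b⟩ := e1
      exfalso
      have t := S.Q3 1 2 1 (by norm_num)
      linarith
    · -- edge 12 type D2
      obtain ⟨e1a, e1b⟩ := e1
      exfalso
      have t := S.Q3 1 2 1 (by norm_num)
      linarith
    · -- edge 12 type U3
      obtain ⟨e1a, e1b⟩ := e1
      exfalso
      have t := S.Q3 1 2 1 (by norm_num)
      linarith
    · -- edge 12 type D3
      obtain ⟨e1a, e1b⟩ := e1
      exfalso
      have t := S.Q3 1 2 1 (by norm_num)
      linarith


theorem Sub.chain4 (S : Sub 4) (h01 : S.A 0 1 ≠ 0) (h12 : S.A 1 2 ≠ 0) (h23 : S.A 2 3 ≠ 0) :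
    (S.A 0 2 = 0 ∧ S.A 0 3 = 0 ∧ S.A 1 3 = 0) ∧
      ((S.W 1 = S.W 0 ∧ S.A 0 1 = S.W 0 ∧ S.W 2 = S.W 1 ∧ S.A 1 2 = S.W 1 ∧ S.W 3 = S.W 2 ∧ S.A 2 3 = S.W 2) ∨
      (S.W 1 = S.W 0 ∧ S.A 0 1 = S.W 0 ∧ S.W 2 = S.W 1 ∧ S.A 1 2 = S.W 1 ∧ S.W 3 = 2 * S.W 2 ∧ S.A 2 3 = 2 * S.W 2) ∨
      (S.W 1 = S.W 0 ∧ S.A 0 1 = S.W 0 ∧ S.W 2 = S.W 1 ∧ S.A 1 2 = S.W 1 ∧ S.W 2 = 2 * S.W 3 ∧ S.A 2 3 = 2 * S.W 3) ∨
      (S.W 1 = S.W 0 ∧ S.A 0 1 = S.W 0 ∧ S.W 2 = 2 * S.W 1 ∧ S.A 1 2 = 2 * S.W 1 ∧ S.W 3 = S.W 2 ∧ S.A 2 3 = S.W 2) ∨
      (S.W 1 = S.W 0 ∧ S.A 0 1 = S.W 0 ∧ S.W 1 = 2 * S.W 2 ∧ S.A 1 2 = 2 * S.W 2 ∧ S.W 3 = S.W 2 ∧ S.A 2 3 = S.W 2) ∨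
      (S.W 1 = 2 * S.W 0 ∧ S.A 0 1 = 2 * S.W 0 ∧ S.W 2 = S.W 1 ∧ S.A 1 2 = S.W 1 ∧ S.W 3 = S.W 2 ∧ S.A 2 3 = S.W 2) ∨
      (S.W 0 = 2 * S.W 1 ∧ S.A 0 1 = 2 * S.W 1 ∧ S.W 2 = S.W 1 ∧ S.A 1 2 = S.W 1 ∧ S.W 3 = S.W 2 ∧ S.A 2 3 = S.W 2)) := by
  have hW0 := S.hW 0
  have hW1 := S.hW 1
  have hW2 := S.hW 2
  have hW3 := S.hW 3
  have hp01 : 0 < S.A 0 1 := S.pos_of_ne (by decide) h01
  have gl01 := S.ge_left hp01
  have gr01 := S.ge_right hp01
  have hp12 : 0 < S.A 1 2 := S.pos_of_ne (by decide) h12
  have gl12 := S.ge_left hp12
  have gr12 := S.ge_right hp12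
  have hp23 : 0 < S.A 2 3 := S.pos_of_ne (by decide) h23
  have gl23 := S.ge_left hp23
  have gr23 := S.ge_right hp23
  have nn02 := S.hnn 0 2 (by decide)
  have nn03 := S.hnn 0 3 (by decide)
  have nn13 := S.hnn 1 3 (by decide)
  have z02 : S.A 0 2 = 0 := by
    by_contra hne
    have pp := S.pos_of_ne (by decide) hne
    have g1 := S.ge_left pp
    have g2 := S.ge_right pp
    have t := S.Q4 1 1 1 0 (by norm_num)
    linarith
  have z03 : S.A 0 3 = 0 := by
    by_contra hne
    have pp := S.pos_of_ne (by decide) hne
    have g1 := S.ge_left pp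
    have g2 := S.ge_right pp
    have t := S.Q4 1 1 1 1 (by norm_num)
    linarith
  have z13 : S.A 1 3 = 0 := by
    by_contra hne
    have pp := S.pos_of_ne (by decide) hne
    have g1 := S.ge_left pp
    have g2 := S.ge_right pp
    have t := S.Q4 0 1 1 1 (by norm_num)
    linarith
  refine ⟨⟨z02, z03, z13⟩, ?_⟩
  rcases S.edge_cases (p := 0) (q := 1) (by decide) hp01 with e0 | e0 | e0 | e0 | e0
  · -- edge 01 type E
    obtain ⟨e0a, e0b⟩ := e0
    rcases S.edge_cases (p := 1) (q := 2) (by decide) hp12 with e1 | e1 | e1 | e1 | e1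
    · -- edge 12 type E
      obtain ⟨e1a, e1b⟩ := e1
      rcases S.edge_cases (p := 2) (q := 3) (by decide) hp23 with e2 | e2 | e2 | e2 | e2
      · -- edge 23 type E
        obtain ⟨e2a, e2b⟩ := e2
        exact Or.inl ⟨e0a, e0b, e1a, e1b, e2a, e2b⟩
      · -- edge 23 type U2
        obtain ⟨e2a, e2b⟩ := e2
        exact Or.inr (Or.inl ⟨e0a, e0b, e1a, e1b, e2a, e2b⟩)
      · -- edge 23 type D2
        obtain ⟨e2a, e2b⟩ := e2
        exact Or.inr (Or.inr (Or.inl ⟨e0a, e0b, e1a, e1b, e2a, e2b⟩))
      · -- edge 23 type U3
        obtain ⟨e2a, e2b⟩ := e2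
        exfalso
        have t := S.Q4 0 1 2 1 (by norm_num)
        linarith
      · -- edge 23 type D3
        obtain ⟨e2a, e2b⟩ := e2
        exfalso
        have t := S.Q4 0 1 2 3 (by norm_num)
        linarith
    · -- edge 12 type U2
      obtain ⟨e1a, e1b⟩ := e1
      rcases S.edge_cases (p := 2) (q := 3) (by decide) hp23 with e2 | e2 | e2 | e2 | e2
      · -- edge 23 type E
        obtain ⟨e2a, e2b⟩ := e2
        exact Or.inr (Or.inr (Or.inr (Or.inl ⟨e0a, e0b, e1a, e1b, e2a, e2b⟩)))
      · -- edge 23 type U2
        obtain ⟨e2a, e2b⟩ := e2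
        exfalso
        have t := S.Q4 0 2 2 1 (by norm_num)
        linarith
      · -- edge 23 type D2
        obtain ⟨e2a, e2b⟩ := e2
        exfalso
        have t := S.Q4 0 1 1 1 (by norm_num)
        linarith
      · -- edge 23 type U3
        obtain ⟨e2a, e2b⟩ := e2
        exfalso
        have t := S.Q4 0 1 2 1 (by norm_num)
        linarith
      · -- edge 23 type D3
        obtain ⟨e2a, e2b⟩ := e2
        exfalso
        have t := S.Q4 0 1 1 1 (by norm_num)
        linarith
    · -- edge 12 type D2
      obtain ⟨e1a, e1b⟩ := e1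
      rcases S.edge_cases (p := 2) (q := 3) (by decide) hp23 with e2 | e2 | e2 | e2 | e2
      · -- edge 23 type E
        obtain ⟨e2a, e2b⟩ := e2
        exact Or.inr (Or.inr (Or.inr (Or.inr (Or.inl ⟨e0a, e0b, e1a, e1b, e2a, e2b⟩))))
      · -- edge 23 type U2
        obtain ⟨e2a, e2b⟩ := e2
        exfalso
        have t := S.Q4 0 1 2 1 (by norm_num)
        linarith
      · -- edge 23 type D2
        obtain ⟨e2a, e2b⟩ := e2
        exfalso
        have t := S.Q4 0 1 2 2 (by norm_num)
        linarith
      · -- edge 23 type U3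
        obtain ⟨e2a, e2b⟩ := e2
        exfalso
        have t := S.Q4 0 1 2 1 (by norm_num)
        linarith
      · -- edge 23 type D3
        obtain ⟨e2a, e2b⟩ := e2
        exfalso
        have t := S.Q4 0 1 2 2 (by norm_num)
        linarith
    · -- edge 12 type U3
      obtain ⟨e1a, e1b⟩ := e1
      exfalso
      have t := S.Q4 1 2 1 0 (by norm_num)
      linarith
    · -- edge 12 type D3
      obtain ⟨e1a, e1b⟩ := e1
      exfalso
      have t := S.Q4 1 2 3 0 (by norm_num)
      linarith
  · -- edge 01 type U2
    obtain ⟨e0a, e0b⟩ := e0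
    rcases S.edge_cases (p := 1) (q := 2) (by decide) hp12 with e1 | e1 | e1 | e1 | e1
    · -- edge 12 type E
      obtain ⟨e1a, e1b⟩ := e1
      rcases S.edge_cases (p := 2) (q := 3) (by decide) hp23 with e2 | e2 | e2 | e2 | e2
      · -- edge 23 type E
        obtain ⟨e2a, e2b⟩ := e2
        exact Or.inr (Or.inr (Or.inr (Or.inr (Or.inr (Or.inl ⟨e0a, e0b, e1a, e1b, e2a, e2b⟩)))))
      · -- edge 23 type U2
        obtain ⟨e2a, e2b⟩ := e2
        exfalso
        have t := S.Q4 2 2 2 1 (by norm_num)
        linarith
      · -- edge 23 type D2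
        obtain ⟨e2a, e2b⟩ := e2
        exfalso
        have t := S.Q4 1 1 1 1 (by norm_num)
        linarith
      · -- edge 23 type U3
        obtain ⟨e2a, e2b⟩ := e2
        exfalso
        have t := S.Q4 0 1 2 1 (by norm_num)
        linarith
      · -- edge 23 type D3
        obtain ⟨e2a, e2b⟩ := e2
        exfalso
        have t := S.Q4 0 1 2 3 (by norm_num)
        linarith
    · -- edge 12 type U2
      obtain ⟨e1a, e1b⟩ := e1
      exfalso
      have t := S.Q4 2 2 1 0 (by norm_num)
      linarith
    · -- edge 12 type D2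
      obtain ⟨e1a, e1b⟩ := e1
      exfalso
      have t := S.Q4 1 1 1 0 (by norm_num)
      linarith
    · -- edge 12 type U3
      obtain ⟨e1a, e1b⟩ := e1
      exfalso
      have t := S.Q4 1 2 1 0 (by norm_num)
      linarith
    · -- edge 12 type D3
      obtain ⟨e1a, e1b⟩ := e1
      exfalso
      have t := S.Q4 1 1 1 0 (by norm_num)
      linarith
  · -- edge 01 type D2
    obtain ⟨e0a, e0b⟩ := e0
    rcases S.edge_cases (p := 1) (q := 2) (by decide) hp12 with e1 | e1 | e1 | e1 | e1
    · -- edge 12 type E
      obtain ⟨e1a, e1b⟩ := e1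
      rcases S.edge_cases (p := 2) (q := 3) (by decide) hp23 with e2 | e2 | e2 | e2 | e2
      · -- edge 23 type E
        obtain ⟨e2a, e2b⟩ := e2
        exact Or.inr (Or.inr (Or.inr (Or.inr (Or.inr (Or.inr (⟨e0a, e0b, e1a, e1b, e2a, e2b⟩))))))
      · -- edge 23 type U2
        obtain ⟨e2a, e2b⟩ := e2
        exfalso
        have t := S.Q4 1 2 2 1 (by norm_num)
        linarith
      · -- edge 23 type D2
        obtain ⟨e2a, e2b⟩ := e2
        exfalso
        have t := S.Q4 1 2 2 2 (by norm_num)
        linarith
      · -- edge 23 type U3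
        obtain ⟨e2a, e2b⟩ := e2
        exfalso
        have t := S.Q4 0 1 2 1 (by norm_num)
        linarith
      · -- edge 23 type D3
        obtain ⟨e2a, e2b⟩ := e2
        exfalso
        have t := S.Q4 0 1 2 3 (by norm_num)
        linarith
    · -- edge 12 type U2
      obtain ⟨e1a, e1b⟩ := e1
      exfalso
      have t := S.Q4 1 2 1 0 (by norm_num)
      linarith
    · -- edge 12 type D2
      obtain ⟨e1a, e1b⟩ := e1
      exfalso
      have t := S.Q4 1 2 2 0 (by norm_num)
      linarith
    · -- edge 12 type U3
      obtain ⟨e1a, e1b⟩ := e1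
      exfalso
      have t := S.Q4 1 2 1 0 (by norm_num)
      linarith
    · -- edge 12 type D3
      obtain ⟨e1a, e1b⟩ := e1
      exfalso
      have t := S.Q4 1 2 2 0 (by norm_num)
      linarith
  · -- edge 01 type U3
    obtain ⟨e0a, e0b⟩ := e0
    rcases S.edge_cases (p := 1) (q := 2) (by decide) hp12 with e1 | e1 | e1 | e1 | e1
    · -- edge 12 type E
      obtain ⟨e1a, e1b⟩ := e1
      exfalso
      have t := S.Q4 3 2 1 0 (by norm_num)
      linarith
    · -- edge 12 type U2
      obtain ⟨e1a, e1b⟩ := e1
      exfalso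
      have t := S.Q4 2 2 1 0 (by norm_num)
      linarith
    · -- edge 12 type D2
      obtain ⟨e1a, e1b⟩ := e1
      exfalso
      have t := S.Q4 1 1 1 0 (by norm_num)
      linarith
    · -- edge 12 type U3
      obtain ⟨e1a, e1b⟩ := e1
      exfalso
      have t := S.Q4 1 2 1 0 (by norm_num)
      linarith
    · -- edge 12 type D3
      obtain ⟨e1a, e1b⟩ := e1
      exfalso
      have t := S.Q4 1 1 1 0 (by norm_num)
      linarith
  · -- edge 01 type D3
    obtain ⟨e0a, e0b⟩ := e0
    rcases S.edge_cases (p := 1) (q := 2) (by decide) hp12 with e1 | e1 | e1 | e1 | e1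
    · -- edge 12 type E
      obtain ⟨e1a, e1b⟩ := e1
      exfalso
      have t := S.Q4 1 2 1 0 (by norm_num)
      linarith
    · -- edge 12 type U2
      obtain ⟨e1a, e1b⟩ := e1
      exfalso
      have t := S.Q4 1 2 1 0 (by norm_num)
      linarith
    · -- edge 12 type D2
      obtain ⟨e1a, e1b⟩ := e1
      exfalso
      have t := S.Q4 1 2 1 0 (by norm_num)
      linarith
    · -- edge 12 type U3
      obtain ⟨e1a, e1b⟩ := e1
      exfalso
      have t := S.Q4 1 2 1 0 (by norm_num)
      linarith
    · -- edge 12 type D3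
      obtain ⟨e1a, e1b⟩ := e1
      exfalso
      have t := S.Q4 1 2 1 0 (by norm_num)
      linarith


theorem Sub.chain5 (S : Sub 5) (h01 : S.A 0 1 ≠ 0) (h12 : S.A 1 2 ≠ 0) (h23 : S.A 2 3 ≠ 0) (h34 : S.A 3 4 ≠ 0) :
    (S.A 0 2 = 0 ∧ S.A 0 3 = 0 ∧ S.A 0 4 = 0 ∧ S.A 1 3 = 0 ∧ S.A 1 4 = 0 ∧ S.A 2 4 = 0) ∧
      ((S.W 1 = S.W 0 ∧ S.A 0 1 = S.W 0 ∧ S.W 2 = S.W 1 ∧ S.A 1 2 = S.W 1 ∧ S.W 3 = S.W 2 ∧ S.A 2 3 = S.W 2 ∧ S.W 4 = S.W 3 ∧ S.A 3 4 = S.W 3) ∨
      (S.W 1 = S.W 0 ∧ S.A 0 1 = S.W 0 ∧ S.W 2 = S.W 1 ∧ S.A 1 2 = S.W 1 ∧ S.W 3 = S.W 2 ∧ S.A 2 3 = S.W 2 ∧ S.W 4 = 2 * S.W 3 ∧ S.A 3 4 = 2 * S.W 3) ∨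
      (S.W 1 = S.W 0 ∧ S.A 0 1 = S.W 0 ∧ S.W 2 = S.W 1 ∧ S.A 1 2 = S.W 1 ∧ S.W 3 = S.W 2 ∧ S.A 2 3 = S.W 2 ∧ S.W 3 = 2 * S.W 4 ∧ S.A 3 4 = 2 * S.W 4) ∨
      (S.W 1 = 2 * S.W 0 ∧ S.A 0 1 = 2 * S.W 0 ∧ S.W 2 = S.W 1 ∧ S.A 1 2 = S.W 1 ∧ S.W 3 = S.W 2 ∧ S.A 2 3 = S.W 2 ∧ S.W 4 = S.W 3 ∧ S.A 3 4 = S.W 3) ∨
      (S.W 0 = 2 * S.W 1 ∧ S.A 0 1 = 2 * S.W 1 ∧ S.W 2 = S.W 1 ∧ S.A 1 2 = S.W 1 ∧ S.W 3 = S.W 2 ∧ S.A 2 3 = S.W 2 ∧ S.W 4 = S.W 3 ∧ S.A 3 4 = S.W 3)) := by
  have hW0 := S.hW 0
  have hW1 := S.hW 1
  have hW2 := S.hW 2
  have hW3 := S.hW 3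
  have hW4 := S.hW 4
  have hp01 : 0 < S.A 0 1 := S.pos_of_ne (by decide) h01
  have gl01 := S.ge_left hp01
  have gr01 := S.ge_right hp01
  have hp12 : 0 < S.A 1 2 := S.pos_of_ne (by decide) h12
  have gl12 := S.ge_left hp12
  have gr12 := S.ge_right hp12
  have hp23 : 0 < S.A 2 3 := S.pos_of_ne (by decide) h23
  have gl23 := S.ge_left hp23
  have gr23 := S.ge_right hp23
  have hp34 : 0 < S.A 3 4 := S.pos_of_ne (by decide) h34
  have gl34 := S.ge_left hp34
  have gr34 := S.ge_right hp34
  have nn02 := S.hnn 0 2 (by decide)
  have nn03 := S.hnn 0 3 (by decide)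
  have nn04 := S.hnn 0 4 (by decide)
  have nn13 := S.hnn 1 3 (by decide)
  have nn14 := S.hnn 1 4 (by decide)
  have nn24 := S.hnn 2 4 (by decide)
  have z02 : S.A 0 2 = 0 := by
    by_contra hne
    have pp := S.pos_of_ne (by decide) hne
    have g1 := S.ge_left pp
    have g2 := S.ge_right pp
    have t := S.Q5 1 1 1 0 0 (by norm_num)
    linarith
  have z03 : S.A 0 3 = 0 := by
    by_contra hne
    have pp := S.pos_of_ne (by decide) hne
    have g1 := S.ge_left pp
    have g2 := S.ge_right pp
    have t := S.Q5 1 1 1 1 0 (by norm_num)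
    linarith
  have z04 : S.A 0 4 = 0 := by
    by_contra hne
    have pp := S.pos_of_ne (by decide) hne
    have g1 := S.ge_left pp
    have g2 := S.ge_right pp
    have t := S.Q5 1 1 1 1 1 (by norm_num)
    linarith
  have z13 : S.A 1 3 = 0 := by
    by_contra hne
    have pp := S.pos_of_ne (by decide) hne
    have g1 := S.ge_left pp
    have g2 := S.ge_right pp
    have t := S.Q5 0 1 1 1 0 (by norm_num)
    linarith
  have z14 : S.A 1 4 = 0 := by
    by_contra hne
    have pp := S.pos_of_ne (by decide) hne
    have g1 := S.ge_left pp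
    have g2 := S.ge_right pp
    have t := S.Q5 0 1 1 1 1 (by norm_num)
    linarith
  have z24 : S.A 2 4 = 0 := by
    by_contra hne
    have pp := S.pos_of_ne (by decide) hne
    have g1 := S.ge_left pp
    have g2 := S.ge_right pp
    have t := S.Q5 0 0 1 1 1 (by norm_num)
    linarith
  refine ⟨⟨z02, z03, z04, z13, z14, z24⟩, ?_⟩
  rcases S.edge_cases (p := 0) (q := 1) (by decide) hp01 with e0 | e0 | e0 | e0 | e0
  · -- edge 01 type E
    obtain ⟨e0a, e0b⟩ := e0
    rcases S.edge_cases (p := 1) (q := 2) (by decide) hp12 with e1 | e1 | e1 | e1 | e1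
    · -- edge 12 type E
      obtain ⟨e1a, e1b⟩ := e1
      rcases S.edge_cases (p := 2) (q := 3) (by decide) hp23 with e2 | e2 | e2 | e2 | e2
      · -- edge 23 type E
        obtain ⟨e2a, e2b⟩ := e2
        rcases S.edge_cases (p := 3) (q := 4) (by decide) hp34 with e3 | e3 | e3 | e3 | e3
        · -- edge 34 type E
          obtain ⟨e3a, e3b⟩ := e3
          exact Or.inl ⟨e0a, e0b, e1a, e1b, e2a, e2b, e3a, e3b⟩
        · -- edge 34 type U2
          obtain ⟨e3a, e3b⟩ := e3
          exact Or.inr (Or.inl ⟨e0a, e0b, e1a, e1b, e2a, e2b, e3a, e3b⟩)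
        · -- edge 34 type D2
          obtain ⟨e3a, e3b⟩ := e3
          exact Or.inr (Or.inr (Or.inl ⟨e0a, e0b, e1a, e1b, e2a, e2b, e3a, e3b⟩))
        · -- edge 34 type U3
          obtain ⟨e3a, e3b⟩ := e3
          exfalso
          have t := S.Q5 0 0 1 2 1 (by norm_num)
          linarith
        · -- edge 34 type D3
          obtain ⟨e3a, e3b⟩ := e3
          exfalso
          have t := S.Q5 0 0 1 2 3 (by norm_num)
          linarith
      · -- edge 23 type U2
        obtain ⟨e2a, e2b⟩ := e2
        rcases S.edge_cases (p := 3) (q := 4) (by decide) hp34 with e3 | e3 | e3 | e3 | e3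
        · -- edge 34 type E
          obtain ⟨e3a, e3b⟩ := e3
          exfalso
          have t := S.Q5 1 2 3 2 1 (by norm_num)
          linarith
        · -- edge 34 type U2
          obtain ⟨e3a, e3b⟩ := e3
          exfalso
          have t := S.Q5 0 0 2 2 1 (by norm_num)
          linarith
        · -- edge 34 type D2
          obtain ⟨e3a, e3b⟩ := e3
          exfalso
          have t := S.Q5 0 0 1 1 1 (by norm_num)
          linarith
        · -- edge 34 type U3
          obtain ⟨e3a, e3b⟩ := e3
          exfalso
          have t := S.Q5 0 0 1 2 1 (by norm_num)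
          linarith
        · -- edge 34 type D3
          obtain ⟨e3a, e3b⟩ := e3
          exfalso
          have t := S.Q5 0 0 1 1 1 (by norm_num)
          linarith
      · -- edge 23 type D2
        obtain ⟨e2a, e2b⟩ := e2
        rcases S.edge_cases (p := 3) (q := 4) (by decide) hp34 with e3 | e3 | e3 | e3 | e3
        · -- edge 34 type E
          obtain ⟨e3a, e3b⟩ := e3
          exfalso
          have t := S.Q5 1 2 3 4 2 (by norm_num)
          linarith
        · -- edge 34 type U2
          obtain ⟨e3a, e3b⟩ := e3
          exfalso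
          have t := S.Q5 0 0 1 2 1 (by norm_num)
          linarith
        · -- edge 34 type D2
          obtain ⟨e3a, e3b⟩ := e3
          exfalso
          have t := S.Q5 0 0 1 2 2 (by norm_num)
          linarith
        · -- edge 34 type U3
          obtain ⟨e3a, e3b⟩ := e3
          exfalso
          have t := S.Q5 0 0 1 2 1 (by norm_num)
          linarith
        · -- edge 34 type D3
          obtain ⟨e3a, e3b⟩ := e3
          exfalso
          have t := S.Q5 0 0 1 2 2 (by norm_num)
          linarith
      · -- edge 23 type U3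
        obtain ⟨e2a, e2b⟩ := e2
        exfalso
        have t := S.Q5 0 1 2 1 0 (by norm_num)
        linarith
      · -- edge 23 type D3
        obtain ⟨e2a, e2b⟩ := e2
        exfalso
        have t := S.Q5 0 1 2 3 0 (by norm_num)
        linarith
    · -- edge 12 type U2
      obtain ⟨e1a, e1b⟩ := e1
      rcases S.edge_cases (p := 2) (q := 3) (by decide) hp23 with e2 | e2 | e2 | e2 | e2
      · -- edge 23 type E
        obtain ⟨e2a, e2b⟩ := e2
        rcases S.edge_cases (p := 3) (q := 4) (by decide) hp34 with e3 | e3 | e3 | e3 | e3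
        · -- edge 34 type E
          obtain ⟨e3a, e3b⟩ := e3
          exfalso
          have t := S.Q5 2 4 3 2 1 (by norm_num)
          linarith
        · -- edge 34 type U2
          obtain ⟨e3a, e3b⟩ := e3
          exfalso
          have t := S.Q5 0 2 2 2 1 (by norm_num)
          linarith
        · -- edge 34 type D2
          obtain ⟨e3a, e3b⟩ := e3
          exfalso
          have t := S.Q5 0 1 1 1 1 (by norm_num)
          linarith
        · -- edge 34 type U3
          obtain ⟨e3a, e3b⟩ := e3
          exfalso
          have t := S.Q5 0 0 1 2 1 (by norm_num)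
          linarith
        · -- edge 34 type D3
          obtain ⟨e3a, e3b⟩ := e3
          exfalso
          have t := S.Q5 0 0 1 2 3 (by norm_num)
          linarith
      · -- edge 23 type U2
        obtain ⟨e2a, e2b⟩ := e2
        exfalso
        have t := S.Q5 0 2 2 1 0 (by norm_num)
        linarith
      · -- edge 23 type D2
        obtain ⟨e2a, e2b⟩ := e2
        exfalso
        have t := S.Q5 0 1 1 1 0 (by norm_num)
        linarith
      · -- edge 23 type U3
        obtain ⟨e2a, e2b⟩ := e2
        exfalso
        have t := S.Q5 0 1 2 1 0 (by norm_num)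
        linarith
      · -- edge 23 type D3
        obtain ⟨e2a, e2b⟩ := e2
        exfalso
        have t := S.Q5 0 1 1 1 0 (by norm_num)
        linarith
    · -- edge 12 type D2
      obtain ⟨e1a, e1b⟩ := e1
      rcases S.edge_cases (p := 2) (q := 3) (by decide) hp23 with e2 | e2 | e2 | e2 | e2
      · -- edge 23 type E
        obtain ⟨e2a, e2b⟩ := e2
        rcases S.edge_cases (p := 3) (q := 4) (by decide) hp34 with e3 | e3 | e3 | e3 | e3
        · -- edge 34 type E
          obtain ⟨e3a, e3b⟩ := e3
          exfalso
          have t := S.Q5 1 2 3 2 1 (by norm_num)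
          linarith
        · -- edge 34 type U2
          obtain ⟨e3a, e3b⟩ := e3
          exfalso
          have t := S.Q5 0 1 2 2 1 (by norm_num)
          linarith
        · -- edge 34 type D2
          obtain ⟨e3a, e3b⟩ := e3
          exfalso
          have t := S.Q5 0 1 2 2 2 (by norm_num)
          linarith
        · -- edge 34 type U3
          obtain ⟨e3a, e3b⟩ := e3
          exfalso
          have t := S.Q5 0 0 1 2 1 (by norm_num)
          linarith
        · -- edge 34 type D3
          obtain ⟨e3a, e3b⟩ := e3
          exfalso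
          have t := S.Q5 0 0 1 2 3 (by norm_num)
          linarith
      · -- edge 23 type U2
        obtain ⟨e2a, e2b⟩ := e2
        exfalso
        have t := S.Q5 0 1 2 1 0 (by norm_num)
        linarith
      · -- edge 23 type D2
        obtain ⟨e2a, e2b⟩ := e2
        exfalso
        have t := S.Q5 0 1 2 2 0 (by norm_num)
        linarith
      · -- edge 23 type U3
        obtain ⟨e2a, e2b⟩ := e2
        exfalso
        have t := S.Q5 0 1 2 1 0 (by norm_num)
        linarith
      · -- edge 23 type D3
        obtain ⟨e2a, e2b⟩ := e2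
        exfalso
        have t := S.Q5 0 1 2 2 0 (by norm_num)
        linarith
    · -- edge 12 type U3
      obtain ⟨e1a, e1b⟩ := e1
      exfalso
      have t := S.Q5 1 2 1 0 0 (by norm_num)
      linarith
    · -- edge 12 type D3
      obtain ⟨e1a, e1b⟩ := e1
      exfalso
      have t := S.Q5 1 2 3 0 0 (by norm_num)
      linarith
  · -- edge 01 type U2
    obtain ⟨e0a, e0b⟩ := e0
    rcases S.edge_cases (p := 1) (q := 2) (by decide) hp12 with e1 | e1 | e1 | e1 | e1
    · -- edge 12 type E
      obtain ⟨e1a, e1b⟩ := e1
      rcases S.edge_cases (p := 2) (q := 3) (by decide) hp23 with e2 | e2 | e2 | e2 | e2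
      · -- edge 23 type E
        obtain ⟨e2a, e2b⟩ := e2
        rcases S.edge_cases (p := 3) (q := 4) (by decide) hp34 with e3 | e3 | e3 | e3 | e3
        · -- edge 34 type E
          obtain ⟨e3a, e3b⟩ := e3
          exact Or.inr (Or.inr (Or.inr (Or.inl ⟨e0a, e0b, e1a, e1b, e2a, e2b, e3a, e3b⟩)))
        · -- edge 34 type U2
          obtain ⟨e3a, e3b⟩ := e3
          exfalso
          have t := S.Q5 2 2 2 2 1 (by norm_num)
          linarith
        · -- edge 34 type D2
          obtain ⟨e3a, e3b⟩ := e3
          exfalso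
          have t := S.Q5 1 1 1 1 1 (by norm_num)
          linarith
        · -- edge 34 type U3
          obtain ⟨e3a, e3b⟩ := e3
          exfalso
          have t := S.Q5 0 0 1 2 1 (by norm_num)
          linarith
        · -- edge 34 type D3
          obtain ⟨e3a, e3b⟩ := e3
          exfalso
          have t := S.Q5 0 0 1 2 3 (by norm_num)
          linarith
      · -- edge 23 type U2
        obtain ⟨e2a, e2b⟩ := e2
        exfalso
        have t := S.Q5 2 2 2 1 0 (by norm_num)
        linarith
      · -- edge 23 type D2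
        obtain ⟨e2a, e2b⟩ := e2
        exfalso
        have t := S.Q5 1 1 1 1 0 (by norm_num)
        linarith
      · -- edge 23 type U3
        obtain ⟨e2a, e2b⟩ := e2
        exfalso
        have t := S.Q5 0 1 2 1 0 (by norm_num)
        linarith
      · -- edge 23 type D3
        obtain ⟨e2a, e2b⟩ := e2
        exfalso
        have t := S.Q5 0 1 2 3 0 (by norm_num)
        linarith
    · -- edge 12 type U2
      obtain ⟨e1a, e1b⟩ := e1
      exfalso
      have t := S.Q5 2 2 1 0 0 (by norm_num)
      linarith
    · -- edge 12 type D2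
      obtain ⟨e1a, e1b⟩ := e1
      exfalso
      have t := S.Q5 1 1 1 0 0 (by norm_num)
      linarith
    · -- edge 12 type U3
      obtain ⟨e1a, e1b⟩ := e1
      exfalso
      have t := S.Q5 1 2 1 0 0 (by norm_num)
      linarith
    · -- edge 12 type D3
      obtain ⟨e1a, e1b⟩ := e1
      exfalso
      have t := S.Q5 1 1 1 0 0 (by norm_num)
      linarith
  · -- edge 01 type D2
    obtain ⟨e0a, e0b⟩ := e0
    rcases S.edge_cases (p := 1) (q := 2) (by decide) hp12 with e1 | e1 | e1 | e1 | e1
    · -- edge 12 type E
      obtain ⟨e1a, e1b⟩ := e1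
      rcases S.edge_cases (p := 2) (q := 3) (by decide) hp23 with e2 | e2 | e2 | e2 | e2
      · -- edge 23 type E
        obtain ⟨e2a, e2b⟩ := e2
        rcases S.edge_cases (p := 3) (q := 4) (by decide) hp34 with e3 | e3 | e3 | e3 | e3
        · -- edge 34 type E
          obtain ⟨e3a, e3b⟩ := e3
          exact Or.inr (Or.inr (Or.inr (Or.inr (⟨e0a, e0b, e1a, e1b, e2a, e2b, e3a, e3b⟩))))
        · -- edge 34 type U2
          obtain ⟨e3a, e3b⟩ := e3
          exfalso
          have t := S.Q5 1 2 2 2 1 (by norm_num)
          linarith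
        · -- edge 34 type D2
          obtain ⟨e3a, e3b⟩ := e3
          exfalso
          have t := S.Q5 1 2 2 2 2 (by norm_num)
          linarith
        · -- edge 34 type U3
          obtain ⟨e3a, e3b⟩ := e3
          exfalso
          have t := S.Q5 0 0 1 2 1 (by norm_num)
          linarith
        · -- edge 34 type D3
          obtain ⟨e3a, e3b⟩ := e3
          exfalso
          have t := S.Q5 0 0 1 2 3 (by norm_num)
          linarith
      · -- edge 23 type U2
        obtain ⟨e2a, e2b⟩ := e2
        exfalso
        have t := S.Q5 1 2 2 1 0 (by norm_num)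
        linarith
      · -- edge 23 type D2
        obtain ⟨e2a, e2b⟩ := e2
        exfalso
        have t := S.Q5 1 2 2 2 0 (by norm_num)
        linarith
      · -- edge 23 type U3
        obtain ⟨e2a, e2b⟩ := e2
        exfalso
        have t := S.Q5 0 1 2 1 0 (by norm_num)
        linarith
      · -- edge 23 type D3
        obtain ⟨e2a, e2b⟩ := e2
        exfalso
        have t := S.Q5 0 1 2 3 0 (by norm_num)
        linarith
    · -- edge 12 type U2
      obtain ⟨e1a, e1b⟩ := e1
      exfalso
      have t := S.Q5 1 2 1 0 0 (by norm_num)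
      linarith
    · -- edge 12 type D2
      obtain ⟨e1a, e1b⟩ := e1
      exfalso
      have t := S.Q5 1 2 2 0 0 (by norm_num)
      linarith
    · -- edge 12 type U3
      obtain ⟨e1a, e1b⟩ := e1
      exfalso
      have t := S.Q5 1 2 1 0 0 (by norm_num)
      linarith
    · -- edge 12 type D3
      obtain ⟨e1a, e1b⟩ := e1
      exfalso
      have t := S.Q5 1 2 2 0 0 (by norm_num)
      linarith
  · -- edge 01 type U3
    obtain ⟨e0a, e0b⟩ := e0
    rcases S.edge_cases (p := 1) (q := 2) (by decide) hp12 with e1 | e1 | e1 | e1 | e1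
    · -- edge 12 type E
      obtain ⟨e1a, e1b⟩ := e1
      exfalso
      have t := S.Q5 3 2 1 0 0 (by norm_num)
      linarith
    · -- edge 12 type U2
      obtain ⟨e1a, e1b⟩ := e1
      exfalso
      have t := S.Q5 2 2 1 0 0 (by norm_num)
      linarith
    · -- edge 12 type D2
      obtain ⟨e1a, e1b⟩ := e1
      exfalso
      have t := S.Q5 1 1 1 0 0 (by norm_num)
      linarith
    · -- edge 12 type U3
      obtain ⟨e1a, e1b⟩ := e1
      exfalso
      have t := S.Q5 1 2 1 0 0 (by norm_num)
      linarith
    · -- edge 12 type D3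
      obtain ⟨e1a, e1b⟩ := e1
      exfalso
      have t := S.Q5 1 1 1 0 0 (by norm_num)
      linarith
  · -- edge 01 type D3
    obtain ⟨e0a, e0b⟩ := e0
    rcases S.edge_cases (p := 1) (q := 2) (by decide) hp12 with e1 | e1 | e1 | e1 | e1
    · -- edge 12 type E
      obtain ⟨e1a, e1b⟩ := e1
      exfalso
      have t := S.Q5 1 2 1 0 0 (by norm_num)
      linarith
    · -- edge 12 type U2
      obtain ⟨e1a, e1b⟩ := e1
      exfalso
      have t := S.Q5 1 2 1 0 0 (by norm_num)
      linarith
    · -- edge 12 type D2
      obtain ⟨e1a, e1b⟩ := e1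
      exfalso
      have t := S.Q5 1 2 1 0 0 (by norm_num)
      linarith
    · -- edge 12 type U3
      obtain ⟨e1a, e1b⟩ := e1
      exfalso
      have t := S.Q5 1 2 1 0 0 (by norm_num)
      linarith
    · -- edge 12 type D3
      obtain ⟨e1a, e1b⟩ := e1
      exfalso
      have t := S.Q5 1 2 1 0 0 (by norm_num)
      linarith


theorem Sub.D4 (S : Sub 4) (h01 : S.A 0 1 ≠ 0) (h02 : S.A 0 2 ≠ 0) (h03 : S.A 0 3 ≠ 0) :
    (S.A 1 2 = 0 ∧ S.A 1 3 = 0 ∧ S.A 2 3 = 0) ∧
      ((S.W 1 = S.W 0 ∧ S.A 0 1 = S.W 0 ∧ S.W 2 = S.W 0 ∧ S.A 0 2 = S.W 0 ∧ S.W 3 = S.W 0 ∧ S.A 0 3 = S.W 0)) := by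
  have hW0 := S.hW 0
  have hW1 := S.hW 1
  have hW2 := S.hW 2
  have hW3 := S.hW 3
  have hp01 : 0 < S.A 0 1 := S.pos_of_ne (by decide) h01
  have gl01 := S.ge_left hp01
  have gr01 := S.ge_right hp01
  have hp02 : 0 < S.A 0 2 := S.pos_of_ne (by decide) h02
  have gl02 := S.ge_left hp02
  have gr02 := S.ge_right hp02
  have hp03 : 0 < S.A 0 3 := S.pos_of_ne (by decide) h03
  have gl03 := S.ge_left hp03
  have gr03 := S.ge_right hp03
  have nn12 := S.hnn 1 2 (by decide)
  have nn13 := S.hnn 1 3 (by decide)
  have nn23 := S.hnn 2 3 (by decide)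
  have z12 : S.A 1 2 = 0 := by
    by_contra hne
    have pp := S.pos_of_ne (by decide) hne
    have g1 := S.ge_left pp
    have g2 := S.ge_right pp
    have t := S.Q4 1 1 1 0 (by norm_num)
    linarith
  have z13 : S.A 1 3 = 0 := by
    by_contra hne
    have pp := S.pos_of_ne (by decide) hne
    have g1 := S.ge_left pp
    have g2 := S.ge_right pp
    have t := S.Q4 1 1 0 1 (by norm_num)
    linarith
  have z23 : S.A 2 3 = 0 := by
    by_contra hne
    have pp := S.pos_of_ne (by decide) hne
    have g1 := S.ge_left pp
    have g2 := S.ge_right pp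
    have t := S.Q4 1 0 1 1 (by norm_num)
    linarith
  refine ⟨⟨z12, z13, z23⟩, ?_⟩
  rcases S.edge_cases (p := 0) (q := 1) (by decide) hp01 with e0 | e0 | e0 | e0 | e0
  · -- edge 01 type E
    obtain ⟨e0a, e0b⟩ := e0
    rcases S.edge_cases (p := 0) (q := 2) (by decide) hp02 with e1 | e1 | e1 | e1 | e1
    · -- edge 02 type E
      obtain ⟨e1a, e1b⟩ := e1
      rcases S.edge_cases (p := 0) (q := 3) (by decide) hp03 with e2 | e2 | e2 | e2 | e2
      · -- edge 03 type E
        obtain ⟨e2a, e2b⟩ := e2
        exact ⟨e0a, e0b, e1a, e1b, e2a, e2b⟩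
      · -- edge 03 type U2
        obtain ⟨e2a, e2b⟩ := e2
        exfalso
        have t := S.Q4 2 1 1 1 (by norm_num)
        linarith
      · -- edge 03 type D2
        obtain ⟨e2a, e2b⟩ := e2
        exfalso
        have t := S.Q4 2 1 1 2 (by norm_num)
        linarith
      · -- edge 03 type U3
        obtain ⟨e2a, e2b⟩ := e2
        exfalso
        have t := S.Q4 2 1 0 1 (by norm_num)
        linarith
      · -- edge 03 type D3
        obtain ⟨e2a, e2b⟩ := e2
        exfalso
        have t := S.Q4 2 1 0 3 (by norm_num)
        linarith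
    · -- edge 02 type U2
      obtain ⟨e1a, e1b⟩ := e1
      rcases S.edge_cases (p := 0) (q := 3) (by decide) hp03 with e2 | e2 | e2 | e2 | e2
      · -- edge 03 type E
        obtain ⟨e2a, e2b⟩ := e2
        exfalso
        have t := S.Q4 2 1 1 1 (by norm_num)
        linarith
      · -- edge 03 type U2
        obtain ⟨e2a, e2b⟩ := e2
        exfalso
        have t := S.Q4 2 0 1 1 (by norm_num)
        linarith
      · -- edge 03 type D2
        obtain ⟨e2a, e2b⟩ := e2
        exfalso
        have t := S.Q4 2 0 1 2 (by norm_num)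
        linarith
      · -- edge 03 type U3
        obtain ⟨e2a, e2b⟩ := e2
        exfalso
        have t := S.Q4 2 1 0 1 (by norm_num)
        linarith
      · -- edge 03 type D3
        obtain ⟨e2a, e2b⟩ := e2
        exfalso
        have t := S.Q4 2 1 0 3 (by norm_num)
        linarith
    · -- edge 02 type D2
      obtain ⟨e1a, e1b⟩ := e1
      rcases S.edge_cases (p := 0) (q := 3) (by decide) hp03 with e2 | e2 | e2 | e2 | e2
      · -- edge 03 type E
        obtain ⟨e2a, e2b⟩ := e2
        exfalso
        have t := S.Q4 2 1 2 1 (by norm_num)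
        linarith
      · -- edge 03 type U2
        obtain ⟨e2a, e2b⟩ := e2
        exfalso
        have t := S.Q4 2 0 2 1 (by norm_num)
        linarith
      · -- edge 03 type D2
        obtain ⟨e2a, e2b⟩ := e2
        exfalso
        have t := S.Q4 1 0 1 1 (by norm_num)
        linarith
      · -- edge 03 type U3
        obtain ⟨e2a, e2b⟩ := e2
        exfalso
        have t := S.Q4 2 1 0 1 (by norm_num)
        linarith
      · -- edge 03 type D3
        obtain ⟨e2a, e2b⟩ := e2
        exfalso
        have t := S.Q4 2 1 0 3 (by norm_num)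
        linarith
    · -- edge 02 type U3
      obtain ⟨e1a, e1b⟩ := e1
      exfalso
      have t := S.Q4 2 1 1 0 (by norm_num)
      linarith
    · -- edge 02 type D3
      obtain ⟨e1a, e1b⟩ := e1
      exfalso
      have t := S.Q4 2 1 3 0 (by norm_num)
      linarith
  · -- edge 01 type U2
    obtain ⟨e0a, e0b⟩ := e0
    rcases S.edge_cases (p := 0) (q := 2) (by decide) hp02 with e1 | e1 | e1 | e1 | e1
    · -- edge 02 type E
      obtain ⟨e1a, e1b⟩ := e1
      rcases S.edge_cases (p := 0) (q := 3) (by decide) hp03 with e2 | e2 | e2 | e2 | e2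
      · -- edge 03 type E
        obtain ⟨e2a, e2b⟩ := e2
        exfalso
        have t := S.Q4 2 1 1 1 (by norm_num)
        linarith
      · -- edge 03 type U2
        obtain ⟨e2a, e2b⟩ := e2
        exfalso
        have t := S.Q4 2 1 0 1 (by norm_num)
        linarith
      · -- edge 03 type D2
        obtain ⟨e2a, e2b⟩ := e2
        exfalso
        have t := S.Q4 2 1 0 2 (by norm_num)
        linarith
      · -- edge 03 type U3
        obtain ⟨e2a, e2b⟩ := e2
        exfalso
        have t := S.Q4 2 0 1 1 (by norm_num)
        linarith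
      · -- edge 03 type D3
        obtain ⟨e2a, e2b⟩ := e2
        exfalso
        have t := S.Q4 2 0 1 3 (by norm_num)
        linarith
    · -- edge 02 type U2
      obtain ⟨e1a, e1b⟩ := e1
      exfalso
      have t := S.Q4 2 1 1 0 (by norm_num)
      linarith
    · -- edge 02 type D2
      obtain ⟨e1a, e1b⟩ := e1
      exfalso
      have t := S.Q4 2 1 2 0 (by norm_num)
      linarith
    · -- edge 02 type U3
      obtain ⟨e1a, e1b⟩ := e1
      exfalso
      have t := S.Q4 2 1 1 0 (by norm_num)
      linarith
    · -- edge 02 type D3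
      obtain ⟨e1a, e1b⟩ := e1
      exfalso
      have t := S.Q4 2 1 2 0 (by norm_num)
      linarith
  · -- edge 01 type D2
    obtain ⟨e0a, e0b⟩ := e0
    rcases S.edge_cases (p := 0) (q := 2) (by decide) hp02 with e1 | e1 | e1 | e1 | e1
    · -- edge 02 type E
      obtain ⟨e1a, e1b⟩ := e1
      rcases S.edge_cases (p := 0) (q := 3) (by decide) hp03 with e2 | e2 | e2 | e2 | e2
      · -- edge 03 type E
        obtain ⟨e2a, e2b⟩ := e2
        exfalso
        have t := S.Q4 2 2 1 1 (by norm_num)
        linarith
      · -- edge 03 type U2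
        obtain ⟨e2a, e2b⟩ := e2
        exfalso
        have t := S.Q4 2 2 0 1 (by norm_num)
        linarith
      · -- edge 03 type D2
        obtain ⟨e2a, e2b⟩ := e2
        exfalso
        have t := S.Q4 1 1 0 1 (by norm_num)
        linarith
      · -- edge 03 type U3
        obtain ⟨e2a, e2b⟩ := e2
        exfalso
        have t := S.Q4 2 0 1 1 (by norm_num)
        linarith
      · -- edge 03 type D3
        obtain ⟨e2a, e2b⟩ := e2
        exfalso
        have t := S.Q4 2 0 1 3 (by norm_num)
        linarith
    · -- edge 02 type U2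
      obtain ⟨e1a, e1b⟩ := e1
      exfalso
      have t := S.Q4 2 2 1 0 (by norm_num)
      linarith
    · -- edge 02 type D2
      obtain ⟨e1a, e1b⟩ := e1
      exfalso
      have t := S.Q4 1 1 1 0 (by norm_num)
      linarith
    · -- edge 02 type U3
      obtain ⟨e1a, e1b⟩ := e1
      exfalso
      have t := S.Q4 2 1 1 0 (by norm_num)
      linarith
    · -- edge 02 type D3
      obtain ⟨e1a, e1b⟩ := e1
      exfalso
      have t := S.Q4 1 1 1 0 (by norm_num)
      linarith
  · -- edge 01 type U3
    obtain ⟨e0a, e0b⟩ := e0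
    rcases S.edge_cases (p := 0) (q := 2) (by decide) hp02 with e1 | e1 | e1 | e1 | e1
    · -- edge 02 type E
      obtain ⟨e1a, e1b⟩ := e1
      exfalso
      have t := S.Q4 2 1 1 0 (by norm_num)
      linarith
    · -- edge 02 type U2
      obtain ⟨e1a, e1b⟩ := e1
      exfalso
      have t := S.Q4 2 1 1 0 (by norm_num)
      linarith
    · -- edge 02 type D2
      obtain ⟨e1a, e1b⟩ := e1
      exfalso
      have t := S.Q4 2 1 1 0 (by norm_num)
      linarith
    · -- edge 02 type U3
      obtain ⟨e1a, e1b⟩ := e1
      exfalso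
      have t := S.Q4 2 1 1 0 (by norm_num)
      linarith
    · -- edge 02 type D3
      obtain ⟨e1a, e1b⟩ := e1
      exfalso
      have t := S.Q4 2 1 1 0 (by norm_num)
      linarith
  · -- edge 01 type D3
    obtain ⟨e0a, e0b⟩ := e0
    rcases S.edge_cases (p := 0) (q := 2) (by decide) hp02 with e1 | e1 | e1 | e1 | e1
    · -- edge 02 type E
      obtain ⟨e1a, e1b⟩ := e1
      exfalso
      have t := S.Q4 2 3 1 0 (by norm_num)
      linarith
    · -- edge 02 type U2
      obtain ⟨e1a, e1b⟩ := e1
      exfalso
      have t := S.Q4 2 2 1 0 (by norm_num)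
      linarith
    · -- edge 02 type D2
      obtain ⟨e1a, e1b⟩ := e1
      exfalso
      have t := S.Q4 1 1 1 0 (by norm_num)
      linarith
    · -- edge 02 type U3
      obtain ⟨e1a, e1b⟩ := e1
      exfalso
      have t := S.Q4 2 1 1 0 (by norm_num)
      linarith
    · -- edge 02 type D3
      obtain ⟨e1a, e1b⟩ := e1
      exfalso
      have t := S.Q4 1 1 1 0 (by norm_num)
      linarith


theorem Sub.D5 (S : Sub 5) (h01 : S.A 0 1 ≠ 0) (h12 : S.A 1 2 ≠ 0) (h23 : S.A 2 3 ≠ 0) (h24 : S.A 2 4 ≠ 0) :
    (S.A 0 2 = 0 ∧ S.A 0 3 = 0 ∧ S.A 0 4 = 0 ∧ S.A 1 3 = 0 ∧ S.A 1 4 = 0 ∧ S.A 3 4 = 0) ∧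
      ((S.W 1 = S.W 0 ∧ S.A 0 1 = S.W 0 ∧ S.W 2 = S.W 1 ∧ S.A 1 2 = S.W 1 ∧ S.W 3 = S.W 2 ∧ S.A 2 3 = S.W 2 ∧ S.W 4 = S.W 2 ∧ S.A 2 4 = S.W 2)) := by
  have hW0 := S.hW 0
  have hW1 := S.hW 1
  have hW2 := S.hW 2
  have hW3 := S.hW 3
  have hW4 := S.hW 4
  have hp01 : 0 < S.A 0 1 := S.pos_of_ne (by decide) h01
  have gl01 := S.ge_left hp01
  have gr01 := S.ge_right hp01
  have hp12 : 0 < S.A 1 2 := S.pos_of_ne (by decide) h12
  have gl12 := S.ge_left hp12
  have gr12 := S.ge_right hp12
  have hp23 : 0 < S.A 2 3 := S.pos_of_ne (by decide) h23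
  have gl23 := S.ge_left hp23
  have gr23 := S.ge_right hp23
  have hp24 : 0 < S.A 2 4 := S.pos_of_ne (by decide) h24
  have gl24 := S.ge_left hp24
  have gr24 := S.ge_right hp24
  have nn02 := S.hnn 0 2 (by decide)
  have nn03 := S.hnn 0 3 (by decide)
  have nn04 := S.hnn 0 4 (by decide)
  have nn13 := S.hnn 1 3 (by decide)
  have nn14 := S.hnn 1 4 (by decide)
  have nn34 := S.hnn 3 4 (by decide)
  have z02 : S.A 0 2 = 0 := by
    by_contra hne
    have pp := S.pos_of_ne (by decide) hne
    have g1 := S.ge_left pp
    have g2 := S.ge_right pp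
    have t := S.Q5 1 1 1 0 0 (by norm_num)
    linarith
  have z03 : S.A 0 3 = 0 := by
    by_contra hne
    have pp := S.pos_of_ne (by decide) hne
    have g1 := S.ge_left pp
    have g2 := S.ge_right pp
    have t := S.Q5 1 1 1 1 0 (by norm_num)
    linarith
  have z04 : S.A 0 4 = 0 := by
    by_contra hne
    have pp := S.pos_of_ne (by decide) hne
    have g1 := S.ge_left pp
    have g2 := S.ge_right pp
    have t := S.Q5 1 1 1 0 1 (by norm_num)
    linarith
  have z13 : S.A 1 3 = 0 := by
    by_contra hne
    have pp := S.pos_of_ne (by decide) hne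
    have g1 := S.ge_left pp
    have g2 := S.ge_right pp
    have t := S.Q5 0 1 1 1 0 (by norm_num)
    linarith
  have z14 : S.A 1 4 = 0 := by
    by_contra hne
    have pp := S.pos_of_ne (by decide) hne
    have g1 := S.ge_left pp
    have g2 := S.ge_right pp
    have t := S.Q5 0 1 1 0 1 (by norm_num)
    linarith
  have z34 : S.A 3 4 = 0 := by
    by_contra hne
    have pp := S.pos_of_ne (by decide) hne
    have g1 := S.ge_left pp
    have g2 := S.ge_right pp
    have t := S.Q5 0 0 1 1 1 (by norm_num)
    linarith
  refine ⟨⟨z02, z03, z04, z13, z14, z34⟩, ?_⟩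
  rcases S.edge_cases (p := 0) (q := 1) (by decide) hp01 with e0 | e0 | e0 | e0 | e0
  · -- edge 01 type E
    obtain ⟨e0a, e0b⟩ := e0
    rcases S.edge_cases (p := 1) (q := 2) (by decide) hp12 with e1 | e1 | e1 | e1 | e1
    · -- edge 12 type E
      obtain ⟨e1a, e1b⟩ := e1
      rcases S.edge_cases (p := 2) (q := 3) (by decide) hp23 with e2 | e2 | e2 | e2 | e2
      · -- edge 23 type E
        obtain ⟨e2a, e2b⟩ := e2
        rcases S.edge_cases (p := 2) (q := 4) (by decide) hp24 with e3 | e3 | e3 | e3 | e3
        · -- edge 24 type E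
          obtain ⟨e3a, e3b⟩ := e3
          exact ⟨e0a, e0b, e1a, e1b, e2a, e2b, e3a, e3b⟩
        · -- edge 24 type U2
          obtain ⟨e3a, e3b⟩ := e3
          exfalso
          have t := S.Q5 0 1 2 1 1 (by norm_num)
          linarith
        · -- edge 24 type D2
          obtain ⟨e3a, e3b⟩ := e3
          exfalso
          have t := S.Q5 0 1 2 1 2 (by norm_num)
          linarith
        · -- edge 24 type U3
          obtain ⟨e3a, e3b⟩ := e3
          exfalso
          have t := S.Q5 0 1 2 0 1 (by norm_num)
          linarith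
        · -- edge 24 type D3
          obtain ⟨e3a, e3b⟩ := e3
          exfalso
          have t := S.Q5 0 1 2 0 3 (by norm_num)
          linarith
      · -- edge 23 type U2
        obtain ⟨e2a, e2b⟩ := e2
        rcases S.edge_cases (p := 2) (q := 4) (by decide) hp24 with e3 | e3 | e3 | e3 | e3
        · -- edge 24 type E
          obtain ⟨e3a, e3b⟩ := e3
          exfalso
          have t := S.Q5 0 1 2 1 1 (by norm_num)
          linarith
        · -- edge 24 type U2
          obtain ⟨e3a, e3b⟩ := e3
          exfalso
          have t := S.Q5 0 0 2 1 1 (by norm_num)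
          linarith
        · -- edge 24 type D2
          obtain ⟨e3a, e3b⟩ := e3
          exfalso
          have t := S.Q5 0 0 2 1 2 (by norm_num)
          linarith
        · -- edge 24 type U3
          obtain ⟨e3a, e3b⟩ := e3
          exfalso
          have t := S.Q5 0 1 2 0 1 (by norm_num)
          linarith
        · -- edge 24 type D3
          obtain ⟨e3a, e3b⟩ := e3
          exfalso
          have t := S.Q5 0 1 2 0 3 (by norm_num)
          linarith
      · -- edge 23 type D2
        obtain ⟨e2a, e2b⟩ := e2
        rcases S.edge_cases (p := 2) (q := 4) (by decide) hp24 with e3 | e3 | e3 | e3 | e3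
        · -- edge 24 type E
          obtain ⟨e3a, e3b⟩ := e3
          exfalso
          have t := S.Q5 0 1 2 2 1 (by norm_num)
          linarith
        · -- edge 24 type U2
          obtain ⟨e3a, e3b⟩ := e3
          exfalso
          have t := S.Q5 0 0 2 2 1 (by norm_num)
          linarith
        · -- edge 24 type D2
          obtain ⟨e3a, e3b⟩ := e3
          exfalso
          have t := S.Q5 0 0 1 1 1 (by norm_num)
          linarith
        · -- edge 24 type U3
          obtain ⟨e3a, e3b⟩ := e3
          exfalso
          have t := S.Q5 0 1 2 0 1 (by norm_num)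
          linarith
        · -- edge 24 type D3
          obtain ⟨e3a, e3b⟩ := e3
          exfalso
          have t := S.Q5 0 1 2 0 3 (by norm_num)
          linarith
      · -- edge 23 type U3
        obtain ⟨e2a, e2b⟩ := e2
        exfalso
        have t := S.Q5 0 1 2 1 0 (by norm_num)
        linarith
      · -- edge 23 type D3
        obtain ⟨e2a, e2b⟩ := e2
        exfalso
        have t := S.Q5 0 1 2 3 0 (by norm_num)
        linarith
    · -- edge 12 type U2
      obtain ⟨e1a, e1b⟩ := e1
      rcases S.edge_cases (p := 2) (q := 3) (by decide) hp23 with e2 | e2 | e2 | e2 | e2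
      · -- edge 23 type E
        obtain ⟨e2a, e2b⟩ := e2
        rcases S.edge_cases (p := 2) (q := 4) (by decide) hp24 with e3 | e3 | e3 | e3 | e3
        · -- edge 24 type E
          obtain ⟨e3a, e3b⟩ := e3
          exfalso
          have t := S.Q5 0 2 2 1 1 (by norm_num)
          linarith
        · -- edge 24 type U2
          obtain ⟨e3a, e3b⟩ := e3
          exfalso
          have t := S.Q5 0 2 2 0 1 (by norm_num)
          linarith
        · -- edge 24 type D2
          obtain ⟨e3a, e3b⟩ := e3
          exfalso
          have t := S.Q5 0 1 1 0 1 (by norm_num)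
          linarith
        · -- edge 24 type U3
          obtain ⟨e3a, e3b⟩ := e3
          exfalso
          have t := S.Q5 0 0 2 1 1 (by norm_num)
          linarith
        · -- edge 24 type D3
          obtain ⟨e3a, e3b⟩ := e3
          exfalso
          have t := S.Q5 0 0 2 1 3 (by norm_num)
          linarith
      · -- edge 23 type U2
        obtain ⟨e2a, e2b⟩ := e2
        exfalso
        have t := S.Q5 0 2 2 1 0 (by norm_num)
        linarith
      · -- edge 23 type D2
        obtain ⟨e2a, e2b⟩ := e2
        exfalso
        have t := S.Q5 0 1 1 1 0 (by norm_num)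
        linarith
      · -- edge 23 type U3
        obtain ⟨e2a, e2b⟩ := e2
        exfalso
        have t := S.Q5 0 1 2 1 0 (by norm_num)
        linarith
      · -- edge 23 type D3
        obtain ⟨e2a, e2b⟩ := e2
        exfalso
        have t := S.Q5 0 1 1 1 0 (by norm_num)
        linarith
    · -- edge 12 type D2
      obtain ⟨e1a, e1b⟩ := e1
      rcases S.edge_cases (p := 2) (q := 3) (by decide) hp23 with e2 | e2 | e2 | e2 | e2
      · -- edge 23 type E
        obtain ⟨e2a, e2b⟩ := e2
        rcases S.edge_cases (p := 2) (q := 4) (by decide) hp24 with e3 | e3 | e3 | e3 | e3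
        · -- edge 24 type E
          obtain ⟨e3a, e3b⟩ := e3
          exfalso
          have t := S.Q5 0 1 2 1 1 (by norm_num)
          linarith
        · -- edge 24 type U2
          obtain ⟨e3a, e3b⟩ := e3
          exfalso
          have t := S.Q5 0 1 2 0 1 (by norm_num)
          linarith
        · -- edge 24 type D2
          obtain ⟨e3a, e3b⟩ := e3
          exfalso
          have t := S.Q5 0 1 2 0 2 (by norm_num)
          linarith
        · -- edge 24 type U3
          obtain ⟨e3a, e3b⟩ := e3
          exfalso
          have t := S.Q5 0 0 2 1 1 (by norm_num)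
          linarith
        · -- edge 24 type D3
          obtain ⟨e3a, e3b⟩ := e3
          exfalso
          have t := S.Q5 0 0 2 1 3 (by norm_num)
          linarith
      · -- edge 23 type U2
        obtain ⟨e2a, e2b⟩ := e2
        exfalso
        have t := S.Q5 0 1 2 1 0 (by norm_num)
        linarith
      · -- edge 23 type D2
        obtain ⟨e2a, e2b⟩ := e2
        exfalso
        have t := S.Q5 0 1 2 2 0 (by norm_num)
        linarith
      · -- edge 23 type U3
        obtain ⟨e2a, e2b⟩ := e2
        exfalso
        have t := S.Q5 0 1 2 1 0 (by norm_num)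
        linarith
      · -- edge 23 type D3
        obtain ⟨e2a, e2b⟩ := e2
        exfalso
        have t := S.Q5 0 1 2 2 0 (by norm_num)
        linarith
    · -- edge 12 type U3
      obtain ⟨e1a, e1b⟩ := e1
      exfalso
      have t := S.Q5 1 2 1 0 0 (by norm_num)
      linarith
    · -- edge 12 type D3
      obtain ⟨e1a, e1b⟩ := e1
      exfalso
      have t := S.Q5 1 2 3 0 0 (by norm_num)
      linarith
  · -- edge 01 type U2
    obtain ⟨e0a, e0b⟩ := e0
    rcases S.edge_cases (p := 1) (q := 2) (by decide) hp12 with e1 | e1 | e1 | e1 | e1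
    · -- edge 12 type E
      obtain ⟨e1a, e1b⟩ := e1
      rcases S.edge_cases (p := 2) (q := 3) (by decide) hp23 with e2 | e2 | e2 | e2 | e2
      · -- edge 23 type E
        obtain ⟨e2a, e2b⟩ := e2
        rcases S.edge_cases (p := 2) (q := 4) (by decide) hp24 with e3 | e3 | e3 | e3 | e3
        · -- edge 24 type E
          obtain ⟨e3a, e3b⟩ := e3
          exfalso
          have t := S.Q5 2 2 2 1 1 (by norm_num)
          linarith
        · -- edge 24 type U2
          obtain ⟨e3a, e3b⟩ := e3
          exfalso
          have t := S.Q5 2 2 2 0 1 (by norm_num)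
          linarith
        · -- edge 24 type D2
          obtain ⟨e3a, e3b⟩ := e3
          exfalso
          have t := S.Q5 1 1 1 0 1 (by norm_num)
          linarith
        · -- edge 24 type U3
          obtain ⟨e3a, e3b⟩ := e3
          exfalso
          have t := S.Q5 0 1 2 0 1 (by norm_num)
          linarith
        · -- edge 24 type D3
          obtain ⟨e3a, e3b⟩ := e3
          exfalso
          have t := S.Q5 0 1 2 0 3 (by norm_num)
          linarith
      · -- edge 23 type U2
        obtain ⟨e2a, e2b⟩ := e2
        exfalso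
        have t := S.Q5 2 2 2 1 0 (by norm_num)
        linarith
      · -- edge 23 type D2
        obtain ⟨e2a, e2b⟩ := e2
        exfalso
        have t := S.Q5 1 1 1 1 0 (by norm_num)
        linarith
      · -- edge 23 type U3
        obtain ⟨e2a, e2b⟩ := e2
        exfalso
        have t := S.Q5 0 1 2 1 0 (by norm_num)
        linarith
      · -- edge 23 type D3
        obtain ⟨e2a, e2b⟩ := e2
        exfalso
        have t := S.Q5 0 1 2 3 0 (by norm_num)
        linarith
    · -- edge 12 type U2
      obtain ⟨e1a, e1b⟩ := e1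
      exfalso
      have t := S.Q5 2 2 1 0 0 (by norm_num)
      linarith
    · -- edge 12 type D2
      obtain ⟨e1a, e1b⟩ := e1
      exfalso
      have t := S.Q5 1 1 1 0 0 (by norm_num)
      linarith
    · -- edge 12 type U3
      obtain ⟨e1a, e1b⟩ := e1
      exfalso
      have t := S.Q5 1 2 1 0 0 (by norm_num)
      linarith
    · -- edge 12 type D3
      obtain ⟨e1a, e1b⟩ := e1
      exfalso
      have t := S.Q5 1 1 1 0 0 (by norm_num)
      linarith
  · -- edge 01 type D2
    obtain ⟨e0a, e0b⟩ := e0
    rcases S.edge_cases (p := 1) (q := 2) (by decide) hp12 with e1 | e1 | e1 | e1 | e1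
    · -- edge 12 type E
      obtain ⟨e1a, e1b⟩ := e1
      rcases S.edge_cases (p := 2) (q := 3) (by decide) hp23 with e2 | e2 | e2 | e2 | e2
      · -- edge 23 type E
        obtain ⟨e2a, e2b⟩ := e2
        rcases S.edge_cases (p := 2) (q := 4) (by decide) hp24 with e3 | e3 | e3 | e3 | e3
        · -- edge 24 type E
          obtain ⟨e3a, e3b⟩ := e3
          exfalso
          have t := S.Q5 1 2 2 1 1 (by norm_num)
          linarith
        · -- edge 24 type U2
          obtain ⟨e3a, e3b⟩ := e3
          exfalso
          have t := S.Q5 1 2 2 0 1 (by norm_num)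
          linarith
        · -- edge 24 type D2
          obtain ⟨e3a, e3b⟩ := e3
          exfalso
          have t := S.Q5 1 2 2 0 2 (by norm_num)
          linarith
        · -- edge 24 type U3
          obtain ⟨e3a, e3b⟩ := e3
          exfalso
          have t := S.Q5 0 1 2 0 1 (by norm_num)
          linarith
        · -- edge 24 type D3
          obtain ⟨e3a, e3b⟩ := e3
          exfalso
          have t := S.Q5 0 1 2 0 3 (by norm_num)
          linarith
      · -- edge 23 type U2
        obtain ⟨e2a, e2b⟩ := e2
        exfalso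
        have t := S.Q5 1 2 2 1 0 (by norm_num)
        linarith
      · -- edge 23 type D2
        obtain ⟨e2a, e2b⟩ := e2
        exfalso
        have t := S.Q5 1 2 2 2 0 (by norm_num)
        linarith
      · -- edge 23 type U3
        obtain ⟨e2a, e2b⟩ := e2
        exfalso
        have t := S.Q5 0 1 2 1 0 (by norm_num)
        linarith
      · -- edge 23 type D3
        obtain ⟨e2a, e2b⟩ := e2
        exfalso
        have t := S.Q5 0 1 2 3 0 (by norm_num)
        linarith
    · -- edge 12 type U2
      obtain ⟨e1a, e1b⟩ := e1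
      exfalso
      have t := S.Q5 1 2 1 0 0 (by norm_num)
      linarith
    · -- edge 12 type D2
      obtain ⟨e1a, e1b⟩ := e1
      exfalso
      have t := S.Q5 1 2 2 0 0 (by norm_num)
      linarith
    · -- edge 12 type U3
      obtain ⟨e1a, e1b⟩ := e1
      exfalso
      have t := S.Q5 1 2 1 0 0 (by norm_num)
      linarith
    · -- edge 12 type D3
      obtain ⟨e1a, e1b⟩ := e1
      exfalso
      have t := S.Q5 1 2 2 0 0 (by norm_num)
      linarith
  · -- edge 01 type U3
    obtain ⟨e0a, e0b⟩ := e0
    rcases S.edge_cases (p := 1) (q := 2) (by decide) hp12 with e1 | e1 | e1 | e1 | e1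
    · -- edge 12 type E
      obtain ⟨e1a, e1b⟩ := e1
      exfalso
      have t := S.Q5 3 2 1 0 0 (by norm_num)
      linarith
    · -- edge 12 type U2
      obtain ⟨e1a, e1b⟩ := e1
      exfalso
      have t := S.Q5 2 2 1 0 0 (by norm_num)
      linarith
    · -- edge 12 type D2
      obtain ⟨e1a, e1b⟩ := e1
      exfalso
      have t := S.Q5 1 1 1 0 0 (by norm_num)
      linarith
    · -- edge 12 type U3
      obtain ⟨e1a, e1b⟩ := e1
      exfalso
      have t := S.Q5 1 2 1 0 0 (by norm_num)
      linarith
    · -- edge 12 type D3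
      obtain ⟨e1a, e1b⟩ := e1
      exfalso
      have t := S.Q5 1 1 1 0 0 (by norm_num)
      linarith
  · -- edge 01 type D3
    obtain ⟨e0a, e0b⟩ := e0
    rcases S.edge_cases (p := 1) (q := 2) (by decide) hp12 with e1 | e1 | e1 | e1 | e1
    · -- edge 12 type E
      obtain ⟨e1a, e1b⟩ := e1
      exfalso
      have t := S.Q5 1 2 1 0 0 (by norm_num)
      linarith
    · -- edge 12 type U2
      obtain ⟨e1a, e1b⟩ := e1
      exfalso
      have t := S.Q5 1 2 1 0 0 (by norm_num)
      linarith
    · -- edge 12 type D2
      obtain ⟨e1a, e1b⟩ := e1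
      exfalso
      have t := S.Q5 1 2 1 0 0 (by norm_num)
      linarith
    · -- edge 12 type U3
      obtain ⟨e1a, e1b⟩ := e1
      exfalso
      have t := S.Q5 1 2 1 0 0 (by norm_num)
      linarith
    · -- edge 12 type D3
      obtain ⟨e1a, e1b⟩ := e1
      exfalso
      have t := S.Q5 1 2 1 0 0 (by norm_num)
      linarith


theorem Sub.E6 (S : Sub 6) (h01 : S.A 0 1 ≠ 0) (h12 : S.A 1 2 ≠ 0) (h23 : S.A 2 3 ≠ 0) (h34 : S.A 3 4 ≠ 0) (h25 : S.A 2 5 ≠ 0) :
    (S.A 0 2 = 0 ∧ S.A 0 3 = 0 ∧ S.A 0 4 = 0 ∧ S.A 0 5 = 0 ∧ S.A 1 3 = 0 ∧ S.A 1 4 = 0 ∧ S.A 1 5 = 0 ∧ S.A 2 4 = 0 ∧ S.A 3 5 = 0 ∧ S.A 4 5 = 0) ∧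
      ((S.W 1 = S.W 0 ∧ S.A 0 1 = S.W 0 ∧ S.W 2 = S.W 1 ∧ S.A 1 2 = S.W 1 ∧ S.W 3 = S.W 2 ∧ S.A 2 3 = S.W 2 ∧ S.W 4 = S.W 3 ∧ S.A 3 4 = S.W 3 ∧ S.W 5 = S.W 2 ∧ S.A 2 5 = S.W 2)) := by
  have hW0 := S.hW 0
  have hW1 := S.hW 1
  have hW2 := S.hW 2
  have hW3 := S.hW 3
  have hW4 := S.hW 4
  have hW5 := S.hW 5
  have hp01 : 0 < S.A 0 1 := S.pos_of_ne (by decide) h01
  have gl01 := S.ge_left hp01
  have gr01 := S.ge_right hp01
  have hp12 : 0 < S.A 1 2 := S.pos_of_ne (by decide) h12
  have gl12 := S.ge_left hp12
  have gr12 := S.ge_right hp12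
  have hp23 : 0 < S.A 2 3 := S.pos_of_ne (by decide) h23
  have gl23 := S.ge_left hp23
  have gr23 := S.ge_right hp23
  have hp34 : 0 < S.A 3 4 := S.pos_of_ne (by decide) h34
  have gl34 := S.ge_left hp34
  have gr34 := S.ge_right hp34
  have hp25 : 0 < S.A 2 5 := S.pos_of_ne (by decide) h25
  have gl25 := S.ge_left hp25
  have gr25 := S.ge_right hp25
  have nn02 := S.hnn 0 2 (by decide)
  have nn03 := S.hnn 0 3 (by decide)
  have nn04 := S.hnn 0 4 (by decide)
  have nn05 := S.hnn 0 5 (by decide)
  have nn13 := S.hnn 1 3 (by decide)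
  have nn14 := S.hnn 1 4 (by decide)
  have nn15 := S.hnn 1 5 (by decide)
  have nn24 := S.hnn 2 4 (by decide)
  have nn35 := S.hnn 3 5 (by decide)
  have nn45 := S.hnn 4 5 (by decide)
  have z02 : S.A 0 2 = 0 := by
    by_contra hne
    have pp := S.pos_of_ne (by decide) hne
    have g1 := S.ge_left pp
    have g2 := S.ge_right pp
    have t := S.Q6 1 1 1 0 0 0 (by norm_num)
    linarith
  have z03 : S.A 0 3 = 0 := by
    by_contra hne
    have pp := S.pos_of_ne (by decide) hne
    have g1 := S.ge_left pp
    have g2 := S.ge_right pp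
    have t := S.Q6 1 1 1 1 0 0 (by norm_num)
    linarith
  have z04 : S.A 0 4 = 0 := by
    by_contra hne
    have pp := S.pos_of_ne (by decide) hne
    have g1 := S.ge_left pp
    have g2 := S.ge_right pp
    have t := S.Q6 1 1 1 1 1 0 (by norm_num)
    linarith
  have z05 : S.A 0 5 = 0 := by
    by_contra hne
    have pp := S.pos_of_ne (by decide) hne
    have g1 := S.ge_left pp
    have g2 := S.ge_right pp
    have t := S.Q6 1 1 1 0 0 1 (by norm_num)
    linarith
  have z13 : S.A 1 3 = 0 := by
    by_contra hne
    have pp := S.pos_of_ne (by decide) hne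
    have g1 := S.ge_left pp
    have g2 := S.ge_right pp
    have t := S.Q6 0 1 1 1 0 0 (by norm_num)
    linarith
  have z14 : S.A 1 4 = 0 := by
    by_contra hne
    have pp := S.pos_of_ne (by decide) hne
    have g1 := S.ge_left pp
    have g2 := S.ge_right pp
    have t := S.Q6 0 1 1 1 1 0 (by norm_num)
    linarith
  have z15 : S.A 1 5 = 0 := by
    by_contra hne
    have pp := S.pos_of_ne (by decide) hne
    have g1 := S.ge_left pp
    have g2 := S.ge_right pp
    have t := S.Q6 0 1 1 0 0 1 (by norm_num)
    linarith
  have z24 : S.A 2 4 = 0 := by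
    by_contra hne
    have pp := S.pos_of_ne (by decide) hne
    have g1 := S.ge_left pp
    have g2 := S.ge_right pp
    have t := S.Q6 0 0 1 1 1 0 (by norm_num)
    linarith
  have z35 : S.A 3 5 = 0 := by
    by_contra hne
    have pp := S.pos_of_ne (by decide) hne
    have g1 := S.ge_left pp
    have g2 := S.ge_right pp
    have t := S.Q6 0 0 1 1 0 1 (by norm_num)
    linarith
  have z45 : S.A 4 5 = 0 := by
    by_contra hne
    have pp := S.pos_of_ne (by decide) hne
    have g1 := S.ge_left pp
    have g2 := S.ge_right pp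
    have t := S.Q6 0 0 1 1 1 1 (by norm_num)
    linarith
  refine ⟨⟨z02, z03, z04, z05, z13, z14, z15, z24, z35, z45⟩, ?_⟩
  rcases S.edge_cases (p := 0) (q := 1) (by decide) hp01 with e0 | e0 | e0 | e0 | e0
  · -- edge 01 type E
    obtain ⟨e0a, e0b⟩ := e0
    rcases S.edge_cases (p := 1) (q := 2) (by decide) hp12 with e1 | e1 | e1 | e1 | e1
    · -- edge 12 type E
      obtain ⟨e1a, e1b⟩ := e1
      rcases S.edge_cases (p := 2) (q := 3) (by decide) hp23 with e2 | e2 | e2 | e2 | e2
      · -- edge 23 type E
        obtain ⟨e2a, e2b⟩ := e2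
        rcases S.edge_cases (p := 3) (q := 4) (by decide) hp34 with e3 | e3 | e3 | e3 | e3
        · -- edge 34 type E
          obtain ⟨e3a, e3b⟩ := e3
          rcases S.edge_cases (p := 2) (q := 5) (by decide) hp25 with e4 | e4 | e4 | e4 | e4
          · -- edge 25 type E
            obtain ⟨e4a, e4b⟩ := e4
            exact ⟨e0a, e0b, e1a, e1b, e2a, e2b, e3a, e3b, e4a, e4b⟩
          · -- edge 25 type U2
            obtain ⟨e4a, e4b⟩ := e4
            exfalso
            have t := S.Q6 0 1 2 1 0 1 (by norm_num)
            linarith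
          · -- edge 25 type D2
            obtain ⟨e4a, e4b⟩ := e4
            exfalso
            have t := S.Q6 0 1 2 1 0 2 (by norm_num)
            linarith
          · -- edge 25 type U3
            obtain ⟨e4a, e4b⟩ := e4
            exfalso
            have t := S.Q6 0 1 2 0 0 1 (by norm_num)
            linarith
          · -- edge 25 type D3
            obtain ⟨e4a, e4b⟩ := e4
            exfalso
            have t := S.Q6 0 1 2 0 0 3 (by norm_num)
            linarith
        · -- edge 34 type U2
          obtain ⟨e3a, e3b⟩ := e3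
          rcases S.edge_cases (p := 2) (q := 5) (by decide) hp25 with e4 | e4 | e4 | e4 | e4
          · -- edge 25 type E
            obtain ⟨e4a, e4b⟩ := e4
            exfalso
            have t := S.Q6 0 1 2 2 1 1 (by norm_num)
            linarith
          · -- edge 25 type U2
            obtain ⟨e4a, e4b⟩ := e4
            exfalso
            have t := S.Q6 0 1 2 1 0 1 (by norm_num)
            linarith
          · -- edge 25 type D2
            obtain ⟨e4a, e4b⟩ := e4
            exfalso
            have t := S.Q6 0 1 2 1 0 2 (by norm_num)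
            linarith
          · -- edge 25 type U3
            obtain ⟨e4a, e4b⟩ := e4
            exfalso
            have t := S.Q6 0 1 2 0 0 1 (by norm_num)
            linarith
          · -- edge 25 type D3
            obtain ⟨e4a, e4b⟩ := e4
            exfalso
            have t := S.Q6 0 1 2 0 0 3 (by norm_num)
            linarith
        · -- edge 34 type D2
          obtain ⟨e3a, e3b⟩ := e3
          rcases S.edge_cases (p := 2) (q := 5) (by decide) hp25 with e4 | e4 | e4 | e4 | e4
          · -- edge 25 type E
            obtain ⟨e4a, e4b⟩ := e4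
            exfalso
            have t := S.Q6 0 1 2 2 2 1 (by norm_num)
            linarith
          · -- edge 25 type U2
            obtain ⟨e4a, e4b⟩ := e4
            exfalso
            have t := S.Q6 0 1 2 1 0 1 (by norm_num)
            linarith
          · -- edge 25 type D2
            obtain ⟨e4a, e4b⟩ := e4
            exfalso
            have t := S.Q6 0 1 2 1 0 2 (by norm_num)
            linarith
          · -- edge 25 type U3
            obtain ⟨e4a, e4b⟩ := e4
            exfalso
            have t := S.Q6 0 1 2 0 0 1 (by norm_num)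
            linarith
          · -- edge 25 type D3
            obtain ⟨e4a, e4b⟩ := e4
            exfalso
            have t := S.Q6 0 1 2 0 0 3 (by norm_num)
            linarith
        · -- edge 34 type U3
          obtain ⟨e3a, e3b⟩ := e3
          exfalso
          have t := S.Q6 0 0 1 2 1 0 (by norm_num)
          linarith
        · -- edge 34 type D3
          obtain ⟨e3a, e3b⟩ := e3
          exfalso
          have t := S.Q6 0 0 1 2 3 0 (by norm_num)
          linarith
      · -- edge 23 type U2
        obtain ⟨e2a, e2b⟩ := e2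
        rcases S.edge_cases (p := 3) (q := 4) (by decide) hp34 with e3 | e3 | e3 | e3 | e3
        · -- edge 34 type E
          obtain ⟨e3a, e3b⟩ := e3
          exfalso
          have t := S.Q6 1 2 3 2 1 0 (by norm_num)
          linarith
        · -- edge 34 type U2
          obtain ⟨e3a, e3b⟩ := e3
          exfalso
          have t := S.Q6 0 0 2 2 1 0 (by norm_num)
          linarith
        · -- edge 34 type D2
          obtain ⟨e3a, e3b⟩ := e3
          exfalso
          have t := S.Q6 0 0 1 1 1 0 (by norm_num)
          linarith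
        · -- edge 34 type U3
          obtain ⟨e3a, e3b⟩ := e3
          exfalso
          have t := S.Q6 0 0 1 2 1 0 (by norm_num)
          linarith
        · -- edge 34 type D3
          obtain ⟨e3a, e3b⟩ := e3
          exfalso
          have t := S.Q6 0 0 1 1 1 0 (by norm_num)
          linarith
      · -- edge 23 type D2
        obtain ⟨e2a, e2b⟩ := e2
        rcases S.edge_cases (p := 3) (q := 4) (by decide) hp34 with e3 | e3 | e3 | e3 | e3
        · -- edge 34 type E
          obtain ⟨e3a, e3b⟩ := e3
          exfalso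
          have t := S.Q6 1 2 3 4 2 0 (by norm_num)
          linarith
        · -- edge 34 type U2
          obtain ⟨e3a, e3b⟩ := e3
          exfalso
          have t := S.Q6 0 0 1 2 1 0 (by norm_num)
          linarith
        · -- edge 34 type D2
          obtain ⟨e3a, e3b⟩ := e3
          exfalso
          have t := S.Q6 0 0 1 2 2 0 (by norm_num)
          linarith
        · -- edge 34 type U3
          obtain ⟨e3a, e3b⟩ := e3
          exfalso
          have t := S.Q6 0 0 1 2 1 0 (by norm_num)
          linarith
        · -- edge 34 type D3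
          obtain ⟨e3a, e3b⟩ := e3
          exfalso
          have t := S.Q6 0 0 1 2 2 0 (by norm_num)
          linarith
      · -- edge 23 type U3
        obtain ⟨e2a, e2b⟩ := e2
        exfalso
        have t := S.Q6 0 1 2 1 0 0 (by norm_num)
        linarith
      · -- edge 23 type D3
        obtain ⟨e2a, e2b⟩ := e2
        exfalso
        have t := S.Q6 0 1 2 3 0 0 (by norm_num)
        linarith
    · -- edge 12 type U2
      obtain ⟨e1a, e1b⟩ := e1
      rcases S.edge_cases (p := 2) (q := 3) (by decide) hp23 with e2 | e2 | e2 | e2 | e2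
      · -- edge 23 type E
        obtain ⟨e2a, e2b⟩ := e2
        rcases S.edge_cases (p := 3) (q := 4) (by decide) hp34 with e3 | e3 | e3 | e3 | e3
        · -- edge 34 type E
          obtain ⟨e3a, e3b⟩ := e3
          exfalso
          have t := S.Q6 2 4 3 2 1 0 (by norm_num)
          linarith
        · -- edge 34 type U2
          obtain ⟨e3a, e3b⟩ := e3
          exfalso
          have t := S.Q6 0 2 2 2 1 0 (by norm_num)
          linarith
        · -- edge 34 type D2
          obtain ⟨e3a, e3b⟩ := e3
          exfalso
          have t := S.Q6 0 1 1 1 1 0 (by norm_num)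
          linarith
        · -- edge 34 type U3
          obtain ⟨e3a, e3b⟩ := e3
          exfalso
          have t := S.Q6 0 0 1 2 1 0 (by norm_num)
          linarith
        · -- edge 34 type D3
          obtain ⟨e3a, e3b⟩ := e3
          exfalso
          have t := S.Q6 0 0 1 2 3 0 (by norm_num)
          linarith
      · -- edge 23 type U2
        obtain ⟨e2a, e2b⟩ := e2
        exfalso
        have t := S.Q6 0 2 2 1 0 0 (by norm_num)
        linarith
      · -- edge 23 type D2
        obtain ⟨e2a, e2b⟩ := e2
        exfalso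
        have t := S.Q6 0 1 1 1 0 0 (by norm_num)
        linarith
      · -- edge 23 type U3
        obtain ⟨e2a, e2b⟩ := e2
        exfalso
        have t := S.Q6 0 1 2 1 0 0 (by norm_num)
        linarith
      · -- edge 23 type D3
        obtain ⟨e2a, e2b⟩ := e2
        exfalso
        have t := S.Q6 0 1 1 1 0 0 (by norm_num)
        linarith
    · -- edge 12 type D2
      obtain ⟨e1a, e1b⟩ := e1
      rcases S.edge_cases (p := 2) (q := 3) (by decide) hp23 with e2 | e2 | e2 | e2 | e2
      · -- edge 23 type E
        obtain ⟨e2a, e2b⟩ := e2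
        rcases S.edge_cases (p := 3) (q := 4) (by decide) hp34 with e3 | e3 | e3 | e3 | e3
        · -- edge 34 type E
          obtain ⟨e3a, e3b⟩ := e3
          exfalso
          have t := S.Q6 1 2 3 2 1 0 (by norm_num)
          linarith
        · -- edge 34 type U2
          obtain ⟨e3a, e3b⟩ := e3
          exfalso
          have t := S.Q6 0 1 2 2 1 0 (by norm_num)
          linarith
        · -- edge 34 type D2
          obtain ⟨e3a, e3b⟩ := e3
          exfalso
          have t := S.Q6 0 1 2 2 2 0 (by norm_num)
          linarith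
        · -- edge 34 type U3
          obtain ⟨e3a, e3b⟩ := e3
          exfalso
          have t := S.Q6 0 0 1 2 1 0 (by norm_num)
          linarith
        · -- edge 34 type D3
          obtain ⟨e3a, e3b⟩ := e3
          exfalso
          have t := S.Q6 0 0 1 2 3 0 (by norm_num)
          linarith
      · -- edge 23 type U2
        obtain ⟨e2a, e2b⟩ := e2
        exfalso
        have t := S.Q6 0 1 2 1 0 0 (by norm_num)
        linarith
      · -- edge 23 type D2
        obtain ⟨e2a, e2b⟩ := e2
        exfalso
        have t := S.Q6 0 1 2 2 0 0 (by norm_num)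
        linarith
      · -- edge 23 type U3
        obtain ⟨e2a, e2b⟩ := e2
        exfalso
        have t := S.Q6 0 1 2 1 0 0 (by norm_num)
        linarith
      · -- edge 23 type D3
        obtain ⟨e2a, e2b⟩ := e2
        exfalso
        have t := S.Q6 0 1 2 2 0 0 (by norm_num)
        linarith
    · -- edge 12 type U3
      obtain ⟨e1a, e1b⟩ := e1
      exfalso
      have t := S.Q6 1 2 1 0 0 0 (by norm_num)
      linarith
    · -- edge 12 type D3
      obtain ⟨e1a, e1b⟩ := e1
      exfalso
      have t := S.Q6 1 2 3 0 0 0 (by norm_num)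
      linarith
  · -- edge 01 type U2
    obtain ⟨e0a, e0b⟩ := e0
    rcases S.edge_cases (p := 1) (q := 2) (by decide) hp12 with e1 | e1 | e1 | e1 | e1
    · -- edge 12 type E
      obtain ⟨e1a, e1b⟩ := e1
      rcases S.edge_cases (p := 2) (q := 3) (by decide) hp23 with e2 | e2 | e2 | e2 | e2
      · -- edge 23 type E
        obtain ⟨e2a, e2b⟩ := e2
        rcases S.edge_cases (p := 3) (q := 4) (by decide) hp34 with e3 | e3 | e3 | e3 | e3
        · -- edge 34 type E
          obtain ⟨e3a, e3b⟩ := e3
          rcases S.edge_cases (p := 2) (q := 5) (by decide) hp25 with e4 | e4 | e4 | e4 | e4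
          · -- edge 25 type E
            obtain ⟨e4a, e4b⟩ := e4
            exfalso
            have t := S.Q6 2 2 2 1 0 1 (by norm_num)
            linarith
          · -- edge 25 type U2
            obtain ⟨e4a, e4b⟩ := e4
            exfalso
            have t := S.Q6 2 2 2 0 0 1 (by norm_num)
            linarith
          · -- edge 25 type D2
            obtain ⟨e4a, e4b⟩ := e4
            exfalso
            have t := S.Q6 1 1 1 0 0 1 (by norm_num)
            linarith
          · -- edge 25 type U3
            obtain ⟨e4a, e4b⟩ := e4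
            exfalso
            have t := S.Q6 0 1 2 0 0 1 (by norm_num)
            linarith
          · -- edge 25 type D3
            obtain ⟨e4a, e4b⟩ := e4
            exfalso
            have t := S.Q6 0 1 2 0 0 3 (by norm_num)
            linarith
        · -- edge 34 type U2
          obtain ⟨e3a, e3b⟩ := e3
          exfalso
          have t := S.Q6 2 2 2 2 1 0 (by norm_num)
          linarith
        · -- edge 34 type D2
          obtain ⟨e3a, e3b⟩ := e3
          exfalso
          have t := S.Q6 1 1 1 1 1 0 (by norm_num)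
          linarith
        · -- edge 34 type U3
          obtain ⟨e3a, e3b⟩ := e3
          exfalso
          have t := S.Q6 0 0 1 2 1 0 (by norm_num)
          linarith
        · -- edge 34 type D3
          obtain ⟨e3a, e3b⟩ := e3
          exfalso
          have t := S.Q6 0 0 1 2 3 0 (by norm_num)
          linarith
      · -- edge 23 type U2
        obtain ⟨e2a, e2b⟩ := e2
        exfalso
        have t := S.Q6 2 2 2 1 0 0 (by norm_num)
        linarith
      · -- edge 23 type D2
        obtain ⟨e2a, e2b⟩ := e2
        exfalso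
        have t := S.Q6 1 1 1 1 0 0 (by norm_num)
        linarith
      · -- edge 23 type U3
        obtain ⟨e2a, e2b⟩ := e2
        exfalso
        have t := S.Q6 0 1 2 1 0 0 (by norm_num)
        linarith
      · -- edge 23 type D3
        obtain ⟨e2a, e2b⟩ := e2
        exfalso
        have t := S.Q6 0 1 2 3 0 0 (by norm_num)
        linarith
    · -- edge 12 type U2
      obtain ⟨e1a, e1b⟩ := e1
      exfalso
      have t := S.Q6 2 2 1 0 0 0 (by norm_num)
      linarith
    · -- edge 12 type D2
      obtain ⟨e1a, e1b⟩ := e1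
      exfalso
      have t := S.Q6 1 1 1 0 0 0 (by norm_num)
      linarith
    · -- edge 12 type U3
      obtain ⟨e1a, e1b⟩ := e1
      exfalso
      have t := S.Q6 1 2 1 0 0 0 (by norm_num)
      linarith
    · -- edge 12 type D3
      obtain ⟨e1a, e1b⟩ := e1
      exfalso
      have t := S.Q6 1 1 1 0 0 0 (by norm_num)
      linarith
  · -- edge 01 type D2
    obtain ⟨e0a, e0b⟩ := e0
    rcases S.edge_cases (p := 1) (q := 2) (by decide) hp12 with e1 | e1 | e1 | e1 | e1
    · -- edge 12 type E
      obtain ⟨e1a, e1b⟩ := e1
      rcases S.edge_cases (p := 2) (q := 3) (by decide) hp23 with e2 | e2 | e2 | e2 | e2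
      · -- edge 23 type E
        obtain ⟨e2a, e2b⟩ := e2
        rcases S.edge_cases (p := 3) (q := 4) (by decide) hp34 with e3 | e3 | e3 | e3 | e3
        · -- edge 34 type E
          obtain ⟨e3a, e3b⟩ := e3
          rcases S.edge_cases (p := 2) (q := 5) (by decide) hp25 with e4 | e4 | e4 | e4 | e4
          · -- edge 25 type E
            obtain ⟨e4a, e4b⟩ := e4
            exfalso
            have t := S.Q6 1 2 2 1 0 1 (by norm_num)
            linarith
          · -- edge 25 type U2
            obtain ⟨e4a, e4b⟩ := e4
            exfalso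
            have t := S.Q6 1 2 2 0 0 1 (by norm_num)
            linarith
          · -- edge 25 type D2
            obtain ⟨e4a, e4b⟩ := e4
            exfalso
            have t := S.Q6 1 2 2 0 0 2 (by norm_num)
            linarith
          · -- edge 25 type U3
            obtain ⟨e4a, e4b⟩ := e4
            exfalso
            have t := S.Q6 0 1 2 0 0 1 (by norm_num)
            linarith
          · -- edge 25 type D3
            obtain ⟨e4a, e4b⟩ := e4
            exfalso
            have t := S.Q6 0 1 2 0 0 3 (by norm_num)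
            linarith
        · -- edge 34 type U2
          obtain ⟨e3a, e3b⟩ := e3
          exfalso
          have t := S.Q6 1 2 2 2 1 0 (by norm_num)
          linarith
        · -- edge 34 type D2
          obtain ⟨e3a, e3b⟩ := e3
          exfalso
          have t := S.Q6 1 2 2 2 2 0 (by norm_num)
          linarith
        · -- edge 34 type U3
          obtain ⟨e3a, e3b⟩ := e3
          exfalso
          have t := S.Q6 0 0 1 2 1 0 (by norm_num)
          linarith
        · -- edge 34 type D3
          obtain ⟨e3a, e3b⟩ := e3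
          exfalso
          have t := S.Q6 0 0 1 2 3 0 (by norm_num)
          linarith
      · -- edge 23 type U2
        obtain ⟨e2a, e2b⟩ := e2
        exfalso
        have t := S.Q6 1 2 2 1 0 0 (by norm_num)
        linarith
      · -- edge 23 type D2
        obtain ⟨e2a, e2b⟩ := e2
        exfalso
        have t := S.Q6 1 2 2 2 0 0 (by norm_num)
        linarith
      · -- edge 23 type U3
        obtain ⟨e2a, e2b⟩ := e2
        exfalso
        have t := S.Q6 0 1 2 1 0 0 (by norm_num)
        linarith
      · -- edge 23 type D3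
        obtain ⟨e2a, e2b⟩ := e2
        exfalso
        have t := S.Q6 0 1 2 3 0 0 (by norm_num)
        linarith
    · -- edge 12 type U2
      obtain ⟨e1a, e1b⟩ := e1
      exfalso
      have t := S.Q6 1 2 1 0 0 0 (by norm_num)
      linarith
    · -- edge 12 type D2
      obtain ⟨e1a, e1b⟩ := e1
      exfalso
      have t := S.Q6 1 2 2 0 0 0 (by norm_num)
      linarith
    · -- edge 12 type U3
      obtain ⟨e1a, e1b⟩ := e1
      exfalso
      have t := S.Q6 1 2 1 0 0 0 (by norm_num)
      linarith
    · -- edge 12 type D3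
      obtain ⟨e1a, e1b⟩ := e1
      exfalso
      have t := S.Q6 1 2 2 0 0 0 (by norm_num)
      linarith
  · -- edge 01 type U3
    obtain ⟨e0a, e0b⟩ := e0
    rcases S.edge_cases (p := 1) (q := 2) (by decide) hp12 with e1 | e1 | e1 | e1 | e1
    · -- edge 12 type E
      obtain ⟨e1a, e1b⟩ := e1
      exfalso
      have t := S.Q6 3 2 1 0 0 0 (by norm_num)
      linarith
    · -- edge 12 type U2
      obtain ⟨e1a, e1b⟩ := e1
      exfalso
      have t := S.Q6 2 2 1 0 0 0 (by norm_num)
      linarith
    · -- edge 12 type D2
      obtain ⟨e1a, e1b⟩ := e1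
      exfalso
      have t := S.Q6 1 1 1 0 0 0 (by norm_num)
      linarith
    · -- edge 12 type U3
      obtain ⟨e1a, e1b⟩ := e1
      exfalso
      have t := S.Q6 1 2 1 0 0 0 (by norm_num)
      linarith
    · -- edge 12 type D3
      obtain ⟨e1a, e1b⟩ := e1
      exfalso
      have t := S.Q6 1 1 1 0 0 0 (by norm_num)
      linarith
  · -- edge 01 type D3
    obtain ⟨e0a, e0b⟩ := e0
    rcases S.edge_cases (p := 1) (q := 2) (by decide) hp12 with e1 | e1 | e1 | e1 | e1
    · -- edge 12 type E
      obtain ⟨e1a, e1b⟩ := e1
      exfalso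
      have t := S.Q6 1 2 1 0 0 0 (by norm_num)
      linarith
    · -- edge 12 type U2
      obtain ⟨e1a, e1b⟩ := e1
      exfalso
      have t := S.Q6 1 2 1 0 0 0 (by norm_num)
      linarith
    · -- edge 12 type D2
      obtain ⟨e1a, e1b⟩ := e1
      exfalso
      have t := S.Q6 1 2 1 0 0 0 (by norm_num)
      linarith
    · -- edge 12 type U3
      obtain ⟨e1a, e1b⟩ := e1
      exfalso
      have t := S.Q6 1 2 1 0 0 0 (by norm_num)
      linarith
    · -- edge 12 type D3
      obtain ⟨e1a, e1b⟩ := e1
      exfalso
      have t := S.Q6 1 2 1 0 0 0 (by norm_num)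
      linarith


theorem Sub.E7 (S : Sub 7) (h01 : S.A 0 1 ≠ 0) (h12 : S.A 1 2 ≠ 0) (h23 : S.A 2 3 ≠ 0) (h34 : S.A 3 4 ≠ 0) (h45 : S.A 4 5 ≠ 0) (h36 : S.A 3 6 ≠ 0) :
    (S.A 0 2 = 0 ∧ S.A 0 3 = 0 ∧ S.A 0 4 = 0 ∧ S.A 0 5 = 0 ∧ S.A 0 6 = 0 ∧ S.A 1 3 = 0 ∧ S.A 1 4 = 0 ∧ S.A 1 5 = 0 ∧ S.A 1 6 = 0 ∧ S.A 2 4 = 0 ∧ S.A 2 5 = 0 ∧ S.A 2 6 = 0 ∧ S.A 3 5 = 0 ∧ S.A 4 6 = 0 ∧ S.A 5 6 = 0) ∧
      ((S.W 1 = S.W 0 ∧ S.A 0 1 = S.W 0 ∧ S.W 2 = S.W 1 ∧ S.A 1 2 = S.W 1 ∧ S.W 3 = S.W 2 ∧ S.A 2 3 = S.W 2 ∧ S.W 4 = S.W 3 ∧ S.A 3 4 = S.W 3 ∧ S.W 5 = S.W 4 ∧ S.A 4 5 = S.W 4 ∧ S.W 6 = S.W 3 ∧ S.A 3 6 = S.W 3)) := by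
  have hW0 := S.hW 0
  have hW1 := S.hW 1
  have hW2 := S.hW 2
  have hW3 := S.hW 3
  have hW4 := S.hW 4
  have hW5 := S.hW 5
  have hW6 := S.hW 6
  have hp01 : 0 < S.A 0 1 := S.pos_of_ne (by decide) h01
  have gl01 := S.ge_left hp01
  have gr01 := S.ge_right hp01
  have hp12 : 0 < S.A 1 2 := S.pos_of_ne (by decide) h12
  have gl12 := S.ge_left hp12
  have gr12 := S.ge_right hp12
  have hp23 : 0 < S.A 2 3 := S.pos_of_ne (by decide) h23
  have gl23 := S.ge_left hp23
  have gr23 := S.ge_right hp23
  have hp34 : 0 < S.A 3 4 := S.pos_of_ne (by decide) h34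
  have gl34 := S.ge_left hp34
  have gr34 := S.ge_right hp34
  have hp45 : 0 < S.A 4 5 := S.pos_of_ne (by decide) h45
  have gl45 := S.ge_left hp45
  have gr45 := S.ge_right hp45
  have hp36 : 0 < S.A 3 6 := S.pos_of_ne (by decide) h36
  have gl36 := S.ge_left hp36
  have gr36 := S.ge_right hp36
  have nn02 := S.hnn 0 2 (by decide)
  have nn03 := S.hnn 0 3 (by decide)
  have nn04 := S.hnn 0 4 (by decide)
  have nn05 := S.hnn 0 5 (by decide)
  have nn06 := S.hnn 0 6 (by decide)
  have nn13 := S.hnn 1 3 (by decide)
  have nn14 := S.hnn 1 4 (by decide)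
  have nn15 := S.hnn 1 5 (by decide)
  have nn16 := S.hnn 1 6 (by decide)
  have nn24 := S.hnn 2 4 (by decide)
  have nn25 := S.hnn 2 5 (by decide)
  have nn26 := S.hnn 2 6 (by decide)
  have nn35 := S.hnn 3 5 (by decide)
  have nn46 := S.hnn 4 6 (by decide)
  have nn56 := S.hnn 5 6 (by decide)
  have z02 : S.A 0 2 = 0 := by
    by_contra hne
    have pp := S.pos_of_ne (by decide) hne
    have g1 := S.ge_left pp
    have g2 := S.ge_right pp
    have t := S.Q7 1 1 1 0 0 0 0 (by norm_num)
    linarith
  have z03 : S.A 0 3 = 0 := by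
    by_contra hne
    have pp := S.pos_of_ne (by decide) hne
    have g1 := S.ge_left pp
    have g2 := S.ge_right pp
    have t := S.Q7 1 1 1 1 0 0 0 (by norm_num)
    linarith
  have z04 : S.A 0 4 = 0 := by
    by_contra hne
    have pp := S.pos_of_ne (by decide) hne
    have g1 := S.ge_left pp
    have g2 := S.ge_right pp
    have t := S.Q7 1 1 1 1 1 0 0 (by norm_num)
    linarith
  have z05 : S.A 0 5 = 0 := by
    by_contra hne
    have pp := S.pos_of_ne (by decide) hne
    have g1 := S.ge_left pp
    have g2 := S.ge_right pp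
    have t := S.Q7 1 1 1 1 1 1 0 (by norm_num)
    linarith
  have z06 : S.A 0 6 = 0 := by
    by_contra hne
    have pp := S.pos_of_ne (by decide) hne
    have g1 := S.ge_left pp
    have g2 := S.ge_right pp
    have t := S.Q7 1 1 1 1 0 0 1 (by norm_num)
    linarith
  have z13 : S.A 1 3 = 0 := by
    by_contra hne
    have pp := S.pos_of_ne (by decide) hne
    have g1 := S.ge_left pp
    have g2 := S.ge_right pp
    have t := S.Q7 0 1 1 1 0 0 0 (by norm_num)
    linarith
  have z14 : S.A 1 4 = 0 := by
    by_contra hne
    have pp := S.pos_of_ne (by decide) hne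
    have g1 := S.ge_left pp
    have g2 := S.ge_right pp
    have t := S.Q7 0 1 1 1 1 0 0 (by norm_num)
    linarith
  have z15 : S.A 1 5 = 0 := by
    by_contra hne
    have pp := S.pos_of_ne (by decide) hne
    have g1 := S.ge_left pp
    have g2 := S.ge_right pp
    have t := S.Q7 0 1 1 1 1 1 0 (by norm_num)
    linarith
  have z16 : S.A 1 6 = 0 := by
    by_contra hne
    have pp := S.pos_of_ne (by decide) hne
    have g1 := S.ge_left pp
    have g2 := S.ge_right pp
    have t := S.Q7 0 1 1 1 0 0 1 (by norm_num)
    linarith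
  have z24 : S.A 2 4 = 0 := by
    by_contra hne
    have pp := S.pos_of_ne (by decide) hne
    have g1 := S.ge_left pp
    have g2 := S.ge_right pp
    have t := S.Q7 0 0 1 1 1 0 0 (by norm_num)
    linarith
  have z25 : S.A 2 5 = 0 := by
    by_contra hne
    have pp := S.pos_of_ne (by decide) hne
    have g1 := S.ge_left pp
    have g2 := S.ge_right pp
    have t := S.Q7 0 0 1 1 1 1 0 (by norm_num)
    linarith
  have z26 : S.A 2 6 = 0 := by
    by_contra hne
    have pp := S.pos_of_ne (by decide) hne
    have g1 := S.ge_left pp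
    have g2 := S.ge_right pp
    have t := S.Q7 0 0 1 1 0 0 1 (by norm_num)
    linarith
  have z35 : S.A 3 5 = 0 := by
    by_contra hne
    have pp := S.pos_of_ne (by decide) hne
    have g1 := S.ge_left pp
    have g2 := S.ge_right pp
    have t := S.Q7 0 0 0 1 1 1 0 (by norm_num)
    linarith
  have z46 : S.A 4 6 = 0 := by
    by_contra hne
    have pp := S.pos_of_ne (by decide) hne
    have g1 := S.ge_left pp
    have g2 := S.ge_right pp
    have t := S.Q7 0 0 0 1 1 0 1 (by norm_num)
    linarith
  have z56 : S.A 5 6 = 0 := by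
    by_contra hne
    have pp := S.pos_of_ne (by decide) hne
    have g1 := S.ge_left pp
    have g2 := S.ge_right pp
    have t := S.Q7 0 0 0 1 1 1 1 (by norm_num)
    linarith
  refine ⟨⟨z02, z03, z04, z05, z06, z13, z14, z15, z16, z24, z25, z26, z35, z46, z56⟩, ?_⟩
  rcases S.edge_cases (p := 0) (q := 1) (by decide) hp01 with e0 | e0 | e0 | e0 | e0
  · -- edge 01 type E
    obtain ⟨e0a, e0b⟩ := e0
    rcases S.edge_cases (p := 1) (q := 2) (by decide) hp12 with e1 | e1 | e1 | e1 | e1
    · -- edge 12 type E
      obtain ⟨e1a, e1b⟩ := e1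
      rcases S.edge_cases (p := 2) (q := 3) (by decide) hp23 with e2 | e2 | e2 | e2 | e2
      · -- edge 23 type E
        obtain ⟨e2a, e2b⟩ := e2
        rcases S.edge_cases (p := 3) (q := 4) (by decide) hp34 with e3 | e3 | e3 | e3 | e3
        · -- edge 34 type E
          obtain ⟨e3a, e3b⟩ := e3
          rcases S.edge_cases (p := 4) (q := 5) (by decide) hp45 with e4 | e4 | e4 | e4 | e4
          · -- edge 45 type E
            obtain ⟨e4a, e4b⟩ := e4
            rcases S.edge_cases (p := 3) (q := 6) (by decide) hp36 with e5 | e5 | e5 | e5 | e5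
            · -- edge 36 type E
              obtain ⟨e5a, e5b⟩ := e5
              exact ⟨e0a, e0b, e1a, e1b, e2a, e2b, e3a, e3b, e4a, e4b, e5a, e5b⟩
            · -- edge 36 type U2
              obtain ⟨e5a, e5b⟩ := e5
              exfalso
              have t := S.Q7 0 0 1 2 1 0 1 (by norm_num)
              linarith
            · -- edge 36 type D2
              obtain ⟨e5a, e5b⟩ := e5
              exfalso
              have t := S.Q7 0 0 1 2 1 0 2 (by norm_num)
              linarith
            · -- edge 36 type U3
              obtain ⟨e5a, e5b⟩ := e5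
              exfalso
              have t := S.Q7 0 0 1 2 0 0 1 (by norm_num)
              linarith
            · -- edge 36 type D3
              obtain ⟨e5a, e5b⟩ := e5
              exfalso
              have t := S.Q7 0 0 1 2 0 0 3 (by norm_num)
              linarith
          · -- edge 45 type U2
            obtain ⟨e4a, e4b⟩ := e4
            rcases S.edge_cases (p := 3) (q := 6) (by decide) hp36 with e5 | e5 | e5 | e5 | e5
            · -- edge 36 type E
              obtain ⟨e5a, e5b⟩ := e5
              exfalso
              have t := S.Q7 0 0 1 2 2 1 1 (by norm_num)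
              linarith
            · -- edge 36 type U2
              obtain ⟨e5a, e5b⟩ := e5
              exfalso
              have t := S.Q7 0 0 1 2 1 0 1 (by norm_num)
              linarith
            · -- edge 36 type D2
              obtain ⟨e5a, e5b⟩ := e5
              exfalso
              have t := S.Q7 0 0 1 2 1 0 2 (by norm_num)
              linarith
            · -- edge 36 type U3
              obtain ⟨e5a, e5b⟩ := e5
              exfalso
              have t := S.Q7 0 0 1 2 0 0 1 (by norm_num)
              linarith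
            · -- edge 36 type D3
              obtain ⟨e5a, e5b⟩ := e5
              exfalso
              have t := S.Q7 0 0 1 2 0 0 3 (by norm_num)
              linarith
          · -- edge 45 type D2
            obtain ⟨e4a, e4b⟩ := e4
            rcases S.edge_cases (p := 3) (q := 6) (by decide) hp36 with e5 | e5 | e5 | e5 | e5
            · -- edge 36 type E
              obtain ⟨e5a, e5b⟩ := e5
              exfalso
              have t := S.Q7 0 0 1 2 2 2 1 (by norm_num)
              linarith
            · -- edge 36 type U2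
              obtain ⟨e5a, e5b⟩ := e5
              exfalso
              have t := S.Q7 0 0 1 2 1 0 1 (by norm_num)
              linarith
            · -- edge 36 type D2
              obtain ⟨e5a, e5b⟩ := e5
              exfalso
              have t := S.Q7 0 0 1 2 1 0 2 (by norm_num)
              linarith
            · -- edge 36 type U3
              obtain ⟨e5a, e5b⟩ := e5
              exfalso
              have t := S.Q7 0 0 1 2 0 0 1 (by norm_num)
              linarith
            · -- edge 36 type D3
              obtain ⟨e5a, e5b⟩ := e5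
              exfalso
              have t := S.Q7 0 0 1 2 0 0 3 (by norm_num)
              linarith
          · -- edge 45 type U3
            obtain ⟨e4a, e4b⟩ := e4
            exfalso
            have t := S.Q7 0 0 0 1 2 1 0 (by norm_num)
            linarith
          · -- edge 45 type D3
            obtain ⟨e4a, e4b⟩ := e4
            exfalso
            have t := S.Q7 0 0 0 1 2 3 0 (by norm_num)
            linarith
        · -- edge 34 type U2
          obtain ⟨e3a, e3b⟩ := e3
          rcases S.edge_cases (p := 4) (q := 5) (by decide) hp45 with e4 | e4 | e4 | e4 | e4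
          · -- edge 45 type E
            obtain ⟨e4a, e4b⟩ := e4
            exfalso
            have t := S.Q7 0 1 2 3 2 1 0 (by norm_num)
            linarith
          · -- edge 45 type U2
            obtain ⟨e4a, e4b⟩ := e4
            exfalso
            have t := S.Q7 0 0 0 2 2 1 0 (by norm_num)
            linarith
          · -- edge 45 type D2
            obtain ⟨e4a, e4b⟩ := e4
            exfalso
            have t := S.Q7 0 0 0 1 1 1 0 (by norm_num)
            linarith
          · -- edge 45 type U3
            obtain ⟨e4a, e4b⟩ := e4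
            exfalso
            have t := S.Q7 0 0 0 1 2 1 0 (by norm_num)
            linarith
          · -- edge 45 type D3
            obtain ⟨e4a, e4b⟩ := e4
            exfalso
            have t := S.Q7 0 0 0 1 1 1 0 (by norm_num)
            linarith
        · -- edge 34 type D2
          obtain ⟨e3a, e3b⟩ := e3
          rcases S.edge_cases (p := 4) (q := 5) (by decide) hp45 with e4 | e4 | e4 | e4 | e4
          · -- edge 45 type E
            obtain ⟨e4a, e4b⟩ := e4
            exfalso
            have t := S.Q7 0 1 2 3 4 2 0 (by norm_num)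
            linarith
          · -- edge 45 type U2
            obtain ⟨e4a, e4b⟩ := e4
            exfalso
            have t := S.Q7 0 0 0 1 2 1 0 (by norm_num)
            linarith
          · -- edge 45 type D2
            obtain ⟨e4a, e4b⟩ := e4
            exfalso
            have t := S.Q7 0 0 0 1 2 2 0 (by norm_num)
            linarith
          · -- edge 45 type U3
            obtain ⟨e4a, e4b⟩ := e4
            exfalso
            have t := S.Q7 0 0 0 1 2 1 0 (by norm_num)
            linarith
          · -- edge 45 type D3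
            obtain ⟨e4a, e4b⟩ := e4
            exfalso
            have t := S.Q7 0 0 0 1 2 2 0 (by norm_num)
            linarith
        · -- edge 34 type U3
          obtain ⟨e3a, e3b⟩ := e3
          exfalso
          have t := S.Q7 0 0 1 2 1 0 0 (by norm_num)
          linarith
        · -- edge 34 type D3
          obtain ⟨e3a, e3b⟩ := e3
          exfalso
          have t := S.Q7 0 0 1 2 3 0 0 (by norm_num)
          linarith
      · -- edge 23 type U2
        obtain ⟨e2a, e2b⟩ := e2
        rcases S.edge_cases (p := 3) (q := 4) (by decide) hp34 with e3 | e3 | e3 | e3 | e3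
        · -- edge 34 type E
          obtain ⟨e3a, e3b⟩ := e3
          exfalso
          have t := S.Q7 1 2 3 2 1 0 0 (by norm_num)
          linarith
        · -- edge 34 type U2
          obtain ⟨e3a, e3b⟩ := e3
          exfalso
          have t := S.Q7 0 0 2 2 1 0 0 (by norm_num)
          linarith
        · -- edge 34 type D2
          obtain ⟨e3a, e3b⟩ := e3
          exfalso
          have t := S.Q7 0 0 1 1 1 0 0 (by norm_num)
          linarith
        · -- edge 34 type U3
          obtain ⟨e3a, e3b⟩ := e3
          exfalso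
          have t := S.Q7 0 0 1 2 1 0 0 (by norm_num)
          linarith
        · -- edge 34 type D3
          obtain ⟨e3a, e3b⟩ := e3
          exfalso
          have t := S.Q7 0 0 1 1 1 0 0 (by norm_num)
          linarith
      · -- edge 23 type D2
        obtain ⟨e2a, e2b⟩ := e2
        rcases S.edge_cases (p := 3) (q := 4) (by decide) hp34 with e3 | e3 | e3 | e3 | e3
        · -- edge 34 type E
          obtain ⟨e3a, e3b⟩ := e3
          exfalso
          have t := S.Q7 1 2 3 4 2 0 0 (by norm_num)
          linarith
        · -- edge 34 type U2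
          obtain ⟨e3a, e3b⟩ := e3
          exfalso
          have t := S.Q7 0 0 1 2 1 0 0 (by norm_num)
          linarith
        · -- edge 34 type D2
          obtain ⟨e3a, e3b⟩ := e3
          exfalso
          have t := S.Q7 0 0 1 2 2 0 0 (by norm_num)
          linarith
        · -- edge 34 type U3
          obtain ⟨e3a, e3b⟩ := e3
          exfalso
          have t := S.Q7 0 0 1 2 1 0 0 (by norm_num)
          linarith
        · -- edge 34 type D3
          obtain ⟨e3a, e3b⟩ := e3
          exfalso
          have t := S.Q7 0 0 1 2 2 0 0 (by norm_num)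
          linarith
      · -- edge 23 type U3
        obtain ⟨e2a, e2b⟩ := e2
        exfalso
        have t := S.Q7 0 1 2 1 0 0 0 (by norm_num)
        linarith
      · -- edge 23 type D3
        obtain ⟨e2a, e2b⟩ := e2
        exfalso
        have t := S.Q7 0 1 2 3 0 0 0 (by norm_num)
        linarith
    · -- edge 12 type U2
      obtain ⟨e1a, e1b⟩ := e1
      rcases S.edge_cases (p := 2) (q := 3) (by decide) hp23 with e2 | e2 | e2 | e2 | e2
      · -- edge 23 type E
        obtain ⟨e2a, e2b⟩ := e2
        rcases S.edge_cases (p := 3) (q := 4) (by decide) hp34 with e3 | e3 | e3 | e3 | e3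
        · -- edge 34 type E
          obtain ⟨e3a, e3b⟩ := e3
          exfalso
          have t := S.Q7 2 4 3 2 1 0 0 (by norm_num)
          linarith
        · -- edge 34 type U2
          obtain ⟨e3a, e3b⟩ := e3
          exfalso
          have t := S.Q7 0 2 2 2 1 0 0 (by norm_num)
          linarith
        · -- edge 34 type D2
          obtain ⟨e3a, e3b⟩ := e3
          exfalso
          have t := S.Q7 0 1 1 1 1 0 0 (by norm_num)
          linarith
        · -- edge 34 type U3
          obtain ⟨e3a, e3b⟩ := e3
          exfalso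
          have t := S.Q7 0 0 1 2 1 0 0 (by norm_num)
          linarith
        · -- edge 34 type D3
          obtain ⟨e3a, e3b⟩ := e3
          exfalso
          have t := S.Q7 0 0 1 2 3 0 0 (by norm_num)
          linarith
      · -- edge 23 type U2
        obtain ⟨e2a, e2b⟩ := e2
        exfalso
        have t := S.Q7 0 2 2 1 0 0 0 (by norm_num)
        linarith
      · -- edge 23 type D2
        obtain ⟨e2a, e2b⟩ := e2
        exfalso
        have t := S.Q7 0 1 1 1 0 0 0 (by norm_num)
        linarith
      · -- edge 23 type U3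
        obtain ⟨e2a, e2b⟩ := e2
        exfalso
        have t := S.Q7 0 1 2 1 0 0 0 (by norm_num)
        linarith
      · -- edge 23 type D3
        obtain ⟨e2a, e2b⟩ := e2
        exfalso
        have t := S.Q7 0 1 1 1 0 0 0 (by norm_num)
        linarith
    · -- edge 12 type D2
      obtain ⟨e1a, e1b⟩ := e1
      rcases S.edge_cases (p := 2) (q := 3) (by decide) hp23 with e2 | e2 | e2 | e2 | e2
      · -- edge 23 type E
        obtain ⟨e2a, e2b⟩ := e2
        rcases S.edge_cases (p := 3) (q := 4) (by decide) hp34 with e3 | e3 | e3 | e3 | e3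
        · -- edge 34 type E
          obtain ⟨e3a, e3b⟩ := e3
          exfalso
          have t := S.Q7 1 2 3 2 1 0 0 (by norm_num)
          linarith
        · -- edge 34 type U2
          obtain ⟨e3a, e3b⟩ := e3
          exfalso
          have t := S.Q7 0 1 2 2 1 0 0 (by norm_num)
          linarith
        · -- edge 34 type D2
          obtain ⟨e3a, e3b⟩ := e3
          exfalso
          have t := S.Q7 0 1 2 2 2 0 0 (by norm_num)
          linarith
        · -- edge 34 type U3
          obtain ⟨e3a, e3b⟩ := e3
          exfalso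
          have t := S.Q7 0 0 1 2 1 0 0 (by norm_num)
          linarith
        · -- edge 34 type D3
          obtain ⟨e3a, e3b⟩ := e3
          exfalso
          have t := S.Q7 0 0 1 2 3 0 0 (by norm_num)
          linarith
      · -- edge 23 type U2
        obtain ⟨e2a, e2b⟩ := e2
        exfalso
        have t := S.Q7 0 1 2 1 0 0 0 (by norm_num)
        linarith
      · -- edge 23 type D2
        obtain ⟨e2a, e2b⟩ := e2
        exfalso
        have t := S.Q7 0 1 2 2 0 0 0 (by norm_num)
        linarith
      · -- edge 23 type U3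
        obtain ⟨e2a, e2b⟩ := e2
        exfalso
        have t := S.Q7 0 1 2 1 0 0 0 (by norm_num)
        linarith
      · -- edge 23 type D3
        obtain ⟨e2a, e2b⟩ := e2
        exfalso
        have t := S.Q7 0 1 2 2 0 0 0 (by norm_num)
        linarith
    · -- edge 12 type U3
      obtain ⟨e1a, e1b⟩ := e1
      exfalso
      have t := S.Q7 1 2 1 0 0 0 0 (by norm_num)
      linarith
    · -- edge 12 type D3
      obtain ⟨e1a, e1b⟩ := e1
      exfalso
      have t := S.Q7 1 2 3 0 0 0 0 (by norm_num)
      linarith
  · -- edge 01 type U2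
    obtain ⟨e0a, e0b⟩ := e0
    rcases S.edge_cases (p := 1) (q := 2) (by decide) hp12 with e1 | e1 | e1 | e1 | e1
    · -- edge 12 type E
      obtain ⟨e1a, e1b⟩ := e1
      rcases S.edge_cases (p := 2) (q := 3) (by decide) hp23 with e2 | e2 | e2 | e2 | e2
      · -- edge 23 type E
        obtain ⟨e2a, e2b⟩ := e2
        rcases S.edge_cases (p := 3) (q := 4) (by decide) hp34 with e3 | e3 | e3 | e3 | e3
        · -- edge 34 type E
          obtain ⟨e3a, e3b⟩ := e3
          rcases S.edge_cases (p := 4) (q := 5) (by decide) hp45 with e4 | e4 | e4 | e4 | e4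
          · -- edge 45 type E
            obtain ⟨e4a, e4b⟩ := e4
            rcases S.edge_cases (p := 3) (q := 6) (by decide) hp36 with e5 | e5 | e5 | e5 | e5
            · -- edge 36 type E
              obtain ⟨e5a, e5b⟩ := e5
              exfalso
              have t := S.Q7 2 2 2 2 1 0 1 (by norm_num)
              linarith
            · -- edge 36 type U2
              obtain ⟨e5a, e5b⟩ := e5
              exfalso
              have t := S.Q7 0 0 1 2 1 0 1 (by norm_num)
              linarith
            · -- edge 36 type D2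
              obtain ⟨e5a, e5b⟩ := e5
              exfalso
              have t := S.Q7 0 0 1 2 1 0 2 (by norm_num)
              linarith
            · -- edge 36 type U3
              obtain ⟨e5a, e5b⟩ := e5
              exfalso
              have t := S.Q7 0 0 1 2 0 0 1 (by norm_num)
              linarith
            · -- edge 36 type D3
              obtain ⟨e5a, e5b⟩ := e5
              exfalso
              have t := S.Q7 0 0 1 2 0 0 3 (by norm_num)
              linarith
          · -- edge 45 type U2
            obtain ⟨e4a, e4b⟩ := e4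
            exfalso
            have t := S.Q7 2 2 2 2 2 1 0 (by norm_num)
            linarith
          · -- edge 45 type D2
            obtain ⟨e4a, e4b⟩ := e4
            exfalso
            have t := S.Q7 1 1 1 1 1 1 0 (by norm_num)
            linarith
          · -- edge 45 type U3
            obtain ⟨e4a, e4b⟩ := e4
            exfalso
            have t := S.Q7 0 0 0 1 2 1 0 (by norm_num)
            linarith
          · -- edge 45 type D3
            obtain ⟨e4a, e4b⟩ := e4
            exfalso
            have t := S.Q7 0 0 0 1 2 3 0 (by norm_num)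
            linarith
        · -- edge 34 type U2
          obtain ⟨e3a, e3b⟩ := e3
          exfalso
          have t := S.Q7 2 2 2 2 1 0 0 (by norm_num)
          linarith
        · -- edge 34 type D2
          obtain ⟨e3a, e3b⟩ := e3
          exfalso
          have t := S.Q7 1 1 1 1 1 0 0 (by norm_num)
          linarith
        · -- edge 34 type U3
          obtain ⟨e3a, e3b⟩ := e3
          exfalso
          have t := S.Q7 0 0 1 2 1 0 0 (by norm_num)
          linarith
        · -- edge 34 type D3
          obtain ⟨e3a, e3b⟩ := e3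
          exfalso
          have t := S.Q7 0 0 1 2 3 0 0 (by norm_num)
          linarith
      · -- edge 23 type U2
        obtain ⟨e2a, e2b⟩ := e2
        exfalso
        have t := S.Q7 2 2 2 1 0 0 0 (by norm_num)
        linarith
      · -- edge 23 type D2
        obtain ⟨e2a, e2b⟩ := e2
        exfalso
        have t := S.Q7 1 1 1 1 0 0 0 (by norm_num)
        linarith
      · -- edge 23 type U3
        obtain ⟨e2a, e2b⟩ := e2
        exfalso
        have t := S.Q7 0 1 2 1 0 0 0 (by norm_num)
        linarith
      · -- edge 23 type D3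
        obtain ⟨e2a, e2b⟩ := e2
        exfalso
        have t := S.Q7 0 1 2 3 0 0 0 (by norm_num)
        linarith
    · -- edge 12 type U2
      obtain ⟨e1a, e1b⟩ := e1
      exfalso
      have t := S.Q7 2 2 1 0 0 0 0 (by norm_num)
      linarith
    · -- edge 12 type D2
      obtain ⟨e1a, e1b⟩ := e1
      exfalso
      have t := S.Q7 1 1 1 0 0 0 0 (by norm_num)
      linarith
    · -- edge 12 type U3
      obtain ⟨e1a, e1b⟩ := e1
      exfalso
      have t := S.Q7 1 2 1 0 0 0 0 (by norm_num)
      linarith
    · -- edge 12 type D3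
      obtain ⟨e1a, e1b⟩ := e1
      exfalso
      have t := S.Q7 1 1 1 0 0 0 0 (by norm_num)
      linarith
  · -- edge 01 type D2
    obtain ⟨e0a, e0b⟩ := e0
    rcases S.edge_cases (p := 1) (q := 2) (by decide) hp12 with e1 | e1 | e1 | e1 | e1
    · -- edge 12 type E
      obtain ⟨e1a, e1b⟩ := e1
      rcases S.edge_cases (p := 2) (q := 3) (by decide) hp23 with e2 | e2 | e2 | e2 | e2
      · -- edge 23 type E
        obtain ⟨e2a, e2b⟩ := e2
        rcases S.edge_cases (p := 3) (q := 4) (by decide) hp34 with e3 | e3 | e3 | e3 | e3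
        · -- edge 34 type E
          obtain ⟨e3a, e3b⟩ := e3
          rcases S.edge_cases (p := 4) (q := 5) (by decide) hp45 with e4 | e4 | e4 | e4 | e4
          · -- edge 45 type E
            obtain ⟨e4a, e4b⟩ := e4
            rcases S.edge_cases (p := 3) (q := 6) (by decide) hp36 with e5 | e5 | e5 | e5 | e5
            · -- edge 36 type E
              obtain ⟨e5a, e5b⟩ := e5
              exfalso
              have t := S.Q7 1 2 2 2 1 0 1 (by norm_num)
              linarith
            · -- edge 36 type U2
              obtain ⟨e5a, e5b⟩ := e5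
              exfalso
              have t := S.Q7 0 0 1 2 1 0 1 (by norm_num)
              linarith
            · -- edge 36 type D2
              obtain ⟨e5a, e5b⟩ := e5
              exfalso
              have t := S.Q7 0 0 1 2 1 0 2 (by norm_num)
              linarith
            · -- edge 36 type U3
              obtain ⟨e5a, e5b⟩ := e5
              exfalso
              have t := S.Q7 0 0 1 2 0 0 1 (by norm_num)
              linarith
            · -- edge 36 type D3
              obtain ⟨e5a, e5b⟩ := e5
              exfalso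
              have t := S.Q7 0 0 1 2 0 0 3 (by norm_num)
              linarith
          · -- edge 45 type U2
            obtain ⟨e4a, e4b⟩ := e4
            exfalso
            have t := S.Q7 1 2 2 2 2 1 0 (by norm_num)
            linarith
          · -- edge 45 type D2
            obtain ⟨e4a, e4b⟩ := e4
            exfalso
            have t := S.Q7 1 2 2 2 2 2 0 (by norm_num)
            linarith
          · -- edge 45 type U3
            obtain ⟨e4a, e4b⟩ := e4
            exfalso
            have t := S.Q7 0 0 0 1 2 1 0 (by norm_num)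
            linarith
          · -- edge 45 type D3
            obtain ⟨e4a, e4b⟩ := e4
            exfalso
            have t := S.Q7 0 0 0 1 2 3 0 (by norm_num)
            linarith
        · -- edge 34 type U2
          obtain ⟨e3a, e3b⟩ := e3
          exfalso
          have t := S.Q7 1 2 2 2 1 0 0 (by norm_num)
          linarith
        · -- edge 34 type D2
          obtain ⟨e3a, e3b⟩ := e3
          exfalso
          have t := S.Q7 1 2 2 2 2 0 0 (by norm_num)
          linarith
        · -- edge 34 type U3
          obtain ⟨e3a, e3b⟩ := e3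
          exfalso
          have t := S.Q7 0 0 1 2 1 0 0 (by norm_num)
          linarith
        · -- edge 34 type D3
          obtain ⟨e3a, e3b⟩ := e3
          exfalso
          have t := S.Q7 0 0 1 2 3 0 0 (by norm_num)
          linarith
      · -- edge 23 type U2
        obtain ⟨e2a, e2b⟩ := e2
        exfalso
        have t := S.Q7 1 2 2 1 0 0 0 (by norm_num)
        linarith
      · -- edge 23 type D2
        obtain ⟨e2a, e2b⟩ := e2
        exfalso
        have t := S.Q7 1 2 2 2 0 0 0 (by norm_num)
        linarith
      · -- edge 23 type U3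
        obtain ⟨e2a, e2b⟩ := e2
        exfalso
        have t := S.Q7 0 1 2 1 0 0 0 (by norm_num)
        linarith
      · -- edge 23 type D3
        obtain ⟨e2a, e2b⟩ := e2
        exfalso
        have t := S.Q7 0 1 2 3 0 0 0 (by norm_num)
        linarith
    · -- edge 12 type U2
      obtain ⟨e1a, e1b⟩ := e1
      exfalso
      have t := S.Q7 1 2 1 0 0 0 0 (by norm_num)
      linarith
    · -- edge 12 type D2
      obtain ⟨e1a, e1b⟩ := e1
      exfalso
      have t := S.Q7 1 2 2 0 0 0 0 (by norm_num)
      linarith
    · -- edge 12 type U3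
      obtain ⟨e1a, e1b⟩ := e1
      exfalso
      have t := S.Q7 1 2 1 0 0 0 0 (by norm_num)
      linarith
    · -- edge 12 type D3
      obtain ⟨e1a, e1b⟩ := e1
      exfalso
      have t := S.Q7 1 2 2 0 0 0 0 (by norm_num)
      linarith
  · -- edge 01 type U3
    obtain ⟨e0a, e0b⟩ := e0
    rcases S.edge_cases (p := 1) (q := 2) (by decide) hp12 with e1 | e1 | e1 | e1 | e1
    · -- edge 12 type E
      obtain ⟨e1a, e1b⟩ := e1
      exfalso
      have t := S.Q7 3 2 1 0 0 0 0 (by norm_num)
      linarith
    · -- edge 12 type U2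
      obtain ⟨e1a, e1b⟩ := e1
      exfalso
      have t := S.Q7 2 2 1 0 0 0 0 (by norm_num)
      linarith
    · -- edge 12 type D2
      obtain ⟨e1a, e1b⟩ := e1
      exfalso
      have t := S.Q7 1 1 1 0 0 0 0 (by norm_num)
      linarith
    · -- edge 12 type U3
      obtain ⟨e1a, e1b⟩ := e1
      exfalso
      have t := S.Q7 1 2 1 0 0 0 0 (by norm_num)
      linarith
    · -- edge 12 type D3
      obtain ⟨e1a, e1b⟩ := e1
      exfalso
      have t := S.Q7 1 1 1 0 0 0 0 (by norm_num)
      linarith
  · -- edge 01 type D3
    obtain ⟨e0a, e0b⟩ := e0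
    rcases S.edge_cases (p := 1) (q := 2) (by decide) hp12 with e1 | e1 | e1 | e1 | e1
    · -- edge 12 type E
      obtain ⟨e1a, e1b⟩ := e1
      exfalso
      have t := S.Q7 1 2 1 0 0 0 0 (by norm_num)
      linarith
    · -- edge 12 type U2
      obtain ⟨e1a, e1b⟩ := e1
      exfalso
      have t := S.Q7 1 2 1 0 0 0 0 (by norm_num)
      linarith
    · -- edge 12 type D2
      obtain ⟨e1a, e1b⟩ := e1
      exfalso
      have t := S.Q7 1 2 1 0 0 0 0 (by norm_num)
      linarith
    · -- edge 12 type U3
      obtain ⟨e1a, e1b⟩ := e1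
      exfalso
      have t := S.Q7 1 2 1 0 0 0 0 (by norm_num)
      linarith
    · -- edge 12 type D3
      obtain ⟨e1a, e1b⟩ := e1
      exfalso
      have t := S.Q7 1 2 1 0 0 0 0 (by norm_num)
      linarith


theorem Sub.E8 (S : Sub 8) (h01 : S.A 0 1 ≠ 0) (h12 : S.A 1 2 ≠ 0) (h23 : S.A 2 3 ≠ 0) (h34 : S.A 3 4 ≠ 0) (h45 : S.A 4 5 ≠ 0) (h56 : S.A 5 6 ≠ 0) (h47 : S.A 4 7 ≠ 0) :
    (S.A 0 2 = 0 ∧ S.A 0 3 = 0 ∧ S.A 0 4 = 0 ∧ S.A 0 5 = 0 ∧ S.A 0 6 = 0 ∧ S.A 0 7 = 0 ∧ S.A 1 3 = 0 ∧ S.A 1 4 = 0 ∧ S.A 1 5 = 0 ∧ S.A 1 6 = 0 ∧ S.A 1 7 = 0 ∧ S.A 2 4 = 0 ∧ S.A 2 5 = 0 ∧ S.A 2 6 = 0 ∧ S.A 2 7 = 0 ∧ S.A 3 5 = 0 ∧ S.A 3 6 = 0 ∧ S.A 3 7 = 0 ∧ S.A 4 6 = 0 ∧ S.A 5 7 = 0 ∧ S.A 6 7 = 0) ∧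
      ((S.W 1 = S.W 0 ∧ S.A 0 1 = S.W 0 ∧ S.W 2 = S.W 1 ∧ S.A 1 2 = S.W 1 ∧ S.W 3 = S.W 2 ∧ S.A 2 3 = S.W 2 ∧ S.W 4 = S.W 3 ∧ S.A 3 4 = S.W 3 ∧ S.W 5 = S.W 4 ∧ S.A 4 5 = S.W 4 ∧ S.W 6 = S.W 5 ∧ S.A 5 6 = S.W 5 ∧ S.W 7 = S.W 4 ∧ S.A 4 7 = S.W 4)) := by
  have hW0 := S.hW 0
  have hW1 := S.hW 1
  have hW2 := S.hW 2
  have hW3 := S.hW 3
  have hW4 := S.hW 4
  have hW5 := S.hW 5
  have hW6 := S.hW 6
  have hW7 := S.hW 7
  have hp01 : 0 < S.A 0 1 := S.pos_of_ne (by decide) h01
  have gl01 := S.ge_left hp01
  have gr01 := S.ge_right hp01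
  have hp12 : 0 < S.A 1 2 := S.pos_of_ne (by decide) h12
  have gl12 := S.ge_left hp12
  have gr12 := S.ge_right hp12
  have hp23 : 0 < S.A 2 3 := S.pos_of_ne (by decide) h23
  have gl23 := S.ge_left hp23
  have gr23 := S.ge_right hp23
  have hp34 : 0 < S.A 3 4 := S.pos_of_ne (by decide) h34
  have gl34 := S.ge_left hp34
  have gr34 := S.ge_right hp34
  have hp45 : 0 < S.A 4 5 := S.pos_of_ne (by decide) h45
  have gl45 := S.ge_left hp45
  have gr45 := S.ge_right hp45
  have hp56 : 0 < S.A 5 6 := S.pos_of_ne (by decide) h56
  have gl56 := S.ge_left hp56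
  have gr56 := S.ge_right hp56
  have hp47 : 0 < S.A 4 7 := S.pos_of_ne (by decide) h47
  have gl47 := S.ge_left hp47
  have gr47 := S.ge_right hp47
  have nn02 := S.hnn 0 2 (by decide)
  have nn03 := S.hnn 0 3 (by decide)
  have nn04 := S.hnn 0 4 (by decide)
  have nn05 := S.hnn 0 5 (by decide)
  have nn06 := S.hnn 0 6 (by decide)
  have nn07 := S.hnn 0 7 (by decide)
  have nn13 := S.hnn 1 3 (by decide)
  have nn14 := S.hnn 1 4 (by decide)
  have nn15 := S.hnn 1 5 (by decide)
  have nn16 := S.hnn 1 6 (by decide)
  have nn17 := S.hnn 1 7 (by decide)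
  have nn24 := S.hnn 2 4 (by decide)
  have nn25 := S.hnn 2 5 (by decide)
  have nn26 := S.hnn 2 6 (by decide)
  have nn27 := S.hnn 2 7 (by decide)
  have nn35 := S.hnn 3 5 (by decide)
  have nn36 := S.hnn 3 6 (by decide)
  have nn37 := S.hnn 3 7 (by decide)
  have nn46 := S.hnn 4 6 (by decide)
  have nn57 := S.hnn 5 7 (by decide)
  have nn67 := S.hnn 6 7 (by decide)
  have z02 : S.A 0 2 = 0 := by
    by_contra hne
    have pp := S.pos_of_ne (by decide) hne
    have g1 := S.ge_left pp
    have g2 := S.ge_right pp
    have t := S.Q8 1 1 1 0 0 0 0 0 (by norm_num)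
    linarith
  have z03 : S.A 0 3 = 0 := by
    by_contra hne
    have pp := S.pos_of_ne (by decide) hne
    have g1 := S.ge_left pp
    have g2 := S.ge_right pp
    have t := S.Q8 1 1 1 1 0 0 0 0 (by norm_num)
    linarith
  have z04 : S.A 0 4 = 0 := by
    by_contra hne
    have pp := S.pos_of_ne (by decide) hne
    have g1 := S.ge_left pp
    have g2 := S.ge_right pp
    have t := S.Q8 1 1 1 1 1 0 0 0 (by norm_num)
    linarith
  have z05 : S.A 0 5 = 0 := by
    by_contra hne
    have pp := S.pos_of_ne (by decide) hne
    have g1 := S.ge_left pp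
    have g2 := S.ge_right pp
    have t := S.Q8 1 1 1 1 1 1 0 0 (by norm_num)
    linarith
  have z06 : S.A 0 6 = 0 := by
    by_contra hne
    have pp := S.pos_of_ne (by decide) hne
    have g1 := S.ge_left pp
    have g2 := S.ge_right pp
    have t := S.Q8 1 1 1 1 1 1 1 0 (by norm_num)
    linarith
  have z07 : S.A 0 7 = 0 := by
    by_contra hne
    have pp := S.pos_of_ne (by decide) hne
    have g1 := S.ge_left pp
    have g2 := S.ge_right pp
    have t := S.Q8 1 1 1 1 1 0 0 1 (by norm_num)
    linarith
  have z13 : S.A 1 3 = 0 := by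
    by_contra hne
    have pp := S.pos_of_ne (by decide) hne
    have g1 := S.ge_left pp
    have g2 := S.ge_right pp
    have t := S.Q8 0 1 1 1 0 0 0 0 (by norm_num)
    linarith
  have z14 : S.A 1 4 = 0 := by
    by_contra hne
    have pp := S.pos_of_ne (by decide) hne
    have g1 := S.ge_left pp
    have g2 := S.ge_right pp
    have t := S.Q8 0 1 1 1 1 0 0 0 (by norm_num)
    linarith
  have z15 : S.A 1 5 = 0 := by
    by_contra hne
    have pp := S.pos_of_ne (by decide) hne
    have g1 := S.ge_left pp
    have g2 := S.ge_right pp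
    have t := S.Q8 0 1 1 1 1 1 0 0 (by norm_num)
    linarith
  have z16 : S.A 1 6 = 0 := by
    by_contra hne
    have pp := S.pos_of_ne (by decide) hne
    have g1 := S.ge_left pp
    have g2 := S.ge_right pp
    have t := S.Q8 0 1 1 1 1 1 1 0 (by norm_num)
    linarith
  have z17 : S.A 1 7 = 0 := by
    by_contra hne
    have pp := S.pos_of_ne (by decide) hne
    have g1 := S.ge_left pp
    have g2 := S.ge_right pp
    have t := S.Q8 0 1 1 1 1 0 0 1 (by norm_num)
    linarith
  have z24 : S.A 2 4 = 0 := by
    by_contra hne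
    have pp := S.pos_of_ne (by decide) hne
    have g1 := S.ge_left pp
    have g2 := S.ge_right pp
    have t := S.Q8 0 0 1 1 1 0 0 0 (by norm_num)
    linarith
  have z25 : S.A 2 5 = 0 := by
    by_contra hne
    have pp := S.pos_of_ne (by decide) hne
    have g1 := S.ge_left pp
    have g2 := S.ge_right pp
    have t := S.Q8 0 0 1 1 1 1 0 0 (by norm_num)
    linarith
  have z26 : S.A 2 6 = 0 := by
    by_contra hne
    have pp := S.pos_of_ne (by decide) hne
    have g1 := S.ge_left pp
    have g2 := S.ge_right pp
    have t := S.Q8 0 0 1 1 1 1 1 0 (by norm_num)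
    linarith
  have z27 : S.A 2 7 = 0 := by
    by_contra hne
    have pp := S.pos_of_ne (by decide) hne
    have g1 := S.ge_left pp
    have g2 := S.ge_right pp
    have t := S.Q8 0 0 1 1 1 0 0 1 (by norm_num)
    linarith
  have z35 : S.A 3 5 = 0 := by
    by_contra hne
    have pp := S.pos_of_ne (by decide) hne
    have g1 := S.ge_left pp
    have g2 := S.ge_right pp
    have t := S.Q8 0 0 0 1 1 1 0 0 (by norm_num)
    linarith
  have z36 : S.A 3 6 = 0 := by
    by_contra hne
    have pp := S.pos_of_ne (by decide) hne
    have g1 := S.ge_left pp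
    have g2 := S.ge_right pp
    have t := S.Q8 0 0 0 1 1 1 1 0 (by norm_num)
    linarith
  have z37 : S.A 3 7 = 0 := by
    by_contra hne
    have pp := S.pos_of_ne (by decide) hne
    have g1 := S.ge_left pp
    have g2 := S.ge_right pp
    have t := S.Q8 0 0 0 1 1 0 0 1 (by norm_num)
    linarith
  have z46 : S.A 4 6 = 0 := by
    by_contra hne
    have pp := S.pos_of_ne (by decide) hne
    have g1 := S.ge_left pp
    have g2 := S.ge_right pp
    have t := S.Q8 0 0 0 0 1 1 1 0 (by norm_num)
    linarith
  have z57 : S.A 5 7 = 0 := by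
    by_contra hne
    have pp := S.pos_of_ne (by decide) hne
    have g1 := S.ge_left pp
    have g2 := S.ge_right pp
    have t := S.Q8 0 0 0 0 1 1 0 1 (by norm_num)
    linarith
  have z67 : S.A 6 7 = 0 := by
    by_contra hne
    have pp := S.pos_of_ne (by decide) hne
    have g1 := S.ge_left pp
    have g2 := S.ge_right pp
    have t := S.Q8 0 0 0 0 1 1 1 1 (by norm_num)
    linarith
  refine ⟨⟨z02, z03, z04, z05, z06, z07, z13, z14, z15, z16, z17, z24, z25, z26, z27, z35, z36, z37, z46, z57, z67⟩, ?_⟩
  rcases S.edge_cases (p := 0) (q := 1) (by decide) hp01 with e0 | e0 | e0 | e0 | e0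
  · -- edge 01 type E
    obtain ⟨e0a, e0b⟩ := e0
    rcases S.edge_cases (p := 1) (q := 2) (by decide) hp12 with e1 | e1 | e1 | e1 | e1
    · -- edge 12 type E
      obtain ⟨e1a, e1b⟩ := e1
      rcases S.edge_cases (p := 2) (q := 3) (by decide) hp23 with e2 | e2 | e2 | e2 | e2
      · -- edge 23 type E
        obtain ⟨e2a, e2b⟩ := e2
        rcases S.edge_cases (p := 3) (q := 4) (by decide) hp34 with e3 | e3 | e3 | e3 | e3
        · -- edge 34 type E
          obtain ⟨e3a, e3b⟩ := e3
          rcases S.edge_cases (p := 4) (q := 5) (by decide) hp45 with e4 | e4 | e4 | e4 | e4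
          · -- edge 45 type E
            obtain ⟨e4a, e4b⟩ := e4
            rcases S.edge_cases (p := 5) (q := 6) (by decide) hp56 with e5 | e5 | e5 | e5 | e5
            · -- edge 56 type E
              obtain ⟨e5a, e5b⟩ := e5
              rcases S.edge_cases (p := 4) (q := 7) (by decide) hp47 with e6 | e6 | e6 | e6 | e6
              · -- edge 47 type E
                obtain ⟨e6a, e6b⟩ := e6
                exact ⟨e0a, e0b, e1a, e1b, e2a, e2b, e3a, e3b, e4a, e4b, e5a, e5b, e6a, e6b⟩
              · -- edge 47 type U2
                obtain ⟨e6a, e6b⟩ := e6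
                exfalso
                have t := S.Q8 0 0 0 1 2 1 0 1 (by norm_num)
                linarith
              · -- edge 47 type D2
                obtain ⟨e6a, e6b⟩ := e6
                exfalso
                have t := S.Q8 0 0 0 1 2 1 0 2 (by norm_num)
                linarith
              · -- edge 47 type U3
                obtain ⟨e6a, e6b⟩ := e6
                exfalso
                have t := S.Q8 0 0 0 1 2 0 0 1 (by norm_num)
                linarith
              · -- edge 47 type D3
                obtain ⟨e6a, e6b⟩ := e6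
                exfalso
                have t := S.Q8 0 0 0 1 2 0 0 3 (by norm_num)
                linarith
            · -- edge 56 type U2
              obtain ⟨e5a, e5b⟩ := e5
              rcases S.edge_cases (p := 4) (q := 7) (by decide) hp47 with e6 | e6 | e6 | e6 | e6
              · -- edge 47 type E
                obtain ⟨e6a, e6b⟩ := e6
                exfalso
                have t := S.Q8 0 0 0 1 2 2 1 1 (by norm_num)
                linarith
              · -- edge 47 type U2
                obtain ⟨e6a, e6b⟩ := e6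
                exfalso
                have t := S.Q8 0 0 0 1 2 1 0 1 (by norm_num)
                linarith
              · -- edge 47 type D2
                obtain ⟨e6a, e6b⟩ := e6
                exfalso
                have t := S.Q8 0 0 0 1 2 1 0 2 (by norm_num)
                linarith
              · -- edge 47 type U3
                obtain ⟨e6a, e6b⟩ := e6
                exfalso
                have t := S.Q8 0 0 0 1 2 0 0 1 (by norm_num)
                linarith
              · -- edge 47 type D3
                obtain ⟨e6a, e6b⟩ := e6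
                exfalso
                have t := S.Q8 0 0 0 1 2 0 0 3 (by norm_num)
                linarith
            · -- edge 56 type D2
              obtain ⟨e5a, e5b⟩ := e5
              rcases S.edge_cases (p := 4) (q := 7) (by decide) hp47 with e6 | e6 | e6 | e6 | e6
              · -- edge 47 type E
                obtain ⟨e6a, e6b⟩ := e6
                exfalso
                have t := S.Q8 0 0 0 1 2 2 2 1 (by norm_num)
                linarith
              · -- edge 47 type U2
                obtain ⟨e6a, e6b⟩ := e6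
                exfalso
                have t := S.Q8 0 0 0 1 2 1 0 1 (by norm_num)
                linarith
              · -- edge 47 type D2
                obtain ⟨e6a, e6b⟩ := e6
                exfalso
                have t := S.Q8 0 0 0 1 2 1 0 2 (by norm_num)
                linarith
              · -- edge 47 type U3
                obtain ⟨e6a, e6b⟩ := e6
                exfalso
                have t := S.Q8 0 0 0 1 2 0 0 1 (by norm_num)
                linarith
              · -- edge 47 type D3
                obtain ⟨e6a, e6b⟩ := e6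
                exfalso
                have t := S.Q8 0 0 0 1 2 0 0 3 (by norm_num)
                linarith
            · -- edge 56 type U3
              obtain ⟨e5a, e5b⟩ := e5
              exfalso
              have t := S.Q8 0 0 0 0 1 2 1 0 (by norm_num)
              linarith
            · -- edge 56 type D3
              obtain ⟨e5a, e5b⟩ := e5
              exfalso
              have t := S.Q8 0 0 0 0 1 2 3 0 (by norm_num)
              linarith
          · -- edge 45 type U2
            obtain ⟨e4a, e4b⟩ := e4
            rcases S.edge_cases (p := 5) (q := 6) (by decide) hp56 with e5 | e5 | e5 | e5 | e5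
            · -- edge 56 type E
              obtain ⟨e5a, e5b⟩ := e5
              exfalso
              have t := S.Q8 0 0 1 2 3 2 1 0 (by norm_num)
              linarith
            · -- edge 56 type U2
              obtain ⟨e5a, e5b⟩ := e5
              exfalso
              have t := S.Q8 0 0 0 0 2 2 1 0 (by norm_num)
              linarith
            · -- edge 56 type D2
              obtain ⟨e5a, e5b⟩ := e5
              exfalso
              have t := S.Q8 0 0 0 0 1 1 1 0 (by norm_num)
              linarith
            · -- edge 56 type U3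
              obtain ⟨e5a, e5b⟩ := e5
              exfalso
              have t := S.Q8 0 0 0 0 1 2 1 0 (by norm_num)
              linarith
            · -- edge 56 type D3
              obtain ⟨e5a, e5b⟩ := e5
              exfalso
              have t := S.Q8 0 0 0 0 1 1 1 0 (by norm_num)
              linarith
          · -- edge 45 type D2
            obtain ⟨e4a, e4b⟩ := e4
            rcases S.edge_cases (p := 5) (q := 6) (by decide) hp56 with e5 | e5 | e5 | e5 | e5
            · -- edge 56 type E
              obtain ⟨e5a, e5b⟩ := e5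
              exfalso
              have t := S.Q8 0 0 1 2 3 4 2 0 (by norm_num)
              linarith
            · -- edge 56 type U2
              obtain ⟨e5a, e5b⟩ := e5
              exfalso
              have t := S.Q8 0 0 0 0 1 2 1 0 (by norm_num)
              linarith
            · -- edge 56 type D2
              obtain ⟨e5a, e5b⟩ := e5
              exfalso
              have t := S.Q8 0 0 0 0 1 2 2 0 (by norm_num)
              linarith
            · -- edge 56 type U3
              obtain ⟨e5a, e5b⟩ := e5
              exfalso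
              have t := S.Q8 0 0 0 0 1 2 1 0 (by norm_num)
              linarith
            · -- edge 56 type D3
              obtain ⟨e5a, e5b⟩ := e5
              exfalso
              have t := S.Q8 0 0 0 0 1 2 2 0 (by norm_num)
              linarith
          · -- edge 45 type U3
            obtain ⟨e4a, e4b⟩ := e4
            exfalso
            have t := S.Q8 0 0 0 1 2 1 0 0 (by norm_num)
            linarith
          · -- edge 45 type D3
            obtain ⟨e4a, e4b⟩ := e4
            exfalso
            have t := S.Q8 0 0 0 1 2 3 0 0 (by norm_num)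
            linarith
        · -- edge 34 type U2
          obtain ⟨e3a, e3b⟩ := e3
          rcases S.edge_cases (p := 4) (q := 5) (by decide) hp45 with e4 | e4 | e4 | e4 | e4
          · -- edge 45 type E
            obtain ⟨e4a, e4b⟩ := e4
            exfalso
            have t := S.Q8 0 1 2 3 2 1 0 0 (by norm_num)
            linarith
          · -- edge 45 type U2
            obtain ⟨e4a, e4b⟩ := e4
            exfalso
            have t := S.Q8 0 0 0 2 2 1 0 0 (by norm_num)
            linarith
          · -- edge 45 type D2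
            obtain ⟨e4a, e4b⟩ := e4
            exfalso
            have t := S.Q8 0 0 0 1 1 1 0 0 (by norm_num)
            linarith
          · -- edge 45 type U3
            obtain ⟨e4a, e4b⟩ := e4
            exfalso
            have t := S.Q8 0 0 0 1 2 1 0 0 (by norm_num)
            linarith
          · -- edge 45 type D3
            obtain ⟨e4a, e4b⟩ := e4
            exfalso
            have t := S.Q8 0 0 0 1 1 1 0 0 (by norm_num)
            linarith
        · -- edge 34 type D2
          obtain ⟨e3a, e3b⟩ := e3
          rcases S.edge_cases (p := 4) (q := 5) (by decide) hp45 with e4 | e4 | e4 | e4 | e4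
          · -- edge 45 type E
            obtain ⟨e4a, e4b⟩ := e4
            exfalso
            have t := S.Q8 0 1 2 3 4 2 0 0 (by norm_num)
            linarith
          · -- edge 45 type U2
            obtain ⟨e4a, e4b⟩ := e4
            exfalso
            have t := S.Q8 0 0 0 1 2 1 0 0 (by norm_num)
            linarith
          · -- edge 45 type D2
            obtain ⟨e4a, e4b⟩ := e4
            exfalso
            have t := S.Q8 0 0 0 1 2 2 0 0 (by norm_num)
            linarith
          · -- edge 45 type U3
            obtain ⟨e4a, e4b⟩ := e4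
            exfalso
            have t := S.Q8 0 0 0 1 2 1 0 0 (by norm_num)
            linarith
          · -- edge 45 type D3
            obtain ⟨e4a, e4b⟩ := e4
            exfalso
            have t := S.Q8 0 0 0 1 2 2 0 0 (by norm_num)
            linarith
        · -- edge 34 type U3
          obtain ⟨e3a, e3b⟩ := e3
          exfalso
          have t := S.Q8 0 0 1 2 1 0 0 0 (by norm_num)
          linarith
        · -- edge 34 type D3
          obtain ⟨e3a, e3b⟩ := e3
          exfalso
          have t := S.Q8 0 0 1 2 3 0 0 0 (by norm_num)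
          linarith
      · -- edge 23 type U2
        obtain ⟨e2a, e2b⟩ := e2
        rcases S.edge_cases (p := 3) (q := 4) (by decide) hp34 with e3 | e3 | e3 | e3 | e3
        · -- edge 34 type E
          obtain ⟨e3a, e3b⟩ := e3
          exfalso
          have t := S.Q8 1 2 3 2 1 0 0 0 (by norm_num)
          linarith
        · -- edge 34 type U2
          obtain ⟨e3a, e3b⟩ := e3
          exfalso
          have t := S.Q8 0 0 2 2 1 0 0 0 (by norm_num)
          linarith
        · -- edge 34 type D2
          obtain ⟨e3a, e3b⟩ := e3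
          exfalso
          have t := S.Q8 0 0 1 1 1 0 0 0 (by norm_num)
          linarith
        · -- edge 34 type U3
          obtain ⟨e3a, e3b⟩ := e3
          exfalso
          have t := S.Q8 0 0 1 2 1 0 0 0 (by norm_num)
          linarith
        · -- edge 34 type D3
          obtain ⟨e3a, e3b⟩ := e3
          exfalso
          have t := S.Q8 0 0 1 1 1 0 0 0 (by norm_num)
          linarith
      · -- edge 23 type D2
        obtain ⟨e2a, e2b⟩ := e2
        rcases S.edge_cases (p := 3) (q := 4) (by decide) hp34 with e3 | e3 | e3 | e3 | e3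
        · -- edge 34 type E
          obtain ⟨e3a, e3b⟩ := e3
          exfalso
          have t := S.Q8 1 2 3 4 2 0 0 0 (by norm_num)
          linarith
        · -- edge 34 type U2
          obtain ⟨e3a, e3b⟩ := e3
          exfalso
          have t := S.Q8 0 0 1 2 1 0 0 0 (by norm_num)
          linarith
        · -- edge 34 type D2
          obtain ⟨e3a, e3b⟩ := e3
          exfalso
          have t := S.Q8 0 0 1 2 2 0 0 0 (by norm_num)
          linarith
        · -- edge 34 type U3
          obtain ⟨e3a, e3b⟩ := e3
          exfalso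
          have t := S.Q8 0 0 1 2 1 0 0 0 (by norm_num)
          linarith
        · -- edge 34 type D3
          obtain ⟨e3a, e3b⟩ := e3
          exfalso
          have t := S.Q8 0 0 1 2 2 0 0 0 (by norm_num)
          linarith
      · -- edge 23 type U3
        obtain ⟨e2a, e2b⟩ := e2
        exfalso
        have t := S.Q8 0 1 2 1 0 0 0 0 (by norm_num)
        linarith
      · -- edge 23 type D3
        obtain ⟨e2a, e2b⟩ := e2
        exfalso
        have t := S.Q8 0 1 2 3 0 0 0 0 (by norm_num)
        linarith
    · -- edge 12 type U2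
      obtain ⟨e1a, e1b⟩ := e1
      rcases S.edge_cases (p := 2) (q := 3) (by decide) hp23 with e2 | e2 | e2 | e2 | e2
      · -- edge 23 type E
        obtain ⟨e2a, e2b⟩ := e2
        rcases S.edge_cases (p := 3) (q := 4) (by decide) hp34 with e3 | e3 | e3 | e3 | e3
        · -- edge 34 type E
          obtain ⟨e3a, e3b⟩ := e3
          exfalso
          have t := S.Q8 2 4 3 2 1 0 0 0 (by norm_num)
          linarith
        · -- edge 34 type U2
          obtain ⟨e3a, e3b⟩ := e3
          exfalso
          have t := S.Q8 0 2 2 2 1 0 0 0 (by norm_num)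
          linarith
        · -- edge 34 type D2
          obtain ⟨e3a, e3b⟩ := e3
          exfalso
          have t := S.Q8 0 1 1 1 1 0 0 0 (by norm_num)
          linarith
        · -- edge 34 type U3
          obtain ⟨e3a, e3b⟩ := e3
          exfalso
          have t := S.Q8 0 0 1 2 1 0 0 0 (by norm_num)
          linarith
        · -- edge 34 type D3
          obtain ⟨e3a, e3b⟩ := e3
          exfalso
          have t := S.Q8 0 0 1 2 3 0 0 0 (by norm_num)
          linarith
      · -- edge 23 type U2
        obtain ⟨e2a, e2b⟩ := e2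
        exfalso
        have t := S.Q8 0 2 2 1 0 0 0 0 (by norm_num)
        linarith
      · -- edge 23 type D2
        obtain ⟨e2a, e2b⟩ := e2
        exfalso
        have t := S.Q8 0 1 1 1 0 0 0 0 (by norm_num)
        linarith
      · -- edge 23 type U3
        obtain ⟨e2a, e2b⟩ := e2
        exfalso
        have t := S.Q8 0 1 2 1 0 0 0 0 (by norm_num)
        linarith
      · -- edge 23 type D3
        obtain ⟨e2a, e2b⟩ := e2
        exfalso
        have t := S.Q8 0 1 1 1 0 0 0 0 (by norm_num)
        linarith
    · -- edge 12 type D2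
      obtain ⟨e1a, e1b⟩ := e1
      rcases S.edge_cases (p := 2) (q := 3) (by decide) hp23 with e2 | e2 | e2 | e2 | e2
      · -- edge 23 type E
        obtain ⟨e2a, e2b⟩ := e2
        rcases S.edge_cases (p := 3) (q := 4) (by decide) hp34 with e3 | e3 | e3 | e3 | e3
        · -- edge 34 type E
          obtain ⟨e3a, e3b⟩ := e3
          exfalso
          have t := S.Q8 1 2 3 2 1 0 0 0 (by norm_num)
          linarith
        · -- edge 34 type U2
          obtain ⟨e3a, e3b⟩ := e3
          exfalso
          have t := S.Q8 0 1 2 2 1 0 0 0 (by norm_num)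
          linarith
        · -- edge 34 type D2
          obtain ⟨e3a, e3b⟩ := e3
          exfalso
          have t := S.Q8 0 1 2 2 2 0 0 0 (by norm_num)
          linarith
        · -- edge 34 type U3
          obtain ⟨e3a, e3b⟩ := e3
          exfalso
          have t := S.Q8 0 0 1 2 1 0 0 0 (by norm_num)
          linarith
        · -- edge 34 type D3
          obtain ⟨e3a, e3b⟩ := e3
          exfalso
          have t := S.Q8 0 0 1 2 3 0 0 0 (by norm_num)
          linarith
      · -- edge 23 type U2
        obtain ⟨e2a, e2b⟩ := e2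
        exfalso
        have t := S.Q8 0 1 2 1 0 0 0 0 (by norm_num)
        linarith
      · -- edge 23 type D2
        obtain ⟨e2a, e2b⟩ := e2
        exfalso
        have t := S.Q8 0 1 2 2 0 0 0 0 (by norm_num)
        linarith
      · -- edge 23 type U3
        obtain ⟨e2a, e2b⟩ := e2
        exfalso
        have t := S.Q8 0 1 2 1 0 0 0 0 (by norm_num)
        linarith
      · -- edge 23 type D3
        obtain ⟨e2a, e2b⟩ := e2
        exfalso
        have t := S.Q8 0 1 2 2 0 0 0 0 (by norm_num)
        linarith
    · -- edge 12 type U3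
      obtain ⟨e1a, e1b⟩ := e1
      exfalso
      have t := S.Q8 1 2 1 0 0 0 0 0 (by norm_num)
      linarith
    · -- edge 12 type D3
      obtain ⟨e1a, e1b⟩ := e1
      exfalso
      have t := S.Q8 1 2 3 0 0 0 0 0 (by norm_num)
      linarith
  · -- edge 01 type U2
    obtain ⟨e0a, e0b⟩ := e0
    rcases S.edge_cases (p := 1) (q := 2) (by decide) hp12 with e1 | e1 | e1 | e1 | e1
    · -- edge 12 type E
      obtain ⟨e1a, e1b⟩ := e1
      rcases S.edge_cases (p := 2) (q := 3) (by decide) hp23 with e2 | e2 | e2 | e2 | e2
      · -- edge 23 type E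
        obtain ⟨e2a, e2b⟩ := e2
        rcases S.edge_cases (p := 3) (q := 4) (by decide) hp34 with e3 | e3 | e3 | e3 | e3
        · -- edge 34 type E
          obtain ⟨e3a, e3b⟩ := e3
          rcases S.edge_cases (p := 4) (q := 5) (by decide) hp45 with e4 | e4 | e4 | e4 | e4
          · -- edge 45 type E
            obtain ⟨e4a, e4b⟩ := e4
            rcases S.edge_cases (p := 5) (q := 6) (by decide) hp56 with e5 | e5 | e5 | e5 | e5
            · -- edge 56 type E
              obtain ⟨e5a, e5b⟩ := e5
              rcases S.edge_cases (p := 4) (q := 7) (by decide) hp47 with e6 | e6 | e6 | e6 | e6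
              · -- edge 47 type E
                obtain ⟨e6a, e6b⟩ := e6
                exfalso
                have t := S.Q8 2 2 2 2 2 1 0 1 (by norm_num)
                linarith
              · -- edge 47 type U2
                obtain ⟨e6a, e6b⟩ := e6
                exfalso
                have t := S.Q8 0 0 0 1 2 1 0 1 (by norm_num)
                linarith
              · -- edge 47 type D2
                obtain ⟨e6a, e6b⟩ := e6
                exfalso
                have t := S.Q8 0 0 0 1 2 1 0 2 (by norm_num)
                linarith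
              · -- edge 47 type U3
                obtain ⟨e6a, e6b⟩ := e6
                exfalso
                have t := S.Q8 0 0 0 1 2 0 0 1 (by norm_num)
                linarith
              · -- edge 47 type D3
                obtain ⟨e6a, e6b⟩ := e6
                exfalso
                have t := S.Q8 0 0 0 1 2 0 0 3 (by norm_num)
                linarith
            · -- edge 56 type U2
              obtain ⟨e5a, e5b⟩ := e5
              exfalso
              have t := S.Q8 2 2 2 2 2 2 1 0 (by norm_num)
              linarith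
            · -- edge 56 type D2
              obtain ⟨e5a, e5b⟩ := e5
              exfalso
              have t := S.Q8 1 1 1 1 1 1 1 0 (by norm_num)
              linarith
            · -- edge 56 type U3
              obtain ⟨e5a, e5b⟩ := e5
              exfalso
              have t := S.Q8 0 0 0 0 1 2 1 0 (by norm_num)
              linarith
            · -- edge 56 type D3
              obtain ⟨e5a, e5b⟩ := e5
              exfalso
              have t := S.Q8 0 0 0 0 1 2 3 0 (by norm_num)
              linarith
          · -- edge 45 type U2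
            obtain ⟨e4a, e4b⟩ := e4
            exfalso
            have t := S.Q8 2 2 2 2 2 1 0 0 (by norm_num)
            linarith
          · -- edge 45 type D2
            obtain ⟨e4a, e4b⟩ := e4
            exfalso
            have t := S.Q8 1 1 1 1 1 1 0 0 (by norm_num)
            linarith
          · -- edge 45 type U3
            obtain ⟨e4a, e4b⟩ := e4
            exfalso
            have t := S.Q8 0 0 0 1 2 1 0 0 (by norm_num)
            linarith
          · -- edge 45 type D3
            obtain ⟨e4a, e4b⟩ := e4
            exfalso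
            have t := S.Q8 0 0 0 1 2 3 0 0 (by norm_num)
            linarith
        · -- edge 34 type U2
          obtain ⟨e3a, e3b⟩ := e3
          exfalso
          have t := S.Q8 2 2 2 2 1 0 0 0 (by norm_num)
          linarith
        · -- edge 34 type D2
          obtain ⟨e3a, e3b⟩ := e3
          exfalso
          have t := S.Q8 1 1 1 1 1 0 0 0 (by norm_num)
          linarith
        · -- edge 34 type U3
          obtain ⟨e3a, e3b⟩ := e3
          exfalso
          have t := S.Q8 0 0 1 2 1 0 0 0 (by norm_num)
          linarith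
        · -- edge 34 type D3
          obtain ⟨e3a, e3b⟩ := e3
          exfalso
          have t := S.Q8 0 0 1 2 3 0 0 0 (by norm_num)
          linarith
      · -- edge 23 type U2
        obtain ⟨e2a, e2b⟩ := e2
        exfalso
        have t := S.Q8 2 2 2 1 0 0 0 0 (by norm_num)
        linarith
      · -- edge 23 type D2
        obtain ⟨e2a, e2b⟩ := e2
        exfalso
        have t := S.Q8 1 1 1 1 0 0 0 0 (by norm_num)
        linarith
      · -- edge 23 type U3
        obtain ⟨e2a, e2b⟩ := e2
        exfalso
        have t := S.Q8 0 1 2 1 0 0 0 0 (by norm_num)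
        linarith
      · -- edge 23 type D3
        obtain ⟨e2a, e2b⟩ := e2
        exfalso
        have t := S.Q8 0 1 2 3 0 0 0 0 (by norm_num)
        linarith
    · -- edge 12 type U2
      obtain ⟨e1a, e1b⟩ := e1
      exfalso
      have t := S.Q8 2 2 1 0 0 0 0 0 (by norm_num)
      linarith
    · -- edge 12 type D2
      obtain ⟨e1a, e1b⟩ := e1
      exfalso
      have t := S.Q8 1 1 1 0 0 0 0 0 (by norm_num)
      linarith
    · -- edge 12 type U3
      obtain ⟨e1a, e1b⟩ := e1
      exfalso
      have t := S.Q8 1 2 1 0 0 0 0 0 (by norm_num)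
      linarith
    · -- edge 12 type D3
      obtain ⟨e1a, e1b⟩ := e1
      exfalso
      have t := S.Q8 1 1 1 0 0 0 0 0 (by norm_num)
      linarith
  · -- edge 01 type D2
    obtain ⟨e0a, e0b⟩ := e0
    rcases S.edge_cases (p := 1) (q := 2) (by decide) hp12 with e1 | e1 | e1 | e1 | e1
    · -- edge 12 type E
      obtain ⟨e1a, e1b⟩ := e1
      rcases S.edge_cases (p := 2) (q := 3) (by decide) hp23 with e2 | e2 | e2 | e2 | e2
      · -- edge 23 type E
        obtain ⟨e2a, e2b⟩ := e2
        rcases S.edge_cases (p := 3) (q := 4) (by decide) hp34 with e3 | e3 | e3 | e3 | e3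
        · -- edge 34 type E
          obtain ⟨e3a, e3b⟩ := e3
          rcases S.edge_cases (p := 4) (q := 5) (by decide) hp45 with e4 | e4 | e4 | e4 | e4
          · -- edge 45 type E
            obtain ⟨e4a, e4b⟩ := e4
            rcases S.edge_cases (p := 5) (q := 6) (by decide) hp56 with e5 | e5 | e5 | e5 | e5
            · -- edge 56 type E
              obtain ⟨e5a, e5b⟩ := e5
              rcases S.edge_cases (p := 4) (q := 7) (by decide) hp47 with e6 | e6 | e6 | e6 | e6
              · -- edge 47 type E
                obtain ⟨e6a, e6b⟩ := e6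
                exfalso
                have t := S.Q8 1 2 2 2 2 1 0 1 (by norm_num)
                linarith
              · -- edge 47 type U2
                obtain ⟨e6a, e6b⟩ := e6
                exfalso
                have t := S.Q8 0 0 0 1 2 1 0 1 (by norm_num)
                linarith
              · -- edge 47 type D2
                obtain ⟨e6a, e6b⟩ := e6
                exfalso
                have t := S.Q8 0 0 0 1 2 1 0 2 (by norm_num)
                linarith
              · -- edge 47 type U3
                obtain ⟨e6a, e6b⟩ := e6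
                exfalso
                have t := S.Q8 0 0 0 1 2 0 0 1 (by norm_num)
                linarith
              · -- edge 47 type D3
                obtain ⟨e6a, e6b⟩ := e6
                exfalso
                have t := S.Q8 0 0 0 1 2 0 0 3 (by norm_num)
                linarith
            · -- edge 56 type U2
              obtain ⟨e5a, e5b⟩ := e5
              exfalso
              have t := S.Q8 1 2 2 2 2 2 1 0 (by norm_num)
              linarith
            · -- edge 56 type D2
              obtain ⟨e5a, e5b⟩ := e5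
              exfalso
              have t := S.Q8 1 2 2 2 2 2 2 0 (by norm_num)
              linarith
            · -- edge 56 type U3
              obtain ⟨e5a, e5b⟩ := e5
              exfalso
              have t := S.Q8 0 0 0 0 1 2 1 0 (by norm_num)
              linarith
            · -- edge 56 type D3
              obtain ⟨e5a, e5b⟩ := e5
              exfalso
              have t := S.Q8 0 0 0 0 1 2 3 0 (by norm_num)
              linarith
          · -- edge 45 type U2
            obtain ⟨e4a, e4b⟩ := e4
            exfalso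
            have t := S.Q8 1 2 2 2 2 1 0 0 (by norm_num)
            linarith
          · -- edge 45 type D2
            obtain ⟨e4a, e4b⟩ := e4
            exfalso
            have t := S.Q8 1 2 2 2 2 2 0 0 (by norm_num)
            linarith
          · -- edge 45 type U3
            obtain ⟨e4a, e4b⟩ := e4
            exfalso
            have t := S.Q8 0 0 0 1 2 1 0 0 (by norm_num)
            linarith
          · -- edge 45 type D3
            obtain ⟨e4a, e4b⟩ := e4
            exfalso
            have t := S.Q8 0 0 0 1 2 3 0 0 (by norm_num)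
            linarith
        · -- edge 34 type U2
          obtain ⟨e3a, e3b⟩ := e3
          exfalso
          have t := S.Q8 1 2 2 2 1 0 0 0 (by norm_num)
          linarith
        · -- edge 34 type D2
          obtain ⟨e3a, e3b⟩ := e3
          exfalso
          have t := S.Q8 1 2 2 2 2 0 0 0 (by norm_num)
          linarith
        · -- edge 34 type U3
          obtain ⟨e3a, e3b⟩ := e3
          exfalso
          have t := S.Q8 0 0 1 2 1 0 0 0 (by norm_num)
          linarith
        · -- edge 34 type D3
          obtain ⟨e3a, e3b⟩ := e3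
          exfalso
          have t := S.Q8 0 0 1 2 3 0 0 0 (by norm_num)
          linarith
      · -- edge 23 type U2
        obtain ⟨e2a, e2b⟩ := e2
        exfalso
        have t := S.Q8 1 2 2 1 0 0 0 0 (by norm_num)
        linarith
      · -- edge 23 type D2
        obtain ⟨e2a, e2b⟩ := e2
        exfalso
        have t := S.Q8 1 2 2 2 0 0 0 0 (by norm_num)
        linarith
      · -- edge 23 type U3
        obtain ⟨e2a, e2b⟩ := e2
        exfalso
        have t := S.Q8 0 1 2 1 0 0 0 0 (by norm_num)
        linarith
      · -- edge 23 type D3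
        obtain ⟨e2a, e2b⟩ := e2
        exfalso
        have t := S.Q8 0 1 2 3 0 0 0 0 (by norm_num)
        linarith
    · -- edge 12 type U2
      obtain ⟨e1a, e1b⟩ := e1
      exfalso
      have t := S.Q8 1 2 1 0 0 0 0 0 (by norm_num)
      linarith
    · -- edge 12 type D2
      obtain ⟨e1a, e1b⟩ := e1
      exfalso
      have t := S.Q8 1 2 2 0 0 0 0 0 (by norm_num)
      linarith
    · -- edge 12 type U3
      obtain ⟨e1a, e1b⟩ := e1
      exfalso
      have t := S.Q8 1 2 1 0 0 0 0 0 (by norm_num)
      linarith
    · -- edge 12 type D3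
      obtain ⟨e1a, e1b⟩ := e1
      exfalso
      have t := S.Q8 1 2 2 0 0 0 0 0 (by norm_num)
      linarith
  · -- edge 01 type U3
    obtain ⟨e0a, e0b⟩ := e0
    rcases S.edge_cases (p := 1) (q := 2) (by decide) hp12 with e1 | e1 | e1 | e1 | e1
    · -- edge 12 type E
      obtain ⟨e1a, e1b⟩ := e1
      exfalso
      have t := S.Q8 3 2 1 0 0 0 0 0 (by norm_num)
      linarith
    · -- edge 12 type U2
      obtain ⟨e1a, e1b⟩ := e1
      exfalso
      have t := S.Q8 2 2 1 0 0 0 0 0 (by norm_num)
      linarith
    · -- edge 12 type D2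
      obtain ⟨e1a, e1b⟩ := e1
      exfalso
      have t := S.Q8 1 1 1 0 0 0 0 0 (by norm_num)
      linarith
    · -- edge 12 type U3
      obtain ⟨e1a, e1b⟩ := e1
      exfalso
      have t := S.Q8 1 2 1 0 0 0 0 0 (by norm_num)
      linarith
    · -- edge 12 type D3
      obtain ⟨e1a, e1b⟩ := e1
      exfalso
      have t := S.Q8 1 1 1 0 0 0 0 0 (by norm_num)
      linarith
  · -- edge 01 type D3
    obtain ⟨e0a, e0b⟩ := e0
    rcases S.edge_cases (p := 1) (q := 2) (by decide) hp12 with e1 | e1 | e1 | e1 | e1
    · -- edge 12 type E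
      obtain ⟨e1a, e1b⟩ := e1
      exfalso
      have t := S.Q8 1 2 1 0 0 0 0 0 (by norm_num)
      linarith
    · -- edge 12 type U2
      obtain ⟨e1a, e1b⟩ := e1
      exfalso
      have t := S.Q8 1 2 1 0 0 0 0 0 (by norm_num)
      linarith
    · -- edge 12 type D2
      obtain ⟨e1a, e1b⟩ := e1
      exfalso
      have t := S.Q8 1 2 1 0 0 0 0 0 (by norm_num)
      linarith
    · -- edge 12 type U3
      obtain ⟨e1a, e1b⟩ := e1
      exfalso
      have t := S.Q8 1 2 1 0 0 0 0 0 (by norm_num)
      linarith
    · -- edge 12 type D3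
      obtain ⟨e1a, e1b⟩ := e1
      exfalso
      have t := S.Q8 1 2 1 0 0 0 0 0 (by norm_num)
      linarith


end Groth.Agent.Helper3.NumType
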