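import Mathlib

set_option autoImplicit false
set_option linter.style.haveILetI false
set_option linter.unusedSectionVars false
set_option linter.unusedVariables false
set_option linter.style.haveILetI false
set_option linter.unusedSectionVars false
set_option linter.unusedVariables false

/-!
# Flatness from a flat quotient by a regular sequence in the Jacobson radical (Noetherian case)
-/

namespace Groth.Agent.Helper3.NzdFlatN
open TensorProduct

universe u

section step
variable {B A : Type u} [CommRing B] [CommRing A] [Algebra B A] [IsNoetherianRing A]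

/-- if `r` is a nonzerodivisor in the Jacobson radical of the Noetherian ring `A` and `A / r A` is
flat over `B`, then `A` is flat over `B` -/
theorem flat_of_nzd (r : A) (hr : r ∈ (⊥ : Ideal A).jacobson) (hreg : IsSMulRegular A r)
    (hflat : Module.Flat B (A ⧸ Ideal.span {r})) : Module.Flat B A := by
  rw [Module.Flat.iff_lTensor_injective]
  intro I hI
  haveI : Module.Finite B I := Module.Finite.iff_fg.mpr hI
  -- the `A`-linear version of the map
  let ψ : A ⊗[B] I →ₗ[A] A ⊗[B] B := (I.subtype).baseChange A
  have hψ : ∀ t, ψ t = (I.subtype).lTensor A t := fun t => rfl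
  rw [injective_iff_map_eq_zero]
  suffices h : LinearMap.ker ψ = ⊥ by
    intro t ht
    have : t ∈ LinearMap.ker ψ := by
      rw [LinearMap.mem_ker, hψ]
      exact ht
    rw [h] at this
    exact this
  have hfg : (LinearMap.ker ψ).FG := IsNoetherian.noetherian _
  refine Submodule.eq_bot_of_le_smul_of_le_jacobson_bot (Ideal.span {r}) _ hfg ?_ ?_
  swap
  · rw [Ideal.span_le]
    rintro x rfl
    exact hr
  intro t ht
  rw [LinearMap.mem_ker, hψ] at ht
  -- reduce modulo `r`
  let π : A →ₗ[B] A ⧸ Ideal.span {r} := (Ideal.Quotient.mkₐ B (Ideal.span {r})).toLinearMap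
  let μ : A →ₗ[B] A := LinearMap.mulLeft B r
  have hex : Function.Exact μ π := by
    intro a
    constructor
    · intro ha
      have : a ∈ Ideal.span {r} := Ideal.Quotient.eq_zero_iff_mem.mp ha
      obtain ⟨c, rfl⟩ := Ideal.mem_span_singleton'.mp this
      exact ⟨c, by simp [μ, mul_comm]⟩
    · rintro ⟨c, rfl⟩
      show Ideal.Quotient.mk _ (r * c) = 0
      exact Ideal.Quotient.eq_zero_iff_mem.mpr (Ideal.mul_mem_right _ _ (Ideal.subset_span rfl))
  have hπs : Function.Surjective π := Ideal.Quotient.mk_surjective
  have hex' := rTensor_exact I hex hπs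
  have h1 : (I.subtype).lTensor (A ⧸ Ideal.span {r}) (π.rTensor I t) = 0 := by
    have hcomm : (I.subtype).lTensor (A ⧸ Ideal.span {r}) ∘ₗ π.rTensor I =
        π.rTensor B ∘ₗ (I.subtype).lTensor A := by
      ext a x
      simp
    have := congrArg (fun g => g t) hcomm
    simp only [LinearMap.comp_apply] at this
    rw [this, ht, map_zero]
  have hinj : Function.Injective ((I.subtype).lTensor (A ⧸ Ideal.span {r})) :=
    Module.Flat.lTensor_preserves_injective_linearMap _ (Submodule.injective_subtype I)
  have h2 : π.rTensor I t = 0 := hinj (h1.trans (map_zero _).symm)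
  obtain ⟨t', ht'⟩ := (hex' t).mp h2
  have hμ : ∀ y : A ⊗[B] I, μ.rTensor I y = r • y := by
    intro y
    induction y using TensorProduct.induction_on with
    | zero => simp
    | tmul a x =>
      rw [LinearMap.rTensor_tmul, TensorProduct.smul_tmul']
      rfl
    | add y y' hy hy' => rw [map_add, hy, hy', smul_add]
  have hμ' : ∀ y : A ⊗[B] B, μ.rTensor B y = r • y := by
    intro y
    induction y using TensorProduct.induction_on with
    | zero => simp
    | tmul a x =>
      rw [LinearMap.rTensor_tmul, TensorProduct.smul_tmul']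
      rfl
    | add y y' hy hy' => rw [map_add, hy, hy', smul_add]
  rw [hμ] at ht'
  have h3 : r • ψ t' = 0 := by
    rw [← map_smul, ht', hψ]
    exact ht
  have hregT : IsSMulRegular (A ⊗[B] B) r := by
    have e : A ⊗[B] B ≃ₗ[A] A := AlgebraTensorModule.rid B A A
    exact (e.isSMulRegular_congr r).mpr hreg
  have h4 : ψ t' = 0 := hregT (h3.trans (smul_zero r).symm)
  rw [← ht']
  exact Submodule.smul_mem_smul (Ideal.subset_span rfl) (LinearMap.mem_ker.mpr h4)

end step

open RingTheory.Sequence Pointwise in
/-- if `rs` is a weakly regular sequence in the Jacobson radical of the Noetherian ring `A` and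
`A / (rs)` is flat over `B`, then `A` is flat over `B` -/
theorem flat_of_weaklyRegular : ∀ (n : ℕ) {B A : Type u} [CommRing B] [CommRing A] [Algebra B A]
    [IsNoetherianRing A] (rs : List A), rs.length = n → IsWeaklyRegular A rs →
    (∀ r ∈ rs, r ∈ (⊥ : Ideal A).jacobson) → Module.Flat B (A ⧸ Ideal.ofList rs) →
    Module.Flat B A := by
  intro n
  induction n with
  | zero =>
    intro B A _ _ _ _ rs hlen _ _ hflat
    obtain rfl : rs = [] := List.length_eq_zero_iff.mp hlen
    have hbot : Ideal.ofList ([] : List A) = ⊥ := Ideal.ofList_nil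
    let e : (A ⧸ Ideal.ofList ([] : List A)) ≃ₗ[B] A :=
      (Submodule.quotEquivOfEqBot (Ideal.ofList ([] : List A)) hbot).restrictScalars B
    exact Module.Flat.of_linearEquiv e.symm
  | succ n ih =>
    intro B A _ _ _ _ rs hlen hreg hjac hflat
    obtain ⟨r, rs', rfl⟩ : ∃ r rs', rs = r :: rs' := by
      cases rs with
      | nil => simp at hlen
      | cons a t => exact ⟨a, t, rfl⟩
    have hlen' : rs'.length = n := by simpa using hlen
    rw [isWeaklyRegular_cons_iff] at hreg
    obtain ⟨hr, hreg'⟩ := hreg
    have hsub : (r • (⊤ : Submodule A A)) = (Ideal.span {r} : Submodule A A) := by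
      rw [← Submodule.ideal_span_singleton_smul, smul_eq_mul, Ideal.mul_top]
    let e : QuotSMulTop r A ≃ₗ[A] (A ⧸ Ideal.span {r}) := Submodule.quotEquivOfEq _ _ hsub
    rw [e.isWeaklyRegular_congr, ← isWeaklyRegular_map_algebraMap_iff (A ⧸ Ideal.span {r})]
      at hreg'
    have hjac' : ∀ x ∈ rs'.map (algebraMap A (A ⧸ Ideal.span {r})),
        x ∈ (⊥ : Ideal (A ⧸ Ideal.span {r})).jacobson := by
      intro x hx
      obtain ⟨y, hy, rfl⟩ := List.mem_map.mp hx
      have h := hjac y (List.mem_cons_of_mem _ hy)
      rw [Ideal.mem_jacobson_bot] at h ⊢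
      intro w
      obtain ⟨w, rfl⟩ := Ideal.Quotient.mk_surjective w
      show IsUnit (Ideal.Quotient.mk _ y * Ideal.Quotient.mk _ w + 1)
      rw [← map_mul, ← map_one (Ideal.Quotient.mk (Ideal.span {r})), ← map_add]
      exact (h w).map _
    have hflat' : Module.Flat B ((A ⧸ Ideal.span {r}) ⧸
        Ideal.ofList (rs'.map (algebraMap A (A ⧸ Ideal.span {r})))) := by
      have h1 : Ideal.ofList (rs'.map (algebraMap A (A ⧸ Ideal.span {r}))) =
          (Ideal.ofList rs').map (Ideal.Quotient.mk (Ideal.span {r})) := by
        rw [Ideal.map_ofList]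
        rfl
      rw [h1]
      have h2 : Ideal.ofList (r :: rs') = Ideal.span {r} ⊔ Ideal.ofList rs' := Ideal.ofList_cons r rs'
      rw [h2] at hflat
      exact Module.Flat.of_linearEquiv
        (DoubleQuot.quotQuotEquivQuotSupₐ B (Ideal.span {r}) (Ideal.ofList rs')).toLinearEquiv
    have hA' : Module.Flat B (A ⧸ Ideal.span {r}) :=
      ih (rs'.map (algebraMap A (A ⧸ Ideal.span {r}))) (by simpa using hlen') hreg' hjac' hflat'
    exact flat_of_nzd r (hjac r List.mem_cons_self) hr hA'

end Groth.Agent.Helper3.NzdFlatN
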