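import Mathlib

set_option autoImplicit false
set_option linter.style.haveILetI false
set_option linter.unusedSectionVars false
set_option linter.unusedVariables false
set_option linter.style.haveILetI false
set_option linter.unusedSectionVars false
set_option linter.unusedVariables false

universe u

open AlgebraicGeometry CategoryTheory CategoryTheory.Limits

namespace Groth.Agent.Helper3.OIGlue

/-- an open immersion of affine schemes is locally on the source a standard localisation -/
theorem exists_loc (B' B : Type u) [CommRing B'] [CommRing B] (ψ : B' →+* B)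
    (h : IsOpenImmersion (Spec.map (CommRingCat.ofHom ψ))) (q : PrimeSpectrum B) :
    ∃ s : B', ψ s ∉ q.asIdeal ∧ Function.Bijective (Localization.awayMap ψ s) := by
  let g := Spec.map (CommRingCat.ofHom ψ)
  have hopen : IsOpen (Set.range g) := g.isOpenEmbedding.isOpen_range
  have hq : (PrimeSpectrum.comap ψ q) ∈ Set.range g := ⟨q, rfl⟩
  obtain ⟨_, ⟨s, rfl⟩, hs1, hs2⟩ :=
    PrimeSpectrum.isTopologicalBasis_basic_opens.exists_subset_of_mem_open hq hopen
  refine ⟨s, hs1, ?_⟩
  have hpo := CommRingCat.isPushout_of_isLocalization ψ (Localization.awayMap ψ s)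
    (by
      ext x
      simp [Localization.awayMap, IsLocalization.Away.map, IsLocalization.map_eq])
    (Submonoid.powers s) (Rₘ := Localization.Away s) (Sₘ := Localization.Away (ψ s))
  have hpb := isPullback_SpecMap_of_isPushout _ _ _ _ hpo
  have hoi : IsOpenImmersion (Spec.map (CommRingCat.ofHom (Localization.awayMap ψ s))) :=
    MorphismProperty.of_isPullback (P := @IsOpenImmersion) hpb h
  have hsurj : (Spec.map (CommRingCat.ofHom (Localization.awayMap ψ s))).opensRange = ⊤ := by
    rw [eq_top_iff]
    intro y _
    have h1 : Set.range (Spec.map (CommRingCat.ofHom (Localization.awayMap ψ s))) =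
        Set.range (pullback.snd (Spec.map (CommRingCat.ofHom ψ))
          (Spec.map (CommRingCat.ofHom (algebraMap B' (Localization.Away s))))) := by
      rw [← hpb.isoPullback_hom_snd]
      rw [Scheme.Hom.comp_base, TopCat.coe_comp, Set.range_comp]
      have : Function.Surjective hpb.isoPullback.hom := hpb.isoPullback.hom.surjective
      rw [this.range_eq, Set.image_univ]
    change y ∈ Set.range _
    rw [h1, Scheme.Pullback.range_snd]
    apply hs2
    have h2 := PrimeSpectrum.localization_away_comap_range (Localization.Away s) s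
    change _ ∈ (PrimeSpectrum.basicOpen s : Set (PrimeSpectrum B'))
    rw [← h2]
    exact ⟨y, rfl⟩
  have hiso := isIso_of_isOpenImmersion_of_opensRange_eq_top _ hsurj
  exact isIso_SpecMap_iff.1 hiso

/-- a ring map `C → B` sandwiched between `B' → B` (an open immersion on spectra) with `C → B`
injective gives an open immersion on spectra -/
theorem oi_of_sandwich (B' C B : Type u) [CommRing B'] [CommRing C] [CommRing B]
    (ι' : B' →+* C) (φ : C →+* B) (hφ : Function.Injective φ)
    (h : IsOpenImmersion (Spec.map (CommRingCat.ofHom (φ.comp ι')))) :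
    IsOpenImmersion (Spec.map (CommRingCat.ofHom φ)) := by
  have hcomp : Spec.map (CommRingCat.ofHom (φ.comp ι')) =
      Spec.map (CommRingCat.ofHom φ) ≫ Spec.map (CommRingCat.ofHom ι') := by
    rw [← Spec.map_comp]; rfl
  apply IsOpenImmersion.of_forall_source_exists
  · intro x y hxy
    have hinj : Function.Injective (Spec.map (CommRingCat.ofHom (φ.comp ι'))) :=
      (Spec.map (CommRingCat.ofHom (φ.comp ι'))).isOpenEmbedding.injective
    apply hinj
    rw [hcomp, Scheme.Hom.comp_apply, Scheme.Hom.comp_apply, hxy]
  · intro x
    obtain ⟨s, hs, hbij⟩ := exists_loc B' B (φ.comp ι') h x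
    let s' : C := ι' s
    have hχ : Function.Bijective (Localization.awayMap φ s') := by
      constructor
      · rw [Localization.awayMap_injective_iff]
        intro a ha
        refine ⟨0, ?_⟩
        rw [pow_zero, one_mul]
        exact hφ (by rw [ha, map_zero])
      · rw [Localization.awayMap_surjective_iff]
        intro b
        obtain ⟨b', m, hb'⟩ := Localization.awayMap_surjective_iff.1 hbij.2 b
        exact ⟨ι' b', m, hb'⟩
    haveI : IsIso (Spec.map (CommRingCat.ofHom (Localization.awayMap φ s'))) :=
      isIso_SpecMap_iff.2 hχ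
    haveI : IsOpenImmersion (Spec.map (CommRingCat.ofHom (algebraMap C (Localization.Away s')))) :=
      IsOpenImmersion.of_isLocalization s'
    haveI : IsOpenImmersion (Spec.map (CommRingCat.ofHom (algebraMap B (Localization.Away (φ s'))))) :=
      IsOpenImmersion.of_isLocalization (φ s')
    refine ⟨Spec (CommRingCat.of (Localization.Away (φ s'))),
      Spec.map (CommRingCat.ofHom (algebraMap B (Localization.Away (φ s')))), inferInstance, ?_, ?_⟩
    · change x ∈ Set.range _
      have h2 := PrimeSpectrum.localization_away_comap_range (Localization.Away (φ s')) (φ s')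
      change x ∈ Set.range (PrimeSpectrum.comap (algebraMap B (Localization.Away (φ s'))))
      rw [h2]
      exact hs
    · have heq : Spec.map (CommRingCat.ofHom (algebraMap B (Localization.Away (φ s')))) ≫
          Spec.map (CommRingCat.ofHom φ) =
          Spec.map (CommRingCat.ofHom (Localization.awayMap φ s')) ≫
            Spec.map (CommRingCat.ofHom (algebraMap C (Localization.Away s'))) := by
        rw [← Spec.map_comp, ← Spec.map_comp]
        congr 1
        ext c
        simp [Localization.awayMap, IsLocalization.Away.map]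
      rw [heq]
      infer_instance

theorem main (A B B' B'' : Type u) [CommRing A] [CommRing B] [CommRing B'] [CommRing B'']
    [Algebra A B] [Algebra A B'] [Algebra A B''] [Algebra B' B] [Algebra B'' B]
    [IsScalarTower A B' B] [IsScalarTower A B'' B] [Module.Finite A B'] [Module.Finite A B'']
    (h' : IsOpenImmersion (Spec.map (CommRingCat.ofHom (algebraMap B' B))))
    (h'' : IsOpenImmersion (Spec.map (CommRingCat.ofHom (algebraMap B'' B)))) :
    ∃ C : Subalgebra A B, Module.Finite A C ∧ Set.range (algebraMap B' B) ⊆ (C : Set B) ∧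
      Set.range (algebraMap B'' B) ⊆ (C : Set B) ∧
      IsOpenImmersion (Spec.map (CommRingCat.ofHom C.val.toRingHom)) := by
  let C1 : Subalgebra A B := (IsScalarTower.toAlgHom A B' B).range
  let C2 : Subalgebra A B := (IsScalarTower.toAlgHom A B'' B).range
  haveI : Module.Finite A C1 :=
    Module.Finite.of_surjective (IsScalarTower.toAlgHom A B' B).rangeRestrict.toLinearMap
      (IsScalarTower.toAlgHom A B' B).rangeRestrict_surjective
  haveI : Module.Finite A C2 :=
    Module.Finite.of_surjective (IsScalarTower.toAlgHom A B'' B).rangeRestrict.toLinearMap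
      (IsScalarTower.toAlgHom A B'' B).rangeRestrict_surjective
  have hC1 : Set.range (algebraMap B' B) ⊆ ((C1 ⊔ C2 : Subalgebra A B) : Set B) := by
    rintro _ ⟨b, rfl⟩
    exact (le_sup_left : C1 ≤ C1 ⊔ C2) ⟨b, rfl⟩
  have hC2 : Set.range (algebraMap B'' B) ⊆ ((C1 ⊔ C2 : Subalgebra A B) : Set B) := by
    rintro _ ⟨b, rfl⟩
    exact (le_sup_right : C2 ≤ C1 ⊔ C2) ⟨b, rfl⟩
  refine ⟨C1 ⊔ C2, Subalgebra.finite_sup C1 C2, hC1, hC2, ?_⟩
  let ι' : B' →+* (C1 ⊔ C2 : Subalgebra A B) :=
    (algebraMap B' B).codRestrict (C1 ⊔ C2 : Subalgebra A B).toSubring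
      (fun b => hC1 ⟨b, rfl⟩)
  apply oi_of_sandwich B' _ B ι' _ Subtype.val_injective
  exact h'

end Groth.Agent.Helper3.OIGlue
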