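import Mathlib
import Groth.Prelude.Def_OmAff
import Groth.Agent.Lead.OmegaSecA

set_option autoImplicit false
set_option linter.style.haveILetI false
set_option linter.unusedSectionVars false
set_option linter.unusedVariables false
set_option linter.style.haveILetI false
set_option linter.unusedSectionVars false
set_option linter.unusedVariables false

open CategoryTheory CategoryTheory.Limits AlgebraicGeometry Opposite TopologicalSpace TensorProduct
universe u

namespace Groth.Agent.Helper3.OmAffIso

theorem toSect_bijective {X Y : Scheme.{u}} (f : X ⟶ Y) [QuasiSeparated f]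
    {U : X.Opens} (hU : IsAffineOpen U) {V : Y.Opens} (hV : IsAffineOpen V) (h : U ≤ f ⁻¹ᵁ V) :
    Function.Bijective (OmAff.toSect f V U h).hom := by
  obtain ⟨ε, hε⟩ := Groth.Agent.Lead.OmegaSecA.exists_sectionsEquiv f hU hV h
  letI := (f.appLE V U h).hom.toAlgebra
  let g : Ω[Γ(X, U)⁄Γ(Y, V)] →ₗ[Γ(X, U)] Γ(Omega.sheaf f, U) := (OmAff.toSect f V U h).hom
  have hg : ∀ b : Γ(X, U), g (KaehlerDifferential.D Γ(Y, V) Γ(X, U) b) = OmegaSh.dSect f U b :=
    fun b => OmAff.toSect_d f V U h b
  have key : ∀ x : Ω[Γ(X, U)⁄Γ(Y, V)], ε (g x) = x := by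
    intro x
    have hx : x ∈ Submodule.span Γ(X, U) (Set.range (KaehlerDifferential.D Γ(Y, V) Γ(X, U))) := by
      rw [KaehlerDifferential.span_range_derivation]; trivial
    induction hx using Submodule.span_induction with
    | mem y hy =>
      obtain ⟨b, rfl⟩ := hy
      rw [hg b]
      exact hε b
    | zero => rw [map_zero, map_zero]
    | add y z _ _ hy hz => rw [map_add, map_add, hy, hz]
    | smul b y _ hy => rw [map_smul, map_smul, hy]
  change Function.Bijective g
  constructor
  · intro x y hxy
    rw [← key x, ← key y]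
    exact congrArg ε hxy
  · intro m
    refine ⟨ε m, ?_⟩
    apply ε.injective
    exact key (ε m)

theorem main (X Y : Scheme.{u}) (f : X ⟶ Y) [QuasiSeparated f]
    (U : X.affineOpens) (V : Y.affineOpens) (h : U.1 ≤ f ⁻¹ᵁ V.1) :
    IsIso (OmAff.toSect f V.1 U.1 h) := by
  rw [ConcreteCategory.isIso_iff_bijective]
  exact toSect_bijective f U.2 V.2 h

end Groth.Agent.Helper3.OmAffIso
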