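import Mathlib
import Groth.Prelude.Def_OmAff
import Groth.Agent.Lead.OmegaSecA

set_option autoImplicit false
set_option linter.style.haveILetI false
set_option linter.unusedSectionVars false
set_option linter.unusedVariables false
set_option linter.style.haveILetI false
set_option linter.unusedSectionVars false
set_option linter.unusedVariables false

open CategoryTheory CategoryTheory.Limits AlgebraicGeometry Opposite TopologicalSpace TensorProduct
universe u

namespace Groth.Agent.Helper3.OmAffSpec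

variable (A B : Type u) [CommRing A] [CommRing B] [Algebra A B]

/-- The morphism `Spec B ⟶ Spec A`. -/
noncomputable abbrev sf : Spec (CommRingCat.of B) ⟶ Spec (CommRingCat.of A) :=
  Spec.map (CommRingCat.ofHom (algebraMap A B))

/-- `B ← Γ(Spec B, ⊤)`. -/
noncomputable abbrev ofΓ (B : Type u) [CommRing B] : Γ(Spec (CommRingCat.of B), ⊤) →+* B :=
  (Scheme.ΓSpecIso (CommRingCat.of B)).hom.hom

theorem ofΓ_toΓ (b : B) : ofΓ B (OmAff.toΓ B b) = b := by
  change ((Scheme.ΓSpecIso (CommRingCat.of B)).inv ≫ (Scheme.ΓSpecIso (CommRingCat.of B)).hom).hom b = b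
  rw [Iso.inv_hom_id]; rfl

theorem toΓ_ofΓ (s : Γ(Spec (CommRingCat.of B), ⊤)) : OmAff.toΓ B (ofΓ B s) = s := by
  change ((Scheme.ΓSpecIso (CommRingCat.of B)).hom ≫ (Scheme.ΓSpecIso (CommRingCat.of B)).inv).hom s = s
  rw [Iso.hom_inv_id]; rfl

theorem le_top' : (⊤ : (Spec (CommRingCat.of B)).Opens) ≤ (sf A B) ⁻¹ᵁ ⊤ := le_of_eq rfl

theorem ofΓ_appLE (a : Γ(Spec (CommRingCat.of A), ⊤)) :
    ofΓ B ((sf A B).appLE ⊤ ⊤ (le_top' A B) a) = algebraMap A B (ofΓ A a) := by
  have h1 : (sf A B).appLE ⊤ ⊤ (le_top' A B) = (sf A B).appTop := by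
    rw [Scheme.Hom.appTop, Scheme.Hom.app_eq_appLE]
    rfl
  rw [h1]
  exact congr($(Scheme.ΓSpecIso_naturality (CommRingCat.ofHom (algebraMap A B))) a)

theorem span_D_eq_top :
    Submodule.span B (Set.range (KaehlerDifferential.D A B)) = ⊤ :=
  KaehlerDifferential.span_range_derivation A B

theorem main : Function.Bijective (OmAff.toSpec A B) := by
  have hU : IsAffineOpen (⊤ : (Spec (CommRingCat.of B)).Opens) := isAffineOpen_top _
  have hV : IsAffineOpen (⊤ : (Spec (CommRingCat.of A)).Opens) := isAffineOpen_top _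
  obtain ⟨ε, hε⟩ := Groth.Agent.Lead.OmegaSecA.exists_sectionsEquiv (sf A B) hU hV (le_top' A B)
  letI alg := ((sf A B).appLE ⊤ ⊤ (le_top' A B)).hom.toAlgebra
  have hε' : ∀ s, ε (OmegaSh.dSect (sf A B) ⊤ s) =
      KaehlerDifferential.D Γ(Spec (CommRingCat.of A), ⊤) Γ(Spec (CommRingCat.of B), ⊤) s := hε
  constructor
  · -- injectivity via a left inverse
    letI modΓ : Module Γ(Spec (CommRingCat.of B), ⊤) Ω[B⁄A] := Module.compHom _ (ofΓ B)
    let M : ModuleCat.{u} Γ(Spec (CommRingCat.of B), ⊤) :=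
      ModuleCat.of Γ(Spec (CommRingCat.of B), ⊤) Ω[B⁄A]
    let D' : M.Derivation ((sf A B).appLE ⊤ ⊤ (le_top' A B)) :=
      ModuleCat.Derivation.mk (fun s => (KaehlerDifferential.D A B (ofΓ B s) : Ω[B⁄A]))
        (fun s t => by rw [map_add, map_add])
        (fun s t => by
          rw [map_mul, Derivation.leibniz]
          rfl)
        (fun a => by
          have := ofΓ_appLE A B a
          change KaehlerDifferential.D A B (ofΓ B ((sf A B).appLE ⊤ ⊤ (le_top' A B) a)) = 0
          rw [this, Derivation.map_algebraMap])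
    let L : Ω[Γ(Spec (CommRingCat.of B), ⊤)⁄Γ(Spec (CommRingCat.of A), ⊤)]
        →ₗ[Γ(Spec (CommRingCat.of B), ⊤)] Ω[B⁄A] := D'.desc.hom
    have hL : ∀ s, L (KaehlerDifferential.D Γ(Spec (CommRingCat.of A), ⊤)
        Γ(Spec (CommRingCat.of B), ⊤) s) = KaehlerDifferential.D A B (ofΓ B s) :=
      fun s => D'.desc_d s
    have key : ∀ x : Ω[B⁄A], L (ε (OmAff.toSpec A B x)) = x := by
      intro x
      have hx : x ∈ Submodule.span B (Set.range (KaehlerDifferential.D A B)) := by
        rw [span_D_eq_top]; trivial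
      induction hx using Submodule.span_induction with
      | mem y hy =>
        obtain ⟨b, rfl⟩ := hy
        rw [OmAff.toSpec_D, hε', hL, ofΓ_toΓ]
      | zero => rw [map_zero, map_zero, map_zero]
      | add y z _ _ hy hz => rw [map_add, map_add, map_add, hy, hz]
      | smul b y _ hy =>
        rw [LinearMap.map_smulₛₗ, map_smul, map_smul, hy]
        change ofΓ B (OmAff.toΓ B b) • y = b • y
        rw [ofΓ_toΓ]
    intro x y hxy
    rw [← key x, ← key y, hxy]
  · -- surjectivity
    intro m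
    have key : ∀ y : Ω[Γ(Spec (CommRingCat.of B), ⊤)⁄Γ(Spec (CommRingCat.of A), ⊤)],
        ∃ x, OmAff.toSpec A B x = ε.symm y := by
      intro y
      have hy : y ∈ Submodule.span Γ(Spec (CommRingCat.of B), ⊤)
          (Set.range (KaehlerDifferential.D Γ(Spec (CommRingCat.of A), ⊤)
            Γ(Spec (CommRingCat.of B), ⊤))) := by
        rw [KaehlerDifferential.span_range_derivation]; trivial
      induction hy using Submodule.span_induction with
      | mem z hz =>
        obtain ⟨s, rfl⟩ := hz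
        refine ⟨KaehlerDifferential.D A B (ofΓ B s), ?_⟩
        rw [OmAff.toSpec_D, toΓ_ofΓ, ← hε', LinearEquiv.symm_apply_apply]
      | zero => exact ⟨0, by rw [map_zero, map_zero]⟩
      | add y z _ _ hy hz =>
        obtain ⟨x₁, h₁⟩ := hy
        obtain ⟨x₂, h₂⟩ := hz
        exact ⟨x₁ + x₂, by rw [map_add, map_add, h₁, h₂]⟩
      | smul t y _ hy =>
        obtain ⟨x, hx⟩ := hy
        refine ⟨ofΓ B t • x, ?_⟩
        rw [LinearMap.map_smulₛₗ, map_smul, hx, toΓ_ofΓ]
    obtain ⟨x, hx⟩ := key (ε m)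
    exact ⟨x, by rw [hx, LinearEquiv.symm_apply_apply]⟩

end Groth.Agent.Helper3.OmAffSpec
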