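import Mathlib

set_option autoImplicit false
set_option linter.style.haveILetI false
set_option linter.unusedSectionVars false
set_option linter.unusedVariables false
set_option linter.deprecated false
set_option linter.style.haveILetI false
set_option linter.unusedSectionVars false
set_option linter.unusedVariables false

universe u

namespace Groth.Agent.Helper3.OmUnif1

open IsLocalRing KaehlerDifferential TensorProduct

/-- Let `O` be a noetherian local `k`-algebra, formally smooth over `k`, with separable residue
field and `Ω[O/k]` free of rank one.  For an irreducible `s`, `d s` is a basis of `Ω[O/k]`. -/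
theorem alg_core (k O : Type u) [Field k] [CommRing O] [Algebra k O] [IsLocalRing O]
    [IsNoetherianRing O] [Algebra.FormallySmooth k O]
    [Algebra.IsSeparable k (ResidueField O)]
    (φ : Ω[O⁄k] ≃ₗ[O] O) (s : O) (hs : Irreducible s) :
    Function.Bijective (fun a : O => a • D k O s) := by
  set κ := ResidueField O with hκ
  haveI : Algebra.FormallyEtale k κ := Algebra.FormallyEtale.of_isSeparable k κ
  haveI : Algebra.FormallySmooth k κ := inferInstance
  obtain ⟨l, hl⟩ := (Algebra.FormallySmooth.iff_split_injection (R := k) (P := O) (A := κ)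
    (IsLocalRing.residue_surjective)).mp inferInstance
  have hinj : Function.Injective (kerCotangentToTensor k O κ) := by
    intro x y hxy
    have := congrArg l hxy
    rw [← LinearMap.comp_apply, ← LinearMap.comp_apply, hl] at this
    simpa using this
  have hker : RingHom.ker (algebraMap O κ) = maximalIdeal O := IsLocalRing.ker_residue
  set ω : Ω[O⁄k] := φ.symm 1 with hω
  have hrepr : ∀ η : Ω[O⁄k], η = φ η • ω := by
    intro η
    apply φ.injective
    rw [map_smul, hω, LinearEquiv.apply_symm_apply, smul_eq_mul, mul_one]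
  set a : O → O := fun x => φ (D k O x) with ha
  have hD : ∀ x, D k O x = a x • ω := fun x => hrepr _
  -- the cotangent map in coordinates
  have hcot : ∀ x : RingHom.ker (algebraMap O κ),
      kerCotangentToTensor k O κ (Ideal.toCotangent _ x) = (algebraMap O κ (a x)) ⊗ₜ[O] ω := by
    intro x
    rw [kerCotangentToTensor_toCotangent, hD, TensorProduct.tmul_smul,
      TensorProduct.smul_tmul', Algebra.smul_def, mul_one]
  have hjac : maximalIdeal O ≤ Ideal.jacobson ⊥ := by
    rw [IsLocalRing.jacobson_eq_maximalIdeal ⊥ bot_ne_top]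
  have hsm : s ∈ maximalIdeal O := (mem_maximalIdeal _).mpr hs.not_isUnit
  -- some element of `m` has unit coordinate
  have h1 : ∃ t ∈ maximalIdeal O, IsUnit (a t) := by
    by_contra hcon
    push Not at hcon
    have hle : maximalIdeal O ≤ maximalIdeal O • maximalIdeal O := by
      intro x hx
      have hx' : x ∈ RingHom.ker (algebraMap O κ) := hker ▸ hx
      have h0 : kerCotangentToTensor k O κ (Ideal.toCotangent _ ⟨x, hx'⟩) = 0 := by
        rw [hcot]
        have : algebraMap O κ (a x) = 0 := by
          change residue O (a x) = 0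
          rw [residue_eq_zero_iff]
          exact (mem_maximalIdeal _).mpr (hcon x hx)
        rw [this, TensorProduct.zero_tmul]
      have h2 := hinj (h0.trans (map_zero _).symm)
      rw [Ideal.toCotangent_eq_zero] at h2
      have h2' : x ∈ RingHom.ker (algebraMap O κ) ^ 2 := h2
      rw [hker, pow_two] at h2'
      exact h2'
    have hbot := Submodule.eq_bot_of_le_smul_of_le_jacobson_bot (maximalIdeal O) (maximalIdeal O)
      (IsNoetherian.noetherian _) hle hjac
    rw [hbot] at hsm
    exact hs.ne_zero ((Submodule.mem_bot O).mp hsm)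
  obtain ⟨t, htm, hta⟩ := h1
  obtain ⟨ut, hut⟩ := hta
  have htk : t ∈ RingHom.ker (algebraMap O κ) := hker ▸ htm
  -- `m = (t)`
  have h2 : maximalIdeal O ≤ Ideal.span {t} := by
    apply Submodule.le_of_le_smul_of_le_jacobson_bot (I := maximalIdeal O)
      (IsNoetherian.noetherian _) hjac
    intro x hx
    have hx' : x ∈ RingHom.ker (algebraMap O κ) := hker ▸ hx
    set b : O := a x * (ut⁻¹ : Oˣ) with hb
    have hxb : x - b * t ∈ RingHom.ker (algebraMap O κ) :=
      Ideal.sub_mem _ hx' (Ideal.mul_mem_left _ _ htk)
    have h0 : kerCotangentToTensor k O κ (Ideal.toCotangent _ ⟨x - b * t, hxb⟩) = 0 := by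
      have e1 : (⟨x - b * t, hxb⟩ : RingHom.ker (algebraMap O κ)) =
          ⟨x, hx'⟩ - b • ⟨t, htk⟩ := by
        ext; simp
      rw [e1, map_sub, map_smul, map_sub, map_smul, hcot, hcot, TensorProduct.smul_tmul',
        ← TensorProduct.sub_tmul]
      have : algebraMap O κ (a x) - b • algebraMap O κ (a t) = 0 := by
        rw [Algebra.smul_def, ← map_mul, ← map_sub, hb, ← hut]
        have : a x - a x * ((ut⁻¹ : Oˣ) : O) * (ut : O) = 0 := by
          rw [mul_assoc, Units.inv_mul, mul_one, sub_self]
        rw [this, map_zero]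
      rw [this, TensorProduct.zero_tmul]
    have h3 := hinj (h0.trans (map_zero _).symm)
    rw [Ideal.toCotangent_eq_zero] at h3
    have h3' : x - b * t ∈ RingHom.ker (algebraMap O κ) ^ 2 := h3
    rw [hker, pow_two] at h3'
    have : x = b * t + (x - b * t) := by ring
    rw [this]
    exact Submodule.add_mem_sup (Ideal.mul_mem_left _ _ (Ideal.subset_span rfl)) h3'
  -- `s = t * c` with `c` a unit
  obtain ⟨c, hc⟩ := Ideal.mem_span_singleton.mp (h2 hsm)
  have hcu : IsUnit c := by
    rcases hs.isUnit_or_isUnit hc with h | h
    · exact absurd h ((mem_maximalIdeal _).mp htm)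
    · exact h
  obtain ⟨uc, huc⟩ := hcu
  -- `t = s * c'`
  set c' : O := ((uc⁻¹ : Oˣ) : O) with hc'
  have hts : t = s * c' := by
    rw [hc, ← huc, hc', mul_assoc, Units.mul_inv, mul_one]
  have hDt : a t • ω = s • (a c' • ω) + c' • D k O s := by
    rw [← hD, ← hD, hts, Derivation.leibniz]
  set u : O := a t - s * a c' with hu
  have huu : IsUnit u := by
    by_contra hnu
    have hum : u ∈ maximalIdeal O := (mem_maximalIdeal _).mpr hnu
    have : a t ∈ maximalIdeal O := by
      have : a t = u + s * a c' := by rw [hu]; ring
      rw [this]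
      exact Ideal.add_mem _ hum (Ideal.mul_mem_right _ _ hsm)
    exact ((mem_maximalIdeal _).mp this) ⟨ut, hut⟩
  have hDs : D k O s = ((uc : O) * u) • ω := by
    have e1 : c' • D k O s = u • ω := by
      rw [hu, sub_smul, hDt, mul_smul]
      abel
    calc D k O s = ((uc : O) * c') • D k O s := by
          rw [hc', Units.mul_inv, one_smul]
      _ = (uc : O) • (c' • D k O s) := by rw [mul_smul]
      _ = ((uc : O) * u) • ω := by rw [e1, mul_smul]
  have hv : IsUnit ((uc : O) * u) := uc.isUnit.mul huu
  obtain ⟨v, hv⟩ := hv
  have hfun : (fun a : O => a • D k O s) = fun a => φ.symm (a * v) := by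
    funext a
    rw [hDs, ← hv, hω, ← mul_smul, ← map_smul, smul_eq_mul, mul_one]
  rw [hfun]
  refine φ.symm.bijective.comp ?_
  exact ⟨fun x y h => by simpa using h, fun y => ⟨y * ((v⁻¹ : Oˣ) : O), by simp [mul_assoc]⟩⟩

end Groth.Agent.Helper3.OmUnif1

namespace Groth.Agent.Helper3.OmUnif1

open IsLocalRing KaehlerDifferential TensorProduct

/-- localisation of a standard smooth algebra of relative dimension one -/
theorem alg_chart (k S O : Type u) [Field k] [CommRing S] [Algebra k S] [CommRing O] [Algebra k O]
    [Algebra S O] [IsScalarTower k S O] (p : Ideal S) [p.IsPrime] [IsLocalization.AtPrime O p]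
    [Algebra.IsStandardSmoothOfRelativeDimension 1 k S] :
    IsNoetherianRing O ∧ Algebra.FormallySmooth k O ∧ Nonempty (Ω[O⁄k] ≃ₗ[O] O) := by
  haveI : Algebra.IsStandardSmooth k S :=
    Algebra.IsStandardSmoothOfRelativeDimension.isStandardSmooth 1
  haveI : Algebra.FiniteType k S := inferInstance
  haveI : IsNoetherianRing S := Algebra.FiniteType.isNoetherianRing k S
  haveI : IsNoetherianRing O := IsLocalization.isNoetherianRing p.primeCompl O inferInstance
  haveI : Algebra.FormallyEtale S O := Algebra.FormallyEtale.of_isLocalization p.primeCompl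
  haveI : Algebra.FormallySmooth S O := inferInstance
  haveI : Algebra.FormallySmooth k S := inferInstance
  haveI : Algebra.FormallySmooth k O := Algebra.FormallySmooth.comp k S O
  refine ⟨inferInstance, inferInstance, ?_⟩
  haveI : Nontrivial O := (IsLocalization.AtPrime.isLocalRing O p).toNontrivial
  haveI : Nontrivial S := (algebraMap S O).domain_nontrivial
  have hrank : Module.rank S Ω[S⁄k] = 1 := by
    have := Algebra.IsStandardSmoothOfRelativeDimension.rank_kaehlerDifferential
      (R := k) (S := S) 1
    simpa using this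
  obtain ⟨e₀⟩ : Nonempty (Ω[S⁄k] ≃ₗ[S] S) :=
    nonempty_linearEquiv_of_rank_eq (by rw [hrank, Module.rank_self])
  exact ⟨(tensorKaehlerEquivOfFormallyEtale k S O).symm ≪≫ₗ
    (LinearEquiv.baseChange S O _ _ e₀) ≪≫ₗ (TensorProduct.AlgebraTensorModule.rid S O O)⟩

end Groth.Agent.Helper3.OmUnif1
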