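import Mathlib
import Groth.Prelude.Def_CurvBase

set_option autoImplicit false
set_option linter.style.haveILetI false
set_option linter.unusedSectionVars false
set_option linter.unusedVariables false
set_option linter.deprecated false
set_option linter.style.haveILetI false
set_option linter.unusedSectionVars false
set_option linter.unusedVariables false

universe u v w

namespace Groth.Agent.Helper3.TameSep2

open AlgebraicGeometry CategoryTheory IsLocalRing KaehlerDifferential TensorProduct

/-- compatibility of the maps from `k` to local rings with a `k`-morphism -/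
theorem stalkMap_comp (k : Type u) [Field k] (X Y : Scheme.{u})
    [X.Over (Spec (CommRingCat.of k))] [Y.Over (Spec (CommRingCat.of k))] (f : X ⟶ Y)
    (hf : f ≫ (Y ↘ Spec (CommRingCat.of k)) = X ↘ Spec (CommRingCat.of k)) (x : X) (r : k) :
    (f.stalkMap x).hom (Curv2.stalkMap k Y (f x) r) = Curv2.stalkMap k X x r := by
  unfold Curv2.stalkMap Coh.toGlobal
  simp only [RingHom.comp_apply]
  have h := Scheme.Hom.germ_stalkMap f ⊤ x trivial
  have h2 := congrArg (fun φ => φ.hom (((Y ↘ Spec (CommRingCat.of k)).appTop).hom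
    ((Scheme.ΓSpecIso (CommRingCat.of k)).inv.hom r))) h
  simp only [CommRingCat.hom_comp, RingHom.comp_apply] at h2
  rw [h2]
  have h3 : (X ↘ Spec (CommRingCat.of k)).appTop =
      (Y ↘ Spec (CommRingCat.of k)).appTop ≫ f.appTop := by
    rw [← hf, Scheme.Hom.comp_appTop]
  rw [h3]
  rfl

/-- the ring map `k → Γ(X, V)` -/
noncomputable def secMap (k : Type u) [Field k] (X : Scheme.{u})
    [X.Over (Spec (CommRingCat.of k))] (V : X.Opens) : k →+* Γ(X, V) :=
  (X.presheaf.map (homOfLE (le_top : V ≤ ⊤)).op).hom.comp
    (Coh.toGlobal (X ↘ Spec (CommRingCat.of k)))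

theorem germ_secMap (k : Type u) [Field k] (X : Scheme.{u})
    [X.Over (Spec (CommRingCat.of k))] (V : X.Opens) (x : X) (hx : x ∈ V) (r : k) :
    X.presheaf.germ V x hx (secMap k X V r) = Curv2.stalkMap k X x r := by
  unfold secMap Curv2.stalkMap
  simp only [RingHom.comp_apply]
  exact TopCat.Presheaf.germ_res_apply _ _ _ _ _

theorem secMap_eq_appLE (k : Type u) [Field k] (X : Scheme.{u})
    [X.Over (Spec (CommRingCat.of k))] (V : X.Opens)
    (e : V ≤ (X ↘ Spec (CommRingCat.of k)) ⁻¹ᵁ ⊤) :
    secMap k X V = ((X ↘ Spec (CommRingCat.of k)).appLE ⊤ V e).hom.comp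
      (Scheme.ΓSpecIso (CommRingCat.of k)).inv.hom := by
  ext r
  unfold secMap Coh.toGlobal
  simp only [RingHom.comp_apply, Scheme.Hom.appLE, CommRingCat.hom_comp]
  rfl

/-- every open of `Spec k` containing a point is everything -/
theorem opens_eq_top (k : Type u) [Field k] (U : (Spec (CommRingCat.of k)).Opens)
    (y : Spec (CommRingCat.of k)) (hy : y ∈ U) : U = ⊤ := by
  ext z
  haveI : Subsingleton (Spec (CommRingCat.of k)) :=
    inferInstanceAs (Subsingleton (PrimeSpectrum k))
  simp only [TopologicalSpace.Opens.coe_top, Set.mem_univ, iff_true]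
  rw [Subsingleton.elim z y]
  exact hy

/-- a standard smooth chart of relative dimension one around a point of a smooth curve -/
theorem exists_chart (k : Type u) [Field k] (X : Scheme.{u})
    [X.Over (Spec (CommRingCat.of k))]
    [SmoothOfRelativeDimension 1 (X ↘ Spec (CommRingCat.of k))] (x : X) :
    ∃ (V : X.Opens) (_ : IsAffineOpen V) (_ : x ∈ V),
      (secMap k X V).IsStandardSmoothOfRelativeDimension 1 := by
  obtain ⟨U, hU, V, hV, hxV, e, hstd⟩ :=
    SmoothOfRelativeDimension.exists_isStandardSmoothOfRelativeDimension (n := 1)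
      (f := X ↘ Spec (CommRingCat.of k)) x
  have hUtop : U = ⊤ := opens_eq_top k U _ (e hxV)
  subst hUtop
  refine ⟨V, hV, hxV, ?_⟩
  rw [secMap_eq_appLE k X V e]
  have h0 := RingHom.IsStandardSmoothOfRelativeDimension.equiv
    (Scheme.ΓSpecIso (CommRingCat.of k)).symm.commRingCatIsoToRingEquiv
  have := hstd.comp h0
  exact this

end Groth.Agent.Helper3.TameSep2
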