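import Mathlib
import Groth.Prelude.Def_CurvBase
import Groth.Agent.Helper3.TameSep2
import Groth.Agent.Helper3.OmUnif1

set_option autoImplicit false
set_option linter.style.haveILetI false
set_option linter.unusedSectionVars false
set_option linter.unusedVariables false
set_option linter.deprecated false
set_option linter.style.haveILetI false
set_option linter.unusedSectionVars false
set_option linter.unusedVariables false

universe u

namespace Groth.Agent.Helper3.OmUnif2

open AlgebraicGeometry CategoryTheory IsLocalRing KaehlerDifferential TensorProduct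
open Groth.Agent.Helper3.TameSep2

attribute [local instance] Curv2.resAlgebra Curv2.stalkAlgebra

theorem s6555 (k : Type u) [Field k] (X : Scheme.{u}) [X.Over (Spec (CommRingCat.of k))]
    (x : X) (hx : IsClosed ({x} : Set X))
    (hsm : ∃ U : X.Opens, x ∈ U ∧ SmoothOfRelativeDimension 1 (U.ι ≫ (X ↘ (Spec (CommRingCat.of k)))))
    (hsep : Algebra.IsSeparable k (X.residueField x))
    (s : X.presheaf.stalk x) (hs : Irreducible s) :
    Function.Bijective (fun a : X.presheaf.stalk x => a • KaehlerDifferential.D k (X.presheaf.stalk x) s) := by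
  obtain ⟨U, hxU, hsmU⟩ := hsm
  letI ovU : U.toScheme.Over (Spec (CommRingCat.of k)) := ⟨U.ι ≫ (X ↘ (Spec (CommRingCat.of k)))⟩
  haveI : SmoothOfRelativeDimension 1 (U.toScheme ↘ Spec (CommRingCat.of k)) := hsmU
  set x' : U := ⟨x, hxU⟩ with hx'
  obtain ⟨V, hV, hxV, hstd⟩ := exists_chart k U.toScheme x'
  letI algS : Algebra k Γ(U.toScheme, V) := (secMap k U.toScheme V).toAlgebra
  haveI hstd' : Algebra.IsStandardSmoothOfRelativeDimension 1 k Γ(U.toScheme, V) := hstd
  letI algSO' : Algebra Γ(U.toScheme, V) (U.toScheme.presheaf.stalk x') :=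
    U.toScheme.presheaf.algebra_section_stalk ⟨x', hxV⟩
  haveI loc : IsLocalization.AtPrime (U.toScheme.presheaf.stalk x')
      (hV.primeIdealOf ⟨x', hxV⟩).asIdeal := hV.isLocalization_stalk ⟨x', hxV⟩
  have hιx : U.ι x' = x := rfl
  let ψ : X.presheaf.stalk x →+* U.toScheme.presheaf.stalk x' := (U.ι.stalkMap x').hom
  have hψ : Function.Bijective ψ := by
    have : IsIso (U.ι.stalkMap x') := inferInstance
    exact (ConcreteCategory.isIso_iff_bijective _).mp this
  let εr : X.presheaf.stalk x ≃+* U.toScheme.presheaf.stalk x' := RingEquiv.ofBijective ψ hψ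
  letI algSO : Algebra Γ(U.toScheme, V) (X.presheaf.stalk x) :=
    (εr.symm.toRingHom.comp (algebraMap Γ(U.toScheme, V) (U.toScheme.presheaf.stalk x'))).toAlgebra
  haveI tower : IsScalarTower k Γ(U.toScheme, V) (X.presheaf.stalk x) := by
    refine IsScalarTower.of_algebraMap_eq (fun r => ?_)
    change Curv2.stalkMap k X x r = εr.symm (U.toScheme.presheaf.germ V x' hxV (secMap k U.toScheme V r))
    rw [germ_secMap, RingEquiv.eq_symm_apply]
    exact stalkMap_comp k U.toScheme X U.ι rfl x' r
  let εa : U.toScheme.presheaf.stalk x' ≃ₐ[Γ(U.toScheme, V)] X.presheaf.stalk x :=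
    AlgEquiv.ofRingEquiv (f := εr.symm) (fun _ => rfl)
  haveI loc' : IsLocalization.AtPrime (X.presheaf.stalk x) (hV.primeIdealOf ⟨x', hxV⟩).asIdeal :=
    IsLocalization.isLocalization_of_algEquiv _ εa
  obtain ⟨hN, hF, ⟨φ⟩⟩ := Groth.Agent.Helper3.OmUnif1.alg_chart k Γ(U.toScheme, V)
    (X.presheaf.stalk x) (hV.primeIdealOf ⟨x', hxV⟩).asIdeal
  haveI := hN
  haveI := hF
  have hinst : (IsLocalRing.ResidueField.algebra _ : Algebra k (ResidueField (X.presheaf.stalk x))) =
      Curv2.resAlgebra k X x := Algebra.algebra_ext _ _ (fun r => rfl)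
  haveI : @Algebra.IsSeparable k (ResidueField (X.presheaf.stalk x)) _ _
      (IsLocalRing.ResidueField.algebra _) := by
    rw [hinst]; exact hsep
  exact Groth.Agent.Helper3.OmUnif1.alg_core k (X.presheaf.stalk x) φ s hs

end Groth.Agent.Helper3.OmUnif2
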