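import Mathlib
import Groth.Prelude.Def_CAlg
import Groth.Prelude.Def_QFDual
import Groth.Agent.Helper3.OmegaGor1
import Groth.Agent.Helper3.OmegaGor3
import Groth.Agent.Helper5.SyntCM1
import Groth.Agent.Helper7.GorAnn3

/-!
# `ω_{B/k} ≅ B` for Gorenstein finite algebras over a field; zero-dimensional complete
intersections
-/

set_option autoImplicit false
set_option linter.style.haveILetI false
set_option linter.unusedSectionVars false
set_option linter.unusedVariables false
set_option linter.deprecated false
set_option linter.style.haveILetI false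
set_option linter.unusedSectionVars false
set_option linter.unusedVariables false

universe u

namespace Groth.Agent.Helper3.OmegaGor

open TensorProduct Module Matrix

/-- for a Gorenstein finite algebra `C` over a field `k`, `ω_{C/k} ≅ C` -/
theorem nonempty_omega_equiv_of_gorenstein (k : Type u) [Field k] (C : Type u) [CommRing C]
    [Algebra k C] [Module.Finite k C] [hG : LocCoh.IsGorensteinRing C] :
    Nonempty (Disc.Omega k C ≃ₗ[C] C) := by
  obtain ⟨l, hl⟩ := exists_nondeg (k := k) (C := C)
  have hbij := formMap_bijective l hl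
  have h1 : Function.Bijective (muMap l) := by
    constructor
    · rw [injective_iff_map_eq_zero]
      intro c hc
      apply hl
      intro c'
      rw [← muMap_apply, hc]
      rfl
    · intro ψ
      obtain ⟨c, hc⟩ := hbij.2 ψ.toLinearMap
      refine ⟨c, ?_⟩
      apply Disc.Omega.ext
      rw [← hc]
      rfl
  exact ⟨(LinearEquiv.ofBijective (muMap l) h1).symm⟩

/-- a zero-dimensional global complete intersection over a field has `ω ≅ B` -/
theorem s8935 (k : Type u) [Field k] (n : ℕ) (f : Fin n → MvPolynomial (Fin n) k)
    (h0 : ringKrullDim (MvPolynomial (Fin n) k ⧸ Ideal.span (Set.range f)) = 0) :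
    Nonempty (Disc.Omega k (MvPolynomial (Fin n) k ⧸ Ideal.span (Set.range f))
      ≃ₗ[MvPolynomial (Fin n) k ⧸ Ideal.span (Set.range f)]
        (MvPolynomial (Fin n) k ⧸ Ideal.span (Set.range f))) := by
  have hht : (n : ℕ∞) ≤ (Ideal.span (Set.range f)).height := by
    apply Groth.Agent.Helper5.SyntCM.le_height_of_dim_quot_le k n n le_rfl
    rw [h0, Nat.sub_self]
    rfl
  haveI hG : LocCoh.IsGorensteinRing (MvPolynomial (Fin n) k ⧸ Ideal.span (Set.range f)) :=
    Groth.Agent.Helper7.GorAnn.gorenstein_of_ci k n n f _ rfl hht
  haveI : Ring.KrullDimLE 0 (MvPolynomial (Fin n) k ⧸ Ideal.span (Set.range f)) := by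
    rw [Ring.krullDimLE_iff, h0]
    rfl
  haveI : Module.Finite k (MvPolynomial (Fin n) k ⧸ Ideal.span (Set.range f)) :=
    (Module.finite_iff_krullDimLE_zero k _).2 inferInstance
  exact nonempty_omega_equiv_of_gorenstein k _

end Groth.Agent.Helper3.OmegaGor
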