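import Mathlib
import Groth.Prelude.Def_CAlg
import Groth.Prelude.Def_QFDual
import Groth.Agent.Helper3.OmegaGor4

/-!
# Norms of the different and the discriminant (finite free, `ω` invertible)
-/

set_option autoImplicit false
set_option linter.style.haveILetI false
set_option linter.unusedSectionVars false
set_option linter.unusedVariables false
set_option linter.deprecated false
set_option linter.style.haveILetI false
set_option linter.unusedSectionVars false
set_option linter.unusedVariables false

universe u

namespace Groth.Agent.Helper3.OmegaGor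

open TensorProduct Module Matrix

section Norm

variable {A B : Type u} [CommRing A] [CommRing B] [Algebra A B]
variable {ι : Type*} [Fintype ι] [DecidableEq ι] (β : Basis ι A B)

theorem gram_comp_mulLeft (φ : B →ₗ[A] A) (x : B) :
    gram β (φ ∘ₗ LinearMap.mulLeft A x) = (Algebra.leftMulMatrix β x)ᵀ * gram β φ := by
  ext i j
  have h1 : gram β (φ ∘ₗ LinearMap.mulLeft A x) i j = φ ((x * β i) * β j) := by
    show φ (x * (β i * β j)) = _
    rw [mul_assoc]
  rw [h1, apply_mul_basis, Matrix.mul_apply]
  simp only [Matrix.vecMul, dotProduct, Matrix.transpose_apply]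
  refine Finset.sum_congr rfl fun k _ => ?_
  rw [Algebra.leftMulMatrix_eq_repr_mul]
  rfl

theorem det_gram_comp_mulLeft (φ : B →ₗ[A] A) (x : B) :
    (gram β (φ ∘ₗ LinearMap.mulLeft A x)).det = Algebra.norm A x * (gram β φ).det := by
  rw [gram_comp_mulLeft, Matrix.det_mul, Matrix.det_transpose, Algebra.norm_eq_matrix_det β]

theorem gram_trace : gram β (Algebra.trace A B) = Algebra.traceMatrix A β := by
  ext i j
  rfl

theorem gram_smul (φ : B →ₗ[A] A) (a : A) : gram β (a • φ) = a • gram β φ := by
  ext i j
  rfl

/-- if `ω` is invertible the Gram determinants generate the unit ideal -/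
theorem span_gram_eq_top [hinv : Module.Invertible B (Disc.Omega A B)] :
    Ideal.span (Set.range fun φ : B →ₗ[A] A => (gram β φ).det) = ⊤ := by
  haveI : Module.Finite A B := Module.Finite.of_basis β
  haveI : Module.Free A B := Module.Free.of_basis β
  by_contra hne
  obtain ⟨m, hm, hle⟩ := Ideal.exists_le_maximal _ hne
  haveI := hm.isPrime
  haveI : LocCoh.IsGorensteinRing (m.Fiber B) := (main (A := A) (B := B)).2 hinv m
  obtain ⟨φ, hφ⟩ := exists_gram_not_mem β m
  exact hφ (hle (Ideal.subset_span ⟨φ, rfl⟩))

/-- **S2229** -/
theorem s2229 [hinv : Module.Invertible B (Disc.Omega A B)] :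
    Ideal.span (Algebra.norm A '' Disc.differentSet A B) = Ideal.span {Algebra.discr A β} := by
  have htop := span_gram_eq_top β
  have hdiscr : Algebra.discr A β = (gram β (Algebra.trace A B)).det := by
    rw [gram_trace, Algebra.discr_def]
  apply le_antisymm
  · rw [Ideal.span_le]
    rintro _ ⟨x, hx, rfl⟩
    -- the ideal of `a` with `a * N x ∈ (discr)`
    let K : Ideal A := Submodule.comap (LinearMap.mulRight A (Algebra.norm A x))
      (Ideal.span {Algebra.discr A β})
    have hK : Ideal.span (Set.range fun φ : B →ₗ[A] A => (gram β φ).det) ≤ K := by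
      rw [Ideal.span_le]
      rintro _ ⟨φ, rfl⟩
      show (gram β φ).det * Algebra.norm A x ∈ Ideal.span {Algebra.discr A β}
      obtain ⟨c, hc⟩ := hx φ
      have h1 : φ ∘ₗ LinearMap.mulLeft A x = (Algebra.trace A B) ∘ₗ LinearMap.mulLeft A c := by
        apply LinearMap.ext
        intro y
        exact hc y
      have h2 := det_gram_comp_mulLeft β φ x
      rw [h1, det_gram_comp_mulLeft, ← hdiscr] at h2
      rw [mul_comm, ← h2]
      exact Ideal.mul_mem_left _ _ (Ideal.mem_span_singleton_self _)
    have h1 : (1 : A) ∈ K := hK (htop ▸ Submodule.mem_top)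
    have h2 : (1 : A) * Algebra.norm A x ∈ Ideal.span {Algebra.discr A β} := h1
    rwa [one_mul] at h2
  · rw [Ideal.span_le, Set.singleton_subset_iff]
    set n := Fintype.card ι with hn
    let K : Ideal A := Submodule.comap (LinearMap.mulRight A (Algebra.discr A β))
      (Ideal.span (Algebra.norm A '' Disc.differentSet A B))
    have hpow := Ideal.span_pow_eq_top _ htop (2 * n)
    have hK : Ideal.span ((fun a : A => a ^ (2 * n)) ''
        (Set.range fun φ : B →ₗ[A] A => (gram β φ).det)) ≤ K := by
      rw [Ideal.span_le]
      rintro _ ⟨_, ⟨φ, rfl⟩, rfl⟩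
      show (gram β φ).det ^ (2 * n) * Algebra.discr A β ∈
        Ideal.span (Algebra.norm A '' Disc.differentSet A B)
      set d := (gram β φ).det with hd
      let τ : Disc.Omega A B := ⟨Algebra.trace A B⟩
      let nτ := nuMap β φ τ
      let x : B := algebraMap A B d * nτ
      have hτ : muMap φ nτ = algebraMap A B d • τ := muMap_nuMap β φ τ
      -- `x` lies in the different
      have hx : x ∈ Disc.differentSet A B := by
        intro ψ
        let Ψ : Disc.Omega A B := ⟨ψ⟩
        have hΨ : muMap φ (nuMap β φ Ψ) = algebraMap A B d • Ψ := muMap_nuMap β φ Ψ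
        refine ⟨nuMap β φ Ψ * algebraMap A B d, fun y => ?_⟩
        have e1 : x • Ψ = (nuMap β φ Ψ * algebraMap A B d) • τ := by
          show (algebraMap A B d * nτ) • Ψ = _
          rw [mul_comm, mul_smul, ← hΨ]
          show nτ • (nuMap β φ Ψ • (⟨φ⟩ : Disc.Omega A B)) = _
          rw [smul_comm]
          have : nτ • (⟨φ⟩ : Disc.Omega A B) = algebraMap A B d • τ := hτ
          rw [this, ← mul_smul]
        have := congrArg (fun l : Disc.Omega A B => l.toLinearMap y) e1
        exact this
      -- norms
      have hN1 : Algebra.norm A x = d ^ n * Algebra.norm A nτ := by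
        show Algebra.norm A (algebraMap A B d * nτ) = _
        rw [map_mul, Algebra.norm_algebraMap_of_basis β]
      have hN2 : Algebra.norm A nτ * d = d ^ n * Algebra.discr A β := by
        have h1 : φ ∘ₗ LinearMap.mulLeft A nτ = d • Algebra.trace A B := by
          apply LinearMap.ext
          intro y
          have := congrArg (fun l : Disc.Omega A B => l.toLinearMap y) hτ
          simp only [muMap_apply, Disc.Omega.smul_toLinearMap_apply] at this
          rw [LinearMap.comp_apply, LinearMap.mulLeft_apply, this, LinearMap.smul_apply,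
            ← Algebra.smul_def, map_smul]
        have h2 := det_gram_comp_mulLeft β φ nτ
        rw [h1, gram_smul, Matrix.det_smul, ← hdiscr] at h2
        rw [← hn] at h2
        rw [← hd] at h2
        exact h2.symm
      have hkey : d ^ (2 * n) * Algebra.discr A β = d * Algebra.norm A x := by
        rw [hN1, two_mul, pow_add, mul_assoc, ← hN2]
        ring
      rw [hkey]
      exact Ideal.mul_mem_left _ _ (Ideal.subset_span ⟨x, hx, rfl⟩)
    have h1 : (1 : A) ∈ K := hK (hpow ▸ Submodule.mem_top)
    have h2 : (1 : A) * Algebra.discr A β ∈ Ideal.span (Algebra.norm A '' Disc.differentSet A B) := h1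
    rwa [one_mul] at h2

end Norm

end Groth.Agent.Helper3.OmegaGor
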