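import Mathlib
import Groth.Prelude.Def_Disc
import Groth.Prelude.Def_QFDual

/-!
# The relative dualizing module of a product
-/

set_option autoImplicit false
set_option linter.style.haveILetI false
set_option linter.unusedSectionVars false
set_option linter.unusedVariables false
set_option linter.deprecated false
set_option linter.style.haveILetI false
set_option linter.unusedSectionVars false
set_option linter.unusedVariables false

universe u

namespace Groth.Agent.Helper3.OmegaProd

open TensorProduct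

section Res

variable {A B' C' : Type u} [CommRing A] [CommRing B'] [CommRing C'] [Algebra A B'] [Algebra A C']

def resL (φ : Disc.Omega A (B' × C')) : Disc.Omega A B' :=
  ⟨φ.toLinearMap ∘ₗ LinearMap.inl A B' C'⟩
def resR (φ : Disc.Omega A (B' × C')) : Disc.Omega A C' :=
  ⟨φ.toLinearMap ∘ₗ LinearMap.inr A B' C'⟩
def extL (ψ : Disc.Omega A B') : Disc.Omega A (B' × C') :=
  ⟨ψ.toLinearMap ∘ₗ LinearMap.fst A B' C'⟩
def extR (ψ : Disc.Omega A C') : Disc.Omega A (B' × C') :=
  ⟨ψ.toLinearMap ∘ₗ LinearMap.snd A B' C'⟩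

theorem resL_add (φ φ' : Disc.Omega A (B' × C')) : resL (φ + φ') = resL φ + resL φ' := by
  apply Disc.Omega.ext; apply LinearMap.ext; intro x; rfl
theorem resR_add (φ φ' : Disc.Omega A (B' × C')) : resR (φ + φ') = resR φ + resR φ' := by
  apply Disc.Omega.ext; apply LinearMap.ext; intro x; rfl
theorem resL_zero : resL (0 : Disc.Omega A (B' × C')) = 0 := by
  apply Disc.Omega.ext; apply LinearMap.ext; intro x; rfl
theorem resR_zero : resR (0 : Disc.Omega A (B' × C')) = 0 := by
  apply Disc.Omega.ext; apply LinearMap.ext; intro x; rfl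
theorem extL_add (ψ ψ' : Disc.Omega A B') : extL (C' := C') (ψ + ψ') = extL ψ + extL ψ' := by
  apply Disc.Omega.ext; apply LinearMap.ext; intro x; rfl
theorem extR_add (ψ ψ' : Disc.Omega A C') : extR (B' := B') (ψ + ψ') = extR ψ + extR ψ' := by
  apply Disc.Omega.ext; apply LinearMap.ext; intro x; rfl
theorem extL_zero : extL (C' := C') (0 : Disc.Omega A B') = 0 := by
  apply Disc.Omega.ext; apply LinearMap.ext; intro x; rfl
theorem extR_zero : extR (B' := B') (0 : Disc.Omega A C') = 0 := by
  apply Disc.Omega.ext; apply LinearMap.ext; intro x; rfl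

theorem resL_smul (r : B' × C') (φ : Disc.Omega A (B' × C')) : resL (r • φ) = r.1 • resL φ := by
  apply Disc.Omega.ext; apply LinearMap.ext; intro x
  show φ.toLinearMap (r * (x, 0)) = φ.toLinearMap (r.1 * x, 0)
  congr 1
  ext <;> simp
theorem resR_smul (r : B' × C') (φ : Disc.Omega A (B' × C')) : resR (r • φ) = r.2 • resR φ := by
  apply Disc.Omega.ext; apply LinearMap.ext; intro x
  show φ.toLinearMap (r * (0, x)) = φ.toLinearMap (0, r.2 * x)
  congr 1
  ext <;> simp
theorem extL_smul (b' : B') (c' : C') (ψ : Disc.Omega A B') :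
    extL (C' := C') (b' • ψ) = ((b', c') : B' × C') • extL ψ := by
  apply Disc.Omega.ext; apply LinearMap.ext; intro x
  rfl
theorem extR_smul (b' : B') (c' : C') (ψ : Disc.Omega A C') :
    extR (B' := B') (c' • ψ) = ((b', c') : B' × C') • extR ψ := by
  apply Disc.Omega.ext; apply LinearMap.ext; intro x
  rfl

theorem resL_extL (ψ : Disc.Omega A B') : resL (extL (C' := C') ψ) = ψ := by
  apply Disc.Omega.ext; apply LinearMap.ext; intro x; rfl
theorem resR_extR (ψ : Disc.Omega A C') : resR (extR (B' := B') ψ) = ψ := by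
  apply Disc.Omega.ext; apply LinearMap.ext; intro x; rfl
theorem resR_extL (ψ : Disc.Omega A B') : resR (extL (C' := C') ψ) = 0 := by
  apply Disc.Omega.ext; apply LinearMap.ext; intro x
  show ψ.toLinearMap 0 = 0
  rw [map_zero]
theorem resL_extR (ψ : Disc.Omega A C') : resL (extR (B' := B') ψ) = 0 := by
  apply Disc.Omega.ext; apply LinearMap.ext; intro x
  show ψ.toLinearMap 0 = 0
  rw [map_zero]
theorem extL_resL (φ : Disc.Omega A (B' × C')) : extL (resL φ) = ((1, 0) : B' × C') • φ := by
  apply Disc.Omega.ext; apply LinearMap.ext; intro x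
  show φ.toLinearMap (x.1, 0) = φ.toLinearMap (((1, 0) : B' × C') * x)
  congr 1
  ext <;> simp
theorem extR_resR (φ : Disc.Omega A (B' × C')) : extR (resR φ) = ((0, 1) : B' × C') • φ := by
  apply Disc.Omega.ext; apply LinearMap.ext; intro x
  show φ.toLinearMap (0, x.2) = φ.toLinearMap (((0, 1) : B' × C') * x)
  congr 1
  ext <;> simp

end Res


section Main

variable {A B' B C' C : Type u} [CommRing A] [CommRing B'] [CommRing B] [CommRing C'] [CommRing C]
  [Algebra A B'] [Algebra B' B] [Algebra A B] [IsScalarTower A B' B]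
  [Algebra A C'] [Algebra C' C] [Algebra A C] [IsScalarTower A C' C]
  [Algebra (B' × C') (B × C)] [IsScalarTower A (B' × C') (B × C)]
  (halg : algebraMap (B' × C') (B × C) = (algebraMap B' B).prodMap (algebraMap C' C))

include halg in
theorem smul_prod (r : B' × C') (m : B × C) : r • m = (r.1 • m.1, r.2 • m.2) := by
  rw [Algebra.smul_def, halg]
  ext
  · simp [Algebra.smul_def]
  · simp [Algebra.smul_def]

/-- the forward map -/
noncomputable def fwd : QFDual.omega A (B' × C') (B × C) →+ QFDual.omega A B' B × QFDual.omega A C' C :=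
  TensorProduct.liftAddHom
    (AddMonoidHom.mk' (fun m : B × C =>
      AddMonoidHom.mk' (fun φ : Disc.Omega A (B' × C') =>
        ((m.1 ⊗ₜ[B'] resL φ, m.2 ⊗ₜ[C'] resR φ) : QFDual.omega A B' B × QFDual.omega A C' C))
        (fun φ φ' => by
          rw [resL_add, resR_add, tmul_add, tmul_add]
          rfl))
      (fun m m' => by
        apply AddMonoidHom.ext
        intro φ
        show ((m + m').1 ⊗ₜ[B'] resL φ, (m + m').2 ⊗ₜ[C'] resR φ) =
          (m.1 ⊗ₜ[B'] resL φ, m.2 ⊗ₜ[C'] resR φ) + (m'.1 ⊗ₜ[B'] resL φ, m'.2 ⊗ₜ[C'] resR φ)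
        rw [Prod.fst_add, Prod.snd_add, add_tmul, add_tmul]
        rfl))
    (fun r m φ => by
      show ((r • m).1 ⊗ₜ[B'] resL φ, (r • m).2 ⊗ₜ[C'] resR φ) =
        (m.1 ⊗ₜ[B'] resL (r • φ), m.2 ⊗ₜ[C'] resR (r • φ))
      rw [smul_prod halg, resL_smul, resR_smul, smul_tmul, smul_tmul])

theorem fwd_tmul (m : B × C) (φ : Disc.Omega A (B' × C')) :
    fwd (A := A) halg (m ⊗ₜ[B' × C'] φ) = (m.1 ⊗ₜ[B'] resL φ, m.2 ⊗ₜ[C'] resR φ) := rfl

/-- the backward map on the first factor -/
noncomputable def bwdL : QFDual.omega A B' B →+ QFDual.omega A (B' × C') (B × C) :=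
  TensorProduct.liftAddHom
    (AddMonoidHom.mk' (fun b : B =>
      AddMonoidHom.mk' (fun ψ : Disc.Omega A B' =>
        (((b, 0) : B × C) ⊗ₜ[B' × C'] (extL ψ : Disc.Omega A (B' × C'))))
        (fun ψ ψ' => by rw [extL_add, tmul_add]))
      (fun b b' => by
        apply AddMonoidHom.ext
        intro ψ
        show ((b + b', 0) : B × C) ⊗ₜ[B' × C'] (extL ψ : Disc.Omega A (B' × C')) =
          ((b, 0) : B × C) ⊗ₜ[B' × C'] extL ψ + ((b', 0) : B × C) ⊗ₜ[B' × C'] extL ψ
        rw [← add_tmul]
        congr 1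
        ext <;> simp))
    (fun r b ψ => by
      show ((r • b, 0) : B × C) ⊗ₜ[B' × C'] (extL ψ : Disc.Omega A (B' × C')) =
        ((b, 0) : B × C) ⊗ₜ[B' × C'] extL (r • ψ)
      rw [extL_smul r 0 ψ, ← smul_tmul]
      congr 1
      rw [smul_prod halg]
      ext <;> simp)

/-- the backward map on the second factor -/
noncomputable def bwdR : QFDual.omega A C' C →+ QFDual.omega A (B' × C') (B × C) :=
  TensorProduct.liftAddHom
    (AddMonoidHom.mk' (fun c : C =>
      AddMonoidHom.mk' (fun ψ : Disc.Omega A C' =>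
        (((0, c) : B × C) ⊗ₜ[B' × C'] (extR ψ : Disc.Omega A (B' × C'))))
        (fun ψ ψ' => by rw [extR_add, tmul_add]))
      (fun c c' => by
        apply AddMonoidHom.ext
        intro ψ
        show ((0, c + c') : B × C) ⊗ₜ[B' × C'] (extR ψ : Disc.Omega A (B' × C')) =
          ((0, c) : B × C) ⊗ₜ[B' × C'] extR ψ + ((0, c') : B × C) ⊗ₜ[B' × C'] extR ψ
        rw [← add_tmul]
        congr 1
        ext <;> simp))
    (fun r c ψ => by
      show ((0, r • c) : B × C) ⊗ₜ[B' × C'] (extR ψ : Disc.Omega A (B' × C')) =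
        ((0, c) : B × C) ⊗ₜ[B' × C'] extR (r • ψ)
      rw [extR_smul 0 r ψ, ← smul_tmul]
      congr 1
      rw [smul_prod halg]
      ext <;> simp)

theorem bwdL_tmul (b : B) (ψ : Disc.Omega A B') :
    bwdL (A := A) halg (b ⊗ₜ[B'] ψ) = ((b, 0) : B × C) ⊗ₜ[B' × C'] extL ψ := rfl
theorem bwdR_tmul (c : C) (ψ : Disc.Omega A C') :
    bwdR (A := A) halg (c ⊗ₜ[C'] ψ) = ((0, c) : B × C) ⊗ₜ[B' × C'] extR ψ := rfl

theorem fwd_bwdL (x : QFDual.omega A B' B) :
    fwd (A := A) halg (bwdL (A := A) halg x) = (x, 0) := by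
  induction x using TensorProduct.induction_on with
  | zero => rw [map_zero, map_zero]; rfl
  | tmul b ψ =>
    rw [bwdL_tmul, fwd_tmul, resL_extL, resR_extL]
    simp
  | add x y hx hy =>
    rw [map_add, map_add, hx, hy]
    simp

theorem fwd_bwdR (x : QFDual.omega A C' C) :
    fwd (A := A) halg (bwdR (A := A) halg x) = (0, x) := by
  induction x using TensorProduct.induction_on with
  | zero => rw [map_zero, map_zero]; rfl
  | tmul c ψ =>
    rw [bwdR_tmul, fwd_tmul, resR_extR, resL_extR]
    simp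
  | add x y hx hy =>
    rw [map_add, map_add, hx, hy]
    simp

theorem bwd_fwd (z : QFDual.omega A (B' × C') (B × C)) :
    bwdL (A := A) halg (fwd (A := A) halg z).1 +
      bwdR (A := A) halg (fwd (A := A) halg z).2 = z := by
  induction z using TensorProduct.induction_on with
  | zero => simp
  | tmul m φ =>
    rw [fwd_tmul, bwdL_tmul, bwdR_tmul, extL_resL, extR_resR, ← smul_tmul, ← smul_tmul, ← add_tmul]
    congr 1
    rw [smul_prod halg, smul_prod halg]
    ext <;> simp
  | add x y hx hy =>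
    rw [map_add, Prod.fst_add, Prod.snd_add, map_add, map_add]
    conv_rhs => rw [← hx, ← hy]
    abel

end Main


section Final

variable {A B' B C' C : Type u} [CommRing A] [CommRing B'] [CommRing B] [CommRing C'] [CommRing C]
  [Algebra A B'] [Algebra B' B] [Algebra A B] [IsScalarTower A B' B]
  [Algebra A C'] [Algebra C' C] [Algebra A C] [IsScalarTower A C' C]
  [Algebra (B' × C') (B × C)] [IsScalarTower A (B' × C') (B × C)]

theorem fwd_smul (halg : algebraMap (B' × C') (B × C) = (algebraMap B' B).prodMap (algebraMap C' C))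
    (a : A) (z : QFDual.omega A (B' × C') (B × C)) :
    fwd (A := A) halg (a • z) = a • fwd (A := A) halg z := by
  induction z using TensorProduct.induction_on with
  | zero => rw [smul_zero, map_zero, smul_zero]
  | tmul m φ =>
    rw [TensorProduct.smul_tmul', fwd_tmul, fwd_tmul, Prod.smul_mk]
    refine Prod.ext ?_ ?_
    · exact (TensorProduct.smul_tmul' a m.1 _)
    · exact (TensorProduct.smul_tmul' a m.2 _)
  | add x y hx hy => rw [smul_add, map_add, hx, hy, map_add, smul_add]

/-- **S8975** -/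
theorem s8975 (halg : algebraMap (B' × C') (B × C) = (algebraMap B' B).prodMap (algebraMap C' C)) :
    ∃ e : QFDual.omega A (B' × C') (B × C) ≃ₗ[A] QFDual.omega A B' B × QFDual.omega A C' C,
      ∀ (b : B) (c : C) (φ : Disc.Omega A (B' × C')),
        e ((b, c) ⊗ₜ[B' × C'] φ) =
          (b ⊗ₜ[B'] Disc.Omega.mk (φ.toLinearMap ∘ₗ LinearMap.inl A B' C'),
            c ⊗ₜ[C'] Disc.Omega.mk (φ.toLinearMap ∘ₗ LinearMap.inr A B' C')) := by
  let e : QFDual.omega A (B' × C') (B × C) ≃ₗ[A] QFDual.omega A B' B × QFDual.omega A C' C :=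
    { toFun := fwd (A := A) halg
      map_add' := (fwd (A := A) halg).map_add
      map_smul' := fun a z => fwd_smul halg a z
      invFun := fun z => bwdL (A := A) halg z.1 + bwdR (A := A) halg z.2
      left_inv := fun z => bwd_fwd halg z
      right_inv := fun z => by
        show fwd (A := A) halg (bwdL (A := A) halg z.1 + bwdR (A := A) halg z.2) = z
        rw [map_add, fwd_bwdL, fwd_bwdR]
        ext <;> simp }
  exact ⟨e, fun b c φ => rfl⟩

end Final

end Groth.Agent.Helper3.OmegaProd
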