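import Mathlib
import Groth.Prelude

set_option autoImplicit false
set_option linter.style.haveILetI false
set_option linter.unusedSectionVars false
set_option linter.unusedVariables false
set_option linter.deprecated false
set_option linter.style.haveILetI false
set_option linter.unusedSectionVars false
set_option linter.unusedVariables false

universe u v w

open KaehlerDifferential TensorProduct

namespace Groth.Agent.Helper3.OpIm

/-- A split surjection `f : M → N` with section `s` gives `M ≃ N × ker f`. -/
noncomputable def splitEquiv {R M N : Type*} [CommRing R] [AddCommGroup M] [Module R M]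
    [AddCommGroup N] [Module R N] (f : M →ₗ[R] N) (s : N →ₗ[R] M) (hs : f ∘ₗ s = LinearMap.id) :
    M ≃ₗ[R] N × LinearMap.ker f :=
  LinearEquiv.ofLinear
    (LinearMap.prod f ((LinearMap.id - s ∘ₗ f).codRestrict (LinearMap.ker f) (fun m => by
      have := LinearMap.congr_fun hs (f m)
      simp only [LinearMap.coe_comp, Function.comp_apply, LinearMap.id_coe, id_eq] at this
      simp [this])))
    (LinearMap.coprod s (LinearMap.ker f).subtype)
    (by
      apply LinearMap.ext
      rintro ⟨n, k, hk⟩
      have h1 := LinearMap.congr_fun hs n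
      simp only [LinearMap.coe_comp, Function.comp_apply, LinearMap.id_coe, id_eq] at h1
      have hk' : f k = 0 := hk
      apply Prod.ext
      · simp [h1, hk']
      · apply Subtype.ext
        simp [h1, hk'])
    (by
      apply LinearMap.ext
      intro m
      simp)

theorem smooth_nhd_of_rank_eq {A B C : Type u} [CommRing A] [CommRing B] [CommRing C]
    [Algebra A B] [Algebra B C] [Algebra A C] [IsScalarTower A B C]
    [Algebra.Smooth A B] [Algebra.Smooth A C] [Algebra.FormallyUnramified B C]
    (q : PrimeSpectrum C)
    (hrank : Module.rankAtStalk Ω[C⁄A] q =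
      Module.rankAtStalk Ω[B⁄A] (q.comap (algebraMap B C))) :
    ∃ c : C, c ∉ q.asIdeal ∧ Algebra.Smooth B (Localization.Away c) := by
  haveI : Algebra.FinitePresentation B C :=
    Algebra.FinitePresentation.of_restrict_scalars_finitePresentation A B C
  have hsub : Subsingleton Ω[C⁄B] := inferInstance
  have hsurj : Function.Surjective (mapBaseChange A B C) := by
    intro n
    exact ((KaehlerDifferential.exact_mapBaseChange_map A B C) n).1 (Subsingleton.elim _ _)
  obtain ⟨s, hs⟩ := Module.projective_lifting_property (mapBaseChange A B C) LinearMap.id hsurj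
  let e := splitEquiv (mapBaseChange A B C) s hs
  let K := LinearMap.ker (mapBaseChange A B C)
  -- K is a direct summand of a finite projective module
  let π : (C ⊗[B] Ω[B⁄A]) →ₗ[C] K := (LinearMap.snd C _ _) ∘ₗ e.toLinearMap
  have hπ : π ∘ₗ K.subtype = LinearMap.id := by
    apply LinearMap.ext
    rintro ⟨k, hk⟩
    have hk' : mapBaseChange A B C k = 0 := hk
    apply Subtype.ext
    simp [π, e, splitEquiv, hk']
  haveI : Module.Projective C K := Module.Projective.of_split K.subtype π hπ
  haveI : Module.Finite C K := by
    refine Module.Finite.of_surjective π ?_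
    intro k
    exact ⟨K.subtype k, LinearMap.congr_fun hπ k⟩
  have hK0 : Module.rankAtStalk (R := C) K q = 0 := by
    have h1 : Module.rankAtStalk (R := C) (C ⊗[B] Ω[B⁄A]) q =
        Module.rankAtStalk (R := C) Ω[C⁄A] q + Module.rankAtStalk (R := C) K q := by
      rw [Module.rankAtStalk_eq_of_equiv (N := Ω[C⁄A] × K) e, Module.rankAtStalk_prod]
      rfl
    rw [Module.rankAtStalk_baseChange, ← hrank] at h1
    omega
  have hKs : q ∉ Module.support C K := (Module.rankAtStalk_eq_zero_iff_notMem_support q).1 hK0
  -- transfer to H1Cotangent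
  have hδinj : Function.Injective (Algebra.H1Cotangent.δ A B C) := by
    rw [injective_iff_map_eq_zero]
    intro x hx
    obtain ⟨y, rfl⟩ := (Algebra.H1Cotangent.exact_map_δ A B C x).1 hx
    rw [Subsingleton.elim y 0, map_zero]
  have hH1 : q ∉ Module.support C (Algebra.H1Cotangent B C) := by
    rw [Module.notMem_support_iff'] at hKs ⊢
    intro x
    have hxK : Algebra.H1Cotangent.δ A B C x ∈ K :=
      (Algebra.H1Cotangent.exact_δ_mapBaseChange A B C _).2 ⟨x, rfl⟩
    obtain ⟨r, hr, hr0⟩ := hKs ⟨_, hxK⟩
    refine ⟨r, hr, hδinj ?_⟩
    rw [map_smul, map_zero]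
    exact congrArg Subtype.val hr0
  have hmem : q ∈ Algebra.smoothLocus B C := by
    rw [Algebra.smoothLocus_eq_compl_support_inter]
    refine ⟨hH1, ?_⟩
    rw [Module.mem_freeLocus]
    haveI : Subsingleton (LocalizedModule q.asIdeal.primeCompl Ω[C⁄B]) := by
      rw [LocalizedModule.subsingleton_iff]
      intro m
      exact ⟨1, Submonoid.one_mem _, Subsingleton.elim _ _⟩
    infer_instance
  haveI : Algebra.IsSmoothAt B q.asIdeal := hmem
  exact Algebra.IsSmoothAt.exists_notMem_smooth B q.asIdeal

end Groth.Agent.Helper3.OpIm
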