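import Mathlib
import Groth.Prelude
import Groth.Agent.Helper5.SmRelDim1

set_option autoImplicit false
set_option linter.style.haveILetI false
set_option linter.unusedSectionVars false
set_option linter.unusedVariables false
set_option linter.deprecated false
set_option linter.style.haveILetI false
set_option linter.unusedSectionVars false
set_option linter.unusedVariables false

universe u v w

open KaehlerDifferential TensorProduct AlgebraicGeometry CategoryTheory

namespace Groth.Agent.Helper3.OpIm

/-- For a smooth ring map `A → C` the local fibre dimension of `Spec C → Spec A` at `q` is the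
rank of the module of differentials at `q`. -/
theorem fibreDimAt_eq_rankAtStalk {A C : Type u} [CommRing A] [CommRing C] [Algebra A C]
    [Algebra.Smooth A C] (q : PrimeSpectrum C) :
    FlatMor.fibreDimAt (Spec.map (CommRingCat.ofHom (algebraMap A C)))
      (show ↥(Spec (.of C)) from q) =
      ((Module.rankAtStalk (R := C) Ω[C⁄A] q : ℕ) : WithBot ℕ∞) := by
  haveI : Algebra.IsSmoothAt A q.asIdeal := by
    have : q ∈ Algebra.smoothLocus A C := by rw [Algebra.smoothLocus_eq_univ]; trivial
    exact this
  obtain ⟨c, hc, hstd⟩ := Algebra.IsSmoothAt.exists_notMem_isStandardSmooth A q.asIdeal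
  obtain ⟨ι, σ, _, _, ⟨P⟩⟩ := hstd.out
  let n := P.dimension
  haveI hn : Algebra.IsStandardSmoothOfRelativeDimension n A (Localization.Away c) :=
    P.isStandardSmoothOfRelativeDimension rfl
  obtain ⟨q', hq'⟩ : ∃ q' : PrimeSpectrum (Localization.Away c),
      q'.comap (algebraMap C (Localization.Away c)) = q := by
    have : q ∈ Set.range (PrimeSpectrum.comap (algebraMap C (Localization.Away c))) := by
      rw [PrimeSpectrum.localization_away_comap_range (Localization.Away c) c]
      exact hc
    exact this
  let j : Spec (.of (Localization.Away c)) ⟶ Spec (.of C) :=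
    Spec.map (CommRingCat.ofHom (algebraMap C (Localization.Away c)))
  let fC : Spec (.of C) ⟶ Spec (.of A) := Spec.map (CommRingCat.ofHom (algebraMap A C))
  have hcomp : j ≫ fC = Spec.map (CommRingCat.ofHom (algebraMap A (Localization.Away c))) := by
    rw [← Spec.map_comp, ← CommRingCat.ofHom_comp, ← IsScalarTower.algebraMap_eq]
  haveI : IsOpenImmersion j := IsOpenImmersion.of_isLocalization c
  haveI : LocallyQuasiFinite j := Groth.Agent.Helper4.SchLQF.locallyQuasiFinite_of_etale _
  haveI : LocallyOfFiniteType fC := by
    rw [HasRingHomProperty.Spec_iff (P := @LocallyOfFiniteType)]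
    exact RingHom.finiteType_algebraMap.2 inferInstance
  haveI : SmoothOfRelativeDimension n (j ≫ fC) := by
    rw [hcomp, HasRingHomProperty.Spec_iff (P := @SmoothOfRelativeDimension n)]
    refine RingHom.locally_of RingHom.isStandardSmoothOfRelativeDimension_respectsIso _ ?_
    exact (RingHom.isStandardSmoothOfRelativeDimension_algebraMap n).2 hn
  have h1 := Groth.Agent.Helper5.SmRelDim.s2768 n (j ≫ fC) q'
  rw [Groth.Agent.Helper5.SmRelDim.fibreDimAt_precomp j fC q'] at h1
  have hjq : j q' = q := hq'
  rw [hjq] at h1
  show FlatMor.fibreDimAt fC q = _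
  rw [h1]
  congr 1
  -- ranks
  have hbc := Module.rankAtStalk_isBaseChange
    (KaehlerDifferential.isBaseChange_of_formallyEtale A C (Localization.Away c)) q'
  rw [hq'] at hbc
  rw [← hbc]
  haveI : Nontrivial (Localization.Away c) := q'.nontrivial
  have hrk : Module.rank (Localization.Away c) Ω[Localization.Away c⁄A] = n :=
    Algebra.IsStandardSmoothOfRelativeDimension.rank_kaehlerDifferential n
  have hfin : Module.finrank (Localization.Away c) Ω[Localization.Away c⁄A] = n :=
    Module.finrank_eq_of_rank_eq hrk
  haveI : Algebra.IsStandardSmooth A (Localization.Away c) := hstd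
  rw [Module.rankAtStalk_eq_finrank_of_free, Pi.natCast_apply]
  exact hfin.symm

end Groth.Agent.Helper3.OpIm
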