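import Mathlib
import Groth.Prelude
import Groth.Agent.Helper3.OpIm1
import Groth.Agent.Helper3.OpIm2
import Groth.Agent.Helper4.SchLFP

set_option autoImplicit false
set_option linter.style.haveILetI false
set_option linter.unusedSectionVars false
set_option linter.unusedVariables false
set_option linter.deprecated false
set_option linter.style.haveILetI false
set_option linter.unusedSectionVars false
set_option linter.unusedVariables false

universe u v w

open KaehlerDifferential TensorProduct AlgebraicGeometry CategoryTheory TopologicalSpace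

namespace Groth.Agent.Helper3.OpIm

/-- local fibre dimension computed on affine charts -/
theorem fibreDimAt_appLE {X Y : Scheme.{u}} (f : X ⟶ Y) [LocallyOfFiniteType f] {U : Y.Opens}
    (hU : IsAffineOpen U) {V : X.Opens} (hV : IsAffineOpen V) (e : V ≤ f ⁻¹ᵁ U)
    (q : ↥(Spec Γ(X, V))) :
    FlatMor.fibreDimAt f (hV.fromSpec q) = FlatMor.fibreDimAt (Spec.map (f.appLE U V e)) q := by
  haveI : LocallyQuasiFinite hV.fromSpec :=
    Groth.Agent.Helper4.SchLQF.locallyQuasiFinite_of_etale _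
  haveI : LocallyQuasiFinite hU.fromSpec :=
    Groth.Agent.Helper4.SchLQF.locallyQuasiFinite_of_etale _
  rw [← Groth.Agent.Helper5.SmRelDim.fibreDimAt_precomp hV.fromSpec f q,
    ← IsAffineOpen.SpecMap_appLE_fromSpec f hU hV e,
    Groth.Agent.Helper5.EtLoc.fibreDimAt_comp_lqf]

theorem flat_of_mono_of_dim {X Y S : Scheme.{u}} (f : Y ⟶ S) [Smooth f] (g : X ⟶ Y)
    [Smooth (g ≫ f)] [Mono g]
    (hdim : ∀ x : ↥X, FlatMor.fibreDimAt f (g x) = FlatMor.fibreDimAt (g ≫ f) x) :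
    Flat g := by
  haveI : LocallyOfFinitePresentation g :=
    Groth.Agent.Helper4.SchLFP.locallyOfFinitePresentation_of_comp g f
  haveI : FormallyUnramified g := inferInstance
  rw [HasRingHomProperty.iff_exists_appLE (P := @Flat)
    (RingHom.Flat.stableUnderComposition.stableUnderCompositionWithLocalizationAway
      RingHom.Flat.holdsForLocalizationAway).left]
  intro x
  obtain ⟨W, hW, hxW, -⟩ := Opens.isBasis_iff_nbhd.mp S.isBasis_affineOpens
    (Opens.mem_top (f (g x)))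
  obtain ⟨V, hV, hxV, eV⟩ := Opens.isBasis_iff_nbhd.mp Y.isBasis_affineOpens
    (show g x ∈ f ⁻¹ᵁ W from hxW)
  obtain ⟨U, hU, hxU, eU⟩ := Opens.isBasis_iff_nbhd.mp X.isBasis_affineOpens
    (show x ∈ g ⁻¹ᵁ V from hxV)
  have eUW : U ≤ (g ≫ f) ⁻¹ᵁ W := eU.trans ((Opens.map g.base).map (homOfLE eV)).le
  have hcomp : f.appLE W V eV ≫ g.appLE V U eU = (g ≫ f).appLE W U eUW :=
    Scheme.Hom.appLE_comp_appLE g f W V U eV eU
  letI algAB : Algebra Γ(S, W) Γ(Y, V) := (f.appLE W V eV).hom.toAlgebra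
  letI algBC : Algebra Γ(Y, V) Γ(X, U) := (g.appLE V U eU).hom.toAlgebra
  letI algAC : Algebra Γ(S, W) Γ(X, U) := ((g ≫ f).appLE W U eUW).hom.toAlgebra
  haveI : IsScalarTower Γ(S, W) Γ(Y, V) Γ(X, U) := by
    refine IsScalarTower.of_algebraMap_eq' ?_
    show ((g ≫ f).appLE W U eUW).hom = (g.appLE V U eU).hom.comp (f.appLE W V eV).hom
    rw [← hcomp]
    rfl
  haveI : Algebra.Smooth Γ(S, W) Γ(Y, V) :=
    HasRingHomProperty.appLE (P := @Smooth) f inferInstance ⟨W, hW⟩ ⟨V, hV⟩ eV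
  haveI : Algebra.Smooth Γ(S, W) Γ(X, U) :=
    HasRingHomProperty.appLE (P := @Smooth) (g ≫ f) inferInstance ⟨W, hW⟩ ⟨U, hU⟩ eUW
  haveI : Algebra.FormallyUnramified Γ(Y, V) Γ(X, U) :=
    HasRingHomProperty.appLE (P := @FormallyUnramified) g inferInstance ⟨V, hV⟩ ⟨U, hU⟩ eU
  obtain ⟨q, rfl⟩ : ∃ q, hU.fromSpec q = x := by
    have : x ∈ Set.range hU.fromSpec := by rw [hU.range_fromSpec]; exact hxU
    exact this
  -- dimensions
  have h1 : FlatMor.fibreDimAt (g ≫ f) (hU.fromSpec q) =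
      ((Module.rankAtStalk (R := Γ(X, U)) Ω[Γ(X, U)⁄Γ(S, W)] q : ℕ) : WithBot ℕ∞) := by
    rw [fibreDimAt_appLE (g ≫ f) hW hU eUW q]
    exact fibreDimAt_eq_rankAtStalk (A := Γ(S, W)) (C := Γ(X, U)) q
  have hgq : g (hU.fromSpec q) = hV.fromSpec (Spec.map (g.appLE V U eU) q) := by
    have := IsAffineOpen.SpecMap_appLE_fromSpec g hV hU eU
    have h2 := congrArg (fun φ : Spec Γ(X, U) ⟶ Y => φ q) this
    exact h2.symm
  have h2 : FlatMor.fibreDimAt f (g (hU.fromSpec q)) =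
      ((Module.rankAtStalk (R := Γ(Y, V)) Ω[Γ(Y, V)⁄Γ(S, W)]
        (PrimeSpectrum.comap (algebraMap Γ(Y, V) Γ(X, U)) q) : ℕ) : WithBot ℕ∞) := by
    rw [hgq, fibreDimAt_appLE f hW hV eV]
    exact fibreDimAt_eq_rankAtStalk (A := Γ(S, W)) (C := Γ(Y, V)) _
  have hrank : Module.rankAtStalk (R := Γ(X, U)) Ω[Γ(X, U)⁄Γ(S, W)] q =
      Module.rankAtStalk (R := Γ(Y, V)) Ω[Γ(Y, V)⁄Γ(S, W)]
        (PrimeSpectrum.comap (algebraMap Γ(Y, V) Γ(X, U)) q) := by
    have := hdim (hU.fromSpec q)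
    rw [h1, h2] at this
    exact_mod_cast this.symm
  obtain ⟨c, hc, hsm⟩ := smooth_nhd_of_rank_eq (A := Γ(S, W)) (B := Γ(Y, V)) (C := Γ(X, U)) q hrank
  -- the basic open
  have hU' : IsAffineOpen (X.basicOpen c) := hU.basicOpen c
  have hle : X.basicOpen c ≤ U := X.basicOpen_le c
  have hxc : hU.fromSpec q ∈ X.basicOpen c := by
    have : q ∈ hU.fromSpec ⁻¹ᵁ X.basicOpen c := by
      rw [hU.fromSpec_preimage_basicOpen]
      exact hc
    exact this
  refine ⟨⟨V, hV⟩, ⟨X.basicOpen c, hU'⟩, hxc, hle.trans eU, ?_⟩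
  have hfac : g.appLE V (X.basicOpen c) (hle.trans eU) =
      g.appLE V U eU ≫ X.presheaf.map (homOfLE hle).op :=
    (Scheme.Hom.appLE_map g eU (homOfLE hle).op).symm
  haveI : IsLocalization.Away c Γ(X, X.basicOpen c) := hU.isLocalization_basicOpen c
  letI algBC' : Algebra Γ(Y, V) Γ(X, X.basicOpen c) :=
    (g.appLE V (X.basicOpen c) (hle.trans eU)).hom.toAlgebra
  haveI : IsScalarTower Γ(Y, V) Γ(X, U) Γ(X, X.basicOpen c) := by
    refine IsScalarTower.of_algebraMap_eq' ?_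
    show (g.appLE V (X.basicOpen c) (hle.trans eU)).hom =
      (X.presheaf.map (homOfLE hle).op).hom.comp (g.appLE V U eU).hom
    rw [hfac]
    rfl
  show Module.Flat Γ(Y, V) Γ(X, X.basicOpen c)
  haveI : Module.Flat Γ(Y, V) (Localization.Away c) := Algebra.Smooth.flat _ _
  let ε : Localization.Away c ≃ₐ[Γ(X, U)] Γ(X, X.basicOpen c) :=
    IsLocalization.algEquiv (Submonoid.powers c) _ _
  exact Module.Flat.of_linearEquiv (ε.restrictScalars Γ(Y, V)).toLinearEquiv.symm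

theorem s4993 {X Y S : Scheme.{u}} (f : Y ⟶ S) (h : X ⟶ S)
    [Smooth f] [Smooth h] (g : X ⟶ Y) (w : g ≫ f = h) :
    IsOpenImmersion g ↔ Mono g ∧ ∀ x : ↥X, FlatMor.fibreDimAt f (g.base x) = FlatMor.fibreDimAt h x := by
  subst w
  constructor
  · intro hg
    refine ⟨inferInstance, fun x => ?_⟩
    haveI : LocallyQuasiFinite g := Groth.Agent.Helper4.SchLQF.locallyQuasiFinite_of_etale _
    exact (Groth.Agent.Helper5.SmRelDim.fibreDimAt_precomp g f x).symm
  · rintro ⟨hmono, hdim⟩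
    haveI : LocallyOfFinitePresentation g :=
      Groth.Agent.Helper4.SchLFP.locallyOfFinitePresentation_of_comp g f
    haveI : Flat g := flat_of_mono_of_dim f g hdim
    exact IsOpenImmersion.of_flat_of_mono g

end Groth.Agent.Helper3.OpIm
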