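import Mathlib
import Groth.Agent.Helper1.ProjBC4
import Groth.Agent.Helper5.P1Sch
import Groth.Prelude.Def_P1

set_option autoImplicit false
set_option linter.style.haveILetI false
set_option linter.unusedSectionVars false
set_option linter.unusedVariables false
set_option linter.deprecated false
set_option linter.style.haveILetI false
set_option linter.unusedSectionVars false
set_option linter.unusedVariables false

universe u

open AlgebraicGeometry CategoryTheory CategoryTheory.Limits TopologicalSpace Opposite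

namespace Groth.Agent.Helper3.P1Conn

open Groth.Agent.Helper1.ProjBC

/-- the base change of `P^1_ℤ` to a field is preconnected -/
theorem preconnectedSpace_QQ (κ : Type u) [Field κ] (φ : ULift.{u} ℤ →+* κ) :
    PreconnectedSpace (QQ φ 1) := by
  let lift : Proj (CohB1.polyGrading 1 κ) ⟶ QQ φ 1 :=
    pullback.lift (γγ φ 1) (CohB1.ProjSpace.toSpec 1 κ) (specULiftZIsTerminal.hom_ext _ _)
  have hret : ββ φ 1 ≫ lift = 𝟙 _ := by
    apply pullback.hom_ext
    · rw [Category.assoc, pullback.lift_fst, Category.id_comp]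
      exact ββ_γγ φ 1
    · rw [Category.assoc, pullback.lift_snd, Category.id_comp]
      exact ββ_toSpec φ 1
  have hsurj : Function.Surjective lift := by
    intro q
    refine ⟨ββ φ 1 q, ?_⟩
    have := congrArg (fun f => f q) hret
    simpa using this
  constructor
  have h1 : _root_.IsPreconnected (Set.range lift) :=
    isPreconnected_range lift.continuous
  rwa [hsurj.range_eq] at h1

variable (S : Scheme.{u})

/-- the fibres of `P^1_S → S` are preconnected -/
theorem isPreconnected_fibre (s : S) :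
    _root_.IsPreconnected ((CohB1.ProjSpaceOver.toBase 1 S) ⁻¹' {s}) := by
  rw [← Scheme.Hom.range_fiberι]
  suffices PreconnectedSpace ((CohB1.ProjSpaceOver.toBase 1 S).fiber s) by
    exact isPreconnected_range ((CohB1.ProjSpaceOver.toBase 1 S).fiberι s).continuous
  let κ := S.residueField s
  let φ : ULift.{u} ℤ →+* κ := (Int.castRingHom κ).comp (ULift.ringEquiv : ULift.{u} ℤ ≃+* ℤ).toRingHom
  have hcomp : S.fromSpecResidueField s ≫ specULiftZIsTerminal.from S =
      Spec.map (CommRingCat.ofHom φ) := specULiftZIsTerminal.hom_ext _ _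
  let e : (CohB1.ProjSpaceOver.toBase 1 S).fiber s ≅ QQ φ 1 :=
    pullbackLeftPullbackSndIso (CohB1.ProjSpace.toSpec 1 (ULift.{u} ℤ))
      (specULiftZIsTerminal.from S) (S.fromSpecResidueField s) ≪≫
      pullback.congrHom rfl hcomp
  haveI := preconnectedSpace_QQ κ φ
  constructor
  have h1 : _root_.IsPreconnected (Set.range (Scheme.homeoOfIso e).symm) :=
    isPreconnected_range (Scheme.homeoOfIso e).symm.continuous
  rwa [(Scheme.homeoOfIso e).symm.surjective.range_eq] at h1

theorem eq_univ_of_isClopen (S X : Scheme.{u}) (g : X ⟶ CohB1.ProjSpaceOver 1 S) [IsFinite g]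
    [Flat g] [LocallyOfFinitePresentation g] (W : Set X) (hW : IsClopen W)
    (h0 : ∀ x : X, g x ∈ Set.range (P1.sect S 0) → x ∈ W) : W = Set.univ := by
  by_contra hne
  obtain ⟨x, hx⟩ : ∃ x, x ∉ W := by
    by_contra h
    push Not at h
    exact hne (Set.eq_univ_of_forall h)
  set π := CohB1.ProjSpaceOver.toBase 1 S with hπ
  set s := π (g x) with hs
  have hTo : IsOpen (g '' Wᶜ) := g.isOpenMap _ hW.compl.isOpen
  have hTc : IsClosed (g '' Wᶜ) := g.isClosedMap _ hW.compl.isClosed
  have hpre := isPreconnected_fibre S s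
  have hsub : π ⁻¹' {s} ⊆ g '' Wᶜ :=
    hpre.subset_isClopen ⟨hTc, hTo⟩ ⟨g x, rfl, x, hx, rfl⟩
  have hz : P1.sect S 0 s ∈ π ⁻¹' {s} := by
    show π (P1.sect S 0 s) = s
    have h1 : P1.sect S 0 ≫ π = 𝟙 S := pullback.lift_snd _ _ _
    rw [← Scheme.Hom.comp_apply, h1]
    rfl
  obtain ⟨y, hyW, hy⟩ := hsub hz
  exact hyW (h0 y ⟨s, hy.symm⟩)

theorem finrank_eq (S X T : Scheme.{u}) (g : X ⟶ CohB1.ProjSpaceOver 1 S) (f : T ⟶ X)
    [IsFinite g] [Flat g] [LocallyOfFinitePresentation g]
    [IsFinite f] [Flat f] [LocallyOfFinitePresentation f] (r : ℕ)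
    (h : ∀ x : X, g x ∈ Set.range (P1.sect S 0) → f.finrank x = r) (x : X) :
    f.finrank x = r := by
  have hW : IsClopen {x : X | f.finrank x = r} :=
    (Scheme.Hom.isLocallyConstant_finrank f).isClopen_fiber r
  have := eq_univ_of_isClopen S X g _ hW h
  have hx : x ∈ {x : X | f.finrank x = r} := this ▸ Set.mem_univ x
  exact hx

end Groth.Agent.Helper3.P1Conn
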