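import Mathlib
import Groth.Agent.Helper3.P1Conn
import Groth.Agent.Helper6.HProj

set_option autoImplicit false
set_option linter.style.haveILetI false
set_option linter.unusedSectionVars false
set_option linter.unusedVariables false
set_option linter.deprecated false
set_option linter.style.haveILetI false
set_option linter.unusedSectionVars false
set_option linter.unusedVariables false

universe u

open AlgebraicGeometry CategoryTheory CategoryTheory.Limits TopologicalSpace Opposite

namespace Groth.Agent.Helper3.P1Conn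

theorem preconnectedSpace_P1 (S : Scheme.{u}) [PreconnectedSpace S] :
    PreconnectedSpace (CohB1.ProjSpaceOver 1 S) := by
  set π := CohB1.ProjSpaceOver.toBase 1 S with hπ
  haveI : IsProper π := Groth.Agent.Helper6.HProj.isProper_toBase 1 S
  have hsect : ∀ s : S, π (P1.sect S 0 s) = s := by
    intro s
    have h1 : P1.sect S 0 ≫ π = 𝟙 S := pullback.lift_snd _ _ _
    rw [← Scheme.Hom.comp_apply, h1]
    rfl
  rw [preconnectedSpace_iff_clopen]
  intro A hA
  have hfib : ∀ (s : S) (a : CohB1.ProjSpaceOver 1 S), π a = s → a ∈ A → π ⁻¹' {s} ⊆ A := by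
    intro s a ha haA
    exact (isPreconnected_fibre S s).subset_isClopen hA ⟨a, ha, haA⟩
  have hfib' : ∀ (s : S) (a : CohB1.ProjSpaceOver 1 S), π a = s → a ∈ Aᶜ → π ⁻¹' {s} ⊆ Aᶜ := by
    intro s a ha haA
    exact (isPreconnected_fibre S s).subset_isClopen hA.compl ⟨a, ha, haA⟩
  have h1 : IsClosed (π '' A) := π.isClosedMap _ hA.isClosed
  have h2 : IsClosed (π '' Aᶜ) := π.isClosedMap _ hA.compl.isClosed
  have hcompl : (π '' A)ᶜ = π '' Aᶜ := by
    ext s
    constructor
    · intro hs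
      refine ⟨P1.sect S 0 s, ?_, hsect s⟩
      intro hmem
      exact hs ⟨_, hmem, hsect s⟩
    · rintro ⟨a', ha', rfl⟩ ⟨a, ha, hπa⟩
      exact (hfib _ a hπa ha rfl : a' ∈ A) |> ha'
  have hclopen : IsClopen (π '' A) := ⟨h1, by rw [← isClosed_compl_iff, hcompl]; exact h2⟩
  rcases (preconnectedSpace_iff_clopen.mp ‹PreconnectedSpace S›) _ hclopen with h | h
  · left
    rw [Set.image_eq_empty] at h
    exact h
  · right
    rw [Set.eq_univ_iff_forall]
    intro a
    have : π a ∈ π '' A := h ▸ Set.mem_univ _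
    obtain ⟨a', ha', hπ'⟩ := this
    exact hfib _ a' hπ' ha' rfl

theorem exists_mem_connectedComponent (S X : Scheme.{u}) [PreconnectedSpace S]
    (f : X ⟶ CohB1.ProjSpaceOver 1 S) [IsFinite f] [Flat f] [LocallyOfFinitePresentation f]
    (x : X) (p : CohB1.ProjSpaceOver 1 S) : ∃ y ∈ connectedComponent x, f y = p := by
  haveI := preconnectedSpace_P1 S
  set F : Set X := f ⁻¹' {p} with hF
  have hFfin : F.Finite := Scheme.Hom.finite_preimage_singleton f p
  have hmeet : ∀ W : Set X, IsClopen W → W.Nonempty → (W ∩ F).Nonempty := by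
    intro W hW hne
    have ho : IsOpen (f '' W) := f.isOpenMap _ hW.isOpen
    have hc : IsClosed (f '' W) := f.isClosedMap _ hW.isClosed
    rcases (preconnectedSpace_iff_clopen.mp ‹_›) _ ⟨hc, ho⟩ with h | h
    · rw [Set.image_eq_empty] at h
      exact absurd h hne.ne_empty
    · have : p ∈ f '' W := h ▸ Set.mem_univ p
      obtain ⟨y, hy, hyp⟩ := this
      exact ⟨y, hy, hyp⟩
  let T := {W : Set X // IsClopen W ∧ x ∈ W}
  obtain ⟨⟨W, hWc, hxW⟩, -, hmin⟩ := (measure fun W : T => (W.1 ∩ F).ncard).wf.has_min Set.univ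
    ⟨⟨Set.univ, isClopen_univ, Set.mem_univ x⟩, trivial⟩
  have hpre : _root_.IsPreconnected W := by
    intro U V hU hV hWUV hWU hWV
    by_contra hempty
    rw [Set.not_nonempty_iff_eq_empty] at hempty
    -- W₁ = W ∩ U, W₂ = W ∩ V
    have hW1o : IsOpen (W ∩ U) := hWc.isOpen.inter hU
    have hW2o : IsOpen (W ∩ V) := hWc.isOpen.inter hV
    have hW1eq : W ∩ U = W \ V := by
      ext z
      constructor
      · rintro ⟨hzW, hzU⟩
        refine ⟨hzW, fun hzV => ?_⟩
        have : z ∈ W ∩ (U ∩ V) := ⟨hzW, hzU, hzV⟩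
        rw [hempty] at this
        exact this
      · rintro ⟨hzW, hzV⟩
        exact ⟨hzW, (hWUV hzW).resolve_right hzV⟩
    have hW2eq : W ∩ V = W \ U := by
      ext z
      constructor
      · rintro ⟨hzW, hzV⟩
        refine ⟨hzW, fun hzU => ?_⟩
        have : z ∈ W ∩ (U ∩ V) := ⟨hzW, hzU, hzV⟩
        rw [hempty] at this
        exact this
      · rintro ⟨hzW, hzU⟩
        exact ⟨hzW, (hWUV hzW).resolve_left hzU⟩
    have hW1c : IsClopen (W ∩ U) := ⟨hW1eq ▸ hWc.isClosed.sdiff hV, hW1o⟩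
    have hW2c : IsClopen (W ∩ V) := ⟨hW2eq ▸ hWc.isClosed.sdiff hU, hW2o⟩
    have key : ∀ (W' W'' : Set X), IsClopen W' → x ∈ W' → W' ⊆ W → IsClopen W'' → W''.Nonempty →
        W'' ⊆ W → Disjoint W' W'' → False := by
      intro W' W'' hW' hxW' hsub hW'' hne hsub'' hdisj
      obtain ⟨y, hyW'', hyF⟩ := hmeet W'' hW'' hne
      have hlt : (W' ∩ F).ncard < (W ∩ F).ncard := by
        apply Set.ncard_lt_ncard _ (hFfin.subset Set.inter_subset_right)
        refine ⟨Set.inter_subset_inter_left _ hsub, fun hcon => ?_⟩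
        have : y ∈ W' ∩ F := hcon ⟨hsub'' hyW'', hyF⟩
        exact Set.disjoint_left.mp hdisj this.1 hyW''
      exact hmin ⟨W', hW', hxW'⟩ trivial hlt
    have hdisj : Disjoint (W ∩ U) (W ∩ V) := by
      rw [Set.disjoint_left]
      rintro z ⟨hzW, hzU⟩ ⟨-, hzV⟩
      have : z ∈ W ∩ (U ∩ V) := ⟨hzW, hzU, hzV⟩
      rw [hempty] at this
      exact this
    rcases hWUV hxW with hxU | hxV
    · exact key _ _ hW1c ⟨hxW, hxU⟩ Set.inter_subset_left hW2c hWV Set.inter_subset_left hdisj
    · exact key _ _ hW2c ⟨hxW, hxV⟩ Set.inter_subset_left hW1c hWU Set.inter_subset_left hdisj.symm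
  obtain ⟨y, hyW, hyF⟩ := hmeet W hWc ⟨x, hxW⟩
  exact ⟨y, hpre.subset_connectedComponent hxW hyW, hyF⟩

end Groth.Agent.Helper3.P1Conn
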