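import Mathlib
import Groth.Prelude
import Groth.Agent.Helper3.P1CycI

set_option autoImplicit false
set_option linter.style.haveILetI false
set_option linter.unusedSectionVars false
set_option linter.unusedVariables false
set_option linter.deprecated false
set_option linter.style.haveILetI false
set_option linter.unusedSectionVars false
set_option linter.unusedVariables false

universe u

open CategoryTheory CategoryTheory.Limits AlgebraicGeometry IsLocalRing

namespace Groth.Agent.Helper3.P1Cyc

noncomputable section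

open P1 Groth.Agent.Helper3.P1Chart Groth.Agent.Helper5.StalkDict

section coh

variable {X : Scheme.{u}} (δ : X → ℤ) (hX : Cyc.IsSetup X δ)
  (δP : ↥(CohB1.ProjSpaceOver 1 X) → ℤ)
  (hP : Cyc.DeltaCompat (CohB1.ProjSpaceOver.toBase 1 X) δP δ)
  (k : ℤ) (F : (CohB1.ProjSpaceOver 1 X).Modules) (hF : Coh.IsCoh F)
  (hsupp : ∀ p : ↥(CohB1.ProjSpaceOver 1 X), Nontrivial (F.presheaf.stalk p) → δP p ≤ k + 1)
  (hemb : ∀ p : ↥(CohB1.ProjSpaceOver 1 X),
    IsAssociatedPrime (IsLocalRing.maximalIdeal ((CohB1.ProjSpaceOver 1 X).presheaf.stalk p))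
      (F.presheaf.stalk p) →
    p ∉ Set.range ⇑(P1.sect X 0) ∪ Set.range ⇑(P1.sect X 1) ∨ δP p < k)

include hX hP hF hsupp hemb in
open Classical in
/-- pointwise form of `main_coh` -/
theorem main_coh_point (x : X) (hk : δ x = k) :
    Cyc.sheafFun δ k ((Scheme.Modules.pullback (P1.sect X 0)).obj F) x -
      Cyc.sheafFun δ k ((Scheme.Modules.pullback (P1.sect X 1)).obj F) x =
    ∑ᶠ ξ : ↥(CohB1.ProjSpaceOver 1 X),
      if (δP ξ = k + 1 ∧ Nontrivial (F.presheaf.stalk ξ) ∧
          δP ξ = δ ((CohB1.ProjSpaceOver.toBase 1 X) ξ)) then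
        Cyc.divFun δ ((CohB1.ProjSpaceOver.toBase 1 X) ξ)
          ((Cyc.normGen (CohB1.ProjSpaceOver.toBase 1 X) ξ (tb X 0 1 ξ)) ^ (mult F ξ)) x
      else 0 := by
  rw [sheafFun_eq_finsum δ hX δP hP k F hF hsupp hemb 0 1 (by decide) x hk,
    sheafFun_eq_finsum δ hX δP hP k F hF hsupp hemb 1 0 (by decide) x hk,
    ← finsum_sub_distrib (finite_support_Aterm δ hX δP hP k F hF hsupp 0 1 x)
      (finite_support_Aterm δ hX δP hP k F hF hsupp 1 0 x)]
  rw [finsum_congr (Aterm_sub δ hX δP hP k F hF hsupp hemb x hk)]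

end coh

/-- pointwise form of `main_int`: for an integral closed subscheme `W` of `P^1_X` with generic
point `p` of `δ`-dimension `k+1` lying on neither section, and with `δP p = δ (π p)`:
`[W_0]_k - [W_∞]_k = div (Norm (t|_p))` on the closure of `π p`. -/
theorem main_int_point {X : Scheme.{u}} (δ : X → ℤ) (hX : Cyc.IsSetup X δ)
    (δP : ↥(CohB1.ProjSpaceOver 1 X) → ℤ)
    (hP : Cyc.DeltaCompat (CohB1.ProjSpaceOver.toBase 1 X) δP δ) (k : ℤ) (W : Scheme.{u})
    [IsIntegral W] (ι : W ⟶ CohB1.ProjSpaceOver 1 X) [IsClosedImmersion ι]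
    (p : ↥(CohB1.ProjSpaceOver 1 X)) (hp : ι (genericPoint W) = p)
    (hW : δP p = k + 1)
    (h0 : p ∉ Set.range ⇑(P1.sect X 0))
    (h1 : p ∉ Set.range ⇑(P1.sect X 1))
    (hpp : δP p = δ ((CohB1.ProjSpaceOver.toBase 1 X) p))
    (x : X) (hk : δ x = k) :
    Cyc.subschemeFun δ k (pullback.snd ι (P1.sect X 0)) x -
      Cyc.subschemeFun δ k (pullback.snd ι (P1.sect X 1)) x =
    Cyc.divFun δ ((CohB1.ProjSpaceOver.toBase 1 X) p)
      (Cyc.normGen (CohB1.ProjSpaceOver.toBase 1 X) p (tb X 0 1 p)) x := by
  classical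
  subst hp
  have hS := isSetup_PX δ hX δP hP
  haveI : IsLocallyNoetherian (CohB1.ProjSpaceOver 1 X) := hS.1
  set F := (Scheme.Modules.pushforward ι).obj (Coh.structureModule W) with hFdef
  have hF : Coh.IsCoh F :=
    Groth.Agent.S0019.result ι _ (Groth.Agent.Lead.HomShH.isCoh_unit W)
  have hZ : ∀ w : W, δP (ι w) ≤ k + 1 := by
    intro w
    have hsp : ι (genericPoint W) ⤳ ι w :=
      (genericPoint_specializes w).map ι.continuous
    by_cases he : ι (genericPoint W) = ι w
    · rw [← he, hW]
    · have := (hS.2.2 _ _ hsp he).1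
      rw [hW] at this
      exact this.le
  have hsub : ∀ q : ↥(CohB1.ProjSpaceOver 1 X), q ∉ Set.range ι.base →
      Subsingleton (F.presheaf.stalk q) := fun q hq =>
    Groth.Agent.Lead.PushStalk.subsingleton_stalk_of_notMem_range ι
      (Coh.structureModule W) ι.isClosedEmbedding.isClosed_range q hq
  have hsupp : ∀ q : ↥(CohB1.ProjSpaceOver 1 X), Nontrivial (F.presheaf.stalk q) →
      δP q ≤ k + 1 := by
    intro q hnt
    by_cases hq : q ∈ Set.range ι.base
    · obtain ⟨z, rfl⟩ := hq
      exact hZ z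
    · exfalso
      exact not_subsingleton _ (hsub q hq)
  have hemb : ∀ q : ↥(CohB1.ProjSpaceOver 1 X),
      IsAssociatedPrime (IsLocalRing.maximalIdeal ((CohB1.ProjSpaceOver 1 X).presheaf.stalk q))
        (F.presheaf.stalk q) →
      q ∉ Set.range ⇑(P1.sect X 0) ∪ Set.range ⇑(P1.sect X 1) ∨ δP q < k := by
    intro q hass
    by_cases hq : q ∈ Set.range ι.base
    · obtain ⟨z, rfl⟩ := hq
      left
      have h1' := isAssociatedPrime_of_semilinear (ι.stalkMap z).hom (ι.stalkMap_surjective z)
        (AddEquiv.ofBijective (Groth.Agent.Lead.PushStalk.psHom ι (Coh.structureModule W) z)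
          (Groth.Agent.Lead.PushStalk.psHom_bijective ι (Coh.structureModule W)
            ι.isEmbedding.isInducing z))
        (fun r n => Groth.Agent.Lead.PushStalk.psHom_smul ι (Coh.structureModule W) z r n) hass
      obtain ⟨e⟩ := nonempty_linearEquiv_stalk_structureModule W z
      have h2 := (LinearEquiv.isAssociatedPrime_iff e).mp h1'
      haveI : IsDomain (W.presheaf.stalk z) := inferInstance
      have hbot := maximalIdeal_eq_bot_of_isAssociatedPrime h2
      have hw := eq_genericPoint_of_maximalIdeal_eq_bot W z hbot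
      rw [hw]
      rintro (h | h)
      · exact h0 h
      · exact h1 h
    · exfalso
      haveI := hsub q hq
      have hem : associatedPrimes ((CohB1.ProjSpaceOver 1 X).presheaf.stalk q)
          (F.presheaf.stalk q) = ∅ :=
        associatedPrimes.eq_empty_of_subsingleton
      have hmem : IsLocalRing.maximalIdeal ((CohB1.ProjSpaceOver 1 X).presheaf.stalk q) ∈
          associatedPrimes ((CohB1.ProjSpaceOver 1 X).presheaf.stalk q)
          (F.presheaf.stalk q) := hass
      rw [hem] at hmem
      exact hmem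
  have hmain := main_coh_point δ hX δP hP k F hF hsupp hemb x hk
  rw [hFdef, Groth.Agent.Helper3.SpFun.sheafFun_pullback_push_unit,
    Groth.Agent.Helper3.SpFun.sheafFun_pullback_push_unit] at hmain
  rw [hmain]
  -- only the generic point contributes
  have hcond : ∀ ξ : ↥(CohB1.ProjSpaceOver 1 X),
      (δP ξ = k + 1 ∧ Nontrivial (F.presheaf.stalk ξ) ∧
          δP ξ = δ ((CohB1.ProjSpaceOver.toBase 1 X) ξ)) → ξ = ι (genericPoint W) := by
    rintro ξ ⟨hd, hnt, -⟩
    by_cases hq : ξ ∈ Set.range ι.base
    · obtain ⟨z, rfl⟩ := hq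
      have hsp : ι (genericPoint W) ⤳ ι z :=
        (genericPoint_specializes z).map ι.continuous
      by_contra hne
      have := (hS.2.2 _ _ hsp (fun h => hne h.symm)).1
      omega
    · exfalso
      exact not_subsingleton _ (hsub ξ hq)
  rw [finsum_eq_single _ (ι (genericPoint W)) (fun ξ hξ => by
    rw [if_neg (fun h => hξ (hcond ξ h))])]
  have hnt : Nontrivial (F.presheaf.stalk (ι (genericPoint W))) :=
    Groth.Agent.Helper3.SpFun.nontrivial_stalk_push_unit ι (genericPoint W)
  rw [if_pos ⟨hW, hnt, hpp⟩]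
  -- the multiplicity is one
  have hmult : mult F (ι (genericPoint W)) = 1 := by
    unfold mult
    have h1' := Groth.Agent.Lead.PushLen.length_eq_of_semilinear
      ((CohB1.ProjSpaceOver 1 X).presheaf.stalk (ι (genericPoint W)))
      (W.presheaf.stalk (genericPoint W))
      (ι.stalkMap (genericPoint W)).hom (ι.stalkMap_surjective (genericPoint W))
      (F.presheaf.stalk (ι (genericPoint W)))
      ((Coh.structureModule W).presheaf.stalk (genericPoint W))
      (AddEquiv.ofBijective (Groth.Agent.Lead.PushStalk.psHom ι (Coh.structureModule W)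
        (genericPoint W))
        (Groth.Agent.Lead.PushStalk.psHom_bijective ι (Coh.structureModule W)
          ι.isEmbedding.isInducing (genericPoint W)))
      (fun r n => Groth.Agent.Lead.PushStalk.psHom_smul ι (Coh.structureModule W)
        (genericPoint W) r n)
    rw [h1', Groth.Agent.Lead.PushLen.length_stalk_structureModule]
    have hfld : IsField (W.presheaf.stalk (genericPoint W)) :=
      isField_stalk_of_closure_mem_irreducibleComponents W (genericPoint W)
        (by simp [irreducibleComponents_eq_singleton])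
    haveI : IsSimpleModule (W.presheaf.stalk (genericPoint W))
        (W.presheaf.stalk (genericPoint W)) := by
      rw [isSimpleModule_self_iff_isUnit]
      refine ⟨inferInstance, fun a ha => ?_⟩
      obtain ⟨b, hb⟩ := hfld.mul_inv_cancel ha
      exact IsUnit.of_mul_eq_one _ hb
    rw [Module.length_eq_one_iff.mpr this]
    rfl
  rw [hmult, pow_one]

end

end Groth.Agent.Helper3.P1Cyc
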