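import Mathlib
import Groth.Prelude
import Groth.Agent.Helper3.P1CycJ

set_option autoImplicit false
set_option linter.style.haveILetI false
set_option linter.unusedSectionVars false
set_option linter.unusedVariables false
set_option linter.deprecated false
set_option linter.style.haveILetI false
set_option linter.unusedSectionVars false
set_option linter.unusedVariables false

universe u

open CategoryTheory CategoryTheory.Limits AlgebraicGeometry IsLocalRing

namespace Groth.Agent.Helper3.P1Gr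

noncomputable section

open P1 Groth.Agent.Helper3.P1Chart Groth.Agent.Helper3.P1Cyc Groth.Agent.Helper5.StalkDict

section alg

theorem bijective_of_comp {K L M : Type u} [Field K] [Field L] [Field M] (ρ : K →+* L)
    (j : L →+* M) (h : Function.Bijective (j.comp ρ)) : Function.Bijective ρ := by
  refine ⟨ρ.injective, fun l => ?_⟩
  obtain ⟨k, hk⟩ := h.2 (j l)
  exact ⟨k, j.injective hk⟩

theorem normGen_eq {P X : Scheme.{u}} (π : P ⟶ X) (p : P)
    (hb : Function.Bijective (π.residueFieldMap p).hom) (r : X.residueField (π p)) :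
    Cyc.normGen π p ((π.residueFieldMap p).hom r) = r := by
  unfold Cyc.normGen
  letI := (π.residueFieldMap p).hom.toAlgebra
  have h1 : (π.residueFieldMap p).hom r = algebraMap (X.residueField (π p)) (P.residueField p) r :=
    rfl
  rw [h1, Algebra.norm_algebraMap]
  have hb' : Function.Bijective (Algebra.linearMap (X.residueField (π p)) (P.residueField p)) := hb
  have h2 : Module.finrank (X.residueField (π p)) (P.residueField p) = 1 := by
    rw [← (LinearEquiv.ofBijective _ hb').finrank_eq, Module.finrank_self]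
  rw [h2, pow_one]

theorem delta_eq_of_bijective {P X : Scheme.{u}} (π : P ⟶ X) (δP : P → ℤ) (δ : X → ℤ)
    (hP : Cyc.DeltaCompat π δP δ) (p : P)
    (hb : Function.Bijective (π.residueFieldMap p).hom) : δP p = δ (π p) := by
  obtain ⟨n, hn, hd⟩ := hP p
  letI := (π.residueFieldMap p).hom.toAlgebra
  have hs : Function.Surjective (algebraMap (X.residueField (π p)) (P.residueField p)) := hb.2
  haveI : Algebra.IsIntegral (X.residueField (π p)) (P.residueField p) :=
    Algebra.isIntegral_of_surjective hs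
  haveI : Algebra.IsAlgebraic (X.residueField (π p)) (P.residueField p) :=
    Algebra.IsIntegral.isAlgebraic
  have h0 : Algebra.trdeg (X.residueField (π p)) (P.residueField p) = 0 := trdeg_eq_zero
  have hn' : Algebra.trdeg (X.residueField (π p)) (P.residueField p) = n := hn
  rw [h0] at hn'
  have hn0 : n = 0 := by exact_mod_cast hn'.symm
  have hd' : δP p = δ (π p) + n := hd
  rw [hd', hn0]
  simp

theorem divFun_congr {X : Scheme.{u}} (δ : X → ℤ) {y y' : X} (h : y = y')
    (r : X.residueField y) :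
    Cyc.divFun δ y r = Cyc.divFun δ y' ((X.residueFieldCongr h).hom r) := by
  subst h
  simp

end alg

variable (X : Scheme.{u}) {T : Scheme.{u}} (a : T ⟶ X)
  (ℓ : T ⟶ Spec (CommRingCat.of (Aw.{u} 0)))

/-- the morphism `T ⟶ P^1_X` over `a : T ⟶ X` given by a morphism to the chart `T_0 ≠ 0` -/
def gr : T ⟶ PX X :=
  pullback.lift (ℓ ≫ c.{u} 0) a (specULiftZIsTerminal.hom_ext _ _)

theorem gr_π : gr X a ℓ ≫ π X = a := pullback.lift_snd _ _ _

theorem gr_q : gr X a ℓ ≫ q X = ℓ ≫ c.{u} 0 := pullback.lift_fst _ _ _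

theorem π_gr_apply (t : T) : π X (gr X a ℓ t) = a t :=
  congrArg (fun φ : T ⟶ X => φ t) (gr_π X a ℓ)

theorem gr_mem_U0 (t : T) : gr X a ℓ t ∈ U X 0 := by
  show (gr X a ℓ ≫ q X) t ∈ D.{u} 0
  rw [gr_q]
  exact lift_le 0 ℓ (Set.mem_univ t)

/-- the coordinate function of `gr` as a global section of `T` -/
def val : Γ(T, ⊤) := ℓ.appTop.hom ((Scheme.ΓSpecIso _).inv.hom (τ.{u} 0 1))

/-- the coordinate `T_1/T_0` pulls back along `gr` to `val` -/
theorem residueFieldMap_tb (s : T) :
    ((gr X a ℓ).residueFieldMap s).hom (tb X 0 1 (gr X a ℓ s)) =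
      (T.Γevaluation s).hom (val ℓ) := by
  have hm := gr_mem_U0 X a ℓ s
  unfold tb
  rw [dif_pos hm]
  have h1 := Scheme.evaluation_naturality_apply (gr X a ℓ) s hm (t X 0 1)
  refine h1.trans ?_
  have key : ∀ (f : T ⟶ PZ.{u}) (hf : f = ℓ ≫ c.{u} 0) (e : (⊤ : T.Opens) ≤ f ⁻¹ᵁ D.{u} 0),
      (f.appLE (D.{u} 0) ⊤ e).hom (σ 0 1) = val ℓ := by
    intro f hf e
    subst hf
    rw [lift_σ 0 1 ℓ]
    rfl
  have e0 : (⊤ : T.Opens) ≤ (gr X a ℓ ≫ q X) ⁻¹ᵁ D.{u} 0 := by
    intro z _
    exact gr_mem_U0 X a ℓ z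
  have h3 := key (gr X a ℓ ≫ q X) (gr_q X a ℓ) e0
  have h4 : ((gr X a ℓ).app (U X 0)).hom (t X 0 1) =
      ((gr X a ℓ ≫ q X).app (D.{u} 0)).hom (σ 0 1) := by
    rfl
  rw [h4]
  have h5 : (gr X a ℓ ≫ q X).appLE (D.{u} 0) ⊤ e0 =
      (gr X a ℓ ≫ q X).app (D.{u} 0) ≫ T.presheaf.map (homOfLE e0).op := rfl
  rw [h5, CommRingCat.hom_comp, RingHom.comp_apply] at h3
  rw [← h3]
  unfold Scheme.Γevaluation Scheme.evaluation
  have h6 := TopCat.Presheaf.germ_res T.presheaf (homOfLE e0) s (Set.mem_univ s)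
  have h7 := congrArg (fun φ => φ.hom (((gr X a ℓ ≫ q X).app (D.{u} 0)).hom (σ 0 1))) h6
  simp only [CommRingCat.hom_comp, RingHom.comp_apply] at h7 ⊢
  rw [h7]
  rfl

theorem tb_sect (x : X) : tb X 0 1 (sect X 0 x) = 0 := by
  unfold tb
  rw [dif_pos (sect_mem_U X 0 x)]
  have h := stalkMap_sect_t X 0 1 (by decide) x
  show (IsLocalRing.residue _) _ = 0
  rw [IsLocalRing.residue_eq_zero_iff, mem_maximalIdeal, mem_nonunits_iff]
  intro hu
  have := hu.map ((sect X 0).stalkMap x).hom
  rw [h] at this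
  exact not_isUnit_zero this

theorem gr_mem_U1 (s : T) (hv : (T.Γevaluation s).hom (val ℓ) ≠ 0) : gr X a ℓ s ∈ U X 1 := by
  by_contra hn
  have hr : gr X a ℓ s ∈ Set.range (sect X 0) := by
    rw [range_sect X 0 1 (by decide)]
    exact hn
  obtain ⟨x, hx⟩ := hr
  apply hv
  have h0 := tb_sect X x
  rw [hx] at h0
  rw [← residueFieldMap_tb X a ℓ s, h0, map_zero]

theorem gr_notMem_range_sect0 (s : T) (hv : (T.Γevaluation s).hom (val ℓ) ≠ 0) :
    gr X a ℓ s ∉ Set.range (sect X 0) := by
  rw [range_sect X 0 1 (by decide)]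
  exact fun h => h (gr_mem_U1 X a ℓ s hv)

theorem gr_notMem_range_sect1 (s : T) : gr X a ℓ s ∉ Set.range (sect X 1) := by
  rw [range_sect X 1 0 (by decide)]
  exact fun h => h (gr_mem_U0 X a ℓ s)

/-- the residue field map of `gr ≫ π` in terms of that of `a` -/
theorem residueFieldMap_gr_π_apply (s : T) (r : X.residueField (π X (gr X a ℓ s))) :
    ((gr X a ℓ).residueFieldMap s).hom (((π X).residueFieldMap (gr X a ℓ s)).hom r) =
      (a.residueFieldMap s).hom ((X.residueFieldCongr (π_gr_apply X a ℓ s)).hom r) := by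
  have h1 : (π X).residueFieldMap (gr X a ℓ s) ≫ (gr X a ℓ).residueFieldMap s =
      (gr X a ℓ ≫ π X).residueFieldMap s := (Scheme.residueFieldMap_comp _ _ _).symm
  have h2 := Scheme.Hom.residueFieldMap_congr (gr_π X a ℓ) s
  have h3 := h1.trans h2
  exact congrArg (fun φ => φ.hom r) h3

theorem bijective_residueFieldMap_π (s : T) (ha : Function.Bijective (a.residueFieldMap s).hom) :
    Function.Bijective ((π X).residueFieldMap (gr X a ℓ s)).hom := by
  apply bijective_of_comp _ ((gr X a ℓ).residueFieldMap s).hom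
  have h1 : ⇑(((gr X a ℓ).residueFieldMap s).hom.comp ((π X).residueFieldMap (gr X a ℓ s)).hom) =
      ⇑(a.residueFieldMap s).hom ∘ ⇑(X.residueFieldCongr (π_gr_apply X a ℓ s)).hom.hom := by
    funext r
    exact residueFieldMap_gr_π_apply X a ℓ s r
  rw [h1]
  exact ha.comp (ConcreteCategory.bijective_of_isIso _)

/-- the norm of the coordinate at a point of the graph -/
theorem normGen_tb (s : T) (ha : Function.Bijective (a.residueFieldMap s).hom)
    (r : X.residueField (a s))
    (hr : (a.residueFieldMap s).hom r = (T.Γevaluation s).hom (val ℓ)) :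
    Cyc.normGen (π X) (gr X a ℓ s) (tb X 0 1 (gr X a ℓ s)) =
      (X.residueFieldCongr (π_gr_apply X a ℓ s).symm).hom r := by
  have hb := bijective_residueFieldMap_π X a ℓ s ha
  set r' := (X.residueFieldCongr (π_gr_apply X a ℓ s).symm).hom r with hr'
  have h2 : ((π X).residueFieldMap (gr X a ℓ s)).hom r' = tb X 0 1 (gr X a ℓ s) := by
    apply ((gr X a ℓ).residueFieldMap s).hom.injective
    rw [residueFieldMap_tb, ← hr, residueFieldMap_gr_π_apply, hr']
    congr 1
    have h5 := X.residueFieldCongr_trans_hom (π_gr_apply X a ℓ s).symm (π_gr_apply X a ℓ s)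
    have h6 := congrArg (fun φ => φ.hom r) h5
    rw [CommRingCat.hom_comp, RingHom.comp_apply] at h6
    refine h6.trans ?_
    rw [Scheme.residueFieldCongr_refl]
    rfl
  rw [← h2, normGen_eq (π X) _ hb]

end

end Groth.Agent.Helper3.P1Gr
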