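import Mathlib
import Groth.Prelude
import Groth.Agent.Helper3.P1GrA
import Groth.Agent.S2358

set_option autoImplicit false
set_option linter.style.haveILetI false
set_option linter.unusedSectionVars false
set_option linter.unusedVariables false
set_option linter.deprecated false
set_option linter.style.haveILetI false
set_option linter.unusedSectionVars false
set_option linter.unusedVariables false

universe u

open CategoryTheory CategoryTheory.Limits AlgebraicGeometry IsLocalRing

namespace Groth.Agent.Helper3.P1Gr

noncomputable section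

open P1 Groth.Agent.Helper3.P1Chart Groth.Agent.Helper3.P1Cyc Groth.Agent.Helper5.StalkDict

/-- the induced dimension function exists along a morphism locally of finite type -/
theorem exists_deltaCompat {P X : Scheme.{u}} (π : P ⟶ X) [LocallyOfFiniteType π] (δ : X → ℤ) :
    ∃ δP : P → ℤ, Cyc.DeltaCompat π δP δ := by
  have hfin : ∀ p : P, ∃ n : ℕ,
      (letI := (π.residueFieldMap p).hom.toAlgebra
       Algebra.trdeg (X.residueField (π p)) (P.residueField p)) = n := by
    intro p
    letI := (π.residueFieldMap p).hom.toAlgebra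
    haveI : Algebra.EssFiniteType (X.residueField (π p)) (P.residueField p) := by
      rw [← RingHom.essFiniteType_algebraMap, RingHom.algebraMap_toAlgebra]
      exact RingHom.EssFiniteType.residueFieldMap (LocallyOfFiniteType.stalkMap π p)
    have hlt := trdeg_lt_aleph0 (X.residueField (π p)) (P.residueField p)
    obtain ⟨n, hn⟩ := Cardinal.lt_aleph0.mp hlt
    exact ⟨n, hn⟩
  choose n hn using hfin
  exact ⟨fun p => δ (π p) + n p, fun p => ⟨n p, hn p, rfl⟩⟩

/-- the generic point of the scheme-theoretic image of an integral scheme -/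
theorem imageι_genericPoint {T P : Scheme.{u}} [IsIntegral T] (g : T ⟶ P) [QuasiCompact g]
    [IsIntegral g.image] : g.imageι (genericPoint g.image) = g (genericPoint T) := by
  have h1 : g.toImage (genericPoint T) = genericPoint g.image := by
    apply IsGenericPoint.eq (S := (Set.univ : Set g.image))
    · have h2 := (genericPoint_spec T).image g.toImage.continuous
      rw [Set.image_univ] at h2
      have hd : closure (Set.range g.toImage) = Set.univ :=
        (Scheme.Hom.denseRange g.toImage).closure_range
      rwa [hd] at h2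
    · exact genericPoint_spec g.image
  rw [← h1]
  have h3 : ∀ φ : T ⟶ P, φ = g → φ (genericPoint T) = g (genericPoint T) := by
    rintro φ rfl; rfl
  exact h3 (g.toImage ≫ g.imageι) g.toImage_imageι

variable {X : Scheme.{u}} (δ : X → ℤ) (hX : Cyc.IsSetup X δ)
  (δP : ↥(CohB1.ProjSpaceOver 1 X) → ℤ)
  (hP : Cyc.DeltaCompat (CohB1.ProjSpaceOver.toBase 1 X) δP δ) (k : ℤ)
  {T : Scheme.{u}} [IsIntegral T] (a : T ⟶ X) [QuasiCompact a]
  (ℓ : T ⟶ Spec (CommRingCat.of (Aw.{u} 0)))

instance quasiCompact_gr : QuasiCompact (gr X a ℓ) := by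
  haveI : IsProper (π X) := Groth.Agent.Helper6.HProj.isProper_toBase 1 X
  haveI : QuasiCompact (gr X a ℓ ≫ π X) := by
    rw [gr_π]; infer_instance
  exact QuasiCompact.of_comp (gr X a ℓ) (π X)

instance isIntegral_image_gr : IsIntegral (gr X a ℓ).image :=
  Groth.Agent.S2358.isIntegral_image (gr X a ℓ)

theorem imageι_genericPoint_gr :
    (gr X a ℓ).imageι (genericPoint (gr X a ℓ).image) = gr X a ℓ (genericPoint T) :=
  imageι_genericPoint (gr X a ℓ)

include hP in
theorem delta_gr (s : T) (ha : Function.Bijective (a.residueFieldMap s).hom) :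
    δP (gr X a ℓ s) = δ (a s) := by
  rw [delta_eq_of_bijective (π X) δP δ hP _ (bijective_residueFieldMap_π X a ℓ s ha),
    π_gr_apply]

include hX hP in
/-- **the fibres at zero and infinity of the closure of the graph of a rational function** -/
theorem gr_main (ha : Function.Bijective (a.residueFieldMap (genericPoint T)).hom)
    (hv : (T.Γevaluation (genericPoint T)).hom (val ℓ) ≠ 0)
    (hd : δ (a (genericPoint T)) = k + 1)
    (r : X.residueField (a (genericPoint T)))
    (hr : (a.residueFieldMap (genericPoint T)).hom r = (T.Γevaluation (genericPoint T)).hom (val ℓ))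
    (x : X) (hk : δ x = k) :
    Cyc.subschemeFun δ k (pullback.snd (gr X a ℓ).imageι (P1.sect X 0)) x -
      Cyc.subschemeFun δ k (pullback.snd (gr X a ℓ).imageι (P1.sect X 1)) x =
    Cyc.divFun δ (a (genericPoint T)) r x := by
  have hdel := delta_gr δ δP hP a ℓ (genericPoint T) ha
  have h := main_int_point δ hX δP hP k (gr X a ℓ).image (gr X a ℓ).imageι
    (gr X a ℓ (genericPoint T)) (imageι_genericPoint_gr a ℓ)
    (by rw [hdel, hd])
    (gr_notMem_range_sect0 X a ℓ _ hv) (gr_notMem_range_sect1 X a ℓ _)
    (by rw [hdel, π_gr_apply]) x hk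
  rw [h, normGen_tb X a ℓ (genericPoint T) ha r hr,
    divFun_congr δ (π_gr_apply X a ℓ (genericPoint T))]
  congr 1
  have h5 := X.residueFieldCongr_trans_hom (π_gr_apply X a ℓ (genericPoint T)).symm
    (π_gr_apply X a ℓ (genericPoint T))
  have h6 := congrArg (fun φ => φ.hom r) h5
  rw [CommRingCat.hom_comp, RingHom.comp_apply] at h6
  refine h6.trans ?_
  rw [Scheme.residueFieldCongr_refl]
  rfl

end

end Groth.Agent.Helper3.P1Gr
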