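import Mathlib
import Groth.Prelude
import Groth.Agent.Helper3.P1GrB

set_option autoImplicit false
set_option linter.style.haveILetI false
set_option linter.unusedSectionVars false
set_option linter.unusedVariables false
set_option linter.deprecated false
set_option linter.style.haveILetI false
set_option linter.unusedSectionVars false
set_option linter.unusedVariables false

universe u

open CategoryTheory CategoryTheory.Limits AlgebraicGeometry IsLocalRing

namespace Groth.Agent.Helper3.P1Gr

noncomputable section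

open P1 Groth.Agent.Helper3.P1Chart Groth.Agent.Helper3.P1Cyc Groth.Agent.Helper5.StalkDict

theorem chartMap_τ (B : Type u) [CommRing B] (b : B) : chartMap.{u} 0 B b (τ 0 1) = b := by
  unfold chartMap
  rw [RingHom.comp_apply]
  show (IsLocalization.Away.lift (T.{u} 0) _) (τ.{u} 0 1).val = b
  rw [val_τ, Localization.mk_eq_mk', IsLocalization.Away.lift, IsLocalization.lift_mk'_spec]
  simp [Function.update]

/-- the coordinate of `Spec.map (chartMap b)` -/
theorem val_SpecMap_chartMap (B : CommRingCat.{u}) (b : B) :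
    val (Spec.map (CommRingCat.ofHom (chartMap.{u} 0 B b))) = (Scheme.ΓSpecIso B).inv.hom b := by
  unfold val
  have hn := Scheme.ΓSpecIso_inv_naturality (CommRingCat.ofHom (chartMap.{u} 0 B b))
  have hn' := congrArg (fun φ => φ.hom (τ.{u} 0 1)) hn
  simp only [CommRingCat.hom_comp, RingHom.comp_apply, CommRingCat.hom_ofHom] at hn'
  rw [← hn', chartMap_τ]
  rfl

theorem val_comp {T T' : Scheme.{u}} (h : T' ⟶ T) (ℓ : T ⟶ Spec (CommRingCat.of (Aw.{u} 0))) :
    val (h ≫ ℓ) = h.appTop.hom (val ℓ) := by
  unfold val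
  rw [Scheme.Hom.comp_appTop, CommRingCat.hom_comp, RingHom.comp_apply]

variable (X : Scheme.{u}) (U : X.Opens) (f : Γ(X, U))

/-- the chart map of the graph -/
def ℓU : (↑U : Scheme.{u}) ⟶ Spec (CommRingCat.of (Aw.{u} 0)) :=
  U.toSpecΓ ≫ Spec.map (CommRingCat.ofHom (chartMap.{u} 0 Γ(X, U) f))

theorem graph_eq : P1.graph X U f = gr X U.ι (ℓU X U f) := by
  unfold P1.graph gr ℓU
  congr 1

theorem val_ℓU : val (ℓU X U f) = U.topIso.inv.hom f := by
  unfold ℓU
  rw [val_comp, val_SpecMap_chartMap, Scheme.Opens.toSpecΓ_appTop, CommRingCat.hom_comp,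
    RingHom.comp_apply]
  congr 1
  exact congrArg (fun φ => φ.hom f) (Scheme.ΓSpecIso Γ(X, U)).inv_hom_id

/-- the value of `f` at a point of `U`, in the residue field of `U` -/
theorem residueFieldMap_evaluation (y : U) :
    (U.ι.residueFieldMap y).hom ((X.evaluation U (U.ι y) y.2).hom f) =
      ((↑U : Scheme.{u}).Γevaluation y).hom (val (ℓU X U f)) := by
  rw [val_ℓU]
  have h1 := Scheme.evaluation_naturality_apply U.ι y (V := U) y.2 f
  refine h1.trans ?_
  unfold Scheme.Γevaluation Scheme.evaluation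
  have e0 : (⊤ : (↑U : Scheme.{u}).Opens) ≤ U.ι ⁻¹ᵁ U := by
    rw [Scheme.Opens.ι_preimage_self]
  have h6 := TopCat.Presheaf.germ_res (↑U : Scheme.{u}).presheaf (homOfLE e0) y (Set.mem_univ y)
  have h7 := congrArg (fun φ => φ.hom ((U.ι.app U).hom f)) h6
  simp only [CommRingCat.hom_comp, RingHom.comp_apply] at h7 ⊢
  rw [← h7]
  congr 2
  rw [Scheme.Opens.ι_app]
  unfold Scheme.Opens.topIso
  simp only [Functor.mapIso_inv, Iso.op_inv, eqToIso.inv, eqToHom_op]
  show ((X.presheaf.map _ ≫ X.presheaf.map _)).hom f = _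
  rw [← Functor.map_comp]
  rfl

/-- **S1904**: the divisor of a rational function is the difference of the fibres at zero and at
infinity of the closure of its graph -/
theorem divFun_eq_graphClosure (X : Scheme.{u}) [IsIntegral X] (δ : X → ℤ) (hX : Cyc.IsSetup X δ)
    (n : ℤ) (hn : δ (genericPoint X) = n) (U : X.Opens) (hη : genericPoint X ∈ U) (f : Γ(X, U))
    (hf : IsUnit f) :
    Cyc.divFun δ (genericPoint X) (X.evaluation U (genericPoint X) hη f) =
      fun x => Cyc.subschemeFun δ (n - 1)
          (pullback.snd (P1.graphClosureι X U f) (P1.sect X 0)) x -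
        Cyc.subschemeFun δ (n - 1) (pullback.snd (P1.graphClosureι X U f) (P1.sect X 1)) x := by
  haveI : IsLocallyNoetherian X := hX.1
  haveI : IsProper (π X) := Groth.Agent.Helper6.HProj.isProper_toBase 1 X
  obtain ⟨δP, hP⟩ := exists_deltaCompat (π X) δ
  haveI : Nonempty U := ⟨⟨genericPoint X, hη⟩⟩
  haveI : IsIntegral (↑U : Scheme.{u}) := inferInstance
  unfold P1.graphClosureι
  rw [graph_eq]
  funext x
  have hgen : U.ι (genericPoint ↥(↑U : Scheme.{u})) = genericPoint X :=
    genericPoint_eq_of_isOpenImmersion U.ι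
  by_cases hk : δ x = n - 1
  · have ha : Function.Bijective (U.ι.residueFieldMap (genericPoint ↥(↑U : Scheme.{u}))).hom :=
      ConcreteCategory.bijective_of_isIso _
    have hv : ((↑U : Scheme.{u}).Γevaluation (genericPoint ↥(↑U : Scheme.{u}))).hom
        (val (ℓU X U f)) ≠ 0 := by
      rw [val_ℓU]
      exact ((hf.map U.topIso.inv.hom).map
        ((↑U : Scheme.{u}).Γevaluation (genericPoint ↥(↑U : Scheme.{u}))).hom).ne_zero
    have hd : δ (U.ι (genericPoint ↥(↑U : Scheme.{u}))) = (n - 1) + 1 := by
      rw [hgen, hn]; ring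
    have hmain := gr_main δ hX δP hP (n - 1) U.ι (ℓU X U f) ha hv hd
      ((X.evaluation U (U.ι (genericPoint ↥(↑U : Scheme.{u})))
        (genericPoint ↥(↑U : Scheme.{u})).2).hom f)
      (residueFieldMap_evaluation X U f _) x hk
    rw [hmain]
    have key : ∀ (y : X) (hy : y ∈ U), y = genericPoint X →
        Cyc.divFun δ y ((X.evaluation U y hy).hom f) =
          Cyc.divFun δ (genericPoint X) ((X.evaluation U (genericPoint X) hη).hom f) := by
      rintro y hy rfl; rfl
    exact congrFun (key _ _ hgen).symm x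
  · unfold Cyc.subschemeFun Cyc.divFun
    rw [if_neg hk, if_neg hk, sub_zero, dif_neg]
    rintro ⟨-, h2⟩
    apply hk
    omega

end

end Groth.Agent.Helper3.P1Gr
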