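import Mathlib
import Groth.Prelude
import Groth.Agent.Helper3.P1GrC

set_option autoImplicit false
set_option linter.style.haveILetI false
set_option linter.unusedSectionVars false
set_option linter.unusedVariables false
set_option linter.deprecated false
set_option linter.style.haveILetI false
set_option linter.unusedSectionVars false
set_option linter.unusedVariables false

universe u

open CategoryTheory CategoryTheory.Limits AlgebraicGeometry IsLocalRing

namespace Groth.Agent.Helper3.P1Gr

noncomputable section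

open P1 Groth.Agent.Helper3.P1Chart Groth.Agent.Helper3.P1Cyc Groth.Agent.Helper5.StalkDict

variable {X : Scheme.{u}} (ξ : X)

/-- the canonical map from a field to the residue field of a point of its spectrum -/
def ψ (s : Spec (X.residueField ξ)) :
    X.residueField ξ ⟶ (Spec (X.residueField ξ)).residueField s :=
  (Scheme.ΓSpecIso (X.residueField ξ)).inv ≫ (Spec (X.residueField ξ)).Γevaluation s

theorem ψ_eq (s : Spec (X.residueField ξ)) :
    ψ ξ s = CommRingCat.ofHom (algebraMap (X.residueField ξ) s.asIdeal.ResidueField) ≫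
      (Scheme.Spec.residueFieldIso (X.residueField ξ) s).inv := by
  rw [Scheme.Spec.algebraMap_residueFieldIso_inv]
  rfl

theorem bijective_ψ (s : Spec (X.residueField ξ)) : Function.Bijective (ψ ξ s).hom := by
  refine ⟨(ψ ξ s).hom.injective, ?_⟩
  rw [ψ_eq, CommRingCat.hom_comp, RingHom.coe_comp]
  refine (ConcreteCategory.bijective_of_isIso _).2.comp ?_
  haveI : s.asIdeal.IsMaximal := by
    have : s.asIdeal = ⊥ := Ideal.eq_bot_of_prime s.asIdeal
    rw [this]
    exact Ideal.bot_isMaximal
  exact Ideal.algebraMap_residueField_surjective s.asIdeal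

theorem fromSpecResidueField_Spec (s : Spec (X.residueField ξ)) :
    (Spec (X.residueField ξ)).fromSpecResidueField s = Spec.map (ψ ξ s) := by
  rw [ψ_eq, Spec.map_comp, Scheme.Spec.map_residueFieldIso_inv_eq_fromSpecResidueField]

/-- the residue field map of `Spec κ(ξ) ⟶ X` -/
theorem residueFieldMap_fromSpecResidueField (s : Spec (X.residueField ξ)) :
    (X.fromSpecResidueField ξ).residueFieldMap s =
      (X.residueFieldCongr (X.fromSpecResidueField_apply ξ s)).hom ≫ ψ ξ s := by
  have h1 := Scheme.Hom.SpecMap_residueFieldMap_fromSpecResidueField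
    (X.fromSpecResidueField ξ) s
  have h2 := X.residueFieldCongr_fromSpecResidueField (X.fromSpecResidueField_apply ξ s)
  have h4 : (Spec (X.residueField ξ)).fromSpecResidueField s ≫ X.fromSpecResidueField ξ =
      Spec.map ((X.residueFieldCongr (X.fromSpecResidueField_apply ξ s)).hom ≫ ψ ξ s) ≫
        X.fromSpecResidueField ((X.fromSpecResidueField ξ) s) := by
    rw [fromSpecResidueField_Spec, Spec.map_comp, Category.assoc, h2]
  have h3 := (cancel_mono _).mp (h1.trans h4)
  exact Spec.map_injective h3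

theorem bijective_residueFieldMap_fromSpecResidueField (s : Spec (X.residueField ξ)) :
    Function.Bijective ((X.fromSpecResidueField ξ).residueFieldMap s).hom := by
  rw [residueFieldMap_fromSpecResidueField, CommRingCat.hom_comp, RingHom.coe_comp]
  exact (bijective_ψ ξ s).comp (ConcreteCategory.bijective_of_isIso _)

/-- the chart map of the point with coordinate `f` -/
def ℓB (B : CommRingCat.{u}) (b : B) : Spec B ⟶ Spec (CommRingCat.of (Aw.{u} 0)) :=
  Spec.map (CommRingCat.ofHom (chartMap.{u} 0 B b))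

theorem val_ℓB (B : CommRingCat.{u}) (b : B) : val (ℓB B b) = (Scheme.ΓSpecIso B).inv.hom b :=
  val_SpecMap_chartMap B b

/-- the chart map of the point with coordinate `f` -/
def ℓξ (f : X.residueField ξ) : Spec (X.residueField ξ) ⟶ Spec (CommRingCat.of (Aw.{u} 0)) :=
  ℓB (X.residueField ξ) f

theorem Γevaluation_val_ℓξ (f : X.residueField ξ) (s : Spec (X.residueField ξ)) :
    ((Spec (X.residueField ξ)).Γevaluation s).hom (val (ℓξ ξ f)) = (ψ ξ s).hom f := by
  unfold ℓξ
  rw [val_ℓB]
  rfl

theorem residueFieldMap_congr_apply (f : X.residueField ξ) (s : Spec (X.residueField ξ)) :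
    ((X.fromSpecResidueField ξ).residueFieldMap s).hom
      ((X.residueFieldCongr (X.fromSpecResidueField_apply ξ s).symm).hom f) =
    ((Spec (X.residueField ξ)).Γevaluation s).hom (val (ℓξ ξ f)) := by
  rw [Γevaluation_val_ℓξ, residueFieldMap_fromSpecResidueField, CommRingCat.hom_comp,
    RingHom.comp_apply]
  congr 1
  have h5 := X.residueFieldCongr_trans_hom (X.fromSpecResidueField_apply ξ s).symm
    (X.fromSpecResidueField_apply ξ s)
  have h6 := congrArg (fun φ => φ.hom f) h5
  rw [CommRingCat.hom_comp, RingHom.comp_apply] at h6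
  refine h6.trans ?_
  rw [Scheme.residueFieldCongr_refl]
  rfl

/-- **S1901** -/
theorem ratEquivZero_eq_sum_fibres (X : Scheme.{u}) (δ : X → ℤ) (hX : Cyc.IsSetup X δ)
    (δP : ↥(CohB1.ProjSpaceOver 1 X) → ℤ)
    (hP : Cyc.DeltaCompat (CohB1.ProjSpaceOver.toBase 1 X) δP δ) (k : ℤ)
    (α : AlgebraicCycle X ℤ) (h0 : Cyc.RatEquivZero δ k α) :
    ∃ (I : Type u) (W : I → Scheme.{u}) (ι : (i : I) → (W i ⟶ CohB1.ProjSpaceOver 1 X))
      (_ : ∀ i, IsIntegral (W i)) (_ : ∀ i, IsClosedImmersion (ι i)),
      (∀ i, δP (ι i (genericPoint (W i))) = k + 1 ∧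
        ι i (genericPoint (W i)) ∉ Set.range ⇑(P1.sect X 0) ∧
        ι i (genericPoint (W i)) ∉ Set.range ⇑(P1.sect X 1)) ∧
      (∀ p : ↥(CohB1.ProjSpaceOver 1 X), ∃ U : Set ↥(CohB1.ProjSpaceOver 1 X),
        IsOpen U ∧ p ∈ U ∧ {i | (Set.range ⇑(ι i) ∩ U).Nonempty}.Finite) ∧
      ∀ x : X, α x = ∑ᶠ i, (Cyc.subschemeFun δ k (pullback.snd (ι i) (P1.sect X 0)) x -
        Cyc.subschemeFun δ k (pullback.snd (ι i) (P1.sect X 1)) x) := by
  haveI : IsLocallyNoetherian X := hX.1
  obtain ⟨I, ξ, f, hd, hf, hlf, hsum⟩ := h0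
  haveI hqc : ∀ i, QuasiCompact (X.fromSpecResidueField (ξ i)) := fun i => inferInstance
  -- the basic facts about the generic points
  have hgen : ∀ i, (gr X (X.fromSpecResidueField (ξ i)) (ℓξ (ξ i) (f i))).imageι
      (genericPoint _) = gr X (X.fromSpecResidueField (ξ i)) (ℓξ (ξ i) (f i))
        (genericPoint _) := fun i => imageι_genericPoint_gr _ _
  have hv : ∀ i, ((Spec (X.residueField (ξ i))).Γevaluation (genericPoint _)).hom
      (val (ℓξ (ξ i) (f i))) ≠ 0 := by
    intro i
    rw [Γevaluation_val_ℓξ]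
    intro h
    apply hf i
    exact (ψ (ξ i) _).hom.injective (h.trans (map_zero _).symm)
  have hπ : ∀ i, π X (gr X (X.fromSpecResidueField (ξ i)) (ℓξ (ξ i) (f i))
      (genericPoint _)) = ξ i := by
    intro i
    rw [π_gr_apply, Scheme.fromSpecResidueField_apply]
  refine ⟨I, fun i => (gr X (X.fromSpecResidueField (ξ i)) (ℓξ (ξ i) (f i))).image,
    fun i => (gr X (X.fromSpecResidueField (ξ i)) (ℓξ (ξ i) (f i))).imageι,
    fun i => inferInstance, fun i => inferInstance, ?_, ?_, ?_⟩
  · intro i
    dsimp only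
    rw [hgen i]
    refine ⟨?_, gr_notMem_range_sect0 X _ _ _ (hv i), gr_notMem_range_sect1 X _ _ _⟩
    rw [delta_gr δ δP hP _ _ _ (bijective_residueFieldMap_fromSpecResidueField (ξ i) _),
      Scheme.fromSpecResidueField_apply, hd i]
  · intro p
    obtain ⟨V, hVo, hxV, hfin⟩ := hlf (π X p)
    refine ⟨(π X) ⁻¹' V, hVo.preimage (π X).continuous, hxV, hfin.subset ?_⟩
    rintro i ⟨q, ⟨w, rfl⟩, hq⟩
    dsimp only at w hq ⊢
    refine ⟨π X ((gr X (X.fromSpecResidueField (ξ i)) (ℓξ (ξ i) (f i))).imageι w), ?_, hq⟩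
    have hsp : (gr X (X.fromSpecResidueField (ξ i)) (ℓξ (ξ i) (f i))).imageι
        (genericPoint _) ⤳ (gr X (X.fromSpecResidueField (ξ i)) (ℓξ (ξ i) (f i))).imageι w :=
      (genericPoint_specializes w).map (Scheme.Hom.continuous _)
    have hsp2 := hsp.map (π X).continuous
    rw [hgen i, hπ i] at hsp2
    exact specializes_iff_mem_closure.mp hsp2
  · intro x
    rw [hsum x]
    apply finsum_congr
    intro i
    dsimp only
    by_cases hk : δ x = k
    · have hmain := gr_main δ hX δP hP k (X.fromSpecResidueField (ξ i)) (ℓξ (ξ i) (f i))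
        (bijective_residueFieldMap_fromSpecResidueField (ξ i) _) (hv i)
        (by rw [Scheme.fromSpecResidueField_apply, hd i])
        ((X.residueFieldCongr (X.fromSpecResidueField_apply (ξ i) _).symm).hom (f i))
        (residueFieldMap_congr_apply (ξ i) (f i) _) x hk
      rw [hmain, divFun_congr δ (X.fromSpecResidueField_apply (ξ i) (genericPoint _)).symm]
    · unfold Cyc.subschemeFun Cyc.divFun
      rw [if_neg hk, if_neg hk, sub_zero, dif_neg]
      rintro ⟨-, h2⟩
      apply hk
      have := hd i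
      omega

end

end Groth.Agent.Helper3.P1Gr
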