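import Mathlib
import Groth.Prelude
import Groth.Agent.Helper3.PBCa

set_option autoImplicit false
set_option linter.style.haveILetI false
set_option linter.unusedSectionVars false
set_option linter.unusedVariables false
set_option linter.deprecated false
set_option linter.style.haveILetI false
set_option linter.unusedSectionVars false
set_option linter.unusedVariables false

universe u

open CategoryTheory CategoryTheory.Limits AlgebraicGeometry TopologicalSpace Opposite IsLocalRing
open TensorProduct

namespace Groth.Agent.Helper3.PBC

open Groth.Agent.Helper3.CycPBE (Lfun)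

section square

variable {X X' Y : Scheme.{u}} (f : Y ⟶ X) (p : X' ⟶ X)

/-- the map from the fibre of the base change to the fibre of `p`, a base change of the residue
field extension -/
theorem exists_fibMap (y : Y) :
    ∃ π : (pullback.fst f p).fiber y ⟶ p.fiber (f y),
      IsPullback π ((pullback.fst f p).fiberToSpecResidueField y)
        (p.fiberToSpecResidueField (f y)) (Spec.map (f.residueFieldMap y)) ∧
      π ≫ p.fiberι (f y) = (pullback.fst f p).fiberι y ≫ pullback.snd f p := by
  have hpb := isPullback_fiberToSpecResidueField_of_isPullback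
    (IsPullback.of_hasPullback f p).flip y
  exact ⟨_, hpb, pullback.lift_fst _ _ _⟩

variable (y : Y) (hfin : (f.residueFieldMap y).hom.Finite)

include hfin in
theorem isFinite_SpecMap_residueFieldMap : IsFinite (Spec.map (f.residueFieldMap y)) := by
  rw [IsFinite.SpecMap_iff]
  exact hfin

theorem flat_SpecMap_residueFieldMap : Flat (Spec.map (f.residueFieldMap y)) := by
  rw [Flat.SpecMap_iff]
  letI := (f.residueFieldMap y).hom.toAlgebra
  show (algebraMap (X.residueField (f y)) (Y.residueField y)).Flat
  rw [RingHom.flat_algebraMap_iff]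
  infer_instance

include hfin in
theorem finrank_SpecMap_residueFieldMap (t : ↥(Spec (X.residueField (f y)))) :
    (Spec.map (f.residueFieldMap y)).finrank t = f.residueDegree y := by
  letI := (f.residueFieldMap y).hom.toAlgebra
  haveI : Module.Finite (X.residueField (f y)) (Y.residueField y) := hfin
  have h1 := Scheme.Hom.finrank_SpecMap_algebraMap (X.residueField (f y)) (Y.residueField y) t
  have h2 : Module.rankAtStalk (R := X.residueField (f y)) (Y.residueField y) t =
      Module.finrank (X.residueField (f y)) (Y.residueField y) := by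
    rw [Module.rankAtStalk_eq_finrank_of_free]
    rfl
  rw [h2] at h1
  exact h1

end square

section towers

/-- algebraicity passes to the first step of a composite -/
theorem isAlgebraic_of_comp {A B C : Scheme.{u}} (a : A ⟶ B) (b : B ⟶ C) (w : A)
    (h : letI := ((a ≫ b).residueFieldMap w).hom.toAlgebra
      Algebra.IsAlgebraic (C.residueField ((a ≫ b) w)) (A.residueField w)) :
    letI := (b.residueFieldMap (a w)).hom.toAlgebra
    Algebra.IsAlgebraic (C.residueField (b (a w))) (B.residueField (a w)) := by
  letI a1 := (b.residueFieldMap (a w)).hom.toAlgebra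
  letI a2 := (a.residueFieldMap w).hom.toAlgebra
  letI a3 : Algebra (C.residueField (b (a w))) (A.residueField w) :=
    ((a ≫ b).residueFieldMap w).hom.toAlgebra
  haveI : IsScalarTower (C.residueField (b (a w))) (B.residueField (a w)) (A.residueField w) := by
    apply IsScalarTower.of_algebraMap_eq
    intro r
    show ((a ≫ b).residueFieldMap w).hom r =
      (a.residueFieldMap w).hom ((b.residueFieldMap (a w)).hom r)
    rw [Scheme.residueFieldMap_comp]
    rfl
  haveI : Algebra.IsAlgebraic (C.residueField (b (a w))) (A.residueField w) := h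
  exact Algebra.IsAlgebraic.of_injective
    (IsScalarTower.toAlgHom (C.residueField (b (a w))) (B.residueField (a w)) (A.residueField w))
    (RingHom.injective _)

/-- a finite residue extension followed by a bijective one is algebraic -/
theorem isAlgebraic_comp {A B C : Scheme.{u}} (c : A ⟶ B) (d : B ⟶ C) (w : A)
    (h1 : Function.Bijective (d.residueFieldMap (c w)).hom)
    (h2 : (c.residueFieldMap w).hom.Finite) :
    letI := ((c ≫ d).residueFieldMap w).hom.toAlgebra
    Algebra.IsAlgebraic (C.residueField ((c ≫ d) w)) (A.residueField w) := by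
  letI a3 := ((c ≫ d).residueFieldMap w).hom.toAlgebra
  have h3 : ((c ≫ d).residueFieldMap w).hom.Finite := by
    have e : ((c ≫ d).residueFieldMap w).hom =
        (c.residueFieldMap w).hom.comp (d.residueFieldMap (c w)).hom := by
      rw [Scheme.residueFieldMap_comp]
      rfl
    rw [e]
    exact RingHom.Finite.comp h2 (RingHom.Finite.of_surjective _ h1.2)
  haveI : Module.Finite (C.residueField ((c ≫ d) w)) (A.residueField w) := h3
  exact Algebra.IsAlgebraic.of_finite _ _

/-- the residue field map of the inclusion of a fibre is bijective -/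
theorem residueFieldMap_fiberι_bijective {X S : Scheme.{u}} (f : X ⟶ S) (s : S) (y : ↥(f.fiber s)) :
    Function.Bijective ((f.fiberι s).residueFieldMap y).hom := by
  refine ⟨((f.fiberι s).residueFieldMap y).hom.injective, ?_⟩
  intro t
  obtain ⟨a, rfl⟩ := IsLocalRing.residue_surjective t
  obtain ⟨r, rfl⟩ := (Groth.Agent.Helper5.FibStalk.s9501 f s y).1 a
  exact ⟨IsLocalRing.residue _ r, rfl⟩

end towers

section dict

variable {X X' Y : Scheme.{u}} (f : Y ⟶ X) (p : X' ⟶ X) (y : Y)
  (hfin : (f.residueFieldMap y).hom.Finite)

include hfin in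
/-- points of the base change over a point with finite residue extension have algebraic residue
extension -/
theorem isAlgebraic_residueField (y' : ↥(pullback f p)) (hy' : pullback.fst f p y' = y) :
    letI := ((pullback.snd f p).residueFieldMap y').hom.toAlgebra
    Algebra.IsAlgebraic (X'.residueField (pullback.snd f p y')) ((pullback f p).residueField y') := by
  obtain ⟨π, hpb, hπ⟩ := exists_fibMap f p y
  haveI : IsFinite (Spec.map (f.residueFieldMap y)) := isFinite_SpecMap_residueFieldMap f y hfin
  haveI : IsFinite π := MorphismProperty.of_isPullback (P := @IsFinite) hpb.flip inferInstance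
  have hmem : y' ∈ Set.range ((pullback.fst f p).fiberι y) := by
    rw [Scheme.Hom.range_fiberι]
    exact hy'
  obtain ⟨w, rfl⟩ := hmem
  have hb := residueFieldMap_fiberι_bijective p (f y) (π w)
  have hf : (π.residueFieldMap w).hom.Finite := by
    letI := (π.residueFieldMap w).hom.toAlgebra
    exact Groth.Agent.Helper5.PbFibre.finite_residueFieldMap_of_lqf π w
  have h1 := isAlgebraic_comp π (p.fiberι (f y)) w hb hf
  rw [hπ] at h1
  exact isAlgebraic_of_comp ((pullback.fst f p).fiberι y) (pullback.snd f p) w h1

include hfin in
/-- the degree formula for the points of the base change over a pair of points -/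
theorem fibre_degree_formula (x' : X') (hx' : p x' = f y) :
    ∃ (n : ℕ) (y' : Fin n → ↥(pullback f p)), Function.Injective y' ∧
      (∀ t, (pullback.fst f p t = y ∧ pullback.snd f p t = x') ↔ ∃ i, y' i = t) ∧
      ∑ i, ((pullback.snd f p).residueDegree (y' i) : ℕ∞) * Lfun (pullback.fst f p) (y' i) =
        (f.residueDegree y : ℕ∞) * Lfun p x' := by
  obtain ⟨π, hpb, hπ⟩ := exists_fibMap f p y
  haveI : IsFinite (Spec.map (f.residueFieldMap y)) := isFinite_SpecMap_residueFieldMap f y hfin
  haveI : Flat (Spec.map (f.residueFieldMap y)) := flat_SpecMap_residueFieldMap f y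
  haveI : IsFinite π := MorphismProperty.of_isPullback (P := @IsFinite) hpb.flip inferInstance
  haveI : Flat π := MorphismProperty.of_isPullback (P := @Flat) hpb.flip inferInstance
  have hmemz : x' ∈ Set.range (p.fiberι (f y)) := by
    rw [Scheme.Hom.range_fiberι]
    exact hx'
  obtain ⟨z, rfl⟩ := hmemz
  have hfinset : (π ⁻¹' {z}).Finite := π.finite_preimage_singleton z
  haveI := hfinset.to_subtype
  obtain ⟨n, ⟨e⟩⟩ := Finite.exists_equiv_fin (π ⁻¹' {z} : Set _)
  let w : Fin n → ↥((pullback.fst f p).fiber y) := fun i => (e.symm i : _)
  have hw : ∀ i, π (w i) = z := fun i => (e.symm i).2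
  have hwinj : Function.Injective w := fun i j hij => e.symm.injective (Subtype.ext hij)
  have hwsurj : ∀ w', π w' = z → ∃ i, w i = w' := fun w' hw' => ⟨e ⟨w', hw'⟩, by simp [w]⟩
  have hcomm : ∀ w₀, pullback.snd f p ((pullback.fst f p).fiberι y w₀) =
      p.fiberι (f y) (π w₀) := by
    intro w₀
    have := congrArg (fun g : (pullback.fst f p).fiber y ⟶ X' => g w₀) hπ
    exact this.symm
  refine ⟨n, fun i => (pullback.fst f p).fiberι y (w i), ?_, ?_, ?_⟩
  · exact ((pullback.fst f p).fiberι y).isEmbedding.injective.comp hwinj
  · intro t
    constructor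
    · rintro ⟨ht1, ht2⟩
      have hmem : t ∈ Set.range ((pullback.fst f p).fiberι y) := by
        rw [Scheme.Hom.range_fiberι]
        exact ht1
      obtain ⟨w₀, rfl⟩ := hmem
      rw [hcomm] at ht2
      obtain ⟨i, hi⟩ := hwsurj w₀ ((p.fiberι (f y)).isEmbedding.injective ht2)
      exact ⟨i, congrArg ((pullback.fst f p).fiberι y) hi⟩
    · rintro ⟨i, rfl⟩
      refine ⟨Groth.Agent.Helper5.FibStalk.fiberι_apply _ y (w i), ?_⟩
      rw [hcomm, hw i]
  · have key := total_length_formula π z w hw hwinj hwsurj
    have hrank : π.finrank z = f.residueDegree y := by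
      rw [Scheme.Hom.finrank_of_isPullback _ _ _ _ hpb.flip z]
      exact finrank_SpecMap_residueFieldMap f y hfin _
    rw [hrank, length_fiber_stalk p (f y) z] at key
    rw [← key]
    refine Finset.sum_congr rfl fun i _ => ?_
    rw [length_fiber_stalk (pullback.fst f p) y (w i)]
    congr 2
    have d1 := CycPush.residueDegree_comp ((pullback.fst f p).fiberι y) (pullback.snd f p) (w i)
    have d2 := CycPush.residueDegree_comp π (p.fiberι (f y)) (w i)
    rw [residueDegree_fiberι, mul_one] at d1
    rw [residueDegree_fiberι, one_mul] at d2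
    rw [← d1, ← d2, hπ]

end dict

end Groth.Agent.Helper3.PBC
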