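import Mathlib
import Groth.Prelude
import Groth.Agent.Helper3.PBCb
import Groth.Agent.Helper3.CycPush

set_option autoImplicit false
set_option linter.style.haveILetI false
set_option linter.unusedSectionVars false
set_option linter.unusedVariables false
set_option linter.deprecated false
set_option linter.style.haveILetI false
set_option linter.unusedSectionVars false
set_option linter.unusedVariables false

universe u

open CategoryTheory CategoryTheory.Limits AlgebraicGeometry TopologicalSpace Opposite IsLocalRing
open TensorProduct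

namespace Groth.Agent.Helper3.PBC

open Groth.Agent.Helper3.CycPBE (Lfun)
open Groth.Agent.Helper5.StalkDict

section finiteness

variable {X X' : Scheme.{u}}

/-- at a point maximal in its fibre the fibre length is finite -/
theorem Lfun_ne_top_of_max (p : X' ⟶ X) [IsLocallyNoetherian X'] (x' : X')
    (hmax : ∀ z : X', p z = p x' → z ⤳ x' → z = x') : Lfun p x' ≠ ⊤ := by
  set φ := (p.stalkMap x').hom with hφ
  set I := (maximalIdeal (X.presheaf.stalk (p x'))).map φ with hI
  have hIm : I ≤ maximalIdeal (X'.presheaf.stalk x') := by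
    rw [hI, Ideal.map_le_iff_le_comap]
    intro a ha
    exact (IsLocalRing.mem_maximalIdeal _).mpr (fun hu => ((IsLocalRing.mem_maximalIdeal _).mp ha)
      (isUnit_of_map_unit φ a hu))
  have hcomap : ∀ (q' : ↥(Spec (X'.presheaf.stalk x'))), I ≤ q'.asIdeal →
      p (X'.fromSpecStalk x' q') = p x' := by
    intro q' hq'
    rw [map_fromSpecStalk]
    have h1 : Spec.map (p.stalkMap x') q' = IsLocalRing.closedPoint (X.presheaf.stalk (p x')) := by
      apply PrimeSpectrum.ext
      change q'.asIdeal.comap φ = maximalIdeal _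
      apply le_antisymm
      · exact IsLocalRing.le_maximalIdeal (Ideal.IsPrime.ne_top (Ideal.IsPrime.comap φ))
      · rw [← Ideal.map_le_iff_le_comap]
        exact hq'
    rw [h1, Scheme.fromSpecStalk_closedPoint]
  have hmin : maximalIdeal (X'.presheaf.stalk x') ∈ I.minimalPrimes := by
    refine ⟨⟨(maximalIdeal.isMaximal _).isPrime, hIm⟩, ?_⟩
    rintro q ⟨hq, hIq⟩ hqm
    let Q : ↥(Spec (X'.presheaf.stalk x')) := ⟨q, hq⟩
    have h1 : X'.fromSpecStalk x' Q = x' :=
      hmax _ (hcomap Q hIq) (fromSpecStalk_specializes x' Q)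
    have h2 : X'.fromSpecStalk x' (IsLocalRing.closedPoint _) = x' :=
      Scheme.fromSpecStalk_closedPoint
    have h3 : Q = IsLocalRing.closedPoint _ :=
      (X'.fromSpecStalk x').isEmbedding.injective (h1.trans h2.symm)
    have h4 := congrArg PrimeSpectrum.asIdeal h3
    change q = maximalIdeal _ at h4
    rw [h4]
  haveI : IsArtinianRing (X'.presheaf.stalk x' ⧸ I) :=
    IsLocalRing.quotient_artinian_of_mem_minimalPrimes_of_isLocalRing I hmin
  have h5 : Module.length (X'.presheaf.stalk x' ⧸ I) (X'.presheaf.stalk x' ⧸ I) ≠ ⊤ :=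
    Module.length_ne_top
  have h6 : Module.length (X'.presheaf.stalk x') (X'.presheaf.stalk x' ⧸ I) =
      Module.length (X'.presheaf.stalk x' ⧸ I) (X'.presheaf.stalk x' ⧸ I) :=
    Module.length_eq_of_surjective Ideal.Quotient.mk_surjective
  unfold Lfun
  rw [h6]
  exact h5

/-- a point of the same dimension as its image under a morphism locally of finite type has finite
residue field extension -/
theorem finite_residueFieldMap_of_delta_eq {Y : Scheme.{u}} (f : Y ⟶ X) [LocallyOfFiniteType f]
    (δY : Y → ℤ) (δ : X → ℤ) (hf : Cyc.DeltaCompat f δY δ) (y : Y) (h : δY y = δ (f y)) :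
    (f.residueFieldMap y).hom.Finite := by
  obtain ⟨n, hn1, hn2⟩ := hf y
  letI := (f.residueFieldMap y).hom.toAlgebra
  have hn0 : n = 0 := by
    have : (n : ℤ) = 0 := by linarith
    exact_mod_cast this
  rw [hn0, Nat.cast_zero, trdeg_eq_zero_iff] at hn1
  haveI : Algebra.IsAlgebraic (X.residueField (f y)) (Y.residueField y) := hn1
  haveI : Algebra.EssFiniteType (X.residueField (f y)) (Y.residueField y) := by
    rw [← RingHom.essFiniteType_algebraMap, RingHom.algebraMap_toAlgebra]
    exact RingHom.EssFiniteType.residueFieldMap (LocallyOfFiniteType.stalkMap f y)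
  exact Algebra.finite_of_essFiniteType_of_isAlgebraic

end finiteness

section main

variable {X X' Y : Scheme.{u}} (f : Y ⟶ X) (p : X' ⟶ X) [IsProper f] [Flat p]
  (δ : X → ℤ) (δ' : X' → ℤ) (δY : Y → ℤ) (δY' : ↥(pullback f p) → ℤ)
  (hX' : Cyc.IsSetup X' δ') (hf : Cyc.DeltaCompat f δY δ)
  (hf' : Cyc.DeltaCompat (pullback.snd f p) δY' δ') (c : ℤ)
  (hc : ∀ x' : X', (∀ y, p y = p x' → y ⤳ x' → y = x') → δ' x' = δ (p x') + c)

include hf' in
/-- points over a point with finite residue extension have the dimension of their image -/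
theorem delta_eq_of_finite (y : Y) (hfin : (f.residueFieldMap y).hom.Finite)
    (t : ↥(pullback f p)) (ht : pullback.fst f p t = y) :
    δY' t = δ' (pullback.snd f p t) ∧ (pullback.snd f p).residueDegree t ≠ 0 := by
  have halg := isAlgebraic_residueField f p y hfin t ht
  obtain ⟨n, hn1, hn2⟩ := hf' t
  letI := ((pullback.snd f p).residueFieldMap t).hom.toAlgebra
  haveI : Algebra.IsAlgebraic (X'.residueField (pullback.snd f p t))
    ((pullback f p).residueField t) := halg
  have h0 : Algebra.trdeg (X'.residueField (pullback.snd f p t))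
      ((pullback f p).residueField t) = 0 := trdeg_eq_zero
  rw [h0] at hn1
  have hn0 : n = 0 := by exact_mod_cast hn1.symm
  refine ⟨by rw [hn2, hn0]; simp, ?_⟩
  haveI : Algebra.EssFiniteType (X'.residueField (pullback.snd f p t))
      ((pullback f p).residueField t) := by
    rw [← RingHom.essFiniteType_algebraMap, RingHom.algebraMap_toAlgebra]
    exact RingHom.EssFiniteType.residueFieldMap
      (LocallyOfFiniteType.stalkMap (pullback.snd f p) t)
  haveI : Module.Finite (X'.residueField (pullback.snd f p t))
      ((pullback f p).residueField t) := Algebra.finite_of_essFiniteType_of_isAlgebraic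
  unfold Scheme.Hom.residueDegree
  exact (Module.finrank_pos (R := X'.residueField (pullback.snd f p t))
    (M := (pullback f p).residueField t)).ne'

include hX' hf hf' hc in
open Classical in
/-- the contribution of one point of `Y` to the base change formula -/
theorem per_point (y : Y) (x' : X') (hx' : p x' = f y) (a : ℤ) :
    ∑ᶠ t ∈ {t : ↥(pullback f p) | pullback.fst f p t = y ∧ pullback.snd f p t = x'},
      (if δY' t = δY y + c then a * (((Lfun (pullback.fst f p) t).toNat : ℕ) : ℤ) else 0) *
        ((AlgebraicCycle.mapCoeff (pullback.snd f p) δY' δ' t : ℕ) : ℤ) =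
    if δ' x' = δ (f y) + c then
      a * ((AlgebraicCycle.mapCoeff f δY δ y : ℕ) : ℤ) * (((Lfun p x').toNat : ℕ) : ℤ) else 0 := by
  haveI : IsLocallyNoetherian X' := hX'.1
  obtain ⟨hle, hmaxi⟩ := CycPBA.le_and_max p δ δ' hX'.2.2 c hc x'
  rw [hx'] at hle hmaxi
  have hdle := CycPush.delta_le f δY δ hf y
  by_cases hA : δ' x' = δ (f y) + c ∧ δY y = δ (f y)
  · obtain ⟨hA1, hA2⟩ := hA
    have hfin := finite_residueFieldMap_of_delta_eq f δY δ hf y hA2
    have hmax := hmaxi hA1
    have hLp : Lfun p x' ≠ ⊤ := Lfun_ne_top_of_max p x' (by rw [hx']; exact hmax)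
    obtain ⟨n, t, htinj, htiff, hsum⟩ := fibre_degree_formula f p y hfin x' hx'
    have hset : {t : ↥(pullback f p) | pullback.fst f p t = y ∧ pullback.snd f p t = x'} =
        Set.range t := by
      ext s
      exact htiff s
    have htq : ∀ i, pullback.fst f p (t i) = y := fun i => ((htiff (t i)).mpr ⟨i, rfl⟩).1
    have htf : ∀ i, pullback.snd f p (t i) = x' := fun i => ((htiff (t i)).mpr ⟨i, rfl⟩).2
    have hdt : ∀ i, δY' (t i) = δ' x' ∧ (pullback.snd f p).residueDegree (t i) ≠ 0 := by
      intro i
      have := delta_eq_of_finite f p δ' δY' hf' y hfin (t i) (htq i)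
      rw [htf i] at this
      exact this
    -- all lengths are finite
    have hterm : ∀ i, Lfun (pullback.fst f p) (t i) ≠ ⊤ := by
      intro i htop
      have hle' := Finset.single_le_sum (f := fun i =>
        ((pullback.snd f p).residueDegree (t i) : ℕ∞) * Lfun (pullback.fst f p) (t i))
        (fun j _ => zero_le) (Finset.mem_univ i)
      rw [hsum] at hle'
      simp only [htop] at hle'
      rw [ENat.mul_top (by exact_mod_cast (hdt i).2), top_le_iff] at hle'
      exact (WithTop.mul_ne_top (ENat.coe_ne_top _) hLp) hle'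
    have hsumN : ∑ i, (pullback.snd f p).residueDegree (t i) *
        (Lfun (pullback.fst f p) (t i)).toNat = f.residueDegree y * (Lfun p x').toNat := by
      have h1 : ((∑ i, (pullback.snd f p).residueDegree (t i) *
          (Lfun (pullback.fst f p) (t i)).toNat : ℕ) : ℕ∞) =
          ((f.residueDegree y * (Lfun p x').toNat : ℕ) : ℕ∞) := by
        rw [Nat.cast_sum, Nat.cast_mul, ENat.coe_toNat hLp, ← hsum]
        refine Finset.sum_congr rfl fun i _ => ?_
        rw [Nat.cast_mul, ENat.coe_toNat (hterm i)]
      exact_mod_cast h1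
    rw [hset, finsum_mem_range htinj, finsum_eq_sum_of_fintype, if_pos hA1]
    have hterm2 : ∀ i : Fin n,
        (if δY' (t i) = δY y + c then a * (((Lfun (pullback.fst f p) (t i)).toNat : ℕ) : ℤ)
          else 0) * ((AlgebraicCycle.mapCoeff (pullback.snd f p) δY' δ' (t i) : ℕ) : ℤ) =
        a * (((pullback.snd f p).residueDegree (t i) *
          (Lfun (pullback.fst f p) (t i)).toNat : ℕ) : ℤ) := by
      intro i
      have e1 : δY' (t i) = δY y + c := by rw [(hdt i).1, hA1, hA2]
      have e2 : δY' (t i) = δ' ((pullback.snd f p).base (t i)) := by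
        rw [(hdt i).1]
        exact congrArg δ' (htf i).symm
      unfold AlgebraicCycle.mapCoeff
      rw [if_pos e1, if_pos e2]
      push_cast
      ring
    rw [Finset.sum_congr rfl (fun i _ => hterm2 i), ← Finset.mul_sum, ← Nat.cast_sum, hsumN]
    unfold AlgebraicCycle.mapCoeff
    rw [if_pos (show δY y = δ (f.base y) from hA2)]
    push_cast
    ring
  · have hR : (if δ' x' = δ (f y) + c then
        a * ((AlgebraicCycle.mapCoeff f δY δ y : ℕ) : ℤ) * (((Lfun p x').toNat : ℕ) : ℤ)
        else 0) = 0 := by
      split_ifs with h1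
      · have h2 : δY y ≠ δ (f y) := fun h2 => hA ⟨h1, h2⟩
        unfold AlgebraicCycle.mapCoeff
        rw [if_neg (show ¬ δY y = δ (f.base y) from h2)]
        simp
      · rfl
    rw [hR]
    apply finsum_mem_eq_zero_of_forall_eq_zero
    rintro t ⟨ht1, ht2⟩
    unfold AlgebraicCycle.mapCoeff
    split_ifs with h1 h2
    · exfalso
      have h2' : δY' t = δ' x' := by
        rw [h2]
        exact congrArg δ' ht2
      apply hA
      constructor <;> omega
    · simp
    · simp
    · simp

end main

end Groth.Agent.Helper3.PBC
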