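import Mathlib
import Groth.Prelude
import Groth.Agent.Helper3.PBCc

set_option autoImplicit false
set_option linter.style.haveILetI false
set_option linter.unusedSectionVars false
set_option linter.unusedVariables false
set_option linter.deprecated false
set_option linter.style.haveILetI false
set_option linter.unusedSectionVars false
set_option linter.unusedVariables false

universe u

open CategoryTheory CategoryTheory.Limits AlgebraicGeometry TopologicalSpace Opposite IsLocalRing
open TensorProduct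

namespace Groth.Agent.Helper3.PBC

open Groth.Agent.Helper3.CycPBE (Lfun)

section main

variable {X X' Y : Scheme.{u}} (f : Y ⟶ X) (p : X' ⟶ X) [IsProper f] [Flat p]
  (δ : X → ℤ) (δ' : X' → ℤ) (δY : Y → ℤ) (δY' : ↥(pullback f p) → ℤ)
  (hX' : Cyc.IsSetup X' δ') (hf : Cyc.DeltaCompat f δY δ)
  (hf' : Cyc.DeltaCompat (pullback.snd f p) δY' δ') (c : ℤ)
  (hc : ∀ x' : X', (∀ y, p y = p x' → y ⤳ x' → y = x') → δ' x' = δ (p x') + c)

include hX' hf hf' hc in
open Classical in
/-- flat pullback commutes with proper pushforward in a base change square -/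
theorem main (α : AlgebraicCycle Y ℤ) (α' : AlgebraicCycle (pullback f p) ℤ)
    (hα' : ⇑α' = Cyc.pullFun (pullback.fst f p) δY' δY c ⇑α) :
    Cyc.pullFun p δ' δ c ⇑(AlgebraicCycle.map f δY δ α) =
      ⇑(AlgebraicCycle.map (pullback.snd f p) δY' δ' α') := by
  funext x'
  rw [CycPBE.pullFun_eq]
  simp only [AlgebraicCycle.map, Function.locallyFinsupp.map_apply]
  -- the finite set of relevant points of `Y`
  have hT := CycPush.finite_fibre_support f α (p x')
  set T : Finset Y := hT.toFinset with hTdef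
  have hTmem : ∀ y, y ∈ T ↔ (f y = p x' ∧ α y ≠ 0) := by
    intro y
    rw [hTdef, Set.Finite.mem_toFinset]
    rfl
  -- the finite set of relevant points of the fibre product
  have hS := CycPush.finite_fibre_support (pullback.snd f p) α' x'
  set S : Finset ↥(pullback f p) := hS.toFinset with hSdef
  have hSmem : ∀ t, t ∈ S ↔ (pullback.snd f p t = x' ∧ α' t ≠ 0) := by
    intro t
    rw [hSdef, Set.Finite.mem_toFinset]
    rfl
  have hα't : ∀ t, α' t = if δY' t = δY (pullback.fst f p t) + c then
      α (pullback.fst f p t) * (((Lfun (pullback.fst f p) t).toNat : ℕ) : ℤ) else 0 := by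
    intro t
    rw [hα', CycPBE.pullFun_eq]
  have hcond : ∀ t : ↥(pullback f p), f (pullback.fst f p t) = p (pullback.snd f p t) := by
    intro t
    have := congrArg (fun g : pullback f p ⟶ X => g t) (pullback.condition (f := f) (g := p))
    exact this
  have hmaps : ∀ t ∈ S, pullback.fst f p t ∈ T := by
    intro t ht
    rw [hSmem] at ht
    rw [hTmem]
    refine ⟨by rw [hcond, ht.1], ?_⟩
    intro h0
    apply ht.2
    rw [hα't t, h0]
    split_ifs <;> simp
  -- the right hand side as a double sum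
  have hR : ∑ᶠ t ∈ (pullback.snd f p) ⁻¹' {x'}, α' t *
      ((AlgebraicCycle.mapCoeff (pullback.snd f p) δY' δ' t : ℕ) : ℤ) =
      ∑ t ∈ S, α' t * ((AlgebraicCycle.mapCoeff (pullback.snd f p) δY' δ' t : ℕ) : ℤ) := by
    apply finsum_mem_eq_sum_of_subset
    · rintro t ⟨ht1, ht2⟩
      rw [Finset.mem_coe, hSmem]
      refine ⟨ht1, ?_⟩
      intro h0
      apply ht2
      show α' t * _ = 0
      rw [h0, zero_mul]
    · intro t ht
      rw [Finset.mem_coe, hSmem] at ht
      exact ht.1
  have hfib : ∀ y ∈ T, ∑ t ∈ S.filter (fun t => pullback.fst f p t = y), α' t *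
      ((AlgebraicCycle.mapCoeff (pullback.snd f p) δY' δ' t : ℕ) : ℤ) =
      if δ' x' = δ (f y) + c then
        α y * ((AlgebraicCycle.mapCoeff f δY δ y : ℕ) : ℤ) * (((Lfun p x').toNat : ℕ) : ℤ)
      else 0 := by
    intro y hy
    rw [hTmem] at hy
    rw [← per_point f p δ δ' δY δY' hX' hf hf' c hc y x' hy.1.symm (α y)]
    symm
    have e1 : ∑ᶠ t ∈ {t : ↥(pullback f p) | pullback.fst f p t = y ∧ pullback.snd f p t = x'},
        (if δY' t = δY y + c then α y * (((Lfun (pullback.fst f p) t).toNat : ℕ) : ℤ) else 0) *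
          ((AlgebraicCycle.mapCoeff (pullback.snd f p) δY' δ' t : ℕ) : ℤ) =
        ∑ᶠ t ∈ {t : ↥(pullback f p) | pullback.fst f p t = y ∧ pullback.snd f p t = x'},
          α' t * ((AlgebraicCycle.mapCoeff (pullback.snd f p) δY' δ' t : ℕ) : ℤ) := by
      apply finsum_mem_congr rfl
      rintro t ⟨ht1, ht2⟩
      rw [hα't t, ht1]
    rw [e1]
    apply finsum_mem_eq_sum_of_subset
    · rintro t ⟨⟨ht1, ht2⟩, ht3⟩
      rw [Finset.mem_coe, Finset.mem_filter, hSmem]
      refine ⟨⟨ht2, ?_⟩, ht1⟩
      intro h0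
      apply ht3
      show α' t * _ = 0
      rw [h0, zero_mul]
    · intro t ht
      rw [Finset.mem_coe, Finset.mem_filter, hSmem] at ht
      exact ⟨ht.2, ht.1.1⟩
  rw [hR, ← Finset.sum_fiberwise_of_maps_to hmaps, Finset.sum_congr rfl hfib]
  -- the left hand side
  have hL : ∑ᶠ y ∈ f ⁻¹' {p x'}, α y * ((AlgebraicCycle.mapCoeff f δY δ y : ℕ) : ℤ) =
      ∑ y ∈ T, α y * ((AlgebraicCycle.mapCoeff f δY δ y : ℕ) : ℤ) := by
    apply finsum_mem_eq_sum_of_subset
    · rintro y ⟨hy1, hy2⟩
      rw [Finset.mem_coe, hTmem]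
      refine ⟨hy1, ?_⟩
      intro h0
      apply hy2
      show α y * _ = 0
      rw [h0, zero_mul]
    · intro y hy
      rw [Finset.mem_coe, hTmem] at hy
      exact hy.1
  rw [hL]
  split_ifs with h1
  · rw [Finset.sum_mul]
    apply Finset.sum_congr rfl
    intro y hy
    rw [hTmem] at hy
    rw [if_pos (by rw [hy.1]; exact h1)]
  · symm
    apply Finset.sum_eq_zero
    intro y hy
    rw [hTmem] at hy
    rw [if_neg (by rw [hy.1]; exact h1)]

end main

end Groth.Agent.Helper3.PBC
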