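import Mathlib

set_option linter.style.haveILetI false
set_option linter.unusedSectionVars false
set_option linter.unusedVariables false
set_option linter.style.haveILetI false
set_option linter.unusedSectionVars false
set_option linter.unusedVariables false

open AlgebraicGeometry CategoryTheory CategoryTheory.Limits TensorProduct Function

namespace Groth.Agent.Helper3.PIGeo1

universe u

/-- A noetherian scheme has a dense affine open. -/
theorem exists_dense_affine (X : Scheme.{u}) [TopologicalSpace.NoetherianSpace X] :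
    ∃ U : X.Opens, IsAffineOpen U ∧ Dense (U : Set X) := by
  have hwf : WellFoundedGT X.Opens := inferInstance
  obtain ⟨U, hU, hmax⟩ := hwf.wf.has_min {U : X.Opens | IsAffineOpen U} ⟨⊥, isAffineOpen_bot X⟩
  refine ⟨U, hU, ?_⟩
  by_contra hnd
  rw [dense_iff_closure_eq, Set.eq_univ_iff_forall] at hnd
  push Not at hnd
  obtain ⟨x, hx⟩ := hnd
  let C : X.Opens := ⟨(closure (U : Set X))ᶜ, isClosed_closure.isOpen_compl⟩
  obtain ⟨V, hV, hxV, hVC⟩ := exists_isAffineOpen_mem_and_subset (x := x) (U := C) hx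
  have hd : Disjoint U V := by
    rw [← TopologicalSpace.Opens.coe_disjoint, Set.disjoint_left]
    intro z hz1 hz2
    exact hVC hz2 (subset_closure hz1)
  have haff : IsAffineOpen (U ⊔ V) := hU.sup_of_disjoint hV hd
  refine hmax (U ⊔ V) haff ?_
  show U < U ⊔ V
  refine lt_of_le_of_ne le_sup_left ?_
  intro h
  have hxU : x ∈ U := by
    rw [h]; exact Or.inr hxV
  exact hx (subset_closure hxU)

/-- Restriction of a surjective closed immersion into a base change over an open of the
source. -/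
theorem restrict {X S S' Z' : Scheme.{u}} (f : X ⟶ S) (s' : S' ⟶ S)
    (j : Z' ⟶ pullback f s') [IsClosedImmersion j] (hj : Function.Surjective j.base)
    [IsReduced Z'] (W : X.Opens) :
    ∃ (Z : Scheme.{u}) (_ : IsReduced Z) (i : Z ⟶ pullback (W.ι ≫ f) s') (o : Z ⟶ Z'),
      IsOpenImmersion o ∧ IsClosedImmersion i ∧ Function.Surjective i.base ∧
      i ≫ pullback.snd (W.ι ≫ f) s' = o ≫ j ≫ pullback.snd f s' ∧
      Set.range o.base = (j ≫ pullback.fst f s').base ⁻¹' (W : Set X) := by
  let π := pullback.fst f s'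
  let V : (pullback f s').Opens := π ⁻¹ᵁ W
  have h1 : IsPullback V.ι (π ∣_ W) π W.ι := (isPullback_morphismRestrict π W).flip
  have h2 : IsPullback (pullback.snd f s') π s' f := (IsPullback.of_hasPullback f s').flip
  have h3 : IsPullback (V.ι ≫ pullback.snd f s') (π ∣_ W) s' (W.ι ≫ f) := h1.paste_horiz h2
  let e : (V : Scheme.{u}) ≅ pullback (W.ι ≫ f) s' := h3.flip.isoPullback
  have he_snd : e.hom ≫ pullback.snd (W.ι ≫ f) s' = V.ι ≫ pullback.snd f s' :=
    h3.flip.isoPullback_hom_snd
  let jV : ((j ⁻¹ᵁ V : Z'.Opens) : Scheme.{u}) ⟶ V := j ∣_ V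
  haveI : IsClosedImmersion jV := IsZariskiLocalAtTarget.restrict ‹_› V
  have hjV : jV ≫ V.ι = (j ⁻¹ᵁ V).ι ≫ j := morphismRestrict_ι j V
  have hsurj : Function.Surjective jV.base := by
    intro v
    obtain ⟨z, hz⟩ := hj v.1
    have hzV : z ∈ j ⁻¹ᵁ V := by
      show j z ∈ V
      rw [hz]; exact v.2
    refine ⟨⟨z, hzV⟩, ?_⟩
    apply V.ι.injective
    rw [← Scheme.Hom.comp_apply, hjV, Scheme.Hom.comp_apply]
    exact hz
  refine ⟨(j ⁻¹ᵁ V : Z'.Opens), inferInstance, jV ≫ e.hom, (j ⁻¹ᵁ V).ι, inferInstance,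
    inferInstance, ?_, ?_, ?_⟩
  · rw [Scheme.Hom.comp_base, TopCat.coe_comp]
    exact (ConcreteCategory.bijective_of_isIso e.hom.base).2.comp hsurj
  · rw [Category.assoc, he_snd, ← Category.assoc, hjV, Category.assoc]
  · rw [Scheme.Opens.range_ι]
    rfl

end Groth.Agent.Helper3.PIGeo1
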