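import Mathlib
import Groth.Prelude

set_option autoImplicit false
set_option linter.style.haveILetI false
set_option linter.unusedSectionVars false
set_option linter.unusedVariables false
set_option linter.deprecated false
set_option linter.style.haveILetI false
set_option linter.unusedSectionVars false
set_option linter.unusedVariables false

namespace Groth.Agent.Helper3.PPowA

universe u

open TensorProduct

/-- radicial: every element has a `p`-power in the image of the base -/
def Rad (p : ℕ) (R S : Type*) [CommRing R] [CommRing S] [Algebra R S] : Prop :=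
  ∀ s : S, ∃ N : ℕ, s ^ (p ^ N) ∈ (algebraMap R S).range

theorem rad_baseChange (p : ℕ) (R0 S0 R' : Type*) [CommRing R0] [CommRing S0] [Algebra R0 S0]
    [CommRing R'] [Algebra R0 R'] [ExpChar (R' ⊗[R0] S0) p] (h : Rad p R0 S0) :
    Rad p R' (R' ⊗[R0] S0) := by
  intro x
  induction x using TensorProduct.induction_on with
  | zero => exact ⟨0, 0, by simp⟩
  | tmul r s =>
    obtain ⟨N, c, hc⟩ := h s
    refine ⟨N, c • r ^ (p ^ N), ?_⟩
    rw [Algebra.TensorProduct.tmul_pow, ← hc, Algebra.TensorProduct.algebraMap_apply,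
      Algebra.algebraMap_self, RingHom.id_apply, Algebra.algebraMap_eq_smul_one,
      TensorProduct.smul_tmul]
  | add x y hx hy =>
    obtain ⟨N, a, ha⟩ := hx
    obtain ⟨M, b, hb⟩ := hy
    refine ⟨N + M, a ^ (p ^ M) + b ^ (p ^ N), ?_⟩
    rw [add_pow_expChar_pow, map_add, map_pow, map_pow, ha, hb, ← pow_mul, ← pow_mul,
      ← pow_add, ← pow_add, add_comm M N]

theorem rad_localization (p : ℕ) (R S : Type*) [CommRing R] [CommRing S] [Algebra R S]
    (M : Submonoid R) (Rm Sm : Type*) [CommRing Rm] [CommRing Sm] [Algebra R Rm] [Algebra S Sm]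
    [Algebra Rm Sm] [Algebra R Sm] [IsScalarTower R Rm Sm] [IsScalarTower R S Sm]
    [IsLocalization M Rm] [IsLocalization (Algebra.algebraMapSubmonoid S M) Sm]
    (h : Rad p R S) : Rad p Rm Sm := by
  intro x
  obtain ⟨⟨s, ⟨m, hm⟩⟩, hx⟩ := IsLocalization.surj (Algebra.algebraMapSubmonoid S M) x
  obtain ⟨r, hr, rfl⟩ := hm
  simp only at hx
  obtain ⟨N, a, ha⟩ := h s
  refine ⟨N, IsLocalization.mk' Rm a (⟨r ^ (p ^ N), pow_mem hr _⟩ : M), ?_⟩
  have hu : IsUnit (algebraMap R Sm (r ^ (p ^ N))) := by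
    rw [IsScalarTower.algebraMap_apply R Rm Sm]
    exact (IsLocalization.map_units Rm (⟨r ^ (p ^ N), pow_mem hr _⟩ : M)).map _
  apply hu.mul_left_injective
  simp only
  rw [IsScalarTower.algebraMap_apply R Rm Sm, ← map_mul, IsLocalization.mk'_spec,
    ← IsScalarTower.algebraMap_apply R Rm Sm, IsScalarTower.algebraMap_apply R S Sm, ha,
    map_pow, ← hx, mul_pow, map_pow, map_pow, ← IsScalarTower.algebraMap_apply R Rm Sm,
    IsScalarTower.algebraMap_apply R S Sm]

theorem prime_eq_nilradical (p : ℕ) (hp : 0 < p) (F B : Type*) [CommRing F] [CommRing B]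
    [Algebra F B]
    (hF : IsField F) (h : Rad p F B) (I : Ideal B) [I.IsPrime] : I = nilradical B := by
  refine le_antisymm ?_ (nilradical_le_prime I)
  intro x hx
  obtain ⟨N, f, hf⟩ := h x
  by_cases hf0 : f = 0
  · rw [hf0, map_zero] at hf
    exact ⟨p ^ N, hf.symm⟩
  · exfalso
    obtain ⟨g, hg⟩ := hF.mul_inv_cancel hf0
    have h1 : x ^ (p ^ N) ∈ I := I.pow_mem_of_mem hx _ (pow_pos hp _)
    rw [← hf] at h1
    have : (1 : B) ∈ I := by
      have := I.mul_mem_right (algebraMap F B g) h1
      rwa [← map_mul, hg, map_one] at this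
    exact (Ideal.IsPrime.ne_top ‹_›) ((Ideal.eq_top_iff_one _).mpr this)

theorem length_self_ringEquiv {R S : Type*} [CommRing R] [CommRing S] (e : R ≃+* S) :
    Module.length R R = Module.length S S := by
  letI : Algebra R S := e.toRingHom.toAlgebra
  have h1 : Module.length R S = Module.length S S :=
    Module.length_eq_of_surjective e.surjective
  let e' : R ≃ₗ[R] S :=
    { e with
      map_smul' := fun r y => by
        simp only [smul_eq_mul, RingHom.id_apply, Algebra.smul_def]
        exact map_mul e r y }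
  rw [e'.length_eq, h1]

theorem enat_pow_of_mul (p : ℕ) (hp : p = 1 ∨ p.Prime) (m : ℕ) (a b : ℕ∞)
    (h : a * b = ((p ^ m : ℕ) : ℕ∞)) : ∃ n : ℕ, a = ((p ^ n : ℕ) : ℕ∞) := by
  have hpos : 0 < p ^ m := by
    rcases hp with rfl | hp
    · simp
    · exact pow_pos hp.pos _
  have ha : a ≠ ⊤ := by
    rintro rfl
    by_cases hb : b = 0
    · rw [hb, mul_zero] at h
      exact absurd (by exact_mod_cast h.symm : p ^ m = 0) hpos.ne'
    · rw [ENat.top_mul hb] at h
      exact absurd h.symm (ENat.coe_ne_top _)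
  have hb : b ≠ ⊤ := by
    rintro rfl
    by_cases ha0 : a = 0
    · rw [ha0, zero_mul] at h
      exact absurd (by exact_mod_cast h.symm : p ^ m = 0) hpos.ne'
    · rw [ENat.mul_top ha0] at h
      exact absurd h.symm (ENat.coe_ne_top _)
  lift a to ℕ using ha
  lift b to ℕ using hb
  have h' : a * b = p ^ m := by exact_mod_cast h
  rcases hp with rfl | hp
  · rw [one_pow] at h'
    refine ⟨0, ?_⟩
    rw [pow_zero]
    exact_mod_cast (Nat.eq_one_of_mul_eq_one_right h')
  · obtain ⟨n, -, hn⟩ := (Nat.dvd_prime_pow hp).mp (Dvd.intro b h')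
    exact ⟨n, by exact_mod_cast hn⟩

theorem core (p : ℕ) (hp : p = 1 ∨ p.Prime)
    (R S : Type u) [CommRing R] [CommRing S] [Algebra R S] [IsReduced R] [Module.Free R S]
    [Module.Finite R S] (hrad : Rad p R S) (m : ℕ) (hrank : Module.finrank R S = p ^ m)
    (Q : Ideal S) [Q.IsPrime] (hQ : Q ∈ minimalPrimes S) :
    ∃ n : ℕ, Module.length (Localization.AtPrime Q) (Localization.AtPrime Q) = ((p ^ n : ℕ) : ℕ∞) := by
  have hp0 : 0 < p := by
    rcases hp with rfl | h
    exacts [one_pos, h.pos]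
  obtain ⟨P, hPdef⟩ : ∃ P : Ideal R, P = Q.under R := ⟨_, rfl⟩
  haveI hPprime : P.IsPrime := hPdef ▸ inferInstance
  haveI : Q.LiesOver P := ⟨hPdef⟩
  have hPmin : P ∈ minimalPrimes R := by
    refine ⟨⟨hPprime, bot_le⟩, fun P' hP' hle => ?_⟩
    by_contra hne
    have hlt : P' < P := lt_of_le_not_ge hle hne
    haveI := hP'.1
    obtain ⟨Q', hQ'lt, hQ'prime, _⟩ :=
      Ideal.exists_ideal_lt_liesOver_of_lt (p := P') (q := P) Q hlt
    exact absurd (hQ.2 ⟨hQ'prime, bot_le⟩ hQ'lt.le) (not_le_of_gt hQ'lt)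
  haveI : Nontrivial R := nontrivial_of_ne (0 : R) 1 (fun h =>
    hPprime.ne_top ((Ideal.eq_top_iff_one _).mpr (h ▸ P.zero_mem)))
  -- the localizations
  let Rp := Localization.AtPrime P
  let M := Algebra.algebraMapSubmonoid S P.primeCompl
  let Sp := Localization M
  haveI : Ring.KrullDimLE 0 Rp := Ring.KrullDimLE.of_isLocalization P hPmin Rp
  have hF : IsField Rp := Ring.KrullDimLE.isField_of_isReduced
  have hFu : ∀ x : Rp, x ≠ 0 → IsUnit x := fun x hx => by
    obtain ⟨y, hy⟩ := hF.mul_inv_cancel hx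
    exact IsUnit.of_mul_eq_one y hy
  -- basis
  let b := Module.Free.chooseBasis R S
  let b' : Module.Basis _ Rp Sp := b.localizationLocalization Rp P.primeCompl Sp
  haveI : Module.Free Rp Sp := Module.Free.of_basis b'
  haveI : Module.Finite Rp Sp := Module.Finite.of_basis b'
  have hrk : Module.finrank Rp Sp = p ^ m := by
    rw [Module.finrank_eq_card_basis b', ← hrank, Module.finrank_eq_card_basis b]
  -- Q disjoint from M
  have hdisj : Disjoint (M : Set S) (Q : Set S) := by
    rw [Set.disjoint_left]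
    rintro _ ⟨r, hr, rfl⟩ hrQ
    apply hr
    rw [hPdef]
    exact hrQ
  have hQ' : (Q.map (algebraMap S Sp)).IsPrime :=
    IsLocalization.isPrime_of_isPrime_disjoint M Sp Q ‹_› hdisj
  have hradp : Rad p Rp Sp := rad_localization p R S P.primeCompl Rp Sp hrad
  have huniq : ∀ I : Ideal Sp, I.IsPrime → I = nilradical Sp := fun I hI =>
    prime_eq_nilradical p hp0 Rp Sp hF hradp I
  obtain ⟨hdim, hloc⟩ : Ring.KrullDimLE 0 Sp ∧ IsLocalRing Sp :=
    ((Ring.krullDimLE_zero_and_isLocalRing_tfae Sp).out 0 1 rfl rfl).mpr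
      ⟨Q.map (algebraMap S Sp), hQ', fun J hJ => (huniq J hJ).trans (huniq _ hQ').symm⟩
  have hmax : IsLocalRing.maximalIdeal Sp = Q.map (algebraMap S Sp) :=
    (huniq _ inferInstance).trans (huniq _ hQ').symm
  haveI : IsLocalization.AtPrime Sp (IsLocalRing.maximalIdeal Sp) :=
    IsLocalization.of_le_isUnit (fun x hx => by
      by_contra hnu
      exact hx ((IsLocalRing.mem_maximalIdeal x).mpr hnu))
  have hloc' : IsLocalization.AtPrime Sp ((IsLocalRing.maximalIdeal Sp).comap (algebraMap S Sp)) :=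
    IsLocalization.isLocalization_isLocalization_atPrime_isLocalization M Sp
      (IsLocalRing.maximalIdeal Sp)
  have hcomap : (IsLocalRing.maximalIdeal Sp).comap (algebraMap S Sp) = Q := by
    rw [hmax]
    exact IsLocalization.under_map_of_isPrime_disjoint M Sp ‹_› hdisj
  have e : Localization.AtPrime Q ≃ₐ[S] Sp := by
    have h2 : IsLocalization Q.primeCompl Sp := by
      have := hloc'
      simp only [hcomap] at this
      exact this
    exact IsLocalization.algEquiv Q.primeCompl _ _
  rw [length_self_ringEquiv e.toRingEquiv]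
  haveI : IsLocalHom (algebraMap Rp Sp) := ⟨fun a ha => by
    by_cases h0 : a = 0
    · subst h0
      rw [map_zero] at ha
      exact absurd ha not_isUnit_zero
    · exact hFu a h0⟩
  have key := IsLocalRing.length_restrictScalars Rp Sp Sp
  have h1 : Module.length Rp Rp = 1 :=
    Module.length_eq_one_iff.mpr (isSimpleModule_self_iff_isUnit.mpr ⟨inferInstance, hFu⟩)
  rw [Module.length_of_free_of_finite, hrk, h1, mul_one] at key
  exact enat_pow_of_mul p hp m _ _ key.symm

end Groth.Agent.Helper3.PPowA
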