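import Mathlib
import Groth.Prelude

set_option autoImplicit false
set_option linter.style.haveILetI false
set_option linter.unusedSectionVars false
set_option linter.unusedVariables false
set_option linter.deprecated false
set_option linter.style.haveILetI false
set_option linter.unusedSectionVars false
set_option linter.unusedVariables false

namespace Groth.Agent.Helper3.PPowB

universe u

open TensorProduct

/-- `k(t) ⊗_k K` is a domain -/
theorem isDomain_tensor (k K : Type u) [Field k] [Field K] [Algebra k K] (ι : Type u)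
    (Pk : Type u) [CommRing Pk] [Algebra k Pk] (e : Pk ≃ₐ[k] MvPolynomial ι k)
    (L0 : Type u) [Field L0] [Algebra Pk L0] [IsFractionRing Pk L0] [Algebra k L0]
    [IsScalarTower k Pk L0] : IsDomain (L0 ⊗[k] K) := by
  -- `B = Pk ⊗ K` is a polynomial ring over `K`
  let e1 : Pk ⊗[k] K ≃ₐ[k] MvPolynomial ι K :=
    ((Algebra.TensorProduct.congr e (AlgEquiv.refl : K ≃ₐ[k] K)).trans
      (Algebra.TensorProduct.comm k (MvPolynomial ι k) K)).trans
      ((MvPolynomial.algebraTensorAlgEquiv k K).restrictScalars k)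
  haveI : IsDomain (Pk ⊗[k] K) := e1.toMulEquiv.isDomain _
  haveI : IsDomain Pk := e.toMulEquiv.isDomain _
  have hinj : Function.Injective (algebraMap Pk (Pk ⊗[k] K)) :=
    Algebra.TensorProduct.includeLeft_injective (S := Pk) (algebraMap k K).injective
  have hle : Algebra.algebraMapSubmonoid (Pk ⊗[k] K) (nonZeroDivisors Pk) ≤
      nonZeroDivisors (Pk ⊗[k] K) := by
    rintro _ ⟨a, ha, rfl⟩
    have ha : a ∈ nonZeroDivisors Pk := ha
    rw [mem_nonZeroDivisors_iff_ne_zero] at ha ⊢
    exact fun h => ha (hinj (h.trans (map_zero _).symm))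
  haveI : IsDomain ((Pk ⊗[k] K) ⊗[Pk] L0) :=
    IsLocalization.isDomain_of_le_nonZeroDivisors (R := Pk ⊗[k] K) ((Pk ⊗[k] K) ⊗[Pk] L0) hle
  let e2 : (Pk ⊗[k] K) ⊗[Pk] L0 ≃ₐ[Pk] L0 ⊗[k] K :=
    (Algebra.TensorProduct.comm Pk (Pk ⊗[k] K) L0).trans
      (Algebra.TensorProduct.cancelBaseChange k Pk Pk L0 K)
  exact e2.symm.toMulEquiv.isDomain _

/-- `Ls ⊗_k K` is reduced when `Ls / L0` is finite separable and `L0 ⊗_k K` is a domain -/
theorem isReduced_tensor (k K : Type u) [Field k] [Field K] [Algebra k K]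
    (L0 Ls : Type u) [Field L0] [Field Ls] [Algebra k L0] [Algebra L0 Ls] [Algebra k Ls]
    [IsScalarTower k L0 Ls] [FiniteDimensional L0 Ls] [Algebra.IsSeparable L0 Ls]
    (hD : IsDomain (L0 ⊗[k] K)) : IsReduced (Ls ⊗[k] K) := by
  let D := L0 ⊗[k] K
  let E := FractionRing D
  let e3 : Ls ⊗[L0] D ≃ₐ[L0] Ls ⊗[k] K := Algebra.TensorProduct.cancelBaseChange k L0 L0 Ls K
  let φ : Ls ⊗[L0] D →ₐ[L0] Ls ⊗[L0] E :=
    Algebra.TensorProduct.map (AlgHom.id L0 Ls) (IsScalarTower.toAlgHom L0 D E)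
  have hφ : Function.Injective φ :=
    Module.Flat.lTensor_preserves_injective_linearMap (M := Ls)
      (IsScalarTower.toAlgHom L0 D E).toLinearMap (IsFractionRing.injective D E)
  haveI : Algebra.FormallyUnramified L0 Ls := Algebra.FormallyUnramified.of_isSeparable L0 Ls
  haveI : IsReduced (E ⊗[L0] Ls) := Algebra.FormallyUnramified.isReduced_of_field E (E ⊗[L0] Ls)
  let e4 : Ls ⊗[L0] E ≃ₐ[L0] E ⊗[L0] Ls := Algebra.TensorProduct.comm L0 Ls E
  have h1 : Function.Injective ((e4.toAlgHom.comp φ).comp e3.symm.toAlgHom) :=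
    (e4.injective.comp hφ).comp e3.symm.injective
  exact isReduced_of_injective _ h1

end Groth.Agent.Helper3.PPowB
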