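import Mathlib
import Groth.Prelude
import Groth.Agent.Helper3.PPowA
import Groth.Agent.Helper3.PPowB

set_option autoImplicit false
set_option linter.style.haveILetI false
set_option linter.unusedSectionVars false
set_option linter.unusedVariables false
set_option linter.deprecated false
set_option linter.style.haveILetI false
set_option linter.unusedSectionVars false
set_option linter.unusedVariables false

namespace Groth.Agent.Helper3.PPowC

universe u

open TensorProduct Groth.Agent.Helper3.PPowA

theorem main_tower (k K L L0 Ls : Type u) [Field k] [Field K] [Field L] [Field L0] [Field Ls]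
    [Algebra k K] [Algebra k L] [Algebra k L0] [Algebra k Ls] [Algebra L0 Ls] [Algebra Ls L]
    [IsScalarTower k L0 Ls] [IsScalarTower k Ls L]
    [FiniteDimensional L0 Ls] [Algebra.IsSeparable L0 Ls] [FiniteDimensional Ls L]
    [IsPurelyInseparable Ls L] (hD : IsDomain (L0 ⊗[k] K)) (p : ℕ) [ExpChar k p]
    (q : Ideal (K ⊗[k] L)) [q.IsPrime] (hq : q ∈ minimalPrimes (K ⊗[k] L)) :
    ∃ n : ℕ, Module.length (Localization.AtPrime q) (Localization.AtPrime q) =
      ((p ^ n : ℕ) : ℕ∞) := by
  have hp : p = 1 ∨ p.Prime := by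
    rcases ‹ExpChar k p› with _ | ⟨hp⟩
    · exact Or.inl rfl
    · exact Or.inr hp
  haveI : IsReduced (Ls ⊗[k] K) := PPowB.isReduced_tensor k K L0 Ls hD
  let R := Ls ⊗[k] K
  let S := R ⊗[Ls] L
  let ε : K ⊗[k] L ≃+* S :=
    ((Algebra.TensorProduct.comm k K L).toRingEquiv.trans
      (Algebra.TensorProduct.cancelBaseChange k Ls Ls L K).symm.toRingEquiv).trans
      (Algebra.TensorProduct.comm Ls L R).toRingEquiv
  haveI : Nontrivial (K ⊗[k] L) := nontrivial_of_ne (0 : K ⊗[k] L) 1 (fun h =>
    (Ideal.IsPrime.ne_top ‹q.IsPrime›) ((Ideal.eq_top_iff_one _).mpr (h ▸ q.zero_mem)))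
  haveI : Nontrivial S := ε.injective.nontrivial
  haveI : ExpChar Ls p := expChar_of_injective_algebraMap (algebraMap k Ls).injective p
  haveI : ExpChar S p := expChar_of_injective_algebraMap (algebraMap Ls S).injective p
  have hrad0 : Rad p Ls L := fun x => IsPurelyInseparable.pow_mem Ls p x
  have hrad : Rad p R S := rad_baseChange p Ls L R hrad0
  obtain ⟨m, hm⟩ := IsPurelyInseparable.finrank_eq_pow (F := Ls) L p
  have hrank : Module.finrank R S = p ^ m := by
    rw [← hm]
    exact Module.finrank_baseChange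
  let Q : Ideal S := q.comap ε.symm.toRingHom
  haveI : Q.IsPrime := Ideal.comap_isPrime _ _
  have hQ : Q ∈ minimalPrimes S := by
    refine ⟨⟨inferInstance, bot_le⟩, fun Q' hQ' hle => ?_⟩
    haveI := hQ'.1
    have h1 : Q'.comap ε.toRingHom ≤ q := by
      intro x hx
      have := hle hx
      simpa [Q] using this
    have h2 := hq.2 ⟨Ideal.comap_isPrime _ _, bot_le⟩ h1
    intro y hy
    have hy' : ε.symm y ∈ q := hy
    have := h2 hy'
    have h3 : ε (ε.symm y) ∈ Q' := this
    rwa [RingEquiv.apply_symm_apply] at h3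
  obtain ⟨n, hn⟩ := core p hp R S hrad m hrank Q hQ
  refine ⟨n, ?_⟩
  rw [← hn]
  exact length_self_ringEquiv (Localization.localRingEquiv q Q ε (by
    ext x
    simp [Q]))

open scoped IntermediateField.algebraAdjoinAdjoin in
theorem main (k K L : Type u) [Field k] [Field K] [Field L] [Algebra k K] [Algebra k L]
    (hL : (⊤ : IntermediateField k L).FG) (p : ℕ) [ExpChar k p] (q : Ideal (K ⊗[k] L)) [q.IsPrime]
    (hq : q ∈ minimalPrimes (K ⊗[k] L)) :
    ∃ n : ℕ, Module.length (Localization.AtPrime q) (Localization.AtPrime q) =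
      ((p ^ n : ℕ) : ℕ∞) := by
  obtain ⟨ι, t, ht⟩ := exists_isTranscendenceBasis' k L
  let L0 := IntermediateField.adjoin k (Set.range t)
  let Pk := Algebra.adjoin k (Set.range t)
  let e : Pk ≃ₐ[k] MvPolynomial ι k := ht.1.aevalEquiv.symm
  have hD : IsDomain (L0 ⊗[k] K) := PPowB.isDomain_tensor k K ι Pk e L0
  haveI : Algebra.IsAlgebraic L0 L := ht.isAlgebraic_field
  haveI : Algebra.EssFiniteType k L := IntermediateField.fg_top_iff.mp hL
  haveI : Algebra.EssFiniteType L0 L := Algebra.EssFiniteType.of_comp k L0 L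
  haveI : FiniteDimensional L0 L := Algebra.finite_of_essFiniteType_of_isAlgebraic
  let Ls := separableClosure L0 L
  haveI : IsPurelyInseparable Ls L := separableClosure.isPurelyInseparable L0 L
  haveI : IsScalarTower k Ls L := IsScalarTower.of_algebraMap_eq (fun x => rfl)
  exact main_tower k K L L0 Ls hD p q hq

end Groth.Agent.Helper3.PPowC
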