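import Mathlib
import Groth.Prelude
import Groth.Agent.Helper3.PPowC

set_option autoImplicit false
set_option linter.style.haveILetI false
set_option linter.unusedSectionVars false
set_option linter.unusedVariables false
set_option linter.deprecated false
set_option linter.style.haveILetI false
set_option linter.unusedSectionVars false
set_option linter.unusedVariables false

namespace Groth.Agent.Helper3.PPowD

universe u

open TensorProduct AlgebraicGeometry CategoryTheory CategoryTheory.Limits
  Groth.Agent.Helper3.PPowA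

/-- all primes of `L ⊗_k K` are minimal when `K / k` is algebraic -/
theorem mem_minimalPrimes_tensor (k K L : Type u) [Field k] [Field K] [Field L] [Algebra k K]
    [Algebra k L] [Algebra.IsAlgebraic k K] (q : Ideal (L ⊗[k] K)) [q.IsPrime] :
    q ∈ minimalPrimes (L ⊗[k] K) := by
  haveI : Algebra.IsIntegral k K := Algebra.IsAlgebraic.isIntegral
  have hmax : ∀ P : Ideal (L ⊗[k] K), P.IsPrime → P.IsMaximal := fun P hP => by
    haveI := hP
    apply Ideal.isMaximal_of_isIntegral_of_isMaximal_comap (R := L) P
    haveI : (P.comap (algebraMap L (L ⊗[k] K))).IsPrime := Ideal.comap_isPrime _ _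
    rw [Ideal.eq_bot_of_prime (P.comap (algebraMap L (L ⊗[k] K)))]
    exact Ideal.bot_isMaximal
  refine ⟨⟨inferInstance, bot_le⟩, fun P' hP' hle => ?_⟩
  exact ((hmax P' hP'.1).eq_of_le (Ideal.IsPrime.ne_top ‹q.IsPrime›) hle).ge

/-- `PPowC.main` with the factors swapped -/
theorem main' (k K L : Type u) [Field k] [Field K] [Field L] [Algebra k K] [Algebra k L]
    (hL : (⊤ : IntermediateField k L).FG) (p : ℕ) [ExpChar k p] (q : Ideal (L ⊗[k] K)) [q.IsPrime]
    (hq : q ∈ minimalPrimes (L ⊗[k] K)) :
    ∃ n : ℕ, Module.length (Localization.AtPrime q) (Localization.AtPrime q) =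
      ((p ^ n : ℕ) : ℕ∞) := by
  let ε : L ⊗[k] K ≃+* K ⊗[k] L := (Algebra.TensorProduct.comm k L K).toRingEquiv
  let Q : Ideal (K ⊗[k] L) := q.comap ε.symm.toRingHom
  haveI : Q.IsPrime := Ideal.comap_isPrime _ _
  have hQ : Q ∈ minimalPrimes (K ⊗[k] L) := by
    refine ⟨⟨inferInstance, bot_le⟩, fun Q' hQ' hle => ?_⟩
    haveI := hQ'.1
    have h1 : Q'.comap ε.toRingHom ≤ q := by
      intro x hx
      have := hle hx
      simpa [Q] using this
    have h2 := hq.2 ⟨Ideal.comap_isPrime _ _, bot_le⟩ h1
    intro y hy
    have hy' : ε.symm y ∈ q := hy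
    have := h2 hy'
    have h3 : ε (ε.symm y) ∈ Q' := this
    rwa [RingEquiv.apply_symm_apply] at h3
  obtain ⟨n, hn⟩ := PPowC.main k K L hL p Q hQ
  refine ⟨n, ?_⟩
  rw [← hn]
  exact length_self_ringEquiv (Localization.localRingEquiv q Q ε (by
    ext x
    simp [Q]))

/-- `Spec` of a purely inseparable field extension is universally injective -/
theorem universallyInjective_specMap (k K : Type u) [Field k] [Field K] [Algebra k K]
    [IsPurelyInseparable k K] :
    UniversallyInjective (Spec.map (CommRingCat.ofHom (algebraMap k K))) := by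
  refine ((tfae_universallyInjective
    (Spec.map (CommRingCat.ofHom (algebraMap k K)))).out 1 0 rfl rfl).mp ?_
  intro F _ h₁ h₂ heq
  simp only at heq
  rw [← Spec.map_preimage h₁, ← Spec.map_preimage h₂] at heq ⊢
  rw [← Spec.map_comp, ← Spec.map_comp] at heq
  have h3 := Spec.map_injective heq
  congr 1
  ext1
  apply IsPurelyInseparable.injective_comp_algebraMap k K F
  have := congrArg CommRingCat.Hom.hom h3
  simpa using this

end Groth.Agent.Helper3.PPowD
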