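import Mathlib
import Groth.Prelude
import Groth.Agent.Helper3.PPowD
import Groth.Agent.Helper5.CMFib1

set_option autoImplicit false
set_option linter.style.haveILetI false
set_option linter.unusedSectionVars false
set_option linter.unusedVariables false
set_option linter.deprecated false
set_option linter.style.haveILetI false
set_option linter.unusedSectionVars false
set_option linter.unusedVariables false

namespace Groth.Agent.Helper3.PPowE

universe u

open TensorProduct AlgebraicGeometry CategoryTheory CategoryTheory.Limits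
  Groth.Agent.Helper3.PPowA

variable (k : Type u) [Field k] {X : Scheme.{u}} (f : X ⟶ Spec (CommRingCat.of k))

/-- the structure map `k → κ(x)` -/
noncomputable def psi (x : X) : CommRingCat.of k ⟶ X.residueField x :=
  Spec.preimage (X.fromSpecResidueField x ≫ f)

theorem specMap_psi (x : X) : Spec.map (psi k f x) = X.fromSpecResidueField x ≫ f :=
  Spec.map_preimage _

theorem psi_eq (x : X) :
    psi k f x = StructureSheaf.toStalk k (f x) ≫ f.stalkMap x ≫ X.residue x := by
  apply Spec.map_injective
  rw [specMap_psi, Scheme.fromSpecResidueField, Category.assoc,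
    ← Scheme.SpecMap_stalkMap_fromSpecStalk, Spec.fromSpecStalk_eq', Spec.map_comp, Spec.map_comp,
    Category.assoc]
  rfl

theorem essFiniteType_psi [LocallyOfFiniteType f] (x : X) : (psi k f x).hom.EssFiniteType := by
  rw [psi_eq]
  simp only [CommRingCat.hom_comp]
  refine RingHom.EssFiniteType.comp ?_ (RingHom.EssFiniteType.comp
    (LocallyOfFiniteType.stalkMap f x) ?_)
  · have : Algebra.EssFiniteType k ((Spec.structureSheaf k).presheaf.stalk (f x)) :=
      Algebra.EssFiniteType.of_isLocalization _ (PrimeSpectrum.asIdeal (f x)).primeCompl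
    exact this
  · exact RingHom.FiniteType.essFiniteType
      (RingHom.FiniteType.of_surjective _ (X.residue_surjective x))

variable (K : Type u) [Field K] [Algebra k K]

/-- the fibre of the base change over a point is the spectrum of `κ(x) ⊗ K` -/
theorem nonempty_fibre_iso (x : X) :
    letI := (psi k f x).hom.toAlgebra
    Nonempty ((pullback.fst f (Spec.map (CommRingCat.ofHom (algebraMap k K)))).fiber x ≅
      Spec (CommRingCat.of ((X.residueField x) ⊗[k] K))) := by
  letI := (psi k f x).hom.toAlgebra
  let g := Spec.map (CommRingCat.ofHom (algebraMap k K))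
  let h := X.fromSpecResidueField x
  let i1 : pullback (pullback.fst f g) h ≅ pullback h (pullback.fst f g) := pullbackSymmetry _ _
  let i2 : pullback h (pullback.fst f g) ≅ pullback (h ≫ f) g :=
    pullbackRightPullbackFstIso f g h
  have e : h ≫ f = Spec.map (CommRingCat.ofHom (algebraMap k (X.residueField x))) :=
    (specMap_psi k f x).symm
  let i3 : pullback (h ≫ f) g ≅
      pullback (Spec.map (CommRingCat.ofHom (algebraMap k (X.residueField x)))) g :=
    pullback.congrHom e rfl
  exact ⟨i1 ≪≫ i2 ≪≫ i3 ≪≫ pullbackSpecIso k (X.residueField x) K⟩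

theorem mult_pow [Algebra.IsAlgebraic k K] (p : ℕ) [ExpChar k p] [LocallyOfFiniteType f]
    (x' : ↥(pullback f (Spec.map (CommRingCat.ofHom (algebraMap k K))))) :
    ∃ n : ℕ, Module.length
      ((pullback f (Spec.map (CommRingCat.ofHom (algebraMap k K)))).presheaf.stalk x')
      ((pullback f (Spec.map (CommRingCat.ofHom (algebraMap k K)))).presheaf.stalk x' ⧸
        Ideal.map ((pullback.fst f (Spec.map (CommRingCat.ofHom (algebraMap k K)))).stalkMap x').hom
          (IsLocalRing.maximalIdeal (X.presheaf.stalk
            ((pullback.fst f (Spec.map (CommRingCat.ofHom (algebraMap k K)))) x')))) =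
      ((p ^ n : ℕ) : ℕ∞) := by
  obtain ⟨π, hπ⟩ : ∃ π : pullback f (Spec.map (CommRingCat.ofHom (algebraMap k K))) ⟶ X,
    π = pullback.fst f (Spec.map (CommRingCat.ofHom (algebraMap k K))) := ⟨_, rfl⟩
  rw [← hπ]
  obtain ⟨e1⟩ := Groth.Agent.Helper5.CMFib.fibre_stalk_equiv' π x'
  letI alg := (psi k f (π x')).hom.toAlgebra
  obtain ⟨φ⟩ : Nonempty (π.fiber (π x') ≅
      Spec (CommRingCat.of ((X.residueField (π x')) ⊗[k] K))) := by
    subst hπ
    exact nonempty_fibre_iso k f K _
  let z := π.asFiber x'
  let w := φ.hom z
  let e2 : (π.fiber (π x')).presheaf.stalk z ≃+*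
      (Spec (CommRingCat.of ((X.residueField (π x')) ⊗[k] K))).presheaf.stalk w :=
    (asIso (φ.hom.stalkMap z)).symm.commRingCatIsoToRingEquiv
  let e3 := (Spec.stalkIso (CommRingCat.of ((X.residueField (π x')) ⊗[k] K))
    w).commRingCatIsoToRingEquiv
  have hmin : w.asIdeal ∈ minimalPrimes ((X.residueField (π x')) ⊗[k] K) :=
    PPowD.mem_minimalPrimes_tensor k K (X.residueField (π x')) w.asIdeal
  haveI : Algebra.EssFiniteType k (X.residueField (π x')) := essFiniteType_psi k f (π x')
  have hL : (⊤ : IntermediateField k (X.residueField (π x'))).FG := IntermediateField.fg_top k _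
  obtain ⟨n, hn⟩ := PPowD.main' k K (X.residueField (π x')) hL p w.asIdeal hmin
  refine ⟨n, ?_⟩
  rw [← hn, Module.length_eq_of_surjective (R := _ ⧸ Ideal.map (π.stalkMap x').hom
    (IsLocalRing.maximalIdeal (X.presheaf.stalk (π x')))) Ideal.Quotient.mk_surjective]
  exact length_self_ringEquiv (e1.trans (e2.trans e3))

end Groth.Agent.Helper3.PPowE
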