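import Mathlib
import Groth.Prelude
import Groth.Agent.Helper3.PPowE
import Groth.Agent.Helper3.CycLimC
import Groth.Agent.Helper5.PairPt1

set_option autoImplicit false
set_option linter.style.haveILetI false
set_option linter.unusedSectionVars false
set_option linter.unusedVariables false
set_option linter.deprecated false
set_option linter.style.haveILetI false
set_option linter.unusedSectionVars false
set_option linter.unusedVariables false

namespace Groth.Agent.Helper3.PPowF

universe u

open TensorProduct AlgebraicGeometry CategoryTheory CategoryTheory.Limits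

theorem core {X S S' : Scheme.{u}} (f : X ⟶ S) (g : S' ⟶ S) [LocallyOfFiniteType f]
    [CompactSpace ↥(pullback f g)] (p : ℕ)
    (hinj : Function.Injective (pullback.fst f g))
    (hmult : ∀ x' : ↥(pullback f g), ∃ n : ℕ,
      Module.length ((pullback f g).presheaf.stalk x')
        ((pullback f g).presheaf.stalk x' ⧸
          Ideal.map ((pullback.fst f g).stalkMap x').hom
            (IsLocalRing.maximalIdeal (X.presheaf.stalk ((pullback.fst f g) x')))) =
        ((p ^ n : ℕ) : ℕ∞))
    (δ : X → ℤ) (hδ : Cyc.DeltaCompat f δ (fun _ => 0))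
    (δ' : ↥(pullback f g) → ℤ) (hδ' : Cyc.DeltaCompat (pullback.snd f g) δ' (fun _ => 0)) (r : ℤ)
    (β : AlgebraicCycle (pullback f g) ℤ) (hβ : β ∈ Cyc.Zk _ δ' r) :
    ∃ (n : ℕ) (α : AlgebraicCycle X ℤ), α ∈ Cyc.Zk X δ r ∧
      (p : ℤ) ^ n • ⇑β = Cyc.pullFun (pullback.fst f g) δ' δ 0 ⇑α := by
  classical
  obtain ⟨π, hπ⟩ : ∃ π : pullback f g ⟶ X, π = pullback.fst f g := ⟨_, rfl⟩
  rw [← hπ] at hinj hmult ⊢
  -- dimension functions agree
  have hδeq : ∀ x', δ' x' = δ (π x') := by
    intro x'
    have h1 := Groth.Agent.Helper5.PairPt.resTrdeg_eq_of_isPullback_of_maximal f g π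
      (pullback.snd f g) (hπ ▸ IsPullback.of_hasPullback f g) x'
      (fun w hw _ _ => hinj hw)
    obtain ⟨n', hn', hd'⟩ := hδ' x'
    obtain ⟨n, hn, hd⟩ := hδ (π x')
    have h2 : (n' : Cardinal.{u}) = n := by
      rw [← hn', ← hn]
      exact h1
    have h3 : n' = n := by exact_mod_cast h2
    rw [hd', hd, h3]
  have hfin : (Function.support ⇑β).Finite := CycLimC.finite_support_of_compact β
  choose nn hnn using hmult
  obtain ⟨N, hN⟩ : ∃ N : ℕ, N = hfin.toFinset.sup nn := ⟨_, rfl⟩
  have hle : ∀ x' ∈ Function.support ⇑β, nn x' ≤ N := fun x' hx' => by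
    rw [hN]
    exact Finset.le_sup (hfin.mem_toFinset.mpr hx')
  let b : ↥(pullback f g) → ℤ := fun x' => β x' * (p : ℤ) ^ (N - nn x')
  let a : X → ℤ := Function.extend π b 0
  have ha : ∀ x', a (π x') = b x' := fun x' => hinj.extend_apply b 0 x'
  have hafin : (Function.support a).Finite := by
    refine (hfin.image π).subset ?_
    intro x hx
    by_cases hex : ∃ x', π x' = x
    · obtain ⟨x', rfl⟩ := hex
      refine ⟨x', ?_, rfl⟩
      rw [Function.mem_support] at hx ⊢
      intro h0
      apply hx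
      rw [ha]
      simp [b, h0]
    · exfalso
      apply hx
      exact Function.extend_apply' b (0 : X → ℤ) x hex
  refine ⟨N, CycLimC.ofFinite a hafin, ?_, ?_⟩
  · intro x hx
    rw [CycLimC.coe_ofFinite]
    by_cases hex : ∃ x', π x' = x
    · obtain ⟨x', rfl⟩ := hex
      rw [ha]
      have : β x' = 0 := hβ x' (by rwa [hδeq])
      simp [b, this]
    · exact Function.extend_apply' b (0 : X → ℤ) x hex
  · rw [CycLimC.coe_ofFinite]
    funext x'
    unfold Cyc.pullFun
    rw [if_pos (by rw [hδeq, add_zero]), hnn x', ha]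
    simp only [Pi.smul_apply, smul_eq_mul, ENat.toNat_coe, b]
    by_cases hx' : β x' = 0
    · simp [hx']
    · have := hle x' hx'
      rw [mul_comm ((p : ℤ) ^ N), mul_assoc]
      congr 1
      push_cast
      rw [← pow_add, Nat.sub_add_cancel this]

theorem main (k K : Type u) [Field k] [Field K] [Algebra k K] [IsPurelyInseparable k K] (p : ℕ)
    [ExpChar k p]
    (X : Scheme.{u}) (f : X ⟶ Spec (CommRingCat.of k)) [LocallyOfFiniteType f] [QuasiCompact f]
    (δ : X → ℤ) (hδ : Cyc.DeltaCompat f δ (fun _ => 0))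
    (δ' : ↥(pullback f (Spec.map (CommRingCat.ofHom (algebraMap k K)))) → ℤ)
    (hδ' : Cyc.DeltaCompat (pullback.snd f (Spec.map (CommRingCat.ofHom (algebraMap k K)))) δ'
      (fun _ => 0)) (r : ℤ)
    (β : AlgebraicCycle (pullback f (Spec.map (CommRingCat.ofHom (algebraMap k K)))) ℤ)
    (hβ : β ∈ Cyc.Zk _ δ' r) :
    ∃ (n : ℕ) (α : AlgebraicCycle X ℤ), α ∈ Cyc.Zk X δ r ∧
      (p : ℤ) ^ n • ⇑β =
        Cyc.pullFun (pullback.fst f (Spec.map (CommRingCat.ofHom (algebraMap k K)))) δ' δ 0 ⇑α := by
  haveI : UniversallyInjective (Spec.map (CommRingCat.ofHom (algebraMap k K))) :=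
    PPowD.universallyInjective_specMap k K
  haveI : UniversallyInjective (pullback.fst f (Spec.map (CommRingCat.ofHom (algebraMap k K)))) :=
    MorphismProperty.pullback_fst _ _ ‹_›
  have hinj : Function.Injective (pullback.fst f (Spec.map (CommRingCat.ofHom (algebraMap k K)))) :=
    Scheme.Hom.injective _
  haveI : QuasiCompact (pullback.snd f (Spec.map (CommRingCat.ofHom (algebraMap k K)))) :=
    MorphismProperty.pullback_snd _ _ ‹_›
  haveI : CompactSpace ↥(pullback f (Spec.map (CommRingCat.ofHom (algebraMap k K)))) :=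
    inferInstance
  exact core f _ p hinj (fun x' => PPowE.mult_pow k f K p x') δ hδ δ' hδ' r β hβ

end Groth.Agent.Helper3.PPowF
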