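import Mathlib

set_option autoImplicit false
set_option linter.style.haveILetI false
set_option linter.unusedSectionVars false
set_option linter.unusedVariables false
set_option linter.style.haveILetI false
set_option linter.unusedSectionVars false
set_option linter.unusedVariables false

universe u

namespace Groth.Agent.Helper3.PSInter

variable {k : Type u} [Field k] {σ : Type*}

/-- power series with coefficients in a subfield -/
def coeffSubring (σ : Type*) (F₀ : Subfield k) : Subring (MvPowerSeries σ k) where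
  carrier := {f | ∀ n, MvPowerSeries.coeff n f ∈ F₀}
  mul_mem' := by
    classical
    intro f g hf hg n
    rw [MvPowerSeries.coeff_mul]
    exact Subfield.sum_mem _ (fun p _ => F₀.mul_mem (hf _) (hg _))
  one_mem' := by
    classical
    intro n
    rw [MvPowerSeries.coeff_one]
    split_ifs
    · exact F₀.one_mem
    · exact F₀.zero_mem
  add_mem' := by
    intro f g hf hg n
    rw [map_add]
    exact F₀.add_mem (hf n) (hg n)
  zero_mem' := by
    intro n
    rw [map_zero]
    exact F₀.zero_mem
  neg_mem' := by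
    intro f hf n
    rw [map_neg]
    exact F₀.neg_mem (hf n)

theorem mem_coeffSubring (F₀ : Subfield k) (f : MvPowerSeries σ k) :
    f ∈ coeffSubring σ F₀ ↔ ∀ n, MvPowerSeries.coeff n f ∈ F₀ := Iff.rfl

/-- Part B: a power series which times a nonzero `F₀`-series is an `F₀`-series is an
`F₀`-series. -/
theorem mem_of_mul_mem (F₀ : Subfield k) (f b c : MvPowerSeries σ k)
    (hb : b ∈ coeffSubring σ F₀) (hb0 : b ≠ 0) (hc : c ∈ coeffSubring σ F₀) (h : f * b = c) :
    f ∈ coeffSubring σ F₀ := by
  classical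
  by_contra hf
  rw [mem_coeffSubring] at hf
  push Not at hf
  obtain ⟨n, hn⟩ := hf
  let p : Submodule F₀ k := LinearMap.range (Algebra.linearMap F₀ k)
  have hx : MvPowerSeries.coeff n f ∉ p := by
    rintro ⟨y, hy⟩
    apply hn
    rw [← hy]
    exact y.2
  obtain ⟨π, hπ1, hπ2⟩ := Submodule.exists_dual_map_eq_bot_of_notMem hx inferInstance
  have hπ0 : ∀ y : k, y ∈ F₀ → π y = 0 := by
    intro y hy
    have : π y ∈ p.map π := ⟨y, ⟨⟨y, hy⟩, rfl⟩, rfl⟩
    rw [hπ2] at this
    exact this
  let Pf : MvPowerSeries σ k := fun m => ((π (MvPowerSeries.coeff m f) : F₀) : k)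
  have hPf : ∀ m, MvPowerSeries.coeff m Pf = ((π (MvPowerSeries.coeff m f) : F₀) : k) :=
    fun m => rfl
  have hmul : Pf * b = 0 := by
    ext m
    rw [MvPowerSeries.coeff_mul, map_zero]
    have h1 : MvPowerSeries.coeff m (f * b) = MvPowerSeries.coeff m c := by rw [h]
    rw [MvPowerSeries.coeff_mul] at h1
    have h2 := congrArg π h1
    rw [map_sum, hπ0 _ (hc m)] at h2
    have h3 : ∀ x ∈ Finset.HasAntidiagonal.antidiagonal m,
        MvPowerSeries.coeff x.1 Pf * MvPowerSeries.coeff x.2 b =
          ((π (MvPowerSeries.coeff x.1 f * MvPowerSeries.coeff x.2 b) : F₀) : k) := by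
      intro x _
      rw [hPf]
      have : MvPowerSeries.coeff x.1 f * MvPowerSeries.coeff x.2 b =
          (⟨MvPowerSeries.coeff x.2 b, hb x.2⟩ : F₀) • MvPowerSeries.coeff x.1 f := by
        rw [Algebra.smul_def, mul_comm]; rfl
      rw [this, map_smul, smul_eq_mul, mul_comm]
      push_cast
      rfl
    rw [Finset.sum_congr rfl h3]
    have := congrArg (fun y : F₀ => (y : k)) h2
    simpa using this
  have hPf0 : Pf = 0 := (mul_eq_zero.1 hmul).resolve_right hb0
  apply hπ1
  have := hPf n
  rw [hPf0, map_zero] at this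
  exact_mod_cast this.symm

/-- Part A: `q`-th powers have coefficients in `F₀`. -/
theorem pow_mem {r : ℕ} (F₀ : Subfield k) (e : ℕ) (hq : ∀ x : k, x ^ ringExpChar k ^ e ∈ F₀)
    (g : MvPowerSeries (Fin r) k) : g ^ (ringExpChar k ^ e) ∈ coeffSubring (Fin r) F₀ := by
  have hp : ringExpChar k ≠ 0 := expChar_ne_zero k (ringExpChar k)
  rw [← MvPowerSeries.map_iterateFrobenius_expand (ringExpChar k) hp g e]
  intro n
  rw [MvPowerSeries.coeff_map, iterateFrobenius_def]
  exact hq _

theorem mem_closure_iff {r : ℕ} (F₀ : Subfield k)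
    (x : FractionRing (MvPowerSeries (Fin r) k)) :
    x ∈ Subfield.closure (algebraMap (MvPowerSeries (Fin r) k)
        (FractionRing (MvPowerSeries (Fin r) k)) '' {f | ∀ n, MvPowerSeries.coeff n f ∈ F₀}) ↔
      ∃ a ∈ coeffSubring (Fin r) F₀, ∃ b ∈ coeffSubring (Fin r) F₀,
        algebraMap _ (FractionRing (MvPowerSeries (Fin r) k)) a / algebraMap _ _ b = x := by
  rw [Subfield.mem_closure_iff]
  have h1 : Subring.closure (algebraMap (MvPowerSeries (Fin r) k)
      (FractionRing (MvPowerSeries (Fin r) k)) '' {f | ∀ n, MvPowerSeries.coeff n f ∈ F₀}) =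
      (coeffSubring (Fin r) F₀).map (algebraMap _ _) := by
    change Subring.closure (algebraMap _ _ '' ((coeffSubring (Fin r) F₀ :
      Subring (MvPowerSeries (Fin r) k)) : Set (MvPowerSeries (Fin r) k))) = _
    rw [← RingHom.map_closure, Subring.closure_eq]
  rw [h1]
  constructor
  · rintro ⟨y, ⟨a, ha, rfl⟩, z, ⟨b, hb, rfl⟩, h⟩
    exact ⟨a, ha, b, hb, h⟩
  · rintro ⟨a, ha, b, hb, h⟩
    exact ⟨_, ⟨a, ha, rfl⟩, _, ⟨b, hb, rfl⟩, h⟩

theorem main {ι : Type u} [Nonempty ι] (F : ι → Subfield k) (e : ℕ)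
    (hq : ∀ x : k, x ^ ringExpChar k ^ e ∈ ⨅ i, F i) (r : ℕ) :
    (⨅ i, Subfield.closure (algebraMap (MvPowerSeries (Fin r) k)
        (FractionRing (MvPowerSeries (Fin r) k)) '' {f | ∀ n, MvPowerSeries.coeff n f ∈ F i})) =
      Subfield.closure (algebraMap (MvPowerSeries (Fin r) k)
        (FractionRing (MvPowerSeries (Fin r) k)) ''
          {f | ∀ n, MvPowerSeries.coeff n f ∈ ⨅ i, F i}) := by
  have hinj : Function.Injective (algebraMap (MvPowerSeries (Fin r) k)
      (FractionRing (MvPowerSeries (Fin r) k))) := IsFractionRing.injective _ _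
  apply le_antisymm
  · intro x hx
    rw [Subfield.mem_iInf] at hx
    obtain ⟨i₀⟩ := ‹Nonempty ι›
    obtain ⟨a, ha, b, hb, hab⟩ := (mem_closure_iff (F i₀) x).1 (hx i₀)
    by_cases hb0 : b = 0
    · rw [hb0, map_zero, div_zero] at hab
      rw [← hab]
      exact Subfield.zero_mem _
    obtain ⟨q, hqdef⟩ : ∃ q, q = ringExpChar k ^ e := ⟨_, rfl⟩
    have hqpos : 0 < q := by
      rw [hqdef]; exact pow_pos (Nat.pos_of_ne_zero (expChar_ne_zero k (ringExpChar k))) e
    obtain ⟨g', hg'⟩ : ∃ g', g' = b ^ q := ⟨_, rfl⟩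
    obtain ⟨f', hf'⟩ : ∃ f', f' = a * b ^ (q - 1) := ⟨_, rfl⟩
    have hg'0 : g' ≠ 0 := by rw [hg']; exact pow_ne_zero _ hb0
    have hg'mem : g' ∈ coeffSubring (Fin r) (⨅ i, F i) := by
      rw [hg', hqdef]; exact pow_mem _ e hq b
    have hbq : b * b ^ (q - 1) = g' := by
      rw [hg', ← pow_succ', Nat.sub_add_cancel hqpos]
    have hx' : algebraMap _ (FractionRing (MvPowerSeries (Fin r) k)) f' / algebraMap _ _ g' = x := by
      rw [← hab, hf', ← hbq, map_mul, map_mul]
      have h1 : algebraMap _ (FractionRing (MvPowerSeries (Fin r) k)) b ≠ 0 := by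
        rw [Ne, map_eq_zero_iff _ hinj]; exact hb0
      have h2 : algebraMap _ (FractionRing (MvPowerSeries (Fin r) k)) (b ^ (q - 1)) ≠ 0 := by
        rw [Ne, map_eq_zero_iff _ hinj]; exact pow_ne_zero _ hb0
      field_simp
    have hf'mem : f' ∈ coeffSubring (Fin r) (⨅ i, F i) := by
      intro n
      rw [Subfield.mem_iInf]
      intro i
      obtain ⟨ai, hai, bi, hbi, habi⟩ := (mem_closure_iff (F i) x).1 (hx i)
      have hg'i : g' ∈ coeffSubring (Fin r) (F i) := fun m =>
        (Subfield.mem_iInf.1 (hg'mem m)) i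
      by_cases hbi0 : bi = 0
      · rw [hbi0, map_zero, div_zero] at habi
        rw [← habi] at hx'
        have h1 : algebraMap _ (FractionRing (MvPowerSeries (Fin r) k)) g' ≠ 0 := by
          rw [Ne, map_eq_zero_iff _ hinj]; exact hg'0
        rw [div_eq_zero_iff] at hx'
        rcases hx' with h2 | h2
        · rw [map_eq_zero_iff _ hinj] at h2
          rw [h2, map_zero]; exact (F i).zero_mem
        · exact absurd h2 h1
      · have h1 : algebraMap _ (FractionRing (MvPowerSeries (Fin r) k)) g' ≠ 0 := by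
          rw [Ne, map_eq_zero_iff _ hinj]; exact hg'0
        have h2 : algebraMap _ (FractionRing (MvPowerSeries (Fin r) k)) bi ≠ 0 := by
          rw [Ne, map_eq_zero_iff _ hinj]; exact hbi0
        have h3 : f' * bi = ai * g' := by
          apply hinj
          rw [map_mul, map_mul]
          have := hx'.trans habi.symm
          rw [div_eq_div_iff h1 h2] at this
          exact this
        exact mem_of_mul_mem (F i) f' bi (ai * g') hbi hbi0
          ((coeffSubring (Fin r) (F i)).mul_mem hai hg'i) h3 n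
    exact (mem_closure_iff _ x).2 ⟨f', hf'mem, g', hg'mem, hx'⟩
  · refine le_iInf (fun i => ?_)
    apply Subfield.closure_mono
    apply Set.image_mono
    intro f hf n
    exact (Subfield.mem_iInf.1 (hf n)) i

end Groth.Agent.Helper3.PSInter
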