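import Mathlib
import Groth.Prelude.Def_DRing2
import Groth.Prelude.Def_DDual2
import Groth.Prelude.Def_MoreMor
import Groth.Agent.Helper3.PcHomD
import Groth.Agent.Helper3.DRingBC3

/-! Jointly faithful / jointly finite families of flat algebras from joint surjectivity on spectra. -/

set_option autoImplicit false
set_option linter.style.haveILetI false
set_option linter.unusedSectionVars false
set_option linter.unusedVariables false
set_option linter.style.haveILetI false
set_option linter.unusedSectionVars false
set_option linter.unusedVariables false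
universe u
open CategoryTheory CategoryTheory.Limits TensorProduct

namespace Groth.Agent.Helper3.PcHom

attribute [local instance] HasDerivedCategory.standard

open Groth.Agent.Helper3.DRingLib DerivedCategory

section Family

variable {A : Type u} [CommRing A] {J : Type*} (B : J → Type u) [∀ j, CommRing (B j)]
  [∀ j, Algebra A (B j)] [∀ j, Module.Flat A (B j)]

/-- a family of flat algebras which is jointly surjective on spectra is jointly faithful -/
theorem jointlyFaithful_of_comap_surjective
    (hsurj : ∀ 𝔭 : PrimeSpectrum A, ∃ (j : J) (𝔮 : PrimeSpectrum (B j)),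
      PrimeSpectrum.comap (algebraMap A (B j)) 𝔮 = 𝔭) : JointlyFaithful A B := by
  intro M _ _ h
  by_contra hM
  rw [not_subsingleton_iff_nontrivial] at hM
  obtain ⟨m, hm⟩ := exists_ne (0 : M)
  let I : Ideal A := Ideal.torsionOf A M m
  have hI : I ≠ ⊤ := by
    intro hI
    exact hm ((Ideal.torsionOf_eq_top_iff (R := A) m).mp hI)
  obtain ⟨𝔪, h𝔪, hI𝔪⟩ := Ideal.exists_le_maximal I hI
  obtain ⟨j, 𝔮, h𝔮⟩ := hsurj ⟨𝔪, h𝔪.isPrime⟩
  let f : (A ⧸ I) →ₗ[A] M :=
    (Submodule.span A {m}).subtype.comp (Ideal.quotTorsionOfEquivSpanSingleton A M m).toLinearMap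
  have hf : Function.Injective f :=
    (Submodule.injective_subtype _).comp (Ideal.quotTorsionOfEquivSpanSingleton A M m).injective
  have h1 : Function.Injective (f.lTensor (B j)) :=
    Module.Flat.lTensor_preserves_injective_linearMap f hf
  haveI := h j
  have h2 : Subsingleton (B j ⊗[A] (A ⧸ I)) := h1.subsingleton
  have h3 : Subsingleton (B j ⧸ (I • ⊤ : Submodule A (B j))) :=
    (TensorProduct.tensorQuotEquivQuotSMul (B j) I).symm.toEquiv.subsingleton
  have h4 : (I • ⊤ : Submodule A (B j)) = ⊤ := Submodule.Quotient.subsingleton_iff.mp h3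
  have h5 : (I • ⊤ : Submodule A (B j)) ≤ 𝔮.asIdeal.restrictScalars A := by
    rw [Submodule.smul_le]
    intro a ha b _
    show a • b ∈ 𝔮.asIdeal
    rw [Algebra.smul_def]
    apply Ideal.mul_mem_right
    have : a ∈ (PrimeSpectrum.comap (algebraMap A (B j)) 𝔮).asIdeal := by
      rw [h𝔮]; exact hI𝔪 ha
    exact this
  rw [h4] at h5
  have h6 : (1 : B j) ∈ 𝔮.asIdeal := h5 (Submodule.mem_top)
  exact 𝔮.isPrime.ne_top ((Ideal.eq_top_iff_one _).mpr h6)

/-- for finite families, joint faithfulness implies descent of finiteness -/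
theorem jointlyFinite_of_jointlyFaithful [Finite J] (hB : JointlyFaithful A B) :
    JointlyFinite A B := by
  classical
  intro M _ _ h
  haveI := Fintype.ofFinite J
  choose n s hs using fun j => Module.Finite.exists_fin (R := B j) (M := B j ⊗[A] M)
  choose k t m hm using fun (j : J) (i : Fin (n j)) => TensorProduct.exists_sum_tmul_eq (s j i)
  let N : Submodule A M := Submodule.span A
    (Set.range (fun x : Σ j, Σ i : Fin (n j), Fin (k j i) => m x.1 x.2.1 x.2.2))
  have hN : N.FG := Submodule.fg_span (Set.finite_range _)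
  have hsub : Subsingleton (M ⧸ N) := by
    apply hB
    intro j
    let q : (B j ⊗[A] M) →ₗ[B j] (B j ⊗[A] (M ⧸ N)) :=
      AlgebraTensorModule.lTensor (B j) (B j) N.mkQ
    have hq : Function.Surjective q := by
      have : Function.Surjective (N.mkQ.lTensor (B j)) :=
        LinearMap.lTensor_surjective _ N.mkQ_surjective
      exact this
    have hq0 : q = 0 := by
      apply LinearMap.ext_on_range (hs j)
      intro i
      rw [LinearMap.zero_apply, hm j i, map_sum]
      apply Finset.sum_eq_zero
      intro l _
      show (t j i l) ⊗ₜ[A] N.mkQ (m j i l) = 0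
      have : N.mkQ (m j i l) = 0 := by
        rw [Submodule.mkQ_apply, Submodule.Quotient.mk_eq_zero]
        exact Submodule.subset_span ⟨⟨j, i, l⟩, rfl⟩
      rw [this, TensorProduct.tmul_zero]
    refine ⟨fun x y => ?_⟩
    obtain ⟨x', rfl⟩ := hq x
    obtain ⟨y', rfl⟩ := hq y
    rw [hq0]; rfl
  have hNtop : N = ⊤ := Submodule.Quotient.subsingleton_iff.mp hsub
  rw [Module.finite_def, ← hNtop]
  exact hN

/-- local-to-global for pseudo-coherence of a module along a jointly faithful finite family of
flat algebras -/
theorem isPseudoCoherent'_of_family [Finite J] (hB : JointlyFaithful A B)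
    (M : Type u) [AddCommGroup M] [Module A M]
    (h : ∀ j, DRing.IsPseudoCoherent' (B j) (Dual.inD (B j) (B j ⊗[A] M))) :
    DRing.IsPseudoCoherent' A (Dual.inD A M) := by
  rw [isPseudoCoherent'_iff_forall]
  intro m
  let K : DRing.Cx A := (CochainComplex.singleFunctor (ModuleCat.{u} A) 0).obj (ModuleCat.of A M)
  have e : DRing.toD K ≅ Dual.inD A M :=
    ((singleFunctorIsoCompQ (ModuleCat.{u} A) 0).app (ModuleCat.of A M)).symm
  refine isPseudoCoherent_of_iso e ?_
  refine isPseudoCoherent_of_forall_bcCx hB (jointlyFinite_of_jointlyFaithful B hB)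
    m K (fun j => ?_)
  exact isPseudoCoherent_of_iso (bcSingleIso (B j) M).symm
    ((isPseudoCoherent'_iff_forall _).mp (h j) m)

end Family

end Groth.Agent.Helper3.PcHom
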