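import Mathlib
import Groth.Prelude.Def_DRing2
import Groth.Prelude.Def_DDual2
import Groth.Prelude.Def_MoreMor
import Groth.Agent.Helper3.PcHomD
import Groth.Agent.Helper3.LciDesc
import Groth.Agent.Helper3.DRingBC3
import Groth.Agent.Helper3.PcFam
import Groth.Agent.Helper3.FFDescS2

/-! Pseudo-coherent ring maps: flat base change and flat descent along pushout squares. -/

set_option autoImplicit false
set_option linter.style.haveILetI false
set_option linter.unusedSectionVars false
set_option linter.unusedVariables false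
set_option linter.style.haveILetI false
set_option linter.unusedSectionVars false
set_option linter.unusedVariables false
universe u
open CategoryTheory CategoryTheory.Limits TensorProduct

namespace Groth.Agent.Helper3.PcHom

attribute [local instance] HasDerivedCategory.standard

open Groth.Agent.Helper3.DRingLib DerivedCategory

section Module

variable {P P' C C' : Type u} [CommRing P] [CommRing P'] [CommRing C] [CommRing C']

/-- the base change isomorphism attached to a pushout square of rings -/
theorem nonempty_tensor_equiv_of_isPushout (α : P →+* C) (m : P →+* P') (g' : C →+* C')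
    (β : P' →+* C')
    (hpo : IsPushout (CommRingCat.ofHom α) (CommRingCat.ofHom m) (CommRingCat.ofHom g')
      (CommRingCat.ofHom β)) :
    letI := α.toAlgebra
    letI := m.toAlgebra
    letI := β.toAlgebra
    Nonempty ((P' ⊗[P] C) ≃ₗ[P'] C') := by
  letI a1 : Algebra P C := α.toAlgebra
  letI a2 : Algebra P P' := m.toAlgebra
  letI a3 : Algebra P' C' := β.toAlgebra
  letI a4 : Algebra C C' := g'.toAlgebra
  letI a5 : Algebra P C' := (β.comp m).toAlgebra
  haveI t1 : IsScalarTower P P' C' := IsScalarTower.of_algebraMap_eq (fun _ => rfl)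
  haveI t2 : IsScalarTower P C C' := IsScalarTower.of_algebraMap_eq (fun x =>
    (congrArg (fun k => k.hom x) hpo.w).symm)
  have hpush : Algebra.IsPushout P P' C C' := CommRingCat.isPushout_iff_isPushout.mp hpo.flip
  exact ⟨hpush.out.equiv⟩

/-- flat base change of pseudo-coherent modules along a pushout square of rings -/
theorem pc_module_of_isPushout (α : P →+* C) (m : P →+* P') (g' : C →+* C') (β : P' →+* C')
    (hpo : IsPushout (CommRingCat.ofHom α) (CommRingCat.ofHom m) (CommRingCat.ofHom g')
      (CommRingCat.ofHom β)) (hm : m.Flat)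
    (h : letI := α.toAlgebra; DRing.IsPseudoCoherent' P (Dual.inD P C)) :
    letI := β.toAlgebra; DRing.IsPseudoCoherent' P' (Dual.inD P' C') := by
  obtain ⟨e⟩ := nonempty_tensor_equiv_of_isPushout α m g' β hpo
  letI a1 : Algebra P C := α.toAlgebra
  letI a2 : Algebra P P' := m.toAlgebra
  letI a3 : Algebra P' C' := β.toAlgebra
  haveI : Module.Flat P P' := hm
  have h1 := bcD_isPseudoCoherent' P' h
  have h2 := isPseudoCoherent'_of_iso (bcDInD P' C) h1
  exact isPseudoCoherent'_of_iso
    ((singleFunctor (ModuleCat.{u} P') 0).mapIso e.toModuleIso) h2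

/-- flat descent of pseudo-coherent modules along a jointly faithful finite family of pushout
squares -/
theorem pc_module_descent {ι : Type} [Finite ι] (P' C' : ι → Type u) [∀ j, CommRing (P' j)]
    [∀ j, CommRing (C' j)] (α : P →+* C) (m : ∀ j, P →+* P' j) (g' : ∀ j, C →+* C' j)
    (β : ∀ j, P' j →+* C' j)
    (hpo : ∀ j, IsPushout (CommRingCat.ofHom α) (CommRingCat.ofHom (m j))
      (CommRingCat.ofHom (g' j)) (CommRingCat.ofHom (β j)))
    (hm : ∀ j, (m j).Flat)
    (hsurj : ∀ 𝔭 : PrimeSpectrum P, ∃ (j : ι) (𝔮 : PrimeSpectrum (P' j)),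
      PrimeSpectrum.comap (m j) 𝔮 = 𝔭)
    (h : ∀ j, letI := (β j).toAlgebra; DRing.IsPseudoCoherent' (P' j) (Dual.inD (P' j) (C' j))) :
    letI := α.toAlgebra; DRing.IsPseudoCoherent' P (Dual.inD P C) := by
  letI a1 : Algebra P C := α.toAlgebra
  letI a2 : ∀ j, Algebra P (P' j) := fun j => (m j).toAlgebra
  letI a3 : ∀ j, Algebra (P' j) (C' j) := fun j => (β j).toAlgebra
  haveI : ∀ j, Module.Flat P (P' j) := fun j => hm j
  have hB : JointlyFaithful P P' := jointlyFaithful_of_comap_surjective P' hsurj
  refine isPseudoCoherent'_of_family P' hB C (fun j => ?_)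
  obtain ⟨e⟩ := nonempty_tensor_equiv_of_isPushout α (m j) (g' j) (β j) (hpo j)
  exact isPseudoCoherent'_of_iso
    ((singleFunctor (ModuleCat.{u} (P' j)) 0).mapIso e.symm.toModuleIso) (h j)

end Module

section Hom

attribute [local instance] MvPolynomial.algebraMvPolynomial

variable {A C A' C' : Type u} [CommRing A] [CommRing C] [CommRing A'] [CommRing C']

/-- base change of a polynomial presentation along a pushout square -/
theorem exists_poly_pushout (f : A →+* C) (g : A →+* A') (g' : C →+* C') (f' : A' →+* C')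
    (hpo : IsPushout (CommRingCat.ofHom f) (CommRingCat.ofHom g) (CommRingCat.ofHom g')
      (CommRingCat.ofHom f')) (n : ℕ)
    (α : letI := f.toAlgebra; MvPolynomial (Fin n) A →ₐ[A] C)
    (hα : Function.Surjective α) :
    letI := f.toAlgebra
    letI := f'.toAlgebra
    ∃ β : MvPolynomial (Fin n) A' →ₐ[A'] C', Function.Surjective β ∧
      IsPushout (CommRingCat.ofHom α.toRingHom)
        (CommRingCat.ofHom (MvPolynomial.map (σ := Fin n) g))
        (CommRingCat.ofHom g') (CommRingCat.ofHom β.toRingHom) := by
  letI := f.toAlgebra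
  letI := f'.toAlgebra
  have hw : ∀ a : A, f' (g a) = g' (f a) := fun a =>
    (congrArg (fun k => k.hom a) hpo.w).symm
  let β : MvPolynomial (Fin n) A' →ₐ[A'] C' :=
    MvPolynomial.aeval (fun i => g' (α (MvPolynomial.X i)))
  have hcomm : β.toRingHom.comp (MvPolynomial.map g) = g'.comp α.toRingHom := by
    apply MvPolynomial.ringHom_ext
    · intro a
      show β (MvPolynomial.map g (MvPolynomial.C a)) = g' (α (MvPolynomial.C a))
      rw [MvPolynomial.map_C]
      have h1 : α (MvPolynomial.C a) = f a := by
        rw [← MvPolynomial.algebraMap_eq, AlgHom.commutes]; rfl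
      have h2 : β (MvPolynomial.C (g a)) = f' (g a) := by
        rw [← MvPolynomial.algebraMap_eq, AlgHom.commutes]; rfl
      rw [h1, h2, hw]
    · intro i
      show β (MvPolynomial.map g (MvPolynomial.X i)) = g' (α (MvPolynomial.X i))
      rw [MvPolynomial.map_X]
      exact MvPolynomial.aeval_X _ i
  have hright : IsPushout (CommRingCat.ofHom α.toRingHom)
      (CommRingCat.ofHom (MvPolynomial.map (σ := Fin n) g))
      (CommRingCat.ofHom g') (CommRingCat.ofHom β.toRingHom) := by
    letI := g.toAlgebra
    have hleft : IsPushout (CommRingCat.ofHom (MvPolynomial.C : A →+* MvPolynomial (Fin n) A))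
        (CommRingCat.ofHom g) (CommRingCat.ofHom (MvPolynomial.map (σ := Fin n) g))
        (CommRingCat.ofHom (MvPolynomial.C : A' →+* MvPolynomial (Fin n) A')) :=
      CommRingCat.isPushout_of_isPushout A (MvPolynomial (Fin n) A) A'
        (MvPolynomial (Fin n) A')
    refine IsPushout.of_left ?_ ?_ hleft
    · have e1 : CommRingCat.ofHom (MvPolynomial.C : A →+* MvPolynomial (Fin n) A) ≫
          CommRingCat.ofHom α.toRingHom = CommRingCat.ofHom f := by
        ext a
        show α (MvPolynomial.C a) = f a
        rw [← MvPolynomial.algebraMap_eq, AlgHom.commutes]; rfl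
      have e2 : CommRingCat.ofHom (MvPolynomial.C : A' →+* MvPolynomial (Fin n) A') ≫
          CommRingCat.ofHom β.toRingHom = CommRingCat.ofHom f' := by
        ext a
        show β (MvPolynomial.C a) = f' a
        rw [← MvPolynomial.algebraMap_eq, AlgHom.commutes]; rfl
      rw [e1, e2]
      exact hpo
    · exact CommRingCat.hom_ext hcomm.symm
  exact ⟨β, LciDesc.surjective_of_isPushout _ _ _ _ hright hα, hright⟩

/-- **flat base change** of pseudo-coherent ring maps -/
theorem Q_of_isPushout (f : A →+* C) (g : A →+* A') (g' : C →+* C') (f' : A' →+* C')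
    (hpo : IsPushout (CommRingCat.ofHom f) (CommRingCat.ofHom g) (CommRingCat.ofHom g')
      (CommRingCat.ofHom f')) (hg : g.Flat) (hf : Q f) : Q f' := by
  letI := f.toAlgebra
  letI := f'.toAlgebra
  obtain ⟨n, α, hα, hpc⟩ := hf
  obtain ⟨β, hβ, hright⟩ := exists_poly_pushout f g g' f' hpo n α hα
  refine ⟨n, β, hβ, ?_⟩
  exact pc_module_of_isPushout α.toRingHom (MvPolynomial.map g) g' β.toRingHom hright
    (LciDesc.flat_map g hg _) hpc

/-- **flat descent** of pseudo-coherent ring maps along a finite jointly surjective family of flat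
ring maps -/
theorem Q_descent {ι : Type} [Fintype ι] [DecidableEq ι] (A' C' : ι → Type u)
    [∀ j, CommRing (A' j)] [∀ j, CommRing (C' j)]
    (f : A →+* C) (g : ∀ j, A →+* A' j) (f' : ∀ j, A' j →+* C' j) (g' : ∀ j, C →+* C' j)
    (hpo : ∀ j, IsPushout (CommRingCat.ofHom f) (CommRingCat.ofHom (g j))
      (CommRingCat.ofHom (g' j)) (CommRingCat.ofHom (f' j)))
    (hflat : ∀ j, (g j).Flat)
    (hsurj : ∀ 𝔭 : PrimeSpectrum A, ∃ (j : ι) (𝔮 : PrimeSpectrum (A' j)),
      PrimeSpectrum.comap (g j) 𝔮 = 𝔭)
    (hft : f.FiniteType)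
    (h : ∀ j, Q (f' j)) : Q f := by
  letI := f.toAlgebra
  obtain ⟨n, α, hα⟩ := Algebra.FiniteType.iff_quotient_mvPolynomial''.mp hft
  refine ⟨n, α, hα, ?_⟩
  letI : ∀ j, Algebra (A' j) (C' j) := fun j => (f' j).toAlgebra
  choose β hβ hright using fun j => exists_poly_pushout f (g j) (g' j) (f' j) (hpo j) n α hα
  refine pc_module_descent (fun j => MvPolynomial (Fin n) (A' j)) C' α.toRingHom
    (fun j => MvPolynomial.map (g j)) g' (fun j => (β j).toRingHom) hright
    (fun j => LciDesc.flat_map (g j) (hflat j) _)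
    (LciDesc.exists_comap_poly A' g n hflat hsurj) (fun j => ?_)
  letI : Algebra (MvPolynomial (Fin n) (A' j)) (C' j) := (β j).toRingHom.toAlgebra
  haveI : IsScalarTower (A' j) (MvPolynomial (Fin n) (A' j)) (C' j) :=
    IsScalarTower.of_algebraMap_eq (fun a => ((β j).commutes a).symm)
  exact (pcHom_iff_module (pcHom_mvPolynomial (A' j) n) (hβ j)).mp (h j)

end Hom

end Groth.Agent.Helper3.PcHom
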