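import Mathlib
import Groth.Prelude.Def_DRing2
import Groth.Prelude.Def_DDual2
import Groth.Prelude.Def_MoreMor
import Groth.Agent.Helper3.PcHomD
import Groth.Agent.Helper3.DRingBC3

/-! Localization of complexes: comparison of `A_f ⊗_A K` restricted to `P_g` with `P_g ⊗_P K`. -/

set_option autoImplicit false
set_option linter.style.haveILetI false
set_option linter.unusedSectionVars false
set_option linter.unusedVariables false
set_option linter.style.haveILetI false
set_option linter.unusedSectionVars false
set_option linter.unusedVariables false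
universe u
open CategoryTheory CategoryTheory.Limits TensorProduct

namespace Groth.Agent.Helper3.PcLoc

attribute [local instance] HasDerivedCategory.standard

open Groth.Agent.Helper3.DRingLib DerivedCategory

section LinAlg

variable {P A Pg Af : Type u} [CommRing P] [CommRing A] [CommRing Pg] [CommRing Af]
  [Algebra P A] [Algebra P Pg] [Algebra A Af] [Algebra Pg Af] [Algebra P Af]
  [IsScalarTower P Pg Af] [IsScalarTower P A Af]

instance smulComm1 : SMulCommClass A Pg Af :=
  ⟨fun a p x => by simp only [Algebra.smul_def]; ring⟩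

instance smulComm2 : SMulCommClass A P Af :=
  ⟨fun a p x => by simp only [Algebra.smul_def]; ring⟩

variable (g : P) [IsLocalization.Away g Pg] [IsLocalization.Away (algebraMap P A g) Af]
  (M : Type u) [AddCommGroup M] [Module A M] [Module P M] [IsScalarTower P A M]

/-- `m ↦ 1 ⊗ m` as a `P`-linear map `M → A_f ⊗_A M` -/
noncomputable def jMap : M →ₗ[P] Af ⊗[A] M :=
  (TensorProduct.mk A Af M 1).restrictScalars P

include g in
lemma jMap_isBaseChange : IsBaseChange Pg (jMap (P := P) (A := A) (Af := Af) M) := by
  haveI h1 : IsLocalizedModule (Submonoid.powers (algebraMap P A g))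
      (TensorProduct.mk A Af M 1) :=
    (isLocalizedModule_iff_isBaseChange (Submonoid.powers (algebraMap P A g)) Af _).mpr
      (TensorProduct.isBaseChange A M Af)
  haveI h2 : IsLocalizedModule (Submonoid.powers g) (jMap (P := P) (A := A) (Af := Af) M) :=
    IsLocalizedModule.restrictScalars_powers g (TensorProduct.mk A Af M 1)
  exact IsLocalizedModule.isBaseChange (Submonoid.powers g) Pg _

/-- the comparison equivalence `P_g ⊗_P M ≃ A_f ⊗_A M` -/
noncomputable def locEquiv : Pg ⊗[P] M ≃ₗ[Pg] Af ⊗[A] M :=
  (jMap_isBaseChange (Pg := Pg) g M).equiv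

lemma locEquiv_tmul (p : Pg) (m : M) :
    locEquiv (Pg := Pg) (Af := Af) (A := A) g M (p ⊗ₜ m) = p • ((1 : Af) ⊗ₜ[A] m) :=
  (jMap_isBaseChange (Pg := Pg) g M).equiv_tmul p m

end LinAlg

end Groth.Agent.Helper3.PcLoc
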