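import Mathlib
import Groth.Prelude.Def_DRing2
import Groth.Prelude.Def_DDual2
import Groth.Prelude.Def_MoreMor
import Groth.Agent.Helper3.PcLocA
import Groth.Agent.Helper3.DRingRestr

/-! The comparison `P_g ⊗_P K|_P ≅ (A_f ⊗_A K)|_{P_g}` on module categories and complexes. -/

set_option autoImplicit false
set_option linter.style.haveILetI false
set_option linter.unusedSectionVars false
set_option linter.unusedVariables false
set_option linter.style.haveILetI false
set_option linter.unusedSectionVars false
set_option linter.unusedVariables false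
universe u
open CategoryTheory CategoryTheory.Limits TensorProduct ChangeOfRings

namespace Groth.Agent.Helper3.PcLoc

attribute [local instance] HasDerivedCategory.standard

open Groth.Agent.Helper3.DRingLib DerivedCategory

section Cat

variable {P A Pg Af : Type u} [CommRing P] [CommRing A] [CommRing Pg] [CommRing Af]
  [Algebra P A] [Algebra P Pg] [Algebra A Af] [Algebra Pg Af] [Algebra P Af]
  [IsScalarTower P Pg Af] [IsScalarTower P A Af]

/-- the target of the comparison -/
noncomputable abbrev XObj (M : ModuleCat.{u} A) : ModuleCat.{u} Pg :=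
  (ModuleCat.restrictScalars (algebraMap Pg Af)).obj
    ((ModuleCat.extendScalars (algebraMap A Af)).obj M)

/-- the source of the comparison -/
noncomputable abbrev YObj (M : ModuleCat.{u} A) : ModuleCat.{u} Pg :=
  (ModuleCat.extendScalars (algebraMap P Pg)).obj
    ((ModuleCat.restrictScalars (algebraMap P A)).obj M)

/-- the `P`-module structure on an `A`-module -/
noncomputable abbrev modP (M : ModuleCat.{u} A) : Module P ↑M :=
  Module.compHom ↑M (algebraMap P A)

lemma towerP (M : ModuleCat.{u} A) : @IsScalarTower P A ↑M _ _ (modP M).toSMul :=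
  letI := modP (P := P) M
  ⟨fun p a m => by
    show (p • a) • m = algebraMap P A p • (a • m)
    rw [Algebra.smul_def, mul_smul]⟩

/-- `(A_f ⊗_A M)|_{P_g}` as a plain tensor product -/
noncomputable def e1 (M : ModuleCat.{u} A) :
    ↑(XObj (Pg := Pg) (Af := Af) M) ≃ₗ[Pg] Af ⊗[A] ↑M :=
  { toFun := fun x => extendScalarsEquiv (A := A) (B := Af) M x
    invFun := fun y => (extendScalarsEquiv (A := A) (B := Af) M).symm y
    left_inv := fun x => (extendScalarsEquiv (A := A) (B := Af) M).symm_apply_apply x
    right_inv := fun y => (extendScalarsEquiv (A := A) (B := Af) M).apply_symm_apply y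
    map_add' := fun x y => map_add (extendScalarsEquiv (A := A) (B := Af) M) x y
    map_smul' := fun p x => by
      simp only [RingHom.id_apply]
      rw [ModuleCat.restrictScalars.smul_def, map_smul, algebraMap_smul] }

variable (g : P) [IsLocalization.Away g Pg] [IsLocalization.Away (algebraMap P A g) Af]

/-- the comparison isomorphism on modules -/
noncomputable def compIso (M : ModuleCat.{u} A) :
    YObj (P := P) (Pg := Pg) M ≅ XObj (Pg := Pg) (Af := Af) M :=
  ((extendScalarsEquiv (A := P) (B := Pg)
      ((ModuleCat.restrictScalars (algebraMap P A)).obj M)).trans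
    ((@locEquiv P A Pg Af _ _ _ _ _ _ _ _ _ _ _ g _ _ ↑M _ _ (modP M) (towerP M)).trans
      (e1 (Pg := Pg) (Af := Af) M).symm)).toModuleIso

lemma compIso_hom_one_tmul (M : ModuleCat.{u} A)
    (m : ↑((ModuleCat.restrictScalars (algebraMap P A)).obj M)) :
    (compIso (Pg := Pg) (Af := Af) g M).hom ((1 : Pg) ⊗ₜ[P, algebraMap P Pg] m) =
      ((1 : Af) ⊗ₜ[A, algebraMap A Af] (show ↑M from m) :
        (ModuleCat.extendScalars (algebraMap A Af)).obj M) := by
  show (e1 (Pg := Pg) (Af := Af) M).symm
    (@locEquiv P A Pg Af _ _ _ _ _ _ _ _ _ _ _ g _ _ ↑M _ _ (modP M) (towerP M)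
      (extendScalarsEquiv (A := P) (B := Pg) _ ((1 : Pg) ⊗ₜ[P, algebraMap P Pg] m))) = _
  have h1 : extendScalarsEquiv (A := P) (B := Pg)
      ((ModuleCat.restrictScalars (algebraMap P A)).obj M)
      ((1 : Pg) ⊗ₜ[P, algebraMap P Pg] m) = (1 : Pg) ⊗ₜ[P] m := rfl
  rw [h1]
  have h2 := @locEquiv_tmul P A Pg Af _ _ _ _ _ _ _ _ _ _ _ g _ _ ↑M _ _ (modP M) (towerP M)
    (1 : Pg) (show ↑M from m)
  erw [h2, one_smul]
  rfl

lemma compIso_naturality {M N : ModuleCat.{u} A} (φ : M ⟶ N) :
    (ModuleCat.extendScalars (algebraMap P Pg)).map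
        ((ModuleCat.restrictScalars (algebraMap P A)).map φ) ≫
      (compIso (Pg := Pg) (Af := Af) g N).hom =
    (compIso (Pg := Pg) (Af := Af) g M).hom ≫
      (ModuleCat.restrictScalars (algebraMap Pg Af)).map
        ((ModuleCat.extendScalars (algebraMap A Af)).map φ) := by
  apply ModuleCat.ExtendScalars.hom_ext
  intro m
  rw [ModuleCat.comp_apply, ModuleCat.comp_apply]
  have h1 : (ModuleCat.extendScalars (algebraMap P Pg)).map
      ((ModuleCat.restrictScalars (algebraMap P A)).map φ) ((1 : Pg) ⊗ₜ[P, algebraMap P Pg] m) =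
      (1 : Pg) ⊗ₜ[P, algebraMap P Pg] ((ModuleCat.restrictScalars (algebraMap P A)).map φ m) := rfl
  refine (congrArg (compIso (Pg := Pg) (Af := Af) g N).hom h1).trans ?_
  refine (compIso_hom_one_tmul (Pg := Pg) (Af := Af) g N _).trans ?_
  refine Eq.symm ((congrArg ((ModuleCat.restrictScalars (algebraMap Pg Af)).map
    ((ModuleCat.extendScalars (algebraMap A Af)).map φ))
    (compIso_hom_one_tmul (Pg := Pg) (Af := Af) g M m)).trans ?_)
  rfl

/-- the comparison isomorphism on complexes -/
noncomputable def compIsoCx (K : DRing.Cx A) :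
    (bcCx P Pg).obj ((rCx (algebraMap P A)).obj K) ≅
      (rCx (algebraMap Pg Af)).obj ((bcCx A Af).obj K) :=
  HomologicalComplex.Hom.isoOfComponents
    (fun i => compIso (Pg := Pg) (Af := Af) g (K.X i))
    (fun i j _ => (compIso_naturality (Pg := Pg) (Af := Af) g (K.d i j)).symm)

end Cat

end Groth.Agent.Helper3.PcLoc
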