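import Mathlib
import Groth.Prelude.Def_DRing2
import Groth.Prelude.Def_DDual2
import Groth.Prelude.Def_MoreMor
import Groth.Agent.Helper3.PcLocB
import Groth.Agent.Helper3.PcHomD

/-! Relative pseudo-coherence and localization. -/

set_option autoImplicit false
set_option linter.style.haveILetI false
set_option linter.unusedSectionVars false
set_option linter.unusedVariables false
set_option linter.style.haveILetI false
set_option linter.unusedSectionVars false
set_option linter.unusedVariables false
universe u
open CategoryTheory CategoryTheory.Limits TensorProduct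

namespace Groth.Agent.Helper3.PcLoc

attribute [local instance] HasDerivedCategory.standard

open Groth.Agent.Helper3.DRingLib DerivedCategory Groth.Agent.Helper3.PcHom

section Surj

variable {P A : Type u} [CommRing P] [CommRing A] [Algebra P A]

/-- relative pseudo-coherence over a ring surjecting onto `A` is pseudo-coherence of the
restriction -/
theorem relPC_iff_of_surjective (h : Function.Surjective (algebraMap P A)) (K : Dual.D A) (m : ℤ) :
    DerCA.IsRelPseudoCoherent P A m K ↔
      DRing.IsPseudoCoherent P m ((DRing.restrictD (algebraMap P A)).obj K) := by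
  rw [relPC_iff_via pres0 (pres0_surjective h) m]
  unfold DerCA.IsRelPseudoCoherentVia
  rw [pres0_eq, goodHom_ringEquiv (MvPolynomial.isEmptyRingEquiv P (Fin 0)) A (algebraMap P A) K m]

end Surj

section Restrict

variable {R P A : Type u} [CommRing R] [CommRing P] [CommRing A] [Algebra R P] [Algebra P A]
  [Algebra R A] [IsScalarTower R P A]

/-- testing relative pseudo-coherence over `R` through an intermediate pseudo-coherent
`R`-algebra surjecting onto `A` -/
theorem relPC_iff_restrict (hRP : MoreMor.IsPseudoCoherentHom R P)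
    (hsurj : Function.Surjective (algebraMap P A)) (K : DRing.Cx A) (m : ℤ) :
    DerCA.IsRelPseudoCoherent R A m (DRing.toD K) ↔
      DRing.IsPseudoCoherent P m (DRing.toD ((rCx (algebraMap P A)).obj K)) := by
  haveI := finiteType_of_pcHom hRP
  haveI : Algebra.FiniteType P A := Algebra.FiniteType.of_surjective (Algebra.ofId P A) hsurj
  haveI : Algebra.FiniteType R A := Algebra.FiniteType.trans (S := P) inferInstance inferInstance
  have h1 := (Groth.Agent.S6985.result (R := R) (A := P) (B := A) (pcHom_iff_relPCAll.mp hRP)
    (DRing.toD K) m).1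
  rw [← h1, relPC_iff_of_surjective hsurj]
  exact ⟨fun h => isPseudoCoherent_of_iso (rDToD (algebraMap P A) K) h,
    fun h => isPseudoCoherent_of_iso (rDToD (algebraMap P A) K).symm h⟩

end Restrict

section Loc

variable {R P A Pg Af : Type u} [CommRing R] [CommRing P] [CommRing A] [CommRing Pg] [CommRing Af]
  [Algebra R P] [Algebra P A] [Algebra R A] [IsScalarTower R P A]
  [Algebra P Pg] [Algebra A Af] [Algebra Pg Af] [Algebra P Af]
  [IsScalarTower P Pg Af] [IsScalarTower P A Af]
  [Algebra R Pg] [IsScalarTower R P Pg] [Algebra R Af] [IsScalarTower R A Af]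

include P A in
variable (R P A Pg Af) in
lemma tower_R_Pg_Af : IsScalarTower R Pg Af := IsScalarTower.of_algebraMap_eq (fun x => by
  rw [IsScalarTower.algebraMap_apply R A Af, IsScalarTower.algebraMap_apply R P A,
    ← IsScalarTower.algebraMap_apply P A Af, IsScalarTower.algebraMap_apply P Pg Af,
    ← IsScalarTower.algebraMap_apply R P Pg])

lemma surjective_Pg_Af (g : P) [IsLocalization.Away g Pg]
    [IsLocalization.Away (algebraMap P A g) Af] (hsurj : Function.Surjective (algebraMap P A)) :
    Function.Surjective (algebraMap Pg Af) := by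
  intro y
  obtain ⟨⟨s, ⟨_, k, rfl⟩⟩, hy⟩ := IsLocalization.surj (Submonoid.powers (algebraMap P A g)) y
  obtain ⟨p, rfl⟩ := hsurj s
  simp only at hy
  have hu : IsUnit (algebraMap P Pg g) := IsLocalization.Away.algebraMap_isUnit g
  obtain ⟨u, hu'⟩ := hu
  refine ⟨algebraMap P Pg p * ↑(u⁻¹ ^ k), ?_⟩
  have hunit : IsUnit (algebraMap A Af (algebraMap P A g ^ k)) :=
    IsLocalization.map_units Af (⟨_, k, rfl⟩ : Submonoid.powers (algebraMap P A g))
  apply hunit.mul_right_cancel
  rw [hy, map_mul, mul_assoc]
  have h2 : algebraMap A Af (algebraMap P A g ^ k) = algebraMap Pg Af ((↑u : Pg) ^ k) := by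
    rw [hu', ← map_pow, ← IsScalarTower.algebraMap_apply, ← map_pow,
      ← IsScalarTower.algebraMap_apply, IsScalarTower.algebraMap_apply P A Af]
  rw [h2, ← map_mul, ← Units.val_pow_eq_pow_val, ← Units.val_mul, ← mul_pow, inv_mul_cancel,
    one_pow, Units.val_one, map_one, mul_one, ← IsScalarTower.algebraMap_apply,
    IsScalarTower.algebraMap_apply P A Af]

/-- relative pseudo-coherence of the localized complex in terms of the base change to `P_g` -/
theorem relPC_loc_iff (g : P) [IsLocalization.Away g Pg]
    [IsLocalization.Away (algebraMap P A g) Af] (hsurj : Function.Surjective (algebraMap P A))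
    (hRP : MoreMor.IsPseudoCoherentHom R P) (K : DRing.Cx A) (m : ℤ) :
    DerCA.IsRelPseudoCoherent R Af m (DRing.toD ((bcCx A Af).obj K)) ↔
      DRing.IsPseudoCoherent Pg m
        (DRing.toD ((bcCx P Pg).obj ((rCx (algebraMap P A)).obj K))) := by
  haveI := tower_R_Pg_Af R P A Pg Af
  have hRPg : MoreMor.IsPseudoCoherentHom R Pg := comp hRP (pcHom_away P g Pg)
  rw [relPC_iff_restrict hRPg (surjective_Pg_Af (Pg := Pg) (Af := Af) g hsurj)]
  have e := DerivedCategory.Q.mapIso (compIsoCx (Pg := Pg) (Af := Af) g K)
  exact ⟨fun h => isPseudoCoherent_of_iso e.symm h, fun h => isPseudoCoherent_of_iso e h⟩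

/-- relative pseudo-coherence passes to principal localizations -/
theorem relPC_loc (g : P) [IsLocalization.Away g Pg]
    [IsLocalization.Away (algebraMap P A g) Af] [Module.Flat P Pg]
    (hsurj : Function.Surjective (algebraMap P A))
    (hRP : MoreMor.IsPseudoCoherentHom R P) (K : DRing.Cx A) (m : ℤ)
    (h : DerCA.IsRelPseudoCoherent R A m (DRing.toD K)) :
    DerCA.IsRelPseudoCoherent R Af m (DRing.toD ((bcCx A Af).obj K)) := by
  rw [relPC_loc_iff (Pg := Pg) g hsurj hRP]
  rw [relPC_iff_restrict hRP hsurj] at h
  exact isPseudoCoherent_of_iso (bcDToD Pg _) (bcD_isPseudoCoherent Pg h)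

end Loc

end Groth.Agent.Helper3.PcLoc
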