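import Mathlib
import Groth.Prelude.Def_DRing2
import Groth.Prelude.Def_DDual2
import Groth.Prelude.Def_MoreMor
import Groth.Agent.Helper3.PcLocC

/-! Relative pseudo-coherence is local for the Zariski topology of the top ring. -/

set_option autoImplicit false
set_option linter.style.haveILetI false
set_option linter.unusedSectionVars false
set_option linter.unusedVariables false
set_option linter.style.haveILetI false
set_option linter.unusedSectionVars false
set_option linter.unusedVariables false
universe u
open CategoryTheory CategoryTheory.Limits TensorProduct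

namespace Groth.Agent.Helper3.PcLoc

attribute [local instance] HasDerivedCategory.standard

open Groth.Agent.Helper3.DRingLib DerivedCategory Groth.Agent.Helper3.PcHom

section Away

variable {R A : Type u} [CommRing R] [CommRing A] [Algebra R A]

/-- relative pseudo-coherence passes to a principal localization -/
theorem relPC_away (K : DRing.Cx A) (m : ℤ) (f : A)
    (h : DerCA.IsRelPseudoCoherent R A m (DRing.toD K)) :
    DerCA.IsRelPseudoCoherent R (Localization.Away f) m
      (DRing.toD ((bcCx A (Localization.Away f)).obj K)) := by
  obtain ⟨n, α, hα, -⟩ := id h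
  letI algPA : Algebra (MvPolynomial (Fin n) R) A := α.toRingHom.toAlgebra
  haveI : IsScalarTower R (MvPolynomial (Fin n) R) A :=
    IsScalarTower.of_algebraMap_eq (fun a => (α.commutes a).symm)
  have hαalg : ∀ p, algebraMap (MvPolynomial (Fin n) R) A p = α p := fun _ => rfl
  obtain ⟨g, hg⟩ := hα f
  haveI hloc : IsLocalization.Away (algebraMap (MvPolynomial (Fin n) R) A g)
      (Localization.Away f) := by
    rw [hαalg, hg]
    infer_instance
  letI a1 : Algebra (Localization.Away g) (Localization.Away f) :=
    (IsLocalization.Away.map (Localization.Away g) (Localization.Away f)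
      (algebraMap (MvPolynomial (Fin n) R) A) g).toAlgebra
  haveI t2 : IsScalarTower (MvPolynomial (Fin n) R) (Localization.Away g)
      (Localization.Away f) :=
    IsScalarTower.of_algebraMap_eq (fun x => by
      rw [IsScalarTower.algebraMap_apply (MvPolynomial (Fin n) R) A (Localization.Away f)]
      show algebraMap A (Localization.Away f) (algebraMap _ A x) =
        IsLocalization.Away.map (Localization.Away g) (Localization.Away f)
          (algebraMap (MvPolynomial (Fin n) R) A) g (algebraMap _ _ x)
      rw [IsLocalization.Away.map, IsLocalization.map_eq])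
  haveI : Module.Flat (MvPolynomial (Fin n) R) (Localization.Away g) :=
    IsLocalization.flat _ (Submonoid.powers g)
  exact relPC_loc (R := R) (P := MvPolynomial (Fin n) R) (A := A) (Pg := Localization.Away g)
    (Af := Localization.Away f) g hα (pcHom_mvPolynomial R n) K m h

end Away

section Zero

variable {B : Type u} [CommRing B]

/-- a complex with subsingleton terms is pseudo-coherent -/
lemma isPseudoCoherent_of_subsingleton_terms (E : DRing.Cx B) (h : ∀ i, Subsingleton (E.X i))
    (m : ℤ) : DRing.IsPseudoCoherent B m (DRing.toD E) := by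
  have h' : DRing.IsPseudoCoherent' B (DRing.toD E) := by
    refine ⟨E, 0, fun i _ => ?_, fun i => ?_, ⟨Iso.refl _⟩⟩
    · haveI := h i
      exact ModuleCat.isZero_of_subsingleton _
    · haveI := h i
      exact ⟨inferInstance, inferInstance⟩
  exact (isPseudoCoherent'_iff_forall _).mp h' m

variable {P A : Type u} [CommRing P] [CommRing A] [Algebra P A]

lemma subsingleton_away_tensor_module (h : P) (hh : algebraMap P A h = 0) (Ph : Type u)
    [CommRing Ph] [Algebra P Ph] [IsLocalization.Away h Ph] (M : ModuleCat.{u} A) :
    Subsingleton ((bcF P Ph).obj ((rF (algebraMap P A)).obj M)) := by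
  suffices hs : Subsingleton (Ph ⊗[P] ↑((rF (algebraMap P A)).obj M)) from
    (extendScalarsEquiv (A := P) (B := Ph) ((rF (algebraMap P A)).obj M)).toEquiv.subsingleton
  refine ⟨fun x y => ?_⟩
  suffices hz : ∀ z : Ph ⊗[P] ↑((rF (algebraMap P A)).obj M), z = 0 by rw [hz x, hz y]
  intro z
  induction z using TensorProduct.induction_on with
  | zero => rfl
  | add x y hx hy => rw [hx, hy, add_zero]
  | tmul a s =>
    have hu : IsUnit (algebraMap P Ph h) := IsLocalization.Away.algebraMap_isUnit h
    obtain ⟨u, hu'⟩ := hu
    have h1 : a = (a * ↑u⁻¹) * algebraMap P Ph h := by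
      rw [← hu', mul_assoc, Units.inv_mul, mul_one]
    rw [h1, mul_comm, ← Algebra.smul_def, TensorProduct.smul_tmul]
    have : h • s = 0 := by
      rw [ModuleCat.restrictScalars.smul_def, hh]
      exact zero_smul A (show ↑M from s)
    rw [this, TensorProduct.tmul_zero]

end Zero

section Cover

variable {R A : Type u} [CommRing R] [CommRing A] [Algebra R A]

/-- relative pseudo-coherence can be checked on a finite principal open cover -/
theorem relPC_of_cover [Algebra.FiniteType R A] (K : DRing.Cx A) (m : ℤ) {r : ℕ} (f : Fin r → A)
    (hf : Ideal.span (Set.range f) = ⊤)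
    (h : ∀ i, DerCA.IsRelPseudoCoherent R (Localization.Away (f i)) m
      (DRing.toD ((bcCx A (Localization.Away (f i))).obj K))) :
    DerCA.IsRelPseudoCoherent R A m (DRing.toD K) := by
  obtain ⟨n, α, hα⟩ := Algebra.FiniteType.iff_quotient_mvPolynomial''.mp
    (inferInstance : Algebra.FiniteType R A)
  letI algPA : Algebra (MvPolynomial (Fin n) R) A := α.toRingHom.toAlgebra
  haveI : IsScalarTower R (MvPolynomial (Fin n) R) A :=
    IsScalarTower.of_algebraMap_eq (fun a => (α.commutes a).symm)
  have hαalg : ∀ p, algebraMap (MvPolynomial (Fin n) R) A p = α p := fun _ => rfl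
  rw [relPC_iff_restrict (pcHom_mvPolynomial R n) hα]
  choose g hg using fun i : Fin r => hα (f i)
  have h1 : (1 : A) ∈ Ideal.span (Set.range f) := by
    rw [hf]
    exact Submodule.mem_top
  obtain ⟨c, hc⟩ := (Ideal.mem_span_range_iff_exists_fun).mp h1
  choose b hb using fun i : Fin r => hα (c i)
  let h0 : MvPolynomial (Fin n) R := 1 - ∑ i : Fin r, b i * g i
  have hh : algebraMap (MvPolynomial (Fin n) R) A h0 = 0 := by
    rw [hαalg]
    simp only [h0, map_sub, map_one, map_sum, map_mul, hb, hg, hc, sub_self]
  let G : Option (Fin r) → MvPolynomial (Fin n) R := fun o => o.elim h0 g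
  have hG : Ideal.span (Set.range G) = ⊤ := by
    rw [Ideal.eq_top_iff_one]
    have e1 : (1 : MvPolynomial (Fin n) R) = h0 + ∑ i : Fin r, b i * g i := by
      simp only [h0, sub_add_cancel]
    rw [e1]
    refine Ideal.add_mem _ (Ideal.subset_span ⟨none, rfl⟩) (Ideal.sum_mem _ (fun i _ => ?_))
    exact Ideal.mul_mem_left _ _ (Ideal.subset_span ⟨some i, rfl⟩)
  refine isPseudoCoherent_of_forall_bcCx (jointlyFaithful_away' G hG) (jointlyFinite_away' G hG)
    m _ (fun j => ?_)
  cases j with
  | none =>
    apply isPseudoCoherent_of_subsingleton_terms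
    intro i
    exact subsingleton_away_tensor_module h0 hh (Localization.Away h0) (K.X i)
  | some i =>
    show DRing.IsPseudoCoherent (Localization.Away (g i)) m
      (DRing.toD ((bcCx (MvPolynomial (Fin n) R) (Localization.Away (g i))).obj
        ((rCx (algebraMap (MvPolynomial (Fin n) R) A)).obj K)))
    haveI hloc : IsLocalization.Away (algebraMap (MvPolynomial (Fin n) R) A (g i))
        (Localization.Away (f i)) := by
      rw [hαalg, hg i]
      infer_instance
    letI a1 : Algebra (Localization.Away (g i)) (Localization.Away (f i)) :=
      (IsLocalization.Away.map (Localization.Away (g i)) (Localization.Away (f i))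
        (algebraMap (MvPolynomial (Fin n) R) A) (g i)).toAlgebra
    haveI t2 : IsScalarTower (MvPolynomial (Fin n) R) (Localization.Away (g i))
        (Localization.Away (f i)) :=
      IsScalarTower.of_algebraMap_eq (fun x => by
        rw [IsScalarTower.algebraMap_apply (MvPolynomial (Fin n) R) A (Localization.Away (f i))]
        show algebraMap A (Localization.Away (f i)) (algebraMap _ A x) =
          IsLocalization.Away.map (Localization.Away (g i)) (Localization.Away (f i))
            (algebraMap (MvPolynomial (Fin n) R) A) (g i) (algebraMap _ _ x)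
        rw [IsLocalization.Away.map, IsLocalization.map_eq])
    exact (relPC_loc_iff (R := R) (P := MvPolynomial (Fin n) R) (A := A)
      (Pg := Localization.Away (g i)) (Af := Localization.Away (f i)) (g i) hα
      (pcHom_mvPolynomial R n) K m).mp (h i)

end Cover

end Groth.Agent.Helper3.PcLoc
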