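import Mathlib
import Groth.Prelude.Def_DRing2
import Groth.Prelude.Def_DDual2
import Groth.Prelude.Def_MoreMor
import Groth.Agent.Helper3.PcLocD

/-! S6987 and S7008. -/

set_option autoImplicit false
set_option linter.style.haveILetI false
set_option linter.unusedSectionVars false
set_option linter.unusedVariables false
set_option linter.style.haveILetI false
set_option linter.unusedSectionVars false
set_option linter.unusedVariables false
universe u
open CategoryTheory CategoryTheory.Limits TensorProduct

namespace Groth.Agent.Helper3.PcLoc

attribute [local instance] HasDerivedCategory.standard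

open Groth.Agent.Helper3.DRingLib DerivedCategory Groth.Agent.Helper3.PcHom

theorem s6987 {R A : Type u} [CommRing R] [CommRing A] [Algebra R A]
    [Algebra.FiniteType R A] (K : DRing.Cx A) (m : ℤ) {r : ℕ} (f : Fin r → A)
    (hf : Ideal.span (Set.range f) = ⊤) :
    DerCA.IsRelPseudoCoherent R A m (DRing.toD K) ↔
      ∀ i, DerCA.IsRelPseudoCoherent R (Localization.Away (f i)) m
        (DRing.toD (((ModuleCat.extendScalars (algebraMap A (Localization.Away (f i)))).mapHomologicalComplex
          (ComplexShape.up ℤ)).obj K)) :=
  ⟨fun h i => relPC_away K m (f i) h, fun h => relPC_of_cover K m f hf h⟩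

theorem s7008 {R A : Type u} [CommRing R] [CommRing A] (f : R) [Algebra R A]
    [Algebra (Localization.Away f) A] [IsScalarTower R (Localization.Away f) A]
    [Algebra.FiniteType (Localization.Away f) A] (g : A) (K : DRing.Cx A) (m : ℤ) :
    (DerCA.IsRelPseudoCoherent (Localization.Away f) A m (DRing.toD K) →
      DerCA.IsRelPseudoCoherent R (Localization.Away g) m
        (DRing.toD (((ModuleCat.extendScalars (algebraMap A (Localization.Away g))).mapHomologicalComplex
          (ComplexShape.up ℤ)).obj K))) ∧
      (DerCA.IsRelPseudoCoherentAll (Localization.Away f) A (DRing.toD K) →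
        DerCA.IsRelPseudoCoherentAll R (Localization.Away g)
          (DRing.toD (((ModuleCat.extendScalars (algebraMap A (Localization.Away g))).mapHomologicalComplex
            (ComplexShape.up ℤ)).obj K))) := by
  have hRf : MoreMor.IsPseudoCoherentHom R (Localization.Away f) :=
    pcHom_away R f (Localization.Away f)
  haveI := finiteType_of_pcHom hRf
  haveI : Algebra.FiniteType R A :=
    Algebra.FiniteType.trans (S := Localization.Away f) inferInstance inferInstance
  have key : ∀ m' : ℤ, DerCA.IsRelPseudoCoherent (Localization.Away f) A m' (DRing.toD K) →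
      DerCA.IsRelPseudoCoherent R (Localization.Away g) m'
        (DRing.toD ((bcCx A (Localization.Away g)).obj K)) := by
    intro m' h
    have h1 := (Groth.Agent.S6985.result (R := R) (A := Localization.Away f) (B := A)
      (pcHom_iff_relPCAll.mp hRf) (DRing.toD K) m').1.mp h
    exact relPC_away K m' g h1
  exact ⟨key m, fun h m' => key m' (h m')⟩

end Groth.Agent.Helper3.PcLoc
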