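import Mathlib
import Groth.Prelude.Def_MoreMor
import Groth.Agent.Helper3.PcMorA
import Groth.Agent.Helper3.PcHomE
import Groth.Agent.Helper3.MorGen

/-! Pseudo-coherent morphisms: flat base change and fpqc descent. -/

set_option autoImplicit false
set_option linter.style.haveILetI false
set_option linter.unusedSectionVars false
set_option linter.unusedVariables false
set_option linter.style.haveILetI false
set_option linter.unusedSectionVars false
set_option linter.unusedVariables false
universe u
open CategoryTheory CategoryTheory.Limits AlgebraicGeometry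

namespace Groth.Agent.Helper3.PcMor

open Groth.Agent.Helper3.PcHom

theorem Q_finiteType {R S : Type u} [CommRing R] [CommRing S] (φ : R →+* S) (h : Q φ) :
    φ.FiniteType := by
  letI := φ.toAlgebra
  exact finiteType_of_pcHom h

theorem s7167 {X S X' S' : Scheme.{u}} (f : X ⟶ S) (f' : X' ⟶ S') (g' : X' ⟶ X) (g : S' ⟶ S)
    [Flat g] (hc : IsPullback g' f' f g) (hf : MoreMor.IsPseudoCoherentMor f) :
    MoreMor.IsPseudoCoherentMor f' := by
  rw [isPseudoCoherentMor_iff] at hf ⊢
  exact MorGen.baseChange pcMor Q_stableUnderCompositionWithLocalizationAway.1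
    (fun φ γ γ' φ' hpo hfl h => Q_of_isPushout φ γ γ' φ' hpo hfl h) f f' g' g hc hf

theorem s1505 {X S X' S' : Scheme.{u}} (f : X ⟶ S) (f' : X' ⟶ S') (g' : X' ⟶ X) (g : S' ⟶ S)
    [Flat g] [Surjective g] [QuasiCompact g] (hc : IsPullback g' f' f g)
    (hf' : MoreMor.IsPseudoCoherentMor f') : MoreMor.IsPseudoCoherentMor f := by
  rw [isPseudoCoherentMor_iff] at hf' ⊢
  exact MorGen.descent pcMor (fun φ h => Q_finiteType φ h)
    (fun A' C' _ _ φ γ φ' γ' hpo hfl hs hft h => Q_descent A' C' φ γ φ' γ' hpo hfl hs hft h)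
    f f' g' g hc hf'

end Groth.Agent.Helper3.PcMor
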