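import Mathlib
import Groth.Prelude.Def_DRing2
import Groth.Prelude.Def_DDual2
import Groth.Prelude.Def_MoreMor
import Groth.Agent.Helper3.PcFam
import Groth.Agent.Helper3.KPerfC
import Groth.Agent.Helper6.TorFlatAlg

/-! Finite tor dimension of modules: transitivity, flat base change, flat descent. -/

set_option autoImplicit false
set_option linter.style.haveILetI false
set_option linter.unusedSectionVars false
set_option linter.unusedVariables false
set_option linter.style.haveILetI false
set_option linter.unusedSectionVars false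
set_option linter.unusedVariables false
universe u
open CategoryTheory CategoryTheory.Limits TensorProduct

namespace Groth.Agent.Helper3.TorDim

attribute [local instance] HasDerivedCategory.standard

open Groth.Agent.Helper3.DRingLib DerivedCategory Groth.Agent.Helper3.PcHom

section Basic

variable {A : Type u} [CommRing A]

lemma hasFiniteTorDim_iff (M : Type u) [AddCommGroup M] [Module A M] :
    DRing.HasFiniteTorDim A M ↔
      ∃ d : ℕ, DRing.HasTorAmplitudeIn A (-(d : ℤ)) 0 (Dual.inD A M) := by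
  constructor
  · rintro ⟨d, hd⟩
    exact ⟨d, ((Groth.Agent.Helper6.TorAmpBridge.main2 M d).1).mp hd⟩
  · rintro ⟨d, hd⟩
    exact ⟨d, ((Groth.Agent.Helper6.TorAmpBridge.main2 M d).1).mpr hd⟩

lemma hasFiniteTorDim_of_amp (M : Type u) [AddCommGroup M] [Module A M] (a b : ℤ)
    (h : DRing.HasTorAmplitudeIn A a b (Dual.inD A M)) : DRing.HasFiniteTorDim A M := by
  rw [hasTorAmplitudeIn_iff'] at h
  obtain ⟨d, hd⟩ : ∃ d : ℕ, -(d : ℤ) ≤ a := ⟨(-a).toNat, by omega⟩
  refine ⟨d, Groth.Agent.Helper6.TorAmpBridge.hasTorDimLE_of_hasTorAmplitudeIn d M ?_⟩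
  rw [hasTorAmplitudeIn_iff']
  exact ⟨inferInstance, h.2.of_le hd⟩

lemma hasFiniteTorDim_of_flat (M : Type u) [AddCommGroup M] [Module A M] [Module.Flat A M] :
    DRing.HasFiniteTorDim A M :=
  ⟨0, ((Groth.Agent.Helper6.TorAmpBridge.main2 M 0).2).mpr inferInstance⟩

lemma hasFiniteTorDim_of_linearEquiv {M M' : Type u} [AddCommGroup M] [Module A M]
    [AddCommGroup M'] [Module A M'] (e : M ≃ₗ[A] M') (h : DRing.HasFiniteTorDim A M) :
    DRing.HasFiniteTorDim A M' := by
  rw [hasFiniteTorDim_iff] at h ⊢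
  obtain ⟨d, hd⟩ := h
  exact ⟨d, hasTorAmplitudeIn_of_iso
    ((singleFunctor (ModuleCat.{u} A) 0).mapIso e.toModuleIso) _ _ hd⟩

/-- transitivity of finite tor dimension -/
theorem hasFiniteTorDim_trans {B : Type u} [CommRing B] [Algebra A B]
    (hB : DRing.HasFiniteTorDim A B) (M : Type u) [AddCommGroup M] [Module B M] [Module A M]
    [IsScalarTower A B M] (hM : DRing.HasFiniteTorDim B M) : DRing.HasFiniteTorDim A M := by
  rw [hasFiniteTorDim_iff] at hB hM
  obtain ⟨d, hd⟩ := hB
  obtain ⟨e, he⟩ := hM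
  have h1 := Groth.Agent.Helper6.TorAmpRestr.main (A := A) (B := B) d hd _ _ _ he
  let eM : ((rF (algebraMap A B)).obj (ModuleCat.of B M)) ≃ₗ[A] M :=
    { toFun := fun m => m
      invFun := fun m => m
      map_add' := fun _ _ => rfl
      map_smul' := fun c m => by
        show ((algebraMap A B c) • (show M from m) : M) = (c • (show M from m) : M)
        rw [algebraMap_smul]
      left_inv := fun _ => rfl
      right_inv := fun _ => rfl }
  have e1 : (DRing.restrictD (algebraMap A B)).obj (Dual.inD B M) ≅ Dual.inD A M :=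
    rDSingle (algebraMap A B) 0 (ModuleCat.of B M) ≪≫
      (singleFunctor (ModuleCat.{u} A) 0).mapIso eM.toModuleIso
  exact hasFiniteTorDim_of_amp M _ _ (hasTorAmplitudeIn_of_iso e1 _ _ h1)

/-- flat base change of finite tor dimension -/
theorem hasFiniteTorDim_baseChange (A' : Type u) [CommRing A'] [Algebra A A'] [Module.Flat A A']
    (M : Type u) [AddCommGroup M] [Module A M] (h : DRing.HasFiniteTorDim A M) :
    DRing.HasFiniteTorDim A' (A' ⊗[A] M) := by
  rw [hasFiniteTorDim_iff] at h ⊢
  obtain ⟨d, hd⟩ := h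
  exact ⟨d, hasTorAmplitudeIn_of_iso (bcDInD A' M) _ _ (bcD_hasTorAmplitudeIn A' hd)⟩

/-- flat descent of finite tor dimension along a jointly faithful finite family -/
theorem hasFiniteTorDim_of_family {J : Type*} [Finite J] (B : J → Type u) [∀ j, CommRing (B j)]
    [∀ j, Algebra A (B j)] [∀ j, Module.Flat A (B j)] (hB : JointlyFaithful A B)
    (M : Type u) [AddCommGroup M] [Module A M]
    (h : ∀ j, DRing.HasFiniteTorDim (B j) (B j ⊗[A] M)) : DRing.HasFiniteTorDim A M := by
  choose d hd using fun j => (hasFiniteTorDim_iff _).mp (h j)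
  obtain ⟨D, hD⟩ := Finite.exists_le d
  let K : DRing.Cx A := (CochainComplex.singleFunctor (ModuleCat.{u} A) 0).obj (ModuleCat.of A M)
  have e : DRing.toD K ≅ Dual.inD A M :=
    ((singleFunctorIsoCompQ (ModuleCat.{u} A) 0).app (ModuleCat.of A M)).symm
  refine hasFiniteTorDim_of_amp M (-(D : ℤ)) 0 (hasTorAmplitudeIn_of_iso e _ _ ?_)
  refine hasTorAmplitudeIn_of_forall_bcCx hB K _ _ (fun j => ?_)
  refine hasTorAmplitudeIn_of_iso (bcSingleIso (B j) M).symm _ _ ?_
  exact hasTorAmplitudeIn_mono (by have := hD j; omega) (le_refl _) (hd j)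

end Basic

end Groth.Agent.Helper3.TorDim
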