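import Mathlib
import Groth.Prelude.Def_DRing2
import Groth.Prelude.Def_DDual2
import Groth.Prelude.Def_MoreMor
import Groth.Agent.Helper3.TorDimA

/-! Finite tor dimension: descent along a jointly faithful flat family on the target side. -/

set_option autoImplicit false
set_option linter.style.haveILetI false
set_option linter.unusedSectionVars false
set_option linter.unusedVariables false
set_option linter.style.haveILetI false
set_option linter.unusedSectionVars false
set_option linter.unusedVariables false
universe u
open CategoryTheory CategoryTheory.Limits TensorProduct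

namespace Groth.Agent.Helper3.TorDim

open Groth.Agent.Helper3.DRingLib Groth.Agent.Helper1.TorLib

section Inj

variable {B : Type u} [CommRing B] {J : Type*} (F : J → Type u) [∀ j, CommRing (F j)]
  [∀ j, Algebra B (F j)] [∀ j, Module.Flat B (F j)]

/-- injectivity can be tested after tensoring with a jointly faithful flat family -/
lemma injective_of_forall_lTensor (hF : JointlyFaithful B F) {X Y : Type u} [AddCommGroup X]
    [Module B X] [AddCommGroup Y] [Module B Y] (g : X →ₗ[B] Y)
    (h : ∀ j, Function.Injective (g.lTensor (F j))) : Function.Injective g := by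
  have hsub : Subsingleton (LinearMap.ker g) := by
    apply hF
    intro j
    have h1 : Function.Injective ((LinearMap.ker g).subtype.lTensor (F j)) :=
      Module.Flat.lTensor_preserves_injective_linearMap _ (LinearMap.ker g).injective_subtype
    have h2 : (g.lTensor (F j)).comp ((LinearMap.ker g).subtype.lTensor (F j)) = 0 := by
      rw [← LinearMap.lTensor_comp]
      have : g.comp (LinearMap.ker g).subtype = 0 := LinearMap.comp_ker_subtype g
      rw [this, LinearMap.lTensor_zero]
    refine ⟨fun x y => h1 (h j ?_)⟩
    have hx := LinearMap.congr_fun h2 x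
    have hy := LinearMap.congr_fun h2 y
    rw [LinearMap.comp_apply, LinearMap.zero_apply] at hx hy
    rw [hx, hy]
  rw [← LinearMap.ker_eq_bot]
  exact Submodule.eq_bot_of_subsingleton

end Inj

section Tor

variable {A B : Type u} [CommRing A] [CommRing B] [Algebra A B]
  {J : Type*} (F : J → Type u) [∀ j, CommRing (F j)]
  [∀ j, Algebra B (F j)] [∀ j, Algebra A (F j)] [∀ j, IsScalarTower A B (F j)]
  [∀ j, Module.Flat B (F j)]

open TensorProduct.AlgebraTensorModule in
lemma lTensor_injective_of_family (hF : JointlyFaithful B F) {N P : Type u} [AddCommMonoid N]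
    [Module A N] [AddCommMonoid P] [Module A P] (f : N →ₗ[A] P)
    (hf : ∀ j, Function.Injective (f.lTensor (F j))) : Function.Injective (f.lTensor B) := by
  rw [← coe_lTensor (A := B)]
  apply injective_of_forall_lTensor F hF
  intro j
  have h := hf j
  rw [← coe_lTensor (A := B), ← EquivLike.injective_comp (cancelBaseChange A B B _ _),
    ← LinearEquiv.coe_coe, ← LinearMap.coe_comp, lTensor_comp_cancelBaseChange,
    LinearMap.coe_comp, LinearEquiv.coe_coe, EquivLike.comp_injective] at h
  exact h

lemma isZero_torOne_of_family (hF : JointlyFaithful B F) (N : Type u) [AddCommGroup N]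
    [Module A N]
    (h : ∀ j, IsZero (((Tor (ModuleCat.{u} A) 1).obj (ModuleCat.of A (F j))).obj
      (ModuleCat.of A N))) :
    IsZero (((Tor (ModuleCat.{u} A) 1).obj (ModuleCat.of A B)).obj (ModuleCat.of A N)) := by
  have h1 : ∀ j, Function.Injective
      ((LinearMap.ker (Finsupp.linearCombination A (id : N → N))).subtype.rTensor (F j)) :=
    fun j => (isZero_torOne_iff_presentation N (F j)).1 ((isZero_tor_symm_iff _ _ 1).1 (h j))
  have h2 : Function.Injective
      ((LinearMap.ker (Finsupp.linearCombination A (id : N → N))).subtype.rTensor B) := by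
    rw [← LinearMap.lTensor_inj_iff_rTensor_inj]
    refine lTensor_injective_of_family (A := A) (B := B) F hF
      (LinearMap.ker (Finsupp.linearCombination A (id : N → N))).subtype (fun j => ?_)
    rw [LinearMap.lTensor_inj_iff_rTensor_inj]
    exact h1 j
  exact (isZero_tor_symm_iff _ _ 1).2 ((isZero_torOne_iff_presentation N B).2 h2)

theorem isZero_tor_of_family (hF : JointlyFaithful B F) : ∀ (p : ℕ) (N : ModuleCat.{u} A),
    (∀ (j : J) (i : ℕ), p + 1 ≤ i →
      IsZero (((Tor (ModuleCat.{u} A) i).obj (ModuleCat.of A (F j))).obj N)) →
    IsZero (((Tor (ModuleCat.{u} A) (p + 1)).obj (ModuleCat.of A B)).obj N) := by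
  intro p
  induction p with
  | zero =>
    intro N hN
    exact isZero_torOne_of_family F hF N (fun j => hN j 1 (by omega))
  | succ p ih =>
    intro N hN
    let S : ShortComplex (ModuleCat.{u} A) :=
      ShortComplex.mk (kernel.ι (Projective.π N)) (Projective.π N) (kernel.condition _)
    have hS : S.ShortExact :=
      { exact := ShortComplex.exact_of_f_is_kernel _ (kernelIsKernel _)
        mono_f := inferInstanceAs (Mono (kernel.ι (Projective.π N)))
        epi_g := inferInstanceAs (Epi (Projective.π N)) }
    haveI : Projective S.X₂ := inferInstanceAs (Projective (Projective.over N))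
    have hP : Module.Projective A S.X₂ := (IsProjective.iff_projective S.X₂).2 inferInstance
    haveI hFl : Module.Flat A S.X₂ := inferInstance
    have hK : IsZero (((Tor (ModuleCat.{u} A) (p + 1)).obj (ModuleCat.of A B)).obj S.X₁) := by
      apply ih
      intro j i hi
      refine (tor_exact₁₂ (ModuleCat.of A (F j)) hS i).isZero_of_both_zeros ?_ ?_
      · exact (hN j (i + 1) (by omega)).eq_of_src _ _
      · obtain ⟨q, rfl⟩ : ∃ q, i = q + 1 := ⟨i - 1, by omega⟩
        exact (isZero_tor_of_flat_right (ModuleCat.of A (F j)) S.X₂ q).eq_of_tgt _ _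
    refine (tor_exact₃₂ (ModuleCat.of A B) hS (p + 1)).isZero_of_both_zeros ?_ ?_
    · exact (isZero_tor_of_flat_right (ModuleCat.of A B) S.X₂ (p + 1)).eq_of_src _ _
    · exact hK.eq_of_tgt _ _

/-- finite tor dimension descends along a jointly faithful finite family of flat algebras over
the target -/
theorem hasFiniteTorDim_of_target_family [Finite J] (hF : JointlyFaithful B F)
    (h : ∀ j, DRing.HasFiniteTorDim A (F j)) : DRing.HasFiniteTorDim A B := by
  choose d hd using h
  obtain ⟨D, hD⟩ := Finite.exists_le d
  refine ⟨D, fun N _ _ p hp => ?_⟩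
  obtain ⟨q, rfl⟩ : ∃ q, p = q + 1 := ⟨p - 1, by omega⟩
  refine ModuleCat.subsingleton_of_isZero
    (isZero_tor_of_family F hF q (ModuleCat.of A N) (fun j i hi => ?_))
  haveI := hd j N i (by have := hD j; omega)
  exact ModuleCat.isZero_of_subsingleton _

end Tor

end Groth.Agent.Helper3.TorDim
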