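import Mathlib
import Groth.Prelude.Def_DRing2
import Groth.Prelude.Def_DDual2
import Groth.Prelude.Def_MoreMor
import Groth.Agent.Helper3.TorDimB
import Groth.Agent.Helper3.PcHomE

/-! Finite tor dimension as a local property of ring homomorphisms; perfect ring maps are local. -/

set_option autoImplicit false
set_option linter.style.haveILetI false
set_option linter.unusedSectionVars false
set_option linter.unusedVariables false
set_option linter.style.haveILetI false
set_option linter.unusedSectionVars false
set_option linter.unusedVariables false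
universe u
open CategoryTheory CategoryTheory.Limits TensorProduct

namespace Groth.Agent.Helper3.TorDim

open Groth.Agent.Helper3.DRingLib Groth.Agent.Helper3.PcHom

/-- finite tor dimension as a property of ring homomorphisms -/
def R {A B : Type u} [CommRing A] [CommRing B] (φ : A →+* B) : Prop :=
  letI := φ.toAlgebra
  DRing.HasFiniteTorDim A B

lemma R_algebraMap {A B : Type u} [CommRing A] [CommRing B] [Algebra A B] :
    R (algebraMap A B) ↔ DRing.HasFiniteTorDim A B := by
  unfold R
  have : (algebraMap A B).toAlgebra = ‹Algebra A B› := Algebra.algebra_ext _ _ (fun _ => rfl)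
  rw [this]

theorem R_comp {A B C : Type u} [CommRing A] [CommRing B] [CommRing C] (φ : A →+* B)
    (ψ : B →+* C) (h1 : R φ) (h2 : R ψ) : R (ψ.comp φ) := by
  letI := φ.toAlgebra
  letI := ψ.toAlgebra
  letI := (ψ.comp φ).toAlgebra
  haveI : IsScalarTower A B C := IsScalarTower.of_algebraMap_eq (fun _ => rfl)
  exact hasFiniteTorDim_trans (A := A) (B := B) h1 C h2

theorem R_of_flat {A B : Type u} [CommRing A] [CommRing B] (φ : A →+* B) (h : φ.Flat) : R φ := by
  letI := φ.toAlgebra
  haveI : Module.Flat A B := h
  exact hasFiniteTorDim_of_flat B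

theorem R_stableUnderComposition : RingHom.StableUnderComposition (@R.{u}) :=
  fun _ _ _ _ _ _ φ ψ h1 h2 => R_comp φ ψ h1 h2

theorem R_respectsIso : RingHom.RespectsIso (@R.{u}) := by
  apply RingHom.StableUnderComposition.respectsIso R_stableUnderComposition
  intro A B _ _ e
  exact R_of_flat _ (RingHom.Flat.of_bijective e.bijective)

theorem R_holdsForLocalizationAway : RingHom.HoldsForLocalizationAway (@R.{u}) := by
  intro A S _ _ _ r _
  apply R_of_flat
  rw [RingHom.flat_algebraMap_iff]
  exact IsLocalization.flat S (Submonoid.powers r)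

theorem R_stableUnderCompositionWithLocalizationAway :
    RingHom.StableUnderCompositionWithLocalizationAway (@R.{u}) := by
  constructor
  · intro R' S T _ _ _ _ r _ f hf
    exact R_comp _ _ (R_holdsForLocalizationAway S r) hf
  · intro R' S T _ _ _ _ s _ f hf
    exact R_comp _ _ hf (R_holdsForLocalizationAway T s)

section Pushout

variable {A C A' C' : Type u} [CommRing A] [CommRing C] [CommRing A'] [CommRing C']

/-- flat base change of finite tor dimension -/
theorem R_of_isPushout (f : A →+* C) (g : A →+* A') (g' : C →+* C') (f' : A' →+* C')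
    (hpo : IsPushout (CommRingCat.ofHom f) (CommRingCat.ofHom g) (CommRingCat.ofHom g')
      (CommRingCat.ofHom f')) (hg : g.Flat) (hf : R f) : R f' := by
  obtain ⟨e⟩ := nonempty_tensor_equiv_of_isPushout f g g' f' hpo
  letI := f.toAlgebra
  letI := g.toAlgebra
  letI := f'.toAlgebra
  haveI : Module.Flat A A' := hg
  exact hasFiniteTorDim_of_linearEquiv e (hasFiniteTorDim_baseChange A' C hf)

/-- flat descent of finite tor dimension -/
theorem R_descent {ι : Type} [Finite ι] (A' C' : ι → Type u)
    [∀ j, CommRing (A' j)] [∀ j, CommRing (C' j)]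
    (f : A →+* C) (g : ∀ j, A →+* A' j) (f' : ∀ j, A' j →+* C' j) (g' : ∀ j, C →+* C' j)
    (hpo : ∀ j, IsPushout (CommRingCat.ofHom f) (CommRingCat.ofHom (g j))
      (CommRingCat.ofHom (g' j)) (CommRingCat.ofHom (f' j)))
    (hflat : ∀ j, (g j).Flat)
    (hsurj : ∀ 𝔭 : PrimeSpectrum A, ∃ (j : ι) (𝔮 : PrimeSpectrum (A' j)),
      PrimeSpectrum.comap (g j) 𝔮 = 𝔭)
    (h : ∀ j, R (f' j)) : R f := by
  have he := fun j => nonempty_tensor_equiv_of_isPushout f (g j) (g' j) (f' j) (hpo j)
  letI := f.toAlgebra
  letI : ∀ j, Algebra A (A' j) := fun j => (g j).toAlgebra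
  letI : ∀ j, Algebra (A' j) (C' j) := fun j => (f' j).toAlgebra
  haveI : ∀ j, Module.Flat A (A' j) := fun j => hflat j
  have hB : JointlyFaithful A A' := jointlyFaithful_of_comap_surjective A' hsurj
  refine hasFiniteTorDim_of_family A' hB C (fun j => ?_)
  obtain ⟨e⟩ := he j
  exact hasFiniteTorDim_of_linearEquiv e.symm (h j)

end Pushout

theorem R_localizationAwayPreserves : RingHom.LocalizationAwayPreserves (@R.{u}) := by
  intro A S _ _ f r A' S' _ _ _ _ _ _ hf
  have H : (IsLocalization.Away.map A' S' f r).comp (algebraMap A A') =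
      (algebraMap S S').comp f := IsLocalization.map_comp _
  haveI : IsLocalization ((Submonoid.powers r).map f) S' := by
    rw [Submonoid.map_powers]
    infer_instance
  have hpo := CommRingCat.isPushout_of_isLocalization f (IsLocalization.Away.map A' S' f r) H
    (Submonoid.powers r)
  refine R_of_isPushout f (algebraMap A A') (algebraMap S S') _ hpo ?_ hf
  rw [RingHom.flat_algebraMap_iff]
  exact IsLocalization.flat A' (Submonoid.powers r)

theorem R_ofLocalizationFiniteSpanTarget : RingHom.OfLocalizationFiniteSpanTarget (@R.{u}) := by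
  intro A S _ _ f s hs H
  letI algAS : Algebra A S := f.toAlgebra
  have hs' : Ideal.span (Set.range (fun r : s => (r : S))) = ⊤ := by
    rw [Subtype.range_coe_subtype]
    exact hs
  have hF : JointlyFaithful S (fun r : s => Localization.Away (r : S)) :=
    jointlyFaithful_away' (fun r : s => (r : S)) hs'
  refine hasFiniteTorDim_of_target_family (A := A) (B := S)
    (fun r : s => Localization.Away (r : S)) hF (fun r => ?_)
  have := H r
  have e : (algebraMap S (Localization.Away (r : S))).comp f =
      algebraMap A (Localization.Away (r : S)) :=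
    (IsScalarTower.algebraMap_eq A S (Localization.Away (r : S))).symm
  rw [e, R_algebraMap] at this
  exact this

theorem R_ofLocalizationSpanTarget : RingHom.OfLocalizationSpanTarget (@R.{u}) :=
  (RingHom.ofLocalizationSpanTarget_iff_finite @R).mpr R_ofLocalizationFiniteSpanTarget

theorem R_propertyIsLocal : RingHom.PropertyIsLocal (@R.{u}) where
  localizationAwayPreserves := R_localizationAwayPreserves
  ofLocalizationSpanTarget := R_ofLocalizationSpanTarget
  ofLocalizationSpan := R_ofLocalizationSpanTarget.ofLocalizationSpan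
    R_stableUnderCompositionWithLocalizationAway.1
  StableUnderCompositionWithLocalizationAwayTarget :=
    R_stableUnderCompositionWithLocalizationAway.2

/-- perfect ring maps, as a property of ring homomorphisms -/
def Perf {A B : Type u} [CommRing A] [CommRing B] (φ : A →+* B) : Prop := Q φ ∧ R φ

lemma Perf_algebraMap {A B : Type u} [CommRing A] [CommRing B] [Algebra A B] :
    Perf (algebraMap A B) ↔ MoreMor.IsPerfectHom A B := by
  unfold Perf MoreMor.IsPerfectHom
  rw [Q_algebraMap, R_algebraMap]

lemma Perf_iff {A B : Type u} [CommRing A] [CommRing B] (φ : A →+* B) :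
    Perf φ ↔ (letI := φ.toAlgebra; MoreMor.IsPerfectHom A B) := Iff.rfl

theorem Perf_propertyIsLocal : RingHom.PropertyIsLocal (@Perf.{u}) :=
  Q_propertyIsLocal.and R_propertyIsLocal

theorem Perf_stableUnderComposition : RingHom.StableUnderComposition (@Perf.{u}) :=
  fun _ _ _ _ _ _ φ ψ h1 h2 => ⟨Q_comp φ ψ h1.1 h2.1, R_comp φ ψ h1.2 h2.2⟩

theorem Perf_stableUnderCompositionWithLocalizationAwaySource :
    RingHom.StableUnderCompositionWithLocalizationAwaySource (@Perf.{u}) := by
  intro R' S T _ _ _ _ r _ f hf
  exact ⟨Q_stableUnderCompositionWithLocalizationAway.1 S r f hf.1,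
    R_stableUnderCompositionWithLocalizationAway.1 S r f hf.2⟩

end Groth.Agent.Helper3.TorDim
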