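import Mathlib
import Groth.Prelude.Def_MoreMor
import Groth.Agent.Helper3.PcMorB
import Groth.Agent.Helper3.TorDimC

/-! Perfect morphisms of schemes via `HasRingHomProperty`. -/

set_option autoImplicit false
set_option linter.style.haveILetI false
set_option linter.unusedSectionVars false
set_option linter.unusedVariables false
set_option linter.style.haveILetI false
set_option linter.unusedSectionVars false
set_option linter.unusedVariables false
universe u
open CategoryTheory CategoryTheory.Limits AlgebraicGeometry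

namespace Groth.Agent.Helper3.PerfMor

open Groth.Agent.Helper3.PcHom Groth.Agent.Helper3.TorDim Groth.Agent.Helper3.PcMor

/-- perfect morphisms, as the morphism property associated with the local ring hom property
`Perf` -/
def perfMor : MorphismProperty Scheme.{u} := affineLocally (@Perf.{u})

instance : HasRingHomProperty perfMor.{u} (@Perf.{u}) where
  isLocal_ringHomProperty := Perf_propertyIsLocal
  eq_affineLocally' := rfl

theorem isPerfectMor_iff {X Y : Scheme.{u}} (f : X ⟶ Y) :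
    MoreMor.IsPerfectMor f ↔ perfMor f := by
  rw [HasRingHomProperty.iff_appLE (P := perfMor)]
  constructor
  · intro h V U e
    exact h U.1 V.1 U.2 V.2 e
  · intro h U V hU hV hUV
    exact h ⟨V, hV⟩ ⟨U, hU⟩ hUV

theorem s7171 {X S : Scheme.{u}} (f : X ⟶ S) :
    MoreMor.IsPerfectMor f ↔ ∀ x : X, ∃ (U : X.Opens) (V : S.Opens) (hUV : U ≤ f ⁻¹ᵁ V),
      IsAffineOpen U ∧ IsAffineOpen V ∧ x ∈ U ∧
      (letI := (f.appLE V U hUV).hom.toAlgebra
       MoreMor.IsPerfectHom Γ(S, V) Γ(X, U)) := by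
  rw [isPerfectMor_iff,
    HasRingHomProperty.iff_exists_appLE (P := perfMor)
      Perf_stableUnderCompositionWithLocalizationAwaySource]
  constructor
  · intro h x
    obtain ⟨V, U, hx, e, hQ⟩ := h x
    exact ⟨U.1, V.1, e, U.2, V.2, hx, hQ⟩
  · intro h x
    obtain ⟨U, V, e, hU, hV, hx, hQ⟩ := h x
    exact ⟨⟨V, hV⟩, ⟨U, hU⟩, hx, e, hQ⟩

theorem s1508 {X Y Z : Scheme.{u}} (f : X ⟶ Y) (g : Y ⟶ Z) (hf : MoreMor.IsPerfectMor f)
    (hg : MoreMor.IsPerfectMor g) : MoreMor.IsPerfectMor (f ≫ g) := by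
  rw [isPerfectMor_iff] at hf hg ⊢
  haveI := HasRingHomProperty.stableUnderComposition (P := perfMor) Perf_stableUnderComposition
  exact MorphismProperty.comp_mem _ f g hf hg

theorem s1513 {X S X' S' : Scheme.{u}} (f : X ⟶ S) (f' : X' ⟶ S') (g' : X' ⟶ X) (g : S' ⟶ S)
    [Flat g] (hc : IsPullback g' f' f g) (hf : MoreMor.IsPerfectMor f) :
    MoreMor.IsPerfectMor f' := by
  rw [isPerfectMor_iff] at hf ⊢
  exact MorGen.baseChange perfMor Perf_stableUnderCompositionWithLocalizationAwaySource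
    (fun φ γ γ' φ' hpo hfl h =>
      ⟨Q_of_isPushout φ γ γ' φ' hpo hfl h.1, R_of_isPushout φ γ γ' φ' hpo hfl h.2⟩)
    f f' g' g hc hf

theorem s1511 {X S X' S' : Scheme.{u}} (f : X ⟶ S) (f' : X' ⟶ S') (g' : X' ⟶ X) (g : S' ⟶ S)
    [Flat g] [Surjective g] [QuasiCompact g] (hc : IsPullback g' f' f g)
    (hf' : MoreMor.IsPerfectMor f') : MoreMor.IsPerfectMor f := by
  rw [isPerfectMor_iff] at hf' ⊢
  exact MorGen.descent perfMor (fun φ h => Q_finiteType φ h.1)
    (fun A' C' _ _ φ γ φ' γ' hpo hfl hs hft h =>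
      ⟨Q_descent A' C' φ γ φ' γ' hpo hfl hs hft (fun j => (h j).1),
        R_descent A' C' φ γ φ' γ' hpo hfl hs (fun j => (h j).2)⟩)
    f f' g' g hc hf'

end Groth.Agent.Helper3.PerfMor
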