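import Mathlib

set_option autoImplicit false
set_option linter.style.haveILetI false
set_option linter.unusedSectionVars false
set_option linter.unusedVariables false
set_option linter.deprecated false
set_option linter.style.haveILetI false
set_option linter.unusedSectionVars false
set_option linter.unusedVariables false

namespace Groth.Agent.Helper3.Pi0A
open Set Topology

universe u

variable {X : Type*} [TopologicalSpace X]

/-- finitely many clopen neighbourhoods of `x` avoiding a compact set disjoint from the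
intersection of all of them -/
theorem exists_clopen_disjoint (x : X) {K : Set X} (hK : IsCompact K)
    (h : K ∩ ⋂ s : { s : Set X // IsClopen s ∧ x ∈ s }, (s : Set X) = ∅) :
    ∃ s : Set X, IsClopen s ∧ x ∈ s ∧ K ∩ s = ∅ := by
  obtain ⟨fin, hfin⟩ := hK.elim_finite_subfamily_closed
    (fun s : { s : Set X // IsClopen s ∧ x ∈ s } => (s : Set X)) (fun s => s.2.1.1) h
  refine ⟨⋂ i ∈ fin, (i : Set X), isClopen_biInter_finset fun i _ => i.2.1,
    mem_iInter₂.2 fun i _ => i.2.2, hfin⟩

/-- In a compact quasi-separated prespectral space (e.g. a spectral space), the connected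
component of a point is the intersection of its clopen neighbourhoods. -/
theorem connectedComponent_eq_iInter_isClopen [CompactSpace X] [QuasiSeparatedSpace X]
    [PrespectralSpace X] (x : X) :
    connectedComponent x = ⋂ s : { s : Set X // IsClopen s ∧ x ∈ s }, (s : Set X) := by
  apply Subset.antisymm connectedComponent_subset_iInter_isClopen
  refine IsPreconnected.subset_connectedComponent ?_ (mem_iInter.2 fun s => s.2.2)
  have hS : IsClosed (⋂ s : { s : Set X // IsClopen s ∧ x ∈ s }, (s : Set X)) :=
    isClosed_iInter fun s => s.2.1.1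
  rw [isPreconnected_iff_subset_of_fully_disjoint_closed hS]
  intro a b ha hb hab ab_disj
  set S : Set X := ⋂ s : { s : Set X // IsClopen s ∧ x ∈ s }, (s : Set X) with hSdef
  have hxS : x ∈ S := mem_iInter.2 fun s => s.2.2
  -- compact opens around `a ∩ S` and `b ∩ S`
  have hab0 : a ∩ b = ∅ := disjoint_iff_inter_eq_empty.1 ab_disj
  obtain ⟨u, huc, huo, hau, hub⟩ := PrespectralSpace.exists_isCompact_and_isOpen_between
    (ha.inter hS).isCompact hb.isOpen_compl (by
      rintro p ⟨hpa, -⟩ hpb
      exact (hab0 ▸ (⟨hpa, hpb⟩ : p ∈ a ∩ b) : p ∈ (∅ : Set X)))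
  obtain ⟨v, hvc, hvo, hbv, hva⟩ := PrespectralSpace.exists_isCompact_and_isOpen_between
    (hb.inter hS).isCompact ha.isOpen_compl (by
      rintro p ⟨hpb, -⟩ hpa
      exact (hab0 ▸ (⟨hpa, hpb⟩ : p ∈ a ∩ b) : p ∈ (∅ : Set X)))
  have huv : IsCompact (u ∩ v) := QuasiSeparatedSpace.inter_isCompact u v huo huc hvo hvc
  have h1 : (u ∩ v) ∩ S = ∅ := by
    ext p
    simp only [mem_inter_iff, mem_empty_iff_false, iff_false]
    rintro ⟨⟨hpu, hpv⟩, hpS⟩
    rcases hab hpS with hpa | hpb
    · exact hva hpv hpa
    · exact hub hpu hpb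
  have h2 : (u ∪ v)ᶜ ∩ S = ∅ := by
    ext p
    simp only [mem_inter_iff, mem_compl_iff, mem_union, mem_empty_iff_false, iff_false]
    rintro ⟨hn, hpS⟩
    rcases hab hpS with hpa | hpb
    · exact hn (Or.inl (hau ⟨hpa, hpS⟩))
    · exact hn (Or.inr (hbv ⟨hpb, hpS⟩))
  obtain ⟨s1, hs1, hx1, hd1⟩ := exists_clopen_disjoint x huv h1
  obtain ⟨s2, hs2, hx2, hd2⟩ := exists_clopen_disjoint x
    (huo.union hvo).isClosed_compl.isCompact h2
  set s := s1 ∩ s2 with hsdef
  have hs : IsClopen s := hs1.inter hs2
  have hxs : x ∈ s := ⟨hx1, hx2⟩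
  have hsub : s ⊆ (s ∩ u) ∪ (s ∩ v) := by
    intro p hp
    by_contra hn
    have : p ∈ (u ∪ v)ᶜ ∩ s2 := by
      refine ⟨fun h => hn ?_, hp.2⟩
      rcases h with h | h
      · exact Or.inl ⟨hp, h⟩
      · exact Or.inr ⟨hp, h⟩
    rw [hd2] at this
    exact this
  have hdisj : Disjoint (s ∩ u) (s ∩ v) := by
    rw [disjoint_iff_inter_eq_empty]
    ext p
    simp only [mem_inter_iff, mem_empty_iff_false, iff_false]
    rintro ⟨⟨hps, hpu⟩, -, hpv⟩
    have : p ∈ (u ∩ v) ∩ s1 := ⟨⟨hpu, hpv⟩, hps.1⟩
    rw [hd1] at this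
    exact this
  have H1 : IsClopen (s ∩ (s ∩ u)) :=
    isClopen_inter_of_disjoint_cover_clopen hs hsub (hs.isOpen.inter huo) (hs.isOpen.inter hvo) hdisj
  have H2 : IsClopen (s ∩ (s ∩ v)) :=
    isClopen_inter_of_disjoint_cover_clopen hs (by rwa [union_comm]) (hs.isOpen.inter hvo)
      (hs.isOpen.inter huo) hdisj.symm
  rcases hsub hxs with hxu | hxv
  · left
    have hSu : S ⊆ s ∩ (s ∩ u) :=
      iInter_subset (fun s : { s : Set X // IsClopen s ∧ x ∈ s } => (s : Set X))
        ⟨s ∩ (s ∩ u), H1, ⟨hxs, hxu⟩⟩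
    intro p hpS
    rcases hab hpS with hpa | hpb
    · exact hpa
    · exfalso
      have hpv : p ∈ v := hbv ⟨hpb, hpS⟩
      have hpu : p ∈ u := (hSu hpS).2.2
      have : p ∈ (u ∩ v) ∩ S := ⟨⟨hpu, hpv⟩, hpS⟩
      rw [h1] at this
      exact this
  · right
    have hSv : S ⊆ s ∩ (s ∩ v) :=
      iInter_subset (fun s : { s : Set X // IsClopen s ∧ x ∈ s } => (s : Set X))
        ⟨s ∩ (s ∩ v), H2, ⟨hxs, hxv⟩⟩
    intro p hpS
    rcases hab hpS with hpa | hpb
    · exfalso
      have hpu : p ∈ u := hau ⟨hpa, hpS⟩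
      have hpv : p ∈ v := (hSv hpS).2.2
      have : p ∈ (u ∩ v) ∩ S := ⟨⟨hpu, hpv⟩, hpS⟩
      rw [h1] at this
      exact this
    · exact hpb

/-- two points in different components are separated by a clopen set -/
theorem exists_clopen_of_not_mem [CompactSpace X] [QuasiSeparatedSpace X]
    [PrespectralSpace X] {x y : X} (h : y ∉ connectedComponent x) :
    ∃ s : Set X, IsClopen s ∧ x ∈ s ∧ y ∉ s := by
  rw [connectedComponent_eq_iInter_isClopen x, mem_iInter] at h
  push Not at h
  obtain ⟨s, hs⟩ := h
  exact ⟨s, s.2.1, s.2.2, hs⟩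

/-- `π₀` of a compact quasi-separated prespectral space is Hausdorff -/
theorem t2Space_connectedComponents [CompactSpace X] [QuasiSeparatedSpace X]
    [PrespectralSpace X] : T2Space (ConnectedComponents X) := by
  refine ⟨ConnectedComponents.surjective_coe.forall₂.2 fun a b ne => ?_⟩
  rw [ConnectedComponents.coe_ne_coe] at ne
  have hb : b ∉ connectedComponent a := by
    intro hb
    exact ne (connectedComponent_eq hb)
  obtain ⟨U, hU, haU, hbU⟩ := exists_clopen_of_not_mem hb
  have hpre : ((↑) : X → ConnectedComponents X) ⁻¹' (((↑) : X → ConnectedComponents X) '' U) = U := by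
    rw [connectedComponents_preimage_image U]
    exact hU.biUnion_connectedComponent_eq
  have hV : IsClopen (((↑) : X → ConnectedComponents X) '' U) := by
    rw [← ConnectedComponents.isQuotientMap_coe.isClopen_preimage, hpre]
    exact hU
  refine ⟨_, _, hV.isOpen, hV.compl.isOpen, ⟨a, haU, rfl⟩, ?_, disjoint_compl_right⟩
  rintro ⟨c, hcU, hcb⟩
  rw [ConnectedComponents.coe_eq_coe] at hcb
  apply hbU
  have : b ∈ connectedComponent c := by rw [hcb]; exact mem_connectedComponent
  exact hU.connectedComponent_subset hcU this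

/-- a continuous map between compact quasi-separated prespectral spaces which induces a bijection
on clopen subsets induces a homeomorphism on `π₀` -/
theorem isHomeomorph_connectedComponentsMap {Y : Type*} [TopologicalSpace Y]
    [CompactSpace X] [QuasiSeparatedSpace X] [PrespectralSpace X]
    [CompactSpace Y] [QuasiSeparatedSpace Y] [PrespectralSpace Y]
    {f : X → Y} (hf : Continuous f)
    (hsurj : ∀ W : Set X, IsClopen W → ∃ W' : Set Y, IsClopen W' ∧ f ⁻¹' W' = W)
    (hinj : ∀ W' : Set Y, IsClopen W' → f ⁻¹' W' = ∅ → W' = ∅) :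
    IsHomeomorph hf.connectedComponentsMap := by
  haveI : T2Space (ConnectedComponents Y) := t2Space_connectedComponents
  rw [isHomeomorph_iff_continuous_bijective]
  refine ⟨hf.connectedComponentsMap_continuous, ?_, ?_⟩
  · intro a b
    obtain ⟨a, rfl⟩ := ConnectedComponents.surjective_coe a
    obtain ⟨b, rfl⟩ := ConnectedComponents.surjective_coe b
    intro hab
    have hab' : connectedComponent (f a) = connectedComponent (f b) :=
      ConnectedComponents.coe_eq_coe.1 hab
    rw [ConnectedComponents.coe_eq_coe]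
    by_contra hne
    have hb : b ∉ connectedComponent a := fun hb => hne (connectedComponent_eq hb)
    obtain ⟨W, hW, haW, hbW⟩ := exists_clopen_of_not_mem hb
    obtain ⟨W', hW', rfl⟩ := hsurj W hW
    apply hbW
    have : f b ∈ connectedComponent (f a) := by rw [hab']; exact mem_connectedComponent
    exact hW'.connectedComponent_subset haW this
  · intro y
    obtain ⟨y, rfl⟩ := ConnectedComponents.surjective_coe y
    have key : ∃ x : X, ∀ s : { s : Set Y // IsClopen s ∧ y ∈ s }, f x ∈ (s : Set Y) := by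
      by_contra hcon
      push Not at hcon
      have h0 : (Set.univ : Set X) ∩ ⋂ s : { s : Set Y // IsClopen s ∧ y ∈ s }, f ⁻¹' (s : Set Y) = ∅ := by
        ext x
        simp only [univ_inter, mem_iInter, mem_preimage, mem_empty_iff_false, iff_false]
        intro hx
        obtain ⟨s, hs⟩ := hcon x
        exact hs (hx s)
      obtain ⟨fin, hfin⟩ := isCompact_univ.elim_finite_subfamily_closed
        (fun s : { s : Set Y // IsClopen s ∧ y ∈ s } => f ⁻¹' (s : Set Y))
        (fun s => s.2.1.1.preimage hf) h0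
      have hcl : IsClopen (⋂ i ∈ fin, (i : Set Y)) := isClopen_biInter_finset fun i _ => i.2.1
      have hy : y ∈ ⋂ i ∈ fin, (i : Set Y) := mem_iInter₂.2 fun i _ => i.2.2
      have hpre : f ⁻¹' (⋂ i ∈ fin, (i : Set Y)) = ∅ := by
        rw [univ_inter] at hfin
        rw [← hfin]
        simp only [preimage_iInter]
      rw [hinj _ hcl hpre] at hy
      exact hy
    obtain ⟨x, hx⟩ := key
    refine ⟨(x : ConnectedComponents X), ?_⟩
    show ((f x : Y) : ConnectedComponents Y) = (y : ConnectedComponents Y)
    rw [ConnectedComponents.coe_eq_coe]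
    have : f x ∈ connectedComponent y := by
      rw [connectedComponent_eq_iInter_isClopen y, mem_iInter]
      exact hx
    exact connectedComponent_eq this |>.symm

end Groth.Agent.Helper3.Pi0A
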