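import Mathlib
import Groth.Prelude.Def_Pi1
import Groth.Agent.Helper3.Pi0A

set_option autoImplicit false
set_option linter.style.haveILetI false
set_option linter.unusedSectionVars false
set_option linter.unusedVariables false
set_option linter.deprecated false
set_option linter.style.haveILetI false
set_option linter.unusedSectionVars false
set_option linter.unusedVariables false

namespace Groth.Agent.Helper3.Pi0B
open CategoryTheory Limits AlgebraicGeometry

universe u

theorem clopen_finEt {X : Scheme.{u}} (W : X.Opens) (hW : IsClosed (W : Set X)) :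
    FEt.prop.{u} W.ι := by
  haveI : IsClosedImmersion W.ι :=
    IsClosedImmersion.of_isPreimmersion _ (by rw [Scheme.Opens.range_ι]; exact hW)
  exact ⟨inferInstance, inferInstance⟩

/-- the finite étale cover given by a clopen subset -/
noncomputable def clopenObj {X : Scheme.{u}} (W : X.Opens) (hW : IsClosed (W : Set X)) :
    FEt.Cat X :=
  MorphismProperty.Over.mk ⊤ W.ι (clopen_finEt W hW)

theorem clopen_surj {X Y : Scheme.{u}} (f : X ⟶ Y) [(FEt.restrict f).Faithful]
    [(FEt.restrict f).EssSurj] (W : Set X) (hW : IsClopen W) :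
    ∃ W' : Set Y, IsClopen W' ∧ f.base ⁻¹' W' = W := by
  let Wo : X.Opens := ⟨W, hW.isOpen⟩
  let A : FEt.Cat X := clopenObj Wo hW.isClosed
  let B : FEt.Cat Y := (FEt.restrict f).objPreimage A
  let e : (FEt.restrict f).obj B ≅ A := (FEt.restrict f).objObjPreimageIso A
  have hfin : IsFinite B.hom := B.prop.1
  have het : Etale B.hom := B.prop.2
  let BB : FEt.Cat Y := MorphismProperty.Over.mk ⊤ (pullback.fst B.hom B.hom ≫ B.hom)
    ⟨inferInstance, inferInstance⟩
  let p1 : BB ⟶ B := MorphismProperty.Over.homMk (pullback.fst B.hom B.hom) rfl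
  let p2 : BB ⟶ B := MorphismProperty.Over.homMk (pullback.snd B.hom B.hom)
    pullback.condition.symm
  have hAmono : Mono A.hom := show Mono Wo.ι from inferInstance
  have hA : ∀ (T : FEt.Cat X) (a b : T ⟶ A), a = b := by
    intro T a b
    apply MorphismProperty.Over.Hom.ext
    rw [← cancel_mono A.hom, MorphismProperty.Over.w, MorphismProperty.Over.w]
  have h12 : (FEt.restrict f).map p1 = (FEt.restrict f).map p2 := by
    rw [← cancel_mono e.hom]
    exact hA _ _ _
  have hp : p1 = p2 := (FEt.restrict f).map_injective h12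
  have hp' : pullback.fst B.hom B.hom = pullback.snd B.hom B.hom :=
    congrArg (fun t => t.left) hp
  haveI : Mono B.hom := ⟨fun g1 g2 h => by
    have h1 := pullback.lift_fst g1 g2 h
    have h2 := pullback.lift_snd g1 g2 h
    calc g1 = pullback.lift g1 g2 h ≫ pullback.fst B.hom B.hom := h1.symm
      _ = pullback.lift g1 g2 h ≫ pullback.snd B.hom B.hom := by rw [hp']
      _ = g2 := h2⟩
  haveI : IsOpenImmersion B.hom := IsOpenImmersion.of_flat_of_mono B.hom
  haveI : IsClosedImmersion B.hom :=
    (IsClosedImmersion.iff_isFinite_and_mono _).2 ⟨hfin, inferInstance⟩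
  refine ⟨Set.range B.hom, ⟨B.hom.isClosedEmbedding.isClosed_range,
    B.hom.isOpenEmbedding.isOpen_range⟩, ?_⟩
  have h1 : Set.range (pullback.snd B.hom f) = f ⁻¹' Set.range B.hom :=
    Scheme.Pullback.range_snd B.hom f
  have hw1 : e.hom.left ≫ A.hom = pullback.snd B.hom f := MorphismProperty.Over.w e.hom
  have hw2 : e.inv.left ≫ pullback.snd B.hom f = A.hom := MorphismProperty.Over.w e.inv
  have hA' : Set.range A.hom = W := Scheme.Opens.range_ι Wo
  have hrange : Set.range (pullback.snd B.hom f) = Set.range A.hom := by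
    ext x
    constructor
    · rintro ⟨z, rfl⟩
      refine ⟨e.hom.left z, ?_⟩
      have : (e.hom.left ≫ A.hom) z = (pullback.snd B.hom f) z := by rw [hw1]; rfl
      exact this
    · rintro ⟨a, rfl⟩
      refine ⟨e.inv.left a, ?_⟩
      have : (e.inv.left ≫ pullback.snd B.hom f) a = A.hom a := by rw [hw2]
      exact this
  show f ⁻¹' Set.range B.hom = W
  rw [← h1, hrange, hA']

theorem clopen_inj {X Y : Scheme.{u}} (f : X ⟶ Y) [(FEt.restrict f).Full]
    (W' : Set Y) (hW' : IsClopen W') (h0 : f.base ⁻¹' W' = ∅) : W' = ∅ := by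
  let Wo : Y.Opens := ⟨W', hW'.isOpen⟩
  let A : FEt.Cat Y := clopenObj Wo hW'.isClosed
  let E : FEt.Cat Y := clopenObj ⊥ (by simp)
  have hemp : IsEmpty ↥(pullback A.hom f) := by
    constructor
    intro z
    have hz : (pullback.snd A.hom f) z ∈ Set.range (pullback.snd A.hom f) := ⟨z, rfl⟩
    rw [Scheme.Pullback.range_snd] at hz
    have hA' : Set.range A.hom = W' := Scheme.Opens.range_ι Wo
    rw [hA', h0] at hz
    exact hz
  let g : ((FEt.restrict f).obj A).left ⟶ ((FEt.restrict f).obj E).left :=
    (isInitialOfIsEmpty (X := pullback A.hom f)).to _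
  let φ : (FEt.restrict f).obj A ⟶ (FEt.restrict f).obj E :=
    MorphismProperty.Over.homMk g ((isInitialOfIsEmpty (X := pullback A.hom f)).hom_ext _ _)
  let ψ : A ⟶ E := (FEt.restrict f).preimage φ
  by_contra hne
  obtain ⟨y, hy⟩ := Set.nonempty_iff_ne_empty.2 hne
  have hy' : y ∈ Wo := hy
  exact (show ∀ z : ↥(⊥ : Y.Opens), False from fun z => z.2) (ψ.left (⟨y, hy'⟩ : ↥Wo))

theorem s0252 {X Y : Scheme.{u}} [CompactSpace X] [QuasiSeparatedSpace X] [CompactSpace Y]
    [QuasiSeparatedSpace Y]
    (f : X ⟶ Y) (h : (FEt.restrict f).IsEquivalence) :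
    IsHomeomorph f.continuous.connectedComponentsMap := by
  haveI := h
  exact Pi0A.isHomeomorph_connectedComponentsMap f.continuous (clopen_surj f) (clopen_inj f)

end Groth.Agent.Helper3.Pi0B
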