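import Mathlib

set_option autoImplicit false
set_option linter.style.haveILetI false
set_option linter.unusedSectionVars false
set_option linter.unusedVariables false
set_option linter.style.haveILetI false
set_option linter.unusedSectionVars false
set_option linter.unusedVariables false

universe u
open TensorProduct

namespace Groth.Agent.Helper3.Pi0Et

section bound

variable (k : Type u) [Field k] (B : Type u) [CommRing B] [Algebra k B]

theorem mem_prime_of_isIntegral_of_mem {x : B} (hx : IsIntegral k x) (p m : Ideal B) [p.IsPrime]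
    (hpm : p ≤ m) (hm : m ≠ ⊤) (hxm : x ∈ m) : x ∈ p := by
  by_contra hxp
  have h1 : IsIntegral k (Ideal.Quotient.mk p x) := hx.map (Ideal.Quotient.mkₐ k p)
  have h2 : Ideal.Quotient.mk p x ≠ 0 := by
    intro h; exact hxp (Ideal.Quotient.eq_zero_iff_mem.mp h)
  have h3 := h1.isUnit h2
  have h4 : IsUnit (Ideal.Quotient.mk m x) := by
    have := h3.map (Ideal.Quotient.factor hpm)
    simpa using this
  rw [Ideal.Quotient.eq_zero_iff_mem.mpr hxm] at h4
  haveI : Nontrivial (B ⧸ m) := Ideal.Quotient.nontrivial_iff.mpr hm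
  exact not_isUnit_zero h4

theorem exists_bound [Algebra.FiniteType k B] : ∃ N : ℕ, ∀ E : Subalgebra k B,
    Module.Finite k E → IsReduced E → Module.finrank k E ≤ N := by
  classical
  haveI : IsNoetherianRing B := Algebra.FiniteType.isNoetherianRing k B
  have hfin : (minimalPrimes B).Finite := minimalPrimes.finite_of_isNoetherianRing B
  haveI : Fintype (minimalPrimes B) := hfin.fintype
  have hmax : ∀ p : minimalPrimes B, ∃ m : Ideal B, m.IsMaximal ∧ p.1 ≤ m := fun p =>
    Ideal.exists_le_maximal p.1 p.2.1.1.ne_top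
  choose m hm hpm using hmax
  haveI : ∀ p, (m p).IsMaximal := hm
  letI : ∀ p, Field (B ⧸ m p) := fun p => Ideal.Quotient.field (m p)
  haveI : ∀ p, Module.Finite k (B ⧸ m p) := fun p =>
    finite_of_finite_type_of_isJacobsonRing k (B ⧸ m p)
  refine ⟨Module.finrank k (Π p : minimalPrimes B, B ⧸ m p), fun E hE hred => ?_⟩
  let ψ : E →ₗ[k] (Π p : minimalPrimes B, B ⧸ m p) :=
    LinearMap.pi (fun p => (Ideal.Quotient.mkₐ k (m p)).toLinearMap ∘ₗ E.val.toLinearMap)
  apply LinearMap.finrank_le_finrank_of_injective (f := ψ)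
  rw [injective_iff_map_eq_zero]
  intro x hx
  have hxm : ∀ p : minimalPrimes B, x.1 ∈ m p := fun p => by
    have := congrFun hx p
    exact Ideal.Quotient.eq_zero_iff_mem.mp this
  have hint : IsIntegral k x.1 := by
    have : IsIntegral k x := Algebra.IsIntegral.isIntegral x
    exact this.map E.val
  have hxp : ∀ p ∈ minimalPrimes B, x.1 ∈ p := fun p hp => by
    haveI := hp.1.1
    exact mem_prime_of_isIntegral_of_mem k B hint p (m ⟨p, hp⟩) (hpm ⟨p, hp⟩)
      (hm ⟨p, hp⟩).ne_top (hxm ⟨p, hp⟩)
  have hnil : IsNilpotent x.1 := by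
    rw [← mem_nilradical, nilradical, ← Ideal.sInf_minimalPrimes]
    exact Ideal.mem_sInf.mpr (fun {p} hp => hxp p hp)
  obtain ⟨n, hn⟩ := hnil
  have : IsNilpotent x := ⟨n, Subtype.ext (by simpa using hn)⟩
  exact this.eq_zero

end bound


section sup

variable {k : Type u} [Field k] {B : Type u} [CommRing B] [Algebra k B]

/-- an image of a finite étale algebra over a field is finite étale -/
theorem etale_of_surjective {A A' : Type u} [CommRing A] [CommRing A'] [Algebra k A]
    [Algebra k A'] [Module.Finite k A] [Algebra.Etale k A] (f : A →ₐ[k] A')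
    (hf : Function.Surjective f) : Module.Finite k A' ∧ Algebra.Etale k A' := by
  haveI : Module.Finite k A' := .of_surjective f.toLinearMap hf
  haveI : Algebra.FormallyUnramified k A' := Algebra.FormallyUnramified.of_surjective f hf
  haveI : Algebra.FormallyEtale k A' := Algebra.FormallyEtale.of_formallyUnramified_of_field k A'
  haveI : Algebra.FinitePresentation k A' := Algebra.FinitePresentation.of_finiteType.mp inferInstance
  exact ⟨inferInstance, ⟨inferInstance, inferInstance⟩⟩

theorem etale_sup (E₁ E₂ : Subalgebra k B) [Module.Finite k E₁] [Algebra.Etale k E₁]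
    [Module.Finite k E₂] [Algebra.Etale k E₂] :
    Module.Finite k (E₁ ⊔ E₂ : Subalgebra k B) ∧ Algebra.Etale k (E₁ ⊔ E₂ : Subalgebra k B) := by
  have h : (Algebra.TensorProduct.productMap E₁.val E₂.val).range = E₁ ⊔ E₂ := by
    rw [Algebra.TensorProduct.productMap_range, Subalgebra.range_val, Subalgebra.range_val]
  rw [← h]
  haveI : Algebra.Etale k (E₁ ⊗[k] E₂) := Algebra.Etale.comp k E₁ (E₁ ⊗[k] E₂)
  exact etale_of_surjective (Algebra.TensorProduct.productMap E₁.val E₂.val).rangeRestrict
    (AlgHom.rangeRestrict_surjective _)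

theorem etale_bot : Module.Finite k (⊥ : Subalgebra k B) ∧ Algebra.Etale k (⊥ : Subalgebra k B) := by
  have h : (Algebra.ofId k B).range = ⊥ := by
    rw [eq_bot_iff]
    rintro _ ⟨x, rfl⟩
    exact Subalgebra.algebraMap_mem _ x
  rw [← h]
  exact etale_of_surjective (Algebra.ofId k B).rangeRestrict (AlgHom.rangeRestrict_surjective _)

end sup


section largest

variable (k : Type u) [Field k] (B : Type u) [CommRing B] [Algebra k B] [Algebra.FiniteType k B]
  (A : Subalgebra k B)

theorem exists_largest : ∃ E : Subalgebra k B, E ≤ A ∧ Module.Finite k E ∧ Algebra.Etale k E ∧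
    ∀ E' : Subalgebra k B, E' ≤ A → Module.Finite k E' → Algebra.Etale k E' → E' ≤ E := by
  classical
  obtain ⟨N, hN⟩ := exists_bound k B
  let P : ℕ → Prop := fun n => ∃ E : Subalgebra k B, E ≤ A ∧ Module.Finite k E ∧
    Algebra.Etale k E ∧ Module.finrank k E = n
  have hP0 : P (Module.finrank k (⊥ : Subalgebra k B)) :=
    ⟨⊥, bot_le, etale_bot.1, etale_bot.2, rfl⟩
  have hPb : ∀ n, P n → n ≤ N := by
    rintro n ⟨E, -, hf, he, rfl⟩
    haveI := hf; haveI := he
    exact hN E hf (Algebra.FormallyUnramified.isReduced_of_field k E)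
  have hn₀ : P (Nat.findGreatest P N) := Nat.findGreatest_spec (P := P) (hPb _ hP0) hP0
  obtain ⟨E, hEA, hEf, hEe, hEn⟩ := hn₀
  refine ⟨E, hEA, hEf, hEe, fun E' hE'A hE'f hE'e => ?_⟩
  haveI := hEf; haveI := hEe; haveI := hE'f; haveI := hE'e
  obtain ⟨hsf, hse⟩ := etale_sup E E'
  have h1 : P (Module.finrank k (E ⊔ E' : Subalgebra k B)) :=
    ⟨E ⊔ E', sup_le hEA hE'A, hsf, hse, rfl⟩
  have h2 : Module.finrank k (E ⊔ E' : Subalgebra k B) ≤ Nat.findGreatest P N :=
    Nat.le_findGreatest (hPb _ h1) h1
  have h3 : Subalgebra.toSubmodule E = Subalgebra.toSubmodule (E ⊔ E') := by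
    haveI : FiniteDimensional k (Subalgebra.toSubmodule (E ⊔ E')) := hsf
    apply Submodule.eq_of_le_of_finrank_le
      (show Subalgebra.toSubmodule E ≤ Subalgebra.toSubmodule (E ⊔ E') from
        Subalgebra.toSubmodule.monotone le_sup_left)
    show Module.finrank k (E ⊔ E' : Subalgebra k B) ≤ Module.finrank k E
    rw [hEn]; exact h2
  have h4 : E = E ⊔ E' := Subalgebra.toSubmodule_injective h3
  rw [h4]
  exact le_sup_right

end largest


section topo

theorem isPreconnected_of_clopen {X : Type*} [TopologicalSpace X] (F : Set X) (hF : IsClopen F)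
    (h : ∀ V : Set X, IsClopen V → V ⊆ F → V = ∅ ∨ V = F) : IsPreconnected F := by
  rw [isPreconnected_iff_subset_of_disjoint]
  intro u v hu hv huv hdisj
  have hV : IsClopen (F ∩ u) := by
    refine ⟨?_, hF.2.inter hu⟩
    have : F ∩ u = F ∩ vᶜ := by
      ext x; constructor
      · rintro ⟨hxF, hxu⟩
        exact ⟨hxF, fun hxv => (Set.eq_empty_iff_forall_notMem.mp hdisj x) ⟨hxF, hxu, hxv⟩⟩
      · rintro ⟨hxF, hxv⟩
        exact ⟨hxF, (huv hxF).resolve_right hxv⟩
    rw [this]; exact hF.1.inter hv.isClosed_compl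
  rcases h _ hV Set.inter_subset_left with h0 | h1
  · right; intro x hx
    refine (huv hx).resolve_left (fun hxu => ?_)
    have : x ∈ F ∩ u := ⟨hx, hxu⟩
    rw [h0] at this
    exact this
  · left; rw [← h1]; exact Set.inter_subset_right

end topo

section idem

variable {k : Type u} [Field k] {B : Type u} [CommRing B] [Algebra k B]

/-- the algebra map `k × k → B` attached to an idempotent -/
noncomputable def idemHom (e : B) (he : IsIdempotentElem e) : (Fin 2 → k) →ₐ[k] B :=
  AlgHom.ofLinearMap
    ((LinearMap.proj (0 : Fin 2)).smulRight e + (LinearMap.proj (1 : Fin 2)).smulRight (1 - e))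
    (by simp)
    (by
      intro f g
      have h1 : e * e = e := he
      have h2 : e * (1 - e) = 0 := by rw [mul_sub, mul_one, h1, sub_self]
      have h3 : (1 - e) * e = 0 := by rw [mul_comm, h2]
      have h4 : (1 - e) * (1 - e) = 1 - e := he.one_sub
      simp only [LinearMap.add_apply, LinearMap.smulRight_apply, LinearMap.proj_apply,
        Pi.mul_apply]
      rw [add_mul, mul_add, mul_add, smul_mul_smul_comm, smul_mul_smul_comm, smul_mul_smul_comm,
        smul_mul_smul_comm, h1, h2, h3, h4]
      simp)

theorem idemHom_apply (e : B) (he : IsIdempotentElem e) (f : Fin 2 → k) :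
    idemHom e he f = f 0 • e + f 1 • (1 - e) := rfl

theorem idem_mem_of_largest (A E : Subalgebra k B)
    (hmax : ∀ E' : Subalgebra k B, E' ≤ A → Module.Finite k E' → Algebra.Etale k E' → E' ≤ E)
    (e : B) (he : IsIdempotentElem e) (heA : e ∈ A) : e ∈ E := by
  obtain ⟨hf, het⟩ := etale_of_surjective (idemHom (k := k) e he).rangeRestrict
    (AlgHom.rangeRestrict_surjective _)
  have hle : (idemHom (k := k) e he).range ≤ A := by
    rintro _ ⟨f, rfl⟩
    rw [AlgHom.toRingHom_eq_coe, RingHom.coe_coe, idemHom_apply]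
    exact A.add_mem (A.smul_mem heA _) (A.smul_mem (A.sub_mem A.one_mem heA) _)
  have := hmax _ hle hf het
  apply this
  refine ⟨![1, 0], ?_⟩
  rw [AlgHom.toRingHom_eq_coe, RingHom.coe_coe, idemHom_apply]
  simp

end idem


section fibres

variable {k : Type u} [Field k] {B : Type u} [CommRing B] [Algebra k B] (A E : Subalgebra k B)
  (hE : E ≤ A)

theorem comap_surjective [Module.Finite k E] :
    Function.Surjective (PrimeSpectrum.comap (Subalgebra.inclusion hE).toRingHom) := by
  haveI : IsArtinianRing E := IsArtinianRing.of_finite k E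
  intro P
  have hmin : P.asIdeal ∈ minimalPrimes E := Ideal.mem_minimalPrimes_iff_isPrime.mpr P.2
  obtain ⟨p', hp', h⟩ := Ideal.exists_comap_eq_of_mem_minimalPrimes_of_injective
    (f := (Subalgebra.inclusion hE).toRingHom) (Subalgebra.inclusion_injective hE) P.asIdeal hmin
  exact ⟨⟨p', hp'⟩, PrimeSpectrum.ext h⟩

theorem comap_eq_of_connectedComponent_eq [Module.Finite k E] (p q : PrimeSpectrum A)
    (h : connectedComponent p = connectedComponent q) :
    PrimeSpectrum.comap (Subalgebra.inclusion hE).toRingHom p =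
      PrimeSpectrum.comap (Subalgebra.inclusion hE).toRingHom q := by
  haveI : IsArtinianRing E := IsArtinianRing.of_finite k E
  have hq : q ∈ connectedComponent p := by rw [h]; exact mem_connectedComponent
  have hpre := (isPreconnected_connectedComponent (x := p)).image
    (PrimeSpectrum.comap (Subalgebra.inclusion hE).toRingHom)
    (PrimeSpectrum.continuous_comap _).continuousOn
  exact hpre.subsingleton ⟨p, mem_connectedComponent, rfl⟩ ⟨q, hq, rfl⟩

theorem connectedComponent_eq_of_comap_eq [Module.Finite k E]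
    (hmax : ∀ E' : Subalgebra k B, E' ≤ A → Module.Finite k E' → Algebra.Etale k E' → E' ≤ E)
    (p q : PrimeSpectrum A)
    (h : PrimeSpectrum.comap (Subalgebra.inclusion hE).toRingHom p =
      PrimeSpectrum.comap (Subalgebra.inclusion hE).toRingHom q) :
    connectedComponent p = connectedComponent q := by
  haveI : IsArtinianRing E := IsArtinianRing.of_finite k E
  set φ := PrimeSpectrum.comap (Subalgebra.inclusion hE).toRingHom with hφ
  have hφc : Continuous φ := PrimeSpectrum.continuous_comap _
  -- the fibre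
  let F : Set (PrimeSpectrum A) := φ ⁻¹' {φ p}
  have hFc : IsClopen F := (isClopen_discrete {φ p}).preimage hφc
  have hF : IsPreconnected F := by
    apply isPreconnected_of_clopen F hFc
    intro V hV hVF
    obtain ⟨e, he, rfl⟩ := PrimeSpectrum.isClopen_iff.mp hV
    -- e ∈ E
    have heB : IsIdempotentElem (e : B) := by
      have := congrArg Subtype.val he
      exact this
    have heE : (e : B) ∈ E := idem_mem_of_largest A E hmax e heB e.2
    let e' : E := ⟨e, heE⟩
    have hee' : (Subalgebra.inclusion hE).toRingHom e' = e := Subtype.ext rfl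
    have hpre : (PrimeSpectrum.basicOpen e : Set (PrimeSpectrum A)) =
        φ ⁻¹' (PrimeSpectrum.basicOpen e' : Set (PrimeSpectrum E)) := by
      rw [← hee']
      ext x
      simp [hφ]
    have hsub : (PrimeSpectrum.basicOpen e' : Set (PrimeSpectrum E)) ⊆ {φ p} := by
      intro Q hQ
      obtain ⟨r, rfl⟩ := comap_surjective A E hE Q
      have : r ∈ (PrimeSpectrum.basicOpen e : Set (PrimeSpectrum A)) := by rw [hpre]; exact hQ
      exact hVF this
    rcases Set.subset_singleton_iff_eq.mp hsub with h0 | h1
    · left; rw [hpre, h0]; rfl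
    · right; rw [hpre, h1]
  have hp : p ∈ F := rfl
  have hq : q ∈ F := h.symm
  have := hF.subset_connectedComponent hp hq
  exact connectedComponent_eq this

end fibres

section main

theorem main (k : Type u) [Field k] (B : Type u) [CommRing B] [Algebra k B]
    [Algebra.FiniteType k B] (A : Subalgebra k B) :
    ∃ (E : Subalgebra k B) (hE : E ≤ A), Module.Finite k E ∧ Algebra.Etale k E ∧
      (∀ E' : Subalgebra k B, E' ≤ A → Module.Finite k E' → Algebra.Etale k E' → E' ≤ E) ∧
      Function.Surjective (PrimeSpectrum.comap (Subalgebra.inclusion hE).toRingHom) ∧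
      ∀ p q : PrimeSpectrum A, PrimeSpectrum.comap (Subalgebra.inclusion hE).toRingHom p =
          PrimeSpectrum.comap (Subalgebra.inclusion hE).toRingHom q ↔
        connectedComponent p = connectedComponent q := by
  obtain ⟨E, hE, hf, het, hmax⟩ := exists_largest k B A
  haveI := hf
  exact ⟨E, hE, hf, het, hmax, comap_surjective A E hE, fun p q =>
    ⟨connectedComponent_eq_of_comap_eq A E hE hmax p q,
      comap_eq_of_connectedComponent_eq A E hE p q⟩⟩

end main

end Groth.Agent.Helper3.Pi0Et
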