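import Mathlib

set_option linter.style.haveILetI false
set_option linter.unusedSectionVars false
set_option linter.unusedVariables false
set_option linter.style.haveILetI false
set_option linter.unusedSectionVars false
set_option linter.unusedVariables false

open Function

namespace Groth.Agent.Helper3.PiLocMax

universe u

theorem pi_surjective {ι : Type*} [Finite ι] (C : ι → Type*) [∀ j, CommRing (C j)]
    [∀ j, IsLocalRing (C j)] :
    Function.Surjective (MaximalSpectrum.toPiLocalization (∀ j, C j)) := by
  classical
  haveI := Fintype.ofFinite ι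
  have hmax : ∀ n : MaximalSpectrum (∀ j, C j), ∃ j : ι,
      n.asIdeal = (IsLocalRing.maximalIdeal (C j)).comap (Pi.evalRingHom C j) := by
    intro n
    have h1 : ∃ j, (Pi.single j 1 : ∀ j, C j) ∉ n.asIdeal := by
      by_contra hcon
      push Not at hcon
      have : (1 : ∀ j, C j) ∈ n.asIdeal := by
        rw [← Finset.univ_sum_single (1 : ∀ j, C j)]
        exact Ideal.sum_mem _ (fun j _ => by simpa using hcon j)
      exact n.isMaximal.ne_top ((Ideal.eq_top_iff_one _).mpr this)
    obtain ⟨j, hj⟩ := h1
    refine ⟨j, n.isMaximal.eq_of_le ?_ ?_⟩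
    · exact Ideal.comap_ne_top _ (IsLocalRing.maximalIdeal.isMaximal _).ne_top
    · intro b hb
      rw [Ideal.mem_comap, Pi.evalRingHom_apply, IsLocalRing.mem_maximalIdeal, mem_nonunits_iff]
      intro hu
      obtain ⟨w, hw⟩ := hu.exists_right_inv
      apply hj
      have : (Pi.single j 1 : ∀ j, C j) = b * Pi.single j w := by
        ext i
        by_cases h : i = j
        · subst h; simp [hw]
        · simp [Pi.single_eq_of_ne h]
      rw [this]
      exact Ideal.mul_mem_right _ _ hb
  choose jn hjn using hmax
  have hinj : Function.Injective jn := by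
    intro n n' h
    ext1
    rw [hjn n, hjn n', h]
  haveI : Finite (MaximalSpectrum (∀ j, C j)) := Finite.of_injective jn hinj
  haveI := Fintype.ofFinite (MaximalSpectrum (∀ j, C j))
  intro x
  have hfrac : ∀ n : MaximalSpectrum (∀ j, C j), ∃ (a : ∀ j, C j) (s : n.asIdeal.primeCompl),
      IsLocalization.mk' (Localization.AtPrime n.asIdeal) a s = x n :=
    fun n => by
      obtain ⟨⟨a, s⟩, h⟩ := IsLocalization.mk'_surjective n.asIdeal.primeCompl (x n)
      exact ⟨a, s, h⟩
  choose a s has using hfrac
  have hsu : ∀ n, IsUnit ((s n : ∀ j, C j) (jn n)) := by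
    intro n
    by_contra hnu
    apply (s n).2
    show ((s n : ∀ j, C j)) ∈ n.asIdeal
    have : ((s n : ∀ j, C j)) ∈ (IsLocalRing.maximalIdeal (C (jn n))).comap
        (Pi.evalRingHom C (jn n)) := by
      rw [Ideal.mem_comap]
      exact (IsLocalRing.mem_maximalIdeal _).mpr hnu
    rwa [← hjn n] at this
  choose w hw using fun n => (hsu n).exists_right_inv
  refine ⟨∑ n, Pi.single (jn n) (a n (jn n) * w n), ?_⟩
  funext n₀
  rw [MaximalSpectrum.toPiLocalization_apply_apply, ← has n₀, IsLocalization.eq_mk'_iff_mul_eq,
    ← map_mul, IsLocalization.eq_iff_exists n₀.asIdeal.primeCompl]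
  refine ⟨⟨Pi.single (jn n₀) 1, ?_⟩, ?_⟩
  · show Pi.single (jn n₀) 1 ∉ n₀.asIdeal
    intro hmem
    have : (Pi.single (jn n₀) 1 : ∀ j, C j) ∈ (IsLocalRing.maximalIdeal (C (jn n₀))).comap
        (Pi.evalRingHom C (jn n₀)) := by rwa [← hjn n₀]
    rw [Ideal.mem_comap] at this
    simp at this
  · ext i
    by_cases h : i = jn n₀
    · subst h
      simp only [Pi.mul_apply, Pi.single_eq_same, one_mul, Finset.sum_apply]
      rw [Finset.sum_eq_single n₀]
      · rw [Pi.single_eq_same, mul_assoc, mul_comm (w n₀), hw n₀, mul_one]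
      · intro n _ hne
        exact Pi.single_eq_of_ne (fun h => hne (hinj h.symm)) _
      · intro h; exact absurd (Finset.mem_univ _) h
    · simp [Pi.single_eq_of_ne h]

theorem main
    (A : Type u) [CommRing A] [IsLocalRing A] (B : Type u) [CommRing B] [Algebra A B]
    [Module.Finite A B] :
    (∃ (ι : Type u) (_ : Fintype ι) (C : ι → Type u) (_ : ∀ j, CommRing (C j)),
        (∀ j, IsLocalRing (C j)) ∧ Nonempty (B ≃+* (∀ j, C j))) ↔
    Function.Bijective
      (RingHom.pi (fun n : MaximalSpectrum B =>
        algebraMap B (Localization.AtPrime n.asIdeal))) := by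
  have hsame : (RingHom.pi (fun n : MaximalSpectrum B =>
        algebraMap B (Localization.AtPrime n.asIdeal)) : B → _) =
      MaximalSpectrum.toPiLocalization B := rfl
  rw [hsame]
  constructor
  · rintro ⟨ι, _, C, _, hC, ⟨φ⟩⟩
    haveI := hC
    have hbijC : Bijective (MaximalSpectrum.toPiLocalization (∀ j, C j)) :=
      ⟨MaximalSpectrum.toPiLocalization_injective _, pi_surjective C⟩
    have hnat := MaximalSpectrum.mapPiLocalization_naturality (φ : B →+* (∀ j, C j)) φ.bijective
    have h1 : Bijective ((MaximalSpectrum.mapPiLocalization (φ : B →+* (∀ j, C j)) φ.bijective) ∘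
        (MaximalSpectrum.toPiLocalization B)) := by
      have : ((MaximalSpectrum.mapPiLocalization (φ : B →+* (∀ j, C j)) φ.bijective) ∘
        (MaximalSpectrum.toPiLocalization B)) =
          (MaximalSpectrum.toPiLocalization (∀ j, C j)) ∘ φ := by
        funext b
        exact congrArg (fun g => g b) hnat
      rw [this]
      exact hbijC.comp φ.bijective
    exact (Function.Bijective.of_comp_iff'
      (MaximalSpectrum.mapPiLocalization_bijective _ φ.bijective) _).mp h1
  · intro h
    haveI : Finite (MaximalSpectrum B) :=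
      MaximalSpectrum.finite_of_toPiLocalization_surjective h.2
    exact ⟨MaximalSpectrum B, Fintype.ofFinite _, fun n => Localization.AtPrime n.asIdeal,
      inferInstance, fun n => inferInstance,
      ⟨RingEquiv.ofBijective (MaximalSpectrum.toPiLocalization B) h⟩⟩

end Groth.Agent.Helper3.PiLocMax
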