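import Mathlib

set_option autoImplicit false
set_option linter.style.haveILetI false
set_option linter.unusedSectionVars false
set_option linter.unusedVariables false
set_option linter.style.haveILetI false
set_option linter.unusedSectionVars false
set_option linter.unusedVariables false

universe u v

open TensorProduct

namespace Groth.Agent.Helper3.PicPow

section
variable {R : Type u} [CommRing R] (N : Type v) [AddCommGroup N] [Module R N]
  (n : ℕ) (e : (Fin n → N) ≃ₗ[R] (Fin n → R))

/-- `x ↦ e (0,…,x,…,0)` with `x` in position `j` (junk `0` for `j ≥ n`). -/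
noncomputable def vv (j : ℕ) : N →ₗ[R] (Fin n → R) :=
  if h : j < n then e.toLinearMap ∘ₗ LinearMap.single R (fun _ => N) ⟨j, h⟩ else 0

theorem vv_fin (i : Fin n) (x : N) : vv N n e i x = e (Pi.single i x) := by
  unfold vv
  rw [dif_pos i.2]
  rfl

/-- the iterated tensor power package -/
theorem pack [Module.Invertible R N] (k : ℕ) :
    ∃ (Tk : Type v) (_ : AddCommGroup Tk) (_ : Module R Tk) (_ : Module.Invertible R Tk)
      (pw : N → Tk) (φ : Tk →ₗ[R] ExteriorAlgebra R (Fin n → R)),
      CommRing.Pic.mk R Tk = CommRing.Pic.mk R N ^ (k + 1) ∧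
      ∀ x, φ (pw x) = ((List.range (k + 1)).map
        (fun j => ExteriorAlgebra.ι R (vv N n e j x))).prod := by
  induction k with
  | zero =>
    refine ⟨N, inferInstance, inferInstance, inferInstance, id,
      (ExteriorAlgebra.ι R) ∘ₗ vv N n e 0, by rw [zero_add, pow_one], fun x => ?_⟩
    simp
  | succ k ih =>
    obtain ⟨Tk, i1, i2, i3, pw, φ, h1, h2⟩ := ih
    refine ⟨Tk ⊗[R] N, inferInstance, inferInstance, inferInstance, fun x => pw x ⊗ₜ x,
      TensorProduct.lift (((LinearMap.mul R (ExteriorAlgebra R (Fin n → R))).compl₂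
        ((ExteriorAlgebra.ι R) ∘ₗ vv N n e (k + 1))) ∘ₗ φ), ?_, fun x => ?_⟩
    · rw [CommRing.Pic.mk_tensor, h1, ← pow_succ]
    · rw [TensorProduct.lift.tmul]
      simp only [LinearMap.coe_comp, Function.comp_apply, LinearMap.compl₂_apply,
        LinearMap.mul_apply']
      rw [h2 x, List.range_succ (n := k + 1), List.map_append, List.prod_append]
      simp

theorem exists_notMem [Module.Invertible R N] (m : Ideal R) (hm : m ≠ ⊤) :
    ∃ x : N, x ∉ (m • ⊤ : Submodule R N) := by
  by_contra hc
  push Not at hc
  have htop : (⊤ : Submodule R N) ≤ m • ⊤ := fun x _ => hc x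
  obtain ⟨r, hr1, hr2⟩ := Submodule.exists_sub_one_mem_and_smul_eq_zero_of_fg_of_le_smul m ⊤
    (Module.Finite.fg_top) htop
  have h0 : r = 0 :=
    FaithfulSMul.eq_of_smul_eq_smul (M := R) (α := N) (m₁ := r) (m₂ := 0)
      (fun x => by rw [hr2 x trivial, zero_smul])
  subst h0
  apply hm
  rw [Ideal.eq_top_iff_one]
  have := m.neg_mem hr1
  simpa using this

theorem list_eq (k : ℕ) (e : (Fin (k + 1) → N) ≃ₗ[R] (Fin (k + 1) → R)) (x : N) :
    ((List.range (k + 1)).map (fun j => ExteriorAlgebra.ι R (vv N (k + 1) e j x))).prod =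
      ExteriorAlgebra.ιMulti R (k + 1) (fun j : Fin (k + 1) => e (Pi.single j x)) := by
  rw [ExteriorAlgebra.ιMulti_apply, List.ofFn_eq_map, ← List.map_coe_finRange_eq_range,
    List.map_map]
  congr 1
  apply List.map_congr_left
  intro i _
  simp only [Function.comp_apply]
  rw [vv_fin]

theorem main_succ [Module.Invertible R N] (k : ℕ)
    (e : (Fin (k + 1) → N) ≃ₗ[R] (Fin (k + 1) → R)) : CommRing.Pic.mk R N ^ (k + 1) = 1 := by
  classical
  · obtain ⟨Tk, i1, i2, i3, pw, φ, h1, h2⟩ := pack N (k + 1) e k
    rw [← h1, CommRing.Pic.mk_eq_one_iff]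
    let f : ∀ i, (Fin (k + 1) → R) [⋀^Fin i]→ₗ[R] R := fun i =>
      if h : k + 1 = i then h ▸ Matrix.detRowAlternating else 0
    let ψ := ExteriorAlgebra.liftAlternating (R := R) (M := Fin (k + 1) → R) (N := R) f
    let Φ : Tk →ₗ[R] R := ψ ∘ₗ φ
    have hΦ : ∀ x, Φ (pw x) = Matrix.det (fun j : Fin (k + 1) => e (Pi.single j x)) := by
      intro x
      change ψ (φ (pw x)) = _
      rw [h2 x, list_eq, ExteriorAlgebra.liftAlternating_apply_ιMulti]
      simp only [f, dif_pos rfl]
      rfl
    have hsurj : Function.Surjective Φ := by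
      rw [← LinearMap.range_eq_top]
      by_contra hne
      obtain ⟨m, hm, hle⟩ := Ideal.exists_le_maximal (LinearMap.range Φ) hne
      obtain ⟨x, hx⟩ := exists_notMem N m hm.ne_top
      apply hx
      set A : Matrix (Fin (k + 1)) (Fin (k + 1)) R := fun j => e (Pi.single j x) with hA
      have hd : A.det ∈ m := hle ⟨pw x, hΦ x⟩
      letI : Field (R ⧸ m) := Ideal.Quotient.field m
      have hdet : (A.map (Ideal.Quotient.mk m)).det = 0 := by
        have := RingHom.map_det (Ideal.Quotient.mk m) A
        rw [RingHom.mapMatrix_apply] at this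
        rw [← this]
        exact Ideal.Quotient.eq_zero_iff_mem.2 hd
      obtain ⟨cb, hcb0, hcb⟩ := Matrix.exists_vecMul_eq_zero_iff.2 hdet
      have hc : ∀ j, ∃ c : R, Ideal.Quotient.mk m c = cb j :=
        fun j => Ideal.Quotient.mk_surjective (cb j)
      choose c hc using hc
      have hmem : ∀ i, (Matrix.vecMul c A) i ∈ m := by
        intro i
        rw [← Ideal.Quotient.eq_zero_iff_mem, RingHom.map_vecMul]
        have : (Ideal.Quotient.mk m) ∘ c = cb := funext hc
        rw [this, hcb]
        rfl
      have hy : e (fun j => c j • x) = Matrix.vecMul c A := by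
        have h3 : (fun j => c j • x) = ∑ j, c j • (Pi.single j x : Fin (k + 1) → N) := by
          funext l
          rw [Finset.sum_apply]
          simp only [Pi.smul_apply, Pi.single_apply]
          rw [Finset.sum_eq_single l]
          · simp
          · intro b _ hb
            rw [if_neg (Ne.symm hb), smul_zero]
          · simp
        rw [h3, map_sum]
        funext i
        rw [Finset.sum_apply]
        simp only [map_smul, Pi.smul_apply, smul_eq_mul, Matrix.vecMul, dotProduct, hA]
      have hyj : ∀ j, c j • x ∈ (m • ⊤ : Submodule R N) := by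
        intro j
        have h4 : (fun j => c j • x) = e.symm (Matrix.vecMul c A) := by
          rw [← hy, LinearEquiv.symm_apply_apply]
        have h5 : Matrix.vecMul c A = ∑ i, (Matrix.vecMul c A) i • (Pi.single i 1 : Fin (k + 1) → R) := by
          funext l
          rw [Finset.sum_apply]
          simp only [Pi.smul_apply, Pi.single_apply, smul_eq_mul]
          rw [Finset.sum_eq_single l]
          · simp
          · intro b _ hb
            rw [if_neg (Ne.symm hb), mul_zero]
          · simp
        have h6 : c j • x = e.symm (Matrix.vecMul c A) j := congrFun h4 j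
        rw [h6, h5, map_sum, Finset.sum_apply]
        refine Submodule.sum_mem _ (fun i _ => ?_)
        rw [map_smul, Pi.smul_apply]
        exact Submodule.smul_mem_smul (hmem i) trivial
      obtain ⟨j, hj⟩ : ∃ j, cb j ≠ 0 := by
        by_contra hc0
        push Not at hc0
        exact hcb0 (funext hc0)
      have hcj : c j ∉ m := by
        intro hmem'
        apply hj
        rw [← hc j]
        exact Ideal.Quotient.eq_zero_iff_mem.2 hmem'
      obtain ⟨u, i, hi, hu⟩ := hm.exists_inv hcj
      have : x = u • (c j • x) + i • x := by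
        rw [smul_smul, ← add_smul, hu, one_smul]
      rw [this]
      exact Submodule.add_mem _ (Submodule.smul_mem _ _ (hyj j))
        (Submodule.smul_mem_smul hi trivial)
    exact ⟨LinearEquiv.ofBijective Φ (Module.Invertible.bijective_of_surjective hsurj)⟩

end

theorem main {R : Type u} [CommRing R] (N : Type v) [AddCommGroup N] [Module R N]
    [Module.Invertible R N] (n : ℕ) (e : (Fin n → N) ≃ₗ[R] (Fin n → R)) :
    CommRing.Pic.mk R N ^ n = 1 :=
  match n, e with
  | 0, _ => pow_zero _
  | k + 1, e => main_succ N k e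

end Groth.Agent.Helper3.PicPow
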