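import Mathlib
import Groth.Prelude
import Groth.Agent.Helper3.DiagD
import Groth.Agent.Helper3.PosD

set_option autoImplicit false
set_option linter.style.haveILetI false
set_option linter.unusedSectionVars false
set_option linter.unusedVariables false
set_option linter.deprecated false
set_option linter.style.haveILetI false
set_option linter.unusedSectionVars false
set_option linter.unusedVariables false

open CategoryTheory Limits AlgebraicGeometry TopologicalSpace Opposite
universe u

namespace Groth.Agent.Helper3.PosE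
open IsLocalRing Groth.Agent.Helper3.IntMultA Groth.Agent.Helper3.IntMultC
open Groth.Agent.Helper3.CartOrd Groth.Agent.Helper3.DiagA

theorem main (K : Type u) [Field K] (X : Scheme.{u})
    (f : X ⟶ Spec (CommRingCat.of K)) [Smooth f] [IsSeparated f] [IsIntegral X]
    (IV IW : X.IdealSheafData) [IsIntegral IV.subscheme] [IsIntegral IW.subscheme] (n r s : ℕ)
    (hn : topologicalKrullDim X = n) (hr : topologicalKrullDim IV.support = r)
    (hs : topologicalKrullDim IW.support = s)
    (hprop : IntMult.ProperInt (IV.support : Set X) (IW.support : Set X) n r s) (ξ : X)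
    (hξV : ξ ∈ IV.support) (hξW : ξ ∈ IW.support)
    (hmax : ∀ ξ' : X, ξ' ∈ IV.support → ξ' ∈ IW.support → ξ' ⤳ ξ → ξ' = ξ) :
    0 < IntMult.mult IV IW ξ := by
  haveI : LocallyOfFiniteType f := inferInstance
  haveI : IsLocallyNoetherian X := LocallyOfFiniteType.isLocallyNoetherian f
  -- dimensions
  obtain ⟨ηV, hηV⟩ := exists_generic IV
  obtain ⟨ηW, hηW⟩ := exists_generic IW
  have hPV : (IntMult.stalkIdeal IV ξ).IsPrime := stalkIdeal_isPrime IV ηV hηV ξ hξV
  have hViirr : IsIrreducible (IV.support : Set X) := by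
    rw [← hηV.def]; exact isIrreducible_singleton.closure
  have hWiirr : IsIrreducible (IW.support : Set X) := by
    rw [← hηW.def]; exact isIrreducible_singleton.closure
  obtain ⟨aX, t, haX, ht, hsumX⟩ := dim_stalk K f ξ n hn
  obtain ⟨aV, t', haV, ht', hsumV⟩ := dim_quot_stalkIdeal K f IV ξ hξV r hr
  obtain ⟨aW, t'', haW, ht'', hsumW⟩ := dim_quot_stalkIdeal K f IW ξ hξW s hs
  have et' : t' = t := by
    have : ((t' : ℕ) : WithBot ℕ∞) = ((t : ℕ) : WithBot ℕ∞) := ht'.symm.trans ht
    exact_mod_cast this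
  have et'' : t'' = t := by
    have : ((t'' : ℕ) : WithBot ℕ∞) = ((t : ℕ) : WithBot ℕ∞) := ht''.symm.trans ht
    exact_mod_cast this
  subst et' et''
  obtain ⟨hnrs, hdimVW⟩ := hprop ⟨ξ, hξV, hξW⟩
  have hcl : closure ({ξ} : Set X) ⊆ (IV.support : Set X) ∩ IW.support := by
    apply closure_minimal
    · rintro _ rfl
      exact ⟨hξV, hξW⟩
    · exact IV.support.isClosed.inter IW.support.isClosed
  have htle : ((t'' : ℕ) : WithBot ℕ∞) ≤ ((r + s - n : ℕ) : WithBot ℕ∞) := by
    rw [← ht]
    exact ((Topology.IsEmbedding.inclusion hcl).isInducing.topologicalKrullDim_le).trans hdimVW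
  have htle' : t'' ≤ r + s - n := by exact_mod_cast htle
  have hge := Groth.Agent.Helper3.DiagD.core K X f n r s hn IV.support IW.support hViirr hWiirr hr hs
    ξ hξV hξW hmax t'' ht
  have hab : aV + aW = aX := by omega
  -- the graph
  obtain ⟨w, rfl⟩ : ∃ w : IW.subscheme, IW.subschemeι w = ξ := by
    have : ξ ∈ Set.range IW.subschemeι := by
      rw [IW.range_subschemeι]; exact hξW
    exact this
  let g : IW.subscheme ⟶ Spec (CommRingCat.of K) := IW.subschemeι ≫ f
  let Γ : IW.subscheme ⟶ pullback f g := pullback.lift IW.subschemeι (𝟙 _) (by simp [g])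
  have h1 : Γ ≫ pullback.fst f g = IW.subschemeι := pullback.lift_fst _ _ _
  have h2 : Γ ≫ pullback.snd f g = 𝟙 _ := pullback.lift_snd _ _ _
  haveI : IsClosedImmersion (Γ ≫ pullback.snd f g) := by rw [h2]; infer_instance
  haveI : IsClosedImmersion Γ := IsClosedImmersion.of_comp Γ (pullback.snd f g)
  have hΓ : RegImm.IsRegularImmersion .koszul Γ :=
    Groth.Agent.Helper3.SmKregG.two_smooth (𝟙 IW.subscheme) (pullback.snd f g) (𝟙 _) Γ
      (by rw [h2]; simp) (kreg_id _)
  haveI : LocallyOfFiniteType g := inferInstance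
  haveI : LocallyOfFiniteType (pullback.fst f g ≫ f) := inferInstance
  haveI : IsLocallyNoetherian (pullback f g) :=
    LocallyOfFiniteType.isLocallyNoetherian (pullback.fst f g ≫ f)
  haveI : Flat g := inferInstance
  haveI : Flat (pullback.fst f g) := inferInstance
  have hker : IW.subschemeι.ker = IW := IW.ker_subschemeι
  have hmax' : ∀ 𝔭 : Ideal (X.presheaf.stalk (IW.subschemeι w)), 𝔭.IsPrime →
      IntMult.stalkIdeal IV (IW.subschemeι w) ≤ 𝔭 →
      IntMult.stalkIdeal IW.subschemeι.ker (IW.subschemeι w) ≤ 𝔭 →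
      𝔭 = maximalIdeal (X.presheaf.stalk (IW.subschemeι w)) := by
    rw [hker]
    intro 𝔭 h𝔭 hV hW
    exact IsLocalRing.eq_maximalIdeal
      (isMaximal_of_le IV IW _ hξV hξW hmax 𝔭 h𝔭 hW hV)
  have res := Groth.Agent.Helper3.PosD.core (pullback.fst f g) Γ hΓ IW.subschemeι h1 w IV
    hPV.ne_top hmax' aV aW aX haX haV (by rw [hker]; exact haW) hab
  rw [hker] at res
  exact res

end Groth.Agent.Helper3.PosE
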