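import Mathlib
import Groth.Agent.Helper3.PowEt

set_option autoImplicit false
set_option linter.style.haveILetI false
set_option linter.unusedSectionVars false
set_option linter.unusedVariables false
set_option linter.style.haveILetI false
set_option linter.unusedSectionVars false
set_option linter.unusedVariables false

universe u
open CategoryTheory CategoryTheory.Limits MonoidalCategory CartesianMonoidalCategory MonObj GrpObj
  AlgebraicGeometry IsLocalRing

namespace Groth.Agent.Helper3.PowCent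

open Groth.Agent.Helper3.TanStalk

section Transl

variable {C : Type*} [Category C] [CartesianMonoidalCategory C] {G : C} [GrpObj G]

/-- left translation by a point -/
def L (g : 𝟙_ C ⟶ G) : G ⟶ G := (toUnit G ≫ g) * 𝟙 G

lemma comp_L {X : C} (x : X ⟶ G) (g : 𝟙_ C ⟶ G) : x ≫ L g = (toUnit X ≫ g) * x := by
  unfold L
  rw [MonObj.comp_mul, Category.comp_id, ← Category.assoc]
  congr 2
  exact toUnit_unique _ _

lemma L_comp (g h : 𝟙_ C ⟶ G) : L g ≫ L h = L (h * g) := by
  rw [comp_L]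
  unfold L
  rw [← _root_.mul_assoc, ← MonObj.comp_mul]

lemma L_one : L (1 : 𝟙_ C ⟶ G) = 𝟙 G := by
  unfold L
  rw [MonObj.comp_one, _root_.one_mul]

/-- left translation as an isomorphism -/
def LIso (g : 𝟙_ C ⟶ G) : G ≅ G where
  hom := L g
  inv := L g⁻¹
  hom_inv_id := by rw [L_comp, inv_mul_cancel, L_one]
  inv_hom_id := by rw [L_comp, mul_inv_cancel, L_one]

lemma point_comp_L (g h : 𝟙_ C ⟶ G) : g ≫ L h = h * g := by
  rw [comp_L]
  congr 1
  have : toUnit (𝟙_ C) = 𝟙 _ := toUnit_unique _ _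
  rw [this, Category.id_comp]

/-- translation by a central point intertwines the power maps -/
lemma L_comp_pow (g : 𝟙_ C ⟶ G) (hg : Commute (toUnit G ≫ g) (𝟙 G)) (n : ℕ) :
    L g ≫ ((𝟙 G : G ⟶ G) ^ n) = ((𝟙 G : G ⟶ G) ^ n) ≫ L (g ^ n) := by
  rw [MonObj.comp_pow, Category.comp_id, comp_L]
  unfold L
  rw [hg.mul_pow, ← MonObj.comp_pow]

end Transl

variable {k : Type u} [Field k] {G : Over (Spec (CommRingCat.of k))} [GrpObj G]

theorem etale_nbhd_central [LocallyOfFiniteType G.hom] (n : ℕ) (hn : (n : k) ≠ 0)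
    (g : 𝟙_ (Over (Spec (CommRingCat.of k))) ⟶ G) (hg : Commute (toUnit G ≫ g) (𝟙 G)) :
    ∃ U : G.left.Opens, g.left (closedPoint k : ↥(Spec (CommRingCat.of k))) ∈ U ∧
      Etale (U.ι ≫ ((𝟙 G : G ⟶ G) ^ n).left) := by
  obtain ⟨U, hU, hEt⟩ := Groth.Agent.Helper3.PowEt.exists_etale_nbhd_unit (k := k) (G := G) n hn
  set P : G ⟶ G := (𝟙 G : G ⟶ G) ^ n with hP
  -- the translation isomorphisms
  let lam : G.left ≅ G.left := (Over.forget _).mapIso (LIso g)
  let lam' : G.left ≅ G.left := (Over.forget _).mapIso (LIso (g ^ n))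
  have hcomm : lam.hom ≫ P.left = P.left ≫ lam'.hom := by
    change (L g).left ≫ P.left = P.left ≫ (L (g ^ n)).left
    rw [← Over.comp_left, ← Over.comp_left, hP, L_comp_pow g hg n]
  refine ⟨lam.inv ⁻¹ᵁ U, ?_, ?_⟩
  · change lam.inv (g.left _) ∈ U
    have h1 : g ≫ L g⁻¹ = η[G] := by
      rw [point_comp_L, inv_mul_cancel, Hom.one_def]
      have : toUnit (𝟙_ (Over (Spec (CommRingCat.of k)))) = 𝟙 _ := toUnit_unique _ _
      rw [this, Category.id_comp]
    have h2 : lam.inv (g.left (closedPoint k : ↥(Spec (CommRingCat.of k)))) = e k G := by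
      change (L g⁻¹).left (g.left _) = _
      rw [← Scheme.Hom.comp_apply, ← Over.comp_left, h1]
      rfl
    rw [h2]
    exact hU
  · have h3 : (lam.inv ⁻¹ᵁ U).ι ≫ P.left = (lam.inv ∣_ U) ≫ (U.ι ≫ P.left) ≫ lam'.hom := by
      simp only [Category.assoc]
      rw [morphismRestrict_ι_assoc, ← hcomm, Iso.inv_hom_id_assoc]
    rw [h3]
    infer_instance

end Groth.Agent.Helper3.PowCent
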