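import Mathlib

set_option autoImplicit false

namespace Groth.Agent.Helper3.PrecovCov

open CategoryTheory Opposite

universe v₁ u₁

variable {C : Type u₁} [Category.{v₁} C] (C' : C → Prop) (P P' : Precoverage C)

/-- a sieve containing a composite `P`-then-`P'` family -/
def Good {X : C} (S' : Sieve X) : Prop :=
  ∃ R ∈ P X, (∀ ⦃Y : C⦄ ⦃f : Y ⟶ X⦄, R f → C' Y) ∧
    ∀ ⦃Y : C⦄ ⦃f : Y ⟶ X⦄, R f → ∃ R' ∈ P' Y, ∀ ⦃Z : C⦄ ⦃g : Z ⟶ Y⦄, R' g → S' (g ≫ f)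

variable {C' P P'}

lemma Good.mono {X : C} {S' S'' : Sieve X} (h : S' ≤ S'') (hS : Good C' P P' S') :
    Good C' P P' S'' := by
  obtain ⟨R, hR, hRC, hR'⟩ := hS
  refine ⟨R, hR, hRC, fun Y f hf => ?_⟩
  obtain ⟨R', hR'm, hc⟩ := hR' hf
  exact ⟨R', hR'm, fun Z g hg => h _ (hc hg)⟩

/-- good sieves are covering -/
lemma Good.mem {X : C} {S' : Sieve X} (hS : Good C' P P' S') :
    S' ∈ (P ⊔ P').toGrothendieck X := by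
  obtain ⟨R, hR, -, hR'⟩ := hS
  have h1 : Sieve.generate R ∈ (P ⊔ P').toGrothendieck X :=
    Precoverage.generate_mem_toGrothendieck (Or.inl hR)
  refine (P ⊔ P').toGrothendieck.transitive h1 S' ?_
  rintro Y _ ⟨Y', q, f, hf, rfl⟩
  obtain ⟨R', hR'm, hc⟩ := hR' hf
  have h2 : Sieve.generate R' ∈ (P ⊔ P').toGrothendieck Y' :=
    Precoverage.generate_mem_toGrothendieck (Or.inr hR'm)
  have h3 : S'.pullback f ∈ (P ⊔ P').toGrothendieck Y' := by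
    refine (P ⊔ P').toGrothendieck.superset_covering ?_ h2
    rw [Sieve.generate_le_iff]
    intro Z g hg
    exact hc hg
  rw [Sieve.pullback_comp]
  exact (P ⊔ P').toGrothendieck.pullback_stable q h3


section Gen

variable [P.HasPullbacks] [P.IsStableUnderBaseChange] [P.IsStableUnderComposition]
  (hP'C : ∀ ⦃X : C⦄ ⦃R : Presieve X⦄, R ∈ P' X → C' X ∧ ∀ ⦃Y : C⦄ ⦃f : Y ⟶ X⦄, R f → C' Y)
  (hP'id : ∀ ⦃X : C⦄, C' X → Presieve.singleton (𝟙 X) ∈ P' X)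
  (ha : ∀ ⦃X : C⦄ ⦃R : Presieve X⦄, R ∈ P' X → ∀ ⦃T : C⦄ (g : T ⟶ X), C' T →
    ∃ _ : R.HasPullbacks g, Presieve.pullbackArrows g R ∈ P' T)
  (hb : ∀ X : C, ∃ R ∈ P X, ∀ ⦃Y : C⦄ ⦃f : Y ⟶ X⦄, R f → C' Y)

include hb in
/-- refine a `P`-cover to one with sources in `C'` -/
lemma exists_refine {X : C} {R0 : Presieve X} (hR0 : R0 ∈ P X) :
    ∃ R ∈ P X, (∀ ⦃Y : C⦄ ⦃f : Y ⟶ X⦄, R f → C' Y) ∧
      ∀ ⦃Y : C⦄ ⦃f : Y ⟶ X⦄, R f → ∃ (Y0 : C) (f0 : Y0 ⟶ X) (g : Y ⟶ Y0), R0 f0 ∧ f = g ≫ f0 := by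
  obtain ⟨ι, Z0, f0, rfl⟩ := R0.exists_eq_ofArrows
  choose R hR hRC using fun i => hb (Z0 i)
  choose σ Y g hg using fun i => (R i).exists_eq_ofArrows
  have hcomp := Precoverage.comp_mem_coverings (J := P) f0 hR0 g
    (fun i => by rw [← hg i]; exact hR i)
  refine ⟨_, hcomp, ?_, ?_⟩
  · rintro _ _ ⟨⟨i, j⟩⟩
    apply hRC i
    rw [hg i]
    exact ⟨j⟩
  · rintro _ _ ⟨⟨i, j⟩⟩
    exact ⟨Z0 i, f0 i, g i j, ⟨i⟩, rfl⟩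

include hb hP'id in
lemma good_of_P {X : C} {R0 : Presieve X} (hR0 : R0 ∈ P X) :
    Good C' P P' (Sieve.generate R0) := by
  obtain ⟨R, hR, hRC, hfac⟩ := exists_refine hb hR0
  refine ⟨R, hR, hRC, fun Y f hf => ⟨Presieve.singleton (𝟙 Y), hP'id (hRC hf), ?_⟩⟩
  rintro _ _ ⟨⟩
  obtain ⟨Y0, f0, g, hf0, rfl⟩ := hfac hf
  rw [Category.id_comp]
  exact ⟨Y0, g, f0, hf0, rfl⟩

include hb hP'id in
lemma good_top (X : C) : Good C' P P' (⊤ : Sieve X) := by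
  obtain ⟨R, hR, hRC⟩ := hb X
  exact ⟨R, hR, hRC, fun Y f hf => ⟨Presieve.singleton (𝟙 Y), hP'id (hRC hf), fun _ _ _ => trivial⟩⟩

include hb ha in
lemma good_of_P' {X : C} {R0 : Presieve X} (hR0 : R0 ∈ P' X) :
    Good C' P P' (Sieve.generate R0) := by
  obtain ⟨R, hR, hRC⟩ := hb X
  refine ⟨R, hR, hRC, fun Y f hf => ?_⟩
  obtain ⟨inst, hmem⟩ := ha hR0 f (hRC hf)
  refine ⟨_, hmem, ?_⟩
  rintro _ _ ⟨Z, r, hr⟩
  have := R0.hasPullback f hr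
  refine ⟨Z, Limits.pullback.fst r f, r, hr, ?_⟩
  exact Limits.pullback.condition


include hb ha in
lemma good_pullback {X : C} {S' : Sieve X} (hS : Good C' P P' S') {Z : C} (h : Z ⟶ X) :
    Good C' P P' (S'.pullback h) := by
  obtain ⟨R, hR, -, hR'⟩ := hS
  have : R.HasPullbacks h := P.hasPullbacks_of_mem h hR
  have hR1 : R.pullbackArrows h ∈ P Z := Precoverage.pullbackArrows_mem h hR
  obtain ⟨R2, hR2, hR2C, hfac⟩ := exists_refine hb hR1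
  refine ⟨R2, hR2, hR2C, fun V m hm => ?_⟩
  obtain ⟨W, m0, g, hm0, rfl⟩ := hfac hm
  obtain ⟨Y, f, hf⟩ := hm0
  have := R.hasPullback h hf
  obtain ⟨R', hR'm, hc⟩ := hR' hf
  let k : V ⟶ Y := g ≫ Limits.pullback.fst f h
  obtain ⟨inst, hmem⟩ := ha hR'm k (hR2C hm)
  refine ⟨_, hmem, ?_⟩
  rintro _ _ ⟨Y', r, hr⟩
  have := R'.hasPullback k hr
  change S' ((Limits.pullback.snd r k ≫ g ≫ Limits.pullback.snd f h) ≫ h)
  have e : (Limits.pullback.snd r k ≫ g ≫ Limits.pullback.snd f h) ≫ h =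
      Limits.pullback.fst r k ≫ (r ≫ f) := by
    rw [Category.assoc, Category.assoc, ← Limits.pullback.condition, ← Category.assoc g,
      ← Category.assoc, ← Limits.pullback.condition, Category.assoc]
  rw [e]
  exact S'.downward_closed (hc hr) _


variable (hc : ∀ ⦃S : C⦄ ⦃R₁ : Presieve S⦄, R₁ ∈ P' S →
      ∀ (R₂ : ∀ ⦃Y : C⦄ ⦃f : Y ⟶ S⦄, R₁ f → Presieve Y),
        (∀ ⦃Y : C⦄ ⦃f : Y ⟶ S⦄ (hf : R₁ f), R₂ hf ∈ P Y ∧ ∀ ⦃Z : C⦄ ⦃g : Z ⟶ Y⦄, R₂ hf g → C' Z) →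
      ∀ (R₃ : ∀ ⦃Y : C⦄ ⦃f : Y ⟶ S⦄ (hf : R₁ f) ⦃Z : C⦄ ⦃g : Z ⟶ Y⦄, R₂ hf g → Presieve Z),
        (∀ ⦃Y : C⦄ ⦃f : Y ⟶ S⦄ (hf : R₁ f) ⦃Z : C⦄ ⦃g : Z ⟶ Y⦄ (hg : R₂ hf g), R₃ hf hg ∈ P' Z) →
      ∃ T ∈ P' S, ∀ ⦃W : C⦄ ⦃q : W ⟶ S⦄, T q →
        ∃ (Y Z V : C) (f : Y ⟶ S) (hf : R₁ f) (g : Z ⟶ Y) (hg : R₂ hf g) (h : V ⟶ Z) (_ : R₃ hf hg h)
          (r : W ⟶ V), r ≫ h ≫ g ≫ f = q)

include hc in
lemma good_trans {X : C} (S T : Sieve X) (hS : Good C' P P' S)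
    (hT : ∀ ⦃Y : C⦄ ⦃f : Y ⟶ X⦄, S f → Good C' P P' (T.pullback f)) : Good C' P P' T := by
  obtain ⟨R0, hR0, hR0C, hR0'⟩ := hS
  refine ⟨R0, hR0, hR0C, fun Y f hf => ?_⟩
  obtain ⟨R₁, hR₁, hc0⟩ := hR0' hf
  have key : ∀ ⦃Z : C⦄ ⦃g : Z ⟶ Y⦄ (hg : R₁ g), Good C' P P' (T.pullback (g ≫ f)) :=
    fun Z g hg => hT (hc0 hg)
  choose R₂ hR₂ hR₂C hR₃ using key
  choose R₃ hR₃m hR₃c using hR₃
  obtain ⟨T', hT', hfac⟩ := hc hR₁ R₂ (fun Z g hg => ⟨hR₂ hg, hR₂C hg⟩) R₃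
    (fun Z g hg V k hk => hR₃m hg hk)
  refine ⟨T', hT', ?_⟩
  intro W q hq
  obtain ⟨Z, V, V', g, hg, k, hk, l, hl, r, rfl⟩ := hfac hq
  have h1 : T ((l ≫ k) ≫ g ≫ f) := hR₃c hg hk hl
  have e : (r ≫ l ≫ k ≫ g) ≫ f = r ≫ ((l ≫ k) ≫ g ≫ f) := by
    simp only [Category.assoc]
  rw [e]
  exact T.downward_closed h1 r

include hP'id ha hb hc in
theorem good_of_mem {X : C} {S' : Sieve X} (hS : S' ∈ (P ⊔ P').toGrothendieck X) :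
    Good C' P P' S' := by
  induction hS with
  | of X R hR =>
    rcases hR with hR | hR
    · exact good_of_P hP'id hb hR
    · exact good_of_P' ha hb hR
  | top X => exact good_top hP'id hb X
  | pullback X S _ Y f ih => exact good_pullback ha hb ih f
  | transitive X S R _ _ ih1 ih2 => exact good_trans hc S R ih1 ih2

end Gen

end Groth.Agent.Helper3.PrecovCov
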