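import Mathlib

set_option autoImplicit false

namespace Groth.Agent.Helper3.PrecovSheaf

open CategoryTheory Opposite

universe w v₁ u₁

variable {C : Type u₁} [Category.{v₁} C] (F : Cᵒᵖ ⥤ Type w)
  (𝒯 : GrothendieckTopology C) (hF : Presieve.IsSheaf 𝒯 F)
  (C' : C → Prop)
  (hb : ∀ Y : C, ∃ R : Presieve Y, Sieve.generate R ∈ 𝒯 Y ∧ ∀ ⦃Z : C⦄ ⦃g : Z ⟶ Y⦄, R g → C' Z)
  {X : C} (S : Sieve X)
  (hS : ∀ ⦃T : C⦄ (g : T ⟶ X), C' T → Presieve.IsSheafFor F (S.pullback g).arrows)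

include hF hb hS in
lemma isSeparatedFor {Z : C} (f : Z ⟶ X) : Presieve.IsSeparatedFor F (S.pullback f).arrows := by
  intro x t₁ t₂ h₁ h₂
  obtain ⟨R, hR, hRC⟩ := hb Z
  refine (hF.isSeparated _ hR).ext ?_
  rintro W g ⟨Z', q, g', hg', rfl⟩
  suffices h : F.map g'.op t₁ = F.map g'.op t₂ by
    rw [op_comp, Functor.map_comp]
    change F.map q.op (F.map g'.op t₁) = F.map q.op (F.map g'.op t₂)
    rw [h]
  refine (hS (g' ≫ f) (hRC hg')).isSeparatedFor.ext ?_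
  intro V m hm
  have hm' : (S.pullback f) (m ≫ g') := by
    change S ((m ≫ g') ≫ f)
    rw [Category.assoc]
    exact hm
  have e1 := h₁ (m ≫ g') hm'
  have e2 := h₂ (m ≫ g') hm'
  rw [op_comp, Functor.map_comp] at e1 e2
  exact e1.trans e2.symm


include hF hb hS in
theorem isSheafFor {Y : C} (f : Y ⟶ X) : Presieve.IsSheafFor F (S.pullback f).arrows := by
  refine (isSeparatedFor F 𝒯 hF C' hb S hS f).isSheafFor ?_
  intro x hx
  have hxs := (Presieve.compatible_iff_sieveCompatible x).1 hx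
  obtain ⟨R, hR, hRC⟩ := hb Y
  have hFR : Presieve.IsSheafFor F R := by
    rw [Presieve.isSheafFor_iff_generate]
    exact hF _ hR
  -- local amalgamations
  have hmem : ∀ {Z : C} (g : Z ⟶ Y) {V : C} (m : V ⟶ Z), (S.pullback (g ≫ f)) m →
      (S.pullback f) (m ≫ g) := by
    intro Z g V m hm
    change S ((m ≫ g) ≫ f)
    rw [Category.assoc]
    exact hm
  let xg : ∀ {Z : C} (g : Z ⟶ Y), Presieve.FamilyOfElements F (S.pullback (g ≫ f)).arrows :=
    fun g V m hm => x (m ≫ g) (hmem g m hm)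
  have hxg : ∀ {Z : C} (g : Z ⟶ Y), (xg g).Compatible := by
    intro Z g
    rw [Presieve.compatible_iff_sieveCompatible]
    intro V W m a hm
    change x ((a ≫ m) ≫ g) _ = F.map a.op (x (m ≫ g) _)
    rw [← hxs (m ≫ g) a (hmem g m hm)]
    congr 1
    rw [Category.assoc]
  let t : ∀ {Z : C} (g : Z ⟶ Y) (hg : R g), F.obj (op Z) :=
    fun g hg => (hS (g ≫ f) (hRC hg)).amalgamate (xg g) (hxg g)
  have ht : ∀ {Z : C} (g : Z ⟶ Y) (hg : R g) {V : C} (m : V ⟶ Z) (hm : (S.pullback (g ≫ f)) m),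
      F.map m.op (t g hg) = x (m ≫ g) (hmem g m hm) :=
    fun g hg V m hm => (hS (g ≫ f) (hRC hg)).valid_glue (hxg g) m hm
  let y : Presieve.FamilyOfElements F R := fun Z g hg => t g hg
  have hy : y.Compatible := by
    intro Z₁ Z₂ W a₁ a₂ g₁ g₂ h₁ h₂ hcomm
    refine (isSeparatedFor F 𝒯 hF C' hb S hS (a₁ ≫ g₁ ≫ f)).ext ?_
    intro V m hm
    have hm1 : (S.pullback (g₁ ≫ f)) (m ≫ a₁) := by
      change S ((m ≫ a₁) ≫ g₁ ≫ f)
      rw [Category.assoc]
      exact hm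
    have hm2 : (S.pullback (g₂ ≫ f)) (m ≫ a₂) := by
      change S ((m ≫ a₂) ≫ g₂ ≫ f)
      have : (m ≫ a₂) ≫ g₂ ≫ f = m ≫ a₁ ≫ g₁ ≫ f := by
        rw [Category.assoc, ← Category.assoc a₂, ← hcomm, Category.assoc]
      rw [this]
      exact hm
    have e1 := ht g₁ h₁ (m ≫ a₁) hm1
    have e2 := ht g₂ h₂ (m ≫ a₂) hm2
    rw [op_comp, Functor.map_comp] at e1 e2
    change F.map m.op (F.map a₁.op (t g₁ h₁)) = F.map m.op (F.map a₂.op (t g₂ h₂))
    refine e1.trans (Eq.trans ?_ e2.symm)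
    congr 1
    rw [Category.assoc, Category.assoc, hcomm]
  refine ⟨hFR.amalgamate y hy, ?_⟩
  intro Z h hh
  have hcov : (Sieve.generate R).pullback h ∈ 𝒯 Z := 𝒯.pullback_stable h hR
  refine (hF.isSeparated _ hcov).ext ?_
  rintro W q ⟨Z', q', g, hg, hqg⟩
  have e1 : F.map q.op (F.map h.op (hFR.amalgamate y hy)) =
      F.map q'.op (F.map g.op (hFR.amalgamate y hy)) := by
    change (F.map h.op ≫ F.map q.op) _ = (F.map g.op ≫ F.map q'.op) _
    rw [← Functor.map_comp, ← Functor.map_comp, ← op_comp, ← op_comp, hqg]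
  rw [e1, hFR.valid_glue hy g hg]
  have hq' : (S.pullback (g ≫ f)) q' := by
    change S (q' ≫ g ≫ f)
    rw [← Category.assoc, hqg, Category.assoc]
    exact S.downward_closed hh q
  change F.map q'.op (t g hg) = _
  rw [ht g hg q' hq']
  rw [← hxs h q hh]
  congr 1

end Groth.Agent.Helper3.PrecovSheaf
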