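import Mathlib

set_option autoImplicit false
set_option linter.style.haveILetI false
set_option linter.unusedSectionVars false
set_option linter.unusedVariables false
set_option linter.deprecated false
set_option linter.style.haveILetI false
set_option linter.unusedSectionVars false
set_option linter.unusedVariables false

universe u

namespace Groth.Agent.Helper3.PrimeUnits

/-- comparing `p`-adic orders -/
theorem pow_eq_of_mul_eq {A : Type*} [CommRing A] [IsDomain A] {p : A} (hp : Prime p)
    {s t : ℕ} {c d : A} (hc : ¬ p ∣ c) (hd : ¬ p ∣ d) (h : p ^ s * c = p ^ t * d) : s = t := by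
  by_contra hst
  rcases Nat.lt_or_gt_of_ne hst with hlt | hlt
  · obtain ⟨k, rfl⟩ := Nat.exists_eq_add_of_lt hlt
    apply hc
    have h1 : p ^ s * c = p ^ s * (p ^ (k + 1) * d) := by rw [h]; ring
    have h2 := mul_left_cancel₀ (pow_ne_zero s hp.ne_zero) h1
    rw [h2, pow_succ]
    exact ⟨p ^ k * d, by ring⟩
  · obtain ⟨k, rfl⟩ := Nat.exists_eq_add_of_lt hlt
    apply hd
    have h1 : p ^ t * d = p ^ t * (p ^ (k + 1) * c) := by rw [← h]; ring
    have h2 := mul_left_cancel₀ (pow_ne_zero t hp.ne_zero) h1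
    rw [h2, pow_succ]
    exact ⟨p ^ k * c, by ring⟩

/-- **Units of `A[1/(hp)]`.**  For a prime element `p` of a domain `A` (with finite `p`-adic
multiplicities) not dividing `h`, every unit of `A[1/(hp)]` is a power of `p` times a unit of
`A[1/h]`. -/
theorem units_away_mul_prime {A B C : Type*} [CommRing A] [IsDomain A] [CommRing B] [CommRing C]
    [Algebra A B] [Algebra A C] (h p : A) (hp : Prime p) (hph : ¬ p ∣ h)
    (hfin : ∀ a : A, a ≠ 0 → FiniteMultiplicity p a)
    [IsLocalization.Away h B] [IsLocalization.Away (h * p) C]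
    (ρ : B →+* C) (hρ : ∀ a, ρ (algebraMap A B a) = algebraMap A C a)
    (u : C) (hu : IsUnit u) :
    ∃ (a b : ℕ) (u' : B), IsUnit u' ∧
      u * algebraMap A C p ^ a = algebraMap A C p ^ b * ρ u' := by
  obtain ⟨v, hv⟩ := hu.exists_right_inv
  obtain ⟨k, x, hx⟩ := IsLocalization.Away.surj (h * p) u
  obtain ⟨l, y, hy⟩ := IsLocalization.Away.surj (h * p) v
  have hh : h ≠ 0 := by rintro rfl; exact hph (dvd_zero p)
  have hhp : h * p ≠ 0 := mul_ne_zero hh hp.ne_zero
  have hinj : Function.Injective (algebraMap A C) :=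
    IsLocalization.injective C (powers_le_nonZeroDivisors_of_noZeroDivisors hhp)
  have hxy : x * y = (h * p) ^ (k + l) := by
    apply hinj
    rw [map_mul, ← hx, ← hy, map_pow, pow_add]
    calc u * algebraMap A C (h * p) ^ k * (v * algebraMap A C (h * p) ^ l)
        = (u * v) * (algebraMap A C (h * p) ^ k * algebraMap A C (h * p) ^ l) := by ring
      _ = _ := by rw [hv, one_mul]
  have hx0 : x ≠ 0 := by
    rintro rfl
    rw [zero_mul] at hxy
    exact pow_ne_zero _ hhp hxy.symm
  have hy0 : y ≠ 0 := by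
    rintro rfl
    rw [mul_zero] at hxy
    exact pow_ne_zero _ hhp hxy.symm
  obtain ⟨x', hx', hpx'⟩ := (hfin x hx0).exists_eq_pow_mul_and_not_dvd
  obtain ⟨y', hy', hpy'⟩ := (hfin y hy0).exists_eq_pow_mul_and_not_dvd
  set α := multiplicity p x
  set β := multiplicity p y
  have hpxy : ¬ p ∣ x' * y' := fun hd => (hp.dvd_or_dvd hd).elim hpx' hpy'
  have hphN : ¬ p ∣ h ^ (k + l) := fun hd => hph (hp.dvd_of_dvd_pow hd)
  have e1 : p ^ (α + β) * (x' * y') = p ^ (k + l) * h ^ (k + l) := by
    calc p ^ (α + β) * (x' * y') = (p ^ α * x') * (p ^ β * y') := by ring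
      _ = x * y := by rw [← hx', ← hy']
      _ = _ := by rw [hxy, mul_pow]; ring
  have e2 : α + β = k + l := pow_eq_of_mul_eq hp hpxy hphN e1
  have e3 : x' * y' = h ^ (k + l) := by
    rw [e2] at e1
    exact mul_left_cancel₀ (pow_ne_zero _ hp.ne_zero) e1
  have hhB : IsUnit (algebraMap A B h) := IsLocalization.Away.algebraMap_isUnit h
  have hx'B : IsUnit (algebraMap A B x') := by
    have : IsUnit (algebraMap A B x' * algebraMap A B y') := by
      rw [← map_mul, e3, map_pow]
      exact hhB.pow _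
    exact isUnit_of_mul_isUnit_left this
  obtain ⟨w, hw⟩ := hhB.exists_right_inv
  have hwB : IsUnit w := IsUnit.of_mul_eq_one _ (by rw [mul_comm]; exact hw)
  refine ⟨k, α, algebraMap A B x' * w ^ k, hx'B.mul (hwB.pow _), ?_⟩
  have hw' : algebraMap A C h * ρ w = 1 := by
    rw [← hρ, ← map_mul, hw, map_one]
  rw [map_mul, map_pow, hρ]
  have e4 : u * (algebraMap A C h ^ k * algebraMap A C p ^ k) =
      algebraMap A C p ^ α * algebraMap A C x' := by
    rw [← mul_pow, ← map_mul, hx]
    conv_lhs => rw [hx']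
    rw [map_mul, map_pow]
  calc u * algebraMap A C p ^ k
      = u * algebraMap A C p ^ k * (algebraMap A C h * ρ w) ^ k := by rw [hw', one_pow, mul_one]
    _ = (u * (algebraMap A C h ^ k * algebraMap A C p ^ k)) * ρ w ^ k := by rw [mul_pow]; ring
    _ = _ := by rw [e4]; ring

end Groth.Agent.Helper3.PrimeUnits
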