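import Mathlib
import Groth.Agent.Helper3.FrameGlue
import Groth.Agent.Helper3.PrimeUnits

set_option autoImplicit false
set_option linter.style.haveILetI false
set_option linter.unusedSectionVars false
set_option linter.unusedVariables false
set_option linter.deprecated false
set_option linter.style.haveILetI false
set_option linter.unusedSectionVars false
set_option linter.unusedVariables false

universe u

open CategoryTheory CategoryTheory.Limits AlgebraicGeometry TopologicalSpace Opposite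

namespace Groth.Agent.Helper3.PrimeFrame

open Scheme.Modules Groth.Agent.Helper4.TwistExt Groth.Agent.Helper4.TensorInv
  Groth.Agent.Helper1.CC Groth.Agent.Helper3.GlueInv Groth.Agent.Helper3.FrameFin
  Groth.Agent.Helper3.FrameGlue Groth.Agent.Helper3.DiscPic1

variable {X : Scheme.{u}}

/-- restriction is injective on a module with a frame as soon as it is on functions -/
theorem res_injective_of_isFrame {M : X.Modules} {T T' : X.Opens} {e : Γ(M, T)}
    (he : IsFrame M T e) (hT : T' ≤ T) (hinj : Function.Injective (ρ (X := X) hT)) :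
    Function.Injective (M.presheaf.map (homOfLE hT).op) := by
  intro m m' hmm
  have hid : ∀ m : Γ(M, T), M.presheaf.map (homOfLE (le_rfl : T ≤ T)).op m = m := by
    intro m
    have : (homOfLE (le_rfl : T ≤ T)).op = 𝟙 (op T) := rfl
    rw [this, M.presheaf.map_id]; rfl
  obtain ⟨r, hr⟩ := (he T le_rfl).1 m
  obtain ⟨r', hr'⟩ := (he T le_rfl).1 m'
  rw [hid] at hr hr'
  rw [hr, hr', smul_res, smul_res] at hmm
  have h1 : (ρ hT r - ρ hT r') • M.presheaf.map (homOfLE hT).op e = 0 := by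
    rw [sub_smul]; exact sub_eq_zero.mpr hmm
  have h2 := (he T' hT).2 _ h1
  have h3 : r = r' := hinj (sub_eq_zero.mp h2)
  rw [hr, hr', h3]

/-- in a domain, `q ^ N * c = q ^ N' * c'` with `c, c'` units and `N ≠ N'` forces `q` to be a
unit -/
theorem isUnit_of_pow_mul_eq {B : Type*} [CommRing B] [IsDomain B] {q c c' : B} (hq : q ≠ 0)
    (hc : IsUnit c) (hc' : IsUnit c') {N N' : ℕ} (h : q ^ N * c = q ^ N' * c') (hN : N ≠ N') :
    IsUnit q := by
  have key : ∀ {c c' : B} (hc : IsUnit c) (hc' : IsUnit c') {N k : ℕ},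
      q ^ N * c = q ^ (N + (k + 1)) * c' → IsUnit q := by
    intro c c' hc hc' N k h
    have h1 : q ^ N * c = q ^ N * (q ^ (k + 1) * c') := by rw [h, pow_add]; ring
    have h2 := mul_left_cancel₀ (pow_ne_zero N hq) h1
    obtain ⟨d, hd⟩ := hc.exists_right_inv
    apply IsUnit.of_mul_eq_one (q ^ k * c' * d)
    calc q * (q ^ k * c' * d) = (q ^ (k + 1) * c') * d := by rw [pow_succ]; ring
      _ = 1 := by rw [← h2, hd]
  rcases Nat.lt_or_gt_of_ne hN with hlt | hlt
  · obtain ⟨k, rfl⟩ := Nat.exists_eq_add_of_lt hlt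
    exact key hc hc' h
  · obtain ⟨k, rfl⟩ := Nat.exists_eq_add_of_lt hlt
    exact key hc' hc h.symm

/-- a prime that becomes a unit in `A[1/g]` divides `g` -/
theorem dvd_of_isUnit_algebraMap_away {A B : Type*} [CommRing A] [IsDomain A] [CommRing B]
    [Algebra A B] (g p : A) (hg : g ≠ 0) (hp : Prime p) [IsLocalization.Away g B]
    (hu : IsUnit (algebraMap A B p)) : p ∣ g := by
  obtain ⟨v, hv⟩ := hu.exists_right_inv
  obtain ⟨n, y, hy⟩ := IsLocalization.Away.surj g v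
  have hinj : Function.Injective (algebraMap A B) :=
    IsLocalization.injective B (powers_le_nonZeroDivisors_of_noZeroDivisors hg)
  have h1 : p * y = g ^ n := by
    apply hinj
    rw [map_mul, ← hy, ← mul_assoc, hv, one_mul, map_pow]
  exact hp.dvd_of_dvd_pow ⟨y, h1.symm⟩

section affine

variable [IsAffine X] [IsIntegral X]

theorem algebraMap_eq (f : Γ(X, ⊤)) (a : Γ(X, ⊤)) :
    algebraMap Γ(X, ⊤) Γ(X, X.basicOpen f) a = ρ (X.basicOpen_le f) a := rfl

theorem basicOpen_ne_bot {f : Γ(X, ⊤)} (hf : f ≠ 0) : Nonempty ↥(X.basicOpen f) := by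
  have h1 : X.basicOpen f ≠ ⊥ := fun h => hf ((basicOpen_eq_bot_iff f).mp h)
  obtain ⟨x, hx⟩ := (Opens.ne_bot_iff_nonempty _).mp h1
  exact ⟨⟨x, hx⟩⟩

theorem ρ_injective {T T' : X.Opens} (hT : T' ≤ T) (hne : Nonempty ↥T') :
    Function.Injective (ρ (X := X) hT) :=
  @map_injective_of_isIntegral X _ T' T (homOfLE hT) hne

/-- local frames on basic opens around the points of `V(p)` -/
theorem local_data (M : X.Modules) (U : X.Opens)
    (hM : ∀ x ∈ U, ∃ (T : X.Opens) (e : Γ(M, T)), x ∈ T ∧ T ≤ U ∧ IsFrame M T e)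
    (p : Γ(X, ⊤)) (W : X.Opens) (hW : W ≤ U) (z : X) (hzW : z ∈ W)
    (hzp : z ∉ X.basicOpen p) :
    ∃ h : Γ(X, ⊤), z ∈ X.basicOpen h ∧ X.basicOpen h ≤ W ∧ ¬ p ∣ h ∧
      ∃ e : Γ(M, X.basicOpen h), IsFrame M (X.basicOpen h) e := by
  obtain ⟨T, e, hzT, -, he⟩ := hM z (hW hzW)
  obtain ⟨_, ⟨_, ⟨h, rfl⟩, rfl⟩, hzh, hhT⟩ := (isBasis_basicOpen X).exists_subset_of_mem_open
    (show z ∈ ((T ⊓ W : X.Opens) : Set X) from ⟨hzT, hzW⟩) (T ⊓ W).isOpen
  refine ⟨h, hzh, fun x hx => (hhT hx).2, ?_, _, isFrame_of_le he (fun x hx => (hhT hx).1)⟩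
  rintro ⟨c, rfl⟩
  rw [Scheme.basicOpen_mul] at hzh
  exact hzp hzh.1

/-- the comparison of a local frame with the frame away from `V(p)` -/
theorem unit_data (M : X.Modules) (p : Γ(X, ⊤)) (hp : Prime p)
    (hfin : ∀ a : Γ(X, ⊤), a ≠ 0 → FiniteMultiplicity p a)
    (W : X.Opens) (e₀ : Γ(M, W ⊓ X.basicOpen p)) (he₀ : IsFrame M (W ⊓ X.basicOpen p) e₀)
    (h : Γ(X, ⊤)) (hph : ¬ p ∣ h) (e : Γ(M, X.basicOpen h))
    (he : IsFrame M (X.basicOpen h) e)
    (h1 : X.basicOpen (h * p) ≤ X.basicOpen h) (h2 : X.basicOpen (h * p) ≤ W ⊓ X.basicOpen p) :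
    ∃ (a b : ℕ) (u' : Γ(X, X.basicOpen h)), IsUnit u' ∧
      (ρ (le_top : X.basicOpen (h * p) ≤ ⊤) p ^ a) • M.presheaf.map (homOfLE h2).op e₀ =
      (ρ (le_top : X.basicOpen (h * p) ≤ ⊤) p ^ b * ρ h1 u') •
        M.presheaf.map (homOfLE h1).op e := by
  obtain ⟨u, hu, hue⟩ := exists_unit_of_frames _ _ (isFrame_of_le he h1) (isFrame_of_le he₀ h2)
  obtain ⟨a, b, u', hu', hrel⟩ := Groth.Agent.Helper3.PrimeUnits.units_away_mul_prime
    (A := Γ(X, ⊤)) (B := Γ(X, X.basicOpen h)) (C := Γ(X, X.basicOpen (h * p))) h p hp hph hfin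
    (ρ h1) (fun a => by rw [algebraMap_eq, algebraMap_eq, ρ_ρ]) u hu
  refine ⟨a, b, u', hu', ?_⟩
  rw [algebraMap_eq] at hrel
  rw [hue, ← mul_smul, mul_comm _ u, hrel]

/-- the exponent of `p` in the comparison does not depend on the local frame -/
theorem consistency (M : X.Modules) (p : Γ(X, ⊤)) (hp : Prime p)
    (W : X.Opens) (e₀ : Γ(M, W ⊓ X.basicOpen p))
    (h h' : Γ(X, ⊤)) (hph : ¬ p ∣ h) (hph' : ¬ p ∣ h')
    (e : Γ(M, X.basicOpen h)) (he : IsFrame M (X.basicOpen h) e)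
    (e' : Γ(M, X.basicOpen h')) (he' : IsFrame M (X.basicOpen h') e')
    (h1 : X.basicOpen (h * p) ≤ X.basicOpen h) (h2 : X.basicOpen (h * p) ≤ W ⊓ X.basicOpen p)
    (h1' : X.basicOpen (h' * p) ≤ X.basicOpen h')
    (h2' : X.basicOpen (h' * p) ≤ W ⊓ X.basicOpen p)
    (a b : ℕ) (u' : Γ(X, X.basicOpen h)) (hu' : IsUnit u')
    (hrel : (ρ (le_top : X.basicOpen (h * p) ≤ ⊤) p ^ a) • M.presheaf.map (homOfLE h2).op e₀ =
      (ρ (le_top : X.basicOpen (h * p) ≤ ⊤) p ^ b * ρ h1 u') • M.presheaf.map (homOfLE h1).op e)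
    (a' b' : ℕ) (u'' : Γ(X, X.basicOpen h')) (hu'' : IsUnit u'')
    (hrel' : (ρ (le_top : X.basicOpen (h' * p) ≤ ⊤) p ^ a') •
        M.presheaf.map (homOfLE h2').op e₀ =
      (ρ (le_top : X.basicOpen (h' * p) ≤ ⊤) p ^ b' * ρ h1' u'') •
        M.presheaf.map (homOfLE h1').op e') :
    a + b' = a' + b := by
  have hh : h ≠ 0 := by rintro rfl; exact hph (dvd_zero p)
  have hh' : h' ≠ 0 := by rintro rfl; exact hph' (dvd_zero p)
  have hg : h * h' ≠ 0 := mul_ne_zero hh hh'
  have hgp : h * h' * p ≠ 0 := mul_ne_zero hg hp.ne_zero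
  have t2 : X.basicOpen (h * h') ≤ X.basicOpen h := by
    rw [Scheme.basicOpen_mul]; exact inf_le_left
  have t2' : X.basicOpen (h * h') ≤ X.basicOpen h' := by
    rw [Scheme.basicOpen_mul]; exact inf_le_right
  have t3 : X.basicOpen (h * h' * p) ≤ X.basicOpen (h * h') := by
    rw [Scheme.basicOpen_mul]; exact inf_le_left
  have t31 : X.basicOpen (h * h' * p) ≤ X.basicOpen (h * p) := by
    intro x hx
    simp only [Scheme.basicOpen_mul] at hx ⊢
    exact ⟨hx.1.1, hx.2⟩
  have t31' : X.basicOpen (h * h' * p) ≤ X.basicOpen (h' * p) := by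
    intro x hx
    simp only [Scheme.basicOpen_mul] at hx ⊢
    exact ⟨hx.1.2, hx.2⟩
  have hne2 : Nonempty ↥(X.basicOpen (h * h')) := basicOpen_ne_bot hg
  have hne3 : Nonempty ↥(X.basicOpen (h * h' * p)) := basicOpen_ne_bot hgp
  haveI : IsDomain Γ(X, X.basicOpen (h * h')) :=
    @IsIntegral.component_integral X _ (X.basicOpen (h * h')) hne2
  obtain ⟨w, hw, hwe⟩ := exists_unit_of_frames _ _ (isFrame_of_le he' t2') (isFrame_of_le he t2)
  -- restrict everything to `T3`
  have E1 := congrArg (M.presheaf.map (homOfLE t31).op) hrel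
  have E2 := congrArg (M.presheaf.map (homOfLE t31').op) hrel'
  rw [smul_res, smul_res, map_map, map_map, map_mul, map_pow, map_pow, ρ_ρ, ρ_ρ] at E1 E2
  have E3 := congrArg (M.presheaf.map (homOfLE t3).op) hwe
  rw [smul_res, map_map, map_map] at E3
  rw [E3, ← mul_smul] at E1
  have E4 := congrArg (fun m => (ρ (le_top : X.basicOpen (h * h' * p) ≤ ⊤) p ^ a') • m) E1
  have E5 := congrArg (fun m => (ρ (le_top : X.basicOpen (h * h' * p) ≤ ⊤) p ^ a) • m) E2
  beta_reduce at E4 E5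
  rw [← mul_smul, ← mul_smul] at E4 E5
  rw [mul_comm (ρ _ p ^ a') (ρ _ p ^ a)] at E4
  have E6 := E4.symm.trans E5
  have E7 : (ρ (le_top : X.basicOpen (h * h' * p) ≤ ⊤) p ^ a' *
      (ρ (le_top : X.basicOpen (h * h' * p) ≤ ⊤) p ^ b * ρ (t31.trans h1) u' * ρ t3 w) -
      ρ (le_top : X.basicOpen (h * h' * p) ≤ ⊤) p ^ a *
      (ρ (le_top : X.basicOpen (h * h' * p) ≤ ⊤) p ^ b' * ρ (t31'.trans h1') u'')) •
      M.presheaf.map (homOfLE (t31'.trans h1')).op e' = 0 := by
    rw [sub_smul]; exact sub_eq_zero.mpr E6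
  have E8 := sub_eq_zero.mp ((he' _ (t31'.trans h1')).2 _ E7)
  -- descend to `T2`
  have E9 : ρ t3 (ρ (le_top : X.basicOpen (h * h') ≤ ⊤) p ^ (a' + b) * (ρ t2 u' * w)) =
      ρ t3 (ρ (le_top : X.basicOpen (h * h') ≤ ⊤) p ^ (a + b') * ρ t2' u'') := by
    rw [map_mul, map_mul, map_mul, map_pow, map_pow, ρ_ρ, ρ_ρ, ρ_ρ, pow_add, pow_add]
    calc _ = ρ (le_top : X.basicOpen (h * h' * p) ≤ ⊤) p ^ a' *
        (ρ (le_top : X.basicOpen (h * h' * p) ≤ ⊤) p ^ b * ρ (t31.trans h1) u' * ρ t3 w) := by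
          ring
      _ = _ := E8
      _ = _ := by ring
  have E10 := ρ_injective t3 hne3 E9
  by_contra hne
  have hQ0 : ρ (le_top : X.basicOpen (h * h') ≤ ⊤) p ≠ 0 := by
    intro h0
    apply hp.ne_zero
    apply ρ_injective (le_top : X.basicOpen (h * h') ≤ ⊤) hne2
    rw [h0, map_zero]
  have hQ := isUnit_of_pow_mul_eq hQ0 ((hu'.map (ρ t2)).mul hw) (hu''.map (ρ t2')) E10
    (fun hab => hne (by omega))
  have hdvd := dvd_of_isUnit_algebraMap_away (A := Γ(X, ⊤)) (B := Γ(X, X.basicOpen (h * h')))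
    (h * h') p hg hp hQ
  exact (hp.dvd_or_dvd hdvd).elim hph hph'

/-- **Core lemma.** A frame of `M` over `W ∖ V(p)`, `p` a prime element, can be modified into a
frame over `W`, provided `M` has frames near the points of `W`. -/
theorem core (M : X.Modules) (U : X.Opens)
    (hM : ∀ x ∈ U, ∃ (T : X.Opens) (e : Γ(M, T)), x ∈ T ∧ T ≤ U ∧ IsFrame M T e)
    (p : Γ(X, ⊤)) (hp : Prime p) (hfin : ∀ a : Γ(X, ⊤), a ≠ 0 → FiniteMultiplicity p a)
    (W : X.Opens) (hW : W ≤ U)
    (e₀ : Γ(M, W ⊓ X.basicOpen p)) (he₀ : IsFrame M (W ⊓ X.basicOpen p) e₀) :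
    ∃ e : Γ(M, W), IsFrame M W e := by
  let Z := {x : X // x ∈ W ∧ x ∉ X.basicOpen p}
  rcases isEmpty_or_nonempty Z with hZ | ⟨⟨z₀⟩⟩
  · have hle : W ≤ W ⊓ X.basicOpen p := by
      intro x hx
      refine ⟨hx, ?_⟩
      by_contra hxp
      exact hZ.false ⟨x, hx, hxp⟩
    exact ⟨_, isFrame_of_le he₀ hle⟩
  · choose h hzh hhW hph e he using fun z : Z => local_data M U hM p W hW z.1 z.2.1 z.2.2
    have h1 : ∀ z, X.basicOpen (h z * p) ≤ X.basicOpen (h z) := by
      intro z; rw [Scheme.basicOpen_mul]; exact inf_le_left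
    have h2 : ∀ z, X.basicOpen (h z * p) ≤ W ⊓ X.basicOpen p := by
      intro z; rw [Scheme.basicOpen_mul]; exact inf_le_inf_right _ (hhW z)
    choose a b u' hu' hrel using fun z =>
      unit_data M p hp hfin W e₀ he₀ (h z) (hph z) (e z) (he z) (h1 z) (h2 z)
    have hcons : ∀ z z', a z + b z' = a z' + b z := fun z z' =>
      consistency M p hp W e₀ (h z) (h z') (hph z) (hph z') (e z) (he z) (e z') (he z')
        (h1 z) (h2 z) (h1 z') (h2 z') (a z) (b z) (u' z) (hu' z) (hrel z)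
        (a z') (b z') (u' z') (hu' z') (hrel z')
    have hPu : IsUnit (ρ (le_top : W ⊓ X.basicOpen p ≤ ⊤) p) :=
      isUnit_res_of_le_basicOpen p inf_le_right
    obtain ⟨Pinv, hPinv⟩ := hPu.exists_right_inv
    have hPinvu : IsUnit Pinv := IsUnit.of_mul_eq_one _ (by rw [mul_comm]; exact hPinv)
    let c : Γ(X, W ⊓ X.basicOpen p) :=
      ρ (le_top : W ⊓ X.basicOpen p ≤ ⊤) p ^ (a z₀) * Pinv ^ (b z₀)
    have hc : IsUnit c := (hPu.pow _).mul (hPinvu.pow _)
    let s₀ : Γ(M, W ⊓ X.basicOpen p) := c • e₀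
    let s : ∀ z, Γ(M, X.basicOpen (h z)) := fun z => u' z • e z
    have hs₀ : IsFrame M (W ⊓ X.basicOpen p) s₀ := isFrame_smul_unit he₀ c hc
    have hs : ∀ z, IsFrame M (X.basicOpen (h z)) (s z) := fun z =>
      isFrame_smul_unit (he z) (u' z) (hu' z)
    -- agreement on `D(h z * p)`
    have hag1 : ∀ z, M.presheaf.map (homOfLE (h2 z)).op s₀ =
        M.presheaf.map (homOfLE (h1 z)).op (s z) := by
      intro z
      have hP1u : IsUnit (ρ (le_top : X.basicOpen (h z * p) ≤ ⊤) p) :=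
        isUnit_res_of_le_basicOpen p ((h2 z).trans inf_le_right)
      have hPP : ρ (le_top : X.basicOpen (h z * p) ≤ ⊤) p * ρ (h2 z) Pinv = 1 := by
        rw [← ρ_ρ (h2 z) (le_top : W ⊓ X.basicOpen p ≤ ⊤) p, ← map_mul, hPinv, map_one]
      have hc1 : ρ (h2 z) c = ρ (le_top : X.basicOpen (h z * p) ≤ ⊤) p ^ (a z₀) *
          ρ (h2 z) Pinv ^ (b z₀) := by
        show ρ (h2 z) (ρ (le_top : W ⊓ X.basicOpen p ≤ ⊤) p ^ (a z₀) * Pinv ^ (b z₀)) = _
        rw [map_mul, map_pow, map_pow, ρ_ρ]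
      show M.presheaf.map (homOfLE (h2 z)).op (c • e₀) =
        M.presheaf.map (homOfLE (h1 z)).op (u' z • e z)
      rw [smul_res, smul_res, hc1]
      apply ((hP1u.pow (a z + b z₀)).smul_left_cancel).mp
      rw [← mul_smul, ← mul_smul]
      have key : ρ (le_top : X.basicOpen (h z * p) ≤ ⊤) p ^ (a z + b z₀) *
          (ρ (le_top : X.basicOpen (h z * p) ≤ ⊤) p ^ (a z₀) * ρ (h2 z) Pinv ^ (b z₀)) =
          ρ (le_top : X.basicOpen (h z * p) ≤ ⊤) p ^ (a z₀) *
          ρ (le_top : X.basicOpen (h z * p) ≤ ⊤) p ^ (a z) := by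
        rw [pow_add]
        calc _ = ρ (le_top : X.basicOpen (h z * p) ≤ ⊤) p ^ (a z₀) *
              ρ (le_top : X.basicOpen (h z * p) ≤ ⊤) p ^ (a z) *
              (ρ (le_top : X.basicOpen (h z * p) ≤ ⊤) p * ρ (h2 z) Pinv) ^ (b z₀) := by
                rw [mul_pow]; ring
          _ = _ := by rw [hPP, one_pow, mul_one]
      rw [key, mul_smul, hrel z, ← mul_smul, hcons z z₀, pow_add]
      congr 1
      ring
    -- the family to glue
    let T : Option Z → X.Opens := fun i => i.elim (W ⊓ X.basicOpen p) (fun z => X.basicOpen (h z))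
    let sec : ∀ i, Γ(M, T i) := fun i =>
      Option.rec (motive := fun i => Γ(M, T i)) s₀ s i
    have hsec : ∀ i, IsFrame M (T i) (sec i) := by
      rintro (_ | z)
      · exact hs₀
      · exact hs z
    have hleT : ∀ i, T i ≤ W := by
      rintro (_ | z)
      · exact inf_le_left
      · exact hhW z
    have hcov : W ≤ ⨆ i, T i := by
      intro x hx
      by_cases hxp : x ∈ X.basicOpen p
      · exact Opens.mem_iSup.mpr ⟨none, hx, hxp⟩
      · exact Opens.mem_iSup.mpr ⟨some ⟨x, hx, hxp⟩, hzh ⟨x, hx, hxp⟩⟩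
    have hmixed : ∀ z, M.presheaf.map (homOfLE (inf_le_left :
        (W ⊓ X.basicOpen p) ⊓ X.basicOpen (h z) ≤ W ⊓ X.basicOpen p)).op s₀ =
        M.presheaf.map (homOfLE (inf_le_right :
        (W ⊓ X.basicOpen p) ⊓ X.basicOpen (h z) ≤ X.basicOpen (h z))).op (s z) := by
      intro z
      have hle : (W ⊓ X.basicOpen p) ⊓ X.basicOpen (h z) ≤ X.basicOpen (h z * p) := by
        intro x hx
        rw [Scheme.basicOpen_mul]
        exact ⟨hx.2, hx.1.2⟩
      have := congrArg (M.presheaf.map (homOfLE hle).op) (hag1 z)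
      rw [map_map, map_map] at this
      exact this
    have hag : ∀ i j, M.presheaf.map (homOfLE (inf_le_left : T i ⊓ T j ≤ T i)).op (sec i) =
        M.presheaf.map (homOfLE (inf_le_right : T i ⊓ T j ≤ T j)).op (sec j) := by
      rintro (_ | z) (_ | z')
      · rfl
      · exact hmixed z'
      · have hle : X.basicOpen (h z) ⊓ (W ⊓ X.basicOpen p) ≤
            (W ⊓ X.basicOpen p) ⊓ X.basicOpen (h z) := by
          rw [inf_comm]
        have := congrArg (M.presheaf.map (homOfLE hle).op) (hmixed z)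
        rw [map_map, map_map] at this
        exact this.symm
      · have hz0 : h z ≠ 0 := by rintro h0; exact hph z (h0 ▸ dvd_zero p)
        have hz0' : h z' ≠ 0 := by rintro h0; exact hph z' (h0 ▸ dvd_zero p)
        have hgp : h z * h z' * p ≠ 0 := mul_ne_zero (mul_ne_zero hz0 hz0') hp.ne_zero
        have hne3 : Nonempty ↥(X.basicOpen (h z * h z' * p)) := basicOpen_ne_bot hgp
        have hT3 : X.basicOpen (h z * h z' * p) ≤ X.basicOpen (h z) ⊓ X.basicOpen (h z') := by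
          intro x hx
          simp only [Scheme.basicOpen_mul] at hx
          exact hx.1
        have t31 : X.basicOpen (h z * h z' * p) ≤ X.basicOpen (h z * p) := by
          intro x hx
          simp only [Scheme.basicOpen_mul] at hx ⊢
          exact ⟨hx.1.1, hx.2⟩
        have t31' : X.basicOpen (h z * h z' * p) ≤ X.basicOpen (h z' * p) := by
          intro x hx
          simp only [Scheme.basicOpen_mul] at hx ⊢
          exact ⟨hx.1.2, hx.2⟩
        apply res_injective_of_isFrame (isFrame_of_le (he z) inf_le_left) hT3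
          (ρ_injective hT3 hne3)
        have A := congrArg (M.presheaf.map (homOfLE t31).op) (hag1 z)
        have B := congrArg (M.presheaf.map (homOfLE t31').op) (hag1 z')
        rw [map_map, map_map] at A B
        show M.presheaf.map (homOfLE hT3).op (M.presheaf.map (homOfLE _).op (s z)) =
          M.presheaf.map (homOfLE hT3).op (M.presheaf.map (homOfLE _).op (s z'))
        rw [map_map, map_map]
        exact A.symm.trans B
    obtain ⟨e', he', -⟩ := exists_glue_frames T sec hsec hag W hleT hcov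
    exact ⟨e', he'⟩

/-- the core lemma for a product of prime elements -/
theorem core_mul (M : X.Modules) (U : X.Opens)
    (hM : ∀ x ∈ U, ∃ (T : X.Opens) (e : Γ(M, T)), x ∈ T ∧ T ≤ U ∧ IsFrame M T e)
    (hfin : ∀ p a : Γ(X, ⊤), Prime p → a ≠ 0 → FiniteMultiplicity p a)
    (s : Multiset Γ(X, ⊤)) (hs : ∀ p ∈ s, Prime p) :
    ∀ W : X.Opens, W ≤ U → (∃ e₀ : Γ(M, W ⊓ X.basicOpen s.prod),
      IsFrame M (W ⊓ X.basicOpen s.prod) e₀) → ∃ e : Γ(M, W), IsFrame M W e := by
  induction s using Multiset.induction_on with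
  | empty =>
    rintro W hW ⟨e₀, he₀⟩
    have hle : W ≤ W ⊓ X.basicOpen (Multiset.prod (0 : Multiset Γ(X, ⊤))) := by
      rw [Multiset.prod_zero, Scheme.basicOpen_one]
      exact le_inf le_rfl le_top
    exact ⟨_, isFrame_of_le he₀ hle⟩
  | cons p s ih =>
    rintro W hW ⟨e₀, he₀⟩
    have hp : Prime p := hs p (Multiset.mem_cons_self p s)
    have hle : (W ⊓ X.basicOpen s.prod) ⊓ X.basicOpen p ≤
        W ⊓ X.basicOpen (Multiset.prod (p ::ₘ s)) := by
      rw [Multiset.prod_cons, Scheme.basicOpen_mul]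
      intro x hx
      exact ⟨hx.1.1, hx.2, hx.1.2⟩
    obtain ⟨e₁, he₁⟩ := core M U hM p hp (fun a ha => hfin p a hp ha) (W ⊓ X.basicOpen s.prod)
      (inf_le_left.trans hW) _ (isFrame_of_le he₀ hle)
    exact ih (fun q hq => hs q (Multiset.mem_cons_of_mem hq)) W hW ⟨e₁, he₁⟩

/-- **Trivialisation over opens of the spectrum of a UFD.** -/
theorem exists_frame_of_ufd [UniqueFactorizationMonoid Γ(X, ⊤)] (M : X.Modules) (U : X.Opens)
    (hM : ∀ x ∈ U, ∃ (T : X.Opens) (e : Γ(M, T)), x ∈ T ∧ T ≤ U ∧ IsFrame M T e) :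
    ∃ e : Γ(M, U), IsFrame M U e := by
  by_cases hU : U ≤ ⊥
  · exact ⟨0, isFrame_of_le_bot hU 0⟩
  · have hne : ∃ x, x ∈ U := by
      by_contra hcon
      push Not at hcon
      exact hU (fun x hx => (hcon x hx).elim)
    obtain ⟨x, hx⟩ := hne
    obtain ⟨T, e, hxT, hTU, he⟩ := hM x hx
    obtain ⟨_, ⟨_, ⟨f, rfl⟩, rfl⟩, hxf, hfT⟩ := (isBasis_basicOpen X).exists_subset_of_mem_open
      (show x ∈ ((T : X.Opens) : Set X) from hxT) T.isOpen
    have hf : f ≠ 0 := by
      rintro rfl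
      rw [Scheme.basicOpen_zero] at hxf
      exact hxf
    obtain ⟨s, hs, hsf⟩ := UniqueFactorizationMonoid.exists_prime_factors f hf
    obtain ⟨u, hu⟩ := hsf
    have hle : U ⊓ X.basicOpen s.prod ≤ T := by
      intro y hy
      apply hfT
      rw [← hu, Scheme.basicOpen_mul]
      refine ⟨hy.2, ?_⟩
      rw [Scheme.basicOpen_of_isUnit X u.isUnit]
      trivial
    exact core_mul M U hM (fun p a hp ha => FiniteMultiplicity.of_prime_left hp ha) s hs U le_rfl
      ⟨_, isFrame_of_le he hle⟩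

end affine

/-- S0233 -/
theorem main (R : Type u) [CommRing R] [IsDomain R] [UniqueFactorizationMonoid R]
    (U : (Spec (CommRingCat.of R)).Opens) (L : (U : Scheme.{u}).Modules)
    (hL : PicF.IsInvertible L) :
    Nonempty (L ≅ Coh.structureModule (U : Scheme.{u})) := by
  haveI : UniqueFactorizationMonoid Γ(Spec (CommRingCat.of R), ⊤) :=
    MulEquiv.uniqueFactorizationMonoid
      (Scheme.ΓSpecIso (CommRingCat.of R)).commRingCatIsoToRingEquiv.symm.toMulEquiv inferInstance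
  obtain ⟨e, he⟩ := exists_frame_of_ufd ((pushforward U.ι).obj L) U
    (fun x hx => exists_frame_pushforward_ι U L hL x hx)
  have h1 := isFrame_of_pushforward_ι U L U e he
  have hle : (⊤ : (U : Scheme.{u}).Opens) ≤ U.ι ⁻¹ᵁ U := fun y _ => y.2
  exact nonempty_iso_of_isFrame_top L _ (isFrame_of_le h1 hle)

end Groth.Agent.Helper3.PrimeFrame
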