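import Mathlib

set_option backward.isDefEq.respectTransparency.types false
set_option maxHeartbeats 4000000
set_option synthInstance.maxHeartbeats 400000
set_option autoImplicit false
universe u
open CategoryTheory CategoryTheory.Limits AlgebraicGeometry TopologicalSpace Opposite

namespace Groth.Agent.Helper3.ProdComp

/-- Going down along a projection of a fibre product over a "point", staying in the same fibre of
the other projection. -/
theorem going_down {P X Y S : Scheme.{u}} {p : P ⟶ X} {q : P ⟶ Y} {f : X ⟶ S} {g : Y ⟶ S}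
    (sq : IsPullback p q f g) [Subsingleton S] [IsIntegral S] (w : P) (x' : X)
    (h : x' ⤳ p w) : ∃ w' : P, w' ⤳ w ∧ p w' = x' ∧ q w' = q w := by
  obtain ⟨η, hη⟩ : ∃ η : Y, η = q w := ⟨_, rfl⟩
  rw [← hη]
  let ι := q.fiberι η
  have sq1 : IsPullback ι (q.fiberToSpecResidueField η) q (Y.fromSpecResidueField η) :=
    IsPullback.of_hasPullback q (Y.fromSpecResidueField η)
  have sq2 : IsPullback (ι ≫ p) (q.fiberToSpecResidueField η) f (Y.fromSpecResidueField η ≫ g) :=
    sq1.paste_horiz sq
  haveI : Flat (Y.fromSpecResidueField η ≫ g) := inferInstance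
  haveI : Flat (ι ≫ p) := MorphismProperty.of_isPullback (P := @Flat) sq2.flip inferInstance
  have hw : w ∈ Set.range ι := by
    rw [q.range_fiberι η]; exact hη.symm
  obtain ⟨ŵ, rfl⟩ := hw
  have h' : x' ⤳ (ι ≫ p) ŵ := by rwa [Scheme.Hom.comp_apply]
  obtain ⟨ŵ', hŵ', hm⟩ := Flat.generalizingMap (ι ≫ p) h'
  refine ⟨ι ŵ', hŵ'.map ι.continuous, ?_, ?_⟩
  · rw [← Scheme.Hom.comp_apply]; exact hm
  · have : ι ŵ' ∈ Set.range ι := ⟨ŵ', rfl⟩
    rw [q.range_fiberι η] at this
    exact this

/-- Topological core. -/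
theorem mem_irreducibleComponents_of_maximal {P X Y : Type*} [TopologicalSpace P]
    [TopologicalSpace X] [TopologicalSpace Y] [QuasiSober P] [T0Space P] [QuasiSober X]
    [QuasiSober Y] (p : P → X) (q : P → Y) (hp : Continuous p) (hq : Continuous q)
    (GDp : ∀ (w : P) (x' : X), x' ⤳ p w → ∃ w' : P, w' ⤳ w ∧ p w' = x' ∧ q w' = q w)
    (GDq : ∀ (w : P) (y' : Y), y' ⤳ q w → ∃ w' : P, w' ⤳ w ∧ q w' = y' ∧ p w' = p w)
    (X' : Set X) (hX' : X' ∈ irreducibleComponents X) (Y' : Set Y)
    (hY' : Y' ∈ irreducibleComponents Y) (W : Set P)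
    (hW : Maximal (fun V : Set P => IsIrreducible V ∧ V ⊆ p ⁻¹' X' ∩ q ⁻¹' Y') W) :
    W ∈ irreducibleComponents P := by
  have hX'c : IsClosed X' := isClosed_of_mem_irreducibleComponents X' hX'
  have hY'c : IsClosed Y' := isClosed_of_mem_irreducibleComponents Y' hY'
  set S : Set P := p ⁻¹' X' ∩ q ⁻¹' Y' with hS
  have hSc : IsClosed S := (hX'c.preimage hp).inter (hY'c.preimage hq)
  -- closures of points of S
  have hcl : ∀ v : P, v ∈ S → W ⊆ closure {v} → closure {v} ⊆ W := fun v hv hWv =>
    hW.2 ⟨isIrreducible_singleton.closure, hSc.closure_subset_iff.mpr (Set.singleton_subset_iff.mpr hv)⟩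
      hWv
  have hWc : IsClosed W := by
    have : closure W ⊆ W := hW.2 ⟨hW.1.1.closure, hSc.closure_subset_iff.mpr hW.1.2⟩ subset_closure
    exact closure_subset_iff_isClosed.mp this
  obtain ⟨w, hw⟩ := QuasiSober.sober hW.1.1 hWc
  have hwW : w ∈ W := hw.mem
  have hwS : w ∈ S := hW.1.2 hwW
  obtain ⟨ξ', hξ'⟩ := QuasiSober.sober hX'.1 hX'c
  obtain ⟨η', hη'⟩ := QuasiSober.sober hY'.1 hY'c
  have hpw : p w = ξ' := by
    have h1 : ξ' ⤳ p w := by
      rw [specializes_iff_mem_closure, hξ'.def]; exact hwS.1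
    obtain ⟨w', hw'1, hw'2, hw'3⟩ := GDp w ξ' h1
    have hw'S : w' ∈ S := ⟨by show p w' ∈ X'; rw [hw'2]; exact hξ'.mem,
      by show q w' ∈ Y'; rw [hw'3]; exact hwS.2⟩
    have h2 : W ⊆ closure {w'} := by
      rw [← hw.def]
      exact closure_minimal (Set.singleton_subset_iff.mpr (specializes_iff_mem_closure.mp hw'1))
        isClosed_closure
    have h3 := hcl w' hw'S h2
    have h4 : w ⤳ w' := by
      rw [specializes_iff_mem_closure, hw.def]; exact h3 (subset_closure rfl)
    rw [← (hw'1.antisymm h4).eq, hw'2]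
  have hqw : q w = η' := by
    have h1 : η' ⤳ q w := by
      rw [specializes_iff_mem_closure, hη'.def]; exact hwS.2
    obtain ⟨w', hw'1, hw'2, hw'3⟩ := GDq w η' h1
    have hw'S : w' ∈ S := ⟨by show p w' ∈ X'; rw [hw'3]; exact hwS.1,
      by show q w' ∈ Y'; rw [hw'2]; exact hη'.mem⟩
    have h2 : W ⊆ closure {w'} := by
      rw [← hw.def]
      exact closure_minimal (Set.singleton_subset_iff.mpr (specializes_iff_mem_closure.mp hw'1))
        isClosed_closure
    have h3 := hcl w' hw'S h2
    have h4 : w ⤳ w' := by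
      rw [specializes_iff_mem_closure, hw.def]; exact h3 (subset_closure rfl)
    rw [← (hw'1.antisymm h4).eq, hw'2]
  refine ⟨hW.1.1, fun V hV hWV => ?_⟩
  obtain ⟨v, hv⟩ := QuasiSober.sober hV.closure isClosed_closure
  have hvw : v ⤳ w := by
    rw [specializes_iff_mem_closure, hv.def]; exact subset_closure (hWV hwW)
  have hpv : p v ∈ X' := by
    have h1 : p v ⤳ ξ' := hpw ▸ hvw.map hp
    have h2 : X' ⊆ closure {p v} := by
      rw [← hξ'.def]
      exact closure_minimal (Set.singleton_subset_iff.mpr (specializes_iff_mem_closure.mp h1))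
        isClosed_closure
    exact hX'.2 isIrreducible_singleton.closure h2 (subset_closure rfl)
  have hqv : q v ∈ Y' := by
    have h1 : q v ⤳ η' := hqw ▸ hvw.map hq
    have h2 : Y' ⊆ closure {q v} := by
      rw [← hη'.def]
      exact closure_minimal (Set.singleton_subset_iff.mpr (specializes_iff_mem_closure.mp h1))
        isClosed_closure
    exact hY'.2 isIrreducible_singleton.closure h2 (subset_closure rfl)
  have h5 : W ⊆ closure {v} := by
    rw [hv.def]; exact hWV.trans subset_closure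
  have h6 := hcl v ⟨hpv, hqv⟩ h5
  rw [hv.def] at h6
  exact subset_closure.trans h6

theorem main {k : Type u} [Field k] {X Y : Scheme.{u}}
    (f : X ⟶ Spec (CommRingCat.of k)) (g : Y ⟶ Spec (CommRingCat.of k))
    (W : Set ↥(pullback f g)) :
    W ∈ irreducibleComponents ↥(pullback f g) ↔
      ∃ X' ∈ irreducibleComponents ↥X, ∃ Y' ∈ irreducibleComponents ↥Y,
        Maximal (fun V : Set ↥(pullback f g) => IsIrreducible V ∧
          V ⊆ ⇑(pullback.fst f g) ⁻¹' X' ∩ ⇑(pullback.snd f g) ⁻¹' Y') W := by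
  constructor
  · intro hW
    obtain ⟨X', hX', hWX'⟩ := exists_mem_irreducibleComponents_subset_of_isIrreducible
      ((pullback.fst f g) '' W) (hW.1.image _ (pullback.fst f g).continuous.continuousOn)
    obtain ⟨Y', hY', hWY'⟩ := exists_mem_irreducibleComponents_subset_of_isIrreducible
      ((pullback.snd f g) '' W) (hW.1.image _ (pullback.snd f g).continuous.continuousOn)
    refine ⟨X', hX', Y', hY', ⟨hW.1, fun w hw => ⟨hWX' ⟨w, hw, rfl⟩, hWY' ⟨w, hw, rfl⟩⟩⟩,
      fun V hV hWV => hW.2 hV.1 hWV⟩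
  · rintro ⟨X', hX', Y', hY', hW⟩
    have sq : IsPullback (pullback.fst f g) (pullback.snd f g) f g := IsPullback.of_hasPullback f g
    exact mem_irreducibleComponents_of_maximal (pullback.fst f g) (pullback.snd f g)
      (pullback.fst f g).continuous (pullback.snd f g).continuous
      (fun w x' h => going_down sq w x' h)
      (fun w y' h => going_down sq.flip w y' h) X' hX' Y' hY' W hW

end Groth.Agent.Helper3.ProdComp
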