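import Mathlib
set_option autoImplicit false
set_option linter.style.haveILetI false
set_option linter.unusedSectionVars false
set_option linter.unusedVariables false
set_option linter.style.haveILetI false
set_option linter.unusedSectionVars false
set_option linter.unusedVariables false

namespace Groth.Agent.Helper3.ProfHomeo
open TensorProduct CategoryTheory CategoryTheory.Limits AlgebraicGeometry

universe u
section alg
variable {k : Type u} [Field k] {A : Type u} [CommRing A] [Algebra k A]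

/-- Every element lies in a subalgebra isomorphic to a finite power of `k`. -/
def Split (k A : Type u) [Field k] [CommRing A] [Algebra k A] : Prop :=
  ∀ a : A, ∃ (B : Subalgebra k A) (n : ℕ), a ∈ B ∧ Nonempty (B ≃ₐ[k] (Fin n → k))

/-- A decomposition of a tensor along orthogonal idempotents of `A`. -/
structure IsDec {C : Type u} [CommRing C] [Algebra k C] (t : A ⊗[k] C) {ι : Type} [Fintype ι]
    (e : ι → A) (c : ι → C) : Prop where
  orth : ∀ i j, i ≠ j → e i * e j = 0
  idem : ∀ i, e i * e i = e i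
  sum_one : ∑ i, e i = 1
  eq : t = ∑ i, e i ⊗ₜ[k] c i

lemma exists_dec (hA : Split k A) {C : Type u} [CommRing C] [Algebra k C] (t : A ⊗[k] C) :
    ∃ (ι : Type) (_ : Fintype ι) (e : ι → A) (c : ι → C), IsDec t e c := by
  classical
  induction t using TensorProduct.induction_on with
  | zero =>
    refine ⟨Unit, inferInstance, fun _ => 1, fun _ => 0, ⟨?_, ?_, ?_, ?_⟩⟩
    · intro i j h; exact absurd (Subsingleton.elim i j) h
    · simp
    · simp
    · simp
  | tmul a c₀ =>
    obtain ⟨B, n, haB, ⟨φ⟩⟩ := hA a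
    let e : Fin n → A := fun j => ((φ.symm (Pi.single j 1) : B) : A)
    let lam : Fin n → k := fun j => φ ⟨a, haB⟩ j
    have hsum : a = ∑ j, lam j • e j := by
      have h1 : φ ⟨a, haB⟩ = ∑ j, lam j • Pi.single j (1 : k) := by
        funext l
        simp [lam, Finset.sum_apply, Pi.single_apply]
      have h2 : (⟨a, haB⟩ : B) = ∑ j, lam j • φ.symm (Pi.single j (1 : k)) := by
        rw [← φ.symm_apply_apply ⟨a, haB⟩, h1, map_sum]
        simp only [map_smul]
      have h3 := congrArg (Subtype.val : B → A) h2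
      simpa [e] using h3
    refine ⟨Fin n, inferInstance, e, fun j => lam j • c₀, ⟨?_, ?_, ?_, ?_⟩⟩
    · intro i j hij
      have : (Pi.single i (1 : k) * Pi.single j (1 : k) : Fin n → k) = 0 := by
        funext l
        by_cases hl : l = i
        · subst hl; simp [Pi.single_apply, hij]
        · simp [Pi.single_apply, hl]
      change ((φ.symm (Pi.single i 1) : B) : A) * ((φ.symm (Pi.single j 1) : B) : A) = 0
      rw [← Subalgebra.coe_mul, ← map_mul, this, map_zero, Subalgebra.coe_zero]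
    · intro i
      have : (Pi.single i (1 : k) * Pi.single i (1 : k) : Fin n → k) = Pi.single i 1 := by
        funext l
        by_cases hl : l = i
        · subst hl; simp
        · simp [Pi.single_apply, hl]
      change ((φ.symm (Pi.single i 1) : B) : A) * ((φ.symm (Pi.single i 1) : B) : A) = _
      rw [← Subalgebra.coe_mul, ← map_mul, this]
    · have : (∑ j, Pi.single j (1 : k) : Fin n → k) = 1 := by
        funext l
        simp [Finset.sum_apply, Pi.single_apply]
      change ∑ j, ((φ.symm (Pi.single j 1) : B) : A) = 1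
      rw [← Subalgebra.coe_one B, ← map_one φ.symm, ← this, map_sum]
      simp
    · conv_lhs => rw [hsum]
      rw [TensorProduct.sum_tmul]
      refine Finset.sum_congr rfl fun j _ => ?_
      rw [TensorProduct.smul_tmul]
  | add t₁ t₂ h₁ h₂ =>
    obtain ⟨ι₁, _, e₁, c₁, d₁⟩ := h₁
    obtain ⟨ι₂, _, e₂, c₂, d₂⟩ := h₂
    refine ⟨ι₁ × ι₂, inferInstance, fun p => e₁ p.1 * e₂ p.2, fun p => c₁ p.1 + c₂ p.2,
      ⟨?_, ?_, ?_, ?_⟩⟩
    · rintro ⟨i, j⟩ ⟨i', j'⟩ h
      by_cases hi : i = i'
      · subst hi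
        have hj : j ≠ j' := fun hj => h (by rw [hj])
        calc e₁ i * e₂ j * (e₁ i * e₂ j') = (e₁ i * e₁ i) * (e₂ j * e₂ j') := by ring
          _ = 0 := by rw [d₂.orth j j' hj, mul_zero]
      · calc e₁ i * e₂ j * (e₁ i' * e₂ j') = (e₁ i * e₁ i') * (e₂ j * e₂ j') := by ring
          _ = 0 := by rw [d₁.orth i i' hi, zero_mul]
    · rintro ⟨i, j⟩
      calc e₁ i * e₂ j * (e₁ i * e₂ j) = (e₁ i * e₁ i) * (e₂ j * e₂ j) := by ring
        _ = e₁ i * e₂ j := by rw [d₁.idem, d₂.idem]
    · rw [Fintype.sum_prod_type]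
      simp only [← Finset.mul_sum, d₂.sum_one, mul_one, d₁.sum_one]
    · rw [Fintype.sum_prod_type]
      simp only [TensorProduct.tmul_add, Finset.sum_add_distrib]
      congr 1
      · rw [d₁.eq]
        refine Finset.sum_congr rfl fun i _ => ?_
        rw [← TensorProduct.sum_tmul, ← Finset.mul_sum, d₂.sum_one, mul_one]
      · rw [d₂.eq, Finset.sum_comm]
        refine Finset.sum_congr rfl fun j _ => ?_
        rw [← TensorProduct.sum_tmul, ← Finset.sum_mul, d₁.sum_one, one_mul]

open Algebra.TensorProduct in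
lemma mem_iff {C : Type u} [CommRing C] [Algebra k C] (Q : Ideal (A ⊗[k] C)) [Q.IsPrime]
    {t : A ⊗[k] C} {ι : Type} [Fintype ι] {e : ι → A} {c : ι → C} (d : IsDec t e c) :
    t ∈ Q ↔ ∀ i, e i ⊗ₜ[k] (1 : C) ∉ Q → (1 : A) ⊗ₜ[k] c i ∈ Q := by
  classical
  constructor
  · intro ht i hi
    have h1 : (e i ⊗ₜ[k] (1 : C)) * t ∈ Q := Q.mul_mem_left _ ht
    have h2 : (e i ⊗ₜ[k] (1 : C)) * t = (e i ⊗ₜ[k] (1 : C)) * ((1 : A) ⊗ₜ[k] c i) := by
      rw [d.eq, Finset.mul_sum, Finset.sum_eq_single i]
      · simp [Algebra.TensorProduct.tmul_mul_tmul, d.idem]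
      · intro j _ hji
        simp [Algebra.TensorProduct.tmul_mul_tmul, d.orth i j (Ne.symm hji)]
      · intro h; exact absurd (Finset.mem_univ i) h
    rw [h2] at h1
    exact (Ideal.IsPrime.mem_or_mem ‹_› h1).resolve_left hi
  · intro h
    rw [d.eq]
    refine Q.sum_mem fun i _ => ?_
    have : e i ⊗ₜ[k] c i = (e i ⊗ₜ[k] (1 : C)) * ((1 : A) ⊗ₜ[k] c i) := by
      simp [Algebra.TensorProduct.tmul_mul_tmul]
    rw [this]
    by_cases hi : e i ⊗ₜ[k] (1 : C) ∈ Q
    · exact Q.mul_mem_right _ hi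
    · exact Q.mul_mem_left _ (h i hi)

/-- The residue field of a prime of a split algebra is `k`. -/
lemma exists_character (hA : Split k A) (a : Ideal A) [a.IsPrime] :
    ∃ χ : A →ₐ[k] k, RingHom.ker χ.toRingHom = a := by
  classical
  have hsurj : Function.Surjective (algebraMap k (A ⧸ a)) := by
    intro y
    obtain ⟨t, rfl⟩ := Ideal.Quotient.mk_surjective y
    obtain ⟨ι, _, e, c, d⟩ := exists_dec hA (C := k) (t ⊗ₜ[k] (1 : k))
    -- apply the map A ⊗ k → A
    have h1 := congrArg (Algebra.TensorProduct.rid k k A) d.eq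
    simp only [Algebra.TensorProduct.rid_tmul, one_smul, map_sum] at h1
    -- t = ∑ c i • e i
    have hid : ∀ i, Ideal.Quotient.mk a (e i) = 0 ∨ Ideal.Quotient.mk a (e i) = 1 := by
      intro i
      have : Ideal.Quotient.mk a (e i) * Ideal.Quotient.mk a (e i) = Ideal.Quotient.mk a (e i) := by
        rw [← map_mul, d.idem]
      have h' : Ideal.Quotient.mk a (e i) * (Ideal.Quotient.mk a (e i) - 1) = 0 := by
        rw [mul_sub, this, mul_one, sub_self]
      rcases mul_eq_zero.mp h' with h | h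
      · exact Or.inl h
      · exact Or.inr (sub_eq_zero.mp h)
    refine ⟨∑ i, if Ideal.Quotient.mk a (e i) = 0 then 0 else c i, ?_⟩
    rw [h1, map_sum, map_sum]
    refine Finset.sum_congr rfl fun i _ => ?_
    rcases hid i with h | h
    · simp [h, Algebra.smul_def]
    · have hne : Ideal.Quotient.mk a (e i) ≠ 0 := by rw [h]; exact one_ne_zero
      simp [h, hne, Algebra.smul_def]
  have hinj : Function.Injective (algebraMap k (A ⧸ a)) := (algebraMap k (A ⧸ a)).injective
  let E : k ≃ₐ[k] (A ⧸ a) := AlgEquiv.ofBijective (Algebra.ofId k (A ⧸ a)) ⟨hinj, hsurj⟩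
  refine ⟨E.symm.toAlgHom.comp (Ideal.Quotient.mkₐ k a), ?_⟩
  ext x
  simp only [RingHom.mem_ker]
  change E.symm (Ideal.Quotient.mk a x) = 0 ↔ _
  rw [map_eq_zero_iff E.symm E.symm.injective, Ideal.Quotient.eq_zero_iff_mem]

lemma exists_prime (hA : Split k A) {C : Type u} [CommRing C] [Algebra k C]
    (a : Ideal A) [a.IsPrime] (x : Ideal C) [x.IsPrime] :
    ∃ (Q : Ideal (A ⊗[k] C)) (_ : Q.IsPrime),
      Q.comap (Algebra.TensorProduct.includeLeft : A →ₐ[k] A ⊗[k] C).toRingHom = a ∧
      Q.comap (Algebra.TensorProduct.includeRight : C →ₐ[k] A ⊗[k] C).toRingHom = x := by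
  obtain ⟨χ, hχ⟩ := exists_character hA a
  let ψ : A ⊗[k] C →ₐ[k] C :=
    (Algebra.TensorProduct.lid k C).toAlgHom.comp (Algebra.TensorProduct.map χ (AlgHom.id k C))
  have hψ : ∀ (a' : A) (c : C), ψ (a' ⊗ₜ[k] c) = χ a' • c := by
    intro a' c; simp [ψ]
  refine ⟨x.comap ψ.toRingHom, inferInstance, ?_, ?_⟩
  · ext a'
    simp only [Ideal.mem_comap, AlgHom.toRingHom_eq_coe, RingHom.coe_coe,
      Algebra.TensorProduct.includeLeft_apply, hψ]
    rw [← hχ, RingHom.mem_ker]
    constructor
    · intro h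
      by_contra hne
      have hne' : χ a' ≠ 0 := hne
      have : (1 : C) ∈ x := by
        have := x.smul_mem (algebraMap k C (χ a')⁻¹) h
        rwa [smul_eq_mul, Algebra.smul_def, mul_one, ← map_mul, inv_mul_cancel₀ hne', map_one]
          at this
      exact (Ideal.IsPrime.ne_top ‹_›) ((Ideal.eq_top_iff_one _).mpr this)
    · intro h
      have h' : χ a' = 0 := h
      rw [h', zero_smul]; exact x.zero_mem
  · ext c
    simp only [Ideal.mem_comap, AlgHom.toRingHom_eq_coe, RingHom.coe_coe,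
      Algebra.TensorProduct.includeRight_apply, hψ, map_one, one_smul]

/-- The map from the spectrum of the tensor product to the product of spectra. -/
def specProd (k A : Type u) [Field k] [CommRing A] [Algebra k A] (C : Type u) [CommRing C]
    [Algebra k C] : PrimeSpectrum (A ⊗[k] C) → PrimeSpectrum A × PrimeSpectrum C :=
  fun Q => (PrimeSpectrum.comap
      (Algebra.TensorProduct.includeLeft : A →ₐ[k] A ⊗[k] C).toRingHom Q,
    PrimeSpectrum.comap (Algebra.TensorProduct.includeRight : C →ₐ[k] A ⊗[k] C).toRingHom Q)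

lemma specProd_fst_mem {C : Type u} [CommRing C] [Algebra k C] (Q : PrimeSpectrum (A ⊗[k] C))
    (a' : A) : a' ∈ (specProd k A C Q).1.asIdeal ↔ a' ⊗ₜ[k] (1 : C) ∈ Q.asIdeal := Iff.rfl

lemma specProd_snd_mem {C : Type u} [CommRing C] [Algebra k C] (Q : PrimeSpectrum (A ⊗[k] C))
    (c : C) : c ∈ (specProd k A C Q).2.asIdeal ↔ (1 : A) ⊗ₜ[k] c ∈ Q.asIdeal := Iff.rfl

theorem isHomeomorph_specProd (hA : Split k A) (C : Type u) [CommRing C] [Algebra k C] :
    IsHomeomorph (specProd k A C) := by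
  classical
  have hsurj : Function.Surjective (specProd k A C) := by
    rintro ⟨a, x⟩
    obtain ⟨Q, hQ, h1, h2⟩ := exists_prime hA (C := C) a.asIdeal x.asIdeal
    refine ⟨⟨Q, hQ⟩, ?_⟩
    refine Prod.ext (PrimeSpectrum.ext ?_) (PrimeSpectrum.ext ?_)
    · exact h1
    · exact h2
  refine ⟨?_, ?_, ?_, hsurj⟩
  · exact (PrimeSpectrum.continuous_comap _).prodMk (PrimeSpectrum.continuous_comap _)
  · rw [PrimeSpectrum.isTopologicalBasis_basic_opens.isOpenMap_iff]
    rintro _ ⟨t, rfl⟩
    obtain ⟨ι, _, e, c, d⟩ := exists_dec hA t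
    have : specProd k A C '' (PrimeSpectrum.basicOpen t : Set (PrimeSpectrum (A ⊗[k] C))) =
        ⋃ i, (PrimeSpectrum.basicOpen (e i) : Set (PrimeSpectrum A)) ×ˢ
          (PrimeSpectrum.basicOpen (c i) : Set (PrimeSpectrum C)) := by
      ext ⟨a, x⟩
      simp only [Set.mem_image, SetLike.mem_coe, PrimeSpectrum.mem_basicOpen, Set.mem_iUnion,
        Set.mem_prod]
      constructor
      · rintro ⟨Q, hQ, hQax⟩
        rw [mem_iff Q.asIdeal d] at hQ
        push Not at hQ
        obtain ⟨i, h1, h2⟩ := hQ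
        refine ⟨i, ?_, ?_⟩
        · have ha : (specProd k A C Q).1 = a := congrArg Prod.fst hQax
          rw [← ha, specProd_fst_mem]; exact h1
        · have hx : (specProd k A C Q).2 = x := congrArg Prod.snd hQax
          rw [← hx, specProd_snd_mem]; exact h2
      · rintro ⟨i, h1, h2⟩
        obtain ⟨Q, hQ⟩ := hsurj (a, x)
        refine ⟨Q, ?_, hQ⟩
        rw [mem_iff Q.asIdeal d]
        push Not
        refine ⟨i, ?_, ?_⟩
        · rw [← specProd_fst_mem, hQ]; exact h1
        · rw [← specProd_snd_mem, hQ]; exact h2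
    rw [this]
    exact isOpen_iUnion fun i => (PrimeSpectrum.basicOpen (e i)).isOpen.prod
      (PrimeSpectrum.basicOpen (c i)).isOpen
  · intro Q Q' h
    refine PrimeSpectrum.ext (Ideal.ext fun t => ?_)
    obtain ⟨ι, _, e, c, d⟩ := exists_dec hA t
    rw [mem_iff Q.asIdeal d, mem_iff Q'.asIdeal d]
    refine forall_congr' fun i => ?_
    rw [← specProd_fst_mem, ← specProd_fst_mem, ← specProd_snd_mem, ← specProd_snd_mem, h]

end alg

section sch
variable {k : Type u} [Field k] {A : Type u} [CommRing A] [Algebra k A]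

theorem affine_case (hA : Split k A) (R : Type u) [CommRing R] [Algebra k R]
    (g : Spec (CommRingCat.of R) ⟶ Spec (CommRingCat.of k))
    (hg : g = Spec.map (CommRingCat.ofHom (algebraMap k R))) :
    IsHomeomorph (fun p : ↑(pullback (Spec.map (CommRingCat.ofHom (algebraMap k A))) g) =>
      (pullback.fst (Spec.map (CommRingCat.ofHom (algebraMap k A))) g p,
       pullback.snd (Spec.map (CommRingCat.ofHom (algebraMap k A))) g p)) := by
  subst hg
  let e := pullbackSpecIso k A R
  have h1 : IsHomeomorph (e.hom : _ → _) := e.hom.homeomorph.isHomeomorph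
  have h2 := (isHomeomorph_specProd hA R).comp h1
  have heq : (fun p : ↑(pullback (Spec.map (CommRingCat.ofHom (algebraMap k A)))
      (Spec.map (CommRingCat.ofHom (algebraMap k R)))) =>
      ((pullback.fst (Spec.map (CommRingCat.ofHom (algebraMap k A)))
        (Spec.map (CommRingCat.ofHom (algebraMap k R))) p,
       pullback.snd (Spec.map (CommRingCat.ofHom (algebraMap k A)))
        (Spec.map (CommRingCat.ofHom (algebraMap k R))) p) :
        ↑(Spec (CommRingCat.of A)) × ↑(Spec (CommRingCat.of R)))) =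
      (specProd k A R ∘ (e.hom : _ → _)) := by
    funext p
    refine Prod.ext ?_ ?_
    · change _ = (e.hom ≫ Spec.map (CommRingCat.ofHom
        Algebra.TensorProduct.includeLeftRingHom)) p
      rw [pullbackSpecIso_hom_fst]
    · change _ = (e.hom ≫ Spec.map (CommRingCat.ofHom
        (RingHomClass.toRingHom Algebra.TensorProduct.includeRight))) p
      rw [pullbackSpecIso_hom_snd]
  rw [heq]
  exact h2

theorem main (hA : Split k A) (X : Scheme.{u}) (f : X ⟶ Spec (CommRingCat.of k)) :
    IsHomeomorph (fun p : ↑(pullback (Spec.map (CommRingCat.ofHom (algebraMap k A))) f) =>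
      (pullback.fst (Spec.map (CommRingCat.ofHom (algebraMap k A))) f p,
       pullback.snd (Spec.map (CommRingCat.ofHom (algebraMap k A))) f p)) := by
  classical
  set α := Spec.map (CommRingCat.ofHom (algebraMap k A)) with hα
  set φ : ↑(pullback α f) → ↑(Spec (CommRingCat.of A)) × ↑X :=
    fun p => (pullback.fst α f p, pullback.snd α f p) with hφ
  -- local data
  have key : ∀ U : X.affineOpens, ∃ (φU : ↑(pullback α (U.2.fromSpec ≫ f)) →
      ↑(Spec (CommRingCat.of A)) × ↑(Spec Γ(X, U.1))) (ιU : ↑(pullback α (U.2.fromSpec ≫ f)) →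
      ↑(pullback α f)), IsHomeomorph φU ∧ Continuous ιU ∧
      (∀ q, φ (ιU q) = Prod.map id U.2.fromSpec (φU q)) ∧
      (∀ p, pullback.snd α f p ∈ U.1 → p ∈ Set.range ιU) := by
    intro U
    let gU := U.2.fromSpec ≫ f
    let β : CommRingCat.of k ⟶ Γ(X, U.1) := Spec.preimage gU
    letI : Algebra k Γ(X, U.1) := β.hom.toAlgebra
    have hg : gU = Spec.map (CommRingCat.ofHom (algebraMap k Γ(X, U.1))) :=
      (Spec.map_preimage gU).symm
    have hφU := affine_case hA Γ(X, U.1) gU hg
    let ιU : pullback α gU ⟶ pullback α f :=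
      pullback.map α gU α f (𝟙 _) U.2.fromSpec (𝟙 _) (by simp) (by simp [gU])
    have e1 : ιU ≫ pullback.fst α f = pullback.fst α gU :=
      (pullback.lift_fst _ _ _).trans (Category.comp_id _)
    have e2 : ιU ≫ pullback.snd α f = pullback.snd α gU ≫ U.2.fromSpec :=
      pullback.lift_snd _ _ _
    refine ⟨_, ιU, hφU, ιU.continuous, ?_, ?_⟩
    · intro q
      refine Prod.ext ?_ ?_
      · change (pullback.fst α f) (ιU q) = (pullback.fst α gU) q
        rw [← Scheme.Hom.comp_apply, e1]
      · change (pullback.snd α f) (ιU q) = U.2.fromSpec ((pullback.snd α gU) q)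
        rw [← Scheme.Hom.comp_apply, e2, Scheme.Hom.comp_apply]
    · intro p hp
      have := Scheme.Pullback.range_map α gU α f (𝟙 _) U.2.fromSpec (𝟙 _) (by simp)
        (by simp [gU])
      change p ∈ Set.range ιU
      rw [this]
      refine ⟨?_, ?_⟩
      · simp
      · rw [Set.mem_preimage, U.2.range_fromSpec]; exact hp
  choose φU ιU hφU hιU hcomm hrange using key
  have hU : ∀ x : X, ∃ U : X.affineOpens, x ∈ U.1 := by
    intro x
    obtain ⟨_, ⟨V, hV, rfl⟩, hxV, -⟩ :=
      X.isBasis_affineOpens.exists_subset_of_mem_open (Set.mem_univ x) isOpen_univ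
    exact ⟨⟨V, hV⟩, hxV⟩
  refine ⟨?_, ?_, ?_, ?_⟩
  · exact (pullback.fst α f).continuous.prodMk (pullback.snd α f).continuous
  · intro W hW
    rw [isOpen_iff_forall_mem_open]
    rintro _ ⟨p, hpW, rfl⟩
    obtain ⟨U, hxU⟩ := hU (pullback.snd α f p)
    obtain ⟨q, rfl⟩ := hrange U p hxU
    refine ⟨Prod.map id U.2.fromSpec '' (φU U '' (ιU U ⁻¹' W)), ?_, ?_, ?_⟩
    · rintro _ ⟨_, ⟨q', hq', rfl⟩, rfl⟩
      exact ⟨ιU U q', hq', hcomm U q'⟩
    · exact (IsOpenMap.prodMap IsOpenMap.id U.2.fromSpec.isOpenEmbedding.isOpenMap) _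
        ((hφU U).isOpenMap _ (hW.preimage (hιU U)))
    · exact ⟨φU U q, ⟨q, hpW, rfl⟩, (hcomm U q).symm⟩
  · intro p p' h
    obtain ⟨U, hxU⟩ := hU (pullback.snd α f p)
    have hxU' : pullback.snd α f p' ∈ U.1 := by
      have : pullback.snd α f p = pullback.snd α f p' := congrArg Prod.snd h
      rwa [← this]
    obtain ⟨q, rfl⟩ := hrange U p hxU
    obtain ⟨q', rfl⟩ := hrange U p' hxU'
    rw [hcomm, hcomm] at h
    have h' := Prod.ext_iff.mp h
    simp only [Prod.map_fst, Prod.map_snd, id_eq] at h'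
    have h1 : (φU U q).1 = (φU U q').1 := h'.1
    have h2 : (φU U q).2 = (φU U q').2 :=
      U.2.fromSpec.isOpenEmbedding.injective h'.2
    rw [(hφU U).injective (Prod.ext h1 h2)]
  · rintro ⟨a, x⟩
    obtain ⟨U, hxU⟩ := hU x
    have hx' : x ∈ Set.range U.2.fromSpec := by rw [U.2.range_fromSpec]; exact hxU
    obtain ⟨y, rfl⟩ := hx'
    obtain ⟨q, hq⟩ := (hφU U).surjective (a, y)
    refine ⟨ιU U q, ?_⟩
    rw [hcomm, hq]; rfl

end sch

end Groth.Agent.Helper3.ProfHomeo
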