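import Mathlib

set_option linter.style.haveILetI false
set_option linter.unusedSectionVars false
set_option linter.unusedVariables false

namespace Groth.Agent.Helper3.ProjCone

universe u

open CategoryTheory CategoryTheory.Limits AlgebraicGeometry HomogeneousLocalization

variable {R A : Type u} [CommRing R] [CommRing A] [Algebra R A] (𝒜 : ℕ → Submodule R A)
  [GradedAlgebra 𝒜]
  {B : Type u} [CommRing B] [Algebra R B] (ℬ : ℕ → Submodule R B) [GradedAlgebra ℬ]

/-- For a surjective graded homomorphism `ψ : ℬ → 𝒜`, the image of `Proj 𝒜 → Proj ℬ` is the set of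
homogeneous primes containing `ker ψ`. -/
theorem range_eq (ψ : ℬ →+*ᵍ 𝒜) (hsurj : Function.Surjective ψ)
    (hψ : HomogeneousIdeal.irrelevant 𝒜 ≤ (HomogeneousIdeal.irrelevant ℬ).map ψ) :
    Set.range (Proj.map ψ hψ).base =
      {q : Proj ℬ | RingHom.ker (ψ : B →+* A) ≤ q.asHomogeneousIdeal.toIdeal} := by
  ext q
  constructor
  · rintro ⟨p, rfl⟩
    intro b hb
    have h0 : ψ b = 0 := hb
    change ψ b ∈ p.asHomogeneousIdeal.toIdeal
    rw [h0]; exact Ideal.zero_mem _
  · intro hkerle
    have hkerle' : RingHom.ker (ψ : B →+* A) ≤ q.asHomogeneousIdeal.toIdeal := hkerle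
    have hsurj' : Function.Surjective (ψ : B →+* A) := hsurj
    have hcomap : (q.asHomogeneousIdeal.toIdeal.map (ψ : B →+* A)).comap (ψ : B →+* A) =
        q.asHomogeneousIdeal.toIdeal := by
      rw [Ideal.comap_map_of_surjective _ hsurj']
      refine le_antisymm (sup_le le_rfl ?_) le_sup_left
      rw [← RingHom.ker_eq_comap_bot]; exact hkerle'
    have hprime : (q.asHomogeneousIdeal.toIdeal.map (ψ : B →+* A)).IsPrime :=
      Ideal.map_isPrime_of_surjective hsurj' hkerle'
    let p : ProjectiveSpectrum 𝒜 :=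
      { asHomogeneousIdeal := q.asHomogeneousIdeal.map ψ
        isPrime := hprime
        not_irrelevant_le := fun hle => q.not_irrelevant_le (by
          intro a ha
          have h1 : ψ a ∈ (HomogeneousIdeal.irrelevant 𝒜) := by
            rw [HomogeneousIdeal.mem_irrelevant_iff, GradedRing.proj_apply,
              ← GradedRingHom.map_directSumDecompose]
            rw [HomogeneousIdeal.mem_irrelevant_iff, GradedRing.proj_apply] at ha
            rw [ha, map_zero]
          have h2 : ψ a ∈ (q.asHomogeneousIdeal.map ψ) := hle h1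
          have h3 : a ∈ (q.asHomogeneousIdeal.toIdeal.map (ψ : B →+* A)).comap (ψ : B →+* A) := h2
          rw [hcomap] at h3
          exact h3) }
    refine ⟨p, ?_⟩
    apply ProjectiveSpectrum.ext
    apply HomogeneousIdeal.toIdeal_injective
    exact hcomap

theorem main [Algebra A B] [IsScalarTower R A B] (φ : 𝒜 →+*ᵍ ℬ) (hφ : ∀ a : A, φ a = algebraMap A B a)
    (z : B) (hz : z ∈ ℬ 1) (hhat : Function.Bijective (Polynomial.aeval (R := A) z))
    (ψ : ℬ →+*ᵍ 𝒜) (hψφ : ∀ a : A, ψ (φ a) = a) (hψz : ψ z = 0)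
    (hψ : HomogeneousIdeal.irrelevant 𝒜 ≤ (HomogeneousIdeal.irrelevant ℬ).map ψ) :
    Set.range (Proj.map ψ hψ).base = ((Proj.basicOpen ℬ z : Set (Proj ℬ)))ᶜ := by
  have hsurj : Function.Surjective ψ := fun a => ⟨φ a, hψφ a⟩
  rw [range_eq 𝒜 ℬ ψ hsurj hψ]
  have heval : ∀ p : Polynomial A, ψ (Polynomial.aeval z p) = p.coeff 0 := by
    intro p
    have : ((ψ : B →+* A).comp (Polynomial.aeval (R := A) z).toRingHom) =
        Polynomial.evalRingHom (0 : A) := by
      apply Polynomial.ringHom_ext
      · intro a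
        simp only [RingHom.coe_comp, Function.comp_apply, AlgHom.toRingHom_eq_coe,
          RingHom.coe_coe, Polynomial.aeval_C, Polynomial.coe_evalRingHom, Polynomial.eval_C]
        rw [← hφ a]; exact hψφ a
      · simp only [RingHom.coe_comp, Function.comp_apply, AlgHom.toRingHom_eq_coe,
          RingHom.coe_coe, Polynomial.aeval_X, Polynomial.coe_evalRingHom, Polynomial.eval_X]
        exact hψz
    have h2 := congrArg (fun f => f p) this
    simp only [RingHom.coe_comp, Function.comp_apply, AlgHom.toRingHom_eq_coe,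
      RingHom.coe_coe, Polynomial.coe_evalRingHom] at h2
    rw [← Polynomial.coeff_zero_eq_eval_zero] at h2
    exact h2
  have hker : RingHom.ker (ψ : B →+* A) = Ideal.span {z} := by
    apply le_antisymm
    · intro b hb
      obtain ⟨p, rfl⟩ := hhat.2 b
      have h0 : ψ (Polynomial.aeval z p) = 0 := hb
      rw [heval] at h0
      obtain ⟨p', rfl⟩ := Polynomial.X_dvd_iff.mpr h0
      rw [map_mul, Polynomial.aeval_X]
      exact Ideal.mul_mem_right _ _ (Ideal.mem_span_singleton_self z)
    · rw [Ideal.span_le, Set.singleton_subset_iff]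
      exact hψz
  ext q
  simp only [Set.mem_setOf_eq, Set.mem_compl_iff, SetLike.mem_coe]
  rw [hker, Ideal.span_le, Set.singleton_subset_iff, Proj.mem_basicOpen, not_not]
  rfl

end Groth.Agent.Helper3.ProjCone
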