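import Mathlib

set_option linter.style.haveILetI false
set_option linter.unusedSectionVars false
set_option linter.unusedVariables false

namespace Groth.Agent.Helper3.ProjConeAff

universe u

open CategoryTheory CategoryTheory.Limits AlgebraicGeometry HomogeneousLocalization

variable {R A : Type u} [CommRing R] [CommRing A] [Algebra R A] (𝒜 : ℕ → Submodule R A)
  [GradedAlgebra 𝒜]
  {B : Type u} [CommRing B] [Algebra R B] (ℬ : ℕ → Submodule R B) [GradedAlgebra ℬ]
  [Algebra A B]

/-- structure of homogeneous elements of `B = A[z]` -/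
theorem structure_lemma (φ : 𝒜 →+*ᵍ ℬ) (hφ : ∀ a : A, φ a = algebraMap A B a)
    (z : B) (hz : z ∈ ℬ 1) (hsurj : Function.Surjective (Polynomial.aeval (R := A) z))
    (n : ℕ) (b : B) (hb : b ∈ ℬ n) :
    ∃ (s : Finset ℕ) (c : ℕ → A), (∀ j ∈ s, j ≤ n ∧ c j ∈ 𝒜 (n - j)) ∧
      b = ∑ j ∈ s, φ (c j) * z ^ j := by
  obtain ⟨p, rfl⟩ := hsurj b
  classical
  refine ⟨(Finset.range (p.natDegree + 1)).filter (· ≤ n),
    fun j => (DirectSum.decompose 𝒜 (p.coeff j) (n - j) : A), ?_, ?_⟩
  · intro j hj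
    exact ⟨(Finset.mem_filter.mp hj).2, SetLike.coe_mem _⟩
  · have h1 : Polynomial.aeval z p = (DirectSum.decompose ℬ (Polynomial.aeval z p) n : B) :=
      (DirectSum.decompose_of_mem_same ℬ hb).symm
    rw [h1, Polynomial.aeval_eq_sum_range, DirectSum.decompose_sum, DFinsupp.finset_sum_apply,
      AddSubmonoidClass.coe_finset_sum, Finset.sum_filter]
    refine Finset.sum_congr rfl fun j _ => ?_
    have hzj : z ^ j ∈ ℬ j := by
      have := SetLike.pow_mem_graded j hz
      simpa using this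
    rw [Algebra.smul_def, ← hφ]
    split_ifs with hjn
    · rw [DirectSum.coe_decompose_mul_of_right_mem_of_le ℬ hzj hjn,
        ← GradedRingHom.map_directSumDecompose]
    · exact DirectSum.coe_decompose_mul_of_right_mem_of_not_le ℬ hzj hjn

/-- a finite sum of elements in pairwise distinct degrees vanishes only if each term does -/
theorem eq_zero_of_sum_eq_zero (n : ℕ) (s : Finset ℕ) (c : ℕ → A)
    (hc : ∀ j ∈ s, j ≤ n ∧ c j ∈ 𝒜 (n - j)) (h0 : ∑ j ∈ s, c j = 0) :
    ∀ j ∈ s, c j = 0 := by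
  intro j₀ hj₀
  have h1 := congrArg (fun x => (DirectSum.decompose 𝒜 x (n - j₀) : A)) h0
  simp only at h1
  rw [DirectSum.decompose_sum, DFinsupp.finset_sum_apply,
    AddSubmonoidClass.coe_finset_sum, DirectSum.decompose_zero, DirectSum.zero_apply,
    ZeroMemClass.coe_zero] at h1
  rw [Finset.sum_eq_single j₀] at h1
  · rwa [DirectSum.decompose_of_mem_same 𝒜 (hc j₀ hj₀).2] at h1
  · intro j hj hne
    apply DirectSum.decompose_of_mem_ne 𝒜 (hc j hj).2
    have := (hc j hj).1
    have := (hc j₀ hj₀).1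
    omega
  · intro h; exact absurd hj₀ h

theorem main [IsScalarTower R A B] (φ : 𝒜 →+*ᵍ ℬ) (hφ : ∀ a : A, φ a = algebraMap A B a)
    (z : B) (hz : z ∈ ℬ 1) (hhat : Function.Bijective (Polynomial.aeval (R := A) z)) :
    ∃ θ : A ≃+* HomogeneousLocalization.Away ℬ z,
      ∀ (n : ℕ) (a : A), a ∈ 𝒜 n → (θ a).val =
        Localization.mk (φ a) ⟨z ^ n, pow_mem (Submonoid.mem_powers z) n⟩ := by
  classical
  let e : Polynomial A ≃ₐ[A] B := AlgEquiv.ofBijective (Polynomial.aeval (R := A) z) hhat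
  let ev : B →+* A := (Polynomial.evalRingHom (1 : A)).comp (e.symm : B →+* Polynomial A)
  have hevφ : ∀ a : A, ev (φ a) = a := by
    intro a
    have : e.symm (φ a) = Polynomial.C a := by
      rw [AlgEquiv.symm_apply_eq, hφ]
      change _ = Polynomial.aeval z (Polynomial.C a)
      rw [Polynomial.aeval_C]
    change Polynomial.eval 1 (e.symm (φ a)) = a
    rw [this, Polynomial.eval_C]
  have hevz : ev z = 1 := by
    have : e.symm z = Polynomial.X := by
      rw [AlgEquiv.symm_apply_eq]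
      change _ = Polynomial.aeval z Polynomial.X
      rw [Polynomial.aeval_X]
    change Polynomial.eval 1 (e.symm z) = 1
    rw [this, Polynomial.eval_X]
  have hunit : IsUnit (ev z) := by rw [hevz]; exact isUnit_one
  let ψ : Localization.Away z →+* A := IsLocalization.Away.lift z hunit
  let ρ : Away ℬ z →+* A := ψ.comp (algebraMap (Away ℬ z) (Localization.Away z))
  have hρmk : ∀ (n : ℕ) (b : B) (hb : b ∈ ℬ (n • 1)), ρ (Away.mk ℬ hz n b hb) = ev b := by
    intro n b hb
    change ψ (HomogeneousLocalization.val (Away.mk ℬ hz n b hb)) = ev b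
    rw [Away.val_mk, Localization.mk_eq_mk']
    have h1 := IsLocalization.mk'_spec (Localization.Away z) b
      (⟨z ^ n, n, rfl⟩ : Submonoid.powers z)
    have h2 := congrArg ψ h1
    rw [map_mul, IsLocalization.Away.lift_eq, IsLocalization.Away.lift_eq, map_pow, hevz, one_pow,
      mul_one] at h2
    exact h2
  have hmemφ : ∀ (n : ℕ) (a : A), a ∈ 𝒜 n → φ a ∈ ℬ (n • 1) := by
    intro n a ha
    have := φ.2 ha
    simpa using this
  have hinj : Function.Injective ρ := by
    rw [injective_iff_map_eq_zero]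
    intro w hw
    obtain ⟨n, b, hb, rfl⟩ := Away.mk_surjective ℬ hz w
    rw [hρmk] at hw
    have hb' : b ∈ ℬ n := by simpa using hb
    obtain ⟨s, c, hc, rfl⟩ := structure_lemma 𝒜 ℬ φ hφ z hz hhat.2 n b hb'
    have h0 : ∑ j ∈ s, c j = 0 := by
      rw [map_sum] at hw
      rw [← hw]
      refine Finset.sum_congr rfl fun j _ => ?_
      rw [map_mul, map_pow, hevφ, hevz, one_pow, mul_one]
    have hall := eq_zero_of_sum_eq_zero 𝒜 n s c hc h0
    have hzero : ∑ j ∈ s, φ (c j) * z ^ j = 0 := by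
      refine Finset.sum_eq_zero fun j hj => ?_
      rw [hall j hj, map_zero, zero_mul]
    apply HomogeneousLocalization.val_injective
    rw [Away.val_mk, val_zero]
    simp only [hzero]
    exact Localization.mk_zero _
  have hsurj : Function.Surjective ρ := by
    intro a
    refine ⟨∑ n ∈ (DirectSum.decompose 𝒜 a).support,
      Away.mk ℬ hz n (φ (DirectSum.decompose 𝒜 a n : A)) (hmemφ n _ (SetLike.coe_mem _)), ?_⟩
    rw [map_sum]
    conv_rhs => rw [← DirectSum.sum_support_decompose 𝒜 a]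
    refine Finset.sum_congr rfl fun n _ => ?_
    rw [hρmk, hevφ]
  let θ' : Away ℬ z ≃+* A := RingEquiv.ofBijective ρ ⟨hinj, hsurj⟩
  refine ⟨θ'.symm, ?_⟩
  intro n a ha
  have : θ'.symm a = Away.mk ℬ hz n (φ a) (hmemφ n a ha) := by
    rw [RingEquiv.symm_apply_eq]
    change a = ρ _
    rw [hρmk, hevφ]
  rw [this, Away.val_mk]

end Groth.Agent.Helper3.ProjConeAff
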