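import Mathlib
import Groth.Agent.Helper8.ProjRed
set_option linter.style.haveILetI false
set_option linter.unusedSectionVars false
set_option linter.unusedVariables false

namespace Groth.Agent.Helper3.ProjInt
open AlgebraicGeometry CategoryTheory

universe u

variable {R A : Type u} [CommRing R] [CommRing A] [Algebra R A] (𝒜 : ℕ → Submodule R A)
  [GradedAlgebra 𝒜]

/-- a non-nilpotent element of the irrelevant ideal is nonzero at some point of `Proj`. -/
theorem exists_notMem (c : A) (hc : c ∈ (HomogeneousIdeal.irrelevant 𝒜).toIdeal)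
    (hn : ¬ IsNilpotent c) : ∃ z : ProjectiveSpectrum 𝒜, c ∉ z.asHomogeneousIdeal := by
  rw [nilpotent_iff_mem_prime] at hn
  push Not at hn
  obtain ⟨J, hJ, hcJ⟩ := hn
  have hprime : (J.homogeneousCore 𝒜).toIdeal.IsPrime := hJ.homogeneousCore
  have hc' : c ∉ (J.homogeneousCore 𝒜).toIdeal :=
    fun h => hcJ (Ideal.toIdeal_homogeneousCore_le 𝒜 J h)
  have hnot : ¬ HomogeneousIdeal.irrelevant 𝒜 ≤ J.homogeneousCore 𝒜 := fun hle => hc' (hle hc)
  exact ⟨⟨J.homogeneousCore 𝒜, hprime, hnot⟩, hc'⟩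

theorem main
    (hred : ∀ f ∈ (HomogeneousIdeal.irrelevant 𝒜).toIdeal, IsNilpotent f → f = 0) :
    AlgebraicGeometry.IsIntegral (Proj 𝒜) ↔
      ((∃ f ∈ (HomogeneousIdeal.irrelevant 𝒜).toIdeal, f ≠ 0) ∧
        ∀ f ∈ (HomogeneousIdeal.irrelevant 𝒜).toIdeal,
          ∀ g ∈ (HomogeneousIdeal.irrelevant 𝒜).toIdeal,
          f * g = 0 → f = 0 ∨ g = 0) := by
  constructor
  · intro hint
    haveI := hint
    haveI : IrreducibleSpace (Proj 𝒜) := inferInstance
    constructor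
    · obtain ⟨x⟩ : Nonempty (Proj 𝒜) := inferInstance
      let y : ProjectiveSpectrum 𝒜 := x
      have := y.not_irrelevant_le
      obtain ⟨f, hf, hfy⟩ := SetLike.not_le_iff_exists.mp this
      refine ⟨f, hf, ?_⟩
      rintro rfl
      exact hfy (zero_mem _)
    · intro f hf g hg hfg
      by_contra hcon
      push Not at hcon
      obtain ⟨hf0, hg0⟩ := hcon
      obtain ⟨z1, hz1⟩ := exists_notMem 𝒜 f hf (fun h => hf0 (hred f hf h))
      obtain ⟨z2, hz2⟩ := exists_notMem 𝒜 g hg (fun h => hg0 (hred g hg h))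
      have h1 : ((ProjectiveSpectrum.basicOpen 𝒜 f : Set (ProjectiveSpectrum 𝒜))).Nonempty :=
        ⟨z1, hz1⟩
      have h2 : ((ProjectiveSpectrum.basicOpen 𝒜 g : Set (ProjectiveSpectrum 𝒜))).Nonempty :=
        ⟨z2, hz2⟩
      have hirr : IrreducibleSpace (ProjectiveSpectrum 𝒜) := ‹IrreducibleSpace (Proj 𝒜)›
      haveI := hirr.toPreirreducibleSpace
      obtain ⟨z, hzf, hzg⟩ := nonempty_preirreducible_inter
        (ProjectiveSpectrum.basicOpen 𝒜 f).2 (ProjectiveSpectrum.basicOpen 𝒜 g).2 h1 h2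
      have hz : z ∈ ProjectiveSpectrum.basicOpen 𝒜 (f * g) := by
        rw [ProjectiveSpectrum.basicOpen_mul]; exact ⟨hzf, hzg⟩
      rw [hfg, ProjectiveSpectrum.basicOpen_zero] at hz
      exact hz
  · rintro ⟨⟨f₀, hf₀, hf₀ne⟩, hdom⟩
    rw [isIntegral_iff_irreducibleSpace_and_isReduced]
    refine ⟨?_, Groth.Agent.Helper8.ProjRed.main 𝒜 hred⟩
    obtain ⟨z₀, -⟩ := exists_notMem 𝒜 f₀ hf₀ (fun h => hf₀ne (hred f₀ hf₀ h))
    haveI : Nonempty (ProjectiveSpectrum 𝒜) := ⟨z₀⟩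
    suffices h : IrreducibleSpace (ProjectiveSpectrum 𝒜) from h
    suffices hpre : PreirreducibleSpace (ProjectiveSpectrum 𝒜) from
      { toPreirreducibleSpace := hpre, toNonempty := ⟨z₀⟩ }
    refine ⟨?_⟩
    rintro u v hu hv ⟨x, -, hxu⟩ ⟨y, -, hyv⟩
    -- basic opens inside
    obtain ⟨_, ⟨a, rfl⟩, hxa, hau⟩ :=
      (ProjectiveSpectrum.isTopologicalBasis_basic_opens 𝒜).exists_subset_of_mem_open hxu hu
    obtain ⟨_, ⟨b, rfl⟩, hyb, hbv⟩ :=
      (ProjectiveSpectrum.isTopologicalBasis_basic_opens 𝒜).exists_subset_of_mem_open hyv hv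
    obtain ⟨f, hf, hfx⟩ := SetLike.not_le_iff_exists.mp x.not_irrelevant_le
    obtain ⟨g, hg, hgy⟩ := SetLike.not_le_iff_exists.mp y.not_irrelevant_le
    have hax : a ∉ x.asHomogeneousIdeal := hxa
    have hby : b ∉ y.asHomogeneousIdeal := hyb
    have hafx : a * f ∉ x.asHomogeneousIdeal.toIdeal := fun h =>
      (x.isPrime.mem_or_mem h).elim hax hfx
    have hbgy : b * g ∉ y.asHomogeneousIdeal.toIdeal := fun h =>
      (y.isPrime.mem_or_mem h).elim hby hgy
    have haf : a * f ∈ (HomogeneousIdeal.irrelevant 𝒜).toIdeal := Ideal.mul_mem_left _ _ hf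
    have hbg : b * g ∈ (HomogeneousIdeal.irrelevant 𝒜).toIdeal := Ideal.mul_mem_left _ _ hg
    have haf0 : a * f ≠ 0 := fun h => hafx (h ▸ zero_mem _)
    have hbg0 : b * g ≠ 0 := fun h => hbgy (h ▸ zero_mem _)
    have hc0 : (a * f) * (b * g) ≠ 0 := fun h => (hdom _ haf _ hbg h).elim haf0 hbg0
    have hc : (a * f) * (b * g) ∈ (HomogeneousIdeal.irrelevant 𝒜).toIdeal :=
      Ideal.mul_mem_left _ _ hbg
    obtain ⟨z, hz⟩ := exists_notMem 𝒜 _ hc (fun h => hc0 (hred _ hc h))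
    refine ⟨z, trivial, hau ?_, hbv ?_⟩
    · show a ∉ z.asHomogeneousIdeal
      intro h
      apply hz
      have : (a * f) * (b * g) = a * (f * (b * g)) := by ring
      rw [this]
      exact Ideal.mul_mem_right _ _ h
    · show b ∉ z.asHomogeneousIdeal
      intro h
      apply hz
      have : (a * f) * (b * g) = b * (g * (a * f)) := by ring
      rw [this]
      exact Ideal.mul_mem_right _ _ h

end Groth.Agent.Helper3.ProjInt
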