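import Mathlib
import Groth.Agent.Helper8.ProjMapAff

set_option linter.style.haveILetI false
set_option linter.unusedSectionVars false
set_option linter.unusedVariables false

namespace Groth.Agent.Helper3.ProjIsoPos

universe u

open CategoryTheory CategoryTheory.Limits AlgebraicGeometry HomogeneousLocalization

variable {R A : Type u} [CommRing R] [CommRing A] [Algebra R A] (𝒜 : ℕ → Submodule R A)
  [GradedAlgebra 𝒜]
  {B : Type u} [CommRing B] [Algebra R B] (ℬ : ℕ → Submodule R B) [GradedAlgebra ℬ]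

theorem away_map_bijective (φ : ℬ →+*ᵍ 𝒜) (hbij : ∀ n : ℕ, 0 < n → Set.BijOn φ (ℬ n) (𝒜 n))
    (s : B) (d : ℕ) (hd : 0 < d) (hs : s ∈ ℬ d) : Function.Bijective (Away.map φ s) := by
  constructor
  · rw [injective_iff_map_eq_zero]
    intro z hz
    obtain ⟨n, b, hb, rfl⟩ := Away.mk_surjective ℬ hs z
    rw [Away.map_mk] at hz
    have h1 := congrArg HomogeneousLocalization.val hz
    rw [Away.val_mk, val_zero, Localization.mk_eq_mk', IsLocalization.mk'_eq_zero_iff] at h1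
    obtain ⟨⟨m, j, rfl⟩, hm⟩ := h1
    have hm' : φ s ^ j * φ b = 0 := hm
    have hmem : s ^ (j + 1) * b ∈ ℬ ((j + 1) • d + n • d) :=
      SetLike.mul_mem_graded (SetLike.pow_mem_graded _ hs) hb
    have hpos : 0 < (j + 1) • d + n • d := by
      have : 0 < (j + 1) • d := by simp [hd]
      omega
    have hzero : φ (s ^ (j + 1) * b) = φ 0 := by
      rw [map_mul, map_pow, map_zero, pow_succ, mul_comm (φ s ^ j), mul_assoc, hm', mul_zero]
    have := (hbij _ hpos).injOn hmem (zero_mem _) hzero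
    apply HomogeneousLocalization.val_injective
    rw [Away.val_mk, val_zero, Localization.mk_eq_mk', IsLocalization.mk'_eq_zero_iff]
    exact ⟨⟨s ^ (j + 1), j + 1, rfl⟩, this⟩
  · intro w
    obtain ⟨n, a, ha, rfl⟩ := Away.mk_surjective 𝒜 (φ.2 hs) w
    have hmem : φ s * a ∈ 𝒜 ((n + 1) • d) := by
      have : (n + 1) • d = d + n • d := by simp [add_mul, add_comm]
      rw [this]
      exact SetLike.mul_mem_graded (φ.2 hs) ha
    have hpos : 0 < (n + 1) • d := by simp [hd]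
    obtain ⟨b, hb, hb'⟩ := (hbij _ hpos).surjOn hmem
    refine ⟨Away.mk ℬ hs (n + 1) b hb, ?_⟩
    rw [Away.map_mk]
    apply HomogeneousLocalization.val_injective
    rw [Away.val_mk, Away.val_mk, Localization.mk_eq_mk_iff, Localization.r_iff_exists]
    refine ⟨1, ?_⟩
    simp only [OneMemClass.coe_one, one_mul]
    rw [hb', pow_succ]
    change φ s ^ n * (φ s * a) = φ s ^ n * φ s * a
    ring

theorem app_isIso (φ : ℬ →+*ᵍ 𝒜) (hbij : ∀ n : ℕ, 0 < n → Set.BijOn φ (ℬ n) (𝒜 n))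
    (hφ : HomogeneousIdeal.irrelevant 𝒜 ≤ (HomogeneousIdeal.irrelevant ℬ).map φ)
    (s : B) (d : ℕ) (hd : 0 < d) (hs : s ∈ ℬ d) :
    IsIso ((Proj.map φ hφ).app (Proj.basicOpen ℬ s)) := by
  have h1 := Proj.awayToSection_comp_appLE φ hφ hs
  have hisoℬ : IsIso (Proj.awayToSection ℬ s) :=
    (Proj.basicOpenIsoAway ℬ s hs hd).isIso_hom
  have hiso𝒜 : IsIso (Proj.awayToSection 𝒜 (φ s)) :=
    (Proj.basicOpenIsoAway 𝒜 (φ s) (φ.2 hs) hd).isIso_hom
  have hmid : IsIso (CommRingCat.ofHom (Away.map φ s : Away ℬ s →+* Away 𝒜 (φ s))) :=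
    (RingEquiv.ofBijective _ (away_map_bijective 𝒜 ℬ φ hbij s d hd hs)).toCommRingCatIso.isIso_hom
  have h2 : Scheme.Hom.appLE (Proj.map φ hφ) (Proj.basicOpen ℬ s) (Proj.basicOpen 𝒜 (φ s))
      (by rfl) =
      inv (Proj.awayToSection ℬ s) ≫ CommRingCat.ofHom (Away.map φ s) ≫
        Proj.awayToSection 𝒜 (φ s) := by
    rw [← h1, IsIso.inv_hom_id_assoc]
  have h3 : (Proj.map φ hφ).app (Proj.basicOpen ℬ s) =
      Scheme.Hom.appLE (Proj.map φ hφ) (Proj.basicOpen ℬ s)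
        (Proj.map φ hφ ⁻¹ᵁ Proj.basicOpen ℬ s) le_rfl := (Scheme.Hom.appLE_eq_app _).symm
  rw [h3]
  change IsIso (Scheme.Hom.appLE (Proj.map φ hφ) (Proj.basicOpen ℬ s)
    (Proj.basicOpen 𝒜 (φ s)) (by rfl))
  rw [h2]
  infer_instance

theorem main (φ : ℬ →+*ᵍ 𝒜) (hbij : ∀ n : ℕ, 0 < n → Set.BijOn φ (ℬ n) (𝒜 n))
    (hφ : HomogeneousIdeal.irrelevant 𝒜 ≤ (HomogeneousIdeal.irrelevant ℬ).map φ) :
    CategoryTheory.IsIso (Proj.map φ hφ) := by
  let U : (Σ i : ℕ+, ℬ i) → (Proj ℬ).affineOpens := fun i =>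
    ⟨Proj.basicOpen ℬ (i.2 : B), Proj.isAffineOpen_basicOpen ℬ (i.2 : B) i.2.2 i.1.2⟩
  have hU : ⨆ i, (U i : (Proj ℬ).Opens) = ⊤ := by
    refine top_le_iff.mp fun x _ => TopologicalSpace.Opens.mem_iSup.mpr ?_
    obtain ⟨s, d, hd, hs, hx⟩ := Groth.Agent.Helper8.ProjMapAff.exists_basicOpen ℬ x
    exact ⟨⟨⟨d, hd⟩, ⟨s, hs⟩⟩, hx⟩
  change MorphismProperty.isomorphisms Scheme (Proj.map φ hφ)
  rw [HasAffineProperty.iff_of_iSup_eq_top (P := MorphismProperty.isomorphisms Scheme) U hU]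
  intro i
  refine ⟨?_, ?_⟩
  · have : IsAffineOpen (Proj.map φ hφ ⁻¹ᵁ (U i : (Proj ℬ).Opens)) := by
      change IsAffineOpen (Proj.map φ hφ ⁻¹ᵁ Proj.basicOpen ℬ (i.2 : B))
      rw [Proj.map_preimage_basicOpen]
      exact Proj.isAffineOpen_basicOpen 𝒜 (φ i.2) (φ.2 i.2.2) i.1.2
    exact this
  · rw [morphismRestrict_appTop]
    have key : ∀ (W : (Proj ℬ).Opens), W = Proj.basicOpen ℬ (i.2 : B) →
        IsIso ((Proj.map φ hφ).app W) := by
      rintro W rfl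
      exact app_isIso 𝒜 ℬ φ hbij hφ (i.2 : B) i.1 i.1.2 i.2.2
    have hiso : ∀ {V W : (Proj 𝒜).Opens} (h : V = W),
        IsIso ((Proj 𝒜).presheaf.map (eqToHom h).op) := by
      intro V W h
      subst h
      rw [eqToHom_refl, op_id, CategoryTheory.Functor.map_id]
      infer_instance
    have h1 := key _ (Scheme.Opens.ι_image_top (U i : (Proj ℬ).Opens))
    have hcomp : ∀ {X Y Z : CommRingCat.{u}} (f : X ⟶ Y) (g : Y ⟶ Z), IsIso f → IsIso g →
        IsIso (f ≫ g) := fun f g _ _ => inferInstance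
    exact hcomp _ _ h1 (hiso _)

end Groth.Agent.Helper3.ProjIsoPos
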