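import Mathlib
import Groth.Agent.Helper8.ProjClosed
import Groth.Agent.Helper8.ProjRed

set_option linter.style.haveILetI false
set_option linter.unusedSectionVars false
set_option linter.unusedVariables false

namespace Groth.Agent.Helper3.ProjRedQuot

universe u

open CategoryTheory CategoryTheory.Limits AlgebraicGeometry HomogeneousLocalization

variable {R A : Type u} [CommRing R] [CommRing A] [Algebra R A] (𝒜 : ℕ → Submodule R A)
  [GradedAlgebra 𝒜]
  {B : Type u} [CommRing B] [Algebra R B] (ℬ : ℕ → Submodule R B) [GradedAlgebra ℬ]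

theorem hred (φ : 𝒜 →+*ᵍ ℬ) (hsurj : Function.Surjective φ)
    (hker : ∀ a : A, φ a = 0 ↔ a ∈ (HomogeneousIdeal.irrelevant 𝒜).toIdeal ∧ IsNilpotent a) :
    ∀ f ∈ (HomogeneousIdeal.irrelevant ℬ).toIdeal, IsNilpotent f → f = 0 := by
  intro b hb hnil
  obtain ⟨a, rfl⟩ := hsurj b
  set a0 : A := (DirectSum.decompose 𝒜 a 0 : A) with ha0
  have hφa0 : φ a0 = 0 := by
    rw [ha0, GradedRingHom.map_directSumDecompose]
    have : φ a ∈ HomogeneousIdeal.irrelevant ℬ := hb
    rw [HomogeneousIdeal.mem_irrelevant_iff, GradedRing.proj_apply] at this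
    exact this
  have hmem : a - a0 ∈ (HomogeneousIdeal.irrelevant 𝒜).toIdeal := by
    change a - a0 ∈ HomogeneousIdeal.irrelevant 𝒜
    rw [HomogeneousIdeal.mem_irrelevant_iff, GradedRing.proj_apply, DirectSum.decompose_sub,
      DirectSum.sub_apply, AddSubgroupClass.coe_sub, ha0,
      DirectSum.decompose_of_mem_same 𝒜 (SetLike.coe_mem _), sub_self]
  have hφ' : φ (a - a0) = φ a := by rw [map_sub, hφa0, sub_zero]
  obtain ⟨n, hn⟩ := hnil
  have h1 : φ ((a - a0) ^ n) = 0 := by rw [map_pow, hφ', hn]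
  have h2 := ((hker _).mp h1).2
  have h3 : IsNilpotent (a - a0) := by
    obtain ⟨m, hm⟩ := h2
    exact ⟨n * m, by rw [pow_mul, hm]⟩
  rw [← hφ']
  exact (hker _).mpr ⟨hmem, h3⟩

theorem surj (φ : 𝒜 →+*ᵍ ℬ) (hsurj : Function.Surjective φ)
    (hker : ∀ a : A, φ a = 0 ↔ a ∈ (HomogeneousIdeal.irrelevant 𝒜).toIdeal ∧ IsNilpotent a)
    (hφ : HomogeneousIdeal.irrelevant ℬ ≤ (HomogeneousIdeal.irrelevant 𝒜).map φ) :
    Function.Surjective (Proj.map φ hφ).base := by
  intro p
  have hkerle : RingHom.ker (φ : A →+* B) ≤ p.asHomogeneousIdeal.toIdeal := by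
    intro a ha
    have h0 : φ a = 0 := ha
    obtain ⟨n, hn⟩ := ((hker a).mp h0).2
    exact p.isPrime.mem_of_pow_mem n (hn ▸ Ideal.zero_mem _)
  have hsurj' : Function.Surjective (φ : A →+* B) := hsurj
  have hcomap : (p.asHomogeneousIdeal.toIdeal.map (φ : A →+* B)).comap (φ : A →+* B) =
      p.asHomogeneousIdeal.toIdeal := by
    rw [Ideal.comap_map_of_surjective _ hsurj']
    refine le_antisymm (sup_le le_rfl ?_) le_sup_left
    rw [← RingHom.ker_eq_comap_bot]; exact hkerle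
  have hprime : (p.asHomogeneousIdeal.toIdeal.map (φ : A →+* B)).IsPrime :=
    Ideal.map_isPrime_of_surjective hsurj' hkerle
  let q : ProjectiveSpectrum ℬ :=
    { asHomogeneousIdeal := p.asHomogeneousIdeal.map φ
      isPrime := hprime
      not_irrelevant_le := fun hle => p.not_irrelevant_le (by
        intro a ha
        have h1 : φ a ∈ (HomogeneousIdeal.irrelevant ℬ) := by
          rw [HomogeneousIdeal.mem_irrelevant_iff, GradedRing.proj_apply,
            ← GradedRingHom.map_directSumDecompose]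
          rw [HomogeneousIdeal.mem_irrelevant_iff, GradedRing.proj_apply] at ha
          rw [ha, map_zero]
        have h2 : φ a ∈ (p.asHomogeneousIdeal.map φ) := hle h1
        have h3 : a ∈ (p.asHomogeneousIdeal.toIdeal.map (φ : A →+* B)).comap (φ : A →+* B) := h2
        rw [hcomap] at h3
        exact h3) }
  refine ⟨q, ?_⟩
  apply ProjectiveSpectrum.ext
  apply HomogeneousIdeal.toIdeal_injective
  exact hcomap

theorem main (φ : 𝒜 →+*ᵍ ℬ) (hsurj : Function.Surjective φ)
    (hker : ∀ a : A, φ a = 0 ↔ a ∈ (HomogeneousIdeal.irrelevant 𝒜).toIdeal ∧ IsNilpotent a)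
    (hφ : HomogeneousIdeal.irrelevant ℬ ≤ (HomogeneousIdeal.irrelevant 𝒜).map φ) :
    IsClosedImmersion (Proj.map φ hφ) ∧ IsHomeomorph (Proj.map φ hφ).base ∧
      AlgebraicGeometry.IsReduced (Proj ℬ) := by
  have hcl := Groth.Agent.Helper8.ProjClosed.main 𝒜 ℬ φ hsurj hφ
  refine ⟨hcl, ?_, Groth.Agent.Helper8.ProjRed.main ℬ (hred 𝒜 ℬ φ hsurj hker)⟩
  rw [isHomeomorph_iff_isEmbedding_surjective]
  exact ⟨(Proj.map φ hφ).isClosedEmbedding.isEmbedding, surj 𝒜 ℬ φ hsurj hker hφ⟩

end Groth.Agent.Helper3.ProjRedQuot
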