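import Mathlib

set_option autoImplicit false

namespace Groth.Agent.Helper3.PseudoFilt

open CategoryTheory Limits

universe v

variable {I : Type v} [SmallCategory I]
  (h1 : ∀ ⦃w x y : I⦄ (a : w ⟶ x) (b : w ⟶ y), ∃ (z : I) (c : x ⟶ z) (d : y ⟶ z), a ≫ c = b ≫ d)
  (h2 : ∀ ⦃x y : I⦄ (a b : x ⟶ y), ∃ (z : I) (c : y ⟶ z), a ≫ c = b ≫ c)

/-- having a common upper bound -/
def R (x y : I) : Prop := ∃ z : I, Nonempty (x ⟶ z) ∧ Nonempty (y ⟶ z)

lemma R_refl (x : I) : R x x := ⟨x, ⟨𝟙 x⟩, ⟨𝟙 x⟩⟩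

lemma R_symm {x y : I} (h : R x y) : R y x := by
  obtain ⟨z, a, b⟩ := h
  exact ⟨z, b, a⟩

include h1 in
lemma R_trans {x y z : I} (hxy : R x y) (hyz : R y z) : R x z := by
  obtain ⟨k, ⟨a⟩, ⟨b⟩⟩ := hxy
  obtain ⟨k', ⟨b'⟩, ⟨c⟩⟩ := hyz
  obtain ⟨l, p, q, -⟩ := h1 b b'
  exact ⟨l, ⟨a ≫ p⟩, ⟨c ≫ q⟩⟩

include h1 in
/-- a finite family of objects all related to a base object has a common upper bound -/
lemma exists_ub {A : Type*} (s : Finset A) (i : A → I) (i0 : I) (hR : ∀ a, R i0 (i a)) :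
    ∃ l : I, Nonempty (i0 ⟶ l) ∧ ∀ a ∈ s, Nonempty (i a ⟶ l) := by
  classical
  induction s using Finset.induction_on with
  | empty => exact ⟨i0, ⟨𝟙 i0⟩, by simp⟩
  | insert a s _ ih =>
    obtain ⟨l, ⟨e0⟩, hl⟩ := ih
    obtain ⟨z, ⟨p⟩, ⟨q⟩⟩ := hR a
    obtain ⟨l', c, d, -⟩ := h1 e0 p
    refine ⟨l', ⟨e0 ≫ c⟩, ?_⟩
    intro b hb
    rcases Finset.mem_insert.1 hb with rfl | hb
    · exact ⟨q ≫ d⟩
    · obtain ⟨e⟩ := hl b hb
      exact ⟨e ≫ c⟩

include h1 in
/-- merging finitely many maps out of `k` -/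
lemma exists_merge {A : Type*} (s : Finset A) (k : I) (t : A → I) (m : ∀ a, k ⟶ t a) :
    ∃ (l : I) (m0 : k ⟶ l), ∀ a ∈ s, ∃ n : t a ⟶ l, m a ≫ n = m0 := by
  classical
  induction s using Finset.induction_on with
  | empty => exact ⟨k, 𝟙 k, by simp⟩
  | insert a s _ ih =>
    obtain ⟨l, m0, hl⟩ := ih
    obtain ⟨l', c, d, hcd⟩ := h1 m0 (m a)
    refine ⟨l', m0 ≫ c, ?_⟩
    intro b hb
    rcases Finset.mem_insert.1 hb with rfl | hb
    · exact ⟨d, hcd.symm⟩
    · obtain ⟨n, hn⟩ := hl b hb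
      exact ⟨n ≫ c, by rw [← Category.assoc, hn]⟩

section Eq

variable (G : I ⥤ Type v)

/-- the explicit relation on representatives -/
def E (p q : Σ i, G.obj i) : Prop :=
  ∃ (k : I) (f : p.1 ⟶ k) (g : q.1 ⟶ k), G.map f p.2 = G.map g q.2

include h1 in
lemma E_equiv : Equivalence (E G) where
  refl p := ⟨p.1, 𝟙 _, 𝟙 _, rfl⟩
  symm := by
    rintro p q ⟨k, f, g, h⟩
    exact ⟨k, g, f, h.symm⟩
  trans := by
    rintro p q r ⟨k, f, g, h⟩ ⟨k', f', g', h'⟩
    obtain ⟨l, c, d, hcd⟩ := h1 g f'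
    refine ⟨l, f ≫ c, g' ≫ d, ?_⟩
    rw [Functor.map_comp, Functor.map_comp]
    change G.map c (G.map f p.2) = G.map d (G.map g' r.2)
    rw [h, ← h']
    change (G.map g ≫ G.map c) q.2 = (G.map f' ≫ G.map d) q.2
    rw [← Functor.map_comp, ← Functor.map_comp, hcd]

include h1 in
lemma eq_iff {i i' : I} (x : G.obj i) (y : G.obj i') :
    colimit.ι G i x = colimit.ι G i' y ↔
      ∃ (k : I) (f : i ⟶ k) (g : i' ⟶ k), G.map f x = G.map g y := by
  constructor
  · intro h
    have h' := Types.colimit_eq h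
    have : ∀ p q, Relation.EqvGen G.ColimitTypeRel p q → E G p q := by
      intro p q hpq
      induction hpq with
      | rel p q hpq =>
        obtain ⟨f, hf⟩ := hpq
        exact ⟨q.1, f, 𝟙 _, by rw [hf]; simp⟩
      | refl p => exact (E_equiv h1 G).refl p
      | symm p q _ ih => exact (E_equiv h1 G).symm ih
      | trans p q r _ _ ih1 ih2 => exact (E_equiv h1 G).trans ih1 ih2
    exact this _ _ h'
  · rintro ⟨k, f, g, h⟩
    exact Types.colimit_sound' f g h

end Eq


lemma map_ι {F G : I ⥤ Type v} (α : F ⟶ G) (i : I) (x : F.obj i) :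
    colim.map α (colimit.ι F i x) = colimit.ι G i (α.app i x) :=
  ConcreteCategory.congr_hom (colimit.ι_map α i) x

section Main

variable {J : Type} [SmallCategory J] [FinCategory J] [IsConnected J]
  (K : J ⥤ I ⥤ Type v) (c : Cone K) (hc : IsLimit c)

include hc in
/-- elements of the limit presheaf are determined by their components -/
lemma pt_ext {i : I} (x y : c.pt.obj i)
    (h : ∀ j, (c.π.app j).app i x = (c.π.app j).app i y) : x = y := by
  have hl := isLimitOfPreserves ((evaluation I (Type v)).obj i) hc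
  have := (Types.isLimit_iff _).1 ⟨hl⟩
    (fun j => (c.π.app j).app i y) (by
      intro j j' a
      have := ConcreteCategory.congr_hom (NatTrans.congr_app (c.w a) i) y
      exact this)
  obtain ⟨t, -, ht⟩ := this
  rw [ht x h, ht y (fun _ => rfl)]

include hc in
/-- existence of elements of the limit presheaf with given components -/
lemma pt_exists {i : I} (z : ∀ j, (K.obj j).obj i)
    (hz : ∀ {j j' : J} (a : j ⟶ j'), (K.map a).app i (z j) = z j') :
    ∃ x : c.pt.obj i, ∀ j, (c.π.app j).app i x = z j := by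
  have hl := isLimitOfPreserves ((evaluation I (Type v)).obj i) hc
  have := (Types.isLimit_iff _).1 ⟨hl⟩ z (by
    intro j j' a
    exact hz a)
  obtain ⟨t, ht, -⟩ := this
  exact ⟨t, ht⟩

lemma map_π_ι (j : J) (i : I) (x : c.pt.obj i) :
    colim.map (c.π.app j) (colimit.ι c.pt i x) =
      colimit.ι (K.obj j) i ((c.π.app j).app i x) :=
  map_ι (F := c.pt) (G := K.obj j) (c.π.app j) i x

include h1 h2 hc in
lemma uniq (X Y : colimit c.pt)
    (h : ∀ j, colim.map (c.π.app j) X = colim.map (c.π.app j) Y) : X = Y := by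
  classical
  obtain ⟨i, x, rfl⟩ := Types.jointly_surjective' X
  obtain ⟨i', y, rfl⟩ := Types.jointly_surjective' Y
  simp only [map_π_ι] at h
  -- reduce to a common index
  obtain ⟨k0, f0, g0, -⟩ := (eq_iff h1 _ _ _).1 (h (Classical.arbitrary J))
  let x' := c.pt.map f0 x
  let y' := c.pt.map g0 y
  have hx : colimit.ι c.pt i x = colimit.ι c.pt k0 x' := (colimit.w_apply c.pt f0 x).symm
  have hy : colimit.ι c.pt i' y = colimit.ι c.pt k0 y' := (colimit.w_apply c.pt g0 y).symm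
  rw [hx, hy]
  have h' : ∀ j, colimit.ι (K.obj j) k0 ((c.π.app j).app k0 x') =
      colimit.ι (K.obj j) k0 ((c.π.app j).app k0 y') := by
    intro j
    have e1 : (c.π.app j).app k0 x' = (K.obj j).map f0 ((c.π.app j).app i x) :=
      ConcreteCategory.congr_hom ((c.π.app j).naturality f0) x
    have e2 : (c.π.app j).app k0 y' = (K.obj j).map g0 ((c.π.app j).app i' y) :=
      ConcreteCategory.congr_hom ((c.π.app j).naturality g0) y
    rw [e1, e2, colimit.w_apply, colimit.w_apply]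
    exact h j
  -- for each j, a map equalizing
  have h'' : ∀ j, ∃ (t : I) (m : k0 ⟶ t),
      (K.obj j).map m ((c.π.app j).app k0 x') = (K.obj j).map m ((c.π.app j).app k0 y') := by
    intro j
    obtain ⟨k, f, g, hfg⟩ := (eq_iff h1 _ _ _).1 (h' j)
    obtain ⟨t, q, hq⟩ := h2 f g
    refine ⟨t, f ≫ q, ?_⟩
    conv_rhs => rw [hq]
    rw [Functor.map_comp, Functor.map_comp]
    change (K.obj j).map q ((K.obj j).map f _) = (K.obj j).map q ((K.obj j).map g _)
    rw [hfg]
  choose t m hm using h''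
  obtain ⟨l, m0, hl⟩ := exists_merge h1 (Finset.univ : Finset J) k0 t m
  have hfin : c.pt.map m0 x' = c.pt.map m0 y' := by
    refine pt_ext K c hc _ _ (fun j => ?_)
    have e1 : (c.π.app j).app l (c.pt.map m0 x') = (K.obj j).map m0 ((c.π.app j).app k0 x') :=
      ConcreteCategory.congr_hom ((c.π.app j).naturality m0) x'
    have e2 : (c.π.app j).app l (c.pt.map m0 y') = (K.obj j).map m0 ((c.π.app j).app k0 y') :=
      ConcreteCategory.congr_hom ((c.π.app j).naturality m0) y'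
    rw [e1, e2]
    obtain ⟨n, hn⟩ := hl j (Finset.mem_univ j)
    rw [← hn, Functor.map_comp]
    change (K.obj j).map n ((K.obj j).map (m j) _) = (K.obj j).map n ((K.obj j).map (m j) _)
    rw [hm j]
  rw [← colimit.w_apply c.pt m0 x', ← colimit.w_apply c.pt m0 y', hfin]


include h1 h2 hc in
lemma exist (s : ∀ j, colimit (K.obj j))
    (hs : ∀ {j j' : J} (a : j ⟶ j'), colim.map (K.map a) (s j) = s j') :
    ∃ X : colimit c.pt, ∀ j, colim.map (c.π.app j) X = s j := by
  classical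
  choose i z hz using fun j => Types.jointly_surjective' (s j)
  -- all indices are related
  have hR0 : ∀ {j j' : J} (a : j ⟶ j'), R (i j) (i j') := by
    intro j j' a
    have := hs a
    rw [← hz j, ← hz j', map_ι] at this
    obtain ⟨k, f, g, -⟩ := (eq_iff h1 _ _ _).1 this
    exact ⟨k, ⟨f⟩, ⟨g⟩⟩
  let j0 : J := Classical.arbitrary J
  have hR : ∀ j, R (i j0) (i j) := by
    intro j
    refine induct_on_objects {j | R (i j0) (i j)} (R_refl _) ?_ j
    intro j₁ j₂ a
    exact ⟨fun h => R_trans h1 h (hR0 a), fun h => R_trans h1 h (R_symm (hR0 a))⟩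
  obtain ⟨l0, -, hl0⟩ := exists_ub h1 (Finset.univ : Finset J) i (i j0) hR
  let e : ∀ j, i j ⟶ l0 := fun j => (hl0 j (Finset.mem_univ j)).some
  let z' : ∀ j, (K.obj j).obj l0 := fun j => (K.obj j).map (e j) (z j)
  have hz' : ∀ j, colimit.ι (K.obj j) l0 (z' j) = s j := by
    intro j
    rw [← hz j]
    exact colimit.w_apply (K.obj j) (e j) (z j)
  -- for each arrow, a map out of l0 making the family compatible
  have harr : ∀ (a : Σ (j j' : J), (j ⟶ j')), ∃ (t : I) (m : l0 ⟶ t),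
      (K.obj a.2.1).map m ((K.map a.2.2).app l0 (z' a.1)) = (K.obj a.2.1).map m (z' a.2.1) := by
    rintro ⟨j, j', a⟩
    have := hs a
    rw [← hz' j, ← hz' j', map_ι] at this
    obtain ⟨k, f, g, hfg⟩ := (eq_iff h1 _ _ _).1 this
    obtain ⟨t, q, hq⟩ := h2 f g
    refine ⟨t, f ≫ q, ?_⟩
    conv_rhs => rw [hq]
    rw [Functor.map_comp, Functor.map_comp]
    change (K.obj j').map q ((K.obj j').map f _) = (K.obj j').map q ((K.obj j').map g _)
    rw [hfg]
  choose t m hm using harr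
  have : Fintype (Σ (j j' : J), (j ⟶ j')) := inferInstance
  obtain ⟨l, m0, hl⟩ := exists_merge h1 (Finset.univ : Finset (Σ (j j' : J), (j ⟶ j'))) l0 t m
  let z'' : ∀ j, (K.obj j).obj l := fun j => (K.obj j).map m0 (z' j)
  have hz'' : ∀ {j j' : J} (a : j ⟶ j'), (K.map a).app l (z'' j) = z'' j' := by
    intro j j' a
    have e1 : (K.map a).app l (z'' j) = (K.obj j').map m0 ((K.map a).app l0 (z' j)) :=
      (ConcreteCategory.congr_hom ((K.map a).naturality m0) (z' j))
    rw [e1]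
    obtain ⟨n, hn⟩ := hl ⟨j, j', a⟩ (Finset.mem_univ _)
    change (K.obj j').map m0 _ = (K.obj j').map m0 _
    rw [← hn, Functor.map_comp]
    change (K.obj j').map n ((K.obj j').map (m ⟨j, j', a⟩) _) =
      (K.obj j').map n ((K.obj j').map (m ⟨j, j', a⟩) _)
    rw [hm ⟨j, j', a⟩]
  obtain ⟨x, hx⟩ := pt_exists K c hc z'' hz''
  refine ⟨colimit.ι c.pt l x, fun j => ?_⟩
  rw [map_π_ι, hx j, ← hz' j]
  exact colimit.w_apply (K.obj j) m0 (z' j)

include h1 h2 in
theorem main : PreservesLimitsOfShape J (colim : (I ⥤ Type v) ⥤ Type v) := by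
  constructor
  intro K
  constructor
  intro c hc
  rw [Types.isLimit_iff]
  intro s hs
  obtain ⟨X, hX⟩ := exist h1 h2 K c hc s (fun a => hs a)
  exact ⟨X, hX, fun Y hY => uniq h1 h2 K c hc Y X (fun j => (hY j).trans (hX j).symm)⟩

end Main

end Groth.Agent.Helper3.PseudoFilt
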