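import Mathlib

open AlgebraicGeometry CategoryTheory CategoryTheory.Limits TopologicalSpace Opposite

universe u

namespace Groth.Agent.Helper3.RatGlue

/-- gluing two morphisms on opens which agree on the intersection -/
theorem glue2 {X Y : Scheme.{u}} (U V : X.Opens) (h : (U : Scheme.{u}) ⟶ Y)
    (v : (V : Scheme.{u}) ⟶ Y)
    (hag : X.homOfLE (inf_le_right : U ⊓ V ≤ V) ≫ v = X.homOfLE (inf_le_left : U ⊓ V ≤ U) ≫ h) :
    ∃ (U' : X.Opens) (hU : U ≤ U') (hV : V ≤ U') (h' : (U' : Scheme.{u}) ⟶ Y),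
      X.homOfLE hU ≫ h' = h ∧ X.homOfLE hV ≫ h' = v ∧
      ∀ (Z : Scheme.{u}) (a b : (U' : Scheme.{u}) ⟶ Z), X.homOfLE hU ≫ a = X.homOfLE hU ≫ b →
        X.homOfLE hV ≫ a = X.homOfLE hV ≫ b → a = b := by
  let W : Bool → X.Opens := fun b => cond b U V
  let 𝒰 := Scheme.Opens.iSupOpenCover W
  let f : ∀ b : Bool, (W b : Scheme.{u}) ⟶ Y := fun b =>
    match b with
    | true => h
    | false => v
  have hUV : ∀ (b b' : Bool), X.homOfLE (inf_le_left : W b ⊓ W b' ≤ W b) ≫ f b =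
      X.homOfLE (inf_le_right : W b ⊓ W b' ≤ W b') ≫ f b' := by
    intro b b'
    cases b <;> cases b'
    · show X.homOfLE (inf_le_left : V ⊓ V ≤ V) ≫ v = X.homOfLE (inf_le_right : V ⊓ V ≤ V) ≫ v
      rfl
    · show X.homOfLE (inf_le_left : V ⊓ U ≤ V) ≫ v = X.homOfLE (inf_le_right : V ⊓ U ≤ U) ≫ h
      have e : V ⊓ U ≤ U ⊓ V := le_of_eq (inf_comm _ _)
      have h1 := congrArg (fun t => X.homOfLE e ≫ t) hag
      simp only [← Category.assoc, Scheme.homOfLE_homOfLE] at h1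
      exact h1
    · show X.homOfLE (inf_le_left : U ⊓ V ≤ U) ≫ h = X.homOfLE (inf_le_right : U ⊓ V ≤ V) ≫ v
      exact hag.symm
    · show X.homOfLE (inf_le_left : U ⊓ U ≤ U) ≫ h = X.homOfLE (inf_le_right : U ⊓ U ≤ U) ≫ h
      rfl
  have hf : ∀ b b' : Bool, pullback.fst (X.homOfLE (le_iSup W b)) (X.homOfLE (le_iSup W b')) ≫ f b =
      pullback.snd _ _ ≫ f b' := by
    intro b b'
    refine (cancel_epi (isPullback_opens_inf_le (le_iSup W b) (le_iSup W b')).isoPullback.hom).mp ?_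
    rw [IsPullback.isoPullback_hom_fst_assoc, IsPullback.isoPullback_hom_snd_assoc]
    exact hUV b b'
  refine ⟨⨆ b, W b, le_iSup W true, le_iSup W false, 𝒰.glueMorphisms f hf, ?_, ?_, ?_⟩
  · exact 𝒰.ι_glueMorphisms f hf true
  · exact 𝒰.ι_glueMorphisms f hf false
  · intro Z a b h1 h2
    apply Scheme.Cover.hom_ext 𝒰
    intro i
    cases i
    · exact h2
    · exact h1

end Groth.Agent.Helper3.RatGlue
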