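import Mathlib

open AlgebraicGeometry CategoryTheory CategoryTheory.Limits TopologicalSpace Opposite TensorProduct

universe u

namespace Groth.Agent.Helper3.RatChart

/-- the affine chart `Spec (A ⊗_R C)` of a fibre product -/
theorem chart2 {X Y S : Scheme.{u}} (pX : X ⟶ S) (pY : Y ⟶ S) {S₀ : S.Opens}
    (hS₀ : IsAffineOpen S₀) {X₀ : X.Opens} (hX₀ : IsAffineOpen X₀) (hXS : X₀ ≤ pX ⁻¹ᵁ S₀)
    {Y₀ : Y.Opens} (hY₀ : IsAffineOpen Y₀) (hYS : Y₀ ≤ pY ⁻¹ᵁ S₀) :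
    letI : Algebra Γ(S, S₀) Γ(X, X₀) := (pX.appLE S₀ X₀ hXS).hom.toAlgebra
    letI : Algebra Γ(S, S₀) Γ(Y, Y₀) := (pY.appLE S₀ Y₀ hYS).hom.toAlgebra
    ∃ ρ : Spec (CommRingCat.of (Γ(X, X₀) ⊗[Γ(S, S₀)] Γ(Y, Y₀))) ⟶ pullback pX pY,
      IsOpenImmersion ρ ∧
      ρ ≫ pullback.fst pX pY =
        Spec.map (CommRingCat.ofHom Algebra.TensorProduct.includeLeftRingHom) ≫ hX₀.fromSpec ∧
      ρ ≫ pullback.snd pX pY = Spec.map (CommRingCat.ofHom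
        (Algebra.TensorProduct.includeRight :
          Γ(Y, Y₀) →ₐ[Γ(S, S₀)] Γ(X, X₀) ⊗[Γ(S, S₀)] Γ(Y, Y₀)).toRingHom) ≫ hY₀.fromSpec ∧
      Set.range ρ = (pullback.fst pX pY) ⁻¹' X₀ ∩ (pullback.snd pX pY) ⁻¹' Y₀ := by
  letI : Algebra Γ(S, S₀) Γ(X, X₀) := (pX.appLE S₀ X₀ hXS).hom.toAlgebra
  letI : Algebra Γ(S, S₀) Γ(Y, Y₀) := (pY.appLE S₀ Y₀ hYS).hom.toAlgebra
  let φX : Γ(S, S₀) ⟶ Γ(X, X₀) := pX.appLE S₀ X₀ hXS
  let φY : Γ(S, S₀) ⟶ Γ(Y, Y₀) := pY.appLE S₀ Y₀ hYS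
  let T := Γ(X, X₀) ⊗[Γ(S, S₀)] Γ(Y, Y₀)
  let inl : Γ(X, X₀) ⟶ CommRingCat.of T :=
    CommRingCat.ofHom Algebra.TensorProduct.includeLeftRingHom
  let inr : Γ(Y, Y₀) ⟶ CommRingCat.of T :=
    CommRingCat.ofHom (Algebra.TensorProduct.includeRight :
      Γ(Y, Y₀) →ₐ[Γ(S, S₀)] T).toRingHom
  have sq1 : IsPullback (Spec.map inl) (Spec.map inr) (Spec.map φX) (Spec.map φY) :=
    isPullback_SpecMap_of_isPushout _ _ _ _
      (CommRingCat.isPushout_tensorProduct Γ(S, S₀) Γ(X, X₀) Γ(Y, Y₀))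
  haveI := hS₀.isOpenImmersion_fromSpec
  haveI := hX₀.isOpenImmersion_fromSpec
  haveI := hY₀.isOpenImmersion_fromSpec
  have e₁ : Spec.map φX ≫ hS₀.fromSpec = hX₀.fromSpec ≫ pX :=
    IsAffineOpen.SpecMap_appLE_fromSpec pX hS₀ hX₀ hXS
  have e₂ : Spec.map φY ≫ hS₀.fromSpec = hY₀.fromSpec ≫ pY :=
    IsAffineOpen.SpecMap_appLE_fromSpec pY hS₀ hY₀ hYS
  let μ := pullback.map (Spec.map φX) (Spec.map φY) pX pY hX₀.fromSpec hY₀.fromSpec hS₀.fromSpec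
    e₁ e₂
  let ρ := sq1.isoPullback.hom ≫ μ
  have hρμ : Set.range ρ = Set.range μ := by
    ext z
    constructor
    · rintro ⟨a, rfl⟩
      exact ⟨sq1.isoPullback.hom a, rfl⟩
    · rintro ⟨b, rfl⟩
      refine ⟨sq1.isoPullback.inv b, ?_⟩
      change (sq1.isoPullback.inv ≫ sq1.isoPullback.hom ≫ μ) b = μ b
      rw [Iso.inv_hom_id_assoc]
  have h1 : μ ≫ pullback.fst pX pY = pullback.fst _ _ ≫ hX₀.fromSpec := pullback.lift_fst _ _ _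
  have h2 : μ ≫ pullback.snd pX pY = pullback.snd _ _ ≫ hY₀.fromSpec := pullback.lift_snd _ _ _
  have h3 : sq1.isoPullback.hom ≫ pullback.fst _ _ = Spec.map inl := sq1.isoPullback_hom_fst
  have h4 : sq1.isoPullback.hom ≫ pullback.snd _ _ = Spec.map inr := sq1.isoPullback_hom_snd
  refine ⟨ρ, inferInstance, ?_, ?_, ?_⟩
  · show ρ ≫ pullback.fst pX pY = Spec.map inl ≫ hX₀.fromSpec
    rw [show ρ = sq1.isoPullback.hom ≫ μ from rfl, Category.assoc, h1, ← Category.assoc, h3]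
  · show ρ ≫ pullback.snd pX pY = Spec.map inr ≫ hY₀.fromSpec
    rw [show ρ = sq1.isoPullback.hom ≫ μ from rfl, Category.assoc, h2, ← Category.assoc, h4]
  · rw [hρμ, Scheme.Pullback.range_map]
    simp [hX₀.range_fromSpec, hY₀.range_fromSpec]

end Groth.Agent.Helper3.RatChart
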