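import Mathlib

namespace Groth.Agent.Helper3.RatCore

/-- Zariski's main theorem in birational form: a finite type birational extension `B` of a domain
`A` which is quasi-finite at a prime `q` over `p`, with `A_p` integrally closed, is contained in
`A_a` for some `a ∉ p`. -/
theorem exists_denominators {A B K L : Type*} [CommRing A] [IsDomain A] [CommRing B] [Algebra A B]
    [Algebra.FiniteType A B] [Field K] [Algebra A K] [IsFractionRing A K] (ι : B →ₐ[A] K)
    (hι : Function.Injective ι) (p : Ideal A) [p.IsPrime] (q : Ideal B) [q.IsPrime]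
    (hqp : q.comap (algebraMap A B) = p) [Algebra.QuasiFiniteAt A q]
    [CommRing L] [Algebra A L] [IsLocalization.AtPrime L p] [IsIntegrallyClosed L] :
    ∃ a : A, a ∉ p ∧ ∀ b : B, ∃ (n : ℕ) (c : A), ι b * algebraMap A K a ^ n = algebraMap A K c := by
  classical
  -- `L` inside `K`
  have hunits : ∀ s : p.primeCompl, IsUnit (algebraMap A K s) := by
    intro s
    apply IsUnit.mk0
    intro h0
    have : (s : A) = 0 := (IsFractionRing.injective A K) (h0.trans (map_zero _).symm)
    exact s.2 (this ▸ p.zero_mem)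
  letI algLK : Algebra L K := (IsLocalization.lift (M := p.primeCompl) (S := L) hunits).toAlgebra
  haveI : IsScalarTower A L K := IsScalarTower.of_algebraMap_eq fun r =>
    (IsLocalization.lift_eq (M := p.primeCompl) (S := L) hunits r).symm
  haveI : IsFractionRing L K :=
    IsFractionRing.isFractionRing_of_isDomain_of_isLocalization p.primeCompl L K
  -- integral elements of `K` are fractions with denominators outside `p`
  have hfrac : ∀ k : K, IsIntegral A k → ∃ (c : A) (s : A), s ∉ p ∧
      k * algebraMap A K s = algebraMap A K c := by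
    intro k hk
    have hk' : IsIntegral L k := hk.tower_top
    obtain ⟨l, hl⟩ := IsIntegrallyClosed.algebraMap_eq_of_integral hk'
    obtain ⟨c, s, hcs⟩ := IsLocalization.exists_mk'_eq p.primeCompl l
    refine ⟨c, s, s.2, ?_⟩
    rw [← hl, ← hcs, IsScalarTower.algebraMap_apply A L K, IsScalarTower.algebraMap_apply A L K c,
      ← map_mul, IsLocalization.mk'_spec]
  -- ZMT
  have hZ : Algebra.ZariskisMainProperty A q := Algebra.ZariskisMainProperty.of_finiteType q
  obtain ⟨r, hrq, hr, hrx⟩ := Algebra.zariskisMainProperty_iff.mp hZ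
  obtain ⟨a, s, hs, has⟩ := hfrac (ι r) (hr.map ι)
  have hap : a ∉ p := by
    intro hap
    have h1 : ι (r * algebraMap A B s) = ι (algebraMap A B a) := by
      rw [map_mul, ι.commutes, ι.commutes]; exact has
    have h2 : r * algebraMap A B s = algebraMap A B a := hι h1
    have h3 : algebraMap A B a ∈ q := by
      have : a ∈ q.comap (algebraMap A B) := hqp ▸ hap
      exact this
    rw [← h2] at h3
    rcases ‹q.IsPrime›.mem_or_mem h3 with h4 | h4
    · exact hrq h4
    · exact hs (hqp ▸ (show s ∈ q.comap (algebraMap A B) from h4))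
  -- every element has a denominator outside `p`
  have hden : ∀ b : B, ∃ (t : A) (c : A), t ∉ p ∧ ι b * algebraMap A K t = algebraMap A K c := by
    intro b
    obtain ⟨m, hm⟩ := hrx b
    obtain ⟨c, s', hs', hcs'⟩ := hfrac (ι (r ^ m * b)) (hm.map ι)
    refine ⟨a ^ m * s', c * s ^ m, ?_, ?_⟩
    · intro h
      rcases ‹p.IsPrime›.mem_or_mem h with h | h
      · exact hap (‹p.IsPrime›.mem_of_pow_mem m h)
      · exact hs' h
    · rw [map_mul, map_pow, map_mul, map_pow, ← hcs', ← has, map_mul, map_pow]
      ring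
  -- finite generation
  obtain ⟨G, hG⟩ := Algebra.FiniteType.out (R := A) (A := B)
  choose t c ht hc using hden
  refine ⟨∏ g ∈ G, t g, ?_, ?_⟩
  · intro h
    obtain ⟨g, -, hg⟩ := (‹p.IsPrime›.prod_mem_iff).mp h
    exact ht g hg
  · intro b
    have hb : b ∈ Algebra.adjoin A (G : Set B) := hG ▸ Algebra.mem_top
    induction hb using Algebra.adjoin_induction with
    | mem g hg =>
      refine ⟨1, c g * ∏ g' ∈ G.erase g, t g', ?_⟩
      rw [pow_one, ← Finset.mul_prod_erase G t hg, map_mul, ← mul_assoc, hc g, map_mul]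
    | algebraMap r => exact ⟨0, r, by rw [pow_zero, mul_one, ι.commutes]⟩
    | add x y _ _ hx hy =>
      obtain ⟨n₁, c₁, h₁⟩ := hx
      obtain ⟨n₂, c₂, h₂⟩ := hy
      refine ⟨n₁ + n₂, c₁ * (∏ g ∈ G, t g) ^ n₂ + c₂ * (∏ g ∈ G, t g) ^ n₁, ?_⟩
      rw [map_add, map_add, map_mul, map_mul, map_pow, map_pow, ← h₁, ← h₂, pow_add]
      ring
    | mul x y _ _ hx hy =>
      obtain ⟨n₁, c₁, h₁⟩ := hx
      obtain ⟨n₂, c₂, h₂⟩ := hy
      refine ⟨n₁ + n₂, c₁ * c₂, ?_⟩
      rw [map_mul, map_mul, ← h₁, ← h₂, pow_add]
      ring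

/-- a ring map into the fraction field whose values have denominators powers of `a` factors
through the localization away from `a` -/
theorem exists_lift_hom {A AV K T : Type*} [CommRing A] [IsDomain A] [CommRing AV] [Algebra A AV]
    [Field K] [Algebra A K] [IsFractionRing A K] (a : A) (ha : a ≠ 0) [IsLocalization.Away a AV]
    [CommRing T] (d : T →+* K)
    (hden : ∀ t : T, ∃ (n : ℕ) (c : A), d t * algebraMap A K a ^ n = algebraMap A K c) :
    ∃ (κ : AV →+* K) (ψ : T →+* AV), κ.comp (algebraMap A AV) = algebraMap A K ∧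
      Function.Injective κ ∧ κ.comp ψ = d := by
  have hinjK : Function.Injective (algebraMap A K) := IsFractionRing.injective A K
  have hu : IsUnit (algebraMap A K a) := by
    apply IsUnit.mk0
    intro h0
    exact ha (hinjK (h0.trans (map_zero _).symm))
  let κ : AV →+* K := IsLocalization.Away.lift a hu
  have hκ : κ.comp (algebraMap A AV) = algebraMap A K := IsLocalization.Away.lift_comp a hu
  have hκ' : ∀ r : A, κ (algebraMap A AV r) = algebraMap A K r := fun r => congr($hκ r)
  have hAV : Function.Injective (algebraMap A AV) :=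
    IsLocalization.injective AV (powers_le_nonZeroDivisors_of_noZeroDivisors ha)
  have hκinj : Function.Injective κ := by
    show Function.Injective (IsLocalization.lift _)
    rw [IsLocalization.lift_injective_iff]
    intro x y
    exact ⟨fun h => congrArg _ (hAV h), fun h => congrArg _ (hinjK h)⟩
  have hrange : ∀ t : T, ∃ y : AV, κ y = d t := by
    intro t
    obtain ⟨n, c, hc⟩ := hden t
    refine ⟨IsLocalization.mk' AV c (⟨a ^ n, n, rfl⟩ : Submonoid.powers a), ?_⟩
    have h1 : κ (IsLocalization.mk' AV c (⟨a ^ n, n, rfl⟩ : Submonoid.powers a)) *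
        algebraMap A K a ^ n = algebraMap A K c := by
      rw [← map_pow, ← hκ' (a ^ n), ← map_mul]
      have := IsLocalization.mk'_spec AV c (⟨a ^ n, n, rfl⟩ : Submonoid.powers a)
      rw [this, hκ']
    have h2 : IsUnit (algebraMap A K a ^ n) := hu.pow n
    exact h2.mul_right_cancel (h1.trans hc.symm)
  choose ψ₀ hψ₀ using hrange
  let ψ : T →+* AV :=
    { toFun := ψ₀
      map_one' := hκinj (by rw [hψ₀, map_one, map_one])
      map_mul' := fun s t => hκinj (by rw [hψ₀, map_mul, map_mul, hψ₀, hψ₀])
      map_zero' := hκinj (by rw [hψ₀, map_zero, map_zero])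
      map_add' := fun s t => hκinj (by rw [hψ₀, map_add, map_add, hψ₀, hψ₀]) }
  exact ⟨κ, ψ, hκ, hκinj, RingHom.ext hψ₀⟩

end Groth.Agent.Helper3.RatCore
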