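import Mathlib
import Groth.Agent.Helper3.RatCore
import Groth.Agent.Helper3.RatChart

open AlgebraicGeometry CategoryTheory CategoryTheory.Limits TopologicalSpace Opposite TensorProduct

universe u

namespace Groth.Agent.Helper3.RatMain

/-- the generic point of an integral affine open specializes to all its points -/
theorem bot_specializes {X : Scheme.{u}} {X₀ : X.Opens} (hX₀ : IsAffineOpen X₀)
    [IsDomain Γ(X, X₀)] (u : X) (hu : u ∈ X₀) :
    hX₀.fromSpec (⟨⊥, Ideal.isPrime_bot⟩ : PrimeSpectrum Γ(X, X₀)) ⤳ u := by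
  have h1 : (⟨⊥, Ideal.isPrime_bot⟩ : PrimeSpectrum Γ(X, X₀)) ⤳ hX₀.primeIdealOf ⟨u, hu⟩ := by
    rw [← PrimeSpectrum.le_iff_specializes]
    exact bot_le (a := (hX₀.primeIdealOf ⟨u, hu⟩).asIdeal)
  have h2 := h1.map hX₀.fromSpec.continuous
  rwa [hX₀.fromSpec_primeIdealOf ⟨u, hu⟩] at h2

/-- an integral open subscheme has domains of sections on its nonempty affine opens -/
theorem isDomain_of_le {X : Scheme.{u}} {W₀ X₀ : X.Opens} [IsIntegral (W₀ : Scheme.{u})]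
    (hle : X₀ ≤ W₀) (x : X) (hx : x ∈ X₀) : IsDomain Γ(X, X₀) := by
  haveI : Nonempty (X₀ : Scheme.{u}) := ⟨⟨x, hx⟩⟩
  haveI : IsIntegral (X₀ : Scheme.{u}) := isIntegral_of_isOpenImmersion (X.homOfLE hle)
  haveI : IsDomain Γ(X₀, ⊤) := inferInstance
  exact (X₀.topIso).commRingCatIsoToRingEquiv.symm.toMulEquiv.isDomain _

set_option maxHeartbeats 1600000 in
theorem main' {X Y S : Scheme.{u}} (pX : X ⟶ S) (pY : Y ⟶ S)
    [LocallyOfFiniteType pY] [IsSeparated pY]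
    (U : X.Opens) (h : (U : Scheme.{u}) ⟶ Y) (hh : U.ι ≫ pX = h ≫ pY)
    (x : ↥X) (hXx : ∃ W : X.Opens, x ∈ W ∧ IsIntegral (W : Scheme.{u}))
    (hx : IsIntegrallyClosed (X.presheaf.stalk x))
    (z : ↥(pullback pX pY)) (hz : pullback.fst pX pY z = x)
    (hzΓ : z ∈ closure (Set.range (pullback.lift U.ι h hh)))
    (hiso : ∃ W : (pullback pX pY).Opens, (W : Set ↥(pullback pX pY)) ∩
      closure (Set.range (pullback.lift U.ι h hh)) ∩ (pullback.fst pX pY) ⁻¹' {x} = {z}) :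
    ∃ (V : X.Opens) (v : (V : Scheme.{u}) ⟶ Y), x ∈ V ∧ v ≫ pY = V.ι ≫ pX ∧
      X.homOfLE (inf_le_right : U ⊓ V ≤ V) ≫ v = X.homOfLE (inf_le_left : U ⊓ V ≤ U) ≫ h := by
  classical
  -- Stage 1: choices
  obtain ⟨W₀, hxW₀, hW₀⟩ := hXx
  haveI := hW₀
  obtain ⟨_, ⟨S₀, hS₀, rfl⟩, hxS₀, -⟩ := S.isBasis_affineOpens.exists_subset_of_mem_open
    (Set.mem_univ (pX x)) isOpen_univ
  replace hS₀ : IsAffineOpen S₀ := hS₀
  let y : Y := pullback.snd pX pY z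
  have hyx : pY y = pX x := by
    have h1 : (pullback.snd pX pY ≫ pY) z = (pullback.fst pX pY ≫ pX) z := by
      rw [pullback.condition]
    rw [← hz]
    exact h1
  have hyS₀ : y ∈ pY ⁻¹ᵁ S₀ := by
    show pY y ∈ S₀
    rw [hyx]; exact hxS₀
  obtain ⟨_, ⟨Y₀, hY₀, rfl⟩, hyY₀, hYS : Y₀ ≤ pY ⁻¹ᵁ S₀⟩ :=
    Y.isBasis_affineOpens.exists_subset_of_mem_open hyS₀ (pY ⁻¹ᵁ S₀).2
  replace hY₀ : IsAffineOpen Y₀ := hY₀
  have hx2 : x ∈ W₀ ⊓ pX ⁻¹ᵁ S₀ := ⟨hxW₀, hxS₀⟩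
  obtain ⟨_, ⟨X₀, hX₀, rfl⟩, hxX₀, hX₀le : X₀ ≤ W₀ ⊓ pX ⁻¹ᵁ S₀⟩ :=
    X.isBasis_affineOpens.exists_subset_of_mem_open hx2 (W₀ ⊓ pX ⁻¹ᵁ S₀).2
  replace hX₀ : IsAffineOpen X₀ := hX₀
  have hXS : X₀ ≤ pX ⁻¹ᵁ S₀ := hX₀le.trans inf_le_right
  haveI : IsDomain Γ(X, X₀) := isDomain_of_le (hX₀le.trans inf_le_left) x hxX₀
  letI algA : Algebra Γ(S, S₀) Γ(X, X₀) := (pX.appLE S₀ X₀ hXS).hom.toAlgebra
  letI algC : Algebra Γ(S, S₀) Γ(Y, Y₀) := (pY.appLE S₀ Y₀ hYS).hom.toAlgebra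
  haveI : Algebra.FiniteType Γ(S, S₀) Γ(Y, Y₀) := pY.finiteType_appLE hS₀ hY₀ hYS
  haveI := hX₀.isOpenImmersion_fromSpec
  haveI := hY₀.isOpenImmersion_fromSpec
  -- Stage 2: the chart
  obtain ⟨ρ, hρo, hρ1, hρ2, hρr⟩ := RatChart.chart2 pX pY hS₀ hX₀ hXS hY₀ hYS
  let T := Γ(X, X₀) ⊗[Γ(S, S₀)] Γ(Y, Y₀)
  let γ : (U : Scheme.{u}) ⟶ pullback pX pY := pullback.lift U.ι h hh
  have hγ1 : γ ≫ pullback.fst pX pY = U.ι := pullback.lift_fst _ _ _
  have hγ2 : γ ≫ pullback.snd pX pY = h := pullback.lift_snd _ _ _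
  have hzρ : z ∈ Set.range ρ := by
    rw [hρr]
    exact ⟨by show pullback.fst pX pY z ∈ X₀; rw [hz]; exact hxX₀, hyY₀⟩
  -- Stage 3: the generic point
  let ξ₀ : PrimeSpectrum Γ(X, X₀) := ⟨⊥, Ideal.isPrime_bot⟩
  let ξ : X := hX₀.fromSpec ξ₀
  have hξsp : ∀ u : X, u ∈ X₀ → ξ ⤳ u := fun u hu => bot_specializes hX₀ u hu
  -- a point of `U` whose graph point lies in the chart
  obtain ⟨u₁, hu₁⟩ : ∃ u₁ : (U : Scheme.{u}), γ u₁ ∈ Set.range ρ := by
    have := mem_closure_iff.mp hzΓ (Set.range ρ) ρ.isOpenEmbedding.isOpen_range hzρ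
    obtain ⟨w, hw1, ⟨u₁, rfl⟩⟩ := this
    exact ⟨u₁, hw1⟩
  have hu₁X : U.ι u₁ ∈ X₀ := by
    rw [hρr] at hu₁
    have := hu₁.1
    have e : pullback.fst pX pY (γ u₁) = U.ι u₁ := by
      show (γ ≫ pullback.fst pX pY) u₁ = _
      rw [hγ1]
    rwa [Set.mem_preimage, e] at this
  have hu₁Y : h u₁ ∈ Y₀ := by
    rw [hρr] at hu₁
    have := hu₁.2
    have e : pullback.snd pX pY (γ u₁) = h u₁ := by
      show (γ ≫ pullback.snd pX pY) u₁ = _
      rw [hγ2]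
    rwa [Set.mem_preimage, e] at this
  have hξU : ξ ∈ U := (hξsp _ hu₁X).mem_open U.2 u₁.2
  let ξ' : (U : Scheme.{u}) := ⟨ξ, hξU⟩
  have hξ'sp : ∀ u' : (U : Scheme.{u}), U.ι u' ∈ X₀ → ξ' ⤳ u' := by
    intro u' hu'
    have h1 : U.ι ξ' ⤳ U.ι u' := hξsp _ hu'
    exact (U.ι.isOpenEmbedding.isInducing.specializes_iff).mp h1
  have hξY : h ξ' ∈ Y₀ := by
    have h1 : h ξ' ⤳ h u₁ := (hξ'sp u₁ hu₁X).map h.continuous
    exact h1.mem_open Y₀.2 hu₁Y
  -- the `K`-point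
  let K := FractionRing Γ(X, X₀)
  let sK : Spec (CommRingCat.of K) ⟶ X :=
    Spec.map (CommRingCat.ofHom (algebraMap Γ(X, X₀) K)) ≫ hX₀.fromSpec
  have hsKpt : ∀ pt : Spec (CommRingCat.of K), sK pt = ξ := by
    intro pt
    show hX₀.fromSpec (Spec.map (CommRingCat.ofHom (algebraMap Γ(X, X₀) K)) pt) = hX₀.fromSpec ξ₀
    congr 1
    apply PrimeSpectrum.ext
    show Ideal.comap (algebraMap Γ(X, X₀) K) pt.asIdeal = ⊥
    have hpt : pt.asIdeal = ⊥ := by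
      have := pt.isPrime
      rcases Ideal.eq_bot_or_top pt.asIdeal with h | h
      · exact h
      · exact absurd h pt.isPrime.ne_top
    rw [hpt, ← RingHom.ker_eq_comap_bot]
    exact (RingHom.injective_iff_ker_eq_bot _).mp (IsFractionRing.injective Γ(X, X₀) K)
  have hsKU : Set.range sK ⊆ Set.range U.ι := by
    rintro _ ⟨pt, rfl⟩
    rw [hsKpt]
    exact ⟨ξ', rfl⟩
  let ξK : Spec (CommRingCat.of K) ⟶ (U : Scheme.{u}) := IsOpenImmersion.lift U.ι sK hsKU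
  have hξK : ξK ≫ U.ι = sK := IsOpenImmersion.lift_fac _ _ _
  have hξKpt : ∀ pt : Spec (CommRingCat.of K), ξK pt = ξ' := by
    intro pt
    apply U.ι.isOpenEmbedding.injective
    show (ξK ≫ U.ι) pt = ξ
    rw [hξK, hsKpt]
  let δ : Spec (CommRingCat.of K) ⟶ pullback pX pY := ξK ≫ γ
  have hδ1 : δ ≫ pullback.fst pX pY = sK := by
    show (ξK ≫ γ) ≫ _ = _
    rw [Category.assoc, hγ1, hξK]
  have hδ2 : δ ≫ pullback.snd pX pY = ξK ≫ h := by
    show (ξK ≫ γ) ≫ _ = _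
    rw [Category.assoc, hγ2]
  have hδρ : Set.range δ ⊆ Set.range ρ := by
    rintro _ ⟨pt, rfl⟩
    rw [hρr]
    constructor
    · show (δ ≫ pullback.fst pX pY) pt ∈ X₀
      rw [hδ1, hsKpt]
      have : ξ ∈ Set.range hX₀.fromSpec := ⟨ξ₀, rfl⟩
      rwa [hX₀.range_fromSpec] at this
    · show (δ ≫ pullback.snd pX pY) pt ∈ Y₀
      rw [hδ2]
      show h (ξK pt) ∈ Y₀
      rw [hξKpt]; exact hξY
  let δ₀ : Spec (CommRingCat.of K) ⟶ Spec (CommRingCat.of T) := IsOpenImmersion.lift ρ δ hδρ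
  have hδ₀ : δ₀ ≫ ρ = δ := IsOpenImmersion.lift_fac _ _ _
  obtain ⟨dd, hdd⟩ := Spec.map_surjective δ₀
  let d : T →+* K := dd.hom
  let inl : Γ(X, X₀) ⟶ CommRingCat.of T :=
    CommRingCat.ofHom Algebra.TensorProduct.includeLeftRingHom
  have hdinl : inl ≫ dd = CommRingCat.ofHom (algebraMap Γ(X, X₀) K) := by
    apply Spec.map_injective
    rw [Spec.map_comp, hdd, ← cancel_mono hX₀.fromSpec, Category.assoc]
    have : Spec.map inl ≫ hX₀.fromSpec = ρ ≫ pullback.fst pX pY := hρ1.symm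
    rw [this, ← Category.assoc, hδ₀, hδ1]
  have hdA : ∀ r : Γ(X, X₀), d (algebraMap Γ(X, X₀) T r) = algebraMap Γ(X, X₀) K r := by
    intro r
    exact congr($(hdinl).hom r)
  let d' : T →ₐ[Γ(X, X₀)] K := { d with commutes' := hdA }
  let 𝔓 : Ideal T := RingHom.ker d
  haveI h𝔓 : 𝔓.IsPrime := RingHom.ker_isPrime d
  let B' := T ⧸ 𝔓
  let ι : B' →ₐ[Γ(X, X₀)] K := Ideal.Quotient.liftₐ 𝔓 d' (fun a ha => ha)
  have hιmk : ∀ t : T, ι (Ideal.Quotient.mk 𝔓 t) = d t := fun t => rfl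
  have hι : Function.Injective ι := by
    rw [injective_iff_map_eq_zero]
    intro b hb
    obtain ⟨t, rfl⟩ := Ideal.Quotient.mk_surjective b
    rw [hιmk] at hb
    exact Ideal.Quotient.eq_zero_iff_mem.mpr hb
  haveI : Algebra.FiniteType Γ(X, X₀) T := inferInstance
  haveI : Algebra.FiniteType Γ(X, X₀) B' := inferInstance
  -- Stage 4: the closed piece
  let mk𝔓 : CommRingCat.of T ⟶ CommRingCat.of B' := CommRingCat.ofHom (Ideal.Quotient.mk 𝔓)
  let c : Spec (CommRingCat.of B') ⟶ pullback pX pY := Spec.map mk𝔓 ≫ ρ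
  have hmksurj : Function.Surjective (Ideal.Quotient.mk 𝔓) := Ideal.Quotient.mk_surjective
  have hcinj : Function.Injective c := by
    intro a b hab
    have h1 : Spec.map mk𝔓 a = Spec.map mk𝔓 b := ρ.isOpenEmbedding.injective hab
    exact PrimeSpectrum.comap_injective_of_surjective _ hmksurj h1
  have hc1 : c ≫ pullback.fst pX pY =
      Spec.map (CommRingCat.ofHom (algebraMap Γ(X, X₀) B')) ≫ hX₀.fromSpec := by
    show (Spec.map mk𝔓 ≫ ρ) ≫ _ = _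
    rw [Category.assoc, hρ1, ← Category.assoc, ← Spec.map_comp]
    rfl
  -- the generic point of `Spec B'`
  let g₀ : Spec (CommRingCat.of B') := ⟨⊥, Ideal.isPrime_bot⟩
  have hg₀ : ∀ pt : Spec (CommRingCat.of K), Spec.map mk𝔓 g₀ = δ₀ pt := by
    intro pt
    rw [← hdd]
    apply PrimeSpectrum.ext
    show Ideal.comap (Ideal.Quotient.mk 𝔓) ⊥ = Ideal.comap d pt.asIdeal
    have hpt : pt.asIdeal = ⊥ := by
      rcases Ideal.eq_bot_or_top pt.asIdeal with h | h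
      · exact h
      · exact absurd h pt.isPrime.ne_top
    rw [hpt, ← RingHom.ker_eq_comap_bot, ← RingHom.ker_eq_comap_bot, Ideal.mk_ker]
  obtain ⟨pt₀⟩ : Nonempty (Spec (CommRingCat.of K)) := inferInstance
  have hcg₀ : c g₀ = γ ξ' := by
    show ρ (Spec.map mk𝔓 g₀) = _
    rw [hg₀ pt₀]
    show (δ₀ ≫ ρ) pt₀ = _
    rw [hδ₀]
    show γ (ξK pt₀) = _
    rw [hξKpt]
  have hcΓ : ∀ b' : Spec (CommRingCat.of B'), c b' ∈ closure (Set.range γ) := by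
    intro b'
    have h1 : g₀ ⤳ b' :=
      (PrimeSpectrum.le_iff_specializes (R := B') g₀ b').mp (bot_le (a := b'.asIdeal))
    have h2 : c g₀ ⤳ c b' := h1.map c.continuous
    refine h2.mem_closed isClosed_closure (subset_closure ?_)
    rw [hcg₀]
    exact ⟨ξ', rfl⟩
  -- `z` lies on the closed piece
  obtain ⟨tz, htz⟩ := hzρ
  have h𝔓tz : 𝔓 ≤ tz.asIdeal := by
    intro g hg
    by_contra hgt
    let N : Set ↑(pullback pX pY) := ρ '' {t : Spec (CommRingCat.of T) | g ∉ t.asIdeal}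
    have hNo : IsOpen N := by
      apply ρ.isOpenEmbedding.isOpenMap
      exact (PrimeSpectrum.basicOpen g).2
    have hzN : z ∈ N := ⟨tz, hgt, htz⟩
    obtain ⟨w, ⟨t', ht'g, rfl⟩, ⟨u', hu'⟩⟩ := mem_closure_iff.mp hzΓ N hNo hzN
    have hu'X : U.ι u' ∈ X₀ := by
      have e : pullback.fst pX pY (γ u') = U.ι u' := by
        show (γ ≫ pullback.fst pX pY) u' = _
        rw [hγ1]
      rw [← e, hu']
      have : ρ t' ∈ Set.range ρ := ⟨t', rfl⟩
      rw [hρr] at this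
      exact this.1
    have h1 : γ ξ' ⤳ γ u' := (hξ'sp u' hu'X).map γ.continuous
    rw [hu', ← hcg₀] at h1
    have h2 : Spec.map mk𝔓 g₀ ⤳ t' := (ρ.isOpenEmbedding.isInducing.specializes_iff).mp h1
    have h3 : (Spec.map mk𝔓 g₀).asIdeal ≤ t'.asIdeal :=
      (PrimeSpectrum.le_iff_specializes (R := T) (Spec.map mk𝔓 g₀) t').mpr h2
    apply ht'g
    apply h3
    show g ∈ Ideal.comap (Ideal.Quotient.mk 𝔓) ⊥
    rw [← RingHom.ker_eq_comap_bot, Ideal.mk_ker]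
    exact hg
  obtain ⟨qz, hqz⟩ : ∃ qz : Spec (CommRingCat.of B'), Spec.map mk𝔓 qz = tz := by
    have : tz ∈ Set.range (Spec.map mk𝔓) := by
      have hr := range_comap_of_surjective _ (Ideal.Quotient.mk 𝔓) hmksurj
      have hr' : Set.range (Spec.map mk𝔓) = PrimeSpectrum.zeroLocus (RingHom.ker (Ideal.Quotient.mk 𝔓)) := hr
      rw [hr', Ideal.mk_ker]
      exact h𝔓tz
    exact this
  have hcqz : c qz = z := by
    show ρ (Spec.map mk𝔓 qz) = z
    rw [hqz, htz]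
  -- Stage 5: quasi-finiteness at `qz`
  let 𝔭pt : PrimeSpectrum Γ(X, X₀) := hX₀.primeIdealOf ⟨x, hxX₀⟩
  have hfstc : ∀ b' : Spec (CommRingCat.of B'), pullback.fst pX pY (c b') =
      hX₀.fromSpec (Spec.map (CommRingCat.ofHom (algebraMap Γ(X, X₀) B')) b') := by
    intro b'
    show (c ≫ pullback.fst pX pY) b' = _
    rw [hc1]
    rfl
  have hqzp : Spec.map (CommRingCat.ofHom (algebraMap Γ(X, X₀) B')) qz = 𝔭pt := by
    apply hX₀.fromSpec.isOpenEmbedding.injective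
    rw [← hfstc, hcqz, hz, hX₀.fromSpec_primeIdealOf]
  haveI hqzprime : (PrimeSpectrum.asIdeal qz).IsPrime := PrimeSpectrum.isPrime qz
  have hqf : Algebra.QuasiFiniteAt Γ(X, X₀) (PrimeSpectrum.asIdeal qz) := by
    apply Algebra.QuasiFiniteAt.of_isOpen_singleton_fiber (R := Γ(X, X₀)) (S := B') qz
    obtain ⟨W, hW⟩ := hiso
    rw [isOpen_induced_iff]
    refine ⟨c ⁻¹' (W : Set ↑(pullback pX pY)), W.2.preimage c.continuous, ?_⟩
    ext ⟨q', hq'⟩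
    simp only [Set.mem_preimage, Set.mem_singleton_iff]
    constructor
    · intro hq'W
      apply Subtype.ext
      show q' = qz
      apply hcinj
      rw [hcqz]
      have hmem : c q' ∈ (W : Set ↑(pullback pX pY)) ∩
          closure (Set.range (pullback.lift U.ι h hh)) ∩ (pullback.fst pX pY) ⁻¹' {x} := by
        refine ⟨⟨hq'W, hcΓ q'⟩, ?_⟩
        show pullback.fst pX pY (c q') = x
        refine (hfstc q').trans ?_
        have e1 : Spec.map (CommRingCat.ofHom (algebraMap Γ(X, X₀) B')) q' =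
            Spec.map (CommRingCat.ofHom (algebraMap Γ(X, X₀) B')) qz := hq'
        exact (congrArg hX₀.fromSpec (e1.trans hqzp)).trans (hX₀.fromSpec_primeIdealOf ⟨x, hxX₀⟩)
      rw [hW] at hmem
      exact hmem
    · intro hqq
      have hqq' : q' = qz := congrArg Subtype.val hqq
      subst hqq'
      show c q' ∈ (W : Set ↑(pullback pX pY))
      rw [hcqz]
      have : z ∈ (W : Set ↑(pullback pX pY)) ∩
          closure (Set.range (pullback.lift U.ι h hh)) ∩ (pullback.fst pX pY) ⁻¹' {x} := by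
        rw [hW]; rfl
      exact this.1.1
  -- Stage 6: the algebraic core
  letI algL : Algebra Γ(X, X₀) (X.presheaf.stalk x) :=
    X.presheaf.algebra_section_stalk ⟨x, hxX₀⟩
  haveI h𝔭prime : (PrimeSpectrum.asIdeal 𝔭pt).IsPrime := PrimeSpectrum.isPrime 𝔭pt
  haveI locL : IsLocalization.AtPrime (X.presheaf.stalk x) (PrimeSpectrum.asIdeal 𝔭pt) :=
    hX₀.isLocalization_stalk ⟨x, hxX₀⟩
  haveI := hx
  have hqp : (PrimeSpectrum.asIdeal qz).comap (algebraMap Γ(X, X₀) B') =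
      PrimeSpectrum.asIdeal 𝔭pt := congrArg PrimeSpectrum.asIdeal hqzp
  obtain ⟨a, ha𝔭, hden⟩ := RatCore.exists_denominators (K := K) (L := X.presheaf.stalk x) ι hι
    (PrimeSpectrum.asIdeal 𝔭pt) (PrimeSpectrum.asIdeal qz) hqp
  -- Stage 7: the neighbourhood and the morphism
  have ha0 : a ≠ 0 := by
    rintro rfl
    exact ha𝔭 (Ideal.zero_mem _)
  let V : X.Opens := X.basicOpen a
  have hV : IsAffineOpen V := hX₀.basicOpen a
  have hVX₀ : V ≤ X₀ := X.basicOpen_le a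
  have hxV : x ∈ V := by
    have h1 : 𝔭pt ∈ hX₀.fromSpec ⁻¹ᵁ X.basicOpen a := by
      rw [hX₀.fromSpec_preimage_basicOpen]
      exact ha𝔭
    have h2 : hX₀.fromSpec 𝔭pt ∈ X.basicOpen a := h1
    rwa [hX₀.fromSpec_primeIdealOf ⟨x, hxX₀⟩] at h2
  haveI locV : IsLocalization.Away a Γ(X, V) := hX₀.isLocalization_basicOpen a
  have hdenT : ∀ t : T, ∃ (n : ℕ) (c : Γ(X, X₀)),
      d t * algebraMap Γ(X, X₀) K a ^ n = algebraMap Γ(X, X₀) K c := by
    intro t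
    exact hden (Ideal.Quotient.mk 𝔓 t)
  obtain ⟨κ, ψ, hκ, hκinj, hκψ⟩ := RatCore.exists_lift_hom (AV := Γ(X, V)) a ha0 d hdenT
  have hψinl : ψ.comp Algebra.TensorProduct.includeLeftRingHom = algebraMap Γ(X, X₀) Γ(X, V) := by
    ext r
    apply hκinj
    show κ (ψ (algebraMap Γ(X, X₀) T r)) = κ (algebraMap Γ(X, X₀) Γ(X, V) r)
    rw [show κ (ψ (algebraMap Γ(X, X₀) T r)) = d (algebraMap Γ(X, X₀) T r) from congr($hκψ _), hdA]
    exact (congr($hκ r)).symm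
  let σ : (V : Scheme.{u}) ⟶ pullback pX pY :=
    hV.isoSpec.hom ≫ Spec.map (CommRingCat.ofHom ψ) ≫ ρ
  have hσ1 : σ ≫ pullback.fst pX pY = V.ι := by
    show (hV.isoSpec.hom ≫ Spec.map (CommRingCat.ofHom ψ) ≫ ρ) ≫ pullback.fst pX pY = V.ι
    rw [Category.assoc, Category.assoc, hρ1, ← Category.assoc (Spec.map _), ← Spec.map_comp,
      ← CommRingCat.ofHom_comp, hψinl]
    have h1 : Spec.map (CommRingCat.ofHom (algebraMap Γ(X, X₀) Γ(X, V))) ≫ hX₀.fromSpec =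
        hV.fromSpec := hX₀.map_fromSpec hV (homOfLE hVX₀).op
    rw [h1, hV.isoSpec_hom_fromSpec]
  let v : (V : Scheme.{u}) ⟶ Y := σ ≫ pullback.snd pX pY
  have hvS : v ≫ pY = V.ι ≫ pX := by
    show (σ ≫ pullback.snd pX pY) ≫ pY = _
    rw [Category.assoc, ← pullback.condition, ← Category.assoc, hσ1]
  refine ⟨V, v, hxV, hvS, ?_⟩
  -- Stage 8: agreement on `U ⊓ V`
  let O : X.Opens := U ⊓ V
  have hOX₀ : O ≤ X₀ := inf_le_right.trans hVX₀
  haveI : Nonempty (X₀ : Scheme.{u}) := ⟨⟨x, hxX₀⟩⟩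
  haveI : IsIntegral (X₀ : Scheme.{u}) :=
    isIntegral_of_isOpenImmersion (X.homOfLE (hX₀le.trans inf_le_left))
  haveI : IsReduced (O : Scheme.{u}) := isReduced_of_isOpenImmersion (X.homOfLE hOX₀)
  have hξV : ξ ∈ V := (hξsp x hxX₀).mem_open V.2 hxV
  have hξO : ξ ∈ O := ⟨hξU, hξV⟩
  have hsKO : Set.range sK ⊆ Set.range O.ι := by
    rintro _ ⟨pt, rfl⟩
    rw [hsKpt]
    exact ⟨⟨ξ, hξO⟩, rfl⟩
  let ιK : Spec (CommRingCat.of K) ⟶ (O : Scheme.{u}) := IsOpenImmersion.lift O.ι sK hsKO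
  have hιK : ιK ≫ O.ι = sK := IsOpenImmersion.lift_fac _ _ _
  haveI : IsDominant ιK := by
    constructor
    rw [DenseRange, dense_iff_closure_eq, Set.eq_univ_iff_forall]
    intro o
    have h1 : ιK pt₀ ⤳ o := by
      apply (O.ι.isOpenEmbedding.isInducing.specializes_iff).mp
      have e : O.ι (ιK pt₀) = ξ := by
        show (ιK ≫ O.ι) pt₀ = ξ
        rw [hιK, hsKpt]
      rw [e]
      exact hξsp _ (hOX₀ o.2)
    exact h1.mem_closed isClosed_closure (subset_closure ⟨pt₀, rfl⟩)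
  have e1 : ιK ≫ X.homOfLE (inf_le_left : U ⊓ V ≤ U) = ξK := by
    rw [← cancel_mono U.ι, Category.assoc, X.homOfLE_ι, hξK]
    exact hιK
  have e2 : (ιK ≫ X.homOfLE (inf_le_right : U ⊓ V ≤ V)) ≫ hV.isoSpec.hom =
      Spec.map (CommRingCat.ofHom κ) := by
    haveI := hV.isOpenImmersion_fromSpec
    rw [← cancel_mono hV.fromSpec, Category.assoc, hV.isoSpec_hom_fromSpec, Category.assoc,
      X.homOfLE_ι]
    have h1 : Spec.map (CommRingCat.ofHom (algebraMap Γ(X, X₀) Γ(X, V))) ≫ hX₀.fromSpec =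
        hV.fromSpec := hX₀.map_fromSpec hV (homOfLE hVX₀).op
    rw [← h1, ← Category.assoc, ← Spec.map_comp, ← CommRingCat.ofHom_comp, hκ]
    exact hιK
  have e3 : (ιK ≫ X.homOfLE (inf_le_right : U ⊓ V ≤ V)) ≫ σ = δ := by
    show (ιK ≫ X.homOfLE (inf_le_right : U ⊓ V ≤ V)) ≫
      hV.isoSpec.hom ≫ Spec.map (CommRingCat.ofHom ψ) ≫ ρ = δ
    rw [← Category.assoc, e2, ← Category.assoc, ← Spec.map_comp, ← CommRingCat.ofHom_comp, hκψ,
      ← hδ₀, ← hdd]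
    rfl
  apply ext_of_isDominant_of_isSeparated pY ?_ ιK ?_
  · rw [Category.assoc, hvS, Category.assoc, ← hh, ← Category.assoc, ← Category.assoc,
      X.homOfLE_ι, X.homOfLE_ι]
  · have hL : ιK ≫ X.homOfLE (inf_le_right : U ⊓ V ≤ V) ≫ v = ξK ≫ h := by
      show ιK ≫ X.homOfLE (inf_le_right : U ⊓ V ≤ V) ≫ σ ≫ pullback.snd pX pY = _
      rw [← Category.assoc, ← Category.assoc, e3, hδ2]
    have hR : ιK ≫ X.homOfLE (inf_le_left : U ⊓ V ≤ U) ≫ h = ξK ≫ h := by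
      rw [← Category.assoc, e1]
    exact hL.trans hR.symm

/-- S3836 -/
theorem main {X Y S : Scheme.{u}} (pX : X ⟶ S) (pY : Y ⟶ S)
    [LocallyOfFiniteType pY] [IsSeparated pY]
    (hX : ∀ y : ↥X, ∃ W : X.Opens, y ∈ W ∧ IsIntegral (W : Scheme.{u}))
    (U : X.Opens) (hU : Dense (U : Set ↥X)) (h : (U : Scheme.{u}) ⟶ Y) (hh : U.ι ≫ pX = h ≫ pY)
    (x : ↥X) (hx : IsIntegrallyClosed (X.presheaf.stalk x))
    (z : ↥(pullback pX pY)) (hz : pullback.fst pX pY z = x)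
    (hzΓ : z ∈ closure (Set.range (pullback.lift U.ι h hh)))
    (hiso : ∃ W : (pullback pX pY).Opens, (W : Set ↥(pullback pX pY)) ∩
      closure (Set.range (pullback.lift U.ι h hh)) ∩ (pullback.fst pX pY) ⁻¹' {x} = {z}) :
    ∃ (V : X.Opens) (v : (V : Scheme.{u}) ⟶ Y), x ∈ V ∧ v ≫ pY = V.ι ≫ pX ∧
      X.homOfLE (inf_le_right : U ⊓ V ≤ V) ≫ v = X.homOfLE (inf_le_left : U ⊓ V ≤ U) ≫ h :=
  main' pX pY U h hh x (hX x) hx z hz hzΓ hiso

end Groth.Agent.Helper3.RatMain
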