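import Mathlib

open AlgebraicGeometry CategoryTheory CategoryTheory.Limits TopologicalSpace Opposite

universe u

namespace Groth.Agent.Helper3.RatNbhd

/-- the kernel of a localization of a Noetherian ring at a prime is killed by a single element
outside the prime -/
theorem exists_kill {A L : Type*} [CommRing A] [IsNoetherianRing A] (p : Ideal A) [p.IsPrime]
    [CommRing L] [Algebra A L] [IsLocalization.AtPrime L p] :
    ∃ s : A, s ∉ p ∧ ∀ r : A, algebraMap A L r = 0 → s * r = 0 := by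
  classical
  obtain ⟨G, hG⟩ := (isNoetherianRing_iff_ideal_fg A).mp inferInstance (RingHom.ker (algebraMap A L))
  have hex : ∀ g : A, ∃ m : A, g ∈ RingHom.ker (algebraMap A L) → m ∉ p ∧ m * g = 0 := by
    intro g
    by_cases hg : g ∈ RingHom.ker (algebraMap A L)
    · obtain ⟨m, hm⟩ := (IsLocalization.map_eq_zero_iff p.primeCompl L g).mp hg
      exact ⟨m, fun _ => ⟨m.2, hm⟩⟩
    · exact ⟨0, fun h => absurd h hg⟩
  choose m hm using hex
  have hGker : ∀ g ∈ G, g ∈ RingHom.ker (algebraMap A L) := by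
    intro g hg
    rw [← hG]
    exact Ideal.subset_span hg
  refine ⟨∏ g ∈ G, m g, ?_, ?_⟩
  · intro h
    obtain ⟨g, hg, hgp⟩ := (‹p.IsPrime›.prod_mem_iff).mp h
    exact (hm g (hGker g hg)).1 hgp
  · intro r hr
    have hr' : r ∈ Ideal.span (G : Set A) := by rw [hG]; exact hr
    clear hr
    induction hr' using Submodule.span_induction with
    | mem g hg =>
      rw [← Finset.mul_prod_erase G m hg, mul_comm (m g), mul_assoc, (hm g (hGker g hg)).2,
        mul_zero]
    | zero => exact mul_zero _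
    | add a b _ _ ha hb => rw [mul_add, ha, hb, add_zero]
    | smul c a _ ha => rw [smul_eq_mul, mul_left_comm, ha, mul_zero]

/-- a point of a locally Noetherian scheme whose local ring is a domain has an integral open
neighbourhood -/
theorem exists_integral_nbhd {X : Scheme.{u}} [IsLocallyNoetherian X] (x : X)
    [IsDomain (X.presheaf.stalk x)] :
    ∃ W : X.Opens, x ∈ W ∧ IsIntegral (W : Scheme.{u}) := by
  obtain ⟨_, ⟨X₁, hX₁, rfl⟩, hxX₁, -⟩ := X.isBasis_affineOpens.exists_subset_of_mem_open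
    (Set.mem_univ x) isOpen_univ
  replace hX₁ : IsAffineOpen X₁ := hX₁
  haveI : IsNoetherianRing Γ(X, X₁) := IsLocallyNoetherian.component_noetherian ⟨X₁, hX₁⟩
  let 𝔭pt : PrimeSpectrum Γ(X, X₁) := hX₁.primeIdealOf ⟨x, hxX₁⟩
  letI algL : Algebra Γ(X, X₁) (X.presheaf.stalk x) :=
    X.presheaf.algebra_section_stalk ⟨x, hxX₁⟩
  haveI h𝔭prime : (PrimeSpectrum.asIdeal 𝔭pt).IsPrime := PrimeSpectrum.isPrime 𝔭pt
  haveI locL : IsLocalization.AtPrime (X.presheaf.stalk x) (PrimeSpectrum.asIdeal 𝔭pt) :=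
    hX₁.isLocalization_stalk ⟨x, hxX₁⟩
  obtain ⟨s, hs𝔭, hs⟩ := exists_kill (L := X.presheaf.stalk x) (PrimeSpectrum.asIdeal 𝔭pt)
  let W : X.Opens := X.basicOpen s
  have hW : IsAffineOpen W := hX₁.basicOpen s
  have hWX₁ : W ≤ X₁ := X.basicOpen_le s
  have hxW : x ∈ W := by
    have h1 : 𝔭pt ∈ hX₁.fromSpec ⁻¹ᵁ X.basicOpen s := by
      rw [hX₁.fromSpec_preimage_basicOpen]
      exact hs𝔭
    have h2 : hX₁.fromSpec 𝔭pt ∈ X.basicOpen s := h1
    rwa [hX₁.fromSpec_primeIdealOf ⟨x, hxX₁⟩] at h2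
  haveI locW : IsLocalization.Away s Γ(X, W) := hX₁.isLocalization_basicOpen s
  have hgerm : ∀ r : Γ(X, X₁), X.presheaf.germ W x hxW (algebraMap Γ(X, X₁) Γ(X, W) r) =
      algebraMap Γ(X, X₁) (X.presheaf.stalk x) r := by
    intro r
    exact TopCat.Presheaf.germ_res_apply _ _ _ _ _
  have hinj : Function.Injective (X.presheaf.germ W x hxW).hom := by
    rw [injective_iff_map_eq_zero]
    intro y hy
    obtain ⟨r, ⟨_, n, rfl⟩, rfl⟩ := IsLocalization.exists_mk'_eq (Submonoid.powers s) y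
    have h1 : (X.presheaf.germ W x hxW).hom
        (IsLocalization.mk' Γ(X, W) r (⟨s ^ n, n, rfl⟩ : Submonoid.powers s) *
          algebraMap Γ(X, X₁) Γ(X, W) (s ^ n)) = 0 := by
      rw [map_mul, hy, zero_mul]
    rw [IsLocalization.mk'_spec] at h1
    have h2 : algebraMap Γ(X, X₁) (X.presheaf.stalk x) r = 0 := (hgerm r).symm.trans h1
    have h3 : s * r = 0 := hs r h2
    rw [IsLocalization.mk'_eq_zero_iff]
    exact ⟨⟨s, 1, pow_one s⟩, h3⟩
  haveI : IsDomain Γ(X, W) := hinj.isDomain (X.presheaf.germ W x hxW).hom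
  haveI : IsAffine (W : Scheme.{u}) := hW
  haveI : Nonempty (W : Scheme.{u}) := ⟨⟨x, hxW⟩⟩
  haveI : IsDomain Γ(W, ⊤) := (W.topIso).commRingCatIsoToRingEquiv.toMulEquiv.isDomain _
  exact ⟨W, hxW, isIntegral_of_isAffine_of_isDomain _⟩

end Groth.Agent.Helper3.RatNbhd
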