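import Mathlib
import Groth.Agent.Helper3.RatMain
import Groth.Agent.Helper3.RatNbhd
import Groth.Agent.Helper3.RatGlue
import Groth.Agent.Helper5.GenLift3

open AlgebraicGeometry CategoryTheory CategoryTheory.Limits TopologicalSpace Opposite

universe u

namespace Groth.Agent.Helper3.RatSec

/-- the case `S = X` of `RatMain.main'`: extending a section at a point -/
theorem extend_of_point {X Y : Scheme.{u}} (q : Y ⟶ X) [LocallyOfFiniteType q] [IsSeparated q]
    (U : X.Opens) (h : (U : Scheme.{u}) ⟶ Y) (hh : h ≫ q = U.ι) (x : X)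
    (hXx : ∃ W : X.Opens, x ∈ W ∧ IsIntegral (W : Scheme.{u}))
    (hx : IsIntegrallyClosed (X.presheaf.stalk x)) (z : Y) (hz : q z = x)
    (hzΓ : z ∈ closure (Set.range h))
    (hiso : ∃ WY : Y.Opens, (WY : Set Y) ∩ closure (Set.range h) ∩ q ⁻¹' {x} = {z}) :
    ∃ (V : X.Opens) (v : (V : Scheme.{u}) ⟶ Y), x ∈ V ∧ v ≫ q = V.ι ∧
      X.homOfLE (inf_le_right : U ⊓ V ≤ V) ≫ v = X.homOfLE (inf_le_left : U ⊓ V ≤ U) ≫ h := by
  have hh' : U.ι ≫ 𝟙 X = h ≫ q := by rw [Category.comp_id, hh]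
  let sY : Y ⟶ pullback (𝟙 X) q := pullback.lift q (𝟙 Y) (by simp)
  have hs1 : sY ≫ pullback.fst (𝟙 X) q = q := pullback.lift_fst _ _ _
  have hs2 : sY ≫ pullback.snd (𝟙 X) q = 𝟙 Y := pullback.lift_snd _ _ _
  have hs3 : pullback.snd (𝟙 X) q ≫ sY = 𝟙 _ := by
    apply pullback.hom_ext
    · rw [Category.assoc, hs1, Category.id_comp, ← pullback.condition, Category.comp_id]
    · rw [Category.assoc, hs2, Category.id_comp, Category.comp_id]
  have hγ : pullback.lift U.ι h hh' = h ≫ sY := by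
    apply pullback.hom_ext
    · rw [pullback.lift_fst, Category.assoc, hs1, hh]
    · rw [pullback.lift_snd, Category.assoc, hs2, Category.comp_id]
  have hpt : ∀ w : ↑(pullback (𝟙 X) q), sY (pullback.snd (𝟙 X) q w) = w := by
    intro w
    show (pullback.snd (𝟙 X) q ≫ sY) w = w
    rw [hs3]; rfl
  have hpt2 : ∀ y : Y, pullback.snd (𝟙 X) q (sY y) = y := by
    intro y
    show (sY ≫ pullback.snd (𝟙 X) q) y = y
    rw [hs2]; rfl
  have hpt1 : ∀ y : Y, pullback.fst (𝟙 X) q (sY y) = q y := by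
    intro y
    show (sY ≫ pullback.fst (𝟙 X) q) y = q y
    rw [hs1]
  have hcond : ∀ w : ↑(pullback (𝟙 X) q), q (pullback.snd (𝟙 X) q w) = pullback.fst (𝟙 X) q w := by
    intro w
    have : (pullback.snd (𝟙 X) q ≫ q) w = (pullback.fst (𝟙 X) q ≫ 𝟙 X) w := by
      rw [pullback.condition]
    rw [Category.comp_id] at this
    exact this
  have hz1 : pullback.fst (𝟙 X) q (sY z) = x := (hpt1 z).trans hz
  have hz2 : sY z ∈ closure (Set.range (pullback.lift U.ι h hh')) := by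
    rw [hγ]
    have h1 : Set.range (h ≫ sY) = sY '' Set.range h := by
      rw [← Set.range_comp]; rfl
    rw [h1]
    exact image_closure_subset_closure_image sY.continuous ⟨z, hzΓ, rfl⟩
  have hz3 : ∃ W : (pullback (𝟙 X) q).Opens, (W : Set ↑(pullback (𝟙 X) q)) ∩
      closure (Set.range (pullback.lift U.ι h hh')) ∩ (pullback.fst (𝟙 X) q) ⁻¹' {x} = {sY z} := by
    obtain ⟨WY, hWY⟩ := hiso
    refine ⟨(pullback.snd (𝟙 X) q) ⁻¹ᵁ WY, ?_⟩
    have hzW : z ∈ (WY : Set Y) ∩ closure (Set.range h) ∩ q ⁻¹' {x} := by rw [hWY]; rfl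
    ext w
    constructor
    · rintro ⟨⟨hw1, hw2⟩, hw3⟩
      have hw2' : pullback.snd (𝟙 X) q w ∈ closure (Set.range h) := by
        have h1 : Set.range (h ≫ sY) = sY '' Set.range h := by
          rw [← Set.range_comp]; rfl
        rw [hγ, h1] at hw2
        have h2 := image_closure_subset_closure_image (pullback.snd (𝟙 X) q).continuous
          ⟨w, hw2, rfl⟩
        have h3 : pullback.snd (𝟙 X) q '' (sY '' Set.range h) = Set.range h := by
          rw [Set.image_image]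
          simp only [hpt2, Set.image_id']
        rwa [h3] at h2
      have h1 : pullback.snd (𝟙 X) q w ∈ (WY : Set Y) ∩ closure (Set.range h) ∩ q ⁻¹' {x} :=
        ⟨⟨hw1, hw2'⟩, (hcond w).trans hw3⟩
      rw [hWY] at h1
      show w = sY z
      rw [← hpt w, h1]
    · intro hw
      have hw' : w = sY z := hw
      subst hw'
      refine ⟨⟨?_, hz2⟩, hz1⟩
      show pullback.snd (𝟙 X) q (sY z) ∈ WY
      rw [hpt2]
      exact hzW.1.1
  obtain ⟨V, v, hxV, hv, hag⟩ := RatMain.main' (𝟙 X) q U h hh' x hXx hx (sY z) hz1 hz2 hz3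
  exact ⟨V, v, hxV, by rw [hv, Category.comp_id], hag⟩

/-- extension of a section to a neighbourhood of `U ∪ {x}` from a local extension -/
theorem extend_glue {X Y : Scheme.{u}} (q : Y ⟶ X) (U : X.Opens) (h : (U : Scheme.{u}) ⟶ Y)
    (hh : h ≫ q = U.ι) (x : X) (V : X.Opens) (v : (V : Scheme.{u}) ⟶ Y) (hxV : x ∈ V)
    (hv : v ≫ q = V.ι)
    (hag : X.homOfLE (inf_le_right : U ⊓ V ≤ V) ≫ v = X.homOfLE (inf_le_left : U ⊓ V ≤ U) ≫ h) :
    ∃ (U' : X.Opens) (hUU' : U ≤ U') (hVU' : V ≤ U') (h' : (U' : Scheme.{u}) ⟶ Y),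
      x ∈ U' ∧ h' ≫ q = U'.ι ∧ X.homOfLE hUU' ≫ h' = h ∧ X.homOfLE hVU' ≫ h' = v := by
  obtain ⟨U', hUU', hVU', h', h1, h2, hext⟩ := RatGlue.glue2 U V h v hag
  refine ⟨U', hUU', hVU', h', hVU' hxV, ?_, h1, h2⟩
  apply hext
  · rw [← Category.assoc, h1, hh, X.homOfLE_ι]
  · rw [← Category.assoc, h2, hv, X.homOfLE_ι]

set_option maxHeartbeats 800000 in
/-- S3849 -/
theorem s3849 {X Y : Scheme.{u}} [IsLocallyNoetherian X] (q : Y ⟶ X)
    [LocallyOfFiniteType q] [IsSeparated q] [LocallyQuasiFinite q] (U : X.Opens)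
    (hU : Dense (U : Set ↥X)) (h : (U : Scheme.{u}) ⟶ Y) (hh : h ≫ q = U.ι) (x : ↥X)
    (hxU : x ∉ U) [IsDomain ↑(X.presheaf.stalk x)]
    (hx : IsIntegrallyClosed ↑(X.presheaf.stalk x)) :
    (∃ (U' : X.Opens) (hUU' : U ≤ U') (h' : (U' : Scheme.{u}) ⟶ Y),
        x ∈ U' ∧ h' ≫ q = U'.ι ∧ X.homOfLE hUU' ≫ h' = h) ↔
      ∃ (R : Type u) (_ : CommRing R) (_ : IsDomain R) (_ : IsDiscreteValuationRing R)
        (u : Spec (CommRingCat.of R) ⟶ X)
        (ub : Spec (CommRingCat.of (FractionRing R)) ⟶ (U : Scheme.{u}))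
        (h₁ : Spec (CommRingCat.of R) ⟶ Y),
        u (IsLocalRing.closedPoint R) = x ∧
          ub ≫ U.ι = Spec.map (CommRingCat.ofHom (algebraMap R (FractionRing R))) ≫ u ∧
          h₁ ≫ q = u ∧
          Spec.map (CommRingCat.ofHom (algebraMap R (FractionRing R))) ≫ h₁ = ub ≫ h := by
  have hXx := RatNbhd.exists_integral_nbhd x
  constructor
  · rintro ⟨U', hUU', h', hxU', hq', hres⟩
    obtain ⟨W₀, hxW₀, hW₀⟩ := hXx
    haveI := hW₀
    obtain ⟨_, ⟨X₀, hX₀, rfl⟩, hxX₀, hX₀W : X₀ ≤ W₀⟩ :=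
      X.isBasis_affineOpens.exists_subset_of_mem_open hxW₀ W₀.2
    replace hX₀ : IsAffineOpen X₀ := hX₀
    haveI : IsDomain Γ(X, X₀) := RatMain.isDomain_of_le hX₀W x hxX₀
    let ξ : X := hX₀.fromSpec (⟨⊥, Ideal.isPrime_bot⟩ : PrimeSpectrum Γ(X, X₀))
    have hξx : ξ ⤳ x := RatMain.bot_specializes hX₀ x hxX₀
    obtain ⟨u₁, hu₁X, hu₁U⟩ : ((X₀ : Set X) ∩ (U : Set X)).Nonempty :=
      hU.inter_open_nonempty X₀ X₀.2 ⟨x, hxX₀⟩
    have hξU : ξ ∈ U := (RatMain.bot_specializes hX₀ u₁ hu₁X).mem_open U.2 hu₁U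
    have hne : ξ ≠ x := fun e => hxU (e ▸ hξU)
    obtain ⟨R, hR1, hR2, hR3, φ, hφ0, hφ1⟩ :=
      Groth.Agent.Helper5.GenLift.exists_dvr_spec X ξ x hξx hne
    have hφU' : Set.range φ ⊆ Set.range U'.ι := by
      rintro _ ⟨p, rfl⟩
      have h1 : φ p ⤳ φ (IsLocalRing.closedPoint R) :=
        (IsLocalRing.specializes_closedPoint p).map φ.continuous
      rw [hφ0] at h1
      rw [Scheme.Opens.range_ι]
      exact h1.mem_open U'.2 hxU'
    let φ' : Spec (CommRingCat.of R) ⟶ (U' : Scheme.{u}) := IsOpenImmersion.lift U'.ι φ hφU'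
    have hφ' : φ' ≫ U'.ι = φ := IsOpenImmersion.lift_fac _ _ _
    let g := Spec.map (CommRingCat.ofHom (algebraMap R (FractionRing R)))
    have hgU : Set.range (g ≫ φ) ⊆ Set.range U.ι := by
      rintro _ ⟨pt, rfl⟩
      have h1 : g pt = (⟨⊥, Ideal.isPrime_bot⟩ : PrimeSpectrum R) := by
        apply PrimeSpectrum.ext
        show Ideal.comap (algebraMap R (FractionRing R)) pt.asIdeal = ⊥
        have hpt : pt.asIdeal = ⊥ := by
          rcases Ideal.eq_bot_or_top pt.asIdeal with h | h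
          · exact h
          · exact absurd h pt.isPrime.ne_top
        rw [hpt, ← RingHom.ker_eq_comap_bot]
        exact (RingHom.injective_iff_ker_eq_bot _).mp (IsFractionRing.injective R (FractionRing R))
      show φ (g pt) ∈ _
      rw [h1, hφ1, Scheme.Opens.range_ι]
      exact hξU
    let ub : Spec (CommRingCat.of (FractionRing R)) ⟶ (U : Scheme.{u}) :=
      IsOpenImmersion.lift U.ι (g ≫ φ) hgU
    have hub : ub ≫ U.ι = g ≫ φ := IsOpenImmersion.lift_fac _ _ _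
    refine ⟨R, hR1, hR2, hR3, φ, ub, φ' ≫ h', hφ0, hub, ?_, ?_⟩
    · rw [Category.assoc, hq', hφ']
    · rw [← hres, ← Category.assoc, ← Category.assoc]
      congr 1
      rw [← cancel_mono U'.ι, Category.assoc, hφ', Category.assoc, X.homOfLE_ι, hub]
  · rintro ⟨R, _, _, _, u, ub, h₁, hux, hub, hh₁, hgen⟩
    let z : Y := h₁ (IsLocalRing.closedPoint R)
    have hz : q z = x := by
      show (h₁ ≫ q) (IsLocalRing.closedPoint R) = x
      rw [hh₁, hux]
    let g := Spec.map (CommRingCat.ofHom (algebraMap R (FractionRing R)))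
    have hzΓ : z ∈ closure (Set.range h) := by
      obtain ⟨pt⟩ : Nonempty (Spec (CommRingCat.of (FractionRing R))) := inferInstance
      have h1 : h₁ (g pt) ∈ Set.range h := by
        refine ⟨ub pt, ?_⟩
        show (ub ≫ h) pt = (g ≫ h₁) pt
        rw [hgen]
      have h2 : g pt ⤳ IsLocalRing.closedPoint R := IsLocalRing.specializes_closedPoint (g pt)
      have h3 : h₁ (g pt) ⤳ z := h2.map h₁.continuous
      exact h3.mem_closed isClosed_closure (subset_closure h1)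
    have hiso : ∃ WY : Y.Opens, (WY : Set Y) ∩ closure (Set.range h) ∩ q ⁻¹' {x} = {z} := by
      have hd := q.isDiscrete_preimage_singleton x
      rw [isDiscrete_iff_forall_mem_exists_isOpen] at hd
      obtain ⟨W, hWo, hW⟩ := hd z hz
      refine ⟨⟨W, hWo⟩, ?_⟩
      have hzW : z ∈ W ∩ q ⁻¹' {x} := by rw [hW]; rfl
      ext w
      constructor
      · rintro ⟨⟨hw1, -⟩, hw3⟩
        have : w ∈ W ∩ q ⁻¹' {x} := ⟨hw1, hw3⟩
        rwa [hW] at this
      · intro hw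
        have hw' : w = z := hw
        rw [hw']
        exact ⟨⟨hzW.1, hzΓ⟩, hzW.2⟩
    obtain ⟨V, v, hxV, hv, hag⟩ := extend_of_point q U h hh x hXx hx z hz hzΓ hiso
    obtain ⟨U', hUU', -, h', hxU', hq', hres, -⟩ := extend_glue q U h hh x V v hxV hv hag
    exact ⟨U', hUU', h', hxU', hq', hres⟩

end Groth.Agent.Helper3.RatSec
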