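import Mathlib
import Groth.Agent.Helper3.RatSec

open AlgebraicGeometry CategoryTheory CategoryTheory.Limits TopologicalSpace Opposite

universe u

namespace Groth.Agent.Helper3.RatSec

/-- the residue field map of a section is an isomorphism -/
theorem isIso_residueFieldMap_section {X Y : Scheme.{u}} (q : Y ⟶ X) (U : X.Opens)
    (h : (U : Scheme.{u}) ⟶ Y) (hh : h ≫ q = U.ι) (u₀ : (U : Scheme.{u})) :
    IsIso (h.residueFieldMap u₀) := by
  have h1 : (h ≫ q).residueFieldMap u₀ =
      q.residueFieldMap (h u₀) ≫ h.residueFieldMap u₀ := Scheme.residueFieldMap_comp _ _ _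
  have h2 := Scheme.Hom.residueFieldMap_congr hh u₀
  haveI : IsIso ((h ≫ q).residueFieldMap u₀) := by
    rw [h2]; infer_instance
  have hsurj : Function.Surjective (h.residueFieldMap u₀).hom := by
    intro b
    refine ⟨(q.residueFieldMap (h u₀)).hom ((inv ((h ≫ q).residueFieldMap u₀)).hom b), ?_⟩
    have h3 : (inv ((h ≫ q).residueFieldMap u₀) ≫ (h ≫ q).residueFieldMap u₀).hom b = b := by
      rw [IsIso.inv_hom_id]; rfl
    have h4 := congrArg (fun f => f.hom ((inv ((h ≫ q).residueFieldMap u₀)).hom b)) h1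
    exact h4.symm.trans h3
  have hinj : Function.Injective (h.residueFieldMap u₀).hom :=
    (h.residueFieldMap u₀).hom.injective
  exact (ConcreteCategory.isIso_iff_bijective _).mpr ⟨hinj, hsurj⟩

/-- a field-valued point of `Y` lying on a section factors through the section -/
theorem section_factor {X Y : Scheme.{u}} (q : Y ⟶ X) (U : X.Opens)
    (h : (U : Scheme.{u}) ⟶ Y) (hh : h ≫ q = U.ι) (K : Type u) [Field K]
    (a : Spec (CommRingCat.of K) ⟶ Y) (u₀ : (U : Scheme.{u}))
    (ha : a (IsLocalRing.closedPoint K) = h u₀) :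
    ∃ a' : Spec (CommRingCat.of K) ⟶ (U : Scheme.{u}), a' ≫ h = a := by
  haveI := isIso_residueFieldMap_section q U h hh u₀
  have e1 := Scheme.descResidueField_stalkClosedPointTo_fromSpecResidueField K Y a
  have e2 : Y.fromSpecResidueField (a (IsLocalRing.closedPoint K)) =
      Spec.map (Y.residueFieldCongr ha.symm).hom ≫ Y.fromSpecResidueField (h u₀) :=
    (Scheme.residueFieldCongr_fromSpecResidueField ha.symm).symm
  have e3 : Spec.map (h.residueFieldMap u₀) ≫ Y.fromSpecResidueField (h u₀) =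
      (U : Scheme.{u}).fromSpecResidueField u₀ ≫ h :=
    Scheme.Hom.SpecMap_residueFieldMap_fromSpecResidueField h u₀
  have e4 : Y.fromSpecResidueField (h u₀) =
      Spec.map (inv (h.residueFieldMap u₀)) ≫ (U : Scheme.{u}).fromSpecResidueField u₀ ≫ h := by
    rw [← e3, ← Category.assoc, ← Spec.map_comp, IsIso.hom_inv_id, Spec.map_id, Category.id_comp]
  refine ⟨Spec.map (Scheme.descResidueField (Scheme.stalkClosedPointTo a)) ≫
    Spec.map (Y.residueFieldCongr ha.symm).hom ≫ Spec.map (inv (h.residueFieldMap u₀)) ≫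
    (U : Scheme.{u}).fromSpecResidueField u₀, ?_⟩
  refine Eq.trans ?_ e1
  rw [e2, e4]
  simp only [Category.assoc]

/-- points of the closure of a locally closed Noetherian subset of a quasi-sober space are
specializations of points of the subset -/
theorem exists_specializes_of_mem_closure {X : Type*} [TopologicalSpace X] [QuasiSober X]
    (F O C : Set X) (hO : IsOpen O) (hC : IsClosed C) (hF : F = O ∩ C) [NoetherianSpace F]
    (x : X) (hx : x ∈ closure F) : ∃ b ∈ F, b ⤳ x := by
  have hfin := NoetherianSpace.finite_irreducibleComponents (α := F)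
  have hcov : ⋃₀ irreducibleComponents F = Set.univ := sUnion_irreducibleComponents
  have hFeq : F = ⋃ Z ∈ irreducibleComponents F, (Subtype.val '' Z : Set X) := by
    ext p
    constructor
    · intro hp
      have : (⟨p, hp⟩ : F) ∈ ⋃₀ irreducibleComponents F := by rw [hcov]; trivial
      obtain ⟨Z, hZ, hpZ⟩ := this
      exact Set.mem_biUnion hZ ⟨⟨p, hp⟩, hpZ, rfl⟩
    · intro hp
      simp only [Set.mem_iUnion] at hp
      obtain ⟨Z, -, ⟨p', -, rfl⟩⟩ := hp
      exact p'.2
  rw [hFeq, hfin.closure_biUnion] at hx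
  simp only [Set.mem_iUnion] at hx
  obtain ⟨Z, hZ, hxZ⟩ := hx
  have hZirr : IsIrreducible Z := hZ.1
  have hZ' : IsIrreducible (Subtype.val '' Z : Set X) :=
    hZirr.image Subtype.val continuous_subtype_val.continuousOn
  obtain ⟨b, hb⟩ := QuasiSober.sober hZ'.closure isClosed_closure
  have hZF : (Subtype.val '' Z : Set X) ⊆ F := by
    rintro _ ⟨p', -, rfl⟩; exact p'.2
  refine ⟨b, ?_, hb.specializes hxZ⟩
  rw [hF]
  constructor
  · rw [hb.mem_open_set_iff hO]
    obtain ⟨p, hp⟩ := hZ'.nonempty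
    exact ⟨p, subset_closure hp, (hF ▸ hZF hp : p ∈ O ∩ C).1⟩
  · have h1 : closure (Subtype.val '' Z : Set X) ⊆ C :=
      closure_minimal (fun p hp => (hF ▸ hZF hp : p ∈ O ∩ C).2) hC
    exact h1 hb.mem

/-- the generic point of a domain -/
theorem specMap_frac_apply (R : Type u) [CommRing R] [IsDomain R]
    (pt : Spec (CommRingCat.of (FractionRing R))) :
    Spec.map (CommRingCat.ofHom (algebraMap R (FractionRing R))) pt =
      (⟨⊥, Ideal.isPrime_bot⟩ : PrimeSpectrum R) := by
  apply PrimeSpectrum.ext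
  show Ideal.comap (algebraMap R (FractionRing R)) pt.asIdeal = ⊥
  have hpt : pt.asIdeal = ⊥ := by
    rcases Ideal.eq_bot_or_top pt.asIdeal with h | h
    · exact h
    · exact absurd h pt.isPrime.ne_top
  rw [hpt, ← RingHom.ker_eq_comap_bot]
  exact (RingHom.injective_iff_ker_eq_bot _).mp (IsFractionRing.injective R (FractionRing R))

/-- lifting the generic point into an open -/
theorem exists_ub {X : Scheme.{u}} (U : X.Opens) (R : Type u) [CommRing R] [IsDomain R]
    (φ : Spec (CommRingCat.of R) ⟶ X)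
    (hφ : φ (⟨⊥, Ideal.isPrime_bot⟩ : PrimeSpectrum R) ∈ U) :
    ∃ ub : Spec (CommRingCat.of (FractionRing R)) ⟶ (U : Scheme.{u}),
      ub ≫ U.ι = Spec.map (CommRingCat.ofHom (algebraMap R (FractionRing R))) ≫ φ := by
  have hgU : Set.range (Spec.map (CommRingCat.ofHom (algebraMap R (FractionRing R))) ≫ φ) ⊆
      Set.range U.ι := by
    rintro _ ⟨pt, rfl⟩
    show φ (Spec.map (CommRingCat.ofHom (algebraMap R (FractionRing R))) pt) ∈ _
    rw [specMap_frac_apply, Scheme.Opens.range_ι]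
    exact hφ
  exact ⟨IsOpenImmersion.lift U.ι _ hgU, IsOpenImmersion.lift_fac _ _ _⟩

/-- the valuative hypothesis of S3848 -/
def ValHyp {X Y : Scheme.{u}} (q : Y ⟶ X) (U : X.Opens) (h : (U : Scheme.{u}) ⟶ Y) (x : X)
    (y₀ : Y) : Prop :=
  ∀ (R : Type u) [CommRing R] [IsDomain R] [IsDiscreteValuationRing R]
    (u : Spec (CommRingCat.of R) ⟶ X), u (IsLocalRing.closedPoint R) = x →
    ∀ ub : Spec (CommRingCat.of (FractionRing R)) ⟶ (U : Scheme.{u}),
      ub ≫ U.ι = Spec.map (CommRingCat.ofHom (algebraMap R (FractionRing R))) ≫ u →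
      ∃ h₁ : Spec (CommRingCat.of R) ⟶ Y, h₁ ≫ q = u ∧ h₁ (IsLocalRing.closedPoint R) = y₀ ∧
        Spec.map (CommRingCat.ofHom (algebraMap R (FractionRing R))) ≫ h₁ = ub ≫ h

/-- under the valuative hypothesis, `h b` specializes to `y₀` for every generization `b ∈ U`
of `x` -/
theorem spec_of_valHyp {X Y : Scheme.{u}} [IsLocallyNoetherian X] (q : Y ⟶ X) (U : X.Opens)
    (h : (U : Scheme.{u}) ⟶ Y) (x : X) (hxU : x ∉ U) (y₀ : Y) (H : ValHyp q U h x y₀)
    (b : X) (hbU : b ∈ U) (hbx : b ⤳ x) : h ⟨b, hbU⟩ ⤳ y₀ := by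
  have hne : b ≠ x := fun e => hxU (e ▸ hbU)
  obtain ⟨R, hR1, hR2, hR3, φ, hφ0, hφ1⟩ :=
    Groth.Agent.Helper5.GenLift.exists_dvr_spec X b x hbx hne
  obtain ⟨ub, hub⟩ := exists_ub U R φ (by rw [hφ1]; exact hbU)
  obtain ⟨h₁, -, h₁0, h₁g⟩ := H R φ hφ0 ub hub
  obtain ⟨pt⟩ : Nonempty (Spec (CommRingCat.of (FractionRing R))) := inferInstance
  let g := Spec.map (CommRingCat.ofHom (algebraMap R (FractionRing R)))
  have h1 : h₁ (g pt) = h (ub pt) := by
    show (g ≫ h₁) pt = (ub ≫ h) pt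
    rw [h₁g]
  have h2 : ub pt = ⟨b, hbU⟩ := by
    apply Subtype.ext
    show (ub ≫ U.ι) pt = b
    rw [hub]
    show φ (g pt) = b
    rw [specMap_frac_apply, hφ1]
  have h3 : h₁ (g pt) ⤳ h₁ (IsLocalRing.closedPoint R) :=
    (IsLocalRing.specializes_closedPoint (g pt)).map h₁.continuous
  rw [h1, h2, h₁0] at h3
  exact h3

end Groth.Agent.Helper3.RatSec
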