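import Mathlib
import Groth.Agent.Helper3.RatSec2

open AlgebraicGeometry CategoryTheory CategoryTheory.Limits TopologicalSpace Opposite

universe u

namespace Groth.Agent.Helper3.PseudoLoc

open Groth.Agent.Helper3.RatSec

/-- Lemma 0: near a point with locally finitely many irreducible components, every point has a
generization which also generizes `x` -/
theorem exists_common_generization {X : Scheme.{u}} (x : X)
    (hfin : ∃ W : X.Opens, x ∈ W ∧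
      {Z : Set ↥X | Z ∈ irreducibleComponents ↥X ∧ (Z ∩ (W : Set ↥X)).Nonempty}.Finite) :
    ∃ V₁ : X.Opens, x ∈ V₁ ∧ ∀ p ∈ V₁, ∃ η : X, η ⤳ p ∧ η ⤳ x := by
  obtain ⟨W, hxW, hfinW⟩ := hfin
  let bad : Set (Set X) := {Z | (Z ∈ irreducibleComponents ↥X ∧ (Z ∩ (W : Set ↥X)).Nonempty) ∧ x ∉ Z}
  have hbadfin : bad.Finite := hfinW.subset (fun Z hZ => hZ.1)
  have hclosed : IsClosed (⋃₀ bad) := by
    rw [Set.sUnion_eq_biUnion]
    refine hbadfin.isClosed_biUnion ?_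
    intro Z hZ
    exact isClosed_of_mem_irreducibleComponents Z hZ.1.1
  refine ⟨W ⊓ ⟨(⋃₀ bad)ᶜ, hclosed.isOpen_compl⟩, ⟨hxW, ?_⟩, ?_⟩
  · rintro ⟨Z, hZ, hxZ⟩
    exact hZ.2 hxZ
  · rintro p ⟨hpW, hpbad⟩
    have hZ : irreducibleComponent p ∈ irreducibleComponents ↥X :=
      irreducibleComponent_mem_irreducibleComponents p
    have hpZ : p ∈ irreducibleComponent p := mem_irreducibleComponent
    have hxZ : x ∈ irreducibleComponent p := by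
      by_contra hx
      exact hpbad ⟨irreducibleComponent p, ⟨⟨hZ, ⟨p, hpZ, hpW⟩⟩, hx⟩, hpZ⟩
    obtain ⟨η, hη⟩ := QuasiSober.sober (isIrreducible_irreducibleComponent (x := p))
      (isClosed_irreducibleComponent (x := p))
    exact ⟨η, hη.specializes hpZ, hη.specializes hxZ⟩

/-- Lemma 1: germ injectivity at a point of a reduced scheme with locally finitely many
irreducible components -/
theorem isGermInjectiveAt_of_isReduced {X : Scheme.{u}} [IsReduced X] (x : X)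
    (hfin : ∃ W : X.Opens, x ∈ W ∧
      {Z : Set ↥X | Z ∈ irreducibleComponents ↥X ∧ (Z ∩ (W : Set ↥X)).Nonempty}.Finite) :
    X.IsGermInjectiveAt x := by
  obtain ⟨V₁, hxV₁, hV₁⟩ := exists_common_generization x hfin
  obtain ⟨_, ⟨(U₀ : X.Opens), hU₀, rfl⟩, hxU₀, hU₀V₁⟩ :=
    X.isBasis_affineOpens.exists_subset_of_mem_open hxV₁ V₁.2
  refine ⟨⟨U₀, hxU₀, hU₀, ?_⟩⟩
  rw [injective_iff_map_eq_zero]
  intro s hs
  rw [← basicOpen_eq_bot_iff, ← Opens.not_nonempty_iff_eq_bot]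
  rintro ⟨p, hp⟩
  have hpU₀ : p ∈ U₀ := X.basicOpen_le s hp
  obtain ⟨η, hηp, hηx⟩ := hV₁ p (hU₀V₁ hpU₀)
  have hηb : η ∈ X.basicOpen s := hηp.mem_open (X.basicOpen s).2 hp
  have hηU₀ : η ∈ U₀ := X.basicOpen_le s hηb
  have h1 : IsUnit (X.presheaf.germ U₀ η hηU₀ s) := (X.mem_basicOpen s η hηU₀).mp hηb
  have h2 : X.presheaf.germ U₀ η hηU₀ s = 0 := by
    have h3 := TopCat.Presheaf.germ_stalkSpecializes X.presheaf hxU₀ hηx
    have h4 := congrArg (fun f => f.hom s) h3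
    simp only [CommRingCat.hom_comp, RingHom.coe_comp, Function.comp_apply] at h4
    rw [← h4, hs, map_zero]
  rw [h2] at h1
  exact not_isUnit_zero h1

/-- Lemma 3: agreement at the local rings of generizations of `x` -/
theorem agree_at_generization {X Y : Scheme.{u}} (U V : X.Opens) (h : (U : Scheme.{u}) ⟶ Y)
    (v : (V : Scheme.{u}) ⟶ Y) (x : X) (hxV : x ∈ V)
    (hag : pullback.fst (X.fromSpecStalk x) U.ι ≫ V.fromSpecStalkOfMem x hxV ≫ v =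
      pullback.snd (X.fromSpecStalk x) U.ι ≫ h)
    (D : X.Opens) (hDU : D ≤ U) (hDV : D ≤ V) (d : X) (hdD : d ∈ D) (hdx : d ⤳ x) :
    (D : Scheme.{u}).fromSpecStalk ⟨d, hdD⟩ ≫ X.homOfLE hDV ≫ v =
      (D : Scheme.{u}).fromSpecStalk ⟨d, hdD⟩ ≫ X.homOfLE hDU ≫ h := by
  let d' : (D : Scheme.{u}) := ⟨d, hdD⟩
  have hdx' : D.ι d' ⤳ x := hdx
  let σ : Spec ((D : Scheme.{u}).presheaf.stalk d') ⟶ Spec (X.presheaf.stalk x) :=
    Spec.map (D.ι.stalkMap d') ≫ Spec.map (X.presheaf.stalkSpecializes hdx')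
  have hσ : σ ≫ X.fromSpecStalk x = (D : Scheme.{u}).fromSpecStalk d' ≫ D.ι := by
    rw [Category.assoc, Scheme.SpecMap_stalkSpecializes_fromSpecStalk,
      Scheme.SpecMap_stalkMap_fromSpecStalk]
  let τ : Spec ((D : Scheme.{u}).presheaf.stalk d') ⟶ (U : Scheme.{u}) :=
    (D : Scheme.{u}).fromSpecStalk d' ≫ X.homOfLE hDU
  have hτ : τ ≫ U.ι = (D : Scheme.{u}).fromSpecStalk d' ≫ D.ι := by
    rw [Category.assoc, X.homOfLE_ι]
  let ρ := pullback.lift σ τ (hσ.trans hτ.symm)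
  have hρ1 : ρ ≫ pullback.fst (X.fromSpecStalk x) U.ι = σ := pullback.lift_fst _ _ _
  have hρ2 : ρ ≫ pullback.snd (X.fromSpecStalk x) U.ι = τ := pullback.lift_snd _ _ _
  have h1 : σ ≫ V.fromSpecStalkOfMem x hxV = (D : Scheme.{u}).fromSpecStalk d' ≫ X.homOfLE hDV := by
    rw [← cancel_mono V.ι, Category.assoc, Scheme.Opens.fromSpecStalkOfMem_ι, hσ, Category.assoc,
      X.homOfLE_ι]
  calc (D : Scheme.{u}).fromSpecStalk d' ≫ X.homOfLE hDV ≫ v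
      = σ ≫ V.fromSpecStalkOfMem x hxV ≫ v := by rw [← Category.assoc, ← h1, Category.assoc]
    _ = ρ ≫ pullback.fst (X.fromSpecStalk x) U.ι ≫ V.fromSpecStalkOfMem x hxV ≫ v := by
        rw [← Category.assoc ρ, hρ1]
    _ = ρ ≫ pullback.snd (X.fromSpecStalk x) U.ι ≫ h := by rw [hag]
    _ = (D : Scheme.{u}).fromSpecStalk d' ≫ X.homOfLE hDU ≫ h := by
        rw [← Category.assoc, hρ2, Category.assoc]

/-- Lemma 2: the easy direction -/
theorem forward {X Y : Scheme.{u}} (U V : X.Opens) (h : (U : Scheme.{u}) ⟶ Y)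
    (v : (V : Scheme.{u}) ⟶ Y) (x : X) (hxV : x ∈ V)
    (hag : X.homOfLE (inf_le_right : U ⊓ V ≤ V) ≫ v = X.homOfLE (inf_le_left : U ⊓ V ≤ U) ≫ h) :
    pullback.fst (X.fromSpecStalk x) U.ι ≫ V.fromSpecStalkOfMem x hxV ≫ v =
      pullback.snd (X.fromSpecStalk x) U.ι ≫ h := by
  have hr : Set.range (pullback.fst (X.fromSpecStalk x) U.ι ≫ X.fromSpecStalk x) ⊆
      Set.range (U ⊓ V).ι := by
    rintro _ ⟨p, rfl⟩
    rw [Scheme.Opens.range_ι]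
    refine ⟨?_, ?_⟩
    · have : (pullback.fst (X.fromSpecStalk x) U.ι ≫ X.fromSpecStalk x) p =
          (pullback.snd (X.fromSpecStalk x) U.ι ≫ U.ι) p := by rw [pullback.condition]
      rw [this]
      exact (pullback.snd (X.fromSpecStalk x) U.ι p).2
    · have h1 : (X.fromSpecStalk x) (pullback.fst (X.fromSpecStalk x) U.ι p) ⤳ x := by
        have := Set.mem_range_self (f := X.fromSpecStalk x)
          (pullback.fst (X.fromSpecStalk x) U.ι p)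
        rwa [Scheme.range_fromSpecStalk] at this
      exact h1.mem_open V.2 hxV
  let k := IsOpenImmersion.lift (U ⊓ V).ι
    (pullback.fst (X.fromSpecStalk x) U.ι ≫ X.fromSpecStalk x) hr
  have hk : k ≫ (U ⊓ V).ι = pullback.fst (X.fromSpecStalk x) U.ι ≫ X.fromSpecStalk x :=
    IsOpenImmersion.lift_fac _ _ _
  have h1 : pullback.fst (X.fromSpecStalk x) U.ι ≫ V.fromSpecStalkOfMem x hxV =
      k ≫ X.homOfLE inf_le_right := by
    rw [← cancel_mono V.ι, Category.assoc, Scheme.Opens.fromSpecStalkOfMem_ι, Category.assoc,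
      X.homOfLE_ι, hk]
  have h2 : pullback.snd (X.fromSpecStalk x) U.ι = k ≫ X.homOfLE inf_le_left := by
    rw [← cancel_mono U.ι, Category.assoc, X.homOfLE_ι, hk, pullback.condition]
  rw [← Category.assoc, h1, h2, Category.assoc, Category.assoc, hag]

set_option maxHeartbeats 800000 in
/-- Lemma 4A: shrinking in the locally Noetherian case -/
theorem shrink_noeth {X Y : Scheme.{u}} [IsLocallyNoetherian X] (U V : X.Opens)
    (hV : IsAffineOpen V) (h : (U : Scheme.{u}) ⟶ Y) (v : (V : Scheme.{u}) ⟶ Y) (x : X)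
    (hxV : x ∈ V)
    (hag : ∀ (D : X.Opens) (hDU : D ≤ U) (hDV : D ≤ V) (d : X) (hdD : d ∈ D), d ⤳ x →
      (D : Scheme.{u}).fromSpecStalk ⟨d, hdD⟩ ≫ X.homOfLE hDV ≫ v =
      (D : Scheme.{u}).fromSpecStalk ⟨d, hdD⟩ ≫ X.homOfLE hDU ≫ h) :
    ∃ (V' : X.Opens) (hV'V : V' ≤ V), x ∈ V' ∧
      X.homOfLE (inf_le_right : U ⊓ V' ≤ V') ≫ X.homOfLE hV'V ≫ v =
        X.homOfLE (inf_le_left : U ⊓ V' ≤ U) ≫ h := by
  classical
  obtain ⟨D, hD⟩ : ∃ D : X.Opens, D = U ⊓ V := ⟨_, rfl⟩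
  have hDU : D ≤ U := hD ▸ inf_le_left
  have hDV : D ≤ V := hD ▸ inf_le_right
  obtain ⟨a, ha⟩ : ∃ a : (D : Scheme.{u}) ⟶ Y, a = X.homOfLE hDV ≫ v := ⟨_, rfl⟩
  obtain ⟨b, hb⟩ : ∃ b : (D : Scheme.{u}) ⟶ Y, b = X.homOfLE hDU ≫ h := ⟨_, rfl⟩
  let I := {W : X.Opens // ∃ hW : W ≤ D, X.homOfLE hW ≫ a = X.homOfLE hW ≫ b}
  let Ω : X.Opens := ⨆ i : I, i.1
  have hΩD : Ω ≤ D := iSup_le fun i => i.2.choose
  have hΩ : X.homOfLE hΩD ≫ a = X.homOfLE hΩD ≫ b := by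
    apply Scheme.Cover.hom_ext (Scheme.Opens.iSupOpenCover (fun i : I => i.1))
    intro i
    show X.homOfLE (le_iSup (fun i : I => i.1) i) ≫ X.homOfLE hΩD ≫ a =
      X.homOfLE (le_iSup (fun i : I => i.1) i) ≫ X.homOfLE hΩD ≫ b
    rw [← Category.assoc, ← Category.assoc, X.homOfLE_homOfLE]
    exact i.2.choose_spec
  have hmem : ∀ d (hdD : d ∈ D), d ⤳ x → d ∈ Ω := by
    intro d hdD hdx
    haveI : IsLocallyNoetherian (D : Scheme.{u}) := isLocallyNoetherian_of_isOpenImmersion D.ι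
    haveI : (D : Scheme.{u}).IsGermInjectiveAt ⟨d, hdD⟩ :=
      (inferInstance : (D : Scheme.{u}).IsGermInjective) ⟨d, hdD⟩
    have e : (D : Scheme.{u}).fromSpecStalk ⟨d, hdD⟩ ≫ a =
        (D : Scheme.{u}).fromSpecStalk ⟨d, hdD⟩ ≫ b := by
      rw [ha, hb]; exact hag D hDU hDV d hdD hdx
    obtain ⟨W', hdW', hW'⟩ := spread_out_unique_of_isGermInjective' a b e
    let W : X.Opens := D.ι ''ᵁ W'
    have hWD : W ≤ D := by
      rintro _ ⟨p, -, rfl⟩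
      exact p.2
    have hθ : (D.ι.isoImage W').hom ≫ X.homOfLE hWD = W'.ι := by
      rw [← cancel_mono D.ι, Category.assoc, X.homOfLE_ι, Scheme.Hom.isoImage_hom_ι]
    have hWab : X.homOfLE hWD ≫ a = X.homOfLE hWD ≫ b := by
      rw [← cancel_epi (D.ι.isoImage W').hom, ← Category.assoc, ← Category.assoc, hθ, hW']
    have hdW : d ∈ W := ⟨⟨d, hdD⟩, hdW', rfl⟩
    exact (le_iSup (fun i : I => i.1) ⟨W, hWD, hWab⟩) hdW
  let F : Set X := (D : Set X) ∩ (Ω : Set X)ᶜ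
  have hxF : x ∉ closure F := by
    intro hxF
    haveI : IsNoetherianRing Γ(X, V) := IsLocallyNoetherian.component_noetherian ⟨V, hV⟩
    haveI : NoetherianSpace (V : Set X) := noetherianSpace_of_isAffineOpen V hV
    haveI : NoetherianSpace F := by
      rw [noetherianSpace_set_iff]
      intro t ht
      exact (noetherianSpace_set_iff (V : Set X)).mp ‹_› t
        (ht.trans (fun p hp => hDV hp.1))
    obtain ⟨t, htF, htx⟩ := exists_specializes_of_mem_closure F _ _ D.2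
      Ω.2.isClosed_compl rfl x hxF
    exact htF.2 (hmem t htF.1 htx)
  let V' : X.Opens := V ⊓ ⟨(closure F)ᶜ, isClosed_closure.isOpen_compl⟩
  have hV'V : V' ≤ V := inf_le_left
  have hUV'Ω : U ⊓ V' ≤ Ω := by
    rintro p ⟨hpU, hpV, hpF⟩
    by_contra hpΩ
    exact hpF (subset_closure ⟨hD ▸ ⟨hpU, hpV⟩, hpΩ⟩)
  refine ⟨V', hV'V, ⟨hxV, hxF⟩, ?_⟩
  have e1 : X.homOfLE (inf_le_right : U ⊓ V' ≤ V') ≫ X.homOfLE hV'V =
      X.homOfLE hUV'Ω ≫ X.homOfLE hΩD ≫ X.homOfLE hDV := by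
    rw [X.homOfLE_homOfLE, X.homOfLE_homOfLE, X.homOfLE_homOfLE]
  have e2 : X.homOfLE (inf_le_left : U ⊓ V' ≤ U) =
      X.homOfLE hUV'Ω ≫ X.homOfLE hΩD ≫ X.homOfLE hDU := by
    rw [X.homOfLE_homOfLE, X.homOfLE_homOfLE]
  rw [← Category.assoc, e1, e2]
  simp only [Category.assoc]
  rw [← ha, ← hb, hΩ]

set_option maxHeartbeats 800000 in
/-- Lemma 4B: shrinking in the reduced case -/
theorem shrink_reduced {X Y S : Scheme.{u}} [IsReduced X] (pX : X ⟶ S) (pY : Y ⟶ S)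
    [IsSeparated pY] (U V : X.Opens)
    (h : (U : Scheme.{u}) ⟶ Y) (hh : h ≫ pY = U.ι ≫ pX) (v : (V : Scheme.{u}) ⟶ Y)
    (hv : v ≫ pY = V.ι ≫ pX) (x : X) (hxV : x ∈ V)
    (hfin : ∃ W : X.Opens, x ∈ W ∧
      {Z : Set ↥X | Z ∈ irreducibleComponents ↥X ∧ (Z ∩ (W : Set ↥X)).Nonempty}.Finite)
    (hag : ∀ (D : X.Opens) (hDU : D ≤ U) (hDV : D ≤ V) (d : X) (hdD : d ∈ D), d ⤳ x →
      (D : Scheme.{u}).fromSpecStalk ⟨d, hdD⟩ ≫ X.homOfLE hDV ≫ v =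
      (D : Scheme.{u}).fromSpecStalk ⟨d, hdD⟩ ≫ X.homOfLE hDU ≫ h) :
    ∃ (V' : X.Opens) (hV'V : V' ≤ V), x ∈ V' ∧
      X.homOfLE (inf_le_right : U ⊓ V' ≤ V') ≫ X.homOfLE hV'V ≫ v =
        X.homOfLE (inf_le_left : U ⊓ V' ≤ U) ≫ h := by
  obtain ⟨V₁, hxV₁, hV₁⟩ := exists_common_generization x hfin
  obtain ⟨V', hV'⟩ : ∃ V' : X.Opens, V' = V ⊓ V₁ := ⟨_, rfl⟩
  have hV'V : V' ≤ V := hV' ▸ inf_le_left
  have hV'V₁ : V' ≤ V₁ := hV' ▸ inf_le_right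
  refine ⟨V', hV'V, hV' ▸ ⟨hxV, hxV₁⟩, ?_⟩
  obtain ⟨D, hD⟩ : ∃ D : X.Opens, D = U ⊓ V' := ⟨_, rfl⟩
  subst hD
  haveI : IsReduced ((U ⊓ V' : X.Opens) : Scheme.{u}) := isReduced_of_isOpenImmersion (U ⊓ V').ι
  have hDV : U ⊓ V' ≤ V := inf_le_right.trans hV'V
  have e1 : X.homOfLE (inf_le_right : U ⊓ V' ≤ V') ≫ X.homOfLE hV'V ≫ v = X.homOfLE hDV ≫ v := by
    rw [← Category.assoc, X.homOfLE_homOfLE]
  rw [e1]
  refine ext_of_fromSpecResidueField_eq _ _ pY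
    {d' : ((U ⊓ V' : X.Opens) : Scheme.{u}) | d'.1 ⤳ x} ?_ ?_ ?_
  · intro p
    obtain ⟨η, hηp, hηx⟩ := hV₁ p.1 (hV'V₁ p.2.2)
    have hηD : η ∈ U ⊓ V' := hηp.mem_open (U ⊓ V').2 p.2
    have h1 : (⟨η, hηD⟩ : ((U ⊓ V' : X.Opens) : Scheme.{u})) ⤳ p :=
      ((U ⊓ V').ι.isOpenEmbedding.isInducing.specializes_iff).mp hηp
    exact closure_mono (Set.singleton_subset_iff.mpr (show (⟨η, hηD⟩ :
      ((U ⊓ V' : X.Opens) : Scheme.{u})) ∈ {d' : ((U ⊓ V' : X.Opens) : Scheme.{u}) | d'.1 ⤳ x}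
      from hηx)) (specializes_iff_mem_closure.mp h1)
  · intro d' hd'
    have h1 := hag (U ⊓ V') inf_le_left hDV d'.1 d'.2 hd'
    show (Spec.map _ ≫ _) ≫ _ = (Spec.map _ ≫ _) ≫ _
    rw [Category.assoc, Category.assoc]
    exact congrArg (fun t => Spec.map (((U ⊓ V' : X.Opens) : Scheme.{u}).residue d') ≫ t) h1
  · rw [Category.assoc, Category.assoc, hv, hh, X.homOfLE_ι_assoc, X.homOfLE_ι_assoc]

set_option maxHeartbeats 800000 in
/-- S5104 -/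
theorem s5104 {X Y S : Scheme.{u}} (pX : X ⟶ S) (pY : Y ⟶ S)
    [IsSeparated pY] [LocallyOfFinitePresentation pY]
    (hX : IsLocallyNoetherian X ∨ (IsReduced X ∧ ∀ x : ↥X, ∃ W : X.Opens, x ∈ W ∧
      {Z : Set ↥X | Z ∈ irreducibleComponents ↥X ∧ (Z ∩ (W : Set ↥X)).Nonempty}.Finite))
    (U : X.Opens) (h : (U : Scheme.{u}) ⟶ Y) (hh : h ≫ pY = U.ι ≫ pX) (x : ↥X) :
    (∃ (V : X.Opens) (v : (V : Scheme.{u}) ⟶ Y), x ∈ V ∧ v ≫ pY = V.ι ≫ pX ∧
        X.homOfLE (inf_le_right : U ⊓ V ≤ V) ≫ v = X.homOfLE (inf_le_left : U ⊓ V ≤ U) ≫ h) ↔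
      ∃ w : Spec (X.presheaf.stalk x) ⟶ Y, w ≫ pY = X.fromSpecStalk x ≫ pX ∧
        pullback.fst (X.fromSpecStalk x) U.ι ≫ w =
          pullback.snd (X.fromSpecStalk x) U.ι ≫ h := by
  constructor
  · rintro ⟨V, v, hxV, hv, hag⟩
    refine ⟨V.fromSpecStalkOfMem x hxV ≫ v, ?_, forward U V h v x hxV hag⟩
    rw [Category.assoc, hv, Scheme.Opens.fromSpecStalkOfMem_ι_assoc]
  · rintro ⟨w, hw, hagw⟩
    haveI : X.IsGermInjectiveAt x := by
      rcases hX with hX | ⟨hred, hfin⟩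
      · exact (inferInstance : X.IsGermInjective) x
      · exact isGermInjectiveAt_of_isReduced x (hfin x)
    obtain ⟨V₀, hxV₀, v₀, hwv, hv₀⟩ := spread_out_of_isGermInjective' pX pY w hw
    obtain ⟨_, ⟨(V : X.Opens), hV, rfl⟩, hxV, hVV₀⟩ :=
      X.isBasis_affineOpens.exists_subset_of_mem_open hxV₀ V₀.2
    replace hV : IsAffineOpen V := hV
    replace hVV₀ : V ≤ V₀ := hVV₀
    obtain ⟨v, hv_def⟩ : ∃ v : (V : Scheme.{u}) ⟶ Y, v = X.homOfLE hVV₀ ≫ v₀ := ⟨_, rfl⟩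
    have hv : v ≫ pY = V.ι ≫ pX := by
      rw [hv_def, Category.assoc, hv₀, X.homOfLE_ι_assoc]
    have hwv' : w = V.fromSpecStalkOfMem x hxV ≫ v := by
      rw [hwv, hv_def, ← Category.assoc]
      congr 1
      rw [← cancel_mono V₀.ι, Category.assoc, X.homOfLE_ι, Scheme.Opens.fromSpecStalkOfMem_ι,
        Scheme.Opens.fromSpecStalkOfMem_ι]
    have hagD := agree_at_generization U V h v x hxV (by rw [← hwv']; exact hagw)
    rcases hX with hX | ⟨hred, hfin⟩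
    · obtain ⟨V', hV'V, hxV', hag'⟩ := shrink_noeth U V hV h v x hxV hagD
      refine ⟨V', X.homOfLE hV'V ≫ v, hxV', ?_, hag'⟩
      rw [Category.assoc, hv, X.homOfLE_ι_assoc]
    · obtain ⟨V', hV'V, hxV', hag'⟩ := shrink_reduced pX pY U V h hh v hv x hxV (hfin x) hagD
      refine ⟨V', X.homOfLE hV'V ≫ v, hxV', ?_, hag'⟩
      rw [Category.assoc, hv, X.homOfLE_ι_assoc]

end Groth.Agent.Helper3.PseudoLoc
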