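import Mathlib
import Groth.Agent.Helper3.PseudoLoc
import Groth.Agent.Helper3.RatGlue

open AlgebraicGeometry CategoryTheory CategoryTheory.Limits TopologicalSpace Opposite

universe u

namespace Groth.Agent.Helper3.PseudoLoc

open Groth.Agent.Helper3.RatSec

set_option maxHeartbeats 800000 in
/-- the core of S5104: a pseudo-morphism defined on `Spec O_{X,x}` is defined near `x` -/
theorem extend_of_local {X Y S : Scheme.{u}} (pX : X ⟶ S) (pY : Y ⟶ S)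
    [IsSeparated pY] [LocallyOfFiniteType pY]
    (hX : IsLocallyNoetherian X ∨ (IsReduced X ∧ ∀ x : ↥X, ∃ W : X.Opens, x ∈ W ∧
      {Z : Set ↥X | Z ∈ irreducibleComponents ↥X ∧ (Z ∩ (W : Set ↥X)).Nonempty}.Finite))
    (U : X.Opens) (h : (U : Scheme.{u}) ⟶ Y) (hh : h ≫ pY = U.ι ≫ pX) (x : ↥X)
    (w : Spec (X.presheaf.stalk x) ⟶ Y) (hw : w ≫ pY = X.fromSpecStalk x ≫ pX)
    (hagw : pullback.fst (X.fromSpecStalk x) U.ι ≫ w =
      pullback.snd (X.fromSpecStalk x) U.ι ≫ h) :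
    ∃ (V : X.Opens) (v : (V : Scheme.{u}) ⟶ Y), x ∈ V ∧ v ≫ pY = V.ι ≫ pX ∧
        X.homOfLE (inf_le_right : U ⊓ V ≤ V) ≫ v = X.homOfLE (inf_le_left : U ⊓ V ≤ U) ≫ h := by
  haveI : X.IsGermInjectiveAt x := by
    rcases hX with hX | ⟨hred, hfin⟩
    · exact (inferInstance : X.IsGermInjective) x
    · exact isGermInjectiveAt_of_isReduced x (hfin x)
  obtain ⟨V₀, hxV₀, v₀, hwv, hv₀⟩ := spread_out_of_isGermInjective' pX pY w hw
  obtain ⟨_, ⟨(V : X.Opens), hV, rfl⟩, hxV, hVV₀⟩ :=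
    X.isBasis_affineOpens.exists_subset_of_mem_open hxV₀ V₀.2
  replace hV : IsAffineOpen V := hV
  replace hVV₀ : V ≤ V₀ := hVV₀
  obtain ⟨v, hv_def⟩ : ∃ v : (V : Scheme.{u}) ⟶ Y, v = X.homOfLE hVV₀ ≫ v₀ := ⟨_, rfl⟩
  have hv : v ≫ pY = V.ι ≫ pX := by
    rw [hv_def, Category.assoc, hv₀, X.homOfLE_ι_assoc]
  have hwv' : w = V.fromSpecStalkOfMem x hxV ≫ v := by
    rw [hwv, hv_def, ← Category.assoc]
    congr 1
    rw [← cancel_mono V₀.ι, Category.assoc, X.homOfLE_ι, Scheme.Opens.fromSpecStalkOfMem_ι,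
      Scheme.Opens.fromSpecStalkOfMem_ι]
  have hagD := agree_at_generization U V h v x hxV (by rw [← hwv']; exact hagw)
  rcases hX with hX | ⟨hred, hfin⟩
  · obtain ⟨V', hV'V, hxV', hag'⟩ := shrink_noeth U V hV h v x hxV hagD
    refine ⟨V', X.homOfLE hV'V ≫ v, hxV', ?_, hag'⟩
    rw [Category.assoc, hv, X.homOfLE_ι_assoc]
  · obtain ⟨V', hV'V, hxV', hag'⟩ := shrink_reduced pX pY U V h hh v hv x hxV (hfin x) hagD
    refine ⟨V', X.homOfLE hV'V ≫ v, hxV', ?_, hag'⟩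
    rw [Category.assoc, hv, X.homOfLE_ι_assoc]

/-- gluing an `S`-morphism on `U` with a local extension near `x` -/
theorem extend_glue_over {X Y S : Scheme.{u}} (pX : X ⟶ S) (pY : Y ⟶ S) (U : X.Opens)
    (h : (U : Scheme.{u}) ⟶ Y) (hh : h ≫ pY = U.ι ≫ pX) (x : X) (V : X.Opens)
    (v : (V : Scheme.{u}) ⟶ Y) (hxV : x ∈ V) (hv : v ≫ pY = V.ι ≫ pX)
    (hag : X.homOfLE (inf_le_right : U ⊓ V ≤ V) ≫ v = X.homOfLE (inf_le_left : U ⊓ V ≤ U) ≫ h) :
    ∃ (U' : X.Opens) (hUU' : U ≤ U'), x ∈ U' ∧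
      ∃ f' : (U' : Scheme.{u}) ⟶ Y, f' ≫ pY = U'.ι ≫ pX ∧ X.homOfLE hUU' ≫ f' = h := by
  obtain ⟨U', hUU', hVU', h', h1, h2, hext⟩ := RatGlue.glue2 U V h v hag
  refine ⟨U', hUU', hVU' hxV, h', ?_, h1⟩
  apply hext
  · rw [← Category.assoc, h1, hh, X.homOfLE_ι_assoc]
  · rw [← Category.assoc, h2, hv, X.homOfLE_ι_assoc]

/-- a generization of `x` inside `U` when `x ∈ closure U` -/
theorem exists_generization_mem {X : Scheme.{u}}
    (hX : (IsReduced X ∧ (irreducibleComponents ↥X).Finite) ∨ IsLocallyNoetherian X)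
    (U : X.Opens) (x : X) (hx : x ∈ closure (U : Set ↥X)) : ∃ b ∈ U, b ⤳ x := by
  rcases hX with ⟨hred, hfin⟩ | hX
  · obtain ⟨V₁, hxV₁, hV₁⟩ := exists_common_generization x
      ⟨⊤, trivial, hfin.subset (fun Z hZ => hZ.1)⟩
    obtain ⟨p, hpV₁, hpU⟩ := mem_closure_iff.mp hx V₁ V₁.2 hxV₁
    obtain ⟨η, hηp, hηx⟩ := hV₁ p hpV₁
    exact ⟨η, hηp.mem_open U.2 hpU, hηx⟩
  · obtain ⟨_, ⟨(V₀ : X.Opens), hV₀, rfl⟩, hxV₀, -⟩ :=
      X.isBasis_affineOpens.exists_subset_of_mem_open (Set.mem_univ x) isOpen_univ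
    replace hV₀ : IsAffineOpen V₀ := hV₀
    let F : Set X := ((U ⊓ V₀ : X.Opens) : Set X) ∩ Set.univ
    have hxF : x ∈ closure F := by
      rw [mem_closure_iff]
      intro o ho hxo
      obtain ⟨p, ⟨hpo, hpV₀⟩, hpU⟩ := mem_closure_iff.mp hx (o ∩ V₀) (ho.inter V₀.2) ⟨hxo, hxV₀⟩
      exact ⟨p, hpo, ⟨hpU, hpV₀⟩, trivial⟩
    haveI : IsNoetherianRing Γ(X, V₀) := IsLocallyNoetherian.component_noetherian ⟨V₀, hV₀⟩
    haveI : NoetherianSpace (V₀ : Set X) := noetherianSpace_of_isAffineOpen V₀ hV₀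
    haveI : NoetherianSpace F := by
      rw [noetherianSpace_set_iff]
      intro t ht
      exact (noetherianSpace_set_iff (V₀ : Set X)).mp ‹_› t (ht.trans (fun p hp => hp.1.2))
    obtain ⟨b, hbF, hbx⟩ := exists_specializes_of_mem_closure F _ _ (U ⊓ V₀).2
      isClosed_univ rfl x hxF
    exact ⟨b, hbF.1.1, hbx⟩

set_option maxHeartbeats 800000 in
/-- S9701 -/
theorem s9701 {X Y S : Scheme.{u}} (p : X ⟶ S) (q : Y ⟶ S)
    [IsProper q] (x : X) (U : X.Opens) (f : (U : Scheme.{u}) ⟶ Y) (hf : f ≫ q = U.ι ≫ p)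
    (hx : x ∈ closure (U : Set ↥X))
    (hX : (IsReduced X ∧ (irreducibleComponents ↥X).Finite) ∨ IsLocallyNoetherian X)
    (hdom : IsDomain (X.presheaf.stalk x)) (hval : @ValuationRing (X.presheaf.stalk x) _ hdom) :
    ∃ (U' : X.Opens) (hUU' : U ≤ U'), x ∈ U' ∧
      ∃ f' : (U' : Scheme.{u}) ⟶ Y, f' ≫ q = U'.ι ≫ p ∧ X.homOfLE hUU' ≫ f' = f := by
  have hX' : IsLocallyNoetherian X ∨ (IsReduced X ∧ ∀ x : ↥X, ∃ W : X.Opens, x ∈ W ∧
      {Z : Set ↥X | Z ∈ irreducibleComponents ↥X ∧ (Z ∩ (W : Set ↥X)).Nonempty}.Finite) := by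
    rcases hX with ⟨hred, hfin⟩ | hX
    · exact Or.inr ⟨hred, fun x => ⟨⊤, trivial, hfin.subset (fun Z hZ => hZ.1)⟩⟩
    · exact Or.inl hX
  obtain ⟨b, hbU, hbx⟩ := exists_generization_mem hX U x hx
  let A : Type u := X.presheaf.stalk x
  let φ : Spec (CommRingCat.of A) ⟶ X := X.fromSpecStalk x
  -- the generic point lies in `U`
  have hξU : φ (⟨⊥, Ideal.isPrime_bot⟩ : PrimeSpectrum A) ∈ U := by
    obtain ⟨𝔭, h𝔭⟩ : b ∈ Set.range (X.fromSpecStalk x) := by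
      rw [Scheme.range_fromSpecStalk]; exact hbx
    have h1 : (⟨⊥, Ideal.isPrime_bot⟩ : PrimeSpectrum A) ⤳ 𝔭 :=
      (PrimeSpectrum.le_iff_specializes (R := A) ⟨⊥, Ideal.isPrime_bot⟩ 𝔭).mp bot_le
    have h2 := h1.map (X.fromSpecStalk x).continuous
    rw [h𝔭] at h2
    exact h2.mem_open U.2 hbU
  obtain ⟨ub, hub⟩ := exists_ub U A φ hξU
  let gK := Spec.map (CommRingCat.ofHom (algebraMap A (FractionRing A)))
  -- valuative criterion
  have hq : ValuativeCriterion.Existence q := by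
    have h1 : (ValuativeCriterion.Existence ⊓ @QuasiCompact) q := by
      rw [← UniversallyClosed.eq_valuativeCriterion]; infer_instance
    exact h1.1
  have hsq : CommSq (ub ≫ f) gK q (φ ≫ p) := ⟨by
    rw [Category.assoc, hf, ← Category.assoc, hub, Category.assoc]⟩
  let Ssq : ValuativeCommSq q :=
    { R := A, K := FractionRing A, i₁ := ub ≫ f, i₂ := φ ≫ p, commSq := hsq }
  haveI : hsq.HasLift := hq Ssq
  let w : Spec (CommRingCat.of A) ⟶ Y := hsq.lift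
  have hw1 : gK ≫ w = ub ≫ f := hsq.fac_left
  have hw2 : w ≫ q = φ ≫ p := hsq.fac_right
  -- agreement on `Spec A ×_X U`
  let j : Spec (CommRingCat.of (FractionRing A)) ⟶ pullback φ U.ι :=
    pullback.lift gK ub hub.symm
  have hj1 : j ≫ pullback.fst φ U.ι = gK := pullback.lift_fst _ _ _
  have hj2 : j ≫ pullback.snd φ U.ι = ub := pullback.lift_snd _ _ _
  haveI : IsReduced (Spec (CommRingCat.of A)) := inferInstance
  haveI : IsReduced (pullback φ U.ι) := isReduced_of_isOpenImmersion (pullback.fst φ U.ι)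
  haveI : IsDominant j := by
    refine ⟨fun z => ?_⟩
    obtain ⟨pt⟩ : Nonempty (Spec (CommRingCat.of (FractionRing A))) := inferInstance
    have h1 : (⟨⊥, Ideal.isPrime_bot⟩ : PrimeSpectrum A) ⤳ pullback.fst φ U.ι z :=
      (PrimeSpectrum.le_iff_specializes (R := A) ⟨⊥, Ideal.isPrime_bot⟩ _).mp bot_le
    have h2 : pullback.fst φ U.ι (j pt) = (⟨⊥, Ideal.isPrime_bot⟩ : PrimeSpectrum A) := by
      show (j ≫ pullback.fst φ U.ι) pt = _
      rw [hj1]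
      exact specMap_frac_apply A pt
    rw [← h2] at h1
    have h3 : j pt ⤳ z :=
      ((pullback.fst φ U.ι).isOpenEmbedding.isInducing.specializes_iff).mp h1
    exact h3.mem_closed isClosed_closure (subset_closure ⟨pt, rfl⟩)
  have hagw : pullback.fst φ U.ι ≫ w = pullback.snd φ U.ι ≫ f := by
    refine ext_of_isDominant_of_isSeparated q ?_ j ?_
    · rw [Category.assoc, Category.assoc, hw2, hf, ← Category.assoc, ← Category.assoc,
        pullback.condition]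
    · rw [← Category.assoc, hj1, hw1, ← Category.assoc, hj2]
  obtain ⟨V, v, hxV, hv, hag⟩ := extend_of_local p q hX' U f hf x w hw2 hagw
  exact extend_glue_over p q U f hf x V v hxV hv hag

end Groth.Agent.Helper3.PseudoLoc
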