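import Groth.Agent.Helper3.DimOneExt

open AlgebraicGeometry CategoryTheory CategoryTheory.Limits TopologicalSpace Opposite IsLocalRing

universe u

namespace Groth.Agent.Helper3.PseudoLoc3

/-- base change of a closed map along `Spec O_{Y,y} ⟶ Y` is specializing -/
theorem specializingMap_fst {X Y T : Scheme.{u}} (f : X ⟶ Y) (i : T ⟶ Y) [IsPreimmersion i]
    (hcl : IsClosedMap f) : SpecializingMap (pullback.fst i f) := by
  intro x' r hr
  change pullback.fst i f x' ⤳ r at hr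
  -- `x = pr₂ x'`
  have h1 : f (pullback.snd i f x') ⤳ i r := by
    have := hr.map i.continuous
    rw [← Scheme.Hom.comp_apply, pullback.condition] at this
    exact this
  obtain ⟨x₂, hx₂, hfx₂⟩ := hcl.specializingMap h1
  change pullback.snd i f x' ⤳ x₂ at hx₂
  obtain ⟨z, hz1, hz2⟩ := Scheme.Pullback.exists_preimage_pullback r x₂ hfx₂.symm
  refine ⟨z, ?_, hz1⟩
  change x' ⤳ z
  have hemb : Topology.IsInducing (pullback.snd i f) :=
    (pullback.snd i f).isEmbedding.isInducing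
  rw [← hemb.specializes_iff, hz2]
  exact hx₂

set_option backward.isDefEq.respectTransparency false in
theorem hasLift_of_specializing {X Y : Scheme.{u}} (f : X ⟶ Y) (S : ValuativeCommSq f)
    (H : SpecializingMap (pullback.fst S.i₂ f)) : S.commSq.HasLift := by
  revert H
  obtain ⟨R, K, i₁, i₂, ⟨w⟩⟩ := S
  intro H
  have : IsDomain (CommRingCat.of R) := ‹_›
  have : ValuationRing (CommRingCat.of R) := ‹_›
  let : Field (CommRingCat.of K) := ‹_›
  let lft := pullback.lift (Spec.map (CommRingCat.ofHom (algebraMap R K))) i₁ w.symm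
  obtain ⟨x, h₁, h₂⟩ := @H (lft (closedPoint _)) _ (specializes_closedPoint (R := R) _)
  let e : CommRingCat.of R ≅ (Spec <| .of R).presheaf.stalk (pullback.fst i₂ f x) :=
    (stalkClosedPointIso (.of R)).symm ≪≫
      (Spec <| .of R).presheaf.stalkCongr (.of_eq h₂.symm)
  let α := e.hom ≫ (pullback.fst i₂ f).stalkMap x
  have : IsLocalHom e.hom.hom := isLocalHom_of_isIso e.hom
  have : IsLocalHom α.hom := inferInstanceAs
    (IsLocalHom (((pullback.fst i₂ f).stalkMap x).hom.comp e.hom.hom))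
  let β := (pullback i₂ f).presheaf.stalkSpecializes h₁ ≫ Scheme.stalkClosedPointTo lft
  have hαβ : α ≫ β = CommRingCat.ofHom (algebraMap R K) := by
    simp only [CommRingCat.coe_of, Iso.trans_hom, Iso.symm_hom, TopCat.Presheaf.stalkCongr_hom,
      Category.assoc, α, e, β, stalkClosedPointIso_inv, StructureSheaf.toStalk]
    change (Scheme.ΓSpecIso (.of R)).inv ≫ (Spec <| .of R).presheaf.germ _ _ _ ≫ _ = _
    simp only [TopCat.Presheaf.germ_stalkSpecializes_assoc, Scheme.Hom.germ_stalkMap_assoc]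
    -- `map_top` introduces defeq problems, according to `check_compositions`.
    -- This is probably the cause of the `erw` needed below.
    simp only [TopologicalSpace.Opens.map_top]
    rw [Scheme.germ_stalkClosedPointTo lft ⊤ trivial]
    erw [← Scheme.Hom.comp_app_assoc lft (pullback.fst i₂ f)]
    rw [pullback.lift_fst]
    simp
  have hbij := (bijective_rangeRestrict_comp_of_valuationRing (R := R) (K := K) α.hom β.hom
    (CommRingCat.hom_ext_iff.mp hαβ))
  let φ : (pullback i₂ f).presheaf.stalk x ⟶ CommRingCat.of R := CommRingCat.ofHom <|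
    (RingEquiv.ofBijective _ hbij).symm.toRingHom.comp β.hom.rangeRestrict
  have hαφ : α ≫ φ = 𝟙 _ := by ext x; exact (RingEquiv.ofBijective _ hbij).symm_apply_apply x
  have hαφ' : (pullback.fst i₂ f).stalkMap x ≫ φ = e.inv := by
    rw [← cancel_epi e.hom, ← Category.assoc, hαφ, e.hom_inv_id]
  have hφβ : φ ≫ CommRingCat.ofHom (algebraMap R K) = β :=
    hαβ ▸ CommRingCat.hom_ext (RingHom.ext fun x ↦ congr_arg Subtype.val
      ((RingEquiv.ofBijective _ hbij).apply_symm_apply (β.hom.rangeRestrict x)))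
  refine ⟨⟨⟨Spec.map ((pullback.snd i₂ f).stalkMap x ≫ φ) ≫ X.fromSpecStalk _, ?_, ?_⟩⟩⟩
  · simp only [← Spec.map_comp_assoc, Category.assoc, hφβ]
    simp only [Spec.map_comp, Category.assoc, Scheme.SpecMap_stalkMap_fromSpecStalk,
      Scheme.SpecMap_stalkSpecializes_fromSpecStalk_assoc, β]
    -- This next line only fires as `rw`, not `simp`:
    rw [Scheme.Spec_stalkClosedPointTo_fromSpecStalk_assoc]
    simp [lft]
  · simp only [Spec.map_comp, Category.assoc, Scheme.SpecMap_stalkMap_fromSpecStalk,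
      ← pullback.condition]
    rw [← Scheme.SpecMap_stalkMap_fromSpecStalk_assoc, ← Spec.map_comp_assoc, hαφ']
    simp only [Iso.trans_inv, TopCat.Presheaf.stalkCongr_inv, Iso.symm_inv, Spec.map_comp,
      Category.assoc, Scheme.SpecMap_stalkSpecializes_fromSpecStalk_assoc, e]
    rw [← Spec_stalkClosedPointIso, ← Spec.map_comp_assoc,
      Iso.inv_hom_id, Spec.map_id, Category.id_comp]



open Groth.Agent.Helper3.PseudoLoc Groth.Agent.Helper3.RatSec in
set_option maxHeartbeats 800000 in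
/-- core of S9701 with the existence of the lift as a hypothesis -/
theorem ext_core {X Y S : Scheme.{u}} (p : X ⟶ S) (q : Y ⟶ S)
    [IsSeparated q] [LocallyOfFiniteType q] (x : X) (U : X.Opens)
    (f : (U : Scheme.{u}) ⟶ Y) (hf : f ≫ q = U.ι ≫ p)
    (hx : x ∈ closure (U : Set ↥X))
    (hX : (IsReduced X ∧ (irreducibleComponents ↥X).Finite) ∨ IsLocallyNoetherian X)
    (hdom : IsDomain (X.presheaf.stalk x))
    (hlift : ∀ (i₁ : Spec (CommRingCat.of (FractionRing (X.presheaf.stalk x))) ⟶ Y),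
      i₁ ≫ q = Spec.map (CommRingCat.ofHom (algebraMap (X.presheaf.stalk x)
        (FractionRing (X.presheaf.stalk x)))) ≫ X.fromSpecStalk x ≫ p →
      ∃ w : Spec (CommRingCat.of (X.presheaf.stalk x)) ⟶ Y,
        Spec.map (CommRingCat.ofHom (algebraMap (X.presheaf.stalk x)
          (FractionRing (X.presheaf.stalk x)))) ≫ w = i₁ ∧ w ≫ q = X.fromSpecStalk x ≫ p) :
    ∃ (U' : X.Opens) (hUU' : U ≤ U'), x ∈ U' ∧
      ∃ f' : (U' : Scheme.{u}) ⟶ Y, f' ≫ q = U'.ι ≫ p ∧ X.homOfLE hUU' ≫ f' = f := by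
  have hX' : IsLocallyNoetherian X ∨ (IsReduced X ∧ ∀ x : ↥X, ∃ W : X.Opens, x ∈ W ∧
      {Z : Set ↥X | Z ∈ irreducibleComponents ↥X ∧ (Z ∩ (W : Set ↥X)).Nonempty}.Finite) := by
    rcases hX with ⟨hred, hfin⟩ | hX
    · exact Or.inr ⟨hred, fun x => ⟨⊤, trivial, hfin.subset (fun Z hZ => hZ.1)⟩⟩
    · exact Or.inl hX
  obtain ⟨b, hbU, hbx⟩ := exists_generization_mem hX U x hx
  let A : Type u := X.presheaf.stalk x
  let φ : Spec (CommRingCat.of A) ⟶ X := X.fromSpecStalk x
  -- the generic point lies in `U`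
  have hξU : φ (⟨⊥, Ideal.isPrime_bot⟩ : PrimeSpectrum A) ∈ U := by
    obtain ⟨𝔭, h𝔭⟩ : b ∈ Set.range (X.fromSpecStalk x) := by
      rw [Scheme.range_fromSpecStalk]; exact hbx
    have h1 : (⟨⊥, Ideal.isPrime_bot⟩ : PrimeSpectrum A) ⤳ 𝔭 :=
      (PrimeSpectrum.le_iff_specializes (R := A) ⟨⊥, Ideal.isPrime_bot⟩ 𝔭).mp bot_le
    have h2 := h1.map (X.fromSpecStalk x).continuous
    rw [h𝔭] at h2
    exact h2.mem_open U.2 hbU
  obtain ⟨ub, hub⟩ := exists_ub U A φ hξU
  let gK := Spec.map (CommRingCat.ofHom (algebraMap A (FractionRing A)))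
  obtain ⟨w, hw1, hw2⟩ := hlift (ub ≫ f) (by
    rw [Category.assoc, hf, ← Category.assoc, hub, Category.assoc])
  -- agreement on `Spec A ×_X U`
  let j : Spec (CommRingCat.of (FractionRing A)) ⟶ pullback φ U.ι :=
    pullback.lift gK ub hub.symm
  have hj1 : j ≫ pullback.fst φ U.ι = gK := pullback.lift_fst _ _ _
  have hj2 : j ≫ pullback.snd φ U.ι = ub := pullback.lift_snd _ _ _
  haveI : IsReduced (Spec (CommRingCat.of A)) := inferInstance
  haveI : IsReduced (pullback φ U.ι) := isReduced_of_isOpenImmersion (pullback.fst φ U.ι)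
  haveI : IsDominant j := by
    refine ⟨fun z => ?_⟩
    obtain ⟨pt⟩ : Nonempty (Spec (CommRingCat.of (FractionRing A))) := inferInstance
    have h1 : (⟨⊥, Ideal.isPrime_bot⟩ : PrimeSpectrum A) ⤳ pullback.fst φ U.ι z :=
      (PrimeSpectrum.le_iff_specializes (R := A) ⟨⊥, Ideal.isPrime_bot⟩ _).mp bot_le
    have h2 : pullback.fst φ U.ι (j pt) = (⟨⊥, Ideal.isPrime_bot⟩ : PrimeSpectrum A) := by
      show (j ≫ pullback.fst φ U.ι) pt = _
      rw [hj1]
      exact specMap_frac_apply A pt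
    rw [← h2] at h1
    have h3 : j pt ⤳ z :=
      ((pullback.fst φ U.ι).isOpenEmbedding.isInducing.specializes_iff).mp h1
    exact h3.mem_closed isClosed_closure (subset_closure ⟨pt, rfl⟩)
  have hagw : pullback.fst φ U.ι ≫ w = pullback.snd φ U.ι ≫ f := by
    refine ext_of_isDominant_of_isSeparated q ?_ j ?_
    · rw [Category.assoc, Category.assoc, hw2, hf, ← Category.assoc, ← Category.assoc,
        pullback.condition]
    · rw [← Category.assoc, hj1, hw1, ← Category.assoc, hj2]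
  obtain ⟨V, v, hxV, hv, hag⟩ := extend_of_local p q hX' U f hf x w hw2 hagw
  exact extend_glue_over p q U f hf x V v hxV hv hag


open Groth.Agent.Helper3.DimOneExt in
/-- gluing core of S4440 -/
theorem glue_core {S X Y : Scheme.{u}} (p : X ⟶ S) [IsSeparated p] (q : Y ⟶ S) [IsReduced Y]
    (P : Y → Prop)
    (V : Y.Opens) (hV : Dense (V : Set Y)) (g : (V : Scheme.{u}) ⟶ X) (hg : g ≫ p = V.ι ≫ q)
    (key0 : ∀ y, P y → ∃ (U' : Y.Opens) (hUU' : V ≤ U'), y ∈ U' ∧
      ∃ f' : (U' : Scheme.{u}) ⟶ X, f' ≫ p = U'.ι ≫ q ∧ Y.homOfLE hUU' ≫ f' = g) :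
    ∃ (U : Y.Opens) (hVU : V ≤ U) (g' : (U : Scheme.{u}) ⟶ X), g' ≫ p = U.ι ≫ q ∧
      Y.homOfLE hVU ≫ g' = g ∧ ∀ y : Y, P y → y ∈ U := by
  let J : Type u := Option {y : Y // P y}
  have key : ∀ j : J, ∃ (U' : Y.Opens) (hUU' : V ≤ U'), (∀ y, j = some y → y.1 ∈ U') ∧
      ∃ f' : (U' : Scheme.{u}) ⟶ X, f' ≫ p = U'.ι ≫ q ∧ Y.homOfLE hUU' ≫ f' = g := by
    intro j
    cases j with
    | none =>
      refine ⟨V, le_rfl, fun y hy => ?_, g, hg, ?_⟩
      · exact absurd hy (by simp)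
      · rw [show Y.homOfLE (le_rfl : V ≤ V) = 𝟙 _ from Y.homOfLE_rfl V]; exact Category.id_comp _
    | some y =>
      obtain ⟨y, hy⟩ := y
      obtain ⟨U', hUU', hyU', f', h1, h2⟩ := key0 y hy
      refine ⟨U', hUU', ?_, f', h1, h2⟩
      intro y' hy'
      cases hy'
      exact hyU'
  choose W hVW hyW f hfp hfg using key
  have hag : ∀ i j, Y.homOfLE (inf_le_left : W i ⊓ W j ≤ W i) ≫ f i =
      Y.homOfLE (inf_le_right : W i ⊓ W j ≤ W j) ≫ f j := by
    intro i j
    haveI : IsDominant (Y.homOfLE (le_inf (hVW i) (hVW j))) :=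
      isDominant_homOfLE V (W i ⊓ W j) _ hV
    refine ext_of_isDominant_of_isSeparated p ?_ (Y.homOfLE (le_inf (hVW i) (hVW j))) ?_
    · rw [Category.assoc, Category.assoc, hfp, hfp, Y.homOfLE_ι_assoc, Y.homOfLE_ι_assoc]
    · rw [← Category.assoc, ← Category.assoc, Y.homOfLE_homOfLE, Y.homOfLE_homOfLE, hfg, hfg]
  obtain ⟨h', hh', hext⟩ := glueFam W f hag
  refine ⟨⨆ j, W j, (hVW none).trans (le_iSup W none), h', ?_, ?_, ?_⟩
  · apply hext
    intro i
    rw [← Category.assoc, hh', hfp, Y.homOfLE_ι_assoc]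
  · rw [← hfg none, ← hh' none, ← Category.assoc, Y.homOfLE_homOfLE]
  · intro y hy
    exact (le_iSup W (some ⟨y, hy⟩)) (hyW (some ⟨y, hy⟩) ⟨y, hy⟩ rfl)

open Groth.Agent.Helper3.DimOneExt in
/-- S2354 -/
theorem s2354 {X Y : Scheme.{u}} [IsLocallyNoetherian Y] [IsReduced Y]
    (hreg : ∀ y : Y, ringKrullDim (Y.presheaf.stalk y) ≤ 1 →
      IsRegularLocalRing (Y.presheaf.stalk y))
    (f : X ⟶ Y) [IsSeparated f] [LocallyOfFiniteType f] (hcl : IsClosedMap f.base)
    (V : Y.Opens) (hV : Dense (V : Set Y)) (s : (V : Scheme.{u}) ⟶ X) (hs : s ≫ f = V.ι) :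
    ∃ (U : Y.Opens) (hVU : V ≤ U) (s' : (U : Scheme.{u}) ⟶ X), s' ≫ f = U.ι ∧
      Y.homOfLE hVU ≫ s' = s ∧
      ∀ y : Y, ringKrullDim (Y.presheaf.stalk y) ≤ 1 → y ∈ U := by
  have hs' : s ≫ f = V.ι ≫ 𝟙 Y := by rw [hs, Category.comp_id]
  obtain ⟨U, hVU, g', h1, h2, h3⟩ := glue_core f (𝟙 Y)
    (fun y => ringKrullDim (Y.presheaf.stalk y) ≤ 1) V hV s hs' (by
    intro y hy
    haveI := hreg y hy
    obtain ⟨hdom, hval⟩ := valuationRing_of_regular (Y.presheaf.stalk y) hy
    refine ext_core (𝟙 Y) f y V s hs' (hV y) (Or.inr inferInstance) hdom ?_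
    intro i₁ hi₁
    have hsq : CommSq i₁ (Spec.map (CommRingCat.ofHom (algebraMap (Y.presheaf.stalk y)
        (FractionRing (Y.presheaf.stalk y))))) f (Y.fromSpecStalk y) :=
      ⟨by rw [hi₁, Category.comp_id]⟩
    let Ssq : ValuativeCommSq f :=
      { R := Y.presheaf.stalk y, domain := hdom, valuationRing := hval,
        K := FractionRing (Y.presheaf.stalk y), i₁ := i₁,
        i₂ := Y.fromSpecStalk y,
        commSq := hsq }
    haveI : hsq.HasLift :=
      hasLift_of_specializing f Ssq (specializingMap_fst f (Y.fromSpecStalk y) hcl)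
    refine ⟨hsq.lift, hsq.fac_left, ?_⟩
    rw [Category.comp_id]
    exact hsq.fac_right)
  exact ⟨U, hVU, g', by rw [h1, Category.comp_id], h2, h3⟩

end Groth.Agent.Helper3.PseudoLoc3
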