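import Mathlib
import Groth.Prelude
import Groth.Agent.Helper3.PullDivD

set_option autoImplicit false
set_option linter.style.haveILetI false
set_option linter.unusedSectionVars false
set_option linter.unusedVariables false
set_option linter.deprecated false
set_option linter.style.haveILetI false
set_option linter.unusedSectionVars false
set_option linter.unusedVariables false

namespace Groth.Agent.Helper3.PullDivE

universe u

open AlgebraicGeometry CategoryTheory IsLocalRing Groth.Agent.Helper6.Dim1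
  Groth.Agent.Helper5.StalkDict

theorem main (X Y : Scheme.{u}) [IsIntegral Y] (δX : X → ℤ) (δY : Y → ℤ) (hX : Cyc.IsSetup X δX) (hY : Cyc.IsSetup Y δY) (f : X ⟶ Y) [Flat f] [LocallyOfFiniteType f] (r : ℕ) (hr : Cyc.HasRelDim f r) (hδ : Cyc.DeltaCompat f δX δY) (k : ℤ) (hk : δY (genericPoint Y) = k) (g : Y.residueField (genericPoint Y)) (hg : g ≠ 0) (x : X) : Cyc.pullFun f δX δY r (Cyc.divFun δY (genericPoint Y) g) x = ∑ᶠ ξ : {ξ : X // (∀ x' : X, x' ⤳ ξ → x' = ξ) ∧ f ξ = genericPoint Y}, ((Module.length (X.presheaf.stalk ξ.1) (X.presheaf.stalk ξ.1)).toNat : ℤ) * Cyc.divFun δX ξ.1 (f.residueFieldMap ξ.1 ((Y.residueFieldCongr ξ.2.2.symm).hom g)) x := by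
  haveI := hX.1
  rw [PullDivD.core f δX δY hX hY r hr hδ g hg x]
  have h1 : ∀ ξ : {ξ : X // (∀ x' : X, x' ⤳ ξ → x' = ξ) ∧ f ξ = genericPoint Y},
      ((Module.length (X.presheaf.stalk ξ.1) (X.presheaf.stalk ξ.1)).toNat : ℤ) *
        Cyc.divFun δX ξ.1 (f.residueFieldMap ξ.1 ((Y.residueFieldCongr ξ.2.2.symm).hom g)) x =
      PullDivD.G f δX (genericPoint Y) g x ξ.1 := by
    intro ξ
    unfold PullDivD.G
    rw [dif_pos ξ.2.2]
  rw [finsum_congr h1]
  symm
  apply PullDivB.finsum_eq_sum_minSpec x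
    (fun ξ => (∀ x' : X, x' ⤳ ξ → x' = ξ) ∧ f ξ = genericPoint Y)
  · intro ξ hξ
    exact hξ.1
  · intro ξ hmax _
    exact ⟨hmax, PullDivC.map_max_eq_generic f ξ hmax⟩
  · intro ξ hξ
    unfold PullDivD.G
    split_ifs with h
    · unfold Cyc.divFun
      rw [dif_neg (fun h' => hξ h'.1), mul_zero]
    · rfl

end Groth.Agent.Helper3.PullDivE
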