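import Mathlib
import Groth.Prelude
import Groth.Agent.Helper3.PullDivD

set_option autoImplicit false
set_option linter.style.haveILetI false
set_option linter.unusedSectionVars false
set_option linter.unusedVariables false
set_option linter.deprecated false
set_option linter.style.haveILetI false
set_option linter.unusedSectionVars false
set_option linter.unusedVariables false

namespace Groth.Agent.Helper3.PullDivF

universe u

open AlgebraicGeometry CategoryTheory IsLocalRing Groth.Agent.Helper6.Dim1
  Groth.Agent.Helper5.StalkDict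

/-- the core statement for a point known to be the generic point -/
theorem core' {X Y : Scheme.{u}} [IsIntegral Y] (δX : X → ℤ) (δY : Y → ℤ) (hX : Cyc.IsSetup X δX)
    (hY : Cyc.IsSetup Y δY) (f : X ⟶ Y) [Flat f] [LocallyOfFiniteType f] (r : ℕ)
    (hr : Cyc.HasRelDim f r) (hδ : Cyc.DeltaCompat f δX δY) (η' : Y) (hη' : η' = genericPoint Y)
    (g : Y.residueField η') (hg : g ≠ 0) (x : X) :
    haveI := hX.1
    Cyc.pullFun f δX δY r (Cyc.divFun δY η' g) x =
      ∑ q ∈ (minSpec_finite (A := X.presheaf.stalk x)).toFinset,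
        PullDivD.G f δX η' g x (X.fromSpecStalk x q) := by
  subst hη'
  exact PullDivD.core f δX δY hX hY r hr hδ g hg x

theorem length_field (K : Type u) [Field K] : Module.length K K = 1 := by
  rw [Module.length_eq_finrank, Module.finrank_self]
  rfl

theorem main (X Y : Scheme.{u}) [IsIntegral X] [IsIntegral Y] (δX : X → ℤ) (δY : Y → ℤ) (hX : Cyc.IsSetup X δX) (hY : Cyc.IsSetup Y δY) (f : X ⟶ Y) [Flat f] [LocallyOfFiniteType f] (r : ℕ) (hr : Cyc.HasRelDim f r) (hδ : Cyc.DeltaCompat f δX δY) (g : Y.residueField (f (genericPoint X))) (hg : g ≠ 0) : Cyc.pullFun f δX δY r (Cyc.divFun δY (f (genericPoint X)) g) = Cyc.divFun δX (genericPoint X) (f.residueFieldMap (genericPoint X) g) := by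
  haveI := hX.1
  funext x
  have hgen : ∀ z : X, genericPoint X ⤳ z := fun z => by
    rw [specializes_iff_mem_closure, (genericPoint_spec X).def]; exact Set.mem_univ _
  have hmaxX : ∀ x' : X, x' ⤳ genericPoint X → x' = genericPoint X := fun x' hx' =>
    (hx'.antisymm (hgen x')).eq
  have hη' : f (genericPoint X) = genericPoint Y :=
    PullDivC.map_max_eq_generic f _ hmaxX
  rw [core' δX δY hX hY f r hr hδ _ hη' g hg x]
  -- the unique minimal prime
  let q0 : PrimeSpectrum (X.presheaf.stalk x) := ⟨⊥, Ideal.isPrime_bot⟩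
  have hset : (minSpec_finite (A := X.presheaf.stalk x)).toFinset = {q0} := by
    ext q
    rw [Set.Finite.mem_toFinset, Finset.mem_singleton]
    show q.asIdeal ∈ minimalPrimes (X.presheaf.stalk x) ↔ _
    rw [IsDomain.minimalPrimes_eq_singleton_bot, Set.mem_singleton_iff]
    exact ⟨fun h => PrimeSpectrum.ext h, fun h => by rw [h]⟩
  rw [hset, Finset.sum_singleton]
  have hq0 : q0.asIdeal ∈ minimalPrimes (X.presheaf.stalk x) := by
    rw [IsDomain.minimalPrimes_eq_singleton_bot]; rfl
  have hpt : X.fromSpecStalk x q0 = genericPoint X :=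
    (max_of_mem_minimalPrimes x q0 hq0 _ (hgen _)).symm
  rw [hpt]
  unfold PullDivD.G
  rw [dif_pos rfl]
  have h1 : Module.length (X.presheaf.stalk (genericPoint X)) (X.presheaf.stalk (genericPoint X)) = 1 :=
    length_field X.functionField
  rw [h1]
  simp

end Groth.Agent.Helper3.PullDivF
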