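import Mathlib
import Groth.Agent.Helper3.AffCompl
import Groth.Prelude

set_option autoImplicit false
set_option linter.style.haveILetI false
set_option linter.unusedSectionVars false
set_option linter.unusedVariables false
set_option linter.deprecated false
set_option linter.style.haveILetI false
set_option linter.unusedSectionVars false
set_option linter.unusedVariables false

universe u

open AlgebraicGeometry CategoryTheory CategoryTheory.Limits TopologicalSpace Opposite IsLocalRing

namespace Groth.Agent.Helper3.PuncAff

/-- In a Noetherian local ring of dimension `≤ 1` there is an element `f` whose zero locus is the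
closed point. -/
theorem exists_zeroLocus_eq (A : Type u) [CommRing A] [IsLocalRing A] [IsNoetherianRing A]
    (h : ringKrullDim A ≤ 1) :
    ∃ f : A, ∀ q : PrimeSpectrum A, f ∈ q.asIdeal ↔ q = closedPoint A := by
  classical
  haveI : Ring.KrullDimLE 1 A := Ring.krullDimLE_iff.mpr h
  have hdim := (Ring.krullDimLE_one_iff (R := A)).mp this
  by_cases hm : maximalIdeal A ∈ minimalPrimes A
  · -- every prime is the maximal ideal
    refine ⟨0, fun q => ⟨fun _ => ?_, fun _ => q.asIdeal.zero_mem⟩⟩
    have hle : q.asIdeal ≤ maximalIdeal A := IsLocalRing.le_maximalIdeal q.2.ne_top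
    have : maximalIdeal A ≤ q.asIdeal := hm.2 ⟨q.2, bot_le⟩ hle
    exact PrimeSpectrum.ext (le_antisymm hle this)
  · have hfin : (minimalPrimes A).Finite := minimalPrimes.finite_of_isNoetherianRing A
    have hnot : ¬ ((maximalIdeal A : Set A) ⊆ ⋃ p ∈ (↑hfin.toFinset : Set (Ideal A)), (p : Set A)) := by
      rw [Ideal.subset_union_prime (R := A) (f := fun p : Ideal A => p) ⊥ ⊥
        (fun p hp _ _ => (hfin.mem_toFinset.mp hp).1.1)]
      rintro ⟨p, hp, hle⟩
      have hp' := hfin.mem_toFinset.mp hp
      have : p = maximalIdeal A :=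
        ((IsLocalRing.maximalIdeal.isMaximal A).eq_of_le hp'.1.1.ne_top hle).symm
      exact hm (this ▸ hp')
    obtain ⟨f, hfm, hf⟩ := Set.not_subset.mp hnot
    refine ⟨f, fun q => ⟨fun hfq => ?_, fun hq => ?_⟩⟩
    · rcases hdim q.asIdeal q.2 with hq | hq
      · exfalso
        apply hf
        simp only [Set.mem_iUnion, SetLike.mem_coe, exists_prop]
        exact ⟨q.asIdeal, hfin.mem_toFinset.mpr hq, hfq⟩
      · exact PrimeSpectrum.ext (IsLocalRing.eq_maximalIdeal hq)
    · rw [hq]; exact hfm

theorem main (A : Type u) [CommRing A] [IsLocalRing A] [IsNoetherianRing A] :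
    IsAffine (FEt.puncturedSpec A : Scheme.{u}) ↔ ringKrullDim A ≤ 1 := by
  constructor
  · intro hU
    have hU' : IsAffineOpen (FEt.puncturedSpec A) := hU
    have h1 := AffCompl.spec_main A (FEt.puncturedSpec A) hU' (closedPoint A)
      (fun h => h rfl) (by
        intro q _ hq
        by_contra hne
        exact hq hne)
    rw [← IsLocalRing.maximalIdeal_height_eq_ringKrullDim]
    exact_mod_cast h1
  · intro h
    obtain ⟨f, hf⟩ := exists_zeroLocus_eq A h
    have : FEt.puncturedSpec A = PrimeSpectrum.basicOpen f := by
      apply TopologicalSpace.Opens.ext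
      show ({closedPoint A}ᶜ : Set (PrimeSpectrum A)) =
        (PrimeSpectrum.basicOpen f : Set (PrimeSpectrum A))
      ext q
      rw [Set.mem_compl_iff, Set.mem_singleton_iff, ← hf q]
      rfl
    show IsAffineOpen (FEt.puncturedSpec A)
    rw [this]
    exact IsAffineOpen.Spec_basicOpen (R := CommRingCat.of A) f

end Groth.Agent.Helper3.PuncAff
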