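import Mathlib
import Groth.Prelude
import Groth.Agent.Helper3.Pur2A
import Groth.Agent.Helper3.Pur2B
import Groth.Agent.Helper3.CHR5

set_option autoImplicit false
set_option linter.style.haveILetI false
set_option linter.unusedSectionVars false
set_option linter.unusedVariables false
set_option linter.deprecated false
set_option linter.style.haveILetI false
set_option linter.unusedSectionVars false
set_option linter.unusedVariables false

universe u v w

namespace Groth.Agent.Helper3.Pur2

open IsLocalRing Groth.Agent.Helper3.CHR
open scoped Pointwise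

/-- Two-dimensional purity for group actions: a finite group acting faithfully on a normal
local domain `A` of dimension two, finite over the regular local ring of invariants `R` with the
same residue field, and with trivial inertia at every non-maximal prime, is trivial. -/
theorem trivial_of_punctured_free (R : Type u) [CommRing R] [IsRegularLocalRing R]
    (A : Type v) [CommRing A] [IsDomain A] [IsIntegrallyClosed A] [IsLocalRing A]
    [Algebra R A] [Module.Finite R A] (hinj : Function.Injective (algebraMap R A))
    (hres : Function.Surjective (IsLocalRing.residue A ∘ algebraMap R A))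
    (H : Type w) [Group H] [Finite H] [MulSemiringAction H A] [SMulCommClass H R A]
    [FaithfulSMul H A]
    (hfix : ∀ a : A, (∀ h : H, h • a = a) → a ∈ Set.range (algebraMap R A))
    (hdim : ringKrullDim A = 2)
    (htriv : ∀ P : Ideal A, P.IsPrime → P ≠ maximalIdeal A → P.inertia H = ⊥) :
    ∀ h : H, h = 1 := by
  haveI : Algebra.IsInvariant R A H := ⟨fun a ha => hfix a ha⟩
  haveI : IsNoetherianRing A := IsNoetherianRing.of_finite R A
  haveI : Algebra.IsIntegral R A := Algebra.IsIntegral.of_finite R A
  haveI : Module.Flat R A := flat_of_normal_dim_two R A hinj hdim.le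
  haveI : Module.Free R A := Module.free_of_flat_of_isLocalRing
  have hcomap : (maximalIdeal A).comap (algebraMap R A) = maximalIdeal R :=
    IsLocalRing.eq_maximalIdeal
      (Ideal.isMaximal_comap_of_isIntegral_of_isMaximal (maximalIdeal A))
  -- a prime of `A` over the maximal ideal of `R` is maximal
  have hmax : ∀ P : Ideal A, P.IsPrime → P.comap (algebraMap R A) = maximalIdeal R →
      P = maximalIdeal A := by
    intro P hP hPc
    haveI := hP
    have : P.IsMaximal := Ideal.isMaximal_of_isIntegral_of_isMaximal_comap P
      (hPc ▸ maximalIdeal.isMaximal R)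
    exact IsLocalRing.eq_maximalIdeal this
  have hd : ∀ d : R, d ∈ maximalIdeal R →
      ∃ 𝔭 : Ideal R, 𝔭.IsPrime ∧ 𝔭 ≠ maximalIdeal R ∧ d ∈ 𝔭 := by
    intro d hdm
    have hx : Ideal.span {algebraMap R A d} ≤ maximalIdeal A := by
      rw [Ideal.span_le, Set.singleton_subset_iff]
      have : d ∈ (maximalIdeal A).comap (algebraMap R A) := hcomap ▸ hdm
      exact this
    obtain ⟨P, hPmin, hPle⟩ := Ideal.exists_minimalPrimes_le hx
    haveI hPprime : P.IsPrime := hPmin.1.1
    have hht : P.height ≤ 1 :=
      Ideal.height_le_one_of_isPrincipal_of_mem_minimalPrimes (Ideal.span {algebraMap R A d}) P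
        hPmin
    have hPne : P ≠ maximalIdeal A := by
      intro hP
      rw [hP] at hht
      have h2 : ((maximalIdeal A).height : WithBot ℕ∞) ≤ ((1 : ℕ∞) : WithBot ℕ∞) := by
        exact_mod_cast hht
      rw [IsLocalRing.maximalIdeal_height_eq_ringKrullDim, hdim] at h2
      have h3 : ((2 : ℕ∞) : WithBot ℕ∞) ≤ ((1 : ℕ∞) : WithBot ℕ∞) := h2
      have h4 : (2 : ℕ∞) ≤ 1 := by exact_mod_cast h3
      exact absurd h4 (by norm_num)
    refine ⟨P.comap (algebraMap R A), Ideal.comap_isPrime _ _, ?_, ?_⟩
    · intro hc
      exact hPne (hmax P hPprime hc)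
    · exact hPmin.1.2 (Ideal.subset_span (Set.mem_singleton _))
  have het : Algebra.Etale R A := by
    apply etale_of_free R A hd
    intro 𝔭 h𝔭 hne
    refine (local_main R A H hinj 𝔭 ?_).2.2.1
    intro q hq hqc σ hσ
    have hqne : q ≠ maximalIdeal A := by
      intro hqm
      apply hne
      rw [← hqc, hqm, hcomap]
    have h1 := htriv q hq hqne
    by_contra hcon
    push Not at hcon
    have : σ ∈ q.inertia H := hcon
    rw [h1, Subgroup.mem_bot] at this
    exact hσ this
  -- unramified at the maximal ideal
  haveI : Algebra.FormallyUnramified R A := inferInstance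
  haveI : Algebra.FormallyUnramified R (Localization.AtPrime (maximalIdeal A)) :=
    Algebra.FormallyUnramified.comp R A (Localization.AtPrime (maximalIdeal A))
  have hstab := stabilizer_eq_bot_of_unramified R A H (maximalIdeal A) (by
    intro r
    obtain ⟨x, hx⟩ := hres (IsLocalRing.residue A r)
    refine ⟨algebraMap R A x, fun σ => smul_algebraMap σ x, ?_⟩
    rw [← Ideal.Quotient.eq_zero_iff_mem (I := maximalIdeal A)]
    have hx' : IsLocalRing.residue A (algebraMap R A x) = IsLocalRing.residue A r := hx
    change IsLocalRing.residue A (r - algebraMap R A x) = 0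
    rw [map_sub, hx', sub_self])
  intro h
  have hmem : h ∈ MulAction.stabilizer H (maximalIdeal A) := by
    rw [MulAction.mem_stabilizer_iff]
    have : (h • maximalIdeal A).IsMaximal := by
      rw [Ideal.pointwise_smul_eq_comap]
      exact Ideal.comap_isMaximal_of_surjective _ (MulSemiringAction.toRingEquiv H A h⁻¹).surjective
    exact IsLocalRing.eq_maximalIdeal this
  rw [hstab, Subgroup.mem_bot] at hmem
  exact hmem

end Groth.Agent.Helper3.Pur2
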