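import Mathlib
import Groth.Prelude
import Groth.Agent.Helper3.Pur2C

set_option autoImplicit false
set_option linter.style.haveILetI false
set_option linter.unusedSectionVars false
set_option linter.unusedVariables false
set_option linter.deprecated false
set_option linter.style.haveILetI false
set_option linter.unusedSectionVars false
set_option linter.unusedVariables false

universe u v w

namespace Groth.Agent.Helper3.Pur2

open IsLocalRing

/-- In a cyclic group of order `p ^ 2`, a subgroup of order `p` consists of all the elements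
killed by `p`. -/
theorem mem_of_pow_eq_one (p : ℕ) [Fact p.Prime] (H : Type w) [Group H] [Finite H] [IsCyclic H]
    (Γ : Subgroup H) (hΓ : Nat.card Γ = p) (x : H) (hx : x ^ p = 1) : x ∈ Γ := by
  classical
  haveI : Fintype H := Fintype.ofFinite H
  have hp : 0 < p := (Fact.out : p.Prime).pos
  have h1 : (Finset.univ.filter (fun a : H => a ^ p = 1)).card ≤ p :=
    IsCyclic.card_pow_eq_one_le hp
  have h2 : (Finset.univ.filter (fun a : H => a ∈ Γ)) ⊆
      (Finset.univ.filter (fun a : H => a ^ p = 1)) := by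
    intro a ha
    rw [Finset.mem_filter] at ha ⊢
    refine ⟨Finset.mem_univ _, ?_⟩
    have := pow_card_eq_one' (G := Γ) (x := ⟨a, ha.2⟩)
    rw [hΓ] at this
    exact congrArg Subtype.val this
  have h3 : (Finset.univ.filter (fun a : H => a ∈ Γ)).card = p := by
    rw [← hΓ, Nat.card_eq_fintype_card, Fintype.card_subtype]
  have h4 := Finset.eq_of_subset_of_card_le h2 (by rw [h3]; exact h1)
  have h5 : x ∈ Finset.univ.filter (fun a : H => a ^ p = 1) := by
    rw [Finset.mem_filter]; exact ⟨Finset.mem_univ _, hx⟩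
  rw [← h4, Finset.mem_filter] at h5
  exact h5.2

theorem s15804
    (p : ℕ) [Fact p.Prime] (R : Type u) [CommRing R] [IsRegularLocalRing R]
    (A : Type v) [CommRing A] [IsDomain A] [IsIntegrallyClosed A] [IsLocalRing A]
    [Algebra R A] [Module.Finite R A] (hinj : Function.Injective (algebraMap R A))
    (hres : Function.Surjective (IsLocalRing.residue A ∘ algebraMap R A))
    (H : Type w) [Group H] [Finite H] [MulSemiringAction H A] [SMulCommClass H R A]
    [FaithfulSMul H A]
    (hfix : ∀ a : A, (∀ h : H, h • a = a) → a ∈ Set.range (algebraMap R A))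
    (hdim : ringKrullDim A = 2) (hcard : Nat.card H = p ^ 2)
    (Γ : Subgroup H) (hΓ : Nat.card Γ = p)
    (hram : ∀ P : Ideal A, P.IsPrime → P ≠ IsLocalRing.maximalIdeal A →
      P.inertia H ⊓ Γ = ⊥) :
    (∀ P : Ideal A, P.IsPrime → P.height = 1 → P.inertia H ≠ ⊥ →
        Nat.card (P.inertia H) = p) ∧
      (∀ g h : H, g * h = h * g) ∧ ∀ h : H, h ^ p = 1 := by
  have hp : p.Prime := Fact.out
  refine ⟨?_, IsPGroup.commutative_of_card_eq_prime_sq hcard, ?_⟩
  · intro P hP hht hne
    have hPne : P ≠ maximalIdeal A := by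
      intro hPm
      rw [hPm] at hht
      have h2 : ((maximalIdeal A).height : WithBot ℕ∞) = ((1 : ℕ∞) : WithBot ℕ∞) := by
        exact_mod_cast hht
      rw [IsLocalRing.maximalIdeal_height_eq_ringKrullDim, hdim] at h2
      have h3 : ((2 : ℕ∞) : WithBot ℕ∞) = ((1 : ℕ∞) : WithBot ℕ∞) := h2
      have h4 : (2 : ℕ∞) = 1 := by exact_mod_cast h3
      exact absurd h4 (by norm_num)
    have hint := hram P hP hPne
    have hdvd : Nat.card (P.inertia H) ∣ p ^ 2 := hcard ▸ Subgroup.card_subgroup_dvd_card _
    obtain ⟨k, hk, hkc⟩ := (Nat.dvd_prime_pow hp).mp hdvd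
    interval_cases k
    · exfalso
      apply hne
      rw [pow_zero] at hkc
      exact Subgroup.eq_bot_of_card_eq _ hkc
    · rw [hkc, pow_one]
    · exfalso
      have htop : P.inertia H = ⊤ := Subgroup.eq_top_of_card_eq _ (by rw [hkc, hcard])
      rw [htop, top_inf_eq] at hint
      rw [hint, Subgroup.card_bot] at hΓ
      exact hp.one_lt.ne hΓ
  · by_contra hcon
    push Not at hcon
    obtain ⟨h₀, hh₀⟩ := hcon
    -- `H` is cyclic
    have hord : orderOf h₀ = p ^ 2 := by
      have hdvd : orderOf h₀ ∣ p ^ 2 := hcard ▸ orderOf_dvd_natCard h₀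
      obtain ⟨k, hk, hkc⟩ := (Nat.dvd_prime_pow hp).mp hdvd
      interval_cases k
      · exfalso
        rw [pow_zero, orderOf_eq_one_iff] at hkc
        apply hh₀
        rw [hkc, one_pow]
      · exfalso
        apply hh₀
        rw [pow_one] at hkc
        rw [← hkc, pow_orderOf_eq_one]
      · exact hkc
    haveI : IsCyclic H := isCyclic_of_orderOf_eq_card h₀ (by rw [hord, hcard])
    have htriv : ∀ P : Ideal A, P.IsPrime → P ≠ maximalIdeal A → P.inertia H = ⊥ := by
      intro P hP hPne
      have hint := hram P hP hPne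
      rw [eq_bot_iff]
      intro x hx
      have hxp : x ^ p ∈ P.inertia H := Subgroup.pow_mem _ hx p
      have hxpp : (x ^ p) ^ p = 1 := by
        rw [← pow_mul, ← sq, ← hcard, pow_card_eq_one']
      have h1 : x ^ p ∈ Γ := mem_of_pow_eq_one p H Γ hΓ _ hxpp
      have h2 : x ^ p ∈ P.inertia H ⊓ Γ := ⟨hxp, h1⟩
      rw [hint, Subgroup.mem_bot] at h2
      have h3 : x ∈ Γ := mem_of_pow_eq_one p H Γ hΓ _ h2
      have h4 : x ∈ P.inertia H ⊓ Γ := ⟨hx, h3⟩
      rw [hint] at h4
      exact h4
    have := trivial_of_punctured_free R A hinj hres H hfix hdim htriv h₀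
    apply hh₀
    rw [this, one_pow]

end Groth.Agent.Helper3.Pur2
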