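import Mathlib
set_option autoImplicit false
set_option linter.style.haveILetI false
set_option linter.unusedSectionVars false
set_option linter.unusedVariables false
set_option linter.style.haveILetI false
set_option linter.unusedSectionVars false
set_option linter.unusedVariables false

namespace Groth.Agent.Helper3.PureSub
open PrimeSpectrum

section ring
variable {A : Type*} [CommRing A]

/-- The ideal of elements vanishing in the local ring at every point of `Z`. -/
def pureIdeal (Z : Set (PrimeSpectrum A)) : Ideal A :=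
  ⨅ p ∈ Z, RingHom.ker (algebraMap A (Localization.AtPrime p.asIdeal))

lemma mem_pureIdeal {Z : Set (PrimeSpectrum A)} {a : A} :
    a ∈ pureIdeal Z ↔ ∀ p ∈ Z, ∃ s, s ∉ p.asIdeal ∧ s * a = 0 := by
  simp only [pureIdeal, Ideal.mem_iInf, RingHom.mem_ker]
  refine forall₂_congr fun p hp => ?_
  rw [IsLocalization.map_eq_zero_iff p.asIdeal.primeCompl]
  constructor
  · rintro ⟨⟨s, hs⟩, h⟩; exact ⟨s, hs, h⟩
  · rintro ⟨s, hs, h⟩; exact ⟨⟨s, hs⟩, h⟩

lemma exists_pow_mem_pureIdeal {Z : Set (PrimeSpectrum A)} (hZc : IsClosed Z)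
    (hZg : StableUnderGeneralization Z) {z : A} (hz : z ∈ vanishingIdeal Z) :
    ∃ n, z ^ n ∈ pureIdeal Z := by
  let W : ℕ → Set (PrimeSpectrum A) := fun n => {p | ∃ s, s ∉ p.asIdeal ∧ s * z ^ n = 0}
  have hWopen : ∀ n, IsOpen (W n) := by
    intro n
    have : W n = ⋃ (s : A) (_ : s * z ^ n = 0), (basicOpen s : Set (PrimeSpectrum A)) := by
      ext p
      simp only [W, Set.mem_setOf_eq, Set.mem_iUnion, SetLike.mem_coe, mem_basicOpen,
        exists_prop]
      exact exists_congr fun s => and_comm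
    rw [this]
    exact isOpen_iUnion fun s => isOpen_iUnion fun _ => (basicOpen s).isOpen
  have hWmono : Monotone W := by
    rintro n m hnm p ⟨s, hs, h⟩
    refine ⟨s, hs, ?_⟩
    rw [← Nat.sub_add_cancel hnm, pow_add, ← mul_assoc, mul_comm s, mul_assoc, h, mul_zero]
  have hcover : Z ⊆ ⋃ n, W n := by
    intro p hp
    have hnil : IsNilpotent (algebraMap A (Localization.AtPrime p.asIdeal) z) := by
      rw [nilpotent_iff_mem_prime]
      intro Q hQ
      have hle : Q.comap (algebraMap A (Localization.AtPrime p.asIdeal)) ≤ p.asIdeal := by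
        exact (Ideal.comap_mono (IsLocalRing.le_maximalIdeal hQ.ne_top)).trans
          (Localization.AtPrime.comap_maximalIdeal (I := p.asIdeal)).le
      have hq : (⟨Q.comap (algebraMap A (Localization.AtPrime p.asIdeal)), inferInstance⟩ :
          PrimeSpectrum A) ∈ Z := by
        refine hZg ?_ hp
        rw [← PrimeSpectrum.le_iff_specializes]
        exact hle
      exact (mem_vanishingIdeal _ _).mp hz _ hq
    obtain ⟨n, hn⟩ := hnil
    rw [← map_pow, IsLocalization.map_eq_zero_iff p.asIdeal.primeCompl] at hn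
    obtain ⟨⟨s, hs⟩, h⟩ := hn
    exact Set.mem_iUnion.mpr ⟨n, s, hs, h⟩
  obtain ⟨n, hn⟩ := hZc.isCompact.elim_directed_cover W hWopen hcover
    (directed_of_isDirected_le hWmono)
  exact ⟨n, mem_pureIdeal.mpr fun p hp => hn hp⟩

lemma zeroLocus_pureIdeal {Z : Set (PrimeSpectrum A)} (hZc : IsClosed Z)
    (hZg : StableUnderGeneralization Z) : zeroLocus (pureIdeal Z : Set A) = Z := by
  apply Set.Subset.antisymm
  · intro p hp
    by_contra hpZ
    rw [← hZc.closure_eq, ← zeroLocus_vanishingIdeal_eq_closure] at hpZ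
    simp only [mem_zeroLocus, Set.not_subset] at hpZ
    obtain ⟨z, hz, hzp⟩ := hpZ
    obtain ⟨n, hn⟩ := exists_pow_mem_pureIdeal hZc hZg hz
    exact hzp (p.2.mem_of_pow_mem n (hp hn))
  · intro p hp a ha
    obtain ⟨s, hs, h⟩ := mem_pureIdeal.mp ha p hp
    exact (p.2.mem_or_mem (h ▸ p.asIdeal.zero_mem)).resolve_left hs

lemma pure_of_forall_exists_eq_mul {I : Ideal A} (h : ∀ x ∈ I, ∃ y ∈ I, x = x * y) :
    I.Pure := by
  apply Ideal.Pure.of_inf_eq_mul
  intro J _
  apply le_antisymm
  · rintro x ⟨hxI, hxJ⟩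
    obtain ⟨y, hy, hxy⟩ := h x hxI
    have hxy' : x = y * x := by rw [mul_comm]; exact hxy
    rw [hxy']
    exact Ideal.mul_mem_mul hy hxJ
  · exact Ideal.mul_le_inf

lemma forall_exists_eq_mul_pureIdeal {Z : Set (PrimeSpectrum A)} (hZc : IsClosed Z)
    (hZg : StableUnderGeneralization Z) :
    ∀ a ∈ pureIdeal Z, ∃ y ∈ pureIdeal Z, a = a * y := by
  intro a ha
  let N : Ideal A := (Submodule.span A {a}).annihilator
  have htop : N ⊔ vanishingIdeal Z = ⊤ := by
    by_contra hne
    obtain ⟨P, hP, hle⟩ := Ideal.exists_le_maximal _ hne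
    have hPZ : (⟨P, hP.isPrime⟩ : PrimeSpectrum A) ∈ Z := by
      rw [← hZc.closure_eq, ← zeroLocus_vanishingIdeal_eq_closure]
      exact fun x hx => hle (Ideal.mem_sup_right hx)
    obtain ⟨s, hs, h⟩ := mem_pureIdeal.mp ha _ hPZ
    refine hs (hle (Ideal.mem_sup_left ?_))
    rw [Submodule.mem_annihilator_span_singleton]
    exact h
  obtain ⟨s, hs, z, hz, hsz⟩ := Submodule.mem_sup.mp ((Ideal.eq_top_iff_one _).mp htop)
  have hsa : s * a = 0 := (Submodule.mem_annihilator_span_singleton _ _).mp hs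
  have haz : a = a * z := by
    calc a = a * 1 := (mul_one a).symm
      _ = a * (s + z) := by rw [hsz]
      _ = a * z := by rw [mul_add, mul_comm a s, hsa, zero_add]
  obtain ⟨n, hn⟩ := exists_pow_mem_pureIdeal hZc hZg hz
  refine ⟨z ^ n, hn, ?_⟩
  clear hn
  induction n with
  | zero => simp
  | succ n ih => rw [pow_succ, ← mul_assoc, ← ih, ← haz]

lemma pure_pureIdeal {Z : Set (PrimeSpectrum A)} (hZc : IsClosed Z)
    (hZg : StableUnderGeneralization Z) : (pureIdeal Z).Pure :=
  pure_of_forall_exists_eq_mul (forall_exists_eq_mul_pureIdeal hZc hZg)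

lemma forall_exists_eq_mul_map {B : Type*} [CommRing B] {I : Ideal A}
    (h : ∀ x ∈ I, ∃ y ∈ I, x = x * y) (φ : A →+* B) :
    ∀ x ∈ I.map φ, ∃ y ∈ I.map φ, x = x * y := by
  intro x hx
  suffices ∃ y ∈ I, x = x * φ y by
    obtain ⟨y, hy, h⟩ := this
    exact ⟨φ y, Ideal.mem_map_of_mem φ hy, h⟩
  refine Submodule.span_induction ?_ ?_ ?_ ?_ hx
  · rintro _ ⟨a, ha, rfl⟩
    obtain ⟨y, hy, hay⟩ := h a ha
    exact ⟨y, hy, by rw [← map_mul, ← hay]⟩
  · exact ⟨0, I.zero_mem, by simp⟩
  · rintro x₁ x₂ _ _ ⟨y₁, hy₁, h₁⟩ ⟨y₂, hy₂, h₂⟩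
    refine ⟨y₁ + y₂ - y₁ * y₂, ?_, ?_⟩
    · exact I.sub_mem (I.add_mem hy₁ hy₂) (I.mul_mem_left _ hy₂)
    · have e1 : x₁ * (1 - φ y₁) = 0 := by rw [mul_sub, mul_one, ← h₁, sub_self]
      have e2 : x₂ * (1 - φ y₂) = 0 := by rw [mul_sub, mul_one, ← h₂, sub_self]
      have e3 : (x₁ + x₂) * (1 - φ (y₁ + y₂ - y₁ * y₂)) = 0 := by
        have : 1 - φ (y₁ + y₂ - y₁ * y₂) = (1 - φ y₁) * (1 - φ y₂) := by
          simp only [map_sub, map_add, map_mul]; ring
        rw [this]
        calc (x₁ + x₂) * ((1 - φ y₁) * (1 - φ y₂))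
            = (x₁ * (1 - φ y₁)) * (1 - φ y₂) + (x₂ * (1 - φ y₂)) * (1 - φ y₁) := by ring
          _ = 0 := by rw [e1, e2]; simp
      rw [mul_sub, mul_one, sub_eq_zero] at e3
      exact e3
  · rintro b x _ ⟨y, hy, h⟩
    exact ⟨y, hy, by rw [smul_eq_mul, mul_assoc, ← h]⟩

lemma map_pureIdeal {B : Type*} [CommRing B] (φ : A →+* B) {Z : Set (PrimeSpectrum A)}
    (hZc : IsClosed Z) (hZg : StableUnderGeneralization Z) :
    (pureIdeal Z).map φ = pureIdeal (comap φ ⁻¹' Z) := by
  have hZc' : IsClosed (comap φ ⁻¹' Z) := hZc.preimage (continuous_comap φ)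
  have hZg' : StableUnderGeneralization (comap φ ⁻¹' Z) :=
    fun x y hyx hx => hZg (hyx.map (continuous_comap φ)) hx
  haveI : ((pureIdeal Z).map φ).Pure := pure_of_forall_exists_eq_mul
    (forall_exists_eq_mul_map (forall_exists_eq_mul_pureIdeal hZc hZg) φ)
  haveI : (pureIdeal (comap φ ⁻¹' Z)).Pure := pure_pureIdeal hZc' hZg'
  rw [← Ideal.zeroLocus_inj_of_pure, zeroLocus_pureIdeal hZc' hZg', Ideal.map, zeroLocus_span,
    ← preimage_comap_zeroLocus, zeroLocus_pureIdeal hZc hZg]

lemma pure_ker_of_flat {B : Type*} [CommRing B] (φ : A →+* B) (hs : Function.Surjective φ)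
    (hf : φ.Flat) : (RingHom.ker φ).Pure := by
  letI := φ.toAlgebra
  have : Module.Flat A B := hf
  let e : (A ⧸ RingHom.ker (Algebra.ofId A B)) ≃ₗ[A] B :=
    (Ideal.quotientKerAlgEquivOfSurjective (f := Algebra.ofId A B) hs).toLinearEquiv
  exact Module.Flat.of_linearEquiv e

end ring

section scheme
open AlgebraicGeometry CategoryTheory TopologicalSpace

universe u
variable {X : Scheme.{u}}

lemma pure_of_flat (I : X.IdealSheafData) (hI : Flat I.subschemeι) (U : X.affineOpens) :
    (I.ideal U).Pure := by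
  have hV : IsAffineOpen (I.subschemeι ⁻¹ᵁ U.1) := U.2.preimage I.subschemeι
  have h := HasRingHomProperty.appLE (P := @Flat) I.subschemeι hI U ⟨_, hV⟩ le_rfl
  rw [← Scheme.Hom.app_eq_appLE] at h
  rw [← I.ker_subschemeι_app U]
  exact pure_ker_of_flat _ (I.subschemeι_app_surjective U) h

lemma flat_of_pure (I : X.IdealSheafData) (h : ∀ U : X.affineOpens, (I.ideal U).Pure) :
    Flat I.subschemeι := by
  rw [IsZariskiLocalAtSource.iff_of_openCover (P := @Flat) I.subschemeCover.openCover]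
  intro U
  change Flat (I.subschemeCover.f U ≫ I.subschemeι)
  rw [Scheme.IdealSheafData.subschemeCover_map_subschemeι,
    Scheme.IdealSheafData.glueDataObjι_ι]
  have h1 : Flat (Spec.map (CommRingCat.ofHom (Ideal.Quotient.mk (I.ideal U)))) := by
    rw [Flat.SpecMap_iff]
    exact h U
  have hU : IsAffineOpen U.1 := U.2
  have h2 : Flat hU.fromSpec := inferInstance
  exact @Flat.comp _ _ _ _ _ h1 h2

set_option backward.isDefEq.respectTransparency false in
/-- The ideal sheaf attached to a closed subset stable under generalization. -/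
noncomputable def pureSheaf (Z : Closeds X) (hZ : StableUnderGeneralization (Z : Set X)) :
    X.IdealSheafData :=
  Scheme.IdealSheafData.mkOfMemSupportIff
    (fun U => pureIdeal (U.2.fromSpec ⁻¹' (Z : Set X)))
    (fun U f => by
      have hc : IsClosed (U.2.fromSpec ⁻¹' (Z : Set X)) :=
        Z.isClosed.preimage U.2.fromSpec.continuous
      have hg : StableUnderGeneralization (U.2.fromSpec ⁻¹' (Z : Set X)) :=
        fun x y hyx hx => hZ (hyx.map U.2.fromSpec.continuous) hx
      rw [map_pureIdeal _ hc hg]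
      congr 1
      rw [← U.2.map_fromSpec (X.affineBasicOpen f).2 (homOfLE (X.basicOpen_le f)).op,
        Scheme.Hom.comp_base, TopCat.coe_comp, Set.preimage_comp]
      rfl)
    (Z : Set X)
    (fun U x hxU => by
      have hc : IsClosed (U.2.fromSpec ⁻¹' (Z : Set X)) :=
        Z.isClosed.preimage U.2.fromSpec.continuous
      have hg : StableUnderGeneralization (U.2.fromSpec ⁻¹' (Z : Set X)) :=
        fun x y hyx hx => hZ (hyx.map U.2.fromSpec.continuous) hx
      trans x ∈ X.zeroLocus (U := U.1) (pureIdeal (U.2.fromSpec ⁻¹' (Z : Set X)) : Set Γ(X, U.1))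
        ∩ U.1
      · rw [← U.2.fromSpec_image_zeroLocus, zeroLocus_pureIdeal hc hg,
          Set.image_preimage_eq_inter_range, IsAffineOpen.range_fromSpec]
        simp [hxU]
      · simp [hxU])

lemma app_eq_zero_of_mem (I : X.IdealSheafData) (hI : Flat I.subschemeι) {Y : Scheme.{u}}
    (g : Y ⟶ X) (hg : Set.range g ⊆ (I.support : Set X)) (U : X.affineOpens)
    (a : Γ(X, U.1)) (ha : a ∈ I.ideal U) : (g.app U.1).hom a = 0 := by
  haveI := pure_of_flat I hI U
  obtain ⟨y, hy, hay⟩ := Ideal.exists_eq_mul_of_pure ha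
  have hunit : IsUnit ((g.app U.1).hom (1 - y)) := by
    refine Y.toRingedSpace.isUnit_of_isUnit_germ (g ⁻¹ᵁ U.1) _ ?_
    intro w hw
    have hgw : g w ∈ (I.support : Set X) := hg ⟨w, rfl⟩
    have hgwU : g w ∈ U.1 := hw
    have h1 : ¬ IsUnit ((X.presheaf.germ U.1 (g w) hgwU).hom y) := by
      have h2 := (Scheme.IdealSheafData.mem_support_iff_of_mem hgwU).mp hgw
      rw [Scheme.mem_zeroLocus_iff] at h2
      have h3 := h2 y hy
      rwa [Scheme.mem_basicOpen X y (g w) hgwU] at h3
    have h4 : IsUnit ((X.presheaf.germ U.1 (g w) hgwU).hom (1 - y)) := by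
      rw [map_sub, map_one]
      exact IsLocalRing.isUnit_one_sub_self_of_mem_nonunits _ h1
    have h5 := h4.map (g.stalkMap w).hom
    have h6 : (g.stalkMap w).hom ((X.presheaf.germ U.1 (g w) hgwU).hom (1 - y)) =
        (Y.presheaf.germ (g ⁻¹ᵁ U.1) w hw).hom ((g.app U.1).hom (1 - y)) :=
      Scheme.Hom.germ_stalkMap_apply g U.1 w hw (1 - y)
    rw [h6] at h5
    exact h5
  have hzero : (g.app U.1).hom (1 - y) * (g.app U.1).hom a = 0 := by
    rw [← map_mul]
    have : (1 - y) * a = 0 := by rw [sub_mul, one_mul, mul_comm y a, ← hay, sub_self]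
    rw [this, map_zero]
  exact (hunit.mul_right_eq_zero).mp hzero

theorem main (X : Scheme.{u}) :
    Set.BijOn (fun I : X.IdealSheafData => I.support) {I : X.IdealSheafData | Flat I.subschemeι}
        {Z : TopologicalSpace.Closeds ↑X | StableUnderGeneralization (Z : Set ↑X)} ∧
      ∀ I : X.IdealSheafData, Flat I.subschemeι → ∀ (Y : Scheme.{u}) (g : Y ⟶ X),
        Set.range g.base ⊆ (I.support : Set ↑X) →
          ∃ g' : Y ⟶ I.subscheme, g' ≫ I.subschemeι = g := by
  refine ⟨⟨?_, ?_, ?_⟩, ?_⟩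
  · intro I hI
    have hI' : Flat I.subschemeι := hI
    have := (Flat.generalizingMap I.subschemeι).stableUnderGeneralization_range
    rwa [I.range_subschemeι] at this
  · intro I hI J hJ hIJ
    have hIJ' : I.support = J.support := hIJ
    refine Scheme.IdealSheafData.ext (funext fun U => ?_)
    haveI := pure_of_flat I hI U
    haveI := pure_of_flat J hJ U
    rw [← Ideal.zeroLocus_inj_of_pure]
    have hU : IsAffineOpen U.1 := U.2
    apply hU.fromSpec.isOpenEmbedding.injective.image_injective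
    rw [hU.fromSpec_image_zeroLocus, hU.fromSpec_image_zeroLocus, ← I.coe_support_inter,
      ← J.coe_support_inter, hIJ']
  · intro Z hZ
    refine ⟨pureSheaf Z hZ, ?_, ?_⟩
    · refine flat_of_pure _ fun U => ?_
      have hU : IsAffineOpen U.1 := U.2
      exact pure_pureIdeal (Z.isClosed.preimage hU.fromSpec.continuous)
        (fun x y hyx hx => hZ (hyx.map hU.fromSpec.continuous) hx)
    · exact TopologicalSpace.Closeds.ext rfl
  · intro I hI Y g hg
    have hle : I ≤ g.ker := by
      rw [Scheme.Hom.ker, Scheme.IdealSheafData.le_ofIdeals_iff]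
      intro U a ha
      exact app_eq_zero_of_mem I hI g hg U a ha
    exact ⟨IsClosedImmersion.lift I.subschemeι g
      (by rw [Scheme.IdealSheafData.ker_subschemeι]; exact hle),
      IsClosedImmersion.lift_fac _ _ _⟩

end scheme

end Groth.Agent.Helper3.PureSub
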