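import Mathlib
import Groth.Prelude
import Groth.Agent.Helper3.NormD
import Groth.Agent.Helper6.Dim1Ord

/-!
# The principal divisor of a rational function on an integral scheme is locally finite
-/

set_option autoImplicit false
set_option linter.style.haveILetI false
set_option linter.unusedSectionVars false
set_option linter.unusedVariables false
set_option linter.deprecated false
set_option linter.style.haveILetI false
set_option linter.unusedSectionVars false
set_option linter.unusedVariables false

universe u

open CategoryTheory CategoryTheory.Limits AlgebraicGeometry TopologicalSpace Opposite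

namespace Groth.Agent.Helper3.PushRat

open Groth.Agent.Helper6.Dim1

section alg

variable {R : Type u} [CommRing R] [IsDomain R] [IsNoetherianRing R] {K : Type u} [Field K]
  [Algebra R K] [IsFractionRing R K]

theorem ordFrac_unit [Ring.KrullDimLE 1 R] (u : R) (hu : IsUnit u) :
    CycAlg.ordFrac R K (algebraMap R K u) = 0 := by
  rw [ordFrac_algebraMap hu.ne_zero]
  have h1 : Ideal.span {u} = (⊤ : Ideal R) := Ideal.span_singleton_eq_top.mpr hu
  have h2 : Subsingleton (R ⧸ Ideal.span {u}) := by
    rw [h1]
    exact Ideal.Quotient.subsingleton_iff.mpr rfl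
  rw [Module.length_eq_zero_iff.mpr h2]
  simp

theorem ordFrac_div_units [Ring.KrullDimLE 1 R] (u v : R) (hu : IsUnit u) (hv : IsUnit v) :
    CycAlg.ordFrac R K (algebraMap R K u / algebraMap R K v) = 0 := by
  have hv' : algebraMap R K v ≠ 0 := by
    rw [Ne, map_eq_zero_iff _ (IsFractionRing.injective R K)]; exact hv.ne_zero
  have hu' : algebraMap R K u ≠ 0 := by
    rw [Ne, map_eq_zero_iff _ (IsFractionRing.injective R K)]; exact hu.ne_zero
  have h1 : algebraMap R K u / algebraMap R K v * algebraMap R K v = algebraMap R K u := by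
    field_simp
  have h2 := ordFrac_mul (R := R) (K := K) (div_ne_zero hu' hv') hv'
  rw [h1, ordFrac_unit u hu, ordFrac_unit v hv] at h2
  omega

end alg

section top

variable {X : Scheme.{u}}

theorem specializes_of_primeIdealOf_le {U : X.Opens} (hU : IsAffineOpen U) (x x' : X)
    (hx : x ∈ U) (hx' : x' ∈ U)
    (h : (hU.primeIdealOf ⟨x', hx'⟩).asIdeal ≤ (hU.primeIdealOf ⟨x, hx⟩).asIdeal) : x' ⤳ x := by
  have h1 : hU.primeIdealOf ⟨x', hx'⟩ ⤳ hU.primeIdealOf ⟨x, hx⟩ :=
    (PrimeSpectrum.le_iff_specializes _ _).mp h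
  have h2 := h1.map hU.fromSpec.continuous
  rwa [hU.fromSpec_primeIdealOf, hU.fromSpec_primeIdealOf] at h2

end top

section div

variable {X : Scheme.{u}} [IsIntegral X]

theorem generic_specializes (x : X) : genericPoint X ⤳ x :=
  specializes_iff_mem_closure.mpr (by rw [(genericPoint_spec X).def]; trivial)

theorem generic_mem (U : X.Opens) (x : X) (hx : x ∈ U) : genericPoint X ∈ U :=
  (generic_specializes x).mem_open U.isOpen hx

/-- the local ring as a subring of the residue field of the generic point -/
theorem isFractionRing_specMap (x : X) (h : genericPoint X ⤳ x) :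
    @IsFractionRing (X.presheaf.stalk x) _ (X.residueField (genericPoint X)) _
      (Cyc.specMap x (genericPoint X) h).toAlgebra := by
  letI : Algebra (X.presheaf.stalk x) (X.residueField (genericPoint X)) :=
    (Cyc.specMap x (genericPoint X) h).toAlgebra
  haveI := BirResField.isIso_residue_genericPoint X
  let ψ : X.functionField ≃+* X.residueField (genericPoint X) :=
    RingEquiv.ofBijective (X.residue (genericPoint X)).hom
      (ConcreteCategory.bijective_of_isIso (X.residue (genericPoint X)))
  exact DivTrA.isFractionRing_of_equiv (RingEquiv.refl (X.presheaf.stalk x)) ψ (fun r => rfl)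

variable [IsLocallyNoetherian X] (δ : X → ℤ) (hδ : Cyc.IsDimFun X δ)

include hδ in
theorem krullDimLE_one_of_codim (x : X) (hc : δ x + 1 = δ (genericPoint X)) :
    Ring.KrullDimLE 1 (X.presheaf.stalk x) := by
  rw [Ring.krullDimLE_iff]
  have h := PullDivC.krullDim_stalk_le_one δ hδ x (fun ξ hξ _ => by
    have h1 : ξ = genericPoint X := (hξ _ (generic_specializes ξ)).symm
    rw [h1]; omega)
  exact_mod_cast h

include hδ in
/-- if the numerator and the denominator are units at `x` then the order vanishes -/
theorem divFun_eq_zero_of_units {U : X.Opens} (hU : IsAffineOpen U) (x : X) (hx : x ∈ U)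
    (a b : Γ(X, U))
    (ha : a ∉ (hU.primeIdealOf ⟨x, hx⟩).asIdeal) (hb : b ∉ (hU.primeIdealOf ⟨x, hx⟩).asIdeal) :
    Cyc.divFun δ (genericPoint X)
      ((X.evaluation U (genericPoint X) (generic_mem U x hx)).hom a /
        (X.evaluation U (genericPoint X) (generic_mem U x hx)).hom b) x = 0 := by
  unfold Cyc.divFun
  by_cases h : genericPoint X ⤳ x ∧ δ x + 1 = δ (genericPoint X)
  swap
  · rw [dif_neg h]
  rw [dif_pos h, NormD.ordAt_eq_of_ker_bot x _ h.1 (NormD.ker_specMap_eq_bot' _ rfl x h.1)]
  letI : Algebra (X.presheaf.stalk x) (X.residueField (genericPoint X)) :=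
    (Cyc.specMap x (genericPoint X) h.1).toAlgebra
  haveI := isFractionRing_specMap x h.1
  haveI := krullDimLE_one_of_codim δ hδ x h.2
  rw [NormD.mem_primeIdealOf_iff, IsLocalRing.mem_maximalIdeal, mem_nonunits_iff, not_not] at ha hb
  have e1 : (X.evaluation U (genericPoint X) (generic_mem U x hx)).hom a =
      algebraMap (X.presheaf.stalk x) (X.residueField (genericPoint X))
        (X.presheaf.germ U x hx a) := (NormD.specMap_germ x _ h.1 U hx a).symm
  have e2 : (X.evaluation U (genericPoint X) (generic_mem U x hx)).hom b =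
      algebraMap (X.presheaf.stalk x) (X.residueField (genericPoint X))
        (X.presheaf.germ U x hx b) := (NormD.specMap_germ x _ h.1 U hx b).symm
  rw [e1, e2]
  exact ordFrac_div_units _ _ ha hb

theorem primeIdealOf_generic {U : X.Opens} (hU : IsAffineOpen U) (hη : genericPoint X ∈ U)
    (a : Γ(X, U)) (ha : a ∈ (hU.primeIdealOf ⟨genericPoint X, hη⟩).asIdeal) : a = 0 := by
  rw [NormD.mem_primeIdealOf_iff] at ha
  have hfield : IsField (X.presheaf.stalk (genericPoint X)) :=
    Field.toIsField X.functionField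
  rw [IsLocalRing.isField_iff_maximalIdeal_eq.mp hfield, Ideal.mem_bot] at ha
  exact germ_injective_of_isIntegral X (genericPoint X) hη (ha.trans (map_zero _).symm)

include hδ in
theorem mem_minimalPrimes_span {U : X.Opens} (hU : IsAffineOpen U) (x : X) (hx : x ∈ U)
    (hc : δ x + 1 = δ (genericPoint X)) (a : Γ(X, U)) (ha0 : a ≠ 0)
    (ha : a ∈ (hU.primeIdealOf ⟨x, hx⟩).asIdeal) :
    (hU.primeIdealOf ⟨x, hx⟩).asIdeal ∈ (Ideal.span {a}).minimalPrimes := by
  refine ⟨⟨(hU.primeIdealOf ⟨x, hx⟩).isPrime, ?_⟩, ?_⟩
  · rw [Ideal.span_le]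
    exact Set.singleton_subset_iff.mpr ha
  · rintro Q ⟨hQ, hQa⟩ hQle
    haveI := hQ
    obtain ⟨x', hx', hQ'⟩ := NormD.exists_primeIdealOf_eq hU Q
    have hsp : x' ⤳ x := specializes_of_primeIdealOf_le hU x x' hx hx' (by rw [hQ']; exact hQle)
    have hne : x' ≠ genericPoint X := by
      rintro rfl
      apply ha0
      apply primeIdealOf_generic hU hx' a
      rw [hQ']
      exact hQa (Ideal.subset_span rfl)
    have h1 := (hδ _ _ (generic_specializes x') (fun h0 => hne h0.symm)).1
    have hxx : x' = x := by
      by_contra hne'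
      have h2 := (hδ _ _ hsp hne').1
      omega
    subst hxx
    rw [← hQ']

include hδ in
/-- **local finiteness of a principal divisor** -/
theorem finite_support_divFun_inter (f : X.residueField (genericPoint X)) (hf : f ≠ 0)
    {U : X.Opens} (hU : IsAffineOpen U) :
    ((U : Set X) ∩ Function.support (Cyc.divFun δ (genericPoint X) f)).Finite := by
  by_cases hne : (U : Set X).Nonempty
  swap
  · rw [Set.not_nonempty_iff_eq_empty.mp hne, Set.empty_inter]
    exact Set.finite_empty
  obtain ⟨x₀, hx₀⟩ := hne
  have hη : genericPoint X ∈ U := generic_mem U x₀ hx₀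
  letI : Algebra Γ(X, U) (X.residueField (genericPoint X)) :=
    (X.evaluation U (genericPoint X) hη).hom.toAlgebra
  haveI := NormD.isFractionRing_evaluation (genericPoint X) rfl U hU hη
  haveI : IsNoetherianRing Γ(X, U) := IsLocallyNoetherian.component_noetherian ⟨U, hU⟩
  haveI : IsDomain Γ(X, U) := by
    haveI : Nonempty U := ⟨⟨x₀, hx₀⟩⟩
    infer_instance
  obtain ⟨a, b, hb, rfl⟩ := IsFractionRing.div_surjective (A := Γ(X, U)) f
  have hb0 : b ≠ 0 := nonZeroDivisors.ne_zero hb
  have ha0 : a ≠ 0 := by
    rintro rfl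
    apply hf
    rw [map_zero, zero_div]
  let M : Set (Ideal Γ(X, U)) := (Ideal.span {a}).minimalPrimes ∪ (Ideal.span {b}).minimalPrimes
  have hM : M.Finite := (Ideal.finite_minimalPrimes_of_isNoetherianRing _ _).union
    (Ideal.finite_minimalPrimes_of_isNoetherianRing _ _)
  let g : U → Ideal Γ(X, U) := fun x => (hU.primeIdealOf x).asIdeal
  have hg : Function.Injective g := by
    intro x x' h
    exact Subtype.ext (NormD.primeIdealOf_injective hU x.1 x'.1 x.2 x'.2 h)
  have hfin : (g ⁻¹' M).Finite := hM.preimage hg.injOn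
  refine (hfin.image Subtype.val).subset ?_
  rintro x ⟨hxU, hx⟩
  refine ⟨⟨x, hxU⟩, ?_, rfl⟩
  rw [Function.mem_support] at hx
  have hcod : genericPoint X ⤳ x ∧ δ x + 1 = δ (genericPoint X) := by
    by_contra hcon
    apply hx
    unfold Cyc.divFun
    rw [dif_neg hcon]
  by_contra hnot
  apply hx
  have hnot' : g ⟨x, hxU⟩ ∉ M := hnot
  refine divFun_eq_zero_of_units δ hδ hU x hxU a b ?_ ?_
  · intro ha
    exact hnot' (Or.inl (mem_minimalPrimes_span δ hδ hU x hxU hcod.2 a ha0 ha))
  · intro hb'
    exact hnot' (Or.inr (mem_minimalPrimes_span δ hδ hU x hxU hcod.2 b hb0 hb'))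

end div

end Groth.Agent.Helper3.PushRat
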