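import Mathlib
import Groth.Prelude.Def_QFDual

set_option autoImplicit false
set_option linter.style.haveILetI false
set_option linter.unusedSectionVars false
set_option linter.unusedVariables false
set_option linter.deprecated false
set_option linter.style.haveILetI false
set_option linter.unusedSectionVars false
set_option linter.unusedVariables false

universe u

namespace Groth.Agent.Helper3.QFBC

open TensorProduct Module

section Square

variable {A H A₁ A₂ B' C₀ B'₁ C₀₂ : Type u} [CommRing A] [CommRing H] [CommRing A₁] [CommRing A₂]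
  [CommRing B'] [CommRing C₀] [CommRing B'₁] [CommRing C₀₂]
  [Algebra A H] [Algebra A A₁] [Algebra H A₂] [Algebra A₁ A₂] [Algebra A A₂]
  [IsScalarTower A H A₂] [IsScalarTower A A₁ A₂]
  [Algebra A B']
  [Algebra H C₀] [Algebra B' C₀] [Algebra A C₀] [IsScalarTower A H C₀] [IsScalarTower A B' C₀]
  [Algebra A₁ B'₁] [Algebra B' B'₁] [Algebra A B'₁] [IsScalarTower A A₁ B'₁]
  [IsScalarTower A B' B'₁]
  [Algebra A₂ C₀₂] [Algebra C₀ C₀₂] [Algebra H C₀₂] [IsScalarTower H A₂ C₀₂]
  [IsScalarTower H C₀ C₀₂]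
  [Algebra B'₁ C₀₂] [Algebra A₁ C₀₂] [IsScalarTower A₁ A₂ C₀₂] [IsScalarTower A₁ B'₁ C₀₂]
  [Algebra B' C₀₂] [IsScalarTower B' B'₁ C₀₂] [IsScalarTower B' C₀ C₀₂]
  (h₁ : Algebra.IsPushout A A₁ B' B'₁) (h₂ : Algebra.IsPushout A₁ A₂ B'₁ C₀₂)
  (h₃ : Algebra.IsPushout A H B' C₀) (h₄ : Algebra.IsPushout H A₂ C₀ C₀₂)

include h₁ h₂ h₃ h₄ in
/-- transitivity of `bcFin` around a commutative square of base rings -/
theorem bcFin_square (φ : Disc.Omega A B') :
    QFDual.bcFin h₂ (QFDual.bcFin h₁ φ) = QFDual.bcFin h₄ (QFDual.bcFin h₃ φ) := by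
  apply Disc.Omega.ext
  apply LinearMap.ext
  intro x
  refine h₄.out.inductionOn x
    (motive := fun x => (QFDual.bcFin h₂ (QFDual.bcFin h₁ φ)).toLinearMap x =
      (QFDual.bcFin h₄ (QFDual.bcFin h₃ φ)).toLinearMap x) ?_ ?_ ?_ ?_
  · rw [map_zero, map_zero]
  · intro c
    show (QFDual.bcFin h₂ (QFDual.bcFin h₁ φ)).toLinearMap (algebraMap C₀ C₀₂ c) =
      (QFDual.bcFin h₄ (QFDual.bcFin h₃ φ)).toLinearMap (algebraMap C₀ C₀₂ c)
    refine h₃.out.inductionOn c
      (motive := fun c => (QFDual.bcFin h₂ (QFDual.bcFin h₁ φ)).toLinearMap (algebraMap C₀ C₀₂ c) =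
        (QFDual.bcFin h₄ (QFDual.bcFin h₃ φ)).toLinearMap (algebraMap C₀ C₀₂ c)) ?_ ?_ ?_ ?_
    · rw [map_zero, map_zero, map_zero]
    · intro b'
      show (QFDual.bcFin h₂ (QFDual.bcFin h₁ φ)).toLinearMap
          (algebraMap C₀ C₀₂ (algebraMap B' C₀ b')) =
        (QFDual.bcFin h₄ (QFDual.bcFin h₃ φ)).toLinearMap (algebraMap C₀ C₀₂ (algebraMap B' C₀ b'))
      rw [QFDual.bcFin_apply_algebraMap, QFDual.bcFin_apply_algebraMap,
        ← IsScalarTower.algebraMap_apply B' C₀ C₀₂, IsScalarTower.algebraMap_apply B' B'₁ C₀₂,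
        QFDual.bcFin_apply_algebraMap, QFDual.bcFin_apply_algebraMap,
        ← IsScalarTower.algebraMap_apply A A₁ A₂, ← IsScalarTower.algebraMap_apply A H A₂]
    · intro s c hc
      have e1 : algebraMap C₀ C₀₂ (s • c) = algebraMap H A₂ s • algebraMap C₀ C₀₂ c := by
        rw [Algebra.smul_def, map_mul, ← IsScalarTower.algebraMap_apply H C₀ C₀₂,
          IsScalarTower.algebraMap_apply H A₂ C₀₂, ← Algebra.smul_def]
      rw [e1, map_smul, map_smul, hc]
    · intro c c' hc hc'
      rw [map_add, map_add, map_add, hc, hc']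
  · intro s n hn
    rw [map_smul, map_smul, hn]
  · intro n n' hn hn'
    rw [map_add, map_add, hn, hn']

variable {Y : Type u} [CommRing Y] [Algebra B' Y] [Algebra B'₁ Y] [Algebra C₀ Y] [Algebra C₀₂ Y]
  [IsScalarTower B' B'₁ Y] [IsScalarTower B'₁ C₀₂ Y] [IsScalarTower B' C₀ Y]
  [IsScalarTower C₀ C₀₂ Y]

include h₁ h₂ h₃ h₄ in
theorem omegaBC_square (z : Y ⊗[B'] Disc.Omega A B') :
    QFDual.omegaBC (B₁ := Y) h₂ (QFDual.omegaBC (B₁ := Y) h₁ z) =
      QFDual.omegaBC (B₁ := Y) h₄ (QFDual.omegaBC (B₁ := Y) h₃ z) := by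
  induction z using TensorProduct.induction_on with
  | zero => rw [map_zero, map_zero, map_zero, map_zero]
  | tmul y φ =>
    rw [QFDual.omegaBC_tmul, QFDual.omegaBC_tmul, QFDual.omegaBC_tmul, QFDual.omegaBC_tmul,
      bcFin_square h₁ h₂ h₃ h₄]
  | add z z' hz hz' => rw [map_add, map_add, hz, hz', map_add, map_add]

include h₁ h₂ h₃ h₄ in
/-- **Theorem T**: if three sides of the square of base change maps are bijective so is the
fourth -/
theorem omegaBC_bijective_of_square
    (hb₂ : Function.Bijective (QFDual.omegaBC (B₁ := Y) h₂))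
    (hb₃ : Function.Bijective (QFDual.omegaBC (B₁ := Y) h₃))
    (hb₄ : Function.Bijective (QFDual.omegaBC (B₁ := Y) h₄)) :
    Function.Bijective (QFDual.omegaBC (B₁ := Y) h₁) := by
  have hcomp : (QFDual.omegaBC (B₁ := Y) h₂) ∘ (QFDual.omegaBC (B₁ := Y) h₁) =
      (QFDual.omegaBC (B₁ := Y) h₄) ∘ (QFDual.omegaBC (B₁ := Y) h₃) := by
    funext z
    exact omegaBC_square h₁ h₂ h₃ h₄ z
  have h5 : Function.Bijective ((QFDual.omegaBC (B₁ := Y) h₂) ∘ (QFDual.omegaBC (B₁ := Y) h₁)) := by
    rw [hcomp]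
    exact hb₄.comp hb₃
  exact (Function.Bijective.of_comp_iff' hb₂ _).1 h5

end Square

section Compat

variable {A A₁ B' B'₁ : Type u} [CommRing A] [CommRing A₁] [CommRing B'] [CommRing B'₁]
  [Algebra A A₁] [Algebra A B'] [Algebra A₁ B'₁] [Algebra B' B'₁] [Algebra A B'₁]
  [IsScalarTower A A₁ B'₁] [IsScalarTower A B' B'₁]
  (h : Algebra.IsPushout A A₁ B' B'₁)
  (B₁ Y : Type u) [CommRing B₁] [CommRing Y] [Algebra B'₁ B₁] [Algebra B' B₁]
  [IsScalarTower B' B'₁ B₁] [Algebra B₁ Y] [Algebra B'₁ Y] [Algebra B' Y]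
  [IsScalarTower B' B'₁ Y] [IsScalarTower B' B₁ Y] [IsScalarTower B'₁ B₁ Y]

/-- the base change map for a `B₁`-algebra `Y` is the base change of the one for `B₁` -/
theorem omegaBC_lTensor_compat (z : Y ⊗[B₁] (B₁ ⊗[B'] Disc.Omega A B')) :
    TensorProduct.AlgebraTensorModule.cancelBaseChange B'₁ B₁ Y Y (Disc.Omega A₁ B'₁)
      ((QFDual.omegaBC (B₁ := B₁) h).lTensor Y z) =
    QFDual.omegaBC (B₁ := Y) h
      (TensorProduct.AlgebraTensorModule.cancelBaseChange B' B₁ Y Y (Disc.Omega A B') z) := by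
  induction z using TensorProduct.induction_on with
  | zero => rw [map_zero, map_zero, map_zero, map_zero]
  | tmul y w =>
    induction w using TensorProduct.induction_on with
    | zero => rw [tmul_zero, map_zero, map_zero, map_zero, map_zero]
    | tmul b φ =>
      rw [LinearMap.lTensor_tmul, QFDual.omegaBC_tmul,
        TensorProduct.AlgebraTensorModule.cancelBaseChange_tmul,
        TensorProduct.AlgebraTensorModule.cancelBaseChange_tmul, QFDual.omegaBC_tmul]
    | add w w' hw hw' =>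
      rw [tmul_add, map_add, map_add, hw, hw', map_add, map_add]
  | add z z' hz hz' => rw [map_add, map_add, hz, hz', map_add, map_add]

include h in
theorem lTensor_bijective_of_omegaBC_bijective
    (hb : Function.Bijective (QFDual.omegaBC (B₁ := Y) h)) :
    Function.Bijective ((QFDual.omegaBC (B₁ := B₁) h).lTensor Y) := by
  set e1 := TensorProduct.AlgebraTensorModule.cancelBaseChange B'₁ B₁ Y Y (Disc.Omega A₁ B'₁)
  set e2 := TensorProduct.AlgebraTensorModule.cancelBaseChange B' B₁ Y Y (Disc.Omega A B')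
  have hcomp : (e1 : _ → _) ∘ ((QFDual.omegaBC (B₁ := B₁) h).lTensor Y) =
      (QFDual.omegaBC (B₁ := Y) h) ∘ (e2 : _ → _) := by
    funext z
    exact omegaBC_lTensor_compat h B₁ Y z
  have h5 : Function.Bijective ((e1 : _ → _) ∘ ((QFDual.omegaBC (B₁ := B₁) h).lTensor Y)) := by
    rw [hcomp]
    exact hb.comp e2.bijective
  exact (Function.Bijective.of_comp_iff' e1.bijective _).1 h5

end Compat

section LocalCriterion

variable {R : Type u} [CommRing R]

/-- **(Z')** a nonzero element stays nonzero after a flat base change which does not kill a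
maximal ideal containing its annihilator -/
theorem one_tmul_ne_zero {M : Type u} [AddCommGroup M] [Module R M] (x : M) (P : Ideal R)
    (hP : LinearMap.ker (LinearMap.toSpanSingleton R M x) ≤ P)
    (Y : Type u) [CommRing Y] [Algebra R Y] [Module.Flat R Y]
    (hY : P.map (algebraMap R Y) ≠ ⊤) : (1 : Y) ⊗ₜ[R] x ≠ 0 := by
  set I : Ideal R := LinearMap.ker (LinearMap.toSpanSingleton R M x) with hI
  let g : (R ⧸ I) →ₗ[R] M := Submodule.liftQ I (LinearMap.toSpanSingleton R M x) (le_refl _)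
  have hg : Function.Injective g := by
    rw [← LinearMap.ker_eq_bot]
    exact Submodule.ker_liftQ_eq_bot _ _ _ (le_refl _)
  have hgY : Function.Injective (g.lTensor Y) :=
    Module.Flat.lTensor_preserves_injective_linearMap g hg
  have h1 : g.lTensor Y ((1 : Y) ⊗ₜ[R] (Ideal.Quotient.mk I 1)) = (1 : Y) ⊗ₜ[R] x := by
    rw [LinearMap.lTensor_tmul]
    congr 1
    show g (Submodule.Quotient.mk 1) = x
    rw [Submodule.liftQ_apply, LinearMap.toSpanSingleton_apply, one_smul]
  intro h0
  rw [← h1, ← map_zero (g.lTensor Y)] at h0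
  have h2 := hgY h0
  have h3 := congrArg (TensorProduct.tensorQuotEquivQuotSMul Y I) h2
  rw [TensorProduct.tensorQuotEquivQuotSMul_tmul_mk, map_zero, one_smul,
    Submodule.Quotient.mk_eq_zero] at h3
  apply hY
  rw [Ideal.eq_top_iff_one]
  have h4 : (1 : Y) ∈ (I.map (algebraMap R Y)) := by
    have := h3
    rw [Ideal.smul_top_eq_map] at this
    exact this
  exact Ideal.map_mono hP h4

/-- **(K)** a linear map is bijective if it becomes so after enough flat base changes -/
theorem bijective_of_flat_family {M N : Type u} [AddCommGroup M] [AddCommGroup N] [Module R M]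
    [Module R N] (f : M →ₗ[R] N)
    (hfam : ∀ (P : Ideal R) [P.IsMaximal], ∃ (Y : Type u) (_ : CommRing Y) (_ : Algebra R Y),
      Module.Flat R Y ∧ P.map (algebraMap R Y) ≠ ⊤ ∧ Function.Bijective (f.lTensor Y)) :
    Function.Bijective f := by
  constructor
  · rw [← LinearMap.ker_eq_bot, Submodule.eq_bot_iff]
    intro x hx
    by_contra hne
    have hI : LinearMap.ker (LinearMap.toSpanSingleton R M x) ≠ ⊤ := by
      intro htop
      have : (1 : R) ∈ LinearMap.ker (LinearMap.toSpanSingleton R M x) := by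
        rw [htop]; exact Submodule.mem_top
      rw [LinearMap.mem_ker, LinearMap.toSpanSingleton_apply, one_smul] at this
      exact hne this
    obtain ⟨P, hPmax, hP⟩ := Ideal.exists_le_maximal _ hI
    obtain ⟨Y, _, _, hflat, hY, hbij⟩ := hfam P
    have h1 := one_tmul_ne_zero x P hP Y hY
    apply h1
    apply hbij.1
    rw [LinearMap.lTensor_tmul, map_zero, LinearMap.mem_ker.1 hx, tmul_zero]
  · rw [← LinearMap.range_eq_top]
    by_contra hne
    obtain ⟨n, -, hn⟩ := SetLike.exists_of_lt (lt_top_iff_ne_top.2 hne)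
    set Q := N ⧸ LinearMap.range f
    let π : N →ₗ[R] Q := (LinearMap.range f).mkQ
    have hπf : π.comp f = 0 := by
      apply LinearMap.ext
      intro m
      show Submodule.Quotient.mk (f m) = 0
      rw [Submodule.Quotient.mk_eq_zero]
      exact LinearMap.mem_range_self f m
    set x : Q := π n with hx
    have hxne : x ≠ 0 := by
      intro h0
      apply hn
      exact (Submodule.Quotient.mk_eq_zero _).1 h0
    have hI : LinearMap.ker (LinearMap.toSpanSingleton R Q x) ≠ ⊤ := by
      intro htop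
      have : (1 : R) ∈ LinearMap.ker (LinearMap.toSpanSingleton R Q x) := by
        rw [htop]; exact Submodule.mem_top
      rw [LinearMap.mem_ker, LinearMap.toSpanSingleton_apply, one_smul] at this
      exact hxne this
    obtain ⟨P, hPmax, hP⟩ := Ideal.exists_le_maximal _ hI
    obtain ⟨Y, _, _, hflat, hY, hbij⟩ := hfam P
    have h1 := one_tmul_ne_zero x P hP Y hY
    apply h1
    obtain ⟨z, hz⟩ := hbij.2 ((1 : Y) ⊗ₜ[R] n)
    have h2 : (π.lTensor Y) ((f.lTensor Y) z) = 0 := by
      rw [← LinearMap.comp_apply, ← LinearMap.lTensor_comp, hπf, LinearMap.lTensor_zero,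
        LinearMap.zero_apply]
    rw [hz, LinearMap.lTensor_tmul] at h2
    exact h2

end LocalCriterion

end Groth.Agent.Helper3.QFBC
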