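import Mathlib
import Groth.Prelude.Def_QFDual
import Groth.Agent.Helper3.QFCore1
import Groth.Agent.Helper3.OmegaBC1

set_option autoImplicit false
set_option linter.style.haveILetI false
set_option linter.unusedSectionVars false
set_option linter.unusedVariables false
set_option linter.deprecated false
set_option linter.style.haveILetI false
set_option linter.unusedSectionVars false
set_option linter.unusedVariables false

universe u

namespace Groth.Agent.Helper3.QFBC

open TensorProduct Module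

attribute [local instance] Algebra.TensorProduct.rightAlgebra

section Ker

variable {R R₁ C : Type u} [CommRing R] [CommRing R₁] [CommRing C] [Algebra R R₁] [Algebra R C]
  (hsurj : Function.Surjective (algebraMap R C)) (e : R) (he : IsIdempotentElem e)
  (hker : RingHom.ker (algebraMap R C) = Ideal.span {e})

include hsurj in
theorem includeLeft_surjective' : Function.Surjective (algebraMap R₁ (R₁ ⊗[R] C)) := by
  intro z
  induction z using TensorProduct.induction_on with
  | zero => exact ⟨0, map_zero _⟩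
  | tmul x c =>
    obtain ⟨r, rfl⟩ := hsurj c
    refine ⟨r • x, ?_⟩
    show (r • x) ⊗ₜ[R] (1 : C) = x ⊗ₜ[R] algebraMap R C r
    rw [smul_tmul, Algebra.smul_def, mul_one]
  | add z z' hz hz' =>
    obtain ⟨a, rfl⟩ := hz
    obtain ⟨b, rfl⟩ := hz'
    exact ⟨a + b, map_add _ _ _⟩

include hsurj he hker in
theorem ker_includeLeft :
    RingHom.ker (algebraMap R₁ (R₁ ⊗[R] C)) = Ideal.span {algebraMap R R₁ e} := by
  apply le_antisymm
  · intro x hx
    rw [RingHom.mem_ker] at hx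
    -- the retraction `x ⊗ c ↦ x * (1 - e) * s(c)`
    let ρ₀ : C →ₗ[R] R₁ :=
      { toFun := fun c => algebraMap R R₁ ((1 - e) * Function.surjInv hsurj c)
        map_add' := fun c c' => by
          rw [← map_add, ← mul_add]
          congr 1
          apply Groth.Agent.Helper3.QFCore.one_sub_mul_eq e he hker
          rw [map_add, Function.surjInv_eq hsurj, Function.surjInv_eq hsurj,
            Function.surjInv_eq hsurj]
        map_smul' := fun r c => by
          rw [RingHom.id_apply]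
          conv_rhs => rw [Algebra.smul_def, ← map_mul, mul_left_comm]
          congr 1
          apply Groth.Agent.Helper3.QFCore.one_sub_mul_eq e he hker
          rw [map_mul, Function.surjInv_eq hsurj, Function.surjInv_eq hsurj, Algebra.smul_def] }
    let ρ : R₁ ⊗[R] C →ₗ[R] R₁ := TensorProduct.lift ((LinearMap.mul R R₁).compr₂ (LinearMap.id)
      |>.compl₂ ρ₀)
    have hρ : ∀ (y : R₁) (c : C), ρ (y ⊗ₜ[R] c) = y * ρ₀ c := fun y c => rfl
    have h1 : ρ (algebraMap R₁ (R₁ ⊗[R] C) x) = x * algebraMap R R₁ (1 - e) := by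
      show ρ (x ⊗ₜ[R] (1 : C)) = _
      rw [hρ]
      congr 1
      show algebraMap R R₁ ((1 - e) * Function.surjInv hsurj 1) = _
      congr 1
      have := Groth.Agent.Helper3.QFCore.one_sub_mul_eq e he hker
        (Function.surjInv hsurj (1 : C)) 1 (by rw [Function.surjInv_eq hsurj, map_one])
      rw [this, mul_one]
    rw [hx, map_zero] at h1
    rw [Ideal.mem_span_singleton']
    refine ⟨x, ?_⟩
    rw [map_sub, map_one, mul_sub, mul_one, eq_comm, sub_eq_zero] at h1
    exact h1.symm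
  · rw [Ideal.span_singleton_le_iff_mem, RingHom.mem_ker]
    show (algebraMap R R₁ e) ⊗ₜ[R] (1 : C) = 0
    have he0 : algebraMap R C e = 0 := by
      have : e ∈ RingHom.ker (algebraMap R C) := by
        rw [hker]; exact Ideal.mem_span_singleton_self e
      exact (RingHom.mem_ker).1 this
    rw [Algebra.algebraMap_eq_smul_one, smul_tmul, Algebra.smul_def, mul_one, he0, tmul_zero]

end Ker

section IdemBC

variable {H A₂ R R₁ C Y : Type u} [CommRing H] [CommRing A₂] [CommRing R] [CommRing R₁]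
  [CommRing C] [CommRing Y]
  [Algebra H A₂] [Algebra H R] [Algebra A₂ R₁] [Algebra R R₁] [Algebra H R₁]
  [IsScalarTower H A₂ R₁] [IsScalarTower H R R₁]
  [Algebra H C] [Algebra R C] [IsScalarTower H R C]

theorem towerHC : IsScalarTower H C (R₁ ⊗[R] C) := by
  apply IsScalarTower.of_algebraMap_eq
  intro h
  show (algebraMap H R₁ h) ⊗ₜ[R] (1 : C) = (1 : R₁) ⊗ₜ[R] (algebraMap H C h)
  rw [IsScalarTower.algebraMap_apply H R R₁, IsScalarTower.algebraMap_apply H R C,
    Algebra.algebraMap_eq_smul_one (algebraMap H R h), smul_tmul, ← Algebra.algebraMap_eq_smul_one]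

theorem isPushout_C (h₄ : Algebra.IsPushout H A₂ R R₁) :
    haveI := towerHC (H := H) (R := R) (R₁ := R₁) (C := C)
    Algebra.IsPushout H A₂ C (R₁ ⊗[R] C) := by
  haveI := towerHC (H := H) (R := R) (R₁ := R₁) (C := C)
  haveI : Algebra.IsPushout H R A₂ R₁ := h₄.symm
  have h1 : Algebra.IsPushout R C R₁ (R₁ ⊗[R] C) := inferInstance
  have h2 := (Algebra.IsPushout.comp_iff H R A₂ R₁ (T := C) (T' := R₁ ⊗[R] C)).2 h1
  exact h2.symm

variable (h₄ : Algebra.IsPushout H A₂ R R₁)
  (hsurj : Function.Surjective (algebraMap R C)) (e : R) (he : IsIdempotentElem e)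
  (hker : RingHom.ker (algebraMap R C) = Ideal.span {e})
  [Module.Finite H C] [Module.Free H C]
  [Algebra R₁ Y] [Algebra R Y] [Algebra C Y] [IsScalarTower R R₁ Y] [IsScalarTower R C Y]

include hsurj he hker in
/-- **Lemma X'**: partial base change for an idempotent factor which is finite free -/
theorem omegaBC_bijective_of_idem : Function.Bijective (QFDual.omegaBC (B₁ := Y) h₄) := by
  let C₁ := R₁ ⊗[R] C
  haveI := towerHC (H := H) (R := R) (R₁ := R₁) (C := C)
  have hC : Algebra.IsPushout H A₂ C C₁ := isPushout_C h₄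
  have hsurj₁ : Function.Surjective (algebraMap R₁ C₁) := includeLeft_surjective' hsurj
  set e₁ : R₁ := algebraMap R R₁ e with he₁
  have hide₁ : IsIdempotentElem e₁ := by
    show e₁ * e₁ = e₁
    rw [he₁, ← map_mul, he.eq]
  have hker₁ : RingHom.ker (algebraMap R₁ C₁) = Ideal.span {e₁} := ker_includeLeft hsurj e he hker
  -- `Y` as a `C₁`-algebra
  let ψ : C₁ →ₐ[R] Y := Algebra.TensorProduct.lift (IsScalarTower.toAlgHom R R₁ Y)
    (IsScalarTower.toAlgHom R C Y) (fun _ _ => Commute.all _ _)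
  letI : Algebra C₁ Y := ψ.toRingHom.toAlgebra
  haveI : IsScalarTower R₁ C₁ Y := IsScalarTower.of_algebraMap_eq (fun x => by
    show algebraMap R₁ Y x = ψ (x ⊗ₜ[R] (1 : C))
    rw [Algebra.TensorProduct.lift_tmul, map_one, mul_one]
    rfl)
  haveI : IsScalarTower C C₁ Y := IsScalarTower.of_algebraMap_eq (fun c => by
    show algebraMap C Y c = ψ ((1 : R₁) ⊗ₜ[R] c)
    rw [Algebra.TensorProduct.lift_tmul, map_one, one_mul]
    rfl)
  -- the finite free case
  have hbC : Function.Bijective (QFDual.omegaBC (B₁ := Y) hC) :=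
    Groth.Agent.Helper3.OmegaBC.omegaBC_bijective_of_isBaseChange hC (IsBaseChange.dual hC.out) Y
  -- the chain of equivalences
  let E1 : Y ⊗[C] (C ⊗[R] Disc.Omega H R) ≃ₗ[Y] Y ⊗[R] Disc.Omega H R :=
    TensorProduct.AlgebraTensorModule.cancelBaseChange R C Y Y (Disc.Omega H R)
  let E2 : Y ⊗[C] (C ⊗[R] Disc.Omega H R) ≃ₗ[Y] Y ⊗[C] Disc.Omega H C :=
    TensorProduct.AlgebraTensorModule.congr (LinearEquiv.refl Y Y)
      (Groth.Agent.Helper3.QFCore.omegaIdemEquiv hsurj e he hker)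
  let E3 : Y ⊗[C] Disc.Omega H C ≃ₗ[Y] Y ⊗[C₁] Disc.Omega A₂ C₁ :=
    LinearEquiv.ofBijective (QFDual.omegaBC (B₁ := Y) hC) hbC
  let E4 : Y ⊗[C₁] (C₁ ⊗[R₁] Disc.Omega A₂ R₁) ≃ₗ[Y] Y ⊗[C₁] Disc.Omega A₂ C₁ :=
    TensorProduct.AlgebraTensorModule.congr (LinearEquiv.refl Y Y)
      (Groth.Agent.Helper3.QFCore.omegaIdemEquiv hsurj₁ e₁ hide₁ hker₁)
  let E5 : Y ⊗[C₁] (C₁ ⊗[R₁] Disc.Omega A₂ R₁) ≃ₗ[Y] Y ⊗[R₁] Disc.Omega A₂ R₁ :=
    TensorProduct.AlgebraTensorModule.cancelBaseChange R₁ C₁ Y Y (Disc.Omega A₂ R₁)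
  let E : Y ⊗[R] Disc.Omega H R ≃ₗ[Y] Y ⊗[R₁] Disc.Omega A₂ R₁ :=
    E1.symm ≪≫ₗ E2 ≪≫ₗ E3 ≪≫ₗ E4.symm ≪≫ₗ E5
  have he1Y : algebraMap R₁ Y e₁ = 0 := by
    rw [he₁, ← IsScalarTower.algebraMap_apply R R₁ Y, IsScalarTower.algebraMap_apply R C Y]
    have : e ∈ RingHom.ker (algebraMap R C) := by
      rw [hker]; exact Ideal.mem_span_singleton_self e
    rw [(RingHom.mem_ker).1 this, map_zero]
  have hcomp : (QFDual.omegaBC (B₁ := Y) h₄) = E.toLinearMap := by
    apply TensorProduct.AlgebraTensorModule.ext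
    intro y φ
    rw [QFDual.omegaBC_tmul]
    show _ = E5 (E4.symm (E3 (E2 (E1.symm (y ⊗ₜ[R] φ)))))
    have s1 : E1.symm (y ⊗ₜ[R] φ) = y ⊗ₜ[C] ((1 : C) ⊗ₜ[R] φ) := by
      rw [LinearEquiv.symm_apply_eq]
      simp [E1]
    rw [s1]
    have s2 : E2 (y ⊗ₜ[C] ((1 : C) ⊗ₜ[R] φ)) =
        y ⊗ₜ[C] (Groth.Agent.Helper3.QFCore.desc hsurj e he hker φ) := by
      show y ⊗ₜ[C] (Groth.Agent.Helper3.QFCore.omegaIdemEquiv hsurj e he hker
        ((1 : C) ⊗ₜ[R] φ)) = _
      congr 1
      show Groth.Agent.Helper3.QFCore.fwdI hsurj e he hker ((1 : C) ⊗ₜ[R] φ) = _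
      rw [Groth.Agent.Helper3.QFCore.fwdI_tmul, one_smul]
    rw [s2]
    have s3 : E3 (y ⊗ₜ[C] (Groth.Agent.Helper3.QFCore.desc hsurj e he hker φ)) =
        y ⊗ₜ[C₁] QFDual.bcFin hC (Groth.Agent.Helper3.QFCore.desc hsurj e he hker φ) := by
      show QFDual.omegaBC (B₁ := Y) hC _ = _
      rw [QFDual.omegaBC_tmul]
    rw [s3]
    have s4 : E4.symm (y ⊗ₜ[C₁] QFDual.bcFin hC
        (Groth.Agent.Helper3.QFCore.desc hsurj e he hker φ)) =
        y ⊗ₜ[C₁] ((1 : C₁) ⊗ₜ[R₁] Groth.Agent.Helper3.QFCore.pull (C₀ := R₁)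
          (QFDual.bcFin hC (Groth.Agent.Helper3.QFCore.desc hsurj e he hker φ))) := by
      rw [LinearEquiv.symm_apply_eq]
      show _ = y ⊗ₜ[C₁] (Groth.Agent.Helper3.QFCore.omegaIdemEquiv hsurj₁ e₁ hide₁ hker₁
        ((1 : C₁) ⊗ₜ[R₁] _))
      congr 1
      show _ = Groth.Agent.Helper3.QFCore.fwdI hsurj₁ e₁ hide₁ hker₁ ((1 : C₁) ⊗ₜ[R₁] _)
      rw [Groth.Agent.Helper3.QFCore.fwdI_tmul, one_smul,
        Groth.Agent.Helper3.QFCore.desc_pull]
    rw [s4]
    have s5 : E5 (y ⊗ₜ[C₁] ((1 : C₁) ⊗ₜ[R₁] Groth.Agent.Helper3.QFCore.pull (C₀ := R₁)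
          (QFDual.bcFin hC (Groth.Agent.Helper3.QFCore.desc hsurj e he hker φ)))) =
        y ⊗ₜ[R₁] Groth.Agent.Helper3.QFCore.pull (C₀ := R₁)
          (QFDual.bcFin hC (Groth.Agent.Helper3.QFCore.desc hsurj e he hker φ)) := by
      simp [E5]
    rw [s5]
    -- the key identity of functionals
    have hkey : Groth.Agent.Helper3.QFCore.pull (C₀ := R₁)
        (QFDual.bcFin hC (Groth.Agent.Helper3.QFCore.desc hsurj e he hker φ)) =
        (1 - e₁) • QFDual.bcFin h₄ φ := by
      apply Disc.Omega.ext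
      apply LinearMap.ext
      intro x
      refine h₄.out.inductionOn x
        (motive := fun x => (Groth.Agent.Helper3.QFCore.pull (C₀ := R₁)
          (QFDual.bcFin hC (Groth.Agent.Helper3.QFCore.desc hsurj e he hker φ))).toLinearMap x =
          ((1 - e₁) • QFDual.bcFin h₄ φ).toLinearMap x) ?_ ?_ ?_ ?_
      · rw [map_zero, map_zero]
      · intro r
        show (Groth.Agent.Helper3.QFCore.pull (C₀ := R₁)
          (QFDual.bcFin hC (Groth.Agent.Helper3.QFCore.desc hsurj e he hker φ))).toLinearMap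
            (algebraMap R R₁ r) = ((1 - e₁) • QFDual.bcFin h₄ φ).toLinearMap (algebraMap R R₁ r)
        rw [Groth.Agent.Helper3.QFCore.pull_apply, Disc.Omega.smul_toLinearMap_apply,
          ← IsScalarTower.algebraMap_apply R R₁ C₁, IsScalarTower.algebraMap_apply R C C₁,
          QFDual.bcFin_apply_algebraMap, Groth.Agent.Helper3.QFCore.desc_apply]
        have : (1 - e₁) * algebraMap R R₁ r = algebraMap R R₁ ((1 - e) * r) := by
          rw [he₁, map_mul, map_sub, map_one]
        rw [this, QFDual.bcFin_apply_algebraMap]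
      · intro s n hn
        rw [map_smul, map_smul, hn]
      · intro n n' hn hn'
        rw [map_add, map_add, hn, hn']
    rw [hkey, ← smul_tmul, Algebra.smul_def, map_sub, map_one, he1Y, sub_zero, one_mul]
  rw [hcomp]
  exact E.bijective

end IdemBC

end Groth.Agent.Helper3.QFBC
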