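import Mathlib
import Groth.Prelude.Def_QFDual
import Groth.Agent.Helper3.QFCore2
import Groth.Agent.Helper3.QFBC1
import Groth.Agent.Helper3.QFBC2

set_option autoImplicit false
set_option linter.style.haveILetI false
set_option linter.unusedSectionVars false
set_option linter.unusedVariables false
set_option linter.deprecated false
set_option linter.style.haveILetI false
set_option linter.unusedSectionVars false
set_option linter.unusedVariables false

universe u

namespace Groth.Agent.Helper3.QFBC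

open TensorProduct Module IsLocalRing

attribute [local instance] Algebra.TensorProduct.rightAlgebra

section Cube

variable (A H X X' : Type u) [CommRing A] [CommRing H] [CommRing X] [CommRing X']
  [Algebra A H] [Algebra A X] [Algebra A X'] [Algebra X X'] [IsScalarTower A X X']
  [Algebra (H ⊗[A] X) (H ⊗[A] X')] [Algebra X (H ⊗[A] X')]
  [IsScalarTower X X' (H ⊗[A] X')] [IsScalarTower X (H ⊗[A] X) (H ⊗[A] X')]
  [IsScalarTower A (H ⊗[A] X) (H ⊗[A] X')] [IsScalarTower H (H ⊗[A] X) (H ⊗[A] X')]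

/-- **(L1)** tensoring an algebra map `X → X'` with `H` gives a pushout square -/
theorem isPushout_lTensor : Algebra.IsPushout X X' (H ⊗[A] X) (H ⊗[A] X') := by
  haveI : Algebra.IsPushout A X H (H ⊗[A] X) := inferInstance
  have h1 : Algebra.IsPushout A X' H (H ⊗[A] X') := inferInstance
  exact (Algebra.IsPushout.comp_iff A X H (H ⊗[A] X) (T := X') (T' := H ⊗[A] X')).1 h1

end Cube

section Cube2

variable (A H A₁ B' B'₁ : Type u) [CommRing A] [CommRing H] [CommRing A₁] [CommRing B']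
  [CommRing B'₁] [Algebra A H] [Algebra A A₁] [Algebra A B'] [Algebra A₁ B'₁] [Algebra B' B'₁]
  [Algebra A B'₁] [IsScalarTower A A₁ B'₁] [IsScalarTower A B' B'₁]
  (h₁ : Algebra.IsPushout A A₁ B' B'₁)
  [Algebra (H ⊗[A] B') (H ⊗[A] B'₁)] [Algebra B' (H ⊗[A] B'₁)]
  [Algebra (H ⊗[A] A₁) (H ⊗[A] B'₁)] [Algebra A₁ (H ⊗[A] B'₁)]
  [IsScalarTower A (H ⊗[A] B') (H ⊗[A] B'₁)] [IsScalarTower B' (H ⊗[A] B') (H ⊗[A] B'₁)]
  [IsScalarTower B' B'₁ (H ⊗[A] B'₁)] [IsScalarTower A A₁ (H ⊗[A] B'₁)]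
  [IsScalarTower A₁ B'₁ (H ⊗[A] B'₁)] [IsScalarTower H (H ⊗[A] B') (H ⊗[A] B'₁)]
  [IsScalarTower H (H ⊗[A] A₁) (H ⊗[A] B'₁)] [IsScalarTower A (H ⊗[A] A₁) (H ⊗[A] B'₁)]
  [IsScalarTower A₁ (H ⊗[A] A₁) (H ⊗[A] B'₁)]

include h₁ in
/-- **(L2)** the base change of a pushout square along `A → H` is a pushout square -/
theorem isPushout_cube : Algebra.IsPushout H (H ⊗[A] A₁) (H ⊗[A] B') (H ⊗[A] B'₁) := by
  have P1 : Algebra.IsPushout B' B'₁ (H ⊗[A] B') (H ⊗[A] B'₁) := isPushout_lTensor A H B' B'₁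
  haveI : Algebra.IsPushout A B' A₁ B'₁ := h₁.symm
  have P2 : Algebra.IsPushout A (H ⊗[A] B') A₁ (H ⊗[A] B'₁) :=
    (Algebra.IsPushout.comp_iff A B' A₁ B'₁ (T := H ⊗[A] B') (T' := H ⊗[A] B'₁)).2 P1.symm
  haveI : Algebra.IsPushout A H A₁ (H ⊗[A] A₁) := inferInstance
  have P3 : Algebra.IsPushout H (H ⊗[A] B') (H ⊗[A] A₁) (H ⊗[A] B'₁) :=
    (Algebra.IsPushout.comp_iff A H A₁ (H ⊗[A] A₁) (T := H ⊗[A] B') (T' := H ⊗[A] B'₁)).1 P2
  exact P3.symm

/-- the other face -/
theorem isPushout_cube' : Algebra.IsPushout A₁ (H ⊗[A] A₁) B'₁ (H ⊗[A] B'₁) :=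
  (isPushout_lTensor A H A₁ B'₁).symm

end Cube2

section W

variable (A H B' : Type u) [CommRing A] [CommRing H] [HenselianLocalRing H] [IsNoetherianRing H]
  [Algebra A H] [CommRing B'] [Algebra A B'] [Module.Finite A B'] [IsNoetherianRing A]
  [Module.Flat A H]
  (Q' : Ideal (H ⊗[A] B')) [Q'.IsPrime] [Q'.LiesOver (maximalIdeal H)]
  (hT : Module.Flat A (Localization.AtPrime (Q'.comap (algebraMap B' (H ⊗[A] B')))))
  (A₁ B'₁ : Type u) [CommRing A₁] [CommRing B'₁] [Algebra A A₁] [Algebra A₁ B'₁] [Algebra B' B'₁]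
  [Algebra A B'₁] [IsScalarTower A A₁ B'₁] [IsScalarTower A B' B'₁]
  (h₁ : Algebra.IsPushout A A₁ B' B'₁)
  (Y : Type u) [CommRing Y] [Algebra B'₁ Y] [Algebra B' Y] [Algebra (Localization.AtPrime Q') Y]
  [IsScalarTower B' B'₁ Y] [IsScalarTower B' (Localization.AtPrime Q') Y]

include hT in
/-- **Theorem W**: base change of `ω` is bijective after passing to a `B'₁`-algebra `Y` lying over
the henselian local factor `C = (H ⊗ B')_{Q'}` -/
theorem omegaBC_bijective_hens : Function.Bijective (QFDual.omegaBC (B₁ := Y) h₁) := by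
  -- the custom algebra structures on `H ⊗ B'₁`
  let fA₂ : H ⊗[A] A₁ →ₐ[H] H ⊗[A] B'₁ :=
    Algebra.TensorProduct.map (AlgHom.id H H) (IsScalarTower.toAlgHom A A₁ B'₁)
  letI algA₂ : Algebra (H ⊗[A] A₁) (H ⊗[A] B'₁) := fA₂.toRingHom.toAlgebra
  let fC₀ : H ⊗[A] B' →ₐ[H] H ⊗[A] B'₁ :=
    Algebra.TensorProduct.map (AlgHom.id H H) (IsScalarTower.toAlgHom A B' B'₁)
  letI algC₀ : Algebra (H ⊗[A] B') (H ⊗[A] B'₁) := fC₀.toRingHom.toAlgebra
  letI algA₁ : Algebra A₁ (H ⊗[A] B'₁) :=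
    ((algebraMap B'₁ (H ⊗[A] B'₁)).comp (algebraMap A₁ B'₁)).toAlgebra
  letI algB' : Algebra B' (H ⊗[A] B'₁) :=
    ((algebraMap B'₁ (H ⊗[A] B'₁)).comp (algebraMap B' B'₁)).toAlgebra
  haveI t5 : IsScalarTower A₁ B'₁ (H ⊗[A] B'₁) := IsScalarTower.of_algebraMap_eq (fun _ => rfl)
  haveI t3 : IsScalarTower B' B'₁ (H ⊗[A] B'₁) := IsScalarTower.of_algebraMap_eq (fun _ => rfl)
  haveI t6 : IsScalarTower H (H ⊗[A] B') (H ⊗[A] B'₁) :=
    IsScalarTower.of_algebraMap_eq (fun h => (fC₀.commutes h).symm)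
  haveI t7 : IsScalarTower H (H ⊗[A] A₁) (H ⊗[A] B'₁) :=
    IsScalarTower.of_algebraMap_eq (fun h => (fA₂.commutes h).symm)
  haveI t1 : IsScalarTower A (H ⊗[A] B') (H ⊗[A] B'₁) := IsScalarTower.of_algebraMap_eq (fun a => by
    rw [IsScalarTower.algebraMap_apply A H (H ⊗[A] B'₁),
      IsScalarTower.algebraMap_apply H (H ⊗[A] B') (H ⊗[A] B'₁),
      ← IsScalarTower.algebraMap_apply A H (H ⊗[A] B')])
  haveI t8 : IsScalarTower A (H ⊗[A] A₁) (H ⊗[A] B'₁) := IsScalarTower.of_algebraMap_eq (fun a => by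
    rw [IsScalarTower.algebraMap_apply A H (H ⊗[A] B'₁),
      IsScalarTower.algebraMap_apply H (H ⊗[A] A₁) (H ⊗[A] B'₁),
      ← IsScalarTower.algebraMap_apply A H (H ⊗[A] A₁)])
  haveI t4 : IsScalarTower A A₁ (H ⊗[A] B'₁) := IsScalarTower.of_algebraMap_eq (fun a => by
    show algebraMap A (H ⊗[A] B'₁) a = algebraMap B'₁ (H ⊗[A] B'₁) (algebraMap A₁ B'₁ (algebraMap A A₁ a))
    rw [← IsScalarTower.algebraMap_apply A A₁ B'₁, ← IsScalarTower.algebraMap_apply A B'₁ (H ⊗[A] B'₁)])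
  haveI t2 : IsScalarTower B' (H ⊗[A] B') (H ⊗[A] B'₁) := IsScalarTower.of_algebraMap_eq (fun b => by
    show (1 : H) ⊗ₜ[A] (algebraMap B' B'₁ b) = fC₀ ((1 : H) ⊗ₜ[A] b)
    rw [Algebra.TensorProduct.map_tmul]
    rfl)
  haveI t9 : IsScalarTower A₁ (H ⊗[A] A₁) (H ⊗[A] B'₁) := IsScalarTower.of_algebraMap_eq (fun a => by
    show (1 : H) ⊗ₜ[A] (algebraMap A₁ B'₁ a) = fA₂ ((1 : H) ⊗ₜ[A] a)
    rw [Algebra.TensorProduct.map_tmul]
    rfl)
  -- the pushout squares
  have h₃ : Algebra.IsPushout A H B' (H ⊗[A] B') := inferInstance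
  have h₂ : Algebra.IsPushout A₁ (H ⊗[A] A₁) B'₁ (H ⊗[A] B'₁) := isPushout_cube' A H A₁ B'₁
  have h₄ : Algebra.IsPushout H (H ⊗[A] A₁) (H ⊗[A] B') (H ⊗[A] B'₁) :=
    isPushout_cube A H A₁ B' B'₁ h₁
  -- flatness and finite presentation
  haveI : Module.FinitePresentation A B' := Module.finitePresentation_of_finite A B'
  haveI : Module.FinitePresentation A₁ B'₁ :=
    FinitePresentation.of_isBaseChange _ h₁.out
  haveI : Module.Flat A₁ (H ⊗[A] A₁) := by
    have hp : Algebra.IsPushout A A₁ H (H ⊗[A] A₁) := inferInstance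
    exact Module.Flat.isBaseChange A A₁ H (H ⊗[A] A₁) hp.out
  -- the henselian local factor
  obtain ⟨hsurj, hfin⟩ := Groth.Agent.Helper3.QFCore.ac1 A H B' Q'
  haveI := hfin
  haveI hflat : Module.Flat H (Localization.AtPrime Q') :=
    Groth.Agent.Helper3.QFCore.ac2 A H B' Q' hT
  haveI : Module.Free H (Localization.AtPrime Q') := Module.free_of_flat_of_isLocalRing
  haveI : IsNoetherianRing (H ⊗[A] B') := IsNoetherianRing.of_finite H _
  obtain ⟨e, he, hker⟩ := Groth.Agent.Helper3.QFCore.exists_idem_of_surjective_localization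
    (R := H ⊗[A] B') (C := Localization.AtPrime Q') Q'.primeCompl hsurj
  -- `Y` as an algebra over everything
  letI algAY : Algebra A Y := ((algebraMap B' Y).comp (algebraMap A B')).toAlgebra
  haveI : IsScalarTower A B' Y := IsScalarTower.of_algebraMap_eq (fun _ => rfl)
  let gH : H →ₐ[A] Y :=
    { toRingHom := (algebraMap (Localization.AtPrime Q') Y).comp (algebraMap H (Localization.AtPrime Q'))
      commutes' := fun a => by
        show algebraMap (Localization.AtPrime Q') Y (algebraMap H (Localization.AtPrime Q')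
          (algebraMap A H a)) = algebraMap B' Y (algebraMap A B' a)
        rw [← IsScalarTower.algebraMap_apply A H (Localization.AtPrime Q'),
          IsScalarTower.algebraMap_apply A B' (Localization.AtPrime Q'),
          ← IsScalarTower.algebraMap_apply B' (Localization.AtPrime Q') Y] }
  let gB : B'₁ →ₐ[A] Y :=
    { toRingHom := algebraMap B'₁ Y
      commutes' := fun a => by
        show algebraMap B'₁ Y (algebraMap A B'₁ a) = algebraMap B' Y (algebraMap A B' a)
        rw [IsScalarTower.algebraMap_apply A B' B'₁, ← IsScalarTower.algebraMap_apply B' B'₁ Y] }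
  let ψ₂ : H ⊗[A] B'₁ →ₐ[A] Y := Algebra.TensorProduct.lift gH gB (fun _ _ => Commute.all _ _)
  letI algC₀₂Y : Algebra (H ⊗[A] B'₁) Y := ψ₂.toRingHom.toAlgebra
  letI algC₀Y : Algebra (H ⊗[A] B') Y :=
    ((algebraMap (Localization.AtPrime Q') Y).comp
      (algebraMap (H ⊗[A] B') (Localization.AtPrime Q'))).toAlgebra
  haveI : IsScalarTower (H ⊗[A] B') (Localization.AtPrime Q') Y :=
    IsScalarTower.of_algebraMap_eq (fun _ => rfl)
  haveI : IsScalarTower B'₁ (H ⊗[A] B'₁) Y := IsScalarTower.of_algebraMap_eq (fun b => by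
    show algebraMap B'₁ Y b = ψ₂ ((1 : H) ⊗ₜ[A] b)
    rw [Algebra.TensorProduct.lift_tmul, map_one, one_mul]
    rfl)
  haveI : IsScalarTower B' (H ⊗[A] B') Y := IsScalarTower.of_algebraMap_eq (fun b => by
    show algebraMap B' Y b = algebraMap (Localization.AtPrime Q') Y
      (algebraMap (H ⊗[A] B') (Localization.AtPrime Q') (algebraMap B' (H ⊗[A] B') b))
    rw [← IsScalarTower.algebraMap_apply B' (H ⊗[A] B') (Localization.AtPrime Q'),
      ← IsScalarTower.algebraMap_apply B' (Localization.AtPrime Q') Y])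
  haveI : IsScalarTower (H ⊗[A] B') (H ⊗[A] B'₁) Y := by
    apply IsScalarTower.of_algebraMap_eq'
    -- two `A`-algebra maps out of `H ⊗ B'`
    let φ1 : H ⊗[A] B' →ₐ[A] Y :=
      { toRingHom := algebraMap (H ⊗[A] B') Y
        commutes' := fun a => by
          show algebraMap (Localization.AtPrime Q') Y
            (algebraMap (H ⊗[A] B') (Localization.AtPrime Q') (algebraMap A (H ⊗[A] B') a)) =
            algebraMap B' Y (algebraMap A B' a)
          rw [← IsScalarTower.algebraMap_apply A (H ⊗[A] B') (Localization.AtPrime Q'),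
            IsScalarTower.algebraMap_apply A B' (Localization.AtPrime Q'),
            ← IsScalarTower.algebraMap_apply B' (Localization.AtPrime Q') Y] }
    let φ2 : H ⊗[A] B' →ₐ[A] Y := ψ₂.comp (fC₀.restrictScalars A)
    have h12 : φ1 = φ2 := by
      apply Algebra.TensorProduct.ext
      · apply AlgHom.ext
        intro h
        show algebraMap (Localization.AtPrime Q') Y
            (algebraMap (H ⊗[A] B') (Localization.AtPrime Q') (h ⊗ₜ[A] (1 : B'))) =
          ψ₂ (fC₀ (h ⊗ₜ[A] (1 : B')))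
        rw [Algebra.TensorProduct.map_tmul, map_one, Algebra.TensorProduct.lift_tmul, map_one,
          mul_one]
        show _ = algebraMap (Localization.AtPrime Q') Y (algebraMap H (Localization.AtPrime Q') h)
        rw [IsScalarTower.algebraMap_apply H (H ⊗[A] B') (Localization.AtPrime Q')]
        rfl
      · apply AlgHom.ext
        intro b
        show algebraMap (Localization.AtPrime Q') Y
            (algebraMap (H ⊗[A] B') (Localization.AtPrime Q') ((1 : H) ⊗ₜ[A] b)) =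
          ψ₂ (fC₀ ((1 : H) ⊗ₜ[A] b))
        rw [Algebra.TensorProduct.map_tmul, map_one, Algebra.TensorProduct.lift_tmul, map_one,
          one_mul]
        show _ = algebraMap B'₁ Y (algebraMap B' B'₁ b)
        rw [← IsScalarTower.algebraMap_apply B' B'₁ Y,
          IsScalarTower.algebraMap_apply B' (Localization.AtPrime Q') Y,
          IsScalarTower.algebraMap_apply B' (H ⊗[A] B') (Localization.AtPrime Q')]
        rfl
    exact congrArg (fun φ : H ⊗[A] B' →ₐ[A] Y => (φ : H ⊗[A] B' →+* Y)) h12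
  -- the three bijective sides
  have hb₂ : Function.Bijective (QFDual.omegaBC (B₁ := Y) h₂) :=
    Groth.Agent.Helper3.OmegaBC.omegaBC_bijective_of_isBaseChange h₂
      (Groth.Agent.Helper3.OmegaBC.isBaseChange_toDual_of_flat h₂.out) Y
  have hb₃ : Function.Bijective (QFDual.omegaBC (B₁ := Y) h₃) :=
    Groth.Agent.Helper3.OmegaBC.omegaBC_bijective_of_isBaseChange h₃
      (Groth.Agent.Helper3.OmegaBC.isBaseChange_toDual_of_flat h₃.out) Y
  have hb₄ : Function.Bijective (QFDual.omegaBC (B₁ := Y) h₄) :=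
    omegaBC_bijective_of_idem h₄ hsurj e he hker
  exact omegaBC_bijective_of_square h₁ h₂ h₃ h₄ hb₂ hb₃ hb₄

end W

end Groth.Agent.Helper3.QFBC
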