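import Mathlib
import Groth.Prelude.Def_QFDual
import Groth.Agent.Helper1.HensNoeth
import Groth.Agent.Helper3.QFCore4
import Groth.Agent.Helper3.QFBC3

set_option autoImplicit false
set_option linter.style.haveILetI false
set_option linter.unusedSectionVars false
set_option linter.unusedVariables false
set_option linter.deprecated false
set_option linter.style.haveILetI false
set_option linter.unusedSectionVars false
set_option linter.unusedVariables false

universe u

namespace Groth.Agent.Helper3.QFBC

open TensorProduct Module IsLocalRing AlgebraicGeometry CategoryTheory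

attribute [local instance] Algebra.TensorProduct.rightAlgebra

/-- the local ring of the finite algebra at a point of the open part is flat over the base -/
theorem flat_atPrime_of_isOpenImmersion (A B B' : Type u) [CommRing A] [CommRing B] [CommRing B']
    [Algebra A B] [Module.Flat A B] [Algebra A B'] [Algebra B' B] [IsScalarTower A B' B]
    (hopen : IsOpenImmersion (Spec.map (CommRingCat.ofHom (algebraMap B' B))))
    (P : Ideal B) [P.IsPrime] :
    Module.Flat A (Localization.AtPrime (P.comap (algebraMap B' B))) := by
  let BP := Localization.AtPrime P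
  set P' : Ideal B' := P.comap (algebraMap B' B) with hP'
  haveI : P'.IsPrime := Ideal.comap_isPrime _ _
  let T := Localization.AtPrime P'
  have hbij := Groth.Agent.Helper3.QFCore.localRingHom_bijective_of_isOpenImmersion hopen P
  let ρ : T ≃+* BP := RingEquiv.ofBijective _ hbij
  have hρ : ∀ b' : B', ρ (algebraMap B' T b') = algebraMap B' BP b' := fun b' => by
    show Localization.localRingHom P' P (algebraMap B' B) rfl (algebraMap B' T b') = _
    rw [Localization.localRingHom_to_map]
    exact (IsScalarTower.algebraMap_apply B' B BP b').symm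
  let ρl : T ≃ₗ[B'] BP :=
    { ρ.toAddEquiv with
      map_smul' := fun b' t => by
        show ρ (b' • t) = b' • ρ t
        rw [Algebra.smul_def, map_mul, hρ, ← Algebra.smul_def] }
  haveI : Module.Flat A BP := inferInstance
  exact Module.Flat.of_linearEquiv (ρl.restrictScalars A)

theorem flat_of_ideal_eq {A B' : Type u} [CommRing A] [CommRing B'] [Algebra A B']
    (I J : Ideal B') [I.IsPrime] [J.IsPrime] (h : I = J)
    (hI : Module.Flat A (Localization.AtPrime I)) : Module.Flat A (Localization.AtPrime J) := by
  subst h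
  exact hI

section Main

variable (A B' B A₁ B'₁ B₁ : Type u) [CommRing A] [CommRing B'] [CommRing B] [CommRing A₁]
  [CommRing B'₁] [CommRing B₁] [IsNoetherianRing A]
  [Algebra A B'] [Algebra B' B] [Algebra A B] [IsScalarTower A B' B] [Module.Flat A B]
  [Module.Finite A B']
  (hopen : IsOpenImmersion (Spec.map (CommRingCat.ofHom (algebraMap B' B))))
  [Algebra A A₁] [Algebra B' B'₁] [Algebra A₁ B'₁] [Algebra A B'₁] [IsScalarTower A A₁ B'₁]
  [IsScalarTower A B' B'₁] (h : Algebra.IsPushout A A₁ B' B'₁) [Algebra B B₁]
  [Algebra B'₁ B₁] [Algebra B' B₁] [IsScalarTower B' B'₁ B₁] [IsScalarTower B' B B₁]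

include hopen in
/-- **S8959** (no Noetherian hypothesis on `B`, `A₁` is needed) -/
theorem s8959 : Function.Bijective (QFDual.omegaBC (B₁ := B₁) h) := by
  apply bijective_of_flat_family
  intro P₁ hP₁
  haveI : P₁.IsPrime := hP₁.isPrime
  set P : Ideal B := P₁.comap (algebraMap B B₁) with hP
  haveI : P.IsPrime := Ideal.comap_isPrime _ _
  set P' : Ideal B' := P.comap (algebraMap B' B) with hP'
  haveI : P'.IsPrime := Ideal.comap_isPrime _ _
  have hP'₁ : P₁.comap (algebraMap B' B₁) = P' := by
    rw [hP', hP, Ideal.comap_comap, ← IsScalarTower.algebraMap_eq]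
  have hT : Module.Flat A (Localization.AtPrime P') :=
    flat_atPrime_of_isOpenImmersion A B B' hopen P
  -- the complete local base
  let p : Ideal A := P'.comap (algebraMap A B')
  haveI : p.IsPrime := Ideal.comap_isPrime _ _
  let Ap := Localization.AtPrime p
  let H := AdicCompletion (maximalIdeal Ap) Ap
  haveI : IsScalarTower A Ap H := inferInstance
  haveI : Module.Flat Ap H := AdicCompletion.flat_of_isNoetherian _
  haveI : Module.Flat A Ap := IsLocalization.flat Ap p.primeCompl
  haveI : Module.Flat A H := Module.Flat.trans A Ap H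
  have hcomap : (maximalIdeal H).comap (algebraMap A H) = P'.comap (algebraMap A B') := by
    have h1 : (maximalIdeal H).comap (algebraMap A H) =
        ((maximalIdeal H).comap (algebraMap Ap H)).comap (algebraMap A Ap) := by
      rw [Ideal.comap_comap]
      rfl
    rw [h1, IsLocalRing.maximalIdeal_comap]
    exact Localization.AtPrime.comap_maximalIdeal ..
  obtain ⟨Q', hQ'prime, hQH, hQB⟩ :=
    Groth.Agent.Helper3.QFCore.exists_prime_tensor A H B' (maximalIdeal H) P' hcomap
  haveI := hQ'prime
  haveI : Q'.LiesOver (maximalIdeal H) := ⟨hQH.symm⟩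
  haveI : (Q'.comap (algebraMap B' (H ⊗[A] B'))).IsPrime := Ideal.comap_isPrime _ _
  have hT' : Module.Flat A (Localization.AtPrime (Q'.comap (algebraMap B' (H ⊗[A] B')))) :=
    flat_of_ideal_eq P' _ hQB.symm hT
  -- the test algebra
  let C := Localization.AtPrime Q'
  haveI : Module.Flat B' (H ⊗[A] B') := by
    have hp : Algebra.IsPushout A B' H (H ⊗[A] B') := inferInstance
    exact Module.Flat.isBaseChange A B' H (H ⊗[A] B') hp.out
  haveI : Module.Flat B' C := Module.Flat.trans B' (H ⊗[A] B') C
  refine ⟨B₁ ⊗[B'] C, inferInstance, inferInstance, inferInstance, ?_, ?_⟩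
  · -- a prime over `P₁`
    have hmC : (maximalIdeal C).comap (algebraMap B' C) = P' := by
      have hm : (maximalIdeal C).comap (algebraMap (H ⊗[A] B') C) = Q' :=
        Localization.AtPrime.comap_maximalIdeal ..
      rw [IsScalarTower.algebraMap_eq B' (H ⊗[A] B') C, ← Ideal.comap_comap, hm, hQB]
    obtain ⟨𝔮, h𝔮, h𝔮1, -⟩ := Groth.Agent.Helper3.QFCore.exists_prime_tensor B' B₁ C P₁
      (maximalIdeal C) (hP'₁.trans hmC.symm)
    intro htop
    have hle : P₁.map (algebraMap B₁ (B₁ ⊗[B'] C)) ≤ 𝔮 := by
      rw [Ideal.map_le_iff_le_comap, h𝔮1]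
    rw [htop, top_le_iff] at hle
    exact h𝔮.ne_top hle
  · exact lTensor_bijective_of_omegaBC_bijective h B₁ (B₁ ⊗[B'] C)
      (omegaBC_bijective_hens A H B' Q' hT' A₁ B'₁ h (B₁ ⊗[B'] C))

end Main

end Groth.Agent.Helper3.QFBC
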