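import Mathlib
import Groth.Agent.Helper3.QFPieces
import Groth.Agent.Helper3.QFFinite

open TensorProduct

universe u

namespace Groth.Agent.Helper3.QFDecomp

/-- quasi-finiteness at a prime of a localization descends to the contraction -/
theorem quasiFiniteAt_comap_of_isLocalization {R T T' : Type*} [CommRing R] [CommRing T]
    [CommRing T'] [Algebra R T] [Algebra T T'] [Algebra R T'] [IsScalarTower R T T']
    (M : Submonoid T) [IsLocalization M T'] (𝔮 : Ideal T') [𝔮.IsPrime]
    [Algebra.QuasiFiniteAt R 𝔮] :
    Algebra.QuasiFiniteAt R (𝔮.comap (algebraMap T T')) := by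
  haveI : IsLocalization.AtPrime (Localization.AtPrime 𝔮) (𝔮.comap (algebraMap T T')) :=
    IsLocalization.isLocalization_isLocalization_atPrime_isLocalization M _ _
  let E : Localization.AtPrime (𝔮.comap (algebraMap T T')) ≃ₐ[T] Localization.AtPrime 𝔮 :=
    IsLocalization.algEquiv (𝔮.comap (algebraMap T T')).primeCompl _ _
  exact Algebra.QuasiFinite.of_surjective_algHom (E.symm.restrictScalars R).toAlgHom
    E.symm.surjective

/-- for an idempotent and a prime, exactly one of `x`, `1 - x` lies in the prime -/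
theorem one_sub_notMem_iff {T : Type*} [CommRing T] {x : T} (hx : IsIdempotentElem x)
    (t : Ideal T) [t.IsPrime] : (1 - x) ∉ t ↔ x ∈ t := by
  constructor
  · intro h
    have h0 : x * (1 - x) ∈ t := by
      rw [mul_sub, mul_one, hx.eq, sub_self]; exact t.zero_mem
    exact (Ideal.IsPrime.mem_or_mem inferInstance h0).resolve_right h
  · intro h h'
    have : (1 : T) ∈ t := by simpa using t.add_mem h h'
    exact Ideal.IsPrime.ne_top inferInstance ((Ideal.eq_top_iff_one _).mpr this)


section ortho

variable {T : Type*} [CommRing T] {n : ℕ} (e : Fin n → T)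

/-- orthogonalization of a family of idempotents -/
noncomputable def orth (i : Fin n) : T := e i * ∏ j ∈ Finset.univ.filter (· < i), (1 - e j)

variable {e}

theorem orth_idem (he : ∀ i, IsIdempotentElem (e i)) (i : Fin n) : IsIdempotentElem (orth e i) := by
  refine (he i).mul ?_
  exact Finset.prod_induction _ IsIdempotentElem (fun a b ha hb => ha.mul hb)
    IsIdempotentElem.one (fun j _ => (he j).one_sub)

theorem orth_mul_of_lt (he : ∀ i, IsIdempotentElem (e i)) {i j : Fin n} (h : j < i) :
    orth e i * e j = 0 := by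
  have hj : j ∈ Finset.univ.filter (· < i) := by simp [h]
  unfold orth
  rw [← Finset.mul_prod_erase _ _ hj]
  have : (1 - e j) * e j = 0 := by rw [sub_mul, one_mul, (he j).eq, sub_self]
  calc e i * ((1 - e j) * ∏ x ∈ (Finset.univ.filter (· < i)).erase j, (1 - e x)) * e j
      = e i * (∏ x ∈ (Finset.univ.filter (· < i)).erase j, (1 - e x)) * ((1 - e j) * e j) := by ring
    _ = 0 := by rw [this, mul_zero]

theorem orth_ortho (he : ∀ i, IsIdempotentElem (e i)) {i j : Fin n} (h : i ≠ j) :
    orth e i * orth e j = 0 := by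
  rcases lt_or_gt_of_ne h with hlt | hgt
  · have := orth_mul_of_lt he hlt
    rw [mul_comm]
    show orth e j * (e i * _) = 0
    rw [← mul_assoc, this, zero_mul]
  · have := orth_mul_of_lt he hgt
    show orth e i * (e j * _) = 0
    rw [← mul_assoc, this, zero_mul]

theorem one_sub_mem (he : ∀ i, IsIdempotentElem (e i)) (i : Fin n) :
    1 - e i ∈ Ideal.span {1 - orth e i} := by
  rw [Ideal.mem_span_singleton']
  refine ⟨1 - e i, ?_⟩
  have : (1 - e i) * orth e i = 0 := by
    unfold orth
    rw [← mul_assoc, sub_mul, one_mul, (he i).eq, sub_self, zero_mul]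
  rw [mul_sub, mul_one, this, sub_zero]

theorem orth_notMem_iff (he : ∀ i, IsIdempotentElem (e i)) (t : Ideal T) [t.IsPrime]
    (i : Fin n) : orth e i ∉ t ↔ e i ∉ t ∧ ∀ j < i, e j ∈ t := by
  unfold orth
  rw [Ideal.IsPrime.mul_mem_iff_mem_or_mem inferInstance, not_or, Ideal.IsPrime.prod_mem_iff]
  constructor
  · rintro ⟨h1, h2⟩
    refine ⟨h1, fun j hj => ?_⟩
    by_contra h3
    exact h2 ⟨j, by simp [hj], by
      by_contra h4
      exact h3 ((one_sub_notMem_iff (he j) t).mp h4)⟩
  · rintro ⟨h1, h2⟩
    refine ⟨h1, ?_⟩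
    rintro ⟨j, hj, h3⟩
    have hj' : j < i := by simpa using hj
    exact (one_sub_notMem_iff (he j) t).mpr (h2 j hj') h3

end ortho


theorem closure_range_residueField {R : Type*} [CommRing R] (p : Ideal R) [p.IsPrime] :
    Subfield.closure (Set.range (algebraMap R p.ResidueField)) = ⊤ := by
  have h1 := IsFractionRing.closure_range_algebraMap (R ⧸ p) p.ResidueField
  rw [← h1]
  congr 1
  ext x
  constructor
  · rintro ⟨r, rfl⟩
    exact ⟨Ideal.Quotient.mk p r, rfl⟩
  · rintro ⟨r, rfl⟩
    obtain ⟨r, rfl⟩ := Ideal.Quotient.mk_surjective r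
    exact ⟨r, rfl⟩

theorem closure_eq_top_of_bijective {R R' : Type*} [CommRing R] [CommRing R'] [Algebra R R']
    (p : Ideal R) [p.IsPrime] (P : Ideal R') [P.IsPrime] [P.LiesOver p]
    (hb : Function.Bijective (Ideal.ResidueField.mapₐ p P (Algebra.ofId _ _) (P.over_def p))) :
    Subfield.closure (Set.range (algebraMap R P.ResidueField)) = ⊤ := by
  set φ := (Ideal.ResidueField.mapₐ p P (Algebra.ofId _ _) (P.over_def p)) with hφ
  have h1 : (φ : p.ResidueField →+* P.ResidueField).fieldRange = ⊤ := by
    rw [RingHom.fieldRange_eq_top_iff]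
    exact hb.2
  rw [← h1, RingHom.fieldRange_eq_map, ← closure_range_residueField p, RingHom.map_field_closure]
  congr 1
  ext x
  constructor
  · rintro ⟨r, rfl⟩
    exact ⟨algebraMap R p.ResidueField r, ⟨r, rfl⟩, (φ.commutes r)⟩
  · rintro ⟨_, ⟨r, rfl⟩, rfl⟩
    exact ⟨r, (φ.commutes r).symm⟩


/-- the product decomposition attached to orthogonal idempotents -/
noncomputable def prodHom (R' : Type*) {T : Type*} [CommRing R'] [CommRing T] [Algebra R' T] {n : ℕ}
    (ε : Fin n → T) :
    T →ₐ[R'] ((∀ i, T ⧸ Ideal.span {1 - ε i}) × (T ⧸ Ideal.span {1 - (1 - ∑ i, ε i)})) :=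
  AlgHom.prod (AlgHom.pi (fun i => Ideal.Quotient.mkₐ R' (Ideal.span {1 - ε i})))
    (Ideal.Quotient.mkₐ R' _)

theorem prodHom_bijective (R' : Type*) {T : Type*} [CommRing R'] [CommRing T] [Algebra R' T] {n : ℕ}
    {ε : Fin n → T} (hε : OrthogonalIdempotents ε) : Function.Bijective (prodHom R' ε) := by
  have hb := (CompleteOrthogonalIdempotents.option hε).bijective_pi
  constructor
  · intro x y hxy
    apply hb.1
    funext o
    cases o with
    | none =>
      have := congrArg Prod.snd hxy
      exact this
    | some i =>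
      have := congrFun (congrArg Prod.fst hxy) i
      exact this
  · rintro ⟨a, b⟩
    obtain ⟨x, hx⟩ := hb.2 (fun o => match o with
      | none => b
      | some i => a i)
    refine ⟨x, ?_⟩
    refine Prod.ext ?_ ?_
    · funext i
      exact congrFun hx (some i)
    · exact congrFun hx none


set_option maxHeartbeats 1000000 in
theorem main (R : Type u) [CommRing R] (S : Type u) [CommRing S] [Algebra R S]
    [Algebra.FiniteType R S] (p : Ideal R) [p.IsPrime] :
    ∃ (R' : Type u) (_ : CommRing R') (_ : Algebra R R') (_ : Algebra.Etale R R') (p' : Ideal R')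
      (_ : p'.IsPrime) (_ : p'.LiesOver p) (n : ℕ) (A : Fin n → Type u) (_ : ∀ i, CommRing (A i))
      (_ : ∀ i, Algebra R' (A i)) (B : Type u) (_ : CommRing B) (_ : Algebra R' B),
      Subfield.closure (Set.range (algebraMap R p'.ResidueField)) = ⊤ ∧
      Nonempty ((R' ⊗[R] S) ≃ₐ[R'] ((∀ i, A i) × B)) ∧
        (∀ i, Module.Finite R' (A i) ∧
          ∃! r : Ideal (A i), r.IsPrime ∧ r.comap (algebraMap R' (A i)) = p') ∧
        ∀ (q : Ideal B) [q.IsPrime], q.comap (algebraMap R' B) = p' →
          ¬ Algebra.QuasiFiniteAt R' q := by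
  classical
  let pp : PrimeSpectrum R := ⟨p, inferInstance⟩
  obtain ⟨n, f, hfinj, hfr⟩ := (QFFinite.finite_qf (S := S) pp).fin_param
  have hf : ∀ i, (f i).comap (algebraMap R S) = pp ∧ Algebra.QuasiFiniteAt R (f i).asIdeal :=
    fun i => by
      have : f i ∈ Set.range f := Set.mem_range_self i
      rw [hfr] at this
      exact this
  haveI : ∀ i, ((f i).asIdeal).LiesOver p := fun i => ⟨congrArg PrimeSpectrum.asIdeal (hf i).1.symm⟩
  haveI : ∀ i, Algebra.QuasiFiniteAt R (f i).asIdeal := fun i => (hf i).2
  obtain ⟨R', _, _, _, P, _, _, hb, h⟩ :=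
    QFPieces.exists_pieces_family n R p (fun _ => S) (fun i => (f i).asIdeal)
  choose e he using h
  have hidem : ∀ i, IsIdempotentElem (e i) := fun i => (he i).1
  let T := R' ⊗[R] S
  let ε : Fin n → T := orth e
  have hε : OrthogonalIdempotents ε :=
    ⟨orth_idem hidem, fun i j hij => orth_ortho hidem hij⟩
  -- key property
  have key : ∀ (t : Ideal T), t.IsPrime → t.comap (algebraMap R' T) = P → ∀ i,
      (ε i ∉ t ↔ t.comap (Algebra.TensorProduct.includeRight : S →ₐ[R] T).toRingHom =
        (f i).asIdeal) := by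
    intro t ht htP i
    haveI := ht
    rw [orth_notMem_iff hidem t i, (he i).2.2 t ht htP]
    constructor
    · exact fun h => h.1
    · intro h
      refine ⟨h, fun j hj => ?_⟩
      by_contra hcon
      have := ((he j).2.2 t ht htP).mp hcon
      have h2 : f j = f i := PrimeSpectrum.ext (this.symm.trans h)
      exact (ne_of_lt hj) (hfinj h2)
  let A : Fin n → Type u := fun i => T ⧸ Ideal.span {1 - ε i}
  let s : T := ∑ i, ε i
  have hs : IsIdempotentElem s := hε.isIdempotentElem_sum
  let B : Type u := T ⧸ Ideal.span {1 - (1 - s)}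
  refine ⟨R', inferInstance, inferInstance, inferInstance, P, inferInstance, inferInstance, n, A,
    fun i => inferInstanceAs (CommRing (T ⧸ Ideal.span {1 - ε i})),
    fun i => inferInstanceAs (Algebra R' (T ⧸ Ideal.span {1 - ε i})), B,
    inferInstanceAs (CommRing (T ⧸ Ideal.span {1 - (1 - s)})),
    inferInstanceAs (Algebra R' (T ⧸ Ideal.span {1 - (1 - s)})),
    closure_eq_top_of_bijective p P hb,
    ⟨AlgEquiv.ofBijective (prodHom R' ε) (prodHom_bijective R' hε)⟩, ?_, ?_⟩
  · intro i
    constructor
    · haveI := (he i).2.1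
      have hle : Ideal.span {1 - e i} ≤ Ideal.span {1 - ε i} := Ideal.span_le.mpr
        (Set.singleton_subset_iff.mpr (one_sub_mem hidem i))
      exact Module.Finite.of_surjective (Ideal.Quotient.factorₐ R' hle).toLinearMap
        (Ideal.Quotient.factor_surjective hle)
    · let F := Ideal.fiberIsoOfBijectiveResidueField (S := S) hb
      let ti := (F.symm ⟨(f i).asIdeal, inferInstance, inferInstance⟩)
      haveI : ti.1.IsPrime := ti.2.1
      haveI : ti.1.LiesOver P := ti.2.2
      have hti : ti.1.comap (Algebra.TensorProduct.includeRight : S →ₐ[R] T).toRingHom =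
          (f i).asIdeal := Ideal.comap_fiberIsoOfBijectiveResidueField_symm hb _
      have htiP : ti.1.comap (algebraMap R' T) = P := (ti.1.over_def P).symm
      have hεti : ε i ∉ ti.1 := (key ti.1 inferInstance htiP i).mpr hti
      have hker : RingHom.ker (Ideal.Quotient.mk (Ideal.span {1 - ε i})) ≤ ti.1 := by
        rw [Ideal.mk_ker, Ideal.span_le, Set.singleton_subset_iff]
        by_contra h
        exact hεti ((one_sub_notMem_iff (hε.idem i) ti.1).mp h)
      refine ⟨ti.1.map (Ideal.Quotient.mk _),
        ⟨Ideal.map_isPrime_of_surjective Ideal.Quotient.mk_surjective hker, ?_⟩, ?_⟩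
      · have : algebraMap R' (A i) =
            (Ideal.Quotient.mk (Ideal.span {1 - ε i})).comp (algebraMap R' T) := rfl
        rw [this, ← Ideal.comap_comap, Ideal.comap_map_of_surjective _ Ideal.Quotient.mk_surjective,
          ← RingHom.ker_eq_comap_bot, sup_eq_left.mpr hker]
        exact htiP
      · rintro r' ⟨hr', hr'P⟩
        haveI := hr'
        set t' := r'.comap (Ideal.Quotient.mk (Ideal.span {1 - ε i})) with ht'
        have ht'P : t'.comap (algebraMap R' T) = P := by
          rw [ht', Ideal.comap_comap]; exact hr'P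
        have h1 : (1 - ε i) ∈ t' := by
          show Ideal.Quotient.mk _ (1 - ε i) ∈ r'
          rw [Ideal.Quotient.eq_zero_iff_mem.mpr (Ideal.mem_span_singleton_self _)]
          exact r'.zero_mem
        have h2 : ε i ∉ t' := fun h => (one_sub_notMem_iff (hε.idem i) t').mpr h h1
        have h3 := (key t' inferInstance ht'P i).mp h2
        haveI : t'.LiesOver P := ⟨ht'P.symm⟩
        have h4 : t' = ti.1 :=
          Ideal.eq_of_comap_eq_comap_of_bijective_residueFieldMap hb t' ti.1 (h3.trans hti.symm)
        rw [← h4, ht', Ideal.map_comap_of_surjective _ Ideal.Quotient.mk_surjective]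
  · intro 𝔮 h𝔮 h𝔮P hqf
    haveI : IsLocalization.Away (1 - s) B :=
      IsLocalization.Away.quotient_of_isIdempotentElem hs.one_sub
    haveI := quasiFiniteAt_comap_of_isLocalization (R := R') (Submonoid.powers (1 - s)) 𝔮
    set t := 𝔮.comap (algebraMap T B) with ht
    have htP : t.comap (algebraMap R' T) = P := by
      rw [ht, Ideal.comap_comap, ← IsScalarTower.algebraMap_eq]; exact h𝔮P
    haveI : t.LiesOver P := ⟨htP.symm⟩
    have hqf' := QFDescent.quasiFiniteAt_descent hb t
    set q' := t.comap (Algebra.TensorProduct.includeRight : S →ₐ[R] T).toRingHom with hq'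
    have hq'p : q'.comap (algebraMap R S) = p := by
      rw [hq', Ideal.comap_comap]
      have h5 : (Algebra.TensorProduct.includeRight : S →ₐ[R] T).toRingHom.comp (algebraMap R S) =
          (algebraMap R' T).comp (algebraMap R R') := by
        have := (Algebra.TensorProduct.includeRight : S →ₐ[R] T).comp_algebraMap
        exact this.trans (IsScalarTower.algebraMap_eq R R' T)
      rw [h5, ← Ideal.comap_comap, htP]
      exact (P.over_def p).symm
    have hmem : (⟨q', inferInstance⟩ : PrimeSpectrum S) ∈ Set.range f := by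
      rw [hfr]
      exact ⟨PrimeSpectrum.ext hq'p, hqf'⟩
    obtain ⟨i, hi⟩ := hmem
    have h1 : ε i ∉ t := (key t inferInstance htP i).mpr (congrArg PrimeSpectrum.asIdeal hi).symm
    have h2 : s ∈ t := by
      show algebraMap T B s ∈ 𝔮
      have : algebraMap T B s = 0 := by
        show Ideal.Quotient.mk (Ideal.span {1 - (1 - s)}) s = 0
        rw [Ideal.Quotient.eq_zero_iff_mem, Ideal.mem_span_singleton']
        exact ⟨1, by ring⟩
      rw [this]
      exact 𝔮.zero_mem
    have h3 : ε i * s = ε i := hε.mul_sum_of_mem (Finset.mem_univ i)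
    exact h1 (h3 ▸ t.mul_mem_left _ h2)

end Groth.Agent.Helper3.QFDecomp
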