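import Mathlib

open AlgebraicGeometry CategoryTheory CategoryTheory.Limits TopologicalSpace Opposite

universe u

namespace Groth.Agent.Helper3.QFUnion

theorem le_quasiFiniteLocus {X Y : Scheme.{u}} (h : X ⟶ Y) [LocallyOfFiniteType h] (V : X.Opens)
    [LocallyQuasiFinite (V.ι ≫ h)] : V ≤ h.quasiFiniteLocus := by
  have h1 : (V.ι ≫ h).quasiFiniteLocus = ⊤ := Scheme.Hom.quasiFiniteLocus_eq_top _
  rw [Scheme.Hom.quasiFiniteLocus_comp] at h1
  intro x hx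
  have : (⟨x, hx⟩ : V) ∈ V.ι ⁻¹ᵁ h.quasiFiniteLocus := by rw [h1]; trivial
  exact this

theorem locallyQuasiFinite_of_le {X Y : Scheme.{u}} (h : X ⟶ Y) [LocallyOfFiniteType h]
    (V : X.Opens) (hV : V ≤ h.quasiFiniteLocus) : LocallyQuasiFinite (V.ι ≫ h) := by
  rw [← Scheme.Hom.quasiFiniteLocus_eq_top_iff, Scheme.Hom.quasiFiniteLocus_comp]
  ext x
  simp only [Scheme.Hom.coe_preimage, Set.mem_preimage, SetLike.mem_coe, Opens.coe_top,
    Set.mem_univ, iff_true]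
  exact hV x.2

theorem isFinite_sup {X Y : Scheme.{u}} (h : X ⟶ Y) [IsSeparated h] [LocallyOfFiniteType h]
    (V₁ V₂ : X.Opens) (h₁ : IsFinite (V₁.ι ≫ h)) (h₂ : IsFinite (V₂.ι ≫ h)) :
    IsFinite ((V₁ ⊔ V₂).ι ≫ h) := by
  let c : (V₁ : Scheme) ⨿ (V₂ : Scheme) ⟶ ((V₁ ⊔ V₂ : X.Opens) : Scheme) :=
    coprod.desc (X.homOfLE le_sup_left) (X.homOfLE le_sup_right)
  have hc : c ≫ (V₁ ⊔ V₂).ι ≫ h = coprod.desc (V₁.ι ≫ h) (V₂.ι ≫ h) := by
    apply coprod.hom_ext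
    · simp [c]
    · simp [c]
  haveI : IsFinite (c ≫ (V₁ ⊔ V₂).ι ≫ h) := by rw [hc]; infer_instance
  haveI : Surjective c := by
    constructor
    rintro ⟨z, hz⟩
    rcases hz with hz | hz
    · refine ⟨(coprod.inl : (V₁ : Scheme) ⟶ (V₁ : Scheme) ⨿ (V₂ : Scheme)) ⟨z, hz⟩, ?_⟩
      have : (coprod.inl ≫ c) ⟨z, hz⟩ = (X.homOfLE le_sup_left) ⟨z, hz⟩ := by
        rw [coprod.inl_desc]
      exact this.trans (Subtype.ext (by simp))
    · refine ⟨(coprod.inr : (V₂ : Scheme) ⟶ (V₁ : Scheme) ⨿ (V₂ : Scheme)) ⟨z, hz⟩, ?_⟩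
      have : (coprod.inr ≫ c) ⟨z, hz⟩ = (X.homOfLE le_sup_right) ⟨z, hz⟩ := by
        rw [coprod.inr_desc]
      exact this.trans (Subtype.ext (by simp))
  haveI : UniversallyClosed ((V₁ ⊔ V₂).ι ≫ h) := UniversallyClosed.of_comp_surjective c _
  haveI : IsProper ((V₁ ⊔ V₂).ι ≫ h) := {}
  haveI : LocallyQuasiFinite ((V₁ ⊔ V₂).ι ≫ h) :=
    locallyQuasiFinite_of_le h _ (sup_le (le_quasiFiniteLocus h V₁) (le_quasiFiniteLocus h V₂))
  exact IsFinite.of_isProper_of_locallyQuasiFinite _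


theorem isFinite_iSup {X Y : Scheme.{u}} (h : X ⟶ Y) [IsSeparated h] [LocallyOfFiniteType h]
    {ι : Type*} [Finite ι] (V : ι → X.Opens) (hV : ∀ i, IsFinite ((V i).ι ≫ h)) :
    IsFinite ((⨆ i, V i).ι ≫ h) := by
  classical
  haveI := Fintype.ofFinite ι
  have key : ∀ s : Finset ι, IsFinite ((s.sup V).ι ≫ h) := by
    intro s
    induction s using Finset.induction_on with
    | empty =>
      rw [Finset.sup_empty]
      haveI : IsEmpty ↥((⊥ : X.Opens) : Scheme) := ⟨fun z => z.2⟩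
      infer_instance
    | insert a s _ ih =>
      rw [Finset.sup_insert]
      exact isFinite_sup h _ _ (hV a) ih
  have := key Finset.univ
  rwa [Finset.sup_univ_eq_iSup] at this

end Groth.Agent.Helper3.QFUnion
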