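import Mathlib
import Groth.Agent.Helper3.QFSch
import Groth.Agent.Helper3.QFUnion

open AlgebraicGeometry CategoryTheory CategoryTheory.Limits TopologicalSpace Opposite TensorProduct

universe u

namespace Groth.Agent.Helper3.QFFibre

theorem quasiFiniteAt_of_finite_fibre {X Y : Scheme.{u}} (f : X ⟶ Y) [LocallyOfFiniteType f]
    (x : X) (hfin : (f ⁻¹' {f x}).Finite) : f.QuasiFiniteAt x := by
  have : Finite (f.fiber (f x)) := (f.fiberHomeo (f x)).finite_iff.mpr hfin.to_subtype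
  exact Scheme.Hom.quasiFiniteAt_iff_isOpen_singleton_asFiber.mpr (isOpen_discrete _)

set_option maxHeartbeats 1000000 in
theorem main {X Y : Scheme.{u}} (f : X ⟶ Y) [LocallyOfFiniteType f] [IsSeparated f] (y : Y)
    (hfin : (f ⁻¹' {y}).Finite) :
    ∃ (Y' : Scheme.{u}) (g : Y' ⟶ Y) (y' : Y'), Etale g ∧ g y' = y ∧
      IsIso (g.residueFieldMap y') ∧
      ∃ (V W : (Limits.pullback f g).Opens), IsCompl V W ∧
        IsFinite (V.ι ≫ Limits.pullback.snd f g) ∧
        ∀ x : ↥(Limits.pullback f g), Limits.pullback.snd f g x = y' → x ∈ V := by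
  obtain ⟨n, x, hxinj, hxr⟩ := hfin.fin_param
  have hxy : ∀ i, f (x i) = y := fun i => by
    have : x i ∈ Set.range x := Set.mem_range_self i
    rw [hxr] at this
    exact this
  have hqf : ∀ i, f.QuasiFiniteAt (x i) := by
    intro i
    apply quasiFiniteAt_of_finite_fibre
    rw [hxy i]
    exact hfin
  obtain ⟨_, ⟨S₀, hS₀, rfl⟩, hyS₀, -⟩ := Y.isBasis_affineOpens.exists_subset_of_mem_open
    (Set.mem_univ y) isOpen_univ
  replace hS₀ : IsAffineOpen S₀ := hS₀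
  have hch : ∀ i, ∃ W : X.Opens, IsAffineOpen W ∧ x i ∈ W ∧ W ≤ f ⁻¹ᵁ S₀ := by
    intro i
    have hxi : x i ∈ f ⁻¹ᵁ S₀ := by
      show f (x i) ∈ S₀
      rw [hxy i]; exact hyS₀
    obtain ⟨_, ⟨W, hW, rfl⟩, hxW, hWS⟩ :=
      X.isBasis_affineOpens.exists_subset_of_mem_open hxi (f ⁻¹ᵁ S₀).2
    exact ⟨W, hW, hxW, hWS⟩
  choose W hW hxW hWS using hch
  letI : ∀ i, Algebra Γ(Y, S₀) Γ(X, W i) := fun i => (f.appLE S₀ (W i) (hWS i)).hom.toAlgebra
  haveI : ∀ i, Algebra.FiniteType Γ(Y, S₀) Γ(X, W i) := fun i =>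
    f.finiteType_appLE hS₀ (hW i) (hWS i)
  let p := (hS₀.primeIdealOf ⟨y, hyS₀⟩).asIdeal
  let q : ∀ i, Ideal Γ(X, W i) := fun i => ((hW i).primeIdealOf ⟨x i, hxW i⟩).asIdeal
  haveI : ∀ i, (q i).IsPrime := fun i => ((hW i).primeIdealOf ⟨x i, hxW i⟩).isPrime
  haveI : ∀ i, (q i).LiesOver p := fun i => by
    have h1 := QFSch.liesOver_primeIdealOf f hS₀ (hW i) (hWS i) (x i) (hxW i)
    have h2 : (⟨f (x i), hWS i (hxW i)⟩ : S₀) = ⟨y, hyS₀⟩ := Subtype.ext (hxy i)
    rw [h2] at h1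
    exact h1
  haveI : ∀ i, Algebra.QuasiFiniteAt Γ(Y, S₀) (q i) := fun i =>
    (hqf i).quasiFiniteAt (hW i) hS₀ (hWS i) (hxW i)
  obtain ⟨R', _, _, _, P, _, _, hb, he⟩ :=
    QFPieces.exists_pieces_family n Γ(Y, S₀) p (fun i => Γ(X, W i)) q
  haveI := hS₀.isOpenImmersion_fromSpec
  let ψ : Γ(Y, S₀) ⟶ CommRingCat.of R' := CommRingCat.ofHom (algebraMap Γ(Y, S₀) R')
  have hψ : ψ.hom.Etale := RingHom.etale_algebraMap.mpr inferInstance
  haveI : Etale (Spec.map ψ) := HasRingHomProperty.Spec_iff.mpr hψ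
  let g : Spec (CommRingCat.of R') ⟶ Y := Spec.map ψ ≫ hS₀.fromSpec
  haveI : Etale g := inferInstance
  let u : Spec (CommRingCat.of R') := ⟨P, inferInstance⟩
  have hu : g u = y := by
    have h1 : (Spec.map ψ) u = hS₀.primeIdealOf ⟨y, hyS₀⟩ := by
      apply PrimeSpectrum.ext
      exact (Ideal.over_def P p).symm
    change hS₀.fromSpec ((Spec.map ψ) u) = y
    rw [h1]
    exact hS₀.fromSpec_primeIdealOf ⟨y, hyS₀⟩
  have TRE := QFRes.tre_of_bijective p P hb
  have hch : ∀ i, ∃ V : (pullback f g).Opens, IsFinite (V.ι ≫ pullback.snd f g) ∧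
      ∀ w : ↑(pullback f g), pullback.snd f g w = u → (w ∈ V ↔ pullback.fst f g w = x i) :=
    fun i => QFSch.chart_piece f hS₀ (hW i) (hWS i) R' P (x i) (hxW i) (he i)
  choose V hVfin hV using hch
  let Vt : (pullback f g).Opens := ⨆ i, V i
  have hVtfin : IsFinite (Vt.ι ≫ pullback.snd f g) :=
    QFUnion.isFinite_iSup (pullback.snd f g) V hVfin
  haveI : IsFinite Vt.ι := IsFinite.of_comp Vt.ι (pullback.snd f g)
  have hVcl : IsClosed (Vt : Set ↑(pullback f g)) := by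
    have := Vt.ι.isClosedMap.isClosed_range
    rwa [Scheme.Opens.range_ι] at this
  let Wt : (pullback f g).Opens := ⟨(Vt : Set ↑(pullback f g))ᶜ, hVcl.isOpen_compl⟩
  have hres : IsIso (g.residueFieldMap u) := by
    rw [ConcreteCategory.isIso_iff_bijective]
    exact ⟨(g.residueFieldMap u).hom.injective, QFSch.residue_g hS₀ R' u TRE⟩
  refine ⟨Spec (CommRingCat.of R'), g, u, inferInstance, hu, hres, Vt, Wt, ?_, hVtfin, ?_⟩
  · simp [isCompl_iff, disjoint_iff, codisjoint_iff, Wt, SetLike.ext'_iff]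
  · intro w hw
    have h1 : f (pullback.fst f g w) = y := by
      have h2 : (pullback.fst f g ≫ f) w = (pullback.snd f g ≫ g) w := by
        rw [pullback.condition]
      have h3 : (pullback.snd f g ≫ g) w = g (pullback.snd f g w) := rfl
      have h4 : (pullback.fst f g ≫ f) w = f (pullback.fst f g w) := rfl
      rw [← h4, h2, h3, hw, hu]
    have h5 : pullback.fst f g w ∈ Set.range x := by rw [hxr]; exact h1
    obtain ⟨i, hi⟩ := h5
    have h6 : w ∈ V i := (hV i w hw).mpr hi.symm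
    exact (le_iSup V i) h6

end Groth.Agent.Helper3.QFFibre
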