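import Mathlib
import Groth.Agent.Helper3.QFFinal
import Groth.Agent.Helper3.EtLocalShrink

open AlgebraicGeometry CategoryTheory CategoryTheory.Limits TopologicalSpace Opposite TensorProduct

universe u

namespace Groth.Agent.Helper3.QFFinal

set_option maxHeartbeats 1600000 in
theorem main_sep {X S : Scheme.{u}} (f : X ⟶ S) [LocallyOfFiniteType f] [IsSeparated f] (s : S)
    {ι : Type} [Finite ι] (x : ι → ↑X) (hinj : Function.Injective x) (hs : ∀ i, f (x i) = s)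
    (hx : ∀ i, f.QuasiFiniteAt (x i)) :
    ∃ (U : Scheme.{u}) (g : U ⟶ S) (u : U), Etale g ∧ g u = s ∧
      ∃ (J : ι → Type) (_ : ∀ i, Finite (J i)) (V : ∀ i, J i → (pullback f g).Opens)
        (v : ∀ i, J i → ↑(pullback f g)),
        (∀ i j, IsClopen ((V i j : Set ↑(pullback f g)))) ∧
        (∀ i j i' j', ((V i j : Set ↑(pullback f g)) ∩ (V i' j')).Nonempty → i = i' ∧ HEq j j') ∧
        (∀ i j, v i j ∈ V i j ∧ IsFinite ((V i j).ι ≫ pullback.snd f g) ∧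
          pullback.snd f g (v i j) = u ∧
          (∀ w : ↑(pullback f g), w ∈ V i j → pullback.snd f g w = u → w = v i j) ∧
          (letI := ((pullback.snd f g).residueFieldMap (v i j)).hom.toAlgebra
           IsPurelyInseparable ↑(U.residueField (pullback.snd f g (v i j)))
             ↑((pullback f g).residueField (v i j))) ∧
          pullback.fst f g (v i j) = x i) ∧
        (∀ (w : ↑(pullback f g)) (i : ι), pullback.snd f g w = u → pullback.fst f g w = x i →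
          ∃ j, w ∈ V i j) := by
  obtain ⟨U, g, u, hu, hget, hsplit, H⟩ := stageB f s x hs hx
  choose m V v H1 H2 H3 using H
  -- each piece is closed
  have hVcl : ∀ i j, IsClosed ((V i j : (pullback f g).Opens) : Set ↑(pullback f g)) := by
    intro i j
    haveI := (H1 i j).2.1
    haveI : IsFinite (V i j).ι := IsFinite.of_comp (V i j).ι (pullback.snd f g)
    have := (V i j).ι.isClosedMap.isClosed_range
    rwa [Scheme.Opens.range_ι] at this
  let K := Σ i, Fin (m i)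
  -- the bad locus
  let Z : Set ↑U := ⋃ (kk : {kk : K × K // kk.1 ≠ kk.2}),
    pullback.snd f g '' ((V kk.1.1.1 kk.1.1.2 : Set ↑(pullback f g)) ∩
      (V kk.1.2.1 kk.1.2.2 : Set ↑(pullback f g)))
  have hZcl : IsClosed Z := by
    refine isClosed_iUnion_of_finite fun kk => ?_
    have hmap : IsClosedMap ((V kk.1.1.1 kk.1.1.2).ι ≫ pullback.snd f g) := by
      haveI := (H1 kk.1.1.1 kk.1.1.2).2.1
      exact ((V kk.1.1.1 kk.1.1.2).ι ≫ pullback.snd f g).isClosedMap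
    have himg : pullback.snd f g ''
        ((V kk.1.1.1 kk.1.1.2 : Set ↑(pullback f g)) ∩
          (V kk.1.2.1 kk.1.2.2 : Set ↑(pullback f g))) =
        ((V kk.1.1.1 kk.1.1.2).ι ≫ pullback.snd f g) ''
          ((V kk.1.1.1 kk.1.1.2).ι ⁻¹' (V kk.1.2.1 kk.1.2.2 : Set ↑(pullback f g))) := by
      ext z
      constructor
      · rintro ⟨w, ⟨hw1, hw2⟩, rfl⟩
        exact ⟨⟨w, hw1⟩, hw2, rfl⟩
      · rintro ⟨a, ha, rfl⟩
        exact ⟨(V kk.1.1.1 kk.1.1.2).ι a, ⟨a.2, ha⟩, rfl⟩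
    rw [himg]
    exact hmap _ ((hVcl _ _).preimage (V kk.1.1.1 kk.1.1.2).ι.continuous)
  have huZ : u ∉ Z := by
    intro hu'
    obtain ⟨⟨⟨⟨i, j⟩, ⟨i', j'⟩⟩, hne⟩, w, ⟨hw1, hw2⟩, hwu⟩ := Set.mem_iUnion.mp hu'
    apply hne
    have e1 : w = v i j := (H1 i j).2.2.2.2 w hw1 hwu
    have e2 : w = v i' j' := (H1 i' j').2.2.2.2 w hw2 hwu
    have h1 : x i = x i' := by
      rw [← (H1 i j).2.2.2.1, ← (H1 i' j').2.2.2.1, ← e1, ← e2]
    have h2 : i = i' := hinj h1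
    subst h2
    have h3 : j = j' := H2 i (e1.symm.trans e2)
    subst h3
    rfl
  let U₀ : U.Opens := ⟨Zᶜ, hZcl.isOpen_compl⟩
  have huU₀ : u ∈ U₀ := huZ
  let u₀ : ↑U₀ := ⟨u, huU₀⟩
  obtain ⟨κ, hκo, hκ1, hκ2, hκr, hκpb⟩ := EtLocalShrink.restrict f g U₀
  have hκ1' : ∀ w, pullback.fst f g (κ w) = pullback.fst f (U₀.ι ≫ g) w := fun w => by
    rw [← hκ1]; rfl
  have hκ2' : ∀ w, pullback.snd f g (κ w) = U₀.ι (pullback.snd f (U₀.ι ≫ g) w) := fun w => by
    show (κ ≫ pullback.snd f g) w = _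
    rw [hκ2]; rfl
  have hι : ∀ a b : ↑U₀, U₀.ι a = U₀.ι b → a = b := fun a b hab =>
    U₀.ι.isOpenEmbedding.injective hab
  have hκinj : Function.Injective κ := κ.isOpenEmbedding.injective
  let V₀ : ∀ i, Fin (m i) → (pullback f (U₀.ι ≫ g)).Opens := fun i j => κ ⁻¹ᵁ V i j
  have hv₀ : ∀ i j, ∃ w₀ : ↑(pullback f (U₀.ι ≫ g)), κ w₀ = v i j := by
    intro i j
    have hwr : v i j ∈ Set.range κ := by
      rw [hκr]
      show pullback.snd f g (v i j) ∈ U₀
      rw [(H1 i j).2.2.1]; exact huU₀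
    exact hwr
  choose v₀ hv₀ using hv₀
  have hu₀s : (U₀.ι ≫ g) u₀ = s := hu
  have hsnd₀ : ∀ w, pullback.snd f (U₀.ι ≫ g) w = u₀ ↔ pullback.snd f g (κ w) = u := by
    intro w
    rw [hκ2']
    constructor
    · intro h; rw [h]; rfl
    · intro h; exact hι _ _ h
  have hsplit₀ : ∀ i, PtResidue.SplitAt f (U₀.ι ≫ g) (x i) u₀ s (hs i) hu₀s := by
    intro i
    have h1 : PtResidue.SplitAt f g (x i) (U₀.ι u₀) s (hs i) hu := hsplit i
    exact h1.precomp f g U₀.ι hu₀s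
  haveI : Etale g := hget
  refine ⟨U₀, U₀.ι ≫ g, u₀, inferInstance, hu₀s, fun i => Fin (m i), fun i => inferInstance,
    V₀, v₀, ?_, ?_, ?_, ?_⟩
  · intro i j
    exact ⟨(hVcl i j).preimage κ.continuous, (V₀ i j).2⟩
  · rintro i j i' j' ⟨w, hw, hw'⟩
    by_contra hne
    have hne' : (⟨i, j⟩ : K) ≠ ⟨i', j'⟩ := by
      intro h
      exact hne (Sigma.mk.inj_iff.mp h)
    have hz : pullback.snd f g (κ w) ∈ Z :=
      Set.mem_iUnion.mpr ⟨⟨(⟨i, j⟩, ⟨i', j'⟩), hne'⟩, κ w, ⟨hw, hw'⟩, rfl⟩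
    rw [hκ2'] at hz
    exact (pullback.snd f (U₀.ι ≫ g) w).2 hz
  · intro i j
    have hsv : pullback.snd f (U₀.ι ≫ g) (v₀ i j) = u₀ := by
      rw [hsnd₀, hv₀]; exact (H1 i j).2.2.1
    have hfv : pullback.fst f (U₀.ι ≫ g) (v₀ i j) = x i := by
      rw [← hκ1', hv₀]; exact (H1 i j).2.2.2.1
    refine ⟨?_, ?_, hsv, ?_, ?_, hfv⟩
    · show κ (v₀ i j) ∈ V i j
      rw [hv₀]; exact (H1 i j).1
    · exact MorphismProperty.of_isPullback (P := @IsFinite) (hκpb (V i j)) (H1 i j).2.1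
    · intro w hwV hwu
      apply hκinj
      rw [hv₀]
      exact (H1 i j).2.2.2.2 (κ w) hwV ((hsnd₀ w).mp hwu)
    · have h1 := (hsplit₀ i).congr f (U₀.ι ≫ g) (v₀ i j) hfv hsv
      exact PtResidue.isPurelyInseparable_of_splitAt f (U₀.ι ≫ g) (v₀ i j) s _ _ h1
  · intro w i hwu hwx
    have h4 : pullback.snd f g (κ w) = u := (hsnd₀ w).mp hwu
    have h5 : pullback.fst f g (κ w) = x i := by
      rw [hκ1', hwx]
    obtain ⟨j, hj⟩ := H3 i (κ w) h4 h5
    refine ⟨j, ?_⟩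
    show κ w ∈ V i j
    rw [hj]; exact (H1 i j).1

end Groth.Agent.Helper3.QFFinal
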