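import Mathlib

set_option autoImplicit false
set_option linter.style.haveILetI false
set_option linter.unusedSectionVars false
set_option linter.unusedVariables false
set_option linter.deprecated false
set_option linter.style.haveILetI false
set_option linter.unusedSectionVars false
set_option linter.unusedVariables false

universe u

namespace Groth.Agent.Helper3.QFInv

open TensorProduct Module IsLocalRing

section FP

variable {C : Type u} [CommRing C] [IsLocalRing C] (W : Type u) [AddCommGroup W] [Module C W]
  [Module.Finite C W] (K : Type u) [Field K] [Algebra C K] [IsLocalHom (algebraMap C K)]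

/-- **(FP)** a finite module over a local ring whose fibre at a field-valued point over the closed
point is one-dimensional is cyclic -/
theorem exists_cyclic_of_field_point (h1 : Module.finrank K (K ⊗[C] W) = 1) :
    ∃ w : W, Submodule.span C {w} = ⊤ := by
  let k := ResidueField C
  letI : Algebra k K := (ResidueField.lift (algebraMap C K)).toAlgebra
  haveI : IsScalarTower C k K := IsScalarTower.of_algebraMap_eq (fun c => by
    show algebraMap C K c = ResidueField.lift (algebraMap C K) (residue C c)
    rw [ResidueField.lift_residue_apply])
  let V := k ⊗[C] W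
  let e : K ⊗[k] V ≃ₗ[K] K ⊗[C] W := TensorProduct.AlgebraTensorModule.cancelBaseChange C k K K W
  have h2 : Module.finrank k V = 1 := by
    rw [← Module.finrank_baseChange (R := K) (S := k) (M' := V), LinearEquiv.finrank_eq e, h1]
  obtain ⟨v, hv0, hv⟩ := (finrank_eq_one_iff' (K := k) (V := V)).1 h2
  obtain ⟨w, hw⟩ := TensorProduct.mk_surjective C W k Ideal.Quotient.mk_surjective v
  refine ⟨w, ?_⟩
  rw [← IsLocalRing.map_tensorProduct_mk_eq_top (R := C) (M := W), Submodule.map_span,
    Set.image_singleton, hw, eq_top_iff]
  intro x _
  obtain ⟨c, hc⟩ := hv x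
  obtain ⟨c', rfl⟩ := IsLocalRing.residue_surjective c
  rw [← hc]
  have : (residue C c') • v = c' • v := algebraMap_smul k c' v
  rw [this]
  exact Submodule.smul_mem _ _ (Submodule.mem_span_singleton_self v)

end FP

section EQ

variable (H : Type u) {C W : Type u} [CommRing H] [CommRing C] [Algebra H C] [AddCommGroup W]
  [Module C W] [Module H W] [IsScalarTower H C W] [Module.Finite H C]

/-- **(EQ)** a cyclic `C`-module which is `H`-isomorphic to `C` is free of rank one over `C` -/
theorem bijective_toSpanSingleton (e : C ≃ₗ[H] W) (w : W) (hw : Submodule.span C {w} = ⊤) :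
    Function.Bijective (LinearMap.toSpanSingleton C W w) := by
  have hsurj : Function.Surjective (LinearMap.toSpanSingleton C W w) := by
    rw [← LinearMap.range_eq_top, LinearMap.range_toSpanSingleton, hw]
  refine ⟨?_, hsurj⟩
  let g : C →ₗ[H] C := e.symm.toLinearMap ∘ₗ ((LinearMap.toSpanSingleton C W w).restrictScalars H)
  have hg : Function.Surjective g := e.symm.surjective.comp hsurj
  have hinj := OrzechProperty.injective_of_surjective_endomorphism g hg
  intro a b hab
  apply hinj
  show e.symm (LinearMap.toSpanSingleton C W w a) = e.symm (LinearMap.toSpanSingleton C W w b)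
  rw [hab]

end EQ

section DS

variable {T C : Type u} [CommRing T] [CommRing C] [IsLocalRing T] [IsLocalRing C] [Algebra T C]
  [IsLocalHom (algebraMap T C)] [Module.Flat T C]
  (N : Type u) [AddCommGroup N] [Module T N] [Module.Finite T N]

/-- **(DS)** descent of "free of rank one" along a flat local homomorphism -/
theorem nonempty_equiv_of_tensor_equiv (e : C ⊗[T] N ≃ₗ[C] C) : Nonempty (N ≃ₗ[T] T) := by
  haveI : IsLocalHom (algebraMap T (ResidueField C)) := by
    rw [IsScalarTower.algebraMap_eq T C (ResidueField C)]
    haveI : IsLocalHom (algebraMap C (ResidueField C)) := by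
      show IsLocalHom (residue C)
      infer_instance
    exact RingHom.isLocalHom_comp _ _
  have h1 : Module.finrank (ResidueField C) ((ResidueField C) ⊗[T] N) = 1 := by
    let e1 : (ResidueField C) ⊗[C] (C ⊗[T] N) ≃ₗ[ResidueField C] (ResidueField C) ⊗[T] N :=
      TensorProduct.AlgebraTensorModule.cancelBaseChange T C (ResidueField C) (ResidueField C) N
    let e2 : (ResidueField C) ⊗[C] (C ⊗[T] N) ≃ₗ[ResidueField C] (ResidueField C) ⊗[C] C :=
      TensorProduct.AlgebraTensorModule.congr (LinearEquiv.refl (ResidueField C) (ResidueField C)) e
    let e3 : (ResidueField C) ⊗[C] C ≃ₗ[ResidueField C] (ResidueField C) := TensorProduct.AlgebraTensorModule.rid C (ResidueField C) (ResidueField C)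
    rw [LinearEquiv.finrank_eq (e1.symm ≪≫ₗ e2 ≪≫ₗ e3), Module.finrank_self]
  obtain ⟨n, hn⟩ := exists_cyclic_of_field_point N (ResidueField C) h1
  let φ : T →ₗ[T] N := LinearMap.toSpanSingleton T N n
  have hφs : Function.Surjective φ := by
    rw [← LinearMap.range_eq_top, LinearMap.range_toSpanSingleton, hn]
  haveI : Module.FaithfullyFlat T C := Module.FaithfullyFlat.of_flat_of_isLocalHom
  have hφi : Function.Injective φ := by
    rw [← Module.FaithfullyFlat.lTensor_injective_iff_injective T C]
    -- a surjective endomorphism of `C`
    let ψ : C →ₗ[C] C := e.toLinearMap ∘ₗ (TensorProduct.AlgebraTensorModule.lTensor C C φ) ∘ₗ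
      (TensorProduct.AlgebraTensorModule.rid T C C).symm.toLinearMap
    have hψs : Function.Surjective ψ := by
      intro c
      obtain ⟨z, hz⟩ := (LinearMap.lTensor_surjective C hφs) (e.symm c)
      refine ⟨TensorProduct.AlgebraTensorModule.rid T C C z, ?_⟩
      show e ((TensorProduct.AlgebraTensorModule.lTensor C C φ)
        ((TensorProduct.AlgebraTensorModule.rid T C C).symm
          (TensorProduct.AlgebraTensorModule.rid T C C z))) = c
      rw [LinearEquiv.symm_apply_apply]
      have : (TensorProduct.AlgebraTensorModule.lTensor C C φ) z = (φ.lTensor C) z := rfl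
      rw [this, hz, LinearEquiv.apply_symm_apply]
    have hψi := OrzechProperty.injective_of_surjective_endomorphism ψ hψs
    intro a b hab
    have h2 : ψ (TensorProduct.AlgebraTensorModule.rid T C C a) =
        ψ (TensorProduct.AlgebraTensorModule.rid T C C b) := by
      show e ((TensorProduct.AlgebraTensorModule.lTensor C C φ)
        ((TensorProduct.AlgebraTensorModule.rid T C C).symm
          (TensorProduct.AlgebraTensorModule.rid T C C a))) = e ((TensorProduct.AlgebraTensorModule.lTensor C C φ)
        ((TensorProduct.AlgebraTensorModule.rid T C C).symm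
          (TensorProduct.AlgebraTensorModule.rid T C C b)))
      rw [LinearEquiv.symm_apply_apply, LinearEquiv.symm_apply_apply]
      exact congrArg e hab
    exact (TensorProduct.AlgebraTensorModule.rid T C C).injective (hψi h2)
  exact ⟨(LinearEquiv.ofBijective φ ⟨hφi, hφs⟩).symm⟩

end DS

end Groth.Agent.Helper3.QFInv
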