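import Mathlib
import Groth.Prelude.Def_QFDual
import Groth.Agent.Helper3.QFCore2
import Groth.Agent.Helper3.QFBC3
import Groth.Agent.Helper3.QFInv1

set_option autoImplicit false
set_option linter.style.haveILetI false
set_option linter.unusedSectionVars false
set_option linter.unusedVariables false
set_option linter.deprecated false
set_option linter.style.haveILetI false
set_option linter.unusedSectionVars false
set_option linter.unusedVariables false

universe u

namespace Groth.Agent.Helper3.QFInv

open TensorProduct Module IsLocalRing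

attribute [local instance] Algebra.TensorProduct.rightAlgebra

section Abstract

variable (A H B' : Type u) [CommRing A] [CommRing H] [HenselianLocalRing H] [IsNoetherianRing H]
  [Algebra A H] [CommRing B'] [Algebra A B'] [Module.Finite A B'] [IsNoetherianRing A]
  [Module.Flat A H]
  (Q' : Ideal (H ⊗[A] B')) [Q'.IsPrime] [Q'.LiesOver (maximalIdeal H)]
  (hT : Module.Flat A (Localization.AtPrime (Q'.comap (algebraMap B' (H ⊗[A] B')))))

include hT in
/-- `C ⊗_{B'} ω_{B'/A} ≃ ω_{C/H}` for the henselian local factor `C` -/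
theorem nonempty_omegaC_equiv :
    Nonempty (Localization.AtPrime Q' ⊗[B'] Disc.Omega A B' ≃ₗ[Localization.AtPrime Q']
      Disc.Omega H (Localization.AtPrime Q')) := by
  let C := Localization.AtPrime Q'
  obtain ⟨hsurj, hfin⟩ := Groth.Agent.Helper3.QFCore.ac1 A H B' Q'
  haveI := hfin
  haveI : IsNoetherianRing (H ⊗[A] B') := IsNoetherianRing.of_finite H _
  obtain ⟨e, he, hker⟩ := Groth.Agent.Helper3.QFCore.exists_idem_of_surjective_localization
    (R := H ⊗[A] B') (C := C) Q'.primeCompl hsurj
  have hpush : Algebra.IsPushout A H B' (H ⊗[A] B') := inferInstance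
  have hbij := Groth.Agent.Helper3.OmegaBC.s8958 A B' H (H ⊗[A] B') C hpush
  let e1 : C ⊗[B'] Disc.Omega A B' ≃ₗ[C] C ⊗[H ⊗[A] B'] Disc.Omega H (H ⊗[A] B') :=
    LinearEquiv.ofBijective (QFDual.omegaBC (B₁ := C) hpush) hbij
  let e2 : C ⊗[H ⊗[A] B'] Disc.Omega H (H ⊗[A] B') ≃ₗ[C] Disc.Omega H C :=
    Groth.Agent.Helper3.QFCore.omegaIdemEquiv hsurj e he hker
  exact ⟨e1.trans e2⟩

include hT in
/-- `ω_{C/H} ≃ C` as soon as this holds at one field-valued point over the closed point -/
theorem nonempty_omegaC_equiv_self (K : Type u) [Field K] [Algebra (Localization.AtPrime Q') K]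
    [IsLocalHom (algebraMap (Localization.AtPrime Q') K)]
    (h1 : Module.finrank K (K ⊗[Localization.AtPrime Q'] Disc.Omega H (Localization.AtPrime Q')) = 1) :
    Nonempty (Disc.Omega H (Localization.AtPrime Q') ≃ₗ[Localization.AtPrime Q']
      Localization.AtPrime Q') := by
  let C := Localization.AtPrime Q'
  obtain ⟨hsurj, hfin⟩ := Groth.Agent.Helper3.QFCore.ac1 A H B' Q'
  haveI := hfin
  haveI hflat : Module.Flat H C := Groth.Agent.Helper3.QFCore.ac2 A H B' Q' hT
  haveI : Module.Free H C := Module.free_of_flat_of_isLocalRing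
  letI : Module H (Disc.Omega H C) := Module.compHom _ (algebraMap H C)
  haveI : IsScalarTower H C (Disc.Omega H C) := IsScalarTower.of_algebraMap_smul (fun _ _ => rfl)
  let e0 : Disc.Omega H C ≃ₗ[H] (C →ₗ[H] H) :=
    { toFun := fun ψ => ψ.toLinearMap
      map_add' := fun ψ ψ' => rfl
      map_smul' := fun h ψ => by
        apply LinearMap.ext
        intro x
        show (algebraMap H C h • ψ).toLinearMap x = h • ψ.toLinearMap x
        rw [Disc.Omega.smul_toLinearMap_apply, ← Algebra.smul_def, map_smul]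
      invFun := fun l => ⟨l⟩
      left_inv := fun ψ => rfl
      right_inv := fun l => rfl }
  let b := Module.Free.chooseBasis H C
  let e : C ≃ₗ[H] Disc.Omega H C := b.toDualEquiv.trans e0.symm
  haveI : Module.Finite H (Disc.Omega H C) := Module.Finite.equiv e
  haveI : Module.Finite C (Disc.Omega H C) := Module.Finite.of_restrictScalars_finite H C _
  obtain ⟨w, hw⟩ := exists_cyclic_of_field_point (Disc.Omega H C) K h1
  have hb := bijective_toSpanSingleton H e w hw
  exact ⟨(LinearEquiv.ofBijective _ hb).symm⟩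

variable (A₁ B'₁ : Type u) [CommRing A₁] [CommRing B'₁] [Algebra A A₁] [Algebra A₁ B'₁]
  [Algebra B' B'₁] [Algebra A B'₁] [IsScalarTower A A₁ B'₁] [IsScalarTower A B' B'₁]
  (h₁ : Algebra.IsPushout A A₁ B' B'₁)
  (Y : Type u) [CommRing Y] [Algebra B'₁ Y] [Algebra B' Y] [Algebra (Localization.AtPrime Q') Y]
  [IsScalarTower B' B'₁ Y] [IsScalarTower B' (Localization.AtPrime Q') Y]

include hT h₁ in
/-- the local form of "invertible fibre ⇒ invertible": `T ⊗_{B'} ω_{B'/A} ≃ T` for the local ring
`T = B'_{P'}` -/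
theorem nonempty_omegaT_equiv (hYinv : Module.Invertible Y (Y ⊗[B'₁] Disc.Omega A₁ B'₁))
    (K : Type u) [Field K] [Algebra Y K] [Algebra (Localization.AtPrime Q') K]
    [IsScalarTower (Localization.AtPrime Q') Y K]
    [IsLocalHom (algebraMap (Localization.AtPrime Q') K)] :
    haveI : (Q'.comap (algebraMap B' (H ⊗[A] B'))).IsPrime := Ideal.comap_isPrime _ _
    Nonempty (Localization.AtPrime (Q'.comap (algebraMap B' (H ⊗[A] B'))) ⊗[B'] Disc.Omega A B'
      ≃ₗ[Localization.AtPrime (Q'.comap (algebraMap B' (H ⊗[A] B')))]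
      Localization.AtPrime (Q'.comap (algebraMap B' (H ⊗[A] B')))) := by
  set P' : Ideal B' := Q'.comap (algebraMap B' (H ⊗[A] B')) with hP'
  haveI : P'.IsPrime := Ideal.comap_isPrime _ _
  let T := Localization.AtPrime P'
  let C := Localization.AtPrime Q'
  -- step 1: base change to the fibre is bijective on `Y`
  have hW : Function.Bijective (QFDual.omegaBC (B₁ := Y) h₁) :=
    Groth.Agent.Helper3.QFBC.omegaBC_bijective_hens A H B' Q' hT A₁ B'₁ h₁ Y
  let βY : Y ⊗[B'] Disc.Omega A B' ≃ₗ[Y] Y ⊗[B'₁] Disc.Omega A₁ B'₁ := LinearEquiv.ofBijective _ hW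
  -- step 2
  obtain ⟨eC⟩ := nonempty_omegaC_equiv A H B' Q' hT
  let f1 : Y ⊗[C] (C ⊗[B'] Disc.Omega A B') ≃ₗ[Y] Y ⊗[C] Disc.Omega H C :=
    TensorProduct.AlgebraTensorModule.congr (LinearEquiv.refl Y Y) eC
  let f2 : Y ⊗[C] (C ⊗[B'] Disc.Omega A B') ≃ₗ[Y] Y ⊗[B'] Disc.Omega A B' :=
    TensorProduct.AlgebraTensorModule.cancelBaseChange B' C Y Y (Disc.Omega A B')
  haveI hinvW : Module.Invertible Y (Y ⊗[C] Disc.Omega H C) :=
    Module.Invertible.congr ((f1.symm ≪≫ₗ f2 ≪≫ₗ βY).symm)
  -- step 3
  let f3 : K ⊗[Y] (Y ⊗[C] Disc.Omega H C) ≃ₗ[K] K ⊗[C] Disc.Omega H C :=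
    TensorProduct.AlgebraTensorModule.cancelBaseChange C Y K K (Disc.Omega H C)
  haveI : Module.Invertible K (K ⊗[C] Disc.Omega H C) := Module.Invertible.congr f3
  have h1 : Module.finrank K (K ⊗[C] Disc.Omega H C) = 1 := Module.Invertible.finrank_eq_one _ _
  obtain ⟨eW⟩ := nonempty_omegaC_equiv_self A H B' Q' hT K h1
  -- step 4: descent to `T`
  let ρ : T →+* C := Localization.localRingHom P' Q' (algebraMap B' (H ⊗[A] B')) rfl
  letI : Algebra T C := ρ.toAlgebra
  haveI : IsScalarTower B' T C := IsScalarTower.of_algebraMap_eq (fun b => by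
    show algebraMap B' C b = ρ (algebraMap B' T b)
    rw [Localization.localRingHom_to_map]
    exact IsScalarTower.algebraMap_apply B' (H ⊗[A] B') C b)
  haveI : IsLocalHom (algebraMap T C) := Localization.isLocalHom_localRingHom _ _ _ rfl
  haveI : Module.Flat B' (H ⊗[A] B') := by
    have hp : Algebra.IsPushout A B' H (H ⊗[A] B') := inferInstance
    exact Module.Flat.isBaseChange A B' H (H ⊗[A] B') hp.out
  haveI : Module.Flat B' C := Module.Flat.trans B' (H ⊗[A] B') C
  haveI : Module.Flat T C := (Module.flat_iff_of_isLocalization T P'.primeCompl C).2 inferInstance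
  let ε : C ⊗[T] (T ⊗[B'] Disc.Omega A B') ≃ₗ[C] C ⊗[B'] Disc.Omega A B' :=
    TensorProduct.AlgebraTensorModule.cancelBaseChange B' T C C (Disc.Omega A B')
  -- finiteness
  haveI : Module.Finite B' (Disc.Omega A B') := by
    letI : Module A (Disc.Omega A B') := Module.compHom _ (algebraMap A B')
    haveI : IsScalarTower A B' (Disc.Omega A B') :=
      IsScalarTower.of_algebraMap_smul (fun _ _ => rfl)
    let e : Disc.Omega A B' ≃ₗ[A] Module.Dual A B' :=
      { toFun := Disc.Omega.toLinearMap
        invFun := Disc.Omega.mk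
        left_inv := fun _ => rfl
        right_inv := fun _ => rfl
        map_add' := fun _ _ => rfl
        map_smul' := fun a φ => by
          apply LinearMap.ext
          intro x
          change φ.toLinearMap (algebraMap A B' a * x) = a • φ.toLinearMap x
          rw [← Algebra.smul_def, map_smul] }
    haveI : Module.Finite A (Disc.Omega A B') := Module.Finite.equiv e.symm
    exact Module.Finite.of_restrictScalars_finite A B' _
  haveI : Module.Finite T (T ⊗[B'] Disc.Omega A B') := inferInstance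
  exact nonempty_equiv_of_tensor_equiv (T ⊗[B'] Disc.Omega A B') (ε ≪≫ₗ eC ≪≫ₗ eW)

end Abstract

end Groth.Agent.Helper3.QFInv
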