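import Mathlib
import Groth.Prelude.Def_QFDual
import Groth.Agent.Helper1.HensNoeth
import Groth.Agent.Helper3.QFCore4
import Groth.Agent.Helper3.QFBC4
import Groth.Agent.Helper3.QFInv2
import Groth.Agent.Helper6.InvLoc

set_option autoImplicit false
set_option linter.style.haveILetI false
set_option linter.unusedSectionVars false
set_option linter.unusedVariables false
set_option linter.deprecated false
set_option linter.style.haveILetI false
set_option linter.unusedSectionVars false
set_option linter.unusedVariables false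

universe u

namespace Groth.Agent.Helper3.QFInv

open TensorProduct Module IsLocalRing AlgebraicGeometry CategoryTheory

attribute [local instance] Algebra.TensorProduct.rightAlgebra

theorem nonempty_equiv_of_ideal_eq {A B' : Type u} [CommRing A] [CommRing B'] [Algebra A B']
    (I J : Ideal B') [I.IsPrime] [J.IsPrime] (h : I = J)
    (hI : Nonempty (Localization.AtPrime I ⊗[B'] Disc.Omega A B' ≃ₗ[Localization.AtPrime I]
      Localization.AtPrime I)) :
    Nonempty (Localization.AtPrime J ⊗[B'] Disc.Omega A B' ≃ₗ[Localization.AtPrime J]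
      Localization.AtPrime J) := by
  subst h
  exact hI

/-- free of rank one ⇒ isomorphic to the ring -/
theorem nonempty_equiv_of_free_finrank_one (R M : Type u) [CommRing R] [Nontrivial R]
    [AddCommGroup M] [Module R M] [Module.Free R M] [Module.Finite R M]
    (h : Module.finrank R M = 1) : Nonempty (M ≃ₗ[R] R) := by
  let b := Module.finBasisOfFinrankEq R M h
  exact ⟨b.equivFun ≪≫ₗ LinearEquiv.funUnique (Fin 1) R R⟩

section Main

variable (A B' B : Type u) [CommRing A] [CommRing B'] [CommRing B] [IsNoetherianRing A]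
  [IsNoetherianRing B] [Algebra A B'] [Algebra B' B] [Algebra A B] [IsScalarTower A B' B]
  [Module.Flat A B]

/-- the fibre condition of S8963 -/
def FibreCond : Prop :=
  ∀ (p : Ideal A) [p.IsPrime] (B'₁ B₁ : Type u) [CommRing B'₁] [CommRing B₁] [Algebra B' B'₁]
    [Algebra p.ResidueField B'₁] [Algebra A B'₁] [IsScalarTower A p.ResidueField B'₁]
    [IsScalarTower A B' B'₁] [Algebra B B₁] [Algebra p.ResidueField B₁] [Algebra A B₁]
    [IsScalarTower A p.ResidueField B₁] [IsScalarTower A B B₁] [Algebra B'₁ B₁] [Algebra B' B₁]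
    [IsScalarTower B' B'₁ B₁] [IsScalarTower B' B B₁] [IsScalarTower p.ResidueField B'₁ B₁],
    Algebra.IsPushout A p.ResidueField B' B'₁ → Algebra.IsPushout A p.ResidueField B B₁ →
      Module.Invertible B₁ (QFDual.omega p.ResidueField B'₁ B₁)

variable [Module.Finite A B']
  (hopen : IsOpenImmersion (Spec.map (CommRingCat.ofHom (algebraMap B' B))))

include hopen in
/-- local freeness of `ω` at a maximal ideal from the fibre condition -/
theorem nonempty_equiv_atPrime (hfib : FibreCond A B' B) (P : Ideal B) [P.IsPrime] :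
    Nonempty (Localization.AtPrime P ⊗[B] (B ⊗[B'] Disc.Omega A B') ≃ₗ[Localization.AtPrime P]
      Localization.AtPrime P) := by
  set P' : Ideal B' := P.comap (algebraMap B' B) with hP'
  haveI : P'.IsPrime := Ideal.comap_isPrime _ _
  have hT : Module.Flat A (Localization.AtPrime P') :=
    Groth.Agent.Helper3.QFBC.flat_atPrime_of_isOpenImmersion A B B' hopen P
  let p : Ideal A := P'.comap (algebraMap A B')
  haveI : p.IsPrime := Ideal.comap_isPrime _ _
  have hpP : P.comap (algebraMap A B) = p := by
    show _ = (P.comap (algebraMap B' B)).comap (algebraMap A B')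
    rw [Ideal.comap_comap, ← IsScalarTower.algebraMap_eq]
  -- the fibre rings
  let fB : p.ResidueField ⊗[A] B' →ₐ[p.ResidueField] p.ResidueField ⊗[A] B :=
    Algebra.TensorProduct.map (AlgHom.id _ _) (IsScalarTower.toAlgHom A B' B)
  letI algB₁ : Algebra (p.ResidueField ⊗[A] B') (p.ResidueField ⊗[A] B) := fB.toRingHom.toAlgebra
  letI algB'B₁ : Algebra B' (p.ResidueField ⊗[A] B) :=
    ((algebraMap B (p.ResidueField ⊗[A] B)).comp (algebraMap B' B)).toAlgebra
  haveI : IsScalarTower B' B (p.ResidueField ⊗[A] B) := IsScalarTower.of_algebraMap_eq (fun _ => rfl)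
  haveI : IsScalarTower B' (p.ResidueField ⊗[A] B') (p.ResidueField ⊗[A] B) :=
    IsScalarTower.of_algebraMap_eq (fun b => by
      show (1 : p.ResidueField) ⊗ₜ[A] (algebraMap B' B b) = fB ((1 : p.ResidueField) ⊗ₜ[A] b)
      rw [Algebra.TensorProduct.map_tmul]
      rfl)
  haveI : IsScalarTower p.ResidueField (p.ResidueField ⊗[A] B') (p.ResidueField ⊗[A] B) :=
    IsScalarTower.of_algebraMap_eq (fun x => (fB.commutes x).symm)
  have hinv₁ : Module.Invertible (p.ResidueField ⊗[A] B)
      (QFDual.omega p.ResidueField (p.ResidueField ⊗[A] B') (p.ResidueField ⊗[A] B)) :=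
    hfib p (p.ResidueField ⊗[A] B') (p.ResidueField ⊗[A] B) inferInstance inferInstance
  -- the complete local base
  let Ap := Localization.AtPrime p
  let H := AdicCompletion (maximalIdeal Ap) Ap
  haveI : IsScalarTower A Ap H := inferInstance
  haveI : Module.Flat Ap H := AdicCompletion.flat_of_isNoetherian _
  haveI : Module.Flat A Ap := IsLocalization.flat Ap p.primeCompl
  haveI : Module.Flat A H := Module.Flat.trans A Ap H
  have hcomap : (maximalIdeal H).comap (algebraMap A H) = P'.comap (algebraMap A B') := by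
    have h1 : (maximalIdeal H).comap (algebraMap A H) =
        ((maximalIdeal H).comap (algebraMap Ap H)).comap (algebraMap A Ap) := by
      rw [Ideal.comap_comap]
      rfl
    rw [h1, IsLocalRing.maximalIdeal_comap]
    exact Localization.AtPrime.comap_maximalIdeal ..
  obtain ⟨Q', hQ'prime, hQH, hQB⟩ :=
    Groth.Agent.Helper3.QFCore.exists_prime_tensor A H B' (maximalIdeal H) P' hcomap
  haveI := hQ'prime
  haveI : Q'.LiesOver (maximalIdeal H) := ⟨hQH.symm⟩
  haveI : (Q'.comap (algebraMap B' (H ⊗[A] B'))).IsPrime := Ideal.comap_isPrime _ _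
  have hT' : Module.Flat A (Localization.AtPrime (Q'.comap (algebraMap B' (H ⊗[A] B')))) :=
    Groth.Agent.Helper3.QFBC.flat_of_ideal_eq P' _ hQB.symm hT
  let C := Localization.AtPrime Q'
  -- a prime of the fibre over `P`
  have hbot : (⊥ : Ideal p.ResidueField).comap (algebraMap A p.ResidueField) =
      P.comap (algebraMap A B) := by
    rw [hpP]
    exact Ideal.ker_algebraMap_residueField p
  obtain ⟨P₁, hP₁, -, hP₁B⟩ := Groth.Agent.Helper3.QFCore.exists_prime_tensor A p.ResidueField B
    (⊥ : Ideal p.ResidueField) P hbot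
  haveI := hP₁
  have hmC : (maximalIdeal C).comap (algebraMap B' C) = P' := by
    have hm : (maximalIdeal C).comap (algebraMap (H ⊗[A] B') C) = Q' :=
      Localization.AtPrime.comap_maximalIdeal ..
    rw [IsScalarTower.algebraMap_eq B' (H ⊗[A] B') C, ← Ideal.comap_comap, hm, hQB]
  have hP₁B' : P₁.comap (algebraMap B' (p.ResidueField ⊗[A] B)) = P' := by
    rw [IsScalarTower.algebraMap_eq B' B (p.ResidueField ⊗[A] B), ← Ideal.comap_comap, hP₁B]
  obtain ⟨𝔮, h𝔮, -, h𝔮C⟩ := Groth.Agent.Helper3.QFCore.exists_prime_tensor B'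
    (p.ResidueField ⊗[A] B) C P₁ (maximalIdeal C) (hP₁B'.trans hmC.symm)
  haveI := h𝔮
  -- the field valued point
  letI algCK : Algebra C 𝔮.ResidueField :=
    ((algebraMap ((p.ResidueField ⊗[A] B) ⊗[B'] C) 𝔮.ResidueField).comp
      (algebraMap C ((p.ResidueField ⊗[A] B) ⊗[B'] C))).toAlgebra
  haveI : IsScalarTower C ((p.ResidueField ⊗[A] B) ⊗[B'] C) 𝔮.ResidueField :=
    IsScalarTower.of_algebraMap_eq (fun _ => rfl)
  haveI : IsLocalHom (algebraMap C 𝔮.ResidueField) := by
    constructor
    intro c hc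
    by_contra hnu
    have hcm : c ∈ maximalIdeal C := (mem_maximalIdeal c).2 hnu
    rw [← h𝔮C, Ideal.mem_comap] at hcm
    have h0 : algebraMap C 𝔮.ResidueField c = 0 :=
      Ideal.algebraMap_residueField_eq_zero.2 hcm
    rw [h0] at hc
    exact not_isUnit_zero hc
  -- invertibility over `Y`
  have hYinv : Module.Invertible ((p.ResidueField ⊗[A] B) ⊗[B'] C)
      (((p.ResidueField ⊗[A] B) ⊗[B'] C) ⊗[p.ResidueField ⊗[A] B']
        Disc.Omega p.ResidueField (p.ResidueField ⊗[A] B')) := by
    haveI := hinv₁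
    exact Module.Invertible.congr (TensorProduct.AlgebraTensorModule.cancelBaseChange
      (p.ResidueField ⊗[A] B') (p.ResidueField ⊗[A] B) ((p.ResidueField ⊗[A] B) ⊗[B'] C)
      ((p.ResidueField ⊗[A] B) ⊗[B'] C) (Disc.Omega p.ResidueField (p.ResidueField ⊗[A] B')))
  have h₁ : Algebra.IsPushout A p.ResidueField B' (p.ResidueField ⊗[A] B') := inferInstance
  have hT0 := nonempty_omegaT_equiv A H B' Q' hT' p.ResidueField (p.ResidueField ⊗[A] B') h₁
    ((p.ResidueField ⊗[A] B) ⊗[B'] C) hYinv 𝔮.ResidueField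
  obtain ⟨eT⟩ := nonempty_equiv_of_ideal_eq (A := A) _ P' hQB hT0
  -- transport to `B_P`
  let T := Localization.AtPrime P'
  let BP := Localization.AtPrime P
  have hbij := Groth.Agent.Helper3.QFCore.localRingHom_bijective_of_isOpenImmersion hopen P
  let ρ : T →+* BP := Localization.localRingHom P' P (algebraMap B' B) rfl
  letI : Algebra T BP := ρ.toAlgebra
  haveI : IsScalarTower B' T BP := IsScalarTower.of_algebraMap_eq (fun b => by
    show algebraMap B' BP b = ρ (algebraMap B' T b)
    rw [Localization.localRingHom_to_map]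
    exact IsScalarTower.algebraMap_apply B' B BP b)
  let g1 : BP ⊗[B] (B ⊗[B'] Disc.Omega A B') ≃ₗ[BP] BP ⊗[B'] Disc.Omega A B' :=
    TensorProduct.AlgebraTensorModule.cancelBaseChange B' B BP BP (Disc.Omega A B')
  let g2 : BP ⊗[T] (T ⊗[B'] Disc.Omega A B') ≃ₗ[BP] BP ⊗[B'] Disc.Omega A B' :=
    TensorProduct.AlgebraTensorModule.cancelBaseChange B' T BP BP (Disc.Omega A B')
  let g3 : BP ⊗[T] (T ⊗[B'] Disc.Omega A B') ≃ₗ[BP] BP ⊗[T] T :=
    TensorProduct.AlgebraTensorModule.congr (LinearEquiv.refl BP BP) eT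
  let g4 : BP ⊗[T] T ≃ₗ[BP] BP := TensorProduct.AlgebraTensorModule.rid T BP BP
  exact ⟨g1 ≪≫ₗ g2.symm ≪≫ₗ g3 ≪≫ₗ g4⟩

include hopen in
theorem invertible_of_fibreCond (hfib : FibreCond A B' B) :
    Module.Invertible B (B ⊗[B'] Disc.Omega A B') := by
  haveI : Module.Finite B' (Disc.Omega A B') := by
    letI : Module A (Disc.Omega A B') := Module.compHom _ (algebraMap A B')
    haveI : IsScalarTower A B' (Disc.Omega A B') :=
      IsScalarTower.of_algebraMap_smul (fun _ _ => rfl)
    let e : Disc.Omega A B' ≃ₗ[A] Module.Dual A B' :=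
      { toFun := Disc.Omega.toLinearMap
        invFun := Disc.Omega.mk
        left_inv := fun _ => rfl
        right_inv := fun _ => rfl
        map_add' := fun _ _ => rfl
        map_smul' := fun a φ => by
          apply LinearMap.ext
          intro x
          change φ.toLinearMap (algebraMap A B' a * x) = a • φ.toLinearMap x
          rw [← Algebra.smul_def, map_smul] }
    haveI : Module.Finite A (Disc.Omega A B') := Module.Finite.equiv e.symm
    exact Module.Finite.of_restrictScalars_finite A B' _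
  haveI : Module.Finite B (B ⊗[B'] Disc.Omega A B') := inferInstance
  haveI : Module.FinitePresentation B (B ⊗[B'] Disc.Omega A B') :=
    Module.finitePresentation_of_finite B _
  let s : Set B := {r | Nonempty (LocalizedModule.Away r (B ⊗[B'] Disc.Omega A B') ≃ₗ[Localization.Away r]
    Localization.Away r)}
  apply Groth.Agent.Helper6.InvLoc.main B _ s ?_ (fun f hf => hf)
  by_contra hne
  obtain ⟨P, hPmax, hsP⟩ := Ideal.exists_le_maximal _ hne
  haveI := hPmax.isPrime
  obtain ⟨eP⟩ := nonempty_equiv_atPrime A B' B hopen hfib P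
  haveI : Module.Free (Localization.AtPrime P)
      (Localization.AtPrime P ⊗[B] (B ⊗[B'] Disc.Omega A B')) := Module.Free.of_equiv eP.symm
  obtain ⟨r, hr, hfree, hrank⟩ := Module.FinitePresentation.exists_free_localizedModule_powers
    P.primeCompl (TensorProduct.mk B (Localization.AtPrime P) (B ⊗[B'] Disc.Omega A B') 1)
    (Localization.AtPrime P)
  have h1 : Module.finrank (Localization.AtPrime P)
      (Localization.AtPrime P ⊗[B] (B ⊗[B'] Disc.Omega A B')) = 1 := by
    rw [LinearEquiv.finrank_eq eP, Module.finrank_self]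
  haveI := hfree
  haveI : Nontrivial (Localization (Submonoid.powers r)) :=
    (show Localization (.powers r) →+* Localization.AtPrime P from
      IsLocalization.map (M := .powers r) (T := P.primeCompl) _
      (RingHom.id _) (Submonoid.powers_le.mpr hr)).domain_nontrivial
  have hrs : r ∈ s := nonempty_equiv_of_free_finrank_one _ _ (hrank.trans h1)
  exact hr (hsP (Ideal.subset_span hrs))

include hopen in
theorem fibreCond_of_invertible (hinv : Module.Invertible B (B ⊗[B'] Disc.Omega A B')) :
    FibreCond A B' B := by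
  intro p _ B'₁ B₁ _ _ _ _ _ _ _ _ _ _ _ _ _ _ _ _ _ h' hB
  have hb := Groth.Agent.Helper3.QFBC.s8959 A B' B p.ResidueField B'₁ B₁ hopen h'
  let β : B₁ ⊗[B'] Disc.Omega A B' ≃ₗ[B₁] B₁ ⊗[B'₁] Disc.Omega p.ResidueField B'₁ :=
    LinearEquiv.ofBijective _ hb
  let g : B₁ ⊗[B] (B ⊗[B'] Disc.Omega A B') ≃ₗ[B₁] B₁ ⊗[B'] Disc.Omega A B' :=
    TensorProduct.AlgebraTensorModule.cancelBaseChange B' B B₁ B₁ (Disc.Omega A B')
  haveI : Module.Invertible B₁ (B₁ ⊗[B] (B ⊗[B'] Disc.Omega A B')) := inferInstance
  exact Module.Invertible.congr (g ≪≫ₗ β)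

include hopen in
/-- **S8963** -/
theorem s8963 : Module.Invertible B (B ⊗[B'] Disc.Omega A B') ↔ FibreCond A B' B :=
  ⟨fibreCond_of_invertible A B' B hopen, invertible_of_fibreCond A B' B hopen⟩

end Main

end Groth.Agent.Helper3.QFInv
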