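import Groth.Agent.Helper3.HensQF2
import Groth.Agent.Helper3.NearClosed

/-!
Openness of the quasi-finite locus of a finite type algebra (ring level), and the criterion
"quasi-finite at all primes ⇒ quasi-finite".
-/

namespace Groth.Agent.Helper3.QFLocus

universe u

/-- For `T = R_f` and a prime `p` of `T` with contraction `q`, `R_q ≃ T_p`. -/
noncomputable def atPrimeEquiv (A : Type*) [CommRing A] {R : Type*} [CommRing R] [Algebra A R]
    (f : R) (T : Type*) [CommRing T] [Algebra R T] [Algebra A T] [IsScalarTower A R T]
    [IsLocalization.Away f T] (p : PrimeSpectrum T) :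
    Localization.AtPrime (p.comap (algebraMap R T)).asIdeal ≃ₐ[A] Localization.AtPrime p.asIdeal :=
  let q := PrimeSpectrum.comap (algebraMap R T) p
  have : IsLocalization.AtPrime (Localization.AtPrime p.asIdeal) q.asIdeal :=
    IsLocalization.isLocalization_isLocalization_atPrime_isLocalization (.powers f) _ p.asIdeal
  (IsLocalization.algEquiv q.asIdeal.primeCompl _ _).restrictScalars A

/-- The quasi-finite locus of a finite type algebra is open. -/
theorem isOpen_quasiFiniteLocus (A R : Type u) [CommRing A] [CommRing R] [Algebra A R]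
    [Algebra.FiniteType A R] :
    IsOpen {p : PrimeSpectrum R | Algebra.QuasiFiniteAt A p.asIdeal} := by
  rw [isOpen_iff_forall_mem_open]
  intro p hp
  have hp' : Algebra.QuasiFiniteAt A p.asIdeal := hp
  have : Algebra.WeaklyQuasiFiniteAt A p.asIdeal := inferInstance
  obtain ⟨S', hS', r, hrp, H⟩ :=
    Algebra.QuasiFiniteAt.exists_fg_and_exists_notMem_and_awayMap_bijective (R := A) p.asIdeal
  have : Module.Finite A S' := ⟨(Submodule.fg_top _).mpr hS'⟩
  have : Algebra.QuasiFinite A (Localization.Away r) := .trans _ S' _
  have hqf : Algebra.QuasiFinite A (Localization.Away r.1) :=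
    .of_surjective_algHom (Localization.awayMapₐ S'.val r) H.2
  refine ⟨PrimeSpectrum.basicOpen r.1, ?_, (PrimeSpectrum.basicOpen r.1).isOpen, hrp⟩
  intro q hq
  have hq' : q ∈ Set.range (PrimeSpectrum.comap (algebraMap R (Localization.Away r.1))) := by
    rw [PrimeSpectrum.localization_away_comap_range (Localization.Away r.1) r.1]
    exact hq
  obtain ⟨p', rfl⟩ := hq'
  have h1 : Algebra.QuasiFinite A (Localization.AtPrime p'.asIdeal) :=
    .of_isLocalization (S := Localization.Away r.1) p'.asIdeal.primeCompl
  exact (Algebra.QuasiFinite.iff_of_algEquiv (atPrimeEquiv A r.1 (Localization.Away r.1) p')).2 h1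

/-- A finite type algebra which is quasi-finite at all primes is quasi-finite. -/
theorem quasiFinite_of_forall (A R : Type u) [CommRing A] [CommRing R] [Algebra A R]
    [Algebra.FiniteType A R]
    (h : ∀ (p : Ideal R) [p.IsPrime], Algebra.QuasiFiniteAt A p) : Algebra.QuasiFinite A R := by
  rw [Algebra.QuasiFinite.iff_finite_comap_preimage_singleton]
  intro x
  have := Groth.Agent.Helper3.HensQF.finite_qfAt_fiber A R x
  have huniv : {y : ↥(PrimeSpectrum.comap (algebraMap A R) ⁻¹' {x}) |
      Algebra.QuasiFiniteAt A y.1.asIdeal} = Set.univ := by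
    ext y
    refine ⟨fun _ => trivial, fun _ => ?_⟩
    exact h y.1.asIdeal
  rw [huniv] at this
  exact Set.finite_coe_iff.1 (Set.finite_univ_iff.1 this)

/-- If `D(j)` lies in the quasi-finite locus of a finite type algebra then `R_j` is
quasi-finite. -/
theorem quasiFinite_away (A R : Type u) [CommRing A] [CommRing R] [Algebra A R]
    [Algebra.FiniteType A R] (j : R)
    (h : (PrimeSpectrum.basicOpen j : Set (PrimeSpectrum R)) ⊆
      {p : PrimeSpectrum R | Algebra.QuasiFiniteAt A p.asIdeal}) :
    Algebra.QuasiFinite A (Localization.Away j) := by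
  have : Algebra.FiniteType R (Localization.Away j) := IsLocalization.finiteType_of_monoid_fg
    (Submonoid.powers j) _
  have : Algebra.FiniteType A (Localization.Away j) := .trans ‹_› this
  refine quasiFinite_of_forall A _ fun p hp => ?_
  have hmem : PrimeSpectrum.comap (algebraMap R (Localization.Away j)) ⟨p, hp⟩ ∈
      (PrimeSpectrum.basicOpen j : Set (PrimeSpectrum R)) := by
    rw [← PrimeSpectrum.localization_away_comap_range (Localization.Away j) j]
    exact ⟨_, rfl⟩
  have h1 := h hmem
  exact (Algebra.QuasiFinite.iff_of_algEquiv (atPrimeEquiv A j (Localization.Away j) ⟨p, hp⟩)).1 h1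

end Groth.Agent.Helper3.QFLocus
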