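import Mathlib
import Groth.Agent.Helper3.QFSch

open AlgebraicGeometry CategoryTheory CategoryTheory.Limits TopologicalSpace Opposite TensorProduct

universe u

namespace Groth.Agent.Helper3.QFOne

set_option maxHeartbeats 1000000 in
theorem main {X S : Scheme.{u}} (f : X ⟶ S) [LocallyOfFiniteType f] [IsSeparated f] (x : X)
    (hx : f.QuasiFiniteAt x) :
    ∃ (U : Scheme.{u}) (g : U ⟶ S) (u : U), Etale g ∧ g u = f x ∧
      Function.Surjective (g.residueFieldMap u) ∧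
      ∃ (V : (pullback f g).Opens) (v : ↑(pullback f g)), IsClopen (V : Set ↑(pullback f g)) ∧
        IsFinite (V.ι ≫ pullback.snd f g) ∧ v ∈ V ∧ pullback.fst f g v = x ∧
        pullback.snd f g v = u ∧
        Function.Surjective ((pullback.fst f g).residueFieldMap v) ∧
        (∀ w : ↑(pullback f g), pullback.snd f g w = u →
          (w ∈ V ∨ pullback.fst f g w = x) → w = v) := by
  obtain ⟨_, ⟨S₀, hS₀, rfl⟩, hxS₀, -⟩ := S.isBasis_affineOpens.exists_subset_of_mem_open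
    (Set.mem_univ (f x)) isOpen_univ
  obtain ⟨_, ⟨W, hW, rfl⟩, hxW, hWS : W ≤ f ⁻¹ᵁ S₀⟩ :=
    X.isBasis_affineOpens.exists_subset_of_mem_open hxS₀ (f ⁻¹ᵁ S₀).2
  replace hS₀ : IsAffineOpen S₀ := hS₀
  replace hW : IsAffineOpen W := hW
  have hft : (f.appLE S₀ W hWS).hom.FiniteType := f.finiteType_appLE hS₀ hW hWS
  letI : Algebra Γ(S, S₀) Γ(X, W) := (f.appLE S₀ W hWS).hom.toAlgebra
  haveI : Algebra.FiniteType Γ(S, S₀) Γ(X, W) := hft
  let p := (hS₀.primeIdealOf ⟨f x, hxS₀⟩).asIdeal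
  let q := (hW.primeIdealOf ⟨x, hxW⟩).asIdeal
  haveI : q.LiesOver p := QFSch.liesOver_primeIdealOf f hS₀ hW hWS x hxW
  haveI : Algebra.QuasiFiniteAt Γ(S, S₀) q := hx.quasiFiniteAt hW hS₀ hWS hxW
  obtain ⟨R', _, _, _, P, _, _, hb, he⟩ := QFPieces.exists_piece p q
  haveI := hS₀.isOpenImmersion_fromSpec
  let ψ : Γ(S, S₀) ⟶ CommRingCat.of R' := CommRingCat.ofHom (algebraMap Γ(S, S₀) R')
  have hψ : ψ.hom.Etale := RingHom.etale_algebraMap.mpr inferInstance
  haveI : Etale (Spec.map ψ) := HasRingHomProperty.Spec_iff.mpr hψ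
  let g : Spec (CommRingCat.of R') ⟶ S := Spec.map ψ ≫ hS₀.fromSpec
  haveI : Etale g := inferInstance
  let u : Spec (CommRingCat.of R') := ⟨P, inferInstance⟩
  have hu : g u = f x := by
    have h1 : (Spec.map ψ) u = hS₀.primeIdealOf ⟨f x, hxS₀⟩ := by
      apply PrimeSpectrum.ext
      exact (Ideal.over_def P p).symm
    change hS₀.fromSpec ((Spec.map ψ) u) = f x
    rw [h1]
    exact hS₀.fromSpec_primeIdealOf ⟨f x, hxS₀⟩
  have TRE := QFRes.tre_of_bijective p P hb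
  obtain ⟨V, hVfin, hV⟩ := QFSch.chart_piece f hS₀ hW hWS R' P x hxW he
  obtain ⟨v, hvx, hvu⟩ := Scheme.Pullback.exists_preimage_pullback x u hu.symm
  haveI : IsFinite V.ι := IsFinite.of_comp V.ι (pullback.snd f g)
  have hVcl : IsClosed (V : Set ↑(pullback f g)) := by
    have := V.ι.isClosedMap.isClosed_range
    rwa [Scheme.Opens.range_ι] at this
  refine ⟨Spec (CommRingCat.of R'), g, u, inferInstance, hu, QFSch.residue_g hS₀ R' u TRE,
    V, v, ⟨hVcl, V.2⟩, hVfin, (hV v hvu).mpr hvx, hvx, hvu, ?_, ?_⟩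
  · exact QFSch.chart_residue f hS₀ hW hWS R' P TRE v hvu (by rw [hvx]; exact hxW)
  · intro w hwu hw
    have hwx : pullback.fst f g w = x := hw.elim (fun h => (hV w hwu).mp h) id
    exact QFSch.chart_unique f hS₀ hW hWS R' p P hb w v hwu hvu (by rw [hwx]; exact hxW)
      (hwx.trans hvx.symm)

end Groth.Agent.Helper3.QFOne
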