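import Mathlib
import Groth.Agent.Helper5.SyntCM2
import Groth.Agent.Helper3.GorKos
import Groth.Agent.Helper3.GorField2
import Groth.Agent.Helper3.GorField
import Groth.Agent.Helper7.SegGorD
import Groth.Agent.S0342
import Groth.Prelude.Def_RegImm

set_option autoImplicit false
set_option linter.style.haveILetI false
set_option linter.unusedSectionVars false
set_option linter.unusedVariables false
set_option linter.deprecated false
set_option linter.style.haveILetI false
set_option linter.unusedSectionVars false
set_option linter.unusedVariables false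

universe u

namespace Groth.Agent.Helper3.QFSynt

open CategoryTheory TensorProduct Order IsLocalRing Module RingTheory.Sequence

open Groth.Agent.Helper6.CINormal Groth.Agent.Helper2.DepthCM2 in
/-- the local rings of `k[x_1, …, x_n]/(r_1, …, r_c)` are Gorenstein as soon as the ideal has
height at least `c` -/
theorem gor_localization_quot (k : Type u) [Field k] (n c : ℕ)
    (r : Fin c → MvPolynomial (Fin n) k) (J : Ideal (MvPolynomial (Fin n) k))
    (hJdef : J = Ideal.span (Set.range r))
    (hJ : (c : ℕ∞) ≤ J.height)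
    (Q : Ideal (MvPolynomial (Fin n) k ⧸ J)) [hQ : Q.IsPrime] :
    LocCoh.IsGorensteinLocalRing (Localization.AtPrime Q) := by
  classical
  let m : Ideal (MvPolynomial (Fin n) k) := Q.comap (Ideal.Quotient.mk J)
  haveI hmprime : m.IsPrime := Ideal.comap_isPrime _ _
  have hJm : J ≤ m := by
    intro x hx
    show Ideal.Quotient.mk J x ∈ Q
    rw [Ideal.Quotient.eq_zero_iff_mem.2 hx]
    exact Q.zero_mem
  have hfm : ∀ i, r i ∈ m := fun i => hJm (by rw [hJdef]; exact Ideal.subset_span ⟨i, rfl⟩)
  have hQeq : m.map (Ideal.Quotient.mk J) = Q :=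
    Ideal.map_comap_of_surjective _ Ideal.Quotient.mk_surjective Q
  let A := Localization.AtPrime m
  haveI : IsRegularLocalRing A := IsRegularRing.isRegularLocalRing_localization m
  have hCM : LocCoh.IsCohenMacaulayModule A A :=
    Groth.Agent.Helper2.RegCM.cm_of_isRegularLocalRing A
  have hG : LocCoh.IsGorensteinLocalRing A := Groth.Agent.S0342.result A
  let xs : List A := List.ofFn (fun i => algebraMap (MvPolynomial (Fin n) k) A (r i))
  have hxs : xs.length = c := List.length_ofFn
  have hmem : ∀ x ∈ xs, x ∈ maximalIdeal A := by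
    intro x hx
    rw [List.mem_ofFn] at hx
    obtain ⟨i, rfl⟩ := hx
    rw [← Ideal.mem_comap, ← Ideal.under_def, IsLocalization.AtPrime.under_maximalIdeal A m]
    exact hfm i
  have hJle : J ≤ (Ideal.ofList xs).under (MvPolynomial (Fin n) k) := by
    rw [hJdef, Ideal.span_le]
    rintro _ ⟨i, rfl⟩
    show algebraMap _ A (r i) ∈ Ideal.ofList xs
    exact Ideal.subset_span (List.mem_ofFn.2 ⟨i, rfl⟩)
  have hht : (xs.length : ℕ∞) ≤ (Ideal.ofList xs).height := by
    rw [hxs, ← IsLocalization.height_under m.primeCompl (Ideal.ofList xs)]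
    exact hJ.trans (Ideal.height_mono hJle)
  obtain ⟨h1, hCMq⟩ := cm_quot_of_height hCM xs hmem hht
  have h2 : IsWeaklyRegular A xs := weaklyRegular_of_dim_drop xs A hCM hmem h1
  have hGq : LocCoh.IsGorensteinLocalRing (A ⧸ Ideal.ofList xs) :=
    Groth.Agent.Helper3.GorKos.gorLocal_quot_of_isWeaklyRegular xs.length A hG xs rfl h2 hmem
  let I : Ideal A := J.map (algebraMap (MvPolynomial (Fin n) k) A)
  have hI : I = Ideal.ofList xs := by
    show Ideal.map _ J = _
    rw [hJdef, Ideal.map_span]
    unfold Ideal.ofList
    congr 1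
    ext x
    simp only [Set.mem_image, Set.mem_range, exists_exists_eq_and,
      Set.mem_ofPred_eq, xs, List.mem_ofFn]
  have hGI : LocCoh.IsGorensteinLocalRing (A ⧸ I) :=
    Groth.Agent.Helper7.SegGor.gorLocal_of_ringEquiv (Ideal.quotEquivOfEq hI.symm) hGq
  haveI hLoc : IsLocalization.AtPrime (A ⧸ I) Q := by
    have := isLocalization_atPrime J m hJm
    convert this
    exact hQeq.symm
  let e : Localization.AtPrime Q ≃ₐ[MvPolynomial (Fin n) k ⧸ J] (A ⧸ I) :=
    IsLocalization.algEquiv Q.primeCompl (Localization.AtPrime Q) (A ⧸ I)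
  exact Groth.Agent.Helper7.SegGor.gorLocal_of_ringEquiv e.symm.toRingEquiv hGI

/-- Gorensteinness of all local rings transports along a ring isomorphism -/
theorem gor_localization_of_ringEquiv {R S : Type u} [CommRing R] [CommRing S] (e : R ≃+* S)
    (h : ∀ (Q : Ideal R) [Q.IsPrime], LocCoh.IsGorensteinLocalRing (Localization.AtPrime Q))
    (P : Ideal S) [hP : P.IsPrime] : LocCoh.IsGorensteinLocalRing (Localization.AtPrime P) :=
  Groth.Agent.Helper7.SegGor.gorLocal_comap e P (h _)

/-- the local rings of a global complete intersection are Gorenstein -/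
theorem gor_of_globalCI (k S : Type u) [Field k] [CommRing S] [Algebra k S]
    (h : Synt.IsGlobalCI k S) (P : Ideal S) [hP : P.IsPrime] :
    LocCoh.IsGorensteinLocalRing (Localization.AtPrime P) := by
  rcases h with hsub | ⟨n, c, hcn, φ, r, hφ, hker, hdim⟩
  · exfalso
    exact hP.ne_top (Subsingleton.elim _ _)
  · let J : Ideal (MvPolynomial (Fin n) k) := RingHom.ker φ.toRingHom
    let e : (MvPolynomial (Fin n) k ⧸ J) ≃+* S := RingHom.quotientKerEquivOfSurjective hφ
    have hdim' : ringKrullDim (MvPolynomial (Fin n) k ⧸ J) ≤ ((n - c : ℕ) : WithBot ℕ∞) := by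
      rw [ringKrullDim_eq_of_ringEquiv e, hdim]
    have hJ := Groth.Agent.Helper5.SyntCM.le_height_of_dim_quot_le k n c hcn J hdim'
    exact gor_localization_of_ringEquiv e
      (fun Q _ => gor_localization_quot k n c r J hker hJ Q) P

/-- the local rings of a local complete intersection over a field are Gorenstein -/
theorem gorLocal_of_isLCIOver (k S : Type u) [Field k] [CommRing S] [Algebra k S]
    (h : Synt.IsLCIOver k S) (p : Ideal S) [hp : p.IsPrime] :
    LocCoh.IsGorensteinLocalRing (Localization.AtPrime p) := by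
  obtain ⟨hft, hloc⟩ := h
  haveI : IsNoetherianRing S := Algebra.FiniteType.isNoetherianRing k S
  obtain ⟨g, hg, hCI⟩ := hloc ⟨p, hp⟩
  let T := Localization.Away g
  have hdisj : Disjoint (Submonoid.powers g : Set S) (p : Set S) := by
    rw [Set.disjoint_left]
    rintro _ ⟨m, rfl⟩ hm
    exact hg (hp.mem_of_pow_mem m hm)
  let p' : Ideal T := p.map (algebraMap S T)
  haveI hp' : p'.IsPrime :=
    IsLocalization.isPrime_of_isPrime_disjoint (Submonoid.powers g) T p hp hdisj
  have hcm : p'.comap (algebraMap S T) = p :=
    IsLocalization.comap_map_of_isPrime_disjoint (Submonoid.powers g) T hp hdisj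
  have hGT := gor_of_globalCI k T hCI p'
  haveI h1 : IsLocalization.AtPrime (Localization.AtPrime p') (p'.comap (algebraMap S T)) :=
    IsLocalization.isLocalization_isLocalization_atPrime_isLocalization (Submonoid.powers g) _ _
  haveI h2 : IsLocalization.AtPrime (Localization.AtPrime p') p := by
    convert h1 using 2
    exact hcm.symm
  exact Groth.Agent.Helper7.SegGor.gorLocal_of_ringEquiv
    (IsLocalization.algEquiv p.primeCompl (Localization.AtPrime p')
      (Localization.AtPrime p)).toRingEquiv hGT

end Groth.Agent.Helper3.QFSynt
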