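import Mathlib
import Groth.Prelude.Def_QFDual
import Groth.Prelude.Def_RegImm
import Groth.Agent.Helper3.QFInv3
import Groth.Agent.Helper3.QFSynt1
import Groth.Agent.Helper3.OmegaGor5
import Groth.Agent.Helper3.GorField2

set_option autoImplicit false
set_option linter.style.haveILetI false
set_option linter.unusedSectionVars false
set_option linter.unusedVariables false
set_option linter.deprecated false
set_option linter.style.haveILetI false
set_option linter.unusedSectionVars false
set_option linter.unusedVariables false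

universe u

namespace Groth.Agent.Helper3.QFSynt

open TensorProduct Module IsLocalRing AlgebraicGeometry CategoryTheory

/-- **(INVLOC)** a finitely presented module which is free of rank one at every maximal ideal is
invertible -/
theorem invertible_of_locally_free_rank_one (R M : Type u) [CommRing R] [AddCommGroup M]
    [Module R M] [Module.FinitePresentation R M]
    (h : ∀ (P : Ideal R) [P.IsMaximal], Nonempty (Localization.AtPrime P ⊗[R] M
      ≃ₗ[Localization.AtPrime P] Localization.AtPrime P)) : Module.Invertible R M := by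
  let s : Set R := {r | Nonempty (LocalizedModule.Away r M ≃ₗ[Localization.Away r]
    Localization.Away r)}
  apply Groth.Agent.Helper6.InvLoc.main R _ s ?_ (fun f hf => hf)
  by_contra hne
  obtain ⟨P, hPmax, hsP⟩ := Ideal.exists_le_maximal _ hne
  haveI := hPmax.isPrime
  obtain ⟨eP⟩ := h P
  haveI : Module.Free (Localization.AtPrime P) (Localization.AtPrime P ⊗[R] M) :=
    Module.Free.of_equiv eP.symm
  obtain ⟨r, hr, hfree, hrank⟩ := Module.FinitePresentation.exists_free_localizedModule_powers
    P.primeCompl (TensorProduct.mk R (Localization.AtPrime P) M 1) (Localization.AtPrime P)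
  have h1 : Module.finrank (Localization.AtPrime P) (Localization.AtPrime P ⊗[R] M) = 1 := by
    rw [LinearEquiv.finrank_eq eP, Module.finrank_self]
  haveI := hfree
  haveI : Nontrivial (Localization (Submonoid.powers r)) :=
    (show Localization (.powers r) →+* Localization.AtPrime P from
      IsLocalization.map (M := .powers r) (T := P.primeCompl) _
      (RingHom.id _) (Submonoid.powers_le.mpr hr)).domain_nontrivial
  have hrs : r ∈ s :=
    Groth.Agent.Helper3.QFInv.nonempty_equiv_of_free_finrank_one _ _ (hrank.trans h1)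
  exact hr (hsP (Ideal.subset_span hrs))

/-- the field case: `ω` of an open part of a finite algebra over a field is invertible when the
local rings are Gorenstein -/
theorem invertible_omega_field (κ B'₁ B₁ : Type u) [Field κ] [CommRing B'₁] [CommRing B₁]
    [Algebra κ B'₁] [Module.Finite κ B'₁] [Algebra B'₁ B₁]
    (hopen : IsOpenImmersion (Spec.map (CommRingCat.ofHom (algebraMap B'₁ B₁))))
    (hgor : ∀ (P : Ideal B₁) [P.IsPrime],
      LocCoh.IsGorensteinLocalRing (Localization.AtPrime P)) :
    Module.Invertible B₁ (B₁ ⊗[B'₁] Disc.Omega κ B'₁) := by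
  haveI : IsNoetherianRing B'₁ := IsNoetherianRing.of_finite κ B'₁
  haveI : IsArtinianRing B'₁ := IsArtinianRing.of_finite κ B'₁
  haveI : Module.Finite B'₁ (Disc.Omega κ B'₁) := by
    letI : Module κ (Disc.Omega κ B'₁) := Module.compHom _ (algebraMap κ B'₁)
    haveI : IsScalarTower κ B'₁ (Disc.Omega κ B'₁) :=
      IsScalarTower.of_algebraMap_smul (fun _ _ => rfl)
    let e : Disc.Omega κ B'₁ ≃ₗ[κ] Module.Dual κ B'₁ :=
      { toFun := Disc.Omega.toLinearMap
        invFun := Disc.Omega.mk
        left_inv := fun _ => rfl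
        right_inv := fun _ => rfl
        map_add' := fun _ _ => rfl
        map_smul' := fun a φ => by
          apply LinearMap.ext
          intro x
          change φ.toLinearMap (algebraMap κ B'₁ a * x) = a • φ.toLinearMap x
          rw [← Algebra.smul_def, map_smul] }
    haveI : Module.Finite κ (Disc.Omega κ B'₁) := Module.Finite.equiv e.symm
    exact Module.Finite.of_restrictScalars_finite κ B'₁ _
  haveI : Module.FinitePresentation B'₁ (Disc.Omega κ B'₁) :=
    Module.finitePresentation_of_finite B'₁ _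
  haveI : Module.FinitePresentation B₁ (B₁ ⊗[B'₁] Disc.Omega κ B'₁) := inferInstance
  apply invertible_of_locally_free_rank_one
  intro P hPmax
  haveI : P.IsPrime := hPmax.isPrime
  set P' : Ideal B'₁ := P.comap (algebraMap B'₁ B₁) with hP'
  haveI : P'.IsPrime := Ideal.comap_isPrime _ _
  let T := Localization.AtPrime P'
  let BP := Localization.AtPrime P
  have hbij := Groth.Agent.Helper3.QFCore.localRingHom_bijective_of_isOpenImmersion hopen P
  let ρ : T →+* BP := Localization.localRingHom P' P (algebraMap B'₁ B₁) rfl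
  have hGT : LocCoh.IsGorensteinLocalRing T :=
    Groth.Agent.Helper7.SegGor.gorLocal_of_ringEquiv (RingEquiv.ofBijective ρ hbij).symm (hgor P)
  have hsurj : Function.Surjective (algebraMap B'₁ T) :=
    IsArtinianRing.localization_surjective P'.primeCompl T
  obtain ⟨e, he, hker⟩ := Groth.Agent.Helper3.QFCore.exists_idem_of_surjective_localization
    (R := B'₁) (C := T) P'.primeCompl hsurj
  let eI : T ⊗[B'₁] Disc.Omega κ B'₁ ≃ₗ[T] Disc.Omega κ T :=
    Groth.Agent.Helper3.QFCore.omegaIdemEquiv hsurj e he hker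
  haveI : Module.Finite κ T :=
    Module.Finite.of_surjective (IsScalarTower.toAlgHom κ B'₁ T).toLinearMap hsurj
  haveI : LocCoh.IsGorensteinRing T :=
    @Groth.Agent.Helper3.GorField2.gorenstein_of_gorLocal T _ hGT
  obtain ⟨eG⟩ := Groth.Agent.Helper3.OmegaGor.nonempty_omega_equiv_of_gorenstein κ T
  let eT : T ⊗[B'₁] Disc.Omega κ B'₁ ≃ₗ[T] T := eI.trans eG
  letI : Algebra T BP := ρ.toAlgebra
  haveI : IsScalarTower B'₁ T BP := IsScalarTower.of_algebraMap_eq (fun b => by
    show algebraMap B'₁ BP b = ρ (algebraMap B'₁ T b)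
    rw [Localization.localRingHom_to_map]
    exact IsScalarTower.algebraMap_apply B'₁ B₁ BP b)
  let g1 : BP ⊗[B₁] (B₁ ⊗[B'₁] Disc.Omega κ B'₁) ≃ₗ[BP] BP ⊗[B'₁] Disc.Omega κ B'₁ :=
    TensorProduct.AlgebraTensorModule.cancelBaseChange B'₁ B₁ BP BP (Disc.Omega κ B'₁)
  let g2 : BP ⊗[T] (T ⊗[B'₁] Disc.Omega κ B'₁) ≃ₗ[BP] BP ⊗[B'₁] Disc.Omega κ B'₁ :=
    TensorProduct.AlgebraTensorModule.cancelBaseChange B'₁ T BP BP (Disc.Omega κ B'₁)
  let g3 : BP ⊗[T] (T ⊗[B'₁] Disc.Omega κ B'₁) ≃ₗ[BP] BP ⊗[T] T :=
    TensorProduct.AlgebraTensorModule.congr (LinearEquiv.refl BP BP) eT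
  let g4 : BP ⊗[T] T ≃ₗ[BP] BP := TensorProduct.AlgebraTensorModule.rid T BP BP
  exact ⟨g1 ≪≫ₗ g2.symm ≪≫ₗ g3 ≪≫ₗ g4⟩

section Main

variable (A B' B : Type u) [CommRing A] [CommRing B'] [CommRing B] [IsNoetherianRing A]
  [IsNoetherianRing B] [Algebra A B'] [Algebra B' B] [Algebra A B] [IsScalarTower A B' B]
  [Module.Flat A B] [Module.Finite A B']
  (hopen : IsOpenImmersion (Spec.map (CommRingCat.ofHom (algebraMap B' B))))

include hopen in
theorem fibreCond_of_isSyntomic (hs : Synt.IsSyntomic A B) :
    Groth.Agent.Helper3.QFInv.FibreCond A B' B := by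
  intro p _ B'₁ B₁ _ _ _ _ _ _ _ _ _ _ _ _ _ _ _ _ _ h' hB
  haveI : Module.Finite p.ResidueField B'₁ := Module.Finite.equiv h'.out.equiv
  -- the open immersion on the fibre
  haveI : IsScalarTower A B'₁ B₁ := IsScalarTower.of_algebraMap_eq (fun a => by
    rw [IsScalarTower.algebraMap_apply A p.ResidueField B'₁,
      ← IsScalarTower.algebraMap_apply p.ResidueField B'₁ B₁,
      ← IsScalarTower.algebraMap_apply A p.ResidueField B₁])
  haveI : Algebra.IsPushout A B' p.ResidueField B'₁ := h'.symm
  have hP : Algebra.IsPushout B' B B'₁ B₁ :=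
    (Algebra.IsPushout.comp_iff A B' p.ResidueField B'₁ (T := B) (T' := B₁)).1 hB.symm
  have hpo := CommRingCat.isPushout_of_isPushout B' B B'₁ B₁
  have hpb := isPullback_SpecMap_of_isPushout _ _ _ _ hpo
  have hopen₁ : IsOpenImmersion (Spec.map (CommRingCat.ofHom (algebraMap B'₁ B₁))) :=
    MorphismProperty.of_isPullback (P := @IsOpenImmersion) hpb hopen
  -- Gorenstein local rings
  let e : p.ResidueField ⊗[A] B ≃ₐ[p.ResidueField] B₁ := Algebra.IsPushout.equiv A p.ResidueField B B₁
  have hlci : Synt.IsLCIOver p.ResidueField (p.Fiber B) := hs.2.2 ⟨p, inferInstance⟩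
  have hgor : ∀ (P : Ideal B₁) [P.IsPrime],
      LocCoh.IsGorensteinLocalRing (Localization.AtPrime P) := fun P _ =>
    gor_localization_of_ringEquiv e.toRingEquiv
      (fun Q _ => gorLocal_of_isLCIOver p.ResidueField _ hlci Q) P
  exact invertible_omega_field p.ResidueField B'₁ B₁ hopen₁ hgor

end Main

/-- **S8964** -/
theorem s8964 (A B' B : Type u) [CommRing A] [CommRing B'] [CommRing B] [IsNoetherianRing A]
    [Algebra A B'] [Algebra B' B] [Algebra A B] [IsScalarTower A B' B] [Module.Finite A B']
    (hopen : IsOpenImmersion (Spec.map (CommRingCat.ofHom (algebraMap B' B))))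
    (hs : Synt.IsSyntomic A B) : Module.Invertible B (B ⊗[B'] Disc.Omega A B') := by
  haveI : Module.Flat A B := hs.1
  haveI : Algebra.FinitePresentation A B := hs.2.1
  haveI : IsNoetherianRing B := Algebra.FiniteType.isNoetherianRing A B
  exact Groth.Agent.Helper3.QFInv.invertible_of_fibreCond A B' B hopen
    (fibreCond_of_isSyntomic A B' B hopen hs)

end Groth.Agent.Helper3.QFSynt
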