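import Mathlib
set_option backward.isDefEq.respectTransparency.types false
set_option maxHeartbeats 4000000
set_option synthInstance.maxHeartbeats 400000

open Set TopologicalSpace

namespace Groth.Agent.Helper3.QHomeo

universe u

variable {X Y : Type u} [TopologicalSpace X] [TopologicalSpace Y]

/-- quasi-constructible: finite union of locally closed sets. -/
def QC (Z : Set X) : Prop :=
  ∃ T : Set (Set X), T.Finite ∧ (∀ t ∈ T, IsLocallyClosed t) ∧ Z = ⋃₀ T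

/-- local quasi-constructibility, ambient form. -/
def LQC' (Z : Set X) : Prop := ∀ x : X, ∃ V : Set X, IsOpen V ∧ x ∈ V ∧ QC (Z ∩ V)

/-- local quasi-constructibility, subtype form (as in the statements). -/
def LQC (Z : Set X) : Prop := ∀ x : X, ∃ V : Set X, IsOpen V ∧ x ∈ V ∧
  ∃ T : Set (Set V), T.Finite ∧ (∀ t ∈ T, IsLocallyClosed t) ∧ (Subtype.val ⁻¹' Z : Set V) = ⋃₀ T

theorem QC.inter_open {Z V : Set X} (hZ : QC Z) (hV : IsOpen V) : QC (Z ∩ V) := by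
  obtain ⟨T, hT, hlc, rfl⟩ := hZ
  refine ⟨(fun t => t ∩ V) '' T, hT.image _, ?_, ?_⟩
  · rintro _ ⟨t, ht, rfl⟩
    exact (hlc t ht).inter hV.isLocallyClosed
  · rw [sUnion_image, sUnion_eq_biUnion, iUnion₂_inter]

theorem QC.preimage {Z : Set Y} (hZ : QC Z) {f : X → Y} (hf : Continuous f) : QC (f ⁻¹' Z) := by
  obtain ⟨T, hT, hlc, rfl⟩ := hZ
  refine ⟨(fun t => f ⁻¹' t) '' T, hT.image _, ?_, ?_⟩
  · rintro _ ⟨t, ht, rfl⟩
    exact (hlc t ht).preimage hf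
  · rw [sUnion_image, preimage_sUnion]

theorem lqc_iff (Z : Set X) : LQC Z ↔ LQC' Z := by
  constructor
  · intro h x
    obtain ⟨V, hV, hxV, T, hT, hlc, hZT⟩ := h x
    refine ⟨V, hV, hxV, (fun t => Subtype.val '' t) '' T, hT.image _, ?_, ?_⟩
    · rintro _ ⟨t, ht, rfl⟩
      refine (hlc t ht).image Topology.IsInducing.subtypeVal ?_
      rw [Subtype.range_coe]
      exact hV.isLocallyClosed
    · rw [sUnion_image]
      have : Z ∩ V = Subtype.val '' (Subtype.val ⁻¹' Z : Set V) := by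
        rw [Subtype.image_preimage_coe, inter_comm]
      rw [this, hZT, sUnion_eq_biUnion, image_iUnion₂]
  · intro h x
    obtain ⟨V, hV, hxV, T, hT, hlc, hZT⟩ := h x
    refine ⟨V, hV, hxV, (fun t => (Subtype.val ⁻¹' t : Set V)) '' T, hT.image _, ?_, ?_⟩
    · rintro _ ⟨t, ht, rfl⟩
      exact (hlc t ht).preimage continuous_subtype_val
    · rw [sUnion_image]
      have : (Subtype.val ⁻¹' Z : Set V) = Subtype.val ⁻¹' (Z ∩ V) := by
        ext ⟨y, hy⟩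
        simp [hy]
      rw [this, hZT, preimage_sUnion]

/-- If `y ∉ Z'` with `Z'` quasi-constructible, some locally closed `N ∋ y` misses `Z'`. -/
theorem exists_locallyClosed_disjoint {Z' : Set X} (hZ' : QC Z') {y : X} (hy : y ∉ Z') :
    ∃ N : Set X, IsLocallyClosed N ∧ y ∈ N ∧ N ∩ Z' = ∅ := by
  obtain ⟨T, hT, hlc, rfl⟩ := hZ'
  induction T, hT using Set.Finite.induction_on with
  | empty => exact ⟨univ, isOpen_univ.isLocallyClosed, mem_univ _, by simp⟩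
  | @insert t T ht hT ih =>
    have hy1 : y ∉ t := fun h => hy ⟨t, mem_insert _ _, h⟩
    have hy2 : y ∉ ⋃₀ T := fun ⟨s, hs, h⟩ => hy ⟨s, mem_insert_of_mem _ hs, h⟩
    obtain ⟨N, hN, hyN, hNT⟩ := ih (fun s hs => hlc s (mem_insert_of_mem _ hs)) hy2
    obtain ⟨U, C, hU, hC, rfl⟩ := hlc t (mem_insert _ _)
    have hcase : y ∉ U ∨ y ∉ C := by
      by_contra hcon
      rw [not_or, not_not, not_not] at hcon
      exact hy1 hcon
    rcases hcase with h | h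
    · refine ⟨N ∩ Uᶜ, hN.inter hU.isClosed_compl.isLocallyClosed, ⟨hyN, h⟩, ?_⟩
      rw [sUnion_insert, inter_union_distrib_left]
      have h1 : N ∩ Uᶜ ∩ (U ∩ C) = ∅ := by
        ext z; simp only [mem_inter_iff, mem_compl_iff, mem_empty_iff_false, iff_false]; tauto
      have h2 : N ∩ Uᶜ ∩ ⋃₀ T = ∅ := by
        rw [inter_right_comm, hNT, empty_inter]
      rw [h1, h2, union_empty]
    · refine ⟨N ∩ Cᶜ, hN.inter hC.isOpen_compl.isLocallyClosed, ⟨hyN, h⟩, ?_⟩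
      rw [sUnion_insert, inter_union_distrib_left]
      have h1 : N ∩ Cᶜ ∩ (U ∩ C) = ∅ := by
        ext z; simp only [mem_inter_iff, mem_compl_iff, mem_empty_iff_false, iff_false]; tauto
      have h2 : N ∩ Cᶜ ∩ ⋃₀ T = ∅ := by
        rw [inter_right_comm, hNT, empty_inter]
      rw [h1, h2, union_empty]

section

variable (f : X → Y) (hf : Continuous f)
  (hq : Function.Bijective (fun U : Opens Y =>
      (⟨f ⁻¹' (U : Set Y), U.isOpen.preimage hf⟩ : Opens X)))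

include hq

theorem open_inj {U V : Set Y} (hU : IsOpen U) (hV : IsOpen V) (h : f ⁻¹' U = f ⁻¹' V) :
    U = V := by
  have := @hq.1 ⟨U, hU⟩ ⟨V, hV⟩ (Opens.ext h)
  exact congrArg (fun W : Opens Y => (W : Set Y)) this

theorem open_surj {U' : Set X} (hU' : IsOpen U') : ∃ U : Set Y, IsOpen U ∧ f ⁻¹' U = U' := by
  obtain ⟨U, hU⟩ := hq.2 ⟨U', hU'⟩
  exact ⟨U, U.isOpen, congrArg (fun W : Opens X => (W : Set X)) hU⟩

theorem closed_surj {C' : Set X} (hC' : IsClosed C') : ∃ C : Set Y, IsClosed C ∧ f ⁻¹' C = C' := by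
  obtain ⟨U, hU, hUC⟩ := open_surj f hf hq hC'.isOpen_compl
  refine ⟨Uᶜ, hU.isClosed_compl, ?_⟩
  rw [preimage_compl, hUC, compl_compl]

theorem locallyClosed_surj {L' : Set X} (hL' : IsLocallyClosed L') :
    ∃ L : Set Y, IsLocallyClosed L ∧ f ⁻¹' L = L' := by
  obtain ⟨U', C', hU', hC', rfl⟩ := hL'
  obtain ⟨U, hU, rfl⟩ := open_surj f hf hq hU'
  obtain ⟨C, hC, rfl⟩ := closed_surj f hf hq hC'
  exact ⟨U ∩ C, ⟨U, C, hU, hC, rfl⟩, preimage_inter⟩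

/-- the image of `f` meets every nonempty locally closed set. -/
theorem locallyClosed_eq_empty {L : Set Y} (hL : IsLocallyClosed L) (h : f ⁻¹' L = ∅) : L = ∅ := by
  obtain ⟨U, C, hU, hC, rfl⟩ := hL
  have h1 : f ⁻¹' U = f ⁻¹' (U ∩ Cᶜ) := by
    ext x
    simp only [mem_preimage, mem_inter_iff, mem_compl_iff]
    constructor
    · intro hx
      refine ⟨hx, fun hxC => ?_⟩
      have : x ∈ f ⁻¹' (U ∩ C) := ⟨hx, hxC⟩
      rw [h] at this
      exact this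
    · exact fun hx => hx.1
  have h2 := open_inj f hf hq hU (hU.inter hC.isOpen_compl) h1
  ext y
  simp only [mem_inter_iff, mem_empty_iff_false, iff_false, not_and]
  intro hyU hyC
  rw [h2] at hyU
  exact hyU.2 hyC

theorem qc_subset_of_preimage {Z Z' : Set Y} (hZ : QC Z) (hZ' : QC Z')
    (h : f ⁻¹' Z ⊆ f ⁻¹' Z') : Z ⊆ Z' := by
  intro y hy
  by_contra hy'
  obtain ⟨T, hT, hlc, rfl⟩ := hZ
  obtain ⟨L, hLT, hyL⟩ := hy
  obtain ⟨N, hN, hyN, hNZ'⟩ := exists_locallyClosed_disjoint hZ' hy'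
  have hne : f ⁻¹' (L ∩ N) ≠ ∅ := by
    intro hempty
    have := locallyClosed_eq_empty f hf hq ((hlc L hLT).inter hN) hempty
    exact (this ▸ (⟨hyL, hyN⟩ : y ∈ L ∩ N) : y ∈ (∅ : Set Y))
  obtain ⟨x, hx⟩ := nonempty_iff_ne_empty.mpr hne
  have hx1 : f x ∈ ⋃₀ T := ⟨L, hLT, hx.1⟩
  have hx2 : f x ∈ Z' := h hx1
  have : f x ∈ N ∩ Z' := ⟨hx.2, hx2⟩
  rw [hNZ'] at this
  exact this

theorem qc_inj {Z Z' : Set Y} (hZ : QC Z) (hZ' : QC Z')
    (h : f ⁻¹' Z = f ⁻¹' Z') : Z = Z' :=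
  Subset.antisymm (qc_subset_of_preimage f hf hq hZ hZ' h.subset)
    (qc_subset_of_preimage f hf hq hZ' hZ h.symm.subset)

theorem qc_surj {Z' : Set X} (hZ' : QC Z') : ∃ Z : Set Y, QC Z ∧ f ⁻¹' Z = Z' := by
  obtain ⟨T', hT', hlc', rfl⟩ := hZ'
  have hch : ∀ t' : T', ∃ t : Set Y, IsLocallyClosed t ∧ f ⁻¹' t = t'.1 :=
    fun t' => locallyClosed_surj f hf hq (hlc' t'.1 t'.2)
  choose g hg1 hg2 using hch
  have : Finite T' := hT'.to_subtype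
  refine ⟨⋃₀ (range g), ⟨range g, finite_range g, ?_, rfl⟩, ?_⟩
  · rintro _ ⟨t', rfl⟩
    exact hg1 t'
  · rw [preimage_sUnion]
    ext x
    simp only [mem_iUnion, mem_range, exists_prop, mem_sUnion, mem_preimage]
    constructor
    · rintro ⟨_, ⟨t', rfl⟩, hx⟩
      refine ⟨t'.1, t'.2, ?_⟩
      rw [← hg2 t']
      exact hx
    · rintro ⟨t', ht', hx⟩
      refine ⟨g ⟨t', ht'⟩, ⟨⟨t', ht'⟩, rfl⟩, ?_⟩
      have := hg2 ⟨t', ht'⟩
      show x ∈ f ⁻¹' g ⟨t', ht'⟩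
      rw [this]
      exact hx

theorem qc_bijOn : Set.BijOn (fun Z : Set Y => f ⁻¹' Z) {Z | QC Z} {Z | QC Z} := by
  refine ⟨fun Z hZ => QC.preimage hZ hf, fun Z hZ Z' hZ' h => qc_inj f hf hq hZ hZ' h, ?_⟩
  intro Z' hZ'
  obtain ⟨Z, hZ, h⟩ := qc_surj f hf hq hZ'
  exact ⟨Z, hZ, h⟩

theorem lqc'_preimage {Z : Set Y} (hZ : LQC' Z) : LQC' (f ⁻¹' Z) := by
  intro x
  obtain ⟨V, hV, hxV, hqc⟩ := hZ (f x)
  refine ⟨f ⁻¹' V, hV.preimage hf, hxV, ?_⟩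
  rw [← preimage_inter]
  exact hqc.preimage hf

theorem lqc'_inj {Z₁ Z₂ : Set Y} (h₁ : LQC' Z₁) (h₂ : LQC' Z₂)
    (h : f ⁻¹' Z₁ = f ⁻¹' Z₂) : Z₁ = Z₂ := by
  ext y
  obtain ⟨V₁, hV₁, hy₁, hq₁⟩ := h₁ y
  obtain ⟨V₂, hV₂, hy₂, hq₂⟩ := h₂ y
  have e₁ : Z₁ ∩ (V₁ ∩ V₂) = Z₁ ∩ V₁ ∩ V₂ := (inter_assoc _ _ _).symm
  have e₂ : Z₂ ∩ (V₁ ∩ V₂) = Z₂ ∩ V₂ ∩ V₁ := by
    rw [inter_comm V₁ V₂, inter_assoc]
  have q₁ : QC (Z₁ ∩ (V₁ ∩ V₂)) := e₁ ▸ hq₁.inter_open hV₂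
  have q₂ : QC (Z₂ ∩ (V₁ ∩ V₂)) := e₂ ▸ hq₂.inter_open hV₁
  have heq : Z₁ ∩ (V₁ ∩ V₂) = Z₂ ∩ (V₁ ∩ V₂) := by
    apply qc_inj f hf hq q₁ q₂
    simp only [preimage_inter, h]
  constructor
  · intro hy
    have : y ∈ Z₁ ∩ (V₁ ∩ V₂) := ⟨hy, hy₁, hy₂⟩
    rw [heq] at this
    exact this.1
  · intro hy
    have : y ∈ Z₂ ∩ (V₁ ∩ V₂) := ⟨hy, hy₁, hy₂⟩
    rw [← heq] at this
    exact this.1

theorem lqc'_surj {Z' : Set X} (hZ' : LQC' Z') : ∃ Z : Set Y, LQC' Z ∧ f ⁻¹' Z = Z' := by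
  choose V' hV' hxV' hqc' using hZ'
  have h1 : ∀ x, ∃ V : Set Y, IsOpen V ∧ f ⁻¹' V = V' x := fun x => open_surj f hf hq (hV' x)
  choose V hV hVV' using h1
  have h2 : ∀ x, ∃ W : Set Y, QC W ∧ f ⁻¹' W = Z' ∩ V' x := fun x => qc_surj f hf hq (hqc' x)
  choose W₀ hW₀ hW₀' using h2
  -- shrink W to lie in V
  obtain ⟨W, hW, hW', hWV⟩ : ∃ W : X → Set Y, (∀ x, QC (W x)) ∧
      (∀ x, f ⁻¹' (W x) = Z' ∩ V' x) ∧ ∀ x, W x ⊆ V x := by
    refine ⟨fun x => W₀ x ∩ V x, fun x => (hW₀ x).inter_open (hV x), fun x => ?_,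
      fun x => inter_subset_right⟩
    simp only [preimage_inter, hW₀', hVV', inter_assoc, inter_self]
  have hcover : ⋃ x, V x = univ := by
    apply open_inj f hf hq (isOpen_iUnion hV) isOpen_univ
    rw [preimage_iUnion, preimage_univ]
    apply eq_univ_of_forall
    intro x
    exact mem_iUnion.2 ⟨x, by rw [hVV']; exact hxV' x⟩
  have hcompat : ∀ x x₀, W x ∩ V x₀ = W x₀ ∩ V x := by
    intro x x₀
    apply qc_inj f hf hq ((hW x).inter_open (hV x₀)) ((hW x₀).inter_open (hV x))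
    rw [preimage_inter, preimage_inter, hW', hW', hVV', hVV']
    ext z
    simp only [mem_inter_iff]
    tauto
  refine ⟨⋃ x, W x, ?_, ?_⟩
  · intro y
    have hy : y ∈ ⋃ x, V x := hcover ▸ mem_univ y
    obtain ⟨x₀, hx₀⟩ := mem_iUnion.1 hy
    refine ⟨V x₀, hV x₀, hx₀, ?_⟩
    have : (⋃ x, W x) ∩ V x₀ = W x₀ := by
      apply Subset.antisymm
      · rintro z ⟨hz, hzV⟩
        obtain ⟨x, hx⟩ := mem_iUnion.1 hz
        have : z ∈ W x ∩ V x₀ := ⟨hx, hzV⟩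
        rw [hcompat] at this
        exact this.1
      · intro z hz
        exact ⟨mem_iUnion.2 ⟨x₀, hz⟩, hWV x₀ hz⟩
    rw [this]
    exact hW x₀
  · rw [preimage_iUnion]
    ext z
    simp only [mem_iUnion]
    constructor
    · rintro ⟨x, hx⟩
      have : z ∈ f ⁻¹' W x := hx
      rw [hW'] at this
      exact this.1
    · intro hz
      refine ⟨z, ?_⟩
      show z ∈ f ⁻¹' W z
      rw [hW']
      exact ⟨hz, hxV' z⟩

theorem lqc_bijOn : Set.BijOn (fun Z : Set Y => f ⁻¹' Z) {Z | LQC Z} {Z | LQC Z} := by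
  refine ⟨fun Z hZ => ?_, fun Z hZ Z' hZ' h => ?_, ?_⟩
  · exact (lqc_iff _).2 (lqc'_preimage f hf hq ((lqc_iff _).1 hZ))
  · exact lqc'_inj f hf hq ((lqc_iff _).1 hZ) ((lqc_iff _).1 hZ') h
  · intro Z' hZ'
    obtain ⟨Z, hZ, h⟩ := lqc'_surj f hf hq ((lqc_iff _).1 hZ')
    exact ⟨Z, (lqc_iff _).2 hZ, h⟩

end

end Groth.Agent.Helper3.QHomeo
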