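import Groth.Agent.Helper3.QHomeo
set_option backward.isDefEq.respectTransparency.types false
set_option maxHeartbeats 4000000
set_option synthInstance.maxHeartbeats 400000

open Set TopologicalSpace Topology
open scoped Set.Notation

namespace Groth.Agent.Helper3.QHomeo

universe u

variable {X Y : Type u} [TopologicalSpace X] [TopologicalSpace Y]

theorem QC.of_isLocallyClosed {L : Set X} (hL : IsLocallyClosed L) : QC L :=
  ⟨{L}, finite_singleton _, fun t ht => by rw [mem_singleton_iff.1 ht]; exact hL, by simp⟩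

theorem QC.union {Z₁ Z₂ : Set X} (h₁ : QC Z₁) (h₂ : QC Z₂) : QC (Z₁ ∪ Z₂) := by
  obtain ⟨T₁, hT₁, hl₁, rfl⟩ := h₁
  obtain ⟨T₂, hT₂, hl₂, rfl⟩ := h₂
  refine ⟨T₁ ∪ T₂, hT₁.union hT₂, ?_, (sUnion_union T₁ T₂).symm⟩
  rintro t (ht | ht)
  · exact hl₁ t ht
  · exact hl₂ t ht

theorem QC.inter {Z₁ Z₂ : Set X} (h₁ : QC Z₁) (h₂ : QC Z₂) : QC (Z₁ ∩ Z₂) := by
  obtain ⟨T₁, hT₁, hl₁, rfl⟩ := h₁
  obtain ⟨T₂, hT₂, hl₂, rfl⟩ := h₂
  refine ⟨Set.image2 (· ∩ ·) T₁ T₂, hT₁.image2 _ hT₂, ?_, ?_⟩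
  · rintro _ ⟨s, hs, t, ht, rfl⟩
    exact (hl₁ s hs).inter (hl₂ t ht)
  · ext x
    simp only [mem_inter_iff, mem_sUnion, mem_image2, exists_exists_and_exists_and_eq_and]
    constructor
    · rintro ⟨⟨s, hs, hxs⟩, ⟨t, ht, hxt⟩⟩
      exact ⟨s, hs, t, ht, hxs, hxt⟩
    · rintro ⟨s, hs, t, ht, hxs, hxt⟩
      exact ⟨⟨s, hs, hxs⟩, ⟨t, ht, hxt⟩⟩

theorem QC.compl {Z : Set X} (h : QC Z) : QC Zᶜ := by
  obtain ⟨T, hT, hl, rfl⟩ := h
  induction T, hT using Set.Finite.induction_on with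
  | empty =>
    simp only [sUnion_empty, compl_empty]
    exact QC.of_isLocallyClosed isOpen_univ.isLocallyClosed
  | @insert t T ht hT ih =>
    rw [sUnion_insert, compl_union]
    refine QC.inter ?_ (ih fun s hs => hl s (mem_insert_of_mem _ hs))
    obtain ⟨U, C, hU, hC, rfl⟩ := hl t (mem_insert _ _)
    rw [compl_inter]
    exact (QC.of_isLocallyClosed hU.isClosed_compl.isLocallyClosed).union
      (QC.of_isLocallyClosed hC.isOpen_compl.isLocallyClosed)

theorem QC.of_isConstructible {Z : Set X} (h : IsConstructible Z) : QC Z := by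
  induction h using IsConstructible.empty_union_induction with
  | open_retrocompact U hU _ => exact QC.of_isLocallyClosed hU.isLocallyClosed
  | union s _ t _ hs ht => exact hs.union ht
  | compl s _ hs => exact hs.compl

/-- image of a quasi-constructible subset of an open subspace. -/
theorem QC.image_val {V : Set X} (hV : IsOpen V) {W : Set V} (hW : QC W) :
    QC (Subtype.val '' W) := by
  obtain ⟨T, hT, hlc, rfl⟩ := hW
  refine ⟨(fun t => Subtype.val '' t) '' T, hT.image _, ?_, ?_⟩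
  · rintro _ ⟨t, ht, rfl⟩
    refine (hlc t ht).image Topology.IsInducing.subtypeVal ?_
    rw [Subtype.range_coe]
    exact hV.isLocallyClosed
  · rw [sUnion_image, sUnion_eq_biUnion, image_iUnion₂]

theorem lqc'_of_isLocallyConstructible {Z : Set X} (h : IsLocallyConstructible Z) : LQC' Z := by
  intro x
  obtain ⟨V, hVx, hV, hc⟩ := h x
  refine ⟨V, hV, mem_of_mem_nhds hVx, ?_⟩
  have := (QC.of_isConstructible hc).image_val hV
  rwa [Subtype.image_preimage_coe, inter_comm] at this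

section

variable (f : X → Y) (hf : Continuous f)
  (hq : Function.Bijective (fun U : Opens Y =>
      (⟨f ⁻¹' (U : Set Y), U.isOpen.preimage hf⟩ : Opens X)))

include hq

theorem open_subset_of_preimage {U V : Set Y} (hU : IsOpen U) (hV : IsOpen V)
    (h : f ⁻¹' U ⊆ f ⁻¹' V) : U ⊆ V := by
  have h1 : f ⁻¹' U = f ⁻¹' (U ∩ V) := by
    rw [preimage_inter]; exact (inter_eq_left.2 h).symm
  have h2 := open_inj f hf hq hU (hU.inter hV) h1
  rw [h2]; exact inter_subset_right

theorem isCompact_of_preimage {U : Set Y} (hU : IsOpen U) (h : IsCompact (f ⁻¹' U)) :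
    IsCompact U := by
  rw [isCompact_iff_finite_subcover]
  intro ι V hV hUV
  obtain ⟨t, ht⟩ := h.elim_finite_subcover (fun i => f ⁻¹' V i) (fun i => (hV i).preimage hf)
    (by rw [← preimage_iUnion]; exact preimage_mono hUV)
  refine ⟨t, ?_⟩
  apply open_subset_of_preimage f hf hq hU (isOpen_biUnion fun i _ => hV i)
  rw [preimage_iUnion₂]
  exact ht

theorem isCompact_preimage {U : Set Y} (hU : IsOpen U) (h : IsCompact U) :
    IsCompact (f ⁻¹' U) := by
  rw [isCompact_iff_finite_subcover]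
  intro ι V' hV' hUV'
  have hch : ∀ i, ∃ V : Set Y, IsOpen V ∧ f ⁻¹' V = V' i := fun i => open_surj f hf hq (hV' i)
  choose V hV hVV' using hch
  have hUV : U ⊆ ⋃ i, V i := by
    apply open_subset_of_preimage f hf hq hU (isOpen_iUnion hV)
    rw [preimage_iUnion]
    simp only [hVV']
    exact hUV'
  obtain ⟨t, ht⟩ := h.elim_finite_subcover V hV hUV
  refine ⟨t, ?_⟩
  have := preimage_mono (f := f) ht
  rw [preimage_iUnion₂] at this
  simpa only [hVV'] using this

theorem isRetrocompact_preimage {U : Set Y} (hUo : IsOpen U) (hU : IsRetrocompact U) :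
    IsRetrocompact (f ⁻¹' U) := by
  intro K' hK' hK'o
  obtain ⟨K, hK, rfl⟩ := open_surj f hf hq hK'o
  have hKc : IsCompact K := isCompact_of_preimage f hf hq hK hK'
  have := isCompact_preimage f hf hq (hUo.inter hK) (hU hKc hK)
  rwa [preimage_inter] at this

theorem isRetrocompact_of_preimage {U : Set Y} (hUo : IsOpen U)
    (hU : IsRetrocompact (f ⁻¹' U)) : IsRetrocompact U := by
  intro K hK hKo
  have h1 : IsCompact (f ⁻¹' K) := isCompact_preimage f hf hq hKo hK
  have h2 := hU h1 (hKo.preimage hf)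
  rw [← preimage_inter] at h2
  exact isCompact_of_preimage f hf hq (hUo.inter hKo) h2

theorem isConstructible_preimage {Z : Set Y} (hZ : IsConstructible Z) :
    IsConstructible (f ⁻¹' Z) :=
  hZ.preimage hf fun _ hs hrs => isRetrocompact_preimage f hf hq hs hrs

theorem isConstructible_surj {Z' : Set X} (hZ' : IsConstructible Z') :
    ∃ Z : Set Y, IsConstructible Z ∧ f ⁻¹' Z = Z' := by
  induction hZ' using IsConstructible.empty_union_induction with
  | open_retrocompact U' hU' hU'c =>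
    obtain ⟨U, hU, rfl⟩ := open_surj f hf hq hU'
    exact ⟨U, (isRetrocompact_of_preimage f hf hq hU hU'c).isConstructible hU, rfl⟩
  | union s _ t _ hs ht =>
    obtain ⟨Zs, hZs, rfl⟩ := hs
    obtain ⟨Zt, hZt, rfl⟩ := ht
    exact ⟨Zs ∪ Zt, hZs.union hZt, preimage_union⟩
  | compl s _ hs =>
    obtain ⟨Zs, hZs, rfl⟩ := hs
    exact ⟨Zsᶜ, hZs.compl, preimage_compl⟩

theorem isConstructible_bijOn :
    Set.BijOn (fun Z : Set Y => f ⁻¹' Z) {Z | IsConstructible Z} {Z | IsConstructible Z} := by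
  refine ⟨fun Z hZ => isConstructible_preimage f hf hq hZ, fun Z hZ Z' hZ' h => ?_, ?_⟩
  · exact qc_inj f hf hq (QC.of_isConstructible hZ) (QC.of_isConstructible hZ') h
  · intro Z' hZ'
    obtain ⟨Z, hZ, h⟩ := isConstructible_surj f hf hq hZ'
    exact ⟨Z, hZ, h⟩

theorem locallyClosed_bijective :
    Function.Bijective (fun Z : {Z : Set Y // IsLocallyClosed Z} =>
        (⟨f ⁻¹' Z.1, Z.2.preimage hf⟩ : {Z : Set X // IsLocallyClosed Z})) := by
  constructor
  · rintro ⟨Z₁, h₁⟩ ⟨Z₂, h₂⟩ h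
    have h' : f ⁻¹' Z₁ = f ⁻¹' Z₂ := congrArg Subtype.val h
    exact Subtype.ext (qc_inj f hf hq (QC.of_isLocallyClosed h₁) (QC.of_isLocallyClosed h₂) h')
  · rintro ⟨Z', hZ'⟩
    obtain ⟨Z, hZ, h⟩ := locallyClosed_surj f hf hq hZ'
    exact ⟨⟨Z, hZ⟩, Subtype.ext h⟩

/-- the restriction of a quasi-homeomorphism over an open set is a quasi-homeomorphism. -/
theorem restrict_bijective {V : Set Y} (hV : IsOpen V) :
    Function.Bijective (fun U : Opens V =>
      (⟨(V.restrictPreimage f) ⁻¹' (U : Set V), U.isOpen.preimage hf.restrictPreimage⟩ :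
        Opens (f ⁻¹' V))) := by
  have key : ∀ W : Set V, f ⁻¹' (Subtype.val '' W) =
      Subtype.val '' ((V.restrictPreimage f) ⁻¹' W) := by
    intro W
    ext x
    simp only [mem_preimage, mem_image, Subtype.exists, exists_and_right, exists_eq_right,
      Set.restrictPreimage_coe]
    constructor
    · rintro ⟨h1, h2⟩
      exact ⟨h1, h2⟩
    · rintro ⟨h1, h2⟩
      exact ⟨h1, h2⟩
  constructor
  · intro U₁ U₂ h
    have h' : (V.restrictPreimage f) ⁻¹' (U₁ : Set V) = (V.restrictPreimage f) ⁻¹' (U₂ : Set V) :=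
      congrArg (fun W : Opens (f ⁻¹' V) => (W : Set (f ⁻¹' V))) h
    have h1 : f ⁻¹' (Subtype.val '' (U₁ : Set V)) = f ⁻¹' (Subtype.val '' (U₂ : Set V)) := by
      rw [key, key, h']
    have h2 := open_inj f hf hq (hV.isOpenMap_subtype_val _ U₁.isOpen)
      (hV.isOpenMap_subtype_val _ U₂.isOpen) h1
    exact Opens.ext (Subtype.val_injective.image_injective h2)
  · intro U'
    obtain ⟨W, hW, hWU'⟩ := open_surj f hf hq
      ((hV.preimage hf).isOpenMap_subtype_val _ U'.isOpen)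
    refine ⟨⟨Subtype.val ⁻¹' W, hW.preimage continuous_subtype_val⟩, Opens.ext ?_⟩
    ext ⟨x, hx⟩
    simp only [Opens.coe_mk, mem_preimage, Set.restrictPreimage_coe]
    have : f x ∈ W ↔ x ∈ Subtype.val '' (U' : Set (f ⁻¹' V)) := by
      rw [← hWU']; rfl
    rw [this]
    constructor
    · rintro ⟨⟨y, hy⟩, hyU, rfl⟩
      exact hyU
    · intro h
      exact ⟨⟨x, hx⟩, h, rfl⟩

theorem isLocallyConstructible_preimage {Z : Set Y} (hZ : IsLocallyConstructible Z) :
    IsLocallyConstructible (f ⁻¹' Z) := by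
  intro x
  obtain ⟨V, hVx, hV, hc⟩ := hZ (f x)
  refine ⟨f ⁻¹' V, hf.continuousAt.preimage_mem_nhds hVx, hV.preimage hf, ?_⟩
  have := isConstructible_preimage (V.restrictPreimage f) hf.restrictPreimage
    (restrict_bijective f hf hq hV) hc
  exact this

theorem isLocallyConstructible_surj {Z' : Set X} (hZ' : IsLocallyConstructible Z') :
    ∃ Z : Set Y, IsLocallyConstructible Z ∧ f ⁻¹' Z = Z' := by
  have h1 : ∀ x : X, ∃ V : Set Y, IsOpen V ∧ f x ∈ V ∧
      IsConstructible ((f ⁻¹' V) ↓∩ Z') := by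
    intro x
    obtain ⟨V', hV'x, hV', hc⟩ := hZ' x
    obtain ⟨V, hV, rfl⟩ := open_surj f hf hq hV'
    exact ⟨V, hV, (mem_of_mem_nhds hV'x : x ∈ f ⁻¹' V), hc⟩
  choose V hV hxV hc using h1
  have h2 : ∀ x : X, ∃ W : Set (V x), IsConstructible W ∧
      (V x).restrictPreimage f ⁻¹' W = (f ⁻¹' V x) ↓∩ Z' := fun x =>
    isConstructible_surj ((V x).restrictPreimage f) hf.restrictPreimage
      (restrict_bijective f hf hq (hV x)) (hc x)
  choose W hW hW' using h2
  -- ambient versions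
  have hWq : ∀ x, QC (Subtype.val '' W x) := fun x =>
    (QC.of_isConstructible (hW x)).image_val (hV x)
  have hWpre : ∀ x, f ⁻¹' (Subtype.val '' W x) = Z' ∩ f ⁻¹' V x := by
    intro x
    ext z
    simp only [mem_preimage, mem_image, Subtype.exists, exists_and_right, exists_eq_right,
      mem_inter_iff]
    constructor
    · rintro ⟨hzV, hzW⟩
      have : (⟨z, hzV⟩ : f ⁻¹' V x) ∈ (V x).restrictPreimage f ⁻¹' W x := hzW
      rw [hW'] at this
      exact ⟨this, hzV⟩
    · rintro ⟨hzZ, hzV⟩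
      refine ⟨hzV, ?_⟩
      have : (⟨z, hzV⟩ : f ⁻¹' V x) ∈ (f ⁻¹' V x) ↓∩ Z' := hzZ
      rw [← hW'] at this
      exact this
  have hcover : ⋃ x, V x = univ := by
    apply open_inj f hf hq (isOpen_iUnion hV) isOpen_univ
    rw [preimage_iUnion, preimage_univ]
    apply eq_univ_of_forall
    intro x
    exact mem_iUnion.2 ⟨x, hxV x⟩
  have hcompat : ∀ x x₀, Subtype.val '' W x ∩ V x₀ = Subtype.val '' W x₀ ∩ V x := by
    intro x x₀
    apply qc_inj f hf hq ((hWq x).inter_open (hV x₀)) ((hWq x₀).inter_open (hV x))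
    rw [preimage_inter, preimage_inter, hWpre, hWpre]
    ext z
    simp only [mem_inter_iff]
    tauto
  refine ⟨⋃ x, Subtype.val '' W x, ?_, ?_⟩
  · intro y
    have hy : y ∈ ⋃ x, V x := hcover ▸ mem_univ y
    obtain ⟨x₀, hx₀⟩ := mem_iUnion.1 hy
    refine ⟨V x₀, (hV x₀).mem_nhds hx₀, hV x₀, ?_⟩
    have : (V x₀) ↓∩ (⋃ x, Subtype.val '' W x) = W x₀ := by
      ext ⟨z, hz⟩
      simp only [mem_preimage, mem_iUnion]
      constructor
      · rintro ⟨x, hx⟩
        have h3 : z ∈ Subtype.val '' W x ∩ V x₀ := ⟨hx, hz⟩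
        rw [hcompat] at h3
        obtain ⟨⟨z', hz'⟩, hz'W, rfl⟩ := h3.1
        exact hz'W
      · intro h
        exact ⟨x₀, ⟨⟨z, hz⟩, h, rfl⟩⟩
    rw [this]
    exact hW x₀
  · rw [preimage_iUnion]
    ext z
    simp only [mem_iUnion]
    constructor
    · rintro ⟨x, hx⟩
      have : z ∈ f ⁻¹' (Subtype.val '' W x) := hx
      rw [hWpre] at this
      exact this.1
    · intro hz
      refine ⟨z, ?_⟩
      show z ∈ f ⁻¹' (Subtype.val '' W z)
      rw [hWpre]
      exact ⟨hz, hxV z⟩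

theorem isLocallyConstructible_bijOn :
    Set.BijOn (fun Z : Set Y => f ⁻¹' Z) {Z | IsLocallyConstructible Z}
      {Z | IsLocallyConstructible Z} := by
  refine ⟨fun Z hZ => isLocallyConstructible_preimage f hf hq hZ, fun Z hZ Z' hZ' h => ?_, ?_⟩
  · exact lqc'_inj f hf hq (lqc'_of_isLocallyConstructible hZ)
      (lqc'_of_isLocallyConstructible hZ') h
  · intro Z' hZ'
    obtain ⟨Z, hZ, h⟩ := isLocallyConstructible_surj f hf hq hZ'
    exact ⟨Z, hZ, h⟩

end

end Groth.Agent.Helper3.QHomeo
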