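import Mathlib

set_option linter.style.haveILetI false
set_option linter.unusedSectionVars false
set_option linter.unusedVariables false

namespace Groth.Agent.Helper3.QuadSq

open MvPolynomial

/-- If `x` is a nonzero element of a domain `R` with `R/(x)` a principal ideal domain, then
`x^2 ∈ J^2` implies `x ∈ J`. -/
theorem mem_of_sq_mem_sq {R S : Type*} [CommRing R] [IsDomain R] [CommRing S] [IsDomain S]
    [IsPrincipalIdealRing S] (x : R) (hx : x ≠ 0) (π : R →+* S) (hπ : Function.Surjective π)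
    (hker : ∀ r, π r = 0 → x ∣ r) (hx0 : π x = 0) (J : Ideal R) (h : x ^ 2 ∈ J ^ 2) : x ∈ J := by
  classical
  -- generator of the image of `J`
  obtain ⟨g, hg⟩ := (IsPrincipalIdealRing.principal (J.map π)).principal
  have hgmem : g ∈ J.map π := by rw [hg]; exact Submodule.mem_span_singleton_self g
  obtain ⟨u, huJ, hug⟩ : ∃ u ∈ J, π u = g := (Ideal.mem_map_iff_of_surjective π hπ).1 hgmem
  -- decomposition of elements of `J`
  have hdec : ∀ a ∈ J, ∃ c d, x * d ∈ J ∧ a = c * u + x * d := by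
    intro a ha
    have h1 : π a ∈ J.map π := Ideal.mem_map_of_mem π ha
    rw [hg, Ideal.mem_span_singleton'] at h1
    obtain ⟨s, hs⟩ := h1
    obtain ⟨c, rfl⟩ := hπ s
    have h2 : π (a - c * u) = 0 := by rw [map_sub, map_mul, hug, hs, sub_self]
    obtain ⟨d, hd⟩ := hker _ h2
    refine ⟨c, d, ?_, ?_⟩
    · rw [← hd]; exact J.sub_mem ha (J.mul_mem_left c huJ)
    · rw [← hd]; ring
  -- shape of elements of `J^2`
  have hshape : ∀ z ∈ J ^ 2, ∃ α β γ, x * β ∈ J ∧ x * γ ∈ J ∧
      z = α * u ^ 2 + x * u * β + x ^ 2 * γ := by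
    intro z hz
    rw [pow_two] at hz
    refine Submodule.mul_induction_on hz ?_ ?_
    · intro a ha b hb
      obtain ⟨c, d, hd, rfl⟩ := hdec a ha
      obtain ⟨c', d', hd', rfl⟩ := hdec b hb
      refine ⟨c * c', c * d' + c' * d, d * d', ?_, ?_, by ring⟩
      · have : x * (c * d' + c' * d) = c * (x * d') + c' * (x * d) := by ring
        rw [this]
        exact J.add_mem (J.mul_mem_left _ hd') (J.mul_mem_left _ hd)
      · have : x * (d * d') = d' * (x * d) := by ring
        rw [this]
        exact J.mul_mem_left _ hd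
    · rintro z z' ⟨α, β, γ, hβ, hγ, rfl⟩ ⟨α', β', γ', hβ', hγ', rfl⟩
      refine ⟨α + α', β + β', γ + γ', ?_, ?_, by ring⟩
      · rw [mul_add]; exact J.add_mem hβ hβ'
      · rw [mul_add]; exact J.add_mem hγ hγ'
  obtain ⟨α, β, γ, hβ, hγ, hz⟩ := hshape _ h
  by_cases hg0 : g = 0
  · -- then `u = x u'`
    obtain ⟨u', hu'⟩ := hker u (by rw [hug, hg0])
    have h1 : x ^ 2 * 1 = x ^ 2 * (α * u' ^ 2 + u' * β + γ) := by
      rw [mul_one]; nth_rewrite 1 [hz]; rw [hu']; ring
    have h2 := mul_left_cancel₀ (pow_ne_zero 2 hx) h1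
    have h3 : x = α * u' * u + u' * (x * β) + x * γ := by
      calc x = x * 1 := (mul_one x).symm
        _ = x * (α * u' ^ 2 + u' * β + γ) := by rw [h2]
        _ = _ := by rw [hu']; ring
    rw [h3]
    exact J.add_mem (J.add_mem (J.mul_mem_left _ huJ) (J.mul_mem_left _ hβ)) hγ
  · -- `π α = 0`
    have h1 : π α * g ^ 2 = 0 := by
      have := congrArg π hz
      simp only [map_add, map_mul, map_pow, hx0, hug] at this
      simpa using this.symm
    have h2 : π α = 0 := by
      rcases mul_eq_zero.1 h1 with h | h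
      · exact h
      · exact absurd (pow_eq_zero_iff (two_ne_zero)|>.1 h) hg0
    obtain ⟨α', hα'⟩ := hker α h2
    have h3 : x * x = x * (α' * u ^ 2 + u * β + x * γ) := by
      rw [← pow_two]; nth_rewrite 1 [hz]; rw [hα']; ring
    have h4 := mul_left_cancel₀ hx h3
    have h5 : (π α' * g + π β) * g = 0 := by
      have := congrArg π h4
      simp only [map_add, map_mul, map_pow, hx0, hug] at this
      rw [zero_mul, add_zero] at this
      rw [this]; ring
    have h6 : π (α' * u + β) = 0 := by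
      rcases mul_eq_zero.1 h5 with h | h
      · rw [map_add, map_mul, hug]; exact h
      · exact absurd h hg0
    obtain ⟨β', hβ'⟩ := hker _ h6
    have h7 : x * 1 = x * (u * β' + γ) := by
      rw [mul_one]; nth_rewrite 1 [h4]
      have : β = x * β' - α' * u := by rw [← hβ']; ring
      rw [this]; ring
    have h8 := mul_left_cancel₀ hx h7
    have h9 : x = β' * x * u + x * γ := by
      calc x = x * 1 := (mul_one x).symm
        _ = x * (u * β' + γ) := by rw [← h8]
        _ = _ := by ring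
    rw [h9]
    exact J.add_mem (J.mul_mem_left _ huJ) hγ

/-- A nonconstant linear form `ℓ` in two variables over a field: `ℓ^2 ∈ J^2 → ℓ ∈ J`. -/
theorem linear_mem {K : Type*} [Field K] (i j : Fin 2) (hij : i ≠ j) (hcov : ∀ k, k = i ∨ k = j)
    (α δ φ : K) (hδ : δ ≠ 0) (J : Ideal (MvPolynomial (Fin 2) K))
    (h : (C α + C δ * X i + C φ * X j) ^ 2 ∈ J ^ 2) :
    (C α + C δ * X i + C φ * X j : MvPolynomial (Fin 2) K) ∈ J := by
  classical
  set ℓ : MvPolynomial (Fin 2) K := C α + C δ * X i + C φ * X j with hℓ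
  let π : MvPolynomial (Fin 2) K →ₐ[K] Polynomial K :=
    aeval (fun k => if k = i then - Polynomial.C (α / δ) - Polynomial.C (φ / δ) * Polynomial.X
      else Polynomial.X)
  let ψ : Polynomial K →ₐ[K] MvPolynomial (Fin 2) K := Polynomial.aeval (X j)
  have hπi : π (X i) = - Polynomial.C (α / δ) - Polynomial.C (φ / δ) * Polynomial.X := by
    simp [π]
  have hπj : π (X j) = Polynomial.X := by
    simp [π, hij.symm]
  have hπC : ∀ c, π (C c) = Polynomial.C c := fun c => by
    simp [π]
  have hπψ : π.comp ψ = AlgHom.id K _ := by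
    apply Polynomial.algHom_ext
    simp [ψ, hπj]
  have hsurj : Function.Surjective π := fun p => ⟨ψ p, by
    have := congrArg (fun f => f p) hπψ
    simpa using this⟩
  have hπℓ : π ℓ = 0 := by
    rw [hℓ, map_add, map_add, map_mul, map_mul, hπi, hπj, hπC, hπC, hπC]
    have h1 : (Polynomial.C α : Polynomial K) = Polynomial.C δ * Polynomial.C (α / δ) := by
      rw [← Polynomial.C_mul]; congr 1; field_simp
    have h2 : (Polynomial.C φ : Polynomial K) = Polynomial.C δ * Polynomial.C (φ / δ) := by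
      rw [← Polynomial.C_mul]; congr 1; field_simp
    rw [h1, h2]; ring
  have hker : ∀ r, π r = 0 → ℓ ∣ r := by
    intro r hr
    have hcomp : (Ideal.Quotient.mkₐ K (Ideal.span {ℓ})) =
        ((Ideal.Quotient.mkₐ K (Ideal.span {ℓ})).comp ψ).comp π := by
      apply MvPolynomial.algHom_ext
      intro k
      rcases hcov k with rfl | rfl
      · simp only [AlgHom.comp_apply, hπi]
        rw [Ideal.Quotient.mkₐ_eq_mk, Ideal.Quotient.eq, Ideal.mem_span_singleton]
        refine ⟨C (1 / δ), ?_⟩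
        simp only [ψ, map_sub, map_neg, map_mul, Polynomial.aeval_C, Polynomial.aeval_X,
          algebraMap_eq, hℓ]
        have h1 : (C (α / δ) : MvPolynomial (Fin 2) K) = C α * C (1 / δ) := by
          rw [← C_mul]; congr 1; field_simp
        have h2 : (C (φ / δ) : MvPolynomial (Fin 2) K) = C φ * C (1 / δ) := by
          rw [← C_mul]; congr 1; field_simp
        have h3 : (C δ * C (1 / δ) : MvPolynomial (Fin 2) K) = 1 := by
          rw [← C_mul]; rw [mul_one_div_cancel hδ]; rfl
        rw [h1, h2]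
        linear_combination (-(X k : MvPolynomial (Fin 2) K)) * h3
      · simp only [AlgHom.comp_apply, hπj]
        simp [ψ]
    have := congrArg (fun f => f r) hcomp
    simp only [AlgHom.comp_apply, hr, map_zero] at this
    rw [Ideal.Quotient.mkₐ_eq_mk, Ideal.Quotient.eq_zero_iff_mem, Ideal.mem_span_singleton] at this
    exact this
  have hℓ0 : ℓ ≠ 0 := by
    intro h0
    have := congrArg (coeff (Finsupp.single i 1)) h0
    simp only [hℓ, coeff_add, coeff_C_mul, coeff_zero] at this
    rw [coeff_X', coeff_X', coeff_C] at this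
    have hne : (Finsupp.single j 1 : Fin 2 →₀ ℕ) ≠ Finsupp.single i 1 := by
      intro h
      rcases (Finsupp.single_eq_single_iff _ _ _ _).1 h with ⟨h1, -⟩ | ⟨h1, -⟩
      · exact hij h1.symm
      · exact one_ne_zero h1
    rw [if_pos rfl, if_neg hne, if_neg (Finsupp.single_ne_zero.2 one_ne_zero).symm] at this
    simp at this
    exact hδ this
  exact mem_of_sq_mem_sq ℓ hℓ0 π.toRingHom hsurj hker hπℓ J h

section

variable {κ : Type*} [Field κ] (I : Ideal (MvPolynomial (Fin 2) κ))

theorem finrank_le_one (ξ : Fin 2 → κ) (h : ∀ k, X k - C (ξ k) ∈ I) :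
    Module.Finite κ (MvPolynomial (Fin 2) κ ⧸ I) ∧
      Module.finrank κ (MvPolynomial (Fin 2) κ ⧸ I) ≤ 1 := by
  have hcomp : Ideal.Quotient.mkₐ κ I =
      (Algebra.ofId κ (MvPolynomial (Fin 2) κ ⧸ I)).comp (aeval ξ) := by
    apply MvPolynomial.algHom_ext
    intro k
    simp only [AlgHom.comp_apply, aeval_X, Algebra.ofId_apply]
    rw [Ideal.Quotient.mkₐ_eq_mk]
    have h1 : algebraMap κ (MvPolynomial (Fin 2) κ ⧸ I) (ξ k) = Ideal.Quotient.mk I (C (ξ k)) := by
      rw [IsScalarTower.algebraMap_apply κ (MvPolynomial (Fin 2) κ) (MvPolynomial (Fin 2) κ ⧸ I)]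
      rfl
    rw [h1, Ideal.Quotient.eq]
    exact h k
  have hsurj : Function.Surjective (Algebra.linearMap κ (MvPolynomial (Fin 2) κ ⧸ I)) := by
    intro z
    obtain ⟨P, rfl⟩ := Ideal.Quotient.mk_surjective z
    refine ⟨aeval ξ P, ?_⟩
    have := congrArg (fun f => f P) hcomp
    simp only [AlgHom.comp_apply, Algebra.ofId_apply, Ideal.Quotient.mkₐ_eq_mk] at this
    rw [this]; rfl
  refine ⟨Module.Finite.of_surjective _ hsurj, ?_⟩
  have := LinearMap.finrank_le_finrank_of_surjective hsurj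
  rwa [Module.finrank_self] at this

variable (hI : ¬ (Module.Finite κ (MvPolynomial (Fin 2) κ ⧸ I) ∧
  Module.finrank κ (MvPolynomial (Fin 2) κ ⧸ I) ≤ 1))

include hI in
theorem C_mem (k : κ) (h : C k ∈ I) : k = 0 := by
  by_contra hk
  apply hI
  have htop : I = ⊤ := by
    rw [Ideal.eq_top_iff_one]
    have : (1 : MvPolynomial (Fin 2) κ) = C k⁻¹ * C k := by
      rw [← C_mul, inv_mul_cancel₀ hk]; rfl
    rw [this]
    exact I.mul_mem_left _ h
  exact finrank_le_one I (fun _ => 0) (fun k => by rw [htop]; trivial)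

include hI in
theorem no_point (m₁ m₂ Δ₁ Δ₂ : κ) (hΔ₁ : Δ₁ ≠ 0) (hΔ₂ : Δ₂ ≠ 0)
    (h1 : C m₁ + C Δ₁ * X 0 ∈ I) (h2 : C m₂ + C Δ₂ * X 1 ∈ I) : False := by
  apply hI
  refine finrank_le_one I ![-(m₁ / Δ₁), -(m₂ / Δ₂)] ?_
  intro k
  fin_cases k
  · have : (X 0 - C (-(m₁ / Δ₁)) : MvPolynomial (Fin 2) κ) = C Δ₁⁻¹ * (C m₁ + C Δ₁ * X 0) := by
      have h3 : (C Δ₁⁻¹ * C Δ₁ : MvPolynomial (Fin 2) κ) = 1 := by
        rw [← C_mul, inv_mul_cancel₀ hΔ₁]; rfl
      have h4 : (C (-(m₁ / Δ₁)) : MvPolynomial (Fin 2) κ) = - (C Δ₁⁻¹ * C m₁) := by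
        rw [← C_mul, ← C_neg]; congr 1; field_simp
      rw [h4]; linear_combination (-(X 0 : MvPolynomial (Fin 2) κ)) * h3
    simp only [Fin.zero_eta, Fin.isValue, Matrix.cons_val_zero]
    rw [this]; exact I.mul_mem_left _ h1
  · have : (X 1 - C (-(m₂ / Δ₂)) : MvPolynomial (Fin 2) κ) = C Δ₂⁻¹ * (C m₂ + C Δ₂ * X 1) := by
      have h3 : (C Δ₂⁻¹ * C Δ₂ : MvPolynomial (Fin 2) κ) = 1 := by
        rw [← C_mul, inv_mul_cancel₀ hΔ₂]; rfl
      have h4 : (C (-(m₂ / Δ₂)) : MvPolynomial (Fin 2) κ) = - (C Δ₂⁻¹ * C m₂) := by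
        rw [← C_mul, ← C_neg]; congr 1; field_simp
      rw [h4]; linear_combination (-(X 1 : MvPolynomial (Fin 2) κ)) * h3
    simp only [Fin.mk_one, Fin.isValue, Matrix.cons_val_one, Matrix.cons_val_fin_one]
    rw [this]; exact I.mul_mem_left _ h2

include hI in
theorem minors (l₀ l₁ l₂ l₀' l₁' l₂' : κ)
    (h : C l₀ + C l₁ * X 0 + C l₂ * X 1 ∈ I) (h' : C l₀' + C l₁' * X 0 + C l₂' * X 1 ∈ I) :
    l₁ * l₂' - l₂ * l₁' = 0 ∧ l₀ * l₁' - l₁ * l₀' = 0 ∧ l₀ * l₂' - l₂ * l₀' = 0 := by
  have e1 : C (l₀ * l₂' - l₂ * l₀') + C (l₁ * l₂' - l₂ * l₁') * X 0 ∈ I := by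
    have : (C (l₀ * l₂' - l₂ * l₀') + C (l₁ * l₂' - l₂ * l₁') * X 0 : MvPolynomial (Fin 2) κ) =
        C l₂' * (C l₀ + C l₁ * X 0 + C l₂ * X 1) - C l₂ * (C l₀' + C l₁' * X 0 + C l₂' * X 1) := by
      simp only [map_sub, map_mul]; ring
    rw [this]; exact I.sub_mem (I.mul_mem_left _ h) (I.mul_mem_left _ h')
  have e2 : C (l₁ * l₀' - l₁' * l₀) + C (l₁ * l₂' - l₂ * l₁') * X 1 ∈ I := by
    have : (C (l₁ * l₀' - l₁' * l₀) + C (l₁ * l₂' - l₂ * l₁') * X 1 : MvPolynomial (Fin 2) κ) =
        C l₁ * (C l₀' + C l₁' * X 0 + C l₂' * X 1) - C l₁' * (C l₀ + C l₁ * X 0 + C l₂ * X 1) := by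
      simp only [map_sub, map_mul]; ring
    rw [this]; exact I.sub_mem (I.mul_mem_left _ h') (I.mul_mem_left _ h)
  by_cases hΔ : l₁ * l₂' - l₂ * l₁' = 0
  · rw [hΔ, map_zero, zero_mul, add_zero] at e1 e2
    have h1 := C_mem I hI _ e1
    have h2 := C_mem I hI _ e2
    refine ⟨hΔ, ?_, h1⟩
    linear_combination -h2
  · exact (no_point I hI _ _ _ _ hΔ hΔ e1 e2).elim

theorem pderiv_mem (i : Fin 2) (z : MvPolynomial (Fin 2) κ) (hz : z ∈ I ^ 2) :
    pderiv i z ∈ I := by
  rw [pow_two] at hz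
  refine Submodule.mul_induction_on hz ?_ ?_
  · intro a ha b hb
    rw [Derivation.leibniz]
    exact I.add_mem (I.mul_mem_right _ ha) (I.mul_mem_right _ hb)
  · intro a b ha hb
    rw [map_add]; exact I.add_mem ha hb

/-- the quadric -/
noncomputable def quad (a b c d e f : κ) : MvPolynomial (Fin 2) κ :=
  C a + C b * X 0 + C c * X 1 + C d * X 0 ^ 2 + C e * X 0 * X 1 + C f * X 1 ^ 2

theorem rows_mem (a b c d e f : κ) (hq : quad a b c d e f ∈ I ^ 2) :
    (C b + C (2 * d) * X 0 + C e * X 1 ∈ I) ∧ (C c + C e * X 0 + C (2 * f) * X 1 ∈ I) ∧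
      (C (2 * a) + C b * X 0 + C c * X 1 ∈ I) := by
  have h0 : quad a b c d e f ∈ I := Ideal.pow_le_self two_ne_zero hq
  have h1 := pderiv_mem I 0 _ hq
  have h2 := pderiv_mem I 1 _ hq
  have e1 : pderiv 0 (quad a b c d e f) = C b + C (2 * d) * X 0 + C e * X 1 := by
    simp only [quad, map_add, Derivation.leibniz, pderiv_C, pderiv_X, Derivation.leibniz_pow,
      smul_eq_mul, map_mul, map_ofNat]
    simp
    ring
  have e2 : pderiv 1 (quad a b c d e f) = C c + C e * X 0 + C (2 * f) * X 1 := by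
    simp only [quad, map_add, Derivation.leibniz, pderiv_C, pderiv_X, Derivation.leibniz_pow,
      smul_eq_mul, map_mul, map_ofNat]
    simp
    ring
  rw [e1] at h1
  rw [e2] at h2
  refine ⟨h1, h2, ?_⟩
  have : (C (2 * a) + C b * X 0 + C c * X 1 : MvPolynomial (Fin 2) κ) =
      2 * quad a b c d e f - X 0 * (C b + C (2 * d) * X 0 + C e * X 1) -
        X 1 * (C c + C e * X 0 + C (2 * f) * X 1) := by
    simp only [quad, map_mul, map_ofNat]; ring
  rw [this]
  exact I.sub_mem (I.sub_mem (I.mul_mem_left _ h0) (I.mul_mem_left _ h1)) (I.mul_mem_left _ h2)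

theorem quad_eq (j g h i : κ) :
    quad (j * g ^ 2) (2 * j * g * h) (2 * j * g * i) (j * h ^ 2) (2 * j * h * i) (j * i ^ 2) =
      C j * (C g + C h * X 0 + C i * X 1) ^ 2 := by
  simp only [quad, map_mul, map_pow, map_ofNat]; ring

theorem main_ne2 (h2 : (2 : κ) ≠ 0) (a b c d e f : κ)
    (hne : (a, b, c, d, e, f) ≠ (0, 0, 0, 0, 0, 0))
    (E1 : 4 * d * f = e ^ 2) (E2 : b * e = 2 * c * d) (E3 : 2 * b * f = c * e)
    (E4 : 4 * a * d = b ^ 2) (E5 : 2 * a * e = b * c) (E6 : 4 * a * f = c ^ 2) :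
    ∃ j g h i : κ, quad a b c d e f = C j * (C g + C h * X 0 + C i * X 1) ^ 2 := by
  have h4 : (4 : κ) ≠ 0 := by
    have : (4 : κ) = 2 * 2 := by norm_num
    rw [this]; exact mul_ne_zero h2 h2
  by_cases hd : d = 0
  · by_cases ha : a = 0
    · by_cases hf : f = 0
      · exfalso
        apply hne
        subst hd ha hf
        have hb : b = 0 := by
          have : b ^ 2 = 0 := by rw [← E4]; ring
          exact pow_eq_zero_iff two_ne_zero |>.1 this
        have hc : c = 0 := by
          have : c ^ 2 = 0 := by rw [← E6]; ring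
          exact pow_eq_zero_iff two_ne_zero |>.1 this
        have he : e = 0 := by
          have : e ^ 2 = 0 := by rw [← E1]; ring
          exact pow_eq_zero_iff two_ne_zero |>.1 this
        rw [hb, hc, he]
      · refine ⟨1 / (4 * f), c, e, 2 * f, ?_⟩
        rw [← quad_eq]
        congr 1
        · field_simp; linear_combination E6
        · field_simp; linear_combination 2 * E3
        · field_simp; ring
        · field_simp; linear_combination E1
        · field_simp; ring
        · field_simp; ring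
    · refine ⟨1 / (4 * a), 2 * a, b, c, ?_⟩
      rw [← quad_eq]
      congr 1
      · field_simp; ring
      · field_simp; ring
      · field_simp; ring
      · field_simp; linear_combination E4
      · field_simp; linear_combination 2 * E5
      · field_simp; linear_combination E6
  · refine ⟨1 / (4 * d), b, 2 * d, e, ?_⟩
    rw [← quad_eq]
    congr 1
    · field_simp; linear_combination E4
    · field_simp; ring
    · field_simp; linear_combination (-2) * E2
    · field_simp; ring
    · field_simp; ring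
    · field_simp; linear_combination E1

end

section

variable {κ K : Type*} [Field κ] [Field K] [Algebra κ K]

/-- coefficientwise application of a linear functional -/
noncomputable def Lam (lam : K →ₗ[κ] κ) (P : MvPolynomial (Fin 2) K) : MvPolynomial (Fin 2) κ :=
  AddMonoidAlgebra.map (lam : K →ₗ[κ] κ).toAddMonoidHom P

theorem Lam_add (lam : K →ₗ[κ] κ) (P Q : MvPolynomial (Fin 2) K) :
    Lam lam (P + Q) = Lam lam P + Lam lam Q :=
  AddMonoidAlgebra.map_add _ _ _

theorem Lam_zero (lam : K →ₗ[κ] κ) : Lam lam 0 = 0 :=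
  AddMonoidAlgebra.map_zero _

theorem Lam_monomial (lam : K →ₗ[κ] κ) (m : Fin 2 →₀ ℕ) (k : K) :
    Lam lam (monomial m k) = monomial m (lam k) :=
  AddMonoidAlgebra.map_single _ _ _

theorem Lam_mul_map (lam : K →ₗ[κ] κ) (P : MvPolynomial (Fin 2) K) (u : MvPolynomial (Fin 2) κ) :
    Lam lam (P * map (algebraMap κ K) u) = Lam lam P * u := by
  induction P using MvPolynomial.induction_on' with
  | monomial m k =>
    induction u using MvPolynomial.induction_on' with
    | monomial n c =>
      rw [map_monomial, monomial_mul, Lam_monomial, Lam_monomial, monomial_mul]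
      congr 1
      rw [mul_comm k, ← Algebra.smul_def, map_smul, smul_eq_mul, mul_comm]
    | add p q hp hq =>
      rw [map_add, mul_add, Lam_add, hp, hq, mul_add]
  | add p q hp hq =>
    rw [add_mul, Lam_add, hp, hq, Lam_add, add_mul]

theorem Lam_mem (lam : K →ₗ[κ] κ) (I : Ideal (MvPolynomial (Fin 2) κ))
    (P : MvPolynomial (Fin 2) K) (hP : P ∈ I.map (map (algebraMap κ K))) : Lam lam P ∈ I := by
  have key : ∀ r : MvPolynomial (Fin 2) K, Lam lam (r * P) ∈ I := by
    unfold Ideal.map at hP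
    induction hP using Submodule.span_induction with
    | mem z hz =>
      obtain ⟨u, hu, rfl⟩ := hz
      intro r
      rw [Lam_mul_map]
      exact I.mul_mem_left _ hu
    | zero => intro r; rw [mul_zero, Lam_zero]; exact I.zero_mem
    | add z z' _ _ hz hz' => intro r; rw [mul_add, Lam_add]; exact I.add_mem (hz r) (hz' r)
    | smul s z _ hz => intro r; rw [smul_eq_mul, ← mul_assoc]; exact hz _
  simpa using key 1

theorem Lam_linear (lam : K →ₗ[κ] κ) (α δ φ : K) :
    Lam lam (C α + C δ * X 0 + C φ * X 1) = C (lam α) + C (lam δ) * X 0 + C (lam φ) * X 1 := by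
  rw [Lam_add, Lam_add, C_mul_X_eq_monomial, C_mul_X_eq_monomial, C_mul_X_eq_monomial,
    C_mul_X_eq_monomial, ← monomial_zero', ← monomial_zero', Lam_monomial, Lam_monomial,
    Lam_monomial]

theorem proportional {V : Type*} [AddCommGroup V] [Module κ V] (v w : V) (hv : v ≠ 0)
    (h : ∀ lam lam' : V →ₗ[κ] κ, lam v * lam' w - lam w * lam' v = 0) : ∃ c : κ, w = c • v := by
  by_contra hcon
  have hw : w ∉ Submodule.span κ {v} := by
    intro hw
    obtain ⟨c, hc⟩ := Submodule.mem_span_singleton.1 hw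
    exact hcon ⟨c, hc.symm⟩
  obtain ⟨f, hfw, hf⟩ := Submodule.exists_le_ker_of_notMem hw
  have hfv : f v = 0 := hf (Submodule.mem_span_singleton_self v)
  have hv' : v ∉ (⊥ : Submodule κ V) := by simpa using hv
  obtain ⟨f', hf'v, -⟩ := Submodule.exists_le_ker_of_notMem hv'
  have := h f' f
  rw [hfv, mul_zero, sub_zero] at this
  rcases mul_eq_zero.1 this with h1 | h1
  · exact hf'v h1
  · exact hfw h1

end


section

variable {κ : Type*} [Field κ] (I : Ideal (MvPolynomial (Fin 2) κ))
  (hI : ¬ (Module.Finite κ (MvPolynomial (Fin 2) κ ⧸ I) ∧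
    Module.finrank κ (MvPolynomial (Fin 2) κ ⧸ I) ≤ 1))

include hI in
theorem main_eq2 (h2 : (2 : κ) = 0) (a d f : κ)
    (hq : quad a 0 0 d 0 f ∈ I ^ 2) :
    ∃ j g h i : κ, quad a 0 0 d 0 f = C j * (C g + C h * X 0 + C i * X 1) ^ 2 := by
  classical
  by_cases hdf : d = 0 ∧ f = 0
  · refine ⟨a, 1, 0, 0, ?_⟩
    rw [← quad_eq, hdf.1, hdf.2]
    congr 1 <;> ring
  · let K := AlgebraicClosure κ
    obtain ⟨α, hα⟩ := IsAlgClosed.exists_pow_nat_eq (algebraMap κ K a) (n := 2) (by norm_num)
    obtain ⟨δ, hδ⟩ := IsAlgClosed.exists_pow_nat_eq (algebraMap κ K d) (n := 2) (by norm_num)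
    obtain ⟨φ, hφ⟩ := IsAlgClosed.exists_pow_nat_eq (algebraMap κ K f) (n := 2) (by norm_num)
    have hinj : Function.Injective (algebraMap κ K) := (algebraMap κ K).injective
    have h2K : (2 : MvPolynomial (Fin 2) K) = 0 := by
      have : (2 : K) = 0 := by rw [← map_ofNat (algebraMap κ K) 2, h2, map_zero]
      rw [← map_ofNat (C (σ := Fin 2) (R := K)) 2, this, map_zero]
    have hsq : (C α + C δ * X 0 + C φ * X 1 : MvPolynomial (Fin 2) K) ^ 2 =
        map (algebraMap κ K) (quad a 0 0 d 0 f) := by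
      simp only [quad, map_add, map_mul, map_pow, map_C, map_X, map_zero, zero_mul, add_zero,
        ← hα, ← hδ, ← hφ]
      linear_combination (C α * C δ * X 0 + C α * C φ * X 1 + C δ * X 0 * C φ * X 1) * h2K
    have hmem : (C α + C δ * X 0 + C φ * X 1 : MvPolynomial (Fin 2) K) ^ 2 ∈
        (I.map (map (algebraMap κ K))) ^ 2 := by
      rw [hsq, ← Ideal.map_pow]
      exact Ideal.mem_map_of_mem _ hq
    have hℓ : (C α + C δ * X 0 + C φ * X 1 : MvPolynomial (Fin 2) K) ∈
        I.map (map (algebraMap κ K)) := by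
      by_cases hd : d = 0
      · have hf : f ≠ 0 := fun hf => hdf ⟨hd, hf⟩
        have hφ0 : φ ≠ 0 := by
          intro h0; rw [h0] at hφ
          apply hf; apply hinj; rw [← hφ, map_zero]; ring
        have := linear_mem (K := K) 1 0 (by decide) (by decide) α φ δ hφ0 _
          (by rw [add_right_comm]; exact hmem)
        rw [add_right_comm] at this
        exact this
      · have hδ0 : δ ≠ 0 := by
          intro h0; rw [h0] at hδ
          apply hd; apply hinj; rw [← hδ, map_zero]; ring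
        exact linear_mem (K := K) 0 1 (by decide) (by decide) α δ φ hδ0 _ hmem
    have hLam : ∀ lam : K →ₗ[κ] κ, C (lam α) + C (lam δ) * X 0 + C (lam φ) * X 1 ∈ I := by
      intro lam
      rw [← Lam_linear]
      exact Lam_mem lam I _ hℓ
    have hmin := fun lam lam' : K →ₗ[κ] κ =>
      minors I hI _ _ _ _ _ _ (hLam lam) (hLam lam')
    by_cases hd : d = 0
    · have hf : f ≠ 0 := fun hf => hdf ⟨hd, hf⟩
      have hφ0 : φ ≠ 0 := by
        intro h0; rw [h0] at hφ
        apply hf; apply hinj; rw [← hφ, map_zero]; ring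
      obtain ⟨g, hg⟩ := proportional (κ := κ) φ α hφ0 (fun lam lam' => by
        have := (hmin lam lam').2.2; linear_combination -this)
      obtain ⟨h, hh⟩ := proportional (κ := κ) φ δ hφ0 (fun lam lam' => by
        have := (hmin lam lam').1; linear_combination -this)
      have ha : a = f * g ^ 2 := by
        apply hinj
        rw [← hα, hg, map_mul, map_pow, ← hφ, Algebra.smul_def]; ring
      have hd' : d = f * h ^ 2 := by
        apply hinj
        rw [← hδ, hh, map_mul, map_pow, ← hφ, Algebra.smul_def]; ring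
      refine ⟨f, g, h, 1, ?_⟩
      rw [← quad_eq]
      congr 1
      · rw [h2]; ring
      · rw [h2]; ring
      · rw [h2]; ring
      · ring
    · have hδ0 : δ ≠ 0 := by
        intro h0; rw [h0] at hδ
        apply hd; apply hinj; rw [← hδ, map_zero]; ring
      obtain ⟨g, hg⟩ := proportional (κ := κ) δ α hδ0 (fun lam lam' => by
        have := (hmin lam lam').2.1; linear_combination -this)
      obtain ⟨i, hi⟩ := proportional (κ := κ) δ φ hδ0 (fun lam lam' => by
        have := (hmin lam lam').1; linear_combination this)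
      have ha : a = d * g ^ 2 := by
        apply hinj
        rw [← hα, hg, map_mul, map_pow, ← hδ, Algebra.smul_def]; ring
      have hf' : f = d * i ^ 2 := by
        apply hinj
        rw [← hφ, hi, map_mul, map_pow, ← hδ, Algebra.smul_def]; ring
      refine ⟨d, g, 1, i, ?_⟩
      rw [← quad_eq]
      congr 1
      · rw [h2]; ring
      · rw [h2]; ring
      · ring
      · rw [h2]; ring

include hI in
theorem main (a b c d e f : κ) (hne : (a, b, c, d, e, f) ≠ (0, 0, 0, 0, 0, 0))
    (hmem : (C a + C b * X 0 + C c * X 1 + C d * X 0 ^ 2 + C e * X 0 * X 1 + C f * X 1 ^ 2 :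
      MvPolynomial (Fin 2) κ) ∈ I ^ 2) :
    ∃ j g h i : κ, (C a + C b * X 0 + C c * X 1 + C d * X 0 ^ 2 + C e * X 0 * X 1 + C f * X 1 ^ 2 :
      MvPolynomial (Fin 2) κ) = C j * (C g + C h * X 0 + C i * X 1) ^ 2 := by
  have hq : quad a b c d e f ∈ I ^ 2 := hmem
  obtain ⟨r1, r2, r3⟩ := rows_mem I a b c d e f hq
  obtain ⟨m1, m2, m3⟩ := minors I hI _ _ _ _ _ _ r1 r2
  obtain ⟨m4, m5, m6⟩ := minors I hI _ _ _ _ _ _ r3 r1
  obtain ⟨m7, m8, m9⟩ := minors I hI _ _ _ _ _ _ r3 r2
  by_cases h2 : (2 : κ) = 0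
  · have h4 : (4 : κ) = 0 := by
      have : (4 : κ) = 2 * 2 := by norm_num
      rw [this, h2, mul_zero]
    have hb : b = 0 := by
      have : b ^ 2 = 0 := by linear_combination -m5 + (a * d) * h4
      exact pow_eq_zero_iff two_ne_zero |>.1 this
    have hc : c = 0 := by
      have : c ^ 2 = 0 := by linear_combination -m9 + (a * f) * h4
      exact pow_eq_zero_iff two_ne_zero |>.1 this
    have he : e = 0 := by
      have : e ^ 2 = 0 := by linear_combination -m1 + (d * f) * h4
      exact pow_eq_zero_iff two_ne_zero |>.1 this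
    subst hb hc he
    exact main_eq2 I hI h2 a d f hq
  · exact main_ne2 h2 a b c d e f hne (by linear_combination m1) (by linear_combination m2)
      (by linear_combination m3) (by linear_combination m5) (by linear_combination m6)
      (by linear_combination m9)

end

end Groth.Agent.Helper3.QuadSq
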