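import Mathlib
import Groth.Prelude
import Groth.Agent.Helper3.SepPts
import Groth.Agent.Helper3.GrpImg2
import Groth.Agent.Helper3.CompSchC
import Groth.Agent.Helper5.ProdDom
import Groth.Agent.Helper5.GrpClosed1

set_option autoImplicit false
set_option linter.style.haveILetI false
set_option linter.unusedSectionVars false
set_option linter.unusedVariables false
set_option linter.unusedSectionVars false
set_option linter.unusedVariables false

universe u

open AlgebraicGeometry CategoryTheory CategoryTheory.Limits TopologicalSpace Topology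
open MonoidalCategory CartesianMonoidalCategory MonObj GrpObj

namespace Groth.Agent.Helper3.QuotFin

open Groth.Agent.Helper5.GrpDense

theorem exists_point_of_isPullback {P A B Z : Scheme.{u}} {f' : P ⟶ A} {g' : P ⟶ B}
    {f : A ⟶ Z} {g : B ⟶ Z} (h : IsPullback f' g' f g) (a : A) (b : B)
    (hab : f.base a = g.base b) : ∃ p : P, f'.base p = a ∧ g'.base p = b := by
  obtain ⟨w, hw1, hw2⟩ := Scheme.Pullback.exists_preimage_pullback (f := f) (g := g) a b hab
  refine ⟨h.isoPullback.inv.base w, ?_, ?_⟩
  · rw [← TopCat.comp_app, ← Scheme.Hom.comp_base, IsPullback.isoPullback_inv_fst]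
    exact hw1
  · rw [← TopCat.comp_app, ← Scheme.Hom.comp_base, IsPullback.isoPullback_inv_snd]
    exact hw2

section shear

variable {C : Type*} [Category C] [CartesianMonoidalCategory C] (G : C) [GrpObj G]

/-- the shear map `(g, h) ↦ (g, g h)` -/
noncomputable def shear : G ⊗ G ⟶ G ⊗ G := lift (fst G G) μ[G]

/-- the inverse shear map `(g, h) ↦ (g, g⁻¹ h)` -/
noncomputable def shearInv : G ⊗ G ⟶ G ⊗ G := lift (fst G G) ((fst G G)⁻¹ * snd G G)

theorem mu_eq : μ[G] = fst G G * snd G G := by
  rw [Hom.mul_def, lift_fst_snd, Category.id_comp]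

theorem shear_inv : shear G ≫ shearInv G = 𝟙 _ := by
  apply CartesianMonoidalCategory.hom_ext
  · simp [shear, shearInv]
  · rw [Category.assoc]
    have h1 : shearInv G ≫ snd G G = (fst G G)⁻¹ * snd G G := lift_snd _ _
    rw [h1, MonObj.comp_mul, GrpObj.comp_inv]
    have h2 : shear G ≫ fst G G = fst G G := lift_fst _ _
    have h3 : shear G ≫ snd G G = μ[G] := lift_snd _ _
    rw [h2, h3, mu_eq, inv_mul_cancel_left, Category.id_comp]

theorem inv_shear : shearInv G ≫ shear G = 𝟙 _ := by
  apply CartesianMonoidalCategory.hom_ext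
  · simp [shear, shearInv]
  · rw [Category.assoc]
    have h1 : shear G ≫ snd G G = μ[G] := lift_snd _ _
    rw [h1, mu_eq, MonObj.comp_mul]
    have h2 : shearInv G ≫ fst G G = fst G G := lift_fst _ _
    have h3 : shearInv G ≫ snd G G = (fst G G)⁻¹ * snd G G := lift_snd _ _
    rw [h2, h3, mul_inv_cancel_left, Category.id_comp]

instance : IsIso (shear G) := ⟨shearInv G, shear_inv G, inv_shear G⟩

end shear

section quot

variable {k : Type u} [Field k] {G H X : Over (Spec (CommRingCat.of k))} [GrpObj G] [GrpObj H]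

theorem range_whiskerLeft (i : H ⟶ G) :
    Set.range (G ◁ i).left.base = (snd G G).left.base ⁻¹' Set.range i.left.base := by
  apply Set.Subset.antisymm
  · rintro _ ⟨z, rfl⟩
    refine ⟨(snd G H).left.base z, ?_⟩
    rw [← TopCat.comp_app, ← Scheme.Hom.comp_base, ← Over.comp_left, ← TopCat.comp_app,
      ← Scheme.Hom.comp_base, ← Over.comp_left, whiskerLeft_snd]
  · rintro w ⟨y, hy⟩
    obtain ⟨p, hp1, -⟩ := exists_point_of_isPullback (isPullback_whiskerLeft G i) w y hy.symm
    exact ⟨p, hp1⟩

theorem isOpen_fibre (i : H ⟶ G) (q : G ⟶ X)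
    (hpb : IsPullback (fst G H) ((G ◁ i) ≫ μ[G]) q q)
    (hopen : IsOpen (Set.range i.left.base)) (g : G.left) :
    IsOpen {g' : G.left | q.left.base g' = q.left.base g} := by
  let rel : G ⊗ H ⟶ G ⊗ G := (G ◁ i) ≫ shear G
  have hrel1 : rel ≫ fst G G = fst G H := by
    simp [rel, shear]
  have hrel2 : rel ≫ snd G G = (G ◁ i) ≫ μ[G] := by
    simp [rel, shear]
  let R : Set (G ⊗ G).left := Set.range rel.left.base
  have hR : IsOpen R := by
    have h1 : R = (shear G).left.base '' Set.range (G ◁ i).left.base := by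
      show Set.range rel.left.base = _
      rw [← Set.range_comp]
      rfl
    rw [h1, range_whiskerLeft]
    haveI : IsIso (shear G).left := (Over.forget _).map_isIso (shear G)
    exact (shear G).left.isOpenEmbedding.isOpenMap _ (hopen.preimage (snd G G).left.continuous)
  let T : Over (Spec (CommRingCat.of k)) := Over.mk (G.left.fromSpecResidueField g ≫ G.hom)
  let gpt : T ⟶ G := Over.homMk (G.left.fromSpecResidueField g) rfl
  let j : T ⊗ G ⟶ G ⊗ G := gpt ▷ G
  have hset : {g' : G.left | q.left.base g' = q.left.base g} =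
      (snd T G).left.base '' (j.left.base ⁻¹' R) := by
    ext g'
    constructor
    · intro hg'
      obtain ⟨z, hz1, hz2⟩ := exists_point_of_isPullback (hpb.map (Over.forget _)) g g' hg'.symm
      have hw1 : (fst G G).left.base (rel.left.base z) = g := by
        rw [← TopCat.comp_app, ← Scheme.Hom.comp_base, ← Over.comp_left, hrel1]
        exact hz1
      have hw2 : (snd G G).left.base (rel.left.base z) = g' := by
        rw [← TopCat.comp_app, ← Scheme.Hom.comp_base, ← Over.comp_left, hrel2]
        exact hz2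
      obtain ⟨v, hv1, -⟩ := exists_point_of_isPullback (isPullback_whiskerRight gpt G)
        (rel.left.base z) (IsLocalRing.closedPoint _) (by
          rw [hw1]
          exact (Scheme.fromSpecResidueField_apply g _).symm)
      refine ⟨v, ⟨z, hv1.symm⟩, ?_⟩
      have : (snd T G).left.base v = (snd G G).left.base (j.left.base v) := by
        rw [← TopCat.comp_app, ← Scheme.Hom.comp_base, ← Over.comp_left, whiskerRight_snd]
      rw [this, hv1, hw2]
    · rintro ⟨v, ⟨z, hz⟩, rfl⟩
      have h1 : (snd T G).left.base v = (snd G G).left.base (j.left.base v) := by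
        rw [← TopCat.comp_app, ← Scheme.Hom.comp_base, ← Over.comp_left, whiskerRight_snd]
      have h2 : g = (fst G G).left.base (j.left.base v) := by
        rw [← TopCat.comp_app, ← Scheme.Hom.comp_base, ← Over.comp_left, whiskerRight_fst,
          Over.comp_left, Scheme.Hom.comp_base, TopCat.comp_app]
        exact (Scheme.fromSpecResidueField_apply g _).symm
      have key : (rel ≫ snd G G) ≫ q = (rel ≫ fst G G) ≫ q := by rw [hrel1, hrel2, hpb.w]
      have key' := congrArg (fun f : G ⊗ H ⟶ X => f.left.base z) key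
      simp only [Over.comp_left, Scheme.Hom.comp_base, TopCat.comp_app] at key'
      show q.left.base ((snd T G).left.base v) = q.left.base g
      rw [h1, h2, ← hz]
      exact key'
  rw [hset]
  exact GrpImg2.isOpenMap_snd_of_field k T G _ (hR.preimage j.left.continuous)

theorem finite_of_quot [QuasiCompact G.hom] (i : H ⟶ G) (q : G ⟶ X) [Surjective q.left]
    (hpb : IsPullback (fst G H) ((G ◁ i) ≫ μ[G]) q q)
    (hopen : IsOpen (Set.range i.left.base)) : Finite X.left := by
  haveI : CompactSpace G.left := QuasiCompact.compactSpace_of_compactSpace G.hom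
  obtain ⟨t, ht⟩ := isCompact_univ.elim_finite_subcover
    (fun g : G.left => {g' : G.left | q.left.base g' = q.left.base g})
    (fun g => isOpen_fibre i q hpb hopen g)
    (fun g _ => Set.mem_iUnion.mpr ⟨g, rfl⟩)
  have hfin : (Set.univ : Set X.left) ⊆ (fun g => q.left.base g) '' (t : Set G.left) := by
    intro x _
    obtain ⟨g', rfl⟩ := q.left.surjective x
    have := ht (Set.mem_univ g')
    simp only [Set.mem_iUnion] at this
    obtain ⟨g, hg, hg'⟩ := this
    exact ⟨g, hg, hg'.symm⟩
  exact Set.finite_univ_iff.mp ((t.finite_toSet.image _).subset hfin)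

theorem isFinite_of_finite [LocallyOfFiniteType X.hom] [Finite X.left] : IsFinite X.hom := by
  haveI : CompactSpace X.left := Finite.compactSpace
  haveI : QuasiCompact X.hom :=
    (HasAffineProperty.iff_of_isAffine (P := @QuasiCompact)).mpr inferInstance
  haveI : LocallyQuasiFinite X.hom :=
    locallyQuasiFinite_iff_finite_preimage_singleton.mpr fun x => Set.toFinite _
  exact IsFinite.of_locallyQuasiFinite X.hom

end quot

open AGF AlgGrp in
theorem main (k : Type u) [Field k]
    (G G₀ : Over (Spec (CommRingCat.of k))) [GrpObj G] [GrpObj G₀] [LocallyOfFiniteType G.hom] [QuasiCompact G.hom]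
    (r₀ : G₀ ⟶ G) [IsMonHom r₀] [IsClosedImmersion r₀.left] [IsReduced G₀.left] (t : ↥((𝟙_ (Over (Spec (CommRingCat.of k)))).left))
    (hr₀ : Set.range ⇑r₀.left.base = connectedComponent ((η[G]).left.base t)) :
    (∀ (X : Over (Spec (CommRingCat.of k))) (a : AlgGrp.Action G X) (o : 𝟙_ (Over (Spec (CommRingCat.of k))) ⟶ X), AGF.IsQuotient r₀ X a o → IsFinite X.hom) ∧
    ∀ (H : Over (Spec (CommRingCat.of k))) [GrpObj H] (h : H ⟶ G) [IsMonHom h] [IsClosedImmersion h.left]
      (X : Over (Spec (CommRingCat.of k))) (a : AlgGrp.Action G X) (o : 𝟙_ (Over (Spec (CommRingCat.of k))) ⟶ X),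
      AGF.IsQuotient h X a o → IsFinite X.hom → ∃ g : G₀ ⟶ H, g ≫ h = r₀ := by
  haveI : IsLocallyNoetherian G.left := LocallyOfFiniteType.isLocallyNoetherian G.hom
  haveI : LocallyConnectedSpace G.left := Groth.Agent.Helper3.CompSchC.locallyConnectedSpace
  constructor
  · rintro X a o ⟨hlft, hflat, hsurj, hpb⟩
    haveI := hlft
    haveI := hsurj
    haveI : Finite X.left := finite_of_quot r₀ (a.orbitMap o) hpb (by
      rw [hr₀]; exact isOpen_connectedComponent)
    exact isFinite_of_finite
  · intro H _ h _ _ X a o ⟨hlft, hflat, hsurj, hpb⟩ hfin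
    haveI := hfin
    -- X is discrete
    haveI : IsLocallyArtinian X.left := IsLocallyArtinian.of_locallyQuasiFinite X.hom
    haveI : DiscreteTopology X.left := inferInstance
    -- G₀ is connected
    haveI : ConnectedSpace G₀.left := by
      have hc : _root_.IsConnected (Set.range r₀.left.base) := by
        rw [hr₀]; exact isConnected_connectedComponent
      rw [← Set.image_univ] at hc
      have hpre := (r₀.left.isEmbedding.isInducing.isPreconnected_image).mp hc.isPreconnected
      haveI : Nonempty G₀.left := by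
        obtain ⟨_, x, -, -⟩ := hc.nonempty
        exact ⟨x⟩
      exact connectedSpace_iff_univ.mpr ⟨Set.univ_nonempty, hpre⟩
    let q := a.orbitMap o
    -- q ∘ η = o
    have hqη : η[G] ≫ q = o := by
      show η[G] ≫ lift (𝟙 G) (toUnit G ≫ o) ≫ a.act = o
      have h1 : η[G] ≫ lift (𝟙 G) (toUnit G ≫ o) = lift (𝟙 _) o ≫ (η[G] ▷ X) := by
        apply CartesianMonoidalCategory.hom_ext
        · simp
        · simp only [Category.assoc, lift_snd, whiskerRight_snd]
          rw [← Category.assoc, toUnit_unique (η[G] ≫ toUnit G) (𝟙 _), Category.id_comp]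
      rw [← Category.assoc, h1, Category.assoc, a.one_act]
      simp
    -- r₀ ≫ q is constant
    have hconst : Set.range (r₀ ≫ q).left.base ⊆ Set.range o.left.base := by
      rintro _ ⟨x, rfl⟩
      refine ⟨t, ?_⟩
      have hc : Continuous (r₀ ≫ q).left.base := (r₀ ≫ q).left.continuous
      have h1 := PreconnectedSpace.constant (inferInstance : PreconnectedSpace G₀.left) hc
        (x := x) (y := η[G₀].left.base t)
      rw [h1, ← TopCat.comp_app, ← Scheme.Hom.comp_base, ← Over.comp_left, ← Category.assoc,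
        IsMonHom.one_hom, hqη]
    haveI : IsClosedImmersion o.left :=
      isClosedImmersion_of_comp_eq_id X.hom o.left (Over.w o)
    obtain ⟨ψ, hψ⟩ := Groth.Agent.Helper3.SepPts.lift_of_reduced o.left (r₀ ≫ q).left hconst
    have hrq : r₀ ≫ q = (toUnit G₀ ≫ η[G]) ≫ q := by
      rw [Category.assoc, hqη]
      ext
      rw [← hψ, Over.comp_left]
      congr 1
      have e1 : (ψ ≫ o.left) ≫ X.hom = (r₀ ≫ q).left ≫ X.hom := by rw [hψ]
      rw [Category.assoc, Over.w o, Over.w (r₀ ≫ q)] at e1
      have e2 : (toUnit G₀).left ≫ (𝟙_ (Over (Spec (CommRingCat.of k)))).hom = G₀.hom :=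
        Over.w (toUnit G₀)
      have e3 : (𝟙_ (Over (Spec (CommRingCat.of k)))).hom = 𝟙 _ := rfl
      rw [e3, Category.comp_id] at e2
      rw [e2]
      simpa using e1
    obtain ⟨z, hz1, hz2⟩ : ∃ z : G₀ ⟶ G ⊗ H, z ≫ fst G H = toUnit G₀ ≫ η[G] ∧
        z ≫ ((G ◁ h) ≫ μ[G]) = r₀ :=
      ⟨hpb.lift (toUnit G₀ ≫ η[G]) r₀ hrq.symm, hpb.lift_fst _ _ _, hpb.lift_snd _ _ _⟩
    refine ⟨z ≫ snd G H, ?_⟩
    have hm : (G ◁ h) ≫ μ[G] = (fst G H) * (snd G H ≫ h) := by
      rw [Hom.mul_def]
      congr 1
    rw [hm, MonObj.comp_mul, hz1, ← Category.assoc, ← Hom.one_def, _root_.one_mul] at hz2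
    exact hz2

end Groth.Agent.Helper3.QuotFin
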