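import Mathlib
import Groth.Prelude
import Groth.Agent.Helper3.CHR3
import Groth.Agent.Helper6.QuotAct

set_option autoImplicit false
set_option linter.style.haveILetI false
set_option linter.unusedSectionVars false
set_option linter.unusedVariables false
set_option linter.deprecated false
set_option linter.style.haveILetI false
set_option linter.unusedSectionVars false
set_option linter.unusedVariables false

universe u

namespace Groth.Agent.Helper3.QuotFree

open CategoryTheory Limits AlgebraicGeometry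

set_option backward.isDefEq.respectTransparency false in
/-- An affine morphism all of whose ring maps over affine opens are étale is étale. -/
theorem etale_of_app {X Y : Scheme.{u}} (p : X ⟶ Y) [IsAffineHom p]
    (h : ∀ U : Y.Opens, IsAffineOpen U → (p.app U).hom.Etale) : Etale p := by
  rw [IsZariskiLocalAtTarget.iff_of_iSup_eq_top (P := @Etale) _ (iSup_affineOpens_eq_top Y)]
  intro U
  haveI : IsAffine (U.1 : Scheme) := U.2
  haveI : IsAffine ((p ⁻¹ᵁ U.1 : X.Opens) : Scheme) := U.2.preimage p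
  rw [HasRingHomProperty.iff_of_isAffine (P := @Etale)]
  change ((p ∣_ U.1).app ⊤).hom.Etale
  rw [morphismRestrict_app, CommRingCat.hom_comp, RingHom.Etale.respectsIso.cancel_right_isIso]
  have key : ∀ (W : Y.Opens), W = U.1 → (p.app W).hom.Etale := by
    rintro W rfl
    exact h _ U.2
  exact key _ (Scheme.Opens.ι_image_top U.1)

open Groth.Agent.Helper6.QuotAct Groth.Agent.Helper3.CHR in
/-- A quotient by a finite group acting freely on geometric points is étale. -/
theorem etale_of_free {X Y : Scheme.{u}} {G : Type u} [Group G] [Finite G] (ρ : G →* Aut X)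
    (p : X ⟶ Y) (hp : SGA1.IsQuot ρ p)
    (hfree : ∀ (K : Type u) [Field K] [IsAlgClosed K] (ξ : Spec (CommRingCat.of K) ⟶ X) (g : G),
      ξ ≫ (ρ g).hom = ξ → g = 1) : Etale p := by
  haveI := hp.affine
  apply etale_of_app
  intro U hU
  have hW : IsAffineOpen (p ⁻¹ᵁ U) := hU.preimage p
  letI := act ρ p hp.inv U
  letI : Algebra Γ(Y, U) Γ(X, p ⁻¹ᵁ U) := (p.app U).hom.toAlgebra
  haveI := Groth.Agent.Helper6.QuotAct.isInvariant ρ p hp U
  haveI := Groth.Agent.Helper6.QuotAct.smulComm ρ p hp U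
  have hinj : Function.Injective (algebraMap Γ(Y, U) Γ(X, p ⁻¹ᵁ U)) := hp.injective U
  refine (global Γ(Y, U) Γ(X, p ⁻¹ᵁ U) G hinj ?_).2.2.1
  intro σ hσ q hq
  by_contra hcon
  push Not at hcon
  apply hσ
  letI : Field (Γ(X, p ⁻¹ᵁ U) ⧸ q) := Ideal.Quotient.field q
  let K := AlgebraicClosure (Γ(X, p ⁻¹ᵁ U) ⧸ q)
  let φ : Γ(X, p ⁻¹ᵁ U) →+* K :=
    (algebraMap (Γ(X, p ⁻¹ᵁ U) ⧸ q) K).comp (Ideal.Quotient.mk q)
  have hφ : ∀ x y : Γ(X, p ⁻¹ᵁ U), x - y ∈ q → φ x = φ y := by
    intro x y hxy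
    change algebraMap _ K (Ideal.Quotient.mk q x) = algebraMap _ K (Ideal.Quotient.mk q y)
    rw [(Ideal.Quotient.eq).mpr hxy]
  let ξ : Spec (CommRingCat.of K) ⟶ X := Spec.map (CommRingCat.ofHom φ) ≫ hW.fromSpec
  have h1 : ξ ≫ (ρ σ⁻¹).hom = ξ := by
    change (Spec.map (CommRingCat.ofHom φ) ≫ hW.fromSpec) ≫ (ρ σ⁻¹).hom = _
    rw [Category.assoc, ← IsAffineOpen.SpecMap_appLE_fromSpec (ρ σ⁻¹).hom hW hW
      (SGA1.preimage_le_of_inv ρ p hp.inv σ⁻¹ U), ← Category.assoc, ← Spec.map_comp]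
    congr 2
    ext x
    change φ ((pb ρ p hp.inv σ⁻¹ U).hom x) = φ x
    apply hφ
    exact hcon x
  have := hfree K ξ σ⁻¹ h1
  exact inv_eq_one.mp this

end Groth.Agent.Helper3.QuotFree
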