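import Mathlib
import Groth.Prelude
import Groth.Agent.Helper3.QuotFree1
import Groth.Agent.Helper3.FSec1
import Groth.Agent.Helper9.GeomTrans
import Groth.Agent.Helper9.QuotAff

set_option autoImplicit false
set_option linter.style.haveILetI false
set_option linter.unusedSectionVars false
set_option linter.unusedVariables false
set_option linter.deprecated false
set_option linter.style.haveILetI false
set_option linter.unusedSectionVars false
set_option linter.unusedVariables false

universe u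

namespace Groth.Agent.Helper3.QuotFree

open CategoryTheory Limits AlgebraicGeometry

/-- A geometric point at a given point. -/
lemma exists_geom_pt (P : Scheme.{u}) (z : P) :
    ∃ (K : Type u) (_ : Field K) (_ : IsAlgClosed K) (ζ : Spec (CommRingCat.of K) ⟶ P),
      ∀ t, ζ.base t = z := by
  refine ⟨AlgebraicClosure (P.residueField z), inferInstance, inferInstance,
    Spec.map (CommRingCat.ofHom (algebraMap (P.residueField z)
      (AlgebraicClosure (P.residueField z)))) ≫ P.fromSpecResidueField z, ?_⟩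
  intro t
  rw [Scheme.Hom.comp_apply]
  exact Scheme.fromSpecResidueField_apply _ _

/-- A morphism landing in the image of a section which is an open immersion factors through it. -/
lemma eq_comp_of_range {P X' T : Scheme.{u}} (π : P ⟶ X') (j : X' ⟶ P) (hj : j ≫ π = 𝟙 X')
    [IsOpenImmersion j] (ζ : T ⟶ P) (h : Set.range ζ.base ⊆ Set.range j.base) :
    ζ = (ζ ≫ π) ≫ j := by
  have h1 : IsOpenImmersion.lift j ζ h ≫ j = ζ := IsOpenImmersion.lift_fac j ζ h
  have h2 : ζ ≫ π = IsOpenImmersion.lift j ζ h := by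
    calc ζ ≫ π = (IsOpenImmersion.lift j ζ h ≫ j) ≫ π := by rw [h1]
      _ = IsOpenImmersion.lift j ζ h := by rw [Category.assoc, hj, Category.comp_id]
  rw [h2, h1]

/-- A family of sections which are open immersions, separated by geometric points and jointly
surjective on geometric points, trivialises `π`. -/
theorem isIso_sigmaDesc {P X' : Scheme.{u}} {G : Type u} (π : P ⟶ X') (j : G → (X' ⟶ P))
    (hj : ∀ g, j g ≫ π = 𝟙 X') [∀ g, IsOpenImmersion (j g)]
    (hdisj : ∀ (g h : G) (K : Type u) [Field K] [IsAlgClosed K]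
      (ξ : Spec (CommRingCat.of K) ⟶ X'), ξ ≫ j g = ξ ≫ j h → g = h)
    (hsurj : ∀ (K : Type u) [Field K] [IsAlgClosed K] (ζ : Spec (CommRingCat.of K) ⟶ P),
      ∃ g, ζ = (ζ ≫ π) ≫ j g) :
    IsIso (Sigma.desc j) := by
  haveI : IsOpenImmersion (Sigma.desc j) := by
    apply isOpenImmersion_sigmaDesc
    intro g h hgh
    rw [Function.onFun, Set.disjoint_iff]
    rintro z ⟨hzg, hzh⟩
    apply hgh
    obtain ⟨K, _, _, ζ, hζ⟩ := exists_geom_pt P z
    have h1 : ζ = (ζ ≫ π) ≫ j g := eq_comp_of_range π (j g) (hj g) ζ (by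
      rintro _ ⟨t, rfl⟩; rw [hζ]; exact hzg)
    have h2 : ζ = (ζ ≫ π) ≫ j h := eq_comp_of_range π (j h) (hj h) ζ (by
      rintro _ ⟨t, rfl⟩; rw [hζ]; exact hzh)
    exact hdisj g h K (ζ ≫ π) (h1.symm.trans h2)
  apply isIso_of_isOpenImmersion_of_opensRange_eq_top
  rw [eq_top_iff]
  intro z _
  obtain ⟨K, _, _, ζ, hζ⟩ := exists_geom_pt P z
  obtain ⟨g, hg⟩ := hsurj K ζ
  let t : Spec (CommRingCat.of K) := IsLocalRing.closedPoint K
  refine ⟨(Sigma.ι (fun _ : G => X') g).base ((ζ ≫ π).base t), ?_⟩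
  rw [← Scheme.Hom.comp_apply, Sigma.ι_desc, ← Scheme.Hom.comp_apply, ← hg, hζ]

open Groth.Agent.Helper9.QuotAff in
/-- Freeness on geometric points separates the group elements. -/
lemma eq_of_comp_eq {X : Scheme.{u}} {G : Type u} [Group G] (ρ : G →* Aut X)
    (hfree : ∀ (K : Type u) [Field K] [IsAlgClosed K] (ξ : Spec (CommRingCat.of K) ⟶ X) (g : G),
      ξ ≫ (ρ g).hom = ξ → g = 1)
    (K : Type u) [Field K] [IsAlgClosed K] (ξ : Spec (CommRingCat.of K) ⟶ X) (g h : G)
    (hgh : ξ ≫ (ρ g).hom = ξ ≫ (ρ h).hom) : g = h := by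
  have h1 : ξ ≫ (ρ (h⁻¹ * g)).hom = ξ := by
    rw [hom_mul, ← Category.assoc, hgh, Category.assoc, hom_inv_hom, Category.comp_id]
  have := hfree K ξ _ h1
  exact (inv_mul_eq_one.mp this).symm

theorem s2920 {X Y : Scheme.{u}} {G : Type u} [Group G] [Finite G] (ρ : G →* Aut X)
    (p : X ⟶ Y) (hp : SGA1.IsQuot ρ p) [IsLocallyNoetherian Y] [IsFinite p]
    (hfree : (∀ (K : Type u) [Field K] [IsAlgClosed K] (ξ : Spec (CommRingCat.of K) ⟶ X) (g : G),
      ξ ≫ (ρ g).hom = ξ → g = 1)) :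
    IsIso (Sigma.desc (fun g : G => pullback.lift (𝟙 X) (ρ g).hom
        ((Category.id_comp p).trans (hp.inv g).symm)) : (∐ fun _ : G => X) ⟶ pullback p p) ∧
      Flat p ∧ Surjective p := by
  haveI hE : Etale p := etale_of_free ρ p hp hfree
  refine ⟨?_, (Etale.iff_flat_and_formallyUnramified.mp hE).1,
    ⟨Groth.Agent.Helper9.FinQuot.surjective hp⟩⟩
  haveI : ∀ g : G, IsOpenImmersion (pullback.lift (𝟙 X) (ρ g).hom
      ((Category.id_comp p).trans (hp.inv g).symm) : X ⟶ pullback p p) := fun g =>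
    Groth.Agent.Helper3.FSec.sec_openImm (pullback.fst p p)
      ⟨pullback.lift (𝟙 X) (ρ g).hom ((Category.id_comp p).trans (hp.inv g).symm),
        pullback.lift_fst _ _ _⟩
  apply isIso_sigmaDesc (pullback.fst p p)
  · intro g
    exact pullback.lift_fst _ _ _
  · intro g h K _ _ ξ hξ
    apply eq_of_comp_eq ρ hfree K ξ
    have := congrArg (fun f => f ≫ pullback.snd p p) hξ
    simpa only [Category.assoc, pullback.lift_snd] using this
  · intro K _ _ ζ
    obtain ⟨g, hg⟩ := Groth.Agent.Helper9.GeomTrans.main hp K (ζ ≫ pullback.fst p p)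
      (ζ ≫ pullback.snd p p) (by rw [Category.assoc, Category.assoc, pullback.condition])
    refine ⟨g, ?_⟩
    apply pullback.hom_ext
    · rw [Category.assoc, pullback.lift_fst, Category.comp_id]
    · rw [Category.assoc, pullback.lift_snd, hg]

theorem s2919 {X Y : Scheme.{u}} {G : Type u} [Group G] [Finite G] (ρ : G →* Aut X)
    (p : X ⟶ Y) (hp : SGA1.IsQuot ρ p) [IsLocallyNoetherian Y] [IsFinite p]
    (hfree : (∀ (K : Type u) [Field K] [IsAlgClosed K] (ξ : Spec (CommRingCat.of K) ⟶ X) (g : G),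
      ξ ≫ (ρ g).hom = ξ → g = 1)) (s : Y ⟶ X) (hs : s ≫ p = 𝟙 Y) :
    IsIso (Sigma.desc (fun g : G => s ≫ (ρ g).hom) : (∐ fun _ : G => Y) ⟶ X) := by
  haveI hE : Etale p := etale_of_free ρ p hp hfree
  have hsec : ∀ g : G, (s ≫ (ρ g).hom) ≫ p = 𝟙 Y := fun g => by
    rw [Category.assoc, hp.inv, hs]
  haveI : ∀ g : G, IsOpenImmersion (s ≫ (ρ g).hom) := fun g =>
    Groth.Agent.Helper3.FSec.sec_openImm p ⟨s ≫ (ρ g).hom, hsec g⟩
  apply isIso_sigmaDesc p
  · exact hsec
  · intro g h K _ _ ξ hξ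
    apply eq_of_comp_eq ρ hfree K (ξ ≫ s)
    simpa only [Category.assoc] using hξ
  · intro K _ _ ζ
    obtain ⟨g, hg⟩ := Groth.Agent.Helper9.GeomTrans.main hp K ((ζ ≫ p) ≫ s) ζ (by
      rw [Category.assoc, hs, Category.comp_id])
    refine ⟨g, ?_⟩
    rw [← Category.assoc]
    exact hg

end Groth.Agent.Helper3.QuotFree
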