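import Mathlib

set_option linter.style.haveILetI false
set_option linter.unusedSectionVars false
set_option linter.unusedVariables false

namespace Groth.Agent.Helper3.RamInsep

universe u

theorem main (A B K L : Type u) [CommRing A] [IsDomain A]
    [IsDiscreteValuationRing A] [CommRing B] [IsDomain B] [IsDiscreteValuationRing B] [Algebra A B]
    (hinj : Function.Injective (algebraMap A B)) [IsLocalHom (algebraMap A B)]
    [Field K] [Field L] [Algebra A K] [IsFractionRing A K] [Algebra B L] [IsFractionRing B L]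
    [Algebra K L] [Algebra A L] [IsScalarTower A K L] [IsScalarTower A B L]
    (p : ℕ) (hp : p.Prime) [CharP K p] [IsPurelyInseparable K L] :
    ∃ k : ℕ, Ideal.ramificationIdx' (IsLocalRing.maximalIdeal A) (IsLocalRing.maximalIdeal B) =
      p ^ k := by
  classical
  haveI : Fact p.Prime := ⟨hp⟩
  haveI : ExpChar K p := ExpChar.prime hp
  obtain ⟨ϖA, hA⟩ := IsDiscreteValuationRing.exists_irreducible A
  obtain ⟨ϖB, hB⟩ := IsDiscreteValuationRing.exists_irreducible B
  -- the image of ϖA
  have hne : algebraMap A B ϖA ≠ 0 := fun h => hA.ne_zero (hinj (h.trans (map_zero _).symm))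
  obtain ⟨e, u, hu⟩ := IsDiscreteValuationRing.eq_unit_mul_pow_irreducible hne hB
  -- images of general elements
  have himg : ∀ a : A, a ≠ 0 → ∃ (s : ℕ) (v : Bˣ), algebraMap A B a = v * ϖB ^ (e * s) := by
    intro a ha
    obtain ⟨s, w, rfl⟩ := IsDiscreteValuationRing.eq_unit_mul_pow_irreducible ha hA
    refine ⟨s, Units.map (algebraMap A B) w * u ^ s, ?_⟩
    rw [map_mul, map_pow, hu, mul_pow, ← pow_mul]
    simp only [Units.val_mul, Units.coe_map, MonoidHom.coe_coe, Units.val_pow_eq_pow_val]
    ring
  -- ramification index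
  have hram : Ideal.ramificationIdx' (IsLocalRing.maximalIdeal A) (IsLocalRing.maximalIdeal B)
      = e := by
    have h1 : IsLocalRing.maximalIdeal A = Ideal.span {ϖA} :=
      (IsDiscreteValuationRing.irreducible_iff_uniformizer _).mp hA
    have h2 : IsLocalRing.maximalIdeal B = Ideal.span {ϖB} :=
      (IsDiscreteValuationRing.irreducible_iff_uniformizer _).mp hB
    have h3 : Ideal.map (algebraMap A B) (IsLocalRing.maximalIdeal A) = Ideal.span {ϖB ^ e} := by
      rw [h1, Ideal.map_span, Set.image_singleton, hu]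
      exact Ideal.span_singleton_eq_span_singleton.mpr (associated_unit_mul_left _ _ u.isUnit)
    apply Ideal.ramificationIdx'_spec
    · rw [h3, h2, Ideal.span_singleton_pow]
    · rw [h3, h2, Ideal.span_singleton_pow, Ideal.span_singleton_le_span_singleton]
      intro hdvd
      have := (pow_dvd_pow_iff hB.ne_zero hB.not_isUnit).mp hdvd
      omega
  -- purely inseparable
  obtain ⟨k, x, hx⟩ := IsPurelyInseparable.pow_mem K p (algebraMap B L ϖB)
  obtain ⟨a, b, hb, rfl⟩ := IsLocalization.exists_mk'_eq (nonZeroDivisors A) x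
  have hb0 : (b : A) ≠ 0 := nonZeroDivisors.ne_zero b.2
  have ha0 : a ≠ 0 := by
    rintro rfl
    rw [IsLocalization.mk'_zero, map_zero] at hx
    have h4 := (eq_zero_of_pow_eq_zero hx.symm : algebraMap B L ϖB = 0)
    exact hB.ne_zero ((IsFractionRing.injective B L) (h4.trans (map_zero _).symm))
  have key : algebraMap A B b * ϖB ^ (p ^ k) = algebraMap A B a := by
    apply IsFractionRing.injective B L
    rw [map_mul, map_pow, ← hx, ← IsScalarTower.algebraMap_apply,
      IsScalarTower.algebraMap_apply A K L, ← map_mul, IsLocalization.mk'_spec',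
      ← IsScalarTower.algebraMap_apply, ← IsScalarTower.algebraMap_apply]
  obtain ⟨s, v, hv⟩ := himg a ha0
  obtain ⟨t, w, hw⟩ := himg b hb0
  rw [hv, hw, mul_assoc, ← pow_add] at key
  have h5 := IsDiscreteValuationRing.unit_mul_pow_congr_pow hB hB w v _ _ key
  have h6 : e ∣ p ^ k := by
    refine (Nat.dvd_add_right (Dvd.intro t rfl)).mp ?_
    rw [h5]
    exact Dvd.intro s rfl
  obtain ⟨j, -, hj⟩ := (Nat.dvd_prime_pow hp).mp h6
  exact ⟨j, hram.trans hj⟩

end Groth.Agent.Helper3.RamInsep
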