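import Mathlib

set_option autoImplicit false
set_option linter.style.haveILetI false
set_option linter.unusedSectionVars false
set_option linter.unusedVariables false
set_option linter.deprecated false
set_option linter.style.haveILetI false
set_option linter.unusedSectionVars false
set_option linter.unusedVariables false

universe u v w

/-!
# Total ramification with trivial residue extension: `e ≥ |G|`
-/

namespace Groth.Agent.Helper3.RamInv

open Polynomial

variable (A : Type u) [CommRing A] [IsDomain A] (B : Type v) [CommRing B] [Algebra B A]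
  (G : Type w) [Group G] [Finite G] [MulSemiringAction G A] [SMulCommClass G B A]

/-- The `B`-span of `1, π, …, π^(i-1)`. -/
def Npow (π : A) (i : ℕ) : Submodule B A :=
  Submodule.span B (Set.range fun j : Fin i => π ^ (j : ℕ))

lemma Npow_mono (π : A) {i j : ℕ} (h : i ≤ j) : Npow A B π i ≤ Npow A B π j := by
  unfold Npow
  apply Submodule.span_mono
  rintro _ ⟨k, rfl⟩
  exact ⟨⟨k, lt_of_lt_of_le k.2 h⟩, rfl⟩

lemma pow_mem_Npow (π : A) (i : ℕ) : π ^ i ∈ Npow A B π (i + 1) :=
  Submodule.subset_span ⟨⟨i, Nat.lt_succ_self i⟩, rfl⟩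

variable {A B}

/-- Iterating the residue hypothesis. -/
lemma step1 {π : A} (hπ : Prime π)
    (hres : ∀ a : A, ∃ b c : B, ¬ π ∣ algebraMap B A c ∧
      π ∣ algebraMap B A c * a - algebraMap B A b) (i : ℕ) (a : A) :
    ∃ c : B, ¬ π ∣ algebraMap B A c ∧ ∃ n ∈ Npow A B π i, ∃ a' : A,
      c • a = n + π ^ i * a' := by
  induction i with
  | zero =>
    refine ⟨1, ?_, 0, Submodule.zero_mem _, a, ?_⟩
    · rw [map_one]; exact hπ.not_dvd_one
    · rw [one_smul, pow_zero, one_mul, zero_add]
  | succ i ih =>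
    obtain ⟨c, hc, n, hn, a', h⟩ := ih
    obtain ⟨b₁, c₁, hc₁, a'', h₁⟩ := hres a'
    refine ⟨c₁ * c, ?_, c₁ • n + b₁ • π ^ i, ?_, a'', ?_⟩
    · rw [map_mul]
      intro hd
      rcases hπ.dvd_or_dvd hd with h | h
      · exact hc₁ h
      · exact hc h
    · exact Submodule.add_mem _ (Submodule.smul_mem _ _ (Npow_mono A B π (Nat.le_succ i) hn))
        (Submodule.smul_mem _ _ (pow_mem_Npow A B π i))
    · rw [mul_smul, h, smul_add, Algebra.smul_def c₁ (π ^ i * a'), Algebra.smul_def b₁]
      have : algebraMap B A c₁ * a' = algebraMap B A b₁ + π * a'' := by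
        rw [← h₁]; ring
      rw [show algebraMap B A c₁ * (π ^ i * a') = π ^ i * (algebraMap B A c₁ * a') by ring, this]
      ring

variable {G}

/-- The norm of an element prime to `π` is prime to `π` (when `π` is stable up to units). -/
lemma exists_norm [Algebra.IsInvariant B A G] {π : A} (hπ : Prime π)
    (hstab : ∀ σ : G, π ∣ σ • π) {w : A} (hw : ¬ π ∣ w) :
    ∃ n : B, ¬ π ∣ algebraMap B A n ∧ w ∣ algebraMap B A n := by
  classical
  haveI : Fintype G := Fintype.ofFinite G
  obtain ⟨n, hn⟩ := Algebra.IsInvariant.isInvariant (A := B) (B := A) (G := G)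
    (∏ σ : G, σ • w) (by
      intro g
      rw [Finset.smul_prod']
      exact Fintype.prod_equiv (MulAction.toPerm g) _ _ (fun σ => by
        simp [MulAction.toPerm_apply, mul_smul]))
  refine ⟨n, ?_, ?_⟩
  · rw [hn]
    intro hd
    obtain ⟨σ, -, hσ⟩ := (Prime.dvd_finset_prod_iff hπ _).mp hd
    apply hw
    have h1 : σ⁻¹ • π ∣ σ⁻¹ • (σ • w) :=
      map_dvd (MulSemiringAction.toRingHom G A σ⁻¹) hσ
    rw [inv_smul_smul] at h1
    exact (hstab σ⁻¹).trans h1
  · rw [hn]
    have := Finset.dvd_prod_of_mem (fun σ : G => σ • w) (Finset.mem_univ (1 : G))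
    rwa [one_smul] at this

/-- Integral form of the input to Nakayama's lemma. -/
lemma step2 [Algebra.IsInvariant B A G] {π : A} (hπ : Prime π)
    (hstab : ∀ σ : G, π ∣ σ • π)
    (hres : ∀ a : A, ∃ b c : B, ¬ π ∣ algebraMap B A c ∧
      π ∣ algebraMap B A c * a - algebraMap B A b)
    (e : ℕ) (x₀ : B) (w : A) (hx₀ : algebraMap B A x₀ = π ^ e * w) (hw : ¬ π ∣ w) (a : A) :
    ∃ c : B, ¬ π ∣ algebraMap B A c ∧ ∃ n ∈ Npow A B π e, ∃ a' : A,
      c • a = n + x₀ • a' := by
  obtain ⟨c, hc, n, hn, a', h⟩ := step1 hπ hres e a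
  obtain ⟨nw, hnw, v, hv⟩ := exists_norm (B := B) (G := G) hπ hstab hw
  refine ⟨nw * c, ?_, nw • n, Submodule.smul_mem _ _ hn, v * a', ?_⟩
  · rw [map_mul]
    intro hd
    rcases hπ.dvd_or_dvd hd with h | h
    · exact hnw h
    · exact hc h
  · rw [mul_smul, h, smul_add, Algebra.smul_def nw (π ^ e * a'), Algebra.smul_def x₀, hv, hx₀]
    ring

/-- After Nakayama: every element of `A` lies, up to a multiplier prime to `π`, in the span of
the low powers of `π`. -/
lemma step3 [Module.Finite B A] [Algebra.IsInvariant B A G] {π : A} (hπ : Prime π)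
    (hstab : ∀ σ : G, π ∣ σ • π)
    (hres : ∀ a : A, ∃ b c : B, ¬ π ∣ algebraMap B A c ∧
      π ∣ algebraMap B A c * a - algebraMap B A b)
    (e : ℕ) (x₀ : B) (w : A) (hx₀ : algebraMap B A x₀ = π ^ e * w) (hw : ¬ π ∣ w)
    (hx₀π : π ∣ algebraMap B A x₀) (a : A) :
    ∃ c : B, ¬ π ∣ algebraMap B A c ∧ c • a ∈ Npow A B π e := by
  classical
  let q : Ideal B := (Ideal.span {π}).comap (algebraMap B A)
  haveI hP : (Ideal.span {π} : Ideal A).IsPrime :=
    (Ideal.span_singleton_prime hπ.ne_zero).mpr hπ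
  haveI hq : q.IsPrime := Ideal.comap_isPrime _ _
  have hqmem : ∀ c : B, c ∈ q ↔ π ∣ algebraMap B A c := fun c => by
    change algebraMap B A c ∈ Ideal.span {π} ↔ _
    rw [Ideal.mem_span_singleton]
  let Bq := Localization.AtPrime q
  let Aq := Localization (Algebra.algebraMapSubmonoid A q.primeCompl)
  let N' : Submodule Bq Aq := Submodule.span Bq ((algebraMap A Aq) '' (Npow A B π e : Set A))
  have hunit : ∀ c : B, ¬ π ∣ algebraMap B A c → IsUnit (algebraMap B Bq c) := fun c hc =>
    IsLocalization.map_units Bq (⟨c, fun h => hc ((hqmem c).mp h)⟩ : q.primeCompl)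
  have htop : (⊤ : Submodule Bq Aq) ≤ N' ⊔ IsLocalRing.maximalIdeal Bq • ⊤ := by
    intro y _
    obtain ⟨a, ⟨s, t, ht, rfl⟩, rfl⟩ :=
      IsLocalization.exists_mk'_eq (Algebra.algebraMapSubmonoid A q.primeCompl) y
    obtain ⟨c, hc, n, hn, a', h⟩ := step2 (G := G) hπ hstab hres e x₀ w hx₀ hw a
    have htq : ¬ π ∣ algebraMap B A t := fun h => ht ((hqmem t).mpr h)
    have htc : ¬ π ∣ algebraMap B A (t * c) := by
      rw [map_mul]
      intro hd
      rcases hπ.dvd_or_dvd hd with h | h
      · exact htq h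
      · exact hc h
    obtain ⟨u, hu⟩ := hunit (t * c) htc
    set y := IsLocalization.mk' Aq a
      (⟨algebraMap B A t, t, ht, rfl⟩ : Algebra.algebraMapSubmonoid A q.primeCompl) with hy
    have h1 : algebraMap B Bq (t * c) • y = algebraMap A Aq n + algebraMap B Bq x₀ • algebraMap A Aq a' := by
      rw [Algebra.smul_def, Algebra.smul_def, ← IsScalarTower.algebraMap_apply,
        ← IsScalarTower.algebraMap_apply, IsScalarTower.algebraMap_apply B A Aq,
        IsScalarTower.algebraMap_apply B A Aq x₀, ← map_mul, ← map_add, map_mul,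
        map_mul (algebraMap A Aq), mul_comm (algebraMap A Aq (algebraMap B A t)), mul_assoc,
        hy]
      have := IsLocalization.mk'_spec' Aq a
        (⟨algebraMap B A t, t, ht, rfl⟩ : Algebra.algebraMapSubmonoid A q.primeCompl)
      rw [this, ← map_mul]
      congr 1
      rw [← Algebra.smul_def, h, Algebra.smul_def]
    have h2 : y = (↑u⁻¹ : Bq) • algebraMap A Aq n +
        ((↑u⁻¹ : Bq) * algebraMap B Bq x₀) • algebraMap A Aq a' := by
      rw [mul_smul, ← smul_add, ← h1, ← hu, smul_smul, Units.inv_mul, one_smul]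
    rw [h2]
    apply Submodule.add_mem
    · apply Submodule.mem_sup_left
      exact Submodule.smul_mem _ _ (Submodule.subset_span ⟨n, hn, rfl⟩)
    · apply Submodule.mem_sup_right
      refine Submodule.smul_mem_smul (Ideal.mul_mem_left _ _ ?_) Submodule.mem_top
      rw [IsLocalization.AtPrime.to_map_mem_maximal_iff Bq q]
      exact (hqmem x₀).mpr hx₀π
  have hN'top : (⊤ : Submodule Bq Aq) ≤ N' :=
    Submodule.le_of_le_smul_of_le_jacobson_bot (Module.finite_def.mp inferInstance)
      (IsLocalRing.maximalIdeal_le_jacobson _) htop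
  -- descent
  have hdesc : ∀ y ∈ N', ∃ c : B, ¬ π ∣ algebraMap B A c ∧ ∃ n ∈ Npow A B π e,
      algebraMap B Bq c • y = algebraMap A Aq n := by
    intro y hy
    induction hy using Submodule.span_induction with
    | mem y hy =>
      obtain ⟨n, hn, rfl⟩ := hy
      exact ⟨1, by rw [map_one]; exact hπ.not_dvd_one, n, hn, by rw [map_one, one_smul]⟩
    | zero =>
      exact ⟨1, by rw [map_one]; exact hπ.not_dvd_one, 0, Submodule.zero_mem _, by
        rw [smul_zero, map_zero]⟩
    | add y₁ y₂ _ _ h₁ h₂ =>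
      obtain ⟨c₁, hc₁, n₁, hn₁, e₁⟩ := h₁
      obtain ⟨c₂, hc₂, n₂, hn₂, e₂⟩ := h₂
      refine ⟨c₁ * c₂, ?_, c₂ • n₁ + c₁ • n₂,
        Submodule.add_mem _ (Submodule.smul_mem _ _ hn₁) (Submodule.smul_mem _ _ hn₂), ?_⟩
      · rw [map_mul]
        intro hd
        rcases hπ.dvd_or_dvd hd with h | h
        · exact hc₁ h
        · exact hc₂ h
      · have h1 : algebraMap B Bq (c₁ * c₂) • y₁ = algebraMap A Aq (c₂ • n₁) := by
          rw [map_mul, mul_comm, mul_smul, e₁, Algebra.smul_def c₂ n₁, map_mul,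
            ← IsScalarTower.algebraMap_apply, Algebra.smul_def, ← IsScalarTower.algebraMap_apply]
        have h2 : algebraMap B Bq (c₁ * c₂) • y₂ = algebraMap A Aq (c₁ • n₂) := by
          rw [map_mul, mul_smul, e₂, Algebra.smul_def c₁ n₂, map_mul,
            ← IsScalarTower.algebraMap_apply, Algebra.smul_def, ← IsScalarTower.algebraMap_apply]
        rw [smul_add, h1, h2, map_add]
    | smul r y _ h =>
      obtain ⟨c, hc, n, hn, e₁⟩ := h
      obtain ⟨b, ⟨t, ht⟩, rfl⟩ := IsLocalization.exists_mk'_eq q.primeCompl r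
      have htq : ¬ π ∣ algebraMap B A t := fun h => ht ((hqmem t).mpr h)
      refine ⟨t * c, ?_, b • n, Submodule.smul_mem _ _ hn, ?_⟩
      · rw [map_mul]
        intro hd
        rcases hπ.dvd_or_dvd hd with h | h
        · exact htq h
        · exact hc h
      · rw [smul_smul, map_mul, mul_comm (algebraMap B Bq t), mul_assoc,
          IsLocalization.mk'_spec' Bq b (⟨t, ht⟩ : q.primeCompl), mul_comm, mul_smul, e₁,
          Algebra.smul_def b n, map_mul, ← IsScalarTower.algebraMap_apply, Algebra.smul_def,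
          ← IsScalarTower.algebraMap_apply]
  obtain ⟨c, hc, n, hn, h⟩ := hdesc (algebraMap A Aq a) (hN'top trivial)
  refine ⟨c, hc, ?_⟩
  have hinjA : Function.Injective (algebraMap A Aq) := by
    apply IsLocalization.injective Aq (M := Algebra.algebraMapSubmonoid A q.primeCompl)
    rintro _ ⟨t, ht, rfl⟩
    apply mem_nonZeroDivisors_of_ne_zero
    intro h0
    apply ht
    rw [SetLike.mem_coe, hqmem, h0]
    exact dvd_zero π
  have : algebraMap A Aq (c • a) = algebraMap A Aq n := by
    rw [← h, Algebra.smul_def c a, map_mul, Algebra.smul_def, ← IsScalarTower.algebraMap_apply,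
      ← IsScalarTower.algebraMap_apply]
  rw [hinjA this]
  exact hn

/-- Elements of the span of powers of `π` are fixed by any `ρ` fixing `π`. -/
lemma smul_eq_of_mem_Npow {π : A} {ρ : G} (hρ : ρ • π = π) (i : ℕ) {a : A}
    (ha : a ∈ Npow A B π i) : ρ • a = a := by
  unfold Npow at ha
  induction ha using Submodule.span_induction with
  | mem x hx =>
    obtain ⟨j, rfl⟩ := hx
    change ρ • π ^ (j : ℕ) = π ^ (j : ℕ)
    rw [smul_pow', hρ]
  | zero => rw [smul_zero]
  | add x y _ _ hx hy => rw [smul_add, hx, hy]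
  | smul b x _ hx => rw [smul_comm, hx]

/-- **Core inequality**: with trivial residue extension, the ramification index is at least the
order of the group. -/
theorem card_le [Module.Finite B A] [Algebra.IsInvariant B A G] [FaithfulSMul G A] {π : A}
    (hπ : Prime π) (hstab : ∀ σ : G, π ∣ σ • π)
    (hres : ∀ a : A, ∃ b c : B, ¬ π ∣ algebraMap B A c ∧
      π ∣ algebraMap B A c * a - algebraMap B A b)
    (e : ℕ) (x₀ : B) (w : A) (hx₀ : algebraMap B A x₀ = π ^ e * w) (hw : ¬ π ∣ w)
    (hx₀π : π ∣ algebraMap B A x₀) : Nat.card G ≤ e := by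
  classical
  haveI : Fintype G := Fintype.ofFinite G
  have h3 := step3 (G := G) hπ hstab hres e x₀ w hx₀ hw hx₀π
  -- injectivity of `σ ↦ σ • π`
  have hinj : Function.Injective (fun σ : G => σ • π) := by
    intro σ τ hστ
    have hρ : (τ⁻¹ * σ) • π = π := by
      rw [mul_smul]
      change τ⁻¹ • (σ • π) = π
      have : σ • π = τ • π := hστ
      rw [this, inv_smul_smul]
    have h1 : τ⁻¹ * σ = 1 := by
      apply FaithfulSMul.eq_of_smul_eq_smul (α := A)
      intro a
      rw [one_smul]
      obtain ⟨c, hc, hmem⟩ := h3 a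
      have h2 := smul_eq_of_mem_Npow (B := B) hρ e hmem
      rw [smul_comm] at h2
      have hc0 : algebraMap B A c ≠ 0 := fun h0 => hc (h0 ▸ dvd_zero π)
      rw [Algebra.smul_def, Algebra.smul_def] at h2
      exact mul_left_cancel₀ hc0 h2
    rw [inv_mul_eq_one] at h1
    exact h1.symm
  -- the polynomial
  obtain ⟨c, hc, hmem⟩ := h3 (π ^ e)
  unfold Npow at hmem
  obtain ⟨b, hb⟩ := (Submodule.mem_span_range_iff_exists_fun B).mp hmem
  have hc0 : algebraMap B A c ≠ 0 := fun h0 => hc (h0 ▸ dvd_zero π)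
  let P : A[X] := C (algebraMap B A c) * X ^ e - ∑ j : Fin e, C (algebraMap B A (b j)) * X ^ (j : ℕ)
  have hsumdeg : (∑ j : Fin e, C (algebraMap B A (b j)) * X ^ (j : ℕ) : A[X]).degree < e := by
    apply (Polynomial.degree_sum_le _ _).trans_lt
    rw [Finset.sup_lt_iff (by exact_mod_cast WithBot.bot_lt_coe e)]
    intro j _
    exact (Polynomial.degree_C_mul_X_pow_le _ _).trans_lt (by exact_mod_cast j.2)
  have hPdeg : P.natDegree ≤ e := by
    apply (Polynomial.natDegree_sub_le _ _).trans
    apply max_le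
    · exact Polynomial.natDegree_C_mul_X_pow_le _ _
    · exact Polynomial.natDegree_le_of_degree_le hsumdeg.le
  have hP0 : P ≠ 0 := by
    intro h0
    have h1 : P.coeff e = 0 := by rw [h0, Polynomial.coeff_zero]
    have h2 : (∑ j : Fin e, C (algebraMap B A (b j)) * X ^ (j : ℕ) : A[X]).coeff e = 0 :=
      Polynomial.coeff_eq_zero_of_degree_lt hsumdeg
    rw [Polynomial.coeff_sub, h2, sub_zero, Polynomial.coeff_C_mul, Polynomial.coeff_X_pow,
      if_pos rfl, mul_one] at h1
    exact hc0 h1
  have hroot : ∀ σ : G, P.IsRoot (σ • π) := by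
    intro σ
    have h1 : P.eval π = 0 := by
      simp only [P, Polynomial.eval_sub, Polynomial.eval_mul, Polynomial.eval_C,
        Polynomial.eval_pow, Polynomial.eval_X, Polynomial.eval_finset_sum]
      rw [sub_eq_zero, ← Algebra.smul_def, ← hb]
      apply Finset.sum_congr rfl
      intro j _
      rw [Algebra.smul_def]
    have h2 : P.eval (σ • π) = σ • P.eval π := by
      simp only [P, Polynomial.eval_sub, Polynomial.eval_mul, Polynomial.eval_C,
        Polynomial.eval_pow, Polynomial.eval_X, Polynomial.eval_finset_sum]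
      rw [smul_sub, smul_mul', smul_pow', smul_algebraMap, Finset.smul_sum]
      congr 1
      apply Finset.sum_congr rfl
      intro j _
      rw [smul_mul', smul_pow', smul_algebraMap]
    rw [Polynomial.IsRoot, h2, h1, smul_zero]
  have hZ : (Finset.univ.image (fun σ : G => σ • π)).val ⊆ P.roots := by
    intro x hx
    rw [Finset.mem_val, Finset.mem_image] at hx
    obtain ⟨σ, -, rfl⟩ := hx
    exact (Polynomial.mem_roots hP0).mpr (hroot σ)
  have h4 := Polynomial.card_le_degree_of_subset_roots hZ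
  rw [Finset.card_image_of_injective _ hinj, Finset.card_univ] at h4
  rw [Nat.card_eq_fintype_card]
  exact h4.trans hPdeg

/-- With trivial residue extension at the totally fixed prime `(π)`, every invariant element
divisible by `π` is divisible by `π ^ |G|`. -/
theorem pow_card_dvd [Module.Finite B A] [Algebra.IsInvariant B A G] [FaithfulSMul G A]
    [WfDvdMonoid A] {π : A}
    (hπ : Prime π) (hstab : ∀ σ : G, π ∣ σ • π)
    (hres : ∀ a : A, ∃ b c : B, ¬ π ∣ algebraMap B A c ∧
      π ∣ algebraMap B A c * a - algebraMap B A b)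
    (x : B) (hx : π ∣ algebraMap B A x) : π ^ Nat.card G ∣ algebraMap B A x := by
  classical
  by_cases hx0 : algebraMap B A x = 0
  · rw [hx0]; exact dvd_zero _
  have hQ : ∃ n : ℕ, ∃ y : B, π ∣ algebraMap B A y ∧ ¬ π ^ (n + 1) ∣ algebraMap B A y := by
    obtain ⟨n, hn⟩ := FiniteMultiplicity.of_not_isUnit hπ.not_unit hx0
    exact ⟨n, x, hx, hn⟩
  obtain ⟨x₀, hx₀π, hx₀e⟩ := Nat.find_spec hQ
  have hmin : ∀ y : B, π ∣ algebraMap B A y → π ^ (Nat.find hQ) ∣ algebraMap B A y := by
    intro y hy
    rcases Nat.eq_zero_or_pos (Nat.find hQ) with h0 | hpos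
    · rw [h0, pow_zero]; exact one_dvd _
    · have := Nat.find_min hQ (Nat.sub_lt hpos Nat.one_pos)
      push Not at this
      have h2 := this y hy
      rwa [Nat.sub_add_cancel hpos] at h2
  obtain ⟨w, hw⟩ := hmin x₀ hx₀π
  have hwπ : ¬ π ∣ w := by
    rintro ⟨v, rfl⟩
    apply hx₀e
    rw [hw, pow_succ, ← mul_assoc]
    exact dvd_mul_right _ _
  have hle := card_le (G := G) hπ hstab hres (Nat.find hQ) x₀ w hw hwπ hx₀π
  exact (pow_dvd_pow π hle).trans (hmin x hx)

end Groth.Agent.Helper3.RamInv
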