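import Mathlib
import Groth.Agent.Helper3.RamInv1
import Groth.Agent.Helper3.CHR4

set_option autoImplicit false
set_option linter.style.haveILetI false
set_option linter.unusedSectionVars false
set_option linter.unusedVariables false
set_option linter.deprecated false
set_option linter.style.haveILetI false
set_option linter.unusedSectionVars false
set_option linter.unusedVariables false

universe u v w

namespace Groth.Agent.Helper3.RamInv

/-- If `π ^ |D|` divides the invariant element `x`, where `D` is the stabiliser of the prime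
`(π)`, then the norm of `π` divides `x`. -/
lemma norm_dvd (A : Type u) [CommRing A] [IsDomain A] [UniqueFactorizationMonoid A]
    (G : Type w) [Group G] [Fintype G] [MulSemiringAction G A]
    {π : A} (hπ : Prime π) (D : Subgroup G) (hD : ∀ σ : G, σ ∈ D ↔ π ∣ σ • π)
    (x : A) (hxinv : ∀ σ : G, σ • x = x) (hx : π ^ Nat.card D ∣ x) :
    ∏ σ : G, σ • π ∣ x := by
  classical
  have hprime : ∀ σ : G, Prime (σ • π) := fun σ =>
    (MulEquiv.prime_iff (MulSemiringAction.toRingEquiv G A σ)).mpr hπ
  rw [← Fintype.prod_fiberwise (fun σ : G => (σ : G ⧸ D)) (fun σ => σ • π)]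
  apply Fintype.prod_dvd_of_isRelPrime
  · intro c c' hcc'
    change IsRelPrime (∏ σ : {σ : G // (σ : G ⧸ D) = c}, (σ : G) • π)
      (∏ τ : {τ : G // (τ : G ⧸ D) = c'}, (τ : G) • π)
    apply IsRelPrime.prod_left
    intro σ _
    apply IsRelPrime.prod_right
    intro τ _
    rw [(hprime σ.1).irreducible.isRelPrime_iff_not_dvd]
    intro hdvd
    apply hcc'
    rw [← σ.2, ← τ.2, QuotientGroup.eq, hD]
    have h1 : (σ.1)⁻¹ • ((σ.1) • π) ∣ (σ.1)⁻¹ • ((τ.1) • π) :=
      map_dvd (MulSemiringAction.toRingHom G A (σ.1)⁻¹) hdvd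
    rwa [inv_smul_smul, ← mul_smul] at h1
  · intro c
    obtain ⟨ρ, rfl⟩ := QuotientGroup.mk_surjective c
    have h1 : ∏ σ : {σ : G // (σ : G ⧸ D) = (ρ : G ⧸ D)}, (σ : G) • π ∣
        ∏ _σ : {σ : G // (σ : G ⧸ D) = (ρ : G ⧸ D)}, ρ • π := by
      apply Finset.prod_dvd_prod_of_dvd
      intro σ _
      have h2 : (σ.1)⁻¹ * ρ ∈ D := QuotientGroup.eq.mp σ.2
      rw [hD, mul_smul] at h2
      have h3 : (σ.1) • π ∣ (σ.1) • ((σ.1)⁻¹ • ρ • π) :=
        map_dvd (MulSemiringAction.toRingHom G A (σ.1)) h2
      rwa [smul_inv_smul] at h3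
    refine h1.trans ?_
    rw [Finset.prod_const, Finset.card_univ]
    have hcard : Fintype.card {σ : G // (σ : G ⧸ D) = (ρ : G ⧸ D)} ≤ Nat.card D := by
      rw [← Nat.card_eq_fintype_card]
      apply Nat.card_le_card_of_injective
        (fun σ : {σ : G // (σ : G ⧸ D) = (ρ : G ⧸ D)} =>
          (⟨ρ⁻¹ * σ.1, QuotientGroup.eq.mp σ.2.symm⟩ : D))
      intro σ τ hστ
      have : ρ⁻¹ * σ.1 = ρ⁻¹ * τ.1 := congrArg Subtype.val hστ
      exact Subtype.ext (mul_left_cancel this)
    refine (pow_dvd_pow _ hcard).trans ?_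
    have h4 : ρ • (π ^ Nat.card D) ∣ ρ • x :=
      map_dvd (MulSemiringAction.toRingHom G A ρ) hx
    rwa [smul_pow', hxinv] at h4

section Main

variable {A : Type u} {B : Type v} {G : Type w} [CommRing A] [IsDomain A]
  [UniqueFactorizationMonoid A]
  [CommRing B] [Algebra B A] [Module.Finite B A]
  [Group G] [Finite G] [MulSemiringAction G A] [FaithfulSMul G A] [SMulCommClass G B A]
  [Algebra.IsInvariant B A G]

/-- The stabiliser of the prime `(π)`. -/
def stab (G : Type w) [Group G] [MulSemiringAction G A] {π : A} (hπ : Prime π) : Subgroup G where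
  carrier := {σ | π ∣ σ • π}
  one_mem' := by change π ∣ (1 : G) • π; rw [one_smul]
  mul_mem' := by
    intro σ τ hσ hτ
    change π ∣ (σ * τ) • π
    rw [mul_smul]
    exact (hσ : π ∣ σ • π).trans (map_dvd (MulSemiringAction.toRingHom G A σ) hτ)
  inv_mem' := by
    intro σ hσ
    change π ∣ σ⁻¹ • π
    have hprime : Prime (σ⁻¹ • π) :=
      (MulEquiv.prime_iff (MulSemiringAction.toRingEquiv G A σ⁻¹)).mpr hπ
    have h1 : σ⁻¹ • π ∣ σ⁻¹ • (σ • π) := map_dvd (MulSemiringAction.toRingHom G A σ⁻¹) hσ
    rw [inv_smul_smul] at h1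
    exact ((hprime.dvd_prime_iff_associated hπ).mp h1).symm.dvd

lemma mem_stab {π : A} (hπ : Prime π) (σ : G) : σ ∈ stab G hπ ↔ π ∣ σ • π := Iff.rfl

/-- Key divisibility: an element of `B` divisible by `π` is divisible by the norm of `π`. -/
theorem norm_dvd_of_dvd (hinj : Function.Injective (algebraMap B A)) {π : A} (hπ : Prime π)
    (hres : ∀ a : A, ∃ b c : B, ¬ π ∣ algebraMap B A c ∧
      π ∣ algebraMap B A c * a - algebraMap B A b)
    (x : B) (hx : π ∣ algebraMap B A x) :
    letI : Fintype G := Fintype.ofFinite G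
    ∏ σ : G, σ • π ∣ algebraMap B A x := by
  classical
  letI : Fintype G := Fintype.ofFinite G
  let D : Subgroup G := stab G hπ
  let BD := FixedPoints.subring A D
  letI algBBD : Algebra B BD := ((algebraMap B A).codRestrict BD (fun b σ => by
    rw [Subgroup.smul_def, smul_algebraMap])).toAlgebra
  haveI : IsScalarTower B BD A := IsScalarTower.of_algebraMap_eq (fun _ => rfl)
  haveI : Module.Finite BD A := Module.Finite.of_restrictScalars_finite B BD A
  have hstab : ∀ δ : D, π ∣ δ • π := fun δ => δ.2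
  have hresD : ∀ a : A, ∃ b c : BD, ¬ π ∣ algebraMap BD A c ∧
      π ∣ algebraMap BD A c * a - algebraMap BD A b := by
    intro a
    obtain ⟨b, c, hc, hbc⟩ := hres a
    exact ⟨algebraMap B BD b, algebraMap B BD c, hc, hbc⟩
  have key := pow_card_dvd (B := BD) (G := D) hπ hstab hresD (algebraMap B BD x) hx
  exact norm_dvd A G hπ D (fun σ => mem_stab hπ σ) (algebraMap B A x)
    (fun σ => smul_algebraMap σ x) key

variable (G)

include G in
/-- **Principal generator.** Under the trivial residue extension hypothesis, the contraction of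
`(π)` to the invariant ring is generated by the norm of `π`. -/
theorem comap_eq_span (hinj : Function.Injective (algebraMap B A)) {π : A} (hπ : Prime π)
    (hres : ∀ a : A, ∃ b c : B, ¬ π ∣ algebraMap B A c ∧
      π ∣ algebraMap B A c * a - algebraMap B A b) :
    ∃ t : B, t ≠ 0 ∧ (Ideal.span {π}).comap (algebraMap B A) = Ideal.span {t} := by
  classical
  letI : Fintype G := Fintype.ofFinite G
  obtain ⟨t, ht⟩ := Algebra.IsInvariant.isInvariant (A := B) (B := A) (G := G)
    (∏ σ : G, σ • π) (by
      intro g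
      rw [Finset.smul_prod']
      exact Fintype.prod_equiv (MulAction.toPerm g) _ _ (fun σ => by
        simp [MulAction.toPerm_apply, mul_smul]))
  have htπ : π ∣ algebraMap B A t := by
    rw [ht]
    have := Finset.dvd_prod_of_mem (fun σ : G => σ • π) (Finset.mem_univ (1 : G))
    rwa [one_smul] at this
  have ht0 : t ≠ 0 := by
    intro h0
    rw [h0, map_zero] at ht
    have := Finset.prod_eq_zero_iff.mp ht.symm
    obtain ⟨σ, -, hσ⟩ := this
    exact hπ.ne_zero ((smul_eq_zero_iff_eq σ).mp hσ)
  refine ⟨t, ht0, ?_⟩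
  apply le_antisymm
  · intro x hx
    rw [Ideal.mem_comap, Ideal.mem_span_singleton] at hx
    have h1 := norm_dvd_of_dvd (G := G) hinj hπ hres x hx
    rw [← ht] at h1
    obtain ⟨a, ha⟩ := h1
    -- `a` is invariant
    have hainv : ∀ σ : G, σ • a = a := by
      intro σ
      have h2 : σ • algebraMap B A x = σ • (algebraMap B A t * a) := by rw [ha]
      rw [smul_mul', smul_algebraMap, smul_algebraMap, ha] at h2
      have ht0' : algebraMap B A t ≠ 0 := fun h0 => ht0 (hinj (by rw [h0, map_zero]))
      exact (mul_left_cancel₀ ht0' h2).symm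
    obtain ⟨a', rfl⟩ := Algebra.IsInvariant.isInvariant (A := B) (B := A) (G := G) a hainv
    rw [← map_mul] at ha
    rw [Ideal.mem_span_singleton]
    exact ⟨a', hinj ha⟩
  · rw [Ideal.span_le, Set.singleton_subset_iff]
    change algebraMap B A t ∈ Ideal.span {π}
    rw [Ideal.mem_span_singleton]
    exact htπ

end Main

end Groth.Agent.Helper3.RamInv
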