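import Mathlib
import Groth.Prelude
import Groth.Agent.Helper3.RamInv2
import Groth.Agent.Helper3.EN1
import Groth.Agent.Helper8.RegSeqD

set_option autoImplicit false
set_option linter.style.haveILetI false
set_option linter.unusedSectionVars false
set_option linter.unusedVariables false
set_option linter.deprecated false
set_option linter.style.haveILetI false
set_option linter.unusedSectionVars false
set_option linter.unusedVariables false

universe u v w

namespace Groth.Agent.Helper3.RamInv

/-- Units of `A` coming from the invariant ring are units there. -/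
lemma isUnit_of_isUnit_algebraMap {A : Type u} {B : Type v} (G : Type w) [CommRing A]
    [CommRing B] [Algebra B A] [Group G] [MulSemiringAction G A] [SMulCommClass G B A]
    [Algebra.IsInvariant B A G] (hinj : Function.Injective (algebraMap B A)) {b : B}
    (hb : IsUnit (algebraMap B A b)) : IsUnit b := by
  obtain ⟨a, ha⟩ := hb.exists_right_inv
  have hainv : ∀ σ : G, σ • a = a := by
    intro σ
    have h1 : algebraMap B A b * σ • a = 1 := by
      have := congrArg (fun z => σ • z) ha
      simpa [smul_mul', smul_algebraMap] using this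
    calc σ • a = (a * algebraMap B A b) * σ • a := by rw [mul_comm a, ha, one_mul]
      _ = a * (algebraMap B A b * σ • a) := by ring
      _ = a := by rw [h1, mul_one]
  obtain ⟨b', rfl⟩ := Algebra.IsInvariant.isInvariant (A := B) (B := A) (G := G) a hainv
  rw [← map_mul, ← map_one (algebraMap B A)] at ha
  exact IsUnit.of_mul_eq_one b' (hinj ha)

theorem s16547
    {A B G : Type u} [CommRing A] [IsDomain A] [IsNoetherianRing A] [IsLocalRing A]
    [UniqueFactorizationMonoid A]
    [CommRing B] [Algebra B A] [FaithfulSMul B A] [Module.Finite B A]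
    [Group G] [Finite G] [MulSemiringAction G A] [FaithfulSMul G A] [SMulCommClass G B A]
    [Algebra.IsInvariant B A G]
    (q : Ideal B) [q.IsPrime] (hq : q.height = 1) (p : Ideal A) [p.IsPrime] [p.LiesOver q]
    (hres : ∀ a : A, ∃ b c : B, c ∉ q ∧ algebraMap B A c * a - algebraMap B A b ∈ p) :
    Submodule.IsPrincipal q ∧ (IsRegularLocalRing (B ⧸ q) → IsRegularLocalRing B) := by
  classical
  have hinj : Function.Injective (algebraMap B A) := FaithfulSMul.algebraMap_injective B A
  haveI : IsDomain B := hinj.isDomain (algebraMap B A)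
  haveI : Algebra.IsIntegral B A := Algebra.IsIntegral.of_finite B A
  letI : Fintype G := Fintype.ofFinite G
  have hqne : q ≠ ⊥ := Ideal.ne_bot_of_height_eq_one hq
  have hpne : p ≠ ⊥ := by
    obtain ⟨x, hxq, hx0⟩ := Submodule.exists_mem_ne_zero_of_ne_bot hqne
    intro hp
    have h1 : algebraMap B A x ∈ p := (Ideal.mem_of_liesOver p q x).mp hxq
    rw [hp, Ideal.mem_bot] at h1
    exact hx0 (hinj (by rw [h1, map_zero]))
  obtain ⟨π, hπp, hπ⟩ := Ideal.IsPrime.exists_mem_prime_of_ne_bot ‹p.IsPrime› hpne
  haveI hP' : (Ideal.span {π} : Ideal A).IsPrime :=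
    (Ideal.span_singleton_prime hπ.ne_zero).mpr hπ
  have hP'le : Ideal.span {π} ≤ p := (Ideal.span_singleton_le_iff_mem _).mpr hπp
  have hq'le : (Ideal.span {π}).comap (algebraMap B A) ≤ q := fun x hx =>
    (Ideal.mem_of_liesOver p q x).mpr (hP'le hx)
  -- the norm of `π`
  obtain ⟨t₀, ht₀⟩ := Algebra.IsInvariant.isInvariant (A := B) (B := A) (G := G)
    (∏ σ : G, σ • π) (by
      intro g
      rw [Finset.smul_prod']
      exact Fintype.prod_equiv (MulAction.toPerm g) _ _ (fun σ => by
        simp [MulAction.toPerm_apply, mul_smul]))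
  have ht₀π : π ∣ algebraMap B A t₀ := by
    rw [ht₀]
    have := Finset.dvd_prod_of_mem (fun σ : G => σ • π) (Finset.mem_univ (1 : G))
    rwa [one_smul] at this
  have ht₀0 : t₀ ≠ 0 := by
    intro h0
    rw [h0, map_zero] at ht₀
    obtain ⟨σ, -, hσ⟩ := Finset.prod_eq_zero_iff.mp ht₀.symm
    exact hπ.ne_zero ((smul_eq_zero_iff_eq σ).mp hσ)
  have hq'ne : (Ideal.span {π}).comap (algebraMap B A) ≠ ⊥ := by
    intro h
    have : t₀ ∈ (Ideal.span {π}).comap (algebraMap B A) := by
      rw [Ideal.mem_comap, Ideal.mem_span_singleton]; exact ht₀π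
    rw [h, Ideal.mem_bot] at this
    exact ht₀0 this
  have hq'eq : (Ideal.span {π}).comap (algebraMap B A) = q := by
    by_contra hne
    have hlt : (Ideal.span {π}).comap (algebraMap B A) < q := lt_of_le_of_ne hq'le hne
    haveI : q.FiniteHeight := by simp [Ideal.finiteHeight_iff, hq]
    have h1 := Ideal.height_strict_mono_of_isPrime_of_isPrime hlt
    rw [hq, Order.lt_one_iff, Ideal.height_eq_zero_iff_eq_bot] at h1
    exact hq'ne h1
  have hpeq : p = Ideal.span {π} := by
    by_contra hne
    have hlt : Ideal.span {π} < p := lt_of_le_of_ne hP'le (Ne.symm hne)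
    obtain ⟨x, hxp, hxP'⟩ := Set.exists_of_ssubset hlt
    have h1 := Ideal.comap_lt_comap_of_integral_mem_sdiff (R := B) hP'le ⟨hxp, hxP'⟩
      (Algebra.IsIntegral.isIntegral x)
    rw [hq'eq, ← Ideal.under_def, ← Ideal.over_def p q] at h1
    exact lt_irrefl _ h1
  have hresπ : ∀ a : A, ∃ b c : B, ¬ π ∣ algebraMap B A c ∧
      π ∣ algebraMap B A c * a - algebraMap B A b := by
    intro a
    obtain ⟨b, c, hc, hbc⟩ := hres a
    refine ⟨b, c, ?_, ?_⟩
    · intro hd
      apply hc
      rw [← hq'eq, Ideal.mem_comap, Ideal.mem_span_singleton]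
      exact hd
    · rw [hpeq, Ideal.mem_span_singleton] at hbc
      exact hbc
  obtain ⟨t, ht0, hqt⟩ := comap_eq_span G hinj hπ hresπ
  rw [hq'eq] at hqt
  refine ⟨⟨t, by rw [hqt]⟩, ?_⟩
  intro hreg
  haveI : IsLocalRing B := by
    apply IsLocalRing.of_isUnit_or_isUnit_one_sub_self
    intro b
    rcases IsLocalRing.isUnit_or_isUnit_one_sub_self (algebraMap B A b) with h | h
    · exact Or.inl (isUnit_of_isUnit_algebraMap G hinj h)
    · right
      apply isUnit_of_isUnit_algebraMap G hinj
      rwa [map_sub, map_one]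
  haveI : IsNoetherianRing B :=
    Groth.Agent.Helper3.EakinNagata.isNoetherianRing_of_finite_injective B A hinj
  have hreg' : IsRegularLocalRing (B ⧸ Ideal.span {t}) :=
    IsRegularLocalRing.of_ringEquiv (Ideal.quotEquivOfEq hqt)
  exact Groth.Agent.Helper8.RegSeqD.regular_of_quotient_regular
    (fun y hy => (mul_eq_zero.mp hy).resolve_left ht0) hreg'

end Groth.Agent.Helper3.RamInv
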