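import Mathlib

set_option linter.style.haveILetI false
set_option linter.unusedSectionVars false
set_option linter.unusedVariables false
set_option linter.style.haveILetI false
set_option linter.unusedSectionVars false
set_option linter.unusedVariables false

namespace Groth.Agent.Helper3.RankOneRing

open TensorProduct

universe u

theorem isIntegral_of_isNilpotent {R A : Type*} [CommRing R] [CommRing A] [Algebra R A] {x : A}
    (hx : IsNilpotent x) : IsIntegral R x := by
  obtain ⟨n, hn⟩ := hx
  refine IsIntegral.of_pow (n := n + 1) (Nat.succ_pos n) ?_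
  rw [pow_succ, hn, zero_mul]
  exact isIntegral_zero

/-- flat, finitely presented, universally injective, fibres of rank one at minimal primes: the
multiplication map is bijective -/
theorem lmul_bijective (A B : Type u) [CommRing A] [CommRing B] [Algebra A B] [Module.Flat A B]
    [Algebra.FinitePresentation A B]
    (hnil : RingHom.ker (Algebra.TensorProduct.lmul' A (S := B)) ≤ nilradical (B ⊗[A] B))
    (hfib : ∀ q : Ideal B, q ∈ minimalPrimes B → ∀ [q.IsPrime],
      ∀ x : q.ResidueField ⊗[A] B, ∃ c : q.ResidueField, c ⊗ₜ[A] (1 : B) = x) :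
    Function.Bijective (Algebra.TensorProduct.lmul' A (S := B)) := by
  set μ := Algebra.TensorProduct.lmul' A (S := B) with hμ
  have hμalg : ∀ b : B, μ (algebraMap B (B ⊗[A] B) b) = b := by
    intro b
    rw [Algebra.TensorProduct.algebraMap_apply]
    simp [hμ]
  haveI : Algebra.IsIntegral B (B ⊗[A] B) := by
    refine ⟨fun c => ?_⟩
    have h1 : c - algebraMap B (B ⊗[A] B) (μ c) ∈ RingHom.ker μ := by
      rw [RingHom.mem_ker, map_sub, hμalg, sub_self]
    have h2 : IsNilpotent (c - algebraMap B (B ⊗[A] B) (μ c)) := hnil h1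
    have h3 : c = (c - algebraMap B (B ⊗[A] B) (μ c)) + algebraMap B (B ⊗[A] B) (μ c) := by ring
    rw [h3]
    exact (isIntegral_of_isNilpotent h2).add isIntegral_algebraMap
  haveI : Algebra.FiniteType B (B ⊗[A] B) := inferInstance
  haveI : Module.Finite B (B ⊗[A] B) := Algebra.IsIntegral.finite
  haveI : Module.Flat B (B ⊗[A] B) := inferInstance
  have hrank : ∀ P : PrimeSpectrum B, Module.rankAtStalk (R := B) (B ⊗[A] B) P ≤ 1 := by
    intro P
    obtain ⟨q, hq, hqP⟩ := Ideal.exists_minimalPrimes_le (I := (⊥ : Ideal B)) (J := P.asIdeal) bot_le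
    haveI hqp : q.IsPrime := hq.1.1
    have hq' : q ∈ minimalPrimes B := hq
    have e1 : Module.rankAtStalk (R := B) (B ⊗[A] B) ⟨q, hqp⟩ =
        Module.rankAtStalk (R := B) (B ⊗[A] B) P :=
      Module.rankAtStalk_eq_of_le_of_finite_of_flat (B ⊗[A] B) (p := ⟨q, hqp⟩) (q := P) hqP
    rw [← e1, Module.rankAtStalk_eq]
    show Module.finrank q.ResidueField (q.ResidueField ⊗[B] (B ⊗[A] B)) ≤ 1
    let e : q.ResidueField ⊗[B] (B ⊗[A] B) ≃ₗ[q.ResidueField] q.ResidueField ⊗[A] B :=
      TensorProduct.AlgebraTensorModule.cancelBaseChange A B q.ResidueField q.ResidueField B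
    rw [e.finrank_eq]
    let ψ : q.ResidueField →ₗ[q.ResidueField] q.ResidueField ⊗[A] B :=
      (TensorProduct.AlgebraTensorModule.mk A q.ResidueField q.ResidueField B).flip 1
    have hψ : Function.Surjective ψ := by
      intro x
      obtain ⟨c, hc⟩ := hfib q hq' x
      exact ⟨c, hc⟩
    have := LinearMap.finrank_le_finrank_of_surjective hψ
    rwa [Module.finrank_self] at this
  have hsurj : Function.Surjective (algebraMap B (B ⊗[A] B)) :=
    Module.rankAtStalk_le_one_iff_surjective.mp hrank
  constructor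
  · intro c c' h
    obtain ⟨b, rfl⟩ := hsurj c
    obtain ⟨b', rfl⟩ := hsurj c'
    rw [hμalg, hμalg] at h
    rw [h]
  · intro b
    exact ⟨_, hμalg b⟩

end Groth.Agent.Helper3.RankOneRing
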