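import Mathlib
import Groth.Agent.Helper3.RankOneRing
import Groth.Agent.Helper3.FibIso
import Groth.Agent.Helper5.EtOI

set_option linter.style.haveILetI false
set_option linter.unusedSectionVars false
set_option linter.unusedVariables false
set_option linter.style.haveILetI false
set_option linter.unusedSectionVars false
set_option linter.unusedVariables false

namespace Groth.Agent.Helper3.RankOneSch

open AlgebraicGeometry CategoryTheory Limits TensorProduct

universe u

/-- maximal points: no proper generization -/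
def IsMax {X : Scheme.{u}} (x : X) : Prop := ∀ t : X, t ⤳ x → t = x

theorem isMax_of_isOpenImmersion {X Y : Scheme.{u}} (o : X ⟶ Y) [IsOpenImmersion o] (x : X)
    (hx : IsMax x) : IsMax (o x) := by
  intro t ht
  have hmem : t ∈ Set.range o := ht.mem_open o.isOpenEmbedding.isOpen_range ⟨x, rfl⟩
  obtain ⟨x', rfl⟩ := hmem
  rw [o.isOpenEmbedding.toIsInducing.specializes_iff] at ht
  rw [hx x' ht]

theorem isMax_map_of_flat {X Y : Scheme.{u}} (f : X ⟶ Y) [Flat f] (x : X) (hx : IsMax x) :
    IsMax (f x) := by
  intro t ht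
  obtain ⟨x', hx', rfl⟩ := Flat.generalizingMap f ht
  rw [hx x' hx']

theorem isMax_of_closure_mem {X : Scheme.{u}} (ζ : X)
    (h : closure ({ζ} : Set X) ∈ irreducibleComponents (X : Type u)) : IsMax ζ := by
  intro t ht
  have hsub : closure ({ζ} : Set X) ⊆ closure ({t} : Set X) := specializes_iff_closure_subset.1 ht
  have hirr : IsIrreducible (closure ({t} : Set X)) := isIrreducible_singleton.closure
  have heq : closure ({ζ} : Set X) = closure ({t} : Set X) := le_antisymm hsub (h.2 hirr hsub)
  have h1 : IsGenericPoint ζ (closure ({t} : Set X)) := heq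
  have h2 : IsGenericPoint t (closure ({t} : Set X)) := rfl
  exact h2.eq h1

/-- base change of `g` along field-valued points over images of maximal points is an iso -/
def Hiso {T S : Scheme.{u}} (g : T ⟶ S) : Prop :=
  ∀ ξ : T, IsMax ξ → ∀ (K : Type u) [Field K] (b : Spec (CommRingCat.of K) ⟶ S),
    (∀ pt, b pt = g ξ) → IsIso (pullback.snd g b)

/-- base change of `g` along field-valued points over images of maximal points is an open
immersion -/
def Hoi {T S : Scheme.{u}} (g : T ⟶ S) : Prop :=
  ∀ ξ : T, IsMax ξ → ∀ (K : Type u) [Field K] (b : Spec (CommRingCat.of K) ⟶ S),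
    (∀ pt, b pt = g ξ) → IsOpenImmersion (pullback.snd g b)

theorem Hoi_of_Hiso {T S : Scheme.{u}} (g : T ⟶ S) (h : Hiso g) : Hoi g := by
  intro ξ hξ K _ b hb
  haveI := h ξ hξ K b hb
  infer_instance

theorem Hiso_of_hyp {T S : Scheme.{u}} (g : T ⟶ S) [Flat g]
    (h : ∀ s : S, (∀ t : S, t ⤳ s → t = s) →
      IsEmpty ↑(pullback g (S.fromSpecResidueField s)) ∨
        IsIso (pullback.snd g (S.fromSpecResidueField s))) : Hiso g := by
  intro ξ hξ K _ b hb
  have hs := isMax_map_of_flat g ξ hξ
  have hfi : IsIso (pullback.snd g (S.fromSpecResidueField (g ξ))) := by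
    rcases h (g ξ) hs with hE | hI
    · exfalso
      obtain ⟨w, -, -⟩ := Scheme.Pullback.exists_preimage_pullback (f := g)
        (g := S.fromSpecResidueField (g ξ)) ξ (IsLocalRing.closedPoint (S.residueField (g ξ)))
        (by rw [Scheme.fromSpecResidueField_apply])
      exact hE.false w
    · exact hI
  have hdec := Scheme.descResidueField_stalkClosedPointTo_fromSpecResidueField K S b
  have hs'eq : b (IsLocalRing.closedPoint K) = g ξ := hb _
  have hfi' : IsIso (pullback.snd g (S.fromSpecResidueField (b (IsLocalRing.closedPoint K)))) := by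
    rw [hs'eq]; exact hfi
  rw [← hdec]
  set θ := Spec.map (Scheme.descResidueField (Scheme.stalkClosedPointTo b)) with hθ
  set ι := S.fromSpecResidueField (b (IsLocalRing.closedPoint K)) with hι
  have he : pullback.snd g (θ ≫ ι) =
      (pullbackLeftPullbackSndIso g ι θ).inv ≫ pullback.snd (pullback.snd g ι) θ := by
    rw [Iso.eq_inv_comp, pullbackLeftPullbackSndIso_hom_snd]
  rw [he]
  infer_instance

theorem Hoi_comp_of_isOpenImmersion {T' T S : Scheme.{u}} (o : T' ⟶ T) [IsOpenImmersion o]
    (g : T ⟶ S) (h : Hoi g) : Hoi (o ≫ g) := by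
  intro ξ hξ K _ b hb
  have hξ' := isMax_of_isOpenImmersion o ξ hξ
  haveI := h (o ξ) hξ' K b (fun pt => by rw [hb pt]; rfl)
  let j := pullback.map (o ≫ g) b g b o (𝟙 _) (𝟙 _) (by simp) (by simp)
  have hj : pullback.snd (o ≫ g) b = j ≫ pullback.snd g b := by
    rw [pullback.lift_snd, Category.comp_id]
  rw [hj]
  infer_instance

theorem Hoi_snd_of_isOpenImmersion {T S S' : Scheme.{u}} (g : T ⟶ S) (j : S' ⟶ S)
    [IsOpenImmersion j] (h : Hoi g) : Hoi (pullback.snd g j) := by
  intro ξ hξ K _ b hb
  have hξ' := isMax_of_isOpenImmersion (pullback.fst g j) ξ hξ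
  have hb' : ∀ pt, (b ≫ j) pt = g (pullback.fst g j ξ) := by
    intro pt
    rw [Scheme.Hom.comp_apply, hb pt, ← Scheme.Hom.comp_apply, ← Scheme.Hom.comp_apply,
      pullback.condition]
  haveI := h _ hξ' K (b ≫ j) hb'
  have he : pullback.snd (pullback.snd g j) b =
      (pullbackLeftPullbackSndIso g j b).hom ≫ pullback.snd g (b ≫ j) :=
    (pullbackLeftPullbackSndIso_hom_snd g j b).symm
  rw [he]
  infer_instance

theorem universallyInjective_of_Hiso {T S : Scheme.{u}} (g : T ⟶ S) [Flat g] [IsSeparated g]
    (h : Hiso g) : UniversallyInjective g := by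
  rw [UniversallyInjective.iff_diagonal]
  refine ⟨fun z => ?_⟩
  obtain ⟨ζ, hζz, hζ⟩ := Groth.Agent.Helper5.EtOI.exists_maximal_generization (pullback g g) z
  have hζmax := isMax_of_closure_mem ζ hζ
  have hm1 : IsMax (pullback.fst g g ζ) := isMax_map_of_flat _ _ hζmax
  let K : Type u := (pullback g g).residueField ζ
  let φ : Spec (CommRingCat.of K) ⟶ pullback g g := (pullback g g).fromSpecResidueField ζ
  let a1 := φ ≫ pullback.fst g g
  let a2 := φ ≫ pullback.snd g g
  have hcond : a1 ≫ g = a2 ≫ g := by
    simp only [a1, a2, Category.assoc, pullback.condition]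
  have hb : ∀ pt, (a1 ≫ g) pt = g (pullback.fst g g ζ) := by
    intro pt
    simp only [a1, φ, Scheme.Hom.comp_apply]
    rw [Scheme.fromSpecResidueField_apply]
  haveI : IsIso (pullback.snd g (a1 ≫ g)) := h _ hm1 K (a1 ≫ g) hb
  let τ1 : Spec (CommRingCat.of K) ⟶ pullback g (a1 ≫ g) :=
    pullback.lift a1 (𝟙 _) (by simp)
  let τ2 : Spec (CommRingCat.of K) ⟶ pullback g (a1 ≫ g) :=
    pullback.lift a2 (𝟙 _) (by rw [Category.id_comp, hcond])
  have hτ : τ1 = τ2 := by
    rw [← cancel_mono (pullback.snd g (a1 ≫ g))]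
    simp only [τ1, τ2, pullback.lift_snd]
  have ha : a1 = a2 := by
    have h1 : τ1 ≫ pullback.fst g (a1 ≫ g) = a1 := pullback.lift_fst _ _ _
    have h2 : τ2 ≫ pullback.fst g (a1 ≫ g) = a2 := pullback.lift_fst _ _ _
    rw [← h1, ← h2, hτ]
  have hφ : φ = a1 ≫ pullback.diagonal g := by
    apply pullback.hom_ext
    · rw [Category.assoc, pullback.diagonal_fst, Category.comp_id]
    · rw [Category.assoc, pullback.diagonal_snd, Category.comp_id, ha]
  have hclosed : IsClosed (Set.range (pullback.diagonal g)) :=
    (pullback.diagonal g).isClosedEmbedding.isClosed_range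
  refine hζz.mem_closed hclosed ⟨a1 (IsLocalRing.closedPoint K), ?_⟩
  rw [← Scheme.Hom.comp_apply, ← hφ]
  exact Scheme.fromSpecResidueField_apply _ _

/-- an open immersion into the spectrum of a field comes from a surjective ring map -/
theorem surjective_of_isOpenImmersion_field {K R : Type u} [Field K] [CommRing R] (ψ : K →+* R)
    (h : IsOpenImmersion (Spec.map (CommRingCat.ofHom ψ))) : Function.Surjective ψ := by
  by_cases hR : Subsingleton R
  · intro r
    exact ⟨0, Subsingleton.elim _ _⟩
  · rw [not_subsingleton_iff_nontrivial] at hR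
    haveI : Nonempty ↥(Spec (CommRingCat.of R)) := inferInstanceAs (Nonempty (PrimeSpectrum R))
    haveI : Subsingleton ↥(Spec (CommRingCat.of K)) :=
      inferInstanceAs (Subsingleton (PrimeSpectrum K))
    haveI : Surjective (Spec.map (CommRingCat.ofHom ψ)) := by
      refine ⟨fun y => ?_⟩
      obtain ⟨x⟩ := (inferInstance : Nonempty ↥(Spec (CommRingCat.of R)))
      exact ⟨x, Subsingleton.elim _ _⟩
    haveI : IsIso (Spec.map (CommRingCat.ofHom ψ)) :=
      (isIso_iff_isOpenImmersion_and_surjective _).mpr ⟨h, inferInstance⟩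
    exact (isIso_SpecMap_iff.mp this).2

/-- the affine case -/
theorem affine_case (A B : Type u) [CommRing A] [CommRing B] [Algebra A B]
    (hflat : Flat (Spec.map (CommRingCat.ofHom (algebraMap A B))))
    (hfp : LocallyOfFinitePresentation (Spec.map (CommRingCat.ofHom (algebraMap A B))))
    (hui : UniversallyInjective (Spec.map (CommRingCat.ofHom (algebraMap A B))))
    (hH : Hoi (Spec.map (CommRingCat.ofHom (algebraMap A B)))) :
    IsOpenImmersion (Spec.map (CommRingCat.ofHom (algebraMap A B))) := by
  set f := Spec.map (CommRingCat.ofHom (algebraMap A B)) with hf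
  haveI : Module.Flat A B := by
    have := (HasRingHomProperty.Spec_iff (P := @Flat)).mp hflat
    rwa [CommRingCat.hom_ofHom, RingHom.flat_algebraMap_iff] at this
  haveI : Algebra.FinitePresentation A B := by
    have := (HasRingHomProperty.Spec_iff (P := @LocallyOfFinitePresentation)).mp hfp
    rwa [CommRingCat.hom_ofHom, RingHom.finitePresentation_algebraMap] at this
  -- the kernel of multiplication is nil
  have hnil : RingHom.ker (Algebra.TensorProduct.lmul' A (S := B)) ≤ nilradical (B ⊗[A] B) := by
    have hsurj : Surjective (pullback.diagonal f) := (UniversallyInjective.iff_diagonal f).mp hui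
    rw [hf, diagonal_SpecMap] at hsurj
    have hsurj' : Surjective (Spec.map (CommRingCat.ofHom
        (Algebra.TensorProduct.lmul' A : B ⊗[A] B →ₐ[A] B).toRingHom)) := by
      have := MorphismProperty.comp_mem (W := @Surjective) _ (pullbackSpecIso A B B).hom hsurj
        (inferInstance : Surjective (pullbackSpecIso A B B).hom)
      rwa [Category.assoc, Iso.inv_hom_id, Category.comp_id] at this
    intro x hx
    rw [nilradical_eq_sInf, Ideal.mem_sInf]
    intro P hP
    haveI := hsurj'
    obtain ⟨Q, hQ⟩ := (Spec.map (CommRingCat.ofHom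
        (Algebra.TensorProduct.lmul' A : B ⊗[A] B →ₐ[A] B).toRingHom)).surjective
      (⟨P, hP⟩ : PrimeSpectrum (B ⊗[A] B))
    have hQ' : P = Ideal.comap (Algebra.TensorProduct.lmul' A : B ⊗[A] B →ₐ[A] B).toRingHom
        Q.asIdeal := by
      have := congrArg PrimeSpectrum.asIdeal hQ
      exact this.symm
    rw [hQ', Ideal.mem_comap]
    have : (Algebra.TensorProduct.lmul' A : B ⊗[A] B →ₐ[A] B).toRingHom x = 0 := hx
    rw [this]
    exact Q.asIdeal.zero_mem
  -- fibres
  have hfib : ∀ q : Ideal B, q ∈ minimalPrimes B → ∀ [q.IsPrime],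
      ∀ x : q.ResidueField ⊗[A] B, ∃ c : q.ResidueField, c ⊗ₜ[A] (1 : B) = x := by
    intro q hq hqp x
    let y : ↥(Spec (CommRingCat.of B)) := (⟨q, hqp⟩ : PrimeSpectrum B)
    have hy : IsMax y := by
      intro t ht
      have hle' : (show PrimeSpectrum B from t).asIdeal ≤ q :=
        (PrimeSpectrum.le_iff_specializes (show PrimeSpectrum B from t) ⟨q, hqp⟩).mpr ht
      have := hq.2 ⟨(show PrimeSpectrum B from t).isPrime, bot_le⟩ hle'
      exact PrimeSpectrum.ext (le_antisymm hle' this)
    let b : Spec (CommRingCat.of q.ResidueField) ⟶ Spec (CommRingCat.of A) :=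
      Spec.map (CommRingCat.ofHom (algebraMap A q.ResidueField))
    have hb : ∀ pt, b pt = f y := by
      intro pt
      apply PrimeSpectrum.ext
      show Ideal.comap (algebraMap A q.ResidueField) pt.asIdeal = Ideal.comap (algebraMap A B) q
      have hpt : pt.asIdeal = ⊥ := by
        have := (PrimeSpectrum.instUnique (R := q.ResidueField)).uniq pt
        rw [this]; rfl
      rw [hpt, IsScalarTower.algebraMap_eq A B q.ResidueField, ← Ideal.comap_comap,
        ← RingHom.ker_eq_comap_bot, Ideal.ker_algebraMap_residueField]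
    have hoi := hH y hy q.ResidueField b hb
    have hoi' : IsOpenImmersion ((pullbackSpecIso A B q.ResidueField).inv ≫
        pullback.snd _ _) := inferInstance
    rw [pullbackSpecIso_inv_snd] at hoi'
    have hsurj := surjective_of_isOpenImmersion_field _ hoi'
    obtain ⟨c, hc⟩ := hsurj ((Algebra.TensorProduct.comm A q.ResidueField B) x)
    refine ⟨c, ?_⟩
    apply (Algebra.TensorProduct.comm A q.ResidueField B).injective
    rw [← hc]
    simp
  have hbij := Groth.Agent.Helper3.RankOneRing.lmul_bijective A B hnil hfib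
  haveI : IsIso (pullback.diagonal f) := by
    rw [hf, diagonal_SpecMap]
    haveI : IsIso (Spec.map (CommRingCat.ofHom
        (Algebra.TensorProduct.lmul' A : B ⊗[A] B →ₐ[A] B).toRingHom)) :=
      isIso_SpecMap_iff.mpr hbij
    infer_instance
  haveI : Mono f := (pullback.isIso_diagonal_iff f).mp inferInstance
  exact IsOpenImmersion.of_flat_of_mono f

instance univInj_comp {X Y Z : Scheme.{u}} (f : X ⟶ Y) (g : Y ⟶ Z) [UniversallyInjective f]
    [UniversallyInjective g] : UniversallyInjective (f ≫ g) :=
  MorphismProperty.comp_mem _ f g inferInstance inferInstance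

instance univInj_snd {X Y Z : Scheme.{u}} (f : X ⟶ Z) (g : Y ⟶ Z) [UniversallyInjective f] :
    UniversallyInjective (pullback.snd f g) :=
  MorphismProperty.pullback_snd _ _ inferInstance

theorem Hoi_comp_iso {T S S' : Scheme.{u}} (g : T ⟶ S) (e : S ⟶ S') [IsIso e] (h : Hoi g) :
    Hoi (g ≫ e) := by
  have h1 : Hoi (pullback.snd g (inv e)) := Hoi_snd_of_isOpenImmersion g (inv e) h
  have heq : g ≫ e = inv (pullback.fst g (inv e)) ≫ pullback.snd g (inv e) := by
    rw [IsIso.eq_inv_comp, ← Category.assoc, pullback.condition, Category.assoc, IsIso.inv_hom_id,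
      Category.comp_id]
  rw [heq]
  exact Hoi_comp_of_isOpenImmersion _ _ h1

/-- the affine case, for a morphism of `CommRingCat` -/
theorem affine_case_hom {A B : CommRingCat.{u}} (φ : A ⟶ B)
    (hflat : Flat (Spec.map φ)) (hfp : LocallyOfFinitePresentation (Spec.map φ))
    (hui : UniversallyInjective (Spec.map φ)) (hH : Hoi (Spec.map φ)) :
    IsOpenImmersion (Spec.map φ) := by
  letI := φ.hom.toAlgebra
  exact affine_case A B hflat hfp hui hH

/-- the affine case, for a morphism of affine schemes -/
theorem affine_case' {X Y : Scheme.{u}} [IsAffine X] [IsAffine Y] (r : X ⟶ Y) [Flat r]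
    [LocallyOfFinitePresentation r] [UniversallyInjective r] (hH : Hoi r) :
    IsOpenImmersion r := by
  have heq : Spec.map r.appTop = X.isoSpec.inv ≫ r ≫ Y.isoSpec.hom := by
    rw [← Scheme.isoSpec_hom_naturality, Iso.inv_hom_id_assoc]
  have h1 : IsOpenImmersion (Spec.map r.appTop) := by
    apply affine_case_hom
    · rw [heq]; infer_instance
    · rw [heq]; infer_instance
    · rw [heq]; infer_instance
    · rw [heq]
      exact Hoi_comp_of_isOpenImmersion _ _ (Hoi_comp_iso r _ hH)
  have heq' : r = X.isoSpec.hom ≫ Spec.map r.appTop ≫ Y.isoSpec.inv := by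
    rw [Scheme.isoSpec_hom_naturality_assoc, Iso.hom_inv_id, Category.comp_id]
  rw [heq']
  infer_instance

theorem main {T S : Scheme.{u}} (g : T ⟶ S) [LocallyQuasiFinite g]
    [LocallyOfFinitePresentation g] [QuasiCompact g] [IsSeparated g] [Flat g]
    (h : ∀ s : S, (∀ t : S, t ⤳ s → t = s) →
      IsEmpty ↑(pullback g (S.fromSpecResidueField s)) ∨
        IsIso (pullback.snd g (S.fromSpecResidueField s))) :
    IsOpenImmersion g := by
  have hiso := Hiso_of_hyp g h
  have hoi := Hoi_of_Hiso g hiso
  haveI hui : UniversallyInjective g := universallyInjective_of_Hiso g hiso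
  have hemb : Topology.IsOpenEmbedding g :=
    .of_continuous_injective_isOpenMap g.continuous g.injective g.isOpenMap
  haveI : ∀ ξ, IsIso (g.stalkMap ξ) := by
    intro ξ
    obtain ⟨j, sj, hsj⟩ := S.affineCover.exists_eq (g ξ)
    obtain ⟨ξj, hξj1, hξj2⟩ := Scheme.Pullback.exists_preimage_pullback (f := g)
      (g := S.affineCover.f j) ξ sj hsj.symm
    obtain ⟨k, yk, hyk⟩ := (pullback g (S.affineCover.f j)).affineCover.exists_eq ξj
    let r := (pullback g (S.affineCover.f j)).affineCover.f k ≫ pullback.snd g (S.affineCover.f j)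
    have hHr : Hoi r := Hoi_comp_of_isOpenImmersion _ _
      (Hoi_snd_of_isOpenImmersion g (S.affineCover.f j) hoi)
    haveI : IsOpenImmersion r := affine_case' r hHr
    let o' := (pullback g (S.affineCover.f j)).affineCover.f k ≫ pullback.fst g (S.affineCover.f j)
    have ho' : o' ≫ g = r ≫ S.affineCover.f j := by
      simp only [o', r, Category.assoc, pullback.condition]
    haveI : IsOpenImmersion (o' ≫ g) := by rw [ho']; infer_instance
    have hpt : o' yk = ξ := by
      simp only [o', Scheme.Hom.comp_apply]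
      rw [hyk, hξj1]
    have hcomp := Scheme.Hom.stalkMap_comp o' g yk
    haveI h1 : IsIso ((o' ≫ g).stalkMap yk) := inferInstance
    haveI : IsIso (g.stalkMap (o' yk) ≫ o'.stalkMap yk) := by rw [← hcomp]; exact h1
    have h2 : IsIso (g.stalkMap (o' yk)) :=
      IsIso.of_isIso_comp_right (g.stalkMap (o' yk)) (o'.stalkMap yk)
    rw [← hpt]
    exact h2
  exact IsOpenImmersion.of_isIso_stalkMap g hemb

end Groth.Agent.Helper3.RankOneSch
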