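import Mathlib
import Groth.Prelude
import Groth.Agent.Helper3.RatAbF

set_option autoImplicit false
set_option linter.style.haveILetI false
set_option linter.unusedSectionVars false
set_option linter.unusedVariables false
set_option linter.deprecated false
set_option linter.style.haveILetI false
set_option linter.unusedSectionVars false
set_option linter.unusedVariables false

namespace Groth.Agent.Helper3.RatAbH

open CategoryTheory Limits AlgebraicGeometry MonoidalCategory CartesianMonoidalCategory
open Groth.Agent.Helper3.RatAbF Groth.Agent.Helper3.RatAbC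

universe u

/-- a point of a proper group scheme with values in a purely transcendental extension is constant -/
theorem ratPt (K : Type u) [Field K] (G : Over (Spec (CommRingCat.of K))) [GrpObj G]
    [IsProper G.hom] (n : ℕ)
    (y : Spec (CommRingCat.of (FractionRing (MvPolynomial (Fin n) K))) ⟶ G.left)
    (hy : y ≫ G.hom = Spec.map (CommRingCat.ofHom
      (algebraMap K (FractionRing (MvPolynomial (Fin n) K))))) :
    ∃ a : Spec (CommRingCat.of K) ⟶ G.left, a ≫ G.hom = 𝟙 _ ∧
      y = Spec.map (CommRingCat.ofHom
        (algebraMap K (FractionRing (MvPolynomial (Fin n) K)))) ≫ a := by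
  let D := MvPolynomial (Fin n) K
  let Q := FractionRing D
  let XD : Scheme.{u} := Spec (CommRingCat.of D)
  haveI : IsIntegral XD := inferInstance
  let ξ : XD := genericPoint XD
  let F' : Type u := ↑(XD.functionField)
  letI : Field F' := inferInstanceAs (Field ↑(XD.functionField))
  let δc : CommRingCat.of D ⟶ XD.presheaf.stalk ξ :=
    (Scheme.ΓSpecIso (CommRingCat.of D)).inv ≫ XD.presheaf.germ ⊤ ξ trivial
  let δ : D →+* F' := δc.hom
  have hδ : Function.Injective δ := by
    have h1 : Function.Injective (Scheme.ΓSpecIso (CommRingCat.of D)).inv.hom :=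
      (ConcreteCategory.bijective_of_isIso (Scheme.ΓSpecIso (CommRingCat.of D)).inv).1
    have h2 := germ_injective_of_isIntegral XD (U := ⊤) ξ trivial
    exact h2.comp h1
  have hfs : XD.fromSpecStalk ξ = Spec.map δc := Spec.fromSpecStalk_eq _ _
  let θ : Q →+* F' := IsFractionRing.lift hδ
  have hθ : θ.comp (algebraMap D Q) = δ := by
    apply RingHom.ext
    intro r
    exact IsFractionRing.lift_algebraMap hδ r
  have hθinj : Function.Injective θ := θ.injective
  haveI : IsDominant (Spec.map (CommRingCat.ofHom θ)) := isDominant_SpecMap θ hθinj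
  let a' : Spec (CommRingCat.of F') ⟶ G.left := Spec.map (CommRingCat.ofHom θ) ≫ y
  have hKQ : (algebraMap K Q) = (algebraMap D Q).comp (MvPolynomial.C : K →+* D) := by
    rw [IsScalarTower.algebraMap_eq K D Q]
    rfl
  have hso : a' ≫ G.hom = XD.fromSpecStalk ξ ≫ sA K n := by
    show (Spec.map _ ≫ y) ≫ G.hom = _
    rw [Category.assoc, hy, hfs]
    show Spec.map _ ≫ Spec.map _ = Spec.map _ ≫ Spec.map _
    rw [← Spec.map_comp, ← Spec.map_comp]
    congr 1
    apply CommRingCat.hom_ext
    apply RingHom.ext
    intro r
    show θ (algebraMap K Q r) = δ (MvPolynomial.C r)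
    rw [hKQ, ← hθ]
    rfl
  obtain ⟨W, hξW, h', e1, e2⟩ := spread_out_of_isGermInjective' (sA K n) G.hom (x := ξ) a' hso
  obtain ⟨a, ha1, ha2⟩ := coreC K G n W ⟨ξ, hξW⟩ h' e2
  refine ⟨a, ha1, ?_⟩
  haveI : IsSeparated G.hom := inferInstance
  refine ext_of_isDominant_of_isSeparated G.hom ?_ (Spec.map (CommRingCat.ofHom θ)) ?_
  · rw [hy, Category.assoc, ha1, Category.comp_id]
  · show a' = _
    rw [e1, ha2, ← Category.assoc, W.fromSpecStalkOfMem_ι, hfs, ← Category.assoc, ← Category.assoc]
    congr 1
    show Spec.map _ ≫ Spec.map _ = Spec.map _ ≫ Spec.map _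
    rw [← Spec.map_comp, ← Spec.map_comp]
    congr 1
    apply CommRingCat.hom_ext
    apply RingHom.ext
    intro r
    show δ (MvPolynomial.C r) = θ (algebraMap K Q r)
    rw [hKQ, ← hθ]
    rfl

theorem s15510 (F : Type u) [Field F]
    (A : Over (Spec (CommRingCat.of F))) [GrpObj A] [IsProper A.hom] (n : ℕ) :
    Function.Bijective (fun x : (Over.mk (𝟙 (Spec (CommRingCat.of F))) ⟶ A) =>
      (Over.homMk (Spec.map (CommRingCat.ofHom (algebraMap F (FractionRing (MvPolynomial (Fin n) F)))))
          (Category.comp_id _) :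
        Over.mk (Spec.map (CommRingCat.ofHom (algebraMap F (FractionRing (MvPolynomial (Fin n) F))))) ⟶
          Over.mk (𝟙 (Spec (CommRingCat.of F)))) ≫ x) := by
  haveI : IsSeparated A.hom := inferInstance
  constructor
  · intro x x' hxx
    apply Over.OverMorphism.ext
    have h := congrArg (fun t => t.left) hxx
    simp only [Over.comp_left, Over.homMk_left] at h
    haveI : IsDominant (Spec.map (CommRingCat.ofHom
        (algebraMap F (FractionRing (MvPolynomial (Fin n) F))))) :=
      isDominant_SpecMap _ (algebraMap F (FractionRing (MvPolynomial (Fin n) F))).injective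
    haveI : IsReduced (Over.mk (𝟙 (Spec (CommRingCat.of F)))).left :=
      inferInstanceAs (IsReduced (Spec (CommRingCat.of F)))
    refine ext_of_isDominant_of_isSeparated A.hom ?_ (Spec.map (CommRingCat.ofHom
        (algebraMap F (FractionRing (MvPolynomial (Fin n) F))))) h
    rw [Over.w x, Over.w x']
  · intro y
    obtain ⟨a, ha1, ha2⟩ := ratPt F A n y.left (Over.w y)
    have ha1' : a ≫ A.hom = (Over.mk (𝟙 (Spec (CommRingCat.of F)))).hom := ha1
    refine ⟨Over.homMk a ha1', ?_⟩
    apply Over.OverMorphism.ext
    show _ ≫ a = y.left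
    rw [ha2]
    rfl

end Groth.Agent.Helper3.RatAbH
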