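import Mathlib
import Groth.Prelude
import Groth.Agent.Helper3.RatAbF

set_option autoImplicit false
set_option linter.style.haveILetI false
set_option linter.unusedSectionVars false
set_option linter.unusedVariables false
set_option linter.deprecated false
set_option linter.style.haveILetI false
set_option linter.unusedSectionVars false
set_option linter.unusedVariables false

/-!
# Morphisms from projective space over a field to a proper group scheme are constant
-/

namespace Groth.Agent.Helper3.RatAbI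

open CategoryTheory Limits AlgebraicGeometry MonoidalCategory CartesianMonoidalCategory
open HomogeneousLocalization
open Groth.Agent.Helper3.RatAbF Groth.Agent.Helper3.RatAbC

universe u

/-- every morphism from projective `N`-space over a field `K` to a proper `K`-group scheme is
constant -/
theorem coreP (K : Type u) [Field K] (G : Over (Spec (CommRingCat.of K))) [GrpObj G]
    [IsProper G.hom] (N : ℕ)
    (g : Proj (CohB1.polyGrading N K) ⟶ G.left)
    (hg : g ≫ G.hom = CohB1.ProjSpace.toSpec N K) :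
    ∃ a : Spec (CommRingCat.of K) ⟶ G.left, a ≫ G.hom = 𝟙 _ ∧
      g = CohB1.ProjSpace.toSpec N K ≫ a := by
  let 𝒜 := CohB1.polyGrading N K
  let Y : Scheme.{u} := Proj 𝒜
  let tS : Y ⟶ Spec (CommRingCat.of K) := CohB1.ProjSpace.toSpec N K
  let x0 : MvPolynomial (Fin (N + 1)) K := MvPolynomial.X 0
  have hx0 : x0 ∈ 𝒜 1 := Groth.Agent.Helper3.ProjSmooth.X_mem N K 0
  let L := Localization.Away x0
  let j : Spec (CommRingCat.of L) ⟶ Spec (CommRingCat.of (MvPolynomial (Fin (N + 1)) K)) :=
    Spec.map (CommRingCat.ofHom (algebraMap (MvPolynomial (Fin (N + 1)) K) L))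
  haveI : IsOpenImmersion j := inferInstance
  let v : Away 𝒜 x0 →+* L := algebraMap (Away 𝒜 x0) L
  have hv : Function.Injective v := HomogeneousLocalization.val_injective _
  let ι : Spec (CommRingCat.of (Away 𝒜 x0)) ⟶ Y := Proj.awayι 𝒜 x0 hx0 one_pos
  let π : Spec (CommRingCat.of L) ⟶ Y := Spec.map (CommRingCat.ofHom v) ≫ ι
  have hι : ι ≫ tS = Spec.map (CommRingCat.ofHom (Groth.Agent.Helper3.ProjSmooth.strHom N K 0)) := by
    show Proj.awayι 𝒜 _ hx0 one_pos ≫
      (Proj.toSpecZero 𝒜 ≫
        Spec.map (CommRingCat.ofHom (algebraMap K (𝒜 0)))) = _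
    rw [Proj.awayι_toSpecZero_assoc, ← Spec.map_comp]
    rfl
  have hring : CommRingCat.ofHom (Groth.Agent.Helper3.ProjSmooth.strHom N K 0) ≫
      CommRingCat.ofHom v =
      CommRingCat.ofHom (MvPolynomial.C : K →+* MvPolynomial (Fin (N + 1)) K) ≫
        CommRingCat.ofHom (algebraMap (MvPolynomial (Fin (N + 1)) K) L) := by
    apply CommRingCat.hom_ext
    apply RingHom.ext
    intro r
    show v (Groth.Agent.Helper3.ProjSmooth.strHom N K 0 r) =
      algebraMap (MvPolynomial (Fin (N + 1)) K) L (MvPolynomial.C r)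
    have := Groth.Agent.Helper3.ProjSmooth.val_strHom N K 0 r
    show (Groth.Agent.Helper3.ProjSmooth.strHom N K 0 r).val = _
    rw [this, IsScalarTower.algebraMap_apply K (MvPolynomial (Fin (N + 1)) K) L]
    rfl
  have hπ : π ≫ tS = j ≫ sA K (N + 1) := by
    show (Spec.map _ ≫ ι) ≫ tS = Spec.map _ ≫ Spec.map _
    rw [Category.assoc, hι, ← Spec.map_comp, ← Spec.map_comp, hring]
  haveI : IsIntegral Y := Groth.Agent.Helper4.SN.isIntegral_Pn K N
  haveI : IsDominant (Spec.map (CommRingCat.ofHom v)) := isDominant_SpecMap v hv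
  haveI : Nontrivial (Away 𝒜 x0) := by
    have : Nontrivial L := by
      have hx0' : x0 ≠ 0 := MvPolynomial.X_ne_zero 0
      have hle : Submonoid.powers x0 ≤ nonZeroDivisors (MvPolynomial (Fin (N + 1)) K) :=
        Submonoid.powers_le.mpr (mem_nonZeroDivisors_of_ne_zero hx0')
      exact (IsLocalization.injective L hle).nontrivial
    exact v.domain_nontrivial
  haveI : IsDominant ι := by
    constructor
    apply IsOpen.dense
    · exact (Proj.awayι 𝒜 x0 hx0 one_pos).isOpenEmbedding.isOpen_range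
    · exact Set.range_nonempty _
  haveI : IsDominant π := inferInstance
  -- the open subscheme
  let U : (Spec (CommRingCat.of (MvPolynomial (Fin (N + 1)) K))).Opens := j.opensRange
  let e : Spec (CommRingCat.of L) ≅ (U : Scheme.{u}) := j.isoOpensRange
  have he : e.hom ≫ U.ι = j := j.isoOpensRange_hom_ι
  have hU : (U : Set ↥(Spec (CommRingCat.of (MvPolynomial (Fin (N + 1)) K)))).Nonempty := by
    have : Nonempty ↥(Spec (CommRingCat.of L)) := by
      have : Nontrivial L := hv.nontrivial
      show Nonempty (PrimeSpectrum L)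
      infer_instance
    obtain ⟨z⟩ := this
    exact ⟨j z, ⟨z, rfl⟩⟩
  let g₁ : (U : Scheme.{u}) ⟶ G.left := e.inv ≫ π ≫ g
  have hg₁ : g₁ ≫ G.hom = U.ι ≫ sA K (N + 1) := by
    show (e.inv ≫ π ≫ g) ≫ G.hom = _
    rw [Category.assoc, Category.assoc, hg]
    show e.inv ≫ π ≫ tS = _
    rw [hπ, ← he, Category.assoc, Iso.inv_hom_id_assoc]
  obtain ⟨a, ha1, ha2⟩ := coreC K G (N + 1) U hU g₁ hg₁
  refine ⟨a, ha1, ?_⟩
  haveI : IsSeparated G.hom := inferInstance
  have hg2 : g ≫ G.hom = tS := hg
  show g = tS ≫ a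
  refine ext_of_isDominant_of_isSeparated G.hom ?_ π ?_
  · rw [hg2, Category.assoc, ha1, Category.comp_id]
  · have h1 : π ≫ g = e.hom ≫ g₁ := by
      show _ = e.hom ≫ e.inv ≫ π ≫ g
      rw [Iso.hom_inv_id_assoc]
    rw [h1, ha2, ← Category.assoc e.hom, he, ← Category.assoc, ← Category.assoc π, hπ]

/-- base change form: `G` a proper group scheme over any base `S`, `s : Spec K ⟶ S` -/
theorem coreP_bc {S : Scheme.{u}} (G : Over S) [GrpObj G] [IsProper G.hom]
    (K : Type u) [Field K] (s : Spec (CommRingCat.of K) ⟶ S) (N : ℕ)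
    (g : Proj (CohB1.polyGrading N K) ⟶ G.left)
    (hg : g ≫ G.hom = CohB1.ProjSpace.toSpec N K ≫ s) :
    ∃ a : Spec (CommRingCat.of K) ⟶ G.left, a ≫ G.hom = s ∧
      g = CohB1.ProjSpace.toSpec N K ≫ a := by
  let GLo : Over (Spec (CommRingCat.of K)) := (Over.pullback s).obj G
  letI : GrpObj GLo := Functor.grpObjObj
  haveI : IsProper GLo.hom := by
    show IsProper (pullback.snd G.hom s)
    infer_instance
  let tS : Proj (CohB1.polyGrading N K) ⟶ Spec (CommRingCat.of K) := CohB1.ProjSpace.toSpec N K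
  have hg' : g ≫ G.hom = tS ≫ s := hg
  let gL : Proj (CohB1.polyGrading N K) ⟶ GLo.left := pullback.lift g tS hg'
  have hgL : gL ≫ GLo.hom = tS := pullback.lift_snd _ _ _
  obtain ⟨a, ha1, ha2⟩ := coreP K GLo N gL hgL
  refine ⟨a ≫ pullback.fst G.hom s, ?_, ?_⟩
  · rw [Category.assoc, pullback.condition, ← Category.assoc]
    have : a ≫ pullback.snd G.hom s = 𝟙 _ := ha1
    rw [this, Category.id_comp]
  · have h1 : gL ≫ pullback.fst G.hom s = g := pullback.lift_fst _ _ _
    rw [← h1]
    have ha3 : gL = tS ≫ a := ha2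
    rw [ha3, Category.assoc]
    rfl

end Groth.Agent.Helper3.RatAbI
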