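import Mathlib
import Groth.Prelude
import Groth.Agent.Helper3.RatAbI
import Groth.Agent.Helper3.Rig3

set_option autoImplicit false
set_option linter.style.haveILetI false
set_option linter.unusedSectionVars false
set_option linter.unusedVariables false
set_option linter.deprecated false
set_option linter.style.haveILetI false
set_option linter.unusedSectionVars false
set_option linter.unusedVariables false

/-!
# Morphisms from Brauer–Severi fibrations to abelian schemes factor through the base
-/

namespace Groth.Agent.Helper3.RatAbJ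

open CategoryTheory Limits AlgebraicGeometry MonoidalCategory CartesianMonoidalCategory
open Groth.Agent.Helper3.Rig1 Groth.Agent.Helper3.Rig2 Groth.Agent.Helper3.Rig3

universe u

section Proper

variable {X S Y S' : Scheme.{u}} [IsLocallyNoetherian S] (p : X ⟶ S) [IsProper p] [Flat p]
  (h0 : ∀ s : S, Function.Bijective (pullback.snd p (S.fromSpecResidueField s)).appTop.hom)
  (f : X ⟶ Y) (q : Y ⟶ S') [IsSeparated q] (b : S ⟶ S') (hf : f ≫ q = p ≫ b)

include h0 hf in
/-- rigidity when all fibres are contracted (no connectedness needed) -/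
theorem rigid_of_C_univ (hCuniv : C p f = Set.univ) : ∃ t : S ⟶ Y, f = p ≫ t := by
  haveI : IsLocallyNoetherian X := LocallyOfFiniteType.isLocallyNoetherian p
  haveI : IsLocallyNoetherian (pullback p p) :=
    LocallyOfFiniteType.isLocallyNoetherian (pullback.snd p p)
  let Δ : X ⟶ pullback p p := pullback.lift (𝟙 X) (𝟙 X) rfl
  have hΔ : Δ ≫ pullback.snd p p = 𝟙 X := pullback.lift_snd _ _ _
  have hΔ1 : Δ ≫ pullback.fst p p = 𝟙 X := pullback.lift_fst _ _ _
  have hq' : (pullback.fst p p ≫ f) ≫ q =
      pullback.snd p p ≫ Δ ≫ (pullback.fst p p ≫ f) ≫ q := by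
    simp only [Category.assoc, hf]
    rw [← Category.assoc Δ, hΔ1, Category.id_comp, ← Category.assoc, pullback.condition,
      Category.assoc]
  have hΓ : ∀ (x : X) (n : ℕ),
      Function.Bijective (pullback.snd (pullback.snd p p) (σ x n)).appTop.hom := fun x n =>
    hΓ_of_h0 (pullback.snd p p) x (h0_baseChange (IsPullback.of_hasPullback p p) h0 x) n
  have hC2 : C (pullback.snd p p) (pullback.fst p p ≫ f) = Set.univ := by
    rw [C_snd_eq, hCuniv, Set.preimage_univ]
  have key := eq_of_C_eq_univ (pullback.snd p p) Δ hΔ (pullback.fst p p ≫ f) q hq' hΓ hC2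
  have key' : pullback.fst p p ≫ f = pullback.snd p p ≫ f := by
    rw [key, ← Category.assoc Δ, hΔ1, Category.id_comp]
  haveI : Surjective p := ⟨surjective_of_h0 p h0⟩
  haveI : EffectiveEpi p := inferInstance
  have hdesc : ∀ {Z : Scheme.{u}} (g₁ g₂ : Z ⟶ X), g₁ ≫ p = g₂ ≫ p → g₁ ≫ f = g₂ ≫ f := by
    intro Z g₁ g₂ hg
    have e1 : pullback.lift g₁ g₂ hg ≫ pullback.fst p p = g₁ := pullback.lift_fst _ _ _
    have e2 : pullback.lift g₁ g₂ hg ≫ pullback.snd p p = g₂ := pullback.lift_snd _ _ _
    calc g₁ ≫ f = (pullback.lift g₁ g₂ hg ≫ pullback.fst p p) ≫ f := by rw [e1]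
      _ = (pullback.lift g₁ g₂ hg ≫ pullback.snd p p) ≫ f := by
          rw [Category.assoc, Category.assoc, key']
      _ = g₂ ≫ f := by rw [e2]
  exact ⟨EffectiveEpi.desc p f hdesc, (EffectiveEpi.fac p f hdesc).symm⟩

end Proper

/-- the geometric point over a point `s` of `S` -/
noncomputable def geomPt (S : Scheme.{u}) (s : S) :
    Spec (CommRingCat.of (AlgebraicClosure (S.residueField s))) ⟶ S :=
  Spec.map (CommRingCat.ofHom (algebraMap (S.residueField s) (AlgebraicClosure (S.residueField s))))
    ≫ S.fromSpecResidueField s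

theorem s14668 {S : Scheme.{u}} [IsLocallyNoetherian S]
    (A : Over S) [GrpObj A] [IsProper A.hom] [Flat A.hom] [GeometricallyIntegral A.hom]
    (P : Over S) [IsProper P.hom] [Flat P.hom]
    (hP : ∀ (K : Type u) [Field K] [IsAlgClosed K] (s : Spec (CommRingCat.of K) ⟶ S),
      ∃ (n : ℕ) (e : pullback P.hom s ≅ CohB1.ProjSpace n K), e.hom ≫ CohB1.ProjSpace.toSpec n K = pullback.snd P.hom s)
    (φ : P ⟶ A) :
    ∃ a : 𝟙_ (Over S) ⟶ A, φ = toUnit P ≫ a := by
  -- the two fibrewise facts
  have hfib : ∀ s : S,
      Function.Bijective (pullback.snd P.hom (S.fromSpecResidueField s)).appTop.hom ∧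
      ∀ x x' : P.left, P.hom x = s → P.hom x' = s → φ.left x = φ.left x' := by
    intro s
    let κ := S.residueField s
    let K := AlgebraicClosure κ
    let q : Spec (CommRingCat.of K) ⟶ Spec κ :=
      Spec.map (CommRingCat.ofHom (algebraMap κ K))
    let ρ : Spec κ ⟶ S := S.fromSpecResidueField s
    let sb : Spec (CommRingCat.of K) ⟶ S := q ≫ ρ
    obtain ⟨n, e, he⟩ := hP K sb
    let Yb := pullback P.hom sb
    let iY : Yb ⟶ Spec (CommRingCat.of K) := pullback.snd P.hom sb
    let iX : pullback P.hom ρ ⟶ Spec κ := pullback.snd P.hom ρ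
    have hcond : pullback.fst P.hom sb ≫ P.hom = (iY ≫ q) ≫ ρ := by
      rw [pullback.condition, Category.assoc]
    let g' : Yb ⟶ pullback P.hom ρ := pullback.lift (pullback.fst P.hom sb) (iY ≫ q) hcond
    have hg'1 : g' ≫ pullback.fst P.hom ρ = pullback.fst P.hom sb := pullback.lift_fst _ _ _
    have hg'2 : g' ≫ iX = iY ≫ q := pullback.lift_snd _ _ _
    have Hbig : IsPullback (g' ≫ pullback.fst P.hom ρ) iY P.hom (q ≫ ρ) := by
      rw [hg'1]
      exact IsPullback.of_hasPullback P.hom sb
    have H : IsPullback g' iY iX q :=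
      IsPullback.of_right Hbig hg'2 (IsPullback.of_hasPullback P.hom ρ)
    constructor
    · -- H⁰
      haveI : Surjective q := by
        constructor
        intro y
        obtain ⟨x⟩ : Nonempty (Spec (CommRingCat.of K)) := inferInstance
        exact ⟨x, Subsingleton.elim _ _⟩
      haveI : Flat q := inferInstance
      haveI : IsProper iX := inferInstanceAs (IsProper (pullback.snd P.hom ρ))
      haveI : CompactSpace ↥(pullback P.hom ρ) := by
        have : QuasiCompact iX := inferInstance
        exact (quasiCompact_iff_compactSpace iX).mp this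
      haveI : QuasiSeparatedSpace ↥(pullback P.hom ρ) := by
        have : QuasiSeparated iX := inferInstance
        exact (quasiSeparated_iff_quasiSeparatedSpace iX).mp this
      have hK : Function.Bijective iY.appTop.hom := by
        have h1 : iY = e.hom ≫ CohB1.ProjSpace.toSpec n K := he.symm
        rw [h1, Scheme.Hom.comp_appTop]
        haveI i1 := Groth.Agent.Helper4.SN213.isIso_appTop_toSpec n K
        haveI i2 : IsIso e.hom.appTop := inferInstanceAs (IsIso (e.hom.app ⊤))
        have b1 : Function.Bijective (CohB1.ProjSpace.toSpec n K).appTop.hom :=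
          ConcreteCategory.bijective_of_isIso _
        have b2 : Function.Bijective e.hom.appTop.hom :=
          ConcreteCategory.bijective_of_isIso _
        exact b2.comp b1
      exact Groth.Agent.Helper5.GammaBC.bijective_appTop_of_bijective_of_surjective H hK
    · -- constancy on the fibre
      let g : Proj (CohB1.polyGrading n K) ⟶ A.left := e.inv ≫ pullback.fst P.hom sb ≫ φ.left
      have hg : g ≫ A.hom = CohB1.ProjSpace.toSpec n K ≫ sb := by
        show (e.inv ≫ pullback.fst P.hom sb ≫ φ.left) ≫ A.hom = _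
        rw [Category.assoc, Category.assoc, Over.w φ, pullback.condition, ← he,
          Category.assoc, Iso.inv_hom_id_assoc]
      obtain ⟨a, ha1, ha2⟩ := Groth.Agent.Helper3.RatAbI.coreP_bc A K sb n g hg
      have hconst : ∀ z : Yb, (pullback.fst P.hom sb ≫ φ.left) z =
          a (Classical.arbitrary _) := by
        intro z
        have h1 : pullback.fst P.hom sb ≫ φ.left = e.hom ≫ g := by
          show _ = e.hom ≫ e.inv ≫ _
          rw [Iso.hom_inv_id_assoc]
        rw [h1, ha2, Scheme.Hom.comp_apply, Scheme.Hom.comp_apply]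
        congr 1
        exact Subsingleton.elim _ _
      have hsurj : ∀ x : P.left, P.hom x = s → ∃ z : Yb, (pullback.fst P.hom sb) z = x := by
        intro x hx
        obtain ⟨y⟩ : Nonempty (Spec (CommRingCat.of K)) := inferInstance
        have hy : sb y = s := by
          show (q ≫ ρ) y = s
          rw [Scheme.Hom.comp_apply]
          exact Scheme.fromSpecResidueField_apply s _
        obtain ⟨z, hz1, hz2⟩ := Scheme.Pullback.exists_preimage_pullback (f := P.hom) (g := sb)
          x y (by rw [hx, hy])
        exact ⟨z, hz1⟩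
      intro x x' hx hx'
      obtain ⟨z, hz⟩ := hsurj x hx
      obtain ⟨z', hz'⟩ := hsurj x' hx'
      have e1 := hconst z
      have e2 := hconst z'
      rw [Scheme.Hom.comp_apply, hz] at e1
      rw [Scheme.Hom.comp_apply, hz'] at e2
      rw [e1, e2]
  have h0 := fun s => (hfib s).1
  have hC : C P.hom φ.left = Set.univ := by
    rw [Set.eq_univ_iff_forall]
    intro s
    exact (hfib s).2
  haveI : IsSeparated A.hom := inferInstance
  obtain ⟨t, ht⟩ := rigid_of_C_univ P.hom h0 φ.left A.hom (𝟙 S)
    (by rw [Over.w φ, Category.comp_id]) hC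
  haveI : Surjective P.hom := ⟨surjective_of_h0 P.hom h0⟩
  haveI : EffectiveEpi P.hom := inferInstance
  have ht1 : t ≫ A.hom = 𝟙 S := by
    rw [← cancel_epi P.hom, ← Category.assoc, ← ht, Over.w φ, Category.comp_id]
  have ht1' : t ≫ A.hom = (𝟙_ (Over S)).hom := ht1
  refine ⟨Over.homMk t ht1', ?_⟩
  apply Over.OverMorphism.ext
  have hleft : (toUnit P).left = P.hom := by
    have h := Over.w (toUnit P)
    have h2 : (𝟙_ (Over S)).hom = 𝟙 _ := rfl
    rw [h2, Category.comp_id] at h
    exact h
  rw [Over.comp_left, hleft]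
  exact ht

end Groth.Agent.Helper3.RatAbJ
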