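import Mathlib
import Groth.Agent.S14891

set_option linter.style.haveILetI false
set_option linter.unusedSectionVars false
set_option linter.unusedVariables false

universe u

namespace Groth.Agent.Helper3.ValDim

section OrdGroup

variable {G : Type*} [CommGroup G] [LinearOrder G] [IsOrderedMonoid G]

/-- `Big x c`: every natural power of `c` is bigger than `x`. -/
def Big (x c : G) : Prop := ∀ M : ℕ, x < c ^ M

theorem Big.mul {x a b : G} (ha : Big x a) (hb : Big x b) : Big x (a * b) := by
  intro M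
  rcases le_total a b with h | h
  · calc x < a ^ (2 * M) := ha _
      _ = a ^ M * a ^ M := by rw [two_mul, pow_add]
      _ ≤ a ^ M * b ^ M := by gcongr
      _ = (a * b) ^ M := (mul_pow a b M).symm
  · calc x < b ^ (2 * M) := hb _
      _ = b ^ M * b ^ M := by rw [two_mul, pow_add]
      _ ≤ a ^ M * b ^ M := by gcongr
      _ = (a * b) ^ M := (mul_pow a b M).symm

theorem Big.one {x : G} (hx : x < 1) : Big x 1 := by
  intro M; simpa using hx

theorem Big.of_one_le {x c : G} (hx : x < 1) (hc : 1 ≤ c) : Big x c := by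
  intro M
  exact lt_of_lt_of_le hx (one_le_pow_of_one_le' hc M)

theorem Big.pow {x c : G} (hc : Big x c) (k : ℕ) : Big x (c ^ k) := by
  intro M
  rw [← pow_mul]
  exact hc _

theorem Big.zpow {x c : G} (hx : x < 1) (hc1 : c < 1) (hc : Big x c) (k : ℤ) : Big x (c ^ k) := by
  rcases le_total 0 k with h | h
  · obtain ⟨n, rfl⟩ := Int.eq_ofNat_of_zero_le h
    rw [zpow_natCast]
    exact hc.pow n
  · apply Big.of_one_le hx
    obtain ⟨n, hn⟩ := Int.exists_eq_neg_ofNat h
    rw [hn, zpow_neg, zpow_natCast]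
    rw [one_le_inv']
    exact pow_le_one' hc1.le n

/-- A chain: `γ_i < 1` and `γ_i ≪ γ_j` for `i < j`. -/
structure Chain {n : ℕ} (γ : Fin n → G) : Prop where
  lt_one : ∀ i, γ i < 1
  big : ∀ i j, i < j → Big (γ i) (γ j)

theorem Chain.tail {n : ℕ} {γ : Fin (n + 1) → G} (h : Chain γ) : Chain (fun i : Fin n => γ i.succ) where
  lt_one i := h.lt_one _
  big i j hij := h.big _ _ (Fin.succ_lt_succ_iff.2 hij)

theorem Chain.eq_zero {n : ℕ} {γ : Fin n → G} (h : Chain γ) (g : Fin n → ℤ)
    (hg : ∏ i, γ i ^ g i = 1) : g = 0 := by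
  induction n with
  | zero => funext i; exact i.elim0
  | succ n ih =>
    rw [Fin.prod_univ_succ] at hg
    have hbig : ∀ f : Fin n → ℤ, Big (γ 0) (∏ i : Fin n, γ i.succ ^ f i) := by
      intro f
      apply Finset.prod_induction _ (Big (γ 0))
      · intro a b; exact Big.mul
      · exact Big.one (h.lt_one 0)
      · intro i _
        exact Big.zpow (h.lt_one 0) (h.lt_one _) (h.big _ _ (Fin.succ_pos i)) _
    have h0 : g 0 = 0 := by
      by_contra hne
      rcases lt_or_gt_of_ne hne with hlt | hgt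
      · -- g 0 < 0 : γ0 ^ g0 ≥ γ0⁻¹
        have h1 := hbig (fun i => g i.succ) 1
        rw [pow_one] at h1
        -- γ0^{g0} * P = 1, so P = γ0^{-g0} ≤ γ0
        have hP : ∏ i : Fin n, γ i.succ ^ g i.succ = γ 0 ^ (- g 0) := by
          rw [zpow_neg]; exact (eq_inv_of_mul_eq_one_right hg)
        rw [hP] at h1
        obtain ⟨k, hk⟩ : ∃ k : ℕ, - g 0 = (k : ℤ) + 1 := ⟨(- g 0 - 1).toNat, by omega⟩
        rw [hk, zpow_add, zpow_one, zpow_natCast] at h1
        have : γ 0 ^ k * γ 0 ≤ γ 0 := by
          calc γ 0 ^ k * γ 0 ≤ 1 * γ 0 := by gcongr; exact pow_le_one' (h.lt_one 0).le k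
            _ = γ 0 := one_mul _
        exact absurd h1 (not_lt.2 this)
      · have h1 := hbig (fun i => - g i.succ) 1
        rw [pow_one] at h1
        have hP : ∏ i : Fin n, γ i.succ ^ (- g i.succ) = γ 0 ^ (g 0) := by
          simp only [zpow_neg, Finset.prod_inv_distrib]
          rw [inv_eq_iff_eq_inv]; exact (eq_inv_of_mul_eq_one_right hg)
        rw [hP] at h1
        obtain ⟨k, hk⟩ : ∃ k : ℕ, g 0 = (k : ℤ) + 1 := ⟨(g 0 - 1).toNat, by omega⟩
        rw [hk, zpow_add, zpow_one, zpow_natCast] at h1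
        have : γ 0 ^ k * γ 0 ≤ γ 0 := by
          calc γ 0 ^ k * γ 0 ≤ 1 * γ 0 := by gcongr; exact pow_le_one' (h.lt_one 0).le k
            _ = γ 0 := one_mul _
        exact absurd h1 (not_lt.2 this)
    rw [h0, zpow_zero, one_mul] at hg
    have := ih h.tail (fun i => g i.succ) hg
    funext i
    refine Fin.cases h0 (fun j => ?_) i
    exact congrFun this j

theorem Chain.exists_update {n : ℕ} {γ : Fin (n + 1) → G} (h : Chain γ) (l : G) (hl : l < 1) :
    ∃ a, Chain (Function.update γ a l) := by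
  by_cases hex : ∃ a, ¬ Big (γ a) l
  · obtain ⟨a, ha, hmin⟩ := wellFounded_lt.has_min {a | ¬ Big (γ a) l} hex
    have hlt : ∀ i, i < a → Big (γ i) l := by
      intro i hi
      by_contra hc
      exact hmin i hc hi
    simp only [Set.mem_setOf_eq, Big, not_forall, not_lt] at ha
    obtain ⟨M₀, hM₀⟩ := ha
    refine ⟨a, ⟨fun i => ?_, fun i j hij => ?_⟩⟩
    · by_cases hia : i = a
      · subst hia; rw [Function.update_self]; exact hl
      · rw [Function.update_of_ne hia]; exact h.lt_one i
    · by_cases hia : i = a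
      · subst hia
        have hja : j ≠ i := hij.ne'
        rw [Function.update_self, Function.update_of_ne hja]
        intro M
        by_contra hc
        rw [not_lt] at hc
        have h1 : (γ j ^ M) ^ M₀ ≤ l ^ M₀ := pow_le_pow_left' hc M₀
        have h2 := h.big i j hij (M * M₀)
        rw [pow_mul] at h2
        exact absurd (h1.trans hM₀) (not_le.2 h2)
      · rw [Function.update_of_ne hia]
        by_cases hja : j = a
        · subst hja; rw [Function.update_self]; exact hlt i hij
        · rw [Function.update_of_ne hja]; exact h.big i j hij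
  · simp only [not_exists, not_not] at hex
    refine ⟨Fin.last n, ⟨fun i => ?_, fun i j hij => ?_⟩⟩
    · by_cases hia : i = Fin.last n
      · subst hia; rw [Function.update_self]; exact hl
      · rw [Function.update_of_ne hia]; exact h.lt_one i
    · have hia : i ≠ Fin.last n := fun hh => by
        subst hh; exact absurd (Fin.le_last j) (not_le.2 hij)
      rw [Function.update_of_ne hia]
      by_cases hja : j = Fin.last n
      · subst hja; rw [Function.update_self]; exact hex i
      · rw [Function.update_of_ne hja]; exact h.big i j hij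

end OrdGroup

section Val

variable {K : Type u} [Field K] (A : ValuationSubring K)

/-- The valuation on units. -/
noncomputable def nu : Kˣ →* (A.ValueGroup)ˣ := Units.map (A.valuation : K →* A.ValueGroup)

@[simp] theorem nu_val (y : Kˣ) : ((nu A y : (A.ValueGroup)ˣ) : A.ValueGroup) = A.valuation (y : K) := rfl

theorem nu_lt_one {y : Kˣ} : nu A y < 1 ↔ A.valuation (y : K) < 1 := by
  rw [← Units.val_lt_val, nu_val, Units.val_one]

theorem valuation_natCast_le_one (n : ℕ) : A.valuation (n : K) ≤ 1 := by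
  have : (n : K) = ((n : A) : K) := by push_cast; rfl
  rw [this]; exact A.valuation_le_one _

theorem valuation_intCast_le_one (n : ℤ) : A.valuation (n : K) ≤ 1 := by
  have : (n : K) = ((n : A) : K) := by push_cast; rfl
  rw [this]; exact A.valuation_le_one _

theorem mem_bot_iff (c : K) : c ∈ (⊥ : Subfield K) ↔ ∃ a b : ℤ, (a : K) / b = c := by
  rw [← Subfield.closure_empty, Subfield.mem_closure_iff, Subring.closure_empty]
  constructor
  · rintro ⟨y, hy, z, hz, rfl⟩
    obtain ⟨a, rfl⟩ := Subring.mem_bot.1 hy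
    obtain ⟨b, rfl⟩ := Subring.mem_bot.1 hz
    exact ⟨a, b, rfl⟩
  · rintro ⟨a, b, rfl⟩
    exact ⟨a, Subring.mem_bot.2 ⟨a, rfl⟩, b, Subring.mem_bot.2 ⟨b, rfl⟩, rfl⟩

theorem intCast_eq_or (z : ℤ) : (z : K) = ((z.natAbs : ℕ) : K) ∨ (z : K) = - ((z.natAbs : ℕ) : K) := by
  rcases Int.natAbs_eq z with h | h
  · left
    conv_lhs => rw [h]
    exact Int.cast_natCast _
  · right
    conv_lhs => rw [h]
    rw [Int.cast_neg, Int.cast_natCast]

theorem valuation_natAbs (z : ℤ) : A.valuation ((z.natAbs : ℕ) : K) = A.valuation (z : K) := by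
  rcases intCast_eq_or (K := K) z with h | h
  · rw [h]
  · rw [h, Valuation.map_neg]

theorem natAbs_ne_zero {z : ℤ} (hz : (z : K) ≠ 0) : ((z.natAbs : ℕ) : K) ≠ 0 := by
  rcases intCast_eq_or (K := K) z with h | h
  · rwa [h] at hz
  · rwa [h, neg_ne_zero] at hz

theorem exists_nat_of_exists (hB : ∃ c : (⊥ : Subfield K), (c : K) ≠ 0 ∧ A.valuation (c : K) ≠ 1) :
    ∃ n : ℕ, (n : K) ≠ 0 ∧ A.valuation (n : K) < 1 := by
  obtain ⟨⟨c, hc⟩, hc0, hc1⟩ := hB
  obtain ⟨a, b, rfl⟩ := (mem_bot_iff c).1 hc
  simp only at hc0 hc1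
  have ha0 : (a : K) ≠ 0 := fun h => hc0 (by rw [h, zero_div])
  have hb0 : (b : K) ≠ 0 := fun h => hc0 (by rw [h, div_zero])
  have key : ∀ z : ℤ, (z : K) ≠ 0 → A.valuation (z : K) ≠ 1 →
      ∃ n : ℕ, (n : K) ≠ 0 ∧ A.valuation (n : K) < 1 := by
    intro z hz0 hz1
    refine ⟨z.natAbs, natAbs_ne_zero hz0, ?_⟩
    rw [valuation_natAbs]
    exact lt_of_le_of_ne (valuation_intCast_le_one A z) hz1
  by_cases ha1 : A.valuation (a : K) = 1
  · by_cases hb1 : A.valuation (b : K) = 1
    · exact absurd (by rw [map_div₀, ha1, hb1, div_one]) hc1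
    · exact key b hb0 hb1
  · exact key a ha0 ha1

theorem exists_gen (hB : ∃ c : (⊥ : Subfield K), (c : K) ≠ 0 ∧ A.valuation (c : K) ≠ 1) :
    ∃ l : Kˣ, A.valuation (l : K) < 1 ∧ ∀ c : (⊥ : Subfield K), (c : K) ≠ 0 →
      ∃ e : ℤ, A.valuation (c : K) = A.valuation (l : K) ^ e := by
  classical
  have hex := exists_nat_of_exists A hB
  obtain ⟨l, ⟨hl0, hl1⟩, hmin'⟩ : ∃ l : ℕ, ((l : K) ≠ 0 ∧ A.valuation (l : K) < 1) ∧
      ∀ m < l, ¬ ((m : K) ≠ 0 ∧ A.valuation (m : K) < 1) :=
    ⟨Nat.find hex, Nat.find_spec hex, fun m hm => Nat.find_min hex hm⟩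
  have hmin : ∀ m : ℕ, m < l → (m : K) ≠ 0 → A.valuation (m : K) = 1 := by
    intro m hm hm0
    have := hmin' m hm
    rw [not_and] at this
    exact le_antisymm (valuation_natCast_le_one A m) (not_lt.1 (this hm0))
  have hl2 : 2 ≤ l := by
    rcases Nat.lt_or_ge l 2 with h | h
    · interval_cases l
      · exact absurd (by simp) hl0
      · rw [Nat.cast_one, map_one] at hl1; exact absurd hl1 (lt_irrefl _)
    · exact h
  have hnat : ∀ m : ℕ, (m : K) ≠ 0 → ∃ e : ℕ, A.valuation (m : K) = A.valuation (l : K) ^ e := by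
    intro m
    induction m using Nat.strong_induction_on with
    | _ m ih =>
      intro hm0
      have hdiv : m = l * (m / l) + m % l := (Nat.div_add_mod m l).symm
      have hr : m % l < l := Nat.mod_lt _ (by omega)
      have hm : (m : K) = (l : K) * ((m / l : ℕ) : K) + ((m % l : ℕ) : K) := by
        conv_lhs => rw [hdiv]
        rw [Nat.cast_add, Nat.cast_mul]
      by_cases hr0 : ((m % l : ℕ) : K) = 0
      · have hmq : (m : K) = (l : K) * ((m / l : ℕ) : K) := by
          rw [hm, hr0, add_zero]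
        have hq0 : ((m / l : ℕ) : K) ≠ 0 := fun h => hm0 (by rw [hmq, h, mul_zero])
        have hqpos : 0 < m / l := by
          rcases Nat.eq_zero_or_pos (m / l) with h | h
          · rw [h] at hq0; exact absurd (by simp) hq0
          · exact h
        have hqlt : m / l < m := Nat.div_lt_self (by
          rcases Nat.eq_zero_or_pos m with h | h
          · rw [h] at hqpos; simp at hqpos
          · exact h) (by omega)
        obtain ⟨e, he⟩ := ih _ hqlt hq0
        exact ⟨e + 1, by rw [hmq, map_mul, he, pow_succ, mul_comm]⟩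
      · refine ⟨0, ?_⟩
        rw [pow_zero]
        have hv1 := hmin _ hr hr0
        have hv2 : A.valuation ((l : K) * ((m / l : ℕ) : K)) < 1 := by
          rw [map_mul]
          calc A.valuation (l : K) * A.valuation ((m / l : ℕ) : K)
              ≤ A.valuation (l : K) * 1 := by
                gcongr; exact valuation_natCast_le_one A _
            _ = A.valuation (l : K) := mul_one _
            _ < 1 := hl1
        rw [hm, Valuation.map_add_eq_of_lt_right _ (by rw [hv1]; exact hv2), hv1]
  have hint : ∀ z : ℤ, (z : K) ≠ 0 → ∃ e : ℕ, A.valuation (z : K) = A.valuation (l : K) ^ e := by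
    intro z hz0
    rw [← valuation_natAbs]
    exact hnat _ (natAbs_ne_zero hz0)
  refine ⟨Units.mk0 (l : K) hl0, hl1, ?_⟩
  rintro ⟨c, hc⟩ hc0
  obtain ⟨a, b, rfl⟩ := (mem_bot_iff c).1 hc
  simp only at hc0 ⊢
  have ha0 : (a : K) ≠ 0 := fun h => hc0 (by rw [h, zero_div])
  have hb0 : (b : K) ≠ 0 := fun h => hc0 (by rw [h, div_zero])
  obtain ⟨ea, hea⟩ := hint a ha0
  obtain ⟨eb, heb⟩ := hint b hb0
  refine ⟨(ea : ℤ) - eb, ?_⟩
  have hlne : A.valuation (l : K) ≠ 0 := (Valuation.ne_zero_iff _).2 hl0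
  rw [map_div₀, hea, heb, Units.val_mk0, zpow_sub₀ hlne, zpow_natCast, zpow_natCast]

/-- The subgroup of `Kˣ` coming from the prime field. -/
abbrev Rg (K : Type u) [Field K] : Subgroup Kˣ :=
  (Units.map (algebraMap (⊥ : Subfield K) K).toMonoidHom).range

/-- The quotient from Abhyankar's inequality. -/
abbrev Q : Type u :=
  Additive Kˣ ⧸ Subgroup.toAddSubgroup (A.valuation.valuationSubring.unitGroup ⊔ Rg K)

theorem linInd {m : ℕ} (z : Fin (m + 1) → Kˣ) (hz : Chain (fun i => nu A (z i))) (a : Fin (m + 1))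
    (ha : ∀ c : (⊥ : Subfield K), (c : K) ≠ 0 →
      ∃ e : ℤ, A.valuation (c : K) = A.valuation (z a : K) ^ e) :
    LinearIndependent ℤ
      (fun i : Fin m => (QuotientAddGroup.mk (Additive.ofMul (z (a.succAbove i))) : Q A)) := by
  rw [Fintype.linearIndependent_iff]
  intro g hg
  have h1 : (∑ i, g i • (QuotientAddGroup.mk (Additive.ofMul (z (a.succAbove i))) : Q A)) =
      QuotientAddGroup.mk (Additive.ofMul (∏ i, z (a.succAbove i) ^ g i)) := by
    rw [ofMul_prod, QuotientAddGroup.mk_sum]
    refine Finset.sum_congr rfl fun i _ => ?_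
    rw [ofMul_zpow, QuotientAddGroup.mk_zsmul]
  rw [h1, QuotientAddGroup.eq_zero_iff, Additive.mem_toAddSubgroup, toMul_ofMul,
    Subgroup.mem_sup] at hg
  obtain ⟨u, hu, c, ⟨c0, rfl⟩, huc⟩ := hg
  rw [Valuation.mem_unitGroup_iff] at hu
  obtain ⟨e, he⟩ := ha (c0 : (⊥ : Subfield K)) (by
    have := c0.ne_zero
    intro h; apply this; exact Subtype.ext h)
  have hval : nu A (∏ i, z (a.succAbove i) ^ g i) = nu A (z a) ^ e := by
    rw [← huc, map_mul]
    have hu1 : nu A u = 1 := Units.ext hu
    rw [hu1, one_mul]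
    apply Units.ext
    rw [Units.val_zpow_eq_zpow_val, nu_val, nu_val, ← he]
    rfl
  have key := hz.eq_zero (Fin.insertNth a (-e) g) (by
    rw [Fin.prod_univ_succAbove _ a]
    simp only [Fin.insertNth_apply_same, Fin.insertNth_apply_succAbove]
    rw [map_prod] at hval
    simp only [map_zpow] at hval
    rw [hval, zpow_neg, inv_mul_cancel])
  intro i
  have := congrFun key (a.succAbove i)
  simpa using this

/-- Extract a chain from a strictly increasing sequence of primes. -/
theorem exists_chain {m : ℕ} (p : Fin (m + 2) → PrimeSpectrum A) (hp : StrictMono p) :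
    ∃ y : Fin (m + 1) → Kˣ, Chain (fun i => nu A (y i)) := by
  have hx : ∀ i : Fin (m + 1), ∃ x : A, x ∈ (p i.succ).asIdeal ∧ x ∉ (p i.castSucc).asIdeal := by
    intro i
    have hlt : (p i.castSucc).asIdeal < (p i.succ).asIdeal :=
      hp (Fin.castSucc_lt_succ)
    obtain ⟨x, hx1, hx2⟩ := SetLike.exists_of_lt hlt
    exact ⟨x, hx1, hx2⟩
  choose x hx1 hx2 using hx
  have hx0 : ∀ i, ((x i : A) : K) ≠ 0 := by
    intro i h
    have : x i = 0 := Subtype.ext h
    exact hx2 i (this ▸ Ideal.zero_mem _)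
  refine ⟨fun i => Units.mk0 (x i : K) (hx0 i), ⟨fun i => ?_, fun i j hij M => ?_⟩⟩
  · rw [nu_lt_one, Units.val_mk0, ← A.valuation_lt_one_iff]
    exact IsLocalRing.le_maximalIdeal (p i.succ).isPrime.ne_top (hx1 i)
  · rw [← map_pow, ← Units.val_lt_val, nu_val, nu_val, Units.val_pow_eq_pow_val, Units.val_mk0,
      Units.val_mk0]
    by_contra hc
    rw [not_lt, A.valuation_le_iff] at hc
    obtain ⟨b, hb⟩ := hc
    have hb' : b * x i = x j ^ M := Subtype.ext (by push_cast; exact hb)
    have hmem : x j ^ M ∈ (p j.castSucc).asIdeal := by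
      rw [← hb']
      have hle : (p i.succ).asIdeal ≤ (p j.castSucc).asIdeal := by
        have : i.succ ≤ j.castSucc := by
          rw [Fin.le_def]; simp only [Fin.val_succ, Fin.val_castSucc]
          exact Nat.succ_le_of_lt hij
        exact hp.monotone this
      exact Ideal.mul_mem_left _ _ (hle (hx1 i))
    exact hx2 j ((p j.castSucc).isPrime.mem_of_pow_mem _ hmem)

theorem main (d : ℕ) (hd : Algebra.trdeg (⊥ : Subfield K) K = d) :
    ringKrullDim A ≤ ((d + 1 : ℕ) : WithBot ℕ∞) := by
  -- the rank bound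
  have hrank : Module.rank ℤ (Q A) ≤ d := by
    let vL := A.valuation
    let vK := vL.comap (algebraMap (⊥ : Subfield K) K)
    haveI : vK.HasExtension vL := ⟨Valuation.IsEquiv.refl⟩
    have := Groth.Agent.S14891.result vK vL
    rw [hd] at this
    exact le_trans (self_le_add_right _ _) this
  have hbound : ∀ (m : ℕ) (f : Fin m → Q A), LinearIndependent ℤ f → m ≤ d := by
    intro m f hf
    have := hf.cardinal_lift_le_rank
    rw [Cardinal.mk_fin, Cardinal.lift_natCast, Cardinal.lift_uzero] at this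
    exact_mod_cast this.trans hrank
  unfold ringKrullDim Order.krullDim
  refine iSup_le fun p => ?_
  suffices h : p.length ≤ d + 1 by exact_mod_cast h
  rcases Nat.lt_or_ge p.length 1 with hlen | hlen
  · omega
  obtain ⟨m, hm⟩ : ∃ m, p.length = m + 1 := ⟨p.length - 1, by omega⟩
  obtain ⟨y, hy⟩ := exists_chain A (fun i : Fin (m + 2) => p (Fin.cast (by omega) i))
    (fun i j hij => p.strictMono (by simpa using hij))
  by_cases hB : ∃ c : (⊥ : Subfield K), (c : K) ≠ 0 ∧ A.valuation (c : K) ≠ 1
  · obtain ⟨l, hl1, hl⟩ := exists_gen A hB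
    obtain ⟨a, ha⟩ := hy.exists_update (nu A l) ((nu_lt_one A).2 hl1)
    have hza : (fun i => nu A (Function.update y a l i)) =
        Function.update (fun i => nu A (y i)) a (nu A l) := by
      funext i
      by_cases hi : i = a
      · subst hi; simp
      · simp [Function.update_of_ne hi]
    have := hbound m _ (linInd A (Function.update y a l) (hza ▸ ha) a (by
      rw [Function.update_self]; exact hl))
    omega
  · simp only [not_exists, not_and, not_not] at hB
    have := hbound m _ (linInd A y hy 0 (fun c hc => ⟨0, by rw [zpow_zero]; exact hB c hc⟩))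
    omega

end Val

end Groth.Agent.Helper3.ValDim
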