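import Mathlib
import Groth.Agent.Helper3.ValDim
import Groth.Agent.Helper3.PruferInt

set_option linter.style.haveILetI false
set_option linter.unusedSectionVars false
set_option linter.unusedVariables false

universe u

namespace Groth.Agent.Helper3.ValApprox

open Cardinal

/-- A finitely generated field has finite transcendence degree over its prime field. -/
theorem exists_trdeg_eq {L : Type u} [Field L] (T : Set L) (hT : T.Finite) :
    ∃ d : ℕ, Algebra.trdeg (⊥ : Subfield ↥(Subfield.closure T)) ↥(Subfield.closure T) = d := by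
  set K' := Subfield.closure T with hK'
  let k' : Subfield K' := ⊥
  let T' : Set K' := Subtype.val ⁻¹' T
  have hT' : T'.Finite := hT.preimage Subtype.val_injective.injOn
  let B := Algebra.adjoin k' T'
  have hsub : Subring.closure T ≤ Subring.map K'.subtype B.toSubring := by
    rw [Subring.closure_le]
    intro t ht
    exact ⟨⟨t, Subfield.subset_closure ht⟩, Algebra.subset_adjoin (show _ ∈ T' from ht), rfl⟩
  haveI : Algebra.IsAlgebraic B K' := by
    refine ⟨fun x => ?_⟩
    obtain ⟨y, hy, z, hz, hyz⟩ := Subfield.mem_closure_iff.1 x.2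
    obtain ⟨y', hy', rfl⟩ := hsub hy
    obtain ⟨z', hz', rfl⟩ := hsub hz
    have hx : x = y' / z' := Subtype.ext (by rw [← hyz]; rfl)
    by_cases hz0 : z' = 0
    · rw [hx, hz0, div_zero]; exact isAlgebraic_zero
    · refine ⟨Polynomial.C (⟨z', hz'⟩ : B) * Polynomial.X - Polynomial.C (⟨y', hy'⟩ : B), ?_, ?_⟩
      · intro h
        have := congrArg (fun p => p.coeff 1) h
        simp only [Polynomial.coeff_sub, Polynomial.coeff_C_mul, Polynomial.coeff_X_one, mul_one,
          Polynomial.coeff_C_succ, sub_zero, Polynomial.coeff_zero] at this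
        exact hz0 (congrArg Subtype.val this)
      · simp only [map_sub, map_mul, Polynomial.aeval_C, Polynomial.aeval_X]
        rw [hx]
        change z' * (y' / z') - y' = 0
        field_simp
        ring
  have h1 := Algebra.IsAlgebraic.trdeg_le_cardinalMk k' T'
  have h2 : #T' < ℵ₀ := Cardinal.lt_aleph0_iff_set_finite.2 hT'
  obtain ⟨d, hd⟩ := Cardinal.lt_aleph0.1 (h1.trans_lt h2)
  exact ⟨d, hd⟩

section B

variable (B K : Type u) [CommRing B] [IsDomain B] [ValuationRing B] [Field K] [Algebra B K]
  [IsFractionRing B K]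

/-- The valuation subring of the fraction field attached to a valuation ring. -/
noncomputable def VSof : ValuationSubring K :=
  { (algebraMap B K).range with
    mem_or_inv_mem' := fun x => by
      rcases ValuationRing.isInteger_or_isInteger B x with ⟨b, hb⟩ | ⟨b, hb⟩
      · left; exact ⟨b, hb⟩
      · right; exact ⟨b, hb⟩ }

theorem mem_VSof (x : K) : x ∈ VSof B K ↔ ∃ b : B, algebraMap B K b = x := Iff.rfl

/-- `B ≃ VSof B K`. -/
noncomputable def equivVSof : B ≃+* VSof B K :=
  RingEquiv.ofBijective ((algebraMap B K).codRestrict (VSof B K) (fun b => ⟨b, rfl⟩))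
    ⟨fun a b h => IsFractionRing.injective B K (congrArg Subtype.val h),
      fun ⟨x, b, hb⟩ => ⟨b, Subtype.ext hb⟩⟩

theorem dim_le_of_valuationRing (d : ℕ) (hd : Algebra.trdeg (⊥ : Subfield K) K = d) :
    ringKrullDim B ≤ ((d + 1 : ℕ) : WithBot ℕ∞) := by
  rw [ringKrullDim_eq_of_ringEquiv (equivVSof B K)]
  exact ValDim.main (VSof B K) d hd

end B

/-- A valuation ring of finite Krull dimension has finite spectrum. -/
theorem finite_primeSpectrum (B : Type*) [CommRing B] [IsDomain B] [ValuationRing B]
    (h : ringKrullDim B < ⊤) : Finite (PrimeSpectrum B) := by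
  obtain ⟨n, hn⟩ : ∃ n : ℕ, ringKrullDim B ≤ n := by
    have hne : ringKrullDim B ≠ ⊤ := h.ne
    have hne' : ringKrullDim B ≠ ⊥ := fun hh => by
      have := ringKrullDim_nonneg_of_nontrivial (R := B)
      rw [hh] at this
      exact absurd this (by simp)
    obtain ⟨m, hm⟩ := WithBot.ne_bot_iff_exists.1 hne'
    have hm' : m ≠ ⊤ := fun hh => hne (by rw [← hm, hh]; rfl)
    obtain ⟨n, hn⟩ := ENat.ne_top_iff_exists.1 hm'
    exact ⟨n, by rw [← hm, ← hn]; rfl⟩
  have hheight : ∀ p : PrimeSpectrum B, Order.height p ≤ n := by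
    intro p
    have := (Order.height_le_krullDim p).trans hn
    exact_mod_cast this
  have htot : ∀ p q : PrimeSpectrum B, p ≤ q ∨ q ≤ p := fun p q =>
    (ValuationRing.le_total_ideal (A := B)).total p.asIdeal q.asIdeal
  have hinj : Function.Injective (fun p : PrimeSpectrum B => (Order.height p).toNat) := by
    intro p q hpq
    by_contra hne
    have hp : Order.height p < ⊤ := lt_of_le_of_lt (hheight p) (ENat.natCast_lt_top n)
    have hq : Order.height q < ⊤ := lt_of_le_of_lt (hheight q) (ENat.natCast_lt_top n)
    have hpq' : Order.height p = Order.height q := by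
      rw [← ENat.coe_toNat hp.ne, ← ENat.coe_toNat hq.ne]
      exact congrArg _ hpq
    rcases htot p q with hle | hle
    · have := Order.height_strictMono (lt_of_le_of_ne hle hne) hp
      rw [hpq'] at this; exact lt_irrefl _ this
    · have := Order.height_strictMono (lt_of_le_of_ne hle (Ne.symm hne)) hq
      rw [hpq'] at this; exact lt_irrefl _ this
  have hfin : (Set.range (fun p : PrimeSpectrum B => (Order.height p).toNat)).Finite := by
    refine (Set.finite_Iic n).subset ?_
    rintro _ ⟨p, rfl⟩
    simp only [Set.mem_Iic]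
    have hp : Order.height p < ⊤ := lt_of_le_of_lt (hheight p) (ENat.natCast_lt_top n)
    have := hheight p
    rw [← ENat.coe_toNat hp.ne] at this
    exact_mod_cast this
  haveI := hfin.to_subtype
  exact Finite.of_injective_finite_range hinj

/-- A Prüfer domain whose fraction field has finite transcendence degree `d` over its prime field
has Krull dimension at most `d + 1`. -/
theorem prufer_dim_le (T K : Type u) [CommRing T] [IsDomain T] [Field K] [Algebra T K]
    [IsFractionRing T K]
    (hT : ∀ (p : Ideal T) [p.IsPrime], ValuationRing (Localization.AtPrime p)) (d : ℕ)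
    (hd : Algebra.trdeg (⊥ : Subfield K) K = d) :
    ringKrullDim T ≤ ((d + 1 : ℕ) : WithBot ℕ∞) := by
  rw [ringKrullDim_le_iff_isMaximal_height_le]
  intro m hm
  haveI := hm.isPrime
  rw [← IsLocalization.AtPrime.ringKrullDim_eq_height m (Localization.AtPrime m)]
  haveI := hT m
  let f : Localization.AtPrime m →+* K :=
    IsLocalization.lift (M := m.primeCompl) (g := algebraMap T K) (fun y => by
      apply IsUnit.mk0
      exact (map_ne_zero_iff _ (IsFractionRing.injective T K)).mpr
        (fun h => y.2 (h ▸ m.zero_mem)))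
  letI : Algebra (Localization.AtPrime m) K := f.toAlgebra
  haveI : IsScalarTower T (Localization.AtPrime m) K := IsScalarTower.of_algebraMap_eq' (by
    rw [RingHom.algebraMap_toAlgebra]
    exact (IsLocalization.lift_comp _).symm)
  haveI := IsFractionRing.isFractionRing_of_isDomain_of_isLocalization m.primeCompl
    (Localization.AtPrime m) K
  exact dim_le_of_valuationRing (Localization.AtPrime m) K d hd

section Transfer

variable {A B : Type*} [CommRing A] [IsDomain A] [CommRing B] [IsDomain B]

theorem prufer_of_ringEquiv (e : A ≃+* B)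
    (hB : ∀ (q : Ideal B) [q.IsPrime], ValuationRing (Localization.AtPrime q))
    (p : Ideal A) [p.IsPrime] : ValuationRing (Localization.AtPrime p) := by
  let q : Ideal B := p.comap (e.symm : B →+* A)
  haveI : q.IsPrime := Ideal.comap_isPrime _ _
  have H : p.primeCompl.map e.toMonoidHom = q.primeCompl := by
    ext x
    constructor
    · rintro ⟨y, hy, rfl⟩
      intro hx
      apply hy
      have : e.symm (e y) ∈ p := hx
      rwa [e.symm_apply_apply] at this
    · intro hx
      exact ⟨e.symm x, hx, e.apply_symm_apply x⟩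
  let e' : Localization.AtPrime p ≃+* Localization.AtPrime q :=
    IsLocalization.ringEquivOfRingEquiv _ _ e H
  haveI := hB q
  exact Function.Surjective.valuationRing (e'.symm : Localization.AtPrime q →+* Localization.AtPrime p)
    e'.symm.surjective

theorem finite_maxSpec_of_ringEquiv (e : A ≃+* B) [Finite (MaximalSpectrum B)] : Finite (MaximalSpectrum A) := by
  refine Finite.of_injective (fun m : MaximalSpectrum A =>
    (⟨m.asIdeal.comap (e.symm : B →+* A),
      haveI := m.isMaximal; Ideal.comap_isMaximal_of_equiv e.symm⟩ : MaximalSpectrum B)) ?_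
  intro m m' h
  have h1 : m.asIdeal.comap (e.symm : B →+* A) = m'.asIdeal.comap (e.symm : B →+* A) :=
    congrArg MaximalSpectrum.asIdeal h
  ext x
  have := Ideal.ext_iff.1 h1 (e x)
  simpa using this

end Transfer

section Main

variable (R : Type u) [CommRing R] [IsDomain R]

/-- The subfield of `Frac R` generated by a finite subset of `R`. -/
noncomputable abbrev Ks (s : Finset R) : Subfield (FractionRing R) :=
  Subfield.closure (algebraMap R (FractionRing R) '' (s : Set R))

/-- `R ∩ Ks`. -/
noncomputable def F (s : Finset R) : Subring R :=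
  Subring.comap (algebraMap R (FractionRing R)) (Ks R s).toSubring

theorem mem_F (s : Finset R) (x : R) : x ∈ F R s ↔ algebraMap R (FractionRing R) x ∈ Ks R s :=
  Iff.rfl

theorem subset_F (s : Finset R) : (↑s : Set R) ⊆ F R s :=
  fun x hx => Subfield.subset_closure ⟨x, hx, rfl⟩

theorem F_mono : Monotone (F R) := fun s t hst x hx =>
  Subfield.closure_mono (Set.image_mono (by exact_mod_cast hst)) hx

/-- the map `F R s → Ks R s`. -/
noncomputable def toKs (s : Finset R) : F R s →+* Ks R s :=
  ((algebraMap R (FractionRing R)).comp (F R s).subtype).codRestrict (Ks R s) (fun r => r.2)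

noncomputable instance (s : Finset R) : Algebra (F R s) (Ks R s) := (toKs R s).toAlgebra

theorem algebraMap_F_apply (s : Finset R) (r : F R s) :
    ((algebraMap (F R s) (Ks R s) r : Ks R s) : FractionRing R) =
      algebraMap R (FractionRing R) (r : R) := rfl

theorem algebraMap_F_injective (s : Finset R) :
    Function.Injective (algebraMap (F R s) (Ks R s)) := by
  intro a b h
  have := congrArg Subtype.val h
  rw [algebraMap_F_apply, algebraMap_F_apply] at this
  exact Subtype.ext (IsFractionRing.injective R (FractionRing R) this)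

theorem exists_trdeg_Ks (s : Finset R) :
    ∃ d : ℕ, Algebra.trdeg (⊥ : Subfield (Ks R s)) (Ks R s) = d :=
  exists_trdeg_eq _ ((Finset.finite_toSet s).image _)

section Val

variable [ValuationRing R]

theorem valuationRing_F (s : Finset R) : ValuationRing (F R s) := by
  rw [ValuationRing.iff_dvd_total]
  refine ⟨fun a b => ?_⟩
  by_cases ha : a = 0
  · right; rw [ha]; exact dvd_zero b
  by_cases hb : b = 0
  · left; rw [hb]; exact dvd_zero a
  have ha' : algebraMap R (FractionRing R) (a : R) ≠ 0 := fun h =>
    ha (Subtype.ext ((map_eq_zero_iff _ (IsFractionRing.injective R (FractionRing R))).1 h))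
  have hb' : algebraMap R (FractionRing R) (b : R) ≠ 0 := fun h =>
    hb (Subtype.ext ((map_eq_zero_iff _ (IsFractionRing.injective R (FractionRing R))).1 h))
  rcases ValuationRing.dvd_total (a : R) (b : R) with ⟨c, hc⟩ | ⟨c, hc⟩
  · left
    have hcF : c ∈ F R s := by
      rw [mem_F]
      have : algebraMap R (FractionRing R) c =
          algebraMap R (FractionRing R) (b : R) / algebraMap R (FractionRing R) (a : R) := by
        rw [hc, map_mul, mul_div_cancel_left₀ _ ha']
      rw [this]; exact div_mem b.2 a.2
    exact ⟨⟨c, hcF⟩, Subtype.ext hc⟩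
  · right
    have hcF : c ∈ F R s := by
      rw [mem_F]
      have : algebraMap R (FractionRing R) c =
          algebraMap R (FractionRing R) (a : R) / algebraMap R (FractionRing R) (b : R) := by
        rw [hc, map_mul, mul_div_cancel_left₀ _ hb']
      rw [this]; exact div_mem a.2 b.2
    exact ⟨⟨c, hcF⟩, Subtype.ext hc⟩

theorem isFractionRing_F_of_val (s : Finset R) : IsFractionRing (F R s) (Ks R s) := by
  refine isFractionRing_of_exists_eq_algebraMap_or_inv_eq_algebraMap_of_injective (fun x => ?_)
    (algebraMap_F_injective R s)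
  rcases ValuationRing.isInteger_or_isInteger R (x : FractionRing R) with ⟨r, hr⟩ | ⟨r, hr⟩
  · have hrF : r ∈ F R s := by rw [mem_F, hr]; exact x.2
    exact ⟨⟨r, hrF⟩, Or.inl (Subtype.ext hr.symm)⟩
  · have hrF : r ∈ F R s := by rw [mem_F, hr]; exact inv_mem x.2
    exact ⟨⟨r, hrF⟩, Or.inr (Subtype.ext hr.symm)⟩

theorem main14893 :
    ∃ (ι : Type u) (_ : Preorder ι) (_ : IsDirected ι (fun a b ↦ a ≤ b)) (_ : Nonempty ι)
      (F : ι → Subring R), Monotone F ∧ (⨆ i, F i) = ⊤ ∧
        ∀ i, ValuationRing (F i) ∧ Finite (PrimeSpectrum (F i)) := by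
  classical
  refine ⟨Finset R, inferInstance, inferInstance, ⟨∅⟩, F R, F_mono R, ?_, fun s => ?_⟩
  · rw [eq_top_iff]
    intro x _
    exact (le_iSup (F R) {x}) (subset_F R {x} (by simp))
  · haveI := valuationRing_F R s
    refine ⟨inferInstance, ?_⟩
    haveI := isFractionRing_F_of_val R s
    obtain ⟨d, hd⟩ := exists_trdeg_Ks R s
    exact finite_primeSpectrum (F R s)
      (lt_of_le_of_lt (dim_le_of_valuationRing (F R s) (Ks R s) d hd) (WithBot.coe_lt_coe.2 (ENat.natCast_lt_top _)))

end Val

section Prufer

/-- the iso of `F R s` with the corresponding subring of `Frac R`. -/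
noncomputable def eT (s : Finset R) :
    F R s ≃+* ↥((algebraMap R (FractionRing R)).range ⊓ (Ks R s).toSubring) :=
  RingEquiv.ofBijective
    (((algebraMap R (FractionRing R)).comp (F R s).subtype).codRestrict
      ((algebraMap R (FractionRing R)).range ⊓ (Ks R s).toSubring) (fun r => ⟨⟨r, rfl⟩, r.2⟩))
    ⟨fun a b h => Subtype.ext (IsFractionRing.injective R (FractionRing R)
        (congrArg Subtype.val h)),
      fun ⟨x, ⟨r, hr⟩, hx⟩ => ⟨⟨r, by rw [mem_F, hr]; exact hx⟩, Subtype.ext hr⟩⟩

theorem main14730
    (hR : ∀ (p : Ideal R) [p.IsPrime], ValuationRing (Localization.AtPrime p))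
    (hfin : Finite (MaximalSpectrum R)) (s : Finset R) :
    ∃ R' : Subring R, (↑s : Set R) ⊆ R' ∧
      (∀ (p : Ideal R') [p.IsPrime], ValuationRing (Localization.AtPrime p)) ∧
      Finite (MaximalSpectrum R') ∧ ringKrullDim R' < ⊤ := by
  obtain ⟨h1, h2, h3⟩ := PruferInt.main R (FractionRing R) hR hfin (Ks R s)
  have hP : ∀ (p : Ideal (F R s)) [p.IsPrime], ValuationRing (Localization.AtPrime p) :=
    fun p _ => prufer_of_ringEquiv (eT R s) h1 p
  refine ⟨F R s, subset_F R s, hP, ?_, ?_⟩
  · haveI := h2
    exact finite_maxSpec_of_ringEquiv (eT R s)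
  · haveI : IsFractionRing (F R s) (Ks R s) := by
      refine (isLocalization_iff _ _).2 ⟨fun y => ?_, fun z => ?_, fun {x y} h => ?_⟩
      · apply IsUnit.mk0
        exact (map_ne_zero_iff _ (algebraMap_F_injective R s)).2 (nonZeroDivisors.ne_zero y.2)
      · obtain ⟨a, b, ⟨⟨ra, hra⟩, haK⟩, ⟨⟨rb, hrb⟩, hbK⟩, hb0, hz⟩ := h3 (z : FractionRing R) z.2
        have hraF : ra ∈ F R s := by rw [mem_F, hra]; exact haK
        have hrbF : rb ∈ F R s := by rw [mem_F, hrb]; exact hbK
        have hrb0 : (⟨rb, hrbF⟩ : F R s) ≠ 0 := by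
          intro h0
          apply hb0
          have : rb = 0 := congrArg Subtype.val h0
          rw [← hrb, this, map_zero]
        refine ⟨(⟨ra, hraF⟩, ⟨⟨rb, hrbF⟩, mem_nonZeroDivisors_of_ne_zero hrb0⟩), ?_⟩
        apply Subtype.ext
        push_cast
        rw [algebraMap_F_apply, algebraMap_F_apply]
        change (z : FractionRing R) * algebraMap R (FractionRing R) rb =
          algebraMap R (FractionRing R) ra
        rw [hra, hrb, hz, div_mul_cancel₀ _ hb0]
      · exact ⟨1, by rw [algebraMap_F_injective R s h]⟩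
    obtain ⟨d, hd⟩ := exists_trdeg_Ks R s
    exact lt_of_le_of_lt (prufer_dim_le (F R s) (Ks R s) hP d hd)
      (WithBot.coe_lt_coe.2 (ENat.natCast_lt_top _))

end Prufer

end Main

end Groth.Agent.Helper3.ValApprox
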