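import Mathlib
import Groth.Agent.Helper3.DvrApprox
import Groth.Agent.Helper3.ValApprox
import Groth.Agent.Helper5.CurveVal

set_option linter.style.haveILetI false
set_option linter.unusedSectionVars false
set_option linter.unusedVariables false

namespace Groth.Agent.Helper3.RatOrd

open AlgebraicGeometry CategoryTheory
open Groth.Agent.Helper5.VcCenter Groth.Agent.Helper5.CurveVal Groth.Agent.Helper3.ValApprox

universe u

theorem generic_eq (X : Scheme.{u}) [IsIntegral X] (x y : X) :
    Spec.map (CommRingCat.ofHom (algebraMap (X.presheaf.stalk x) X.functionField)) ≫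
        X.fromSpecStalk x =
      Spec.map (CommRingCat.ofHom (algebraMap (X.presheaf.stalk y) X.functionField)) ≫
        X.fromSpecStalk y := by
  have h : ∀ z : X,
      Spec.map (CommRingCat.ofHom (algebraMap (X.presheaf.stalk z) X.functionField)) ≫
        X.fromSpecStalk z = X.fromSpecStalk (genericPoint X) := fun z =>
    Scheme.SpecMap_stalkSpecializes_fromSpecStalk ((genericPoint_spec X).specializes trivial)
  rw [h x, h y]

theorem main (X : Scheme.{u}) [IsIntegral X] [IsNoetherian X] [X.IsSeparated]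
    (hnor : ∀ x : X, IsIntegrallyClosed (X.presheaf.stalk x))
    {r : ℕ} (ξ : Fin r → X) (hξ : Function.Injective ξ)
    (hcodim : ∀ i, ringKrullDim (X.presheaf.stalk (ξ i)) = 1) (n : Fin r → ℤ) :
    ∃ f : X.functionField, f ≠ 0 ∧ ∀ i : Fin r,
      ∃ (ϖ : X.presheaf.stalk (ξ i)) (_ : Irreducible ϖ) (w : (X.presheaf.stalk (ξ i))ˣ),
        f = algebraMap (X.presheaf.stalk (ξ i)) X.functionField (w : X.presheaf.stalk (ξ i)) *
          algebraMap (X.presheaf.stalk (ξ i)) X.functionField ϖ ^ (n i) := by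
  rcases Nat.eq_zero_or_pos r with rfl | hr
  · exact ⟨1, one_ne_zero, fun i => i.elim0⟩
  haveI : Nonempty (Fin r) := ⟨⟨0, hr⟩⟩
  have hdvr : ∀ i, IsDiscreteValuationRing (X.presheaf.stalk (ξ i)) := fun i =>
    haveI := hnor (ξ i)
    isDVR_of_dim_one _ (hcodim i)
  let O : Fin r → ValuationSubring X.functionField := fun i =>
    haveI := hdvr i
    VSof (X.presheaf.stalk (ξ i)) X.functionField
  let e : ∀ i, X.presheaf.stalk (ξ i) ≃+* O i := fun i =>
    haveI := hdvr i
    equivVSof (X.presheaf.stalk (ξ i)) X.functionField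
  have he : ∀ i (a : X.presheaf.stalk (ξ i)),
      ((e i a : O i) : X.functionField) = algebraMap _ _ a := fun i a => rfl
  have hO : ∀ i, IsDiscreteValuationRing (O i) := fun i =>
    haveI := hdvr i
    IsDiscreteValuationRing.RingEquivClass.isDiscreteValuationRing (e i)
  have hrange : ∀ i, ((O i : ValuationSubring X.functionField) : Set X.functionField) =
      Set.range (algebraMap (X.presheaf.stalk (ξ i)) X.functionField) := fun i => by
    ext x
    rfl
  have hinj : Function.Injective O := by
    intro i j hij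
    apply hξ
    have hi : Dom (O i) (ξ i) (algebraMap _ _) := dom_of_eq_range (O i) (ξ i) (hrange i)
    have hj : Dom (O i) (ξ j) (algebraMap _ _) :=
      dom_of_eq_range (O i) (ξ j) (by rw [hij]; exact hrange j)
    exact Dom.unique hi hj (generic_eq X _ _)
  have hϖ : ∀ i, ∃ ϖ : X.presheaf.stalk (ξ i), Irreducible ϖ := fun i =>
    haveI := hdvr i
    IsDiscreteValuationRing.exists_irreducible _
  choose ϖ hϖ using hϖ
  obtain ⟨f, hf⟩ := DvrApprox.main O hO hinj (fun _ => 0) n (fun i => e i (ϖ i))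
    (fun i => (MulEquiv.irreducible_iff (e i)).mpr (hϖ i))
  have hf' : ∀ i : Fin r, ∃ w : (X.presheaf.stalk (ξ i))ˣ,
      f = algebraMap (X.presheaf.stalk (ξ i)) X.functionField (w : X.presheaf.stalk (ξ i)) *
        algebraMap (X.presheaf.stalk (ξ i)) X.functionField (ϖ i) ^ (n i) := fun i => by
    obtain ⟨w, hw⟩ := hf i
    refine ⟨Units.map (e i).symm.toRingHom.toMonoidHom w, ?_⟩
    rw [sub_zero] at hw
    rw [hw, he]
    congr 1
    rw [← he]
    simp
  refine ⟨f, ?_, fun i => ?_⟩
  · obtain ⟨w, hw⟩ := hf' ⟨0, hr⟩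
    rw [hw]
    apply mul_ne_zero
    · exact (map_ne_zero_iff _ (IsFractionRing.injective _ _)).mpr w.ne_zero
    · apply zpow_ne_zero
      exact (map_ne_zero_iff _ (IsFractionRing.injective _ _)).mpr (hϖ _).ne_zero
  · obtain ⟨w, hw⟩ := hf' i
    exact ⟨ϖ i, hϖ i, w, hw⟩

end Groth.Agent.Helper3.RatOrd
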