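import Mathlib
import Groth.Agent.Helper3.RatSec2

open AlgebraicGeometry CategoryTheory CategoryTheory.Limits TopologicalSpace Opposite

universe u

namespace Groth.Agent.Helper3.RatSec

/-- the generic point of a domain is dense -/
theorem isDominant_frac (R : Type u) [CommRing R] [IsDomain R] :
    IsDominant (Spec.map (CommRingCat.ofHom (algebraMap R (FractionRing R)))) := by
  refine ⟨fun p => ?_⟩
  obtain ⟨pt⟩ : Nonempty (Spec (CommRingCat.of (FractionRing R))) := inferInstance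
  have h1 : (⟨⊥, Ideal.isPrime_bot⟩ : PrimeSpectrum R) ⤳ p :=
    (PrimeSpectrum.le_iff_specializes (R := R) ⟨⊥, Ideal.isPrime_bot⟩ p).mp bot_le
  rw [← specMap_frac_apply R pt] at h1
  exact h1.mem_closed isClosed_closure (subset_closure ⟨pt, rfl⟩)

/-- uniqueness of the point of the closure of the graph over `x` (separated case) -/
theorem unique_over_x {X Y₁ Y : Scheme.{u}} [IsLocallyNoetherian X] (q : Y ⟶ X)
    (j : Y₁ ⟶ Y) [IsOpenImmersion j] [IsSeparated (j ≫ q)] [LocallyOfFiniteType (j ≫ q)]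
    (U : X.Opens) (h : (U : Scheme.{u}) ⟶ Y) (hh : h ≫ q = U.ι) (x : X) (y₀ : Y)
    (H : ValHyp q U h x y₀)
    (z : Y₁) (hz : j z = y₀)
    (ξ : X) (hξU : ξ ∈ U) (hξx : ξ ≠ x) (η : Y₁) (hη : j η = h ⟨ξ, hξU⟩)
    (w : Y₁) (hw : η ⤳ w) (hwx : (j ≫ q) w = x) : w = z := by
  have hne : η ≠ w := by
    intro e
    apply hξx
    rw [← hwx, ← e]
    symm
    show q (j η) = ξ
    rw [hη]
    show (h ≫ q) ⟨ξ, hξU⟩ = ξ
    rw [hh]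
    rfl
  haveI : IsLocallyNoetherian Y₁ := LocallyOfFiniteType.isLocallyNoetherian (j ≫ q)
  obtain ⟨R, hR1, hR2, hR3, φ, hφ0, hφ1⟩ :=
    Groth.Agent.Helper5.GenLift.exists_dvr_spec Y₁ η w hw hne
  let g := Spec.map (CommRingCat.ofHom (algebraMap R (FractionRing R)))
  have hu0 : (φ ≫ j ≫ q) (IsLocalRing.closedPoint R) = x := by
    show (j ≫ q) (φ (IsLocalRing.closedPoint R)) = x
    rw [hφ0, hwx]
  have hjφ : (φ ≫ j) (⟨⊥, Ideal.isPrime_bot⟩ : PrimeSpectrum R) = h ⟨ξ, hξU⟩ := by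
    show j (φ _) = _
    rw [hφ1, hη]
  obtain ⟨ub, hub⟩ := exists_ub U R (φ ≫ j ≫ q) (by
    show q ((φ ≫ j) (⟨⊥, Ideal.isPrime_bot⟩ : PrimeSpectrum R)) ∈ U
    rw [hjφ]
    show (h ≫ q) ⟨ξ, hξU⟩ ∈ U
    rw [hh]
    exact hξU)
  obtain ⟨l, hlq, hl0, hlg⟩ := H R (φ ≫ j ≫ q) hu0 ub hub
  have hlY₁ : Set.range l ⊆ Set.range j := by
    rintro _ ⟨p, rfl⟩
    have h1 : l p ⤳ l (IsLocalRing.closedPoint R) :=
      (IsLocalRing.specializes_closedPoint p).map l.continuous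
    rw [hl0, ← hz] at h1
    exact h1.mem_open j.isOpenEmbedding.isOpen_range ⟨z, rfl⟩
  let l₁ : Spec (CommRingCat.of R) ⟶ Y₁ := IsOpenImmersion.lift j l hlY₁
  have hl₁ : l₁ ≫ j = l := IsOpenImmersion.lift_fac _ _ _
  have e1 : g ≫ φ ≫ j = ub ≫ h := by
    obtain ⟨a', ha'⟩ := section_factor q U h hh (FractionRing R) (g ≫ φ ≫ j) ⟨ξ, hξU⟩
      ((congrArg (φ ≫ j) (specMap_frac_apply R _)).trans hjφ)
    have : a' = ub := by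
      rw [← cancel_mono U.ι, hub, ← hh, ← Category.assoc, ha']
      simp only [Category.assoc]
      rfl
    rw [← ha', this]
  have e2 : g ≫ φ = g ≫ l₁ := by
    rw [← cancel_mono j, Category.assoc, e1, Category.assoc, hl₁, hlg]
  haveI := isDominant_frac R
  have e3 : φ = l₁ := by
    refine ext_of_isDominant_of_isSeparated (j ≫ q) ?_ g e2
    rw [← Category.assoc l₁, hl₁, hlq]
  rw [← hφ0, e3]
  apply j.isOpenEmbedding.injective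
  show (l₁ ≫ j) _ = _
  rw [hl₁, hl0, hz]

set_option maxHeartbeats 1600000 in
/-- S3848, the hard direction -/
theorem s3848_mpr {X Y : Scheme.{u}} [IsLocallyNoetherian X] (q : Y ⟶ X)
    [LocallyOfFiniteType q] (U : X.Opens) (hU : Dense (U : Set ↥X)) (h : (U : Scheme.{u}) ⟶ Y)
    (hh : h ≫ q = U.ι) (x : ↥X) (hxU : x ∉ U) [IsDomain ↑(X.presheaf.stalk x)]
    (hx : IsIntegrallyClosed ↑(X.presheaf.stalk x)) (y₀ : ↥Y) (hy₀ : q y₀ = x)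
    (H : ValHyp q U h x y₀) :
    ∃ (U' : X.Opens) (hUU' : U ≤ U') (hxU' : x ∈ U') (h' : (U' : Scheme.{u}) ⟶ Y),
        h' ≫ q = U'.ι ∧ X.homOfLE hUU' ≫ h' = h ∧ h' ⟨x, hxU'⟩ = y₀ := by
  classical
  obtain ⟨W₀, hxW₀, hW₀⟩ := RatNbhd.exists_integral_nbhd x
  haveI := hW₀
  obtain ⟨_, ⟨X₀, hX₀, rfl⟩, hxX₀, hX₀W : X₀ ≤ W₀⟩ :=
    X.isBasis_affineOpens.exists_subset_of_mem_open hxW₀ W₀.2
  replace hX₀ : IsAffineOpen X₀ := hX₀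
  haveI : IsDomain Γ(X, X₀) := RatMain.isDomain_of_le hX₀W x hxX₀
  let ξ : X := hX₀.fromSpec (⟨⊥, Ideal.isPrime_bot⟩ : PrimeSpectrum Γ(X, X₀))
  have hξgen : ∀ p ∈ X₀, ξ ⤳ p := fun p hp => RatMain.bot_specializes hX₀ p hp
  have hξx : ξ ⤳ x := hξgen x hxX₀
  obtain ⟨u₁, hu₁X, hu₁U⟩ : ((X₀ : Set X) ∩ (U : Set X)).Nonempty :=
    hU.inter_open_nonempty X₀ X₀.2 ⟨x, hxX₀⟩
  have hξU : ξ ∈ U := (hξgen u₁ hu₁X).mem_open U.2 hu₁U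
  have hξX₀ : ξ ∈ X₀ := hξx.mem_open X₀.2 hxX₀
  have hne : ξ ≠ x := fun e => hxU (e ▸ hξU)
  -- affine neighbourhood of `y₀`
  obtain ⟨_, ⟨(Y₁ : Y.Opens), hY₁, rfl⟩, hyY₁, -⟩ :=
    Y.isBasis_affineOpens.exists_subset_of_mem_open (Set.mem_univ y₀) isOpen_univ
  replace hY₁ : IsAffineOpen Y₁ := hY₁
  haveI : IsAffine (Y₁ : Scheme.{u}) := hY₁
  have key : ∀ b (hbU : b ∈ U), b ⤳ x → h ⟨b, hbU⟩ ∈ Y₁ := fun b hbU hb =>
    (spec_of_valHyp q U h x hxU y₀ H b hbU hb).mem_open Y₁.2 hyY₁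
  let U₁ : X.Opens := X₀ ⊓ U.ι ''ᵁ (h ⁻¹ᵁ Y₁)
  have hU₁X₀ : U₁ ≤ X₀ := inf_le_left
  have hU₁U : U₁ ≤ U := by
    rintro p ⟨-, ⟨p', -, rfl⟩⟩
    exact p'.2
  have hmemU₁ : ∀ b (hbU : b ∈ U), b ∈ X₀ → h ⟨b, hbU⟩ ∈ Y₁ → b ∈ U₁ := fun b hbU hbX₀ hb =>
    ⟨hbX₀, ⟨⟨b, hbU⟩, hb, rfl⟩⟩
  have hU₁mem : ∀ b (hb : b ∈ U₁), h ⟨b, hU₁U hb⟩ ∈ Y₁ := by
    rintro b ⟨-, ⟨p', hp', rfl⟩⟩
    exact hp'
  have hξU₁ : ξ ∈ U₁ := hmemU₁ ξ hξU hξX₀ (key ξ hξU hξx)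
  -- the restricted section
  have hrange : Set.range (X.homOfLE hU₁U ≫ h) ⊆ Set.range Y₁.ι := by
    rintro _ ⟨p, rfl⟩
    rw [Scheme.Opens.range_ι]
    show h (X.homOfLE hU₁U p) ∈ Y₁
    have : X.homOfLE hU₁U p = ⟨p.1, hU₁U p.2⟩ := Scheme.homOfLE_apply' hU₁U p.1 p.2
    rw [this]
    exact hU₁mem p.1 p.2
  let q₁ : (Y₁ : Scheme.{u}) ⟶ X := Y₁.ι ≫ q
  let h₁ : (U₁ : Scheme.{u}) ⟶ (Y₁ : Scheme.{u}) :=
    IsOpenImmersion.lift Y₁.ι (X.homOfLE hU₁U ≫ h) hrange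
  have hh₁ι : h₁ ≫ Y₁.ι = X.homOfLE hU₁U ≫ h := IsOpenImmersion.lift_fac _ _ _
  have hh₁ : h₁ ≫ q₁ = U₁.ι := by
    show h₁ ≫ Y₁.ι ≫ q = _
    rw [← Category.assoc, hh₁ι, Category.assoc, hh, X.homOfLE_ι]
  let z : (Y₁ : Scheme.{u}) := ⟨y₀, hyY₁⟩
  have hz : q₁ z = x := hy₀
  let ξ₁ : (U₁ : Scheme.{u}) := ⟨ξ, hξU₁⟩
  have hη : Y₁.ι (h₁ ξ₁) = h ⟨ξ, hξU⟩ := by
    show (h₁ ≫ Y₁.ι) ξ₁ = _
    rw [hh₁ι]
    show h (X.homOfLE hU₁U ξ₁) = _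
    rw [Scheme.homOfLE_apply' hU₁U ξ hξU₁]
  have hξ₁z : h₁ ξ₁ ⤳ z := by
    rw [← Y₁.ι.isOpenEmbedding.isInducing.specializes_iff, hη]
    exact spec_of_valHyp q U h x hxU y₀ H ξ hξU hξx
  have hzΓ : z ∈ closure (Set.range h₁) :=
    hξ₁z.mem_closed isClosed_closure (subset_closure ⟨ξ₁, rfl⟩)
  have hcl : closure (Set.range h₁) ⊆ closure {h₁ ξ₁} := by
    apply closure_minimal _ isClosed_closure
    rintro _ ⟨p, rfl⟩
    have h1 : ξ₁ ⤳ p :=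
      (U₁.ι.isOpenEmbedding.isInducing.specializes_iff).mp (hξgen p.1 (hU₁X₀ p.2))
    exact specializes_iff_mem_closure.mp (h1.map h₁.continuous)
  have huniq : ∀ w : (Y₁ : Scheme.{u}), w ∈ closure (Set.range h₁) → q₁ w = x → w = z := by
    intro w hw hwx
    exact unique_over_x q Y₁.ι U h hh x y₀ H z rfl ξ hξU hne (h₁ ξ₁) hη w
      (specializes_iff_mem_closure.mpr (hcl hw)) hwx
  have hiso : ∃ WY : (Y₁ : Scheme.{u}).Opens,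
      (WY : Set (Y₁ : Scheme.{u})) ∩ closure (Set.range h₁) ∩ q₁ ⁻¹' {x} = {z} := by
    refine ⟨⊤, ?_⟩
    ext w
    constructor
    · rintro ⟨⟨-, hw1⟩, hw2⟩
      exact huniq w hw1 hw2
    · intro hw
      have hw' : w = z := hw
      rw [hw']
      exact ⟨⟨trivial, hzΓ⟩, hz⟩
  obtain ⟨V, v₁, hxV, hv₁, hag₁⟩ :=
    extend_of_point q₁ U₁ h₁ hh₁ x ⟨W₀, hxW₀, hW₀⟩ hx z hz hzΓ hiso
  -- shrink `V`
  let F : Set X := ((U ⊓ V ⊓ X₀ : X.Opens) : Set X) ∩ (U₁ : Set X)ᶜ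
  have hxF : x ∉ closure F := by
    intro hxF
    haveI : IsNoetherianRing Γ(X, X₀) := IsLocallyNoetherian.component_noetherian ⟨X₀, hX₀⟩
    haveI : NoetherianSpace (X₀ : Set X) := noetherianSpace_of_isAffineOpen X₀ hX₀
    haveI : NoetherianSpace F := by
      rw [noetherianSpace_set_iff]
      intro t ht
      exact (noetherianSpace_set_iff (X₀ : Set X)).mp ‹_› t
        (ht.trans (fun p hp => hp.1.2))
    obtain ⟨b, hbF, hbx⟩ := exists_specializes_of_mem_closure F _ _ (U ⊓ V ⊓ X₀).2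
      U₁.2.isClosed_compl rfl x hxF
    exact hbF.2 (hmemU₁ b hbF.1.1.1 hbF.1.2 (key b hbF.1.1.1 hbx))
  let V' : X.Opens := V ⊓ X₀ ⊓ ⟨(closure F)ᶜ, isClosed_closure.isOpen_compl⟩
  have hxV' : x ∈ V' := ⟨⟨hxV, hxX₀⟩, hxF⟩
  have hV'V : V' ≤ V := inf_le_left.trans inf_le_left
  have hUV' : U ⊓ V' ≤ U₁ ⊓ V := by
    rintro p ⟨hpU, ⟨hpV, hpX₀⟩, hpF⟩
    refine ⟨?_, hpV⟩
    by_contra hpU₁
    exact hpF (subset_closure ⟨⟨⟨hpU, hpV⟩, hpX₀⟩, hpU₁⟩)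
  let v' : (V' : Scheme.{u}) ⟶ Y := X.homOfLE hV'V ≫ v₁ ≫ Y₁.ι
  have hv' : v' ≫ q = V'.ι := by
    show (X.homOfLE hV'V ≫ v₁ ≫ Y₁.ι) ≫ q = _
    rw [Category.assoc, Category.assoc]
    show X.homOfLE hV'V ≫ v₁ ≫ q₁ = _
    rw [hv₁, X.homOfLE_ι]
  have hag' : X.homOfLE (inf_le_right : U ⊓ V' ≤ V') ≫ v' =
      X.homOfLE (inf_le_left : U ⊓ V' ≤ U) ≫ h := by
    have e1 : X.homOfLE (inf_le_right : U ⊓ V' ≤ V') ≫ X.homOfLE hV'V =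
        X.homOfLE hUV' ≫ X.homOfLE (inf_le_right : U₁ ⊓ V ≤ V) := by
      rw [X.homOfLE_homOfLE, X.homOfLE_homOfLE]
    have e2 : X.homOfLE (inf_le_left : U ⊓ V' ≤ U) =
        X.homOfLE hUV' ≫ X.homOfLE (inf_le_left : U₁ ⊓ V ≤ U₁) ≫ X.homOfLE hU₁U := by
      rw [X.homOfLE_homOfLE, X.homOfLE_homOfLE]
    show X.homOfLE _ ≫ X.homOfLE hV'V ≫ v₁ ≫ Y₁.ι = _
    rw [← Category.assoc, e1, Category.assoc, ← Category.assoc (X.homOfLE _) v₁, hag₁, e2]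
    simp only [Category.assoc, hh₁ι]
  obtain ⟨U', hUU', hVU', h', hxU', hq', hres, hresV⟩ :=
    extend_glue q U h hh x V' v' hxV' hv' hag'
  refine ⟨U', hUU', hxU', h', hq', hres, ?_⟩
  have hv₁x : v₁ ⟨x, hxV⟩ = z := by
    apply huniq
    · have hξV : ξ ∈ V := hξx.mem_open V.2 hxV
      have e1 : v₁ ⟨ξ, hξV⟩ = h₁ ξ₁ := by
        have hξUV : ξ ∈ U₁ ⊓ V := ⟨hξU₁, hξV⟩
        have e0 := congrArg (fun f : ((U₁ ⊓ V : X.Opens) : Scheme.{u}) ⟶ (Y₁ : Scheme.{u}) =>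
          f ⟨ξ, hξUV⟩) hag₁
        have e0' : v₁ (X.homOfLE (inf_le_right : U₁ ⊓ V ≤ V) ⟨ξ, hξUV⟩) =
            h₁ (X.homOfLE (inf_le_left : U₁ ⊓ V ≤ U₁) ⟨ξ, hξUV⟩) := e0
        rw [Scheme.homOfLE_apply' _ ξ hξUV, Scheme.homOfLE_apply' _ ξ hξUV] at e0'
        exact e0'
      have e2 : (⟨ξ, hξV⟩ : (V : Scheme.{u})) ⤳ ⟨x, hxV⟩ :=
        (V.ι.isOpenEmbedding.isInducing.specializes_iff).mp hξx
      have e3 := e2.map v₁.continuous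
      rw [e1] at e3
      exact e3.mem_closed isClosed_closure (subset_closure ⟨ξ₁, rfl⟩)
    · show (v₁ ≫ q₁) ⟨x, hxV⟩ = x
      rw [hv₁]
      rfl
  have e4 : h' ⟨x, hxU'⟩ = v' ⟨x, hxV'⟩ := by
    rw [← hresV]
    show h' ⟨x, hxU'⟩ = h' (X.homOfLE hVU' ⟨x, hxV'⟩)
    rw [Scheme.homOfLE_apply']
  rw [e4]
  show Y₁.ι (v₁ (X.homOfLE hV'V ⟨x, hxV'⟩)) = y₀
  rw [Scheme.homOfLE_apply', hv₁x]
  rfl

/-- S3848 -/
theorem s3848 {X Y : Scheme.{u}} [IsLocallyNoetherian X] (q : Y ⟶ X)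
    [LocallyOfFiniteType q] (U : X.Opens) (hU : Dense (U : Set ↥X)) (h : (U : Scheme.{u}) ⟶ Y)
    (hh : h ≫ q = U.ι) (x : ↥X) (hxU : x ∉ U) [IsDomain ↑(X.presheaf.stalk x)]
    (hx : IsIntegrallyClosed ↑(X.presheaf.stalk x)) (y₀ : ↥Y) (hy₀ : q y₀ = x) :
    (∃ (U' : X.Opens) (hUU' : U ≤ U') (hxU' : x ∈ U') (h' : (U' : Scheme.{u}) ⟶ Y),
        h' ≫ q = U'.ι ∧ X.homOfLE hUU' ≫ h' = h ∧ h' ⟨x, hxU'⟩ = y₀) ↔
      ∀ (R : Type u) [CommRing R] [IsDomain R] [IsDiscreteValuationRing R]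
        (u : Spec (CommRingCat.of R) ⟶ X), u (IsLocalRing.closedPoint R) = x →
        ∀ ub : Spec (CommRingCat.of (FractionRing R)) ⟶ (U : Scheme.{u}),
          ub ≫ U.ι = Spec.map (CommRingCat.ofHom (algebraMap R (FractionRing R))) ≫ u →
          ∃ h₁ : Spec (CommRingCat.of R) ⟶ Y, h₁ ≫ q = u ∧ h₁ (IsLocalRing.closedPoint R) = y₀ ∧
            Spec.map (CommRingCat.ofHom (algebraMap R (FractionRing R))) ≫ h₁ = ub ≫ h := by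
  constructor
  · rintro ⟨U', hUU', hxU', h', hq', hres, hx'⟩ R _ _ _ u hu0 ub hub
    have huU' : Set.range u ⊆ Set.range U'.ι := by
      rintro _ ⟨p, rfl⟩
      have h1 : u p ⤳ u (IsLocalRing.closedPoint R) :=
        (IsLocalRing.specializes_closedPoint p).map u.continuous
      rw [hu0] at h1
      rw [Scheme.Opens.range_ι]
      exact h1.mem_open U'.2 hxU'
    let u' : Spec (CommRingCat.of R) ⟶ (U' : Scheme.{u}) := IsOpenImmersion.lift U'.ι u huU'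
    have hu' : u' ≫ U'.ι = u := IsOpenImmersion.lift_fac _ _ _
    refine ⟨u' ≫ h', ?_, ?_, ?_⟩
    · rw [Category.assoc, hq', hu']
    · show h' (u' (IsLocalRing.closedPoint R)) = y₀
      have : u' (IsLocalRing.closedPoint R) = ⟨x, hxU'⟩ := by
        apply Subtype.ext
        show (u' ≫ U'.ι) (IsLocalRing.closedPoint R) = x
        rw [hu', hu0]
      rw [this, hx']
    · rw [← hres, ← Category.assoc, ← Category.assoc]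
      congr 1
      rw [← cancel_mono U'.ι, Category.assoc, hu', Category.assoc, X.homOfLE_ι, hub]
  · intro H
    exact s3848_mpr q U hU h hh x hxU hx y₀ hy₀ H

end Groth.Agent.Helper3.RatSec
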