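import Mathlib
import Groth.Agent.Helper3.RatSec2

open AlgebraicGeometry CategoryTheory CategoryTheory.Limits TopologicalSpace Opposite

universe u

namespace Groth.Agent.Helper3.RatUO

open Groth.Agent.Helper3.RatSec

/-- Lemma C: points of `V' ×_X P` lying over the graph of a section lie on the pulled back
section -/
theorem mem_range_section {X P V' : Scheme.{u}} (p : P ⟶ X) (U : X.Opens)
    (γ : (U : Scheme.{u}) ⟶ P) (hγ : γ ≫ p = U.ι) (g' : V' ⟶ X) (γ' : V' ⟶ P)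
    (hγ' : γ' ≫ p = g')
    (hag : ∀ (K : Type u) [Field K] (τ : Spec (CommRingCat.of K) ⟶ V')
      (τU : Spec (CommRingCat.of K) ⟶ (U : Scheme.{u})), τ ≫ g' = τU ≫ U.ι →
      τ ≫ γ' = τU ≫ γ)
    (t : ↑(pullback g' p)) (u : (U : Scheme.{u})) (ht : pullback.snd g' p t = γ u) :
    t ∈ Set.range (pullback.lift (𝟙 V') γ' (by rw [Category.id_comp, hγ']) :
      V' ⟶ pullback g' p) := by
  let K : Type u := (pullback g' p).residueField t
  let τ : Spec (CommRingCat.of K) ⟶ pullback g' p := (pullback g' p).fromSpecResidueField t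
  have hτ : τ (IsLocalRing.closedPoint K) = t := Scheme.fromSpecResidueField_apply _ _
  obtain ⟨a', ha'⟩ := section_factor p U γ hγ K (τ ≫ pullback.snd g' p) u (by
    show pullback.snd g' p (τ _) = _
    rw [hτ, ht])
  have h1 : (τ ≫ pullback.fst g' p) ≫ g' = a' ≫ U.ι := by
    rw [Category.assoc, pullback.condition, ← Category.assoc, ← ha', Category.assoc, hγ]
  have h2 := hag K (τ ≫ pullback.fst g' p) a' h1
  have h3 : τ = (τ ≫ pullback.fst g' p) ≫
      (pullback.lift (𝟙 V') γ' (by rw [Category.id_comp, hγ']) : V' ⟶ pullback g' p) := by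
    apply pullback.hom_ext
    · rw [Category.assoc, pullback.lift_fst, Category.comp_id]
    · rw [Category.assoc, pullback.lift_snd, h2, ha']
  refine ⟨(τ ≫ pullback.fst g' p) (IsLocalRing.closedPoint K), ?_⟩
  refine Eq.trans ?_ hτ
  exact (congrArg (fun f : Spec (CommRingCat.of K) ⟶ pullback g' p =>
    f (IsLocalRing.closedPoint K)) h3).symm

/-- pointwise consequence of the agreement on field-valued points -/
theorem mem_range_of_hag {X P V' : Scheme.{u}} (U : X.Opens)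
    (γ : (U : Scheme.{u}) ⟶ P) (g' : V' ⟶ X) (γ' : V' ⟶ P)
    (hag : ∀ (K : Type u) [Field K] (τ : Spec (CommRingCat.of K) ⟶ V')
      (τU : Spec (CommRingCat.of K) ⟶ (U : Scheme.{u})), τ ≫ g' = τU ≫ U.ι →
      τ ≫ γ' = τU ≫ γ)
    (p' : V') (hp' : g' p' ∈ U) : γ' p' ∈ Set.range γ := by
  let K : Type u := V'.residueField p'
  let τ : Spec (CommRingCat.of K) ⟶ V' := V'.fromSpecResidueField p'
  have hτ : ∀ pt, τ pt = p' := fun pt => Scheme.fromSpecResidueField_apply _ _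
  have hr : Set.range (τ ≫ g') ⊆ Set.range U.ι := by
    rintro _ ⟨pt, rfl⟩
    rw [Scheme.Opens.range_ι]
    show g' (τ pt) ∈ U
    rw [hτ]
    exact hp'
  have h1 := hag K τ (IsOpenImmersion.lift U.ι (τ ≫ g') hr) (IsOpenImmersion.lift_fac _ _ _).symm
  refine ⟨(IsOpenImmersion.lift U.ι (τ ≫ g') hr) (IsLocalRing.closedPoint K), ?_⟩
  have h2 := congrArg (fun f : Spec (CommRingCat.of K) ⟶ P => f (IsLocalRing.closedPoint K)) h1
  refine h2.symm.trans ?_
  exact congrArg γ' (hτ _)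

/-- the fibre of the closure of the graph over `g' x'` is a single point -/
theorem fibre_unique {X P V' : Scheme.{u}} (p : P ⟶ X) [IsSeparated p] (U : X.Opens)
    (γ : (U : Scheme.{u}) ⟶ P) (hγ : γ ≫ p = U.ι) (g' : V' ⟶ X) [UniversallyOpen g']
    (γ' : V' ⟶ P) (hγ' : γ' ≫ p = g')
    (hag : ∀ (K : Type u) [Field K] (τ : Spec (CommRingCat.of K) ⟶ V')
      (τU : Spec (CommRingCat.of K) ⟶ (U : Scheme.{u})), τ ≫ g' = τU ≫ U.ι →
      τ ≫ γ' = τU ≫ γ)
    (x' : V') (w : P) (hw : w ∈ closure (Set.range γ)) (hwx : p w = g' x') : w = γ' x' := by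
  let s' : V' ⟶ pullback g' p := pullback.lift (𝟙 V') γ' (by rw [Category.id_comp, hγ'])
  have hs'1 : s' ≫ pullback.fst g' p = 𝟙 V' := pullback.lift_fst _ _ _
  have hs'2 : s' ≫ pullback.snd g' p = γ' := pullback.lift_snd _ _ _
  haveI : IsClosedImmersion (s' ≫ pullback.fst g' p) := by rw [hs'1]; infer_instance
  haveI : IsClosedImmersion s' := IsClosedImmersion.of_comp s' (pullback.fst g' p)
  have hcl : IsClosed (Set.range s') := s'.isClosedEmbedding.isClosed_range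
  obtain ⟨w', hw'1, hw'2⟩ :=
    Scheme.Pullback.exists_preimage_pullback (f := g') (g := p) x' w hwx.symm
  have hopen : IsOpenMap (pullback.snd g' p) := (pullback.snd g' p).isOpenMap
  have h1 : w' ∈ closure ((pullback.snd g' p) ⁻¹' Set.range γ) :=
    hopen.preimage_closure_subset_closure_preimage (by
      show pullback.snd g' p w' ∈ closure (Set.range γ)
      rw [hw'2]; exact hw)
  have h2 : (pullback.snd g' p) ⁻¹' Set.range γ ⊆ Set.range s' := by
    rintro t ⟨u, hu⟩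
    exact mem_range_section p U γ hγ g' γ' hγ' hag t u hu.symm
  have h3 : w' ∈ Set.range s' := (hcl.closure_subset_iff.mpr h2) h1
  obtain ⟨p₀, hp₀⟩ := h3
  have h4 : p₀ = x' := by
    have : (s' ≫ pullback.fst g' p) p₀ = x' := by
      show pullback.fst g' p (s' p₀) = _
      rw [hp₀, hw'1]
    rwa [hs'1] at this
  rw [← hw'2, ← hp₀, h4]
  show (s' ≫ pullback.snd g' p) x' = _
  rw [hs'2]

/-- the point `γ' x'` lies in the closure of the graph -/
theorem mem_closure_graph {X P V' : Scheme.{u}} (U : X.Opens) (hU : Dense (U : Set X))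
    (γ : (U : Scheme.{u}) ⟶ P) (g' : V' ⟶ X) [UniversallyOpen g'] (γ' : V' ⟶ P)
    (hag : ∀ (K : Type u) [Field K] (τ : Spec (CommRingCat.of K) ⟶ V')
      (τU : Spec (CommRingCat.of K) ⟶ (U : Scheme.{u})), τ ≫ g' = τU ≫ U.ι →
      τ ≫ γ' = τU ≫ γ)
    (x' : V') : γ' x' ∈ closure (Set.range γ) := by
  have hd : Dense (g' ⁻¹' (U : Set X)) := hU.preimage g'.isOpenMap
  have h1 : γ' x' ∈ closure (γ' '' (g' ⁻¹' (U : Set X))) :=
    image_closure_subset_closure_image γ'.continuous ⟨x', hd x', rfl⟩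
  refine closure_mono ?_ h1
  rintro _ ⟨p', hp', rfl⟩
  exact mem_range_of_hag U γ g' γ' hag p' hp'

set_option maxHeartbeats 800000 in
/-- S3837 -/
theorem s3837 {X X' Y S : Scheme.{u}} (pX : X ⟶ S) (pY : Y ⟶ S)
    [LocallyOfFiniteType pY] [IsSeparated pY]
    (hX : ∀ y : ↥X, ∃ W : X.Opens, y ∈ W ∧ IsIntegral (W : Scheme.{u}))
    (hXn : ∀ y : ↥X, IsIntegrallyClosed (X.presheaf.stalk y))
    (U : X.Opens) (hU : Dense (U : Set ↥X)) (h : (U : Scheme.{u}) ⟶ Y) (hh : h ≫ pY = U.ι ≫ pX)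
    (f : X' ⟶ X) [UniversallyOpen f] (x' : ↥X') :
    (∃ (V : X.Opens) (v : (V : Scheme.{u}) ⟶ Y), f x' ∈ V ∧ v ≫ pY = V.ι ≫ pX ∧
        X.homOfLE (inf_le_right : U ⊓ V ≤ V) ≫ v = X.homOfLE (inf_le_left : U ⊓ V ≤ U) ≫ h) ↔
      ∃ (V' : X'.Opens) (v' : (V' : Scheme.{u}) ⟶ Y), x' ∈ V' ∧ v' ≫ pY = V'.ι ≫ f ≫ pX ∧
        X'.homOfLE (inf_le_right : f ⁻¹ᵁ U ⊓ V' ≤ V') ≫ v' =
          X'.homOfLE (inf_le_left : f ⁻¹ᵁ U ⊓ V' ≤ f ⁻¹ᵁ U) ≫ (f ∣_ U) ≫ h := by
  constructor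
  · rintro ⟨V, v, hxV, hv, hag⟩
    refine ⟨f ⁻¹ᵁ V, (f ∣_ V) ≫ v, hxV, ?_, ?_⟩
    · rw [Category.assoc, hv, ← Category.assoc, morphismRestrict_ι, Category.assoc]
    · have e : f ⁻¹ᵁ U ⊓ f ⁻¹ᵁ V ≤ f ⁻¹ᵁ (U ⊓ V) := fun p hp => hp
      let r := f.resLE (U ⊓ V) (f ⁻¹ᵁ U ⊓ f ⁻¹ᵁ V) e
      have e1 : X'.homOfLE (inf_le_right : f ⁻¹ᵁ U ⊓ f ⁻¹ᵁ V ≤ f ⁻¹ᵁ V) ≫ (f ∣_ V) =
          r ≫ X.homOfLE (inf_le_right : U ⊓ V ≤ V) := by
        rw [← cancel_mono V.ι]
        simp [r]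
      have e2 : X'.homOfLE (inf_le_left : f ⁻¹ᵁ U ⊓ f ⁻¹ᵁ V ≤ f ⁻¹ᵁ U) ≫ (f ∣_ U) =
          r ≫ X.homOfLE (inf_le_left : U ⊓ V ≤ U) := by
        rw [← cancel_mono U.ι]
        simp [r]
      rw [← Category.assoc, e1, Category.assoc, hag, ← Category.assoc, ← e2, Category.assoc]
  · rintro ⟨V', v', hx'V', hv'S, hv'⟩
    let g' : (V' : Scheme.{u}) ⟶ X := V'.ι ≫ f
    haveI : UniversallyOpen g' := inferInstance
    let γ : (U : Scheme.{u}) ⟶ pullback pX pY := pullback.lift U.ι h hh.symm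
    have hγ : γ ≫ pullback.fst pX pY = U.ι := pullback.lift_fst _ _ _
    let γ' : (V' : Scheme.{u}) ⟶ pullback pX pY := pullback.lift g' v' (by
      rw [hv'S, Category.assoc])
    have hγ' : γ' ≫ pullback.fst pX pY = g' := pullback.lift_fst _ _ _
    let D : X'.Opens := f ⁻¹ᵁ U ⊓ V'
    let ιD : (D : Scheme.{u}) ⟶ (V' : Scheme.{u}) := X'.homOfLE inf_le_right
    let k : (D : Scheme.{u}) ⟶ (U : Scheme.{u}) := X'.homOfLE inf_le_left ≫ (f ∣_ U)
    have hk : k ≫ U.ι = D.ι ≫ f := by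
      simp [k, morphismRestrict_ι]
    have hstar : ιD ≫ γ' = k ≫ γ := by
      apply pullback.hom_ext
      · rw [Category.assoc, hγ', Category.assoc, hγ, hk]
        simp [ιD, g']
      · rw [Category.assoc, pullback.lift_snd, Category.assoc, pullback.lift_snd]
        exact hv'
    have hagK : ∀ (K : Type u) [Field K] (τ : Spec (CommRingCat.of K) ⟶ (V' : Scheme.{u}))
        (τU : Spec (CommRingCat.of K) ⟶ (U : Scheme.{u})), τ ≫ g' = τU ≫ U.ι →
        τ ≫ γ' = τU ≫ γ := by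
      intro K _ τ τU hτ
      have hr : Set.range (τ ≫ V'.ι) ⊆ Set.range D.ι := by
        rintro _ ⟨pt, rfl⟩
        rw [Scheme.Opens.range_ι]
        refine ⟨?_, (τ pt).2⟩
        show (τ ≫ g') pt ∈ U
        rw [hτ]
        exact (τU pt).2
      let τD := IsOpenImmersion.lift D.ι (τ ≫ V'.ι) hr
      have hτD : τD ≫ D.ι = τ ≫ V'.ι := IsOpenImmersion.lift_fac _ _ _
      have h1 : τD ≫ ιD = τ := by
        rw [← cancel_mono V'.ι, Category.assoc, X'.homOfLE_ι, hτD]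
      have h2 : τD ≫ k = τU := by
        rw [← cancel_mono U.ι, Category.assoc, hk, ← Category.assoc, hτD, Category.assoc, ← hτ]
      rw [← h1, Category.assoc, hstar, ← Category.assoc, h2]
    let z := γ' ⟨x', hx'V'⟩
    have hz : pullback.fst pX pY z = f x' := by
      show (γ' ≫ pullback.fst pX pY) _ = _
      rw [hγ']
      rfl
    have hzΓ : z ∈ closure (Set.range γ) := mem_closure_graph U hU γ g' γ' hagK ⟨x', hx'V'⟩
    have hiso : ∃ W : (pullback pX pY).Opens, (W : Set ↑(pullback pX pY)) ∩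
        closure (Set.range γ) ∩ (pullback.fst pX pY) ⁻¹' {f x'} = {z} := by
      refine ⟨⊤, ?_⟩
      ext w
      constructor
      · rintro ⟨⟨-, hw1⟩, hw2⟩
        exact fibre_unique (pullback.fst pX pY) U γ hγ g' γ' hγ' hagK ⟨x', hx'V'⟩ w hw1 hw2
      · intro hw
        have hw' : w = z := hw
        rw [hw']
        exact ⟨⟨trivial, hzΓ⟩, hz⟩
    exact RatMain.main' pX pY U h hh.symm (f x') (hX _) (hXn _) z hz hzΓ hiso

end Groth.Agent.Helper3.RatUO
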