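import Mathlib
import Groth.Prelude
import Groth.Agent.Lead.KoszulFunE
import Groth.Agent.Helper3.PosB

set_option autoImplicit false
set_option linter.style.haveILetI false
set_option linter.unusedSectionVars false
set_option linter.unusedVariables false
set_option linter.deprecated false
set_option linter.style.haveILetI false
set_option linter.unusedSectionVars false
set_option linter.unusedVariables false

universe u

namespace Groth.Agent.Helper3.RedB
open IsLocalRing CategoryTheory CohIII Groth.Agent.Helper1.TorLib Groth.Agent.Helper3.PosA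
open Groth.Agent.Helper3.PosB
open Groth.Agent.Helper6.KEuler Groth.Agent.Helper6.KSam
open Groth.Agent.Lead.KoszulFunB Groth.Agent.Lead.KoszulFunC

variable {B R : Type u} [CommRing B] [CommRing R] [Algebra B R] [IsLocalRing R]

theorem length_KH_restrict (hψ : Function.Surjective (algebraMap B R)) (l : List B)
    (M : Type u) [AddCommGroup M] [Module R M] [Module B M] [IsScalarTower B R M] (i : ℤ) :
    Module.length B (KH l M i) = Module.length R (KH (l.map (algebraMap B R)) M i) := by
  have hres : ∀ b : R, ∃ a : B, b - algebraMap B R a ∈ maximalIdeal R := by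
    intro b
    obtain ⟨a, rfl⟩ := hψ b
    exact ⟨a, by rw [sub_self]; exact Ideal.zero_mem _⟩
  obtain ⟨e1⟩ := nonempty_map_koszulCx_iso (F := ModuleCat.restrictScalars.{u} (algebraMap B R))
    (l.map (algebraMap B R)) l (Groth.Agent.Lead.KoszulFunE.forall₂_map (algebraMap B R) l)
    (ModuleCat.of R M)
  let e2 := mapHomologyIso (ModuleCat.restrictScalars.{u} (algebraMap B R))
    (koszulCx (ModuleCat.of R M) (l.map (algebraMap B R))) i
  let e3 : koszulCx (ModuleCat.of B M) l ≅
      koszulCx ((ModuleCat.restrictScalars.{u} (algebraMap B R)).obj (ModuleCat.of R M)) l :=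
    kIso (ofRestrictIso (A := B) (A' := R) M) l
  let e : KH l M i ≅ (ModuleCat.restrictScalars.{u} (algebraMap B R)).obj
      (KH (l.map (algebraMap B R)) M i) :=
    (HomologicalComplex.homologyFunctor _ _ i).mapIso (e3 ≪≫ e1.symm) ≪≫ e2
  exact length_semilinear hres _ _ (semilinearOfIso e) (semilinearOfIso_bijective e)

theorem chiK_restrict (hψ : Function.Surjective (algebraMap B R)) (l : List B)
    (M : Type u) [AddCommGroup M] [Module R M] [Module B M] [IsScalarTower B R M] :
    chiK l M = chiK (l.map (algebraMap B R)) M := by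
  unfold chiK
  apply finsum_congr
  intro i
  rw [length_KH_restrict hψ l M i]

theorem chi_quot_surj (hψ : Function.Surjective (algebraMap B R)) (l : List B)
    (hl : RingTheory.Sequence.IsWeaklyRegular B l)
    (hl' : RingTheory.Sequence.IsWeaklyRegular R (l.map (algebraMap B R)))
    (S : Ideal B) (hS : RingHom.ker (algebraMap B R) ≤ S) :
    IntMult.chi B (B ⧸ Ideal.ofList l) (B ⧸ S) =
      IntMult.chi R (R ⧸ Ideal.ofList (l.map (algebraMap B R))) (R ⧸ S.map (algebraMap B R)) := by
  rw [intMult_chi_eq_chiK l hl (B ⧸ S),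
    intMult_chi_eq_chiK (l.map (algebraMap B R)) hl' (R ⧸ S.map (algebraMap B R))]
  have hQ : (S.map (algebraMap B R)).comap (algebraMap B R) = S := by
    rw [Ideal.comap_map_of_surjective _ hψ]
    exact sup_eq_left.mpr hS
  have hsurj : ∀ r : R, ∃ a : B, r - algebraMap B R a ∈ S.map (algebraMap B R) := by
    intro r
    obtain ⟨a, rfl⟩ := hψ r
    exact ⟨a, by rw [sub_self]; exact Ideal.zero_mem _⟩
  rw [chiK_congr l (B ⧸ S) (quotEquiv S (S.map (algebraMap B R)) hQ hsurj).toLinearEquiv]
  exact chiK_restrict hψ l _

end Groth.Agent.Helper3.RedB
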