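import Mathlib
import Groth.Prelude
import Groth.Agent.Helper2.LciGlobal
import Groth.Agent.Helper5.RelGCI12
import Groth.Agent.Helper3.KoszulGen
import Groth.Agent.Helper3.PosC
import Groth.Agent.Helper3.RedB

set_option autoImplicit false
set_option linter.style.haveILetI false
set_option linter.unusedSectionVars false
set_option linter.unusedVariables false
set_option linter.deprecated false
set_option linter.style.haveILetI false
set_option linter.unusedSectionVars false
set_option linter.unusedVariables false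

universe u

namespace Groth.Agent.Helper3.RedC
open IsLocalRing RingTheory.Sequence
open Groth.Agent.Helper3.PosB Groth.Agent.Helper3.PosC Groth.Agent.Helper3.RedB

theorem exists_nat_dim (A : Type u) [CommRing A] [IsNoetherianRing A] [IsLocalRing A] :
    ∃ n : ℕ, ringKrullDim A = n := by
  have h1 : ringKrullDim A ≠ ⊥ := ringKrullDim_ne_bot
  have h2 : ringKrullDim A ≠ ⊤ := ringKrullDim_ne_top
  generalize ringKrullDim A = a at h1 h2
  induction a using WithBot.recBotCoe with
  | bot => exact absurd rfl h1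
  | coe e =>
    induction e using ENat.recTopCoe with
    | top => exact absurd rfl h2
    | coe q => exact ⟨q, rfl⟩

/-- Koszul-regular sequences in the maximal ideal of a Noetherian local ring are weakly regular -/
theorem isWeaklyRegular_of_kreg {R : Type u} [CommRing R] [IsNoetherianRing R] [IsLocalRing R]
    (l : List R) (hl : LCI.IsKoszulRegularSeq R l) (hmem : ∀ x ∈ l, x ∈ maximalIdeal R) :
    IsWeaklyRegular R l := by
  have h1 := Groth.Agent.Helper2.LciGlobal.isWeaklyRegular_atPrime (maximalIdeal R) l hl hmem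
  rw [isWeaklyRegular_map_algebraMap_iff] at h1
  have hle : (maximalIdeal R).primeCompl ≤ IsUnit.submonoid R := by
    intro x hx
    have : x ∉ maximalIdeal R := hx
    rw [IsLocalRing.mem_maximalIdeal, mem_nonunits_iff, not_not] at this
    exact this
  let e : R ≃ₐ[R] Localization.AtPrime (maximalIdeal R) :=
    IsLocalization.atUnits R (maximalIdeal R).primeCompl hle
  exact (e.toLinearEquiv.isWeaklyRegular_congr l).2 h1

section Main

variable {O₁ O₂ B R : Type u} [CommRing O₁] [CommRing O₂] [CommRing B] [CommRing R]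
  [IsLocalRing O₂] [IsLocalRing B] [IsLocalRing R]
  [IsNoetherianRing O₂] [IsNoetherianRing B] [IsNoetherianRing R]
  [Algebra O₁ B] [Algebra O₂ B] [Algebra B R] [Algebra O₁ R] [IsScalarTower O₁ B R]
  [Module.Flat O₁ R] [Module.Flat O₂ B] [IsLocalHom (algebraMap O₂ B)]

theorem lengths_eq (hψ : Function.Surjective (algebraMap B R))
    (Q : Ideal O₂) (hQ : Q ≠ ⊤) (hker : RingHom.ker (algebraMap B R) = Q.map (algebraMap O₂ B))
    (D : Ideal B) (l' : List B) (hl' : IsWeaklyRegular B l') (hm' : ∀ a ∈ l', a ∈ maximalIdeal B)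
    (hD : Ideal.ofList l' = D)
    (lΓ : List R) (hlΓ : IsWeaklyRegular R lΓ) (hmΓ : ∀ a ∈ lΓ, a ∈ maximalIdeal R)
    (hDΓ : Ideal.ofList lΓ = D.map (algebraMap B R))
    (hBD : ringKrullDim (B ⧸ D) = ringKrullDim O₂)
    (hRΓ : ringKrullDim (R ⧸ D.map (algebraMap B R)) = ringKrullDim (O₂ ⧸ Q)) :
    l'.length = lΓ.length := by
  have hreg : ∀ {A : Type u} [CommRing A] [IsLocalRing A] [IsNoetherianRing A] (l : List A),
      IsWeaklyRegular A l → (∀ a ∈ l, a ∈ maximalIdeal A) → IsRegular A l := by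
    intro A _ _ _ l hl hm
    have hlm : Ideal.ofList l ≤ maximalIdeal A := by
      rw [Ideal.ofList, Ideal.span_le]
      exact hm
    refine ⟨hl, ?_⟩
    intro h
    have h3 : Ideal.ofList l = ⊤ := by
      have : Ideal.ofList l • (⊤ : Ideal A) = ⊤ := h.symm
      simpa using this
    rw [h3] at hlm
    exact (IsLocalRing.maximalIdeal.isMaximal _).ne_top (top_le_iff.mp hlm)
  have f0 := ringKrullDim_add_length_eq_ringKrullDim_of_isRegular l' (hreg l' hl' hm')
  have f0' := ringKrullDim_add_length_eq_ringKrullDim_of_isRegular lΓ (hreg lΓ hlΓ hmΓ)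
  have f1 := dim_flat_local O₂ B
  have f2 := dim_quot_flat (O := O₂) (R := B) Q hQ
  have f3 : ringKrullDim R = ringKrullDim (B ⧸ Q.map (algebraMap O₂ B)) := by
    rw [← hker]
    exact (ringKrullDim_eq_of_ringEquiv (RingHom.quotientKerEquivOfSurjective hψ)).symm
  rw [hD, hBD] at f0
  rw [hDΓ, hRΓ, f3, f2] at f0'
  rw [f1] at f0
  haveI : Nontrivial (O₂ ⧸ Q) := Ideal.Quotient.nontrivial_iff.mpr hQ
  haveI : IsLocalRing (O₂ ⧸ Q) := IsLocalRing.of_surjective' (Ideal.Quotient.mk Q)
    Ideal.Quotient.mk_surjective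
  obtain ⟨d₂, hd₂⟩ := exists_nat_dim O₂
  obtain ⟨dQ, hdQ⟩ := exists_nat_dim (O₂ ⧸ Q)
  obtain ⟨dB, hdB⟩ := exists_nat_dim B
  set F := ringKrullDim (B ⧸ (maximalIdeal O₂).map (algebraMap O₂ B)) with hF
  have hmB : (maximalIdeal O₂).map (algebraMap O₂ B) ≤ maximalIdeal B :=
    IsLocalRing.map_maximalIdeal_le (algebraMap O₂ B)
  haveI : Nontrivial (B ⧸ (maximalIdeal O₂).map (algebraMap O₂ B)) :=
    Ideal.Quotient.nontrivial_iff.mpr (fun h => by
      rw [h] at hmB
      exact (IsLocalRing.maximalIdeal.isMaximal B).ne_top (top_le_iff.mp hmB))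
  haveI : IsLocalRing (B ⧸ (maximalIdeal O₂).map (algebraMap O₂ B)) :=
    IsLocalRing.of_surjective' (Ideal.Quotient.mk _) Ideal.Quotient.mk_surjective
  obtain ⟨dF, hdF⟩ := exists_nat_dim (B ⧸ (maximalIdeal O₂).map (algebraMap O₂ B))
  rw [hd₂, hF, hdF] at f0
  rw [hdQ, hF, hdF] at f0'
  have g0 : d₂ + l'.length = d₂ + dF := by exact_mod_cast f0
  have g0' : dQ + lΓ.length = dQ + dF := by exact_mod_cast f0'
  omega

theorem main (hψ : Function.Surjective (algebraMap B R))
    (P Q' : Ideal O₁) (Q : Ideal O₂) (hQ : Q ≠ ⊤)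
    (hker : RingHom.ker (algebraMap B R) = Q.map (algebraMap O₂ B))
    (D : Ideal B) (l' : List B) (hl' : IsWeaklyRegular B l') (hm' : ∀ a ∈ l', a ∈ maximalIdeal B)
    (hD : Ideal.ofList l' = D)
    (lΓ : List R) (hlΓ : IsWeaklyRegular R lΓ) (hmΓ : ∀ a ∈ lΓ, a ∈ maximalIdeal R)
    (hDΓ : Ideal.ofList lΓ = D.map (algebraMap B R))
    (hBD : ringKrullDim (B ⧸ D) = ringKrullDim O₂)
    (hRΓ : ringKrullDim (R ⧸ D.map (algebraMap B R)) = ringKrullDim (O₂ ⧸ Q))
    (hQ' : (D.map (algebraMap B R)).comap (algebraMap O₁ R) = Q')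
    (hsurj : ∀ r : R, ∃ a : O₁, r - algebraMap O₁ R a ∈ D.map (algebraMap B R)) :
    IntMult.chi O₁ (O₁ ⧸ Q') (O₁ ⧸ P) =
      IntMult.chi B (B ⧸ D) (B ⧸ (P.map (algebraMap O₁ B) ⊔ Q.map (algebraMap O₂ B))) := by
  have hlen := lengths_eq hψ Q hQ hker D l' hl' hm' hD lΓ hlΓ hmΓ hDΓ hBD hRΓ
  -- the image of `l'` is regular on `R`
  have hspan : Ideal.span {x | x ∈ lΓ} = Ideal.span {x | x ∈ l'.map (algebraMap B R)} := by
    show Ideal.ofList lΓ = Ideal.ofList (l'.map (algebraMap B R))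
    rw [hDΓ, ← hD, Ideal.map_ofList]
  have hk : LCI.IsKoszulRegularSeq R (l'.map (algebraMap B R)) :=
    Groth.Agent.Helper3.KoszulGen.isKoszulRegularSeq_of_span_eq lΓ (l'.map (algebraMap B R))
      (by rw [List.length_map, hlen]) hspan
      (Groth.Agent.Helper5.RelGCI.kreg_of_isWeaklyRegular lΓ hlΓ)
  have hmem : ∀ x ∈ l'.map (algebraMap B R), x ∈ maximalIdeal R := by
    intro x hx
    have h1 : x ∈ Ideal.ofList (l'.map (algebraMap B R)) := Ideal.subset_span hx
    have h2 : Ideal.ofList lΓ ≤ maximalIdeal R := by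
      rw [Ideal.ofList, Ideal.span_le]
      exact hmΓ
    have h3 : Ideal.ofList (l'.map (algebraMap B R)) = Ideal.ofList lΓ := hspan.symm
    rw [h3] at h1
    exact h2 h1
  have hw : IsWeaklyRegular R (l'.map (algebraMap B R)) := isWeaklyRegular_of_kreg _ hk hmem
  -- first step: the graph
  have hJ : D.map (algebraMap B R) ≤ maximalIdeal R := by
    rw [← hDΓ, Ideal.ofList, Ideal.span_le]
    exact hmΓ
  have s1 := chi_eq (O := O₁) (R := R) P Q' (D.map (algebraMap B R)) hJ hQ' hsurj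
  -- second step: the closed immersion
  have hS : RingHom.ker (algebraMap B R) ≤ P.map (algebraMap O₁ B) ⊔ Q.map (algebraMap O₂ B) := by
    rw [hker]; exact le_sup_right
  have s2 := chi_quot_surj hψ l' hl' hw (P.map (algebraMap O₁ B) ⊔ Q.map (algebraMap O₂ B)) hS
  have hmapS : (P.map (algebraMap O₁ B) ⊔ Q.map (algebraMap O₂ B)).map (algebraMap B R) =
      P.map (algebraMap O₁ R) := by
    rw [Ideal.map_sup, Ideal.map_map, ← IsScalarTower.algebraMap_eq, ← hker]
    have : (RingHom.ker (algebraMap B R)).map (algebraMap B R) = ⊥ := by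
      rw [Ideal.map_eq_bot_iff_le_ker]
    rw [this, sup_bot_eq]
  rw [hmapS, ← Ideal.map_ofList, hD] at s2
  rw [s1, ← s2]

end Main

end Groth.Agent.Helper3.RedC
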