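import Mathlib
import Groth.Prelude
import Groth.Agent.Helper3.DiagB
import Groth.Agent.Helper3.PosD
import Groth.Agent.Helper3.RedA
import Groth.Agent.Helper3.RedC

set_option autoImplicit false
set_option linter.style.haveILetI false
set_option linter.unusedSectionVars false
set_option linter.unusedVariables false
set_option linter.deprecated false
set_option linter.style.haveILetI false
set_option linter.unusedSectionVars false
set_option linter.unusedVariables false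

open CategoryTheory Limits AlgebraicGeometry TopologicalSpace Opposite
universe u

namespace Groth.Agent.Helper3.RedD
open IsLocalRing RingTheory.Sequence Groth.Agent.Helper3.IntMultA Groth.Agent.Helper3.DiagB
open Groth.Agent.Helper3.PosD Groth.Agent.Helper3.RedA Scheme.IdealSheafData

/-- `stalk_regular` at a point given up to equality -/
theorem stalk_regular' {Z P : Scheme.{u}} [IsLocallyNoetherian P] (i : Z ⟶ P) [IsClosedImmersion i]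
    (hi : RegImm.IsRegularImmersion .koszul i) (z : Z) (p : P) (hp : i z = p) :
    ∃ l : List (P.presheaf.stalk p), IsWeaklyRegular (P.presheaf.stalk p) l ∧
      (∀ a ∈ l, a ∈ maximalIdeal (P.presheaf.stalk p)) ∧
      Ideal.ofList l = IntMult.stalkIdeal i.ker p := by
  subst hp
  exact stalk_regular i hi z

theorem bijective_stalkMap_of_eq {X Y : Scheme.{u}} (f g : X ⟶ Y) (e : f = g) (x : X)
    (h : Function.Bijective (g.stalkMap x).hom) : Function.Bijective (f.stalkMap x).hom := by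
  subst e
  exact h

/-- the quotient of the stalk by the stalk of the ideal of a closed immersion -/
theorem dim_quot_ker_stalkMap {Z P : Scheme.{u}} [IsLocallyNoetherian P] (i : Z ⟶ P)
    [IsClosedImmersion i] (z : Z) :
    ringKrullDim (P.presheaf.stalk (i z) ⧸ IntMult.stalkIdeal i.ker (i z)) =
      ringKrullDim (Z.presheaf.stalk z) := by
  rw [← ker_stalkMap i z]
  exact ringKrullDim_eq_of_ringEquiv
    (RingHom.quotientKerEquivOfSurjective (i.stalkMap_surjective z))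

/-- a section of a retraction: dimension of the quotient by the ideal of the section -/
theorem dim_quot_section {X Z : Scheme.{u}} [IsLocallyNoetherian Z] (Δ : X ⟶ Z) (pr : Z ⟶ X)
    [IsClosedImmersion Δ] (h : Δ ≫ pr = 𝟙 X) (z : Z) (x : X) (hz : Δ x = z) :
    ringKrullDim (Z.presheaf.stalk z ⧸ IntMult.stalkIdeal Δ.ker z) =
      ringKrullDim (X.presheaf.stalk (pr z)) := by
  subst hz
  rw [dim_quot_ker_stalkMap Δ x]
  have hb : Function.Bijective ((Δ ≫ pr).stalkMap x).hom := by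
    apply bijective_stalkMap_of_eq _ _ h
    rw [Scheme.Hom.stalkMap_id]
    exact Function.bijective_id
  exact (ringKrullDim_eq_of_ringEquiv (RingEquiv.ofBijective _ hb)).symm


theorem mult_congr_hom {X W : Scheme.{u}} (IV : X.IdealSheafData) (w : W) (i i' : W ⟶ X)
    (e : i = i') :
    IntMult.chi (X.presheaf.stalk (i w))
        (X.presheaf.stalk (i w) ⧸ IntMult.stalkIdeal i.ker (i w))
        (X.presheaf.stalk (i w) ⧸ IntMult.stalkIdeal IV (i w)) =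
      IntMult.chi (X.presheaf.stalk (i' w))
        (X.presheaf.stalk (i' w) ⧸ IntMult.stalkIdeal i'.ker (i' w))
        (X.presheaf.stalk (i' w) ⧸ IntMult.stalkIdeal IV (i' w)) := by
  subst e
  rfl

theorem geo {X W Y Z : Scheme.{u}} [IsLocallyNoetherian X] [IsLocallyNoetherian Y]
    [IsLocallyNoetherian Z] (pr₁ pr₂ : Z ⟶ X) (Δ : X ⟶ Z) (κ₂ : Y ⟶ Z) (Γ : W ⟶ Y) (iW : W ⟶ X)
    [IsClosedImmersion Δ] [IsClosedImmersion κ₂] [IsClosedImmersion Γ] [IsClosedImmersion iW]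
    [Flat (κ₂ ≫ pr₁)] [Flat pr₂]
    (hΔ : RegImm.IsRegularImmersion .koszul Δ) (hΓ : RegImm.IsRegularImmersion .koszul Γ)
    (hΓker : Γ.ker = Δ.ker.comap κ₂) (hκker : κ₂.ker = iW.ker.comap pr₂)
    (hΔ₂ : Δ ≫ pr₂ = 𝟙 X) (h₁ : Γ ≫ κ₂ ≫ pr₁ = iW) (h₂ : Γ ≫ κ₂ ≫ pr₂ = iW)
    (hΓΔ : Γ ≫ κ₂ = iW ≫ Δ) (IV : X.IdealSheafData) (w : W) :
    IntMult.mult IV iW.ker (iW w) =
      IntMult.chi (Z.presheaf.stalk (Δ (iW w)))
        (Z.presheaf.stalk (Δ (iW w)) ⧸ IntMult.stalkIdeal Δ.ker (Δ (iW w)))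
        (Z.presheaf.stalk (Δ (iW w)) ⧸
          IntMult.stalkIdeal (IV.comap pr₁ ⊔ iW.ker.comap pr₂) (Δ (iW w))) := by
  have hz : Δ (iW w) = κ₂ (Γ w) := by
    have := congrArg (fun ψ : W ⟶ Z => ψ w) hΓΔ
    exact this.symm
  -- move the right hand side to the point `κ₂ (Γ w)`
  have hE : ∀ z z' : Z, z = z' →
      IntMult.chi (Z.presheaf.stalk z) (Z.presheaf.stalk z ⧸ IntMult.stalkIdeal Δ.ker z)
        (Z.presheaf.stalk z ⧸ IntMult.stalkIdeal (IV.comap pr₁ ⊔ iW.ker.comap pr₂) z) =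
      IntMult.chi (Z.presheaf.stalk z') (Z.presheaf.stalk z' ⧸ IntMult.stalkIdeal Δ.ker z')
        (Z.presheaf.stalk z' ⧸ IntMult.stalkIdeal (IV.comap pr₁ ⊔ iW.ker.comap pr₂) z') := by
    intro z z' e
    subst e
    rfl
  rw [hE _ _ hz]
  -- move the left hand side to the morphism `Γ ≫ κ₂ ≫ pr₁`
  unfold IntMult.mult
  rw [← mult_congr_hom IV w (Γ ≫ κ₂ ≫ pr₁) iW h₁]
  -- notation
  haveI : IsClosedImmersion (Γ ≫ κ₂ ≫ pr₁) := by rw [h₁]; infer_instance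
  haveI : IsClosedImmersion (Γ ≫ κ₂ ≫ pr₂) := by rw [h₂]; infer_instance
  letI a1 : Algebra (X.presheaf.stalk (pr₁ (κ₂ (Γ w)))) (Z.presheaf.stalk (κ₂ (Γ w))) :=
    (pr₁.stalkMap (κ₂ (Γ w))).hom.toAlgebra
  letI a2 : Algebra (X.presheaf.stalk (pr₂ (κ₂ (Γ w)))) (Z.presheaf.stalk (κ₂ (Γ w))) :=
    (pr₂.stalkMap (κ₂ (Γ w))).hom.toAlgebra
  letI a3 : Algebra (Z.presheaf.stalk (κ₂ (Γ w))) (Y.presheaf.stalk (Γ w)) :=
    (κ₂.stalkMap (Γ w)).hom.toAlgebra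
  letI a4 : Algebra (X.presheaf.stalk (pr₁ (κ₂ (Γ w)))) (Y.presheaf.stalk (Γ w)) :=
    ((κ₂ ≫ pr₁).stalkMap (Γ w)).hom.toAlgebra
  have hcomp1 : ((κ₂ ≫ pr₁).stalkMap (Γ w)).hom =
      (κ₂.stalkMap (Γ w)).hom.comp (pr₁.stalkMap (κ₂ (Γ w))).hom := by
    rw [Scheme.Hom.stalkMap_comp]
    rfl
  haveI : IsScalarTower (X.presheaf.stalk (pr₁ (κ₂ (Γ w)))) (Z.presheaf.stalk (κ₂ (Γ w)))
      (Y.presheaf.stalk (Γ w)) := IsScalarTower.of_algebraMap_eq' hcomp1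
  haveI : Module.Flat (X.presheaf.stalk (pr₁ (κ₂ (Γ w)))) (Y.presheaf.stalk (Γ w)) :=
    Flat.stalkMap (κ₂ ≫ pr₁) (Γ w)
  haveI : Module.Flat (X.presheaf.stalk (pr₂ (κ₂ (Γ w)))) (Z.presheaf.stalk (κ₂ (Γ w))) :=
    Flat.stalkMap pr₂ (κ₂ (Γ w))
  haveI : IsLocalHom (algebraMap (X.presheaf.stalk (pr₂ (κ₂ (Γ w)))) (Z.presheaf.stalk (κ₂ (Γ w)))) :=
    inferInstanceAs (IsLocalHom (pr₂.stalkMap (κ₂ (Γ w))).hom)
  have hψ : Function.Surjective (algebraMap (Z.presheaf.stalk (κ₂ (Γ w))) (Y.presheaf.stalk (Γ w))) :=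
    κ₂.stalkMap_surjective (Γ w)
  -- the ideals
  have hkΓ := ker_stalkMap Γ w
  have hkκ := ker_stalkMap κ₂ (Γ w)
  have hk1 := ker_stalkMap (Γ ≫ κ₂ ≫ pr₁) w
  have hk2 := ker_stalkMap (Γ ≫ κ₂ ≫ pr₂) w
  have hker2 : (Γ ≫ κ₂ ≫ pr₂).ker = iW.ker := by rw [h₂]
  have hker : RingHom.ker (algebraMap (Z.presheaf.stalk (κ₂ (Γ w))) (Y.presheaf.stalk (Γ w))) =
      (IntMult.stalkIdeal iW.ker (pr₂ (κ₂ (Γ w)))).map
        (algebraMap (X.presheaf.stalk (pr₂ (κ₂ (Γ w)))) (Z.presheaf.stalk (κ₂ (Γ w)))) := by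
    show RingHom.ker (κ₂.stalkMap (Γ w)).hom = _
    rw [hkκ, hκker, stalkIdeal_comap]
    rfl
  have hQtop : IntMult.stalkIdeal iW.ker (pr₂ (κ₂ (Γ w))) ≠ ⊤ := by
    rw [← hker2]
    show IntMult.stalkIdeal (Γ ≫ κ₂ ≫ pr₂).ker ((Γ ≫ κ₂ ≫ pr₂) w) ≠ ⊤
    rw [← hk2]
    exact RingHom.ker_ne_top _
  obtain ⟨l', hl', hm', hD⟩ := stalk_regular' Δ hΔ (iW w) (κ₂ (Γ w)) hz
  obtain ⟨lΓ, hlΓ, hmΓ, hDΓ'⟩ := stalk_regular Γ hΓ w
  have hDΓ : Ideal.ofList lΓ = (IntMult.stalkIdeal Δ.ker (κ₂ (Γ w))).map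
      (algebraMap (Z.presheaf.stalk (κ₂ (Γ w))) (Y.presheaf.stalk (Γ w))) := by
    rw [hDΓ', hΓker, stalkIdeal_comap]
    rfl
  have hBD := dim_quot_section Δ pr₂ hΔ₂ (κ₂ (Γ w)) (iW w) hz
  have hRΓ : ringKrullDim (Y.presheaf.stalk (Γ w) ⧸ (IntMult.stalkIdeal Δ.ker (κ₂ (Γ w))).map
      (algebraMap (Z.presheaf.stalk (κ₂ (Γ w))) (Y.presheaf.stalk (Γ w)))) =
      ringKrullDim (X.presheaf.stalk (pr₂ (κ₂ (Γ w))) ⧸
        IntMult.stalkIdeal iW.ker (pr₂ (κ₂ (Γ w)))) := by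
    rw [← hDΓ, hDΓ', dim_quot_ker_stalkMap Γ w, ← hker2]
    exact (dim_quot_ker_stalkMap (Γ ≫ κ₂ ≫ pr₂) w).symm
  have hcomp2 : ((Γ ≫ κ₂ ≫ pr₁).stalkMap w).hom =
      (Γ.stalkMap w).hom.comp ((κ₂ ≫ pr₁).stalkMap (Γ w)).hom := by
    rw [Scheme.Hom.stalkMap_comp]
    rfl
  have hQ' : ((IntMult.stalkIdeal Δ.ker (κ₂ (Γ w))).map
      (algebraMap (Z.presheaf.stalk (κ₂ (Γ w))) (Y.presheaf.stalk (Γ w)))).comap
      (algebraMap (X.presheaf.stalk (pr₁ (κ₂ (Γ w)))) (Y.presheaf.stalk (Γ w))) =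
      IntMult.stalkIdeal (Γ ≫ κ₂ ≫ pr₁).ker ((Γ ≫ κ₂ ≫ pr₁) w) := by
    rw [← hDΓ, hDΓ', ← hkΓ, ← hk1, hcomp2, RingHom.comap_ker]
    rfl
  have hsurj : ∀ r : Y.presheaf.stalk (Γ w), ∃ a : X.presheaf.stalk (pr₁ (κ₂ (Γ w))),
      r - algebraMap (X.presheaf.stalk (pr₁ (κ₂ (Γ w)))) (Y.presheaf.stalk (Γ w)) a ∈
        (IntMult.stalkIdeal Δ.ker (κ₂ (Γ w))).map
          (algebraMap (Z.presheaf.stalk (κ₂ (Γ w))) (Y.presheaf.stalk (Γ w))) := by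
    intro r
    obtain ⟨a, ha⟩ := (Γ ≫ κ₂ ≫ pr₁).stalkMap_surjective w ((Γ.stalkMap w).hom r)
    refine ⟨a, ?_⟩
    rw [← hDΓ, hDΓ', ← hkΓ, RingHom.mem_ker, map_sub, sub_eq_zero]
    have : ((Γ ≫ κ₂ ≫ pr₁).stalkMap w).hom a =
        (Γ.stalkMap w).hom (((κ₂ ≫ pr₁).stalkMap (Γ w)).hom a) := by
      rw [hcomp2]; rfl
    exact ha.symm.trans this
  have key := Groth.Agent.Helper3.RedC.main
    (O₁ := X.presheaf.stalk (pr₁ (κ₂ (Γ w)))) (O₂ := X.presheaf.stalk (pr₂ (κ₂ (Γ w))))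
    (B := Z.presheaf.stalk (κ₂ (Γ w))) (R := Y.presheaf.stalk (Γ w)) hψ
    (IntMult.stalkIdeal IV (pr₁ (κ₂ (Γ w))))
    (IntMult.stalkIdeal (Γ ≫ κ₂ ≫ pr₁).ker ((Γ ≫ κ₂ ≫ pr₁) w))
    (IntMult.stalkIdeal iW.ker (pr₂ (κ₂ (Γ w)))) hQtop hker
    (IntMult.stalkIdeal Δ.ker (κ₂ (Γ w))) l' hl' hm' hD lΓ hlΓ hmΓ hDΓ hBD hRΓ hQ' hsurj
  rw [stalkIdeal_sup, stalkIdeal_comap, stalkIdeal_comap]
  exact key

end Groth.Agent.Helper3.RedD
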