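import Mathlib
import Groth.Prelude
import Groth.Agent.Helper3.DiagA
import Groth.Agent.Helper3.RedD

set_option autoImplicit false
set_option linter.style.haveILetI false
set_option linter.unusedSectionVars false
set_option linter.unusedVariables false
set_option linter.deprecated false
set_option linter.style.haveILetI false
set_option linter.unusedSectionVars false
set_option linter.unusedVariables false

open CategoryTheory Limits AlgebraicGeometry TopologicalSpace Opposite
universe u

namespace Groth.Agent.Helper3.RedE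
open Groth.Agent.Helper3.RedA Groth.Agent.Helper3.RedD Groth.Agent.Helper3.DiagA
open Scheme.IdealSheafData

section Squares

variable {X S V W : Scheme.{u}} (f : X ⟶ S) (iV : V ⟶ X) (iW : W ⟶ X)

/-- `X ×_S W ⟶ X ×_S X` -/
noncomputable abbrev κ₂ : pullback f (iW ≫ f) ⟶ pullback f f :=
  pullback.map f (iW ≫ f) f f (𝟙 X) iW (𝟙 S) (by simp) (by simp)

/-- `V ×_S W ⟶ X ×_S W` -/
noncomputable abbrev κ₁ : pullback (iV ≫ f) (iW ≫ f) ⟶ pullback f (iW ≫ f) :=
  pullback.map (iV ≫ f) (iW ≫ f) f (iW ≫ f) iV (𝟙 W) (𝟙 S) (by simp) (by simp)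

/-- the graph `W ⟶ X ×_S W` -/
noncomputable abbrev Γ : W ⟶ pullback f (iW ≫ f) :=
  pullback.lift iW (𝟙 W) (by simp)

theorem κ₂_fst : κ₂ f iW ≫ pullback.fst f f = pullback.fst f (iW ≫ f) := by
  unfold κ₂ pullback.map
  rw [pullback.lift_fst, Category.comp_id]

theorem κ₂_snd : κ₂ f iW ≫ pullback.snd f f = pullback.snd f (iW ≫ f) ≫ iW := by
  unfold κ₂ pullback.map
  rw [pullback.lift_snd]

theorem κ₁_fst : κ₁ f iV iW ≫ pullback.fst f (iW ≫ f) = pullback.fst (iV ≫ f) (iW ≫ f) ≫ iV := by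
  unfold κ₁ pullback.map
  rw [pullback.lift_fst]

theorem κ₁_snd : κ₁ f iV iW ≫ pullback.snd f (iW ≫ f) = pullback.snd (iV ≫ f) (iW ≫ f) := by
  unfold κ₁ pullback.map
  rw [pullback.lift_snd, Category.comp_id]

theorem Γ_fst : Γ f iW ≫ pullback.fst f (iW ≫ f) = iW := by
  unfold Γ
  rw [pullback.lift_fst]

theorem Γ_snd : Γ f iW ≫ pullback.snd f (iW ≫ f) = 𝟙 W := by
  unfold Γ
  rw [pullback.lift_snd]

theorem isPullback_κ₂ :
    IsPullback (κ₂ f iW) (pullback.snd f (iW ≫ f)) (pullback.snd f f) iW := by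
  have hR : IsPullback (pullback.snd f f) (pullback.fst f f) f f :=
    (IsPullback.of_hasPullback f f).flip
  have hB : IsPullback (κ₂ f iW ≫ pullback.fst f f) (pullback.snd f (iW ≫ f)) f (iW ≫ f) := by
    rw [κ₂_fst]
    exact IsPullback.of_hasPullback f (iW ≫ f)
  have := IsPullback.of_bot hB.flip (κ₂_snd f iW).symm hR
  exact this.flip

theorem isPullback_κ₁ :
    IsPullback (κ₁ f iV iW) (pullback.fst (iV ≫ f) (iW ≫ f)) (pullback.fst f (iW ≫ f)) iV := by
  have hR : IsPullback (pullback.fst f (iW ≫ f)) (pullback.snd f (iW ≫ f)) f (iW ≫ f) :=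
    IsPullback.of_hasPullback f (iW ≫ f)
  have hB : IsPullback (pullback.fst (iV ≫ f) (iW ≫ f))
      (κ₁ f iV iW ≫ pullback.snd f (iW ≫ f)) (iV ≫ f) (iW ≫ f) := by
    rw [κ₁_snd]
    exact IsPullback.of_hasPullback (iV ≫ f) (iW ≫ f)
  have := IsPullback.of_bot hB (κ₁_fst f iV iW).symm hR
  exact this.flip

theorem Γ_κ₂ : Γ f iW ≫ κ₂ f iW = iW ≫ pullback.diagonal f := by
  apply pullback.hom_ext
  · rw [Category.assoc, κ₂_fst, Γ_fst, Category.assoc, pullback.diagonal_fst, Category.comp_id]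
  · rw [Category.assoc, κ₂_snd, ← Category.assoc, Γ_snd, Category.id_comp, Category.assoc,
      pullback.diagonal_snd, Category.comp_id]

theorem isPullback_Γ :
    IsPullback (Γ f iW) iW (κ₂ f iW) (pullback.diagonal f) := by
  have hR := (isPullback_κ₂ f iW).flip
  have hB : IsPullback (Γ f iW ≫ pullback.snd f (iW ≫ f)) iW iW
      (pullback.diagonal f ≫ pullback.snd f f) := by
    rw [Γ_snd, pullback.diagonal_snd]
    exact IsPullback.of_horiz_isIso ⟨by simp⟩
  exact IsPullback.of_right hB (Γ_κ₂ f iW) hR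

instance [IsClosedImmersion iW] : IsClosedImmersion (κ₂ f iW) :=
  MorphismProperty.of_isPullback (P := @IsClosedImmersion) (isPullback_κ₂ f iW).flip inferInstance

instance [IsClosedImmersion iV] : IsClosedImmersion (κ₁ f iV iW) :=
  MorphismProperty.of_isPullback (P := @IsClosedImmersion) (isPullback_κ₁ f iV iW).flip
    inferInstance

theorem ker_κ₂ [IsClosedImmersion iW] :
    (κ₂ f iW).ker = iW.ker.comap (pullback.snd f f) :=
  ker_of_isPullback _ _ _ _ (isPullback_κ₂ f iW)

theorem ker_κ₁ [IsClosedImmersion iV] :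
    (κ₁ f iV iW).ker = iV.ker.comap (pullback.fst f (iW ≫ f)) :=
  ker_of_isPullback _ _ _ _ (isPullback_κ₁ f iV iW)

theorem ker_Γ [IsClosedImmersion (pullback.diagonal f)] :
    (Γ f iW).ker = (pullback.diagonal f).ker.comap (κ₂ f iW) :=
  ker_of_isPullback _ _ _ _ (isPullback_Γ f iW)

theorem κ_eq : pullback.map (iV ≫ f) (iW ≫ f) f f iV iW (𝟙 _) (Category.comp_id _)
    (Category.comp_id _) = κ₁ f iV iW ≫ κ₂ f iW := by
  apply pullback.hom_ext
  · rw [Category.assoc, κ₂_fst, κ₁_fst]
    unfold pullback.map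
    rw [pullback.lift_fst]
  · rw [Category.assoc, κ₂_snd, ← Category.assoc, κ₁_snd]
    unfold pullback.map
    rw [pullback.lift_snd]

theorem ker_κ [IsClosedImmersion iV] [IsClosedImmersion iW] :
    (pullback.map (iV ≫ f) (iW ≫ f) f f iV iW (𝟙 _) (Category.comp_id _)
      (Category.comp_id _)).ker =
      iV.ker.comap (pullback.fst f f) ⊔ iW.ker.comap (pullback.snd f f) := by
  rw [κ_eq, Scheme.Hom.ker_comp, ker_κ₁, ← κ₂_fst f iW, comap_comp,
    map_comap_of_isClosedImmersion, ker_κ₂]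

end Squares

theorem main (K : Type u) [Field K] (X : Scheme.{u})
    (f : X ⟶ Spec (CommRingCat.of K)) [Smooth f] [IsSeparated f]
    (IV IW : X.IdealSheafData) (ξ : X) (hξW : ξ ∈ IW.support) :
    IntMult.mult IV IW ξ =
      IntMult.mult (pullback.map (IV.subschemeι ≫ f) (IW.subschemeι ≫ f) f f IV.subschemeι
        IW.subschemeι (𝟙 _) (Category.comp_id _) (Category.comp_id _)).ker
        (pullback.diagonal f).ker (pullback.diagonal f ξ) := by
  haveI : LocallyOfFiniteType f := inferInstance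
  haveI : IsLocallyNoetherian X := LocallyOfFiniteType.isLocallyNoetherian f
  obtain ⟨w, rfl⟩ : ∃ w : IW.subscheme, IW.subschemeι w = ξ := by
    have : ξ ∈ Set.range IW.subschemeι := by
      rw [IW.range_subschemeι]; exact hξW
    exact this
  let iW : IW.subscheme ⟶ X := IW.subschemeι
  let iV : IV.subscheme ⟶ X := IV.subschemeι
  let g : IW.subscheme ⟶ Spec (CommRingCat.of K) := iW ≫ f
  haveI : IsClosedImmersion (Γ f iW ≫ pullback.snd f g) := by
    rw [Γ_snd]; infer_instance
  haveI : IsClosedImmersion (Γ f iW) := IsClosedImmersion.of_comp (Γ f iW) (pullback.snd f g)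
  have hΓ : RegImm.IsRegularImmersion .koszul (Γ f iW) :=
    Groth.Agent.Helper3.SmKregG.two_smooth (𝟙 IW.subscheme) (pullback.snd f g) (𝟙 _) (Γ f iW)
      (by rw [Γ_snd]; simp) (kreg_id _)
  have hΔ : RegImm.IsRegularImmersion .koszul (pullback.diagonal f) := kreg_diag f
  haveI : LocallyOfFiniteType g := inferInstance
  haveI : LocallyOfFiniteType (pullback.fst f g ≫ f) := inferInstance
  haveI : IsLocallyNoetherian (pullback f g) :=
    LocallyOfFiniteType.isLocallyNoetherian (pullback.fst f g ≫ f)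
  haveI : LocallyOfFiniteType (pullback.fst f f ≫ f) := inferInstance
  haveI : IsLocallyNoetherian (pullback f f) :=
    LocallyOfFiniteType.isLocallyNoetherian (pullback.fst f f ≫ f)
  haveI : Flat g := inferInstance
  haveI : Flat (pullback.fst f g) := inferInstance
  haveI : Flat (κ₂ f iW ≫ pullback.fst f f) := by rw [κ₂_fst]; infer_instance
  haveI : Flat (pullback.snd f f) := inferInstance
  have hker : iW.ker = IW := IW.ker_subschemeι
  have hkerV : iV.ker = IV := IV.ker_subschemeι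
  have res := geo (pullback.fst f f) (pullback.snd f f) (pullback.diagonal f) (κ₂ f iW) (Γ f iW) iW
    hΔ hΓ (ker_Γ f iW) (ker_κ₂ f iW) (pullback.diagonal_snd f)
    (by rw [κ₂_fst, Γ_fst]) (by rw [κ₂_snd, ← Category.assoc, Γ_snd, Category.id_comp])
    (Γ_κ₂ f iW) IV w
  rw [hker] at res
  rw [res]
  unfold IntMult.mult
  rw [ker_κ f iV iW, hker, hkerV]

end Groth.Agent.Helper3.RedE
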